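import Groth.Statements.S17433
import Mathlib
-- import your own Groth.Agent.* helpers here

set_option autoImplicit false
set_option maxHeartbeats 1600000
set_option linter.style.haveILetI false
universe u v w
open LieAlgebra LieModule LieAlgebra.IsKilling
open AdjVar

namespace Groth.Agent.S17433


section
variable {K : Type v} {L : Type w} [Field K] [LieRing L] [LieAlgebra K L]

private theorem lie_mem_span {s : Set L} {T : Submodule K L} {x y : L}
    (hx : x ∈ Submodule.span K s) {t : Set L} (hy : y ∈ Submodule.span K t)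
    (h : ∀ a ∈ s, ∀ b ∈ t, ⁅a, b⁆ ∈ T) : ⁅x, y⁆ ∈ T := by
  induction hx using Submodule.span_induction with
  | mem a ha =>
    induction hy using Submodule.span_induction with
    | mem b hb => exact h a ha b hb
    | zero => simp
    | add u v _ _ hu hv => rw [lie_add]; exact add_mem hu hv
    | smul c u _ hu => rw [lie_smul]; exact T.smul_mem c hu
  | zero => simp
  | add u v _ _ hu hv => rw [add_lie]; exact add_mem hu hv
  | smul c u _ hu => rw [smul_lie]; exact T.smul_mem c hu

/-- The five-dimensional algebra `sl₂ ⋉ (2-dimensional)`: its radical. -/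
private theorem five [CharZero K] [FiniteDimensional K L] (A : LieSubalgebra K L) (E Hc F P Q : L) (a : K)
    (ha : a ≠ 0) (hli : LinearIndependent K ![E, Hc, F, P, Q])
    (hA : A.toSubmodule = Submodule.span K {E, Hc, F, P, Q})
    (hHE : ⁅Hc, E⁆ = (2 : K) • E) (hHF : ⁅Hc, F⁆ = -((2 : K) • F)) (hEF : ⁅E, F⁆ = Hc)
    (hHP : ⁅Hc, P⁆ = (2 - a) • P) (hHQ : ⁅Hc, Q⁆ = (-a) • Q) (hEP : ⁅E, P⁆ = 0)
    (hEQ : ⁅E, Q⁆ = -P) (hFP : ⁅F, P⁆ = (-a) • Q) (hFQ : ⁅F, Q⁆ = 0) (hPQ : ⁅P, Q⁆ = 0) :
    Module.finrank K A = 5 ∧ Module.finrank K (LieAlgebra.radical K A) = 2 ∧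
      (LieAlgebra.radical K A).toSubmodule.map (A.incl : A →ₗ⁅K⁆ L).toLinearMap =
        Submodule.span K {P, Q} := by
  have hEA : E ∈ A := (A.mem_toSubmodule).1 (hA ▸ Submodule.subset_span (by simp))
  have hHA : Hc ∈ A := (A.mem_toSubmodule).1 (hA ▸ Submodule.subset_span (by simp))
  have hFA : F ∈ A := (A.mem_toSubmodule).1 (hA ▸ Submodule.subset_span (by simp))
  have hPA : P ∈ A := (A.mem_toSubmodule).1 (hA ▸ Submodule.subset_span (by simp))
  have hQA : Q ∈ A := (A.mem_toSubmodule).1 (hA ▸ Submodule.subset_span (by simp))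
  have hrange : Set.range ![E, Hc, F, P, Q] = {E, Hc, F, P, Q} := by
    ext x; simp [Fin.exists_fin_succ, eq_comm]; tauto
  have hPQle : Submodule.span K {P, Q} ≤ A.toSubmodule := by
    rw [Submodule.span_le]; rintro x (rfl | rfl) <;> assumption
  refine ⟨?_, ?_⟩
  · change Module.finrank K A.toSubmodule = 5
    rw [hA, ← hrange, finrank_span_eq_card hli, Fintype.card_fin]
  have hbr : ∀ x ∈ A, ∀ y ∈ Submodule.span K {P, Q}, ⁅x, y⁆ ∈ Submodule.span K {P, Q} := by
    intro x hx y hy
    have hP : P ∈ Submodule.span K {P, Q} := Submodule.subset_span (by simp)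
    have hQ : Q ∈ Submodule.span K {P, Q} := Submodule.subset_span (by simp)
    refine lie_mem_span (s := {E, Hc, F, P, Q}) (hA ▸ hx) hy ?_
    rintro x (rfl | rfl | rfl | rfl | rfl) y (rfl | rfl) <;>
      first
        | (rw [hEP]; exact zero_mem _)
        | (rw [hEQ]; exact neg_mem hP)
        | (rw [hHP]; exact Submodule.smul_mem _ _ hP)
        | (rw [hHQ]; exact Submodule.smul_mem _ _ hQ)
        | (rw [hFP]; exact Submodule.smul_mem _ _ hQ)
        | (rw [hFQ]; exact zero_mem _)
        | (rw [lie_self]; exact zero_mem _)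
        | (rw [hPQ]; exact zero_mem _)
        | (rw [← lie_skew, hPQ, neg_zero]; exact zero_mem _)
  let I : LieIdeal K A :=
    { (Submodule.span K {P, Q}).comap A.incl.toLinearMap with
      lie_mem := fun {x y} hy => hbr x.1 x.2 y.1 hy }
  have hI : ∀ z : A, z ∈ I ↔ (z : L) ∈ Submodule.span K {P, Q} := fun _ => Iff.rfl
  have hIab : IsLieAbelian I := ⟨fun x y => Subtype.ext (Subtype.ext (by
    change ⁅((x : A) : L), ((y : A) : L)⁆ = 0
    simpa using lie_mem_span (T := ⊥) ((hI x).1 x.2) ((hI y).1 y.2) (by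
      rintro a (rfl | rfl) b (rfl | rfl) <;> simp [hPQ]
      rw [← lie_skew, hPQ, neg_zero])))⟩
  have hIR : I ≤ LieAlgebra.radical K A := by
    rw [← LieIdeal.solvable_iff_le_radical]; infer_instance
  have hnotE : (⟨E, hEA⟩ : A) ∉ LieAlgebra.radical K A := by
    intro hE
    set R := LieAlgebra.radical K A
    have hH : (⟨Hc, hHA⟩ : A) ∈ R := by
      have h0 : ⁅(⟨F, hFA⟩ : A), (⟨E, hEA⟩ : A)⁆ ∈ R := R.lie_mem hE
      have he : (⟨Hc, hHA⟩ : A) = -⁅(⟨F, hFA⟩ : A), (⟨E, hEA⟩ : A)⁆ := Subtype.ext (by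
        change Hc = -⁅F, E⁆
        rw [lie_skew, hEF])
      rw [he]; exact neg_mem h0
    have hF : (⟨F, hFA⟩ : A) ∈ R := by
      have h0 : ⁅(⟨F, hFA⟩ : A), (⟨Hc, hHA⟩ : A)⁆ ∈ R := R.lie_mem hH
      have he : (⟨F, hFA⟩ : A) = (2⁻¹ : K) • ⁅(⟨F, hFA⟩ : A), (⟨Hc, hHA⟩ : A)⁆ := Subtype.ext (by
        change F = (2⁻¹ : K) • ⁅F, Hc⁆
        rw [← lie_skew, hHF, neg_neg, inv_smul_smul₀ two_ne_zero])
      rw [he]; exact R.smul_mem _ h0
    have hRtop : R = ⊤ := by
      rw [eq_top_iff]
      intro z _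
      obtain ⟨z, hz⟩ := z
      have hz' : z ∈ Submodule.span K {E, Hc, F, P, Q} := hA ▸ hz
      have key : Submodule.span K {E, Hc, F, P, Q} ≤ R.toSubmodule.map A.incl.toLinearMap := by
        rw [Submodule.span_le]
        rintro x (rfl | rfl | rfl | rfl | rfl)
        · exact ⟨_, hE, rfl⟩
        · exact ⟨_, hH, rfl⟩
        · exact ⟨_, hF, rfl⟩
        · exact ⟨⟨_, hPA⟩, hIR (Submodule.subset_span (by simp)), rfl⟩
        · exact ⟨⟨_, hQA⟩, hIR (Submodule.subset_span (by simp)), rfl⟩
      obtain ⟨w, hw, hwz⟩ := key hz'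
      have : w = ⟨z, hz⟩ := Subtype.ext hwz
      exact this ▸ hw
    have hsol : LieAlgebra.IsSolvable A := by
      have h1 : LieAlgebra.IsSolvable R := inferInstanceAs (LieAlgebra.IsSolvable (LieAlgebra.radical K A))
      rw [hRtop] at h1
      exact (solvable_iff_equiv_solvable (R := K) LieIdeal.topEquiv).1 h1
    have hperf : (⁅(⊤ : LieIdeal K A), (⊤ : LieIdeal K A)⁆ : LieIdeal K A) = ⊤ := by
      rw [eq_top_iff]
      rintro ⟨z, hz⟩ _
      set D : LieIdeal K A := ⁅(⊤ : LieIdeal K A), (⊤ : LieIdeal K A)⁆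
      have hb : ∀ (x : L) (hx : x ∈ A) (y : L) (hy : y ∈ A),
          ⁅x, y⁆ ∈ D.toSubmodule.map A.incl.toLinearMap := fun x hx y hy =>
        ⟨⁅(⟨x, hx⟩ : A), (⟨y, hy⟩ : A)⁆,
          LieSubmodule.lie_mem_lie (LieSubmodule.mem_top _) (LieSubmodule.mem_top _), rfl⟩
      have key : Submodule.span K {E, Hc, F, P, Q} ≤ D.toSubmodule.map A.incl.toLinearMap := by
        rw [Submodule.span_le]
        rintro x (rfl | rfl | rfl | rfl | rfl)
        · have := Submodule.smul_mem _ (2⁻¹ : K) (hb _ hHA _ hEA)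
          rwa [hHE, inv_smul_smul₀ two_ne_zero] at this
        · exact hEF ▸ hb _ hEA _ hFA
        · have := Submodule.smul_mem _ (2⁻¹ : K) (hb _ hFA _ hHA)
          rwa [← lie_skew, hHF, neg_neg, inv_smul_smul₀ two_ne_zero] at this
        · have := neg_mem (hb _ hEA _ hQA)
          rwa [hEQ, neg_neg] at this
        · have := Submodule.smul_mem _ ((-a)⁻¹ : K) (hb _ hFA _ hPA)
          rwa [hFP, inv_smul_smul₀ (neg_ne_zero.2 ha)] at this
      obtain ⟨w, hw, hwz⟩ := key (show z ∈ Submodule.span K {E, Hc, F, P, Q} by rw [← hA]; exact hz)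
      have : w = ⟨z, hz⟩ := Subtype.ext hwz
      exact this ▸ hw
    obtain ⟨k, hk⟩ := (LieAlgebra.isSolvable_iff K A).1 hsol
    have hall : ∀ n, derivedSeries K A n = ⊤ := by
      intro n
      induction n with
      | zero => rfl
      | succ n ih =>
        rw [derivedSeries_def, derivedSeriesOfIdeal_succ, ← derivedSeries_def, ih, hperf]
    rw [hall k] at hk
    have : (⟨E, hEA⟩ : A) ∈ (⊥ : LieIdeal K A) := hk ▸ LieSubmodule.mem_top _
    rw [LieSubmodule.mem_bot, Subtype.ext_iff] at this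
    exact hli.ne_zero 0 this
  have hRI : LieAlgebra.radical K A ≤ I := by
    intro x hx
    obtain ⟨c, hc⟩ := (Submodule.mem_span_range_iff_exists_fun K).1
      (show (x : L) ∈ Submodule.span K (Set.range ![E, Hc, F, P, Q]) by rw [hrange, ← hA]; exact x.2)
    simp only [Fin.sum_univ_five, Matrix.cons_val_zero, Matrix.cons_val_one, Matrix.cons_val] at hc
    set R := LieAlgebra.radical K A
    let eA : A := ⟨E, hEA⟩
    have hP : (⟨P, hPA⟩ : A) ∈ R := hIR (Submodule.subset_span (by simp))
    have hQ : (⟨Q, hQA⟩ : A) ∈ R := hIR (Submodule.subset_span (by simp))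
    have hEH : ⁅E, Hc⁆ = -((2 : K) • E) := by rw [← lie_skew, hHE]
    have h1 : ((⁅eA, x⁆ : A) : L) = -(2 * c 1) • E + c 2 • Hc - c 4 • P := by
      change ⁅E, (x : L)⁆ = _
      rw [← hc]; simp only [lie_add, lie_smul, lie_self, hEH, hEF, hEP, hEQ]; module
    have h2 : ((⁅eA, ⁅eA, x⁆⁆ : A) : L) = -(2 * c 2) • E := by
      change ⁅E, ((⁅eA, x⁆ : A) : L)⁆ = _
      rw [h1]; simp only [lie_add, lie_sub, lie_smul, lie_self, hEH, hEP]; module
    have hscal : ∀ t : K, t • eA ∈ R → t = 0 := fun t ht => by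
      by_contra h0
      exact hnotE (by simpa [smul_smul, h0] using R.smul_mem t⁻¹ ht)
    have hc2 : c 2 = 0 := by
      have h := hscal (-(2 * c 2)) (by
        have h0 : ⁅eA, ⁅eA, x⁆⁆ ∈ R := R.lie_mem (R.lie_mem hx)
        have he : -(2 * c 2) • eA = ⁅eA, ⁅eA, x⁆⁆ := Subtype.ext h2.symm
        rw [he]; exact h0)
      simpa using h
    have hc1 : c 1 = 0 := by
      have h := hscal (-(2 * c 1)) (by
        have h0 : ⁅eA, x⁆ ∈ R := R.lie_mem hx
        have he : -(2 * c 1) • eA = ⁅eA, x⁆ + c 4 • (⟨P, hPA⟩ : A) := Subtype.ext (by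
          change _ • E = ((⁅eA, x⁆ : A) : L) + c 4 • P
          rw [h1, hc2]; module)
        rw [he]; exact add_mem h0 (R.smul_mem _ hP))
      simpa using h
    have hc0 : c 0 = 0 := hscal (c 0) (by
      have he : c 0 • eA = x - c 3 • (⟨P, hPA⟩ : A) - c 4 • (⟨Q, hQA⟩ : A) := Subtype.ext (by
        change c 0 • E = (x : L) - c 3 • P - c 4 • Q
        rw [← hc, hc1, hc2]; module)
      rw [he]; exact sub_mem (sub_mem hx (R.smul_mem _ hP)) (R.smul_mem _ hQ))
    rw [hI, ← hc, hc0, hc1, hc2, Submodule.mem_span_pair]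
    exact ⟨c 3, c 4, by module⟩
  have hRI' : LieAlgebra.radical K A = I := le_antisymm hRI hIR
  have hmap : (LieAlgebra.radical K A).toSubmodule.map (A.incl : A →ₗ⁅K⁆ L).toLinearMap =
      Submodule.span K {P, Q} := by
    rw [hRI']
    exact Submodule.map_comap_eq_of_le (fun z hz => ⟨⟨z, hPQle hz⟩, rfl⟩)
  refine ⟨?_, hmap⟩
  change Module.finrank K (LieAlgebra.radical K A).toSubmodule = 2
  refine ((Submodule.equivMapOfInjective A.incl.toLinearMap Subtype.val_injective
    (LieAlgebra.radical K A).toSubmodule).finrank_eq).trans ?_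
  rw [show (LieAlgebra.radical K A).toSubmodule.map A.incl.toLinearMap = Submodule.span K {P, Q} from hmap]
  have hli2 : LinearIndependent K ![P, Q] := by
    have := hli.comp ![3, 4] (by decide)
    convert this using 1
    ext i; fin_cases i <;> rfl
  have : Set.range ![P, Q] = {P, Q} := by ext x; simp [eq_comm, or_comm]
  rw [← this, finrank_span_eq_card hli2, Fintype.card_fin]

end

/-- Let L be a finite-dimensional simple Lie algebra over an algebraically closed field K of
characteristic zero, H a Cartan subalgebra and b a basis of (L, H) in Mathlib's sense (Chevalley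
generators h_i, e_i, f_i indexed by a finite type, with simple roots α_i = b.baseSupp i and upper
Borel subalgebra 𝔟 = H + the Lie subalgebra generated by the e_i). Let ρ be the highest root: a root
of H on L whose root space is nonzero and such that no ρ + α_i is a root (the root space of ρ + α_i
is zero for every i). Assume that exactly one simple root α_j is not orthogonal to ρ (ρ(h_i) ≠ 0 if
and only if i = j) and that ρ(h_j) = 1; for simple L these two conditions say precisely that L is
not of type A_r or C_r (r ≥ 1), the case excluded in the source. Let A be the Lie subalgebra of L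
generated by the root spaces of ρ, of −ρ and of ρ − α_j; this is the smallest Lie subalgebra whose
projectivisation contains both the standard twistor conic (which spans the plane on E_ρ, H_ρ,
E_{−ρ}) and the Borel-stable line (through E_ρ and E_{ρ−α_j}). Then A has dimension 5, its solvable
radical has dimension 2, and the image of that radical in L is the sum of the root spaces of ρ − α_j
and of −α_j (the two-dimensional ideal which the source's proof displays as the unipotent radical of
A; the solvable radical and the unipotent radical agree here because the quotient of A by this ideal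
is sl_2). The published statement also says that the sl_2-subalgebra spanned by the root spaces of ρ
and −ρ is a maximal reductive subalgebra of A; that clause is not stated here. The source states
this for an arbitrary point x of the adjoint variety, a twistor conic C and a line through x, and
reduces to the present configuration by homogeneity; only this base configuration, which its proof
computes, is stated here. -/
theorem result {ι : Type u} {K : Type v} {L : Type w} [Fintype ι] [Field K] [CharZero K]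
    [IsAlgClosed K] [LieRing L] [LieAlgebra K L] [FiniteDimensional K L] [LieAlgebra.IsSimple K L]
    (H : LieSubalgebra K L) [H.IsCartanSubalgebra] (b : LieAlgebra.Basis ι H)
    (ρ : Module.Dual K H) (hρ : rootSpace H ρ ≠ ⊥) (htop : ∀ i, rootSpace H (ρ + b.baseSupp i) = ⊥)
    (j : ι) (hN : ∀ i, ρ (b.h' i) ≠ 0 ↔ i = j) (hj : ρ (b.h' j) = 1)
    (A : LieSubalgebra K L)
    (hA : A = LieSubalgebra.lieSpan K L
      ((rootSpace H ρ : Set L) ∪ (rootSpace H (-ρ) : Set L) ∪ (rootSpace H (ρ - b.baseSupp j) : Set L))) :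
    Module.finrank K A = 5 ∧ Module.finrank K (LieAlgebra.radical K A) = 2 ∧
      (LieAlgebra.radical K A).toSubmodule.map (A.incl : A →ₗ⁅K⁆ L).toLinearMap =
        (rootSpace H (ρ - b.baseSupp j) : Submodule K L) ⊔ (rootSpace H (-b.baseSupp j) : Submodule K L) := by
  classical
  have : LieModule.IsTriangularizable K H L := inferInstance
  haveI : LieAlgebra.IsKilling K L := inferInstance
  let αj : Module.Dual K H := b.baseSupp j
  have he : ∀ i, b.e i ∈ rootSpace H (b.baseSupp i : H → K) := fun i =>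
    (mem_genWeightSpace _ _ _).mpr fun z => ⟨1, by simp⟩
  have hf : ∀ i, b.f i ∈ rootSpace H (-(b.baseSupp i : H → K)) := fun i =>
    (mem_genWeightSpace _ _ _).mpr fun z => ⟨1, by simp [← eq_neg_iff_add_eq_zero]⟩
  have hρnz : ρ ≠ 0 := fun h => by simp [h] at hj
  let ρw : Weight K H L := ⟨ρ, hρ⟩
  let αw : Weight K H L := ⟨b.baseSupp j, fun h => (b.sl2 j).e_ne_zero ((LieSubmodule.mem_bot _).1 (by rw [← h]; exact he j))⟩
  have hρw : ρw.IsNonZero := fun h => hρnz (LinearMap.ext fun z => congrFun h z)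
  have hαw : αw.IsNonZero := fun h => b.linearIndependent_baseSupp.ne_zero j (LinearMap.ext fun z => congrFun h z)
  have hhj : b.h j = coroot αw := (b.sl2 j).h_eq_coroot hαw (he j) (hf j)
  have hh'j : b.h' j = coroot αw := Subtype.ext hhj
  have hαj2 : b.baseSupp j (b.h' j) = 2 := by
    haveI : IsAddTorsionFree L := .of_isTorsionFree K L
    simp
  obtain ⟨h, E, F, t, hE, hF⟩ := exists_isSl2Triple_of_weight_isNonZero hρw
  replace hE : E ∈ rootSpace H (ρ : H → K) := hE
  replace hF : F ∈ rootSpace H (-(ρ : H → K)) := hF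
  have hh : h = coroot ρw := t.h_eq_coroot hρw hE hF
  set a : K := b.baseSupp j (coroot ρw) with ha_def
  have ha : a ≠ 0 := by
    have h1 : ρw (coroot αw) = 1 := by rw [← hh'j]; exact hj
    intro h0
    have := ((rootSystem H).pairing_eq_zero_iff'
      (i := ⟨αw, by simpa using hαw⟩) (j := ⟨ρw, by simpa using hρw⟩)).1
    simp only [rootSystem_pairing_apply] at this
    exact one_ne_zero (h1.symm.trans (this h0))
  have smulH : ∀ {χ : H → K} {x : L}, x ∈ rootSpace H χ → ∀ z : H, ⁅(z : L), x⁆ = χ z • x :=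
    fun hx z => lie_eq_smul_of_mem_rootSpace hx z
  have brk : ∀ {χ₁ χ₂ : H → K} {x y : L}, x ∈ rootSpace H χ₁ → y ∈ rootSpace H χ₂ →
      ⁅x, y⁆ ∈ rootSpace H (χ₁ + χ₂) := fun hx hy => lie_mem_genWeightSpace_of_mem_genWeightSpace hx hy
  have htop' : ∀ i, rootSpace H ((b.baseSupp i : H → K) + (ρ : H → K)) = ⊥ := fun i => by
    rw [add_comm, ← htop i]
  have heE : ∀ i, ⁅b.e i, E⁆ = 0 := fun i => by
    simpa [htop' i] using brk (he i) hE
  have hup : ∀ x ∈ b.borelUpper, ⁅x, E⁆ = 0 := by
    intro x hx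
    have hx' : x ∈ LieSubalgebra.lieSpan K L (Set.range b.e) := hx
    clear hx
    induction hx' using LieSubalgebra.lieSpan_induction with
    | mem y hy => obtain ⟨i, rfl⟩ := hy; exact heE i
    | zero => simp
    | add u v _ _ hu hv => rw [add_lie, hu, hv, add_zero]
    | smul c u _ hu => rw [smul_lie, hu, smul_zero]
    | lie u v _ _ hu hv => rw [lie_lie, hu, hv, lie_zero, lie_zero, sub_zero]
  set Q := b.f j with hQ_def
  set P := ⁅Q, E⁆ with hP_def
  have hP : P ∈ rootSpace H ((ρ : H → K) - (b.baseSupp j : H → K)) := by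
    have h0 := brk (hf j) hE
    have he0 : ((ρ : H → K) - (b.baseSupp j : H → K)) = -(b.baseSupp j : H → K) + (ρ : H → K) := by
      ext z; simp only [Pi.sub_apply, Pi.add_apply, Pi.neg_apply]; ring
    rw [he0]; exact h0
  have hjE : ⁅b.h j, E⁆ = (1 : K) • E := by
    rw [← hj]; exact smulH hE (b.h' j)
  have hejP : ⁅b.e j, P⁆ = E := by
    rw [hP_def, hQ_def, leibniz_lie, (b.sl2 j).lie_e_f, hjE, heE, lie_zero, add_zero, one_smul]
  have hE0 : E ≠ 0 := t.e_ne_zero
  have hF0 : F ≠ 0 := t.f_ne_zero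
  have hP0 : P ≠ 0 := fun h0 => hE0 (by rw [← hejP, h0, lie_zero])
  have hQP : ⁅Q, P⁆ = 0 := by
    have pv : (b.sl2 j).HasPrimitiveVectorWith E (1 : K) :=
      { ne_zero := hE0, lie_h := hjE, lie_e := heE j }
    have := pv.pow_toEnd_f_eq_zero_of_eq_nat (n := 1) (by simp)
    simpa [pow_succ] using this
  have hQF : ⁅Q, F⁆ = 0 := by
    have hmem := brk (hf j) hF
    by_contra h0
    have hne : rootSpace H (-(b.baseSupp j : H → K) + -(ρ : H → K)) ≠ ⊥ :=
      fun hb => h0 ((LieSubmodule.mem_bot _).1 (by rw [← hb]; exact hmem))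
    have := (-(⟨_, hne⟩ : Weight K H L)).genWeightSpace_ne_bot
    refine this ?_
    rw [Weight.coe_neg]
    change rootSpace H (-(-(b.baseSupp j : H → K) + -(ρ : H → K))) = ⊥
    rw [neg_add, neg_neg, neg_neg, htop' j]
  let βw : Weight K H L := ⟨(ρ : H → K) - (b.baseSupp j : H → K),
    fun h0 => hP0 ((LieSubmodule.mem_bot _).1 (by rw [← h0]; exact hP))⟩
  have hβw : βw.IsNonZero := fun h0 => by
    have := congrFun h0 (b.h' j)
    change ρ (b.h' j) - b.baseSupp j (b.h' j) = 0 at this
    rw [hj, hαj2] at this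
    norm_num at this
  have hEP : ⁅E, P⁆ = 0 := by
    have hpos := b.root_mem_or_mem_neg ⟨βw, by simpa using hβw⟩
    simp only [← Submodule.span_nat_eq_addSubmonoidClosure, Submodule.mem_toAddSubmonoid,
      ← Set.range_comp, Submodule.mem_span_range_iff_exists_fun] at hpos
    have key : ∀ (n : ι → ℕ) (χ : Module.Dual K H), ∑ i, n i • b.baseSupp i = χ → χ ≠ 0 →
        ∀ x ∈ rootSpace H (χ : H → K), x ∈ b.borelUpper := by
      intro n χ hn hχ x hx
      rw [b.borelUpper_eq]
      refine LieSubmodule.mem_iSup_of_mem n ?_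
      rw [iSup_pos (fun h0 => hχ (by simp [← hn, h0]))]
      rw [← hn] at hx
      simpa only [LinearMap.coe_sum, LinearMap.coe_smul] using hx
    have hβ0 : (ρ - b.baseSupp j : Module.Dual K H) ≠ 0 := fun h0 => hβw (by
      funext z; exact LinearMap.congr_fun h0 z)
    rcases hpos with ⟨n, hn⟩ | ⟨n, hn⟩
    · have hx := key n _ hn hβ0 P hP
      rw [← lie_skew, hup P hx, neg_zero]
    · exfalso
      have hm : ⁅b.e j, F⁆ ∈ rootSpace H (-((ρ : H → K) - (b.baseSupp j : H → K))) := by
        have h0 := brk (he j) hF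
        have he0 : (-((ρ : H → K) - (b.baseSupp j : H → K))) =
            (b.baseSupp j : H → K) + -(ρ : H → K) := by
          ext z; simp only [Pi.sub_apply, Pi.add_apply, Pi.neg_apply]; ring
        rw [he0]; exact h0
      have h0 := hup _ (key n _ hn (neg_ne_zero.2 hβ0) _ hm)
      rw [lie_lie, heE j, lie_zero, sub_zero, ← lie_skew F E, t.lie_e_f, lie_neg, lie_skew, hh,
        smulH (he j) (coroot ρw), smul_eq_zero] at h0
      exact h0.elim ha (b.sl2 j).e_ne_zero
  have hHQ : ⁅h, Q⁆ = (-a) • Q := by rw [hh]; exact smulH (hf j) _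
  have hρh : ρ (coroot ρw) = 2 := root_apply_coroot hρw
  have hHP : ⁅h, P⁆ = (2 - a) • P := by
    rw [hh, smulH hP, Pi.sub_apply, hρh]
  have hFP : ⁅F, P⁆ = (-a) • Q := by
    rw [hP_def, leibniz_lie, ← lie_skew F Q, hQF, neg_zero, zero_lie, zero_add, ← lie_skew F E,
      t.lie_e_f, lie_neg, lie_skew, hHQ]
  have hEQ : ⁅E, Q⁆ = -P := (lie_skew E Q).symm
  have hFQ : ⁅F, Q⁆ = 0 := by rw [← lie_skew, hQF, neg_zero]
  have hPQ : ⁅P, Q⁆ = 0 := by rw [← lie_skew, hQP, neg_zero]
  have hEF : ⁅E, F⁆ = h := t.lie_e_f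
  have hHE : ⁅h, E⁆ = (2 : K) • E := t.lie_h_e_smul K
  have hHF : ⁅h, F⁆ = -((2 : K) • F) := t.lie_lie_smul_f K
  let S : Submodule K L := Submodule.span K {E, h, F, P, Q}
  have mE : E ∈ S := Submodule.subset_span (by simp)
  have mH : h ∈ S := Submodule.subset_span (by simp)
  have mF : F ∈ S := Submodule.subset_span (by simp)
  have mP : P ∈ S := Submodule.subset_span (by simp)
  have mQ : Q ∈ S := Submodule.subset_span (by simp)
  let S' : LieSubalgebra K L :=
    { S with
      lie_mem' := fun {x y} hx hy => lie_mem_span hx hy (by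
        have sk : ∀ {u v : L}, ⁅u, v⁆ ∈ S → ⁅v, u⁆ ∈ S := fun {u v} huv => by
          rw [← lie_skew]; exact neg_mem huv
        have b1 : ⁅h, E⁆ ∈ S := hHE ▸ S.smul_mem _ mE
        have b2 : ⁅h, F⁆ ∈ S := hHF ▸ neg_mem (S.smul_mem _ mF)
        have b3 : ⁅h, P⁆ ∈ S := hHP ▸ S.smul_mem _ mP
        have b4 : ⁅h, Q⁆ ∈ S := hHQ ▸ S.smul_mem _ mQ
        have b5 : ⁅E, F⁆ ∈ S := hEF ▸ mH
        have b6 : ⁅E, P⁆ ∈ S := hEP ▸ zero_mem _
        have b7 : ⁅E, Q⁆ ∈ S := hEQ ▸ neg_mem mP
        have b8 : ⁅F, P⁆ ∈ S := hFP ▸ S.smul_mem _ mQ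
        have b9 : ⁅F, Q⁆ ∈ S := hFQ ▸ zero_mem _
        have b10 : ⁅P, Q⁆ ∈ S := hPQ ▸ zero_mem _
        rintro u (rfl | rfl | rfl | rfl | rfl) v (rfl | rfl | rfl | rfl | rfl) <;>
          first
            | (rw [lie_self]; exact zero_mem _)
            | assumption
            | (exact sk (by assumption))) }
  have one : ∀ (w : Weight K H L), w.IsNonZero → ∀ {x y : L}, x ∈ rootSpace H w → x ≠ 0 →
      y ∈ rootSpace H w → ∃ c : K, y = c • x := by
    intro w hw x y hx hx0 hy
    obtain ⟨c, hc⟩ := (finrank_eq_one_iff_of_nonzero' (⟨x, hx⟩ : rootSpace H w)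
      (fun h0 => hx0 (congrArg Subtype.val h0))).1 (finrank_rootSpace_eq_one w hw) ⟨y, hy⟩
    exact ⟨c, (congrArg Subtype.val hc).symm⟩
  have hS : A.toSubmodule = S := by
    refine le_antisymm ?_ ?_
    · change A.toSubmodule ≤ S'.toSubmodule
      rw [LieSubalgebra.toSubmodule_le_toSubmodule, hA, LieSubalgebra.lieSpan_le]
      rintro y ((hy | hy) | hy)
      · obtain ⟨c, rfl⟩ := one ρw hρw hE hE0 hy
        exact S.smul_mem _ mE
      · obtain ⟨c, rfl⟩ := one (-ρw) hρw.neg (x := F) hF hF0 hy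
        exact S.smul_mem _ mF
      · obtain ⟨c, rfl⟩ := one βw hβw hP hP0 hy
        exact S.smul_mem _ mP
    · have aE : E ∈ A := hA ▸ LieSubalgebra.subset_lieSpan (Or.inl (Or.inl hE))
      have aF : F ∈ A := hA ▸ LieSubalgebra.subset_lieSpan (Or.inl (Or.inr hF))
      have aP : P ∈ A := hA ▸ LieSubalgebra.subset_lieSpan (Or.inr hP)
      have aH : h ∈ A := hEF ▸ A.lie_mem aE aF
      have aQ : Q ∈ A := by
        have := A.smul_mem (-a)⁻¹ (A.lie_mem aF aP)
        rwa [hFP, inv_smul_smul₀ (neg_ne_zero.2 ha)] at this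
      rw [Submodule.span_le]
      rintro x (rfl | rfl | rfl | rfl | rfl) <;> assumption
  have hh0 : h ∈ rootSpace H (0 : H → K) := by
    rw [hh]; exact toLieSubmodule_le_rootSpace_zero K L H (coroot ρw).2
  let W : Fin 5 → (H → K) := ![(ρ : H → K), 0, -(ρ : H → K),
    ((ρ : H → K) - (b.baseSupp j : H → K)), -(b.baseSupp j : H → K)]
  have hne2 : -(ρ : H → K) ≠ ((ρ : H → K) - (b.baseSupp j : H → K)) := by
    intro h0
    have : (2 : ℕ) • (ρw : H → K) = (αw : H → K) := by
      funext z
      have := congrFun h0 z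
      simp only [Pi.neg_apply, Pi.sub_apply] at this
      change 2 • ρ z = b.baseSupp j z
      rw [two_nsmul]; linear_combination -this
    exact αw.genWeightSpace_ne_bot' (show rootSpace H (αw : H → K) = ⊥ by rw [← this]; exact rootSpace_two_smul ρw hρw)
  have hW : Function.Injective W := by
    have hWval : ∀ i, W i (b.h' j) = ((![1, 0, -1, -1, -2] : Fin 5 → ℤ) i : K) := by
      intro i; fin_cases i
      · simp [W, hj]
      · simp [W]
      · simp [W, hj]
      · simp [W, hj, hαj2]; norm_num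
      · simp [W, hαj2]
    have dec : ∀ i k : Fin 5, (![1, 0, -1, -1, -2] : Fin 5 → ℤ) i = ![1, 0, -1, -1, -2] k →
        i = k ∨ (i = 2 ∧ k = 3) ∨ (i = 3 ∧ k = 2) := by decide
    intro i k hik
    have hv := congrFun hik (b.h' j)
    rw [hWval, hWval] at hv
    rcases dec i k (Int.cast_injective hv) with rfl | ⟨rfl, rfl⟩ | ⟨rfl, rfl⟩
    · rfl
    · exact absurd hik hne2
    · exact absurd hik.symm hne2
  have hli : LinearIndependent K ![E, h, F, P, Q] := by
    refine iSupIndep.linearIndependent (fun i => (rootSpace H (W i)).toSubmodule)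
      (LieSubmodule.iSupIndep_toSubmodule.2 ((iSupIndep_genWeightSpace K H L).comp hW)) ?_ ?_
    · intro i; fin_cases i
      · exact hE
      · exact hh0
      · exact hF
      · exact hP
      · exact hf j
    · intro i; fin_cases i
      · exact hE0
      · exact t.h_ne_zero
      · exact hF0
      · exact hP0
      · exact (b.sl2 j).f_ne_zero
  obtain ⟨h5, h2, hmap⟩ := five A E h F P Q a ha hli hS hHE hHF hEF hHP hHQ hEP hEQ hFP hFQ hPQ
  refine ⟨h5, h2, hmap.trans (le_antisymm ?_ (sup_le ?_ ?_))⟩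
  · rw [Submodule.span_le]
    rintro x (rfl | rfl)
    · exact Submodule.mem_sup_left hP
    · exact Submodule.mem_sup_right (hf j)
  · intro y hy
    obtain ⟨c, rfl⟩ := one βw hβw hP hP0 hy
    exact Submodule.smul_mem _ _ (Submodule.subset_span (by simp))
  · intro y hy
    obtain ⟨c, rfl⟩ := one (-αw) hαw.neg (x := Q) (hf j) (b.sl2 j).f_ne_zero hy
    exact Submodule.smul_mem _ _ (Submodule.subset_span (by simp))

end Groth.Agent.S17433
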