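import Groth.Prelude.Def_DefoSh
import Groth.Prelude.Def_DefoSh2
import Groth.Prelude.Def_RefHull
import Groth.Prelude.Def_FlatMod2
import Groth.Prelude.Def_CohB1
import Groth.Agent.Lib.CechOne3.Basic
import Groth.Agent.Lib.Defo13.ExtEquiv
import Groth.Agent.Lib.LMEuler8.HomSheaf
import Groth.Agent.Lib.CohMop.ExtAdjDual
import Groth.Agent.Lib.CohMop.Bidual
import Groth.Agent.Lib.TensorMod.Invertible
-- import your own Groth.Agent.* helpers here

namespace DefoSh
end DefoSh

set_option autoImplicit false
set_option backward.isDefEq.respectTransparency false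
set_option backward.isDefEq.respectTransparency.types false
universe u
open CategoryTheory AlgebraicGeometry
open DefoSh

namespace Groth.Agent.S17438

/-- Let k be a field, X a scheme over k, U₀ and U₁ two affine opens covering X, and E an O_X-module free
of the same finite rank n on U₀ and on U₁ (a vector bundle given by one transition matrix). Then the
isomorphism classes of deformations of E over the dual numbers k[ε] (O_X-modules with a k[ε]-action,
flat stalkwise, with reduction identified with E) are in bijection with the first Čech cohomology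
group of the cover (U₀, U₁) with coefficients in the sheaf End(E), by a bijection taking the class
of the trivial deformation E ⊕ εE to 0 (existence of such a bijection only: the cocycle attached to
a deformation depends on chosen trivializations over U₀ and U₁). The assertion on deformations with
fixed determinant is not stated. The published statement is for a curve and uses the sheaf
cohomology H¹(C, End(E)); this row takes any scheme over k covered by two affine opens on which E is
free, as the printed proof uses, and the Čech cohomology of that cover. -/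
theorem result (k : Type u) [Field k] (X : Scheme.{u})
    [X.Over (Spec (CommRingCat.of k))] (U : ULift.{u} (Fin 2) → X.Opens)
    (hU : ∀ i, IsAffineOpen (U i)) (hcov : ⨆ i, U i = ⊤) (E : X.Modules) (n : ℕ)
    (hfree : ∀ i, Nonempty (E.restrict (U i).ι ≅ FlatMod.freeMod ↑(U i) n)) :
    ∃ e : DefoSh.FirstOrder k E ≃ ↑(CohB1.cechH U (RefHull.homSh E E) 1),
      e (DefoSh.Defo.trivDual k E).cl = 0 := by
  haveI : HasExt.{u} X.Modules := CategoryTheory.hasExt_of_enoughInjectives X.Modules
  have hE : FlatMod.IsFinLocFree E := fun x => by
    obtain ⟨i, hi⟩ := TopologicalSpace.Opens.mem_iSup.1 (hcov.ge (TopologicalSpace.Opens.mem_top x))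
    exact ⟨U i, n, hi, hfree i⟩
  let M := RefHull.homSh E E
  have hM : Coh.IsQCoh M := by
    obtain ⟨e⟩ := LMEuler8.nonempty_homSh_iso hE E
    exact M2.isQCoh_of_isFinLocFree (M2.isFinLocFree_of_iso e.symm
      (M2.isFinLocFree_tensor hE (CohMop.isFinLocFree_dual hE)))
  haveI : ModSite.HasSheafHom (O := X.sheaf) E := CohMop.isLeftAdjoint_tenR _
  haveI := LMEuler8.isIso_toIhom E E (M1.isFP_of_isFinLocFree hE)
  obtain ⟨e1⟩ := CohMop.nonempty_ext_addEquiv_HH hE E 1
  obtain ⟨e2⟩ := CechOne3.nonempty_cechH_one_addEquiv M hM U hU hcov
  let f := (SheafOfModules.toSheaf X.ringCatSheaf).mapIso (asIso (LMEuler8.toIhom E E))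
  let e3 : Coh.HH X M 1 ≃+ Coh.HH X ((CohMop.ihom E).obj E) 1 :=
    { toFun := Sheaf.H.map f.hom 1
      invFun := Sheaf.H.map f.inv 1
      left_inv := fun x => by rw [← Sheaf.H.map_comp_apply, Iso.hom_inv_id, Sheaf.H.map_id_apply]
      right_inv := fun x => by rw [← Sheaf.H.map_comp_apply, Iso.inv_hom_id, Sheaf.H.map_id_apply]
      map_add' := map_add _ }
  let e : Abelian.Ext E E 1 ≃+ ↑(CohB1.cechH U M 1) :=
    e1.trans (e3.symm.trans ((CohFound.hhExt M 1).trans e2.symm))
  refine ⟨(Defo13.equivExt E).trans e.toEquiv, ?_⟩
  show e (Defo13.equivExt E (DefoSh.Defo.trivDual k E).cl) = 0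
  rw [Defo13.equivExt_cl, Defo13.toExt_trivDual, map_zero]

end Groth.Agent.S17438
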