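import Groth.Statements.S17439
import Groth.Agent.Lib.Defo13.Conn
import Groth.Agent.Lib.KoszShH13.Stalk

set_option autoImplicit false
universe u
open CategoryTheory AlgebraicGeometry
open DefoSh

set_option backward.isDefEq.respectTransparency false
set_option backward.isDefEq.respectTransparency.types false

namespace Groth.Agent.S17439
open CategoryTheory.Limits

/-- Let k be a field, X a scheme over k with a receptacle of differentials (Ω′, δ) over k, Ω′
quasi-coherent, and E a finite locally free O_X-module with a connection ∇ : E → E ⊗ Ω′. Then ∇ has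
at least one deformation over the trivial first-order deformation E ⊕ εE of E (a connection on E ⊕
εE commuting with k[ε] and reducing to ∇), so the set of deformations of ∇ over the trivial
deformation (the set that corresponds to H⁰(End(E) ⊗ Ω′)) is not empty. The published statement is
for a curve with its sheaf of differentials; this row takes any scheme over k with any
quasi-coherent receptacle of differentials, which the printed computation does not use. -/
theorem result (k : Type u) [Field k] (X : Scheme.{u})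
    [X.Over (Spec (CommRingCat.of k))] (Ω' : X.Modules) (δ : OmegaSh.Der (X ↘ Spec (CommRingCat.of k)) Ω')
    (hΩ' : Coh.IsQCoh Ω') (E : X.Modules) (hE : FlatMod.IsFinLocFree E)
    (nabla : Coh.toAb E ⟶ Coh.toAb (CohB1.tensorMod E Ω')) (hn : ConnSh.IsConn δ E nabla) :
    Nonempty (DefoSh.DefoConn δ nabla (DefoSh.Defo.trivDual k E)) := by
  let T := DefoSh.Defo.trivDual k E
  let c : Coh.toAb (E ⊞ E) ⟶ Coh.toAb (CohB1.tensorMod (E ⊞ E) Ω') :=
    (Defo13.ab X).map (biprod.fst : E ⊞ E ⟶ E) ≫ nabla ≫ (Defo13.ab X).map (Defo13.tmap (biprod.inl : E ⟶ E ⊞ E) Ω') +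
    (Defo13.ab X).map (biprod.snd : E ⊞ E ⟶ E) ≫ nabla ≫ (Defo13.ab X).map (Defo13.tmap (biprod.inr : E ⟶ E ⊞ E) Ω')
  have hmap : ∀ {M N P : X.Modules} (φ : M ⟶ N) (ψ : N ⟶ P),
      (Defo13.ab X).map (Defo13.tmap φ Ω') ≫ (Defo13.ab X).map (Defo13.tmap ψ Ω') =
        (Defo13.ab X).map (Defo13.tmap (φ ≫ ψ) Ω') := fun φ ψ => by rw [← Functor.map_comp, Defo13.tmap_comp]
  have hc : ConnSh.IsConn δ (E ⊞ E) c := by
    intro U t e
    have part : ∀ (p : E ⊞ E ⟶ E) (i : E ⟶ E ⊞ E),
        ConnSh.secApp ((Defo13.ab X).map p ≫ nabla ≫ (Defo13.ab X).map (Defo13.tmap i Ω')) U (t • e) =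
          t • ConnSh.secApp ((Defo13.ab X).map p ≫ nabla ≫ (Defo13.ab X).map (Defo13.tmap i Ω')) U e +
            SecTwist.tmul (E ⊞ E) Ω' U (i.app U (p.app U e)) (δ.app U t) := by
      intro p i
      simp only [Defo13.secApp_comp, Defo13.secApp_ab]
      erw [Scheme.Modules.Hom.app_smul p t e]
      erw [hn U t (p.app U e)]
      erw [map_add]
      erw [Scheme.Modules.Hom.app_smul (Defo13.tmap i Ω') t, KoszTw.tensorMap_tmul]
      rfl
    have hsum : SecTwist.tmul (E ⊞ E) Ω' U e (δ.app U t) =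
        SecTwist.tmul (E ⊞ E) Ω' U ((biprod.inl : E ⟶ E ⊞ E).app U ((biprod.fst : E ⊞ E ⟶ E).app U e)) (δ.app U t) +
        SecTwist.tmul (E ⊞ E) Ω' U ((biprod.inr : E ⟶ E ⊞ E).app U ((biprod.snd : E ⊞ E ⟶ E).app U e)) (δ.app U t) := by
      refine Eq.trans ?_ (KoszShH13.tmul_add_left _ _ _)
      congr 1
      exact (congrArg (fun φ : E ⊞ E ⟶ E ⊞ E => φ.app U e) (biprod.total (X := E) (Y := E))).symm
    simp only [c, Defo13.secApp_add]
    rw [part, part, hsum, smul_add]
    abel
  refine ⟨⟨c, hc, fun a => ?_, ?_⟩⟩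
  · rw [Defo13.isHorizontal_iff]
    have hε : (Defo13.ab X).map ((biprod.fst : E ⊞ E ⟶ E) ≫ biprod.inr) ≫ c =
        c ≫ (Defo13.ab X).map (Defo13.tmap ((biprod.fst : E ⊞ E ⟶ E) ≫ biprod.inr) Ω') := by
      simp only [c, Preadditive.comp_add, Preadditive.add_comp, ← Category.assoc, ← Functor.map_comp]
      simp only [Category.assoc, hmap, biprod.inr_fst, biprod.inr_snd,
        biprod.inl_fst, biprod.inl_fst_assoc, biprod.inr_fst_assoc, comp_zero, zero_comp, Functor.map_zero,
        Category.comp_id, Defo13.tmap_zero, zero_add, add_zero]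
    clear_value c
    have ha := Defo13.act_eq T a
    have he : (T.act (Defo13.epsA (k := k)) : E ⊞ E ⟶ E ⊞ E) = (biprod.fst : E ⊞ E ⟶ E) ≫ biprod.inr :=
      DefoSh.dualAct_eps E
    have ha' : ((DefoSh.Defo.trivDual k E).act a : E ⊞ E ⟶ E ⊞ E) =
        (a : DualNumber k).fst • 𝟙 (E ⊞ E) + ((a : DualNumber k).snd • 𝟙 (E ⊞ E)) ≫
          ((biprod.fst : E ⊞ E ⟶ E) ≫ biprod.inr) := by
      rw [Linear.smul_comp, Category.id_comp, ← he]
      exact ha
    change (Defo13.ab X).map ((DefoSh.Defo.trivDual k E).act a : E ⊞ E ⟶ E ⊞ E) ≫ c =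
      c ≫ (Defo13.ab X).map (Defo13.tmap ((DefoSh.Defo.trivDual k E).act a : E ⊞ E ⟶ E ⊞ E) Ω')
    rw [ha', Defo13.tmap_add, Defo13.tmap_comp, Defo13.tmap_smul_id (k := k) (E ⊞ E), Defo13.tmap_smul_id (k := k) (E ⊞ E), Functor.map_add,
      Functor.map_add, Functor.map_comp, Functor.map_comp (Defo13.ab X) (_ • 𝟙 (CohB1.tensorMod (E ⊞ E) Ω')),
      Preadditive.add_comp, Preadditive.comp_add, Category.assoc, hε, ← Category.assoc,
      Defo13.conn_smul_id hc, Defo13.conn_smul_id hc, Category.assoc]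
  · rw [Defo13.isHorizontal_iff]
    change (Defo13.ab X).map (biprod.fst : E ⊞ E ⟶ E) ≫ nabla =
      c ≫ (Defo13.ab X).map (Defo13.tmap (biprod.fst : E ⊞ E ⟶ E) Ω')
    simp only [c, Preadditive.add_comp, Category.assoc, hmap,
      biprod.inl_fst, biprod.inr_fst, Defo13.tmap_id, Defo13.tmap_zero, Functor.map_zero, comp_zero, add_zero,
      CategoryTheory.Functor.map_id, Category.comp_id]

end Groth.Agent.S17439
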