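import Groth.Statements.S17440
import Groth.Agent.Lib.Defo13.Seq
import Groth.Agent.Lib.DPerf.Local
import Groth.Agent.Lib.PunctFree27.Scheme

set_option autoImplicit false
universe u
open CategoryTheory AlgebraicGeometry
open DefoSh

set_option backward.isDefEq.respectTransparency false
set_option backward.isDefEq.respectTransparency.types false

namespace Groth.Agent.S17440
open CategoryTheory.Limits

/-- Let k be a field, X a scheme over k, E a finite locally free O_X-module and D a first-order
deformation of E, with reduction π : D.sheaf → E. Then D is locally trivial: every point of X has an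
open neighbourhood U together with an isomorphism of O_U-modules between the restrictions to U of
D.sheaf and of E ⊕ εE which commutes with the actions of k[ε] and with the reductions to E. In
particular the deformed module is again a vector bundle over the dual numbers. -/
theorem result (k : Type u) [Field k] (X : Scheme.{u})
    [X.Over (Spec (CommRingCat.of k))] (E : X.Modules) (hE : FlatMod.IsFinLocFree E)
    (D : DefoSh.Defo E (ArtFun.Art.dual k k)) (x : X) :
    ∃ (U : X.Opens) (e : D.sheaf.restrict U.ι ≅ (DefoSh.Defo.trivDual k E).sheaf.restrict U.ι), x ∈ U ∧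
      e.hom ≫ (Scheme.Modules.restrictFunctor U.ι).map (DefoSh.Defo.trivDual k E).π =
        (Scheme.Modules.restrictFunctor U.ι).map D.π ∧
      ∀ a : ArtFun.Art.dual k k, (Scheme.Modules.restrictFunctor U.ι).map (D.act a) ≫ e.hom =
        e.hom ≫ (Scheme.Modules.restrictFunctor U.ι).map ((DefoSh.Defo.trivDual k E).act a) := by
  haveI := Defo13.epi_π D
  obtain ⟨Z, j, hj, hxj, ψ, hψ⟩ := DPerf.exists_lift hE D.π (𝟙 E) x
  obtain ⟨ι, hι⟩ := Defo13.exists_iota D
  obtain ⟨z, hz⟩ := hxj
  let U : X.Opens := j.opensRange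
  let R := Scheme.Modules.restrictFunctor U.ι
  let θ : R ≅ Scheme.Modules.restrictFunctor j ⋙ Scheme.Modules.restrictFunctor j.isoOpensRange.inv :=
    Scheme.Modules.restrictFunctorCongr (j.isoOpensRange_inv_comp).symm ≪≫
      Scheme.Modules.restrictFunctorComp j.isoOpensRange.inv j
  let s : R.obj E ⟶ R.obj D.sheaf :=
    θ.hom.app E ≫ (Scheme.Modules.restrictFunctor j.isoOpensRange.inv).map ψ ≫ θ.inv.app D.sheaf
  have hs : s ≫ R.map D.π = 𝟙 _ := by
    simp only [s, Category.assoc]
    rw [← θ.inv.naturality, Functor.comp_map, ← Functor.map_comp_assoc, hψ,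
      CategoryTheory.Functor.map_id, CategoryTheory.Functor.map_id, Category.id_comp, Iso.hom_inv_id_app]
  have h0 : ι ≫ D.π = 0 := Defo13.iota_comp_π D hι
  have hS := Defo13.shortExact D hι h0
  haveI : Mono (R.map ι) := by
    haveI := hS.mono_f
    exact Functor.map_mono R ι
  have hSR : ((ShortComplex.mk ι D.π h0).map R).Exact :=
    hS.exact.map_of_epi_of_preservesCokernel R hS.epi_g inferInstance
  let σ := ShortComplex.Splitting.ofExactOfSection _ hSR s hs (inferInstanceAs (Mono (R.map ι)))
  let r : R.obj D.sheaf ⟶ R.obj E := σ.r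
  have hid : r ≫ R.map ι + R.map D.π ≫ s = 𝟙 _ := σ.id
  have hfr : R.map ι ≫ r = 𝟙 _ := σ.f_r
  have hsr : s ≫ r = 0 := σ.s_r
  have hfp : R.map ι ≫ R.map D.π = 0 := by rw [← Functor.map_comp, h0, Functor.map_zero]
  clear_value r
  let T := DefoSh.Defo.trivDual k E
  let e : R.obj D.sheaf ≅ R.obj T.sheaf :=
    { hom := R.map D.π ≫ R.map (biprod.inl : E ⟶ E ⊞ E) + r ≫ R.map (biprod.inr : E ⟶ E ⊞ E)
      inv := R.map (biprod.fst : E ⊞ E ⟶ E) ≫ s + R.map (biprod.snd : E ⊞ E ⟶ E) ≫ R.map ι
      hom_inv_id := by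
        simp only [Preadditive.add_comp, Preadditive.comp_add, Category.assoc, ← Functor.map_comp_assoc,
          biprod.inl_fst, biprod.inl_snd, biprod.inr_fst, biprod.inr_snd, Functor.map_zero, zero_comp, comp_zero,
          CategoryTheory.Functor.map_id, Category.id_comp, add_zero, zero_add]
        rw [add_comm]
        exact hid
      inv_hom_id := by
        simp only [Preadditive.add_comp, Preadditive.comp_add, Category.assoc, reassoc_of% hs, reassoc_of% hsr,
          reassoc_of% hfr, reassoc_of% hfp, zero_comp, comp_zero, Category.id_comp, add_zero, zero_add]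
        rw [← Functor.map_comp, ← Functor.map_comp, ← Functor.map_add, biprod.total,
          CategoryTheory.Functor.map_id]
        rfl }
  have hfst : e.hom ≫ R.map T.π = R.map D.π := by
    change (R.map D.π ≫ R.map (biprod.inl : E ⟶ E ⊞ E) + r ≫ R.map (biprod.inr : E ⟶ E ⊞ E)) ≫ R.map (biprod.fst : E ⊞ E ⟶ E) = _
    simp only [Preadditive.add_comp, Category.assoc, ← Functor.map_comp, biprod.inl_fst, biprod.inr_fst,
      Category.comp_id, Functor.map_zero, comp_zero, add_zero]
  refine ⟨U, e, ⟨z, hz⟩, hfst, fun a => ?_⟩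
  have hεT : (T.act (Defo13.epsA (k := k)) : E ⊞ E ⟶ E ⊞ E) = (biprod.fst : E ⊞ E ⟶ E) ≫ biprod.inr :=
    DefoSh.dualAct_eps E
  have hε : R.map (D.act (Defo13.epsA (k := k))) ≫ e.hom = e.hom ≫ R.map (T.act (Defo13.epsA (k := k))) := by
    change R.map (D.act (Defo13.epsA (k := k))) ≫ e.hom =
      e.hom ≫ R.map (T.act (Defo13.epsA (k := k)) : E ⊞ E ⟶ E ⊞ E)
    rw [hεT, ← hι, Functor.map_comp, Functor.map_comp]
    change (R.map D.π ≫ R.map ι) ≫ (R.map D.π ≫ R.map (biprod.inl : E ⟶ E ⊞ E) + r ≫ R.map (biprod.inr : E ⟶ E ⊞ E)) = e.hom ≫ R.map T.π ≫ R.map (biprod.inr : E ⟶ E ⊞ E)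
    rw [← Category.assoc e.hom, hfst]
    simp only [Preadditive.comp_add, Category.assoc, reassoc_of% hfr, reassoc_of% hfp, zero_comp, comp_zero, zero_add]
  have hscal : ∀ {M N : X.Modules} (c : k) (φ : R.obj M ⟶ R.obj N),
      R.map (c • 𝟙 M) ≫ φ = φ ≫ R.map (c • 𝟙 N) := by
    intro M N c φ
    rw [KLin.smul_id (X := X) M c, KLin.smul_id (X := X) N c]
    unfold Formal.smulMod
    rw [PunctFree27.restrict_map_smulModΓ, PunctFree27.restrict_map_smulModΓ]
    exact (KLin.comp_smulModΓ φ _).symm
  have dec : ∀ (D' : DefoSh.Defo E (ArtFun.Art.dual k k)), R.map (D'.act a) =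
      R.map ((a : DualNumber k).fst • 𝟙 D'.sheaf) +
        R.map ((a : DualNumber k).snd • 𝟙 D'.sheaf) ≫ R.map (D'.act (Defo13.epsA (k := k))) := by
    intro D'
    rw [← Functor.map_comp, ← Functor.map_add, Linear.smul_comp, Category.id_comp]
    exact congrArg R.map (Defo13.act_eq D' a)
  clear_value e
  change R.map (D.act a) ≫ e.hom = e.hom ≫ R.map (T.act a)
  rw [dec D, dec T, Preadditive.add_comp, Preadditive.comp_add, Category.assoc, hε,
    hscal (a : DualNumber k).fst e.hom, reassoc_of% (hscal (a : DualNumber k).snd e.hom)]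

end Groth.Agent.S17440
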