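import Groth.Statements.S17441
import Groth.Agent.Lib.ModM1.Exact
import Mathlib.RingTheory.Flat.EquationalCriterion
import Mathlib.RingTheory.Artinian.Ring

set_option autoImplicit false
universe u
open CategoryTheory AlgebraicGeometry
open DefoSh

namespace Groth.Agent.S17441

set_option backward.isDefEq.respectTransparency false
set_option backward.isDefEq.respectTransparency.types false

theorem nakayama_bijective {A M M' E : Type u} [CommRing A] [IsLocalRing A] [IsArtinianRing A]
    [AddCommGroup M] [Module A M] [AddCommGroup M'] [Module A M'] [AddCommGroup E] [Module.Flat A M']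
    (f : M →ₗ[A] M') (π : M →+ E) (π' : M' →+ E) (hcomp : ∀ v, π' (f v) = π v) (hπ : Function.Surjective π)
    (hk : ∀ v, π v = 0 → v ∈ IsLocalRing.maximalIdeal A • (⊤ : Submodule A M))
    (hk' : ∀ v, π' v = 0 → v ∈ IsLocalRing.maximalIdeal A • (⊤ : Submodule A M')) :
    Function.Bijective f := by
  classical
  obtain ⟨N, hN⟩ : IsNilpotent (IsLocalRing.maximalIdeal A) := by
    have h := IsArtinianRing.isNilpotent_jacobson_bot (R := A)
    rwa [IsLocalRing.jacobson_eq_maximalIdeal ⊥ bot_ne_top] at h
  set m := IsLocalRing.maximalIdeal A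
  have hsurj : Function.Surjective f := by
    have key : ∀ n, LinearMap.range f ⊔ m ^ n • (⊤ : Submodule A M') = ⊤ := by
      intro n
      induction n with
      | zero => simp
      | succ n ih =>
        have h1 : LinearMap.range f ⊔ m • (⊤ : Submodule A M') = ⊤ := by
          refine eq_top_iff.2 fun y _ => ?_
          obtain ⟨x, hx⟩ := hπ (π' y)
          have : y - f x ∈ m • (⊤ : Submodule A M') := hk' _ (by rw [map_sub, hcomp, hx, sub_self])
          exact Submodule.mem_sup.2 ⟨f x, ⟨x, rfl⟩, y - f x, this, add_sub_cancel _ _⟩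
        refine eq_top_iff.2 ?_
        calc ⊤ = LinearMap.range f ⊔ m ^ n • (LinearMap.range f ⊔ m • (⊤ : Submodule A M')) := by rw [h1, ih]
          _ ≤ _ := by
            rw [Submodule.smul_sup, pow_succ, mul_smul, ← sup_assoc]
            exact sup_le_sup_right (sup_le le_rfl Submodule.smul_le_right) _
    have h := key N
    rw [hN] at h
    exact LinearMap.range_eq_top.1 (by simpa using h)
  refine ⟨(LinearMap.ker_eq_bot).1 ?_, hsurj⟩
  set K := LinearMap.ker f with hK
  have hle : K ≤ m • K := by
    intro x hx
    have hx0 : f x = 0 := hx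
    have h1 := hk x (by rw [← hcomp, hx0, map_zero])
    rw [← Submodule.span_univ, ← Set.range_id, Submodule.mem_ideal_smul_span_iff_exists_sum] at h1
    obtain ⟨a, ha, hsum⟩ := h1
    have hrel : ∑ j : a.support, a j.1 • f j.1 = 0 := by
      rw [Finset.sum_coe_sort a.support (fun j => a j • f j), ← hx0, ← hsum, Finsupp.sum, map_sum]
      exact Finset.sum_congr rfl fun j _ => (map_smul f (a j) j).symm
    obtain ⟨l, b, y, hy, hb⟩ := Module.Flat.isTrivialRelation_of_sum_smul_eq_zero hrel
    choose z hz using fun i => hsurj (y i)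
    have hx' : x = ∑ j : a.support, a j.1 • (j.1 - ∑ i, b j i • z i) := by
      simp only [smul_sub, Finset.sum_sub_distrib, Finset.smul_sum, smul_smul]
      rw [Finset.sum_comm (γ := a.support), Finset.sum_coe_sort a.support (fun j => a j • j)]
      simp only [← Finset.sum_smul, hb, zero_smul, Finset.sum_const_zero, sub_zero]
      exact hsum.symm
    rw [hx']
    refine Submodule.sum_mem _ fun j _ => Submodule.smul_mem_smul (ha _) ?_
    rw [hK, LinearMap.mem_ker, map_sub, map_sum]
    simp only [map_smul, hz]
    rw [← hy j, sub_self]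
  have hpow : ∀ n, K ≤ m ^ n • K := by
    intro n
    induction n with
    | zero => simp
    | succ n ih =>
      calc K ≤ m ^ n • K := ih
        _ ≤ m ^ n • (m • K) := Submodule.smul_mono le_rfl hle
        _ = m ^ (n + 1) • K := by rw [pow_succ, mul_smul]
  have h := hpow N
  rw [hN] at h
  exact eq_bot_iff.2 (by simpa using h)


/-- Let k be a field, X a scheme over k, E an O_X-module and A a local Artinian k-algebra with residue
field k. If D and D′ are deformations of E over A (O_X-modules with an action of A, flat over A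
stalkwise, with reductions π, π′ to E whose stalkwise kernels are m_A times the stalk), then every
O_X-linear map φ : D.sheaf → D′.sheaf that commutes with the actions of A and satisfies φ ≫ π′ = π
is an isomorphism. The printed remark is the first-order case A = k[ε]; this row states it for every
local Artinian k-algebra A with residue field k. -/
theorem result (k : Type u) [Field k] (X : Scheme.{u})
    [X.Over (Spec (CommRingCat.of k))] (E : X.Modules) (A : ArtFun.Art k k)
    (D D' : DefoSh.Defo E A) (φ : D.sheaf ⟶ D'.sheaf)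
    (hact : ∀ a : A, D.act a ≫ φ = φ ≫ D'.act a) (hπ : φ ≫ D'.π = D.π) :
    IsIso φ := by

  rw [Groth.Agent.M1.isIso_iff_stalk]
  intro p
  change Function.Bijective (RefHull.stalkMapₗ φ p)
  letI := DefoSh.stalkModule D.sheaf D.act.toRingHom p
  letI := DefoSh.stalkModule D'.sheaf D'.act.toRingHom p
  haveI : Module.Flat A ↑(D'.sheaf.presheaf.stalk p) := D'.flat p
  let f : ↑(D.sheaf.presheaf.stalk p) →ₗ[A] ↑(D'.sheaf.presheaf.stalk p) :=
    { toFun := RefHull.stalkMapₗ φ p
      map_add' := map_add _
      map_smul' := fun a v => by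
        change RefHull.stalkMapₗ φ p (RefHull.stalkMapₗ (D.act a) p v) =
          RefHull.stalkMapₗ (D'.act a) p (RefHull.stalkMapₗ φ p v)
        rw [← DefoSh.stalkMapₗ_comp_apply, ← DefoSh.stalkMapₗ_comp_apply, hact a] }
  exact nakayama_bijective f (RefHull.stalkMapₗ D.π p).toAddMonoidHom (RefHull.stalkMapₗ D'.π p).toAddMonoidHom
    (fun v => by
      change RefHull.stalkMapₗ D'.π p (RefHull.stalkMapₗ φ p v) = RefHull.stalkMapₗ D.π p v
      rw [← DefoSh.stalkMapₗ_comp_apply, hπ]) (D.surj p) (D.ker_le p) (D'.ker_le p)

end Groth.Agent.S17441
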