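import Groth.Statements.S17444
import Mathlib.Algebra.Ring.GeomSum
import Mathlib.Tactic.NoncommRing

set_option autoImplicit false
universe u v
open SSRed

namespace Groth.Agent.S17444

/-- Let K be a field of characteristic zero, V a K-vector space and g a K-linear endomorphism of V such
that g - 1 is nilpotent (a unipotent automorphism). Then for every integer n > 0 the endomorphisms
gⁿ - 1 and g - 1 have the same kernel: a vector fixed by gⁿ is fixed by g. (The published statement
assumes V finite-dimensional; this row allows any V.) -/
theorem result (K : Type u) (V : Type v) [Field K] [CharZero K]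
    [AddCommGroup V] [Module K V] (g : Module.End K V) (hg : IsNilpotent (g - 1)) (n : ℕ) (hn : 0 < n) :
    LinearMap.ker (g ^ n - 1) = LinearMap.ker (g - 1) := by
  have hcomm : ∀ i : ℕ, Commute (g - 1) (g ^ i) := fun i =>
    ((Commute.refl g).sub_left (Commute.one_left g)).pow_right i
  have hsum : IsNilpotent ((∑ i ∈ Finset.range n, g ^ i) - (n : Module.End K V)) := by
    have : (∑ i ∈ Finset.range n, g ^ i) - (n : Module.End K V) = (g - 1) * ∑ i ∈ Finset.range n, ∑ j ∈ Finset.range i, g ^ j := by
      rw [Finset.mul_sum]
      simp only [mul_geom_sum]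
      rw [Finset.sum_sub_distrib]
      simp
    rw [this]
    refine Commute.isNilpotent_mul_right ?_ hg
    exact Commute.sum_right _ _ _ fun i _ => Commute.sum_right _ _ _ fun j _ => hcomm j
  have hu : IsUnit (∑ i ∈ Finset.range n, g ^ i) := by
    have hn' : IsUnit (n : Module.End K V) := by
      have := (Nat.cast_ne_zero (R := K)).2 hn.ne'
      simpa using (IsUnit.mk0 _ this).map (algebraMap K (Module.End K V))
    have := hsum.isUnit_add_left_of_commute hn' (Nat.commute_cast _ n)
    rwa [add_sub_cancel] at this
  have hfac : g ^ n - 1 = (∑ i ∈ Finset.range n, g ^ i) * (g - 1) := (geom_sum_mul g n).symm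
  rw [hfac, Module.End.mul_eq_comp, LinearMap.ker_comp]
  have hinj : Function.Injective (∑ i ∈ Finset.range n, g ^ i : Module.End K V) := ((Module.End.isUnit_iff _).1 hu).1
  rw [LinearMap.ker_eq_bot.2 hinj, Submodule.comap_bot]

end Groth.Agent.S17444
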