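import Groth.Statements.S17446
import Mathlib

set_option autoImplicit false
universe u v
open SSRed

namespace Groth.Agent.S17446

variable {K : Type u} {V : Type v} [Field K] [AddCommGroup V] [Module K V]

/-- The filtration `W 0 = ⊥`, `W (i+1) = {v | (h - 1) v ∈ W i}`. -/
noncomputable def W (H : Subgroup (V ≃ₗ[K] V)) : ℕ → Submodule K V
  | 0 => ⊥
  | i + 1 => ⨅ h : H, (W H i).comap (((h : V ≃ₗ[K] V) : Module.End K V) - 1)

theorem mem_W_succ (H : Subgroup (V ≃ₗ[K] V)) (i : ℕ) (x : V) :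
    x ∈ W H (i + 1) ↔ ∀ h : H, (h : V ≃ₗ[K] V) x - x ∈ W H i := by
  simp [W, Submodule.mem_iInf]

theorem W_mono (H : Subgroup (V ≃ₗ[K] V)) : ∀ i, W H i ≤ W H (i + 1)
  | 0 => bot_le
  | i + 1 => fun x hx => (mem_W_succ H (i + 1) x).2 fun h => W_mono H i ((mem_W_succ H i x).1 hx h)

theorem W_top (H : Subgroup (V ≃ₗ[K] V)) (n : ℕ)
    (hH : ∀ f : Fin n → H, (List.ofFn fun i => (((f i : H) : V ≃ₗ[K] V) : Module.End K V) - 1).prod = 0) :
    W H n = ⊤ := by
  have key : ∀ j (x : V), (∀ f : Fin j → H, (List.ofFn fun i => (((f i : H) : V ≃ₗ[K] V) : Module.End K V) - 1).prod x = 0) → x ∈ W H j := by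
    intro j
    induction j with
    | zero => intro x hx; simpa [W] using hx Fin.elim0
    | succ j ih =>
      intro x hx
      refine (mem_W_succ H j x).2 fun h => ih _ fun f => ?_
      have := hx (Fin.snoc f h)
      rw [List.ofFn_succ', List.concat_eq_append, List.prod_append, List.prod_singleton, Module.End.mul_apply] at this
      simpa using this
  exact eq_top_iff.2 fun x _ => key n x fun f => by rw [hH f]; rfl

theorem W_stable (H : Subgroup (V ≃ₗ[K] V)) (g : V ≃ₗ[K] V) (hg : ∀ h ∈ H, g⁻¹ * h * g ∈ H) :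
    ∀ i, ∀ x ∈ W H i, g x ∈ W H i
  | 0 => fun x hx => by
    rw [show W H 0 = ⊥ from rfl, Submodule.mem_bot] at hx ⊢
    rw [hx, map_zero]
  | i + 1 => fun x hx => (mem_W_succ H i _).2 fun h => by
    have h1 := W_stable H g hg i _ ((mem_W_succ H i x).1 hx ⟨_, hg h h.2⟩)
    have e : g ((g⁻¹ * (h : V ≃ₗ[K] V) * g) x) = (h : V ≃ₗ[K] V) (g x) := by
      show g (g.symm _) = _
      rw [g.apply_symm_apply]
      rfl
    rwa [map_sub, e] at h1

/-- Let K be a field, V a finite-dimensional K-vector space and H₁, H₂ subgroups of the group of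
K-linear automorphisms of V such that H₂ normalizes H₁. Call the action of a subgroup H unipotent
when, for some n, every product (h₁ - 1)(h₂ - 1)⋯(hₙ - 1) with all hᵢ in H is the zero endomorphism
(equivalently, V has an H-stable flag on whose successive quotients H acts trivially). If H₁ and H₂
act unipotently, then the subgroup generated by H₁ and H₂ acts unipotently. (In the published result
H₁ and H₂ are the absolute Galois groups of two finite Galois extensions of a strictly henselian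
discretely valued field over which an abelian variety becomes semistable, acting on its rational
ℓ-adic Tate module, and the conclusion is semistability over the intersection of the two fields; the
printed argument uses only that H₂ normalizes H₁.) -/
theorem result (K : Type u) (V : Type v) [Field K]
    [AddCommGroup V] [Module K V] [FiniteDimensional K V]
    (H₁ H₂ : Subgroup (V ≃ₗ[K] V)) (hnorm : ∀ g ∈ H₂, ∀ h ∈ H₁, g * h * g⁻¹ ∈ H₁)
    (h₁ : ∃ n : ℕ, ∀ f : Fin n → ↥H₁,
      (List.ofFn fun i => (((f i : ↥H₁) : V ≃ₗ[K] V) : Module.End K V) - 1).prod = 0)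
    (h₂ : ∃ n : ℕ, ∀ f : Fin n → ↥H₂,
      (List.ofFn fun i => (((f i : ↥H₂) : V ≃ₗ[K] V) : Module.End K V) - 1).prod = 0) :
    ∃ n : ℕ, ∀ f : Fin n → ↥(H₁ ⊔ H₂),
      (List.ofFn fun i => (((f i : ↥(H₁ ⊔ H₂)) : V ≃ₗ[K] V) : Module.End K V) - 1).prod = 0 := by
  obtain ⟨n₁, h₁⟩ := h₁
  obtain ⟨n₂, h₂⟩ := h₂
  have hstab : ∀ g ∈ H₂, ∀ i, ∀ x ∈ W H₁ i, g x ∈ W H₁ i := fun g hg => W_stable H₁ g fun h hh => by
    simpa using hnorm g⁻¹ (inv_mem hg) h hh
  have hle : H₂ ≤ Subgroup.normalizer (H₁ : Set (V ≃ₗ[K] V)) := fun g hg => Subgroup.mem_normalizer_iff.2 fun h =>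
    ⟨fun hh => hnorm g hg h hh, fun hh => by
      have := hnorm g⁻¹ (inv_mem hg) _ hh
      simpa [mul_assoc] using this⟩
  have hdec : ∀ x ∈ H₁ ⊔ H₂, ∃ h ∈ H₁, ∃ g ∈ H₂, h * g = x := by
    intro x hx
    rw [← SetLike.mem_coe, Subgroup.coe_mul_of_right_le_normalizer_left _ _ hle] at hx
    obtain ⟨h, hh, g, hg, hxy⟩ := hx
    exact ⟨h, hh, g, hg, hxy⟩
  have step : ∀ i, ∀ (l : List (↥(H₁ ⊔ H₂))), n₂ ≤ l.length → ∀ x ∈ W H₁ (i + 1),
      (l.map fun y => (((y : ↥(H₁ ⊔ H₂)) : V ≃ₗ[K] V) : Module.End K V) - 1).prod x ∈ W H₁ i := by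
    intro i
    have hpair : ∀ (l : List (↥(H₁ ⊔ H₂))), ∃ l' : List H₂, l'.length = l.length ∧ ∀ x ∈ W H₁ (i + 1),
        (l.map fun y => (((y : ↥(H₁ ⊔ H₂)) : V ≃ₗ[K] V) : Module.End K V) - 1).prod x ∈ W H₁ (i + 1) ∧
        (l.map fun y => (((y : ↥(H₁ ⊔ H₂)) : V ≃ₗ[K] V) : Module.End K V) - 1).prod x -
          (l'.map fun y => (((y : H₂) : V ≃ₗ[K] V) : Module.End K V) - 1).prod x ∈ W H₁ i := by
      intro l
      induction l with
      | nil => exact ⟨[], rfl, fun x hx => ⟨by simpa using hx, by simp⟩⟩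
      | cons y l ih =>
        obtain ⟨l', hl', hprop⟩ := ih
        obtain ⟨h, hh, g, hg, hy⟩ := hdec y y.2
        refine ⟨⟨g, hg⟩ :: l', by simp [hl'], fun x hx => ?_⟩
        obtain ⟨ha, hb⟩ := hprop x hx
        simp only [List.map_cons, List.prod_cons, Module.End.mul_apply, LinearMap.sub_apply, Module.End.one_apply]
        set A := (l.map fun y => (((y : ↥(H₁ ⊔ H₂)) : V ≃ₗ[K] V) : Module.End K V) - 1).prod x with hA
        set B := (l'.map fun y => (((y : H₂) : V ≃ₗ[K] V) : Module.End K V) - 1).prod x with hB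
        have e : (y : V ≃ₗ[K] V) A = h (g A) := by rw [← hy]; rfl
        have h3 : h (g A) - g A ∈ W H₁ i := (mem_W_succ H₁ i _).1 (hstab g hg _ A ha) ⟨h, hh⟩
        refine ⟨?_, ?_⟩
        · show (y : V ≃ₗ[K] V) A - A ∈ _
          rw [e, show h (g A) - A = (h (g A) - g A) + (g A - A) by abel]
          exact add_mem (W_mono H₁ i h3) (sub_mem (hstab g hg _ A ha) ha)
        · show (y : V ≃ₗ[K] V) A - A - (g B - B) ∈ _
          rw [e, show h (g A) - A - (g B - B) = (h (g A) - g A) + (g (A - B) - (A - B)) by rw [map_sub]; abel]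
          exact add_mem h3 (sub_mem (hstab g hg _ _ hb) hb)
    intro l hl x hx
    obtain ⟨l', hl', hprop⟩ := hpair l
    obtain ⟨-, hb⟩ := hprop x hx
    have hz : (l'.map fun y => (((y : H₂) : V ≃ₗ[K] V) : Module.End K V) - 1).prod = 0 := by
      rw [← List.take_append_drop n₂ l', List.map_append, List.prod_append]
      have hlen : (l'.take n₂).length = n₂ := by simp; omega
      have := h₂ fun j => (l'.take n₂).get (Fin.cast hlen.symm j)
      rw [show (l'.take n₂).map (fun y => (((y : H₂) : V ≃ₗ[K] V) : Module.End K V) - 1) = List.ofFn (fun j : Fin n₂ => ((((l'.take n₂).get (Fin.cast hlen.symm j) : H₂) : V ≃ₗ[K] V) : Module.End K V) - 1) from ?_, this, zero_mul]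
      conv_lhs => rw [← List.ofFn_get (l'.take n₂), List.map_ofFn, List.ofFn_congr hlen]
      rfl
    rwa [hz, LinearMap.zero_apply, sub_zero] at hb
  have hall : ∀ i, ∀ l : List (↥(H₁ ⊔ H₂)), l.length = i * n₂ → ∀ x ∈ W H₁ i,
      (l.map fun y => (((y : ↥(H₁ ⊔ H₂)) : V ≃ₗ[K] V) : Module.End K V) - 1).prod x = 0 := by
    intro i
    induction i with
    | zero =>
      intro l _ x hx
      rw [show W H₁ 0 = ⊥ from rfl, Submodule.mem_bot] at hx
      rw [hx, map_zero]
    | succ i ih =>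
      intro l hl x hx
      rw [← List.take_append_drop (i * n₂) l, List.map_append, List.prod_append, Module.End.mul_apply]
      exact ih _ (by simp [hl, Nat.succ_mul]) _ (step i _ (by simp [hl, Nat.succ_mul]) x hx)
  refine ⟨n₁ * n₂, fun f => LinearMap.ext fun x => ?_⟩
  have := hall n₁ (List.ofFn f) (by simp) x (by rw [W_top H₁ n₁ h₁]; trivial)
  rw [List.map_ofFn] at this
  exact this

end Groth.Agent.S17446
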