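import Mathlib.AlgebraicGeometry.Morphisms.Proper
import Mathlib.AlgebraicGeometry.Morphisms.Flat
import Mathlib.AlgebraicGeometry.Morphisms.Smooth
import Mathlib.AlgebraicGeometry.Geometrically.Connected
import Mathlib.AlgebraicGeometry.Fiber
import Mathlib.AlgebraicGeometry.Noetherian
import Mathlib.Topology.Sober
import Mathlib
import Groth.Agent.Lib.ZConn5.CountFlat
import Groth.Agent.Lib.GeomIrr18.Scheme

set_option autoImplicit false
universe u
set_option backward.isDefEq.respectTransparency.types false
open CategoryTheory CategoryTheory.Limits AlgebraicGeometry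
namespace Stein
end Stein
open Stein

namespace Groth.Agent.S17449

/-- Let S be a Noetherian scheme and f : X → S a proper, flat and surjective morphism. Suppose that for
every generic point η of an irreducible component of S the fibre of f at η is geometrically
connected and smooth over the residue field κ(η). Then every fibre of f is geometrically connected. -/
theorem result {X S : Scheme.{u}}
    (f : X ⟶ S) [IsProper f] [Flat f] [Surjective f] [IsNoetherian S]
    (h : ∀ (Z : Set ↑S) (η : ↑S), Z ∈ irreducibleComponents ↑S → IsGenericPoint η Z →
      GeometricallyConnected (f.fiberToSpecResidueField η) ∧ Smooth (f.fiberToSpecResidueField η)) :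
    GeometricallyConnected f := by
  haveI : LocallyOfFinitePresentation f := LocallyOfFinitePresentation.iff_locallyOfFiniteType.mpr inferInstance
  rw [GeometricallyConnected.iff_geometricallyConnected_fiber]
  intro s
  obtain ⟨η, hη⟩ : ∃ η, IsGenericPoint η (irreducibleComponent s) :=
    QuasiSober.sober isIrreducible_irreducibleComponent isClosed_irreducibleComponent
  haveI := (h _ η (irreducibleComponent_mem_irreducibleComponents s) hη).1
  obtain ⟨V, hV, hle⟩ := (ZConn5.count_local f s).1
  have hηV : η ∈ V := by
    obtain ⟨W, hWV, hWo, hsW⟩ := mem_nhds_iff.mp hV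
    exact hWV ((hη.specializes mem_irreducibleComponent).mem_open hWo hsW)
  haveI : ConnectedSpace ↥(MoreMor.geomFiber f η) :=
    GeometricallyConnected.geometrically_connectedSpace (f := f.fiberToSpecResidueField η) _ _ _
      (IsPullback.of_hasPullback _ _)
  have h1 : MoreMor.nGeomConnComp f η ≤ 1 :=
    (ENat.card_le_one_iff_subsingleton _).2
      ⟨fun a b => Quotient.inductionOn₂' a b fun x y => ConnectedComponents.coe_eq_coe'.2 (by
        rw [PreconnectedSpace.connectedComponent_eq_univ]; trivial)⟩
  haveI : Subsingleton (_root_.ConnectedComponents ↥(MoreMor.geomFiber f s)) :=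
    (ENat.card_le_one_iff_subsingleton _).1 ((hle η hηV).trans h1)
  haveI : PreconnectedSpace ↥(MoreMor.geomFiber f s) := preconnectedSpace_iff_connectedComponent.2 fun x =>
    Set.eq_univ_of_forall fun z => ConnectedComponents.coe_eq_coe'.1 (Subsingleton.elim _ _)
  haveI : Nonempty ↥(MoreMor.geomFiber f s) := by
    haveI : Surjective (f.fiberToSpecResidueField s) := MorphismProperty.pullback_snd (P := @Surjective) _ _ ‹_›
    haveI : Surjective (pullback.snd (f.fiberToSpecResidueField s)
        (Spec.map (CommRingCat.ofHom (algebraMap (S.residueField s) (SeparableClosure (S.residueField s)))))) :=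
      MorphismProperty.pullback_snd (P := @Surjective) _ _ ‹_›
    obtain ⟨z, -⟩ := Scheme.Hom.surjective (pullback.snd (f.fiberToSpecResidueField s)
        (Spec.map (CommRingCat.ofHom (algebraMap (S.residueField s) (SeparableClosure (S.residueField s))))))
      (IsLocalRing.closedPoint _)
    exact ⟨z⟩
  haveI : ConnectedSpace ↥(pullback (f.fiberToSpecResidueField s)
      (Spec.map (CommRingCat.ofHom (algebraMap (S.residueField s) (SeparableClosure (S.residueField s)))))) :=
    { toNonempty := ‹Nonempty ↥(MoreMor.geomFiber f s)›
      toPreconnectedSpace := ‹PreconnectedSpace ↥(MoreMor.geomFiber f s)› }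
  exact @GeomIrr.geometricallyConnected_of_bc (S.residueField s) _ _ (f.fiberToSpecResidueField s) (SeparableClosure (S.residueField s)) _ _ _ ‹ConnectedSpace ↥(pullback (f.fiberToSpecResidueField s) (Spec.map (CommRingCat.ofHom (algebraMap (S.residueField s) (SeparableClosure (S.residueField s))))))›

end Groth.Agent.S17449
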