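import Groth.Statements.S1745
import Groth.Agent.Lib.InjHull.BaseChange27
-- import your own Groth.Agent.* helpers here

set_option autoImplicit false
universe u
open scoped TensorProduct
open InjHull

namespace Groth.Agent.S1745

/-- Let A → B be a flat homomorphism of Noetherian rings such that for every prime q of B with
contraction p, the ideal p B_q equals the maximal ideal q B_q of B_q (for instance an étale map).
Then for every injective A-module I the B-module B ⊗_A I is injective. -/
theorem result (A B : Type u) [CommRing A] [CommRing B] [Algebra A B] [IsNoetherianRing A] [IsNoetherianRing B] [Module.Flat A B] (h : ∀ q : PrimeSpectrum B, Ideal.map (algebraMap B (Localization.AtPrime q.asIdeal)) ((q.asIdeal.comap (algebraMap A B)).map (algebraMap A B)) = IsLocalRing.maximalIdeal (Localization.AtPrime q.asIdeal)) (I : Type u) [AddCommGroup I] [Module A I] [Module.Injective A I] : Module.Injective B (B ⊗[A] I) := by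
  classical
  refine Module.Baer.injective fun J => ?_
  induction J using WellFoundedGT.induction with
  | _ J ih =>
  intro g
  by_cases hJ : J = ⊤
  · subst hJ
    exact ⟨g ∘ₗ (LinearEquiv.ofTop (⊤ : Ideal B) rfl).symm.toLinearMap, fun x hx => rfl⟩
  by_cases hq : J.IsPrime
  swap
  · obtain ⟨x, y, hxy, hx, hy⟩ : ∃ x y, x * y ∈ J ∧ x ∉ J ∧ y ∉ J := by
      by_contra! hcon
      exact hq ⟨hJ, fun {a b} hab => or_iff_not_imp_left.2 (hcon a b hab)⟩
    let K : Ideal B := Submodule.comap (LinearMap.mulRight B x) (J : Submodule B B)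
    have hJK : J < K := lt_of_le_not_ge (fun z hz => J.mul_mem_right x hz) fun hle => hy (hle (show y * x ∈ J by rwa [mul_comm]))
    let gK : K →ₗ[B] TensorProduct A B I := g ∘ₗ ((LinearMap.mulRight B x).restrict (fun z hz => hz) : K →ₗ[B] J)
    obtain ⟨φ, hφ⟩ := ih K hJK gK
    let P : (J × B) →ₗ[B] B := LinearMap.coprod J.subtype (LinearMap.toSpanSingleton B B x)
    let G : (J × B) →ₗ[B] TensorProduct A B I := LinearMap.coprod g φ
    have hker : LinearMap.ker P ≤ LinearMap.ker G := fun ⟨j, t⟩ hz => by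
      simp only [P, LinearMap.mem_ker, LinearMap.coprod_apply, LinearMap.toSpanSingleton_apply, Submodule.subtype_apply,
        smul_eq_mul] at hz
      have htK : t ∈ K := show t * x ∈ J by rw [eq_neg_of_add_eq_zero_right hz]; exact neg_mem j.2
      simp only [G, LinearMap.mem_ker, LinearMap.coprod_apply]
      rw [hφ t htK]
      show g j + g ⟨t * x, htK⟩ = 0
      rw [← map_add, show (j + ⟨t * x, htK⟩ : J) = 0 from Subtype.ext hz, map_zero]
    have hlt : J < LinearMap.range P := lt_of_le_not_ge (fun z hz => ⟨(⟨z, hz⟩, 0), by simp [P]⟩)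
      fun hle => hx (hle ⟨(0, 1), by simp [P]⟩)
    obtain ⟨ψ, hψ⟩ := ih _ hlt (Submodule.liftQ _ G hker ∘ₗ P.quotKerEquivRange.symm.toLinearMap)
    refine ⟨ψ, fun z hz => ?_⟩
    rw [hψ z ⟨(⟨z, hz⟩, 0), by simp [P]⟩, LinearMap.comp_apply, LinearEquiv.coe_coe,
      show (⟨z, ⟨(⟨z, hz⟩, 0), by simp [P]⟩⟩ : LinearMap.range P) = P.quotKerEquivRange (Submodule.Quotient.mk (⟨z, hz⟩, 0))
        from Subtype.ext (by simp [P]), LinearEquiv.symm_apply_apply, Submodule.liftQ_apply]
    simp [G]
  -- the prime case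
  let q : PrimeSpectrum B := ⟨J, hq⟩
  let p : Ideal A := J.comap (algebraMap A B)
  obtain ⟨s, hs, hsJ⟩ : ∃ s ∉ J, ∀ z ∈ J, z * s ∈ p.map (algebraMap A B) := by
    obtain ⟨t, ht⟩ := J.fg_of_isNoetherianRing
    have hz : ∀ z : t, ∃ s ∉ J, (z : B) * s ∈ p.map (algebraMap A B) := fun z => by
      have hm : algebraMap B (Localization.AtPrime J) z ∈
          (p.map (algebraMap A B)).map (algebraMap B (Localization.AtPrime J)) := by
        rw [show (p.map (algebraMap A B)).map (algebraMap B (Localization.AtPrime J)) =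
          IsLocalRing.maximalIdeal (Localization.AtPrime J) from h q, ← Localization.AtPrime.map_eq_maximalIdeal]
        exact Ideal.mem_map_of_mem _ (ht ▸ Ideal.subset_span z.2)
      obtain ⟨s, hs, hsz⟩ := (IsLocalization.algebraMap_mem_map_algebraMap_iff J.primeCompl _ _ _).1 hm
      exact ⟨s, hs, by rwa [mul_comm]⟩
    choose s hs hsz using hz
    refine ⟨∏ z, s z, fun hmem => ?_, fun z hz => ?_⟩
    · obtain ⟨z, -, hz⟩ := (Ideal.IsPrime.prod_mem_iff (hp := hq)).1 hmem
      exact hs z hz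
    rw [← ht] at hz
    refine Submodule.span_induction (p := fun z _ => z * ∏ w, s w ∈ p.map (algebraMap A B)) ?_ (by simp)
      (fun a b _ _ ha hb => by simpa [add_mul] using add_mem ha hb)
      (fun a b _ hb => by simpa [smul_eq_mul, mul_assoc] using Ideal.mul_mem_left _ a hb) hz
    intro z hz
    rw [← Finset.mul_prod_erase _ s (Finset.mem_univ (⟨z, hz⟩ : t)), ← mul_assoc]
    exact Ideal.mul_mem_right _ _ (hsz ⟨z, hz⟩)
  have hpJ : p.map (algebraMap A B) ≤ J := Ideal.map_comap_le
  -- extend `g` on `pB`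
  obtain ⟨m, hm⟩ : ∃ m : TensorProduct A B I, ∀ (z : B) (hz : z ∈ p.map (algebraMap A B)), g ⟨z, hpJ hz⟩ = z • m := by
    let μ : TensorProduct A B p →ₗ[B] J := LinearMap.codRestrict J
      (TensorProduct.AlgebraTensorModule.lift (LinearMap.toSpanSingleton B (p →ₗ[A] B)
        ((Algebra.linearMap A B) ∘ₗ p.subtype))) fun z => by
      induction z with
      | zero => simp
      | tmul b t =>
        simp only [TensorProduct.AlgebraTensorModule.lift_tmul, LinearMap.toSpanSingleton_apply, LinearMap.smul_apply,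
          LinearMap.comp_apply, Submodule.subtype_apply, Algebra.linearMap_apply, smul_eq_mul]
        exact J.mul_mem_left b t.2
      | add a b ha hb => rw [map_add]; exact add_mem ha hb
    have hμ : ∀ t : p, μ (1 ⊗ₜ[A] t) = ⟨algebraMap A B t, t.2⟩ := fun t => Subtype.ext (by simp [μ])
    obtain ⟨e, he⟩ := Groth.Agent.InjHullLib.exists_homEquiv (A := A) (B := B) (E := I) p
    obtain ⟨z, hz⟩ := e.surjective (g ∘ₗ μ)
    obtain ⟨y, hy⟩ : ∃ y, ∀ t : p, e z (1 ⊗ₜ[A] t) = algebraMap A B t • y := by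
      clear hz
      induction z using TensorProduct.induction_on with
      | zero => exact ⟨0, fun t => by simp⟩
      | tmul b φ =>
        obtain ⟨ψ, hψ⟩ := Module.Baer.of_injective (inferInstanceAs (Module.Injective A I)) p φ
        refine ⟨b • (1 ⊗ₜ[A] ψ 1), fun t => ?_⟩
        rw [he, LinearMap.smul_apply, LinearMap.baseChange_tmul,
          show φ t = (t : A) • ψ 1 by rw [← map_smul, smul_eq_mul, mul_one]; exact (hψ t t.2).symm,
          TensorProduct.tmul_smul, algebraMap_smul]
        exact smul_comm b (t : A) ((1 : B) ⊗ₜ[A] ψ 1)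
      | add a b ha hb =>
        obtain ⟨u, hu⟩ := ha
        obtain ⟨v, hv⟩ := hb
        exact ⟨u + v, fun t => by rw [map_add, LinearMap.add_apply, hu, hv, smul_add]⟩
    refine ⟨y, fun z' hz' => ?_⟩
    refine Submodule.span_induction (p := fun w hw => g ⟨w, hpJ hw⟩ = w • y) ?_ ?_ ?_ ?_ hz'
    · rintro _ ⟨t, ht, rfl⟩
      rw [← hy ⟨t, ht⟩, hz, LinearMap.comp_apply, hμ ⟨t, ht⟩]
    · rw [zero_smul]; exact map_zero g
    · intro a b ha hb ea eb
      rw [add_smul, ← ea, ← eb, ← map_add]
      rfl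
    · intro a b hb eb
      rw [smul_assoc, ← eb, ← map_smul]
      rfl
  let g' : J →ₗ[B] TensorProduct A B I := g - (LinearMap.toSpanSingleton B _ m) ∘ₗ J.subtype
  have hg' : ∀ (z : J), g' z = g z - (z : B) • m := fun z => rfl
  have hkill : ∀ (t : B) (ht : t * s ∈ J), g' ⟨t * s, ht⟩ = 0 := fun t ht => by
    rw [hg', hm _ (hsJ t ((hq.mem_or_mem ht).resolve_right hs)), sub_self]
  let P : (J × B) →ₗ[B] B := LinearMap.coprod J.subtype (LinearMap.toSpanSingleton B B s)
  let G : (J × B) →ₗ[B] TensorProduct A B I := g' ∘ₗ LinearMap.fst B J B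
  have hker : LinearMap.ker P ≤ LinearMap.ker G := fun ⟨j, t⟩ hz => by
    simp only [P, LinearMap.mem_ker, LinearMap.coprod_apply, LinearMap.toSpanSingleton_apply, Submodule.subtype_apply,
      smul_eq_mul] at hz
    have htJ : t * s ∈ J := by rw [eq_neg_of_add_eq_zero_right hz]; exact neg_mem j.2
    show g' j = 0
    rw [show j = -⟨t * s, htJ⟩ from Subtype.ext (eq_neg_of_add_eq_zero_left hz), map_neg, hkill, neg_zero]
  have hlt : J < LinearMap.range P := lt_of_le_not_ge (fun z hz => ⟨(⟨z, hz⟩, 0), by simp [P]⟩)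
    fun hle => hs (hle ⟨(0, 1), by simp [P]⟩)
  obtain ⟨ψ, hψ⟩ := ih _ hlt (Submodule.liftQ _ G hker ∘ₗ P.quotKerEquivRange.symm.toLinearMap)
  refine ⟨ψ + LinearMap.toSpanSingleton B _ m, fun z hz => ?_⟩
  rw [LinearMap.add_apply, hψ z ⟨(⟨z, hz⟩, 0), by simp [P]⟩, LinearMap.comp_apply, LinearEquiv.coe_coe,
    show (⟨z, ⟨(⟨z, hz⟩, 0), by simp [P]⟩⟩ : LinearMap.range P) = P.quotKerEquivRange (Submodule.Quotient.mk (⟨z, hz⟩, 0))
      from Subtype.ext (by simp [P]), LinearEquiv.symm_apply_apply, Submodule.liftQ_apply]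
  show g' ⟨z, hz⟩ + z • m = g ⟨z, hz⟩
  rw [hg', sub_add_cancel]

end Groth.Agent.S1745
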