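import Groth.Statements.S17450
import Groth.Agent.Lib.Semiab15.Finite
import Groth.Agent.Lib.FrobSub19.Basic
-- import your own Groth.Agent.* helpers here

set_option autoImplicit false
universe u
open CategoryTheory MonoidalCategory CartesianMonoidalCategory MonObj GrpObj AlgebraicGeometry CategoryTheory.Limits
open AlgGrp

namespace Groth.Agent.S17450

/-- Let k be a field with algebraic closure K and G a semi-abelian variety over k, that is, a smooth
connected commutative k-group scheme of finite type whose base change to K is an extension of an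
abelian variety by a torus (there are a closed subgroup scheme T of G_K which is a torus and a flat
surjective homomorphism from G_K onto a proper smooth connected K-group scheme with kernel T). Let H
be a closed subgroup scheme of G and ℓ a prime number such that the ℓ-torsion subgroup scheme H[ℓ]
is trivial: every point h of H with values in any k-scheme satisfying h^ℓ = 1 is the unit. Then H is
finite over k. -/
theorem result (k : Type u) [Field k]
    (G : Over (Spec (CommRingCat.of k))) [GrpObj G] [IsCommMonObj G] [Smooth G.hom] [QuasiCompact G.hom]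
    [ConnectedSpace ↥G.left]
    (hK : (∃ (T : Over (Spec (CommRingCat.of (AlgebraicClosure k)))) (_ : GrpObj T) (i : T ⟶ Red.bc (Spec.map (CommRingCat.ofHom (algebraMap k (AlgebraicClosure k)))) G) (A : Over (Spec (CommRingCat.of (AlgebraicClosure k)))) (_ : GrpObj A) (q : Red.bc (Spec.map (CommRingCat.ofHom (algebraMap k (AlgebraicClosure k)))) G ⟶ A),
        IsMonHom i ∧ IsClosedImmersion i.left ∧ Red.IsTorus T ∧ IsMonHom q ∧ Surjective q.left ∧ Flat q.left ∧
        AlgGrp.IsKernel i q ∧ IsProper A.hom ∧ Smooth A.hom ∧ ConnectedSpace ↥A.left))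
    (H : Over (Spec (CommRingCat.of k))) [GrpObj H] (j : H ⟶ G) [IsMonHom j] [IsClosedImmersion j.left]
    (ℓ : ℕ) (hℓ : ℓ.Prime)
    (htors : ∀ (Y : Over (Spec (CommRingCat.of k))) (h : Y ⟶ H), h ^ ℓ = 1 → h = 1) :
    IsFinite H.hom := by
  let K := AlgebraicClosure k
  let φ : Spec (CommRingCat.of K) ⟶ Spec (CommRingCat.of k) := Spec.map (CommRingCat.ofHom (algebraMap k K))
  haveI : LocallyOfFiniteType (Red.bc φ G).hom := inferInstanceAs (LocallyOfFiniteType (pullback.snd G.hom φ))
  haveI : QuasiCompact (Red.bc φ G).hom := inferInstanceAs (QuasiCompact (pullback.snd G.hom φ))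
  haveI : IsSeparated G.hom := AbRigid.isSeparated_of_grpObj G
  haveI : LocallyOfFiniteType H.hom := by rw [← Over.w j]; infer_instance
  haveI : IsSeparated H.hom := AbRigid.isSeparated_of_grpObj H
  haveI : IsClosedImmersion ((Over.pullback φ).map j).left := Groth.Agent.FrobSub19.isClosedImmersion_map φ j inferInstance
  haveI : IsFinite (Red.bc φ H).hom := by
    refine Groth.Agent.Semiab15.isFinite_of_noTor (G := Red.bc φ G) hK ((Over.pullback φ).map j) hℓ fun Y h hh => ?_
    apply Groth.Agent.DiagGL.fl_injective φ H
    rw [Groth.Agent.MTRigid29.fl_one]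
    exact htors _ _ (by rw [← Groth.Agent.TorusIsog19.fl_pow, hh, Groth.Agent.MTRigid29.fl_one])
  haveI : Finite (Red.bc φ H).left := Set.finite_univ_iff.1 <|
    ((Red.bc φ H).hom.finite_preimage_singleton (IsLocalRing.closedPoint K)).subset
      fun z _ => Subsingleton.elim (α := PrimeSpectrum K) _ _
  haveI : Surjective φ := ⟨fun z => ⟨IsLocalRing.closedPoint K, Subsingleton.elim _ _⟩⟩
  haveI : Surjective (pullback.fst H.hom φ) := inferInstance
  haveI : Finite H.left := Finite.of_surjective (α := (Red.bc φ H).left) _ (pullback.fst H.hom φ).surjective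
  haveI : CompactSpace H.left := ⟨Set.finite_univ.isCompact⟩
  haveI : QuasiCompact H.hom := HasAffineProperty.iff_of_isAffine.mpr ‹CompactSpace H.left›
  haveI : LocallyQuasiFinite H.hom := LocallyQuasiFinite.of_finite_preimage_singleton H.hom fun y => Set.toFinite _
  exact Groth.Agent.DegRank.isFinite_of_finite H.hom

end Groth.Agent.S17450
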