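import Groth.Statements.S17453
import Groth.Agent.Lib.Semiab15.SubExt
import Groth.Agent.Lib.IsogTransfer19.Main
-- import your own Groth.Agent.* helpers here

set_option autoImplicit false
universe u
open CategoryTheory MonoidalCategory CartesianMonoidalCategory MonObj GrpObj AlgebraicGeometry CategoryTheory.Limits
open AlgGrp

namespace Groth.Agent.S17453

/-- Let k be a field with algebraic closure K and 1 → G' → G → G'' → 1 a short exact sequence of smooth
connected k-group schemes of finite type: G' → G is a homomorphism and a closed immersion, G → G''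
is a flat surjective homomorphism, and G' is its kernel. Say that such a group is semi-abelian when
its base change to K, modulo a suitable torus, is an abelian variety (there are a closed subgroup
scheme of the base change which is a torus and a flat surjective homomorphism onto a proper smooth
connected K-group scheme with that kernel); commutativity is not assumed, it follows. Then G is
semi-abelian exactly when both G' and G'' are semi-abelian. -/
theorem result (k : Type u) [Field k]
    (G' G G'' : Over (Spec (CommRingCat.of k))) [GrpObj G'] [GrpObj G] [GrpObj G'']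
    [Smooth G'.hom] [QuasiCompact G'.hom] [ConnectedSpace ↥G'.left]
    [Smooth G.hom] [QuasiCompact G.hom] [ConnectedSpace ↥G.left]
    [Smooth G''.hom] [QuasiCompact G''.hom] [ConnectedSpace ↥G''.left]
    (j : G' ⟶ G) [IsMonHom j] [IsClosedImmersion j.left]
    (p : G ⟶ G'') [IsMonHom p] [Surjective p.left] [Flat p.left] (hex : AlgGrp.IsKernel j p) :
    (∃ (T : Over (Spec (CommRingCat.of (AlgebraicClosure k)))) (_ : GrpObj T) (i : T ⟶ Red.bc (Spec.map (CommRingCat.ofHom (algebraMap k (AlgebraicClosure k)))) G) (A : Over (Spec (CommRingCat.of (AlgebraicClosure k)))) (_ : GrpObj A) (q : Red.bc (Spec.map (CommRingCat.ofHom (algebraMap k (AlgebraicClosure k)))) G ⟶ A),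
        IsMonHom i ∧ IsClosedImmersion i.left ∧ Red.IsTorus T ∧ IsMonHom q ∧ Surjective q.left ∧ Flat q.left ∧
        AlgGrp.IsKernel i q ∧ IsProper A.hom ∧ Smooth A.hom ∧ ConnectedSpace ↥A.left) ↔
    ((∃ (T : Over (Spec (CommRingCat.of (AlgebraicClosure k)))) (_ : GrpObj T) (i : T ⟶ Red.bc (Spec.map (CommRingCat.ofHom (algebraMap k (AlgebraicClosure k)))) G') (A : Over (Spec (CommRingCat.of (AlgebraicClosure k)))) (_ : GrpObj A) (q : Red.bc (Spec.map (CommRingCat.ofHom (algebraMap k (AlgebraicClosure k)))) G' ⟶ A),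
        IsMonHom i ∧ IsClosedImmersion i.left ∧ Red.IsTorus T ∧ IsMonHom q ∧ Surjective q.left ∧ Flat q.left ∧
        AlgGrp.IsKernel i q ∧ IsProper A.hom ∧ Smooth A.hom ∧ ConnectedSpace ↥A.left) ∧
     (∃ (T : Over (Spec (CommRingCat.of (AlgebraicClosure k)))) (_ : GrpObj T) (i : T ⟶ Red.bc (Spec.map (CommRingCat.ofHom (algebraMap k (AlgebraicClosure k)))) G'') (A : Over (Spec (CommRingCat.of (AlgebraicClosure k)))) (_ : GrpObj A) (q : Red.bc (Spec.map (CommRingCat.ofHom (algebraMap k (AlgebraicClosure k)))) G'' ⟶ A),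
        IsMonHom i ∧ IsClosedImmersion i.left ∧ Red.IsTorus T ∧ IsMonHom q ∧ Surjective q.left ∧ Flat q.left ∧
        AlgGrp.IsKernel i q ∧ IsProper A.hom ∧ Smooth A.hom ∧ ConnectedSpace ↥A.left)) := by
  let K := AlgebraicClosure k
  let φ : Spec (CommRingCat.of K) ⟶ Spec (CommRingCat.of k) := Spec.map (CommRingCat.ofHom (algebraMap k K))
  let P := Over.pullback φ
  haveI : Smooth (Red.bc φ G').hom := Groth.Agent.BorelFix21.smooth_bc φ G'
  haveI : Smooth (Red.bc φ G).hom := Groth.Agent.BorelFix21.smooth_bc φ G
  haveI : Smooth (Red.bc φ G'').hom := Groth.Agent.BorelFix21.smooth_bc φ G''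
  haveI : ConnectedSpace ↥(Red.bc φ G').left := Groth.Agent.BorelFix21.connectedSpace_bc φ G'
  haveI : ConnectedSpace ↥(Red.bc φ G).left := Groth.Agent.BorelFix21.connectedSpace_bc φ G
  haveI : ConnectedSpace ↥(Red.bc φ G'').left := Groth.Agent.BorelFix21.connectedSpace_bc φ G''
  haveI : QuasiCompact (Red.bc φ G').hom := inferInstanceAs (QuasiCompact (pullback.snd G'.hom φ))
  haveI : QuasiCompact (Red.bc φ G).hom := inferInstanceAs (QuasiCompact (pullback.snd G.hom φ))
  haveI : QuasiCompact (Red.bc φ G'').hom := inferInstanceAs (QuasiCompact (pullback.snd G''.hom φ))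
  haveI : LocallyOfFiniteType (Red.bc φ G').hom := inferInstance
  haveI : LocallyOfFiniteType (Red.bc φ G).hom := inferInstance
  haveI : LocallyOfFiniteType (Red.bc φ G'').hom := inferInstance
  haveI : IsMonHom (P.map j) := inferInstance
  haveI : IsMonHom (P.map p) := inferInstance
  haveI : IsClosedImmersion (P.map j).left := Groth.Agent.BorelFix21.isClosedImmersion_bc φ j
  haveI : Flat (P.map p).left :=
    MorphismProperty.of_isPullback (P := @Flat) (Groth.Agent.BorelFix21.isPullback_bc_map φ p) ‹_›
  haveI : Surjective (P.map p).left :=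
    MorphismProperty.of_isPullback (P := @Surjective) (Groth.Agent.BorelFix21.isPullback_bc_map φ p) ‹_›
  have hk := Groth.Agent.TorusSlice15.isKernel_bc j p hex φ
  have hcomm : ∀ {X : Over (Spec (CommRingCat.of K))} [GrpObj X] [LocallyOfFiniteType X.hom] [QuasiCompact X.hom],
      Groth.Agent.Semiab15.IsSA X → IsCommMonObj X := fun {X} _ _ _ hX => by
    obtain ⟨T, _, i, A, _, q, hi, hic, hT, hq, hqs, hqf, hkq, hAp, hAs, hAc⟩ := hX
    haveI := hi; haveI := hic; haveI := hq; haveI := hqs; haveI := hqf; haveI := hAp; haveI := hAs; haveI := hAc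
    exact Groth.Agent.TorusSlice15.isCommMonObj i q hkq hT
  constructor
  · intro hG
    haveI := hcomm hG
    refine ⟨Groth.Agent.Semiab15.isSA_sub (G := Red.bc φ G) (B := Red.bc φ G') hG (P.map j), ?_⟩
    haveI : IsCommMonObj (Red.bc φ G'') := by
      haveI := Groth.Agent.Semiab15.qc_left (P.map p)
      exact Groth.Agent.IsogTransfer19.isCommMonObj_of_cover (P.map p)
    obtain ⟨I, _, m, p', hm, hmc, hp', hps, hpm, hI⟩ := Groth.Agent.Semiab15.isSA_image (G := Red.bc φ G'') hG (P.map p)
    haveI := hm; haveI := hmc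
    haveI : Surjective m.left := by
      haveI : Surjective (p'.left ≫ m.left) := by rw [← Over.comp_left, hpm]; infer_instance
      exact Surjective.of_comp p'.left m.left
    haveI : IsReduced (Red.bc φ G'').left := Groth.Agent.OrbitTop19.isReduced_of_smooth (Red.bc φ G'').hom
    haveI : IsIso m.left := isIso_of_isClosedImmersion_of_surjective m.left
    haveI : IsIso ((Over.forget _).map m) := ‹IsIso m.left›
    haveI : IsIso m := isIso_of_reflects_iso m (Over.forget _)
    haveI : IsMonHom (inv m) := by rw [← asIso_inv]; infer_instance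
    exact Groth.Agent.Semiab15.isSA_of_iso hI (inv m)
  · rintro ⟨h', h''⟩
    haveI := hcomm h''
    haveI := Groth.Agent.Semiab15.isCommMonObj_ext (P := Red.bc φ G) (R := Red.bc φ G'') h' (P.map j) (P.map p) hk
    exact Groth.Agent.Semiab15.isSA_ext (P := Red.bc φ G) (R := Red.bc φ G'') h' h'' (P.map j) (P.map p) hk

end Groth.Agent.S17453
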