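import Groth.Statements.S17456
import Groth.Agent.Lib.TorsTorus15.Main
-- import your own Groth.Agent.* helpers here

set_option autoImplicit false
universe u
open CategoryTheory MonoidalCategory CartesianMonoidalCategory MonObj GrpObj AlgebraicGeometry CategoryTheory.Limits
open AlgGrp

namespace Groth.Agent.S17456

/-- Let k be a field and G a smooth connected commutative k-group scheme of finite type which is an
extension of an abelian variety B of dimension a by a torus T of dimension t: T → G is a
homomorphism and a closed immersion with T a torus, G → B is a flat surjective homomorphism onto a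
proper smooth connected k-group scheme, and T is its kernel. Then for every integer N ≥ 1, the
characteristic of k being allowed to divide N, the N-torsion subgroup scheme G[N] (the kernel of
multiplication by N on G) is finite locally free over Spec k of degree N^(t + 2a). (In the source G
is the identity component of the special fibre of the Néron model of an abelian variety with
semistable reduction, which is such an extension.) -/
theorem result (k : Type u) [Field k]
    (G T B : Over (Spec (CommRingCat.of k))) [GrpObj G] [IsCommMonObj G] [GrpObj T] [GrpObj B]
    [Smooth G.hom] [QuasiCompact G.hom] [ConnectedSpace ↥G.left]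
    (i : T ⟶ G) [IsMonHom i] [IsClosedImmersion i.left] (hT : Red.IsTorus T)
    (q : G ⟶ B) [IsMonHom q] [Surjective q.left] [Flat q.left] (hk : AlgGrp.IsKernel i q)
    [IsProper B.hom] [Smooth B.hom] [ConnectedSpace ↥B.left]
    (t a : ℕ) (ht : topologicalKrullDim ↥T.left = t) (ha : topologicalKrullDim ↥B.left = a)
    (N : ℕ) (hN : 0 < N)
    (K : Over (Spec (CommRingCat.of k))) [GrpObj K] (κ : K ⟶ G) [IsMonHom κ]
    (hK : AlgGrp.IsKernel κ ((𝟙 G) ^ N)) :
    Mor2.IsFinLocFreeOfDeg (N ^ (t + 2 * a)) K.hom := by
  exact TorsTorus15.torsion_deg G T B i hT q hk t a ht ha N hN K κ hK


end Groth.Agent.S17456
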