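import Groth.Statements.S17459
import Groth.Agent.Lib.NeronIsog19.Neron
import Groth.Agent.Lib.FibDim14.Semicont
import Groth.Agent.Lib.FibDim14.BaseChange
-- import your own Groth.Agent.* helpers here

set_option autoImplicit false
universe u
open CategoryTheory CategoryTheory.Limits AlgebraicGeometry MonObj
open SGA7
open MonoidalCategory CartesianMonoidalCategory

namespace Groth.Agent.S17459

set_option linter.style.haveILetI false
set_option backward.isDefEq.respectTransparency.types false


/-- Let R be a discrete valuation ring with fraction field K, let N and N' be group schemes over Spec R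
which are Néron models of their generic fibres A = N_K and B = N'_K, abelian varieties (proper and
geometrically integral) of the same dimension, and let u : N → N' be a homomorphism (the extension
of u_K : A → B). If the homomorphism induced by u on the special fibres is locally quasi-finite — as
it is when it restricts to an isogeny between the identity components, the printed hypothesis, which
also forces dim A = dim B — then u_K is an isogeny: its underlying map is surjective and its kernel
is finite. -/
theorem result (R K : Type u) [CommRing R] [IsDomain R]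
    [IsDiscreteValuationRing R] [Field K] [Algebra R K] [IsFractionRing R K]
    (N N' : Over (Spec (CommRingCat.of R))) [GrpObj N] [GrpObj N']
    (hN : SGA7.IsNeron R K N) (hN' : SGA7.IsNeron R K N')
    [IsProper ((SGA7.genFib R K).obj N).hom] [GeometricallyIntegral ((SGA7.genFib R K).obj N).hom]
    [IsProper ((SGA7.genFib R K).obj N').hom] [GeometricallyIntegral ((SGA7.genFib R K).obj N').hom]
    (hdim : topologicalKrullDim ↥((SGA7.genFib R K).obj N).left = topologicalKrullDim ↥((SGA7.genFib R K).obj N').left)
    (u : N ⟶ N') [IsMonHom u]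
    [LocallyQuasiFinite (SGA7.fibreHom (IsLocalRing.closedPoint R) u).left] :
    SGA7.IsIsogenyOver ((SGA7.genFib R K).map u) := by
  classical
  obtain ⟨hsm, hsep, hqc, -⟩ := hN
  obtain ⟨hsm', hsep', hqc', -⟩ := hN'
  haveI := hsm; haveI := hsep; haveI := hqc; haveI := hsm'; haveI := hsep'; haveI := hqc'
  let S := Spec (CommRingCat.of R)
  let y₀ : ↥S := IsLocalRing.closedPoint R
  let g : Spec (CommRingCat.of K) ⟶ S := Spec.map (CommRingCat.ofHom (algebraMap R K))
  let A := (SGA7.genFib R K).obj N
  let B := (SGA7.genFib R K).obj N'
  let uK : A ⟶ B := (SGA7.genFib R K).map u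
  haveI : LocallyOfFiniteType u.left := by
    haveI : LocallyOfFiniteType (u.left ≫ N'.hom) := by rw [Over.w]; infer_instance
    exact locallyOfFiniteType_of_comp u.left N'.hom
  haveI : QuasiCompact u.left := by
    haveI : QuasiCompact (u.left ≫ N'.hom) := by rw [Over.w]; infer_instance
    exact QuasiCompact.of_comp u.left N'.hom
  have sqK : IsPullback (pullback.fst N.hom g) uK.left u.left (pullback.fst N'.hom g) :=
    GrpFin20.isPullback_map g u
  have sqS : IsPullback (pullback.fst N.hom (S.fromSpecResidueField y₀)) (SGA7.fibreHom y₀ u).left u.left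
      (pullback.fst N'.hom (S.fromSpecResidueField y₀)) := GrpFin20.isPullback_map (S.fromSpecResidueField y₀) u
  haveI : LocallyOfFiniteType uK.left := MorphismProperty.of_isPullback sqK ‹_›
  haveI : QuasiCompact uK.left := MorphismProperty.of_isPullback sqK ‹_›
  haveI : LocallyOfFiniteType (SGA7.fibreHom y₀ u).left := MorphismProperty.of_isPullback sqS ‹_›
  -- zero fibre dimension at the unit of the special fibre
  let e : ↥N.left := η[N].left.base y₀
  have he : FlatMor.fibreDimAt u.left e ≤ ((0 : ℕ) : WithBot ℕ∞) := by
    let z := η[(Over.pullback (S.fromSpecResidueField y₀)).obj N].left.base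
      (IsLocalRing.closedPoint (S.residueField y₀))
    have hz : pullback.fst N.hom (S.fromSpecResidueField y₀) z = e := by
      rw [← Scheme.Hom.comp_apply, GrpNeutral20.unit_fst N (S.fromSpecResidueField y₀), Scheme.Hom.comp_apply]
      exact congrArg η[N].left.base (Scheme.fromSpecResidueField_apply _ _)
    have h := (GrpUnr20.locallyQuasiFinite_iff (SGA7.fibreHom y₀ u).left).1 inferInstance z
    rw [FibDim14.fibreDimAt_baseChange sqS z, hz] at h
    rw [h]; rfl
  let eK : ↥A.left := η[A].left.base (IsLocalRing.closedPoint K)
  have heK : FlatMor.fibreDimAt uK.left eK ≤ ((0 : ℕ) : WithBot ℕ∞) := by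
    rw [FibDim14.fibreDimAt_baseChange sqK eK]
    have hsp : pullback.fst N.hom g eK ⤳ e := by
      have e1 : pullback.fst N.hom g eK = η[N].left.base (g.base (IsLocalRing.closedPoint K)) := by
        rw [← Scheme.Hom.comp_apply]
        show (η[(Over.pullback g).obj N].left ≫ pullback.fst N.hom g) _ = _
        rw [GrpNeutral20.unit_fst N g, Scheme.Hom.comp_apply]
      rw [e1]
      exact (IsLocalRing.specializes_closedPoint _).map η[N].left.continuous
    exact hsp.mem_open (FibDim14.isOpen_fibreDimAt_le u.left 0) he
  haveI : IsSeparated B.hom := inferInstance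
  haveI : IsProper uK.left := by
    haveI : IsProper (uK.left ≫ B.hom) := by rw [Over.w]; infer_instance
    exact IsProper.of_comp uK.left B.hom
  -- kernels are quasi-finite
  have hker : ∀ (M : Over (Spec (CommRingCat.of K))) (i : M ⟶ A), AlgGrp.IsKernel i uK →
      LocallyQuasiFinite M.hom := by
    intro M i hi
    obtain ⟨_, hiM⟩ := GrpDim20.exists_grpObj_kernel uK i hi
    haveI := hiM
    haveI : LocallyOfFiniteType M.hom := GrpUnr20.kernel_hom uK i hi (P := @LocallyOfFiniteType) inferInstance
    refine (GrpUnr20.locallyQuasiFinite_iff M.hom).2 fun x => ?_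
    have hM : M.hom = (toUnit M).left := (Over.w (toUnit M)).symm.trans (Category.comp_id _)
    have sq : IsPullback i.left M.hom uK.left η[B].left := by
      rw [hM]; exact IsPullback.map (Over.forget _) hi
    let eM : ↥M.left := η[M].left.base (IsLocalRing.closedPoint K)
    have heM : i.left eM = eK := by
      rw [← Scheme.Hom.comp_apply, ← Over.comp_left, IsMonHom.one_hom i]
    have h0 : FlatMor.fibreDimAt M.hom eM ≤ ((0 : ℕ) : WithBot ℕ∞) := by
      rw [FibDim14.fibreDimAt_baseChange sq eM, heM]; exact heK
    rw [GrpDim20.fibreDimAt_point, GrpCM20.localDim_eq] at h0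
    rw [GrpDim20.fibreDimAt_point, GrpCM20.localDim_eq]
    obtain ⟨d, hd⟩ := NeronIsog19.exists_dim_eq M
    rw [hd] at h0 ⊢
    have : d = 0 := Nat.le_zero.1 (by exact_mod_cast h0)
    rw [this]; rfl
  let i₀ := pullback.fst uK η[B]
  have hi₀ : AlgGrp.IsKernel i₀ uK := by
    show IsPullback i₀ (toUnit _) uK η[B]
    rw [toUnit_unique (toUnit _) (pullback.snd uK η[B])]
    exact IsPullback.of_hasPullback uK η[B]
  haveI : LocallyQuasiFinite uK.left := GrpUnr20.locallyQuasiFinite_of_kernel uK i₀ hi₀ (hker _ _ hi₀)
  refine ⟨?_, fun M i hi => ?_⟩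
  · haveI : IsIntegral B.left := GeometricallyIntegral.isIntegral_of_subsingleton B.hom
    haveI : Flat uK.left := NeronIsog19.flat_of_locallyQuasiFinite A B uK hdim
    haveI : IsLocallyNoetherian B.left := LocallyOfFiniteType.isLocallyNoetherian B.hom
    haveI : LocallyOfFinitePresentation uK.left := VarDim.locallyOfFinitePresentation_of_locallyNoetherian uK.left
    have hc : IsClopen (Set.range uK.left.base) :=
      ⟨uK.left.isClosedMap.isClosed_range, uK.left.isOpenMap.isOpen_range⟩
    exact ⟨fun b => (hc.eq_univ ⟨_, η[A].left.base (IsLocalRing.closedPoint K), rfl⟩).ge trivial⟩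
  · haveI := hker M i hi
    haveI : IsProper M.hom := GrpUnr20.kernel_hom uK i hi (P := @IsProper) inferInstance
    exact IsFinite.of_isProper_of_locallyQuasiFinite M.hom

end Groth.Agent.S17459
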