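import Groth.Statements.S17463
import Mathlib

set_option autoImplicit false
universe u v w
open SSRed

namespace Groth.Agent.S17463

/-- Let K be a field of characteristic zero, V a K-vector space, G a group with a K-linear action ρ : G
→ GL(V) such that every ρ(g) is unipotent (ρ(g) - 1 is nilpotent), and H a subgroup of G of finite
index. Then the H-invariants equal the G-invariants: a vector fixed by every element of H is fixed
by every element of G. (In the source G and H are the absolute Galois groups of K and of a finite
extension K', acting unipotently on the rational ℓ-adic Tate module of an abelian variety.) -/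
theorem result (K : Type u) (V : Type v) (G : Type w) [Field K] [CharZero K]
    [AddCommGroup V] [Module K V] [Group G] (ρ : G →* (V ≃ₗ[K] V))
    (hunip : ∀ g : G, IsNilpotent (((ρ g : V ≃ₗ[K] V) : Module.End K V) - 1))
    (H : Subgroup G) [H.FiniteIndex] (v : V) (hv : ∀ h ∈ H, ρ h v = v) (g : G) :
    ρ g v = v := by
  obtain ⟨m, hm0, -, hm⟩ := H.exists_pow_mem_of_index_ne_zero Subgroup.FiniteIndex.index_ne_zero g
  set T : Module.End K V := ((ρ g : V ≃ₗ[K] V) : Module.End K V) with hT
  obtain ⟨N, hN⟩ : ∃ N, N = T - 1 := ⟨_, rfl⟩
  have hnil : IsNilpotent N := hN ▸ hunip g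
  have hTm : (T ^ m) v = v := by
    have hpow : ∀ j : ℕ, ((ρ (g ^ j) : V ≃ₗ[K] V) : Module.End K V) = T ^ j := by
      intro j
      induction j with
      | zero => rw [pow_zero, map_one, pow_zero]; rfl
      | succ j ih => rw [pow_succ g, map_mul, pow_succ T, ← ih]; rfl
    rw [← hpow]
    exact hv _ hm
  set S := ∑ i ∈ Finset.range m, T ^ i with hS
  have hSN : S * N = T ^ m - 1 := by rw [hN, hS, geom_sum_mul]
  have hdec : S = (m : Module.End K V) + ∑ i ∈ Finset.range m, (T ^ i - 1) := by
    rw [Finset.sum_sub_distrib, Finset.sum_const, Finset.card_range, nsmul_one, hS]; abel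
  have hu : IsUnit S := by
    rw [hdec]
    refine IsNilpotent.isUnit_add_left_of_commute ?_ ?_ ?_
    · rw [Finset.sum_congr rfl fun i _ => (geom_sum_mul T i).symm, ← Finset.sum_mul, ← hN]
      refine Commute.isNilpotent_mul_left ?_ hnil
      rw [hN]
      exact Commute.sum_left _ _ _ fun i _ => Commute.sum_left _ _ _ fun j _ => (Commute.pow_self T j).sub_right (Commute.one_right _)
    · rw [← map_natCast (algebraMap K (Module.End K V))]
      exact (IsUnit.mk0 _ (Nat.cast_ne_zero.2 hm0.ne')).map _
    · exact (Nat.cast_commute m _).symm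
  have h0 : S (N v) = 0 := by
    rw [← Module.End.mul_apply, hSN, LinearMap.sub_apply, hTm, Module.End.one_apply, sub_self]
  have : N v = 0 := (Module.End.isUnit_iff S).1 hu |>.1 (by rw [h0, map_zero])
  rw [hN, LinearMap.sub_apply, sub_eq_zero] at this
  exact this

end Groth.Agent.S17463
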