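import Groth.Statements.S17464
import Groth.Agent.Lib.GaTorus19.Basic
import Groth.Agent.Lib.AbRigid.Maximal

set_option autoImplicit false
universe u
open CategoryTheory MonoidalCategory CartesianMonoidalCategory MonObj GrpObj AlgebraicGeometry CategoryTheory.Limits
open AlgGrp

namespace Groth.Agent.S17464

/-- Let k be an algebraically closed field, T a k-torus and U a smooth connected affine k-group scheme
of finite type with a composition series whose successive quotients are additive groups: closed
subgroup schemes U_0 → U_1 → … → U_n = U (homomorphisms which are closed immersions, U_i ↦ U_{i+1}),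
with U_0 the trivial group, U_n identified with U by an isomorphism of group schemes, and each U_i
the kernel of a flat surjective homomorphism from U_{i+1} onto the additive group. Then every
homomorphism from U to T is the trivial one. (The published statement is over an arbitrary field for
a torus and a smooth connected unipotent group, unipotent meaning that such a composition series
exists over an algebraic closure; this row states the case of an algebraically closed base field.
The companion assertion, that homomorphisms from T to U are trivial, is an existing statement about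
groups of multiplicative type.) -/
theorem result (k : Type u) [Field k] [IsAlgClosed k]
    (T U : Over (Spec (CommRingCat.of k))) [GrpObj T] [GrpObj U] (hT : Red.IsTorus T)
    [Smooth U.hom] [QuasiCompact U.hom] [ConnectedSpace ↥U.left] [IsAffine U.left]
    (n : ℕ) (Us : Fin (n + 1) → Over (Spec (CommRingCat.of k))) [∀ i, GrpObj (Us i)]
    (h0 : Red.IsTrivialGrp (Us 0))
    (e : Us (Fin.last n) ≅ U) [IsMonHom e.hom]
    (incl : ∀ i : Fin n, Us i.castSucc ⟶ Us i.succ) [∀ i, IsMonHom (incl i)]
    [∀ i, IsClosedImmersion (incl i).left]
    (quot : ∀ i : Fin n, Us i.succ ⟶ Red.Ga (Spec (CommRingCat.of k))) [∀ i, IsMonHom (quot i)]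
    [∀ i, Surjective (quot i).left] [∀ i, Flat (quot i).left]
    (hker : ∀ i : Fin n, AlgGrp.IsKernel (incl i) (quot i))
    (f : U ⟶ T) [IsMonHom f] :
    f = 1 := by
  -- the terms of the series are affine
  have haff : ∀ j, IsAffine (Us j).left := by
    intro j
    induction j using Fin.reverseInduction with
    | last =>
      haveI : IsIso e.hom.left := inferInstanceAs (IsIso ((Over.forget _).map e.hom))
      exact IsAffine.of_isIso e.hom.left
    | cast j ih =>
      haveI := ih
      exact isAffine_of_isAffineHom (incl j).left
  let emb : ∀ j, (Us j ⟶ U) := fun j => Fin.reverseInduction (motive := fun j => Us j ⟶ U) e.hom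
    (fun j g => incl j ≫ g) j
  have hιc : ∀ j : Fin n, emb j.castSucc = incl j ≫ emb j.succ := fun j => by
    simp only [emb, Fin.reverseInduction_castSucc]
  have hιm : ∀ j, IsMonHom (emb j) := by
    intro j
    induction j using Fin.reverseInduction with
    | last =>
      rw [show emb (Fin.last n) = e.hom by simp only [emb, Fin.reverseInduction_last]]
      infer_instance
    | cast j ih =>
      haveI := ih
      rw [hιc]
      infer_instance
  have hall : ∀ j, emb j ≫ f = 1 := by
    intro j
    induction j using Fin.induction with
    | zero =>
      haveI := hιm 0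
      haveI : IsIso (Us 0).hom := h0
      have hu : 𝟙 (Us 0) = toUnit (Us 0) ≫ η[Us 0] := by
        refine Over.OverMorphism.ext ?_
        rw [← cancel_mono (Us 0).hom, Over.w, Over.w]
      rw [← Category.id_comp (emb 0 ≫ f), hu, Category.assoc, ← Category.assoc η[Us 0], IsMonHom.one_hom,
        IsMonHom.one_hom, ← Hom.one_def]
    | succ j ih =>
      haveI := haff j.succ
      haveI := hιm j.succ
      haveI : QuasiCompact (quot j).left := by
        haveI : IsSeparated (Red.Ga (Spec (CommRingCat.of k))).hom :=
          Groth.Agent.AbRigid.isSeparated_of_grpObj _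
        haveI : QuasiCompact ((quot j).left ≫ (Red.Ga (Spec (CommRingCat.of k))).hom) := by
          rw [Over.w]; infer_instance
        exact QuasiCompact.of_comp (quot j).left (Red.Ga (Spec (CommRingCat.of k))).hom
      obtain ⟨ψ, hψ⟩ := Groth.Agent.AlgGrpBasic19.exists_desc (quot j) (emb j.succ ≫ f) fun T' a b hab => by
        have hk : (a⁻¹ * b) ≫ quot j = toUnit T' ≫ η[Red.Ga (Spec (CommRingCat.of k))] := by
          rw [MonObj.mul_comp a⁻¹ b (quot j), GrpObj.inv_comp a (quot j), hab, inv_mul_cancel, MonObj.one_eq_one, MonObj.comp_one]
        have hn := (hker j).lift_fst (a⁻¹ * b) (toUnit T') hk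
        have h1 : (a⁻¹ * b) ≫ emb j.succ ≫ f = 1 := by
          rw [← hn, Category.assoc, ← Category.assoc (incl j), ← hιc, ih, MonObj.comp_one]
        rw [MonObj.mul_comp, GrpObj.inv_comp, inv_mul_eq_one] at h1
        exact h1
      have hψ0 : η[Red.Ga (Spec (CommRingCat.of k))] ≫ ψ = η[T] := by
        rw [← IsMonHom.one_hom (quot j), Category.assoc, hψ, IsMonHom.one_hom]
      rw [← hψ, Groth.Agent.GaTorus19.eq_one_of_pointed hT ψ hψ0, MonObj.comp_one]
  have := hall (Fin.last n)
  rw [show emb (Fin.last n) = e.hom by simp only [emb, Fin.reverseInduction_last]] at this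
  rw [← cancel_epi e.hom, this, MonObj.comp_one]

end Groth.Agent.S17464
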