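import Groth.Statements.S17466
import Mathlib.Tactic.LinearCombination
-- import your own Groth.Agent.* helpers here

set_option autoImplicit false
universe u v
open BigOperators
open NRGIT

namespace Groth.Agent.S17466

/-- Let A be a commutative algebra graded by the natural numbers, let σ_1, …, σ_n be homogeneous
elements of degree 1 and let s ≥ 1 be an integer such that, for every i, the degree-zero homogeneous
localisation of A away from σ_i is generated over A_0 by the fractions f / σ_i ^ s with f
homogeneous of degree s. Then for every exponent vector K = (k_1, …, k_n) with k_1 + ⋯ + k_n = s,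
the degree-zero homogeneous localisation of A away from the monomial σ^K = ∏ σ_i ^ (k_i) is
generated over A_0 by the fractions f / σ^K with f homogeneous of degree s. (Equivalently: the
natural map from the degree-zero localisation of the symmetric algebra on A_s, taken away from σ^K
viewed as an element of degree one, to the degree-zero localisation of A away from σ^K is
surjective. The published lemma concerns the algebra of invariant sections of the powers of a
linearised line bundle on an irreducible projective scheme over a field, with the σ_i a basis of a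
weight space of sections, and concludes a closed immersion of a quotient into an open piece of a
projective space; this row keeps only the graded-algebra step, for any commutative graded algebra,
with the base field replaced by A_0, which generates nothing new since a / 1 = a σ^s / σ^s for a of
degree zero.) -/
theorem result
    {R : Type u} {A : Type v} [CommRing R] [CommRing A] [Algebra R A]
    (𝒜 : ℕ → Submodule R A) [GradedAlgebra 𝒜]
    {n : ℕ} (σ : Fin n → A) (hσ : ∀ i, σ i ∈ 𝒜 1) {s : ℕ} (hs : 0 < s)
    (hgen : ∀ i, Algebra.adjoin (𝒜 0)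
      {z : HomogeneousLocalization.Away 𝒜 (σ i) |
        ∃ f ∈ 𝒜 s, z.val = Localization.mk f ⟨σ i ^ s, Submonoid.pow_mem _ (Submonoid.mem_powers (σ i)) s⟩} = ⊤)
    (K : Fin n → ℕ) (hK : ∑ i, K i = s) :
    Algebra.adjoin (𝒜 0)
      {z : HomogeneousLocalization.Away 𝒜 (∏ i, σ i ^ K i) |
        ∃ f ∈ 𝒜 s, z.val = Localization.mk f ⟨∏ i, σ i ^ K i, Submonoid.mem_powers _⟩} = ⊤ := by
  classical
  obtain ⟨i, hi⟩ : ∃ i, K i ≠ 0 := by
    by_contra h; push Not at h; simp [h] at hK; omega
  set p := ∏ j, σ j ^ K j with hp
  have hpdeg : p ∈ 𝒜 s := hK ▸ by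
    simpa using SetLike.prod_pow_mem_graded 𝒜 (fun _ => 1) σ K (F := Finset.univ) (fun j _ => hσ j)
  let T := Algebra.adjoin (𝒜 0) {z : HomogeneousLocalization.Away 𝒜 p |
        ∃ f ∈ 𝒜 s, z.val = Localization.mk f ⟨p, Submonoid.mem_powers _⟩}
  rw [eq_top_iff]
  rintro w -
  let L := Localization.Away p
  let m : A → L := fun a => Localization.mk a ⟨p, Submonoid.mem_powers _⟩
  have hu : IsUnit (algebraMap A L (σ i)) := isUnit_of_dvd_unit
    (map_dvd (algebraMap A L) ((dvd_pow_self (σ i) hi).trans (Finset.dvd_prod_of_mem (fun j => σ j ^ K j) (Finset.mem_univ i))))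
    (IsLocalization.Away.algebraMap_isUnit p)
  let ψ : HomogeneousLocalization.Away 𝒜 (σ i) →+* L :=
    (IsLocalization.Away.lift (σ i) (S := Localization.Away (σ i)) hu).comp
      (algebraMap (HomogeneousLocalization.Away 𝒜 (σ i)) (Localization.Away (σ i)))
  let Tv : Subring L := T.toSubring.map
    (algebraMap (HomogeneousLocalization.Away 𝒜 p) L)
  have hm : ∀ f ∈ 𝒜 s, m f ∈ Tv := fun f hf => by
    refine ⟨HomogeneousLocalization.Away.mk 𝒜 hpdeg 1 f (by simpa using hf), Algebra.subset_adjoin ⟨f, hf, ?_⟩, ?_⟩
    · simp [HomogeneousLocalization.Away.val_mk]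
    · change (HomogeneousLocalization.Away.mk 𝒜 hpdeg 1 f _).val = _
      simp [HomogeneousLocalization.Away.val_mk, m]
  have hA0 : ∀ a : 𝒜 0, algebraMap A L a ∈ Tv := fun a =>
    ⟨algebraMap (𝒜 0) _ a, T.algebraMap_mem a, by
      change (algebraMap (𝒜 0) (HomogeneousLocalization.Away 𝒜 p) a).val = _
      exact Localization.mk_one_eq_algebraMap (a : A)⟩
  have hmul : ∀ a, algebraMap A L a = algebraMap A L p * m a := fun a => by
    simp only [m, Localization.mk_eq_mk', L]
    exact (IsLocalization.mk'_spec' (Localization.Away p) a ⟨p, Submonoid.mem_powers _⟩).symm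
  have hσi : m (σ i ^ s) ∈ Tv := hm _ (by simpa using SetLike.pow_mem_graded s (hσ i))
  have hinv : ∀ g ∈ 𝒜 s, IsLocalization.Away.lift (σ i) (S := Localization.Away (σ i)) hu
      (Localization.mk g ⟨σ i ^ s, Submonoid.pow_mem _ (Submonoid.mem_powers (σ i)) s⟩) ∈ Tv := by
    intro g hg
    let c := (∏ j ∈ Finset.univ.erase i, m (σ j ^ s) ^ K j) * m (σ i ^ s) ^ (K i - 1)
    have hc : m (σ i ^ s) * c = 1 := by
      have hprod : ∏ j, m (σ j ^ s) ^ K j = 1 := by
        have hu' : IsUnit (algebraMap A L p ^ s) := (IsLocalization.Away.algebraMap_isUnit p).pow s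
        refine hu'.mul_left_cancel ?_
        rw [mul_one]
        calc algebraMap A L p ^ s * ∏ j, m (σ j ^ s) ^ K j
            = ∏ j, (algebraMap A L p * m (σ j ^ s)) ^ K j := by
              simp only [mul_pow, Finset.prod_mul_distrib, Finset.prod_pow_eq_pow_sum, hK]
          _ = algebraMap A L p ^ s := by
              rw [Finset.prod_congr rfl fun j _ => by rw [← hmul]]
              simp only [map_pow, hp, map_prod, ← Finset.prod_pow, ← pow_mul, _root_.mul_comm s]
      rw [← hprod, ← Finset.mul_prod_erase _ _ (Finset.mem_univ i)]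
      conv_rhs => rw [← Nat.sub_add_cancel (Nat.one_le_iff_ne_zero.mpr hi), pow_succ]
      simp only [c]; ring
    have key : IsLocalization.Away.lift (σ i) (S := Localization.Away (σ i)) hu
        (Localization.mk g ⟨σ i ^ s, Submonoid.pow_mem _ (Submonoid.mem_powers (σ i)) s⟩) = m g * c := by
      refine (hu.pow s).mul_left_cancel ?_
      have hsp := congrArg (IsLocalization.Away.lift (σ i) (S := Localization.Away (σ i)) hu)
        (IsLocalization.mk'_spec' (Localization.Away (σ i)) g
          (⟨σ i ^ s, Submonoid.pow_mem _ (Submonoid.mem_powers (σ i)) s⟩ : Submonoid.powers (σ i)))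
      rw [map_mul, IsLocalization.Away.lift_eq, IsLocalization.Away.lift_eq] at hsp
      rw [← map_pow, Localization.mk_eq_mk']
      refine hsp.trans ?_
      rw [hmul (σ i ^ s), hmul g]
      linear_combination (-(algebraMap A L p * m g)) * hc
    rw [key]
    refine Subring.mul_mem _ (hm g hg) (Subring.mul_mem _ (prod_mem fun j _ => pow_mem (hm _ ?_) _) (pow_mem hσi _))
    simpa using SetLike.pow_mem_graded s (hσ j)
  have hψ : ∀ z, ψ z ∈ Tv := by
    intro z
    have hz : z ∈ Algebra.adjoin (𝒜 0) _ := (hgen i).symm ▸ Algebra.mem_top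
    induction hz using Algebra.adjoin_induction with
    | mem z hz =>
      obtain ⟨g, hg, hzv⟩ := hz
      change IsLocalization.Away.lift (σ i) hu z.val ∈ Tv
      rw [hzv]; exact hinv g hg
    | algebraMap a =>
      change IsLocalization.Away.lift (σ i) hu (algebraMap (𝒜 0) (HomogeneousLocalization.Away 𝒜 (σ i)) a).val ∈ Tv
      rw [show (algebraMap (𝒜 0) (HomogeneousLocalization.Away 𝒜 (σ i)) a).val = algebraMap A _ (a : A) from
        Localization.mk_one_eq_algebraMap (a : A), IsLocalization.Away.lift_eq]
      exact hA0 a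
    | add x y _ _ hx hy => rw [map_add]; exact add_mem hx hy
    | mul x y _ _ hx hy => rw [map_mul]; exact mul_mem hx hy
  obtain ⟨d, f, hf, rfl⟩ := HomogeneousLocalization.Away.mk_surjective 𝒜 hpdeg w
  have hz := hψ (HomogeneousLocalization.Away.mk 𝒜 (hσ i) (d • s) f (by simpa using hf))
  have hmem : (HomogeneousLocalization.Away.mk 𝒜 hpdeg d f hf).val ∈ Tv := by
    have e : (HomogeneousLocalization.Away.mk 𝒜 hpdeg d f hf).val =
        ψ (HomogeneousLocalization.Away.mk 𝒜 (hσ i) (d • s) f (by simpa using hf)) * m (σ i ^ s) ^ d := by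
      refine ((IsLocalization.Away.algebraMap_isUnit (S := L) p).pow d).mul_left_cancel ?_
      rw [mul_left_comm, ← mul_pow, ← hmul, HomogeneousLocalization.Away.val_mk]
      change _ = IsLocalization.Away.lift (σ i) hu (HomogeneousLocalization.Away.mk 𝒜 (hσ i) (d • s) f _).val * _
      rw [HomogeneousLocalization.Away.val_mk, ← map_pow, ← map_pow,
        Localization.mk_eq_mk', Localization.mk_eq_mk']
      have hsp := congrArg (IsLocalization.Away.lift (σ i) (S := Localization.Away (σ i)) hu)
        (IsLocalization.mk'_spec' (Localization.Away (σ i)) f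
          (⟨σ i ^ (d • s), Submonoid.pow_mem _ (Submonoid.mem_powers (σ i)) _⟩ : Submonoid.powers (σ i)))
      rw [map_mul, IsLocalization.Away.lift_eq, IsLocalization.Away.lift_eq] at hsp
      refine (IsLocalization.mk'_spec' L f
        (⟨p ^ d, Submonoid.pow_mem _ (Submonoid.mem_powers p) _⟩ : Submonoid.powers p)).trans ?_
      rw [← pow_mul, _root_.mul_comm s d, ← smul_eq_mul d s, _root_.mul_comm]
      exact hsp.symm
    rw [e]
    exact mul_mem hz (pow_mem hσi _)
  obtain ⟨y, hy, hye⟩ := hmem
  exact HomogeneousLocalization.val_injective _ hye ▸ hy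

end Groth.Agent.S17466
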