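import Groth.Statements.S17467
import Groth.Agent.Lib.FibConst4.Ring
import Groth.Agent.Lib.Fibration13.Basic
-- import your own Groth.Agent.* helpers here

set_option autoImplicit false
universe u
open CategoryTheory AlgebraicGeometry
open Variety

namespace Groth.Agent.S17467

/-- Let k be an algebraically closed field of characteristic zero, X and Y integral separated schemes of
finite type over k with Y normal, and f : X → Y a k-morphism surjective on points. A global function
s on X which takes equal values at any two k-rational points of X having the same image under f is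
the pull-back of a global function on Y. (The published statement is phrased for set-theoretic
sections of a vector bundle on Y whose pull-back along f is a regular section; that form reduces to
the present one locally on Y, and the present one is the case of the trivial line bundle.) -/
theorem result
    (k : Type u) [Field k] [IsAlgClosed k] [CharZero k]
    (X Y : Over (Spec (CommRingCat.of k)))
    [AlgebraicGeometry.IsIntegral X.left] [AlgebraicGeometry.IsIntegral Y.left]
    [LocallyOfFiniteType X.hom] [QuasiCompact X.hom] [IsSeparated X.hom]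
    [LocallyOfFiniteType Y.hom] [QuasiCompact Y.hom] [IsSeparated Y.hom]
    (hY : Pi1.IsNormalScheme Y.left)
    (f : X ⟶ Y) (hf : Function.Surjective f.left.base)
    (s : Γ(X.left, ⊤))
    (hs : ∀ x₁ x₂ : Spec (CommRingCat.of k) ⟶ X.left,
      x₁ ≫ X.hom = 𝟙 _ → x₂ ≫ X.hom = 𝟙 _ → x₁ ≫ f.left = x₂ ≫ f.left →
        x₁.appTop.hom s = x₂.appTop.hom s) :
    ∃ r : Γ(Y.left, ⊤), f.left.appTop.hom r = s := by
  classical
  let F : X.left ⟶ Y.left := f.left
  haveI : IsLocallyNoetherian (Spec (CommRingCat.of k)) := inferInstance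
  haveI : IsLocallyNoetherian Y.left := LocallyOfFiniteType.isLocallyNoetherian Y.hom
  have hgen : F (genericPoint X.left) = genericPoint Y.left := by
    refine ((genericPoint_specializes _).antisymm ?_).symm.eq
    obtain ⟨x, hx⟩ := hf (genericPoint Y.left)
    rw [← hx]
    exact (genericPoint_specializes x).map F.continuous
  have h : F (genericPoint X.left) ⤳ genericPoint Y.left := hgen ▸ specializes_rfl
  let ψ : Y.left.functionField →+* X.left.functionField :=
    (F.stalkMap (genericPoint X.left)).hom.comp (Y.left.presheaf.stalkSpecializes h).hom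
  have hξmem : ∀ (U : Y.left.Opens), genericPoint Y.left ∈ U → genericPoint X.left ∈ F ⁻¹ᵁ U := fun U hU => h.mem_open U.2 hU
  have hψ : ∀ (U : Y.left.Opens) (hU : genericPoint Y.left ∈ U) (a : Γ(Y.left, U)),
      ψ (Y.left.presheaf.germ U _ hU a) = X.left.presheaf.germ (F ⁻¹ᵁ U) _ (hξmem U hU) (F.app U a) := by
    intro U hU a
    show F.stalkMap _ (Y.left.presheaf.stalkSpecializes h _) = _
    rw [TopCat.Presheaf.germ_stalkSpecializes_apply, Scheme.Hom.germ_stalkMap_apply]
  let sη : X.left.functionField := X.left.presheaf.germ ⊤ _ trivial s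
  obtain ⟨U, hU, hηU, -⟩ := exists_isAffineOpen_mem_and_subset (X := Y.left) (x := genericPoint Y.left) (U := ⊤) trivial
  obtain ⟨V, hV, hξV, hVU⟩ := exists_isAffineOpen_mem_and_subset (X := X.left) (x := genericPoint X.left)
    (U := F ⁻¹ᵁ U) (hξmem U hηU)
  haveI : Nonempty U := ⟨⟨_, hηU⟩⟩
  haveI : Nonempty V := ⟨⟨_, hξV⟩⟩
  let φ : Γ(Y.left, U) ⟶ Γ(X.left, V) := F.appLE U V hVU
  have hφgerm : ∀ a, X.left.presheaf.germ V _ hξV (φ a) = ψ (Y.left.presheaf.germ U _ hηU a) := by
    intro a
    rw [hψ U hηU a]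
    exact TopCat.Presheaf.germ_res_apply X.left.presheaf (homOfLE hVU) _ hξV (F.app U a)
  let κY : CommRingCat.of k ⟶ Γ(Y.left, U) := (Scheme.ΓSpecIso (CommRingCat.of k)).inv ≫ Y.hom.appLE ⊤ U le_top
  let κX : CommRingCat.of k ⟶ Γ(X.left, V) := κY ≫ φ
  have hκX : κX = (Scheme.ΓSpecIso (CommRingCat.of k)).inv ≫ X.hom.appLE ⊤ V le_top := by
    simp only [κX, κY, φ, Category.assoc, Scheme.Hom.appLE_comp_appLE, F, CategoryTheory.Over.w]
  letI : Algebra k Γ(Y.left, U) := κY.hom.toAlgebra
  letI : Algebra k Γ(X.left, V) := κX.hom.toAlgebra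
  letI : Algebra Γ(Y.left, U) Γ(X.left, V) := φ.hom.toAlgebra
  haveI : IsScalarTower k Γ(Y.left, U) Γ(X.left, V) := IsScalarTower.of_algebraMap_eq' rfl
  haveI : Algebra.FiniteType k Γ(X.left, V) := by
    have := (HasRingHomProperty.appLE @LocallyOfFiniteType X.hom inferInstance ⟨⊤, isAffineOpen_top _⟩ ⟨V, hV⟩ le_top).comp
      (RingHom.FiniteType.of_surjective _ (ConcreteCategory.bijective_of_isIso (Scheme.ΓSpecIso (CommRingCat.of k)).inv).surjective)
    rw [← CommRingCat.hom_comp, ← hκX] at this
    exact this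
  have hinj : Function.Injective φ := by
    intro a b hab
    refine germ_injective_of_isIntegral Y.left _ hηU (ψ.injective ?_)
    rw [← hφgerm, ← hφgerm, hab]
  let sV : Γ(X.left, V) := X.left.presheaf.map (homOfLE le_top).op s
  have hfrac : ∃ a c : Γ(Y.left, U), c ≠ 0 ∧ φ c * sV = φ a := by
    refine Groth.Agent.FibConst4.exists_fraction k Γ(Y.left, U) Γ(X.left, V) hinj sV fun χ₁ χ₂ hχ => ?_
    let pt : (Γ(X.left, V) →ₐ[k] k) → (Spec (CommRingCat.of k) ⟶ X.left) := fun χ =>
      Spec.map (CommRingCat.ofHom χ.toRingHom) ≫ hV.fromSpec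
    have hpt : ∀ χ, pt χ ≫ X.hom = 𝟙 _ := fun χ => by
      simp only [pt, Category.assoc]
      rw [← IsAffineOpen.SpecMap_appLE_fromSpec X.hom (isAffineOpen_top _) hV le_top, IsAffineOpen.fromSpec_top,
        Scheme.isoSpec_Spec_inv, ← Spec.map_comp, ← Spec.map_comp, ← hκX, ← Spec.map_id]
      congr 1
      ext c
      exact χ.commutes c
    have heq : pt χ₁ ≫ F = pt χ₂ ≫ F := by
      simp only [pt, Category.assoc]
      rw [← IsAffineOpen.SpecMap_appLE_fromSpec F hU hV hVU, ← Spec.map_comp_assoc, ← Spec.map_comp_assoc]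
      congr 2
      ext a
      exact hχ a
    have := hs (pt χ₁) (pt χ₂) (hpt _) (hpt _) heq
    have hval : ∀ χ, (Scheme.ΓSpecIso (CommRingCat.of k)).hom ((pt χ).appTop s) = χ sV := by
      intro χ
      simp only [pt, Scheme.Hom.comp_appTop]
      have e : hV.fromSpec.appTop ≫ (Spec.map (CommRingCat.ofHom χ.toRingHom)).appTop ≫
          (Scheme.ΓSpecIso (CommRingCat.of k)).hom =
          X.left.presheaf.map (homOfLE le_top).op ≫ CommRingCat.ofHom χ.toRingHom := by
        rw [Scheme.ΓSpecIso_naturality, Scheme.Hom.appTop, hV.fromSpec_app_of_le ⊤ le_top]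
        simp
        erw [Scheme.ΓSpecIso_naturality_assoc, Iso.inv_hom_id_assoc]
      exact ConcreteCategory.congr_hom e s
    rw [← hval χ₁, ← hval χ₂]
    exact congrArg _ this
  obtain ⟨a, c, hc0, hac⟩ := hfrac
  let r : Y.left.functionField := Y.left.presheaf.germ U _ hηU a / Y.left.presheaf.germ U _ hηU c
  have hcK : Y.left.presheaf.germ U _ hηU c ≠ 0 := fun hc =>
    hc0 (germ_injective_of_isIntegral Y.left _ hηU (hc.trans (map_zero _).symm))
  have hr : ψ r = sη := by
    rw [map_div₀, div_eq_iff ((map_ne_zero ψ).2 hcK), ← hφgerm, ← hφgerm, ← hac, map_mul, mul_comm]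
    congr 1
    exact TopCat.Presheaf.germ_res_apply X.left.presheaf (homOfLE le_top) _ hξV s
  have hloc : ∀ z ∈ (⊤ : Y.left.Opens), ∃ a : Y.left.presheaf.stalk z,
      Y.left.presheaf.stalkSpecializes (genericPoint_specializes z) a = r := by
    intro z _
    obtain ⟨W, hW, hzW, -⟩ := exists_isAffineOpen_mem_and_subset (X := Y.left) (x := z) (U := ⊤) trivial
    haveI : Nonempty W := ⟨⟨_, hzW⟩⟩
    have hηW : genericPoint Y.left ∈ W := (genericPoint_specializes z).mem_open W.2 hzW
    haveI : IsFractionRing Γ(Y.left, W) Y.left.functionField := functionField_isFractionRing_of_isAffineOpen Y.left W hW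
    haveI : IsNoetherianRing Γ(Y.left, W) := IsLocallyNoetherian.component_noetherian ⟨W, hW⟩
    by_cases hrW : r ∈ Set.range (algebraMap Γ(Y.left, W) Y.left.functionField)
    · obtain ⟨t, ht⟩ := hrW
      exact ⟨Y.left.presheaf.germ W z hzW t, (TopCat.Presheaf.germ_stalkSpecializes_apply _ _ _ _).trans ht⟩
    · exfalso
      obtain ⟨P, hP, e, he, b, hb, hreb⟩ := Groth.Agent.FibConst4.exists_pole (fun P hP => by
        let y : Y.left := hW.fromSpec ⟨P, hP⟩
        have hyW : y ∈ W := hW.range_fromSpec.le ⟨⟨P, hP⟩, rfl⟩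
        letI := TopCat.Presheaf.algebra_section_stalk Y.left.presheaf ⟨y, hyW⟩
        haveI : IsLocalization P.primeCompl (Y.left.presheaf.stalk y) := hW.isLocalization_stalk' ⟨P, hP⟩ hyW
        haveI := (hY y).2
        exact IsIntegrallyClosed.of_equiv
          (IsLocalization.algEquiv P.primeCompl (Y.left.presheaf.stalk y) (Localization.AtPrime P)).toRingEquiv) r hrW
      obtain ⟨x, hx⟩ := hf (hW.fromSpec ⟨P, hP⟩)
      have hmem : ∀ q : Γ(Y.left, W), x ∈ X.left.basicOpen (F.app W q) ↔ q ∉ P := fun q => by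
        rw [← Scheme.preimage_basicOpen, Scheme.Hom.mem_preimage, show F x = hW.fromSpec ⟨P, hP⟩ from hx,
          ← Scheme.Hom.mem_preimage, hW.fromSpec_preimage_basicOpen]
        rfl
      have hrel : F.app W b = X.left.presheaf.map (homOfLE le_top).op s * F.app W e := by
        refine germ_injective_of_isIntegral X.left _ (hξmem W hηW) ?_
        rw [map_mul, ← hψ W hηW, ← hψ W hηW]
        have := congrArg ψ hreb
        rw [map_mul, hr] at this
        refine this.symm.trans ?_
        congr 1
        exact (TopCat.Presheaf.germ_res_apply X.left.presheaf (homOfLE le_top) _ (hξmem W hηW) s).symm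
      have hx' : x ∈ X.left.basicOpen (F.app W b) := (hmem b).2 hb
      rw [hrel, Scheme.basicOpen_mul] at hx'
      exact (hmem e).1 hx'.2 he
  obtain ⟨t, ht⟩ := Groth.Agent.Fibration13.exists_section (X := Y.left) (W := ⊤) trivial r hloc
  refine ⟨t, germ_injective_of_isIntegral X.left (genericPoint X.left) (U := ⊤) trivial ?_⟩
  have := hψ ⊤ trivial t
  rw [ht, hr] at this
  exact this.symm

end Groth.Agent.S17467
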