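import Groth.Statements.S17468
import Mathlib.Algebra.Lie.Sl2
import Mathlib.Algebra.Lie.Weights.Basic
import Mathlib.LinearAlgebra.Trace
import Mathlib.Algebra.DirectSum.LinearMap
import Mathlib.Algebra.Lie.Semisimple.Defs
import Mathlib.LinearAlgebra.Eigenspace.Minpoly
import Mathlib.Tactic.Ring
import Mathlib.Data.Nat.Choose.Cast

set_option autoImplicit false
universe u v w
open LieRep

namespace Groth.Agent.S17468

theorem sum_sq (n : ℕ) {k : Type*} [Field k] [CharZero k] :
    ∀ (μ : k), 3 * ∑ i ∈ Finset.range (n + 1), (μ - 2 * (i : k)) ^ 2 =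
      3 * (n + 1) * μ ^ 2 - 6 * μ * n * (n + 1) + 2 * n * (n + 1) * (2 * n + 1) := by
  intro μ
  induction n with
  | zero => simp
  | succ n ih => rw [Finset.sum_range_succ, mul_add, ih]; push_cast; ring

theorem trace_irreducible {k : Type u} [Field k] [IsAlgClosed k] [CharZero k]
    {L : Type v} [LieRing L] [LieAlgebra k L] {h e f : L} (t : IsSl2Triple h e f)
    (hspan : t.toLieSubalgebra k = ⊤)
    {M : Type w} [AddCommGroup M] [Module k M] [LieRingModule L M] [LieModule k L M]
    [FiniteDimensional k M] [LieModule.IsIrreducible k L M] :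
    LinearMap.trace k M ((LieModule.toEnd k L M h) ^ 2) =
      2 * (((Module.finrank k M + 1).choose 3 : ℕ) : k) := by
  haveI : Nontrivial M := (LieSubmodule.nontrivial_iff k L M).mp inferInstance
  obtain ⟨μ, m, hm, P⟩ := t.exists_hasPrimitiveVectorWith (R := k) (M := M)
  obtain ⟨n, hn⟩ := P.exists_nat
  let b : Fin (n + 1) → M := fun i => ((LieModule.toEnd k L M f) ^ (i : ℕ)) m
  have hne : ∀ i, b i ≠ 0 := fun i => P.pow_toEnd_f_ne_zero_of_eq_nat hn (Nat.lt_succ_iff.1 i.2)
  have hli : LinearIndependent k b := by
    refine (LieModule.toEnd k L M h).eigenvectors_linearIndependent' (fun i : Fin (n + 1) => μ - 2 * (i : ℕ)) ?_ b ?_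
    · intro i j hij
      simp at hij
      exact Fin.ext hij
    · exact fun i => ⟨Module.End.mem_eigenspace_iff.2 (P.lie_h_pow_toEnd_f i), hne i⟩
  have hψ : ∀ j : ℕ, ((LieModule.toEnd k L M f) ^ j) m ∈ Submodule.span k (Set.range b) ∨ n < j :=
    fun j => (lt_or_ge n j).symm.imp_left fun hj => Submodule.subset_span ⟨⟨j, Nat.lt_succ_iff.2 hj⟩, rfl⟩
  let N : LieSubmodule k L M :=
    { Submodule.span k (Set.range b) with
      lie_mem := fun {x y} hy => by
        have hx : x ∈ t.toLieSubalgebra k := hspan ▸ LieSubalgebra.mem_top x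
        obtain ⟨c₁, c₂, c₃, rfl⟩ := IsSl2Triple.mem_toLieSubalgebra_iff.1 hx
        change y ∈ Submodule.span k (Set.range b) at hy
        show ⁅c₁ • e + c₂ • f + c₃ • ⁅e, f⁆, y⁆ ∈ Submodule.span k (Set.range b)
        induction hy using Submodule.span_induction with
        | zero => simp
        | add a b _ _ ha hb => rw [lie_add]; exact add_mem ha hb
        | smul c a _ ha => rw [lie_smul]; exact Submodule.smul_mem _ c ha
        | mem y hy =>
          obtain ⟨i, rfl⟩ := hy
          rw [add_lie, add_lie, smul_lie, smul_lie, smul_lie, t.lie_e_f]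
          refine add_mem (add_mem (Submodule.smul_mem _ _ ?_) (Submodule.smul_mem _ _ ?_))
            (Submodule.smul_mem _ _ ?_)
          · obtain ⟨i, hi⟩ := i
            rcases i with _ | i
            · simp [b, P.lie_e]
            · show ⁅e, ((LieModule.toEnd k L M f) ^ (i + 1)) m⁆ ∈ _
              rw [P.lie_e_pow_succ_toEnd_f]
              exact Submodule.smul_mem _ _ ((hψ i).resolve_right (by omega))
          · show ⁅f, ((LieModule.toEnd k L M f) ^ (i : ℕ)) m⁆ ∈ _
            rw [P.lie_f_pow_toEnd_f]
            rcases Nat.lt_or_ge (i : ℕ) n with hi | hi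
            · exact (hψ _).resolve_right (by omega)
            · rw [show (i : ℕ) + 1 = n + 1 by omega, P.pow_toEnd_f_eq_zero_of_eq_nat hn]
              exact zero_mem _
          · show ⁅h, ((LieModule.toEnd k L M f) ^ (i : ℕ)) m⁆ ∈ _
            rw [P.lie_h_pow_toEnd_f]
            exact Submodule.smul_mem _ _ (Submodule.subset_span ⟨i, rfl⟩) }
  have hspanb : Submodule.span k (Set.range b) = ⊤ := by
    have hN : N = ⊤ := (eq_bot_or_eq_top N).resolve_left fun hN => by
      have : b 0 ∈ N := Submodule.subset_span ⟨0, rfl⟩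
      rw [hN, LieSubmodule.mem_bot] at this
      exact hne 0 this
    exact congrArg LieSubmodule.toSubmodule hN
  let B := Module.Basis.mk hli hspanb.ge
  have hdim : Module.finrank k M = n + 1 := by
    rw [Module.finrank_eq_card_basis B, Fintype.card_fin]
  have hT : ∀ i, ((LieModule.toEnd k L M h) ^ 2) (B i) = (μ - 2 * ((i : ℕ) : k)) ^ 2 • B i := by
    intro i
    rw [Module.Basis.mk_apply, pow_two, Module.End.mul_apply, LieModule.toEnd_apply_apply,
      LieModule.toEnd_apply_apply]
    show ⁅h, ⁅h, ((LieModule.toEnd k L M f) ^ (i : ℕ)) m⁆⁆ = _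
    rw [P.lie_h_pow_toEnd_f, lie_smul, P.lie_h_pow_toEnd_f, smul_smul, ← pow_two]
  rw [LinearMap.trace_eq_matrix_trace k B, Matrix.trace]
  simp only [Matrix.diag_apply, LinearMap.toMatrix_apply, hT, map_smul, Module.Basis.repr_self,
    Finsupp.smul_apply, Finsupp.single_eq_same, smul_eq_mul, mul_one]
  rw [Fin.sum_univ_eq_sum_range (fun i => (μ - 2 * (i : k)) ^ 2), hdim]
  have h3 : (3 : k) ≠ 0 := by norm_num
  apply mul_left_cancel₀ h3
  rw [sum_sq, hn]
  have hc : ∀ j : ℕ, (6 : k) * (((j + 2).choose 3 : ℕ) : k) = ((j + 2) * (j + 1) * j : ℕ) := by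
    intro j
    induction j with
    | zero => simp
    | succ j ih =>
      have hc2 : (2 : k) * (((j + 2).choose 2 : ℕ) : k) = ((j + 2) * (j + 1) : ℕ) := by
        rw [Nat.cast_choose_two]; push_cast; ring
      rw [show j + 1 + 2 = (j + 2) + 1 by ring, Nat.choose_succ_succ]
      push_cast at ih hc2 ⊢
      linear_combination ih + 3 * hc2
  rw [show n + 1 + 1 = n + 2 by ring]
  have := hc n
  push_cast at this
  linear_combination (-1 : k) * this

/-- Let k be an algebraically closed field of characteristic zero, L a Lie algebra over k spanned by an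
sl_2-triple (h, e, f), and V a finite-dimensional L-module written as an internal direct sum of
finitely many irreducible Lie submodules V_i. Then the trace on V of the square of the action of h
is 2 Σ_i C(dim V_i + 1, 3). (The published statement concerns a finite-dimensional representation V
of a simple Lie algebra restricted to the copy of sl_2 attached to the highest root θ, with h the
coroot θ^∨; there Σ_i C(dim V_i + 1, 3) is the index of V, and the trace is the sum over the weights
λ of V, with multiplicity, of ⟨λ, θ^∨⟩².) -/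
theorem result
    (k : Type u) [Field k] [IsAlgClosed k] [CharZero k]
    (L : Type v) [LieRing L] [LieAlgebra k L]
    (h e f : L) (t : IsSl2Triple h e f) (hspan : t.toLieSubalgebra k = ⊤)
    (V : Type w) [AddCommGroup V] [Module k V] [LieRingModule L V] [LieModule k L V]
    [FiniteDimensional k V]
    (ι : Type) [Fintype ι] [DecidableEq ι] (W : ι → LieSubmodule k L V)
    (hW : DirectSum.IsInternal fun i => (W i).toSubmodule)
    (hirr : ∀ i, LieModule.IsIrreducible k L (W i)) :
    LinearMap.trace k V ((LieModule.toEnd k L V h) ^ 2) =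
      2 * ∑ i, (((Module.finrank k (W i) + 1).choose 3 : ℕ) : k) := by
  classical
  rw [LinearMap.trace_eq_sum_trace_restrict hW (f := (LieModule.toEnd k L V h) ^ 2)
    (fun i x hx => by
      rw [pow_two]
      exact (W i).lie_mem ((W i).lie_mem hx)), Finset.mul_sum]
  refine Finset.sum_congr rfl fun i _ => ?_
  haveI := hirr i
  rw [← trace_irreducible t hspan (M := W i)]
  congr 1

end Groth.Agent.S17468
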