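import Groth.Statements.S17469
import Groth.Agent.Lib.VarDim.Normal

set_option autoImplicit false
universe u
open CategoryTheory AlgebraicGeometry
open Variety

namespace Groth.Agent.S17469

/-- Let X be a locally Noetherian integral scheme all of whose local rings are integrally closed domains
and U an open subset of X. A section of O_X over U that is integral over the ring of global sections
of X, the latter acting through restriction, is itself the restriction of a global section. (The
published lemma is stated for an irreducible normal variety and for the graded ring of sections over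
U of all non-negative powers of a line bundle, integral over the corresponding ring of sections over
X; for the trivial line bundle its homogeneous components are the present statement, which is made
here for any locally Noetherian normal integral scheme.) -/
theorem result
    (X : Scheme.{u}) [AlgebraicGeometry.IsIntegral X] [IsLocallyNoetherian X]
    (hX : Pi1.IsNormalScheme X) (U : X.Opens) (b : Γ(X, U))
    (hb : (X.presheaf.map (homOfLE le_top : U ⟶ ⊤).op).hom.IsIntegralElem b) :
    b ∈ Set.range (X.presheaf.map (homOfLE le_top : U ⟶ ⊤).op).hom := by
  rcases isEmpty_or_nonempty ↥(U : Set X) with hU | hU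
  · haveI : Subsingleton Γ(X, U) := by
      have hbot : U = ⊥ := le_bot_iff.mp fun x hx => (hU.false ⟨x, hx⟩).elim
      rw [hbot]; infer_instance
    exact ⟨0, Subsingleton.elim _ _⟩
  haveI : Nonempty U := hU
  obtain ⟨x⟩ := hU
  haveI : Nonempty (⊤ : X.Opens) := ⟨⟨x.1, trivial⟩⟩
  have hres : ∀ a : Γ(X, ⊤), X.germToFunctionField U ((X.presheaf.map (homOfLE le_top : U ⟶ ⊤).op).hom a) =
      X.germToFunctionField ⊤ a := fun a => TopCat.Presheaf.germ_res_apply X.presheaf _ _ _ _
  obtain ⟨a, ha⟩ := Groth.Agent.VarDim.exists_section_of_integral (fun z => (hX z).2) ⊤
    (X.germToFunctionField U b) (by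
      obtain ⟨p, hp, hp0⟩ := hb
      refine ⟨p, hp, ?_⟩
      rw [show (X.germToFunctionField ⊤).hom = (X.germToFunctionField U).hom.comp
        (X.presheaf.map (homOfLE le_top : U ⟶ ⊤).op).hom from RingHom.ext fun a => (hres a).symm,
        ← Polynomial.hom_eval₂, hp0, map_zero])
  refine ⟨a, X.germToFunctionField_injective U ?_⟩
  rw [← ha]
  exact hres a

end Groth.Agent.S17469
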