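import Groth.Statements.S17471
import Mathlib.LinearAlgebra.RootSystem.Finite.Lemmas

-- import your own Groth.Agent.* helpers here

set_option autoImplicit false
universe u v w x
open RootCh

namespace Groth.Agent.S17471

/-- Let Φ be a finite, reduced, crystallographic, irreducible root system with a base, and θ a positive
root such that θ + β is a root for no positive root β (so θ is the highest root). Then Σ_{β>0} ⟨β,
θ^∨⟩² = 2 + Σ_{β>0} ⟨β, θ^∨⟩ = 2(1 + ⟨ρ, θ^∨⟩), ρ being half the sum of the positive roots; in the
source the left side is the index of the adjoint representation obtained from its formal character,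
and 1 + ⟨ρ, θ^∨⟩ is the dual Coxeter number. -/
theorem result
    {ι : Type u} {R : Type v} {M : Type w} {N : Type x}
    [Field R] [LinearOrder R] [IsStrictOrderedRing R]
    [AddCommGroup M] [Module R M] [AddCommGroup N] [Module R N] [Fintype ι]
    (P : RootPairing ι R M N) [P.IsRootSystem] [P.IsCrystallographic] [P.IsReduced]
    [P.IsIrreducible] (b : P.Base) (θ : ι) (hθ : b.IsPos θ)
    (hmax : ∀ i : ι, b.IsPos i → P.root θ + P.root i ∉ Set.range P.root) :
    ∑ i ∈ Finset.univ.filter (fun i => 0 < b.height i), P.pairing i θ ^ 2 =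
      2 + ∑ i ∈ Finset.univ.filter (fun i => 0 < b.height i), P.pairing i θ := by
  classical
  have hpos : ∀ i, i ∈ Finset.univ.filter (fun i => 0 < b.height i) ↔ b.IsPos i := fun i => by
    simp [RootPairing.Base.isPos_iff]
  have key : ∀ i, b.IsPos i → i ≠ θ → P.pairing i θ = 0 ∨ P.pairing i θ = 1 := by
    intro i hi hne
    have hneg : P.root i ≠ -P.root θ := fun h => by
      have he : i = P.reflectionPerm θ θ := P.root.injective (by
        rw [h, P.root_reflectionPerm, P.reflection_apply_self])
      exact (RootPairing.Base.IsPos.neg_iff_not b θ).1 (show b.IsPos (P.reflectionPerm θ θ) by rw [← he]; exact hi) hθ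
    have h0 : ¬ P.pairingIn ℤ i θ < 0 := fun h => by
      have := P.root_add_root_mem_of_pairingIn_neg h hneg
      exact hmax i hi (by rwa [add_comm])
    have h2 : P.pairingIn ℤ i θ < 2 := by
      by_contra hge
      have hli : LinearIndependent R ![P.root θ, P.root i] :=
        RootPairing.IsReduced.linearIndependent P (Ne.symm hne) fun h => hneg (by rw [h, neg_neg])
      have hb2 : 2 ≤ P.chainBotCoeff θ i := by
        have := P.chainBotCoeff_sub_chainTopCoeff (i := θ) (j := i) hli
        omega
      obtain ⟨k₁, hk₁⟩ := (P.root_sub_nsmul_mem_range_iff_le_chainBotCoeff hli).2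
        (show 1 ≤ P.chainBotCoeff θ i by omega)
      obtain ⟨k₂, hk₂⟩ := (P.root_sub_nsmul_mem_range_iff_le_chainBotCoeff hli).2 hb2
      rw [one_nsmul] at hk₁
      rcases RootPairing.Base.IsPos.or_neg b k₁ with hk | hk
      · exact hmax k₁ hk ⟨i, by rw [hk₁]; abel⟩
      · refine hmax _ hk ⟨P.reflectionPerm k₂ k₂, ?_⟩
        let _i := P.indexNeg
        change _ = P.root θ + P.root (P.reflectionPerm k₁ k₁)
        rw [P.root_reflectionPerm, P.root_reflectionPerm, P.reflection_apply_self,
          P.reflection_apply_self, hk₁, hk₂, two_nsmul]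
        abel
    rw [← P.algebraMap_pairingIn ℤ, eq_intCast]
    rcases (by omega : P.pairingIn ℤ i θ = 0 ∨ P.pairingIn ℤ i θ = 1) with h | h <;> simp [h]
  rw [← Finset.add_sum_erase _ _ ((hpos θ).2 hθ), ← Finset.add_sum_erase _ _ ((hpos θ).2 hθ),
    P.pairing_same, Finset.sum_congr rfl (fun i hi => show P.pairing i θ ^ 2 = P.pairing i θ by
      obtain ⟨h1, h2⟩ := Finset.mem_erase.1 hi
      rcases key i ((hpos i).1 h2) h1 with h | h <;> simp [h])]
  ring

end Groth.Agent.S17471
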