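import Groth.Statements.S17472
import Mathlib.RingTheory.HopfAlgebra.Convolution
import Mathlib.RingTheory.Filtration
import Mathlib.RingTheory.Ideal.IdempotentFG
import Mathlib.RingTheory.Jacobson.Ring
import Mathlib.FieldTheory.IsAlgClosed.Basic
import Groth.Agent.Lib.CoalgH23.Basic

set_option autoImplicit false
universe u
open HopfAlg

namespace Groth.Agent.S17472
open scoped TensorProduct

/-- Let k be an algebraically closed field and A a commutative Hopf algebra over k, finitely generated
as a k-algebra, whose only idempotents are 0 and 1 (so that Spec A is a connected affine algebraic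
group over k, possibly non-reduced). Let m be the kernel of the counit, the ideal of the neutral
element. Then the intersection of the powers m^n, n ≥ 0, is the zero ideal; equivalently the
infinitesimal neighbourhoods Spec (A/m^n) of the neutral element are jointly schematically dense.
(The published statement assumes the group smooth, that is, a connected linear algebraic group; the
statement here allows any connected affine algebraic group, possibly non-reduced, a case the
published argument also treats.) -/
theorem result (k : Type u) [Field k] [IsAlgClosed k]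
    (A : Type u) [CommRing A] [HopfAlgebra k A] [Algebra.FiniteType k A]
    (hconn : ∀ e : A, IsIdempotentElem e → e = 0 ∨ e = 1) :
    (⨅ n : ℕ, RingHom.ker (Bialgebra.counitAlgHom k A) ^ n) = ⊥ := by

  have : IsNoetherianRing A := Algebra.FiniteType.isNoetherianRing k A
  let ε := Bialgebra.counitAlgHom k A
  let m := RingHom.ker ε
  let I : Ideal A := ⨅ n : ℕ, m ^ n
  let L : A →ₐ[k] A ⊗[k] A := Algebra.TensorProduct.includeLeft
  let R : A →ₐ[k] A ⊗[k] A := Algebra.TensorProduct.includeRight
  let Δ := Bialgebra.comulAlgHom k A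
  have hdec : ∀ z : A ⊗[k] A,
      z - algebraMap k _ (LinearMap.mul' k k (TensorProduct.map ε.toLinearMap ε.toLinearMap z)) ∈ m.map L ⊔ m.map R := by
    intro z
    induction z with
    | zero => simp
    | add p q hp hq =>
      have e : ∀ a b c d : A ⊗[k] A, a + b - (c + d) = (a - c) + (b - d) := fun a b c d => by abel
      simp only [map_add, e]
      exact add_mem hp hq
    | tmul p q =>
      have e : p ⊗ₜ[k] q - algebraMap k (A ⊗[k] A) (ε p * ε q) =
          (1 ⊗ₜ[k] q) * L (p - algebraMap k A (ε p)) + algebraMap k (A ⊗[k] A) (ε p) * R (q - algebraMap k A (ε q)) := by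
        rw [map_sub, map_sub, AlgHom.commutes, AlgHom.commutes, mul_sub, mul_sub, map_mul]
        simp only [L, R, Algebra.TensorProduct.includeLeft_apply, Algebra.TensorProduct.includeRight_apply,
          Algebra.TensorProduct.tmul_mul_tmul, one_mul, mul_one]
        ring
      simp only [TensorProduct.map_tmul, LinearMap.mul'_apply, AlgHom.toLinearMap_apply]
      rw [e]
      exact add_mem (Ideal.mem_sup_left (Ideal.mul_mem_left _ _ (Ideal.mem_map_of_mem _ (by simp [m, RingHom.mem_ker]))))
        (Ideal.mem_sup_right (Ideal.mul_mem_left _ _ (Ideal.mem_map_of_mem _ (by simp [m, RingHom.mem_ker]))))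
  have hΔ : m.map Δ ≤ m.map L ⊔ m.map R := by
    rw [Ideal.map_le_iff_le_comap]
    intro y hy
    have h := hdec (Δ y)
    have e : LinearMap.mul' k k (TensorProduct.map ε.toLinearMap ε.toLinearMap (Δ y)) = ε y := by
      have h2 : ∀ z : A ⊗[k] A, LinearMap.mul' k k (TensorProduct.map ε.toLinearMap ε.toLinearMap z) =
          ε (TensorProduct.lid k A ((CoalgebraStruct.counit (R := k)).rTensor A z)) := by
        intro z
        induction z with
        | zero => simp
        | add p q hp hq => simp only [map_add, hp, hq]
        | tmul p q => simp [ε]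
      rw [h2, show Δ y = CoalgebraStruct.comul (R := k) y from rfl, Coalgebra.rTensor_counit_comul,
        TensorProduct.lid_tmul, one_smul]
    rw [e, RingHom.mem_ker.1 hy, map_zero, sub_zero] at h
    exact h
  have hΔn : ∀ i j, ∀ a ∈ m ^ (i + j), CoalgebraStruct.comul (R := k) a ∈ (m ^ i).map L ⊔ (m ^ j).map R := by
    intro i j a ha
    have := Ideal.mem_map_of_mem Δ ha
    rw [Ideal.map_pow] at this
    rw [Ideal.map_pow, Ideal.map_pow]
    exact Ideal.sup_pow_add_le_pow_sup_pow (Ideal.pow_right_mono hΔ _ this)
  let τ : (A →ₐ[k] k) → (A →ₐ[k] A) := fun x =>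
    ((Algebra.TensorProduct.rid k k A).toAlgHom.comp (Algebra.TensorProduct.map (AlgHom.id k A) x)).comp Δ
  have hτ : ∀ x a, τ x a = TensorProduct.rid k A (x.toLinearMap.lTensor A (CoalgebraStruct.comul (R := k) a)) :=
    fun x a => rfl
  have hεI : ∀ a ∈ I, ε a = 0 := fun a ha => by
    have := Ideal.mem_iInf.1 ha 1
    rwa [pow_one] at this
  have hτI : ∀ x : A →ₐ[k] k, (∀ a ∈ I, x a = 0) → ∀ a ∈ I, τ x a ∈ I := by
    intro x hx a ha
    refine Ideal.mem_iInf.2 fun i => ?_
    by_contra hne
    obtain ⟨φ, hφ1, hφ2⟩ := Submodule.exists_dual_map_eq_bot_of_notMem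
      (p := (m ^ i).restrictScalars k) (x := τ x a) hne inferInstance
    have hφ0 : ∀ u ∈ m ^ i, φ u = 0 := fun u hu => by
      have h : φ u ∈ ((m ^ i).restrictScalars k).map φ := ⟨u, hu, rfl⟩
      rw [hφ2] at h
      exact (Submodule.mem_bot k).1 h
    let P : A ⊗[k] A →ₗ[k] A := (TensorProduct.lid k A).toLinearMap ∘ₗ φ.rTensor A
    have hPR : ∀ (j : ℕ), ∀ z ∈ (m ^ j).map R, P z ∈ m ^ j := by
      intro j z hz
      refine Submodule.span_induction (fun w hw => ?_) (by simp) (fun p q _ _ hp hq s => by rw [mul_add, map_add]; exact add_mem (hp s) (hq s))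
        (fun r w _ hw => ?_) hz (p := fun w _ => ∀ s : A ⊗[k] A, P (s * w) ∈ m ^ j) |> fun h => by simpa using h 1
      · obtain ⟨u, hu, rfl⟩ := hw
        intro s
        induction s with
        | zero => simp
        | add p q hp hq => simpa [add_mul] using add_mem hp hq
        | tmul p q =>
          simp only [P, R, Algebra.TensorProduct.includeRight_apply, Algebra.TensorProduct.tmul_mul_tmul,
            LinearMap.comp_apply, LinearMap.rTensor_tmul, LinearEquiv.coe_coe, TensorProduct.lid_tmul, mul_one,
            Algebra.smul_def]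
          exact Ideal.mul_mem_left _ _ (Ideal.mul_mem_left _ _ hu)
      · intro s
        rw [smul_eq_mul, ← mul_assoc]
        exact hw _
    have hPL : ∀ z ∈ (m ^ i).map L, P z = 0 := by
      intro z hz
      refine Submodule.span_induction (fun w hw => ?_) (by simp) (fun p q _ _ hp hq s => by
        rw [mul_add, map_add, hp s, hq s, add_zero])
        (fun r w _ hw => ?_) hz (p := fun w _ => ∀ s : A ⊗[k] A, P (s * w) = 0) |> fun h => by simpa using h 1
      · obtain ⟨u, hu, rfl⟩ := hw
        intro s
        induction s with
        | zero => simp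
        | add p q hp hq => rw [add_mul, map_add, hp, hq, add_zero]
        | tmul p q =>
          simp [P, L, Algebra.TensorProduct.tmul_mul_tmul, hφ0 _ (Ideal.mul_mem_left _ p hu)]
      · intro s
        rw [smul_eq_mul, ← mul_assoc]
        exact hw _
    have hb : P (CoalgebraStruct.comul (R := k) a) ∈ I := Ideal.mem_iInf.2 fun j => by
      obtain ⟨l, hl, r, hr, e⟩ := Submodule.mem_sup.1 (hΔn i j a (Ideal.mem_iInf.1 ha _))
      rw [← e, map_add, hPL l hl, zero_add]
      exact hPR j r hr
    refine hφ1 ?_
    rw [hτ]
    have h2 : ∀ z : A ⊗[k] A, φ (TensorProduct.rid k A (x.toLinearMap.lTensor A z)) = x (P z) := by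
      intro z
      induction z with
      | zero => simp
      | add p q hp hq => simp only [map_add, hp, hq]
      | tmul p q => simp [P, mul_comm]
    rw [h2, hx _ hb]
  have hinv : ∀ x : A →ₐ[k] k, ∀ a,
      τ (x.comp (HopfAlgebra.antipodeAlgHom k A)) (τ x a) = a := by
    intro x a
    let y := x.comp (HopfAlgebra.antipodeAlgHom k A)
    let Φ : A ⊗[k] (A ⊗[k] A) →ₗ[k] A := (TensorProduct.rid k A).toLinearMap ∘ₗ
      (LinearMap.mul' k k ∘ₗ TensorProduct.map y.toLinearMap x.toLinearMap).lTensor A
    have h1 : ∀ z : A ⊗[k] A, τ y (TensorProduct.rid k A (x.toLinearMap.lTensor A z)) =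
        Φ (TensorProduct.assoc k A A A ((CoalgebraStruct.comul (R := k)).rTensor A z)) := by
      intro z
      induction z with
      | zero => simp
      | add p q hp hq => simp only [map_add, hp, hq]
      | tmul p q =>
        simp only [LinearMap.lTensor_tmul, TensorProduct.rid_tmul, map_smul, LinearMap.rTensor_tmul, hτ]
        generalize CoalgebraStruct.comul (R := k) p = w
        induction w with
        | zero => simp
        | add r s hr hs => simp only [map_add, smul_add, TensorProduct.add_tmul, hr, hs]
        | tmul r s => simp [Φ, smul_smul, mul_comm]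
    rw [hτ x, h1, Coalgebra.coassoc_apply]
    simp only [Φ, LinearMap.comp_apply, ← LinearMap.lTensor_comp_apply]
    have h2 : (LinearMap.mul' k k ∘ₗ TensorProduct.map y.toLinearMap x.toLinearMap) ∘ₗ
        CoalgebraStruct.comul (R := k) = CoalgebraStruct.counit := by
      refine LinearMap.ext fun c => ?_
      simp only [LinearMap.comp_apply]
      have h3 : ∀ z : A ⊗[k] A, LinearMap.mul' k k (TensorProduct.map y.toLinearMap x.toLinearMap z) =
          x (LinearMap.mul' k A ((HopfAlgebraStruct.antipode (R := k) (A := A)).rTensor A z)) := by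
        intro z
        induction z with
        | zero => simp
        | add p q hp hq => simp only [map_add, hp, hq]
        | tmul p q => simp [y]
      rw [h3, HopfAlgebra.mul_antipode_rTensor_comul_apply, AlgHom.commutes]
      rfl
    rw [h2, Coalgebra.lTensor_counit_comul, LinearEquiv.coe_coe, TensorProduct.rid_tmul, one_smul]
  have hidem : IsIdempotentElem I := by
    refine le_antisymm Ideal.mul_le_right fun a ha => ?_
    have htop : (⊥ : Ideal A).colon {a} ⊔ I = ⊤ := by
      by_contra hne
      obtain ⟨n, hn, hle⟩ := Ideal.exists_le_maximal _ hne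
      letI := Ideal.Quotient.field n
      have : Module.Finite k (A ⧸ n) := finite_of_finite_type_of_isJacobsonRing k (A ⧸ n)
      let e := AlgEquiv.ofBijective (Algebra.ofId k (A ⧸ n))
        (IsAlgClosed.algebraMap_bijective_of_isIntegral (k := k) (K := A ⧸ n))
      let x : A →ₐ[k] k := e.symm.toAlgHom.comp (Ideal.Quotient.mkₐ k n)
      have hx : ∀ c, x c = 0 ↔ c ∈ n := fun c => by simp [x, Ideal.Quotient.eq_zero_iff_mem]
      have hxI : ∀ c ∈ I, x c = 0 := fun c hc => (hx c).2 (hle (Ideal.mem_sup_right hc))
      have hb : τ x a ∈ ⨅ i : ℕ, m ^ i • (⊤ : Submodule A A) := by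
        simpa [I, smul_eq_mul, Ideal.mul_top] using hτI x hxI a ha
      obtain ⟨⟨r, hr⟩, hr'⟩ := (Ideal.mem_iInf_smul_pow_eq_bot_iff m (τ x a)).1 hb
      let y := x.comp (HopfAlgebra.antipodeAlgHom k A)
      have h0 : τ y (1 - r) * a = 0 := by
        conv_lhs => arg 2; rw [← hinv x a]
        rw [← map_mul, sub_mul, one_mul, show r * τ x a = τ x a from hr', sub_self, map_zero]
      have h1 : x (τ y (1 - r)) = 0 :=
        (hx _).2 (hle (Ideal.mem_sup_left (Submodule.mem_colon_singleton.2 (by simpa using h0))))
      have h4 : ∀ c, x (τ y c) = ε c := by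
        intro c
        have h5 : ∀ z : A ⊗[k] A, x (TensorProduct.rid k A (y.toLinearMap.lTensor A z)) =
            x (LinearMap.mul' k A ((HopfAlgebraStruct.antipode (R := k) (A := A)).lTensor A z)) := by
          intro z
          induction z with
          | zero => simp
          | add p q hp hq => simp only [map_add, hp, hq]
          | tmul p q => simp [y, mul_comm]
        rw [hτ, h5, HopfAlgebra.mul_antipode_lTensor_comul_apply, AlgHom.commutes]
        rfl
      rw [h4, map_sub, map_one, RingHom.mem_ker.1 hr, sub_zero] at h1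
      exact one_ne_zero h1
    obtain ⟨s, hs, i, hi, e⟩ := Submodule.mem_sup.1 ((Ideal.eq_top_iff_one _).1 htop)
    have hsa : s * a = 0 := by simpa using Submodule.mem_colon_singleton.1 hs
    have : a = i * a := by
      conv_lhs => rw [← one_mul a, ← e, add_mul, hsa, zero_add]
    rw [this]
    exact Ideal.mul_mem_mul hi ha
  obtain ⟨e, he, hIe⟩ := (Ideal.isIdempotentElem_iff_of_fg I (IsNoetherian.noetherian I)).1 hidem
  show I = ⊥
  rcases hconn e he with rfl | rfl
  · simpa using hIe
  · exact absurd (hεI 1 (by rw [hIe]; exact Submodule.mem_span_singleton_self _)) (by simp)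

end Groth.Agent.S17472
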