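import Groth.Statements.S17473
import Groth.Agent.Lib.Blanchard19

set_option autoImplicit false
universe u
open CategoryTheory MonoidalCategory CartesianMonoidalCategory MonObj GrpObj AlgebraicGeometry CategoryTheory.Limits
open AlgGrp

namespace Groth.Agent.S17473

/-- Let k be a field, G a k-group scheme locally of finite type, X and Y separated k-schemes, f : X → Y
a proper k-morphism such that O_Y → f_*O_X is an isomorphism (on sections over every open subset of
Y), and a an action of G on X. The following are equivalent: (i) some action of G on Y makes f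
equivariant; (ii) X ×_Y X is stable under G acting diagonally on X × X, i.e. for every k-scheme T,
every T-point g of G and all T-points x₁, x₂ of X with f x₁ = f x₂ one has f (g · x₁) = f (g · x₂);
(iii) the underlying map of the composite G × X → X → Y is constant on the topological fibres of G ×
X → G × Y. (The published text works over an algebraically closed field; any field is allowed here.) -/
theorem result (k : Type u) [Field k]
    (G X Y : Over (Spec (CommRingCat.of k))) [GrpObj G] [LocallyOfFiniteType G.hom]
    [IsSeparated X.hom] [IsSeparated Y.hom]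
    (f : X ⟶ Y) [IsProper f.left] (hf : ∀ U : Y.left.Opens, IsIso (f.left.app U))
    (a : AlgGrp.Action G X) :
    [∃ b : AlgGrp.Action G Y, (G ◁ f) ≫ b.act = a.act ≫ f,
      ∀ (T : Over (Spec (CommRingCat.of k))) (g : T ⟶ G) (x₁ x₂ : T ⟶ X),
        x₁ ≫ f = x₂ ≫ f → lift g x₁ ≫ a.act ≫ f = lift g x₂ ≫ a.act ≫ f,
      ∀ p q : ↥(G ⊗ X).left, (G ◁ f).left.base p = (G ◁ f).left.base q →
        (a.act ≫ f).left.base p = (a.act ≫ f).left.base q].TFAE := by
  tfae_have 1 → 2 := fun ⟨b, hb⟩ => Blanchard19.stable_of_action f a b hb
  tfae_have 2 → 3 := fun h2 p q h => Blanchard19.pointwise_of_stable f a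
    (fun T g x₁ x₂ hx t => by rw [h2 T g x₁ x₂ hx]) p q h
  tfae_have 3 → 1 := Blanchard19.exists_action f hf a
  tfae_finish

end Groth.Agent.S17473
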