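import Groth.Statements.S17474
import Groth.Agent.Lib.TensorMod.PullTensor
import Groth.Agent.Lib.Twist.Pullback
import Groth.Agent.Lib.AlgGrpBasic19.Basic
-- import your own Groth.Agent.* helpers here

set_option autoImplicit false
universe u
open CategoryTheory MonoidalCategory CartesianMonoidalCategory MonObj GrpObj AlgebraicGeometry CategoryTheory.Limits
open AlgGrp

namespace Groth.Agent.S17474

set_option linter.style.haveILetI false
set_option backward.isDefEq.respectTransparency.types false


/-- Over an algebraically closed field k, let X be a projective variety (an integral k-scheme admitting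
a closed immersion into some projective space over k) and let a connected k-group scheme of finite
type G act on X. For a k-point g of G write t_g : X → X, x ↦ g · x. Then for every invertible
O_X-module L and every invertible M with L ⊗ M ≅ O_X (an inverse of L), the invertible module
t_g^*(L) ⊗ M is algebraically equivalent to zero. Equivalently, the neutral component of the
automorphism group scheme of X acts trivially on the Néron–Severi group of X. -/
theorem result (k : Type u) [Field k] [IsAlgClosed k]
    (G X : Over (Spec (CommRingCat.of k))) [GrpObj G] [LocallyOfFiniteType G.hom] [QuasiCompact G.hom]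
    [ConnectedSpace ↥G.left] [IsIntegral X.left] (hX : RelProj.IsHProjective X.hom)
    (a : AlgGrp.Action G X) (g : 𝟙_ (Over (Spec (CommRingCat.of k))) ⟶ G)
    (L M : X.left.Modules) (hL : PicF.IsInvertible L) (hM : PicF.IsInvertible M)
    (hLM : Nonempty (CohB1.tensorMod L M ≅ Coh.structureModule X.left)) :
    @Pic13.IsAlgEquivZero k _ X.left ⟨X.hom⟩
      (CohB1.tensorMod ((Scheme.Modules.pullback (lift (toUnit X ≫ g) (𝟙 X) ≫ a.act).left).obj L) M) := by
  classical
  letI : X.left.Over (Spec (CommRingCat.of k)) := ⟨X.hom⟩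
  let A : X ⊗ G ⟶ X := lift (snd X G) (fst X G) ≫ a.act
  let B : X ⊗ G ⟶ X := fst X G
  let F : (X ⊗ G).left.Modules := CohB1.tensorMod ((Scheme.Modules.pullback A.left).obj L) ((Scheme.Modules.pullback B.left).obj M)
  have key : ∀ h : 𝟙_ (Over (Spec (CommRingCat.of k))) ⟶ G,
      Nonempty ((Scheme.Modules.pullback (lift (𝟙 X) (toUnit X ≫ h)).left).obj F ≅
        CohB1.tensorMod ((Scheme.Modules.pullback (lift (toUnit X ≫ h) (𝟙 X) ≫ a.act).left).obj L) M) := fun h => by
    let s := lift (𝟙 X) (toUnit X ≫ h)
    have e1 : s ≫ A = lift (toUnit X ≫ h) (𝟙 X) ≫ a.act := by show lift (𝟙 X) (toUnit X ≫ h) ≫ lift (snd X G) (fst X G) ≫ a.act = _; rw [comp_lift_assoc, lift_snd, lift_fst]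
    have e2 : s ≫ B = 𝟙 X := by simp [s, B]
    refine ⟨M2.pullTensorIso s.left _ _ ≪≫ M2.tensorIso
      ((Scheme.Modules.pullbackComp s.left A.left).app L ≪≫
        (Scheme.Modules.pullbackCongr (show s.left ≫ A.left = _ from congrArg CommaMorphism.left e1)).app L)
      ((Scheme.Modules.pullbackComp s.left B.left).app M ≪≫
        (Scheme.Modules.pullbackCongr (show s.left ≫ B.left = 𝟙 X.left from congrArg CommaMorphism.left e2)).app M ≪≫
        (Scheme.Modules.pullbackId X.left).app M)⟩
  have hslice : ∀ (h : 𝟙_ (Over (Spec (CommRingCat.of k))) ⟶ G) (ht : h.left ≫ G.hom = 𝟙 _),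
      Pic13.sliceAt k X.left G.hom h.left ht = (lift (𝟙 X) (toUnit X ≫ h)).left := fun h ht => by
    apply Limits.pullback.hom_ext
    · exact (Limits.pullback.lift_fst _ _ _).trans (congrArg CommaMorphism.left (lift_fst (𝟙 X) (toUnit X ≫ h))).symm
    · exact (Limits.pullback.lift_snd _ _ _).trans (congrArg CommaMorphism.left (lift_snd (𝟙 X) (toUnit X ≫ h))).symm
  refine ⟨G.left, G.hom, inferInstance, inferInstance, inferInstance, F,
    M2.isInvertible_tensor (Twist.isInvertible_pullback _ hL) (Twist.isInvertible_pullback _ hM),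
    g.left, (η[G]).left, Over.w g, Over.w (η[G]), ?_, ?_⟩
  · unfold Pic13.fibreMod
    rw [hslice g (Over.w g)]
    exact key g
  · unfold Pic13.fibreMod
    rw [hslice (η[G]) (Over.w (η[G]))]
    obtain ⟨i⟩ := key (η[G])
    obtain ⟨j⟩ := hLM
    have e : lift (toUnit X ≫ η[G]) (𝟙 X) ≫ a.act = 𝟙 X := by
      rw [← Hom.one_def]; exact AlgGrpBasic19.act_one a (𝟙 X)
    exact ⟨i ≪≫ M2.tensorIso ((Scheme.Modules.pullbackCongr (congrArg CommaMorphism.left e)).app L ≪≫
      (Scheme.Modules.pullbackId X.left).app L) (Iso.refl M) ≪≫ j⟩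

end Groth.Agent.S17474
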