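import Groth.Statements.S17476
import Groth.Agent.Lib.DepthAlong11.DepthExtend
import Groth.Agent.Lib.AffHom12.Basic
import Groth.Agent.Lib.SerreCrit.Basic
import Groth.Agent.Lib.SMT.CMBasic

set_option autoImplicit false
set_option backward.isDefEq.respectTransparency false
universe u
open CategoryTheory AlgebraicGeometry Opposite
open Coh

namespace Groth.Agent.S17476

/-- Let R be a Noetherian ring, Z = Spec R, M a finitely generated R-module with associated
quasi-coherent sheaf M~ (so that Hom_R(M, R) = Hom_Z(M~, O_Z)), and Z₀ ⊆ Z an open subscheme. (1) If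
the restriction of functions Γ(Z, O_Z) → Γ(Z₀, O_Z) is injective, then the restriction map Hom_Z(M~,
O_Z) → Hom_{Z₀}(M~|Z₀, O_{Z₀}) is injective. (2) If R is an integrally closed domain and the closed
complement of Z₀ has codimension at least 2 (every prime ideal outside Z₀ has height at least 2),
then that restriction map is bijective. (The published first assertion assumes only that Z₀ is
dense; for R = k[x,y]/(x², xy), M = R and Z₀ the locus y ≠ 0, which is dense, multiplication by x is
a nonzero element of Hom_R(M, R) restricting to zero, so schematic density is what is needed and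
what the printed argument uses. The published second assertion is for a normal irreducible affine
variety; any Noetherian integrally closed domain is allowed here.) -/
theorem result (R : Type u) [CommRing R] [IsNoetherianRing R]
    (M : ModuleCat.{u} (CommRingCat.of R)) [Module.Finite R M] (U : (Spec (CommRingCat.of R)).Opens) :
    (Function.Injective ((Spec (CommRingCat.of R)).presheaf.map (homOfLE (le_top : U ≤ ⊤)).op) →
      Function.Injective (fun φ : AlgebraicGeometry.tilde M ⟶ Coh.structureModule (Spec (CommRingCat.of R)) =>
        (Scheme.Modules.restrictFunctor U.ι).map φ)) ∧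
    (IsDomain R → IsIntegrallyClosed R → (∀ p : PrimeSpectrum R, p ∉ U → (2 : ℕ∞) ≤ p.asIdeal.height) →
      Function.Bijective (fun φ : AlgebraicGeometry.tilde M ⟶ Coh.structureModule (Spec (CommRingCat.of R)) =>
        (Scheme.Modules.restrictFunctor U.ι).map φ)) := by
  let Z := Spec (CommRingCat.of R)
  let η := (Scheme.Modules.restrictAdjunction U.ι).unit.app (Coh.structureModule Z)
  have key : ∀ φ : AlgebraicGeometry.tilde M ⟶ Coh.structureModule Z,
      (Scheme.Modules.restrictAdjunction U.ι).homEquiv _ _ ((Scheme.Modules.restrictFunctor U.ι).map φ) = φ ≫ η := fun φ => by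
    rw [Adjunction.homEquiv_unit]
    exact ((Scheme.Modules.restrictAdjunction U.ι).unit.naturality φ).symm
  refine ⟨fun hinj φ φ' h => ?_, fun hdom hic hh => ?_⟩
  · refine AffHom12.hom_ext_top (inferInstanceAs ((AlgebraicGeometry.tilde M).IsQuasicoherent)) φ φ' fun g => ?_
    have h1 : φ ≫ η = φ' ≫ η := by rw [← key, ← key]; exact congrArg _ h
    have h2 := congrArg (fun q => (Scheme.Modules.Hom.app q ⊤) g) h1
    simp only [Scheme.Modules.Hom.comp_app, η, Scheme.Modules.restrictAdjunction_unit_app_app] at h2
    refine hinj ?_
    have hle : U ≤ U.ι ''ᵁ (U.ι ⁻¹ᵁ (⊤ : Z.Opens)) := by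
      rw [Scheme.Hom.image_preimage_eq_opensRange_inf, Scheme.Opens.opensRange_ι, inf_top_eq]
    have h3 := congrArg (M1.mres (Coh.structureModule Z) hle) h2
    show M1.mres (Coh.structureModule Z) (le_top : U ≤ ⊤) _ = M1.mres (Coh.structureModule Z) (le_top : U ≤ ⊤) _
    rw [← M1.mres_mres (Coh.structureModule Z) (U.ι.image_preimage_le ⊤) hle,
      ← M1.mres_mres (Coh.structureModule Z) (U.ι.image_preimage_le ⊤) hle]
    exact h3
  · haveI := hdom
    haveI := hic
    haveI : IsLocallyNoetherian Z := inferInstance
    haveI : Coh.IsQCoh (Coh.structureModule Z) := M1.isQCoh_structureModule Z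
    haveI : IsIso η := DepthAlong11.isIso_unit_of_hasSlicePair
      (DepthAlong11.hasSlicePair_of_depth _ (M1.isCoh_structureModule Z) U fun z hz => by
        let e := (Spec.stalkIso (CommRingCat.of R) z).commRingCatIsoToRingEquiv
        haveI : IsDomain (Localization.AtPrime z.asIdeal) :=
          IsLocalization.isDomain_localization z.asIdeal.primeCompl_le_nonZeroDivisors
        haveI : IsIntegrallyClosed (Localization.AtPrime z.asIdeal) :=
          isIntegrallyClosed_of_isLocalization _ z.asIdeal.primeCompl z.asIdeal.primeCompl_le_nonZeroDivisors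
        have hd : (2 : WithBot ℕ∞) ≤ ringKrullDim (Localization.AtPrime z.asIdeal) := by
          rw [IsLocalization.AtPrime.ringKrullDim_eq_height z.asIdeal]
          exact WithBot.coe_le_coe.2 (hh z hz)
        rw [show LocCoh.depth (Z.presheaf.stalk z) ((Coh.structureModule Z).presheaf.stalk z) =
            LocCoh.depth (Z.presheaf.stalk z) (Z.presheaf.stalk z) from
          (DepthLib.idealDepth_congr (RH26.str (X := Z) z)).symm, SMT.depth_eq_of_ringEquiv e.symm]
        exact SerreCrit.two_le_depth_of_normal _ hd)
    refine ⟨fun φ φ' h => ?_, fun ψ => ?_⟩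
    · rw [← cancel_mono η, ← key, ← key]
      exact congrArg _ h
    · refine ⟨(Scheme.Modules.restrictAdjunction U.ι).homEquiv _ _ ψ ≫ inv η,
        ((Scheme.Modules.restrictAdjunction U.ι).homEquiv _ _).injective ?_⟩
      rw [key, Category.assoc, IsIso.inv_hom_id, Category.comp_id]

end Groth.Agent.S17476
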