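import Groth.Statements.S17478
import Groth.Agent.Lib.AmpleFix14.Main
import Groth.Agent.Lib.QuotProj11.Proper

set_option autoImplicit false
universe u
open CategoryTheory MonoidalCategory CartesianMonoidalCategory MonObj GrpObj AlgebraicGeometry CategoryTheory.Limits
open AlgGrp

namespace Groth.Agent.S17478

/-- Over an algebraically closed field k, let X be a projective variety (an integral k-scheme with a
closed immersion into some projective space over k) and L an ample invertible O_X-module. Let G be a
reduced k-group scheme of finite type acting faithfully on X (for every k-scheme T, a T-point of G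
acting as the identity on X × T is the unit) such that every k-point g of G fixes the isomorphism
class of L: t_g^*(L) ≅ L, where t_g : X → X is x ↦ g · x. Then G is affine. (The published statement
is that the reduced stabiliser of the class of L in the automorphism group scheme of X is a linear
algebraic group, i.e. smooth, affine and of finite type; the form here is its consequence for
reduced algebraic groups acting faithfully, the reduced closed subgroups of that stabiliser, and
does not restate that the stabiliser has finitely many components.) -/
theorem result (k : Type u) [Field k] [IsAlgClosed k]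
    (G X : Over (Spec (CommRingCat.of k))) [GrpObj G] [LocallyOfFiniteType G.hom] [QuasiCompact G.hom]
    [IsReduced G.left] [IsIntegral X.left] (hX : RelProj.IsHProjective X.hom)
    (a : AlgGrp.Action G X)
    (hfaith : ∀ (T : Over (Spec (CommRingCat.of k))) (g : T ⟶ G),
      lift (fst T X ≫ g) (snd T X) ≫ a.act = snd T X → g = toUnit T ≫ η[G])
    (L : X.left.Modules) (hL : PicF.IsInvertible L) (hLa : CohB1.IsAmple L)
    (hfix : ∀ g : 𝟙_ (Over (Spec (CommRingCat.of k))) ⟶ G, Nonempty ((Scheme.Modules.pullback (lift (toUnit X ≫ g) (𝟙 X) ≫ a.act).left).obj L ≅ L)) :
    IsAffine G.left := by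
  haveI : IsProper X.hom := QuotProj11.isProper_of_isHProjective hX
  refine AmpleFix14.isAffine_of_fix_ample a (fun g hg => ?_) hLa hfix
  have h1 := hfaith (𝟙_ _) g (by
    have h2 := congrArg (fun u => snd (𝟙_ (Over (Spec (CommRingCat.of k)))) X ≫ u) hg
    rw [Category.comp_id, OrbitTop19.comp_tr] at h2
    rw [← h2]
    congr 2)
  rw [h1, Hom.one_def]

end Groth.Agent.S17478
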