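import Groth.Statements.S17479
import Groth.Agent.Lib.AmpleFix14.Restr
import Groth.Agent.Lib.QuotProj11.Proper
import Groth.Agent.Lib.BorelFix21.Stabilizer
import Groth.Agent.Lib.CohFound.Chevalley

set_option autoImplicit false
universe u
open CategoryTheory MonoidalCategory CartesianMonoidalCategory MonObj GrpObj AlgebraicGeometry CategoryTheory.Limits
open AlgGrp

namespace Groth.Agent.S17479

/-- Over an algebraically closed field k, let X be a projective variety (an integral k-scheme with a
closed immersion into some projective space over k) whose Picard variety is trivial: every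
invertible O_X-module algebraically equivalent to zero is isomorphic to O_X. Let G be a connected
k-group scheme of finite type acting faithfully on X (for every k-scheme T, a T-point of G acting as
the identity on X × T is the unit). Then G is affine. (The published statement is that the neutral
component of the reduced automorphism group of X is linear; linear is read as affine, and the form
here is its consequence for connected algebraic groups acting faithfully, which are closed subgroup
schemes of the neutral component of the automorphism group scheme. For a non-reduced such group this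
says slightly more than the published corollary: one also uses that a Noetherian scheme whose
reduction is affine is affine.) -/
theorem result (k : Type u) [Field k] [IsAlgClosed k]
    (G X : Over (Spec (CommRingCat.of k))) [GrpObj G] [LocallyOfFiniteType G.hom] [QuasiCompact G.hom]
    [ConnectedSpace ↥G.left] [IsIntegral X.left] (hX : RelProj.IsHProjective X.hom)
    (hPic : ∀ L : X.left.Modules, PicF.IsInvertible L → @Pic13.IsAlgEquivZero k _ X.left ⟨X.hom⟩ L →
      Nonempty (L ≅ Coh.structureModule X.left))
    (a : AlgGrp.Action G X)
    (hfaith : ∀ (T : Over (Spec (CommRingCat.of k))) (g : T ⟶ G),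
      lift (fst T X ≫ g) (snd T X) ≫ a.act = snd T X → g = toUnit T ≫ η[G]) :
    IsAffine G.left := by
  haveI : IsProper X.hom := QuotProj11.isProper_of_isHProjective hX
  haveI := AbRigid.isSeparated_of_grpObj G
  obtain ⟨H, _, r, hrm, hrc, hrs, hred, -⟩ := BorelFix21.exists_reduced_subgroup G
  haveI := hrm
  haveI := hrc
  haveI := hrs
  haveI := hred
  haveI : LocallyOfFiniteType H.hom := by rw [← Over.w r]; infer_instance
  haveI : QuasiCompact H.hom := by rw [← Over.w r]; infer_instance
  haveI : IsFinite r.left := inferInstance
  haveI : Mono r := Over.mono_of_mono_left r
  let b : AlgGrp.Action H X := ActRestr14.restr r a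
  have hb : ∀ g : 𝟙_ (Over (Spec (CommRingCat.of k))) ⟶ H, OrbitTop19.tr b g = OrbitTop19.tr a (g ≫ r) :=
    fun g => ActRestr14.tr_restr r a g
  obtain ⟨L, hLa⟩ := ActRestr14.exists_ample hX
  haveI : IsAffine H.left := AmpleFix14.isAffine_of_fix_ample b (fun g hg => by
    rw [hb] at hg
    have h1 := hfaith (𝟙_ _) (g ≫ r) (by
      have h2 := congrArg (fun u => snd (𝟙_ (Over (Spec (CommRingCat.of k)))) X ≫ u) hg
      rw [Category.comp_id, OrbitTop19.comp_tr] at h2
      rw [← h2]
      congr 2)
    rw [← cancel_mono r, h1, ← IsMonHom.one_hom r]
    rw [Hom.one_def, Category.assoc]) hLa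
    (fun g => by rw [hb]; exact ActRestr14.nonempty_tr_iso hPic a (g ≫ r) hLa.1)
  haveI : IsLocallyNoetherian G.left := LocallyOfFiniteType.isLocallyNoetherian G.hom
  haveI : CompactSpace G.left := QuasiCompact.compactSpace_of_compactSpace G.hom
  haveI : IsNoetherian G.left := {}
  exact CohFound.isAffine_of_finite_surjective r.left

end Groth.Agent.S17479
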