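import Groth.Statements.S6965
import Groth.Agent.Lib.DMod.InjAmp
-- import your own Groth.Agent.* helpers here

set_option autoImplicit false
universe u
open CategoryTheory CategoryTheory.Limits
attribute [local instance] HasDerivedCategory.standard
open DRing

namespace Groth.Agent.S6965

/-- Let R be a commutative ring, K an object of D(R) and a, b integers. These three conditions are
equivalent: (1) the injective amplitude of K lies in [a, b], meaning K is isomorphic in D(R) to a
complex of injective R-modules vanishing outside [a, b]; (2) Hom(N[0], K[i]) = 0 in D(R) for every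
R-module N and every integer i outside [a, b]; (3) Hom((R/I)[0], K[i]) = 0 in D(R) for every ideal I
of R and every integer i outside [a, b]. -/
theorem result (R : Type u) [CommRing R] (K : Dual.D R) (a b : ℤ) :
    [DRing.HasInjAmplitudeIn R a b K,
      ∀ (N : Type u) [AddCommGroup N] [Module R N] (i : ℤ), (i < a ∨ b < i) →
        Subsingleton (DRing.ExtD R (Dual.inD R N) K i),
      ∀ (I : Ideal R) (i : ℤ), (i < a ∨ b < i) → Subsingleton (DRing.ExtD R (Dual.inD R (R ⧸ I)) K i)].TFAE := by
  tfae_have 1 → 2 := by
    intro h N _ _ i hi
    have := Groth.Agent.DMod.subsingleton_of_injAmp h (ModuleCat.of R N) i hi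
    exact (Groth.Agent.DMod.homSingleEquiv K (ModuleCat.of R N) i).subsingleton
  tfae_have 2 → 3 := fun h I i hi => h (R ⧸ I) i hi
  tfae_have 3 → 1 := fun h => Groth.Agent.DMod.exists_injAmp a b fun I i hi =>
    haveI := h I i hi
    (Groth.Agent.DMod.homSingleEquiv K (ModuleCat.of R (R ⧸ I)) i).symm.subsingleton
  tfae_finish

end Groth.Agent.S6965
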