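import Groth.Statements.S1748
import Groth.Agent.Lib.Bootstrap27.PolyInjAmp
import Groth.Agent.S6965
-- import your own Groth.Agent.* helpers here

set_option autoImplicit false
universe u
open CategoryTheory
open scoped TensorProduct Polynomial
attribute [local instance] HasDerivedCategory.standard
open InjHull

namespace Groth.Agent.S1748

/-- Let A be a Noetherian ring and E an injective A-module. Then A[x] ⊗_A E, as an object of D(A[x]) in
degree 0, has injective amplitude in [0, 1]: it is quasi-isomorphic to a complex of injective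
A[x]-modules concentrated in degrees 0 and 1. In particular it has finite injective dimension. -/
theorem result (A : Type u) [CommRing A] [IsNoetherianRing A] (E : Type u) [AddCommGroup E] [Module A E] [Module.Injective A E] : DRing.HasInjAmplitudeIn A[X] 0 1 (Dual.inD A[X] (A[X] ⊗[A] E)) := by
  letI := HasDerivedCategory.standard (ModuleCat.{u} A[X])
  haveI := PolyInj27.hasInjectiveDimensionLT_two A E ‹_›
  refine ((S6965.result A[X] (Dual.inD A[X] (A[X] ⊗[A] E)) 0 1).out 0 2).2 fun J i hi => ?_
  rcases hi with hi | hi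
  · refine ⟨fun f g => ?_⟩
    haveI hK : (Dual.inD A[X] (A[X] ⊗[A] E)).IsGE 0 :=
      inferInstanceAs (((DerivedCategory.singleFunctor (ModuleCat.{u} A[X]) 0).obj (ModuleCat.of A[X] (A[X] ⊗[A] E))).IsGE 0)
    haveI hN : (Dual.inD A[X] (A[X] ⧸ J)).IsLE 0 :=
      inferInstanceAs (((DerivedCategory.singleFunctor (ModuleCat.{u} A[X]) 0).obj (ModuleCat.of A[X] (A[X] ⧸ J))).IsLE 0)
    haveI := DerivedCategory.TStructure.t.isGE_shift (Dual.inD A[X] (A[X] ⊗[A] E)) 0 i (-i) (by omega)
    exact (DerivedCategory.TStructure.t.zero_of_isLE_of_isGE f 0 (-i) (by omega) inferInstance inferInstance).trans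
      (DerivedCategory.TStructure.t.zero_of_isLE_of_isGE g 0 (-i) (by omega) inferInstance inferInstance).symm
  · obtain ⟨n, rfl⟩ : ∃ n : ℕ, i = n := ⟨i.toNat, by omega⟩
    haveI := HasInjectiveDimensionLT.subsingleton (ModuleCat.of A[X] (A[X] ⊗[A] E)) 2 n (by omega)
      (ModuleCat.of A[X] (A[X] ⧸ J))
    exact (Abelian.Ext.homEquiv (C := ModuleCat.{u} A[X])).symm.subsingleton


end Groth.Agent.S1748
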