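import Groth.Statements.S17480
-- import your own Groth.Agent.* helpers here
import Groth.Agent.S14596
import Groth.Agent.S3278
import Groth.Agent.Lib.BorelFix21.QuotMap
import Groth.Agent.Lib.GrassAct21.QuotAffine
import Groth.Agent.Lib.InvRing21.Points
import Groth.Agent.Lib.CohFound.Chevalley

set_option autoImplicit false
universe u
open CategoryTheory MonoidalCategory CartesianMonoidalCategory MonObj GrpObj AlgebraicGeometry CategoryTheory.Limits
open AlgGrp

namespace Groth.Agent.S17480

set_option backward.isDefEq.respectTransparency false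
set_option linter.style.haveILetI false

variable {k : Type u} [Field k]

/-- A flat surjective homomorphism is the quotient by its kernel. -/
theorem isQuotient_of_isKernel {N Q M : Over (Spec (CommRingCat.of k))} [GrpObj N] [GrpObj Q] [GrpObj M]
    [LocallyOfFiniteType Q.hom] (m : M ⟶ N) [IsMonHom m] (q : N ⟶ Q) [IsMonHom q] [Flat q.left] [Surjective q.left]
    (hk : AlgGrp.IsKernel m q) :
    ∃ (a : AlgGrp.Action N Q), a.orbitMap η[Q] = q ∧ AGF.IsQuotient m Q a η[Q] := by
  let a : AlgGrp.Action N Q :=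
    { act := (fst N Q ≫ q) * snd N Q
      one_act := by
        apply Eq.trans (MonObj.comp_mul _ _ _)
        rw [whiskerRight_fst_assoc, IsMonHom.one_hom, whiskerRight_snd, leftUnitor_hom,
          toUnit_unique (fst (𝟙_ _) Q) (toUnit _), ← Hom.one_def, _root_.one_mul]
      mul_act := by
        refine AlgGrp.Action.hom_ext_lift₂ fun T g p => ?_
        obtain ⟨g₁, g₂, rfl⟩ : ∃ g₁ g₂, g = lift g₁ g₂ := ⟨g ≫ fst N N, g ≫ snd N N, by
          rw [← comp_lift, lift_fst_snd, Category.comp_id]⟩
        rw [lift_whiskerRight_assoc, ← Hom.mul_def, lift_lift_associator_hom_assoc, lift_whiskerLeft_assoc,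
          MonObj.comp_mul, lift_fst_assoc, lift_snd, MonObj.comp_mul, lift_fst_assoc, lift_snd,
          MonObj.comp_mul, lift_fst_assoc, lift_snd, MonObj.mul_comp, _root_.mul_assoc] }
  have horb : a.orbitMap η[Q] = q := by
    show lift (𝟙 N) (toUnit N ≫ η[Q]) ≫ ((fst N Q ≫ q) * snd N Q) = q
    rw [MonObj.comp_mul, lift_fst_assoc, lift_snd, Category.id_comp, ← Hom.one_def, _root_.mul_one]
  refine ⟨a, horb, ‹_›, by rw [horb]; infer_instance, by rw [horb]; infer_instance, ?_⟩
  rw [horb]
  haveI : Mono m := ⟨fun u v huv => hk.hom_ext huv (toUnit_unique _ _)⟩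
  have hw : fst N M ≫ q = ((N ◁ m) ≫ μ[N]) ≫ q := by
    refine AlgGrp.Action.hom_ext_lift₂ fun T g h => ?_
    rw [lift_fst_assoc, ← Category.assoc, BorelFix21.mul_comp_whisker, MonObj.mul_comp, Category.assoc, hk.w,
      ← Category.assoc, toUnit_unique (h ≫ toUnit M) (toUnit T), ← Hom.one_def, _root_.mul_one]
  have key : ∀ s : Limits.PullbackCone q q, ∃ c : s.pt ⟶ M, c ≫ m = s.fst⁻¹ * s.snd := by
    intro s
    refine ⟨hk.lift (s.fst⁻¹ * s.snd) (toUnit _) ?_, hk.lift_fst _ _ _⟩
    rw [MonObj.mul_comp, GrpObj.inv_comp, s.condition, inv_mul_cancel, Hom.one_def]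
  choose c hc using key
  refine ⟨⟨hw⟩, ⟨Limits.PullbackCone.IsLimit.mk hw (fun s => lift s.fst (c s)) (fun s => lift_fst _ _)
    (fun s => by rw [BorelFix21.mul_comp_whisker, hc, mul_inv_cancel_left]) fun s t h1 h2 => ?_⟩⟩
  have ht : lift (t ≫ fst N M) (t ≫ snd N M) = t := by rw [← comp_lift, lift_fst_snd, Category.comp_id]
  rw [← ht] at h2
  rw [BorelFix21.mul_comp_whisker, h1] at h2
  rw [← ht, h1]
  congr 1
  rw [← cancel_mono m, hc, ← h2, inv_mul_cancel_left]

theorem isClosedImmersion_point {X : Over (Spec (CommRingCat.of k))} (o : 𝟙_ (Over (Spec (CommRingCat.of k))) ⟶ X) :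
    IsClosedImmersion o.left :=
  isClosedImmersion_of_comp_eq_id X.hom o.left (Over.w o)


/-- Over an algebraically closed field k, let G be a connected linear algebraic group (a smooth, affine,
connected k-group scheme), i : H → G a closed subgroup scheme (not necessarily reduced), j : H⁰ → H
its neutral component (an open subgroup scheme which is connected), and n : N → G the normaliser of
H⁰ in G. Let Q₁ = G/H and Q₂ = G/N be the quotients (G-actions with base points o₁, o₂ whose orbit
maps are flat and surjective, with G × H ≅ G ×_{Q₁} G and likewise for N), and let f : Q₁ → Q₂ be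
the morphism under which the orbit map of o₁ composes to the orbit map of o₂ (it exists since H ⊆
N). Then f is an affine morphism. -/
theorem result (k : Type u) [Field k] [IsAlgClosed k]
    (G H H₀ N Q₁ Q₂ : Over (Spec (CommRingCat.of k))) [GrpObj G] [GrpObj H] [GrpObj H₀] [GrpObj N]
    [IsAffine G.left] [Smooth G.hom] [ConnectedSpace ↥G.left]
    (i : H ⟶ G) [IsMonHom i] (hi : IsClosedImmersion i.left)
    (j : H₀ ⟶ H) [IsMonHom j] (hj : IsOpenImmersion j.left) [ConnectedSpace ↥H₀.left]
    (n : N ⟶ G) (hN : Red.IsNormalizerOf (j ≫ i) n)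
    (a₁ : AlgGrp.Action G Q₁) (o₁ : 𝟙_ (Over (Spec (CommRingCat.of k))) ⟶ Q₁) (hQ₁ : AGF.IsQuotient i Q₁ a₁ o₁)
    (a₂ : AlgGrp.Action G Q₂) (o₂ : 𝟙_ (Over (Spec (CommRingCat.of k))) ⟶ Q₂) (hQ₂ : AGF.IsQuotient n Q₂ a₂ o₂)
    (f : Q₁ ⟶ Q₂) (hf : a₁.orbitMap o₁ ≫ f = a₂.orbitMap o₂) :
    IsAffineHom f.left := by
  obtain ⟨hnm, hnmono, hNiff⟩ := hN
  haveI := FpqcDesc.descendsAlong_isFinite.{u}
  haveI := FpqcDesc.descendsAlong_isAffineHom.{u}
  haveI := hnm
  haveI := hnmono
  haveI := hi
  haveI := hj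
  -- the normaliser is the stabiliser of the base point
  have hsq : IsPullback n.left (toUnit N).left (a₂.orbitMap o₂).left o₂.left :=
    (S14596.fibre_sq hQ₂).map (Over.forget _)
  haveI : IsClosedImmersion n.left :=
    MorphismProperty.of_isPullback (P := @IsClosedImmersion) hsq.flip (isClosedImmersion_point o₂)
  haveI : IsAffine N.left := isAffine_of_isAffineHom n.left
  haveI : LocallyOfFiniteType N.hom := by rw [← Over.w n]; infer_instance
  haveI : IsAffine H.left := isAffine_of_isAffineHom i.left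
  haveI : LocallyOfFiniteType H.hom := by rw [← Over.w i]; infer_instance
  haveI : IsSeparated H.hom := AbRigid.isSeparated_of_grpObj H
  haveI : IsClosedImmersion j.left := InvRing21.isClosedImmersion_of_open_subgroup j
  haveI : IsAffine H₀.left := isAffine_of_isAffineHom j.left
  haveI : LocallyOfFiniteType H₀.hom := by rw [← Over.w j]; infer_instance
  -- H lies in N
  have hiπ : i ≫ a₂.orbitMap o₂ = toUnit H ≫ o₂ := by
    have ho : o₁ ≫ f = o₂ := by
      rw [← S14596.eta_orbitMap (a := a₁) (o := o₁), Category.assoc, hf, S14596.eta_orbitMap]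
    rw [← hf, ← Category.assoc, (S14596.fibre_sq hQ₁).w, Category.assoc, ho]
  let l : H ⟶ N := (S14596.fibre_sq hQ₂).lift i (toUnit H) hiπ
  have hl : l ≫ n = i := (S14596.fibre_sq hQ₂).lift_fst _ _ _
  haveI : IsMonHom l :=
    { one_hom := by rw [← cancel_mono n, Category.assoc, hl, IsMonHom.one_hom, IsMonHom.one_hom]
      mul_hom := by
        rw [← cancel_mono n, Category.assoc, hl, IsMonHom.mul_hom, Category.assoc, IsMonHom.mul_hom,
          ← Category.assoc, MonoidalCategory.tensorHom_comp_tensorHom, hl] }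
  haveI : IsClosedImmersion (l.left ≫ n.left) := by rw [← Over.comp_left, hl]; infer_instance
  haveI : IsClosedImmersion l.left := IsClosedImmersion.of_comp l.left n.left
  haveI : Mono l := Over.mono_of_mono_left l
  -- the component is normal in N
  let m : H₀ ⟶ N := j ≫ l
  haveI : IsClosedImmersion m.left := inferInstanceAs (IsClosedImmersion (j.left ≫ l.left))
  have hmn : AlgGrp.IsNormalHom m := by
    intro T g h
    obtain ⟨⟨h', hh'⟩, -⟩ := (hNiff T (g ≫ n)).1 ⟨g, rfl⟩ T (𝟙 T) h
    refine ⟨h', ?_⟩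
    rw [← cancel_mono n, MonObj.mul_comp, MonObj.mul_comp, GrpObj.inv_comp]
    simpa [m, hl] using hh'
  obtain ⟨Qg, _, q, hqm, hQaff, hQlft, hqflat, hqsurj, hqker⟩ := S3278.result k N H₀ m hmn
  haveI := hqm; haveI := hQaff; haveI := hQlft; haveI := hqflat; haveI := hqsurj
  obtain ⟨aQ, hoQ, hQquot⟩ := isQuotient_of_isKernel m q hqker
  obtain ⟨Y, b, y, hY, hYs, hYq⟩ := GrassAct21.exists_quotient_affine l
  haveI := hYs; haveI := hYq
  haveI : LocallyOfFiniteType Y.hom := hY.1
  obtain ⟨Z, c, z, hZ, hZs, hZq⟩ := GrassAct21.exists_quotient_affine j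
  haveI := hZs; haveI := hZq
  haveI : LocallyOfFiniteType Z.hom := hZ.1
  haveI : IsFinite Z.hom := by
    haveI : CompactSpace H.left := inferInstance
    haveI := S14596.finite_of_isOpen hZ j.left.isOpenEmbedding.isOpen_range
    haveI : LocallyQuasiFinite Z.hom := LocallyQuasiFinite.of_finite_preimage_singleton _ fun _ => Set.toFinite _
    exact DegRank.isFinite_of_finite Z.hom
  -- N/H₀ ⟶ N/H is finite surjective
  obtain ⟨hπ1, hπ2, -, hpbQ⟩ := id hQquot
  haveI : Flat (aQ.orbitMap η[Qg]).left := hoQ ▸ hqflat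
  haveI : Surjective (aQ.orbitMap η[Qg]).left := hoQ ▸ hqsurj
  obtain ⟨qbar, hqbar, -⟩ := (Desc.isCover_of_lft (aQ.orbitMap η[Qg])).descend_of_isPullback hpbQ (b.orbitMap y) (by
    refine (BorelFix21.orbit_eq_iff hY _ _).2 ⟨snd N H₀ ≫ j, ?_⟩
    rw [Category.assoc, ← BorelFix21.mul_comp_whisker m (fst N H₀) (snd N H₀), lift_fst_snd, Category.id_comp])
  have hfin : IsFinite qbar.left :=
    BorelFix21.quotientMap_of_property (rfl : j ≫ l = m) hQquot hY hZ hqbar @IsFinite ‹_›
  haveI := hfin
  haveI : Surjective qbar.left := by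
    haveI : Surjective (q.left ≫ qbar.left) := by
      rw [← Over.comp_left, ← hoQ, hqbar]; exact hY.2.2.1
    exact Surjective.of_comp q.left qbar.left
  haveI : IsNoetherian Y.left := by
    haveI : IsLocallyNoetherian Y.left := LocallyOfFiniteType.isLocallyNoetherian Y.hom
    haveI : CompactSpace Y.left := HasAffineProperty.iff_of_isAffine.1 ‹QuasiCompact Y.hom›
    exact {}
  haveI : IsAffine Y.left := CohFound.isAffine_of_finite_surjective qbar.left
  exact BorelFix21.quotientMap_of_property hl hQ₁ hQ₂ hY hf @IsAffineHom inferInstance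


end Groth.Agent.S17480
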