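import Groth.Statements.S17486
import Groth.Agent.Lib.FitGen26.Basic
import Groth.Agent.Lib.CurveCoh17.Bases
import Groth.Agent.Lib.TFOne27.Modif
import Groth.Agent.Lib.ModM1.FibreProd
import Groth.Agent.Lib.CohFound.FTSubVan
import Groth.Agent.Lib.KFlat.FinLocFree
-- import your own Groth.Agent.* helpers here

set_option autoImplicit false
set_option linter.style.haveILetI false
set_option backward.isDefEq.respectTransparency false
set_option backward.isDefEq.respectTransparency.types false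
universe u
open CategoryTheory CategoryTheory.Limits AlgebraicGeometry
open Coherent

namespace Groth.Agent.S17486

/-- Let k be an algebraically closed field of characteristic zero and Y a smooth projective variety over
k (an integral scheme, smooth over k, with a closed immersion into some P^n_k over k). Let A = A₁ ⊕
A₂ and B = B₁ ⊕ B₂ be finite locally free O_Y-modules with A_i of rank a_i ≥ 1 and B_j of rank b_j ≥
1, a₁ + a₂ ≤ b₁ + b₂, such that the sheaves Hom(A₁, B₁), Hom(A₁, B₂), Hom(A₂, B₂) (right adjoints of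
A_i ⊗ -, whose existence is the stated instance hypothesis; it holds) are globally generated while
every morphism A₂ → B₁ is zero (the sheaf Hom(A₂, B₁) has no nonzero global section). For φ : A → B
let Z(φ) ⊆ Y be the closed set where φ drops rank, i.e. where the rank of φ on fibres is less than
a₁ + a₂: the zero set of the (b₁ + b₂ - a₁ - a₂)-th Fitting ideal sheaf of the cokernel of φ
(locally generated by the maximal minors of φ). If b₂ < a₂, then every φ : A → B drops rank at every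
point of Y, i.e. Z(φ) = Y. -/
theorem result
    (k : Type u) [Field k] [IsAlgClosed k] [CharZero k]
    (Y : Scheme.{u}) [Y.Over (Spec (CommRingCat.of k))] [AlgebraicGeometry.IsIntegral Y]
    [Smooth (Y ↘ Spec (CommRingCat.of k))]
    (hproj : ∃ (N : ℕ) (ι : Y ⟶ CohB1.ProjSpace N k), IsClosedImmersion ι ∧
      ι ≫ CohB1.ProjSpace.toSpec N k = (Y ↘ (Spec (CommRingCat.of k))))
    (A₁ A₂ B₁ B₂ : Y.Modules) (a₁ a₂ b₁ b₂ : ℕ)
    (hA₁ : FlatMod.IsFinLocFreeOfRank a₁ A₁) (hA₂ : FlatMod.IsFinLocFreeOfRank a₂ A₂)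
    (hB₁ : FlatMod.IsFinLocFreeOfRank b₁ B₁) (hB₂ : FlatMod.IsFinLocFreeOfRank b₂ B₂)
    (ha₁ : 1 ≤ a₁) (ha₂ : 1 ≤ a₂) (hb₁ : 1 ≤ b₁) (hb₂ : 1 ≤ b₂) (hab : a₁ + a₂ ≤ b₁ + b₂)
    [DCoh.HasSheafHom A₁] [DCoh.HasSheafHom A₂]
    (h₁₁ : Curv2.IsGloballyGenerated ((DCoh.sheafHom A₁).obj B₁))
    (h₁₂ : Curv2.IsGloballyGenerated ((DCoh.sheafHom A₁).obj B₂))
    (h₂₂ : Curv2.IsGloballyGenerated ((DCoh.sheafHom A₂).obj B₂))
    (h₂₁ : ∀ ψ : A₂ ⟶ B₁, ψ = 0) (hlt : b₂ < a₂) (φ : (A₁ ⊞ A₂) ⟶ (B₁ ⊞ B₂)) :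
    (((Fitt.sheafIdeal (cokernel φ) (b₁ + b₂ - (a₁ + a₂))).support : TopologicalSpace.Closeds Y) : Set Y) = Set.univ := by
  classical
  open Groth.Agent.CurveCoh17 in
  refine Set.eq_univ_of_forall fun y => ?_
  by_contra hy
  have hB : FlatMod.IsFinLocFree (B₁ ⊞ B₂) :=
    Groth.Agent.KFlat.Sch.isFinLocFree_biprod
      (fun x => let ⟨U, hU, e⟩ := hB₁ x; ⟨U, b₁, hU, e⟩) (fun x => let ⟨U, hU, e⟩ := hB₂ x; ⟨U, b₂, hU, e⟩)
  have hA : FlatMod.IsFinLocFree (A₁ ⊞ A₂) :=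
    Groth.Agent.KFlat.Sch.isFinLocFree_biprod
      (fun x => let ⟨U, hU, e⟩ := hA₁ x; ⟨U, a₁, hU, e⟩) (fun x => let ⟨U, hU, e⟩ := hA₂ x; ⟨U, a₂, hU, e⟩)
  have hqB := Groth.Agent.M2.isQCoh_of_isFinLocFree hB
  have hqA := Groth.Agent.M2.isQCoh_of_isFinLocFree hA
  have hqC := Groth.Agent.M1.isQCoh_cokernel hqA hqB φ
  have hftB : CohB1.IsFT (B₁ ⊞ B₂) := Groth.Agent.M1.isFP_isFT (Groth.Agent.M1.isFP_of_isFinLocFree hB)
  have hftC : CohB1.IsFT (cokernel φ) := Groth.Agent.M1.isFT_of_epi (cokernel.π φ) hftB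
  obtain ⟨U, hyU, π, hπ⟩ :=
    (Groth.Agent.FitGen26.generated_iff hqC hftC y (b₁ + b₂ - (a₁ + a₂))).2 hy
  obtain ⟨g, hg⟩ := Groth.Agent.FitGen26.exists_span_stalk_of_epi U _ π hyU
  -- lift to the stalk of the target
  have hsurj : Function.Surjective (stalkLin (cokernel.π φ) y) :=
    (Groth.Agent.M1.epi_iff_stalk _).1 inferInstance y
  choose gB hgB using fun i => hsurj (g i)
  let O := Y.presheaf.stalk y
  obtain ⟨eA₁⟩ := nonempty_stalk_equiv hA₁ y
  obtain ⟨eB₁⟩ := nonempty_stalk_equiv hB₁ y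
  obtain ⟨eB₂⟩ := nonempty_stalk_equiv hB₂ y
  let L₁ : (Fin a₁ → O) →ₗ[O] (B₁ ⊞ B₂).presheaf.stalk y :=
    (stalkLin (biprod.inl ≫ φ) y).comp eA₁.symm.toLinearMap
  let L₂ : (Fin b₂ → O) →ₗ[O] (B₁ ⊞ B₂).presheaf.stalk y :=
    (stalkLin (biprod.inr : B₂ ⟶ B₁ ⊞ B₂) y).comp eB₂.symm.toLinearMap
  let L₀ : (Fin (b₁ + b₂ - (a₁ + a₂)) → O) →ₗ[O] (B₁ ⊞ B₂).presheaf.stalk y :=
    Fintype.linearCombination O gB
  have hcomp : ∀ {M N P : Y.Modules} (u : M ⟶ N) (v : N ⟶ P) (a : M.presheaf.stalk y),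
      stalkLin (u ≫ v) y a = stalkLin v y (stalkLin u y a) := fun u v a => by
    simp only [stalkLin_apply, Functor.map_comp]; rfl
  have hadd : ∀ {M N : Y.Modules} (u v : M ⟶ N) (a : M.presheaf.stalk y),
      stalkLin (u + v) y a = stalkLin u y a + stalkLin v y a := fun u v a => by
    simp only [stalkLin_apply, Functor.map_add]; rfl
  have hzero : ∀ {M N : Y.Modules} (a : M.presheaf.stalk y), stalkLin (0 : M ⟶ N) y a = 0 := fun a => by
    simp only [stalkLin_apply, Functor.map_zero]; rfl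
  have hid : ∀ {M : Y.Modules} (a : M.presheaf.stalk y), stalkLin (𝟙 M) y a = a := fun a => by
    simp only [stalkLin_apply, CategoryTheory.Functor.map_id]; rfl
  have hL : Function.Surjective (L₀.coprod (L₁.coprod L₂)) := by
    intro b
    have hb : stalkLin (cokernel.π φ) y b ∈ Submodule.span O (Set.range g) := by rw [hg]; trivial
    obtain ⟨c, hc⟩ := (Submodule.mem_span_range_iff_exists_fun O).1 hb
    have h0 : stalkLin (cokernel.π φ) y (b - L₀ c) = 0 := by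
      rw [map_sub, sub_eq_zero, ← hc, show L₀ c = ∑ i, c i • gB i from Fintype.linearCombination_apply O gB c,
        map_sum]
      simp only [map_smul, hgB]
    obtain ⟨a, ha⟩ := Groth.Agent.TFOne27.exact_stalk
      (ShortComplex.exact_of_g_is_cokernel (ShortComplex.mk φ (cokernel.π φ) (cokernel.condition φ))
        (cokernelIsCokernel φ)) y _ h0
    let p₁ := stalkLin (biprod.fst : A₁ ⊞ A₂ ⟶ A₁) y a
    let p₂ := stalkLin (biprod.snd : A₁ ⊞ A₂ ⟶ A₂) y a
    have hdec : φ = biprod.fst ≫ biprod.inl ≫ φ + biprod.snd ≫ (biprod.inr ≫ φ ≫ biprod.snd) ≫ biprod.inr := by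
      have h21 : biprod.inr ≫ φ ≫ biprod.fst = 0 := h₂₁ _
      have e : (biprod.inr : A₂ ⟶ A₁ ⊞ A₂) ≫ φ = (biprod.inr ≫ φ ≫ biprod.snd) ≫ biprod.inr := by
        apply biprod.hom_ext <;> simp [Category.assoc, h21]
      rw [← e, ← Category.assoc biprod.fst, ← Category.assoc biprod.snd, ← Preadditive.add_comp,
        biprod.total, Category.id_comp]
    refine ⟨(c, (eA₁ p₁, eB₂ (stalkLin (biprod.inr ≫ φ ≫ biprod.snd) y p₂))), ?_⟩
    have hphi : stalkLin φ y a =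
        L₁ (eA₁ p₁) + L₂ (eB₂ (stalkLin (biprod.inr ≫ φ ≫ biprod.snd) y p₂)) := by
      conv_lhs => rw [hdec, hadd, hcomp biprod.fst, hcomp biprod.snd,
        hcomp (biprod.inr ≫ φ ≫ biprod.snd) biprod.inr]
      exact congrArg₂ (· + ·) (congrArg _ (eA₁.symm_apply_apply _).symm) (congrArg _ (eB₂.symm_apply_apply _).symm)
    rw [LinearMap.coprod_apply, LinearMap.coprod_apply, ← hphi, ha, add_sub_cancel]
  let q : (B₁ ⊞ B₂).presheaf.stalk y →ₗ[O] (Fin b₁ → O) × (Fin b₂ → O) :=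
    (eB₁.toLinearMap.comp (stalkLin (biprod.fst : B₁ ⊞ B₂ ⟶ B₁) y)).prod
      (eB₂.toLinearMap.comp (stalkLin (biprod.snd : B₁ ⊞ B₂ ⟶ B₂) y))
  have hq : Function.Surjective q := by
    rintro ⟨u, v⟩
    refine ⟨stalkLin (biprod.inl : B₁ ⟶ B₁ ⊞ B₂) y (eB₁.symm u) + stalkLin (biprod.inr : B₂ ⟶ B₁ ⊞ B₂) y (eB₂.symm v), ?_⟩
    refine Prod.ext ?_ ?_
    · show eB₁ (stalkLin biprod.fst y (_ + _)) = u
      rw [map_add, ← hcomp, ← hcomp, biprod.inl_fst, biprod.inr_fst, hid, hzero]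
      simp
    · show eB₂ (stalkLin biprod.snd y (_ + _)) = v
      rw [map_add, ← hcomp, ← hcomp, biprod.inl_snd, biprod.inr_snd, hid, hzero]
      simp
  haveI : Nontrivial O := inferInstance
  have hle := LinearMap.finrank_le_finrank_of_surjective (R := O) (f := q.comp (L₀.coprod (L₁.coprod L₂))) (hq.comp hL)
  simp only [Module.finrank_prod, Module.finrank_fin_fun] at hle
  omega

end Groth.Agent.S17486
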