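import Groth.Statements.S17487
import Groth.Agent.Lib.SmoothObs3.Main

set_option autoImplicit false
set_option maxHeartbeats 1000000
set_option linter.style.haveILetI false
set_option backward.isDefEq.respectTransparency false
set_option backward.isDefEq.respectTransparency.types false
universe u
open CategoryTheory CategoryTheory.Limits AlgebraicGeometry
open Coherent

namespace Groth.Agent.S17487

open CategoryTheory.Abelian

theorem ext_to_coprod {C : Type*} [Category C] [Abelian C] [HasExt.{u} C] {ι : Type} [Fintype ι] (A : C)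
    (F : ι → C) [HasCoproduct F] {n : ℕ} (h : ∀ i, Subsingleton (Ext.{u} A (F i) n)) :
    Subsingleton (Ext.{u} A (∐ F) n) := by
  haveI := HasFiniteBiproducts.of_hasFiniteProducts (C := C)
  haveI : HasBiproductsOfShape ι C := hasBiproductsOfShape_finite C
  refine Groth.Agent.SmoothObs3.subsingleton_ext_of_iso (Iso.refl A) (biproduct.isoCoproduct F) ?_
  exact (Ext.addEquivBiproduct A (biproduct.isBilimit F) n).toEquiv.subsingleton

theorem ext_from_coprod {C : Type*} [Category C] [Abelian C] [HasExt.{u} C] {ι : Type} [Fintype ι] (B : C)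
    (F : ι → C) [HasCoproduct F] {n : ℕ} (h : ∀ i, Subsingleton (Ext.{u} (F i) B n)) :
    Subsingleton (Ext.{u} (∐ F) B n) := by
  haveI := HasFiniteBiproducts.of_hasFiniteProducts (C := C)
  haveI : HasBiproductsOfShape ι C := hasBiproductsOfShape_finite C
  refine Groth.Agent.SmoothObs3.subsingleton_ext_of_iso (biproduct.isoCoproduct F) (Iso.refl B) ?_
  exact (Ext.biproductAddEquiv (biproduct.isBilimit F) B n).toEquiv.subsingleton


/-- Let k be an algebraically closed field of characteristic zero and Y a smooth projective variety over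
k (an integral scheme, smooth over k, with a closed immersion into some P^n_k over k). Let E_1, …,
E_n be coherent O_Y-modules forming a strong exceptional sequence, expressed through Ext groups in
the category of O_Y-modules (the Ext instance is the stated hypothesis; it holds): End(E_i) is
one-dimensional over k, Ext^p(E_i, E_j) = 0 for all p when i > j, and Ext^p(E_i, E_j) = 0 for all i,
j when p ≥ 1 (indices here run over 0, …, n-1). Let d ≤ n and let 0 → K → M → F → 0 be a short exact
sequence of O_Y-modules in which K is isomorphic to a finite direct sum of copies of members E_i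
with i < d and M to a finite direct sum of copies of members E_i with i ≥ d (a two-term resolution
of F by the sequence, split at d). Then Ext^p(E_i, F) = 0 for every i and every p ≥ 1, and Ext^p(F,
E_i) = 0 for every i < d and every p ≠ 1. (The published criterion also asks that the sequence
generate the derived category, states the first vanishing only for i ≥ d, and adds conditions on
terms of the associated filtration and cofiltration of F, which are not restated here; the
vanishings above follow from the resolution alone.) -/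
theorem result
    (k : Type u) [Field k] [IsAlgClosed k] [CharZero k]
    (Y : Scheme.{u}) [Y.Over (Spec (CommRingCat.of k))] [AlgebraicGeometry.IsIntegral Y]
    [Smooth (Y ↘ Spec (CommRingCat.of k))]
    (hproj : ∃ (N : ℕ) (ι : Y ⟶ CohB1.ProjSpace N k), IsClosedImmersion ι ∧
      ι ≫ CohB1.ProjSpace.toSpec N k = (Y ↘ (Spec (CommRingCat.of k))))
    [HasExt.{u} Y.Modules]
    (n d : ℕ) (hdn : d ≤ n) (E : Fin n → Y.Modules) (hEcoh : ∀ i, Coh.IsCoh (E i))
    (hend : ∀ i, Module.finrank k (E i ⟶ E i) = 1)
    (hexc : ∀ i j : Fin n, j < i → ∀ p : ℕ, Subsingleton (Abelian.Ext (E i) (E j) p))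
    (hstr : ∀ (i j : Fin n) (p : ℕ), 1 ≤ p → Subsingleton (Abelian.Ext (E i) (E j) p))
    (S : ShortComplex Y.Modules) (hS : S.ShortExact)
    (m₁ : ℕ) (c₁ : Fin m₁ → Fin n) (hc₁ : ∀ t, (c₁ t : ℕ) < d) (e₁ : S.X₁ ≅ ∐ fun t => E (c₁ t))
    (m₂ : ℕ) (c₂ : Fin m₂ → Fin n) (hc₂ : ∀ t, d ≤ (c₂ t : ℕ)) (e₂ : S.X₂ ≅ ∐ fun t => E (c₂ t)) :
    (∀ (i : Fin n) (p : ℕ), 1 ≤ p → Subsingleton (Abelian.Ext (E i) S.X₃ p)) ∧
      (∀ i : Fin n, (i : ℕ) < d → ∀ p : ℕ, p ≠ 1 → Subsingleton (Abelian.Ext S.X₃ (E i) p)) := by
  classical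
  have h₁ : ∀ (i : Fin n) (p : ℕ), 1 ≤ p → Subsingleton (Abelian.Ext (E i) S.X₁ p) := fun i p hp =>
    Groth.Agent.SmoothObs3.subsingleton_ext_of_iso (Iso.refl _) e₁.symm (ext_to_coprod _ _ fun t => hstr i (c₁ t) p hp)
  have h₂ : ∀ (i : Fin n) (p : ℕ), 1 ≤ p → Subsingleton (Abelian.Ext (E i) S.X₂ p) := fun i p hp =>
    Groth.Agent.SmoothObs3.subsingleton_ext_of_iso (Iso.refl _) e₂.symm (ext_to_coprod _ _ fun t => hstr i (c₂ t) p hp)
  refine ⟨fun i p hp => subsingleton_of_forall_eq 0 fun x => ?_, fun i hi p hp => subsingleton_of_forall_eq 0 fun x => ?_⟩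
  · obtain ⟨y, hy⟩ := Abelian.Ext.covariant_sequence_exact₃ (E i) hS x rfl
      ((h₁ i (p + 1) (by omega)).elim _ _)
    rw [← hy, (h₂ i p hp).elim y 0, Abelian.Ext.zero_comp]
  · have h2 : ∀ q, Subsingleton (Abelian.Ext S.X₂ (E i) q) := fun q =>
      Groth.Agent.SmoothObs3.subsingleton_ext_of_iso e₂.symm (Iso.refl _)
        (ext_from_coprod _ _ fun t => hexc (c₂ t) i (by rw [Fin.lt_def]; have := hc₂ t; omega) q)
    rcases p with _ | _ | q
    · haveI := hS.epi_g
      exact Abelian.Ext.precomp_mk₀_injective_of_epi (E i) S.g ((h2 0).elim _ _)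
    · exact absurd rfl hp
    · have h1 : Subsingleton (Abelian.Ext S.X₁ (E i) (q + 1)) :=
        Groth.Agent.SmoothObs3.subsingleton_ext_of_iso e₁.symm (Iso.refl _)
          (ext_from_coprod _ _ fun t => hstr (c₁ t) i (q + 1) (by omega))
      obtain ⟨y, hy⟩ := Abelian.Ext.contravariant_sequence_exact₃ hS (E i) x ((h2 _).elim _ _)
        (show 1 + (q + 1) = q + 1 + 1 by omega)
      rw [← hy, h1.elim y 0, Abelian.Ext.comp_zero]

end Groth.Agent.S17487
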