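import Groth.Statements.S17488
import Groth.Agent.Lib.Gaeta11.Plane

set_option autoImplicit false
universe u
open CategoryTheory CategoryTheory.Limits AlgebraicGeometry
open Coherent

namespace Groth.Agent.S17488

/-- Let k be an algebraically closed field of characteristic zero, P = P²_k the projective plane with
its line bundles O(m), and F a coherent O_P-module; write F(m) = F ⊗ O(m). Then F has a Gaeta
resolution for the sequence (O(-2), O(-1), O), that is, there is a short exact sequence 0 →
O(-2)^{α₁} → O(-1)^{α₂} ⊕ O^{α₃} → F → 0 for some natural numbers α₁, α₂, α₃, if and only if: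
H^0(F(-1)) = 0 and H^2(F(-1)) = 0, H^1(F) = 0 and H^2(F) = 0, H^1(F(1)) = 0 and H^2(F(1)) = 0, and
the k-linear map Hom(O(-1), O) ⊗_k Hom(O, F) → Hom(O(-1), F) induced by composition, ψ ⊗ s ↦ s ∘ ψ
(the multiplication map H^0(O(1)) ⊗ H^0(F) → H^0(F(1))), is injective. (The published statement
phrases the left side as F admitting a Gaeta resolution, meaning that the minimal complex of F built
from the sequence has this shape; a two-term resolution of this shape is automatically that minimal
complex, so this amounts to the existence of such a resolution. Cohomology in degrees above two,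
which vanishes on P², is not mentioned on the right.) -/
theorem result
    (k : Type u) [Field k] [IsAlgClosed k] [CharZero k]
    (F : (CohB1.ProjSpace 2 k).Modules) (hF : Coh.IsCoh F) :
    letI P := CohB1.ProjSpace 2 k
    letI O : P.Modules := Coh.structureModule P
    letI Om1 : P.Modules := Twist.twistProjSpace 2 k (-1)
    (∃ (α₁ α₂ α₃ : ℕ) (S : ShortComplex P.Modules), S.ShortExact ∧
        Nonempty (S.X₁ ≅ ∐ fun _ : Fin α₁ => Twist.twistProjSpace 2 k (-2)) ∧
        Nonempty (S.X₂ ≅ (∐ fun _ : Fin α₂ => Om1) ⊞ (∐ fun _ : Fin α₃ => O)) ∧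
        Nonempty (S.X₃ ≅ F)) ↔
      (Subsingleton (Coh.HH P (CohB1.tensorMod F Om1) 0) ∧
        Subsingleton (Coh.HH P (CohB1.tensorMod F Om1) 2) ∧
        Subsingleton (Coh.HH P F 1) ∧ Subsingleton (Coh.HH P F 2) ∧
        Subsingleton (Coh.HH P (CohB1.tensorMod F (Twist.twistProjSpace 2 k 1)) 1) ∧
        Subsingleton (Coh.HH P (CohB1.tensorMod F (Twist.twistProjSpace 2 k 1)) 2) ∧
        Function.Injective (TensorProduct.lift
          (CategoryTheory.Linear.comp Om1 O F : (Om1 ⟶ O) →ₗ[k] (O ⟶ F) →ₗ[k] (Om1 ⟶ F)))) := by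
  refine ⟨fun ⟨α₁, α₂, α₃, S, hS, ⟨e₁⟩, ⟨e₂⟩, ⟨e₃⟩⟩ => Groth.Agent.Gaeta11.forward hS e₁ e₂ e₃,
    fun ⟨h₀, h₂, g₁, _, _, _, hinj⟩ => ?_⟩
  exact Groth.Agent.Gaeta11.backward hF h₀ h₂ g₁ hinj

end Groth.Agent.S17488
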