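import Groth.Statements.S1749
import Groth.Agent.Lib.Dlz27.Gamma
-- import your own Groth.Agent.* helpers here

set_option autoImplicit false
universe u
open CategoryTheory
attribute [local instance] HasDerivedCategory.standard
open Dual

namespace Groth.Agent.S1749

/-- Let A be a Noetherian local ring with a normalized dualizing complex ω and κ → E an injective hull
of the residue field. For every A-module N of finite length, the maps N → ω[i] in D(A) vanish for i
≠ 0, and the A-module of maps N → ω is isomorphic to Hom_A(N, E). (The source gives this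
functorially in N; here only the existence of the isomorphism for each N is asserted.) -/
theorem result (A : Type u) [CommRing A] [IsLocalRing A] [IsNoetherianRing A] (ω : Dual.D A) (hω : Dual.IsDualizing A ω) (hn : Dual.IsNormalized A ω) (E : Type u) [AddCommGroup E] [Module A E] (f : IsLocalRing.ResidueField A →ₗ[A] E) (hf : InjHull.IsInjectiveHull f) (N : Type u) [AddCommGroup N] [Module A N] (hN : IsFiniteLength A N) : (∀ i : ℤ, i ≠ 0 → Subsingleton (Dual.inD A N ⟶ ω⟦i⟧)) ∧ Nonempty ((Dual.inD A N ⟶ ω) ≃ₗ[A] (N →ₗ[A] E)) := by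
  have key : ∀ {N : Type u} [AddCommGroup N] [Module A N], IsFiniteLength A N →
      Dlz27.Killed (A := A) N := by
    intro N _ _ hN
    induction hN with
    | of_subsingleton => exact ⟨0, fun a _ x => Subsingleton.elim _ _⟩
    | @of_simple_quotient N _ _ P _ _ ih =>
      obtain ⟨k, hk⟩ := ih
      obtain ⟨I, hI, ⟨e⟩⟩ := isSimpleModule_iff_quot_maximal.1 (inferInstance : IsSimpleModule A (N ⧸ P))
      obtain rfl := IsLocalRing.eq_maximalIdeal hI
      refine ⟨k + 1, fun a ha x => ?_⟩
      rw [pow_succ] at ha
      induction ha using Submodule.mul_induction_on' with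
      | mem_mul_mem b hb c hc =>
        have hcx : c • x ∈ P := (Submodule.Quotient.mk_eq_zero P).1 (e.injective (by
          rw [Submodule.Quotient.mk_smul, map_smul, map_zero]
          exact InjHullLib.smul_mk_eq_zero hc _))
        rw [mul_smul]
        exact congrArg Subtype.val (hk b hb ⟨c • x, hcx⟩)
      | add p hp q hq ihp ihq => rw [add_smul, ihp, ihq, add_zero]
  have hfin : Module.Finite A N := by
    have := (isFiniteLength_iff_isNoetherian_isArtinian.1 hN).1
    infer_instance
  refine ⟨fun i hi => (Dlz27.subsingleton_hom_iff_van (Dlz27.model hω).e N i).2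
    (Dlz27.van_killed (Dlz27.model hω) hω hn N (key hN) i hi), ?_⟩
  obtain ⟨e⟩ := Dlz27.equiv_hull (Dlz27.model hω) hω hn hf
  exact ⟨Linear.homCongr A (Iso.refl _) ((shiftFunctorZero (Dual.D A) ℤ).app ω).symm ≪≫ₗ
    LinearEquiv.ofBijective _ (Dlz27.psi_bijective (Dlz27.model hω) hω hn (key hN)) ≪≫ₗ
    LinearEquiv.congrRight e⟩

end Groth.Agent.S1749
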