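import Groth.Statements.S17498
import Groth.Agent.Lib.SymZeta13.Coprod
-- import your own Groth.Agent.* helpers here

set_option autoImplicit false
universe u
open RelQuot

namespace Groth.Agent.S17498

open CategoryTheory CategoryTheory.Limits AlgebraicGeometry TopologicalSpace
open Groth.Agent.SymZeta13 Groth.Agent.IsQuot25

/-- The class of a closed open piece. -/
noncomputable def clPiece {Y T : Scheme.{u}} (h : T ⟶ Y) [LocallyOfFiniteType h] [QuasiCompact h] (V : T.Opens)
    (hV : IsClosed (V : Set T)) : K0Var.K Y :=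
  haveI : IsClosedImmersion V.ι := .of_isPreimmersion _ (by rw [Scheme.Opens.range_ι]; exact hV)
  K0Var.cl (V.ι ≫ h)

theorem cl_sum_clopen {Y T : Scheme.{u}} (h : T ⟶ Y) [LocallyOfFiniteType h] [QuasiCompact h] {ι : Type*}
    (V : ι → T.Opens) (hV : ∀ a, IsClosed (V a : Set T))
    (hdis : ∀ a b, a ≠ b → Disjoint (V a : Set T) (V b)) :
    ∀ (s : Finset ι) (U : T.Opens) [IsClosedImmersion U.ι], (U : Set T) = ⋃ a ∈ s, (V a : Set T) →
      K0Var.cl (U.ι ≫ h) = ∑ a ∈ s, clPiece h (V a) (hV a) := by
  classical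
  intro s
  induction s using Finset.induction_on with
  | empty =>
    intro U _ hU
    haveI : IsEmpty U.toScheme := ⟨fun x => by
      have : x.1 ∈ (U : Set T) := x.2
      simp [hU] at this⟩
    rw [Finset.sum_empty]
    haveI : IsEmpty (K0Var.Gen.mk U.toScheme (U.ι ≫ h)).X := inferInstanceAs (IsEmpty U.toScheme)
    exact K0Var.Gen.cl_eq_zero_of_isEmpty (K0Var.Gen.mk U.toScheme (U.ι ≫ h))
  | insert a s has ih =>
    intro U _ hU
    let W : T.Opens := ⟨⋃ b ∈ s, (V b : Set T), isOpen_biUnion fun b _ => (V b).2⟩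
    have hWc : IsClosed (W : Set T) := Set.Finite.isClosed_biUnion s.finite_toSet fun b _ => hV b
    haveI : IsClosedImmersion W.ι := .of_isPreimmersion _ (by rw [Scheme.Opens.range_ι]; exact hWc)
    haveI : IsClosedImmersion (V a).ι := .of_isPreimmersion _ (by rw [Scheme.Opens.range_ι]; exact hV a)
    have hU' : (U : Set T) = (V a : Set T) ∪ (W : Set T) := by
      rw [hU, Finset.set_biUnion_insert]
      rfl
    have h1 : V a ≤ U := fun x hx => hU'.ge (Or.inl hx)
    have h2 : W ≤ U := fun x hx => hU'.ge (Or.inr hx)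
    haveI : IsClosedImmersion (T.homOfLE h1 ≫ U.ι) := by rw [Scheme.homOfLE_ι]; infer_instance
    haveI : IsClosedImmersion (T.homOfLE h1) := IsClosedImmersion.of_comp _ U.ι
    haveI : IsClosedImmersion (T.homOfLE h2 ≫ U.ι) := by rw [Scheme.homOfLE_ι]; infer_instance
    haveI : IsClosedImmersion (T.homOfLE h2) := IsClosedImmersion.of_comp _ U.ι
    have hd : Disjoint (V a : Set T) (W : Set T) := by
      refine Set.disjoint_iUnion₂_right.2 fun b hb => hdis a b fun e => has (e ▸ hb)
    have := K0Var.cl_scissor (U.ι ≫ h) (T.homOfLE h1) (T.homOfLE h2) (by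
      ext x
      have hx : x.1 ∈ (V a : Set T) ∪ (W : Set T) := hU' ▸ x.2
      constructor
      · rintro ⟨y, rfl⟩ ⟨y', e⟩
        have e' : y'.1 = y.1 :=
          ((T.homOfLE_apply h2 y').symm.trans (congrArg Subtype.val e)).trans (T.homOfLE_apply h1 y)
        exact Set.disjoint_left.1 hd y.2 (e' ▸ y'.2)
      · intro hx'
        rcases hx with hx | hx
        · exact ⟨⟨x.1, hx⟩, Subtype.ext (T.homOfLE_apply h1 ⟨x.1, hx⟩)⟩
        · exact absurd ⟨⟨x.1, hx⟩, Subtype.ext (T.homOfLE_apply h2 ⟨x.1, hx⟩)⟩ hx')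
    rw [Finset.sum_insert has, this, ← ih W rfl, clPiece]
    simp only [Scheme.homOfLE_ι_assoc]


open CategoryTheory CategoryTheory.Limits AlgebraicGeometry in
/-- Let k be an algebraically closed field of characteristic zero, Y a scheme of finite type over k, and
f : X → Y, f′ : X′ → Y morphisms of finite type. For every n ≥ 0 let (S_n, q_n, g_n) be an n-th
symmetric power of X over Y (q_n : X ×_Y ⋯ ×_Y X → S_n a quotient of the n-fold fibre power by the
symmetric group permuting the factors: affine, invariant, with the sections of S_n the invariant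
sections; g_n : S_n → Y its structure map, of finite type; for n = 0 this forces S_0 ≅ Y), and
likewise (S′_n, q′_n, g′_n) for X′ over Y and (T_n, Q_n, h_n) for the disjoint union X ⊔ X′ over Y
(structure map f on X and f′ on X′). Then the relative motivic zeta functions multiply: in the ring
of power series with coefficients in the Grothendieck ring of finite-type Y-schemes (multiplication
given by fibre product over Y), the series with n-th coefficient [T_n → Y] equals the product of the
series with n-th coefficients [S_n → Y] and [S′_n → Y]. The published proposition asserts that the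
motivic zeta function defines a pre-lambda structure on the whole Grothendieck ring; this row states
the multiplicativity on disjoint unions, which is the part established there, and it does not assume
f, f′ quasi-projective (that hypothesis only serves the existence of the symmetric powers, which are
taken as data here). -/
theorem result
    (k : Type u) [Field k] [IsAlgClosed k] [CharZero k] {X X' Y : Scheme.{u}}
    (pY : Y ⟶ Spec (CommRingCat.of k)) [LocallyOfFiniteType pY] [QuasiCompact pY]
    (f : X ⟶ Y) [LocallyOfFiniteType f] [QuasiCompact f]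
    (f' : X' ⟶ Y) [LocallyOfFiniteType f'] [QuasiCompact f']
    (Sy : ℕ → Scheme.{u}) (q : ∀ n, SymProd.fibPow f n ⟶ Sy n) (g : ∀ n, Sy n ⟶ Y)
    (hS : ∀ n, SymProd.IsSymProd f n (q n) (g n))
    [∀ n, LocallyOfFiniteType (g n)] [∀ n, QuasiCompact (g n)]
    (Sy' : ℕ → Scheme.{u}) (q' : ∀ n, SymProd.fibPow f' n ⟶ Sy' n) (g' : ∀ n, Sy' n ⟶ Y)
    (hS' : ∀ n, SymProd.IsSymProd f' n (q' n) (g' n))
    [∀ n, LocallyOfFiniteType (g' n)] [∀ n, QuasiCompact (g' n)]
    (T : ℕ → Scheme.{u}) (Q : ∀ n, SymProd.fibPow (coprod.desc f f') n ⟶ T n) (h : ∀ n, T n ⟶ Y)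
    (hT : ∀ n, SymProd.IsSymProd (coprod.desc f f') n (Q n) (h n))
    [∀ n, LocallyOfFiniteType (h n)] [∀ n, QuasiCompact (h n)] :
    PowerSeries.mk (fun n => K0Var.cl (h n)) =
      PowerSeries.mk (fun n => K0Var.cl (g n)) * PowerSeries.mk (fun n => K0Var.cl (g' n)) := by
  classical
  ext n
  rw [PowerSeries.coeff_mul]
  simp only [PowerSeries.coeff_mk]
  have hQ : SGA1.IsQuot (SymProd.permActU (coprod.desc f f') n) (Q n) := (hT n).isQuot
  let V : ℕ → (T n).Opens := piece f f' hQ
  let U : (T n).Opens := ⊤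
  haveI : IsClosedImmersion U.ι := .of_isPreimmersion _ (by rw [Scheme.Opens.range_ι]; exact isClosed_univ)
  have htop := cl_sum_clopen (h n) V (isClosed_piece f f' hQ) (pieces_disjoint f f' hQ) (Finset.range (n + 1)) U
    (by
      refine (Set.eq_univ_of_forall fun t => ?_).symm
      simpa [V] using pieces_cover f f' hQ t)
  have hUT : K0Var.cl (U.ι ≫ h n) = K0Var.cl (h n) :=
    K0Var.cl_congr _ _ (Scheme.topIso (T n)) (by simp [U, Scheme.topIso_hom])
  rw [← hUT, htop, Finset.Nat.sum_antidiagonal_eq_sum_range_succ (fun a b => K0Var.cl (g a) * K0Var.cl (g' b))]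
  refine Finset.sum_congr rfl fun i hi => ?_
  haveI : IsClosedImmersion (V i).ι :=
    .of_isPreimmersion _ (by rw [Scheme.Opens.range_ι]; exact isClosed_piece f f' hQ i)
  show K0Var.cl ((V i).ι ≫ h n) = _
  obtain ⟨j, rfl⟩ : ∃ j, n = i + j := ⟨n - i, by simp at hi; omega⟩
  rw [show i + j - i = j by omega, ← K0Var.cl_mul]
  -- the slice
  have hb1 : ∀ a, (SymProd.permActU f i a).hom ≫ WidePullback.base _ = WidePullback.base _ := fun a => by
    rw [SymProd.permActU_hom, SymProd.permHom_base]
  have hb2 : ∀ a, (SymProd.permActU f' j a).hom ≫ WidePullback.base _ = WidePullback.base _ := fun a => by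
    rw [SymProd.permActU_hom, SymProd.permHom_base]
  let θ := prodAct _ _ (SymProd.permActU f i) (SymProd.permActU f' j) hb1 hb2
  haveI : IsOpenImmersion (slice f f' i j) := (isOpenImmersion_slice f f' i j).1
  obtain ⟨r, hr, hRq⟩ := isQuot_slice_open hQ (V i) (slice f f' i j) (by
      rintro _ ⟨w, rfl⟩
      refine (mem_preimage_piece f f' hQ i _).2 ?_
      rw [lefts_slice]; simp)
    (blockHom i j) θ (fun a => blockAct_slice f f' i j a hb1 hb2)
    (fun z hz => by
      obtain ⟨σ, w, hw⟩ := exists_perm_slice f f' z ((mem_preimage_piece f f' hQ i z).1 hz)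
      exact ⟨⟨σ⟩, w, by rwa [SymProd.permActU_hom]⟩)
    (fun a w w' e => mem_range_of_perm_slice f f' a w w' (by rwa [SymProd.permActU_hom] at e))
  let π : pullback (WidePullback.base fun _ : Fin i => f) (WidePullback.base fun _ : Fin j => f') ⟶
      pullback (g i) (g' j) :=
    pullback.map _ _ _ _ (q i) (q' j) (𝟙 Y) (by rw [Category.comp_id, (hS i).over])
      (by rw [Category.comp_id, (hS' j).over])
  have hπ : SGA1.IsQuot θ π :=
    isQuot_prod_invertible _ _ (g i) (g' j)
      (fun W => isUnit_natCast_sections (g i ≫ pY) W Nat.card_pos.ne')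
      (fun W => isUnit_natCast_sections (g' j ≫ pY) W Nat.card_pos.ne')
      _ _ (q i) (hS i).over (q' j) (hS' j).over (hS i).isQuot (hS' j).isQuot θ
      (fun a => prodAct_fst _ _ _ _ hb1 hb2 a) (fun a => prodAct_snd _ _ _ _ hb1 hb2 a) π
      (pullback.lift_fst _ _ _) (pullback.lift_snd _ _ _)
  obtain ⟨e, he⟩ := IsQuot25.exists_iso hRq hπ
  refine K0Var.cl_congr _ _ e ?_
  refine IsQuot25.hom_ext hRq ?_
  rw [reassoc_of% he, reassoc_of% hr, (hT (i + j)).over, slice_base]
  simp only [π, pullback.map, pullback.lift_fst_assoc, Category.assoc, (hS i).over]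

end Groth.Agent.S17498
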