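import Groth.Statements.S17499
import Mathlib.AlgebraicGeometry.IdealSheaf.Subscheme
import Mathlib.AlgebraicGeometry.IdealSheaf.Functorial
import Mathlib.AlgebraicGeometry.PullbackCarrier
import Mathlib.AlgebraicGeometry.Noetherian

set_option autoImplicit false
universe u
open RelQuot

namespace Groth.Agent.S17499

open CategoryTheory CategoryTheory.Limits AlgebraicGeometry Opposite

theorem cl_eq_zero {S X : Scheme.{u}} (g : X ⟶ S) [LocallyOfFiniteType g] [QuasiCompact g] [IsEmpty X] :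
    K0Var.cl g = 0 := by
  haveI : IsEmpty (K0Var.Gen.mk X g).X := inferInstanceAs (IsEmpty X)
  exact K0Var.Gen.cl_eq_zero_of_isEmpty (K0Var.Gen.mk X g)

variable {k : Type u} [Field k] {X Y F : Scheme.{u}}
  (pY : Y ⟶ Spec (CommRingCat.of k)) [LocallyOfFiniteType pY] [QuasiCompact pY]
  (pF : F ⟶ Spec (CommRingCat.of k)) [LocallyOfFiniteType pF] [QuasiCompact pF]
  (f : X ⟶ Y) [LocallyOfFiniteType f] [QuasiCompact f]

theorem piece_trivial {T : Scheme.{u}} (j : T ⟶ Y) [LocallyOfFiniteType j] [QuasiCompact j] (U : Y.Opens)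
    (hj : Set.range j ⊆ U) (e : (f ⁻¹ᵁ U).toScheme ≅ pullback (U.ι ≫ pY) pF)
    (he : e.hom ≫ pullback.fst (U.ι ≫ pY) pF = f ∣_ U) :
    K0Var.cl (pullback.fst j f ≫ j ≫ pY) = K0Var.cl (j ≫ pY) * K0Var.cl pF := by
  have h' : Set.range j ⊆ Set.range U.ι := by rwa [Scheme.Opens.range_ι]
  let j' := IsOpenImmersion.lift U.ι j h'
  have hj' : j' ≫ U.ι = j := IsOpenImmersion.lift_fac U.ι j h'
  have h1 : IsPullback (f ⁻¹ᵁ U).ι (f ∣_ U) f U.ι := (isPullback_morphismRestrict f U).flip
  have h2 := ((IsPullback.of_hasPullback j' (f ∣_ U)).flip.paste_horiz h1).flip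
  rw [hj'] at h2
  let a : pullback j' (f ∣_ U) ≅ pullback j' (pullback.fst (U.ι ≫ pY) pF) :=
    asIso (pullback.map _ _ _ _ (𝟙 T) e.hom (𝟙 _) (by simp) (by simpa using he.symm))
  let b : pullback j' (pullback.fst (U.ι ≫ pY) pF) ≅ pullback (j' ≫ U.ι ≫ pY) pF :=
    pullbackRightPullbackFstIso (U.ι ≫ pY) pF j'
  let c : pullback (j' ≫ U.ι ≫ pY) pF ≅ pullback (j ≫ pY) pF :=
    pullback.congrHom (by rw [← hj', Category.assoc]) rfl
  rw [← K0Var.cl_mul (j ≫ pY) pF]
  refine (K0Var.cl_congr (pullback.fst (j ≫ pY) pF ≫ j ≫ pY) (pullback.fst j f ≫ j ≫ pY)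
    ((h2.isoPullback.symm ≪≫ a ≪≫ b ≪≫ c).symm) ?_).symm
  rw [← Category.assoc]
  congr 1
  rw [Iso.symm_hom, Iso.inv_comp_eq]
  rw [← cancel_epi h2.isoPullback.hom]
  simp [a, b, c, pullback.map, pullback.congrHom]
  erw [pullback.lift_fst, pullbackRightPullbackFstIso_hom_fst, pullback.lift_fst]

theorem piece_induction {ι : Type*} (U : ι → Y.Opens) (e : ∀ i, (f ⁻¹ᵁ U i).toScheme ≅ pullback ((U i).ι ≫ pY) pF)
    (he : ∀ i, (e i).hom ≫ pullback.fst ((U i).ι ≫ pY) pF = f ∣_ U i) (s : Finset ι) :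
    ∀ {T : Scheme.{u}} (j : T ⟶ Y) [LocallyOfFiniteType j] [QuasiCompact j],
      (∀ t : T, ∃ i ∈ s, j t ∈ U i) →
      K0Var.cl (pullback.fst j f ≫ j ≫ pY) = K0Var.cl (j ≫ pY) * K0Var.cl pF := by
  classical
  induction s using Finset.induction_on with
  | empty =>
    intro T j _ _ h
    haveI : IsEmpty T := ⟨fun t => by simpa using h t⟩
    haveI : IsEmpty (pullback j f : Scheme.{u}) := Function.isEmpty (pullback.fst j f)
    rw [cl_eq_zero, cl_eq_zero, zero_mul]
  | insert a s _ ih =>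
    intro T j _ _ h
    haveI : IsLocallyNoetherian Y := LocallyOfFiniteType.isLocallyNoetherian pY
    haveI : IsLocallyNoetherian T := LocallyOfFiniteType.isLocallyNoetherian (j ≫ pY)
    let O : T.Opens := j ⁻¹ᵁ U a
    let C : TopologicalSpace.Closeds T := ⟨(O : Set T)ᶜ, O.2.isClosed_compl⟩
    let z := (Scheme.IdealSheafData.vanishingIdeal C).subschemeι
    have hz : Set.range z = (O : Set T)ᶜ := by
      rw [Scheme.IdealSheafData.range_subschemeι, Scheme.IdealSheafData.coe_support_vanishingIdeal]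
      rfl
    have hO : Set.range O.ι = (O : Set T) := Scheme.Opens.range_ι O
    let p := pullback.fst j f
    have hP : K0Var.cl (p ≫ j ≫ pY) =
        K0Var.cl (pullback.snd z p ≫ p ≫ j ≫ pY) + K0Var.cl (pullback.snd O.ι p ≫ p ≫ j ≫ pY) :=
      K0Var.cl_scissor (p ≫ j ≫ pY) (pullback.snd z p) (pullback.snd O.ι p)
        (by rw [Scheme.Pullback.range_snd, Scheme.Pullback.range_snd, hz, hO, Set.preimage_compl])
    have hT : K0Var.cl (j ≫ pY) = K0Var.cl (z ≫ j ≫ pY) + K0Var.cl (O.ι ≫ j ≫ pY) :=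
      K0Var.cl_scissor (j ≫ pY) z O.ι (by rw [hz, hO])
    have key : ∀ {V : Scheme.{u}} (v : V ⟶ T) [LocallyOfFiniteType v] [QuasiCompact v],
        K0Var.cl (pullback.snd v p ≫ p ≫ j ≫ pY) = K0Var.cl (pullback.fst (v ≫ j) f ≫ (v ≫ j) ≫ pY) := by
      intro V v _ _
      refine K0Var.cl_congr _ _ (pullbackRightPullbackFstIso j f v) ?_
      have hc : pullback.fst v p ≫ v = pullback.snd v p ≫ p := pullback.condition
      rw [pullbackRightPullbackFstIso_hom_fst_assoc, Category.assoc, reassoc_of% hc]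
    have hza : ∀ t, ∃ i ∈ s, (z ≫ j) t ∈ U i := fun t => by
      obtain ⟨i, hi, hti⟩ := h (z t)
      rcases Finset.mem_insert.1 hi with rfl | hi
      · exact absurd (show z t ∈ O from hti) (hz.le ⟨t, rfl⟩)
      · exact ⟨i, hi, hti⟩
    have e1 := ih (z ≫ j) hza
    have e2 := piece_trivial pY pF f (O.ι ≫ j) (U a)
      (by rintro _ ⟨t, rfl⟩; exact (show O.ι t ∈ O from t.2)) (e a) (he a)
    rw [hP, hT, key z, key O.ι, e1, e2, add_mul]
    simp only [Category.assoc]

open CategoryTheory CategoryTheory.Limits AlgebraicGeometry in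
/-- Let k be an algebraically closed field of characteristic zero, X, Y and F schemes of finite type
over k, and f : X → Y a morphism over k which is a Zariski locally trivial fibration with fibre F:
every point of Y has an open neighbourhood U together with an isomorphism from f⁻¹(U) to U ×_k F
whose composite with the first projection is the restriction of f. Then in the Grothendieck ring of
k-schemes of finite type the class of X equals [Y] · [F]. The published statement is for varieties;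
it is stated here for schemes of finite type over k, which present the same ring. -/
theorem result
    (k : Type u) [Field k] [IsAlgClosed k] [CharZero k] {X Y F : Scheme.{u}}
    (pY : Y ⟶ Spec (CommRingCat.of k)) [LocallyOfFiniteType pY] [QuasiCompact pY]
    (pF : F ⟶ Spec (CommRingCat.of k)) [LocallyOfFiniteType pF] [QuasiCompact pF]
    (f : X ⟶ Y) [LocallyOfFiniteType f] [QuasiCompact f]
    (hf : ∀ y : Y, ∃ (U : Y.Opens) (e : (f ⁻¹ᵁ U).toScheme ≅ pullback (U.ι ≫ pY) pF),
      y ∈ U ∧ e.hom ≫ pullback.fst (U.ι ≫ pY) pF = f ∣_ U) :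
    K0Var.cl (f ≫ pY) = K0Var.cl pY * K0Var.cl pF := by
  choose U e hU he using hf
  haveI : CompactSpace Y := QuasiCompact.compactSpace_of_compactSpace pY
  obtain ⟨s, hs⟩ := isCompact_univ.elim_finite_subcover (fun y => (U y : Set Y)) (fun y => (U y).2)
    fun y _ => Set.mem_iUnion.2 ⟨y, hU y⟩
  have := piece_induction pY pF f U e he s (𝟙 Y) fun t => by simpa using hs (Set.mem_univ t)
  have h1 : K0Var.cl (f ≫ pY) = K0Var.cl (pullback.fst (𝟙 Y) f ≫ 𝟙 Y ≫ pY) := by
    refine K0Var.cl_congr _ _ (asIso (pullback.snd (𝟙 Y) f)).symm ?_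
    rw [Iso.symm_hom, Iso.inv_comp_eq]
    exact pullback.condition_assoc pY
  rw [h1, this]
  simp only [Category.id_comp]

end Groth.Agent.S17499
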