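import Groth.Statements.S1750
import Groth.Agent.Lib.InjHull.Coextend
import Mathlib.RingTheory.Flat.Basic
-- import your own Groth.Agent.* helpers here

set_option autoImplicit false
universe u
open InjHull

namespace Groth.Agent.S1750

/-- Let R → S be a flat local homomorphism of Noetherian local rings with m_R S = m_S inducing a
bijection on residue fields. If κ_S → E is an injective hull of the residue field of S over S, then
E regarded as an R-module is an injective hull of the residue field of R (for a suitable R-linear
map κ_R → E). -/
theorem result (R S : Type u) [CommRing R] [CommRing S] [IsLocalRing R] [IsLocalRing S] [IsNoetherianRing R] [IsNoetherianRing S] [Algebra R S] [IsLocalHom (algebraMap R S)] [Module.Flat R S] (hm : (IsLocalRing.maximalIdeal R).map (algebraMap R S) = IsLocalRing.maximalIdeal S) (hk : Function.Bijective (IsLocalRing.ResidueField.map (algebraMap R S))) (E : Type u) [AddCommGroup E] [Module S E] [Module R E] [IsScalarTower R S E] (f : IsLocalRing.ResidueField S →ₗ[S] E) (hf : InjHull.IsInjectiveHull f) : ∃ g : IsLocalRing.ResidueField R →ₗ[R] E, InjHull.IsInjectiveHull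 g := by
  let mR := IsLocalRing.maximalIdeal R
  let mS := IsLocalRing.maximalIdeal S
  have hinj : Module.Injective R E := by
    refine Module.Baer.iff_injective.1 fun I g => ?_
    let J : (TensorProduct R S I) →ₗ[S] S :=
      (TensorProduct.AlgebraTensorModule.rid R S S).toLinearMap ∘ₗ LinearMap.baseChange S I.subtype
    have hJ : Function.Injective J :=
      (TensorProduct.AlgebraTensorModule.rid R S S).injective.comp
        (Module.Flat.lTensor_preserves_injective_linearMap I.subtype I.injective_subtype)
    let G : (TensorProduct R S I) →ₗ[S] E := TensorProduct.AlgebraTensorModule.lift ((LinearMap.toSpanSingleton S (I →ₗ[R] E) g))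
    obtain ⟨H, hH⟩ := (Module.Baer.iff_injective.2 hf.isInjective).extension_property J hJ G
    refine ⟨(H.restrictScalars R) ∘ₗ Algebra.linearMap R S, fun x hx => ?_⟩
    have h1 := LinearMap.congr_fun hH (TensorProduct.tmul R (1 : S) (⟨x, hx⟩ : I))
    simp [J, G, Algebra.smul_def] at h1
    exact h1
  let κ : IsLocalRing.ResidueField R →ₗ[R] IsLocalRing.ResidueField S :=
    { toFun := IsLocalRing.ResidueField.map (algebraMap R S)
      map_add' := map_add _
      map_smul' := fun r x => by
        obtain ⟨y, rfl⟩ := IsLocalRing.residue_surjective x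
        show IsLocalRing.ResidueField.map (algebraMap R S) (IsLocalRing.residue R (r * y)) = r • _
        rw [IsLocalRing.ResidueField.map_residue, map_mul, map_mul, IsLocalRing.ResidueField.map_residue,
          Algebra.smul_def]
        rfl }
  let g := (f.restrictScalars R) ∘ₗ κ
  refine ⟨g, Groth.Agent.InjHullLib.isInjectiveHull_of_socle hinj (fun x => ?_) g (hf.injective.comp hk.1) fun x hx => ?_⟩
  · obtain ⟨n, hn⟩ := Groth.Agent.InjHullLib.exists_pow_smul_eq_zero hf x
    refine ⟨n, fun r hr => ?_⟩
    rw [← algebraMap_smul S]
    refine hn _ ?_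
    rw [show IsLocalRing.maximalIdeal S = mR.map (algebraMap R S) from hm.symm, ← Ideal.map_pow]
    exact Ideal.mem_map_of_mem _ hr
  · rw [Groth.Agent.InjHullLib.mem_torsion_iff] at hx
    have hx' : x ∈ Submodule.torsionBySet S E (mS : Set S) := by
      refine Groth.Agent.InjHullLib.mem_torsion_iff.2 fun s hs => ?_
      rw [show mS = mR.map (algebraMap R S) from hm.symm] at hs
      refine Submodule.span_induction (p := fun s _ => s • x = 0) ?_ (zero_smul _ _)
        (fun a b _ _ ha hb => by rw [add_smul, ha, hb, add_zero]) (fun a b _ hb => by rw [smul_assoc, hb, smul_zero]) hs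
      rintro _ ⟨r, hr, rfl⟩
      rw [algebraMap_smul]
      exact hx r hr
    obtain ⟨c, rfl⟩ := (Groth.Agent.InjHullLib.torsion_eq_range (m := IsLocalRing.maximalIdeal S) (f := f) hf.toIsEssentialInj).le hx'
    obtain ⟨d, rfl⟩ := hk.2 c
    exact ⟨d, rfl⟩

end Groth.Agent.S1750
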