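import Groth.Statements.S17500
import Mathlib.RingTheory.Flat.Tensor
import Mathlib.RingTheory.Flat.Basic
import Mathlib.Data.ZMod.Basic

set_option autoImplicit false
universe u
open TorsMod

namespace Groth.Agent.S17500

open TensorProduct

theorem exists_gen (p n : ℕ) [hp : Fact p.Prime] (I : Ideal (ZMod (p ^ n))) :
    ∃ i ≤ n, I = Ideal.span {(p : ZMod (p ^ n)) ^ i} := by
  have hsurj : Function.Surjective (Int.castRingHom (ZMod (p ^ n))) := ZMod.intCast_surjective
  obtain ⟨a, ha⟩ := (IsPrincipalIdealRing.principal (I.comap (Int.castRingHom (ZMod (p ^ n))))).principal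
  have hI : I = Ideal.span {(a : ZMod (p ^ n))} := by
    rw [← Ideal.map_comap_of_surjective _ hsurj I, ha, ← Ideal.span, Ideal.map_span, Set.image_singleton]
    rfl
  have hmem : ((p ^ n : ℕ) : ℤ) ∈ I.comap (Int.castRingHom (ZMod (p ^ n))) := by
    rw [Ideal.mem_comap, map_natCast, ZMod.natCast_self]; exact zero_mem _
  rw [ha, ← Ideal.span, Ideal.mem_span_singleton] at hmem
  obtain ⟨i, hi, hia⟩ := (Nat.dvd_prime_pow hp.out).1 (show a.natAbs ∣ p ^ n from Int.natCast_dvd_natCast.1 ((Int.natAbs_dvd.2 hmem : (a.natAbs : ℤ) ∣ _)))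
  refine ⟨i, hi, hI.trans ?_⟩
  rcases Int.natAbs_eq a with h | h <;> rw [h, hia] <;> push_cast
  · rfl
  · exact Ideal.span_singleton_neg _


/-- Let p be a prime number, n a natural number and H a module over ℤ/p^nℤ. Then H is flat over ℤ/p^nℤ
if and only if, for every i with 0 ≤ i ≤ n, the kernel of multiplication by p^i on H coincides with
the image of multiplication by p^(n-i) on H. (The published item is phrased for an fppf sheaf of
ℤ/p^nℤ-modules on a scheme; this is the case of a single module, which is the case the argument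
treats.) -/
theorem result (p n : ℕ) [Fact p.Prime]
    (H : Type u) [AddCommGroup H] [Module (ZMod (p ^ n)) H] :
    Module.Flat (ZMod (p ^ n)) H ↔
      ∀ i : ℕ, i ≤ n →
        LinearMap.ker ((p ^ i : ZMod (p ^ n)) • (LinearMap.id : H →ₗ[ZMod (p ^ n)] H)) =
          LinearMap.range ((p ^ (n - i) : ZMod (p ^ n)) • (LinearMap.id : H →ₗ[ZMod (p ^ n)] H)) := by
  haveI : NeZero (p ^ n) := ⟨pow_ne_zero _ (Nat.Prime.ne_zero Fact.out)⟩
  let R := ZMod (p ^ n)
  have hpn : ((p : R) ^ n) = 0 := by
    rw [← Nat.cast_pow]; exact ZMod.natCast_self _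
  constructor
  · intro hflat i hi
    let f : R →ₗ[R] R := ((p : R) ^ (n - i)) • LinearMap.id
    let g : R →ₗ[R] R := ((p : R) ^ i) • LinearMap.id
    have hfg : Function.Exact f g := fun x => by
      constructor
      · intro hx
        have hx' : (p : R) ^ i * x = 0 := hx
        have : ((p ^ i * x.val : ℕ) : R) = 0 := by
          rw [Nat.cast_mul, Nat.cast_pow, ZMod.natCast_zmod_val]; exact hx'
        rw [ZMod.natCast_eq_zero_iff] at this
        obtain ⟨c, hc⟩ : p ^ (n - i) ∣ x.val :=
          Nat.dvd_of_mul_dvd_mul_left (Nat.pow_pos (Nat.Prime.pos Fact.out))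
            (by rwa [← pow_add, Nat.add_sub_cancel' hi])
        refine ⟨(c : R), ?_⟩
        show (p : R) ^ (n - i) * (c : R) = x
        rw [← Nat.cast_pow, ← Nat.cast_mul, ← hc, ZMod.natCast_zmod_val]
      · rintro ⟨y, rfl⟩
        show (p : R) ^ i * ((p : R) ^ (n - i) * y) = 0
        rw [← mul_assoc, ← pow_add, Nat.add_sub_cancel' hi, hpn, zero_mul]
    have h := Module.Flat.lTensor_exact H hfg
    refine SetLike.ext fun x => ⟨fun hx => ?_, ?_⟩
    · have hx' : (g.lTensor H) (x ⊗ₜ 1) = 0 := by
        show x ⊗ₜ[R] ((p : R) ^ i • (1 : R)) = 0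
        rw [TensorProduct.tmul_smul, TensorProduct.smul_tmul', show (p : R) ^ i • x = 0 from hx, TensorProduct.zero_tmul]
      obtain ⟨t, ht⟩ := (h _).1 hx'
      refine ⟨TensorProduct.rid R H t, ?_⟩
      have key : ∀ t : H ⊗[R] R, TensorProduct.rid R H ((f.lTensor H) t) =
          (p : R) ^ (n - i) • TensorProduct.rid R H t := fun t => by
        induction t using TensorProduct.induction_on with
        | zero => simp
        | tmul h r =>
          show ((p : R) ^ (n - i) • r) • h = _
          rw [smul_assoc, TensorProduct.rid_tmul]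
        | add a b ha hb => rw [map_add, map_add, map_add, smul_add, ha, hb]
      show (p : R) ^ (n - i) • TensorProduct.rid R H t = x
      rw [← key, ht, TensorProduct.rid_tmul, one_smul]
    · rintro ⟨y, rfl⟩
      show (p : R) ^ i • (p : R) ^ (n - i) • y = 0
      rw [smul_smul, ← pow_add, Nat.add_sub_cancel' hi, hpn, zero_smul]
  · intro h
    refine Module.Flat.iff_rTensor_injective.2 fun I _ => ?_
    rw [injective_iff_map_eq_zero]
    intro t ht
    obtain ⟨i, hi, rfl⟩ := exists_gen p n I
    let e : Ideal.span {(p : R) ^ i} := ⟨(p : R) ^ i, Ideal.mem_span_singleton_self _⟩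
    have key : ∀ t : Ideal.span {(p : R) ^ i} ⊗[R] H, ∃ x : H, t = e ⊗ₜ x := by
      intro t
      induction t using TensorProduct.induction_on with
      | zero => exact ⟨0, (TensorProduct.tmul_zero _ _).symm⟩
      | tmul a x =>
        obtain ⟨r, hr⟩ := Ideal.mem_span_singleton'.1 a.2
        refine ⟨r • x, ?_⟩
        rw [TensorProduct.tmul_smul, TensorProduct.smul_tmul']
        congr 1
        exact Subtype.ext hr.symm
      | add a b ha hb =>
        obtain ⟨x, rfl⟩ := ha
        obtain ⟨y, rfl⟩ := hb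
        exact ⟨x + y, (TensorProduct.tmul_add _ _ _).symm⟩
    obtain ⟨x, rfl⟩ := key t
    have hx : (p : R) ^ i • x = 0 := by
      have := congrArg (TensorProduct.lid R H) ht
      rw [map_zero, LinearMap.rTensor_tmul, TensorProduct.lid_tmul] at this
      exact this
    obtain ⟨y, rfl⟩ : x ∈ LinearMap.range ((p : R) ^ (n - i) • (LinearMap.id : H →ₗ[R] H)) :=
      (h i hi) ▸ hx
    show e ⊗ₜ[R] ((p : R) ^ (n - i) • y) = 0
    rw [TensorProduct.tmul_smul, TensorProduct.smul_tmul',
      show (p : R) ^ (n - i) • e = 0 from Subtype.ext (show (p : R) ^ (n - i) * (p : R) ^ i = 0 by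
        rw [← pow_add, Nat.sub_add_cancel hi, hpn]), TensorProduct.zero_tmul]


end Groth.Agent.S17500
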