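import Groth.Statements.S17502
import Groth.Agent.Lib.Growth13.Bound

set_option autoImplicit false
set_option backward.isDefEq.respectTransparency false
set_option backward.isDefEq.respectTransparency.types false
universe u
open CategoryTheory CategoryTheory.Limits MonoidalCategory CartesianMonoidalCategory MonObj GrpObj AlgebraicGeometry
open Coherent

namespace Groth.Agent.S17502

/-- Let k be a field, Y a projective k-scheme of dimension d (a k-scheme with a closed immersion c into
projective N-space over k, compatible with the structure morphisms, whose underlying topological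
space has Krull dimension d), L_1, …, L_r invertible O_Y-modules, and F a family of O_Y-modules
indexed by a ∈ ℤ^r with F(0) ≅ O_Y and F(a + e_j) ≅ F(a) ⊗ L_j for all a and j, so that F(a) ≅
L_1^{⊗ a_1} ⊗ ⋯ ⊗ L_r^{⊗ a_r} for every a. Then there is a real constant C > 0, depending only on Y
and the L_j, such that dim_k H^i(Y, F(a)) ≤ C · (1 + |a|^d) for every i and every a, where |a| =
|a_1| + ⋯ + |a_r|. (The published statement prints the exponent as the number r of line bundles
instead of the dimension d of Y; that bound fails as soon as r < d — on the projective plane with r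
= 1 and L_1 = O(1) the dimension of H^0(O(a)) grows like a²/2 — while the printed induction on d + r
over hyperplane sections yields the exponent d, which is what is stated here.) -/
theorem result
    (k : Type u) [Field k] (Y : Scheme.{u}) [Y.Over (Spec (CommRingCat.of k))]
    (N : ℕ) (c : Y ⟶ CohB1.ProjSpace N k) [IsClosedImmersion c]
    (hc : c ≫ CohB1.ProjSpace.toSpec N k = Y ↘ Spec (CommRingCat.of k))
    (d : ℕ) (hd : topologicalKrullDim ↥Y = d)
    (r : ℕ) (Lb : Fin r → Y.Modules) (hLb : ∀ j, PicF.IsInvertible (Lb j))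
    (F : (Fin r → ℤ) → Y.Modules) (hF0 : Nonempty (F 0 ≅ Coh.structureModule Y))
    (hF : ∀ (a : Fin r → ℤ) (j : Fin r), Nonempty (F (a + Pi.single j 1) ≅ CohB1.tensorMod (F a) (Lb j))) :
    ∃ C : ℝ, 0 < C ∧ ∀ (i : ℕ) (a : Fin r → ℤ),
      (Module.finrank k (Coh.HH Y (F a) i) : ℝ) ≤ C * (1 + (∑ j, |(a j : ℝ)|) ^ d) := by
  haveI : IsProper (Y ↘ Spec (CommRingCat.of k)) := hc ▸ inferInstance
  have hinv := fun a : Fin r → ℤ =>
    Groth.Agent.Growth13.isInvertible_family hLb hF0 hF (Groth.Agent.Growth13.wt a) a rfl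
  obtain ⟨C, hC⟩ := Groth.Agent.Growth13.bdd k hLb hinv hF d (Coh.structureModule Y)
    (Groth.Agent.M1.isCoh_structureModule Y) ((Groth.Agent.Snapper.dim_le_of_subset (Set.subset_univ _)
      ((Homeomorph.Set.univ Y).isHomeomorph.isEmbedding.isInducing.topologicalKrullDim_le.trans hd.le)))
  refine ⟨(2 : ℝ) ^ d * C + 1, by positivity, fun i a => ?_⟩
  have hle : Module.finrank k (Coh.HH Y (F a) i) ≤ C * (Groth.Agent.Growth13.wt a + 1) ^ d :=
    (Groth.Agent.Growth13.hdim_iso k (Groth.Agent.M2.tensorLUnit (F a)) i).symm.trans_le (hC i a)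
  have hw : ((Groth.Agent.Growth13.wt a : ℕ) : ℝ) = ∑ j, |(a j : ℝ)| := by
    simp [Groth.Agent.Growth13.wt]
  have h1 : (Module.finrank k (Coh.HH Y (F a) i) : ℝ) ≤ C * ((∑ j, |(a j : ℝ)|) + 1) ^ d := by
    rw [← hw]
    exact_mod_cast hle
  have hx : 0 ≤ ∑ j, |(a j : ℝ)| := Finset.sum_nonneg fun j _ => abs_nonneg _
  refine h1.trans ?_
  set x := ∑ j, |(a j : ℝ)|
  have h2 : (x + 1) ^ d ≤ 2 ^ d * (1 + x ^ d) := by
    refine (pow_le_pow_left₀ (by positivity) (show x + 1 ≤ 2 * max x 1 by
      linarith [le_max_left x 1, le_max_right x 1]) d).trans ?_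
    rw [mul_pow]
    refine mul_le_mul_of_nonneg_left ?_ (by positivity)
    rcases le_total x 1 with h | h
    · rw [max_eq_right h, one_pow]
      linarith [pow_nonneg hx d]
    · rw [max_eq_left h]
      linarith
  calc (C : ℝ) * (x + 1) ^ d ≤ C * (2 ^ d * (1 + x ^ d)) := mul_le_mul_of_nonneg_left h2 (Nat.cast_nonneg C)
    _ ≤ (2 ^ d * C + 1) * (1 + x ^ d) := by nlinarith [pow_nonneg hx d]

end Groth.Agent.S17502
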