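import Groth.Statements.S17511
import Groth.Agent.Lib.MumVan22.Surj

set_option autoImplicit false
universe u
open CategoryTheory CategoryTheory.Limits MonoidalCategory CartesianMonoidalCategory MonObj GrpObj AlgebraicGeometry
open AbVar

namespace Groth.Agent.S17511

/-- In an algebraic family of line bundles the index cannot jump locally. Let X be an abelian variety
over a field k (a proper, geometrically integral k-group scheme), let T be a locally Noetherian
k-scheme, M an invertible module on X ×_k T, and for each point t of T let M_t be the pull-back of M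
to the fibre X ×_k Spec k(t). Suppose every M_t is non-degenerate, with index idx(t): H^j(X ×_k Spec
k(t), M_t) = 0 for j ≠ idx(t) and H^{idx(t)} ≠ 0. Then t ↦ idx(t) is a locally constant function on
T. (Non-degeneracy with index i is expressed by the equivalent condition that the cohomology is
concentrated in degree i and non-zero there.) -/
theorem result
    (k : Type u) [Field k] (X : Over (Spec (CommRingCat.of k))) [GrpObj X] [IsProper X.hom] [GeometricallyIntegral X.hom]
    (T : Over (Spec (CommRingCat.of k))) [IsLocallyNoetherian T.left]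
    (M : (X ⊗ T).left.Modules) (hM : PicF.IsInvertible M)
    (idx : ↥T.left → ℕ)
    (hidx : ∀ t : ↥T.left,
      (∀ j : ℕ, j ≠ idx t →
        Subsingleton (Coh.HH (pullback (snd X T).left (T.left.fromSpecResidueField t))
          ((Scheme.Modules.pullback (pullback.fst (snd X T).left (T.left.fromSpecResidueField t))).obj M) j)) ∧
      Nontrivial (Coh.HH (pullback (snd X T).left (T.left.fromSpecResidueField t))
          ((Scheme.Modules.pullback (pullback.fst (snd X T).left (T.left.fromSpecResidueField t))).obj M) (idx t))) :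
    IsLocallyConstant idx := by
  letI f : (X ⊗ T).left ⟶ T.left := (snd X T).left
  haveI : IsProper f := inferInstanceAs (IsProper (Limits.pullback.snd X.hom T.hom))
  haveI : Flat X.hom := inferInstance
  haveI : Flat f := inferInstanceAs (Flat (Limits.pullback.snd X.hom T.hom))
  haveI : IsLocallyNoetherian (X ⊗ T).left := LocallyOfFiniteType.isLocallyNoetherian f
  have hcoh : Coh.IsCoh M := Groth.Agent.CubeField.isCoh_of_isInvertible hM
  have hfl : FlatMod.IsFlatOver f M := Groth.Agent.DPerf.isFlatOver_of_isFlat f fun x =>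
    Groth.Agent.KFlat.Sch.isFlat_of_isFinLocFree (Groth.Agent.M2.isFinLocFree_of_isInvertible hM) x
  have hid : ∀ t : ↥T.left, (∀ j : ℕ, j ≠ idx t → Subsingleton (CohIII.fiberH f M t j)) ∧
      Nontrivial (CohIII.fiberH f M t (idx t)) := hidx
  refine (IsLocallyConstant.iff_eventually_eq idx).2 fun t => ?_
  obtain ⟨U, hU, htU, -⟩ := exists_isAffineOpen_mem_and_subset (X := T.left) (x := t) (U := ⊤) trivial
  obtain ⟨P, hfin, hflat, ⟨i₀, hb⟩, -, hP⟩ := Groth.Agent.CBC10.exists_complexOn (f := f) hcoh hfl hU
  haveI := hfin
  haveI := hflat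
  haveI : IsNoetherianRing Γ(T.left, U) := IsLocallyNoetherian.component_noetherian ⟨U, hU⟩
  have key : ∀ p ∈ Finset.range ((-i₀).toNat + 1), p ≠ idx t →
      ∀ᶠ s in nhds t, Subsingleton (CohIII.fiberH f M s p) := by
    intro p _ hp
    have h0 := Groth.Agent.CBC10.fiberRank_eq_zero_of_subsingleton ((hid t).1 p hp)
    have hev := hP.eventually_fiberRank_eq hcoh.1 htU p (by
      filter_upwards [Groth.Agent.FlatCxLib.upperSemicontinuous_dRank P (-(p : ℤ)) (hU.primeIdealOf ⟨_, htU⟩) 1
        (show CohIII.dRank P _ _ < 1 by rw [← hP.fiberRank_eq htU hcoh.1 p, h0]; exact Nat.one_pos)] with z hz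
      rw [← hP.fiberRank_eq htU hcoh.1 p, h0]
      omega)
    filter_upwards [hev, U.isOpen.mem_nhds htU] with s hs hsU
    exact hP.subsingleton_fiberH_of_fiberRank_eq_zero hcoh.1 hsU (hs.trans h0)
  have hall : ∀ᶠ s in nhds t, ∀ p : {p // p ∈ Finset.range ((-i₀).toNat + 1) ∧ p ≠ idx t},
      Subsingleton (CohIII.fiberH f M s p.1) := by
    haveI : Finite {p // p ∈ Finset.range ((-i₀).toNat + 1) ∧ p ≠ idx t} :=
      Set.Finite.to_subtype ((Finset.range ((-i₀).toNat + 1)).finite_toSet.subset fun p hp => hp.1)
    exact Filter.eventually_all.2 fun p => key p.1 p.2.1 p.2.2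
  filter_upwards [hall, U.isOpen.mem_nhds htU] with s hs hsU
  by_contra hne
  haveI := (hid s).2
  refine not_subsingleton (CohIII.fiberH f M s (idx s)) ?_
  by_cases hr : idx s ∈ Finset.range ((-i₀).toNat + 1)
  · exact hs ⟨idx s, hr, hne⟩
  · have hz : IsZero (P.X (-(idx s : ℤ))) := hb _ (by rw [Finset.mem_range] at hr; omega)
    refine (hP.subsingleton_fiberH_iff hsU hcoh.1 (idx s)).2 ?_
    refine ModuleCat.subsingleton_of_isZero (HomologicalComplex.ExactAt.isZero_homology ?_)
    rw [HomologicalComplex.exactAt_iff]
    exact ShortComplex.exact_of_isZero_X₂ _ (by exact Functor.map_isZero (MonoidalCategory.tensorRight _) hz)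

end Groth.Agent.S17511
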