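import Groth.Statements.S17513
import Groth.Agent.Lib.AVDegree22.MulRank
import Groth.Agent.Lib.BTProj23.Basic
import Mathlib.LinearAlgebra.FreeModule.PID
import Mathlib.LinearAlgebra.Matrix.ToLin

set_option autoImplicit false
universe u
open CategoryTheory CategoryTheory.Limits MonoidalCategory CartesianMonoidalCategory MonObj GrpObj AlgebraicGeometry
open AbVar

namespace Groth.Agent.S17513

set_option linter.style.haveILetI false
set_option synthInstance.maxHeartbeats 400000
set_option backward.isDefEq.respectTransparency false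

variable {k : Type u} [Field k] (X : Over (Spec (CommRingCat.of k))) [GrpObj X] [IsCommMonObj X]

/-- The endomorphism of a power given by an integer matrix. -/
noncomputable def endo {r : ℕ} (α : Matrix (Fin r) (Fin r) ℤ) :
    (∏ᶜ fun _ : Fin r => X) ⟶ (∏ᶜ fun _ : Fin r => X) :=
  Pi.lift (fun i => ∏ j : Fin r, (Pi.π (fun _ : Fin r => X) j) ^ (α i j))

theorem endo_π {r : ℕ} (α : Matrix (Fin r) (Fin r) ℤ) (i : Fin r) :
    endo X α ≫ Pi.π (fun _ : Fin r => X) i = ∏ j : Fin r, (Pi.π (fun _ : Fin r => X) j) ^ (α i j) :=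
  Pi.lift_π _ _

theorem comp_prod_zpow {T P : Over (Spec (CommRingCat.of k))} {σ : Type*} (s : Finset σ) (f : T ⟶ P)
    (g : σ → (P ⟶ X)) (e : σ → ℤ) : f ≫ (∏ j ∈ s, g j ^ e j) = ∏ j ∈ s, (f ≫ g j) ^ e j := by
  let m : (P ⟶ X) →* (T ⟶ X) := MonoidHom.mk' (fun z => f ≫ z) fun a b => MonObj.comp_mul f a b
  show m _ = _
  rw [map_prod]
  exact Finset.prod_congr rfl fun j _ => map_zpow m _ _

theorem endo_comp {r : ℕ} (α β : Matrix (Fin r) (Fin r) ℤ) : endo X α ≫ endo X β = endo X (β * α) := by
  refine Limits.Pi.hom_ext _ _ fun i => ?_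
  rw [Category.assoc, endo_π, endo_π, comp_prod_zpow,
    Finset.prod_congr rfl (fun l _ => congrArg (· ^ β i l) (endo_π X α l))]
  let a : Fin r → Additive ((∏ᶜ fun _ : Fin r => X) ⟶ X) := fun j => Additive.ofMul (Pi.π (fun _ : Fin r => X) j)
  have h : ∑ l, β i l • ∑ j, α l j • a j = ∑ j, (β * α) i j • a j := by
    simp_rw [Finset.smul_sum, smul_smul]
    rw [Finset.sum_comm]
    exact Finset.sum_congr rfl fun j _ => by rw [← Finset.sum_smul, Matrix.mul_apply]
  exact congrArg Additive.toMul h

theorem endo_one {r : ℕ} : endo X (1 : Matrix (Fin r) (Fin r) ℤ) = 𝟙 _ := by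
  refine Limits.Pi.hom_ext _ _ fun i => ?_
  rw [endo_π, Category.id_comp, Finset.prod_eq_single i]
  · rw [Matrix.one_apply_eq, zpow_one]
  · intro j _ hj; rw [Matrix.one_apply_ne (Ne.symm hj), zpow_zero]
  · exact fun h => absurd (Finset.mem_univ i) h

/-- Finite flat of constant rank. -/
def HasDeg {P Q : Over (Spec (CommRingCat.of k))} (f : P ⟶ Q) (n : ℕ) : Prop :=
  IsFinite f.left ∧ Flat f.left ∧ ∀ y, Scheme.Hom.finrank f.left y = n

omit [GrpObj X] [IsCommMonObj X] in
theorem hasDeg_comp {P Q R : Over (Spec (CommRingCat.of k))} {f : P ⟶ Q} {g : Q ⟶ R} {m n : ℕ} (hf : HasDeg f m)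
    (hg : HasDeg g n) : HasDeg (f ≫ g) (m * n) := by
  obtain ⟨hf1, hf2, hf3⟩ := hf
  obtain ⟨hg1, hg2, hg3⟩ := hg
  haveI := hf1; haveI := hf2; haveI := hg1; haveI := hg2
  refine ⟨by rw [Over.comp_left]; infer_instance, by rw [Over.comp_left]; infer_instance, fun y => ?_⟩
  rw [Over.comp_left, Groth.Agent.BTProj23.finrank_comp f.left g.left m hf3 y, hg3]

theorem hasDeg_unimodular {r : ℕ} (U : Matrix (Fin r) (Fin r) ℤ) (hU : IsUnit U.det) : HasDeg (endo X U) 1 := by
  haveI : IsIso (endo X U) := ⟨endo X U⁻¹, by rw [endo_comp, Matrix.nonsing_inv_mul _ hU, endo_one],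
    by rw [endo_comp, Matrix.mul_nonsing_inv _ hU, endo_one]⟩
  haveI : IsIso (endo X U).left := ((Over.forget _).mapIso (asIso (endo X U))).isIso_hom
  refine ⟨inferInstance, inferInstance, fun y => ?_⟩
  rw [Scheme.Hom.finrank_eq_one_of_isIso]
  rfl

variable [IsProper X.hom] [GeometricallyIntegral X.hom]

theorem hasDeg_single {r : ℕ} {g : ℕ} (hg : topologicalKrullDim X.left = g) (i : Fin r) {n : ℤ} (hn : n ≠ 0) :
    HasDeg (endo X (Matrix.diagonal (Function.update (1 : Fin r → ℤ) i n))) (n.natAbs ^ (2 * g)) := by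
  classical
  obtain ⟨h1, h2, h3⟩ := Groth.Agent.AVDegree22.isFinite_flat_finrank_zpow X hg hn
  let P := ∏ᶜ fun _ : Fin r => X
  let π : Fin r → (P ⟶ X) := Pi.π (fun _ : Fin r => X)
  let f : P ⟶ P := endo X (Matrix.diagonal (Function.update (1 : Fin r → ℤ) i n))
  have hfπ : ∀ l, f ≫ π l = π l ^ Function.update (1 : Fin r → ℤ) i n l := fun l => by
    show endo X _ ≫ Pi.π _ l = _
    rw [endo_π, Finset.prod_eq_single l]
    · rw [Matrix.diagonal_apply_eq]
    · intro j _ hj; rw [Matrix.diagonal_apply_ne _ (Ne.symm hj), zpow_zero]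
    · exact fun h => absurd (Finset.mem_univ l) h
  have hcz : ∀ {T : Over (Spec (CommRingCat.of k))} (a : T ⟶ X), a ≫ (𝟙 X ^ n) = a ^ n := fun a => by
    have := comp_prod_zpow X ({()} : Finset Unit) a (fun _ => 𝟙 X) (fun _ => n)
    simpa using this
  have hsq : IsPullback f (π i) (π i) (𝟙 X ^ n) := by
    refine ⟨⟨by rw [hfπ, Function.update_self, hcz]⟩, ⟨PullbackCone.IsLimit.mk _
      (fun s => Pi.lift fun l => if l = i then s.snd else s.fst ≫ π l) (fun s => ?_) (fun s => ?_) (fun s m hm1 hm2 => ?_)⟩⟩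
    · refine Limits.Pi.hom_ext _ _ fun l => ?_
      show (_ ≫ f) ≫ π l = s.fst ≫ π l
      rw [Category.assoc, hfπ]
      have hz : ∀ {T : Over (Spec (CommRingCat.of k))} (a : T ⟶ P) (c : ℤ), a ≫ π l ^ c = (a ≫ π l) ^ c := fun a c => by
        have := comp_prod_zpow X ({()} : Finset Unit) a (fun _ => π l) (fun _ => c)
        simpa using this
      rw [hz, show Pi.lift (fun l => if l = i then s.snd else s.fst ≫ π l) ≫ π l = _ from Pi.lift_π _ _]
      by_cases hl : l = i
      · subst hl
        simp only [Function.update_self, if_true]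
        exact ((hcz s.snd).symm.trans s.condition.symm : _)
      · rw [if_neg hl, Function.update_of_ne hl, Pi.one_apply, zpow_one]
    · exact (Pi.lift_π _ i).trans (if_pos rfl)
    · refine Limits.Pi.hom_ext _ _ fun l => ?_
      rw [Pi.lift_π]
      by_cases hl : l = i
      · subst hl; rw [if_pos rfl]; exact hm2
      · rw [if_neg hl, ← hm1]
        show m ≫ π l = (m ≫ f) ≫ π l
        rw [Category.assoc, hfπ, Function.update_of_ne hl, Pi.one_apply, zpow_one]
  have hsq' : IsPullback f.left (π i).left (π i).left (𝟙 X ^ n).left := hsq.map (Over.forget _)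
  haveI := h1; haveI := h2
  haveI : IsFinite f.left := MorphismProperty.of_isPullback (P := @IsFinite) hsq'.flip ‹_›
  haveI : Flat f.left := MorphismProperty.of_isPullback (P := @Flat) hsq'.flip ‹_›
  exact ⟨inferInstance, inferInstance, fun y => (Scheme.Hom.finrank_of_isPullback _ _ _ _ hsq'.flip y).trans (h3 _)⟩

theorem hasDeg_diagonal {r : ℕ} {g : ℕ} (hg : topologicalKrullDim X.left = g) (d : Fin r → ℤ) (hd : ∀ i, d i ≠ 0)
    (s : Finset (Fin r)) :
    HasDeg (endo X (Matrix.diagonal fun i => if i ∈ s then d i else 1)) (∏ i ∈ s, (d i).natAbs ^ (2 * g)) := by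
  classical
  induction s using Finset.induction_on with
  | empty =>
    have h := hasDeg_unimodular X (1 : Matrix (Fin r) (Fin r) ℤ) (by rw [Matrix.det_one]; exact isUnit_one)
    simpa using h
  | insert a s ha ih =>
    have h := hasDeg_comp (hasDeg_single X hg a (hd a)) ih
    rw [endo_comp, Matrix.diagonal_mul_diagonal, ← Finset.prod_insert ha (f := fun i => (d i).natAbs ^ (2 * g))] at h
    have e : (fun i => (if i ∈ s then d i else 1) * Function.update (1 : Fin r → ℤ) a (d a) i) =
        fun i => if i ∈ insert a s then d i else 1 := funext fun i => by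
      by_cases hi : i = a
      · subst hi; simp [ha]
      · simp [hi, Function.update_of_ne hi]
    rwa [e] at h

omit [Field k] in
/-- Smith normal form of a nondegenerate integer matrix. -/
theorem exists_smith {r : ℕ} (α : Matrix (Fin r) (Fin r) ℤ) (hα : α.det ≠ 0) :
    ∃ (U : Matrix (Fin r) (Fin r) ℤ) (d : Fin r → ℤ) (V : Matrix (Fin r) (Fin r) ℤ),
      α = U * Matrix.diagonal d * V ∧ IsUnit U.det ∧ IsUnit V.det ∧ ∀ i, d i ≠ 0 := by
  classical
  let L := Matrix.toLin' α
  have hL : Function.Injective L := LinearMap.ker_eq_bot.1 (by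
    rw [LinearMap.ker_eq_bot']
    intro v hv
    exact Matrix.eq_zero_of_mulVec_eq_zero hα hv)
  let e := LinearEquiv.ofInjective L hL
  let b := Pi.basisFun ℤ (Fin r)
  have h : Module.finrank ℤ (LinearMap.range L) = Module.finrank ℤ (Fin r → ℤ) := e.finrank_eq.symm
  let a := Submodule.smithNormalFormCoeffs b h
  let b' := Submodule.smithNormalFormTopBasis b h
  let ab := Submodule.smithNormalFormBotBasis b h
  let P1 := b'.equivFun.symm
  let P2 := e.trans ab.equivFun
  have hunit : ∀ f : (Fin r → ℤ) ≃ₗ[ℤ] (Fin r → ℤ), IsUnit (LinearMap.toMatrix' f.toLinearMap).det := fun f => by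
    rw [LinearMap.det_toMatrix']
    exact LinearEquiv.isUnit_det' f
  refine ⟨LinearMap.toMatrix' P1.toLinearMap, a, LinearMap.toMatrix' P2.toLinearMap, ?_, hunit _, hunit _,
    fun i => Submodule.smithNormalFormCoeffs_ne_zero b h i⟩
  apply Matrix.toLin'.injective
  rw [Matrix.toLin'_mul, Matrix.toLin'_mul, Matrix.toLin'_toMatrix', Matrix.toLin'_toMatrix']
  refine LinearMap.ext fun v => ?_
  show L v = P1 (Matrix.toLin' (Matrix.diagonal a) (P2 v))
  rw [show L v = ((e v : LinearMap.range L) : Fin r → ℤ) from rfl]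
  conv_lhs => rw [← ab.sum_equivFun (e v)]
  rw [Submodule.coe_sum, Module.Basis.equivFun_symm_apply]
  refine Finset.sum_congr rfl fun i _ => ?_
  rw [Submodule.coe_smul, Submodule.smithNormalFormBotBasis_def, Matrix.toLin'_apply, Matrix.mulVec_diagonal,
    smul_smul, mul_comm]
  rfl


/-- Let X be an abelian variety over a field k (a proper, geometrically integral, commutative k-group
scheme) whose underlying space has Krull dimension g, let r be a natural number and α an r × r
matrix with integer entries. Write X^r for the r-fold product of X over k and [α]_X : X^r → X^r for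
the homomorphism (x_1, …, x_r) ↦ (Σ_j α_{1j} x_j, …, Σ_j α_{rj} x_j), i.e. the map whose i-th
component is the product, in the commutative group of maps X^r → X, of the powers pr_j^{α_{ij}}. If
det α ≠ 0 then [α]_X is finite and flat of constant degree |det α|^{2g} = det(α)^{2g}. (The
published statement covers det α = 0 too, with the convention that a non-finite homomorphism has
degree 0; that case says only that [α]_X is not finite and is not part of this row.) -/
theorem result
    (k : Type u) [Field k] (X : Over (Spec (CommRingCat.of k))) [GrpObj X] [IsCommMonObj X]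
    [IsProper X.hom] [GeometricallyIntegral X.hom]
    (g : ℕ) (hg : topologicalKrullDim ↥X.left = g)
    (r : ℕ) (α : Matrix (Fin r) (Fin r) ℤ) (hα : α.det ≠ 0)
    (φ : (∏ᶜ fun _ : Fin r => X) ⟶ (∏ᶜ fun _ : Fin r => X))
    (hφ : φ = Pi.lift (fun i => ∏ j : Fin r, (Pi.π (fun _ : Fin r => X) j) ^ (α i j))) :
    IsFinite φ.left ∧ Flat φ.left ∧
      ∀ y : ↥(∏ᶜ fun _ : Fin r => X).left, Scheme.Hom.finrank φ.left y = α.det.natAbs ^ (2 * g) := by
  subst hφ
  obtain ⟨U, d, V, hα', hU, hV, hd⟩ := exists_smith α hα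
  have hdet : α.det.natAbs = ∏ i, (d i).natAbs := by
    rw [hα', Matrix.det_mul, Matrix.det_mul, Matrix.det_diagonal, Int.natAbs_mul, Int.natAbs_mul,
      Int.isUnit_iff_natAbs_eq.1 hU, Int.isUnit_iff_natAbs_eq.1 hV, _root_.one_mul, _root_.mul_one]
    exact map_prod Int.natAbsHom d _
  rw [hdet, ← Finset.prod_pow]
  have h1 := hasDeg_comp (hasDeg_comp (hasDeg_unimodular X V hV) (hasDeg_diagonal X hg d hd Finset.univ))
    (hasDeg_unimodular X U hU)
  rw [endo_comp, endo_comp, _root_.one_mul, _root_.mul_one, ← _root_.mul_assoc] at h1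
  rw [show Matrix.diagonal d = Matrix.diagonal (fun i => if i ∈ (Finset.univ : Finset (Fin r)) then d i else 1) by simp]
    at hα'
  rw [← hα'] at h1
  exact h1

end Groth.Agent.S17513
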