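import Groth.Statements.S17514
import Groth.Agent.Lib.TateTors22.DetNorm

set_option autoImplicit false
universe u
open CategoryTheory CategoryTheory.Limits MonoidalCategory CartesianMonoidalCategory MonObj GrpObj AlgebraicGeometry
open AbVar

namespace Groth.Agent.S17514

/-- Let k be a field with algebraic closure k̄, ℓ a prime number invertible in k, X and Y abelian
varieties over k (proper, geometrically integral, commutative k-group schemes), f : X → Y an isogeny
(a homomorphism which is finite and surjective) and i : N → X its kernel (the square formed by i, f,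
the unit of Y and the structure map of N is cartesian). Let T_ℓ denote the Tate module formed with
k̄-valued points and T_ℓ f : T_ℓ X → T_ℓ Y the induced ℤ_ℓ-linear map. Then T_ℓ f is injective and
its cokernel is isomorphic, as a group, to the ℓ-primary part of the finite group N(k̄) of k̄-valued
points of N (existence of an isomorphism; the published sequence 0 → T_ℓ X → T_ℓ Y → N_ℓ(k_s) → 0 is
moreover Galois-equivariant with a specific connecting map, and uses points over a separable
closure, which for ℓ-power torsion gives the same groups). -/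
theorem result
    (k : Type u) [Field k] (ℓ : ℕ) [Fact ℓ.Prime] (hℓ : (ℓ : k) ≠ 0)
    (X Y : Over (Spec (CommRingCat.of k)))
    [GrpObj X] [IsCommMonObj X] [IsProper X.hom] [GeometricallyIntegral X.hom]
    [GrpObj Y] [IsCommMonObj Y] [IsProper Y.hom] [GeometricallyIntegral Y.hom]
    (f : X ⟶ Y) [IsMonHom f] [IsFinite f.left] [Surjective f.left]
    (N : Over (Spec (CommRingCat.of k))) [GrpObj N] [IsCommMonObj N] (i : N ⟶ X) [IsMonHom i]
    (hN : AlgGrp.IsKernel i f) :
    Function.Injective (AbDual.tateMapₗ (l := ℓ)
        (T := Over.mk (Spec.map (CommRingCat.ofHom (algebraMap k (AlgebraicClosure k))))) f) ∧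
      Nonempty ((AbDual.TateMod Y ℓ (Over.mk (Spec.map (CommRingCat.ofHom (algebraMap k (AlgebraicClosure k))))) ⧸
          LinearMap.range (AbDual.tateMapₗ (l := ℓ)
            (T := Over.mk (Spec.map (CommRingCat.ofHom (algebraMap k (AlgebraicClosure k))))) f)) ≃+
        Additive ↥(CommGroup.primaryComponent
          (Over.mk (Spec.map (CommRingCat.ofHom (algebraMap k (AlgebraicClosure k)))) ⟶ N) ℓ)) := by
  let K := AlgebraicClosure k
  refine ⟨Groth.Agent.TateTors22.injective_tateMap_of_isFinite (k := k) K ℓ f, ?_⟩
  obtain ⟨a, M, -, -, -, ⟨E⟩⟩ := Groth.Agent.TateTors22.nonempty_coker_equiv K ℓ hℓ f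
    (Groth.Agent.TateTors22.exists_lift_point K f)
  let G := SGA7.pt (K := k) K ⟶ N
  have hsq : IsPullback i (toUnit N) f η[Y] := hN
  let ψ : G →* Groth.Agent.TateTors22.kerPts K f :=
    { toFun := fun x => ⟨x ≫ i, by
        show (x ≫ i) ≫ f = 1
        rw [Category.assoc, hsq.w, ← Category.assoc, Hom.one_def]
        congr 1
        exact Subsingleton.elim _ _⟩
      map_one' := Subtype.ext (MonObj.one_comp i)
      map_mul' := fun x y => Subtype.ext (MonObj.mul_comp x y i) }
  have hψ : Function.Bijective ψ := by
    refine ⟨fun x y h => hsq.hom_ext (congrArg Subtype.val h) (Subsingleton.elim _ _), fun ⟨x, hx⟩ => ?_⟩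
    have hw : x ≫ f = toUnit _ ≫ η[Y] := by
      rw [← Hom.one_def]
      exact hx
    exact ⟨hsq.lift x (toUnit _) hw, Subtype.ext (hsq.lift_fst _ _ _)⟩
  let Φ : G ≃* Groth.Agent.TateTors22.kerPts K f := MulEquiv.ofBijective ψ hψ
  let P : CommGroup.primaryComponent G ℓ ≃* CommGroup.primaryComponent (Groth.Agent.TateTors22.kerPts K f) ℓ :=
    { toFun := fun x => ⟨Φ x.1, by
        obtain ⟨n, hn⟩ := CommGroup.mem_primaryComponent.1 x.2
        exact CommGroup.mem_primaryComponent.2 ⟨n, by rw [← _root_.map_pow, hn, _root_.map_one]⟩⟩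
      invFun := fun y => ⟨Φ.symm y.1, by
        obtain ⟨n, hn⟩ := CommGroup.mem_primaryComponent.1 y.2
        exact CommGroup.mem_primaryComponent.2 ⟨n, by rw [← _root_.map_pow, hn, _root_.map_one]⟩⟩
      left_inv := fun x => Subtype.ext (Φ.symm_apply_apply _)
      right_inv := fun y => Subtype.ext (Φ.apply_symm_apply _)
      map_mul' := fun x y => Subtype.ext (_root_.map_mul Φ _ _) }
  exact ⟨E.trans (MulEquiv.toAdditive P).symm⟩

end Groth.Agent.S17514
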