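import Groth.Statements.S17516
import Groth.Agent.Lib.PolPull22.Basic
import Groth.Agent.Lib.ChowTowerH1.Basic
import Groth.Agent.Lib.BTProj23.Basic

set_option autoImplicit false
universe u
open CategoryTheory CategoryTheory.Limits MonoidalCategory CartesianMonoidalCategory MonObj GrpObj AlgebraicGeometry
open AbVar

namespace Groth.Agent.S17516

open scoped CategoryTheory.Obj
set_option linter.style.haveILetI false
set_option synthInstance.maxHeartbeats 400000
set_option backward.isDefEq.respectTransparency false

/-- Let X and Y be abelian varieties over a field k (proper, geometrically integral, commutative k-group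
schemes) with given dual abelian varieties (X^t, φ_X) and (Y^t, φ_Y) for the fppf topology, let f :
X → Y be an isogeny — a homomorphism which is finite, flat and surjective — of constant degree d,
with transpose f^t : Y^t → X^t, and let λ : Y → Y^t be a polarization of Y (a homomorphism whose
base change to every algebraically closed field is the homomorphism φ_M attached to some ample
invertible module M) which is finite and flat of constant degree e. Then f^*λ := f^t ∘ λ ∘ f : X →
X^t is a polarization of X, and it is finite and flat of constant degree d² · e = deg(f)² · deg(λ). -/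
theorem result
    (k : Type u) [Field k] (X Xt Y Yt : Over (Spec (CommRingCat.of k)))
    [GrpObj X] [IsCommMonObj X] [IsProper X.hom] [GeometricallyIntegral X.hom] [GrpObj Xt] [IsCommMonObj Xt] [IsProper Xt.hom] [GeometricallyIntegral Xt.hom]
    [GrpObj Y] [IsCommMonObj Y] [IsProper Y.hom] [GeometricallyIntegral Y.hom] [GrpObj Yt] [IsCommMonObj Yt] [IsProper Yt.hom] [GeometricallyIntegral Yt.hom]
    (φX : AgPol.DualMap X Xt) (hX : AbDual.IsDualAV Scheme.fppfPrecoverage X Xt φX)
    (φY : AgPol.DualMap Y Yt) (hY : AbDual.IsDualAV Scheme.fppfPrecoverage Y Yt φY)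
    (f : X ⟶ Y) [IsMonHom f] [IsFinite f.left] [Flat f.left] [Surjective f.left]
    (d : ℕ) (hd : ∀ y : ↥Y.left, Scheme.Hom.finrank f.left y = d)
    (ft : Yt ⟶ Xt) (hft : AbDual.IsTranspose f φX φY ft)
    (lam : Y ⟶ Yt) (hlam : AgPol.IsPolarization Y Yt φY lam)
    [IsFinite lam.left] [Flat lam.left] (e : ℕ) (he : ∀ y : ↥Yt.left, Scheme.Hom.finrank lam.left y = e) :
    AgPol.IsPolarization X Xt φX (f ≫ lam ≫ ft) ∧ IsFinite (f ≫ lam ≫ ft).left ∧ Flat (f ≫ lam ≫ ft).left ∧
      ∀ x : ↥Xt.left, Scheme.Hom.finrank (f ≫ lam ≫ ft).left x = d ^ 2 * e := by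
  haveI : Smooth X.hom := @smooth_of_grpObj k _ _ X.hom _ (show GrpObj (Over.mk X.hom) from ‹GrpObj X›) _
  haveI : Smooth Y.hom := @smooth_of_grpObj k _ _ Y.hom _ (show GrpObj (Over.mk Y.hom) from ‹GrpObj Y›) _
  haveI : Smooth Xt.hom := @smooth_of_grpObj k _ _ Xt.hom _ (show GrpObj (Over.mk Xt.hom) from ‹GrpObj Xt›) _
  haveI : Smooth Yt.hom := @smooth_of_grpObj k _ _ Yt.hom _ (show GrpObj (Over.mk Yt.hom) from ‹GrpObj Yt›) _
  haveI : GeometricallyConnected X.hom := Groth.Agent.Unital.geometricallyConnected_of_geometricallyIntegral X.hom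
  haveI : GeometricallyConnected Y.hom := Groth.Agent.Unital.geometricallyConnected_of_geometricallyIntegral Y.hom
  haveI : GeometricallyConnected Xt.hom := Groth.Agent.Unital.geometricallyConnected_of_geometricallyIntegral Xt.hom
  haveI : GeometricallyConnected Yt.hom := Groth.Agent.Unital.geometricallyConnected_of_geometricallyIntegral Yt.hom
  obtain ⟨hf1, hf2, hf3, hf4⟩ := Groth.Agent.AbDual22.transpose_isogeny hX hY f hd hft
  haveI := hf1; haveI := hf2
  haveI : IsMonHom lam := hlam.1
  haveI : IsMonHom ft := Groth.Agent.AbRigid.isMonHom_of_one Yt Xt ft (by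
    have h1 := Groth.Agent.AbDual22.one_comp_transpose hX hY hft (𝟙_ _)
    simp only [Hom.one_def, Category.assoc] at h1
    simpa using h1)
  haveI hff : IsFinite (f ≫ lam ≫ ft).left := by rw [Over.comp_left, Over.comp_left]; infer_instance
  haveI hfl : Flat (f ≫ lam ≫ ft).left := by rw [Over.comp_left, Over.comp_left]; infer_instance
  refine ⟨⟨inferInstance, fun Ω _ _ t => ?_⟩, hff, hfl, fun x => ?_⟩
  · obtain ⟨L, hL, hLam⟩ := hlam.2 Ω t
    haveI : IsProper (Red.bc t X).hom := MorphismProperty.pullback_snd _ _ ‹IsProper X.hom›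
    haveI : GeometricallyIntegral (Red.bc t X).hom := MorphismProperty.pullback_snd _ _ ‹GeometricallyIntegral X.hom›
    haveI : IsProper (Red.bc t Y).hom := MorphismProperty.pullback_snd _ _ ‹IsProper Y.hom›
    haveI : GeometricallyIntegral (Red.bc t Y).hom := MorphismProperty.pullback_snd _ _ ‹GeometricallyIntegral Y.hom›
    haveI : IsFinite ((Over.pullback t).map f).left := Groth.Agent.ChowTowerH1.bc_prop t @IsFinite f ‹_›
    refine ⟨(Scheme.Modules.pullback ((Over.pullback t).map f).left).obj L,
      Groth.Agent.Amp.isAmple_pullback_of_isAffineHom _ hL, ?_⟩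
    rw [Groth.Agent.PolPull22.bcDual_eq] at hLam ⊢
    rw [Functor.map_comp, Functor.map_comp]
    exact Groth.Agent.PolPull22.isLambda_pullback (Groth.Agent.AbDual22.isDualAV_bc t φX hX)
      ((Over.pullback t).map f) (Groth.Agent.AbDual22.isTranspose_bc t φX φY hft) hL.1 hLam
  · haveI : Flat (lam ≫ ft).left := by rw [Over.comp_left]; infer_instance
    haveI : IsFinite (lam ≫ ft).left := by rw [Over.comp_left]; infer_instance
    rw [Over.comp_left, Groth.Agent.BTProj23.finrank_comp f.left (lam ≫ ft).left d hd, Over.comp_left,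
      Groth.Agent.BTProj23.finrank_comp lam.left ft.left e he, hf4]
    ring

end Groth.Agent.S17516
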