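import Groth.Statements.S17517
import Mathlib.Analysis.InnerProductSpace.Basic
import Mathlib.Analysis.Convex.StrictConvexSpace
import Mathlib.Analysis.InnerProductSpace.Convex
import Mathlib.Analysis.Normed.Module.Ray
import Mathlib.GroupTheory.Archimedean

set_option autoImplicit false
universe u
open GIT

namespace Groth.Agent.S17517

open scoped RealInnerProductSpace
open Module

/-- Apply a `ℚ`-linear functional on `ℝ` to the coordinates of a vector. -/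
noncomputable def twist {E : Type u} [NormedAddCommGroup E] [InnerProductSpace ℝ E] {ι : Type*} [Fintype ι]
    (b : Basis ι ℝ E) (φ : ℝ →ₗ[ℚ] ℚ) (y : E) : E :=
  ∑ j, (φ (b.repr y j) : ℝ) • b j

theorem apply_twist {E : Type u} [NormedAddCommGroup E] [InnerProductSpace ℝ E] {ι : Type*} [Fintype ι]
    (b : Basis ι ℝ E) (φ : ℝ →ₗ[ℚ] ℚ) (y : E) (a : E →ₗ[ℝ] ℝ) (ha : ∀ j, ∃ n : ℤ, a (b j) = (n : ℝ)) :
    a (twist b φ y) = (φ (a y) : ℝ) := by
  choose n hn using ha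
  have h1 : a y = ∑ j, n j • b.repr y j := by
    conv_lhs => rw [← b.sum_repr y]
    simp only [map_sum, map_smul, hn, smul_eq_mul, zsmul_eq_mul, mul_comm]
  rw [h1, map_sum, twist, map_sum, Rat.cast_sum]
  refine Finset.sum_congr rfl fun j _ => ?_
  rw [map_smul, hn, smul_eq_mul, map_zsmul, zsmul_eq_mul, Rat.cast_mul, Rat.cast_intCast, mul_comm]

/-- A minimal solution of an integral linear system has rational coordinates. -/
theorem twist_eq_self {E : Type u} [NormedAddCommGroup E] [InnerProductSpace ℝ E] {ι : Type*} [Fintype ι]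
    (b : Basis ι ℝ E) (hb : ∀ i j, ∃ n : ℤ, ⟪b i, b j⟫ = (n : ℝ))
    (A : Set (E →ₗ[ℝ] ℝ)) (hA : ∀ a ∈ A, ∀ j, ∃ n : ℤ, a (b j) = (n : ℝ)) (x₀ : E)
    (hx : ∀ a ∈ A, a x₀ = 0 ∨ a x₀ = 1) (horth : ∀ d, (∀ a ∈ A, a d = 0) → ⟪x₀, d⟫ = 0)
    (φ : ℝ →ₗ[ℚ] ℚ) (hφ : φ 1 = 1) : twist b φ x₀ = x₀ := by
  classical
  set x' := twist b φ x₀ with hx'
  have hker : ∀ a ∈ A, a (x' - x₀) = 0 := fun a ha => by
    rw [map_sub, hx', apply_twist b φ x₀ a (hA a ha)]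
    rcases hx a ha with h | h <;> rw [h] <;> simp [hφ]
  -- rational kernel vectors are orthogonal to `x'`
  have hrat : ∀ ψ : ℝ →ₗ[ℚ] ℚ, ⟪x', twist b ψ (x' - x₀)⟫ = 0 := by
    intro ψ
    set d := twist b ψ (x' - x₀) with hd
    have hd0 : ⟪x₀, d⟫ = 0 := horth d fun a ha => by
      rw [hd, apply_twist b ψ _ a (hA a ha), hker a ha, map_zero, Rat.cast_zero]
    let q : ι → ℚ := fun j => ψ (b.repr (x' - x₀) j)
    have hdq : ∀ z : E, ⟪z, d⟫ = ∑ j, (q j : ℝ) * ⟪z, b j⟫ := fun z => by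
      simp only [hd, twist, inner_sum, real_inner_smul_right, q]
    have h1 : ∀ j, ⟪x', b j⟫ = (φ ⟪x₀, b j⟫ : ℝ) := fun j => by
      have := apply_twist b φ x₀ (innerₛₗ ℝ (b j)) fun i => hb j i
      simp only [innerₛₗ_apply_apply] at this
      rw [real_inner_comm, hx', this, real_inner_comm]
    have h2 : φ (∑ j, (q j : ℝ) * ⟪x₀, b j⟫) = ∑ j, q j * φ ⟪x₀, b j⟫ := by
      rw [map_sum]
      refine Finset.sum_congr rfl fun j _ => ?_
      rw [← Rat.smul_def, map_smul, smul_eq_mul]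
    rw [hdq x']
    calc ∑ j, (q j : ℝ) * ⟪x', b j⟫ = ((∑ j, q j * φ ⟪x₀, b j⟫ : ℚ) : ℝ) := by
          simp only [h1, Rat.cast_sum, Rat.cast_mul]
      _ = 0 := by rw [← h2, ← hdq x₀, hd0, map_zero, Rat.cast_zero]
  let β := Basis.ofVectorSpace ℚ ℝ
  let s := Finset.univ.biUnion fun j => (β.repr (b.repr (x' - x₀) j)).support
  have hdec : x' - x₀ = ∑ k ∈ s, β k • twist b (β.coord k) (x' - x₀) := by
    simp only [twist, Finset.smul_sum, smul_smul]
    rw [Finset.sum_comm]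
    conv_lhs => rw [← b.sum_repr (x' - x₀)]
    refine Finset.sum_congr rfl fun j _ => ?_
    rw [← Finset.sum_smul]
    congr 1
    conv_lhs => rw [← β.linearCombination_repr (b.repr (x' - x₀) j)]
    rw [Finsupp.linearCombination_apply, Finsupp.sum_of_support_subset _
      (Finset.subset_biUnion_of_mem (fun j => (β.repr (b.repr (x' - x₀) j)).support) (Finset.mem_univ j))]
    · refine Finset.sum_congr rfl fun k _ => ?_
      rw [Basis.coord_apply, Rat.smul_def, mul_comm]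
    · exact fun k _ => zero_smul ℚ _
  have e1 : ⟪x', x' - x₀⟫ = 0 := by
    rw [hdec, inner_sum]
    refine Finset.sum_eq_zero fun k _ => ?_
    rw [real_inner_smul_right, hrat, mul_zero]
  have e2 : ⟪x₀, x' - x₀⟫ = 0 := horth _ hker
  have : ⟪x' - x₀, x' - x₀⟫ = 0 := by rw [inner_sub_left, e1, e2, sub_zero]
  exact sub_eq_zero.1 (inner_self_eq_zero.1 this)


/-- Let `E` be a finite-dimensional real inner product space and `L` a full lattice in `E` (a discrete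
subgroup spanning `E`) on which the inner product is integer valued; let `F` and `G` be nonempty
finite sets of real linear functionals on `E` taking integer values on `L`, with `f_min v = min_{f ∈
F} f v` and `g_min v = min_{g ∈ G} g v`. If some vector `v` has `f_min v ≥ 0` and `g_min v > 0`,
then on the set `C_F` of nonzero `v` with `f_min v ≥ 0` the function `v ↦ g_min v / ‖v‖` attains a
greatest value `M`, and there is exactly one lattice vector `v₀ ∈ C_F` with `g_min v₀ / ‖v₀‖ = M` of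
which every lattice vector `v ∈ C_F` with `g_min v / ‖v‖ = M` is an integer multiple. -/
theorem result
    (E : Type u) [NormedAddCommGroup E] [InnerProductSpace ℝ E] [FiniteDimensional ℝ E]
    (L : Submodule ℤ E) [DiscreteTopology L] [IsZLattice ℝ L]
    (hint : ∀ x ∈ L, ∀ y ∈ L, ∃ n : ℤ, inner ℝ x y = (n : ℝ))
    (F G : Finset (Module.Dual ℝ E)) (hF : F.Nonempty) (hG : G.Nonempty)
    (hFi : ∀ f ∈ F, ∀ x ∈ L, ∃ n : ℤ, f x = (n : ℝ)) (hGi : ∀ g ∈ G, ∀ x ∈ L, ∃ n : ℤ, g x = (n : ℝ))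
    (hpos : ∃ v : E, 0 ≤ F.inf' hF (fun f => f v) ∧ 0 < G.inf' hG (fun g => g v)) :
    ∃ M : ℝ, IsGreatest ((fun v => G.inf' hG (fun g => g v) / ‖v‖) ''
        {v : E | v ≠ 0 ∧ 0 ≤ F.inf' hF (fun f => f v)}) M ∧
      ∃! v₀ : E, v₀ ∈ L ∧ v₀ ≠ 0 ∧ 0 ≤ F.inf' hF (fun f => f v₀) ∧
        G.inf' hG (fun g => g v₀) / ‖v₀‖ = M ∧
        ∀ v ∈ L, v ≠ 0 → 0 ≤ F.inf' hF (fun f => f v) → G.inf' hG (fun g => g v) / ‖v‖ = M →
          ∃ n : ℤ, v = n • v₀ := by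
  classical
  set fm : E → ℝ := fun v => F.inf' hF (fun f => f v) with hfm
  set gm : E → ℝ := fun v => G.inf' hG (fun g => g v) with hgm
  have hfm_le : ∀ {c : ℝ} {v : E}, c ≤ fm v ↔ ∀ f ∈ F, c ≤ f v := fun {c v} => Finset.le_inf'_iff _ _
  have hgm_le : ∀ {c : ℝ} {v : E}, c ≤ gm v ↔ ∀ g ∈ G, c ≤ g v := fun {c v} => Finset.le_inf'_iff _ _
  have hgsc : ∀ (t : ℝ) (v : E), 0 < t → gm (t • v) = t * gm v := by
    intro t v ht
    refine le_antisymm ?_ (hgm_le.2 fun g hg => ?_)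
    · obtain ⟨g, hg, he⟩ := Finset.exists_mem_eq_inf' hG (fun g : Dual ℝ E => g v)
      calc gm (t • v) ≤ g (t • v) := hgm_le.1 le_rfl g hg
        _ = t * gm v := by rw [map_smul, smul_eq_mul, hgm]; simp only [he]
    · rw [map_smul, smul_eq_mul]
      exact mul_le_mul_of_nonneg_left (hgm_le.1 le_rfl g hg) ht.le
  have hfsc : ∀ (t : ℝ) (v : E), 0 ≤ t → 0 ≤ fm v → 0 ≤ fm (t • v) := fun t v ht hv =>
    hfm_le.2 fun f hf => by rw [map_smul, smul_eq_mul]; exact mul_nonneg ht (hfm_le.1 hv f hf)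
  have hne : ∀ {v : E}, 0 < gm v → v ≠ 0 := by
    rintro v hv rfl
    obtain ⟨g, hg⟩ := hG
    exact absurd ((hgm_le.1 le_rfl g hg).trans_eq (map_zero g)) (not_le.2 hv)
  -- the maximum
  have hfc : Continuous fm := Continuous.finset_inf'_apply hF fun f _ => f.continuous_of_finiteDimensional
  have hgc : Continuous gm := Continuous.finset_inf'_apply hG fun f _ => f.continuous_of_finiteDimensional
  obtain ⟨vp, hvp1, hvp2⟩ := hpos
  have hvp0 : vp ≠ 0 := hne hvp2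
  let K : Set E := Metric.sphere 0 1 ∩ {v | 0 ≤ fm v}
  have hK : IsCompact K := (isCompact_sphere 0 1).inter_right (isClosed_le continuous_const hfc)
  have hupK : ‖vp‖⁻¹ • vp ∈ K :=
    ⟨by rw [mem_sphere_zero_iff_norm, norm_smul, norm_inv, norm_norm, inv_mul_cancel₀ (norm_ne_zero_iff.2 hvp0)], hfsc _ _ (by positivity) hvp1⟩
  obtain ⟨u₁, ⟨hu1, hu2⟩, humax⟩ := hK.exists_isMaxOn ⟨_, hupK⟩ hgc.continuousOn
  rw [mem_sphere_zero_iff_norm] at hu1
  set M := gm u₁ with hM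
  have hMpos : 0 < M := by
    refine lt_of_lt_of_le ?_ (humax hupK)
    rw [hgsc _ _ (inv_pos.2 (norm_pos_iff.2 hvp0))]
    exact mul_pos (inv_pos.2 (norm_pos_iff.2 hvp0)) hvp2
  have hbound : ∀ v : E, v ≠ 0 → 0 ≤ fm v → gm v ≤ M * ‖v‖ := by
    intro v hv hfv
    have hn := norm_pos_iff.2 hv
    have h := humax (show ‖v‖⁻¹ • v ∈ K from
      ⟨by rw [mem_sphere_zero_iff_norm, norm_smul, norm_inv, norm_norm, inv_mul_cancel₀ (norm_ne_zero_iff.2 hv)], hfsc _ _ (by positivity) hfv⟩)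
    rw [Set.mem_setOf_eq, hgsc _ _ (inv_pos.2 hn), inv_mul_le_iff₀ hn] at h
    rwa [mul_comm]
  have huniq : ∀ v : E, v ≠ 0 → 0 ≤ fm v → gm v / ‖v‖ = M → v = ‖v‖ • u₁ := by
    intro v hv hfv hMv
    have hn := norm_pos_iff.2 hv
    by_contra hne'
    have hns : ¬ SameRay ℝ v u₁ := by
      rw [sameRay_iff_norm_smul_eq, hu1, one_smul]
      exact fun h => hne' h.symm
    have hlt := norm_add_lt_of_not_sameRay hns
    rw [hu1] at hlt
    have hge : M * (‖v‖ + 1) ≤ gm (v + u₁) := hgm_le.2 fun g hg => by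
      rw [map_add]
      have h1 := hgm_le.1 (le_refl (gm v)) g hg
      have h2 := hgm_le.1 (le_refl (gm u₁)) g hg
      rw [div_eq_iff hn.ne'] at hMv
      rw [mul_add, mul_one, hM]
      exact add_le_add (by rw [← hM, ← hMv]; exact h1) h2
    have hne2 : v + u₁ ≠ 0 := hne (lt_of_lt_of_le (by positivity) hge)
    have := hbound _ hne2 (hfm_le.2 fun f hf => by
      rw [map_add]; exact add_nonneg (hfm_le.1 hfv f hf) (hfm_le.1 hu2 f hf))
    nlinarith [mul_lt_mul_of_pos_left hlt hMpos]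
  -- the point of least norm
  set x₀ := M⁻¹ • u₁ with hx₀
  have hx0g : gm x₀ = 1 := by rw [hx₀, hgsc _ _ (inv_pos.2 hMpos), ← hM, inv_mul_cancel₀ hMpos.ne']
  have hx0f : 0 ≤ fm x₀ := hfsc _ _ (inv_pos.2 hMpos).le hu2
  have hx0n : ‖x₀‖ = M⁻¹ := by rw [hx₀, norm_smul, hu1, Real.norm_of_nonneg (inv_pos.2 hMpos).le, mul_one]
  have hmin : ∀ x : E, 0 ≤ fm x → 1 ≤ gm x → ‖x₀‖ ≤ ‖x‖ := by
    intro x hfx hgx
    have := hbound x (hne (lt_of_lt_of_le one_pos hgx)) hfx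
    rw [hx0n, inv_le_iff_one_le_mul₀ hMpos, mul_comm]
    linarith
  let A : Set (E →ₗ[ℝ] ℝ) := {a | (a ∈ F ∧ a x₀ = 0) ∨ (a ∈ G ∧ a x₀ = 1)}
  have horth : ∀ d, (∀ a ∈ A, a d = 0) → ⟪x₀, d⟫ = 0 := by
    intro d hd
    have hev : ∀ (a : E →ₗ[ℝ] ℝ) (c : ℝ), c ≤ a x₀ → (a x₀ = c → a d = 0) →
        ∀ᶠ t in nhds (0 : ℝ), c ≤ a (x₀ + t • d) := by
      intro a c hc he
      simp only [map_add, map_smul, smul_eq_mul]
      rcases eq_or_lt_of_le hc with h | h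
      · exact Filter.Eventually.of_forall fun t => by rw [he h.symm, mul_zero, add_zero]; exact hc
      · have : Continuous fun t : ℝ => a x₀ + t * a d := by fun_prop
        exact (this.tendsto' 0 (a x₀) (by simp)).eventually_const_le h
    have h1 : ∀ᶠ t in nhds (0 : ℝ), (0 ≤ fm (x₀ + t • d) ∧ 1 ≤ gm (x₀ + t • d)) := by
      simp only [hfm_le, hgm_le]
      refine ((Filter.eventually_all_finset F).2 fun f hf => ?_).and ((Filter.eventually_all_finset G).2 fun g hg => ?_)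
      · exact hev f 0 (hfm_le.1 hx0f f hf) fun h => hd f (Or.inl ⟨hf, h⟩)
      · exact hev g 1 (hgm_le.1 hx0g.ge g hg) fun h => hd g (Or.inr ⟨hg, h⟩)
    by_contra hc
    set c := ⟪x₀, d⟫ with hcdef
    have hcont : Continuous fun s : ℝ => -(s * c) := by fun_prop
    have hsmall : ∀ᶠ s in nhds (0 : ℝ), s * ‖d‖ ^ 2 < 1 := by
      have : Continuous fun s : ℝ => s * ‖d‖ ^ 2 := by fun_prop
      exact (this.tendsto' 0 0 (by simp)).eventually_lt_const one_pos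
    have h2 := ((hcont.tendsto' 0 0 (by simp)).eventually h1).and hsmall
    obtain ⟨s, ⟨⟨hs1, hs2⟩, hs3⟩, hs0⟩ :=
      ((h2.filter_mono nhdsWithin_le_nhds).and self_mem_nhdsWithin : ∀ᶠ s in nhdsWithin (0 : ℝ) (Set.Ioi 0), _).exists
    have hle := pow_le_pow_left₀ (norm_nonneg _) (hmin _ hs1 hs2) 2
    rw [norm_add_sq_real, norm_smul (-(s * c)), mul_pow ‖-(s * c)‖, Real.norm_eq_abs, sq_abs, real_inner_smul_right, ← hcdef] at hle
    have hc2 : 0 < c ^ 2 := lt_of_le_of_ne (sq_nonneg c) (Ne.symm (pow_ne_zero 2 hc))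
    have hs0' : (0 : ℝ) < s := hs0
    have hz := mul_lt_mul_of_pos_left hs3 (mul_pos hs0' hc2)
    nlinarith [mul_pos hs0' hc2]
  -- rationality
  let bZ := Module.Free.chooseBasis ℤ L
  let b := bZ.ofZLatticeBasis ℝ L
  have hbL : ∀ j, b j ∈ L := fun j => by rw [Basis.ofZLatticeBasis_apply]; exact (bZ j).2
  obtain ⟨φ, hφ⟩ := (Algebra.linearMap ℚ ℝ).exists_leftInverse_of_injective
    (LinearMap.ker_eq_bot.2 (algebraMap ℚ ℝ).injective)
  have hφ1 : φ 1 = 1 := by simpa using LinearMap.congr_fun hφ 1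
  have htw := twist_eq_self b (fun i j => hint _ (hbL i) _ (hbL j)) A
    (fun a ha j => by
      rcases ha with ⟨h, -⟩ | ⟨h, -⟩
      exacts [hFi a h _ (hbL j), hGi a h _ (hbL j)])
    x₀ (fun a ha => by rcases ha with ⟨-, h⟩ | ⟨-, h⟩ <;> simp [h]) horth φ hφ1
  let q : _ → ℚ := fun j => φ (b.repr x₀ j)
  let N : ℕ := ∏ j, (q j).den
  have hNpos : 0 < N := Finset.prod_pos fun j _ => (q j).den_pos
  have hNL : (N : ℝ) • x₀ ∈ L := by
    rw [← htw, twist, Finset.smul_sum]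
    refine L.sum_mem fun j _ => ?_
    obtain ⟨c, hc⟩ : (q j).den ∣ N := Finset.dvd_prod_of_mem _ (Finset.mem_univ j)
    rw [smul_smul]
    have : (N : ℝ) * (q j : ℝ) = (((c : ℤ) * (q j).num : ℤ) : ℝ) := by
      rw [hc, Rat.cast_def]
      have := (q j).den_pos
      push_cast
      field_simp
    rw [show (φ (b.repr x₀ j) : ℝ) = (q j : ℝ) from rfl, this, Int.cast_smul_eq_zsmul]
    exact L.smul_mem _ (hbL j)
  -- primitive vector on the ray
  have hx0ne : x₀ ≠ 0 := hne (by rw [hx0g]; exact one_pos)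
  obtain ⟨j₀, hj₀⟩ : ∃ j, b.repr x₀ j ≠ 0 := by
    by_contra! h
    exact hx0ne (b.repr.map_eq_zero_iff.1 (Finsupp.ext h))
  set r := b.repr x₀ j₀ with hr
  have hint' : ∀ t : ℝ, t • x₀ ∈ L → ∃ z : ℤ, t * r = (z : ℝ) := fun t ht => by
    refine ⟨bZ.repr ⟨_, ht⟩ j₀, ?_⟩
    rw [← bZ.ofZLatticeBasis_repr_apply ℝ L ⟨_, ht⟩ j₀]
    simp [b, hr]
  let H : AddSubgroup ℤ :=
    { carrier := {z | ((z : ℝ) / r) • x₀ ∈ L}
      zero_mem' := by simp
      add_mem' := fun {a c} ha hc => by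
        simp only [Set.mem_setOf_eq, Int.cast_add, add_div, add_smul]
        exact L.add_mem ha hc
      neg_mem' := fun {a} ha => by
        simp only [Set.mem_setOf_eq, Int.cast_neg, neg_div, neg_smul]
        exact L.neg_mem ha }
  have hmemH : ∀ t : ℝ, t • x₀ ∈ L → ∃ z ∈ H, t = (z : ℝ) / r := fun t ht => by
    obtain ⟨z, hz⟩ := hint' t ht
    have : t = (z : ℝ) / r := by rw [← hz, mul_div_cancel_right₀ _ hj₀]
    exact ⟨z, show ((z : ℝ) / r) • x₀ ∈ L from this ▸ ht, this⟩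
  obtain ⟨g, hg⟩ := Int.subgroup_cyclic H
  have hgH : g ∈ H := hg ▸ AddSubgroup.subset_closure rfl
  have hgen : ∀ z ∈ H, ∃ n : ℤ, n * g = z := fun z hz => by
    rw [hg, AddSubgroup.mem_closure_singleton] at hz
    simpa using hz
  obtain ⟨t₀, ht₀, ht₀L, ht₀gen⟩ : ∃ t₀ : ℝ, 0 < t₀ ∧ t₀ • x₀ ∈ L ∧ ∀ t : ℝ, t • x₀ ∈ L → ∃ n : ℤ, t = (n : ℝ) * t₀ := by
    have hgr : (g : ℝ) / r ≠ 0 := by
      intro h
      obtain ⟨z, hz, hzN⟩ := hmemH _ hNL
      obtain ⟨n, rfl⟩ := hgen z hz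
      rw [Int.cast_mul, mul_div_assoc, h, mul_zero] at hzN
      exact absurd hzN (by exact_mod_cast hNpos.ne')
    have hall : ∀ t : ℝ, t • x₀ ∈ L → ∃ n : ℤ, t = (n : ℝ) * ((g : ℝ) / r) := fun t ht => by
      obtain ⟨z, hz, rfl⟩ := hmemH _ ht
      obtain ⟨n, rfl⟩ := hgen z hz
      exact ⟨n, by push_cast; ring⟩
    rcases hgr.lt_or_gt with h | h
    · refine ⟨-((g : ℝ) / r), neg_pos.2 h, by rw [neg_smul]; exact L.neg_mem hgH, fun t ht => ?_⟩
      obtain ⟨n, hn⟩ := hall t ht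
      exact ⟨-n, by rw [hn]; push_cast; ring⟩
    · exact ⟨_, h, hgH, hall⟩
  have hspec : ∀ v : E, v ∈ L → v ≠ 0 → 0 ≤ fm v → gm v / ‖v‖ = M → ∃ n : ℤ, 0 < n ∧ v = n • (t₀ • x₀) := by
    intro v hvL hv hfv hMv
    have hveq : v = (‖v‖ * M) • x₀ := by
      rw [hx₀, smul_smul, mul_assoc, mul_inv_cancel₀ hMpos.ne', mul_one]
      exact huniq v hv hfv hMv
    obtain ⟨n, hn⟩ := ht₀gen _ (hveq ▸ hvL)
    have hpos' : (0 : ℝ) < (n : ℝ) * t₀ := by rw [← hn]; positivity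
    refine ⟨n, by exact_mod_cast (pos_of_mul_pos_left hpos' ht₀.le), ?_⟩
    rw [← Int.cast_smul_eq_zsmul ℝ, smul_smul, ← hn, ← hveq]
  refine ⟨M, ⟨⟨u₁, ⟨fun h => by simp [h] at hu1, hu2⟩, by simp [hu1, hM, hgm]⟩, ?_⟩, t₀ • x₀, ?_, ?_⟩
  · rintro _ ⟨v, ⟨hv, hfv⟩, rfl⟩
    exact (div_le_iff₀ (norm_pos_iff.2 hv)).2 (hbound v hv hfv)
  · refine ⟨ht₀L, smul_ne_zero ht₀.ne' hx0ne, hfsc _ _ ht₀.le hx0f, ?_, fun v hvL hv hfv hMv => ?_⟩
    · show gm (t₀ • x₀) / _ = M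
      rw [hgsc _ _ ht₀, hx0g, norm_smul, hx0n, Real.norm_of_nonneg ht₀.le]
      field_simp
    · obtain ⟨n, -, hn⟩ := hspec v hvL hv hfv hMv
      exact ⟨n, hn⟩
  · rintro v₁ ⟨h1, h2, h3, h4, h5⟩
    obtain ⟨n, hn0, hn⟩ := hspec v₁ h1 h2 h3 h4
    obtain ⟨m, hm⟩ := h5 (t₀ • x₀) ht₀L (smul_ne_zero ht₀.ne' hx0ne) (hfsc _ _ ht₀.le hx0f) (by
      show gm (t₀ • x₀) / _ = M
      rw [hgsc _ _ ht₀, hx0g, norm_smul, hx0n, Real.norm_of_nonneg ht₀.le]
      field_simp)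
    have hm1 : m * n = 1 := by
      have e : ((m * n : ℤ)) • (t₀ • x₀) = (1 : ℤ) • (t₀ • x₀) := by
        rw [mul_smul, ← hn, one_smul]
        exact hm.symm
      rw [← Int.cast_smul_eq_zsmul ℝ, ← Int.cast_smul_eq_zsmul ℝ (1 : ℤ)] at e
      exact_mod_cast smul_left_injective ℝ (smul_ne_zero ht₀.ne' hx0ne) e
    rcases Int.eq_one_or_neg_one_of_mul_eq_one' hm1 with ⟨-, rfl⟩ | ⟨-, rfl⟩
    · rw [hn, one_smul]
    · omega

end Groth.Agent.S17517
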