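import Groth.Statements.S17518
import Groth.Agent.Lib.LFTDesc5.Affine
import Groth.Agent.S14770
import Groth.Agent.S14782
-- import your own Groth.Agent.* helpers here

set_option backward.isDefEq.respectTransparency false
set_option linter.style.haveILetI false

set_option autoImplicit false
universe u
open CategoryTheory CategoryTheory.Limits AlgebraicGeometry
open HTop

namespace Groth.Agent.S17518

theorem core {X' X Y : Scheme.{u}} [IsAffine X] [IsAffine Y] [IsNoetherian X'] [IsNoetherian X]
    [IsNoetherianRing Γ(Y, ⊤)] (f : X' ⟶ X) (hf : SGA1.UnivSubmersive f) (g : X ⟶ Y)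
    [LocallyOfFiniteType (f ≫ g)] : LocallyOfFiniteType g := by
  haveI : LocallyOfFiniteType f := locallyOfFiniteType_of_comp f g
  haveI : LocallyOfFinitePresentation f :=
    LocallyOfFinitePresentation.iff_locallyOfFiniteType.2 inferInstance
  obtain ⟨X'', Y', h, p, q, hpq, hps, hpqc, hloc, hq, hqs, -⟩ := Groth.Agent.S14782.result f
    (Or.inr ‹_›) ((Groth.Agent.S14770.result f).1 hf)
  haveI := hps
  haveI := hq
  haveI := hqs
  haveI : LocallyOfFiniteType p := by
    refine RefineDesc12.prop_of_isLocIso @LocallyOfFiniteType (fun g _ => inferInstance) p hloc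
  haveI : LocallyOfFiniteType h := by
    haveI : LocallyOfFiniteType (h ≫ f) := by rw [hpq]; infer_instance
    exact locallyOfFiniteType_of_comp h f
  haveI : LocallyOfFiniteType (p ≫ q ≫ g) := by
    rw [← Category.assoc, ← hpq, Category.assoc]; infer_instance
  haveI : LocallyOfFiniteType (q ≫ g) := by
    choose U hxU hU using hloc
    let O : X'' → Y'.Opens := fun x =>
      haveI := hU x
      ((U x).ι ≫ p).opensRange
    refine IsZariskiLocalAtSource.of_openCover (P := @LocallyOfFiniteType)
      (Y'.openCoverOfIsOpenCover O ?_) fun x => ?_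
    · rw [TopologicalSpace.IsOpenCover, eq_top_iff]
      intro y _
      obtain ⟨x, rfl⟩ := p.surjective y
      exact TopologicalSpace.Opens.mem_iSup.2 ⟨x, ⟨x, hxU x⟩, rfl⟩
    · haveI := hU x
      show LocallyOfFiniteType (((U x).ι ≫ p).opensRange.ι ≫ q ≫ g)
      rw [← Scheme.Hom.isoOpensRange_inv_comp ((U x).ι ≫ p)]
      simp only [Category.assoc]
      infer_instance
  haveI : IsNoetherianRing Γ(X, ⊤) := IsLocallyNoetherian.component_noetherian ⟨⊤, isAffineOpen_top X⟩
  letI : Algebra Γ(Y, ⊤) Γ(X, ⊤) := g.appTop.hom.toAlgebra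
  haveI : LocallyOfFiniteType ((q ≫ X.isoSpec.hom) ≫
      Spec.map (CommRingCat.ofHom (algebraMap Γ(Y, ⊤) Γ(X, ⊤)))) := by
    show LocallyOfFiniteType ((q ≫ X.isoSpec.hom) ≫ Spec.map g.appTop)
    rw [Category.assoc, Scheme.isoSpec_hom_naturality, ← Category.assoc]
    infer_instance
  haveI : IsProper (q ≫ X.isoSpec.hom) := inferInstance
  haveI : Surjective (q ≫ X.isoSpec.hom) := inferInstance
  exact HasRingHomProperty.iff_of_isAffine.2 (LFTDesc5.finiteType_of_proper_surjective
    (R := Γ(Y, ⊤)) (A := Γ(X, ⊤)) (q ≫ X.isoSpec.hom))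

/-- Let `f : X' ⟶ X` be a universally submersive morphism of Noetherian schemes (every base change of
`f` is a quotient map of topological spaces) and `g : X ⟶ Y` a morphism to a Noetherian scheme. If
`f ≫ g` is locally of finite type, then `g` is locally of finite type. (Both morphisms are then of
finite type, their sources being Noetherian.) -/
theorem result
    {X' X Y : Scheme.{u}} [IsNoetherian X'] [IsNoetherian X] [IsNoetherian Y]
    (f : X' ⟶ X) (hf : SGA1.UnivSubmersive f) (g : X ⟶ Y)
    [LocallyOfFiniteType (f ≫ g)] : LocallyOfFiniteType g := by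
  rw [IsZariskiLocalAtTarget.iff_of_iSup_eq_top (P := @LocallyOfFiniteType) _
    (iSup_affineOpens_eq_top Y)]
  intro U
  haveI : IsAffine (U.1 : Scheme) := U.2
  rw [IsZariskiLocalAtSource.iff_of_iSup_eq_top (P := @LocallyOfFiniteType) _
    (iSup_affineOpens_eq_top (g ⁻¹ᵁ U.1).toScheme)]
  intro V
  haveI : IsAffine (V.1 : Scheme) := V.2
  let j : (V.1 : Scheme) ⟶ X := V.1.ι ≫ (g ⁻¹ᵁ U.1).ι
  let r : pullback f j ⟶ (V.1 : Scheme) := pullback.snd f j
  haveI : IsNoetherian (V.1 : Scheme) :=
    { toIsLocallyNoetherian := isLocallyNoetherian_of_isOpenImmersion j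
      toCompactSpace := inferInstance }
  haveI : IsLocallyNoetherian (pullback f j) :=
    isLocallyNoetherian_of_isOpenImmersion (pullback.fst f j)
  haveI : CompactSpace ↥(pullback f j) :=
    QuasiCompact.compactSpace_of_compactSpace r
  haveI : IsNoetherian (pullback f j) := {}
  haveI : IsNoetherianRing Γ((U.1 : Scheme), ⊤) :=
    IsLocallyNoetherian.component_noetherian ⟨⊤, isAffineOpen_top _⟩
  haveI : SGA1.UnivSubmersive.{u}.IsStableUnderBaseChange :=
    MorphismProperty.universally_isStableUnderBaseChange _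
  have hr : SGA1.UnivSubmersive r := MorphismProperty.of_isPullback (IsPullback.of_hasPullback f j) hf
  haveI : LocallyOfFiniteType (r ≫ V.1.ι ≫ (g ∣_ U.1)) := by
    haveI : LocallyOfFiniteType ((r ≫ V.1.ι ≫ (g ∣_ U.1)) ≫ U.1.ι) := by
      rw [Category.assoc, Category.assoc, morphismRestrict_ι, ← Category.assoc (Scheme.Opens.ι _),
        ← Category.assoc, ← pullback.condition, Category.assoc]
      infer_instance
    exact locallyOfFiniteType_of_comp _ U.1.ι
  exact core r hr _

end Groth.Agent.S17518
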