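import Groth.Statements.S1753
import Groth.Agent.Lib.BC8.LichMain

set_option autoImplicit false
universe u
open CategoryTheory AlgebraicGeometry
open Dual

namespace Groth.Agent.S1753


/-- Let U be a variety over a field k (integral, separated and of finite type over k) and F a coherent
O_U-module with H^d(U, F) ≠ 0. Then dim U ≥ d, and if dim U = d then U is proper over k. -/
theorem result (k : Type u) [Field k] (U : Scheme.{u}) (f : U ⟶ Spec (CommRingCat.of k)) [IsIntegral U] [IsSeparated f] [LocallyOfFiniteType f] [QuasiCompact f] (F : U.Modules) (hF : Coh.IsCoh F) (d : ℕ) (h : Nontrivial (Coh.HH U F d)) : (d : WithBot ℕ∞) ≤ topologicalKrullDim U ∧ (topologicalKrullDim U = d → IsProper f) := by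
  refine ⟨Groth.Agent.BC8.le_topologicalKrullDim_of_nontrivial k U f F d h, fun hd => ?_⟩
  by_contra hnp
  exact not_nontrivial_iff_subsingleton.2
    (Groth.Agent.BC8.subsingleton_HH_of_not_proper k U f hnp d hd.le F hF.1) h


end Groth.Agent.S1753
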