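import Groth.Statements.S17536
import Groth.Prelude.Def_W4c5adicflatcomplDec
import Groth.Agent.Lib.H2Alg.Decaying
import Mathlib.RingTheory.Flat.EquationalCriterion
import Mathlib.LinearAlgebra.TensorProduct.Pi
import Mathlib.RingTheory.TensorProduct.Finite
import Mathlib.LinearAlgebra.TensorProduct.Tower

set_option autoImplicit false
universe u v w
open W4c5adicflatcompl
open CAlg

namespace Groth.Agent.S17536
open W4c5adicflatcompl TensorProduct Groth.Agent.H2Alg

/-- If the A-module M is I-adically separated then so is the module of I-adically decaying functions
from a set Z to M. -/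
theorem result {A : Type u} [CommRing A] (I : Ideal A) (Z : Type v)
    (M : Type w) [AddCommGroup M] [Module A M] [IsHausdorff I M] :
    IsHausdorff I (decaying I Z M) := by
  exact Dec.isHausdorff

end Groth.Agent.S17536
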