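import Groth.Statements.S17537
import Groth.Prelude.Def_W4c5adicflatcomplDec
import Groth.Agent.Lib.H2Alg.Decaying
import Mathlib.RingTheory.Flat.EquationalCriterion
import Mathlib.LinearAlgebra.TensorProduct.Pi
import Mathlib.RingTheory.TensorProduct.Finite
import Mathlib.LinearAlgebra.TensorProduct.Tower

set_option autoImplicit false
universe u v
open CAlg

namespace Groth.Agent.S17537
open W4c5adicflatcompl TensorProduct Groth.Agent.H2Alg

/-- For a commutative ring A, an ideal I and an A-module M, the I-adic completion M^ of M is itself
I-adically complete if and only if, for every n, every element of M^ is congruent modulo I^n M^ to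
the image of an element of M (the maps M/I^n M → M^/I^n M^ are surjective). -/
theorem result {A : Type u} [CommRing A] (I : Ideal A)
    (M : Type v) [AddCommGroup M] [Module A M] :
    IsAdicComplete I (AdicCompletion I M) ↔
      ∀ (n : ℕ) (x : AdicCompletion I M), ∃ y : M,
        x - AdicCompletion.of I M y ∈ (I ^ n • ⊤ : Submodule A (AdicCompletion I M)) := by
  constructor
  · intro h n x
    obtain ⟨y, hy⟩ := Submodule.mkQ_surjective _ (AdicCompletion.eval I M n x)
    refine ⟨y, ?_⟩
    rw [← Dec.ker_eval_eq_pow_smul_top, LinearMap.mem_ker, map_sub, AdicCompletion.eval_of, hy, sub_self]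
  · intro h
    have hker : ∀ n x, AdicCompletion.eval I M n x = 0 → x ∈ (I ^ n • ⊤ : Submodule A (AdicCompletion I M)) := fun n x hx => by
      obtain ⟨y, hy⟩ := h n x
      have h2 := AdicCompletion.pow_smul_top_le_ker_eval I n hy
      rw [LinearMap.mem_ker, map_sub, hx, zero_sub, neg_eq_zero, AdicCompletion.eval_of] at h2
      have := add_mem hy (Dec.map_pow_mem (AdicCompletion.of I M) ((Submodule.Quotient.mk_eq_zero _).1 h2))
      rwa [sub_add_cancel] at this
    refine { prec' := fun x hx => ?_ }
    let L : AdicCompletion I M :=
      ⟨fun i => (x i).val i, fun {a b} hab => by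
        rw [AdicCompletion.transitionMap_comp_eval_apply]
        have := AdicCompletion.pow_smul_top_le_ker_eval I a (SModEq.sub_mem.1 (hx hab))
        rw [LinearMap.mem_ker, map_sub, sub_eq_zero] at this
        exact this.symm⟩
    exact ⟨L, fun i => SModEq.sub_mem.2 (hker i _ (by rw [map_sub]; exact sub_self _))⟩

end Groth.Agent.S17537
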