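import Groth.Statements.S17538
import Mathlib
import Groth.Agent.Lib.H2Alg.WeakAss

set_option autoImplicit false
universe u v
open CAlg

namespace Groth.Agent.S17538
open TensorProduct

/-- For a commutative ring A, an ideal I and an A-module M, the canonical map from the I-adic completion
M^ to the I-adic completion of M^ admits an A-linear retraction (it is a split injection). (That M^
is I-adically separated is standard.) -/
theorem result {A : Type u} [CommRing A] (I : Ideal A)
    (M : Type v) [AddCommGroup M] [Module A M] :
    ∃ ψ : AdicCompletion I (AdicCompletion I M) →ₗ[A] AdicCompletion I M,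
      ψ ∘ₗ AdicCompletion.of I (AdicCompletion I M) = LinearMap.id := by
  refine ⟨AdicCompletion.lift I (fun n => (I ^ n • ⊤ : Submodule A (AdicCompletion I M)).liftQ (AdicCompletion.eval I M n) ?_ ∘ₗ AdicCompletion.eval I (AdicCompletion I M) n) ?_, ?_⟩
  · refine Submodule.smul_le.2 fun r hr x _ => ?_
    rw [LinearMap.mem_ker, map_smul]
    obtain ⟨y, hy⟩ := Submodule.mkQ_surjective _ (AdicCompletion.eval I M n x)
    rw [← hy, ← map_smul, Submodule.mkQ_apply, Submodule.Quotient.mk_eq_zero]
    exact Submodule.smul_mem_smul hr Submodule.mem_top
  · intro m n hmn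
    refine LinearMap.ext fun x => ?_
    simp only [LinearMap.comp_apply, AdicCompletion.eval_apply]
    rw [← AdicCompletion.transitionMap_comp_eval_apply (I := I) (M := AdicCompletion I M) hmn x]
    obtain ⟨y, hy⟩ := Submodule.mkQ_surjective _ (x.val n)
    rw [← hy]
    exact AdicCompletion.transitionMap_comp_eval_apply (I := I) (M := M) hmn y
  · apply LinearMap.ext
    intro x
    apply AdicCompletion.ext
    intro n
    rfl

end Groth.Agent.S17538
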