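import Groth.Statements.S17539
import Groth.Prelude.Def_W4c5adicflatcomplDec
import Groth.Agent.Lib.H2Alg.Decaying
import Mathlib.RingTheory.Flat.EquationalCriterion
import Mathlib.LinearAlgebra.TensorProduct.Pi
import Mathlib.RingTheory.TensorProduct.Finite
import Mathlib.LinearAlgebra.TensorProduct.Tower

set_option autoImplicit false
universe u v w
open W4c5adicflatcompl
open CAlg

namespace Groth.Agent.S17539
open W4c5adicflatcompl TensorProduct Groth.Agent.H2Alg

/-- For a commutative ring A, an ideal I, a set Z and an A-module M whose I-adic completion M^ is itself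
I-adically complete, the canonical map from the I-adic completion of Z →₀ M to the functions Z → M^,
whose z-th coordinate is the completion of evaluation at z, is injective with image the I-adically
decaying functions Z → M^. (The source states bijectivity of the inverse map, from decaying
functions to the limit of the finitely supported functions Z → M/I^n M, induced by the projections
M^ → M/I^n M; the two formulations are equivalent.) -/
theorem result {A : Type u} [CommRing A] (I : Ideal A) (Z : Type v)
    (M : Type w) [AddCommGroup M] [Module A M] [IsAdicComplete I (AdicCompletion I M)] :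
    Function.Injective
        (LinearMap.pi fun z : Z =>
          (AdicCompletion.map I (Finsupp.lapply (M := M) (R := A) z)).restrictScalars A) ∧
      LinearMap.range
        (LinearMap.pi fun z : Z =>
          (AdicCompletion.map I (Finsupp.lapply (M := M) (R := A) z)).restrictScalars A) =
        decaying I Z (AdicCompletion I M) := by
  classical
  have hfs : ∀ (n : ℕ) (F : Z →₀ M), (∀ z, F z ∈ (I ^ n • ⊤ : Submodule A M)) → F ∈ (I ^ n • ⊤ : Submodule A (Z →₀ M)) := by
    intro n F hF
    rw [← F.sum_single]
    exact Submodule.finsuppSum_mem A _ _ _ fun z _ => Dec.map_pow_mem (Finsupp.lsingle z) (hF z)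
  have hval : ∀ (x : AdicCompletion I (Z →₀ M)) (z : Z) (n : ℕ) (F : Z →₀ M), Submodule.Quotient.mk F = x.val n →
      (((LinearMap.pi fun z : Z => (AdicCompletion.map I (Finsupp.lapply (M := M) (R := A) z)).restrictScalars A) x) z).val n = Submodule.Quotient.mk (F z) := by
    intro x z n F hF
    rw [LinearMap.pi_apply, LinearMap.restrictScalars_apply, AdicCompletion.map_val_apply, ← hF]
    rfl
  refine ⟨?_, le_antisymm ?_ ?_⟩
  · rw [injective_iff_map_eq_zero]
    intro x hx
    refine AdicCompletion.ext fun n => ?_
    obtain ⟨F, hF⟩ := Submodule.mkQ_surjective _ (x.val n)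
    rw [← hF, AdicCompletion.val_zero_apply]
    refine (Submodule.Quotient.mk_eq_zero _).2 (hfs n F fun z => ?_)
    rw [← Submodule.Quotient.mk_eq_zero, ← hval x z n F hF, hx]
    rfl
  · rintro _ ⟨x, rfl⟩ n
    obtain ⟨F, hF⟩ := Submodule.mkQ_surjective _ (x.val n)
    refine F.support.finite_toSet.subset fun z hz => ?_
    by_contra h
    refine hz ?_
    rw [← Dec.ker_eval_eq_pow_smul_top, LinearMap.mem_ker, AdicCompletion.eval_apply, hval x z n F hF,
      Finsupp.notMem_support_iff.1 h]
    rfl
  · intro g hg
    choose r hr using fun (n : ℕ) (z : Z) => Submodule.mkQ_surjective _ ((g z).val n)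
    let F : ℕ → (Z →₀ M) := fun n => Finsupp.onFinset (hg n).toFinset (fun z => if z ∈ (hg n).toFinset then r n z else 0) (fun z h => by by_contra hn; simp [hn] at h)
    have hF : ∀ n z, Submodule.Quotient.mk (F n z) = (g z).val n := by
      intro n z
      simp only [F, Finsupp.onFinset_apply]
      split_ifs with h
      · exact hr n z
      · have : g z ∈ LinearMap.ker (AdicCompletion.eval I M n) := AdicCompletion.pow_smul_top_le_ker_eval I n (by simpa using h)
        exact (LinearMap.mem_ker.1 this).symm
    let x : AdicCompletion I (Z →₀ M) := ⟨fun n => Submodule.Quotient.mk (F n), fun {a b} hab => by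
      refine (Submodule.Quotient.eq _).2 (hfs a _ fun z => ?_)
      rw [Finsupp.sub_apply, ← Submodule.Quotient.eq, hF, ← AdicCompletion.transitionMap_comp_eval_apply I M hab (g z), ← hF]
      rfl⟩
    exact ⟨x, funext fun z => AdicCompletion.ext fun n => (hval x z n (F n) rfl).trans (hF n z)⟩

end Groth.Agent.S17539
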