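import Groth.Statements.S1754
import Groth.Agent.Lib.LocCoh.Kollar27
-- import your own Groth.Agent.* helpers here

set_option autoImplicit false
universe u
open LocCoh

namespace Groth.Agent.S1754

/-- Let A be a Noetherian domain and I a nonzero ideal. Suppose that for every prime q containing I and
every associated prime P of the completion B of the local ring A_q, the quotient B/P has dimension
at least 2. Then the local cohomology module H^1_I(A) is a finite A-module. (This is the affine
form, with coherence of j_*O_U for U = Spec A ∖ V(I) expressed as finiteness of H^1_I(A).) -/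
theorem result (A : Type u) [CommRing A] [IsDomain A] [IsNoetherianRing A] (I : Ideal A) (hI : I ≠ ⊥) (h : ∀ (q : PrimeSpectrum A), I ≤ q.asIdeal → ∀ P ∈ associatedPrimes (AdicCompletion (IsLocalRing.maximalIdeal (Localization.AtPrime q.asIdeal)) (Localization.AtPrime q.asIdeal)) (AdicCompletion (IsLocalRing.maximalIdeal (Localization.AtPrime q.asIdeal)) (Localization.AtPrime q.asIdeal)), (2 : WithBot ℕ∞) ≤ ringKrullDim (AdicCompletion (IsLocalRing.maximalIdeal (Localization.AtPrime q.asIdeal)) (Localization.AtPrime q.asIdeal) ⧸ P)) : Module.Finite A (LocCoh.H I 1 A) := by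
  rw [Groth.Agent.LocCohLib.finite_H1_iff_assoc]
  intro p hp hIp
  haveI := IsAssociatedPrime.isPrime hp
  have hp0 : p = ⊥ := by
    obtain ⟨-, x, hx⟩ := isAssociatedPrime_iff.1 hp
    rw [eq_bot_iff, hx]
    intro a ha
    rw [Submodule.mem_colon_singleton, Submodule.mem_bot, smul_eq_mul, mul_eq_zero] at ha
    rcases ha with ha | ha
    · exact ha
    · exact absurd (hx.symm ▸ (show (1 : A) ∈ (⊥ : Submodule A A).colon {x} by
        rw [Submodule.mem_colon_singleton, ha]; simp)) ((Ideal.ne_top_iff_one p).1 Ideal.IsPrime.ne_top')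
  subst hp0
  refine Groth.Agent.LocCohLib.finite_H1_of_completion_assoc I ⟨⊥, inferInstance⟩ fun q _ hIq P hP => ?_
  let B := EGA4.Cpl (Localization.AtPrime q.asIdeal)
  let e : (B ⧸ ((⊥ : Ideal A).map (algebraMap A (Localization.AtPrime q.asIdeal))).map
      (algebraMap (Localization.AtPrime q.asIdeal) B)) ≃ₗ[B] B :=
    Submodule.quotEquivOfEqBot _ (by rw [Ideal.map_bot, Ideal.map_bot])
  exact h q hIq P (associatedPrimes.subset_of_injective (f := e.toLinearMap) e.injective hP)

end Groth.Agent.S1754
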