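import Groth.Statements.S17541
import Groth.Prelude.Def_W4c5adicflatcomplDec
import Groth.Agent.Lib.H2Alg.Decaying
import Mathlib.RingTheory.Flat.EquationalCriterion
import Mathlib.LinearAlgebra.TensorProduct.Pi
import Mathlib.RingTheory.TensorProduct.Finite
import Mathlib.LinearAlgebra.TensorProduct.Tower

set_option autoImplicit false
universe u v w
open W4c5adicflatcompl
open CAlg

namespace Groth.Agent.S17541
open W4c5adicflatcompl TensorProduct Groth.Agent.H2Alg

/-- Over a Noetherian ring A which is I-adically complete, for a finitely generated A-module M, a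
submodule N and a set Z, a function Z → N decays I-adically in N exactly when it decays I-adically
in M (decaying functions into N are the decaying functions into M with values in N). -/
theorem result {A : Type u} [CommRing A] [IsNoetherianRing A] (I : Ideal A)
    [IsAdicComplete I A] (Z : Type v) (M : Type w) [AddCommGroup M] [Module A M]
    [Module.Finite A M] (N : Submodule A M) (f : Z → N) :
    f ∈ decaying I Z N ↔ (fun z => (f z : M)) ∈ decaying I Z M := by
  refine ⟨Dec.comp_mem N.subtype, fun h => ?_⟩
  have := Dec.isHausdorff_of_isAdicComplete (I := I) (N := M)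
  obtain ⟨c, hc⟩ := I.exists_pow_inf_eq_pow_smul N
  obtain ⟨g, hg, hg'⟩ := Dec.exists_decaying_choice (M := N) (ι := Unit) h (fun z m => m () = f z) c
    (fun z => ⟨fun _ => f z, rfl⟩) (fun z hz => (Subtype.ext hz).symm) (fun z k hk => by
      have h1 : (f z : M) ∈ I ^ (k + c) • (⊤ : Submodule A M) ⊓ N := ⟨hk, (f z).2⟩
      rw [hc _ (Nat.le_add_left c k), Nat.add_sub_cancel] at h1
      have h2 : (f z : M) ∈ (I ^ k • ⊤ : Submodule A N).map N.subtype := by
        rw [Submodule.map_smul'', Submodule.map_top, Submodule.range_subtype]
        exact Submodule.smul_mono le_rfl inf_le_right h1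
      obtain ⟨m, hm, hmf⟩ := h2
      exact ⟨fun _ => f z, fun _ => Subtype.ext hmf ▸ hm, rfl⟩)
  exact (funext hg' : (fun z => g z ()) = f) ▸ hg ()

end Groth.Agent.S17541
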