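import Groth.Statements.S17543
import Groth.Prelude.Def_W4c5adicflatcomplDec
import Groth.Agent.Lib.H2Alg.Decaying
import Mathlib.RingTheory.Flat.EquationalCriterion
import Mathlib.LinearAlgebra.TensorProduct.Pi
import Mathlib.RingTheory.TensorProduct.Finite
import Mathlib.LinearAlgebra.TensorProduct.Tower

set_option autoImplicit false
universe u v w
open W4c5adicflatcompl
open CAlg

namespace Groth.Agent.S17543
open W4c5adicflatcompl TensorProduct Groth.Agent.H2Alg

/-- Over a Noetherian ring A which is I-adically complete, for a finitely generated A-module M and a set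
Z, the canonical map from M ⊗ (decaying functions Z → A) to functions Z → M is injective and its
image is the module of decaying functions Z → M. -/
theorem result {A : Type u} [CommRing A] [IsNoetherianRing A] (I : Ideal A)
    [IsAdicComplete I A] (Z : Type v) (M : Type w) [AddCommGroup M] [Module A M]
    [Module.Finite A M] :
    Function.Injective
        ((TensorProduct.piScalarRightHom A A M Z) ∘ₗ ((decaying I Z A).subtype.lTensor M)) ∧
      LinearMap.range
        ((TensorProduct.piScalarRightHom A A M Z) ∘ₗ ((decaying I Z A).subtype.lTensor M)) =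
        decaying I Z M := by
  classical
  have := Dec.isHausdorff_of_isAdicComplete (I := I) (N := M)
  set Φ := (TensorProduct.piScalarRightHom A A M Z) ∘ₗ ((decaying I Z A).subtype.lTensor M)
  have hΦ : ∀ (m : M) (f : decaying I Z A) z, Φ (m ⊗ₜ f) z = (f : Z → A) z • m := fun m f z => by
    simp [Φ, TensorProduct.piScalarRightHom_tmul]
  obtain ⟨q, π, hπ⟩ := Module.Finite.exists_fin' A M
  have hrep : ∀ t : M ⊗[A] decaying I Z A, ∃ f : Fin q → decaying I Z A, t = ∑ j, π (Pi.single j 1) ⊗ₜ f j := by
    intro t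
    induction t using TensorProduct.induction_on with
    | zero => exact ⟨0, by simp⟩
    | tmul m f =>
      obtain ⟨v, rfl⟩ := hπ m
      refine ⟨fun j => v j • f, ?_⟩
      conv_lhs => rw [pi_eq_sum_univ' v, map_sum, TensorProduct.sum_tmul]
      exact Finset.sum_congr rfl fun j _ => by rw [map_smul, TensorProduct.smul_tmul]
    | add s t hs ht =>
      obtain ⟨f, rfl⟩ := hs; obtain ⟨g, rfl⟩ := ht
      exact ⟨f + g, by simp [TensorProduct.tmul_add, Finset.sum_add_distrib]⟩
  have hval : ∀ (f : Fin q → decaying I Z A) z, Φ (∑ j, π (Pi.single j 1) ⊗ₜ f j) z = π (fun j => (f j : Z → A) z) := by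
    intro f z
    rw [map_sum, Finset.sum_apply]
    conv_rhs => rw [pi_eq_sum_univ' (fun j => (f j : Z → A) z), map_sum]
    exact Finset.sum_congr rfl fun j _ => by rw [hΦ, map_smul]
  refine ⟨(injective_iff_map_eq_zero _).2 fun t ht => ?_, le_antisymm ?_ ?_⟩
  · obtain ⟨f, rfl⟩ := hrep t
    obtain ⟨p, ρ', hρ'⟩ := Module.Finite.exists_fin' A (LinearMap.ker π)
    let ρ := (LinearMap.ker π).subtype ∘ₗ ρ'
    have := Dec.isHausdorff_of_isAdicComplete (I := I) (N := Fin q → A)
    have hF : (fun z j => (f j : Z → A) z) ∈ decaying I Z (Fin q → A) :=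
      Dec.pi_comp_mem LinearMap.id fun j => (f j).2
    obtain ⟨h, hh, hh'⟩ := Dec.exists_decaying_lift ρ hF fun z => by
      obtain ⟨w, hw⟩ := hρ' ⟨fun j => (f j : Z → A) z, LinearMap.mem_ker.2 (by rw [← hval, ht]; rfl)⟩
      exact ⟨w, congrArg Subtype.val hw⟩
    have hf : ∀ j, f j = ∑ i, ρ (Pi.single i 1) j • (⟨fun z => h z i, hh i⟩ : decaying I Z A) := fun j => by
      refine Subtype.ext (funext fun z => ?_)
      simp only [Submodule.coe_sum, Submodule.coe_smul, Finset.sum_apply, Pi.smul_apply]
      have := congrFun (hh' z) j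
      conv_lhs at this => rw [pi_eq_sum_univ' (h z), map_sum, Finset.sum_apply]
      rw [← this]
      exact Finset.sum_congr rfl fun i _ => by rw [map_smul, Pi.smul_apply, smul_eq_mul, smul_eq_mul, mul_comm]
    simp only [hf, TensorProduct.tmul_sum, ← TensorProduct.smul_tmul]
    rw [Finset.sum_comm]
    refine Finset.sum_eq_zero fun i _ => ?_
    rw [← TensorProduct.sum_tmul]
    have : ∑ j, ρ (Pi.single i 1) j • π (Pi.single j 1) = π (ρ (Pi.single i 1)) := by
      conv_rhs => rw [pi_eq_sum_univ' (ρ (Pi.single i 1)), map_sum]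
      exact Finset.sum_congr rfl fun j _ => (map_smul π _ _).symm
    rw [this, show π (ρ (Pi.single i 1)) = 0 from LinearMap.mem_ker.1 (ρ' (Pi.single i 1)).2, TensorProduct.zero_tmul]
  · rintro _ ⟨t, rfl⟩
    obtain ⟨f, rfl⟩ := hrep t
    rw [funext (hval f)]
    exact Dec.pi_comp_mem π fun j => (f j).2
  · intro g hg
    obtain ⟨h, hh, hh'⟩ := Dec.exists_decaying_lift π hg fun z => hπ (g z)
    exact ⟨∑ j, π (Pi.single j 1) ⊗ₜ (⟨fun z => h z j, hh j⟩ : decaying I Z A), funext fun z => by rw [hval]; exact hh' z⟩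

end Groth.Agent.S17543
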