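import Groth.Statements.S17549
import Groth.Prelude.Def_W4c5adicflatcomplDec
import Groth.Agent.Lib.H2Alg.Decaying
import Mathlib.RingTheory.Flat.EquationalCriterion
import Mathlib.LinearAlgebra.TensorProduct.Pi
import Mathlib.RingTheory.TensorProduct.Finite
import Mathlib.LinearAlgebra.TensorProduct.Tower

set_option autoImplicit false
universe u
open W4c5adicflatcompl
open CAlg

namespace Groth.Agent.S17549
open W4c5adicflatcompl TensorProduct Groth.Agent.H2Alg

/-- Over a Noetherian ring A with I-adic completion Â, an A-module P is I-adically projective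
(I-adically complete, and every A-linear map from P to the target of a surjection between I-adically
complete modules lifts along that surjection) exactly when P is a retract of some module of
I-adically decaying functions Z → Â: there are a set Z, an A-linear map i from P to the decaying
functions Z → Â and an A-linear map r back with r ∘ i the identity of P. Test modules, P and Z live
in the universe of A. -/
theorem result {A : Type u} [CommRing A] [IsNoetherianRing A]
    (I : Ideal A) (P : Type u) [AddCommGroup P] [Module A P] :
    IsAdicProjective I P ↔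
      ∃ (Z : Type u) (i : P →ₗ[A] decaying I Z (AdicCompletion I A))
        (r : decaying I Z (AdicCompletion I A) →ₗ[A] P), r ∘ₗ i = LinearMap.id := by
  classical
  have hI : I.FG := IsNoetherian.noetherian I
  have hC := AdicCompletion.isAdicComplete (M := A) hI
  constructor
  · rintro ⟨hP, hlift⟩
    have hD : IsAdicComplete I (decaying I P (AdicCompletion I A)) := Dec.isAdicComplete hI
    let r := Dec.lift (I := I) (Z := P) (id : P → P)
    obtain ⟨i, hi⟩ := hlift (decaying I P (AdicCompletion I A)) P hD hP r
      (fun p => ⟨_, Dec.lift_single id p⟩) LinearMap.id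
    exact ⟨P, i, r, hi⟩
  · rintro ⟨Z, i, r, hri⟩
    have hD : IsAdicComplete I (decaying I Z (AdicCompletion I A)) := Dec.isAdicComplete hI
    have hri' : ∀ x, r (i x) = x := LinearMap.congr_fun hri
    refine ⟨{ haus' := fun x hx => ?_, prec' := fun f hf => ?_ }, ?_⟩
    · have : i x = 0 := IsHausdorff.haus' (I := I) _ fun n => SModEq.zero.2 (Dec.map_pow_mem i (SModEq.zero.1 (hx n)))
      rw [← hri' x, this, map_zero]
    · obtain ⟨L, hL⟩ := IsPrecomplete.prec' (I := I) (fun n => i (f n)) fun {m n} hmn => SModEq.sub_mem.2 (by
        rw [← map_sub]; exact Dec.map_pow_mem i (SModEq.sub_mem.1 (hf hmn)))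
      refine ⟨r L, fun n => SModEq.sub_mem.2 ?_⟩
      have := Dec.map_pow_mem r (SModEq.sub_mem.1 (hL n))
      rwa [map_sub, hri'] at this
    · intro M N _ _ _ _ hM hN φ hφ ψ
      choose m hm using fun z => hφ (ψ (r (single I z (1 : AdicCompletion I A))))
      refine ⟨Dec.lift m ∘ₗ i, ?_⟩
      have : φ ∘ₗ Dec.lift m = ψ ∘ₗ r := Dec.hom_ext hI fun z => by
        rw [LinearMap.comp_apply, Dec.lift_single, hm, LinearMap.comp_apply]
      rw [← LinearMap.comp_assoc, this, LinearMap.comp_assoc, hri, LinearMap.comp_id]

end Groth.Agent.S17549
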