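import Groth.Statements.S1755
import Groth.Agent.Lib.LocCoh.Kollar27
-- import your own Groth.Agent.* helpers here

set_option autoImplicit false
universe u
open LocCoh

namespace Groth.Agent.S1755

/-- Kollár's criterion for finiteness of first local cohomology, sufficiency direction, in affine form.
Let A be a Noetherian ring, I an ideal and M a finite A-module. Suppose that for every associated
prime p of M not containing I, every prime q containing both p and I, and every associated prime P
of the completion C of the local ring A_q/pA_q at its maximal ideal, the quotient C/P has Krull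
dimension at least 2. Then H¹_I(M) is a finite A-module. (The criterion is an equivalence; only this
implication is asserted here.) -/
theorem result (A : Type u) [CommRing A] [IsNoetherianRing A] (I : Ideal A) (M : Type u) [AddCommGroup M] [Module A M] [Module.Finite A M] (h : ∀ p : Ideal A, p ∈ associatedPrimes A M → ¬ I ≤ p → ∀ (q : PrimeSpectrum A), p ≤ q.asIdeal → I ≤ q.asIdeal → ∀ P ∈ associatedPrimes (AdicCompletion ((IsLocalRing.maximalIdeal (Localization.AtPrime q.asIdeal)).map (Ideal.Quotient.mk (p.map (algebraMap A (Localization.AtPrime q.asIdeal))))) (Localization.AtPrime q.asIdeal ⧸ p.map (algebraMap A (Localization.AtPrime q.asIdeal)))) (AdicCompletion ((IsLocalRing.maximalIdeal (Localization.AtPrime q.asIdeal)).map (Ideal.Quotient.mk (p.map (algebraMap A (Localization.AtPrime q.asIdeal))))) (Localization.AtPrime q.asIdeal ⧸ p.map (algebraMap A (Localization.AtPrime q.asIdeal)))), (2 : WithBot ℕ∞) ≤ ringKrullDim (AdicCompletion ((IsLocalRing.maximalIdeal (Localization.AtPrime q.asIdeal)).map (Ideal.Quotient.mk (p.map (algebraMap A (Localization.AtPrime q.asIdeal))))) (Localization.AtPrime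 q.asIdeal ⧸ p.map (algebraMap A (Localization.AtPrime q.asIdeal))) ⧸ P)) : Module.Finite A (LocCoh.H I 1 M) := by
  rw [Groth.Agent.LocCohLib.finite_H1_iff_assoc]
  intro p hp hIp
  haveI := IsAssociatedPrime.isPrime hp
  refine Groth.Agent.LocCohLib.finite_H1_of_completion_assoc I ⟨p, inferInstance⟩ fun q hpq hIq P hP => ?_
  let L := Localization.AtPrime q.asIdeal
  have hle : p.map (algebraMap A L) ≤ IsLocalRing.maximalIdeal L := by
    rw [← Localization.AtPrime.map_eq_maximalIdeal]
    exact Ideal.map_mono hpq
  haveI : Nontrivial (L ⧸ p.map (algebraMap A L)) := Ideal.Quotient.nontrivial_iff.2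
    (ne_top_of_le_ne_top (IsLocalRing.maximalIdeal.isMaximal L).ne_top hle)
  haveI : IsLocalRing (L ⧸ p.map (algebraMap A L)) :=
    IsLocalRing.of_surjective' (Ideal.Quotient.mk _) Ideal.Quotient.mk_surjective
  haveI := IsLocalization.isNoetherianRing q.asIdeal.primeCompl L inferInstance
  exact Groth.Agent.LocCohLib.assoc_of_completion_quotient (p.map (algebraMap A L)) _
    (IsLocalRing.map_maximalIdeal_of_surjective _ Ideal.Quotient.mk_surjective) (h p hp hIp q hpq hIq) P hP

end Groth.Agent.S1755
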