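import Groth.Statements.S17550
import Groth.Prelude.Def_W4c5adicflatcomplDec
import Groth.Agent.Lib.H2Alg.Decaying
import Mathlib.RingTheory.Flat.EquationalCriterion
import Mathlib.LinearAlgebra.TensorProduct.Pi
import Mathlib.RingTheory.TensorProduct.Finite
import Mathlib.LinearAlgebra.TensorProduct.Tower

set_option autoImplicit false
universe u
open W4c5adicflatcompl
open scoped TensorProduct
open CAlg

namespace Groth.Agent.S17550
open W4c5adicflatcompl TensorProduct Groth.Agent.H2Alg

/-- For Noetherian rings A and B with B an A-algebra, ideals I of A and J of B with I B contained in J,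
and an I-adically free A-module P, the J-adic completion of B ⊗ P is a J-adically free B-module (the
completed base change of an adically free module is adically free). -/
theorem result {A B : Type u} [CommRing A] [CommRing B] [Algebra A B]
    [IsNoetherianRing A] [IsNoetherianRing B] (I : Ideal A) (J : Ideal B)
    (hIJ : I.map (algebraMap A B) ≤ J) (P : Type u) [AddCommGroup P] [Module A P]
    (hP : IsAdicFree I P) :
    IsAdicFree J (AdicCompletion J (B ⊗[A] P)) := by
  classical
  obtain ⟨Z, ⟨e⟩⟩ := hP
  have hI : I.FG := IsNoetherian.noetherian I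
  have hJ : J.FG := IsNoetherian.noetherian J
  have := AdicCompletion.isAdicComplete (M := B) hJ
  have := AdicCompletion.isAdicComplete (M := B ⊗[A] P) hJ
  have := Dec.isAdicComplete (Z := Z) (M := AdicCompletion J B) hJ
  have hpow : ∀ n, ∀ a ∈ I ^ n, algebraMap A B a ∈ J ^ n := fun n a ha =>
    Ideal.pow_right_mono hIJ n (Ideal.map_pow (algebraMap A B) I n ▸ Ideal.mem_map_of_mem _ ha)
  let μ : ∀ n, (A ⧸ (I ^ n • ⊤ : Submodule A A)) →ₗ[A] (B ⧸ (J ^ n • ⊤ : Submodule B B)) := fun n =>
    Submodule.liftQ _ ((Submodule.mkQ _).restrictScalars A ∘ₗ Algebra.linearMap A B) (fun a ha => by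
      rw [LinearMap.mem_ker, LinearMap.comp_apply, LinearMap.restrictScalars_apply, Submodule.mkQ_apply,
        Submodule.Quotient.mk_eq_zero, smul_eq_mul, Ideal.mul_top]
      exact hpow n a (by simpa using ha))
  let ι : AdicCompletion I A →ₗ[A] AdicCompletion J B :=
    { toFun := fun x => ⟨fun n => μ n (x.val n), fun {m n} hmn => by
        obtain ⟨a, ha⟩ := Submodule.mkQ_surjective _ (x.val n)
        show _ = μ m (x.val m)
        refine Eq.trans ?_ (congrArg (μ m) (AdicCompletion.transitionMap_comp_eval_apply I A hmn x))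
        show AdicCompletion.transitionMap J B hmn (μ n (x.val n)) = _
        rw [← ha]
        rfl⟩
      map_add' := fun x y => AdicCompletion.ext fun n => map_add (μ n) _ _
      map_smul' := fun a x => AdicCompletion.ext fun n => map_smul (μ n) a _ }
  have hι : ∀ n x, x ∈ (I ^ n • ⊤ : Submodule A (AdicCompletion I A)) → ι x ∈ (J ^ n • ⊤ : Submodule B (AdicCompletion J B)) := by
    intro n x hx
    refine Submodule.smul_induction_on hx (fun a ha y _ => ?_) fun y z hy hz => by rw [map_add]; exact add_mem hy hz
    rw [map_smul, ← algebraMap_smul B a]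
    exact Submodule.smul_mem_smul (hpow n a ha) Submodule.mem_top
  let θ₀ : decaying I Z (AdicCompletion I A) →ₗ[A] decaying J Z (AdicCompletion J B) :=
    { toFun := fun g => ⟨fun z => ι ((g : Z → AdicCompletion I A) z), fun n => (g.2 n).subset fun z hz h => hz (hι n _ h)⟩
      map_add' := fun g h => Subtype.ext (funext fun z => map_add ι _ _)
      map_smul' := fun a g => Subtype.ext (funext fun z => map_smul ι a _) }
  have hθ : ∀ z, θ₀ (single I z (1 : AdicCompletion I A)) = single J z (1 : AdicCompletion J B) := fun z => by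
    refine Subtype.ext (funext fun z' => ?_)
    show ι _ = _
    rcases eq_or_ne z' z with rfl | h
    · simp only [coe_single, Pi.single_eq_same]
      refine AdicCompletion.ext fun n => ?_
      show Submodule.Quotient.mk (algebraMap A B 1) = Submodule.Quotient.mk 1
      rw [map_one]
    · simp [Pi.single_eq_of_ne h]
  let θ : B ⊗[A] P →ₗ[B] decaying J Z (AdicCompletion J B) := (θ₀ ∘ₗ e.toLinearMap).liftBaseChange B
  let Φ : AdicCompletion J (B ⊗[A] P) →ₗ[B] decaying J Z (AdicCompletion J B) :=
    (AdicCompletion.ofLinearEquiv J _).symm.toLinearMap ∘ₗ (AdicCompletion.map J θ).restrictScalars B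
  have hΦ : ∀ t, Φ (AdicCompletion.of J _ t) = θ t := fun t => by
    simp [Φ, AdicCompletion.map_of]
  let f : Z → AdicCompletion J (B ⊗[A] P) := fun z =>
    AdicCompletion.of J _ ((1 : B) ⊗ₜ e.symm (single I z (1 : AdicCompletion I A)))
  let Ψ : decaying J Z (AdicCompletion J B) →ₗ[B] AdicCompletion J (B ⊗[A] P) := Dec.lift f
  have h1 : Φ ∘ₗ Ψ = LinearMap.id := Dec.hom_ext hJ fun z => by
    rw [LinearMap.comp_apply, Dec.lift_single, hΦ, LinearMap.id_apply]
    simp [θ, hθ]
  have h2 : ∀ c, Ψ (Φ c) = c := by
    have hof : ∀ t, Ψ (Φ (AdicCompletion.of J _ t)) = AdicCompletion.of J _ t := by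
      intro t
      induction t using TensorProduct.induction_on with
      | zero => simp
      | add s t hs ht => simp only [map_add, hs, ht]
      | tmul b p =>
        have : IsHausdorff I (AdicCompletion J (B ⊗[A] P)) := IsHausdorff.of_map hIJ
        have key : (Ψ.restrictScalars A) ∘ₗ θ₀ = ((AdicCompletion.of J (B ⊗[A] P)).restrictScalars A ∘ₗ
            (TensorProduct.mk A B P 1)) ∘ₗ e.symm.toLinearMap := Dec.hom_ext hI fun z => by
          rw [LinearMap.comp_apply, hθ]
          exact Dec.lift_single f z
        have hb : b ⊗ₜ[A] p = b • ((1 : B) ⊗ₜ[A] p) := by rw [TensorProduct.smul_tmul', smul_eq_mul, mul_one]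
        rw [hb, map_smul, map_smul, map_smul, hΦ]
        congr 1
        have := LinearMap.congr_fun key (e p)
        simpa [θ] using this
    intro c
    refine (IsHausdorff.eq_iff_smodEq (I := J)).2 fun n => SModEq.sub_mem.2 ?_
    obtain ⟨t, ht⟩ := Submodule.mkQ_surjective _ (c.val n)
    have hc : c - AdicCompletion.of J _ t ∈ (J ^ n • ⊤ : Submodule B (AdicCompletion J (B ⊗[A] P))) := by
      rw [AdicCompletion.pow_smul_top_eq_ker_eval hJ, LinearMap.mem_ker, map_sub, AdicCompletion.eval_of, ht]
      exact sub_self _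
    have := sub_mem (Dec.map_pow_mem (Ψ ∘ₗ Φ) hc) hc
    rwa [LinearMap.comp_apply, map_sub, map_sub, hof, sub_sub_sub_cancel_right] at this
  exact ⟨Z, ⟨LinearEquiv.ofLinear Φ Ψ h1 (LinearMap.ext h2)⟩⟩

end Groth.Agent.S17550
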