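import Groth.Statements.S17551
import Groth.Prelude.Def_W4c5adicflatcomplDec
import Groth.Agent.Lib.H2Alg.DecayingFree
import Groth.Agent.S13608
import Mathlib.RingTheory.Flat.Basic
import Mathlib.RingTheory.Flat.Stability

set_option autoImplicit false
universe u
open W4c5adicflatcompl
open CAlg

namespace Groth.Agent.S17551
open W4c5adicflatcompl TensorProduct Groth.Agent.H2Alg

theorem sysProj_surjective {A : Type u} [CommRing A] : ∀ (n : ℕ) (M : ℕ → Type u) [∀ n, AddCommGroup (M n)]
    [∀ n, Module A (M n)] (ψ : ∀ n, M (n + 1) →ₗ[A] M n), (∀ n, Function.Surjective (ψ n)) →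
    Function.Surjective (sysProj M ψ n)
  | 0, M, _, _, ψ, hψ => fun y => by
    choose s hs using fun k (w : M k) => hψ k w
    let x : ∀ k, M k := fun k => Nat.rec (motive := fun k => M k) y (fun j w => s j w) k
    exact ⟨⟨x, fun k => hs k (x k)⟩, rfl⟩
  | n + 1, M, _, _, ψ, hψ => fun y => by
    obtain ⟨x, hx⟩ := sysProj_surjective n (fun k => M (k + 1)) (fun k => ψ (k + 1)) (fun k => hψ (k + 1)) y
    let x' : ∀ k, M k := fun k => match k with
      | 0 => ψ 0 (x.1 0)
      | k + 1 => x.1 k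
    exact ⟨⟨x', fun k => by
      match k with
      | 0 => rfl
      | k + 1 => exact x.2 k⟩, hx⟩

set_option maxHeartbeats 150000 in
theorem ker_sysProj {A : Type u} [CommRing A] (I : Ideal A) (hI : I.FG) (M : ℕ → Type u) [∀ n, AddCommGroup (M n)]
    [∀ n, Module A (M n)] (ψ : ∀ n, M (n + 1) →ₗ[A] M n) (hψ : ∀ n, Function.Surjective (ψ n))
    (hkill : ∀ n, I ^ (n + 1) • (⊤ : Submodule A (M n)) = ⊥)
    (hker : ∀ n, LinearMap.ker (ψ n) = (I ^ (n + 1) • ⊤ : Submodule A (M (n + 1))))
    [IsAdicComplete I (sysLim M ψ)] (n : ℕ) :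
    LinearMap.ker (sysProj M ψ n) = (I ^ (n + 1) • ⊤ : Submodule A (sysLim M ψ)) := by
  classical
  have hcomp : ∀ n, ψ n ∘ₗ sysProj M ψ (n + 1) = sysProj M ψ n := fun n => LinearMap.ext fun x => x.2 n
  have hsurj : ∀ n, Function.Surjective (sysProj M ψ n) := fun n => sysProj_surjective n M ψ hψ
  refine le_antisymm (fun x hx => ?_) ?_
  swap
  · intro x hx
    have := Dec.map_pow_mem (sysProj M ψ n) hx
    rwa [hkill, Submodule.mem_bot] at this
  have step : ∀ j (z : sysLim M ψ), sysProj M ψ j z = 0 → ∃ d ∈ (I ^ (j + 1) • ⊤ : Submodule A (sysLim M ψ)), sysProj M ψ (j + 1) (z - d) = 0 := by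
    intro j z hz
    have h1 : sysProj M ψ (j + 1) z ∈ (I ^ (j + 1) • ⊤ : Submodule A (sysLim M ψ)).map (sysProj M ψ (j + 1)) := by
      rw [Submodule.map_smul'', Submodule.map_top, LinearMap.range_eq_top.2 (hsurj _), ← hker j, LinearMap.mem_ker]
      exact (LinearMap.congr_fun (hcomp j) z).trans hz
    obtain ⟨d, hd, hd'⟩ := h1
    exact ⟨d, hd, by rw [map_sub, hd', sub_self]⟩
  choose! d hd hd' using step
  let z : ℕ → sysLim M ψ := fun k => Nat.rec x (fun i w => w - d (n + i) w) k
  have hz : ∀ k, sysProj M ψ (n + k) (z k) = 0 := fun k => by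
    induction k with
    | zero => exact LinearMap.mem_ker.1 hx
    | succ k ih => exact hd' _ _ ih
  have hzd : ∀ i, d (n + i) (z i) ∈ (I ^ (n + i + 1) • ⊤ : Submodule A (sysLim M ψ)) := fun i => hd _ _ (hz i)
  let f : decaying I ℕ (sysLim M ψ) := ⟨fun i => d (n + i) (z i), fun k => (Set.finite_lt_nat k).subset fun i hi => by
    by_contra h
    exact hi (Dec.pow_antitone (by simp only [Set.mem_ofPred_eq, not_lt] at h; omega) (hzd i))⟩
  have hval : ∀ i, (f : ℕ → sysLim M ψ) i ∈ (I ^ (n + 1) • ⊤ : Submodule A (sysLim M ψ)) := fun i =>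
    Dec.pow_antitone (A := A) (I := I) (m := n + 1) (n := n + i + 1) (by omega) (hzd i)
  have hf0 : f ∈ (I ^ (n + 1) • ⊤ : Submodule A (decaying I ℕ (sysLim M ψ))) := Dec.mem_pow_smul_top (I := I) hI f hval
  have hf : Dec.sumMap f ∈ (I ^ (n + 1) • ⊤ : Submodule A (sysLim M ψ)) :=
    Dec.map_pow_mem (A := A) (I := I) (M := decaying I ℕ (sysLim M ψ)) (N := sysLim M ψ) (n := n + 1) (Dec.sumMap (A := A) (I := I) (Z := ℕ) (M := sysLim M ψ)) hf0
  have hzsum : ∀ k, z k = x - ∑ i ∈ Finset.range k, d (n + i) (z i) := fun k => by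
    induction k with
    | zero => simp [z]
    | succ k ih => rw [Finset.sum_range_succ, ← sub_sub, ← ih]
  have : x = Dec.sumMap f := by
    rw [← sub_eq_zero]
    refine Subtype.ext (funext fun j => ?_)
    have h1 := Dec.sumMap_spec (n := n + j + 1) f (S := Finset.range (j + 1)) fun i hi =>
      Dec.pow_antitone (by simp only [Finset.mem_range, not_lt] at hi; omega) (hzd i)
    have h2 := Dec.map_pow_mem (sysProj M ψ (n + j)) h1
    rw [hkill, Submodule.mem_bot, map_sub, sub_eq_zero] at h2
    have h3 : sysProj M ψ (n + j) (z (j + 1)) = 0 := by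
      exact (LinearMap.congr_fun (hcomp (n + j)) (z (j + 1))).symm.trans ((congrArg (ψ (n + j)) (hz (j + 1))).trans (map_zero _))
    replace h3 := (congrArg (sysProj M ψ (n + j)) (hzsum (j + 1))).symm.trans h3
    rw [map_sub, sub_eq_zero] at h3
    have h4 : sysProj M ψ (n + j) (x - Dec.sumMap f) = 0 := by rw [map_sub, h3, h2, sub_self]
    have h5 : ∀ (w : sysLim M ψ) a b, a ≤ b → sysProj M ψ b w = 0 → sysProj M ψ a w = 0 := by
      intro w a b hab hw
      induction b, hab using Nat.le_induction with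
      | base => exact hw
      | succ b _ ih => exact ih (by rw [← LinearMap.congr_fun (hcomp b) w, LinearMap.comp_apply, hw, map_zero])
    exact h5 _ j (n + j) (Nat.le_add_left _ _) h4
  rw [this]; exact hf

/-- For a complete Noetherian local ring A (maximal ideal m, m-adic completion Â) and an m-adic system
(M n, ψ n : M (n+1) → M n) of A-modules, meaning that each M n is a module over A/m^(n+1) and each ψ
n is surjective with kernel m^(n+1) M (n+1), if every M n is flat over A/m^(n+1) then the inverse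
limit of the system is m-adically free (isomorphic to the m-adically decaying functions Z → Â for
some set Z), and for every n its projection to M n is surjective with kernel m^(n+1) times the
limit. A, the M n and Z share one universe. -/
theorem result {A : Type u} [CommRing A] [IsNoetherianRing A] [IsLocalRing A]
    [IsAdicComplete (IsLocalRing.maximalIdeal A) A]
    (M : ℕ → Type u) [∀ n, AddCommGroup (M n)] [∀ n, Module A (M n)]
    [∀ n, Module (A ⧸ IsLocalRing.maximalIdeal A ^ (n + 1)) (M n)]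
    [∀ n, IsScalarTower A (A ⧸ IsLocalRing.maximalIdeal A ^ (n + 1)) (M n)]
    [∀ n, Module.Flat (A ⧸ IsLocalRing.maximalIdeal A ^ (n + 1)) (M n)]
    (ψ : ∀ n, M (n + 1) →ₗ[A] M n) (hψ : ∀ n, Function.Surjective (ψ n))
    (hker : ∀ n, LinearMap.ker (ψ n) =
      (IsLocalRing.maximalIdeal A ^ (n + 1) • ⊤ : Submodule A (M (n + 1)))) :
    IsAdicFree (IsLocalRing.maximalIdeal A) (sysLim M ψ) ∧
      ∀ n, Function.Surjective (sysProj M ψ n) ∧
        LinearMap.ker (sysProj M ψ n) =
          (IsLocalRing.maximalIdeal A ^ (n + 1) • ⊤ : Submodule A (sysLim M ψ)) := by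
  classical
  have hI : (IsLocalRing.maximalIdeal A).FG := IsNoetherian.noetherian _
  have hkill : ∀ n, (IsLocalRing.maximalIdeal A) ^ (n + 1) • (⊤ : Submodule A (M n)) = ⊥ := fun n => by
    rw [eq_bot_iff, Submodule.smul_le]
    intro r hr x _
    rw [Submodule.mem_bot, ← algebraMap_smul (A ⧸ (IsLocalRing.maximalIdeal A) ^ (n + 1)) r x, Ideal.Quotient.algebraMap_eq, Ideal.Quotient.eq_zero_iff_mem.2 hr, zero_smul]
  have hcomp : ∀ n, ψ n ∘ₗ sysProj M ψ (n + 1) = sysProj M ψ n := fun n => LinearMap.ext fun x => x.2 n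
  have hL : IsAdicComplete (IsLocalRing.maximalIdeal A) (sysLim M ψ) := Groth.Agent.S13608.result A (IsLocalRing.maximalIdeal A) hI M ψ hkill (sysLim M ψ) (sysProj M ψ) hcomp
    (fun x hx => Subtype.ext (funext hx)) (fun y hy => ⟨⟨y, hy⟩, fun n => rfl⟩)
  have hsurj : ∀ n, Function.Surjective (sysProj M ψ n) := fun n => sysProj_surjective n M ψ hψ
  have hker' := ker_sysProj (IsLocalRing.maximalIdeal A) hI M ψ hψ hkill hker
  refine ⟨?_, fun n => ⟨hsurj n, hker' n⟩⟩
  obtain ⟨Z, m, hspan, hind⟩ := Dec.exists_lift_basis A (sysLim M ψ)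
  refine ⟨Z, Dec.exists_linearEquiv_completion m hspan fun n S a ha z hz => ?_⟩
  rcases n with _ | n
  · simp
  have hne : Nontrivial (A ⧸ (IsLocalRing.maximalIdeal A) ^ (n + 1)) := Ideal.Quotient.nontrivial_iff.2 fun h =>
    (IsLocalRing.maximalIdeal.isMaximal A).ne_top (eq_top_iff.2 (h.symm.le.trans (Ideal.pow_le_self (Nat.succ_ne_zero n))))
  have : IsLocalRing (A ⧸ (IsLocalRing.maximalIdeal A) ^ (n + 1)) := IsLocalRing.of_surjective' (Ideal.Quotient.mk _) Ideal.Quotient.mk_surjective
  rw [← Ideal.Quotient.eq_zero_iff_mem, ← Ideal.mem_bot]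
  refine Dec.mem_of_sum_smul_mem (A := A ⧸ (IsLocalRing.maximalIdeal A) ^ (n + 1)) (M := M n) (fun i : S => sysProj M ψ n (m i)) ?_ ⊥
    (fun i => Ideal.Quotient.mk _ (a i)) ?_ ⟨z, hz⟩
  · intro b hb i
    choose r hr using fun i => Ideal.Quotient.mk_surjective (b i)
    have hmem : ∑ j : S, r j • m j ∈ ((IsLocalRing.maximalIdeal A) • ⊤ : Submodule A (sysLim M ψ)) := by
      have h1 : sysProj M ψ n (∑ j : S, r j • m j) ∈ ((IsLocalRing.maximalIdeal A) • ⊤ : Submodule A (M n)) := by
        have hle : (IsLocalRing.maximalIdeal (A ⧸ (IsLocalRing.maximalIdeal A) ^ (n + 1)) • ⊤ : Submodule (A ⧸ (IsLocalRing.maximalIdeal A) ^ (n + 1)) (M n)).restrictScalars A ≤ (IsLocalRing.maximalIdeal A) • ⊤ := by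
          intro y hy
          rw [Submodule.restrictScalars_mem] at hy
          refine Submodule.smul_induction_on hy (fun c hc w _ => ?_) fun p q hp hq => add_mem hp hq
          obtain ⟨c, rfl⟩ := Ideal.Quotient.mk_surjective c
          rw [← Ideal.Quotient.algebraMap_eq, algebraMap_smul]
          refine Submodule.smul_mem_smul ?_ Submodule.mem_top
          exact fun hu => hc (hu.map _)
        refine hle ?_
        rw [Submodule.restrictScalars_mem, map_sum]
        convert hb using 1
        refine Finset.sum_congr rfl fun j _ => ?_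
        rw [map_smul, ← algebraMap_smul (A ⧸ (IsLocalRing.maximalIdeal A) ^ (n + 1)) (r j), Ideal.Quotient.algebraMap_eq, hr]
      have h2 : sysProj M ψ n (∑ j : S, r j • m j) ∈ ((IsLocalRing.maximalIdeal A) • ⊤ : Submodule A (sysLim M ψ)).map (sysProj M ψ n) := by
        rwa [Submodule.map_smul'', Submodule.map_top, LinearMap.range_eq_top.2 (hsurj n)]
      obtain ⟨w, hw, hw'⟩ := h2
      rw [← add_sub_cancel w (∑ j : S, r j • m j)]
      refine add_mem hw ?_
      have : (∑ j : S, r j • m j) - w ∈ LinearMap.ker (sysProj M ψ n) := by rw [LinearMap.mem_ker, map_sub, hw', sub_self]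
      rw [hker'] at this
      exact Submodule.smul_mono_left (Ideal.pow_le_self (Nat.succ_ne_zero n)) this
    have h := hind S (fun z => if h : z ∈ S then r ⟨z, h⟩ else 0) (by
      rw [← Finset.sum_coe_sort]
      simpa using hmem) i.1 i.2
    rw [← hr i]
    have hmax := IsLocalRing.le_maximalIdeal (J := (IsLocalRing.maximalIdeal A).map (Ideal.Quotient.mk ((IsLocalRing.maximalIdeal A) ^ (n + 1)))) (by
      intro htop
      have := congrArg (Ideal.comap (Ideal.Quotient.mk ((IsLocalRing.maximalIdeal A) ^ (n + 1)))) htop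
      rw [Ideal.comap_map_of_surjective _ Ideal.Quotient.mk_surjective, Ideal.comap_top, ← RingHom.ker_eq_comap_bot, Ideal.mk_ker,
        sup_eq_left.2 (Ideal.pow_le_self (Nat.succ_ne_zero n))] at this
      exact (IsLocalRing.maximalIdeal.isMaximal A).ne_top this)
    exact hmax (Ideal.mem_map_of_mem _ (by simpa using h))
  · rw [Submodule.bot_smul, Submodule.mem_bot]
    have := Dec.map_pow_mem (sysProj M ψ n) ha
    rw [hkill, Submodule.mem_bot, map_sum] at this
    rw [← this, ← Finset.sum_coe_sort S]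
    refine Finset.sum_congr rfl fun j _ => ?_
    rw [map_smul, ← Ideal.Quotient.algebraMap_eq, algebraMap_smul]

end Groth.Agent.S17551
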