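import Groth.Statements.S17552
import Groth.Prelude.Def_W4c5adicflatcomplDec
import Groth.Agent.Lib.H2Alg.DecayingFree
import Groth.Agent.S13608
import Mathlib.RingTheory.Flat.Basic
import Mathlib.RingTheory.Flat.Stability

set_option autoImplicit false
universe u
open W4c5adicflatcompl
open CAlg

namespace Groth.Agent.S17552
open W4c5adicflatcompl TensorProduct Groth.Agent.H2Alg

/-- For a complete Noetherian local ring A (maximal ideal m, m-adic completion Â), an A-module M is
isomorphic to the module of m-adically decaying functions Z → Â for some set Z (m-adically free)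
exactly when M is flat and m-adically complete. M and Z live in the universe of A. -/
theorem result {A : Type u} [CommRing A] [IsNoetherianRing A] [IsLocalRing A]
    [IsAdicComplete (IsLocalRing.maximalIdeal A) A]
    (M : Type u) [AddCommGroup M] [Module A M] :
    IsAdicFree (IsLocalRing.maximalIdeal A) M ↔
      Module.Flat A M ∧ IsAdicComplete (IsLocalRing.maximalIdeal A) M := by
  classical
  constructor
  · rintro ⟨Z, ⟨e⟩⟩
    let e' := e ≪≫ₗ (Dec.congr (IsLocalRing.maximalIdeal A) (AdicCompletion.ofLinearEquiv (IsLocalRing.maximalIdeal A) A)).symm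
    have := Groth.Agent.S17545.result (IsLocalRing.maximalIdeal A) Z
    refine ⟨Module.Flat.of_linearEquiv e', ?_⟩
    have hD : IsAdicComplete (IsLocalRing.maximalIdeal A) (decaying (IsLocalRing.maximalIdeal A) Z A) :=
      Dec.isAdicComplete (IsNoetherian.noetherian _)
    refine { haus' := fun x hx => ?_, prec' := fun f hf => ?_ }
    · apply e'.injective
      rw [map_zero]
      exact IsHausdorff.haus' (I := IsLocalRing.maximalIdeal A) _ fun n =>
        SModEq.zero.2 (Dec.map_pow_mem e'.toLinearMap (SModEq.zero.1 (hx n)))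
    · obtain ⟨L, hL⟩ := IsPrecomplete.prec' (I := IsLocalRing.maximalIdeal A) (fun n => e' (f n)) fun {m n} hmn =>
        SModEq.sub_mem.2 (by rw [← map_sub]; exact Dec.map_pow_mem e'.toLinearMap (SModEq.sub_mem.1 (hf hmn)))
      refine ⟨e'.symm L, fun n => SModEq.sub_mem.2 ?_⟩
      have := Dec.map_pow_mem e'.symm.toLinearMap (SModEq.sub_mem.1 (hL n))
      rwa [map_sub, LinearEquiv.coe_coe, e'.symm_apply_apply] at this
  · rintro ⟨_, _⟩
    obtain ⟨Z, m, hspan, hind⟩ := Dec.exists_lift_basis A M
    refine ⟨Z, Dec.exists_linearEquiv_completion m hspan fun n S a ha z hz => ?_⟩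
    exact Dec.mem_of_sum_smul_mem (fun i : S => m i) (fun b hb i => by
      have := hind S (fun z => if h : z ∈ S then b ⟨z, h⟩ else 0) (by
        rw [← Finset.sum_coe_sort]
        simpa using hb) i.1 i.2
      simpa using this) _ (fun i => a i) (by rw [Finset.sum_coe_sort S fun z => a z • m z]; exact ha) ⟨z, hz⟩

end Groth.Agent.S17552
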