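import Groth.Statements.S17553
import Groth.Prelude.Def_W4c5adicflatcomplDec
import Groth.Agent.Lib.H2Alg.Decaying
import Mathlib.RingTheory.Flat.EquationalCriterion
import Mathlib.LinearAlgebra.TensorProduct.Pi
import Mathlib.RingTheory.TensorProduct.Finite
import Mathlib.LinearAlgebra.TensorProduct.Tower

set_option autoImplicit false
universe u v w
open W4c5adicflatcompl
open CAlg

namespace Groth.Agent.S17553
open W4c5adicflatcompl TensorProduct Groth.Agent.H2Alg

/-- Let A be I-adically complete, M an I-adically complete A-module, Z a set and f : Z → M a function.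
There is an A-linear map from the I-adically decaying functions Z → A to M whose value on g is the
I-adically convergent sum of the g z • f z. -/
theorem result {A : Type u} [CommRing A] (I : Ideal A) [IsAdicComplete I A]
    (Z : Type v) (M : Type w) [AddCommGroup M] [Module A M] [IsAdicComplete I M] (f : Z → M) :
    ∃ φ : decaying I Z A →ₗ[A] M, ∀ (g : decaying I Z A) (n : ℕ), ∃ S : Finset Z,
      (∀ z, z ∉ S → (g : Z → A) z • f z ∈ (I ^ n • ⊤ : Submodule A M)) ∧
      φ g - (∑ z ∈ S, (g : Z → A) z • f z) ∈ (I ^ n • ⊤ : Submodule A M) := by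
  have hm : ∀ g : decaying I Z A, (fun z => (g : Z → A) z • f z) ∈ decaying I Z M := fun g n =>
    (g.2 n).subset fun z hz h => hz (Dec.map_pow_mem (LinearMap.toSpanSingleton A M (f z)) h)
  let μ : decaying I Z A →ₗ[A] decaying I Z M :=
    { toFun := fun g => ⟨_, hm g⟩
      map_add' := fun g h => Subtype.ext (funext fun z => add_smul _ _ (f z))
      map_smul' := fun a g => Subtype.ext (funext fun z => mul_smul a _ (f z)) }
  exact ⟨Dec.sumMap ∘ₗ μ, fun g n => Dec.exists_sumMap (μ g) n⟩

end Groth.Agent.S17553
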