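import Groth.Statements.S17554
import Groth.Agent.Lib.RankOne21.RootKernel

set_option linter.style.haveILetI false
set_option maxHeartbeats 1600000
set_option backward.isDefEq.respectTransparency.types false
-- import your own Groth.Agent.* helpers here

set_option autoImplicit false
universe u v
open CategoryTheory MonoidalCategory CartesianMonoidalCategory MonObj GrpObj AlgebraicGeometry
open LieWt

namespace Groth.Agent.S17554

/-- Let k be an algebraically closed field, G an affine, smooth, connected k-group scheme and i : T ⟶ G
a maximal torus (maximal among the subtori of G) which is its own scheme-theoretic centralizer.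
Suppose that for every root α of (G, T), that is every non-trivial character of T whose weight space
for the adjoint action of T on the Lie algebra of G over k is non-zero, and for the largest subtorus
j : T_α ⟶ T killed by α (a subtorus on which α is trivial and through which every subtorus of T
killed by α factors), every scheme-theoretic centralizer of T_α in G is a reductive k-group (affine,
smooth, connected reductive geometric fibre). Then G is reductive. (The direct implication,
reductivity of torus centralizers in a reductive group, is not restated here.) -/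
theorem result (k : Type u) [Field k] [IsAlgClosed k]
    (G : Over (Spec (CommRingCat.of k))) [GrpObj G] [IsAffine G.left] [Smooth G.hom] [ConnectedSpace ↥G.left]
    (T : Over (Spec (CommRingCat.of k))) [GrpObj T] (i : T ⟶ G) (hT : AGF.IsMaxTorus i)
    (hZT : Red.IsCentralizerOf i i)
    (h : ∀ (α : T ⟶ Red.Gm (Spec (CommRingCat.of k))), LieWt.IsRoot i α →
      ∀ (Ta : Over (Spec (CommRingCat.of k))) [GrpObj Ta] (j : Ta ⟶ T) [IsMonHom j] [Mono j],
      Red.IsTorus Ta → j ≫ α = 1 →
      (∀ (T' : Over (Spec (CommRingCat.of k))) [GrpObj T'] (j' : T' ⟶ T) [IsMonHom j'] [Mono j'],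
        Red.IsTorus T' → j' ≫ α = 1 → ∃ f : T' ⟶ Ta, f ≫ j = j') →
        ∀ (Z : Over (Spec (CommRingCat.of k))) [GrpObj Z] (z : Z ⟶ G), Red.IsCentralizerOf (j ≫ i) z → Red.IsReductive Z) :
    Red.IsReductive G := by
  haveI := hT.1
  haveI := hT.2.1
  obtain ⟨d, ⟨C⟩⟩ := TorPts21.exists_chars hT.2.2.1
  have hG : Red.IsReductiveOver k G := RankOne21.isReductiveOver_of_root_kernels hT.2.2.1 hZT C fun e he hroot => by
    obtain ⟨α, hα, hαe⟩ := hroot
    have hS := RankOne21.isTorus_ker (Spec (CommRingCat.of k)) e
    obtain ⟨Z, _, z, hz, -, -⟩ := MTRigid29.exists_centralizer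
      (MTRigid29.isMT_of_ft (TorPts21.isMultTypeFT_of_isTorus hS)) ‹_› inferInstance (RankOne21.kerInc C e ≫ i)
    refine ⟨Z, inferInstance, z, hz, RankOne21.isReductiveOver_self (h α hα _ (RankOne21.kerInc C e) hS
      (RankOne21.kerInc_comp C e hαe) (fun T' _ j' _ _ hT' hj' => RankOne21.exists_lift_kerInc C e he hαe j' hT' hj')
      Z z hz)⟩
  refine ⟨inferInstance, inferInstance, fun s => ?_⟩
  haveI : IsIso (Red.geomPt s) := TorPts21.isIso_geomPt s
  exact RedLR15.isReductiveOver_bc_of_isIso (Red.geomPt s) hG

end Groth.Agent.S17554
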