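import Groth.Statements.S17556
import Groth.Agent.Lib.RankOne21.PairSplit

set_option linter.style.haveILetI false
set_option maxHeartbeats 1600000
set_option backward.isDefEq.respectTransparency.types false
-- import your own Groth.Agent.* helpers here

set_option autoImplicit false
universe u v
open CategoryTheory MonoidalCategory CartesianMonoidalCategory MonObj GrpObj AlgebraicGeometry
open LieWt

namespace Groth.Agent.S17556

/-- Let k be a field, G a reductive k-group scheme (affine, smooth, with connected reductive geometric
fibre), i : T ⟶ G a maximal torus which is split and α a root of (G, T): a homomorphism from T to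
the multiplicative group, other than the trivial character, with non-zero weight space on the Lie
algebra of G over k. Then the inverse character α⁻¹, written −a in additive notation, is also a root
of (G, T). (A connected reductive group having a root is not solvable, so non-solvability is not
assumed separately here.) -/
theorem result (k : Type u) [Field k]
    (G T : Over (Spec (CommRingCat.of k))) [GrpObj G] [GrpObj T] (hG : Red.IsReductive G)
    (i : T ⟶ G) (hT : Red.IsMaximalTorus i) (M : Type) [AddCommGroup M] (hM : Red.IsSplitTorusWith M T)
    (α : T ⟶ Red.Gm (Spec (CommRingCat.of k))) (hα : LieWt.IsRoot i α) :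
    LieWt.IsRoot i α⁻¹ := by
  obtain ⟨hGa, hGs, -⟩ := TorPts21.props_of_isReductive hG
  haveI := hGa; haveI := hGs
  haveI := hT.1
  let s : ↥(Spec (CommRingCat.of k)) := IsLocalRing.closedPoint k
  obtain ⟨φ, hφ⟩ := Spec.map_surjective (Red.geomPt s)
  letI : Algebra k (AlgebraicClosure ((Spec (CommRingCat.of k)).residueField s)) := φ.hom.toAlgebra
  have hq : DiagGL.ext' (k := k) (AlgebraicClosure ((Spec (CommRingCat.of k)).residueField s)) = Red.geomPt s := hφ
  have hGK : Red.IsReductiveOver (AlgebraicClosure ((Spec (CommRingCat.of k)).residueField s))
      (Red.bc (DiagGL.ext' (k := k) (AlgebraicClosure ((Spec (CommRingCat.of k)).residueField s))) G) :=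
    (show ∀ q', q' = Red.geomPt s → Red.IsReductiveOver (AlgebraicClosure ((Spec (CommRingCat.of k)).residueField s))
      (Red.bc q' G) from fun q' h => by subst h; exact hG.2.2 s) _ hq
  have hTK := FinBorel21.isMaxTorus_congr hq.symm (TorPts21.isMaxTorus_geomFibre hT s)
  obtain ⟨d, ⟨C⟩⟩ := RankOne21.exists_chars_of_split
    (AlgebraicClosure ((Spec (CommRingCat.of k)).residueField s)) hM hTK.2.2.1
  obtain ⟨N, r, hr, hrc, a, hdiag⟩ := AttrBorel21.exists_diagRep C i
  haveI := hr
  haveI := hrc
  have key := RankOne21.proportional_roots C hdiag
    (AlgebraicClosure ((Spec (CommRingCat.of k)).residueField s)) hGK hTK hα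
  exact key.1

end Groth.Agent.S17556
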