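import Groth.Statements.S17559
import Groth.Agent.Lib.RankOne21.TwoBorels
import Groth.Agent.Lib.TorPts21.GeomIso
import Groth.Agent.Lib.TorPts21.FieldDescent

set_option linter.style.haveILetI false
set_option maxHeartbeats 1600000
set_option backward.isDefEq.respectTransparency.types false
-- import your own Groth.Agent.* helpers here

set_option autoImplicit false
universe u v
open CategoryTheory MonoidalCategory CartesianMonoidalCategory MonObj GrpObj AlgebraicGeometry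
open LieWt

namespace Groth.Agent.S17559

/-- Let k be an algebraically closed field, H a reductive k-group scheme (affine, smooth, with connected
reductive geometric fibre) which is not solvable, and i : S ⟶ H a maximal torus (maximal among the
subtori of H) such that any two roots of (H, S), that is non-trivial characters of S whose weight
spaces for the adjoint action of S on the Lie algebra of H over k are non-zero, are rational
multiples of each other in the character group. Then S lies in exactly two Borel subgroups of H: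
Borel subgroups b₁ : B₁ ⟶ H and b₂ : B₂ ⟶ H through which i factors, with B₁ not contained in B₂,
such that every Borel subgroup of H through which i factors is contained in B₁ or in B₂; and B₁, B₂
generate H: every closed subgroup scheme of H containing B₁ and B₂ is all of H. (The set of roots is
allowed to be empty in the hypothesis.) -/
theorem result (k : Type u) [Field k] [IsAlgClosed k]
    (H S : Over (Spec (CommRingCat.of k))) [GrpObj H] [GrpObj S] (hH : Red.IsReductive H) (hns : ¬ Red.IsSolvableGrp H)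
    (i : S ⟶ H) (hS : AGF.IsMaxTorus i)
    (hprop : ∀ α β : S ⟶ Red.Gm (Spec (CommRingCat.of k)), LieWt.IsRoot i α → LieWt.IsRoot i β →
      ∃ m n : ℤ, m ≠ 0 ∧ n ≠ 0 ∧ α ^ m = β ^ n) :
    ∃ (B₁ B₂ : Over (Spec (CommRingCat.of k))) (_ : GrpObj B₁) (_ : GrpObj B₂) (b₁ : B₁ ⟶ H) (b₂ : B₂ ⟶ H)
      (t₁ : S ⟶ B₁) (t₂ : S ⟶ B₂),
      Red.IsBorelOver k b₁ ∧ Red.IsBorelOver k b₂ ∧ t₁ ≫ b₁ = i ∧ t₂ ≫ b₂ = i ∧
      (¬ ∃ e : B₁ ⟶ B₂, e ≫ b₂ = b₁) ∧
      (∀ (B : Over (Spec (CommRingCat.of k))) [GrpObj B] (b : B ⟶ H) (t : S ⟶ B), Red.IsBorelOver k b → t ≫ b = i →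
        (∃ e : B ⟶ B₁, e ≫ b₁ = b) ∨ (∃ e : B ⟶ B₂, e ≫ b₂ = b)) ∧
      (∀ (C : Over (Spec (CommRingCat.of k))) [GrpObj C] (c : C ⟶ H) [IsMonHom c], IsClosedImmersion c.left →
        (∃ f₁ : B₁ ⟶ C, f₁ ≫ c = b₁) → (∃ f₂ : B₂ ⟶ C, f₂ ≫ c = b₂) → IsIso c) := by
  obtain ⟨hHa, hHs, hHc⟩ := TorPts21.props_of_isReductive hH
  haveI := hHa; haveI := hHs; haveI := hHc
  let s : ↥(Spec (CommRingCat.of k)) := IsLocalRing.closedPoint k
  have hG : Red.IsReductiveOver k H := ⟨hHa, hHs, hHc, fun U _ j _ hjc hjs hjn hjN hU => by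
    haveI := hjc
    haveI := hjs
    haveI hi : IsIso (Red.geomPt s) := TorPts21.isIso_geomPt s
    exact TorPts21.trivial_of_bc (Red.geomPt s) ((hH.2.2 s).2.2.2 (Red.bc (Red.geomPt s) U)
      ((Over.pullback (Red.geomPt s)).map j) (BorelFix21.isClosedImmersion_bc _ j) (BorelFix21.smooth_bc _ U)
      ((TorPts21.connectedSpace_pullback_iff (Red.geomPt s)).2 hjn) (TorPts21.isNormalHom_bc _ hjN)
      (TorPts21.hasNoSubtorus_geomFibre s hU))⟩
  haveI := hS.1
  haveI := hS.2.1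
  obtain ⟨hSa, hSs, hSc, -⟩ := TorPts21.props_of_isTorus hS.2.2.1
  haveI := hSa; haveI := hSs
  haveI := TorPts21.isClosedImmersion_of_torus hS.2.2.1 i
  obtain ⟨d, ⟨C⟩⟩ := TorPts21.exists_chars hS.2.2.1
  obtain ⟨n, r, hr, hrc, a, hdiag⟩ := AttrBorel21.exists_diagRep C i
  haveI := hr; haveI := hrc
  obtain ⟨b, hb⟩ := TorPts21.exists_pairing_ne_zero
    ((Finset.univ.image fun p : Fin n × Fin n => a p.1 - a p.2).filter (· ≠ 0)) fun v hv => (Finset.mem_filter.1 hv).2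
  have hsep : ∀ p q, BigCell21.wt a b p = BigCell21.wt a b q → a p = a q := fun p q h => by
    by_contra hne
    refine hb (a p - a q) (Finset.mem_filter.2 ⟨Finset.mem_image.2 ⟨(p, q), Finset.mem_univ _, rfl⟩,
      sub_ne_zero.2 hne⟩) ?_
    rw [RankOne21.pairing_sub']
    exact sub_eq_zero.2 h
  have hsep' : ∀ p q, BigCell21.wt a (-b) p = BigCell21.wt a (-b) q → a p = a q := fun p q h =>
    hsep p q (by rw [BigCell21.wt_neg] at h; exact neg_injective h)
  obtain ⟨δ, hδ, hline⟩ := RankOne21.exists_line C hdiag hG hS hns b hsep hprop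
  obtain ⟨B₁, _, b₁, hB₁, hp₁⟩ := BorelLam21.exists_upBorel C hG hS (RankOne21.diag_pt C hdiag) hsep
  obtain ⟨B₂, _, b₂, hB₂, hp₂⟩ := BorelLam21.exists_upBorel C hG hS (RankOne21.diag_pt C hdiag) hsep'
  haveI := hB₁.1; haveI := hB₁.2.1; haveI := hB₁.2.2.1; haveI := hB₁.2.2.2.1
  haveI := hB₂.1; haveI := hB₂.2.1; haveI := hB₂.2.2.1; haveI := hB₂.2.2.2.1
  haveI : IsAffine B₁.left := isAffine_of_isAffineHom b₁.left
  haveI : IsAffine B₂.left := isAffine_of_isAffineHom b₂.left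
  obtain ⟨t₁, ht₁⟩ := TorPts21.exists_lift_of_pts b₁ i fun τ =>
    (hp₁ _).2 (BorelLam21.torus_mem_upPts C (RankOne21.diag_pt C hdiag) b τ _ rfl)
  obtain ⟨t₂, ht₂⟩ := TorPts21.exists_lift_of_pts b₂ i fun τ =>
    (hp₂ _).2 (BorelLam21.torus_mem_upPts C (RankOne21.diag_pt C hdiag) (-b) τ _ rfl)
  refine ⟨B₁, B₂, inferInstance, inferInstance, b₁, b₂, t₁, t₂, hB₁, hB₂, ht₁, ht₂, ?_, ?_, ?_⟩
  · rintro ⟨e, he⟩
    refine RankOne21.not_le_upPts C hdiag hG hS hns b hsep fun x hx => ?_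
    obtain ⟨y, hy⟩ := (hp₁ x).2 hx
    exact (hp₂ x).1 ⟨y ≫ e, by rw [Category.assoc, he, hy]⟩
  · intro B _ bb t hB ht
    obtain ⟨b', hb'⟩ := RankOne21.exists_upPts_eq C hdiag hG hS hB t ht
    haveI := hB.1; haveI := hB.2.1; haveI := hB.2.2.1; haveI := hB.2.2.2.1
    rcases le_total 0 (TorPts21.pairing δ b') with h0 | h0
    · obtain ⟨f, hf⟩ := TorPts21.exists_lift_of_pts bb b₁ fun y =>
        (hb' _).2 (RankOne21.upPts_le_of_line hδ h0 hline ((hp₁ _).1 ⟨y, rfl⟩))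
      haveI : IsIso f := hB₁.2.2.2.2.2 B bb f hB.2.1 hB.2.2.1 hB.2.2.2.1 hB.2.2.2.2.1 hf
      exact Or.inl ⟨inv f, (IsIso.inv_comp_eq _).2 hf.symm⟩
    · have hline' : ∀ p q, DiagGL.mat r p q ≠ 0 → ∀ u v,
          (-δ) u * (a p - a q) v = (-δ) v * (a p - a q) u := fun p q h u v => by
        simp only [Pi.neg_apply, neg_mul, hline p q h u v]
      have hneg : ∀ c, TorPts21.pairing (-δ) c = -TorPts21.pairing δ c := fun c => by
        simp [TorPts21.pairing]
      have hδ' : 0 < TorPts21.pairing (-δ) (-b) := by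
        rw [hneg, show TorPts21.pairing δ (-b) = -TorPts21.pairing δ b by simp [TorPts21.pairing], neg_neg]
        exact hδ
      obtain ⟨f, hf⟩ := TorPts21.exists_lift_of_pts bb b₂ fun y =>
        (hb' _).2 (RankOne21.upPts_le_of_line hδ' (by rw [hneg]; exact neg_nonneg.2 h0) hline' ((hp₂ _).1 ⟨y, rfl⟩))
      haveI : IsIso f := hB₂.2.2.2.2.2 B bb f hB.2.1 hB.2.2.1 hB.2.2.2.1 hB.2.2.2.2.1 hf
      exact Or.inr ⟨inv f, (IsIso.inv_comp_eq _).2 hf.symm⟩
  · intro Z _ c _ hc hf₁ hf₂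
    obtain ⟨f₁, hf₁⟩ := hf₁
    obtain ⟨f₂, hf₂⟩ := hf₂
    haveI := hc
    refine RankOne21.isIso_of_upPts_le C hdiag b c (fun x hx => ?_) fun x hx => ?_
    · obtain ⟨y, hy⟩ := (hp₁ x).2 hx
      exact ⟨y ≫ f₁, by rw [Category.assoc, hf₁, hy]⟩
    · obtain ⟨y, hy⟩ := (hp₂ x).2 hx
      exact ⟨y ≫ f₂, by rw [Category.assoc, hf₂, hy]⟩

end Groth.Agent.S17559
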