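import Groth.Statements.S17571
import Groth.Agent.Lib.Cyc26.ChernClass
import Groth.Agent.Lib.Cyc26.SplitBase

set_option autoImplicit false
set_option linter.style.haveILetI false
set_option maxHeartbeats 1600000
universe u
open CategoryTheory AlgebraicGeometry
open Bivar

set_option backward.isDefEq.respectTransparency false
set_option backward.isDefEq.respectTransparency.types false

noncomputable section

namespace Groth.Agent.S17571

open Groth.Agent
open Groth.Agent.Cyc26PB (UBundle)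

theorem mk_eq_of_cl_eq {X : Scheme.{u}} [IsLocallyNoetherian X] {δ : X → ℤ} {k : ℤ} {α β : AlgebraicCycle X ℤ}
    {hα : α ∈ Cyc.Zk X δ k} {hβ : β ∈ Cyc.Zk X δ k} (h : ChowOps.cl α hα = ChowOps.cl β hβ) :
    Cyc26A.mk δ α = Cyc26A.mk δ β := by
  have h' := (QuotientAddGroup.eq_iff_sub_mem).1 h
  have key : ChowOps.ratTriv X δ k ≤ ((Cyc26A.mk δ).comp (ChowOps.zk X δ k).subtype).ker :=
    (AddSubgroup.closure_le _).2 fun a ha => Cyc26A.mk_eq_zero_of_ratEquivZero ha
  have e : Cyc26A.mk δ (α - β) = 0 := key h'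
  rwa [map_sub, sub_eq_zero] at e

/-- A projective bundle of rank zero is empty. -/
theorem isEmpty_of_rank_zero {X H : Scheme.{u}} {π' : H ⟶ X} {E : X.Modules} {O : H.Modules}
    {φ : E ⟶ (Scheme.Modules.pushforward π').obj O} (hB : Cyc26PB.UBundle π' E O φ)
    (hE : FlatMod.IsFinLocFreeOfRank 0 E) : IsEmpty H := by
  refine ⟨fun x => ?_⟩
  obtain ⟨D, e, hxD, he⟩ := P1Split.exists_isBas_nhd hE (π' x)
  have h := Cyc26PB.iSup_chartOpen hB he
  have hx : x ∈ π' ⁻¹ᵁ D := hxD
  rw [← h, TopologicalSpace.Opens.mem_iSup] at hx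
  exact hx.choose.elim0

/-- Composites of pull-backs. -/
def pullIso {X S T : Scheme.{u}} {L : X.Modules} (h : T ⟶ S) {g : S ⟶ X} {g' : T ⟶ X} (w : h ≫ g = g') :
    (Scheme.Modules.pullback h).obj ((Scheme.Modules.pullback g).obj L) ≅ (Scheme.Modules.pullback g').obj L :=
  (Scheme.Modules.pullbackComp h g).app L ≪≫ (Scheme.Modules.pullbackCongr w).app L

section succ

variable {X : Scheme.{u}} {δX : X → ℤ} {E : X.Modules} {n : ℕ}

theorem exists_data (hX : Cyc.IsSetup X δX) (hE : FlatMod.IsFinLocFreeOfRank (n + 1) E) (s : OSq X δX) :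
    ∃ (P : Scheme.{u}) (π : P ⟶ s.Y) (_ : IsProper π) (O1 : P.Modules)
      (φ : (Scheme.Modules.pullback s.g).obj E ⟶ (Scheme.Modules.pushforward π).obj O1) (δP : P → ℤ),
      UBundle π ((Scheme.Modules.pullback s.g).obj E) O1 φ ∧ Cyc.IsSetup P δP ∧ Cyc.DeltaCompat π δP s.δ := by
  haveI := s.lft
  have hs := Cyc26Split.isSetup_of_lft s.g hX s.compat
  haveI := hs.1
  obtain ⟨P, π, O1, q, hP, -, hπ, -⟩ :=
    Cyc26Split.exists_projBundle (M2.isFinLocFreeOfRank_pullback s.g hE)
  haveI := hπ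
  obtain ⟨δP, hδP⟩ := P1S26.exists_deltaCompat π s.δ
  exact ⟨P, π, hπ, O1, _, δP, Cyc26PB.uBundle_projBundle hP, Cyc26Split.isSetup_of_lft π hs hδP, hδP⟩

theorem result_succ (hX : Cyc.IsSetup X δX) (hE : FlatMod.IsFinLocFreeOfRank (n + 1) E) :
    ∃ c : (j : ℕ) → Bivar.OpCl (j : ℤ) X δX, Bivar.IsChernClasses E (n + 1) c := by
  classical
  choose P π hπp O1 φ δP hB hPs hδ using exists_data (E := E) (n := n) hX hE
  haveI : ∀ s : OSq X δX, IsProper (π s) := hπp
  have hS : ∀ s : OSq X δX, Cyc.IsSetup s.Y s.δ := fun s =>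
    haveI := s.lft; Cyc26Split.isSetup_of_lft s.g hX s.compat
  have hEs : ∀ s : OSq X δX, FlatMod.IsFinLocFreeOfRank (n + 1) ((Scheme.Modules.pullback s.g).obj E) :=
    fun s => M2.isFinLocFreeOfRank_pullback s.g hE
  haveI : ∀ s : OSq X δX, IsLocallyNoetherian s.Y := fun s => (hS s).1
  haveI : ∀ s : OSq X δX, IsLocallyNoetherian (P s) := fun s => (hPs s).1
  choose ψ hψ using fun (s : OSq X δX) (k : ℤ) (j : Fin (n + 1 + 1)) =>
    Cyc26A.exists_chernHom (hB s) (hEs s) (hS s).2.2 (hPs s).2.2 (hδ s) k j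
  choose g hg using fun (s : OSq X δX) (k : ℤ) (α : AlgebraicCycle s.Y ℤ) (hα : α ∈ Cyc.Zk s.Y s.δ k) =>
    Cyc26A.exists_isChernCap (hB s) (hEs s) (hS s).2.2 (hPs s).2.2 (hδ s) k α hα
  let cl : (j : Fin (n + 1 + 1)) → Bivar.OpCl ((j : ℕ) : ℤ) X δX := fun j =>
    { op := fun s k => ψ s k j
      push := fun s t h _ w k α hα => by
        have hh : Cyc.DeltaCompat h t.δ s.δ := Cyc26A.deltaCompat_of_comp h s.g w t.compat s.compat
        refine ⟨g t k α hα j, (hg t k α hα).2.1 j, hψ t k j α hα _ (hg t k α hα), ?_⟩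
        rw [hψ s k j _ _ _ (hg s k _ (cycMap_mem_Zk h t.δ s.δ k hα))]
        exact Cyc26A.cl_eq_of_mk _ _ (Cyc26A.mk_map_chernCap (hS t) (hS s) (hPs s) (hPs t) (hB s) (hEs s)
          (hB t) (pullIso h w).symm (hδ s) (hδ t) hh (hg t k α hα) (hg s k _ _) j).symm
      pull := fun s t h _ r hr w k α hα => by
        haveI := t.lft
        haveI : LocallyOfFiniteType (h ≫ s.g) := by rw [w]; exact t.lft
        haveI : LocallyOfFiniteType h := locallyOfFiniteType_of_comp h s.g
        have hh : Cyc.DeltaCompat h t.δ s.δ := Cyc26A.deltaCompat_of_comp h s.g w t.compat s.compat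
        refine ⟨g s k α hα j, (hg s k α hα).2.1 j, hψ s k j α hα _ (hg s k α hα), fun α₁ hα₁c hα₁ => ?_⟩
        have hsh : Cyc26A.Shift h t.δ s.δ (r : ℤ) := fun z hz => Cyc26.shift_of_hasRelDim h hr hh z hz
        have hm : Cyc26A.pullCycle h (hS t).2.2 hsh (g s k α hα j) ∈ Cyc.Zk t.Y t.δ (k + r - ((j : ℕ) : ℤ)) := by
          rw [show k + (r : ℤ) - ((j : ℕ) : ℤ) = k - ((j : ℕ) : ℤ) + r by ring]
          exact Bivar.pullFun_mem_Zk h t.δ s.δ r _ ((hg s k α hα).2.1 j) _ (Cyc26A.pullCycle_coe h _ _ _)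
        refine ⟨_, hm, Cyc26A.pullCycle_coe h _ _ _, ?_⟩
        rw [hψ t (k + r) j α₁ hα₁ _ (hg t (k + r) α₁ hα₁)]
        exact Cyc26A.cl_eq_of_mk _ _ (Cyc26A.mk_pull_chernCap (hS t) (hS s) (hPs s) (hPs t) (hB s) (hEs s)
          (hB t) (pullIso h w).symm (hδ s) (hδ t) hr hh hα₁c (hg s k α hα) (hg t _ α₁ hα₁) j _
          (Cyc26A.pullCycle_coe h _ _ _)).symm
      gysin := fun s t i _ w L hL σ hσ k α hα => by
        have hh : Cyc.DeltaCompat i t.δ s.δ := Cyc26A.deltaCompat_of_comp i s.g w t.compat s.compat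
        refine ⟨g s k α hα j, (hg s k α hα).2.1 j, hψ s k j α hα _ (hg s k α hα), fun v hv γ hγc hγ => ?_⟩
        have hd : ∀ d, t.δ d = s.δ (i d) := fun d => Cyc26A.delta_eq_of_surjectiveOnStalks i hh d
        let ζ := Cyc26A.restr i (Cyc26A.capCycle (hS s).2.2 hL (Cyc26.gysinChoice_ne_zero σ hv) (g s k α hα j))
        have hζ : ∀ d, ζ d = Cyc.c1CapFun s.δ L ⇑(g s k α hα j) (Cyc.gysinChoice L σ v) (i d) := fun d => by
          simp only [ζ]
          rw [Cyc26A.restr_apply, Cyc26A.capCycle_coe]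
        have hm : ζ ∈ Cyc.Zk t.Y t.δ (k - 1 - ((j : ℕ) : ℤ)) := by
          intro d hd'
          have hb := (hg s k α hα).2.1 j
          rw [show k - ((j : ℕ) : ℤ) = k - 1 - ((j : ℕ) : ℤ) + 1 by ring] at hb
          rw [hζ]
          have h1 := Cyc26.c1Cap_mem_Zk hb (Cyc26A.capCycle_coe (hS s).2.2 hL (Cyc26.gysinChoice_ne_zero σ hv) _)
            (i d) (by rwa [← hd])
          rwa [Cyc26A.capCycle_coe] at h1
        refine ⟨ζ, hm, hζ, ?_⟩
        rw [hψ t (k - 1) j γ hγ _ (hg t (k - 1) γ hγ)]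
        exact Cyc26A.cl_eq_of_mk _ _ (Cyc26A.mk_gysin_chernCap (hS t) (hS s) (hPs s) (hPs t) (hB s) (hEs s)
          (hB t) (pullIso i w).symm (hδ s) (hδ t) hh hL hσ hv hγc (hg s k α hα) (hg t _ γ hγ) j ζ hζ).symm }
  let c : (j : ℕ) → Bivar.OpCl (j : ℤ) X δX := fun j => match j with
    | 0 => OpCl.one X δX
    | m + 1 => if h : m + 1 < n + 1 + 1 then cl ⟨m + 1, h⟩ else 0
  refine ⟨c, hE, rfl, fun j hj => ?_, fun s P' π' O1' q hP δP' hδP' k α hα ζ hζ0 hζ hcζ => ?_⟩
  · match j, hj with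
    | m + 1, hj => exact dif_neg (by omega)
  · haveI := hP.1
    have hB' := Cyc26PB.uBundle_projBundle hP
    obtain ⟨θ, hθi, hθ, -⟩ := Cyc26PB.exists_bundleIso (hB s) hB' (Iso.refl _)
    haveI := hθi
    haveI : IsProper π' := by rw [← hθ]; infer_instance
    have hPs' := Cyc26Split.isSetup_of_lft π' (hS s) hδP'
    haveI := hPs'.1
    have hmk : ∀ j : Fin (n + 1 + 1), Cyc26A.mk s.δ (ζ j) = Cyc26A.mk s.δ (g s k α hα j) := by
      intro j
      induction j using Fin.cases with
      | zero => rw [hζ0, (hg s k α hα).1]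
      | succ i =>
        have h := hcζ i.succ
        have e : c (((i.succ : Fin (n + 1 + 1)) : ℕ)) = cl i.succ := by
          exact dif_pos (show (i : ℕ) + 1 < n + 1 + 1 by omega)
        rw [e] at h
        exact mk_eq_of_cl_eq ((hψ s k i.succ α hα _ (hg s k α hα)).symm.trans h).symm
    refine Cyc26A.isChernCap_transfer (hB s) (hEs s) hB' (Iso.refl _) (hS s).2.2 (hPs s).2.2 hPs'.2.2
      (hδ s) hδP' (Cyc26A.isChernCap_of_chernRel (hB s) (hEs s) (hS s).2.2 (hPs s).2.2 (hδ s) hζ0 hζ ?_)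
    rw [show (fun j => Cyc26A.mk s.δ (ζ j)) = fun j => Cyc26A.mk s.δ (g s k α hα j) from funext hmk]
    exact Cyc26A.chernRel_of_isChernCap (hB s) (hEs s) (hS s).2.2 (hPs s).2.2 (hδ s) (hg s k α hα)

end succ

/-- Suppose E is an O_X-module that is finite locally free, of rank r. Then for 0 ≤ p ≤ r the rule
assigning to g : Y → X locally of finite type the operation c_p(g^*E) ∩ − : CH_k(Y) → CH_{k−p}(Y) is
a bivariant class of degree p, the p-th Chern class of E. Stated through the characterisation of the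
Chern class operations by the projective bundle: there is a family of operational classes c_j ∈
A^j(X), j ≥ 0, with c_0 = 1 and c_j = 0 for j > r (a convention for j > r), such that on every test
scheme g : Y → X (with induced dimension function), for every projective bundle (π : P → Y, O_P(1),
π^*g^*E → O_P(1)) of g^*E with its induced dimension function and every k-cycle α on Y, any cycles
ζ_0 = α, ζ_1, …, ζ_r representing the classes c_j ∩ [α] satisfy Σ_{i=0}^r (−1)^i c_1(O_P(1))^i ∩
π^*(ζ_{r−i}) ∼_rat 0 on P for every nowhere-zero choice of rational sections of O_P(1) (the binder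
Bivar.IsChernClasses, which also records the rank of E). Here a pair (X, δ) with Cyc.IsSetup plays
the role of a scheme locally of finite type over the base (S, δ) (X locally Noetherian with
universally catenary local rings, δ a dimension function), Cyc.DeltaCompat records that a dimension
function is the induced one, and bivariant classes are taken in the operational sense of the
prelude: additive operations on the Chow groups CH_k (k-cycles modulo rational equivalence) of all
test schemes, compatible with proper pushforward, flat pullback and the Gysin maps of zero schemes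
of sections of invertible modules in representative form (Bivar.Cl for A^p(X → Y), Bivar.OpCl for
A^p(X)). -/
theorem result (X : Scheme.{u}) (δX : X → ℤ) (hX : Cyc.IsSetup X δX) (E : X.Modules) (r : ℕ) (hE : FlatMod.IsFinLocFreeOfRank r E) : ∃ c : (j : ℕ) → Bivar.OpCl (j : ℤ) X δX, Bivar.IsChernClasses E r c := by
  classical
  cases r with
  | succ n => exact result_succ hX hE
  | zero =>
    let c : (j : ℕ) → Bivar.OpCl (j : ℤ) X δX := fun j => match j with
      | 0 => OpCl.one X δX
      | _ + 1 => 0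
    refine ⟨c, hE, rfl, fun j hj => ?_, fun s P π O1 q hP δP hδP k α hα ζ hζ0 hζ _ => ?_⟩
    · match j, hj with
      | m + 1, _ => rfl
    · haveI : IsEmpty P := isEmpty_of_rank_zero (Cyc26PB.uBundle_projBundle hP)
        (M2.isFinLocFreeOfRank_pullback s.g hE)
      refine ⟨hζ0, hζ, fun t _ β _ => ?_⟩
      obtain rfl : β = 0 := DFunLike.ext _ _ fun y => isEmptyElim y
      exact Cyc26A.ratEquivZero_of_mk (fun y => isEmptyElim y) (map_zero _)

end Groth.Agent.S17571
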