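import Groth.Statements.S17572
import Groth.Agent.Lib.Cyc26.PBA
import Groth.Agent.Lib.Cyc26.SplitBase
import Groth.Agent.Lib.Cyc26.P1Div

set_option autoImplicit false
universe u
open CategoryTheory AlgebraicGeometry
open Bivar

namespace Groth.Agent.S17572

set_option backward.isDefEq.respectTransparency false

theorem cl_eq_of_ratEquiv {X : Scheme.{u}} {δ : X → ℤ} {k : ℤ} {α β : AlgebraicCycle X ℤ} (hα : α ∈ Cyc.Zk X δ k)
    (hβ : β ∈ Cyc.Zk X δ k) (h : Cyc.RatEquiv δ k α β) : ChowOps.cl α hα = ChowOps.cl β hβ :=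
  (QuotientAddGroup.eq_iff_sub_mem).2 (AddSubgroup.subset_closure h)

theorem exists_cl {X : Scheme.{u}} {δ : X → ℤ} {k : ℤ} (x : ChowOps.CH X δ k) :
    ∃ (α : AlgebraicCycle X ℤ) (hα : α ∈ Cyc.Zk X δ k), x = ChowOps.cl α hα := by
  obtain ⟨⟨α, hα⟩, rfl⟩ := QuotientAddGroup.mk_surjective x
  exact ⟨α, hα, rfl⟩


/-- Fix a finite locally free O_X-module E whose rank is r. Let π : P → X denote the projective bundle
attached to E and put ξ := c_1(O_P(1)); then the c_j(E) ∩ α form the only sequence of classes α_j,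
starting with α_0 = α, such that the alternating sum, taken over indices i from 0 up to r, of the
terms (−1)^i ξ^i ∩ π^*α_{r−i} vanishes in CH_*(P). Consequently two families of operational classes
c, c' : ℕ → A^*(X) which both are Chern classes of E in the sense of the binder Bivar.IsChernClasses
E r (c_0 = 1, c_j = 0 for j > r, and on every test scheme g : Y → X, every projective bundle of g^*E
with induced dimension function and every k-cycle α on Y, all representatives of the c_j ∩ [α]
satisfy that relation up to rational equivalence on P) coincide. Here a pair (X, δ) with Cyc.IsSetup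
plays the role of a scheme locally of finite type over the base (S, δ) (X locally Noetherian with
universally catenary local rings, δ a dimension function), Cyc.DeltaCompat records that a dimension
function is the induced one, and bivariant classes are taken in the operational sense of the
prelude: additive operations on the Chow groups CH_k (k-cycles modulo rational equivalence) of all
test schemes, compatible with proper pushforward, flat pullback and the Gysin maps of zero schemes
of sections of invertible modules in representative form (Bivar.Cl for A^p(X → Y), Bivar.OpCl for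
A^p(X)). -/
theorem result (X : Scheme.{u}) (δX : X → ℤ) (hX : Cyc.IsSetup X δX) (E : X.Modules) (r : ℕ) (hE : FlatMod.IsFinLocFreeOfRank r E) (c c' : (j : ℕ) → Bivar.OpCl (j : ℤ) X δX) (hc : Bivar.IsChernClasses E r c) (hc' : Bivar.IsChernClasses E r c') : c = c' := by
  classical
  obtain ⟨hr, h0, hgt, hrel⟩ := hc
  obtain ⟨-, h0', hgt', hrel'⟩ := hc'
  funext j
  by_cases hj : r < j
  · rw [hgt j hj, hgt' j hj]
  refine Bivar.OpCl.ext (funext fun s => funext fun k => AddMonoidHom.ext fun x => ?_)
  obtain ⟨α, hα, rfl⟩ := exists_cl x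
  rcases r with _ | n
  · obtain rfl : j = 0 := by omega
    rw [h0, h0']
  haveI := hX.1
  haveI := s.lft
  have hYs := Groth.Agent.Cyc26Split.isSetup_of_lft s.g hX s.compat
  haveI := hYs.1
  have hEY := Groth.Agent.M2.isFinLocFreeOfRank_pullback s.g hr
  obtain ⟨P, π, O1, q, hP, -, hπ, -⟩ := Groth.Agent.Cyc26Split.exists_projBundle hEY
  haveI := hπ
  obtain ⟨δP, hδ⟩ := Groth.Agent.P1S26.exists_deltaCompat π s.δ
  have hPs := Groth.Agent.Cyc26Split.isSetup_of_lft π hYs hδ
  haveI := hPs.1
  have hB := Groth.Agent.Cyc26PB.uBundle_projBundle hP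
  have pick : ∀ d : (j : ℕ) → Bivar.OpCl (j : ℤ) X δX, d 0 = Bivar.OpCl.one X δX →
      ∃ (ζ : Fin (n + 1 + 1) → AlgebraicCycle s.Y ℤ)
        (hζ : ∀ i : Fin (n + 1 + 1), ζ i ∈ Cyc.Zk s.Y s.δ (k - ((i : ℕ) : ℤ))), ζ 0 = α ∧
        ∀ i : Fin (n + 1 + 1), (d i).op s k (ChowOps.cl α hα) = ChowOps.cl (ζ i) (hζ i) := by
    intro d hd
    choose ζ hζ e using fun i : Fin (n + 1 + 1) => exists_cl ((d i).op s k (ChowOps.cl α hα))
    have hz : ∀ i : Fin (n + 1 + 1), Function.update ζ 0 α i ∈ Cyc.Zk s.Y s.δ (k - ((i : ℕ) : ℤ)) := fun i => by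
      by_cases hi : i = 0
      · subst hi
        simpa using hα
      · rw [Function.update_of_ne hi]; exact hζ i
    refine ⟨Function.update ζ 0 α, hz, Function.update_self _ _ _, fun i => ?_⟩
    by_cases hi : i = 0
    · subst hi
      have key : ∀ (i₀ : ℕ) (hi₀ : i₀ = 0) (β : AlgebraicCycle s.Y ℤ) (hβ : β ∈ Cyc.Zk s.Y s.δ (k - (i₀ : ℤ))), β = α →
          (d i₀).op s k (ChowOps.cl α hα) = ChowOps.cl β hβ := by
        rintro _ rfl β hβ rfl
        rw [hd]
        have cast_cl : ∀ (l : ℤ) (e : k = l) (h : β ∈ Cyc.Zk s.Y s.δ l),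
            (Bivar.chCast s.Y s.δ e).toAddMonoidHom (ChowOps.cl β hα) = ChowOps.cl β h := by
          rintro _ rfl h; rfl
        exact cast_cl _ _ hβ
      exact key _ rfl _ _ (Function.update_self _ _ _)
    · simp only [Function.update_of_ne hi]
      exact e i
  obtain ⟨ζ, hζ, hζ0, hζe⟩ := pick c h0
  obtain ⟨ζ', hζ', hζ0', hζe'⟩ := pick c' h0'
  let i : Fin (n + 1 + 1) := ⟨j, by omega⟩
  refine (hζe i).trans (Eq.trans ?_ (hζe' i).symm)
  exact cl_eq_of_ratEquiv _ _ (Groth.Agent.Cyc26A.ratEquiv_of_mk (hζ i) (hζ' i) (congrFun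
    (Groth.Agent.Cyc26A.mk_chern_eq hB hEY hYs.2.2 hPs.2.2 hδ
      (hrel s P π O1 q hP δP hδ k α hα ζ hζ0 hζ hζe) (hrel' s P π O1 q hP δP hδ k α hα ζ' hζ0' hζ' hζe') rfl) i))

end Groth.Agent.S17572
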