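import Groth.Statements.S17574
import Groth.Agent.Lib.Bivar12.Comm
-- import your own Groth.Agent.* helpers here

set_option autoImplicit false
set_option linter.style.haveILetI false
set_option backward.isDefEq.respectTransparency false
set_option backward.isDefEq.respectTransparency.types false
set_option backward.isDefEq.respectTransparency false
universe u
open CategoryTheory AlgebraicGeometry
open Bivar

namespace Groth.Agent.S17574

/-- Let f : X' → X be locally of finite type, L an invertible O_X-module, and c ∈ A^p(X' → X) a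
bivariant class. Then c ∘ c_1(L) = c_1(f^*L) ∘ c in A^{p+1}(X' → X): for every cartesian square (g :
Y → X, Y' = Y ×_X X', g' : Y' → X') with g locally of finite type and every x ∈ CH_k(Y), c ∩
(c_1(g^*L) ∩ x) = c_1((g')^*f^*L) ∩ (c ∩ x) in CH_{k−1−p}(Y'). Here the first Chern classes of L on
X and of f^*L on X' are given as operational classes cX ∈ A^1(X), cX' ∈ A^1(X') through the binder
Bivar.IsC1Class, evaluated on the test schemes Y → X and Y' → X' of the square (Y' → X' is locally
of finite type as a base change of g), and the two sides, of weights k − p − 1 and k − 1 − p, are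
compared through the transport Bivar.chCast. Here a pair (X, δ) with Cyc.IsSetup plays the role of a
scheme locally of finite type over the base (S, δ) (X locally Noetherian with universally catenary
local rings, δ a dimension function), Cyc.DeltaCompat records that a dimension function is the
induced one, and bivariant classes are taken in the operational sense of the prelude: additive
operations on the Chow groups CH_k (k-cycles modulo rational equivalence) of all test schemes,
compatible with proper pushforward, flat pullback and the Gysin maps of zero schemes of sections of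
invertible modules in representative form (Bivar.Cl for A^p(X → Y), Bivar.OpCl for A^p(X)). -/
theorem result (X X' : Scheme.{u}) (δX : X → ℤ) (δX' : X' → ℤ) (hX : Cyc.IsSetup X δX) (hX' : Cyc.IsSetup X' δX') (f : X' ⟶ X) [LocallyOfFiniteType f] (hδ : Cyc.DeltaCompat f δX' δX) (L : X.Modules) (cX : Bivar.OpCl 1 X δX) (hcX : Bivar.IsC1Class L cX) (cX' : Bivar.OpCl 1 X' δX') (hcX' : Bivar.IsC1Class ((Scheme.Modules.pullback f).obj L) cX') (p : ℤ) (c : Bivar.Cl p f δX' δX) (s : Bivar.Sq f δX' δX) (k : ℤ) (x : ChowOps.CH s.Y' s.δY' k) : c.op s (k - 1) (cX.op ⟨s.Y', s.g, s.lft, s.δY', s.compatY⟩ k x) = Bivar.chCast s.X' s.δX' (sub_right_comm k p 1) (cX'.op ⟨s.X', s.g', MorphismProperty.of_isPullback s.isPullback s.lft, s.δX', s.compatX⟩ (k - p) (c.op s k x)) := by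
  obtain ⟨hL, hspec⟩ := hcX
  obtain ⟨-, hspec'⟩ := hcX'
  obtain ⟨α, hα, rfl⟩ := Bivar.exists_rep x
  obtain ⟨β, hβ, e⟩ := Bivar.exists_rep (c.op s k (ChowOps.cl α hα))
  haveI := hX.1
  haveI := hX'.1
  haveI := s.lft
  haveI hlg : LocallyOfFiniteType s.g' :=
    MorphismProperty.of_isPullback (P := @LocallyOfFiniteType) s.isPullback s.lft
  haveI : IsLocallyNoetherian s.Y' := LocallyOfFiniteType.isLocallyNoetherian s.g
  haveI : IsLocallyNoetherian s.X' := LocallyOfFiniteType.isLocallyNoetherian s.g'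
  have hdY : Cyc.IsDimFun s.Y' s.δY' :=
    Groth.Agent.UCat26.isDimFun_of_deltaCompat s.g hX.2.1 hX.2.2 s.compatY
  have hdX : Cyc.IsDimFun s.X' s.δX' :=
    Groth.Agent.UCat26.isDimFun_of_deltaCompat s.g' hX'.2.1 hX'.2.2 s.compatX
  have hM := Groth.Agent.Twist.isInvertible_pullback s.g hL
  have hM' := Groth.Agent.Twist.isInvertible_pullback s.f' hM
  let e' := (Scheme.Modules.pullbackComp s.f' s.g).app L ≪≫ (Scheme.Modules.pullbackCongr s.isPullback.w).app L ≪≫
    ((Scheme.Modules.pullbackComp s.g' f).app L).symm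
  obtain ⟨v, hv⟩ := Groth.Agent.Cyc26.exists_sections hM
  obtain ⟨v', hv'⟩ := Groth.Agent.Cyc26.exists_sections hM'
  obtain ⟨γ, hγ⟩ := Groth.Agent.Cyc26.exists_cycle_c1Cap hM hdY α hv
  obtain ⟨η, hη⟩ := Groth.Agent.Cyc26.exists_cycle_c1Cap hM' hdX β hv'
  have hγm : γ ∈ Cyc.Zk s.Y' s.δY' (k - 1) := Groth.Agent.Cyc26.c1Cap_mem_Zk (by rwa [sub_add_cancel]) hγ
  have hηm : η ∈ Cyc.Zk s.X' s.δX' (k - p - 1) := Groth.Agent.Cyc26.c1Cap_mem_Zk (by rwa [sub_add_cancel]) hη
  have hηm' : η ∈ Cyc.Zk s.X' s.δX' (k - 1 - p) := by rwa [sub_right_comm k 1 p]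
  rw [← e, hspec ⟨s.Y', s.g, s.lft, s.δY', s.compatY⟩ k α hα v hv γ hγ hγm,
    hspec' ⟨s.X', s.g', _, s.δX', s.compatX⟩ (k - p) β hβ _
      (fun ξ => Groth.Agent.Bivar12.fibLin_ne_zero e' ξ (hv' ξ)) η
      (hη.trans (Groth.Agent.Bivar12.c1CapFun_moduleIso e' hM' s.δX' ⇑β hv').symm) hηm,
    Groth.Agent.Bivar12.cl_op_c1 c hX hX' s hM hα hβ e.symm hv hγ hγm hv' hη hηm', Bivar.chCast_cl]

end Groth.Agent.S17574
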