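import Groth.Statements.S17578
import Groth.Agent.Lib.Bivar12.ClopenRes

set_option autoImplicit false
universe u
open CategoryTheory AlgebraicGeometry
open Bivar

namespace Groth.Agent.S17578

/-- Let f : X → Y be locally of finite type and Y = ∐_{j ∈ J} Y_j a decomposition into open and closed
subschemes, given as open immersions Y_j → Y with pairwise disjoint images covering Y, each with a
fibre product X_j = Y_j ×_Y X (so X = ∐ X_j and f(X_j) ⊂ Y_j). Then A^p(X → Y) = ∏_j A^p(X_j → Y_j):
the map sending a bivariant class to the family of its restrictions along the squares (Y_j → Y, X_j)
is bijective. (The published statement also allows a finer decomposition of X indexed by a set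
mapping to J; that refinement is not stated here.) Here a pair (X, δ) with Cyc.IsSetup plays the
role of a scheme locally of finite type over the base (S, δ) (X locally Noetherian with universally
catenary local rings, δ a dimension function), Cyc.DeltaCompat records that a dimension function is
the induced one, and bivariant classes are taken in the operational sense of the prelude: additive
operations on the Chow groups CH_k (k-cycles modulo rational equivalence) of all test schemes,
compatible with proper pushforward, flat pullback and the Gysin maps of zero schemes of sections of
invertible modules in representative form (Bivar.Cl for A^p(X → Y), Bivar.OpCl for A^p(X)). -/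
theorem result (X Y : Scheme.{u}) (δX : X → ℤ) (δY : Y → ℤ) (hX : Cyc.IsSetup X δX) (hY : Cyc.IsSetup Y δY) (f : X ⟶ Y) [LocallyOfFiniteType f] (hδ : Cyc.DeltaCompat f δX δY) (p : ℤ) (J : Type u) (s : J → Bivar.Sq f δX δY) (hopen : ∀ j, IsOpenImmersion (s j).g) (hdisj : ∀ j j' : J, j ≠ j' → Disjoint (Set.range (s j).g.base) (Set.range (s j').g.base)) (hcov : ∀ y : Y, ∃ j, y ∈ Set.range (s j).g.base) : Function.Bijective (fun c : Bivar.Cl p f δX δY => fun j : J => c.res (s j)) := by
  haveI := hopen
  exact Groth.Agent.Bivar12.res_bijective hX hY p s hdisj hcov

end Groth.Agent.S17578
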