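import Groth.Statements.S17582
import Groth.Agent.Lib.RelAmple18.Generated

set_option autoImplicit false
open CategoryTheory CategoryTheory.Limits AlgebraicGeometry
open PosLin

namespace Groth.Agent.S17582

/-- Let X be a projective variety over the complex numbers (an integral scheme, proper over ℂ, with an
ample invertible module), L an invertible O_X-module and p ≥ 1. With Bs(M) the base locus of an
O_X-module M (the points lying in no open X_s over which a global section s : O_X → M is an
isomorphism) and B(L) = ⋂_{m ≥ 1} Bs(L^⊗m) the stable base locus, one has B(L^⊗p) = B(L). -/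
theorem result (X : Scheme.{0}) [X.Over (Spec (CommRingCat.of ℂ))] [IsIntegral X]
    [IsProper (X ↘ Spec (CommRingCat.of ℂ))] (H : X.Modules) (hH : CohB1.IsAmple H)
    (L : X.Modules) (hL : PicF.IsInvertible L) (p : ℕ) (hp : 0 < p) :
    {x : X | ∀ m : ℕ, 0 < m → ∀ s : Coh.structureModule X ⟶ CohB1.tensorPow (CohB1.tensorPow L p) m, x ∉ CohB1.genLocus (CohB1.tensorPow (CohB1.tensorPow L p) m) s} = {x : X | ∀ m : ℕ, 0 < m → ∀ s : Coh.structureModule X ⟶ CohB1.tensorPow L m, x ∉ CohB1.genLocus (CohB1.tensorPow L m) s} := by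
  ext z
  constructor
  · intro hz m hm s hzs
    obtain ⟨k, rfl⟩ := Nat.exists_eq_add_of_le hp
    obtain ⟨t, ht⟩ := ((Groth.Agent.Amp.HasSec.powPow hL ⟨s, rfl⟩ k).of_eq
      (show m * (k + 1) = (0 + 1 + k) * m by ring)).to_tensorPow
    exact hz m hm t (ht.ge hzs)
  · intro hz m hm s hzs
    obtain ⟨t, ht⟩ := Groth.Agent.Amp.HasSec.of_tensorPow (a := p) (n := m) ⟨s, rfl⟩
    exact hz (p * m) (Nat.mul_pos hp hm) t (ht.ge hzs)

end Groth.Agent.S17582
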