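import Groth.Statements.S17586
import Groth.Agent.Lib.NumPoly18.Big
import Groth.Agent.Lib.AmpleFin18.GenCurves

set_option autoImplicit false
open CategoryTheory CategoryTheory.Limits AlgebraicGeometry
open PosLin

open Groth.Agent Filter
namespace Groth.Agent.S17586

/-- Let X be a projective variety over the complex numbers (an integral scheme, proper over ℂ, with an
ample invertible module) of dimension n, and L an invertible O_X-module (the module of a Cartier
divisor D). The following two characterisations of bigness of D are equivalent: (a) for every ample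
invertible O_X-module A there are m > 0 and a monomorphism A → L^⊗m (that is, mD is linearly
equivalent to A plus an effective divisor); (b) there are a constant C > 0 and m₁ such that dim_ℂ
H^0(X, L^⊗m) ≥ C·m^n for all m ≥ m₁. (In the text both are shown equivalent to D having Iitaka
dimension n; this row states their equivalence with each other.) -/
theorem result (X : Scheme.{0}) [X.Over (Spec (CommRingCat.of ℂ))] [IsIntegral X]
    [IsProper (X ↘ Spec (CommRingCat.of ℂ))] (H : X.Modules) (hH : CohB1.IsAmple H)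
    (n : ℕ) (hn : topologicalKrullDim X = n)
    (L : X.Modules) (hL : PicF.IsInvertible L) :
    (∀ A : X.Modules, CohB1.IsAmple A → ∃ (m : ℕ) (φ : A ⟶ CohB1.tensorPow L m), 0 < m ∧ Mono φ) ↔
      ∃ C : ℝ, 0 < C ∧ ∃ m₁ : ℕ, ∀ m : ℕ, m₁ ≤ m →
        C * (m : ℝ) ^ n ≤ (Module.finrank ℂ (Coh.HH X (CohB1.tensorPow L m) 0) : ℝ) := by
  constructor
  · intro h
    obtain ⟨m, φ, hm, hφ⟩ := h H hH
    haveI := hφ
    obtain ⟨C, hC, n₁, hn₁⟩ := NumPoly18.growth_of_mono ℂ hn hH hL hm φ
    refine ⟨(C : ℝ), by exact_mod_cast hC, n₁, fun i hi => ?_⟩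
    have h1 : ((C * (i : ℚ) ^ n : ℚ) : ℝ) ≤
        ((Module.finrank ℂ (Coh.HH X (CohB1.tensorPow L i) 0) : ℚ) : ℝ) := Rat.cast_le.2 (hn₁ i hi)
    push_cast at h1
    exact h1
  · rintro ⟨C, hC, m₁, hm₁⟩ A hA
    obtain ⟨q, hq0, hqC⟩ := exists_rat_btwn hC
    refine NumPoly18.mono_of_growth ℂ hn hA hL (C := q) (Rat.cast_pos.1 hq0) (n₁ := m₁) fun i hi => ?_
    have h1 : ((q * (i : ℚ) ^ n : ℚ) : ℝ) ≤
        ((Module.finrank ℂ (Coh.HH X (CohB1.tensorPow L i) 0) : ℚ) : ℝ) := by
      push_cast
      exact le_trans (mul_le_mul_of_nonneg_right hqC.le (by positivity)) (hm₁ i hi)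
    exact Rat.cast_le.1 h1

end Groth.Agent.S17586
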