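import Groth.Statements.S17587
import Groth.Agent.Lib.NumPoly18.Big
import Groth.Agent.Lib.AmpleFin18.GenCurves

set_option autoImplicit false
open CategoryTheory CategoryTheory.Limits AlgebraicGeometry
open PosLin

open Groth.Agent Filter
namespace Groth.Agent.S17587

/-- Let X be a projective variety over the complex numbers (an integral scheme, proper over ℂ, with an
ample invertible module), and L an invertible O_X-module which is big, bigness being expressed
through the equivalent condition that every ample invertible O_X-module A admits a monomorphism A →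
L^⊗m for some m > 0. Then the exponent of L is 1, that is, H^0(X, L^⊗m) ≠ 0 for every sufficiently
large m. -/
theorem result (X : Scheme.{0}) [X.Over (Spec (CommRingCat.of ℂ))] [IsIntegral X]
    [IsProper (X ↘ Spec (CommRingCat.of ℂ))] (H : X.Modules) (hH : CohB1.IsAmple H)
    (L : X.Modules) (hL : PicF.IsInvertible L)
    (hbig : ∀ A : X.Modules, CohB1.IsAmple A → ∃ (m : ℕ) (φ : A ⟶ CohB1.tensorPow L m), 0 < m ∧ Mono φ) :
    ∃ m₁ : ℕ, ∀ m : ℕ, m₁ ≤ m → Nontrivial (Coh.HH X (CohB1.tensorPow L m) 0) := by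
  haveI : IsNoetherian X := CohFound.isNoetherian_of_isProper (X ↘ Spec (CommRingCat.of ℂ))
  haveI : Nonempty (TopologicalSpace.IrreducibleCloseds X) :=
    ⟨⟨closure {genericPoint X}, isIrreducible_singleton.closure, isClosed_closure⟩⟩
  obtain ⟨N, hN⟩ := Snapper.exists_dim_le ℂ (X := X)
  obtain ⟨d, hd⟩ := AmpleFin18.mem_natCast_or_top (topologicalKrullDim X) N Order.krullDim_nonneg hN
  obtain ⟨m, φ, hm, hφ⟩ := hbig H hH
  haveI := hφ
  obtain ⟨C, hC, n₁, hn₁⟩ := NumPoly18.growth_of_mono ℂ hd hH hL hm φ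
  refine ⟨n₁ + 1, fun i hi => Module.nontrivial_of_finrank_pos (R := ℂ) ?_⟩
  have h1 : (0 : ℚ) < C * (i : ℚ) ^ d := mul_pos hC (pow_pos (Nat.cast_pos.2 (by omega)) d)
  exact_mod_cast lt_of_lt_of_le h1 (hn₁ i (by omega))

end Groth.Agent.S17587
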