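import Groth.Statements.S17588
import Groth.Agent.Lib.NumPoly18.BigNef

set_option autoImplicit false
open CategoryTheory CategoryTheory.Limits AlgebraicGeometry
open PosLin

open Groth.Agent
namespace Groth.Agent.S17588

/-- Let X be a projective variety over the complex numbers (an integral scheme, proper over ℂ, with an
ample invertible module) of dimension n, L an invertible O_X-module which is numerically effective
(its restriction to every integral one-dimensional closed subscheme has non-negative degree), and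
L⁻¹ a tensor inverse of L. Then L is big, bigness being expressed through the equivalent growth
condition dim_ℂ H^0(X, L^⊗m) ≥ C·m^n for some constant C > 0 and all sufficiently large m, if and
only if the self-intersection number (L^n) = ∫ c_1(L)^n · [O_X] (the alternating sum of Euler
characteristics attached to n copies of L⁻¹) is positive. -/
theorem result (X : Scheme.{0}) [X.Over (Spec (CommRingCat.of ℂ))] [IsIntegral X]
    [IsProper (X ↘ Spec (CommRingCat.of ℂ))] (H : X.Modules) (hH : CohB1.IsAmple H)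
    (n : ℕ) (hn : topologicalKrullDim X = n)
    (L Linv : X.Modules) (hL : PicF.IsInvertible L) (hLinv : ClSub.IsInverseOf Linv L)
    (hnef : ∀ (Z : Scheme.{0}) (i : Z ⟶ X) [IsClosedImmersion i], IsIntegral Z → topologicalKrullDim Z = 1 →
      0 ≤ Pic13.curveDeg ℂ (i ≫ (X ↘ Spec (CommRingCat.of ℂ))) ((Scheme.Modules.pullback i).obj L)) :
    (∃ C : ℝ, 0 < C ∧ ∃ m₁ : ℕ, ∀ m : ℕ, m₁ ≤ m →
        C * (m : ℝ) ^ n ≤ (Module.finrank ℂ (Coh.HH X (CohB1.tensorPow L m) 0) : ℝ)) ↔
      0 < FGA.intNum ℂ X n (fun _ : Fin n => Linv) (Coh.structureModule X) := by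
  have hLi : PicF.IsInvertible Linv := M2.isInvertible_of_tensor_iso_unit Linv L hLinv.some
  have hO : Coh.IsCoh (Coh.structureModule X) := by
    haveI : IsNoetherian X := CohFound.isNoetherian_of_isProper (X ↘ Spec (CommRingCat.of ℂ))
    exact M1.isCoh_structureModule X
  have hdim := NumPoly18.dim_support_le hn.le (Coh.structureModule X)
  have he : (FGA.intNum ℂ X n (fun _ : Fin n => Linv) (Coh.structureModule X) : ℚ) =
      NumPoly18.md ℂ (fun _ : Fin n => L) (Coh.structureModule X) := by
    rw [NumPoly18.intNum_eq_mixedDiff hn.le (fun _ => hLi) hO]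
    show (-1 : ℚ) ^ n * NumPoly18.md ℂ (fun _ : Fin n => Linv) (Coh.structureModule X) = _
    rw [NumPoly18.md_const_inverse hL hLi (M2.tensorComm _ _ ≪≫ hLinv.some) hO hdim, ← mul_assoc, ← mul_pow]
    norm_num
  have hnef' := NumPoly18.nef_of_curveDeg (k := ℂ) hL hnef
  rw [← Int.cast_pos (R := ℚ), he]
  constructor
  · rintro ⟨C, hC, m₁, hm₁⟩
    obtain ⟨q, hq0, hqC⟩ := exists_rat_btwn hC
    obtain ⟨m, φ, _, hφ⟩ := NumPoly18.mono_of_growth ℂ hn hH hL (C := q) (Rat.cast_pos.1 hq0) (n₁ := m₁)
      fun i hi => by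
        have h1 : ((q * (i : ℚ) ^ n : ℚ) : ℝ) ≤
            ((Module.finrank ℂ (Coh.HH X (CohB1.tensorPow L i) 0) : ℚ) : ℝ) := by
          push_cast
          exact le_trans (mul_le_mul_of_nonneg_right hqC.le (by positivity)) (hm₁ i hi)
        exact Rat.cast_le.1 h1
    haveI := hφ
    exact NumPoly18.md_pos_of_mono hn hH hL hnef' φ
  · intro h
    obtain ⟨m, φ, hm, hφ⟩ := NumPoly18.exists_mono_of_md_pos hn hH hL hnef' h
    haveI := hφ
    obtain ⟨C, hC, n₁, hn₁⟩ := NumPoly18.growth_of_mono ℂ hn hH hL hm φ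
    refine ⟨(C : ℝ), by exact_mod_cast hC, n₁, fun i hi => ?_⟩
    have h1 : ((C * (i : ℚ) ^ n : ℚ) : ℝ) ≤
        ((Module.finrank ℂ (Coh.HH X (CohB1.tensorPow L i) 0) : ℚ) : ℝ) := Rat.cast_le.2 (hn₁ i hi)
    push_cast at h1
    exact h1

end Groth.Agent.S17588
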