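import Groth.Prelude.Def_Hens2
import Mathlib.RingTheory.Ideal.Over
import Mathlib.RingTheory.Ideal.Quotient.Operations
import Mathlib.RingTheory.Etale.Basic
import Groth.Agent.Lib.Hens.PairApi

set_option autoImplicit false
universe u
namespace Hensel
end Hensel
open Hensel

namespace Groth.Agent.S17592

/-- Let R → S be an étale ring map and I an ideal of R such that the induced map R/I → S/IS is
bijective. Then a Henselization of the pair (S, IS), regarded as an R-algebra, is a Henselization of
the pair (R, I). -/
theorem result (R : Type u) [CommRing R] (I : Ideal R)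
    (S : Type u) [CommRing S] [Algebra R S] [Algebra.Etale R S]
    (hq : Function.Bijective
      (Ideal.quotientMap (I.map (algebraMap R S)) (algebraMap R S) Ideal.le_comap_map))
    (H : Type u) [CommRing H] [Algebra S H] [Algebra R H] [IsScalarTower R S H]
    (hH : Hens2.IsPairHenselization S (I.map (algebraMap R S)) H) :
    Hens2.IsPairHenselization R I H := by
  obtain ⟨σ, hσ⟩ := Hens.exists_point_of_bijective hq
  have hS := Hens.exists_sub_mem_of_ker_eq σ hσ
  refine ⟨?_, fun C _ J f hC hf => ?_⟩
  · have := hH.1
    rwa [Ideal.map_map, ← IsScalarTower.algebraMap_eq] at this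
  let _ := f.toAlgebra
  obtain ⟨φ, -, -⟩ := Hens.existsUnique_algHom_of_point σ hσ hC hf
  have hφ : (I.map (algebraMap R S)).map φ.toRingHom ≤ J := by
    rw [Ideal.map_map]
    exact le_of_eq_of_le (congrArg (fun h => I.map h) φ.comp_algebraMap) hf
  obtain ⟨g, hg, hgu⟩ := hH.2 C J φ.toRingHom hC hφ
  refine ⟨g, ?_, fun g' hg' => hgu g' ?_⟩
  · show g.comp (algebraMap R H) = f
    rw [IsScalarTower.algebraMap_eq R S H, ← RingHom.comp_assoc, hg]
    exact φ.comp_algebraMap
  · show g'.comp (algebraMap S H) = φ.toRingHom
    let g₁ : H →ₐ[R] C := { g' with commutes' := fun r => congr($hg' r) }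
    let g₂ : S →ₐ[R] C := g₁.comp (IsScalarTower.toAlgHom R S H)
    have : g₂ = φ := Hens.algHom_ext_of_le_jacobson hC.jac (Hens.sub_mem_of_map_le hS hf g₂ φ)
    exact congrArg AlgHom.toRingHom this

end Groth.Agent.S17592
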