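import Groth.Prelude.Def_Hens2
import Mathlib.RingTheory.Ideal.Over
import Mathlib.RingTheory.Ideal.Quotient.Operations
import Mathlib.RingTheory.FinitePresentation
import Mathlib.RingTheory.Finiteness.Defs
import Groth.Agent.Lib.HfpH6.FiniteNbhd

set_option autoImplicit false
universe u
open Hensel

namespace Groth.Agent.S17596

/-- Let (A, I) be a Henselian pair and let B be a Henselization of the pair (R, IR) for a finitely
presented A-algebra R (that is, A → B is a Henselian finitely presented map of Henselian pairs). If
the induced map A/I → B/IB is module-finite, then B is module-finite and finitely presented over A. -/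
theorem result (A : Type u) [CommRing A] (I : Ideal A)
    [HenselianRing A I] (R : Type u) [CommRing R] [Algebra A R] [Algebra.FinitePresentation A R]
    (B : Type u) [CommRing B] [Algebra R B] [Algebra A B] [IsScalarTower A R B]
    (hB : Hens2.IsPairHenselization R (I.map (algebraMap A R)) B)
    (hfin : (Ideal.quotientMap (I.map (algebraMap A B)) (algebraMap A B) Ideal.le_comap_map).Finite) :
    Module.Finite A B ∧ Algebra.FinitePresentation A B := by
  exact HfpH6.finite_and_finitePresentation (‹HenselianRing A I›) R B hB hfin

end Groth.Agent.S17596
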