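import Groth.Prelude.Def_Hens2
import Mathlib.RingTheory.Ideal.Over
import Mathlib.RingTheory.Ideal.Quotient.Operations
import Mathlib.RingTheory.FinitePresentation
import Mathlib.RingTheory.Etale.Basic
import Mathlib.RingTheory.Flat.Basic
import Groth.Agent.Lib.Hens.PairApi

set_option autoImplicit false
universe u
namespace Hensel
end Hensel
open Hensel

namespace Groth.Agent.S17602

/-- With converse part: let (A, I) be a Henselian pair, R an étale A-algebra and B a Henselization of
the pair (R, IR), with the induced A-algebra structure (so A → B is h-étale). Then B is flat over A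
and A/I^r → B/I^rB is étale for every r ≥ 1. -/
theorem result (A : Type u) [CommRing A] (I : Ideal A) [HenselianRing A I]
    (R : Type u) [CommRing R] [Algebra A R] [Algebra.Etale A R]
    (B : Type u) [CommRing B] [Algebra R B] [Algebra A B] [IsScalarTower A R B]
    (hB : Hens2.IsPairHenselization R (I.map (algebraMap A R)) B) :
    Module.Flat A B ∧ ∀ r : ℕ, 1 ≤ r → Algebra.Etale (A ⧸ I ^ r) (B ⧸ (I ^ r).map (algebraMap A B)) := by
  have := Hens.IsPairHenselization.flat hB
  refine ⟨Module.Flat.trans A R B, fun r hr => ?_⟩
  have hb := Hens.IsPairHenselization.quotientMap_bijective hB ((I ^ r).map (algebraMap A R))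
    (by rw [Ideal.map_pow, Ideal.radical_pow _ (by omega)]; exact Ideal.le_radical)
  exact Hens.etale_quotient_of_bijective (I ^ r) (Hens.bijective_quotientMap_congr
    (by rw [Ideal.map_map, ← IsScalarTower.algebraMap_eq]) hb)

end Groth.Agent.S17602
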