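import Groth.Prelude.Def_Hens2
import Mathlib.RingTheory.Ideal.Over
import Mathlib.RingTheory.Ideal.Quotient.Operations
import Mathlib.RingTheory.FinitePresentation
import Mathlib.RingTheory.Etale.Basic
import Groth.Agent.Lib.Hens.PairApi

set_option autoImplicit false
universe u
namespace Hensel
end Hensel
open Hensel

namespace Groth.Agent.S17604

/-- Let (A, I) be a Henselian pair, R and R' étale A-algebras, and B, B' Henselizations of the pairs (R,
IR), (R', IR') with their induced A-algebra structures (so B and B' are h-étale over A). Then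
reduction modulo I is a bijection from A-algebra maps B → B' to A-algebra maps B/IB → B'/IB': two
A-algebra maps B → B' that agree modulo IB' are equal, and every A-algebra map B/IB → B'/IB' is
induced by an A-algebra map B → B'. -/
theorem result (A : Type u) [CommRing A]
    (I : Ideal A) [HenselianRing A I]
    (R : Type u) [CommRing R] [Algebra A R] [Algebra.Etale A R]
    (B : Type u) [CommRing B] [Algebra R B] [Algebra A B] [IsScalarTower A R B]
    (hB : Hens2.IsPairHenselization R (I.map (algebraMap A R)) B)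
    (R' : Type u) [CommRing R'] [Algebra A R'] [Algebra.Etale A R']
    (B' : Type u) [CommRing B'] [Algebra R' B'] [Algebra A B'] [IsScalarTower A R' B']
    (hB' : Hens2.IsPairHenselization R' (I.map (algebraMap A R')) B') :
    (∀ φ ψ : B →ₐ[A] B', (∀ b : B, φ b - ψ b ∈ I.map (algebraMap A B')) → φ = ψ) ∧
    ∀ χ : (B ⧸ I.map (algebraMap A B)) →ₐ[A] (B' ⧸ I.map (algebraMap A B')),
      ∃ φ : B →ₐ[A] B', ∀ b : B,
        Ideal.Quotient.mk (I.map (algebraMap A B')) (φ b) = χ (Ideal.Quotient.mk (I.map (algebraMap A B)) b) := by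
  let J := I.map (algebraMap A B')
  have hJ : HenselianRing B' J := by
    have := hB'.1
    rwa [Ideal.map_map, ← IsScalarTower.algebraMap_eq] at this
  let IR := I.map (algebraMap A R)
  have key : ∀ (f : R →ₐ[A] B'), IR.map f.toRingHom ≤ J := fun f => by
    rw [Ideal.map_map]
    exact (congrArg (fun h => I.map h) f.comp_algebraMap).le
  have hext : ∀ φ ψ : B →ₐ[A] B',
      φ.comp (IsScalarTower.toAlgHom A R B) = ψ.comp (IsScalarTower.toAlgHom A R B) → φ = ψ :=
    fun φ ψ h => AlgHom.coe_ringHom_injective ((hB.2 B' J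
      (φ.comp (IsScalarTower.toAlgHom A R B)).toRingHom hJ (key _)).unique rfl
      (congrArg AlgHom.toRingHom h).symm)
  refine ⟨fun φ ψ h => hext φ ψ (Hens.algHom_ext_of_le_jacobson hJ.jac fun x => h _), fun χ => ?_⟩
  let χ₀ : R →ₐ[A] B' ⧸ J := (χ.comp (Ideal.Quotient.mkₐ A _)).comp (IsScalarTower.toAlgHom A R B)
  obtain ⟨f, hf, -⟩ := Hens.existsUnique_algHom_lift hJ χ₀
  obtain ⟨g, hg, -⟩ := hB.2 B' J f.toRingHom hJ (key f)
  have hc : ∀ a, g (algebraMap A B a) = algebraMap A B' a := fun a => by
    rw [IsScalarTower.algebraMap_apply A R B]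
    exact (congr($hg (algebraMap A R a))).trans (f.commutes a)
  let φ : B →ₐ[A] B' := { g with commutes' := hc }
  refine ⟨φ, fun b => ?_⟩
  obtain ⟨r, hr⟩ := Hens.IsPairHenselization.exists_sub_mem hB b
  rw [Ideal.map_map, ← IsScalarTower.algebraMap_eq] at hr
  have hφ : φ (b - algebraMap R B r) ∈ J := by
    have := Ideal.mem_map_of_mem φ.toRingHom hr
    rw [Ideal.map_map] at this
    exact (congrArg (fun h => I.map h) φ.comp_algebraMap).le this
  rw [map_sub, ← Ideal.Quotient.eq] at hφ
  rw [hφ, show φ (algebraMap R B r) = f r from congr($hg r), Ideal.Quotient.eq.mpr hr]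
  exact congr($hf r)

end Groth.Agent.S17604
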