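import Groth.Prelude.Def_Hens2
import Mathlib.RingTheory.Ideal.Over
import Mathlib.RingTheory.Ideal.Quotient.Operations
import Mathlib.RingTheory.FinitePresentation
import Mathlib.RingTheory.Localization.Away.Basic
import Mathlib.RingTheory.Spectrum.Prime.Topology
import Groth.Agent.Lib.Hens.PairApi

set_option autoImplicit false
universe u
namespace Hensel
end Hensel
open Hensel

namespace Groth.Agent.S17605

/-- Let A be a ring with an ideal I and let f₁, f₂ be elements of A such that D(f₂) ∩ V(I) ⊆ D(f₁) ∩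
V(I) in Spec A. If H₁ is a Henselization of the pair (A_{f₁}, IA_{f₁}) and H₂ a Henselization of the
pair (A_{f₂}, IA_{f₂}), with their induced A-algebra structures, then there is exactly one A-algebra
map H₁ → H₂. -/
theorem result (A : Type u) [CommRing A]
    (I : Ideal A) (f₁ f₂ : A)
    (h : (PrimeSpectrum.basicOpen f₂ : Set (PrimeSpectrum A)) ∩ PrimeSpectrum.zeroLocus (I : Set A) ⊆
      (PrimeSpectrum.basicOpen f₁ : Set (PrimeSpectrum A)) ∩ PrimeSpectrum.zeroLocus (I : Set A))
    (H₁ : Type u) [CommRing H₁] [Algebra (Localization.Away f₁) H₁] [Algebra A H₁]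
    [IsScalarTower A (Localization.Away f₁) H₁]
    (hH₁ : Hens2.IsPairHenselization (Localization.Away f₁)
      (I.map (algebraMap A (Localization.Away f₁))) H₁)
    (H₂ : Type u) [CommRing H₂] [Algebra (Localization.Away f₂) H₂] [Algebra A H₂]
    [IsScalarTower A (Localization.Away f₂) H₂]
    (hH₂ : Hens2.IsPairHenselization (Localization.Away f₂)
      (I.map (algebraMap A (Localization.Away f₂))) H₂) :
    Nonempty (H₁ →ₐ[A] H₂) ∧ Subsingleton (H₁ →ₐ[A] H₂) := by
  let L₁ := Localization.Away f₁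
  let J := I.map (algebraMap A H₂)
  have hJ : HenselianRing H₂ J := by
    have := hH₂.1
    rwa [Ideal.map_map, ← IsScalarTower.algebraMap_eq] at this
  have hf₂ : IsUnit (algebraMap A H₂ f₂) := by
    rw [IsScalarTower.algebraMap_apply A (Localization.Away f₂) H₂]
    exact (IsLocalization.Away.algebraMap_isUnit f₂).map _
  have hf₁ : IsUnit (algebraMap A H₂ f₁) := by
    by_contra hn
    obtain ⟨m, hm, hfm⟩ := exists_max_ideal_of_mem_nonunits hn
    let p : PrimeSpectrum A := ⟨m.comap (algebraMap A H₂), Ideal.IsPrime.comap _⟩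
    refine (h (show p ∈ _ from ⟨?_, ?_⟩)).1 hfm
    · exact fun hp => hm.ne_top (m.eq_top_of_isUnit_mem hp hf₂)
    · exact Ideal.map_le_iff_le_comap.mp (hJ.jac.trans (sInf_le ⟨bot_le, hm⟩))
  let u : L₁ →ₐ[A] H₂ := IsLocalization.Away.liftAlgHom f₁ (f := Algebra.ofId A H₂) hf₁
  have hu : (I.map (algebraMap A L₁)).map u.toRingHom ≤ J := by
    rw [Ideal.map_map]
    exact (congrArg (fun h => I.map h) u.comp_algebraMap).le
  obtain ⟨g, hg, hgu⟩ := hH₁.2 H₂ J u.toRingHom hJ hu
  refine ⟨⟨{ g with commutes' := fun a => ?_ }⟩, ⟨fun φ ψ => ?_⟩⟩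
  · show g (algebraMap A H₁ a) = algebraMap A H₂ a
    rw [IsScalarTower.algebraMap_apply A L₁ H₁]
    exact (congr($hg (algebraMap A L₁ a))).trans (u.commutes a)
  · have hloc : ∀ χ : H₁ →ₐ[A] H₂, χ.toRingHom.comp (algebraMap L₁ H₁) = u.toRingHom := fun χ =>
      congrArg AlgHom.toRingHom (IsLocalization.algHom_ext (Submonoid.powers f₁)
        (Subsingleton.elim _ _) : χ.comp (IsScalarTower.toAlgHom A L₁ H₁) = u)
    exact AlgHom.coe_ringHom_injective ((hgu _ (hloc φ)).trans (hgu _ (hloc ψ)).symm)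

end Groth.Agent.S17605
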