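import Groth.Prelude.Def_Hens2
import Mathlib.RingTheory.Ideal.Over
import Mathlib.RingTheory.Ideal.Quotient.Operations
import Mathlib.RingTheory.FinitePresentation
import Mathlib.RingTheory.Smooth.Basic
import Groth.Agent.Lib.HfpH6.Formal

set_option autoImplicit false
universe u
open Hensel

namespace Groth.Agent.S17611

/-- Let (A, I) be a Henselian pair and let B be a Henselization of the pair (R₀, IR₀) for a finitely
presented A-algebra R₀ (so A → B is a Henselian finitely presented map of Henselian pairs). Then A →
B is h-formally smooth, meaning that for all A-algebras E and C annihilated by some power I^N (N ≥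
1), every surjective A-algebra map p : E → C with nilpotent kernel and every A-algebra map u : B →
C, there is an A-algebra map v : B → E with p ∘ v = u, if and only if A/I^r → B/I^rB is smooth for
every r ≥ 1. (Test algebras E, C are taken in the universe of A.) -/
theorem result (A : Type u) [CommRing A] (I : Ideal A)
    [HenselianRing A I] (R₀ : Type u) [CommRing R₀] [Algebra A R₀] [Algebra.FinitePresentation A R₀]
    (B : Type u) [CommRing B] [Algebra R₀ B] [Algebra A B] [IsScalarTower A R₀ B]
    (hB : Hens2.IsPairHenselization R₀ (I.map (algebraMap A R₀)) B) :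
    (∀ (E C : Type u) [CommRing E] [CommRing C] [Algebra A E] [Algebra A C] (N : ℕ), 1 ≤ N →
        (I ^ N).map (algebraMap A E) = ⊥ → (I ^ N).map (algebraMap A C) = ⊥ →
        ∀ (p : E →ₐ[A] C), Function.Surjective p → (∃ M : ℕ, 1 ≤ M ∧ RingHom.ker p ^ M = ⊥) →
        ∀ u : B →ₐ[A] C, ∃ v : B →ₐ[A] E, p.comp v = u) ↔
    ∀ r : ℕ, 1 ≤ r → Algebra.Smooth (A ⧸ I ^ r) (B ⧸ (I ^ r).map (algebraMap A B)) := by
  refine ⟨fun h r hr => ?_, fun het E C _ _ _ _ N hN hE hC p hp ⟨M, _, hM⟩ u => ?_⟩
  · have := HfpH6.finitePresentation_truncation I R₀ hB hr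
    have := HfpH6.formallySmooth_truncation_of_lifts (B := B) (I ^ r) fun E C _ _ _ _ hE hC p hp h2 u =>
      h E C r hr hE hC p hp ⟨2, by norm_num, h2⟩ u
    exact ⟨inferInstance, inferInstance⟩
  · have := het N hN
    exact HfpH6.exists_lift_of_truncations_smooth I (N := N) inferInstance hE hC p hp hM u

end Groth.Agent.S17611
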