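import Groth.Prelude.Def_Hens2
import Mathlib.RingTheory.Ideal.Over
import Mathlib.RingTheory.Ideal.Quotient.Operations
import Mathlib.RingTheory.FinitePresentation
import Mathlib.RingTheory.Flat.Basic
import Groth.Agent.Lib.HfpH6.Nbhd

set_option autoImplicit false
universe u
open Hensel

namespace Groth.Agent.S17615

/-- Let (A, I) be a Henselian pair and let B be a Henselization of the pair (R₀, IR₀) for a finitely
presented A-algebra R₀ (so A → B is a Henselian finitely presented map of Henselian pairs). If B is
flat over A, then there are a finitely presented A-algebra S that is flat over A and an S-algebra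
structure on B compatible with that of A for which B is a Henselization of the pair (S, IS). -/
theorem result (A : Type u) [CommRing A]
    (I : Ideal A) [HenselianRing A I]
    (R₀ : Type u) [CommRing R₀] [Algebra A R₀] [Algebra.FinitePresentation A R₀]
    (B : Type u) [CommRing B] [Algebra R₀ B] [Algebra A B] [IsScalarTower A R₀ B]
    (hB : Hens2.IsPairHenselization R₀ (I.map (algebraMap A R₀)) B) [Module.Flat A B] :
    ∃ (S : Type u) (_ : CommRing S) (_ : Algebra A S) (_ : Algebra S B) (_ : IsScalarTower A S B),
      Algebra.FinitePresentation A S ∧ Module.Flat A S ∧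
      Hens2.IsPairHenselization S (I.map (algebraMap A S)) B := by
  obtain ⟨S, _, _, _, _, _, hbij, hflat⟩ := HfpH6.exists_etale_flat A I R₀
    fun p _ hp => HfpH6.flat_localization_of_flat I R₀ B hB p hp
  obtain ⟨_, _, hSB⟩ := HfpH6.exists_isPairHenselization_nbhd hB S hbij
  rw [Ideal.map_map, ← IsScalarTower.algebraMap_eq] at hSB
  refine ⟨S, inferInstance, inferInstance, inferInstance, IsScalarTower.of_algebraMap_eq fun a => ?_,
    Algebra.FinitePresentation.trans A R₀ S, hflat, hSB⟩
  rw [IsScalarTower.algebraMap_apply A R₀ S, ← IsScalarTower.algebraMap_apply R₀ S B,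
    ← IsScalarTower.algebraMap_apply]

end Groth.Agent.S17615
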