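import Groth.Prelude.Def_Hens2
import Mathlib.RingTheory.Ideal.Over
import Mathlib.RingTheory.Ideal.Quotient.Operations
import Mathlib.RingTheory.FinitePresentation
import Mathlib.RingTheory.Localization.AtPrime.Basic
import Mathlib.LinearAlgebra.TensorProduct.Tower
import Mathlib.Algebra.Exact.Basic
import Groth.Agent.Lib.Hens.PairApi
import Mathlib.RingTheory.Flat.Localization
import Mathlib.RingTheory.Flat.FaithfullyFlat.Algebra
import Mathlib.RingTheory.LocalProperties.Exactness

set_option autoImplicit false
universe u
namespace Hensel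
end Hensel
open Hensel

namespace Groth.Agent.S17617

/-- Let (A, I) be a Henselian pair and let M' → M → M'' be A-linear maps with zero composite. Then M' →
M → M'' is exact if and only if for every prime ideal p of A containing I and every Henselization H
of the pair (A_p, IA_p), the sequence H ⊗_A M' → H ⊗_A M → H ⊗_A M'' is exact. (The modules H ⊗_A M
are the stalks at p of the sheaf associated to M on the affine Henselian scheme of (A, I), and
exactness of a sequence of such sheaves is exactness at every stalk, so this is the statement that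
the sequence of modules is exact exactly when the associated sequence of sheaves is.) -/
theorem result (A : Type u) [CommRing A]
    (I : Ideal A) [HenselianRing A I]
    (M' M M'' : Type u) [AddCommGroup M'] [Module A M'] [AddCommGroup M] [Module A M]
    [AddCommGroup M''] [Module A M''] (f : M' →ₗ[A] M) (g : M →ₗ[A] M'') (hfg : g.comp f = 0) :
    Function.Exact f g ↔
    ∀ (p : Ideal A) [p.IsPrime], I ≤ p →
      ∀ (H : Type u) [CommRing H] [Algebra (Localization.AtPrime p) H] [Algebra A H]
        [IsScalarTower A (Localization.AtPrime p) H],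
        Hens2.IsPairHenselization (Localization.AtPrime p)
          (I.map (algebraMap A (Localization.AtPrime p))) H →
        Function.Exact (f.baseChange H) (g.baseChange H) := by
  refine ⟨fun h p _ hp H _ _ _ _ hH => ?_, fun h => ?_⟩
  · have := Hens.IsPairHenselization.flat hH
    have : Module.Flat A (Localization.AtPrime p) := IsLocalization.flat _ p.primeCompl
    have : Module.Flat A H := Module.Flat.trans A (Localization.AtPrime p) H
    exact Module.Flat.lTensor_exact H h
  refine fun x => ⟨fun hx => ?_, fun ⟨y, hy⟩ => hy ▸ congr($hfg y)⟩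
  let N := M ⧸ LinearMap.range f
  rw [← LinearMap.coe_range, SetLike.mem_coe, ← Submodule.Quotient.mk_eq_zero]
  by_contra hne
  obtain ⟨p, hp, hle⟩ := Ideal.exists_le_maximal (LinearMap.ker (LinearMap.toSpanSingleton A N
    (Submodule.Quotient.mk x))) (fun htop => hne (by
      have h1 : (1 : A) ∈ LinearMap.ker (LinearMap.toSpanSingleton A N (Submodule.Quotient.mk x)) :=
        htop ▸ Submodule.mem_top
      simp at h1
      exact h1))
  have hIp : I ≤ p := (inferInstance : HenselianRing A I).jac.trans (sInf_le ⟨bot_le, hp⟩)
  let L := Localization.AtPrime p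
  let H := Hens.PHs (I.map (algebraMap A L))
  have hH : Hens2.IsPairHenselization L (I.map (algebraMap A L)) H := Hens.PHs.isPairHenselization
  let _ : Algebra A H := ((algebraMap L H).comp (algebraMap A L)).toAlgebra
  have : IsScalarTower A L H := IsScalarTower.of_algebraMap_eq' rfl
  have hff : Module.FaithfullyFlat L H := by
    refine ⟨fun m hm htop => ?_⟩
    rw [Ideal.smul_top_eq_map, Submodule.restrictScalars_eq_top_iff] at htop
    have hIm : I.map (algebraMap A L) ≤ m := by
      rw [IsLocalRing.eq_maximalIdeal hm, ← Localization.AtPrime.map_eq_maximalIdeal]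
      exact Ideal.map_mono hIp
    obtain ⟨g⟩ := Hens.IsPairHenselization.exists_algHom hH (T := L ⧸ m) (J := ⊥)
      Hens.henselianRing_bot (Ideal.map_le_iff_le_comap.mpr fun a ha =>
        Ideal.Quotient.eq_zero_iff_mem.mpr (hIm ha))
    have h1 : (1 : H) ∈ RingHom.ker g := (Ideal.map_le_iff_le_comap.mpr fun a ha => by
      rw [Ideal.mem_comap, RingHom.mem_ker, AlgHom.commutes]
      exact Ideal.Quotient.eq_zero_iff_mem.mpr ha : m.map (algebraMap L H) ≤ RingHom.ker g)
      (htop ▸ Submodule.mem_top)
    rw [RingHom.mem_ker, map_one] at h1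
    exact hm.ne_top (Ideal.Quotient.subsingleton_iff.mp (subsingleton_of_zero_eq_one h1.symm))
  have hex := h p hIp H hH
  obtain ⟨z, hz⟩ := (hex (1 ⊗ₜ x)).mp (by simp [hx])
  have h0 : ((1 : H) ⊗ₜ[A] (Submodule.Quotient.mk x : N)) = 0 := by
    have h2 := congrArg ((Submodule.mkQ (LinearMap.range f)).baseChange H) hz
    rw [LinearMap.baseChange_tmul] at h2
    refine h2.symm.trans ?_
    rw [← LinearMap.comp_apply, ← LinearMap.baseChange_comp, LinearMap.range_mkQ_comp,
      LinearMap.baseChange_zero, LinearMap.zero_apply]
  have hloc : ((1 : L) ⊗ₜ[A] (Submodule.Quotient.mk x : N)) = 0 := by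
    refine (Module.FaithfullyFlat.one_tmul_eq_zero_iff L (TensorProduct A L N) (A := H) _).mp ?_
    apply (TensorProduct.AlgebraTensorModule.cancelBaseChange A L L H N).injective
    simpa using h0
  obtain ⟨⟨c, hc⟩, hcx⟩ := (IsLocalizedModule.eq_zero_iff p.primeCompl
    (TensorProduct.mk A L N 1)).mp hloc
  exact hc (hle (by simpa [LinearMap.mem_ker] using hcx))

end Groth.Agent.S17617
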