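import Groth.Statements.S17619
import Groth.Agent.Lib.Dev4.StrictTransformGeneric
import Mathlib.RingTheory.Filtration
import Mathlib.RingTheory.TensorProduct.DirectLimitFG

set_option autoImplicit false
universe u
open FlatMor
set_option maxSynthPendingDepth 3

set_option backward.isDefEq.respectTransparency.types false

namespace Groth.Agent.S17619



open TensorProduct

/-- Multiplication by an element that is `1` along a section is universally injective. -/
theorem univInj_mul_of_section {A B : Type u} [CommRing A] [CommRing B] [Algebra A B] [Algebra.FinitePresentation A B]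
    [Module.Flat A B] (hfib : FlatCA.GeomIntegralFibres A B) (u : B →ₐ[A] A) (g : B) (hg : u g = 1)
    (Q : Type u) [AddCommGroup Q] [Module A Q] :
    Function.Injective ((LinearMap.mulLeft A g).lTensor Q) := by
  let T : Submonoid B := ⊥
  have hfT : algebraMap A B 1 ∈ T := by rw [map_one]; exact T.one_mem
  have hinj := S1205.univInj_smul hfib T 1 hfT g (fun P hP _ => by
    obtain ⟨h1, h2⟩ := Dev4.isPrime_map_of_geomIntegral hfib P
    refine ⟨_, h1, h2, fun h => hP.ne_top ((Ideal.eq_top_iff_one _).2 ?_)⟩
    have h3 := Ideal.mem_map_of_mem (RingHomClass.toRingHom u) h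
    have he : (RingHomClass.toRingHom u).comp (algebraMap A B) = RingHom.id A := RingHom.ext fun x => u.commutes x
    rw [Ideal.map_map, he, Ideal.map_id] at h3
    exact hg ▸ h3) 1
  let ι : B →ₗ[A] LocalizedModule T (Fin 1 → B) :=
    ((LocalizedModule.mkLinearMap T (Fin 1 → B)).comp (LinearEquiv.funUnique (Fin 1) B B).symm.toLinearMap).restrictScalars A
  have hι : Function.Bijective ι := by
    show Function.Bijective ((LocalizedModule.mkLinearMap T (Fin 1 → B)) ∘ (LinearEquiv.funUnique (Fin 1) B B).symm)
    refine Function.Bijective.comp ⟨fun x y h => ?_, fun x => ?_⟩ (LinearEquiv.funUnique (Fin 1) B B).symm.bijective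
    · obtain ⟨⟨c, hc⟩, hc'⟩ := (IsLocalizedModule.eq_iff_exists T (LocalizedModule.mkLinearMap T (Fin 1 → B))).1 h
      simpa [Submonoid.smul_def, Submonoid.mem_bot.1 hc] using hc'
    · induction x using LocalizedModule.induction_on with | _ m s => ?_
      refine ⟨m, ?_⟩
      rw [LocalizedModule.mkLinearMap_apply, show s = 1 from Subtype.ext (Submonoid.mem_bot.1 s.2)]
  let e := LinearEquiv.ofBijective ι hι
  have hcomm : ((g • LinearMap.id : LocalizedModule T (Fin 1 → B) →ₗ[B] LocalizedModule T (Fin 1 → B)).restrictScalars A).comp ι =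
      ι.comp (LinearMap.mulLeft A g) := by
    refine LinearMap.ext fun x => ?_
    show g • LocalizedModule.mkLinearMap T (Fin 1 → B) ((LinearEquiv.funUnique (Fin 1) B B).symm x) =
      LocalizedModule.mkLinearMap T (Fin 1 → B) ((LinearEquiv.funUnique (Fin 1) B B).symm (g * x))
    rw [← map_smul, ← map_smul, smul_eq_mul]
  intro x y hxy
  have hιQ : Function.Injective (ι.lTensor Q) := (e.lTensor Q).injective
  refine hιQ (hinj Q ?_)
  rw [← LinearMap.lTensor_comp_apply, ← LinearMap.lTensor_comp_apply, hcomm, LinearMap.lTensor_comp_apply,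
    LinearMap.lTensor_comp_apply, hxy]

/-- Elements vanishing modulo every power of the kernel of a section vanish. -/
theorem eq_zero_of_forall_pow {A B : Type u} [CommRing A] [CommRing B] [Algebra A B] [IsNoetherianRing B]
    [Algebra.FinitePresentation A B] [Module.Flat A B] (hfib : FlatCA.GeomIntegralFibres A B) (u : B →ₐ[A] A)
    (Q : Type u) [AddCommGroup Q] [Module A Q] [Module.Finite A Q] (z : Q ⊗[A] B)
    (hz : ∀ n : ℕ, (Submodule.mkQ ((RingHom.ker u ^ n : Ideal B).restrictScalars A)).lTensor Q z = 0) : z = 0 := by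
  let I : Ideal B := RingHom.ker u
  let z' : B ⊗[A] Q := TensorProduct.comm A Q B z
  have hmem : z' ∈ (⨅ i : ℕ, I ^ i • ⊤ : Submodule B (B ⊗[A] Q)) := by
    rw [Submodule.mem_iInf]
    intro i
    let K := ((I ^ i : Ideal B)).restrictScalars A
    obtain ⟨w, hw⟩ := (lTensor_exact Q (LinearMap.exact_subtype_mkQ K) K.mkQ_surjective z).1 (hz i)
    have key : ∀ w : Q ⊗[A] K, TensorProduct.comm A Q B (K.subtype.lTensor Q w) ∈ (I ^ i • ⊤ : Submodule B (B ⊗[A] Q)) := by
      intro w
      induction w using TensorProduct.induction_on with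
      | zero => rw [map_zero, map_zero]; exact zero_mem _
      | add a b ha hb => rw [map_add, map_add]; exact add_mem ha hb
      | tmul q k =>
        rw [LinearMap.lTensor_tmul, TensorProduct.comm_tmul, Submodule.subtype_apply,
          show (k : B) ⊗ₜ[A] q = (k : B) • ((1 : B) ⊗ₜ[A] q) by rw [TensorProduct.smul_tmul', smul_eq_mul, mul_one]]
        exact Submodule.smul_mem_smul k.2 trivial
    have := key w
    rwa [hw] at this
  obtain ⟨⟨r, hr⟩, hrz⟩ := (I.mem_iInf_smul_pow_eq_bot_iff z').1 hmem
  have hg : u (1 - r) = 1 := by rw [map_sub, map_one, RingHom.mem_ker.1 hr, sub_zero]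
  refine univInj_mul_of_section hfib u (1 - r) hg Q ?_
  rw [map_zero]
  apply (TensorProduct.comm A Q B).injective
  rw [map_zero]
  have hcm : ∀ w : Q ⊗[A] B, TensorProduct.comm A Q B ((LinearMap.mulLeft A (1 - r)).lTensor Q w) =
      (1 - r) • TensorProduct.comm A Q B w := fun w => by
    induction w using TensorProduct.induction_on with
    | zero => simp
    | add a b ha hb => simp only [map_add, ha, hb, smul_add]
    | tmul q b => simp [TensorProduct.smul_tmul']
  rw [hcm, sub_smul, one_smul, hrz, sub_self]

/-- Let A be a Noetherian ring and B a smooth A-algebra whose fibres are geometrically integral, and let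
u : B → A be an A-algebra retraction with kernel I (the situation reached, after a faithfully flat
base change, in the proof that flat and pure modules are projective). Let B̂ be the I-adic
completion of B, presented as a B-algebra, compatibly an A-algebra, that is I B̂-adically complete
and for which every truncation B/I^n → B̂/I^n B̂ is bijective. Then the canonical map B → B̂ is
universally injective over A: it remains injective after tensoring over A with any A-module (modules
in the universe of A). -/
theorem result (A : Type u) [CommRing A]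
    [IsNoetherianRing A] (B : Type u) [CommRing B] [Algebra A B] [Algebra.Smooth A B]
    (hfib : FlatCA.GeomIntegralFibres A B) (u : B →ₐ[A] A)
    (Bh : Type u) [CommRing Bh] [Algebra B Bh] [Algebra A Bh] [IsScalarTower A B Bh]
    [IsAdicComplete ((RingHom.ker u).map (algebraMap B Bh)) Bh]
    (hq : ∀ n : ℕ, Function.Bijective (Ideal.quotientMap ((RingHom.ker u ^ n).map (algebraMap B Bh))
      (algebraMap B Bh) Ideal.le_comap_map)) :
    FlatCA.UnivInj A (IsScalarTower.toAlgHom A B Bh).toLinearMap := by
  haveI : IsNoetherianRing B := Algebra.FiniteType.isNoetherianRing A B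
  haveI : Module.Flat A B := inferInstance
  intro Q _ _
  rw [injective_iff_map_eq_zero]
  intro z hz
  obtain ⟨s, hs, hzs⟩ := TensorProduct.exists_finite_submodule_left_of_setFinite {z} (Set.finite_singleton z)
  obtain ⟨z₀, hz₀⟩ := hzs rfl
  haveI := hs
  have hw : LinearMap.rTensor Bh s.subtype ((IsScalarTower.toAlgHom A B Bh).toLinearMap.lTensor s z₀) = 0 := by
    rw [← LinearMap.comp_apply, LinearMap.rTensor_comp_lTensor, ← LinearMap.lTensor_comp_rTensor, LinearMap.comp_apply, hz₀, hz]
  obtain ⟨s', hle, hfg, h0⟩ := TensorProduct.eq_zero_of_fg_of_subtype_eq_zero (Module.Finite.iff_fg.1 hs) hw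
  haveI : Module.Finite A s' := Module.Finite.iff_fg.2 hfg
  have hz₁ : (Submodule.inclusion hle).rTensor B z₀ = 0 := by
    refine eq_zero_of_forall_pow hfib u s' _ fun n => ?_
    let I : Ideal B := RingHom.ker u ^ n
    let q : Bh →ₗ[A] Bh ⧸ I.map (algebraMap B Bh) := (Ideal.Quotient.mkₐ A _).toLinearMap
    let j : (B ⧸ I.restrictScalars A) →ₗ[A] Bh ⧸ I.map (algebraMap B Bh) :=
      (I.restrictScalars A).liftQ (q.comp (IsScalarTower.toAlgHom A B Bh).toLinearMap) fun x hx =>
        Ideal.Quotient.eq_zero_iff_mem.2 (Ideal.mem_map_of_mem _ hx)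
    have hj : Function.Bijective j := by
      have hb := hq n
      constructor
      · intro x y
        obtain ⟨x, rfl⟩ := Submodule.mkQ_surjective _ x
        obtain ⟨y, rfl⟩ := Submodule.mkQ_surjective _ y
        intro hxy
        have := hb.1 (a₁ := Ideal.Quotient.mk I x) (a₂ := Ideal.Quotient.mk I y) hxy
        exact (Submodule.Quotient.eq _).2 (Ideal.Quotient.eq.1 this)
      · intro y
        obtain ⟨x, hx⟩ := hb.2 y
        obtain ⟨x, rfl⟩ := Ideal.Quotient.mk_surjective x
        exact ⟨Submodule.Quotient.mk x, hx⟩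
    refine ((LinearEquiv.ofBijective j hj).lTensor s').injective ?_
    rw [map_zero]
    show (j.lTensor s') _ = 0
    rw [← LinearMap.lTensor_comp_apply, show j.comp (I.restrictScalars A).mkQ = q.comp (IsScalarTower.toAlgHom A B Bh).toLinearMap
      from Submodule.liftQ_mkQ _ _ _, LinearMap.lTensor_comp_apply]
    have : (IsScalarTower.toAlgHom A B Bh).toLinearMap.lTensor s' ((Submodule.inclusion hle).rTensor B z₀) = 0 := by
      rw [← LinearMap.comp_apply, LinearMap.lTensor_comp_rTensor, ← LinearMap.rTensor_comp_lTensor, LinearMap.comp_apply, h0]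
    rw [this, map_zero]
  rw [← hz₀, ← Submodule.subtype_comp_inclusion _ _ hle, LinearMap.rTensor_comp, LinearMap.comp_apply, hz₁, map_zero]

end Groth.Agent.S17619
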