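import Groth.Prelude.Def_Hens2
import Mathlib.RingTheory.LocalRing.RingHom.Basic
import Groth.Agent.Lib.Hens.PairApi

set_option autoImplicit false
universe u
namespace Hensel
end Hensel
open Hensel

namespace Groth.Agent.S17620

/-- Let R be a local ring and J an ideal of R contained in the maximal ideal, let H be a Henselization
of the pair (R, J) which is a local ring with local structure map R → H, and let S be a strict
Henselization of the local ring H. Then S, with its composite R-algebra structure, is a strict
Henselization of the local ring R. (This is the identification of the strict Henselization of the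
local ring of a scheme at a point with that of the local ring of its Henselization along a closed
subscheme through the point.) -/
theorem result
    (R : Type u) [CommRing R] [IsLocalRing R] (J : Ideal R) (hJ : J ≤ IsLocalRing.maximalIdeal R)
    (H : Type u) [CommRing H] [IsLocalRing H] [Algebra R H] [IsLocalHom (algebraMap R H)]
    (hH : Hens2.IsPairHenselization R J H)
    (S : Type u) [CommRing S] [IsLocalRing S] [Algebra H S] [IsLocalHom (algebraMap H S)]
    [Hensel.IsStrictHenselization H S]
    [Algebra R S] [IsScalarTower R H S] [IsLocalHom (algebraMap R S)] :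
    Hensel.IsStrictHenselization R S := by
  have hS := Hensel.IsStrictHenselization.henselian (R := H) (S := S)
  have hmax : ∀ x : H, x ∈ IsLocalRing.maximalIdeal H → ∃ r ∈ IsLocalRing.maximalIdeal R,
      x - algebraMap R H r ∈ J.map (algebraMap R H) := fun x hx => by
    obtain ⟨r, hr⟩ := Hens.IsPairHenselization.exists_sub_mem hH x
    refine ⟨r, ?_, hr⟩
    by_contra hn
    have hru : IsUnit (algebraMap R H r) := (IsLocalRing.notMem_maximalIdeal.mp hn).map _
    exact (IsLocalRing.notMem_maximalIdeal (x := x)).mpr (Hens.isUnit_of_isUnit_mk hH.1.jac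
      (by rw [Ideal.Quotient.eq.mpr hr]; exact hru.map _)) hx
  have hres : ∀ y : IsLocalRing.ResidueField H, ∃ r : R,
      IsLocalRing.residue H (algebraMap R H r) = y := fun y => by
    obtain ⟨x, rfl⟩ := IsLocalRing.residue_surjective y
    obtain ⟨r, hr⟩ := Hens.IsPairHenselization.exists_sub_mem hH x
    refine ⟨r, (Ideal.Quotient.eq.mpr ?_).symm⟩
    exact (hH.1.jac.trans (IsLocalRing.jacobson_eq_maximalIdeal ⊥ bot_ne_top).le) hr
  have hsurj : Function.Surjective
      (algebraMap (IsLocalRing.ResidueField R) (IsLocalRing.ResidueField H)) := fun y => by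
    obtain ⟨r, hr⟩ := hres y
    exact ⟨IsLocalRing.residue R r, hr⟩
  have : IsScalarTower (IsLocalRing.ResidueField R) (IsLocalRing.ResidueField H)
      (IsLocalRing.ResidueField S) := IsScalarTower.of_algebraMap_eq fun x => by
    obtain ⟨r, rfl⟩ := IsLocalRing.residue_surjective x
    show IsLocalRing.residue S (algebraMap R S r) =
      IsLocalRing.residue S (algebraMap H S (algebraMap R H r))
    rw [← IsScalarTower.algebraMap_apply R H S]
  have hSC := Hensel.IsStrictHenselization.isSepClosure (R := H) (S := S)
  refine ⟨hS, ⟨hSC.1, ?_⟩, fun T _ _ f _ τ hτ => ?_⟩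
  · have := hSC.2
    have : Algebra.IsSeparable (IsLocalRing.ResidueField R) (IsLocalRing.ResidueField H) :=
      ⟨fun y => by obtain ⟨z, rfl⟩ := hsurj y; exact isSeparable_algebraMap z⟩
    exact Algebra.IsSeparable.trans (IsLocalRing.ResidueField R) (IsLocalRing.ResidueField H)
      (IsLocalRing.ResidueField S)
  have hT : HenselianRing T (IsLocalRing.maximalIdeal T) :=
    ⟨(IsLocalRing.jacobson_eq_maximalIdeal ⊥ bot_ne_top).ge, fun p hp a₀ h₀ h₁ =>
      HenselianLocalRing.is_henselian p hp a₀ h₀ ((IsLocalRing.notMem_maximalIdeal).mp fun h => by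
        rw [Ideal.Quotient.eq_zero_iff_mem.mpr h, isUnit_zero_iff] at h₁
        exact zero_ne_one h₁)⟩
  have hJT : J.map f ≤ IsLocalRing.maximalIdeal T :=
    (Ideal.map_mono hJ).trans (Ideal.map_le_iff_le_comap.mpr fun r hr =>
      map_nonunit f r hr)
  obtain ⟨g₀, hg₀, hg₀u⟩ := hH.2 T _ f hT hJT
  have : IsLocalHom g₀ := ⟨fun x hx => by
    by_contra hn
    obtain ⟨r, hr, hxr⟩ := hmax x hn
    refine (IsLocalRing.maximalIdeal.isMaximal T).ne_top (Ideal.eq_top_of_isUnit_mem _ ?_ hx)
    have h1 : g₀ (x - algebraMap R H r) ∈ (J.map (algebraMap R H)).map g₀ :=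
      Ideal.mem_map_of_mem g₀ hxr
    rw [Ideal.map_map, hg₀, map_sub, show g₀ (algebraMap R H r) = f r from congr($hg₀ r)] at h1
    have h2 := add_mem (hJT h1) (map_nonunit f r hr)
    rwa [sub_add_cancel] at h2⟩
  obtain ⟨g, ⟨hg, hgτ⟩, hgu⟩ := Hensel.IsStrictHenselization.universal (R := H) (S := S) T g₀ τ (by
    refine RingHom.ext fun y => ?_
    obtain ⟨r, rfl⟩ := hres y
    show τ (IsLocalRing.residue S (algebraMap H S (algebraMap R H r))) =
      IsLocalRing.residue T (g₀ (algebraMap R H r))
    rw [← IsScalarTower.algebraMap_apply R H S, show g₀ (algebraMap R H r) = f r from congr($hg₀ r)]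
    exact congr($hτ (IsLocalRing.residue R r)))
  refine ⟨g, ⟨?_, hgτ⟩, fun g' ⟨h, h'⟩ => hgu g' ⟨hg₀u _ ?_, h'⟩⟩
  · rw [IsScalarTower.algebraMap_eq R H S, ← RingHom.comp_assoc, hg, hg₀]
  · show (g'.comp (algebraMap H S)).comp (algebraMap R H) = f
    rw [RingHom.comp_assoc, ← IsScalarTower.algebraMap_eq, h]

end Groth.Agent.S17620
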