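import Groth.Statements.S17626
import Groth.Agent.Lib.AsympCoh18.Single
import Groth.Agent.Lib.NumPoly18.Big
import Groth.Agent.Lib.NumPoly18.HodgeIndex
-- import your own Groth.Agent.* helpers here

set_option autoImplicit false
set_option linter.style.haveILetI false
set_option backward.isDefEq.respectTransparency.types false
universe u
open CategoryTheory CategoryTheory.Limits AlgebraicGeometry
open Variety

namespace Groth.Agent.S17626

/-- Let X be an integral scheme, proper over an algebraically closed field k of characteristic zero and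
admitting an ample invertible module, of dimension n ≥ 1 (stated in the source over the complex
numbers), and L an invertible O_X-module which is big, in the sense that its volume ĥ^0(X, L) =
limsup_m dim_k H^0(X, L^{⊗m}) · n!/m^n is positive. Then ĥ^n(X, L) = 0. (The published statement
allows n = 0, where it fails: X is then a point, every L is big and ĥ^0(X, L) = 1; the printed
argument uses that L and its inverse cannot both be big, which needs n ≥ 1.) -/
theorem result (k : Type u) [Field k] [IsAlgClosed k] [CharZero k] (X : Scheme.{u})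
    [X.Over (Spec (CommRingCat.of k))] [AlgebraicGeometry.IsIntegral X]
    [IsProper (X ↘ Spec (CommRingCat.of k))] (hproj : ∃ A : X.Modules, CohB1.IsAmple A)
    (n : ℕ) (hn : topologicalKrullDim X = n) (hn1 : 1 ≤ n)
    (L : X.Modules) (hL : PicF.IsInvertible L) (hbig : 0 < W4c5asymptcohfn.hhat k X n 0 L) :
    W4c5asymptcohfn.hhat k X n n L = 0 := by
  obtain ⟨A, hA⟩ := hproj
  haveI : IsNoetherian X := Groth.Agent.CohFound.isNoetherian_of_isProper (X ↘ (Spec (CommRingCat.of k)))
  have hfac : (0 : ℝ) < n.factorial := by positivity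
  -- growth of sections along a sequence
  set c := W4c5asymptcohfn.hhat k X n 0 L with hc
  obtain ⟨q, hq0, hqc⟩ := exists_rat_btwn (div_pos hbig hfac)
  have hfreq : ∀ N : ℕ, ∃ m, N ≤ m ∧ (q : ℚ) * (m : ℚ) ^ n ≤
      (Module.finrank k (Coh.HH X (CohB1.tensorPow L m) 0) : ℚ) := by
    intro N
    by_contra hcon
    push Not at hcon
    have h1 : c ≤ (q : ℝ) * n.factorial := by
      refine Filter.limsup_le_of_le (Filter.isBoundedUnder_of_eventually_ge (a := (0 : ℝ))
        (Filter.Eventually.of_forall fun m => by positivity)).isCoboundedUnder_le ?_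
      filter_upwards [Filter.eventually_ge_atTop N, Filter.eventually_gt_atTop 0] with m hm hm0
      have hm' : (0 : ℝ) < m := by exact_mod_cast hm0
      rw [div_le_iff₀ (pow_pos hm' n)]
      have h2 : (Module.finrank k (Coh.HH X (CohB1.tensorPow L m) 0) : ℝ) ≤ (q : ℝ) * (m : ℝ) ^ n := by
        exact_mod_cast (hcon m hm).le
      nlinarith [mul_le_mul_of_nonneg_right h2 hfac.le]
    rw [lt_div_iff₀ hfac] at hqc
    linarith
  obtain ⟨m₀, φ, hm₀, hφ⟩ := Groth.Agent.NumPoly18.mono_of_growth_freq k hn hA hL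
    (C := q) (by exact_mod_cast hq0) hfreq
  haveI := hφ
  have hP := Groth.Agent.M2.isInvertible_tensorPow hL m₀
  have hQ : Coh.IsCoh (cokernel φ) := Groth.Agent.M1.isCoh_cokernel (Groth.Agent.Snapper.isCoh_of_isInvertible hA.1).1
      (Groth.Agent.Snapper.isCoh_of_isInvertible hP) φ
  let S : ShortComplex X.Modules := ShortComplex.mk φ (cokernel.π φ) (cokernel.condition _)
  have hS : S.ShortExact := { exact := ShortComplex.exact_cokernel φ }
  have hη : genericPoint X ∉ CohB1.support (cokernel φ) := (Groth.Agent.M1.notMem_support_iff _ _).2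
    (Groth.Agent.CurveCoh17.eq_zero_stalk_cokernel _ _ (Groth.Agent.CurveCoh17.surjective_stalkLin_genericPoint
      (Groth.Agent.CurveCoh17.nonempty_stalk_equiv ((Groth.Agent.M2.isInvertible_iff_isFinLocFreeOfRank_one _).1 hA.1) _)
      (Groth.Agent.CurveCoh17.nonempty_stalk_equiv ((Groth.Agent.M2.isInvertible_iff_isFinLocFreeOfRank_one _).1 hP) _) _
      ((Groth.Agent.M1.mono_iff_stalk φ).1 hφ _)))
  obtain ⟨e, rfl⟩ := Nat.exists_eq_add_of_le' hn1
  have step : ∀ j r : ℕ,
      Groth.Agent.Growth13.hdim k (CohB1.tensorMod (CohB1.tensorPow A j) (CohB1.tensorPow L (m₀ + r))) (e + 1) ≤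
        Groth.Agent.Growth13.hdim k (CohB1.tensorMod (CohB1.tensorPow A (j + 1)) (CohB1.tensorPow L r)) (e + 1) := by
    intro j r
    let T := CohB1.tensorMod (CohB1.tensorPow A j) (CohB1.tensorPow L r)
    have hT : PicF.IsInvertible T := Groth.Agent.M2.isInvertible_tensor (Groth.Agent.M2.isInvertible_tensorPow hA.1 j)
      (Groth.Agent.M2.isInvertible_tensorPow hL r)
    have h := Groth.Agent.Growth13.hdim_mid_tensor_le (k := k) hS (Groth.Agent.Snapper.isCoh_of_isInvertible hA.1)
      (Groth.Agent.Snapper.isCoh_of_isInvertible hP) hQ hT (e + 1)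
    have hK : Coh.IsCoh (CohB1.tensorMod (cokernel φ) T) :=
      Groth.Agent.CurveCoh17.isCoh_tensor hQ (Groth.Agent.Snapper.isCoh_of_isInvertible hT)
    haveI := Groth.Agent.NumPoly18.subsingleton_HH_of_support (k := k) hK (d := e)
      (Groth.Agent.Snapper.le_of_lt_natCast_succ (Groth.Agent.AsympCoh18.dim_lt hn.le
        (Groth.Agent.M1.isClosed_support hK.2) fun hx => hη (Groth.Agent.Snapper.support_tensor_subset _ _ hx)))
      (Nat.lt_succ_self e)
    have h0 : Groth.Agent.Growth13.hdim k (CohB1.tensorMod S.X₃ T) (e + 1) = 0 := Module.finrank_zero_of_subsingleton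
    rw [h0, Nat.add_zero] at h
    rw [← Groth.Agent.Growth13.hdim_iso k (show CohB1.tensorMod S.X₂ T ≅
        CohB1.tensorMod (CohB1.tensorPow A j) (CohB1.tensorPow L (m₀ + r)) from
      (Groth.Agent.M2.tensorAssoc _ _ _).symm ≪≫ Groth.Agent.M2.tensorIso (Groth.Agent.M2.tensorComm _ _) (Iso.refl _) ≪≫
        Groth.Agent.M2.tensorAssoc _ _ _ ≪≫
        Groth.Agent.M2.tensorIso (Iso.refl _) (Groth.Agent.M2.tensorPowAdd L m₀ r).symm) (e + 1),
      ← Groth.Agent.Growth13.hdim_iso k (show CohB1.tensorMod S.X₁ T ≅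
        CohB1.tensorMod (CohB1.tensorPow A (j + 1)) (CohB1.tensorPow L r) from
      (Groth.Agent.M2.tensorAssoc _ _ _).symm ≪≫
        Groth.Agent.M2.tensorIso (Groth.Agent.M2.tensorComm _ _) (Iso.refl _)) (e + 1)]
    exact h
  have iter : ∀ t j r : ℕ,
      Groth.Agent.Growth13.hdim k (CohB1.tensorMod (CohB1.tensorPow A j) (CohB1.tensorPow L (t * m₀ + r))) (e + 1) ≤
        Groth.Agent.Growth13.hdim k (CohB1.tensorMod (CohB1.tensorPow A (j + t)) (CohB1.tensorPow L r)) (e + 1) := by
    intro t
    induction t with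
    | zero => intro j r; simp
    | succ t ih =>
      intro j r
      rw [show (t + 1) * m₀ + r = m₀ + (t * m₀ + r) by ring, show j + (t + 1) = j + 1 + t by omega]
      exact (step j _).trans (ih (j + 1) r)
  choose J hJ using fun r : Fin m₀ => Groth.Agent.CohFound.exists_vanishing_all (X ↘ Spec (CommRingCat.of k)) hA
    (Groth.Agent.Snapper.isCoh_of_isInvertible (Groth.Agent.M2.isInvertible_tensorPow hL r))
  have hzero : ∀ m, (Finset.univ.sup J + 1) * m₀ ≤ m →
      Module.finrank k (Coh.HH X (CohB1.tensorPow L m) (e + 1)) = 0 := by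
    intro m hm
    have hr : m % m₀ < m₀ := Nat.mod_lt _ hm₀
    have ht : J ⟨m % m₀, hr⟩ ≤ m / m₀ := by
      refine (Finset.le_sup (Finset.mem_univ _)).trans ((Nat.le_div_iff_mul_le hm₀).2 (le_trans ?_ hm))
      exact Nat.mul_le_mul_right _ (Nat.le_succ _)
    haveI : Subsingleton (Coh.HH X (CohB1.tensorMod (CohB1.tensorPow L (m % m₀)) (CohB1.tensorPow A (m / m₀))) (e + 1)) :=
      (Groth.Agent.CohFound.subsingleton_HH_iff _ _).2 (hJ ⟨m % m₀, hr⟩ _ ht _ (Nat.succ_pos e))
    have h := iter (m / m₀) 0 (m % m₀)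
    rw [Nat.div_add_mod', Nat.zero_add,
      Groth.Agent.Growth13.hdim_iso k (Groth.Agent.M2.tensorComm (CohB1.tensorPow A (m / m₀)) _) (e + 1)] at h
    exact Nat.le_zero.1 (((Groth.Agent.Growth13.hdim_iso k (Groth.Agent.M2.tensorLUnit (CohB1.tensorPow L m)) (e + 1)).symm.trans_le
      h).trans (Module.finrank_zero_of_subsingleton).le)
  refine (Filter.limsup_congr ?_).trans (Filter.limsup_const (0 : ℝ))
  filter_upwards [Filter.eventually_ge_atTop ((Finset.univ.sup J + 1) * m₀)] with m hm
  rw [hzero m hm, Nat.cast_zero, zero_mul, zero_div]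


end Groth.Agent.S17626
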