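import Groth.Statements.S17632
import Groth.Agent.Lib.AsympCoh18.Single
-- import your own Groth.Agent.* helpers here

set_option autoImplicit false
set_option linter.style.haveILetI false
set_option backward.isDefEq.respectTransparency.types false
universe u
open CategoryTheory CategoryTheory.Limits AlgebraicGeometry
open Variety

namespace Groth.Agent.S17632

/-- Let X be an integral scheme, proper over an uncountable algebraically closed field k of
characteristic zero and admitting an ample invertible module, of dimension n (stated in the source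
over the complex numbers), L an invertible O_X-module and A an ample invertible O_X-module with
inverse A', i.e. A ⊗ A' ≅ O_X. Then for every i ≥ 0, (ĥ^i(X, L^{⊗p} ⊗ A') − ĥ^i(X, L^{⊗p})) / p^n
tends to 0 as p → ∞, where ĥ^i(X, M) = limsup_m dim_k H^i(X, M^{⊗m}) · n!/m^n. -/
theorem result (k : Type u) [Field k] [IsAlgClosed k] [CharZero k] [Uncountable k] (X : Scheme.{u})
    [X.Over (Spec (CommRingCat.of k))] [AlgebraicGeometry.IsIntegral X]
    [IsProper (X ↘ Spec (CommRingCat.of k))] (hproj : ∃ A : X.Modules, CohB1.IsAmple A)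
    (n : ℕ) (hn : topologicalKrullDim X = n)
    (L : X.Modules) (hL : PicF.IsInvertible L) (A A' : X.Modules) (hA : CohB1.IsAmple A)
    (hA' : ClSub.IsInverseOf A A') (i : ℕ) :
    Filter.Tendsto (fun p : ℕ =>
        (W4c5asymptcohfn.hhat k X n i (CohB1.tensorMod (CohB1.tensorPow L p) A') -
          W4c5asymptcohfn.hhat k X n i (CohB1.tensorPow L p)) / (p : ℝ) ^ n)
      Filter.atTop (nhds 0) := by
  have hA'inv := Groth.Agent.AsympCoh18.isInvertible_of_inverse hA.1 hA'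
  obtain ⟨L', -, ⟨eL⟩⟩ := Groth.Agent.M2.exists_inverse hL
  obtain ⟨eA⟩ := hA'
  let Ls : Fin 2 → X.Modules := ![L, A']
  let Ms : Fin 2 → X.Modules := ![L', A]
  have hLs : ∀ j, PicF.IsInvertible (Ls j) := Fin.forall_fin_two.2 ⟨hL, hA'inv⟩
  have hMs : ∀ j, ClSub.IsInverseOf (Ls j) (Ms j) :=
    Fin.forall_fin_two.2 ⟨⟨eL⟩, ⟨Groth.Agent.M2.tensorComm _ _ ≪≫ eA⟩⟩
  obtain ⟨D, hD0, hD⟩ := Groth.Agent.AsympCoh18.exists_hhat_lipschitz (k := k) hLs hMs hn.le
  refine squeeze_zero_norm (fun p => ?_) (Groth.Agent.AsympCoh18.tendsto_err n D hD0 3)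
  let b : ℕ → Fin 2 → ℕ := fun q => ![p, q]
  have e : ∀ q, Nonempty (W4c5asymptcohfn.ztwist X Ls Ms (fun j => (b q j : ℤ)) ≅
      CohB1.tensorMod (CohB1.tensorPow L p) (CohB1.tensorPow A' q)) := fun q => by
    obtain ⟨e⟩ := Groth.Agent.AsympCoh18.ztwist_natCast (L := Ls) (M := Ms) (b q)
    exact ⟨e ≪≫ Groth.Agent.M2.tensorIso (Iso.refl _) (Groth.Agent.M2.tensorRUnit _)⟩
  obtain ⟨e1⟩ := e 1
  obtain ⟨e0⟩ := e 0
  rw [← Groth.Agent.AsympCoh18.hhat_congr (e1 ≪≫ Groth.Agent.M2.tensorIso (Iso.refl _) (Groth.Agent.M2.tensorPowOne A')) n i,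
    ← Groth.Agent.AsympCoh18.hhat_congr (e0 ≪≫ Groth.Agent.M2.tensorRUnit _) n i, norm_div, norm_pow,
    Real.norm_eq_abs, Real.norm_eq_abs, Nat.abs_cast p]
  refine div_le_div_of_nonneg_right ((hD i _ _).trans ?_) (by positivity)
  have h1 : Groth.Agent.Growth13.wt ((fun j => (b 0 j : ℤ)) - fun j => (b 1 j : ℤ)) = 1 := by
    simp [Groth.Agent.Growth13.wt, b, Fin.sum_univ_two]
  have h2 : Groth.Agent.Growth13.wt (fun j => (b 1 j : ℤ)) = p + 1 := by
    simp [Groth.Agent.Growth13.wt, b, Fin.sum_univ_two]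
  rw [h1, h2]
  have hf : (1 : ℝ) ≤ n.factorial := by exact_mod_cast Nat.one_le_iff_ne_zero.2 n.factorial_ne_zero
  rcases n with _ | e
  · simp [hD0 rfl]
  have h3 : ((p + 1 + 1 + 1 : ℕ) : ℝ) ^ e ≤ ((p : ℝ) + 3) ^ e :=
    pow_le_pow_left₀ (by positivity) (le_of_eq (by push_cast; ring)) _
  have h4 : ((p : ℝ) + 3) ^ e ≤ ((p : ℝ) + 3) ^ e * ((e + 1).factorial : ℝ) :=
    le_mul_of_one_le_right (by positivity) hf
  rw [Nat.add_sub_cancel, Nat.cast_one, mul_one]
  have h5 := mul_le_mul_of_nonneg_left (h3.trans h4) (Nat.cast_nonneg (α := ℝ) D)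
  rw [← mul_assoc] at h5
  push_cast at h5 ⊢
  exact h5


end Groth.Agent.S17632
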