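import Groth.Statements.S17633
import Groth.Agent.Lib.AsympCoh18.Single
-- import your own Groth.Agent.* helpers here

set_option autoImplicit false
set_option linter.style.haveILetI false
set_option backward.isDefEq.respectTransparency.types false
universe u
open CategoryTheory CategoryTheory.Limits AlgebraicGeometry
open Variety

namespace Groth.Agent.S17633

/-- Let X be an integral scheme, proper over an uncountable algebraically closed field k of
characteristic zero and admitting an ample invertible module, of dimension n (the published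
statement is over the complex numbers), and let L_1, …, L_r be invertible O_X-modules with inverses
M_1, …, M_r. For a ∈ ℤ^r write L^a = ⊗_j L_j^{a_j} (negative powers taken through the M_j) and ‖a‖ =
max_j |a_j|. Then for every i (the published statement takes 0 ≤ i ≤ n; for i > n both sides vanish)
there is a constant C such that for all a, b ∈ ℤ^r, |ĥ^i(X, L^a) − ĥ^i(X, L^b)| ≤ C · Σ_{q=1}^{n}
max(‖a‖, ‖b‖)^{n−q} · ‖a − b‖^q, where ĥ^i(X, L) = limsup_m dim_k H^i(X, L^{⊗m}) · n!/m^n. (The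
published statement gives this Lipschitz-type estimate for ĥ^i as a function on the rational
Néron–Severi space with any fixed norm, together with its homogeneity of degree n; restricted to the
classes spanned by L_1, …, L_r with the maximum norm on coordinates it reads as here.) -/
theorem result (k : Type u) [Field k] [IsAlgClosed k] [CharZero k] [Uncountable k] (X : Scheme.{u})
    [X.Over (Spec (CommRingCat.of k))] [AlgebraicGeometry.IsIntegral X]
    [IsProper (X ↘ Spec (CommRingCat.of k))] (hproj : ∃ A : X.Modules, CohB1.IsAmple A)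
    (n : ℕ) (hn : topologicalKrullDim X = n)
    (r : ℕ) (L M : Fin r → X.Modules) (hL : ∀ j, PicF.IsInvertible (L j))
    (hM : ∀ j, ClSub.IsInverseOf (L j) (M j)) (i : ℕ) :
    ∃ C : ℝ, ∀ a b : Fin r → ℤ,
      |W4c5asymptcohfn.hhat k X n i (W4c5asymptcohfn.ztwist X L M a) -
          W4c5asymptcohfn.hhat k X n i (W4c5asymptcohfn.ztwist X L M b)| ≤
        C * (Finset.Icc 1 n).sum (fun q =>
          (max ‖(fun j => ((a j : ℤ) : ℝ))‖ ‖(fun j => ((b j : ℤ) : ℝ))‖) ^ (n - q) *
            ‖(fun j => ((a j - b j : ℤ) : ℝ))‖ ^ q) := by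
  obtain ⟨D, hD0, hD⟩ := Groth.Agent.AsympCoh18.exists_hhat_lipschitz (k := k) hL hM hn.le
  refine ⟨(D : ℝ) * r * ((3 * r + 2 : ℕ) : ℝ) ^ (n - 1), fun a b => ?_⟩
  refine (hD i a b).trans ?_
  rcases n with _ | e
  · simp [hD0 rfl]
  set P := max ‖(fun j => ((a j : ℤ) : ℝ))‖ ‖(fun j => ((b j : ℤ) : ℝ))‖ with hP
  set N := ‖(fun j => ((a j - b j : ℤ) : ℝ))‖ with hN
  have hwt : ∀ c : Fin r → ℤ, (Groth.Agent.Growth13.wt c : ℝ) ≤ r * ‖(fun j => ((c j : ℤ) : ℝ))‖ := fun c => by
    simp only [Groth.Agent.Growth13.wt, Nat.cast_sum]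
    refine (Finset.sum_le_card_nsmul _ _ _ fun j _ => ?_).trans_eq (by rw [Finset.card_univ, Fintype.card_fin, nsmul_eq_mul])
    rw [Nat.cast_natAbs, Int.cast_abs]
    exact (Real.norm_eq_abs _).symm.trans_le (norm_le_pi_norm (fun j => ((c j : ℤ) : ℝ)) j)
  have hδ : (Groth.Agent.Growth13.wt (b - a) : ℝ) ≤ r * N := by
    refine (hwt _).trans_eq ?_
    rw [hN, ← norm_neg]
    congr 2
    funext j
    simp
  have hN2 : N ≤ 2 * P := by
    refine le_trans (le_of_eq ?_) ((norm_sub_le _ _).trans (le_trans (add_le_add (le_max_left _ _) (le_max_right _ _))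
      (le_of_eq (two_mul P).symm)))
    rw [hN]
    congr 1
    funext j
    simp
  have hN0 : 0 ≤ N := norm_nonneg _
  have hP0 : 0 ≤ P := le_max_of_le_left (norm_nonneg _)
  have hsum : P ^ e * N ≤ (Finset.Icc 1 (e + 1)).sum (fun q => P ^ (e + 1 - q) * N ^ q) := by
    refine le_trans (le_of_eq ?_) (Finset.single_le_sum (f := fun q => P ^ (e + 1 - q) * N ^ q)
      (fun q _ => by positivity) (Finset.mem_Icc.2 ⟨le_rfl, Nat.succ_le_succ (Nat.zero_le e)⟩))
    simp
  rcases Nat.eq_zero_or_pos (Groth.Agent.Growth13.wt (b - a)) with h0 | hpos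
  · rw [h0, Nat.cast_zero, mul_zero, zero_mul]
    positivity
  have h1 : (1 : ℝ) ≤ 2 * P := by
    obtain ⟨j, -, hj⟩ := Finset.exists_ne_zero_of_sum_ne_zero hpos.ne'
    refine le_trans (le_trans ?_ (norm_le_pi_norm (fun j => ((a j - b j : ℤ) : ℝ)) j)) hN2
    simp only [Pi.sub_apply, ne_eq, Int.natAbs_eq_zero] at hj
    rw [Real.norm_eq_abs, ← Int.cast_abs]
    exact_mod_cast Int.one_le_abs (by omega)
  rw [Nat.add_sub_cancel]
  have hbase : ((Groth.Agent.Growth13.wt a + Groth.Agent.Growth13.wt (b - a) + 1 : ℕ) : ℝ) ≤ ((3 * r + 2 : ℕ) : ℝ) * P := by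
    have h2 := (hwt a).trans (mul_le_mul_of_nonneg_left (le_max_left _ ‖(fun j => ((b j : ℤ) : ℝ))‖) (Nat.cast_nonneg r))
    have h3 := hδ.trans (mul_le_mul_of_nonneg_left hN2 (Nat.cast_nonneg r))
    rw [← hP] at h2
    push_cast
    linarith
  calc (D : ℝ) * Groth.Agent.Growth13.wt (b - a) *
        ((Groth.Agent.Growth13.wt a + Groth.Agent.Growth13.wt (b - a) + 1 : ℕ) : ℝ) ^ e
      ≤ (D : ℝ) * (r * N) * (((3 * r + 2 : ℕ) : ℝ) * P) ^ e := by gcongr
    _ = (D : ℝ) * r * ((3 * r + 2 : ℕ) : ℝ) ^ e * (P ^ e * N) := by rw [mul_pow]; ring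
    _ ≤ _ := by gcongr


end Groth.Agent.S17633
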