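import Groth.Statements.S17634
import Groth.Agent.S17633
-- import your own Groth.Agent.* helpers here

set_option autoImplicit false
set_option linter.style.haveILetI false
set_option backward.isDefEq.respectTransparency.types false
universe u
open CategoryTheory CategoryTheory.Limits AlgebraicGeometry
open Variety

namespace Groth.Agent.S17634

/-- Let X be an integral scheme, proper over an uncountable algebraically closed field k of
characteristic zero and admitting an ample invertible module, of dimension n (stated in the source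
over the complex numbers), and L_1, …, L_r invertible O_X-modules with inverses M_1, …, M_r; for a ∈
ℤ^r write L^a = ⊗_j L_j^{a_j} (negative powers through the M_j) and ‖a‖ = max_j |a_j|. Then for
every i there is a constant C with ĥ^i(X, L^a) ≤ C · ‖a‖^n for all a ∈ ℤ^r, where ĥ^i(X, L) =
limsup_m dim_k H^i(X, L^{⊗m}) · n!/m^n. (The source states the bound for all real classes in the
Néron–Severi space with any fixed norm.) -/
theorem result (k : Type u) [Field k] [IsAlgClosed k] [CharZero k] [Uncountable k] (X : Scheme.{u})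
    [X.Over (Spec (CommRingCat.of k))] [AlgebraicGeometry.IsIntegral X]
    [IsProper (X ↘ Spec (CommRingCat.of k))] (hproj : ∃ A : X.Modules, CohB1.IsAmple A)
    (n : ℕ) (hn : topologicalKrullDim X = n)
    (r : ℕ) (L M : Fin r → X.Modules) (hL : ∀ j, PicF.IsInvertible (L j))
    (hM : ∀ j, ClSub.IsInverseOf (L j) (M j)) (i : ℕ) :
    ∃ C : ℝ, ∀ a : Fin r → ℤ,
      W4c5asymptcohfn.hhat k X n i (W4c5asymptcohfn.ztwist X L M a) ≤
        C * ‖(fun j => ((a j : ℤ) : ℝ))‖ ^ n := by
  obtain ⟨C, hC⟩ := Groth.Agent.S17633.result k X hproj n hn r L M hL hM i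
  rcases n with _ | e
  · refine ⟨W4c5asymptcohfn.hhat k X 0 i (W4c5asymptcohfn.ztwist X L M 0), fun a => ?_⟩
    have h := hC a 0
    simp only [Finset.Icc_eq_empty_of_lt zero_lt_one, Finset.sum_empty, mul_zero, abs_nonpos_iff, sub_eq_zero] at h
    rw [h, pow_zero, mul_one]
  have h0 : W4c5asymptcohfn.hhat k X (e + 1) i (W4c5asymptcohfn.ztwist X L M 0) = 0 := by
    obtain ⟨e0⟩ := Groth.Agent.AsympCoh18.ztwist_zero (L := L) (M := M)
    rw [Groth.Agent.AsympCoh18.hhat_congr e0]
    obtain ⟨C₀, hC₀⟩ := Groth.Agent.Growth13.exists_hdim_bound k (Groth.Agent.M1.isCoh_structureModule X)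
    refine Filter.Tendsto.limsup_eq (squeeze_zero (fun m => by positivity) (fun m => ?_)
      (Groth.Agent.AsympCoh18.tendsto_err (e + 1) C₀ (fun h => absurd h (Nat.succ_ne_zero e)) 1))
    obtain ⟨e1⟩ := Groth.Agent.Snapper.nonempty_tensorPow_unit (X := X) m
    rw [(Groth.Agent.CurveCoh17.hequiv k e1 i).finrank_eq, Nat.add_sub_cancel]
    gcongr
    refine le_trans ?_ (le_mul_of_one_le_right (Nat.cast_nonneg C₀) (one_le_pow₀ (by
      have : (0 : ℝ) ≤ (m : ℝ) := Nat.cast_nonneg m
      push_cast; linarith)))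
    exact_mod_cast hC₀ i
  refine ⟨C * (Finset.Icc 1 (e + 1)).card, fun a => ?_⟩
  have h := hC a 0
  rw [h0, sub_zero] at h
  refine (le_abs_self _).trans (h.trans_eq ?_)
  simp only [Pi.zero_apply, sub_zero, Int.cast_zero]
  rw [show (fun _ : Fin r => (0 : ℝ)) = 0 from rfl, norm_zero, max_eq_left (norm_nonneg _),
    Finset.sum_congr rfl fun q hq => by rw [← pow_add, Nat.sub_add_cancel (Finset.mem_Icc.1 hq).2],
    Finset.sum_const, nsmul_eq_mul]
  ring


end Groth.Agent.S17634
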