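import Groth.Statements.S17635
import Mathlib.Tactic.Linarith
import Mathlib.Tactic.Positivity
import Mathlib.Tactic.Ring
import Mathlib.Analysis.Normed.Module.Basic
import Mathlib.Data.Rat.Lemmas

set_option autoImplicit false
open Finset
open Variety

namespace Groth.Agent.S17635

/-- Let r and n be natural numbers and f : ℚ^r → ℝ a nonnegative function which is homogeneous of degree
n for positive rational scalars, f(q · v) = q^n · f(v) for q > 0; give ℚ^r the maximum norm ‖v‖ =
max_j |v_j| of its standard basis. Suppose that for every standard basis vector e_i there is a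
constant C_i with |f(v − b · e_i) − f(v)| ≤ C_i · Σ_{q=1}^{n} ‖v‖^{n−q} · b^q for all v ∈ ℚ^r and
all integers b ≥ 1. Then there is a constant C > 0 such that |f(v) − f(w)| ≤ C · Σ_{q=1}^{n}
max(‖v‖, ‖w‖)^{n−q} · ‖v − w‖^q for all v, w ∈ ℚ^r. (The source allows any norm on an r-dimensional
rational vector space with a chosen basis and argues with the maximum norm of that basis, which is
the case stated here.) -/
theorem result (r n : ℕ) (f : (Fin r → ℚ) → ℝ)
    (hf0 : ∀ v, 0 ≤ f v)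
    (hhom : ∀ (q : ℚ) (v : Fin r → ℚ), 0 < q → f (q • v) = (q : ℝ) ^ n * f v)
    (hdir : ∀ i : Fin r, ∃ Ci : ℝ, ∀ (v : Fin r → ℚ) (b : ℕ), 1 ≤ b →
      |f (v - (b : ℚ) • Pi.single i 1) - f v| ≤
        Ci * (Finset.Icc 1 n).sum (fun q => ‖(fun j => ((v j : ℚ) : ℝ))‖ ^ (n - q) * (b : ℝ) ^ q)) :
    ∃ C : ℝ, 0 < C ∧ ∀ v w : Fin r → ℚ,
      |f v - f w| ≤ C * (Finset.Icc 1 n).sum (fun q =>
        (max ‖(fun j => ((v j : ℚ) : ℝ))‖ ‖(fun j => ((w j : ℚ) : ℝ))‖) ^ (n - q) *
          ‖(fun j => ((v j - w j : ℚ) : ℝ))‖ ^ q) := by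
  classical
  choose Ci hCi using hdir
  refine ⟨1 + ∑ i, |Ci i|, add_pos_of_pos_of_nonneg one_pos (Finset.sum_nonneg fun i _ => abs_nonneg _), fun v w => ?_⟩
  -- the integral case
  have hint : ∀ v w : Fin r → ℚ, (∀ i, ∃ m : ℤ, v i - w i = m) →
      |f v - f w| ≤ (1 + ∑ i, |Ci i|) * (Finset.Icc 1 n).sum (fun q =>
        (max ‖(fun j => ((v j : ℚ) : ℝ))‖ ‖(fun j => ((w j : ℚ) : ℝ))‖) ^ (n - q) *
          ‖(fun j => ((v j - w j : ℚ) : ℝ))‖ ^ q) := by
    intro v w hvw
    set M := max ‖(fun j => ((v j : ℚ) : ℝ))‖ ‖(fun j => ((w j : ℚ) : ℝ))‖ with hM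
    set N := ‖(fun j => ((v j - w j : ℚ) : ℝ))‖ with hN
    set T := (Finset.Icc 1 n).sum (fun q => M ^ (n - q) * N ^ q) with hT
    have hM0 : 0 ≤ M := le_max_of_le_left (norm_nonneg _)
    have hN0 : 0 ≤ N := norm_nonneg _
    have hT0 : 0 ≤ T := Finset.sum_nonneg fun q _ => by positivity
    have hpos : ∀ (i : Fin r) (u : Fin r → ℚ) (b : ℕ), ‖(fun j => ((u j : ℚ) : ℝ))‖ ≤ M → (b : ℝ) ≤ N →
        |f (u - (b : ℚ) • Pi.single i 1) - f u| ≤ |Ci i| * T := by
      intro i u b hu hb
      rcases Nat.eq_zero_or_pos b with hb0 | hb1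
      · simp [hb0]; positivity
      refine (hCi i u b hb1).trans (le_trans (mul_le_mul_of_nonneg_right (le_abs_self _)
        (Finset.sum_nonneg fun q _ => by positivity)) ?_)
      refine mul_le_mul_of_nonneg_left (Finset.sum_le_sum fun q _ => ?_) (abs_nonneg _)
      exact mul_le_mul (pow_le_pow_left₀ (norm_nonneg _) hu _) (pow_le_pow_left₀ (by positivity) hb _)
        (by positivity) (pow_nonneg hM0 _)
    let u : Finset (Fin r) → Fin r → ℚ := fun S j => if j ∈ S then w j else v j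
    have hu : ∀ S, ‖(fun j => ((u S j : ℚ) : ℝ))‖ ≤ M := fun S => by
      refine (pi_norm_le_iff_of_nonneg hM0).mpr fun j => ?_
      by_cases h : j ∈ S
      · simp only [u, h, if_true]
        exact (norm_le_pi_norm (fun j => ((w j : ℚ) : ℝ)) j).trans (le_max_right _ _)
      · simp only [u, h, if_false]
        exact (norm_le_pi_norm (fun j => ((v j : ℚ) : ℝ)) j).trans (le_max_left _ _)
    have key : ∀ S, |f v - f (u S)| ≤ (∑ i ∈ S, |Ci i|) * T := by
      intro S
      induction S using Finset.induction_on with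
      | empty => simp [u]
      | insert i S hi ih =>
        rw [Finset.sum_insert hi, add_mul]
        refine (abs_sub_le (f v) (f (u S)) (f (u (insert i S)))).trans ?_
        rw [add_comm (|Ci i| * T)]
        refine add_le_add ih ?_
        obtain ⟨m, hm⟩ := hvw i
        have hb : |(m : ℝ)| ≤ N := by
          have := norm_le_pi_norm (fun j => ((v j - w j : ℚ) : ℝ)) i
          rw [Real.norm_eq_abs, hm, Rat.cast_intCast] at this
          exact this
        have hui : ∀ j, u (insert i S) j = if j = i then u S j - m else u S j := fun j => by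
          by_cases hj : j = i
          · subst hj; simp [u, hi]; linarith
          · simp [u, hj]
        obtain ⟨b, rfl | rfl⟩ := Int.eq_nat_or_neg m
        · have he : u (insert i S) = u S - (b : ℚ) • Pi.single i 1 := by
            funext j; rw [hui]; by_cases hj : j = i <;> simp [hj]
          rw [he, abs_sub_comm]
          exact hpos i (u S) b (hu S) (by simpa using hb)
        · have he : u S = u (insert i S) - (b : ℚ) • Pi.single i 1 := by
            funext j; simp only [Pi.sub_apply, hui]; by_cases hj : j = i <;> simp [hj]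
          rw [he]
          exact hpos i (u (insert i S)) b (hu _) (by simpa using hb)
    have huniv : u Finset.univ = w := by funext j; simp [u]
    have := key Finset.univ
    rw [huniv] at this
    refine this.trans (mul_le_mul_of_nonneg_right ?_ hT0)
    linarith
  -- clear denominators
  obtain ⟨D, hD0, hD⟩ : ∃ D : ℕ, 0 < D ∧ ∀ i, ∃ m : ℤ, (D : ℚ) * (v i - w i) = m := by
    refine ⟨∏ i, (v i - w i).den, Finset.prod_pos fun i _ => (v i - w i).pos, fun i => ?_⟩
    refine ⟨(v i - w i).num * ∏ j ∈ Finset.univ.erase i, ((v j - w j).den : ℤ), ?_⟩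
    rw [← Finset.mul_prod_erase Finset.univ _ (Finset.mem_univ i)]
    push_cast
    rw [mul_right_comm, mul_comm ((v i - w i).den : ℚ), Rat.mul_den_eq_num]
  have hDq : (0 : ℚ) < D := by exact_mod_cast hD0
  have hDr : (0 : ℝ) < D := by exact_mod_cast hD0
  have h := hint ((D : ℚ) • v) ((D : ℚ) • w) fun i => by
    obtain ⟨m, hm⟩ := hD i
    exact ⟨m, by rw [← hm]; simp [mul_sub]⟩
  rw [hhom _ _ hDq, hhom _ _ hDq, Rat.cast_natCast, ← mul_sub, abs_mul, abs_pow, Nat.abs_cast] at h
  have hsmul : ∀ x : Fin r → ℚ, ‖(fun j => ((((D : ℚ) • x) j : ℚ) : ℝ))‖ = (D : ℝ) * ‖(fun j => ((x j : ℚ) : ℝ))‖ := fun x => by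
    have : (fun j => ((((D : ℚ) • x) j : ℚ) : ℝ)) = (D : ℝ) • fun j => ((x j : ℚ) : ℝ) := by
      funext j; simp
    rw [this, norm_smul, Real.norm_eq_abs, Nat.abs_cast]
  have hdiff : ‖(fun j => ((((D : ℚ) • v) j - ((D : ℚ) • w) j : ℚ) : ℝ))‖ = (D : ℝ) * ‖(fun j => ((v j - w j : ℚ) : ℝ))‖ := by
    rw [← hsmul]; congr 1; funext j; simp [mul_sub]
  rw [hsmul, hsmul, hdiff, ← mul_max_of_nonneg _ _ hDr.le] at h
  have hsum : (Finset.Icc 1 n).sum (fun q =>
        ((D : ℝ) * max ‖(fun j => ((v j : ℚ) : ℝ))‖ ‖(fun j => ((w j : ℚ) : ℝ))‖) ^ (n - q) *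
          ((D : ℝ) * ‖(fun j => ((v j - w j : ℚ) : ℝ))‖) ^ q) = (D : ℝ) ^ n * (Finset.Icc 1 n).sum (fun q =>
        (max ‖(fun j => ((v j : ℚ) : ℝ))‖ ‖(fun j => ((w j : ℚ) : ℝ))‖) ^ (n - q) *
          ‖(fun j => ((v j - w j : ℚ) : ℝ))‖ ^ q) := by
    rw [Finset.mul_sum]
    refine Finset.sum_congr rfl fun q hq => ?_
    rw [mul_pow, mul_pow, mul_mul_mul_comm, ← pow_add, Nat.sub_add_cancel (Finset.mem_Icc.mp hq).2]
  rw [hsum, mul_left_comm (1 + ∑ i, |Ci i|)] at h
  exact le_of_mul_le_mul_left h (by positivity)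

end Groth.Agent.S17635
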