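import Groth.Statements.S17639
import Groth.Agent.Lib.DGam9.Basic
import Groth.Agent.Lib.DGen9.Basics
import Groth.Agent.Lib.DBC9.Good

set_option autoImplicit false
universe u
open CategoryTheory CategoryTheory.Limits AlgebraicGeometry
attribute [local instance] HasDerivedCategory.standard
open Dual3

namespace Groth.Agent.S17639


/-- Let f : X ⟶ Y be a separated morphism of finite type of Noetherian schemes, factored as f = f̄ ∘ j
with j : X ⟶ X̄ an open immersion and f̄ : X̄ ⟶ Y proper. Let Z ⊆ Y be a closed subset with open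
complement U, and Z' ⊆ X a closed subset which is proper over Y and contained in f⁻¹(Z); such a Z'
has closed image in X̄, and it is given here as Z' = j⁻¹(X̄ ∖ W) for an open W ⊆ X̄ with X̄ ∖ W ⊆
j(X) and f⁻¹(U) ⊆ j⁻¹(W). Let Rf̄_* and Rj_* exist and preserve complexes with quasi-coherent
cohomology, let a be a right adjoint of Rf̄_* on D_qc with its adjunction (whose counit is the trace
map of f̄), let an adjunction j^* ⊣ Rj_* be given, put f^!G = (a G)|_X, and let θ : RΓ_{Z'}(j^* aG)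
⟶ j^*RΓ_{j(Z')}(aG) be the comparison morphism compatible with the two maps to j^*(aG), the unit
RΓ_{j(Z')}(aG) ⟶ Rj_* j^* RΓ_{j(Z')}(aG) being an isomorphism. Then for every F in D(O_X) with
quasi-coherent cohomology sheaves, bounded above and supported on Z', and every G in D_qc(O_Y),
bounded below with cohomology supported on Z, the map sending φ : F ⟶ RΓ_{Z'}(f^!G) to the composite
Rf̄_* Rj_* F ⟶ Rf̄_* Rj_* RΓ_{Z'}(f^!G) ⟶ Rf̄_* Rj_* j^* RΓ_{j(Z')}(aG) ⟶ Rf̄_* RΓ_{j(Z')}(aG) ⟶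
Rf̄_*(aG) ⟶ G (Rf̄_*Rj_* of φ and θ, inverse of the unit, the canonical map out of RΓ, the trace) is
a bijection from Hom(F, RΓ_{Z'} f^!G) onto Hom(Rf_* F, G), with Rf_* computed as Rf̄_* ∘ Rj_*: the
functor Rf_* is left adjoint to RΓ_{Z'} f^! on these objects. (Throughout, RΓ with support is the
total right derived functor of the sheaf of sections supported in the closed subset. The published
statement derives instead the functor of sections killed by some power of a defining ideal; on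
complexes with quasi-coherent cohomology sheaves over a Noetherian scheme the two derived functors
agree.) -/
theorem result {X Y : Scheme.{u}} [IsNoetherian X] [IsNoetherian Y]
    (f : X ⟶ Y) [IsSeparated f] [LocallyOfFiniteType f] (c : DEt.Compactification f)
    (U : Y.Opens) (W : c.Xbar.Opens) (hW : (W : Set c.Xbar)ᶜ ⊆ Set.range c.j.base) (hZ : f ⁻¹ᵁ U ≤ c.j ⁻¹ᵁ W)
    [DCoh.HasRpush c.fbar] [DCoh.HasRpush c.j] (hfbar : DCoh.RpushPreservesQCoh c.fbar) (hj : DCoh.RpushPreservesQCoh c.j)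
    (a : DCoh.DQCoh Y ⥤ DCoh.DQCoh c.Xbar) (adj : DCoh.RpushQ c.fbar hfbar ⊣ a)
    (adjj : DCoh.restrictD c.j ⊣ DCoh.Rpush c.j)
    [CxOX.HasRgammaZ W.ι] [CxOX.HasRgammaZ (c.j ⁻¹ᵁ W).ι]
    (G : DCoh.DQCoh Y) (n : ℤ) (hGn : DerivedCategory.IsGE G.obj n) (hGZ : CxOX.IsSuppD U.ι G.obj)
    (θ : (CxOX.RgammaZ (c.j ⁻¹ᵁ W).ι).obj ((Dual3.shriekC c a).obj G) ⟶
      (DCoh.restrictD c.j).obj ((CxOX.RgammaZ W.ι).obj (a.obj G).obj))
    (hθ : θ ≫ (DCoh.restrictD c.j).map ((CxOX.RgammaZToId W.ι).app (a.obj G).obj) =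
      (CxOX.RgammaZToId (c.j ⁻¹ᵁ W).ι).app ((Dual3.shriekC c a).obj G))
    [IsIso (adjj.unit.app ((CxOX.RgammaZ W.ι).obj (a.obj G).obj))]
    (F : DCoh.D X) (hF : DCoh.IsQCohD F) (m : ℤ) (hFm : DerivedCategory.IsLE F m)
    (hFZ : CxOX.IsSuppD (c.j ⁻¹ᵁ W).ι F) :
    Function.Bijective (fun φ : F ⟶ (CxOX.RgammaZ (c.j ⁻¹ᵁ W).ι).obj ((Dual3.shriekC c a).obj G) =>
      (DCoh.Rpush c.fbar).map ((DCoh.Rpush c.j).map (φ ≫ θ) ≫
          inv (adjj.unit.app ((CxOX.RgammaZ W.ι).obj (a.obj G).obj)) ≫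
          (CxOX.RgammaZToId W.ι).app (a.obj G).obj) ≫
        (adj.counit.app G).hom) := by
  let W' := c.j ⁻¹ᵁ W
  haveI := Groth.Agent.DBC9.hasRpush W.ι
  obtain ⟨_, _⟩ := Groth.Agent.DPush.exists_commShift_isTriangulated W.ι
  haveI := Groth.Agent.DBC9.hasRpush W'.ι
  haveI := Groth.Agent.DBC9.hasRpush (c.j ∣_ W)
  let B := (a.obj G).obj
  let A := (CxOX.RgammaZ W.ι).obj B
  let eB := (CxOX.RgammaZToId W.ι).app B
  -- `F` vanishes on `W'`, its direct image on `W`
  have hF0 : IsZero ((Groth.Agent.DPerf.resD W'.ι).obj F) :=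
    Groth.Agent.DGen9.isZero_resD_of_suppOn W'.ι (T := (Set.range W'.ι.base)ᶜ) hFZ fun u h => h ⟨u, rfl⟩
  have hF1 : IsZero ((Groth.Agent.DPerf.resD W.ι).obj ((DCoh.Rpush c.j).obj F)) := by
    obtain ⟨n⟩ := Groth.Agent.DBC9.nonempty_res_rpush c.j (c.j ∣_ W) W.ι W'.ι (isPullback_morphismRestrict c.j W)
    haveI : (DCoh.Rpush (c.j ∣_ W)).PreservesZeroMorphisms := by
      obtain ⟨_, _⟩ := Groth.Agent.DPush.exists_commShift_isTriangulated (c.j ∣_ W)
      infer_instance
    exact ((DCoh.Rpush (c.j ∣_ W)).map_isZero hF0).of_iso (n.app F)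
  -- the counit is an isomorphism
  haveI : IsIso adjj.counit := by
    haveI := Groth.Agent.DGen9.isIso_counit c.j
    haveI : (DCoh.Rpush c.j).Full := (Groth.Agent.DGen9.adjR c.j).fullyFaithfulROfIsIsoCounit.full
    haveI : (DCoh.Rpush c.j).Faithful := (Groth.Agent.DGen9.adjR c.j).fullyFaithfulROfIsIsoCounit.faithful
    exact adjj.counit_isIso_of_R_fully_faithful
  -- maps into the restriction of `RΓ_W`
  obtain ⟨-, b, d, hT⟩ := Groth.Agent.DGam9.exists_triangle W.ι B
  obtain ⟨n'⟩ := Groth.Agent.DBC9.nonempty_res_rpush W.ι W'.ι c.j (c.j ∣_ W) (isPullback_morphismRestrict c.j W).flip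
  have h₁ : Function.Bijective fun s : F ⟶ (Groth.Agent.DPerf.resD c.j).obj A =>
      s ≫ (Groth.Agent.DPerf.resD c.j).map eB :=
    Groth.Agent.DGam9.bijective_comp W'.ι hF0
      ((Groth.Agent.DPerf.resD c.j).map_distinguished _ hT) (n'.app _)
  have h₂ : Function.Bijective fun φ : F ⟶ (CxOX.RgammaZ W'.ι).obj ((Dual3.shriekC c a).obj G) => φ ≫ θ := by
    have h := Groth.Agent.DGam9.bijective_comp_RgammaZToId W'.ι hF0 ((Dual3.shriekC c a).obj G)
    refine (Function.Bijective.of_comp_iff' h₁ _).1 ?_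
    convert h using 1
    funext φ
    exact (Category.assoc φ θ _).trans (congrArg (φ ≫ ·) hθ)
  -- transport to the compactification
  have h₃ : Function.Bijective fun ψ : F ⟶ (DCoh.restrictD c.j).obj A =>
      (DCoh.Rpush c.j).map ψ ≫ inv (adjj.unit.app A) := by
    let e : (F ⟶ (DCoh.restrictD c.j).obj A) ≃ ((DCoh.Rpush c.j).obj F ⟶ A) :=
      ((Iso.homCongr (asIso (adjj.counit.app F)).symm (Iso.refl _)).trans (adjj.homEquiv _ _)).trans
        (Iso.homCongr (Iso.refl _) (asIso (adjj.unit.app A)).symm)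
    convert e.bijective using 1
    funext ψ
    simp [e, Adjunction.homEquiv_unit]
  have h₄ := Groth.Agent.DGam9.bijective_comp_RgammaZToId W.ι hF1 B
  have h₅ : Function.Bijective fun ψ : (DCoh.Rpush c.j).obj F ⟶ B =>
      (DCoh.Rpush c.fbar).map ψ ≫ (adj.counit.app G).hom := by
    let N : DCoh.DQCoh c.Xbar := ⟨(DCoh.Rpush c.j).obj F, hj F hF⟩
    let e := ((ObjectProperty.fullyFaithfulι DCoh.IsQCohD).homEquiv (X := N) (Y := a.obj G)).symm.trans
      ((adj.homEquiv N G).symm.trans (ObjectProperty.fullyFaithfulι DCoh.IsQCohD).homEquiv)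
    convert e.bijective using 1
    funext ψ
    simp [e, Adjunction.homEquiv_counit]
    rfl
  convert (h₅.comp (h₄.comp (h₃.comp h₂))) using 1
  funext φ
  simp only [Function.comp_apply, Category.assoc]
  rfl


end Groth.Agent.S17639
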