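import Groth.Statements.S17641
import Groth.Agent.S12902
import Groth.Agent.S12903
import Groth.Agent.Lib.InjMod.StalkInj
import Groth.Agent.Lib.InjMod.QCohInj
import Groth.Agent.Lib.InjHull.Torsion

set_option autoImplicit false
set_option linter.style.haveILetI false
set_option backward.isDefEq.respectTransparency false
universe u
open CategoryTheory CategoryTheory.Limits AlgebraicGeometry
attribute [local instance] HasDerivedCategory.standard
open DCoh

namespace Groth.Agent.S17641

theorem injective_of_linearEquiv {R : Type u} [CommRing R] {M N : Type u} [AddCommGroup M] [Module R M]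
    [AddCommGroup N] [Module R N] (e : M ≃ₗ[R] N) (h : Module.Injective R M) : Module.Injective R N :=
  ⟨fun X Y _ _ _ _ f hf g => by
    obtain ⟨k, hk⟩ := h.out f hf (e.symm.toLinearMap ∘ₗ g)
    exact ⟨e.toLinearMap ∘ₗ k, fun x => by simp [hk]⟩⟩

/-- Let X be a Noetherian scheme, j : U ⟶ X an open immersion with closed complement Z = X ∖ j(U), and I
a quasi-coherent O_X-module which is injective as an O_X-module. Then Γ_Z(I), the kernel of I ⟶
j_*(I|_U) (the subsheaf of sections supported in Z), is an injective O_X-module. (Injectivity is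
taken in the category of all O_X-modules; on a Noetherian scheme a quasi-coherent module is
injective there exactly when it is injective among quasi-coherent modules. The published statement
works with the functor of sections killed by some power of a defining ideal, which agrees with Γ_Z
on quasi-coherent modules over a Noetherian scheme.) -/
theorem result {U X : Scheme.{u}} [IsNoetherian X]
    (j : U ⟶ X) [IsOpenImmersion j] (I : X.Modules) (hI : Coh.IsQCoh I) [Injective I] :
    Injective ((DCoh.gammaZ j).obj I) := by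
  have hG : Coh.IsQCoh ((DCoh.gammaZ j).obj I) := Groth.Agent.S12902.result j I hI
  haveI := hG
  haveI := hI
  refine Groth.Agent.InjMod.injective_of_stalk _ hG fun x => ?_
  obtain ⟨_, ⟨V, hV, rfl⟩, hxV, -⟩ := X.isBasis_affineOpens.exists_subset_of_mem_open (Set.mem_univ x) isOpen_univ
  haveI : IsNoetherianRing Γ(X, V) := IsLocallyNoetherian.component_noetherian ⟨V, hV⟩
  let W : Set (PrimeSpectrum Γ(X, V)) := (fun p => hV.fromSpec p) ⁻¹' (Set.range j.base)ᶜ
  have hWcl : IsClosed W :=
    (j.isOpenEmbedding.isOpen_range.isClosed_compl).preimage hV.fromSpec.continuous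
  let J : Ideal Γ(X, V) := PrimeSpectrum.vanishingIdeal W
  have hJW : PrimeSpectrum.zeroLocus (J : Set Γ(X, V)) = W := by
    rw [PrimeSpectrum.zeroLocus_vanishingIdeal_eq_closure, hWcl.closure_eq]
  have hZ : ∀ y : X, y ∈ V → (y ∉ Set.range j.base ↔ ∀ f ∈ J, y ∉ X.basicOpen (f : Γ(X, V))) := by
    intro y hy
    obtain ⟨p, rfl⟩ := hV.opensRange_fromSpec.ge hy
    have h1 : hV.fromSpec p ∉ Set.range j.base ↔ (J : Set Γ(X, V)) ⊆ (p : PrimeSpectrum Γ(X, V)).asIdeal := by
      rw [← PrimeSpectrum.mem_zeroLocus, hJW]
      exact Iff.rfl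
    rw [h1]
    refine forall₂_congr fun f _ => ?_
    have h2 := hV.fromSpec_preimage_basicOpen f
    have h3 : hV.fromSpec p ∈ X.basicOpen f ↔ p ∈ PrimeSpectrum.basicOpen f := SetLike.ext_iff.1 h2 p
    rw [h3, PrimeSpectrum.mem_basicOpen, not_not]
    exact Iff.rfl
  haveI : QuasiCompact j := inferInstance
  have hIsec : Module.Injective Γ(X, V) Γ(I, V) :=
    Groth.Agent.InjMod.injective_sections I hV (Groth.Agent.InjMod.injective_stalk I)
  let ψ : Γ((DCoh.gammaZ j).obj I, V) →ₗ[Γ(X, V)] Γ(I, V) := (((CxOX.gammaZι j).app I).val.app (Opposite.op V)).hom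
  have hψinj : Function.Injective ψ := by
    haveI : Mono ((CxOX.gammaZι j).app I) := by
      change Mono (kernel.ι _)
      infer_instance
    exact fun a b h => Groth.Agent.M1.app_injective ((CxOX.gammaZι j).app I) V h
  have hψr : LinearMap.range ψ = Groth.Agent.InjHullLib.powTors J Γ(I, V) := by
    ext s
    rw [Groth.Agent.InjHullLib.mem_powTors_iff]
    exact Groth.Agent.S12903.result j I hI V hV J (IsNoetherian.noetherian J) hZ s
  have hsec : Module.Injective Γ(X, V) Γ((DCoh.gammaZ j).obj I, V) := by
    haveI := Groth.Agent.InjHullLib.injective_powTors hIsec J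
    exact injective_of_linearEquiv ((LinearEquiv.ofInjective ψ hψinj).trans (LinearEquiv.ofEq _ _ hψr)).symm this
  letI := Groth.Agent.M1.stalkModule ((DCoh.gammaZ j).obj I) hxV
  letI := TopCat.Presheaf.algebra_section_stalk X.presheaf (⟨x, hxV⟩ : V)
  haveI := hV.isLocalization_stalk ⟨x, hxV⟩
  haveI : IsScalarTower Γ(X, V) (X.presheaf.stalk x) (((DCoh.gammaZ j).obj I).presheaf.stalk x) :=
    IsScalarTower.of_algebraMap_smul fun _ _ => rfl
  haveI := Groth.Agent.M1.isLocalizedModule_germ ((DCoh.gammaZ j).obj I) hV hxV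
  haveI := hsec
  exact Module.injective_of_isLocalizedModule (hV.primeIdealOf ⟨x, hxV⟩).asIdeal.primeCompl
    (Groth.Agent.M1.germₗ ((DCoh.gammaZ j).obj I) hxV)

end Groth.Agent.S17641
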