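import Groth.Statements.S17642
import Groth.Agent.Lib.ProjSpace.BaseChange
import Mathlib.AlgebraicGeometry.Morphisms.Immersion
import Mathlib.Data.Fin.Basic
import Mathlib.RingTheory.FinitePresentation

set_option autoImplicit false
set_option linter.style.haveILetI false
set_option backward.isDefEq.respectTransparency false
universe u
open CategoryTheory AlgebraicGeometry
open DerSch

namespace Groth.Agent.S17642

/-- Consider Noetherian schemes X and Y together with a morphism f : X ⟶ Y that is locally of finite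
type. Given affine open subsets U ⊆ X and V ⊆ Y such that f(U) ⊆ V, the restriction of f to U can be
written as a composite U ⟶ W ⟶ P ⟶ Y in which the first map U ⟶ W is an open immersion, the middle
map W ⟶ P is a closed immersion, and the last map P ⟶ Y is both smooth and proper. In the published
section every morphism is taken to be separated as a standing convention; since the printed proof
never uses this, no separatedness hypothesis appears here. -/
theorem result {X Y : Scheme.{u}}
    [IsNoetherian X] [IsNoetherian Y] (f : X ⟶ Y) [LocallyOfFiniteType f]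
    (U : X.Opens) (hU : IsAffineOpen U) (V : Y.Opens) (hV : IsAffineOpen V) (hUV : U ≤ f ⁻¹ᵁ V) :
    ∃ (W P : Scheme.{u}) (g : (U : Scheme.{u}) ⟶ W) (h : W ⟶ P) (k : P ⟶ Y),
      IsOpenImmersion g ∧ IsClosedImmersion h ∧ Smooth k ∧ IsProper k ∧ g ≫ h ≫ k = U.ι ≫ f := by
  let A := CommRingCat.of Γ(Y, V)
  have hft : (f.appLE V U hUV).hom.FiniteType := f.finiteType_appLE hV hU hUV
  letI : Algebra Γ(Y, V) Γ(X, U) := (f.appLE V U hUV).hom.toAlgebra
  haveI : Algebra.FiniteType Γ(Y, V) Γ(X, U) := hft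
  obtain ⟨n, ψ, hψ⟩ := Algebra.FiniteType.iff_quotient_mvPolynomial''.1 ‹Algebra.FiniteType Γ(Y, V) Γ(X, U)›
  let e : {j : Fin (n + 1) // j ≠ 0} ≃ Fin n := (finSuccAboveEquiv 0).symm
  let ψ' : MvPolynomial {j : Fin (n + 1) // j ≠ 0} Γ(Y, V) →+* Γ(X, U) :=
    ψ.toRingHom.comp (MvPolynomial.renameEquiv Γ(Y, V) e).toAlgHom.toRingHom
  have hψ' : Function.Surjective ψ' := hψ.comp (MvPolynomial.renameEquiv Γ(Y, V) e).surjective
  have hC : ψ'.comp MvPolynomial.C = (f.appLE V U hUV).hom := by
    ext r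
    simp [ψ', RingHom.algebraMap_toAlgebra]
  let c := Spec.map (CommRingCat.ofHom ψ')
  haveI : IsClosedImmersion c := IsClosedImmersion.spec_of_surjective _ hψ'
  let i : (U : Scheme.{u}) ⟶ CohB1.ProjSpaceOver n Y :=
    hU.isoSpec.hom ≫ c ≫ Groth.Agent.ProjSpace.chart n Γ(Y, V) 0 ≫
      (Groth.Agent.ProjSpace.overSpecIso n Γ(Y, V)).hom ≫ Groth.Agent.ProjSpace.overMap n hV.fromSpec
  haveI : IsOpenImmersion (Groth.Agent.ProjSpace.overMap n hV.fromSpec) :=
    MorphismProperty.of_isPullback (P := @IsOpenImmersion)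
      (Groth.Agent.ProjSpace.isPullback_overMap n hV.fromSpec).flip inferInstance
  haveI : IsImmersion i := inferInstance
  haveI : CompactSpace ↥U := isCompact_iff_compactSpace.1 hU.isCompact
  haveI : IsNoetherian (CohB1.ProjSpaceOver n Y) := by
    haveI : IsLocallyNoetherian (CohB1.ProjSpaceOver n Y) :=
      LocallyOfFiniteType.isLocallyNoetherian (CohB1.ProjSpaceOver.toBase n Y)
    haveI : CompactSpace (CohB1.ProjSpaceOver n Y) :=
      QuasiCompact.compactSpace_of_compactSpace (CohB1.ProjSpaceOver.toBase n Y)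
    exact ⟨⟩
  haveI : QuasiCompact i := inferInstance
  refine ⟨i.image, CohB1.ProjSpaceOver n Y, i.toImage, i.imageι, CohB1.ProjSpaceOver.toBase n Y,
    inferInstance, inferInstance, inferInstance, inferInstance, ?_⟩
  rw [i.toImage_imageι_assoc]
  have h1 : Groth.Agent.ProjSpace.overMap n hV.fromSpec ≫ CohB1.ProjSpaceOver.toBase n Y =
      CohB1.ProjSpaceOver.toBase n _ ≫ hV.fromSpec :=
    (Groth.Agent.ProjSpace.isPullback_overMap n hV.fromSpec).w
  change (hU.isoSpec.hom ≫ c ≫ Groth.Agent.ProjSpace.chart n Γ(Y, V) 0 ≫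
      (Groth.Agent.ProjSpace.overSpecIso n Γ(Y, V)).hom ≫
      Groth.Agent.ProjSpace.overMap n hV.fromSpec) ≫ CohB1.ProjSpaceOver.toBase n Y = U.ι ≫ f
  simp only [Category.assoc, h1]
  erw [Groth.Agent.ProjSpace.overSpecIso_hom_toBase_assoc,
    Groth.Agent.ProjSpace.chart_toSpec_assoc]
  erw [← Spec.map_comp_assoc]
  rw [← CommRingCat.ofHom_comp, hC]
  refine Eq.trans ?_ (congrArg (· ≫ f) hU.isoSpec_hom_fromSpec)
  rw [Category.assoc]
  exact congrArg (_ ≫ ·) (IsAffineOpen.SpecMap_appLE_fromSpec f hV hU hUV)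

end Groth.Agent.S17642
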