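import Groth.Statements.S17643
import Groth.Agent.Lib.RelPCS8.ClosedPerf
import Groth.Agent.Lib.RelPCS8.Local
import Groth.Agent.Lib.RelPCS8.Chart
import Groth.Agent.Lib.CI2.TorPoly
import Groth.Agent.Lib.DGen9.GlobalTor
import Groth.Agent.Lib.TorBal.Dim
import Groth.Agent.Lib.TorBal.Perfect
import Groth.Agent.Lib.DBaseChange.TorTri

set_option autoImplicit false
set_option linter.style.haveILetI false
set_option backward.isDefEq.respectTransparency false
universe u
open CategoryTheory AlgebraicGeometry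
attribute [local instance] HasDerivedCategory.standard
open DerSch

namespace Groth.Agent.S17643

attribute [local instance] HasDerivedCategory.standard
open Groth.Agent.RelPCS8.StalkTor

theorem torDim_restrict_flat {A R : Type u} [CommRing A] [CommRing R] [Algebra A R] [Module.Flat A R] :
    ∀ (d : ℕ) (M : Type u) [AddCommGroup M] [Module A M] [Module R M] [IsScalarTower A R M],
      DRing.HasTorDimLE R d M → DRing.HasTorDimLE A d M := by
  intro d
  induction d with
  | zero =>
    intro M _ _ _ _ h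
    haveI := (Groth.Agent.TorBal.flat_iff_hasTorDimLE_zero M).1 h
    exact (Groth.Agent.TorBal.flat_iff_hasTorDimLE_zero M).2 (Module.Flat.trans A R M)
  | succ d ih =>
    intro M _ _ _ _ h
    let p : (M →₀ R) →ₗ[R] M := Finsupp.linearCombination R id
    have hp : Function.Surjective p := Finsupp.linearCombination_id_surjective R M
    haveI : Module.Flat A (M →₀ R) := Module.Flat.trans A R (M →₀ R)
    let K := LinearMap.ker p
    have hK : DRing.HasTorDimLE R d K := (Groth.Agent.TorAscH7.hasTorDimLE_succ_iff K.subtype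
      K.injective_subtype p (LinearMap.exact_subtype_ker_map p) hp d).1 h
    exact (Groth.Agent.TorAscH7.hasTorDimLE_succ_iff (K.subtype.restrictScalars A) K.injective_subtype
      (p.restrictScalars A) (LinearMap.exact_subtype_ker_map p) hp d).2 (ih K hK)

/-- The stalk tor dimension of a morphism, in both directions. -/
theorem amp_iff {X Y : Scheme.{u}} (f : X ⟶ Y) (x : X) (d : ℕ) :
    DerSch.HasTorAmplitudeAt f (-(d : ℤ)) 0 (DerSch.unitCx X) x ↔
      (letI := (f.stalkMap x).hom.toAlgebra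
       DRing.HasTorDimLE ↑(Y.presheaf.stalk (f x)) d ↑(X.presheaf.stalk x)) := by
  letI := (f.stalkMap x).hom.toAlgebra
  let l : (ModuleCat.restrictScalars.{u} (f.stalkMap x).hom).obj (ModuleCat.of (X.presheaf.stalk x) (X.presheaf.stalk x)) ≅
      ModuleCat.of (Y.presheaf.stalk (f x)) (X.presheaf.stalk x) :=
    ({ AddEquiv.refl (X.presheaf.stalk x) with map_smul' := fun _ _ => rfl } :
      ((ModuleCat.restrictScalars.{u} (f.stalkMap x).hom).obj (ModuleCat.of (X.presheaf.stalk x) (X.presheaf.stalk x)))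
        ≃ₗ[Y.presheaf.stalk (f x)] (X.presheaf.stalk x)).toModuleIso
  let e := unitCxIso f x ≪≫ (DerivedCategory.singleFunctor (ModuleCat.{u} (Y.presheaf.stalk (f x))) 0).mapIso l
  exact ⟨fun h => Groth.Agent.TorBal.hasTorDimLE_of_amplitude _ d (hasTorAmplitudeIn_congr e h),
    fun h => hasTorAmplitudeIn_congr e.symm (Groth.Agent.TorBal.amplitude_of_hasTorDimLE _ d h)⟩

theorem germ_chart {Y : Scheme.{u}} {V : Y.Opens} (hV : IsAffineOpen V) (n : ℕ)
    (w : Spec (CommRingCat.of (MvPolynomial (Fin n) Γ(Y, V))))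
    (hy : (Spec.map (CommRingCat.ofHom (MvPolynomial.C : Γ(Y, V) →+* MvPolynomial (Fin n) Γ(Y, V))) ≫ hV.fromSpec) w ∈ V) :
    Y.presheaf.germ V _ hy ≫
      (Spec.map (CommRingCat.ofHom (MvPolynomial.C : Γ(Y, V) →+* MvPolynomial (Fin n) Γ(Y, V))) ≫ hV.fromSpec).stalkMap w =
    CommRingCat.ofHom (MvPolynomial.C : Γ(Y, V) →+* MvPolynomial (Fin n) Γ(Y, V)) ≫
      StructureSheaf.toStalk (CommRingCat.of (MvPolynomial (Fin n) Γ(Y, V))) w := by
  let c := CommRingCat.ofHom (MvPolynomial.C : Γ(Y, V) →+* MvPolynomial (Fin n) Γ(Y, V))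
  let h := Spec.map c ≫ hV.fromSpec
  have hle : (⊤ : (Spec (CommRingCat.of (MvPolynomial (Fin n) Γ(Y, V)))).Opens) ≤ h ⁻¹ᵁ V :=
    fun z _ => hV.range_fromSpec.le ⟨_, rfl⟩
  have happ : h.appLE V ⊤ hle = c ≫ (Scheme.ΓSpecIso _).inv := by
    simp only [h]
    rw [← Scheme.Hom.appLE_comp_appLE _ _ V ⊤ ⊤ hV.fromSpec_preimage_self.ge (by simp),
      show hV.fromSpec.appLE V ⊤ hV.fromSpec_preimage_self.ge = (Scheme.ΓSpecIso Γ(Y, V)).inv by
        rw [Scheme.Hom.appLE, hV.fromSpec_app_self, Category.assoc, ← Functor.map_comp]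
        exact (congrArg _ ((congrArg _ (Subsingleton.elim _ (𝟙 _))).trans (CategoryTheory.Functor.map_id _ _))).trans
          (Category.comp_id _),
      Scheme.ΓSpecIso_inv_naturality, Scheme.Hom.appLE]
    simp
    rfl
  have e : StructureSheaf.toStalk (CommRingCat.of (MvPolynomial (Fin n) Γ(Y, V))) w =
      (Scheme.ΓSpecIso _).inv ≫ (Spec (CommRingCat.of (MvPolynomial (Fin n) Γ(Y, V)))).presheaf.germ ⊤ w trivial := rfl
  rw [e, ← Category.assoc, ← happ, Scheme.Hom.germ_stalkMap, Scheme.Hom.appLE, Category.assoc,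
    TopCat.Presheaf.germ_res]

theorem amp_of_comp {U Y : Scheme.{u}} {V : Y.Opens} (hV : IsAffineOpen V) (n : ℕ)
    (g : U ⟶ Spec (CommRingCat.of (MvPolynomial (Fin n) Γ(Y, V)))) (u : U) {d : ℕ}
    (hd : DerSch.HasTorAmplitudeAt
      (g ≫ Spec.map (CommRingCat.ofHom (MvPolynomial.C : Γ(Y, V) →+* MvPolynomial (Fin n) Γ(Y, V))) ≫ hV.fromSpec)
      (-(d : ℤ)) 0 (DerSch.unitCx U) u) :
    DerSch.HasTorAmplitudeAt g (-((d + n : ℕ) : ℤ)) 0 (DerSch.unitCx U) u := by
  let P := MvPolynomial (Fin n) Γ(Y, V)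
  let h := Spec.map (CommRingCat.ofHom (MvPolynomial.C : Γ(Y, V) →+* P)) ≫ hV.fromSpec
  let w : Spec (CommRingCat.of P) := g u
  have hyV : h w ∈ V := hV.range_fromSpec.le ⟨Spec.map _ w, rfl⟩
  let R := Y.presheaf.stalk (h w)
  let S := (Spec (CommRingCat.of P)).presheaf.stalk w
  let L := U.presheaf.stalk u
  letI : Algebra Γ(Y, V) R := TopCat.Presheaf.algebra_section_stalk Y.presheaf (⟨h w, hyV⟩ : V)
  haveI : IsLocalization.AtPrime R (hV.primeIdealOf ⟨h w, hyV⟩).asIdeal := hV.isLocalization_stalk ⟨h w, hyV⟩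
  haveI : Module.Flat Γ(Y, V) R := IsLocalization.flat R (hV.primeIdealOf ⟨h w, hyV⟩).asIdeal.primeCompl
  let w' : PrimeSpectrum P := w
  letI : Algebra P S := (StructureSheaf.toStalk (CommRingCat.of P) w').hom.toAlgebra
  haveI : IsLocalization w'.asIdeal.primeCompl S := by
    exact (inferInstance : IsLocalization.AtPrime ((Spec.structureSheaf P).presheaf.stalk w') w'.asIdeal)
  letI : Algebra S L := (g.stalkMap u).hom.toAlgebra
  letI : Algebra R L := ((g ≫ h).stalkMap u).hom.toAlgebra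
  letI : Algebra P L := ((algebraMap S L).comp (algebraMap P S)).toAlgebra
  letI : Algebra Γ(Y, V) L := ((algebraMap R L).comp (algebraMap Γ(Y, V) R)).toAlgebra
  haveI : IsScalarTower P S L := IsScalarTower.of_algebraMap_eq fun _ => rfl
  haveI : IsScalarTower Γ(Y, V) R L := IsScalarTower.of_algebraMap_eq fun _ => rfl
  haveI : IsScalarTower Γ(Y, V) P L := IsScalarTower.of_algebraMap_eq fun a => by
    show ((g ≫ h).stalkMap u) (Y.presheaf.germ V (h w) hyV a) =
      (g.stalkMap u) (StructureSheaf.toStalk (CommRingCat.of P) w' (MvPolynomial.C a))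
    rw [Scheme.Hom.stalkMap_comp, CommRingCat.comp_apply]
    congr 1
    exact congrArg (fun ψ : Γ(Y, V) ⟶ _ => ψ a) (germ_chart hV n w hyV)
  have h1 : DRing.HasTorDimLE R d L := (amp_iff (g ≫ h) u d).1 hd
  have h2 := Groth.Agent.CI2.torDim_mvPolynomial n d L (torDim_restrict_flat (A := Γ(Y, V)) d L h1)
  exact (amp_iff g u (d + n)).2
    (Groth.Agent.RelT.torDim_of_isLocalization (S := S) w'.asIdeal.primeCompl (d + n) L h2)

/-- Let f : X ⟶ Y be a morphism of finite type between Noetherian schemes which is of finite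
Tor-dimension (the structure sheaf of X, placed in degree 0, has finite tor amplitude stalkwise over
the local rings of Y), U ⊆ X an affine open subset and V ⊆ Y an affine open subset with f(U) ⊆ V.
Then the restriction of f to U factors as U ⟶ W ⟶ Y with U ⟶ W a closed immersion of finite
Tor-dimension and W ⟶ Y smooth. The published section's standing conventions also take all morphisms
separated; the printed argument does not use this, so separatedness is not assumed here. -/
theorem result {X Y : Scheme.{u}}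
    [IsNoetherian X] [IsNoetherian Y] (f : X ⟶ Y) [LocallyOfFiniteType f] (hf : DerSch.HasFiniteTorDim f)
    (U : X.Opens) (hU : IsAffineOpen U) (V : Y.Opens) (hV : IsAffineOpen V) (hUV : U ≤ f ⁻¹ᵁ V) :
    ∃ (W : Scheme.{u}) (g : (U : Scheme.{u}) ⟶ W) (h : W ⟶ Y),
      IsClosedImmersion g ∧ DerSch.HasFiniteTorDim g ∧ Smooth h ∧ g ≫ h = U.ι ≫ f := by
  have hf' : ∃ d : ℕ, DerSch.HasTorDimLE f d := by
    obtain ⟨a, b, hab⟩ := hf
    refine ⟨a.natAbs, fun x => ?_⟩
    haveI : (DRing.toD ((DerSch.stalkCxOver f x).obj (DerSch.unitCx X))).IsLE 0 :=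
      DerivedCategory.TStructure.t.isLE_of_iso (unitCxIso f x).symm 0
    exact Groth.Agent.TorBal.amplitude_shrink 0
      (Groth.Agent.DBaseChange.hasTorAmplitudeIn_mono (b' := b) (by omega) le_rfl (hab x))
  obtain ⟨d, hd⟩ := hf'
  have hUf : DerSch.HasTorDimLE (U.ι ≫ f) d := by
    have := hasTorAmplitude_comp U.ι f hd (Groth.Agent.RelPCS8.ClosedPerf.hasTorDimLE_zero_of_flat U.ι)
    simpa [DerSch.HasTorDimLE] using this
  obtain ⟨n, φ, hφ⟩ := Groth.Agent.RelPCS8.exists_chart_of_lft (f := f) hU hV hUV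
  let c : CommRingCat.of Γ(Y, V) ⟶ CommRingCat.of (MvPolynomial (Fin n) Γ(Y, V)) := CommRingCat.ofHom MvPolynomial.C
  let h : Spec (CommRingCat.of (MvPolynomial (Fin n) Γ(Y, V))) ⟶ Y := Spec.map c ≫ hV.fromSpec
  let g := Groth.Agent.RelPCS8.imm U φ
  haveI : IsClosedImmersion g := Groth.Agent.RelPCS8.isClosedImmersion_imm hU φ hφ.1
  haveI : Smooth (Spec.map c) := by
    rw [HasRingHomProperty.Spec_iff (P := @Smooth)]
    exact RingHom.smooth_algebraMap.2 ⟨inferInstance, inferInstance⟩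
  haveI : Smooth h := inferInstance
  have hgh : g ≫ h = U.ι ≫ f := by
    show (U.toSpecΓ ≫ Spec.map (CommRingCat.ofHom φ)) ≫ Spec.map c ≫ hV.fromSpec = _
    rw [Category.assoc, ← Spec.map_comp_assoc]
    have hc : c ≫ CommRingCat.ofHom φ = f.appLE V U hUV := CommRingCat.hom_ext hφ.2
    rw [hc, IsAffineOpen.SpecMap_appLE_fromSpec f hV hU hUV, ← Category.assoc, IsAffineOpen.toSpecΓ_fromSpec]
  refine ⟨_, g, h, inferInstance, ⟨-((d + n : ℕ) : ℤ), 0, fun u => ?_⟩, inferInstance, hgh⟩
  rw [← hgh] at hUf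
  exact amp_of_comp hV n g u (hUf u)

end Groth.Agent.S17643
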