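import Groth.Statements.S17646
import Groth.Agent.Lib.GabLoc29.Uniform28

set_option autoImplicit false
universe w v u
open CategoryTheory CategoryTheory.Limits
open GabLoc

namespace Groth.Agent.S17646

/-- Let C be a Grothendieck abelian category, E an indecomposable injective object of C (E is nonzero
and whenever E ≅ A ⊞ B one of A, B is zero) and S₁, S₂ localizing classes of objects (Serre classes
closed under coproducts). If there are an object of S₁ with a nonzero morphism to E and an object of
S₂ with a nonzero morphism to E, then there is an object belonging to both S₁ and S₂ with a nonzero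
morphism to E. Thus, on the set of isomorphism classes of indecomposable injectives, the subsets of
those having S-torsion, S localizing, are closed under finite intersections (they are also closed
under unions, and form a topology). The published definition of the injective spectrum says
injective objects without the word indecomposable; the published proof of this step uses that each
point of the spectrum is uniform, which is the indecomposable reading taken here. -/
theorem result {C : Type u} [Category.{v} C] [Abelian C]
    [IsGrothendieckAbelian.{w} C] (E : C) [Injective E] (hE : ¬ IsZero E)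
    (hind : ∀ (A B : C), Nonempty (E ≅ A ⊞ B) → IsZero A ∨ IsZero B)
    (S₁ S₂ : ObjectProperty C) (h₁ : GabLoc.IsLocalizing.{w} S₁) (h₂ : GabLoc.IsLocalizing.{w} S₂)
    (ht₁ : GabLoc.HasTorsion S₁ E) (ht₂ : GabLoc.HasTorsion S₂ E) :
    GabLoc.HasTorsion (S₁ ⊓ S₂) E := by
  obtain ⟨Y₁, hY₁, f₁, hf₁⟩ := ht₁
  obtain ⟨Y₂, hY₂, f₂, hf₂⟩ := ht₂
  haveI := h₁.isSerreClass
  haveI := h₂.isSerreClass
  let A := imageSubobject f₁
  let B := imageSubobject f₂
  have hA : S₁ (A : C) := ObjectProperty.prop_of_epi S₁ (factorThruImageSubobject f₁) hY₁
  have hB : S₂ (B : C) := ObjectProperty.prop_of_epi S₂ (factorThruImageSubobject f₂) hY₂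
  have hA0 : A ≠ ⊥ := fun h => hf₁ (by
    rw [← imageSubobject_arrow_comp f₁, GabLoc29.Uniform28.arrow_eq_zero_of_eq_bot h, comp_zero])
  have hB0 : B ≠ ⊥ := fun h => hf₂ (by
    rw [← imageSubobject_arrow_comp f₂, GabLoc29.Uniform28.arrow_eq_zero_of_eq_bot h, comp_zero])
  refine ⟨(A ⊓ B : Subobject E), ⟨ObjectProperty.prop_of_mono S₁ (Subobject.ofLE _ _ inf_le_left) hA,
    ObjectProperty.prop_of_mono S₂ (Subobject.ofLE _ _ inf_le_right) hB⟩, (A ⊓ B).arrow, fun h => ?_⟩
  exact GabLoc29.Uniform28.inf_ne_bot.{w} hind A B hA0 hB0 (GabLoc29.Uniform28.eq_bot_of_arrow_eq_zero h)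

end Groth.Agent.S17646
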