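import Groth.Statements.S17649
import Groth.Agent.Lib.DMV.Seq
import Groth.Agent.Lib.ModM1.Coh
import Groth.Agent.Lib.PinchH7.Mod
import Groth.Agent.Lib.ModM1.Push

set_option autoImplicit false
universe u
open CategoryTheory CategoryTheory.Limits AlgebraicGeometry
open QCohCat

namespace Groth.Agent.S17649


/-- Suppose the scheme X is quasi-compact and quasi-separated, and take two quasi-compact opens U, V ⊆
X. Given a quasi-compact open W, denote by S_W the class of quasi-coherent O_X-modules that restrict
to zero on W. Then S_{U ∩ V} is the smallest localizing subcategory of Qcoh(X) that contains both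
S_U and S_V; concretely (this is the inclusion that is not formal): any quasi-coherent O_X-module F
satisfying F|_{U ∩ V} = 0 arises as an extension of a quasi-coherent module that is zero on V by a
quasi-coherent submodule that is zero on U — one can find a monomorphism A ⟶ F where A is
quasi-coherent, A|_U = 0 and (F/A)|_V = 0. -/
theorem result {X : Scheme.{u}}
    [CompactSpace X] [QuasiSeparatedSpace X] (U V : X.Opens) [QuasiCompact U.ι] [QuasiCompact V.ι]
    (F : X.Modules) (hF : Coh.IsQCoh F) (h : IsZero ((Scheme.Modules.restrictFunctor (U ⊓ V).ι).obj F)) :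
    ∃ (A : X.Modules) (i : A ⟶ F), Mono i ∧ Coh.IsQCoh A ∧
      IsZero ((Scheme.Modules.restrictFunctor U.ι).obj A) ∧
      IsZero ((Scheme.Modules.restrictFunctor V.ι).obj (cokernel i)) := by
---
  let j := U.ι
  let η := (Scheme.Modules.restrictAdjunction j).unit.app F
  let P := (Scheme.Modules.pushforward j).obj ((Scheme.Modules.restrictFunctor j).obj F)
  have hP : Coh.IsQCoh P := M1.isQCoh_push j (M1.isQCoh_restrict hF _)
  refine ⟨kernel η, kernel.ι η, inferInstance, M1.isQCoh_kernel hF hP η, ?_, ?_⟩
  · have hm : Mono ((Scheme.Modules.restrictFunctor j).map η) := by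
      have h := (Scheme.Modules.restrictAdjunction j).left_triangle_components F
      exact mono_of_mono_fac h
    refine (IsZero.iff_id_eq_zero _).2 ((cancel_mono ((Scheme.Modules.restrictFunctor j).map (kernel.ι η))).1 ?_)
    rw [Category.id_comp, zero_comp, ← cancel_mono ((Scheme.Modules.restrictFunctor j).map η), ← Functor.map_comp,
      kernel.condition, Functor.map_zero, zero_comp]
  · have hz : IsZero ((Scheme.Modules.restrictFunctor V.ι).obj P) := by
      refine PinchH7.isZero_of_subsingleton_sections fun W _ => ?_
      change Subsingleton Γ((Scheme.Modules.restrictFunctor U.ι).obj F, U.ι ⁻¹ᵁ (V.ι ''ᵁ W))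
      change Subsingleton Γ(F, U.ι ''ᵁ (U.ι ⁻¹ᵁ (V.ι ''ᵁ W)))
      refine DMV.subsingleton_sections_of_isZero h (?_ : _ ≤ U ⊓ V)
      refine le_inf ((U.ι.image_le_opensRange _).trans U.opensRange_ι.le) ?_
      rw [Scheme.Hom.image_preimage_eq_opensRange_inf]
      exact inf_le_right.trans ((V.ι.image_le_opensRange W).trans V.opensRange_ι.le)
    have he : Epi ((Scheme.Modules.restrictFunctor V.ι).map (kernel.ι η)) := by
      haveI : IsIso (kernel.ι ((Scheme.Modules.restrictFunctor V.ι).map η)) :=
        kernel.ι_of_zero (hz.eq_of_tgt _ _)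
      rw [← kernelComparison_comp_ι η (Scheme.Modules.restrictFunctor V.ι)]
      infer_instance
    exact (isZero_cokernel_of_epi ((Scheme.Modules.restrictFunctor V.ι).map (kernel.ι η))).of_iso
      (PreservesCokernel.iso (Scheme.Modules.restrictFunctor V.ι) _)


end Groth.Agent.S17649
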