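import Groth.Statements.S17651
import Groth.Agent.Lib.DefAmp1.Tensor
import Groth.Agent.Lib.CurveCoh17.Point

set_option autoImplicit false
universe u
open CategoryTheory CategoryTheory.Limits AlgebraicGeometry TopologicalSpace
open Curves

namespace Groth.Agent.S17651

set_option linter.style.haveILetI false
set_option backward.isDefEq.respectTransparency false
section Aux
open Groth.Agent Groth.Agent.M1 Groth.Agent.M2 Groth.Agent.CurveCoh17

attribute [local instance] Curv2.resAlgebra in
theorem van_pointIdeal {k : Type u} [Field k] [IsAlgClosed k] {X : Scheme.{u}} [X.Over (Spec (CommRingCat.of k))]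
    [LocallyOfFiniteType (X ↘ Spec (CommRingCat.of k))] {x : X} (hx : IsClosed ({x} : Set X))
    (hO : Subsingleton (Coh.HH X (Coh.structureModule X) 1)) :
    Subsingleton (Coh.HH X
      (ClSub.idealMod (Scheme.IdealSheafData.vanishingIdeal (⟨{x}, hx⟩ : Closeds X))) 1) := by
  let Z := Scheme.IdealSheafData.vanishingIdeal (⟨{x}, hx⟩ : Closeds X)
  haveI := epi_toSubscheme Z
  let S : ShortComplex X.Modules := ShortComplex.mk (kernel.ι (ClSub.toSubscheme Z)) (ClSub.toSubscheme Z)
    (kernel.condition _)
  have hS : S.ShortExact := { exact := ShortComplex.exact_kernel _ }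
  let u : Coh.HH X (Coh.structureModule X) 0 := (hh0 _).symm (one ⊤)
  let v : Coh.HH X (ClSub.quotMod Z) 0 := hmap k (ClSub.toSubscheme Z) 0 u
  have hv : v ≠ 0 := fun h0 => by
    have h1 : (ClSub.toSubscheme Z).app ⊤ (one ⊤) = 0 := by
      have := hh0_hmap k (ClSub.toSubscheme Z) u
      rw [show hmap k (ClSub.toSubscheme Z) 0 u = 0 from h0, map_zero, AddEquiv.apply_symm_apply] at this
      exact this.symm
    obtain ⟨-, a₀, ha₀⟩ := quot_point_props hx
    obtain ⟨b, hb⟩ := (epi_iff_stalk (ClSub.toSubscheme Z)).1 inferInstance x a₀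
    obtain ⟨c, hc, -⟩ := stalkLin_secHom (one (X := X) ⊤) x b
    apply ha₀
    rw [← hb]
    show stalkLin (ClSub.toSubscheme Z) x b = 0
    rw [hc, map_smul, stalkLin_apply, M1.germ_naturality, h1, map_zero, smul_zero]
  have hr : Module.finrank k (Coh.HH X (ClSub.quotMod Z) 0) = 1 :=
    (finrank_quotMod_point hx).trans (finrank_residueField hx)
  refine subsingleton_of_forall_eq 0 fun y => ?_
  obtain ⟨z, hz⟩ := (exact_hdelta_hmap k hS 0 y).1 (Subsingleton.elim (α := Coh.HH X (Coh.structureModule X) 1) _ _)
  obtain ⟨c, rfl⟩ := (finrank_eq_one_iff_of_nonzero' v hv).1 hr z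
  have h0 : hdelta k hS 0 v = 0 := (exact_hmap_hdelta k hS 0 v).2 ⟨u, rfl⟩
  rw [← hz, map_smul, h0, smul_zero]

end Aux


/-- Let k be an algebraically closed field and B a connected scheme, proper over k, of dimension one,
with at-worst-nodal singularities and with H^1(B, O_B) = 0. Let E be a finite locally free
O_B-module generated by its global sections and p a closed point of B, with I_p the ideal sheaf of
functions vanishing at p. Then H^1(B, E ⊗ I_p) = 0; since E is locally free, E ⊗ I_p is the
submodule I_p E of sections vanishing at p. (The source works over the complex numbers; the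
statement and its proof are unchanged over any algebraically closed field.) -/
theorem result (k : Type u) [Field k] [IsAlgClosed k]
    (B : Scheme.{u}) [B.Over (Spec (CommRingCat.of k))] [IsProper (B ↘ Spec (CommRingCat.of k))]
    [ConnectedSpace ↥B] (hdim : topologicalKrullDim ↥B = 1) (hnod : Curv2.AtWorstNodal k B)
    (hg : Subsingleton (Coh.HH B (Coh.structureModule B) 1))
    (E : B.Modules) (hE : FlatMod.IsFinLocFree E) (hgg : Curv2.IsGloballyGenerated E)
    (p : ↥B) (hp : IsClosed ({p} : Set ↥B)) :
    Subsingleton (Coh.HH B (CohB1.tensorMod E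
      (ClSub.idealMod (Scheme.IdealSheafData.vanishingIdeal (⟨{p}, hp⟩ : Closeds ↥B)))) 1) := by
  obtain ⟨_, _⟩ := Groth.Agent.DefAmp1.setup (X := B) k
  set Z := Scheme.IdealSheafData.vanishingIdeal (⟨{p}, hp⟩ : Closeds ↥B)
  have hI : Coh.IsQCoh (ClSub.idealMod Z) :=
    Groth.Agent.M1.isQCoh_kernel (Groth.Agent.M1.isCoh_structureModule B).1
      (Groth.Agent.CurveCoh17.isCoh_quotMod Z).1 (ClSub.toSubscheme Z)
  exact Groth.Agent.DefAmp1.van_tensor_of_gg k hdim.le (Groth.Agent.CohFound.isCoh_of_isFinLocFree hE) hgg hI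
    (van_pointIdeal (k := k) hp hg)

end Groth.Agent.S17651
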