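import Groth.Statements.S17652
import Groth.Agent.Lib.CompUSC4.Main
-- import your own Groth.Agent.* helpers here

set_option autoImplicit false
set_option maxHeartbeats 1000000
set_option linter.style.haveILetI false
set_option backward.isDefEq.respectTransparency false
set_option backward.isDefEq.respectTransparency.types false
universe u
open CategoryTheory CategoryTheory.Limits AlgebraicGeometry TopologicalSpace
open FlatMor

namespace Groth.Agent.S17652

/-- Let k be a field, X and Y schemes of finite type over k and f : X → Y a k-morphism which is flat and
proper and whose fibres over the closed points of Y are geometrically reduced. For y in Y let N(y)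
be the number of irreducible components of the geometric fibre of f at y (the base change of the
fibre to an algebraic closure of the residue field κ(y)). Then N is upper semicontinuous on Y: every
point y has a neighbourhood on which N ≤ N(y). -/
theorem result (k : Type u) [Field k]
    (X Y : Scheme.{u}) [X.Over (Spec (CommRingCat.of k))] [Y.Over (Spec (CommRingCat.of k))]
    [LocallyOfFiniteType (X ↘ Spec (CommRingCat.of k))] [CompactSpace ↥X]
    [LocallyOfFiniteType (Y ↘ Spec (CommRingCat.of k))] [CompactSpace ↥Y]
    (f : X ⟶ Y) (hf : f ≫ (Y ↘ Spec (CommRingCat.of k)) = X ↘ Spec (CommRingCat.of k))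
    [Flat f] [IsProper f]
    (hred : ∀ y : ↥Y, IsClosed ({y} : Set ↥Y) → GeometricallyReduced (f.fiberToSpecResidueField y)) :
    UpperSemicontinuous (fun y : ↥Y =>
      Nat.card ↥(irreducibleComponents (↥(pullback f
        (Spec.map (CommRingCat.ofHom (algebraMap (Y.residueField y) (AlgebraicClosure (Y.residueField y)))) ≫
          Y.fromSpecResidueField y)) : Type u))) := by
  haveI : IsLocallyNoetherian Y := LocallyOfFiniteType.isLocallyNoetherian (Y ↘ Spec (CommRingCat.of k))
  haveI : LocallyOfFiniteType f := inferInstance
  haveI : LocallyOfFinitePresentation f := inferInstance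
  have hall : ∀ y : Y, GeometricallyReduced (f.fiberToSpecResidueField y) := by
    have hG : IsOpen {y : Y | ∀ z : f.fiber y, FBase.IsGeomReducedAt (f.fiberToSpecResidueField y) z} :=
      FibDepth5.isOpen_forall_fiber f (fun y z => FBase.IsGeomReducedAt (f.fiberToSpecResidueField y) z)
        (by
          convert FibDepth5.isOpen_flat_geomReduced f using 1
          exact Set.ext fun x => ⟨fun h => ⟨Flat.stalkMap f x, h⟩, fun h => h.2⟩)
    intro y
    rw [ZConn5.geometricallyReduced_iff_forall (k := Y.residueField y)]
    by_contra hy
    obtain ⟨c, hc, hcl⟩ := hG.isClosed_compl.exists_closed_singleton ⟨y, hy⟩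
    exact hc ((ZConn5.geometricallyReduced_iff_forall (k := Y.residueField c) _).1 (hred c hcl))
  have hcount : ∀ y : Y, Nat.card ↥(irreducibleComponents (↥(pullback f
        (Spec.map (CommRingCat.ofHom (algebraMap (Y.residueField y) (AlgebraicClosure (Y.residueField y)))) ≫
          Y.fromSpecResidueField y)) : Type u)) = (MoreMor.nGeomIrredComp f y).toNat ∧
      MoreMor.nGeomIrredComp f y ≠ ⊤ := by
    intro y
    let t := Spec.map (CommRingCat.ofHom (algebraMap (Y.residueField y) (AlgebraicClosure (Y.residueField y)))) ≫
          Y.fromSpecResidueField y
    have h := (GeomSpread4.count_point f t).1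
    rw [show t (IsLocalRing.closedPoint (AlgebraicClosure (Y.residueField y))) = y by
      rw [Scheme.Hom.comp_apply]; exact Scheme.fromSpecResidueField_apply _ _] at h
    haveI : IsNoetherian (pullback f t) :=
      { toIsLocallyNoetherian := LocallyOfFiniteType.isLocallyNoetherian (pullback.snd f t)
        toCompactSpace := QuasiCompact.compactSpace_of_compactSpace (pullback.snd f t) }
    have hfin : (irreducibleComponents ↥(pullback f t)).Finite := TopologicalSpace.NoetherianSpace.finite_irreducibleComponents
    rw [h]
    exact ⟨Nat.card_coe_set_eq _, hfin.encard_lt_top.ne⟩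
  intro y n hn
  filter_upwards [CompUSC4.eventually_le f hall y] with z hz
  simp only [(hcount z).1, (hcount y).1] at hn ⊢
  exact lt_of_le_of_lt (ENat.toNat_le_toNat hz (hcount y).2) hn

end Groth.Agent.S17652
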