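import Groth.Statements.S9686
import Groth.Agent.Lib.DimFormula14.Scheme
import Groth.Agent.Lib.VarDim.Top

set_option autoImplicit false
set_option backward.isDefEq.respectTransparency.types false
universe u
open CategoryTheory CategoryTheory.Limits AlgebraicGeometry
open Mor

namespace Groth.Agent.S9686

/-- Let Y be locally Noetherian and f : X ⟶ Y locally of finite type. If E bounds the transcendence
degree of κ(ξ) over κ(f ξ) for every generic point ξ of an irreducible component of X, then dim X ≤
dim Y + E. (The published bound is the supremum of these transcendence degrees; the statement with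
any upper bound E is equivalent.) -/
theorem result {X Y : Scheme.{u}} [IsLocallyNoetherian Y]
    (f : X ⟶ Y) [LocallyOfFiniteType f] (E : ℕ)
    (hE : ∀ ξ : X, closure {ξ} ∈ irreducibleComponents ↥X →
      letI := (f.residueFieldMap ξ).hom.toAlgebra
      Algebra.trdeg (Y.residueField (f.base ξ)) (X.residueField ξ) ≤ E) :
    topologicalKrullDim ↥X ≤ topologicalKrullDim ↥Y + E := by
  have hX : topologicalKrullDim ↥X = Order.krullDim X :=
    (Groth.Agent.VarDim.scheme_dim_eq_iSup_height).trans Order.krullDim_eq_iSup_height.symm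
  have hY : topologicalKrullDim ↥Y = Order.krullDim Y :=
    (Groth.Agent.VarDim.scheme_dim_eq_iSup_height).trans Order.krullDim_eq_iSup_height.symm
  rw [hX, Order.krullDim_eq_iSup_coheight, hY]
  refine iSup_le fun x => ?_
  obtain ⟨ξ, -, hξ0, hle⟩ := Groth.Agent.DimFormula14.exists_stalkDim_add_rd_le f x
  have hmax : IsMax ξ := Order.coheight_eq_zero.1 (WithBot.coe_injective
    ((ringKrullDim_stalk_eq_coheight ξ).symm.trans hξ0))
  have hcomp : closure {ξ} ∈ irreducibleComponents ↥X := by
    refine ⟨isIrreducible_singleton.closure, fun Z hZ hsub => ?_⟩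
    obtain ⟨g, hg⟩ := QuasiSober.sober (α := X) hZ.closure isClosed_closure
    have h1 : g ⤳ ξ := hg.specializes (subset_closure (hsub (subset_closure rfl)))
    have h2 : ξ ⤳ g := hmax (show ξ ≤ g from h1)
    exact (subset_closure.trans hg.def.symm.subset).trans (specializes_iff_closure_subset.1 h2)
  have hrd : (Groth.Agent.FibDim14.rd f ξ : WithBot ℕ∞) ≤ (E : WithBot ℕ∞) := by
    have h3 := (Groth.Agent.FibDim14.rdeg_eq_rd f ξ).symm.trans_le (hE ξ hcomp)
    exact_mod_cast (Nat.cast_le (α := Cardinal.{u})).1 h3
  calc ((Order.coheight x : ℕ∞) : WithBot ℕ∞) = ringKrullDim (X.presheaf.stalk x) :=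
        (ringKrullDim_stalk_eq_coheight x).symm
    _ ≤ ringKrullDim (X.presheaf.stalk x) + (Groth.Agent.FibDim14.rd f x : WithBot ℕ∞) :=
        le_add_of_nonneg_right (by exact_mod_cast Nat.zero_le _)
    _ ≤ ringKrullDim (Y.presheaf.stalk (f x)) + (Groth.Agent.FibDim14.rd f ξ : WithBot ℕ∞) := hle
    _ ≤ Order.krullDim Y + (E : WithBot ℕ∞) := by
        refine add_le_add ?_ hrd
        rw [ringKrullDim_stalk_eq_coheight]
        exact Order.coheight_le_krullDim _

end Groth.Agent.S9686
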