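import Groth.Statements.S17653
import Groth.Agent.S9686
import Groth.Agent.Lib.Weight4.Mult
import Groth.Agent.Lib.AmpleFin18.Curves
import Groth.Agent.Lib.VarDim.Top
-- import your own Groth.Agent.* helpers here

set_option autoImplicit false
universe u
open CategoryTheory CategoryTheory.Limits AlgebraicGeometry TopologicalSpace
open Variety

namespace Groth.Agent.S17653

/-- Suppose X and Y are locally Noetherian schemes of the same pure dimension d (every irreducible
component of X and every irreducible component of Y has topological Krull dimension d), and π : X →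
Y is a proper morphism between them. If there is a point x of X which is isolated in its fibre
π⁻¹(π(x)), i.e. some open neighbourhood of x meets that fibre only in x, then the image of π, with
the subspace topology, has the same dimension as Y. -/
theorem result
    (X Y : Scheme.{u}) [IsLocallyNoetherian X] [IsLocallyNoetherian Y] (π : X ⟶ Y) [IsProper π]
    (d : WithBot ℕ∞) (hX : ∀ Z ∈ irreducibleComponents ↥X, topologicalKrullDim ↥Z = d)
    (hY : ∀ Z ∈ irreducibleComponents ↥Y, topologicalKrullDim ↥Z = d)
    (x : ↥X) (hx : ∃ U : X.Opens, x ∈ U ∧ ∀ x' ∈ U, π x' = π x → x' = x) :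
    topologicalKrullDim ↥(Set.range (fun z : ↥X => π z)) = topologicalKrullDim ↥Y := by
  classical
  have hYle : topologicalKrullDim ↥Y ≤ d := by
    rw [Groth.Agent.VarDim.scheme_dim_eq_iSup_height]
    refine iSup_le fun y => ?_
    rw [← hY _ (irreducibleComponent_mem_irreducibleComponents y),
      Groth.Agent.VarDim.topologicalKrullDim_isClosed_eq_iSup_height isClosed_irreducibleComponent]
    exact le_iSup (fun z : irreducibleComponent y => ((Order.height (z : ↥Y) : ℕ∞) : WithBot ℕ∞))
      ⟨y, mem_irreducibleComponent⟩
  let Z : TopologicalSpace.Closeds X := ⟨irreducibleComponent x, isClosed_irreducibleComponent⟩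
  let I := Scheme.IdealSheafData.vanishingIdeal Z
  have hIs : (I.support : Set X) = irreducibleComponent x :=
    Scheme.IdealSheafData.coe_support_vanishingIdeal (Z := Z)
  haveI : IsIntegral I.subscheme :=
    Groth.Agent.AmpleFin18.isIntegral_of_irreducible Z isIrreducible_irreducibleComponent
  have hdimZ : topologicalKrullDim ↥I.subscheme = d := by
    rw [Groth.Agent.AmpleFin18.dim_subscheme I hIs]
    exact hX _ (irreducibleComponent_mem_irreducibleComponents x)
  obtain ⟨z, hz⟩ : x ∈ Set.range I.subschemeι := by
    rw [Scheme.IdealSheafData.range_subschemeι, hIs]; exact mem_irreducibleComponent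
  let p := I.subschemeι ≫ π
  haveI : LocallyOfFiniteType (p.toImage ≫ p.imageι) := by rw [p.toImage_imageι]; infer_instance
  haveI : LocallyOfFiniteType p.toImage := locallyOfFiniteType_of_comp _ p.imageι
  haveI : IsLocallyNoetherian p.image := LocallyOfFiniteType.isLocallyNoetherian p.imageι
  have hqp : p.QuasiFiniteAt z := by
    rw [Scheme.Hom.quasiFiniteAt_iff_isOpen_singleton_asFiber]
    obtain ⟨U, hxU, hU⟩ := hx
    have hpz : p z = π x := by rw [show p z = π (I.subschemeι z) from rfl, hz]
    have hset : ({p.asFiber z} : Set (p.fiber (p z))) =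
        (fun w => I.subschemeι ((p.fiberι (p z)) w)) ⁻¹' (U : Set X) := by
      ext w
      refine ⟨?_, fun hw => ?_⟩
      · rintro rfl
        show I.subschemeι _ ∈ U
        rw [Scheme.Hom.fiberι_asFiber, hz]; exact hxU
      · have hfib : p (p.fiberι (p z) w) = p z := by
          have := (Scheme.Hom.range_fiberι p (p z)).le ⟨w, rfl⟩
          exact this
        have h1 := hU _ hw (hfib.trans hpz)
        apply (p.fiberι (p z)).isEmbedding.injective
        rw [Scheme.Hom.fiberι_asFiber]
        exact I.subschemeι.isEmbedding.injective (h1.trans hz.symm)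
    rw [hset]
    exact U.isOpen.preimage (I.subschemeι.continuous.comp (p.fiberι (p z)).continuous)
  have hqg : p.toImage.QuasiFiniteAt z := by
    rw [← Scheme.Hom.quasiFiniteAt_comp_iff (g := p.imageι), p.toImage_imageι]; exact hqp
  have hmem : genericPoint ↥I.subscheme ∈ p.toImage.quasiFiniteLocus :=
    (genericPoint_specializes z).mem_open p.toImage.quasiFiniteLocus.isOpen
      (Scheme.Hom.mem_quasiFiniteLocus.2 hqg)
  have hle := Groth.Agent.S9686.result p.toImage 0 (fun ξ hξ => by
    have hgen : ξ = genericPoint ↥I.subscheme := by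
      rw [irreducibleComponents_eq_singleton] at hξ
      exact (isGenericPoint_def.2 hξ : IsGenericPoint ξ Set.univ).eq (genericPoint_spec _)
    subst hgen
    letI := (p.toImage.residueFieldMap (genericPoint ↥I.subscheme)).hom.toAlgebra
    haveI := Groth.Agent.Weight.isAlgebraic_residueFieldMap p.toImage _
      (Scheme.Hom.mem_quasiFiniteLocus.1 hmem)
    rw [trdeg_eq_zero]
    exact bot_le)
  have hW : topologicalKrullDim ↥p.image ≤ topologicalKrullDim ↥(Set.range (fun z : ↥X => π z)) := by
    have hr : Set.range p.imageι ⊆ Set.range (fun z : ↥X => π z) := by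
      rw [show Set.range p.imageι = _ from p.ker.range_subschemeι, Scheme.Hom.support_ker]
      refine closure_minimal ?_ π.isClosedMap.isClosed_range
      rintro _ ⟨w, rfl⟩
      exact ⟨I.subschemeι w, rfl⟩
    have hind : Topology.IsInducing
        (fun w : ↥p.image => (⟨p.imageι w, hr ⟨w, rfl⟩⟩ : ↥(Set.range (fun z : ↥X => π z)))) :=
      p.imageι.isEmbedding.isInducing.codRestrict _
    exact hind.topologicalKrullDim_le
  have hR : topologicalKrullDim ↥(Set.range (fun z : ↥X => π z)) ≤ topologicalKrullDim ↥Y :=
    Topology.IsInducing.subtypeVal.topologicalKrullDim_le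
  refine le_antisymm hR (hYle.trans ?_)
  rw [← hdimZ]
  refine (hle.trans ?_).trans hW
  simp


end Groth.Agent.S17653
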