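import Groth.Statements.S17654
import Groth.Agent.Lib.CurveH1Min27.DefAmpleTree
import Groth.Agent.Lib.CurveH1Min27.Tails
import Groth.Agent.Lib.CurveH1Min27.GorAmple
import Groth.Agent.Lib.StabUniq18.Stalk
-- import your own Groth.Agent.* helpers here

set_option autoImplicit false
universe u
open CategoryTheory CategoryTheory.Limits AlgebraicGeometry TopologicalSpace
attribute [local instance] HasDerivedCategory.standard
open Curves

namespace Groth.Agent.S17654

/-- Let k be an algebraically closed field and B a connected scheme, proper over k, of dimension one,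
with at-worst-nodal singularities and H^1(B, O_B) = 0. Write ω_B for the dualizing module of B over
k, the cohomology sheaf in degree −1 of the upper-shriek pull-back of O_{Spec k} (the existence of
the upper-shriek functor is assumed), and similarly for closed subschemes of B. A locally free E on
such a curve is called deformation ample when it is generated by global sections and H^1(E ⊗ ω) = 0.
Let E be a finite locally free O_B-module such that (1) for every irreducible component Z of B,
taken with its reduced structure, E|_Z is generated by global sections, and (2) for some connected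
reduced closed subscheme B' of B whose support is a union of irreducible components of B, the
restriction E|_{B'} is deformation ample on B'. Then E is deformation ample: E is generated by
global sections and H^1(B, E ⊗ ω_B) = 0. (The source works over the complex numbers and with E of
positive rank; the proof is unchanged over any algebraically closed field, and rank zero is
trivially allowed.) -/
theorem result (k : Type u) [Field k] [IsAlgClosed k]
    (B : Scheme.{u}) [B.Over (Spec (CommRingCat.of k))] [IsProper (B ↘ Spec (CommRingCat.of k))]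
    [ConnectedSpace ↥B] (hdim : topologicalKrullDim ↥B = 1) (hnod : Curv2.AtWorstNodal k B)
    (hg : Subsingleton (Coh.HH B (Coh.structureModule B) 1))
    [DCoh.HasRpush (B ↘ Spec (CommRingCat.of k))] (h : DCoh.RpushPreservesQCoh (B ↘ Spec (CommRingCat.of k))) [DCoh.HasShriek (B ↘ Spec (CommRingCat.of k)) h]
    (OY : DCoh.DQCoh (Spec (CommRingCat.of k))) (hOY : Nonempty (OY.obj ≅ DCoh.inD (Spec (CommRingCat.of k)) (Coh.structureModule (Spec (CommRingCat.of k)))))
    (E : B.Modules) (hE : FlatMod.IsFinLocFree E)
    (hcomp : ∀ Z : B.IdealSheafData, IsIntegral Z.subscheme → topologicalKrullDim (Z.support : Set ↥B) = 1 →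
      Curv2.IsGloballyGenerated ((Scheme.Modules.pullback Z.subschemeι).obj E))
    (B' : B.IdealSheafData) [ConnectedSpace ↥B'.subscheme] [AlgebraicGeometry.IsReduced B'.subscheme]
    (hunion : ∀ x ∈ (B'.support : Set ↥B), ∃ Z : B.IdealSheafData, IsIntegral Z.subscheme ∧
      topologicalKrullDim (Z.support : Set ↥B) = 1 ∧ (Z.support : Set ↥B) ⊆ B'.support ∧ x ∈ (Z.support : Set ↥B))
    [DCoh.HasRpush (B'.subschemeι ≫ (B ↘ Spec (CommRingCat.of k)))] (h' : DCoh.RpushPreservesQCoh (B'.subschemeι ≫ (B ↘ Spec (CommRingCat.of k))))
    [DCoh.HasShriek (B'.subschemeι ≫ (B ↘ Spec (CommRingCat.of k))) h']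
    (hgg' : Curv2.IsGloballyGenerated ((Scheme.Modules.pullback B'.subschemeι).obj E))
    (hvan' : Subsingleton (Coh.HH B'.subscheme (CohB1.tensorMod ((Scheme.Modules.pullback B'.subschemeι).obj E)
      (DCoh.dualizingMod (B'.subschemeι ≫ (B ↘ Spec (CommRingCat.of k))) h' OY 1)) 1)) :
    Curv2.IsGloballyGenerated E ∧
      Subsingleton (Coh.HH B (CohB1.tensorMod E (DCoh.dualizingMod (B ↘ Spec (CommRingCat.of k)) h OY 1)) 1) := by
  haveI := Groth.Agent.CohFound.isNoetherian_of_isProper (B ↘ Spec (CommRingCat.of k))
  haveI : AlgebraicGeometry.IsReduced B := Groth.Agent.StabUniq18.IsNodalCurve.isReduced (k := k)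
    ⟨inferInstance, Groth.Agent.CurveH1Min27.components_dim_one k B hdim, hnod⟩
  have hgE : Curv2.IsGloballyGenerated E := by
    refine Groth.Agent.CurveH1Min27.isGloballyGenerated_of_components (k := k) hdim.le hg hE fun η hη => ?_
    have hE' : closure ({η} : Set B) ∈ irreducibleComponents (B : Type u) := hη
    obtain ⟨hc, hd1⟩ := Groth.Agent.CurveH1Min27.component_curve k hdim _ hE'
    haveI : IrreducibleSpace (Groth.Agent.CurveH1Min27.vI (closure ({η} : Set B)) isClosed_closure).subscheme :=
      Groth.Agent.CurveH1Min27.irreducibleSpace_of_range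
        (Groth.Agent.CurveH1Min27.vI (closure ({η} : Set B)) isClosed_closure).subschemeι (by
        rw [show Set.range (Groth.Agent.CurveH1Min27.vI (closure ({η} : Set B)) isClosed_closure).subschemeι =
          closure ({η} : Set B) from Groth.Agent.TFOne27.range_sub _ isClosed_closure]
        exact isIrreducible_singleton.closure)
    haveI : AlgebraicGeometry.IsReduced (Groth.Agent.CurveH1Min27.vI (closure ({η} : Set B)) isClosed_closure).subscheme :=
      inferInstanceAs (AlgebraicGeometry.IsReduced (VecSt.subsch B (closure ({η} : Set B)) isClosed_closure))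
    exact hcomp (Groth.Agent.CurveH1Min27.vI (closure ({η} : Set B)) isClosed_closure)
      (isIntegral_of_irreducibleSpace_of_isReduced _) ((Groth.Agent.AmpleFin18.dim_subscheme _ rfl).symm.trans hd1)
  letI : B'.subscheme.Over (Spec (CommRingCat.of k)) := ⟨B'.subschemeι ≫ (B ↘ Spec (CommRingCat.of k))⟩
  haveI : IsProper (B'.subscheme ↘ Spec (CommRingCat.of k)) :=
    inferInstanceAs (IsProper (B'.subschemeι ≫ (B ↘ Spec (CommRingCat.of k))))
  have hd' : topologicalKrullDim B'.subscheme = 1 := by
    refine le_antisymm (B'.subschemeι.isClosedEmbedding.isInducing.topologicalKrullDim_le.trans hdim.le) ?_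
    obtain ⟨z⟩ := (inferInstance : Nonempty B'.subscheme)
    obtain ⟨Z, -, hZ1, hZB, -⟩ := hunion (B'.subschemeι z) (B'.range_subschemeι ▸ Set.mem_range_self z)
    rw [Groth.Agent.AmpleFin18.dim_subscheme B' rfl, ← hZ1]
    exact Topology.IsInducing.topologicalKrullDim_le (f := Set.inclusion hZB)
      ((Topology.IsInducing.subtypeVal.of_comp_iff).mp Topology.IsInducing.subtypeVal)
  refine ⟨hgE, Groth.Agent.CurveH1Min27.subsingleton_h1_tensor_dualizing (k := k) hdim h OY hOY
    (Groth.Agent.CurveH1Min27.isInvertible_dualizing_nodal k B hdim hnod h OY hOY) hE hgE B'.subschemeι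
    (DCoh.dualizingMod (B'.subschemeι ≫ (B ↘ Spec (CommRingCat.of k))) h' OY 1) ?_ hvan'⟩
  haveI hR : DCoh.HasRpush (B'.subscheme ↘ Spec (CommRingCat.of k)) :=
    (inferInstance : DCoh.HasRpush (B'.subschemeι ≫ (B ↘ Spec (CommRingCat.of k))))
  haveI : DCoh.HasShriek (B'.subscheme ↘ Spec (CommRingCat.of k)) h' :=
    ‹DCoh.HasShriek (B'.subschemeι ≫ (B ↘ Spec (CommRingCat.of k))) h'›
  exact Groth.Agent.CurveH1Min27.not_subsingleton_h1_dualizing (k := k) (X := B'.subscheme) hd' h' OY hOY


end Groth.Agent.S17654
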