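import Groth.Statements.S17655
import Groth.Agent.Lib.DefAmp1.Tensor

set_option autoImplicit false
universe u
open CategoryTheory CategoryTheory.Limits AlgebraicGeometry TopologicalSpace
attribute [local instance] HasDerivedCategory.standard
open Curves

namespace Groth.Agent.S17655

set_option linter.style.haveILetI false
set_option backward.isDefEq.respectTransparency false


/-- Let k be an algebraically closed field and B a connected scheme, proper over k, of dimension one,
with at-worst-nodal singularities and H^1(B, O_B) = 0, and let ω_B be its dualizing module over k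
(the cohomology sheaf in degree −1 of the upper-shriek pull-back of O_{Spec k}; the existence of the
upper-shriek functor is assumed). Call a finite locally free O_B-module deformation ample when it is
generated by global sections and H^1(B, E ⊗ ω_B) = 0. If φ : E₁ → E₂ is a morphism of finite locally
free O_B-modules whose cokernel is a torsion module (every point of its support is closed) and E₁ is
deformation ample, then E₂ is deformation ample. (The source states this for a family of prestable
genus-zero curves over an arbitrary base T, with relative global generation and R^1 of the direct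
image in place of global generation and H^1; this is the case T = Spec k of a field base, the
general case needing relative duality not available here. The source also assumes the sheaves
nonzero (positive rank), which the conclusion does not need.) -/
theorem result (k : Type u) [Field k] [IsAlgClosed k]
    (B : Scheme.{u}) [B.Over (Spec (CommRingCat.of k))] [IsProper (B ↘ Spec (CommRingCat.of k))]
    [ConnectedSpace ↥B] (hdim : topologicalKrullDim ↥B = 1) (hnod : Curv2.AtWorstNodal k B)
    (hg : Subsingleton (Coh.HH B (Coh.structureModule B) 1))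
    [DCoh.HasRpush (B ↘ Spec (CommRingCat.of k))] (h : DCoh.RpushPreservesQCoh (B ↘ Spec (CommRingCat.of k))) [DCoh.HasShriek (B ↘ Spec (CommRingCat.of k)) h]
    (OY : DCoh.DQCoh (Spec (CommRingCat.of k))) (hOY : Nonempty (OY.obj ≅ DCoh.inD (Spec (CommRingCat.of k)) (Coh.structureModule (Spec (CommRingCat.of k)))))
    (E₁ E₂ : B.Modules) (hE₁ : FlatMod.IsFinLocFree E₁) (hE₂ : FlatMod.IsFinLocFree E₂) (φ : E₁ ⟶ E₂)
    (htors : ∀ x ∈ CohB1.support (cokernel φ), IsClosed ({x} : Set ↥B))
    (h₁ : (Curv2.IsGloballyGenerated E₁ ∧ Subsingleton (Coh.HH B (CohB1.tensorMod E₁ (DCoh.dualizingMod (B ↘ Spec (CommRingCat.of k)) h OY 1)) 1))) :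
    (Curv2.IsGloballyGenerated E₂ ∧ Subsingleton (Coh.HH B (CohB1.tensorMod E₂ (DCoh.dualizingMod (B ↘ Spec (CommRingCat.of k)) h OY 1)) 1)) := by
  obtain ⟨_, _⟩ := Groth.Agent.DefAmp1.setup (X := B) k
  have hd : topologicalKrullDim ↥B ≤ 1 := hdim.le
  set W := DCoh.dualizingMod (B ↘ Spec (CommRingCat.of k)) h OY 1
  have hW : Coh.IsQCoh W := Groth.Agent.DefAmp1.isQCoh_dualizingMod _ h OY 1
  have c₁ := Groth.Agent.CohFound.isCoh_of_isFinLocFree hE₁
  have c₂ := Groth.Agent.CohFound.isCoh_of_isFinLocFree hE₂
  have hcl : IsClosed (CohB1.support (cokernel φ)) :=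
    Groth.Agent.M1.isClosed_support (Groth.Agent.M1.isCoh_cokernel c₁.1 c₂ φ).2
  obtain ⟨G, hG⟩ := Groth.Agent.DefAmp1.exists_finset_of_closed hcl htors
  classical
  let S := G.filter fun x => IsClosed ({x} : Set ↥B)
  have hS : ∀ x ∈ S, IsClosed ({x} : Set ↥B) := fun x hx => (Finset.mem_filter.1 hx).2
  have hsurj : ∀ x : ↥B, x ∉ S → Function.Surjective ((Groth.Agent.M1.stalkAb x).map φ) := fun x hx =>
    (Groth.Agent.CohFound.notMem_support_cokernel_iff φ x).1 fun hh =>
      hx (Finset.mem_filter.2 ⟨(hG x hh).1, (hG x hh).2⟩)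
  constructor
  · have hI : Coh.IsQCoh (Abelian.image φ) :=
      Groth.Agent.M1.isQCoh_kernel c₂.1 (Groth.Agent.M1.isQCoh_cokernel c₁.1 c₂.1 φ) (cokernel.π φ)
    have hv : Subsingleton (Coh.HH B (Abelian.image φ) 1) :=
      Groth.Agent.DefAmp1.van_of_epi k hd c₁.1 hI (Abelian.factorThruImage φ)
        (Groth.Agent.DefAmp1.van_of_gg k hd c₁ h₁.1 hg)
    exact Groth.Agent.DefAmp1.gg_of_shortExact k (Groth.Agent.CurveCoh17.cokerSC_shortExact φ)
      (Groth.Agent.DefAmp1.gg_of_epi (Abelian.factorThruImage φ) h₁.1)
      (Groth.Agent.DefAmp1.gg_of_suppIn (Groth.Agent.DefAmp1.suppIn_cokernel φ hS hsurj)) hv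
  · have q₁ := Groth.Agent.M2.isQCoh_tensor c₁.1 hW
    have q₂ := Groth.Agent.M2.isQCoh_tensor c₂.1 hW
    let ψ := Groth.Agent.M2.tensorMap φ (𝟙 W)
    have hv : Subsingleton (Coh.HH B (Abelian.image ψ) 1) :=
      Groth.Agent.DefAmp1.van_of_epi k hd q₁
        (Groth.Agent.M1.isQCoh_kernel q₂ (Groth.Agent.M1.isQCoh_cokernel q₁ q₂ ψ) (cokernel.π ψ))
        (Abelian.factorThruImage ψ) h₁.2
    exact Groth.Agent.DefAmp1.van_mid k (Groth.Agent.CurveCoh17.cokerSC_shortExact ψ) hv
      ((Groth.Agent.DefAmp1.suppIn_cokernel_tensor φ W hS hsurj).subsingleton_HH 0)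

end Groth.Agent.S17655
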