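import Groth.Statements.S17657
import Groth.Agent.Lib.DefAmp1.Tensor

set_option autoImplicit false
universe u
open CategoryTheory CategoryTheory.Limits AlgebraicGeometry TopologicalSpace
attribute [local instance] HasDerivedCategory.standard
open Curves

namespace Groth.Agent.S17657

set_option linter.style.haveILetI false
set_option backward.isDefEq.respectTransparency false


/-- Let k be an algebraically closed field and B a connected scheme, proper over k, of dimension one,
with at-worst-nodal singularities and H^1(B, O_B) = 0, and let ω_B be its dualizing module over k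
(the cohomology sheaf in degree −1 of the upper-shriek pull-back of O_{Spec k}; the existence of the
upper-shriek functor is assumed). Call a finite locally free O_B-module deformation ample when it is
generated by global sections and H^1(B, E ⊗ ω_B) = 0. If E is a deformation ample finite locally
free O_B-module then every tensor power E^{⊗ n} with n ≥ 1 is deformation ample. (The source states
this for a family of prestable genus-zero curves over an arbitrary base T, with relative global
generation and R^1 of the direct image in place of global generation and H^1; this is the case T =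
Spec k of a field base, the general case needing relative duality not available here. The source
also assumes the sheaves nonzero (positive rank), which the conclusion does not need.) -/
theorem result (k : Type u) [Field k] [IsAlgClosed k]
    (B : Scheme.{u}) [B.Over (Spec (CommRingCat.of k))] [IsProper (B ↘ Spec (CommRingCat.of k))]
    [ConnectedSpace ↥B] (hdim : topologicalKrullDim ↥B = 1) (hnod : Curv2.AtWorstNodal k B)
    (hg : Subsingleton (Coh.HH B (Coh.structureModule B) 1))
    [DCoh.HasRpush (B ↘ Spec (CommRingCat.of k))] (h : DCoh.RpushPreservesQCoh (B ↘ Spec (CommRingCat.of k))) [DCoh.HasShriek (B ↘ Spec (CommRingCat.of k)) h]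
    (OY : DCoh.DQCoh (Spec (CommRingCat.of k))) (hOY : Nonempty (OY.obj ≅ DCoh.inD (Spec (CommRingCat.of k)) (Coh.structureModule (Spec (CommRingCat.of k)))))
    (E : B.Modules) (hE : FlatMod.IsFinLocFree E) (h₁ : (Curv2.IsGloballyGenerated E ∧ Subsingleton (Coh.HH B (CohB1.tensorMod E (DCoh.dualizingMod (B ↘ Spec (CommRingCat.of k)) h OY 1)) 1))) (n : ℕ) (hn : 1 ≤ n) :
    (Curv2.IsGloballyGenerated (CohB1.tensorPow E n) ∧ Subsingleton (Coh.HH B (CohB1.tensorMod (CohB1.tensorPow E n) (DCoh.dualizingMod (B ↘ Spec (CommRingCat.of k)) h OY 1)) 1)) := by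
  obtain ⟨_, _⟩ := Groth.Agent.DefAmp1.setup (X := B) k
  have hd : topologicalKrullDim ↥B ≤ 1 := hdim.le
  set W := DCoh.dualizingMod (B ↘ Spec (CommRingCat.of k)) h OY 1
  have hW : Coh.IsQCoh W := Groth.Agent.DefAmp1.isQCoh_dualizingMod _ h OY 1
  have hc := Groth.Agent.CohFound.isCoh_of_isFinLocFree hE
  have key : ∀ m : ℕ, Coh.IsCoh (CohB1.tensorPow E (m + 1)) ∧
      Curv2.IsGloballyGenerated (CohB1.tensorPow E (m + 1)) := by
    intro m
    induction m with
    | zero =>
      exact ⟨Groth.Agent.CohFound.isCoh_of_iso (Groth.Agent.M2.tensorLUnit E).symm hc,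
        Groth.Agent.DefAmp1.gg_of_epi (Groth.Agent.M2.tensorLUnit E).inv h₁.1⟩
    | succ m ih =>
      exact ⟨Groth.Agent.CurveCoh17.isCoh_tensor ih.1 hc, Groth.Agent.DefAmp1.gg_tensor ih.1 ih.2 h₁.1⟩
  obtain ⟨m, rfl⟩ : ∃ m, n = m + 1 := ⟨n - 1, by omega⟩
  refine ⟨(key m).2, ?_⟩
  cases m with
  | zero =>
    exact Groth.Agent.CMReg18.van_iso k
      (Groth.Agent.M2.tensorIso (Groth.Agent.M2.tensorLUnit E) (Iso.refl W)).symm h₁.2
  | succ m =>
    exact Groth.Agent.CMReg18.van_iso k
      (Groth.Agent.M2.tensorAssoc (CohB1.tensorPow E (m + 1)) E W).symm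
      (Groth.Agent.DefAmp1.van_tensor_of_gg k hd (key m).1 (key m).2
        (Groth.Agent.M2.isQCoh_tensor hc.1 hW) h₁.2)

end Groth.Agent.S17657
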