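import Groth.Statements.S17662
import Groth.Agent.Lib.VerlindeH28.Basic

set_option autoImplicit false
universe u
open CIDisc

namespace Groth.Agent.S17662

open Finset in
theorem cb {R : Type*} [CommRing R] {e r : ℕ} (A B : Fin e → Fin r → R) :
    ∑ a ∈ (univ : Finset (Fin e → Fin r)).filter (fun a : Fin e → Fin r => StrictAnti a),
        (Matrix.of fun i j => A i (a j)).det * (Matrix.of fun i j => B i (a j)).det
      = (Matrix.of fun i l => ∑ x, A i x * B l x).det := by
  let P := MvPolynomial ((Fin e × Fin r) ⊕ (Fin e × Fin r)) ℤ
  let φ : P →+* R := MvPolynomial.eval₂Hom (Int.castRingHom R) (Sum.elim (fun p => A p.1 p.2) (fun p => B p.1 p.2))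
  let A' : Fin e → Fin r → P := fun i x => MvPolynomial.X (Sum.inl (i, x))
  let B' : Fin e → Fin r → P := fun i x => MvPolynomial.X (Sum.inr (i, x))
  have hA : ∀ i x, φ (A' i x) = A i x := fun i x => MvPolynomial.eval₂Hom_X' _ _ _
  have hB : ∀ i x, φ (B' i x) = B i x := fun i x => MvPolynomial.eval₂Hom_X' _ _ _
  have key := congrArg φ (Groth.Agent.VerlindeH28.cauchy_binet A' B')
  simp only [map_sum, map_mul, RingHom.map_det] at key
  have hm : ∀ f : Fin e → Fin e → P, φ.mapMatrix (Matrix.of f) = Matrix.of fun i j => φ (f i j) := fun f => rfl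
  simp only [hm, map_sum, map_mul, hA, hB] at key
  exact key

theorem cb_finset {R : Type*} [CommRing R] {e r : ℕ} (A : Matrix (Fin e) (Fin r) R) (B : Matrix (Fin r) (Fin e) R) :
    (A * B).det = ∑ L : {s : Finset (Fin r) // s.card = e},
      (A.submatrix id (L.1.orderEmbOfFin L.2)).det * (B.submatrix (L.1.orderEmbOfFin L.2) id).det := by
  classical
  have hprod : A * B = Matrix.of fun i l => ∑ x, A i x * B.transpose l x := by
    ext i l; rfl
  rw [hprod, ← cb]
  symm
  refine Finset.sum_bij (fun L _ => (L.1.orderEmbOfFin L.2) ∘ Fin.rev) ?_ ?_ ?_ ?_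
  · intro L _
    simp only [Finset.mem_filter, Finset.mem_univ, true_and]
    exact (L.1.orderEmbOfFin L.2).strictMono.comp_strictAnti Fin.rev_strictAnti
  · intro L _ L' _ h
    apply Subtype.ext
    have h2 := congrArg (fun f : Fin e → Fin r => Set.range f) h
    simp only [Set.range_comp, Fin.rev_surjective.range_eq, Set.image_univ, Finset.range_orderEmbOfFin] at h2
    exact Finset.coe_injective h2
  · intro a ha
    simp only [Finset.mem_filter, Finset.mem_univ, true_and] at ha
    have hc : (Finset.univ.image a).card = e := by
      rw [Finset.card_image_of_injective _ ha.injective, Finset.card_univ, Fintype.card_fin]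
    refine ⟨⟨_, hc⟩, Finset.mem_univ _, ?_⟩
    have hu := Finset.orderEmbOfFin_unique hc (f := a ∘ Fin.rev) (fun x => by simp) (ha.comp Fin.rev_strictAnti)
    funext x
    simp [← hu]
  · intro L _
    let σ : Equiv.Perm (Fin e) := Fin.revPerm
    have h1 : (Matrix.of fun i j => A i ((L.1.orderEmbOfFin L.2) (Fin.rev j))).det =
        (Equiv.Perm.sign σ : R) * (A.submatrix id (L.1.orderEmbOfFin L.2)).det :=
      Matrix.det_permute' σ (A.submatrix id (L.1.orderEmbOfFin L.2))
    have h2 : (Matrix.of fun i j => B.transpose i ((L.1.orderEmbOfFin L.2) (Fin.rev j))).det =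
        (Equiv.Perm.sign σ : R) * (B.submatrix (L.1.orderEmbOfFin L.2) id).det := by
      rw [← Matrix.det_transpose]
      exact Matrix.det_permute σ (B.submatrix (L.1.orderEmbOfFin L.2) id)
    simp only [Function.comp_apply]
    rw [h1, h2, mul_mul_mul_comm, ← Int.cast_mul, ← Units.val_mul, Int.units_mul_self, Units.val_one, Int.cast_one, one_mul]


/-- Let R be a commutative ring, M an r × n matrix over R and e ≥ 0; for each e-element set L of row
indices let A_L be an e × r matrix over R, and form the square matrix, indexed by the e-element sets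
of row indices, whose (L, L') entry is the e × e minor of A_L on the columns L'. If the determinant
of that square matrix is a unit, then the sum over L of the ideals generated by the e × e minors of
the products A_L · M is the ideal generated by all e × e minors of M. (In the source R is the
coordinate ring of an affine scheme X of codimension e cut out by f_1, …, f_r in affine n-space, M
is the image of the Jacobian matrix of the f_j, the A_L have entries in the ground field and cut out
complete intersections Z_L = V(A_L · f), so that the two sides are Σ_L Jac(Z_L) and Jac(X); the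
source states the equality for general A_L and establishes it under the present invertibility
condition, which it shows to be generic.) -/
theorem result {R : Type u} [CommRing R] (e r n : ℕ)
    (M : Matrix (Fin r) (Fin n) R)
    (A : {s : Finset (Fin r) // s.card = e} → Matrix (Fin e) (Fin r) R)
    (hA : IsUnit (Matrix.det (Matrix.of fun i j : {s : Finset (Fin r) // s.card = e} =>
      ((A i).submatrix id (j.1.orderEmbOfFin j.2)).det))) :
    (⨆ i, Ideal.span (Set.range fun t : {s : Finset (Fin n) // s.card = e} =>
        ((A i * M).submatrix id (t.1.orderEmbOfFin t.2)).det)) =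
      Ideal.span (Set.range fun p : {s : Finset (Fin r) // s.card = e} × {s : Finset (Fin n) // s.card = e} =>
        (M.submatrix (p.1.1.orderEmbOfFin p.1.2) (p.2.1.orderEmbOfFin p.2.2)).det) := by
  classical
  set C : Matrix {s : Finset (Fin r) // s.card = e} {s : Finset (Fin r) // s.card = e} R :=
    Matrix.of fun i j => ((A i).submatrix id (j.1.orderEmbOfFin j.2)).det with hC
  let w : {s : Finset (Fin n) // s.card = e} → {s : Finset (Fin r) // s.card = e} → R := fun t L =>
    (M.submatrix (L.1.orderEmbOfFin L.2) (t.1.orderEmbOfFin t.2)).det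
  have hv : ∀ i t, ((A i * M).submatrix id (t.1.orderEmbOfFin t.2)).det = ∑ L, C i L * w t L := by
    intro i t
    rw [Matrix.submatrix_mul _ _ id id _ Function.bijective_id, Matrix.submatrix_id_id, cb_finset]
    rfl
  refine le_antisymm (iSup_le fun i => Ideal.span_le.2 ?_) (Ideal.span_le.2 ?_)
  · rintro _ ⟨t, rfl⟩
    simp only [SetLike.mem_coe]; rw [hv i t]
    exact sum_mem fun L _ => Ideal.mul_mem_left _ _ (Ideal.subset_span ⟨(L, t), rfl⟩)
  · rintro _ ⟨⟨L, t⟩, rfl⟩
    have hw : w t L = ∑ i, C⁻¹ L i * (∑ L', C i L' * w t L') := by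
      have h0 : w t = C⁻¹.mulVec (C.mulVec (w t)) := by
        rw [Matrix.mulVec_mulVec, Matrix.nonsing_inv_mul C hA, Matrix.one_mulVec]
      exact congrFun h0 L
    show w t L ∈ _
    rw [hw]
    refine sum_mem fun i _ => Ideal.mul_mem_left _ _ (Ideal.mem_iSup_of_mem i (Ideal.subset_span ⟨t, ?_⟩))
    exact hv i t

end Groth.Agent.S17662
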