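import Groth.Prelude.Def_Pic
import Groth.Prelude.Def_ClSub2
import Mathlib.AlgebraicGeometry.IdealSheaf.Subscheme
import Mathlib.AlgebraicGeometry.Morphisms.FiniteType
import Mathlib.AlgebraicGeometry.Properties
import Groth.Agent.Lib.RibbonExt3.Basic
import Groth.Agent.Lib.GrMap12.ConormalDiff
import Groth.Agent.Lib.Omega12.Exists
-- import your own Groth.Agent.* helpers here

namespace Ribbon
end Ribbon

set_option autoImplicit false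
set_option backward.isDefEq.respectTransparency false
set_option backward.isDefEq.respectTransparency.types false
universe u
open CategoryTheory CategoryTheory.Limits AlgebraicGeometry
open Ribbon

namespace Groth.Agent.S17664

theorem exists_split_data {k : Type u} [Field k] {D C : Scheme.{u}} (i : D ⟶ C) [IsClosedImmersion i]
    (pC : C ⟶ Spec (CommRingCat.of k)) (pD : D ⟶ Spec (CommRingCat.of k)) (hp : i ≫ pC = pD)
    (r : C ⟶ D) (hr : i ≫ r = 𝟙 D) (hrk : r ≫ i ≫ pC = pC)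
    (Ω₂ : D.Modules) (d₂ : OmegaSh.Der pD Ω₂) (hd₂ : OmegaSh.IsUniversal d₂) :
    ∃ (Ω₁ : C.Modules) (d₁ : OmegaSh.Der pC Ω₁) (φ : Omega.conormal i ⟶ (Scheme.Modules.pullback i).obj Ω₁)
      (c : (Scheme.Modules.pullback i).obj Ω₁ ⟶ Ω₂) (hw : φ ≫ c = 0),
      OmegaSh.IsUniversal d₁ ∧ OmegaSh.IsConormalDiff i d₁ φ ∧ OmegaSh.IsDiffCompat i d₁ d₂ c ∧
        Nonempty (ShortComplex.mk φ c hw).Splitting := by
  subst hp
  obtain ⟨Ω₁, d₁, hd₁⟩ := Omega12.exists_isUniversal pC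
  obtain ⟨φ, hφ, -⟩ := GrMap12.existsUnique_conormalDiff i d₁
  obtain ⟨c, hc, -⟩ := Omega12.existsUnique_diffCompat (h := i) (f' := i ≫ pC) (b := 𝟙 _)
    (Category.comp_id _) hd₁ d₂
  obtain ⟨w, hex, ⟨ρ, hρ⟩, ⟨σ, hσ⟩⟩ := GrMap12.split_seq i r hr pC hrk Ω₁ d₁ hd₁ Ω₂ d₂ hd₂ φ hφ c hc
  exact ⟨Ω₁, d₁, φ, c, w, hd₁, hφ, hc,
    ⟨ShortComplex.Splitting.ofExactOfRetraction _ hex ρ hρ (SplitEpi.epi ⟨σ, hσ⟩)⟩⟩

theorem exists_ext {k : Type u} [Field k] {D C : Scheme.{u}} (i : D ⟶ C) [IsClosedImmersion i]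
    (hi : i.ker * i.ker = ⊥) (pC : C ⟶ Spec (CommRingCat.of k)) (pD : D ⟶ Spec (CommRingCat.of k))
    (hp : i ≫ pC = pD) (Ω₁ : C.Modules) (d₁ : OmegaSh.Der pC Ω₁) (Ω₂ : D.Modules) (d₂ : OmegaSh.Der pD Ω₂)
    (φ : Omega.conormal i ⟶ (Scheme.Modules.pullback i).obj Ω₁) (hφ : OmegaSh.IsConormalDiff i d₁ φ)
    (c : (Scheme.Modules.pullback i).obj Ω₁ ⟶ Ω₂) (hc : OmegaSh.IsDiffCompat i d₁ d₂ c)
    (hw : φ ≫ c = 0) (hS : (ShortComplex.mk φ c hw).ShortExact)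
    (X : Scheme.{u}) (pX : X ⟶ Spec (CommRingCat.of k)) (f : D ⟶ X) (hf : f ≫ pX = pD)
    (Ω₃ : X.Modules) (d₃ : OmegaSh.Der pX Ω₃)
    (df : (Scheme.Modules.pullback f).obj Ω₃ ⟶ Ω₂) (hdf : OmegaSh.IsDiffCompat f d₃ d₂ df)
    (s : (Scheme.Modules.pullback f).obj Ω₃ ⟶ (Scheme.Modules.pullback i).obj Ω₁) (hs : s ≫ c = df) :
    ∃ g : C ⟶ X, i ≫ g = f ∧ g ≫ pX = pC ∧ RibbonExt3.IsDiff i d₁ f d₃ g s := by
  subst hp
  exact RibbonExt3.exists_extension i hi pC Ω₁ d₁ Ω₂ d₂ φ hφ c hc hw hS X pX f hf Ω₃ d₃ df hdf s hs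

theorem main {k : Type u} [Field k] {D C C' : Scheme.{u}} (pD : D ⟶ Spec (CommRingCat.of k))
    (i : D ⟶ C) [IsClosedImmersion i] (hi : i.ker * i.ker = ⊥) (pC : C ⟶ Spec (CommRingCat.of k))
    (hp : i ≫ pC = pD) (r : C ⟶ D) (hr : i ≫ r = 𝟙 D) (hrk : r ≫ i ≫ pC = pC)
    (i' : D ⟶ C') [IsClosedImmersion i'] (hi' : i'.ker * i'.ker = ⊥) (pC' : C' ⟶ Spec (CommRingCat.of k))
    (hp' : i' ≫ pC' = pD) (r' : C' ⟶ D) (hr' : i' ≫ r' = 𝟙 D) (hrk' : r' ≫ i' ≫ pC' = pC')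
    (α : Omega.conormal i ≅ Omega.conormal i') :
    ∃ ψ : C ≅ C', i ≫ ψ.hom = i' ∧ ψ.hom ≫ pC' = pC := by
  obtain ⟨Ω₂, d₂, hd₂⟩ := Omega12.exists_isUniversal pD
  obtain ⟨Ω₁, d₁, φ, c, hw, hd₁, hφ, hc, ⟨S⟩⟩ := exists_split_data i pC pD hp r hr hrk Ω₂ d₂ hd₂
  obtain ⟨Ω₁', d₁', φ', c', hw', hd₁', hφ', hc', ⟨S'⟩⟩ := exists_split_data i' pC' pD hp' r' hr' hrk' Ω₂ d₂ hd₂
  let a : (Scheme.Modules.pullback i).obj Ω₁ ⟶ (Scheme.Modules.pullback i').obj Ω₁' := S.r ≫ α.hom ≫ φ' + c ≫ S'.s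
  let a' : (Scheme.Modules.pullback i').obj Ω₁' ⟶ (Scheme.Modules.pullback i).obj Ω₁ := S'.r ≫ α.inv ≫ φ + c' ≫ S.s
  have hac : a ≫ c' = c := by
    have := S'.s_g
    dsimp at this
    simp [a, hw', this]
  have hac' : a' ≫ c = c' := by
    have := S.s_g
    dsimp at this
    simp [a', hw, this]
  have h1 : a ≫ a' = 𝟙 _ := by
    have e1 := S'.f_r; have e2 := S'.s_g; have e3 := S'.s_r; have e4 := S.id
    dsimp at e1 e2 e3 e4
    simp [a, a', reassoc_of% e1, reassoc_of% e2, reassoc_of% e3, reassoc_of% hw', e4]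
  have h2 : a' ≫ a = 𝟙 _ := by
    have e1 := S.f_r; have e2 := S.s_g; have e3 := S.s_r; have e4 := S'.id
    dsimp at e1 e2 e3 e4
    simp [a, a', reassoc_of% e1, reassoc_of% e2, reassoc_of% e3, reassoc_of% hw, e4]
  haveI : Mono φ := S.shortExact.mono_f
  haveI : Mono φ' := S'.shortExact.mono_f
  obtain ⟨g, hg1, hg2, hg3⟩ := exists_ext i hi pC pD hp Ω₁ d₁ Ω₂ d₂ φ hφ c hc hw S.shortExact C' pC' i' hp'
    Ω₁' d₁' c' hc' a' hac'
  obtain ⟨g', hg1', hg2', hg3'⟩ := exists_ext i' hi' pC' pD hp' Ω₁' d₁' Ω₂ d₂ φ' hφ' c' hc' hw' S'.shortExact C pC i hp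
    Ω₁ d₁ c hc a hac
  refine ⟨⟨g, g', ?_, ?_⟩, hg1, hg2⟩
  · exact RibbonExt3.hom_eq_of_isDiff i hi pC Ω₁ d₁ φ hφ (f := i) (by rw [← Category.assoc, hg1, hg1'])
      (Category.comp_id _) (hg3.comp hg1 hg1' hg3') (by rw [h1]; exact RibbonExt3.IsDiff.id i d₁)
  · exact RibbonExt3.hom_eq_of_isDiff i' hi' pC' Ω₁' d₁' φ' hφ' (f := i') (by rw [← Category.assoc, hg1', hg1])
      (Category.comp_id _) (hg3'.comp hg1' hg1 hg3) (by rw [h2]; exact RibbonExt3.IsDiff.id i' d₁')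

theorem conormal_transport {D₀ D C C' : Scheme.{u}} (ι : D₀ ⟶ C) (J : C.IdealSheafData) (hJ : ι.ker = J)
    (e : D₀ ≅ D) (ι' : D₀ ⟶ C') (J' : C'.IdealSheafData) (hJ' : ι'.ker = J') (t : D ⟶ C') (ht : e.hom ≫ t = ι')
    (θ : (Scheme.Modules.pullback (e.inv ≫ ι)).obj (ClSub.idealMod J) ≅
      (Scheme.Modules.pullback t).obj (ClSub.idealMod J')) :
    Nonempty (Omega.conormal ι ≅ Omega.conormal ι') := by
  subst hJ hJ' ht
  exact ⟨(Scheme.Modules.pullbackCongr (e.hom_inv_id_assoc ι).symm).app _ ≪≫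
    ((Scheme.Modules.pullbackComp e.hom (e.inv ≫ ι)).app _).symm ≪≫
    (Scheme.Modules.pullback e.hom).mapIso θ ≪≫ (Scheme.Modules.pullbackComp e.hom t).app _⟩

/-- Let D be a reduced connected scheme of finite type over a field k. Let C and C' be two split ribbons
on D with isomorphic conormal bundles: k-schemes with quasi-coherent ideals I ⊂ O_C, I' ⊂ O_{C'} of
square zero, k-isomorphisms φ : V(I) ≅ D, φ' : V(I') ≅ D, retractions C → V(I), C' → V(I') over k,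
with I and I' invertible when regarded as O_D-modules and an isomorphism θ between them. Then C and
C' are isomorphic over D: there is an isomorphism ψ : C ≅ C' with (V(I) → C → C') = (V(I) ≅ D ≅
V(I') → C'). -/
theorem result (k : Type u) [Field k] (D : Scheme.{u}) [D.Over (Spec (CommRingCat.of k))]
    [LocallyOfFiniteType (D ↘ (Spec (CommRingCat.of k)))] [QuasiCompact (D ↘ (Spec (CommRingCat.of k)))]
    [AlgebraicGeometry.IsReduced D] [ConnectedSpace D]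
    (C : Scheme.{u}) (sC : C ⟶ (Spec (CommRingCat.of k))) (I : C.IdealSheafData) (hI : I ^ 2 = ⊥)
    (φ : I.subscheme ≅ D) (hφ : φ.hom ≫ (D ↘ (Spec (CommRingCat.of k))) = I.subschemeι ≫ sC)
    (r : C ⟶ I.subscheme) (hr : I.subschemeι ≫ r = 𝟙 I.subscheme) (hrk : r ≫ I.subschemeι ≫ sC = sC)
    (C' : Scheme.{u}) (sC' : C' ⟶ (Spec (CommRingCat.of k))) (I' : C'.IdealSheafData) (hI' : I' ^ 2 = ⊥)
    (φ' : I'.subscheme ≅ D) (hφ' : φ'.hom ≫ (D ↘ (Spec (CommRingCat.of k))) = I'.subschemeι ≫ sC')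
    (r' : C' ⟶ I'.subscheme) (hr' : I'.subschemeι ≫ r' = 𝟙 I'.subscheme) (hrk' : r' ≫ I'.subschemeι ≫ sC' = sC')
    (h𝓛 : PicF.IsInvertible ((Scheme.Modules.pullback (φ.inv ≫ I.subschemeι)).obj (ClSub.idealMod I)))
    (h𝓛' : PicF.IsInvertible ((Scheme.Modules.pullback (φ'.inv ≫ I'.subschemeι)).obj (ClSub.idealMod I')))
    (θ : (Scheme.Modules.pullback (φ.inv ≫ I.subschemeι)).obj (ClSub.idealMod I) ≅
      (Scheme.Modules.pullback (φ'.inv ≫ I'.subschemeι)).obj (ClSub.idealMod I')) :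
    ∃ ψ : C ≅ C', I.subschemeι ≫ ψ.hom = φ.hom ≫ φ'.inv ≫ I'.subschemeι ∧ ψ.hom ≫ sC' = sC := by
  set p₀ := I.subschemeι ≫ sC with hp₀
  let i' : I.subscheme ⟶ C' := φ.hom ≫ φ'.inv ≫ I'.subschemeι
  have hk' : i'.ker = I' := by
    show (φ.hom ≫ φ'.inv ≫ I'.subschemeι).ker = I'
    rw [Scheme.Hom.ker_comp_of_isIso, Scheme.Hom.ker_comp_of_isIso, Scheme.IdealSheafData.ker_subschemeι]
  have hk : I.subschemeι.ker = I := Scheme.IdealSheafData.ker_subschemeι I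
  have hp' : i' ≫ sC' = p₀ := by
    show (φ.hom ≫ φ'.inv ≫ I'.subschemeι) ≫ sC' = p₀
    rw [← hφ]
    simp only [Category.assoc]
    rw [← hφ', Iso.inv_hom_id_assoc]
  obtain ⟨α⟩ := conormal_transport I.subschemeι I hk φ i' I' hk' (φ'.inv ≫ I'.subschemeι) rfl θ
  obtain ⟨ψ, h1, h2⟩ := main p₀ I.subschemeι (by rw [hk, ← pow_two]; exact hI) sC rfl r hr hrk i'
    (by rw [hk', ← pow_two]; exact hI') sC' hp' (r' ≫ φ'.hom ≫ φ.inv)
    (by simp [i', reassoc_of% hr'])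
    (by simpa [i'] using hrk') α
  exact ⟨ψ, h1, h2⟩

end Groth.Agent.S17664
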