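import Groth.Statements.S17665
import Groth.Agent.Lib.Ribbon17.Dual

set_option autoImplicit false
set_option backward.isDefEq.respectTransparency false
set_option backward.isDefEq.respectTransparency.types false
universe u
open CategoryTheory CategoryTheory.Limits AlgebraicGeometry
attribute [local instance] HasDerivedCategory.standard
open Ribbon

namespace Groth.Agent.S17665

/-- Let C be a ribbon of arithmetic genus g on the projective line over a field k — a proper k-scheme
with a quasi-coherent ideal I ⊂ O_C, I² = 0, whose closed subscheme D is k-isomorphic to P^1 and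
such that I, as an O_D-module, is isomorphic to O_{P^1}(-g-1) — and let ω_C be the dualizing module
of C over k (the cohomology sheaf in degree -1 of f^! O for f : C → Spec k, with the existence of
Rf_* on D_QCoh and of its right adjoint carried as hypotheses). Assume ω_C is invertible. Then the
restriction of ω_C to D is isomorphic to O_{P^1}(g-1); equivalently the restriction sequence of ω_C
reads 0 → O_{P^1}(-2) → ω_C → O_{P^1}(g-1) → 0. (Existence of an isomorphism only; line bundles on
P^1 are determined by their degree. Invertibility of ω_C (true for ribbons, asserted without proof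
in the published text) is carried as a hypothesis.) (Stated over an arbitrary field k; the published
setting is an algebraically closed field; the argument uses only χ(O_{P^1}(m)) = m+1, duality and
Pic P^1 = ℤ by degree.) -/
theorem result (k : Type u) [Field k] (C : Scheme.{u}) [C.Over (Spec (CommRingCat.of k))]
    [IsProper (C ↘ (Spec (CommRingCat.of k)))]
    (I : C.IdealSheafData) (hI : I ^ 2 = ⊥)
    (e : I.subscheme ≅ CohB1.ProjSpace 1 k)
    (he : e.hom ≫ CohB1.ProjSpace.toSpec 1 k = I.subschemeι ≫ (C ↘ (Spec (CommRingCat.of k))))
    (g : ℕ)
    (hconormal : Nonempty ((Scheme.Modules.pullback I.subschemeι).obj (ClSub.idealMod I) ≅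
      (Scheme.Modules.pullback e.hom).obj (Twist.twistProjSpace 1 k (-((g : ℤ) + 1)))))
    [DCoh.HasRpush (C ↘ (Spec (CommRingCat.of k)))] (h : DCoh.RpushPreservesQCoh (C ↘ (Spec (CommRingCat.of k))))
    [DCoh.HasShriek (C ↘ (Spec (CommRingCat.of k))) h]
    (OY : DCoh.DQCoh (Spec (CommRingCat.of k)))
    (hOY : Nonempty (OY.obj ≅ DCoh.inD (Spec (CommRingCat.of k)) (Coh.structureModule (Spec (CommRingCat.of k)))))
    (hω : PicF.IsInvertible (DCoh.dualizingMod (C ↘ (Spec (CommRingCat.of k))) h OY 1)) :
    Nonempty ((Scheme.Modules.pullback I.subschemeι).obj (DCoh.dualizingMod (C ↘ (Spec (CommRingCat.of k))) h OY 1) ≅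
      (Scheme.Modules.pullback e.hom).obj (Twist.twistProjSpace 1 k ((g : ℤ) - 1))) := by
  exact Groth.Agent.Ribbon17.nonempty_restrict_dualizing hI he hconormal h OY hOY hω

end Groth.Agent.S17665
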