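import Groth.Statements.S17667
import Groth.Agent.Lib.Ribbon17.Basic
import Groth.Agent.Lib.PicH1_21.Sequence
import Groth.Agent.Lib.TensorMod.PullTensor
import Groth.Agent.Lib.TensorMod.PicLaw
import Groth.Agent.Lib.PicPn.OverPoint
-- import your own Groth.Agent.* helpers here

set_option autoImplicit false
universe u
open CategoryTheory CategoryTheory.Limits AlgebraicGeometry
open Ribbon

namespace Groth.Agent.S17667

set_option linter.style.haveILetI false
set_option backward.isDefEq.respectTransparency false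
set_option backward.isDefEq.respectTransparency.types false
set_option maxHeartbeats 1000000

noncomputable section

open Groth.Agent

namespace Aux

variable {k : Type u} [Field k] {C : Scheme.{u}} [C.Over (Spec (CommRingCat.of k))]
  [IsProper (C ↘ (Spec (CommRingCat.of k)))]
  {I : C.IdealSheafData} (hI : I ^ 2 = ⊥)
  (e : I.subscheme ≅ CohB1.ProjSpace 1 k)
  (he : e.hom ≫ CohB1.ProjSpace.toSpec 1 k = I.subschemeι ≫ (C ↘ (Spec (CommRingCat.of k))))

/-- `e^* O(n)`. -/
abbrev T (n : ℤ) : I.subscheme.Modules :=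
  (Scheme.Modules.pullback e.hom).obj (_root_.Twist.twistProjSpace 1 k n)

omit [C.Over (Spec (CommRingCat.of k))] [IsProper (C ↘ (Spec (CommRingCat.of k)))] in
theorem hT (n : ℤ) : PicF.IsInvertible (T e n) :=
  Twist.isInvertible_pullback _ (Twist.isInvertible_twistProjSpace 1 k n)

include he in
theorem deg_T (n : ℤ) {M : I.subscheme.Modules} (i : M ≅ T e n) :
    @Curv2.deg k _ I.subscheme ⟨I.subschemeι ≫ (C ↘ (Spec (CommRingCat.of k)))⟩ M 1 = n := by
  letI : I.subscheme.Over (Spec (CommRingCat.of k)) := ⟨I.subschemeι ≫ (C ↘ Spec (CommRingCat.of k))⟩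
  obtain ⟨z⟩ := Twist.nonempty_twist_zero_iso (CohB1.polyGrading 1 k)
  have h (m : ℤ) : Curv2.euler k I.subscheme (T e m) = m + 1 :=
    (AmpleFin18.euler_push (k := k) I.subschemeι rfl _ (Ribbon17.isQCoh_pullTw I e m)).symm.trans
      (Ribbon17.euler_pTw I e he m)
  have h0 : Curv2.euler k I.subscheme (Coh.structureModule I.subscheme) = 1 :=
    (CurveCoh17.euler_iso ((Twist.pullbackUnitIso e.hom).symm ≪≫
      (Scheme.Modules.pullback e.hom).mapIso z.symm)).trans ((h 0).trans (zero_add 1))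
  rw [Curv2.deg, CurveCoh17.euler_iso i, h, h0]
  push_cast; ring

omit [C.Over (Spec (CommRingCat.of k))] [IsProper (C ↘ (Spec (CommRingCat.of k)))] in
theorem cls_T_add [PicGrp.Law I.subscheme] (a b : ℤ) :
    PicGrp.cls (T e (a + b)) (hT e _) = PicGrp.cls (T e a) (hT e a) * PicGrp.cls (T e b) (hT e b) := by
  obtain ⟨t⟩ := Twist.nonempty_tensor_iso (CohB1.polyGrading 1 k) a b (Twist.iSup_basicOpen_one 1 k)
  refine Subtype.ext ?_
  rw [PicGrp.cls_mul_cls_val]
  exact (PicGrp.cl_eq_cl_iff _ _).2 ⟨(Scheme.Modules.pullback e.hom).mapIso t.symm ≪≫ M2.pullTensorIso e.hom _ _⟩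

/-- `n ↦ e^* O(n)`. -/
def γ [PicGrp.Law I.subscheme] : ℤ →+ Additive (PicLoc.PicSet I.subscheme) :=
  AddMonoidHom.mk' (fun n => Additive.ofMul (PicGrp.cls (T e n) (hT e n)))
    fun a b => congrArg Additive.ofMul (cls_T_add e a b)

include he in
theorem γ_injective [PicGrp.Law I.subscheme] : Function.Injective (γ e) := fun a b h => by
  obtain ⟨i⟩ := (PicGrp.cls_eq_cls_iff _ _).1 (Additive.ofMul.injective h)
  exact (deg_T e he a (Iso.refl _)).symm.trans (deg_T e he b i)

include he in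
theorem surjective_appTop : Function.Surjective I.subschemeι.appTop.hom := fun c => by
  obtain ⟨a, ha⟩ := (ConcreteCategory.bijective_of_isIso e.hom.appTop).2 c
  obtain ⟨b, rfl⟩ := (PicPn.bijective_toSpec_appTop' 1 k).2 a
  refine ⟨(C ↘ (Spec (CommRingCat.of k))).appTop b, ?_⟩
  rw [← ha]
  show ((C ↘ (Spec (CommRingCat.of k))).appTop ≫ I.subschemeι.appTop) b =
    ((CohB1.ProjSpace.toSpec 1 k).appTop ≫ e.hom.appTop) b
  rw [← Scheme.Hom.comp_appTop, ← Scheme.Hom.comp_appTop, he]

variable {e} {g : ℕ}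
  (hc : Nonempty ((Scheme.Modules.pullback I.subschemeι).obj (ClSub.idealMod I) ≅
      (Scheme.Modules.pullback e.hom).obj (_root_.Twist.twistProjSpace 1 k (-((g : ℤ) + 1)))))

include hI hc in
theorem nonempty_idealMod_iso : Nonempty (ClSub.idealMod I ≅ Ribbon17.pTw I e (-((g : ℤ) + 1))) := by
  haveI := Ribbon17.isIso_unit_idealMod I hI
  obtain ⟨c⟩ := hc
  exact ⟨asIso ((Scheme.Modules.pullbackPushforwardAdjunction I.subschemeι).unit.app (ClSub.idealMod I)) ≪≫
    (Scheme.Modules.pushforward I.subschemeι).mapIso c⟩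

include hI he hc in
theorem finrank_H1 : Module.finrank k (Coh.HH C (ClSub.idealMod I) 1) = g := by
  letI : (CohB1.ProjSpace 1 k).Over (Spec (CommRingCat.of k)) := ⟨CohB1.ProjSpace.toSpec 1 k⟩
  obtain ⟨i⟩ := nonempty_idealMod_iso hI hc
  obtain ⟨u⟩ := Ribbon17.nonempty_HH I e he (-((g : ℤ) + 1)) 1
  rw [((CurveCoh17.hequiv k i 1).trans u).finrank_eq]
  have hA := HypEq17.adm_twist (k := k) (-((g : ℤ) + 1))
  have he1 := GenusFF17.euler_twist (k := k) (-((g : ℤ) + 1))
  haveI := HypEq17.subsingleton_h0_twist (k := k) (show -((g : ℤ) + 1) < 0 by omega)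
  rw [hA.euler_eq, Module.finrank_zero_of_subsingleton] at he1
  omega

include hI hc in
theorem subsingleton_H2 : Subsingleton (Coh.HH C (ClSub.idealMod I) 2) := by
  haveI := VB17.isNoetherian_of_over (k := k) (X := C)
  have hX := CurveAmple18.curveLike k C (Ribbon17.topologicalKrullDim_eq_one I hI e).le
  obtain ⟨i⟩ := nonempty_idealMod_iso hI hc
  exact ((hX.adm (CohFound.isCoh_push_closedImm I.subschemeι
    (M1.isCoh_pullback e.hom (Snapper.isCoh_of_isInvertible
      (Twist.isInvertible_twistProjSpace 1 k (-((g : ℤ) + 1))))))).of_iso i.symm).vanish 0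

end Aux

/-- Let C be a ribbon of arithmetic genus g on the projective line over a field k — a proper k-scheme
with a quasi-coherent ideal I ⊂ O_C, I² = 0, whose closed subscheme D is k-isomorphic to P^1 and
such that I, as an O_D-module, is isomorphic to O_{P^1}(-g-1) — and take the group law on Pic C
given by the tensor product. Then H^1(C, I) = H^1(P^1, O(-g-1)) is a k-vector space of dimension g
and Pic C ≅ H^1(C, I) × ℤ as abelian groups, by an isomorphism whose ℤ-component on the class of an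
invertible O_C-module L is the degree χ(L|_D) - χ(O_D) of the restriction of L to D. (Existence of
such an isomorphism; the source derives it from the units sequence 0 → I → O_C^× → O_D^× → 1. Stated
over an arbitrary field.) -/
theorem result (k : Type u) [Field k] (C : Scheme.{u}) [C.Over (Spec (CommRingCat.of k))]
    [IsProper (C ↘ (Spec (CommRingCat.of k)))]
    (I : C.IdealSheafData) (hI : I ^ 2 = ⊥)
    (e : I.subscheme ≅ CohB1.ProjSpace 1 k)
    (he : e.hom ≫ CohB1.ProjSpace.toSpec 1 k = I.subschemeι ≫ (C ↘ (Spec (CommRingCat.of k))))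
    (g : ℕ)
    (hconormal : Nonempty ((Scheme.Modules.pullback I.subschemeι).obj (ClSub.idealMod I) ≅
      (Scheme.Modules.pullback e.hom).obj (Twist.twistProjSpace 1 k (-((g : ℤ) + 1)))))
    [PicGrp.Law C] :
    Module.finrank k (Coh.HH C (ClSub.idealMod I) 1) = g ∧
    ∃ φ : Additive (PicLoc.PicSet C) ≃+ Coh.HH C (ClSub.idealMod I) 1 × ℤ,
      ∀ (L : C.Modules) (hL : PicF.IsInvertible L),
        (φ (Additive.ofMul (PicGrp.cls L hL))).2 =
          @Curv2.deg k _ I.subscheme ⟨I.subschemeι ≫ (C ↘ (Spec (CommRingCat.of k)))⟩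
            ((Scheme.Modules.pullback I.subschemeι).obj L) 1 := by
  letI : PicGrp.Law I.subscheme := M2.law _
  refine ⟨Aux.finrank_H1 hI he hconormal, ?_⟩
  have hI2 : I * I = ⊥ := by rw [← pow_two]; exact hI
  let P : Additive (PicLoc.PicSet C) →+ Additive (PicLoc.PicSet I.subscheme) :=
    MonoidHom.toAdditive (PicGrp.pullHom I.subschemeι (M2.pullMul I.subschemeι))
  obtain ⟨l, hl⟩ : ∃ l, P l = Aux.γ e 1 := by
    haveI := Aux.subsingleton_H2 (k := k) hI hconormal
    obtain ⟨d, hd⟩ := (PicH1_21.δ₁Add_eq_zero_iff hI2 (M2.pullMul I.subschemeι)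
      (Additive.toMul (Aux.γ e 1))).1 (Subsingleton.elim _ _)
    exact ⟨Additive.ofMul d, congrArg Additive.ofMul hd⟩
  have hα (c : Additive (PicLoc.PicSet C)) : P c = 0 ↔ ∃ x, PicH1_21.αAdd hI2 x = c :=
    (Equiv.apply_eq_iff_eq_symm_apply Additive.ofMul).trans
      (PicH1_21.pullHom_eq_one_iff hI2 (M2.pullMul I.subschemeι) (Additive.toMul c))
  let ψ := (PicH1_21.αAdd hI2).coprod (zmultiplesHom _ l)
  have hP (x : Coh.HH C (ClSub.idealMod I) 1) (n : ℤ) : P (ψ (x, n)) = Aux.γ e n := by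
    show P (PicH1_21.αAdd hI2 x + n • l) = _
    rw [map_add, (hα _).2 ⟨x, rfl⟩, map_zsmul, hl, zero_add, ← map_zsmul, smul_eq_mul, mul_one]
  have hinj : Function.Injective ψ := (injective_iff_map_eq_zero _).2 fun ⟨x, n⟩ h => by
    have hn : n = 0 := Aux.γ_injective e he <| by rw [← hP x, h, map_zero, map_zero]
    subst hn
    have hx : PicH1_21.αAdd hI2 x = 0 := by
      have h' : PicH1_21.αAdd hI2 x + (0 : ℤ) • l = 0 := h
      rwa [zero_smul, add_zero] at h'
    obtain ⟨v, rfl⟩ := (PicH1_21.αAdd_eq_zero_iff hI2 x).1 hx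
    exact Prod.ext ((PicH1_21.δ₀Add_eq_zero_iff hI2 (Additive.toMul v)).2
      (PicH1_21.restUnits_surjective hI2 (Aux.surjective_appTop e he) _)) rfl
  have hsurj : Function.Surjective ψ := fun c => by
    obtain ⟨L, hcl, hL⟩ := (Additive.toMul (P c)).2
    obtain ⟨n, hn⟩ := Ribbon17.exists_twist I e hL
    have hPc : P c = Aux.γ e n :=
      congrArg Additive.ofMul (Subtype.ext (hcl.symm.trans ((PicGrp.cl_eq_cl_iff _ _).2 hn)) :
        Additive.toMul (P c) = PicGrp.cls (Aux.T e n) (Aux.hT e n))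
    obtain ⟨x, hx⟩ := (hα (c - n • l)).1 (by
      rw [map_sub, map_zsmul, hl, hPc, ← map_zsmul, smul_eq_mul, mul_one, sub_self])
    exact ⟨(x, n), by show PicH1_21.αAdd hI2 x + n • l = c; rw [hx, sub_add_cancel]⟩
  refine ⟨(AddEquiv.ofBijective ψ ⟨hinj, hsurj⟩).symm, fun L hL => ?_⟩
  obtain ⟨⟨x, n⟩, hxn⟩ := hsurj (Additive.ofMul (PicGrp.cls L hL))
  rw [(AddEquiv.symm_apply_eq (AddEquiv.ofBijective ψ ⟨hinj, hsurj⟩)).2 (show _ = ψ (x, n) from hxn.symm)]
  have h1 := hP x n
  rw [hxn] at h1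
  have h2 : PicGrp.cls ((Scheme.Modules.pullback I.subschemeι).obj L) (Twist.isInvertible_pullback _ hL) =
      PicGrp.cls (Aux.T e n) (Aux.hT e n) :=
    (PicGrp.pullHom_cls I.subschemeι (M2.pullMul I.subschemeι) L hL).symm.trans (Additive.ofMul.injective h1)
  obtain ⟨i⟩ := (PicGrp.cls_eq_cls_iff _ _).1 h2
  exact (Aux.deg_T e he n i).symm

end

end Groth.Agent.S17667
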