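import Groth.Statements.S1767
import Groth.Agent.Lib.BC8.LE
import Groth.Agent.Lib.DerTrunc.Basic

set_option autoImplicit false
universe u
open CategoryTheory CategoryTheory.Limits AlgebraicGeometry
attribute [local instance] HasDerivedCategory.standard
open Dual

namespace Groth.Agent.S1767


/-- Let f : X → Y be a morphism between quasi-compact quasi-separated schemes. Assume the derived direct
image Rf_* exists and preserves quasi-coherence of cohomology sheaves (both known results), so that
it restricts to a functor D_QCoh(O_X) → D_QCoh(O_Y), and let a : D_QCoh(O_Y) → D_QCoh(O_X) be a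
right adjoint of this restricted functor. Then there is an integer N ≥ 0 such that for every K in
D_QCoh(O_Y) and every integer c, if H^i(K) = 0 for all i ≤ c then H^i(a(K)) = 0 for all i ≤ c − N;
in particular a sends bounded-below objects to bounded-below objects. -/
theorem result (X Y : Scheme.{u}) [CompactSpace X] [QuasiSeparatedSpace X] [CompactSpace Y] [QuasiSeparatedSpace Y] (f : X ⟶ Y) [DCoh.HasRpush f] (h : ∀ K : DCoh.D X, DCoh.IsQCohD K → DCoh.IsQCohD ((DCoh.Rpush f).obj K)) (a : DCoh.DQCoh Y ⥤ DCoh.DQCoh X) (adj : (ObjectProperty.lift DCoh.IsQCohD (ObjectProperty.ι DCoh.IsQCohD ⋙ DCoh.Rpush f) (fun K => h K.obj K.property)) ⊣ a) : ∃ N : ℕ, ∀ (K : DCoh.DQCoh Y) (c : ℤ), (∀ i : ℤ, i ≤ c → IsZero (DCoh.HD K.obj i)) → ∀ i : ℤ, i ≤ c - N → IsZero (DCoh.HD (a.obj K).obj i) := by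
  haveI := Groth.Agent.BC8.qc_of_qcqs f
  haveI := Groth.Agent.BC8.qs_of_qcqs f
  obtain ⟨N, hN⟩ := Groth.Agent.BC8.exists_rpush_bound f
  refine ⟨N, fun K c hK i hi => ?_⟩
  let t : Triangulated.TStructure (DCoh.D X) := DerivedCategory.TStructure.t
  let T : DCoh.D X := (t.truncLT (i + 1)).obj (a.obj K).obj
  have hT : DCoh.IsQCohD T := Groth.Agent.DMV.isQCohD_truncLT _ (a.obj K).property (i + 1)
  haveI hTi : DerivedCategory.IsLE T i := t.isLE_truncLT_obj _ (i + 1) i (by omega)
  let v : T ⟶ (a.obj K).obj := (t.truncLTι (i + 1)).app _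
  haveI : DerivedCategory.IsGE K.obj (c + 1) := (DerivedCategory.isGE_iff _ _).2 fun j hj => hK j (by omega)
  haveI hR : DerivedCategory.IsLE ((DCoh.Rpush f).obj T) c :=
    Groth.Agent.BC8.isLE_mono (hN T hT i hTi) (by omega)
  haveI : ((DerivedCategory.TStructure.t : Triangulated.TStructure (DCoh.D Y))).IsLE ((DCoh.Rpush f).obj T) c := hR
  haveI : ((DerivedCategory.TStructure.t : Triangulated.TStructure (DCoh.D Y))).IsGE K.obj (c + 1) := ‹_›
  have hz : ∀ u : (DCoh.Rpush f).obj T ⟶ K.obj, u = 0 := fun u =>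
    (DerivedCategory.TStructure.t : Triangulated.TStructure (DCoh.D Y)).zero u c (c + 1) (by omega)
  let P : DCoh.DQCoh X := ⟨T, hT⟩
  let v' : P ⟶ a.obj K := ObjectProperty.homMk v
  have hw : ∀ w w' : P ⟶ a.obj K, w = w' := fun w w' => (adj.homEquiv P K).symm.injective (ObjectProperty.hom_ext _ ((hz _).trans (hz _).symm))
  have hv : v = 0 := congrArg (fun w => w.hom) (hw v' (ObjectProperty.homMk 0))
  have he := DerivedCategory.HomologySequence.exact₂ _ (t.triangleLTGE_distinguished (i + 1) (a.obj K).obj) i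
  haveI : DerivedCategory.IsGE ((t.triangleLTGE (i + 1)).obj (a.obj K).obj).obj₃ (i + 1) :=
    (inferInstance : t.IsGE ((t.truncGE (i + 1)).obj (a.obj K).obj) (i + 1))
  refine he.isZero_of_both_zeros ?_ ((DerivedCategory.isZero_of_isGE _ (i + 1) i (by omega)).eq_of_tgt _ _)
  show (DerivedCategory.homologyFunctor _ i).map v = 0
  rw [hv, Functor.map_zero]


end Groth.Agent.S1767
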