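import Groth.Statements.S17675
import Groth.Agent.Lib.Kron26.Main

set_option autoImplicit false
universe u
set_option backward.isDefEq.respectTransparency false
set_option backward.isDefEq.respectTransparency.types false
open CategoryTheory CategoryTheory.Limits AlgebraicGeometry
open Bivar

namespace Groth.Agent.S17675

/-- Together with the observation preceding it: let k be a field, X proper over k, Y locally of finite
type over k, P = X ×_k Y with its projections q₁, q₂, and let X, Y, P carry the dimension functions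
induced from the base point (dimension of the closure of a point). Let f : Y → X be a k-morphism
with graph γ : Y → P, let c be an operational class of degree p on X (an element of the operational
Chow group A^p(X): compatible operations on the Chow groups of all schemes locally of finite type
over X, not a cycle class), and let z be an m-cycle on Y. Suppose that in the Chow group CH_m(P) the
class of the pushforward γ_* z is a finite combination Σ_i n_i [u_i × v_i] of classes of exterior
products, u_i an a_i-cycle on X and v_i an (m − a_i)-cycle on Y; here the exterior product u × v is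
the m-cycle on P whose coefficient at a point z over (x, y) with dim z = dim x + dim y is u(x) v(y)
times the length of O_{P,z}/(m_x, m_y), and 0 at other points. Let β_i be any (a_i − p)-cycle on X
whose class is c ∩ [u_i]. Then c ∩ [z], with c acting on Y through f, is the class in CH_{m−p}(Y) of
the cycle Σ_i n_i deg(β_i) v_i; the degree of β_i is zero unless a_i = p. (The published statement
takes k algebraically closed, X complete with finitely many orbits of a connected solvable group, Y
= X, f the identity and γ the diagonal, and decomposes the push-forward along the diagonal of the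
class of an invariant subvariety into products of classes of invariant subvarieties; in the printed
argument f is any morphism, any such decomposition is allowed, and k only needs to be a field. The
printed schemes are separated and of finite type over k; here Y may be any scheme locally of finite
type over k, a wider class of test schemes.) -/
theorem result
    {k : Type u} [Field k] {X Y P : Scheme.{u}}
    (pX : X ⟶ Spec (.of k)) (pY : Y ⟶ Spec (.of k)) [IsProper pX] [LocallyOfFiniteType pY]
    (q₁ : P ⟶ X) (q₂ : P ⟶ Y) (hP : IsPullback q₁ q₂ pX pY)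
    (δX : X → ℤ) (δY : Y → ℤ) (δP : P → ℤ)
    (hX : Cyc.IsSetup X δX) (hY : Cyc.IsSetup Y δY) (hPδ : Cyc.IsSetup P δP)
    (hδX : Cyc.DeltaCompat pX δX (fun _ => 0)) (hδY : Cyc.DeltaCompat pY δY (fun _ => 0))
    (hδP : Cyc.DeltaCompat q₁ δP δX)
    (f : Y ⟶ X) (hf : f ≫ pX = pY) (hfl : LocallyOfFiniteType f) (hfδ : Cyc.DeltaCompat f δY δX)
    (γ : Y ⟶ P) [IsClosedImmersion γ] (hγ₁ : γ ≫ q₁ = f) (hγ₂ : γ ≫ q₂ = 𝟙 Y)
    {p m : ℤ} (c : Bivar.OpCl p X δX) (z : AlgebraicCycle Y ℤ) (hz : z ∈ Cyc.Zk Y δY m)
    {ι : Type} [Fintype ι] (n : ι → ℤ) (a : ι → ℤ)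
    (u : ι → AlgebraicCycle X ℤ) (hu : ∀ i, u i ∈ Cyc.Zk X δX (a i))
    (v : ι → AlgebraicCycle Y ℤ) (hv : ∀ i, v i ∈ Cyc.Zk Y δY (m - a i))
    (ζ : ι → AlgebraicCycle P ℤ) (hζm : ∀ i, ζ i ∈ Cyc.Zk P δP m)
    (hζ : ∀ (i : ι) (t : P), ζ i t =
          if δP t = δX (q₁ t) + δY (q₂ t) then
            u i (q₁ t) * v i (q₂ t) *
              ((Module.length (P.presheaf.stalk t) (P.presheaf.stalk t ⧸
                (Ideal.map (q₁.stalkMap t).hom (IsLocalRing.maximalIdeal (X.presheaf.stalk (q₁ t))) ⊔
                  Ideal.map (q₂.stalkMap t).hom (IsLocalRing.maximalIdeal (Y.presheaf.stalk (q₂ t)))))).toNat : ℤ)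
          else 0)
    (hdec : ChowOps.cl (AlgebraicCycle.map γ δY δP z) (Bivar.cycMap_mem_Zk γ δY δP m hz) =
      ∑ i, n i • ChowOps.cl (ζ i) (hζm i))
    (β : ι → AlgebraicCycle X ℤ) (hβ : ∀ i, β i ∈ Cyc.Zk X δX (a i - p))
    (hcβ : ∀ i, c.cap (a i) (ChowOps.cl (u i) (hu i)) = ChowOps.cl (β i) (hβ i))
    (H : (∑ i, (n i * ChowOps.deg pX δX (β i)) • v i) ∈ Cyc.Zk Y δY (m - p)) :
    c.op ⟨Y, f, hfl, δY, hfδ⟩ m (ChowOps.cl z hz) =
      ChowOps.cl (∑ i, (n i * ChowOps.deg pX δX (β i)) • v i) H := by
  classical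
  haveI := hY.1
  haveI : IsLocallyNoetherian P := hPδ.1
  let s : Bivar.Sq pX δX (fun _ => 0) :=
    ⟨Y, P, pY, q₂, q₁, hP.flip, inferInstance, δY, δP, hδY, hδP⟩
  have hc2 : Cyc.DeltaCompat s.f' s.δX' s.δY' := by
    haveI : IsProper s.f' := Groth.Agent.Kron26.proper_snd (pX := pX) s
    haveI : LocallyOfFiniteType s.f' := inferInstance
    exact Groth.Agent.Bivar12.deltaCompat_cancel s.f' s.g hδY (Groth.Agent.Kron26.compat_fst hδX s)
  haveI : IsProper s.f' := Groth.Agent.Kron26.proper_snd (pX := pX) s
  haveI : IsLocallyNoetherian s.Y' := hY.1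
  haveI : IsLocallyNoetherian s.X' := hPδ.1
  obtain ⟨B, hB⟩ := Groth.Agent.Bivar12.exists_isPushMap s.f' hPδ.2.2 hY.2.2 hc2 (m - p)
  refine (Groth.Agent.Kron26.op_graph hX hδX c s f hfl hfδ γ hγ₁ hγ₂ m z hz hB).trans ?_
  refine (congrArg (fun y => B (c.op (Groth.Agent.Kron26.prodO s) m y)) hdec).trans ?_
  have key : ∀ i, ∃ H' : (n i * ChowOps.deg pX δX (β i)) • v i ∈ Cyc.Zk Y δY (m - p),
      B (c.op (Groth.Agent.Kron26.prodO s) m (n i • ChowOps.cl (ζ i) (hζm i))) = ChowOps.cl _ H' := by
    intro i
    have hH' : (n i * ChowOps.deg pX δX (β i)) • v i ∈ Cyc.Zk Y δY (m - p) := by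
      by_cases e : a i = p
      · rw [← e]
        exact (ChowOps.zk Y δY (m - a i)).zsmul_mem (hv i) _
      · have h0 : ChowOps.deg pX δX (β i) = 0 :=
          Bivar.cycMap_mem_Zk pX δX (fun _ => (0 : ℤ)) _ (hβ i) _ (fun h => e (sub_eq_zero.1 h.symm))
        rw [h0, mul_zero, zero_smul]
        exact (ChowOps.zk Y δY (m - p)).zero_mem
    refine ⟨hH', ?_⟩
    refine ((congrArg B (map_zsmul (c.op (Groth.Agent.Kron26.prodO s) m) _ _)).trans (map_zsmul B _ _)).trans ?_
    refine (congrArg (fun y => n i • y) (Groth.Agent.Kron26.op_ext_prod hX hδX c s (u i) (hu i) (β i) (hβ i) (hcβ i)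
      (v i) (hv i) (ζ i) (hζm i) (hζ i) hB)).trans ?_
    by_cases e : m - a i = m - p
    · rw [Groth.Agent.Kron26.scal_eq _ _ _ e, Bivar.chCast_cl]
      refine ((mul_smul _ _ _).symm).trans (Groth.Agent.Bivar12.cl_zsmul _ _ _ hH' fun w => ?_).symm
      rfl
    · rw [Groth.Agent.Kron26.scal_ne _ _ _ e, smul_zero]
      have h0 : ChowOps.deg pX δX (β i) = 0 :=
        Bivar.cycMap_mem_Zk pX δX (fun _ => (0 : ℤ)) _ (hβ i) _ (fun h => e (by simp only at h; omega))
      refine ((Bivar.cl_congr ?_ hH' ((ChowOps.zk Y δY (m - p)).zero_mem)).trans Bivar.cl_zero).symm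
      rw [h0, mul_zero, zero_smul]
  choose H' hk using key
  rw [map_sum, map_sum]
  refine (Finset.sum_congr rfl fun i _ => hk i).trans ?_
  refine (map_sum (ChowOps.clHom Y δY (m - p)) (fun i => (⟨_, H' i⟩ : ↥(ChowOps.zk Y δY (m - p)))) _).symm.trans ?_
  exact congrArg (ChowOps.clHom Y δY (m - p)) (Subtype.ext (AddSubgroup.val_finsetSum _ _ _))


end Groth.Agent.S17675
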