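import Groth.Statements.S17676
import Groth.Agent.Lib.Kron26.Duality

set_option autoImplicit false
universe u
set_option backward.isDefEq.respectTransparency false
set_option backward.isDefEq.respectTransparency.types false
open CategoryTheory CategoryTheory.Limits AlgebraicGeometry
open Bivar

namespace Groth.Agent.S17676

/-- Let k be a field and X a proper scheme over k carrying the dimension function induced from the base
point. Assume the Künneth property for X: for every scheme Y locally of finite type over k, with P =
X ×_k Y (projections q₁, q₂) and the induced dimension functions, there are ℤ-bilinear maps κ_{a,m}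
: CH_a(X) × CH_{m−a}(Y) → CH_m(P) sending ([α], [β]) to [α × β] for every a-cycle α on X and every
(m − a)-cycle β on Y — α × β being the exterior-product m-cycle on P, whose coefficient at a point z
over (x, y) with dim z = dim x + dim y is α(x) β(y) times the length of O_{P,z}/(m_x, m_y), and 0
elsewhere — such that for every m the induced map from the direct sum over a of CH_a(X) ⊗
CH_{m−a}(Y) to CH_m(P) is bijective. Then for every integer p and every additive map φ : CH_p(X) → ℤ
there is exactly one operational class c of degree p on X (an element of the operational Chow group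
A^p(X): compatible operations on the Chow groups of all schemes locally of finite type over X, not a
cycle class) whose Kronecker functional α ↦ deg(c ∩ α) on CH_p(X) is φ: for every p-cycle α on X and
every cycle β representing c ∩ [α] one has φ[α] = deg β. (The published statement takes k
algebraically closed and asks the Künneth map to be an isomorphism for every separated scheme Y of
finite type over k; here it is asked for every scheme Y locally of finite type over k, the test
schemes of the operational Chow group, which is a stronger hypothesis; the printed argument only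
needs k to be a field.) -/
theorem result
    {k : Type u} [Field k] {X : Scheme.{u}} (pX : X ⟶ Spec (.of k)) [IsProper pX]
    (δX : X → ℤ) (hX : Cyc.IsSetup X δX) (hδX : Cyc.DeltaCompat pX δX (fun _ => 0))
    (hK : ∀ (Y P : Scheme.{u}) (pY : Y ⟶ Spec (.of k)) [LocallyOfFiniteType pY]
      (q₁ : P ⟶ X) (q₂ : P ⟶ Y), IsPullback q₁ q₂ pX pY →
      ∀ (δY : Y → ℤ) (δP : P → ℤ), Cyc.IsSetup Y δY → Cyc.IsSetup P δP →
      Cyc.DeltaCompat pY δY (fun _ => 0) → Cyc.DeltaCompat q₁ δP δX →
      ∃ κ : ∀ a m : ℤ, ChowOps.CH X δX a →ₗ[ℤ] ChowOps.CH Y δY (m - a) →ₗ[ℤ] ChowOps.CH P δP m,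
        (∀ (a m : ℤ) (α : AlgebraicCycle X ℤ) (hα : α ∈ Cyc.Zk X δX a)
          (β : AlgebraicCycle Y ℤ) (hβ : β ∈ Cyc.Zk Y δY (m - a))
          (ζ : AlgebraicCycle P ℤ) (hζ : ζ ∈ Cyc.Zk P δP m),
          (∀ t : P, ζ t =
            if δP t = δX (q₁ t) + δY (q₂ t) then
            α (q₁ t) * β (q₂ t) *
              ((Module.length (P.presheaf.stalk t) (P.presheaf.stalk t ⧸
                (Ideal.map (q₁.stalkMap t).hom (IsLocalRing.maximalIdeal (X.presheaf.stalk (q₁ t))) ⊔
                  Ideal.map (q₂.stalkMap t).hom (IsLocalRing.maximalIdeal (Y.presheaf.stalk (q₂ t)))))).toNat : ℤ)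
          else 0) →
          κ a m (ChowOps.cl α hα) (ChowOps.cl β hβ) = ChowOps.cl ζ hζ) ∧
        ∀ m : ℤ, Function.Bijective
          (DirectSum.toModule ℤ ℤ (ChowOps.CH P δP m) (fun a : ℤ => TensorProduct.lift (κ a m))))
    (p : ℤ) (φ : ChowOps.CH X δX p →+ ℤ) :
    ∃! c : Bivar.OpCl p X δX, ∀ (α : AlgebraicCycle X ℤ) (hα : α ∈ Cyc.Zk X δX p)
      (β : AlgebraicCycle X ℤ) (hβ : β ∈ Cyc.Zk X δX (p - p)),
      c.cap p (ChowOps.cl α hα) = ChowOps.cl β hβ → φ (ChowOps.cl α hα) = ChowOps.deg pX δX β :=
  Groth.Agent.Kron26.existsUnique_kronecker hX hδX hK p φ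

end Groth.Agent.S17676
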