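import Groth.Statements.S17677
import Groth.Agent.Lib.CoalgH23.Criteria

set_option autoImplicit false
universe u
open Hoch

namespace Groth.Agent.S17677

open scoped Groth.Agent.CoalgH23
open Groth.Agent.CoalgH23 WithConv

/-- Let k be a commutative ring, M a commutative monoid and V a right comodule over the monoid bialgebra
k[M] (a quasi-coherent module with an action of the diagonalizable monoid scheme Spec k[M]). Then
every 1-cocycle of the Hochschild complex of V is a 1-coboundary, i.e. the first Hochschild
cohomology module of the diagonalizable monoid with coefficients in V is zero. (The source works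
over an algebraic space with M finitely generated and cancellative, hypotheses it uses only to
identify modules under the monoid with comodules; the cocycle computation, which is the affine
statement given here, uses neither.) -/
theorem result (k : Type u) [CommRing k] (M : Type u)
    [AddCommMonoid M] (V : Type u) [AddCommGroup V] [Module k V]
    [HopfRep.Comod k (AddMonoidAlgebra k M) V] :
    Hoch.cocycles k (AddMonoidAlgebra k M) V 1 ≤ Hoch.coboundaries k (AddMonoidAlgebra k M) V 1 := by
  classical
  let l : AddMonoidAlgebra k M →ₗ[k] k := (Finsupp.lapply 0).comp (AddMonoidAlgebra.coeffLinearEquiv k).toLinearMap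
  have hs : ∀ (m : M) (r : k), l (AddMonoidAlgebra.single m r) = if m = 0 then r else 0 := fun m r => by
    simp [l, Finsupp.single_apply]
  refine cocycles_one_le (l := l) (by rw [AddMonoidAlgebra.one_def, hs, if_pos rfl]) fun a => ?_
  refine LinearMap.congr_fun (?_ : slice l ∘ₗ CoalgebraStruct.comul (R := k) = l.smulRight (1 : AddMonoidAlgebra k M)) a
  refine AddMonoidAlgebra.lhom_ext' fun m => LinearMap.ext_ring ?_
  simp only [LinearMap.comp_apply, LinearMap.smulRight_apply, AddMonoidAlgebra.comul_single, CommSemiring.comul_apply,
    TensorProduct.map_tmul, AddMonoidAlgebra.lsingle_apply, slice_tmul, hs]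
  by_cases hm : m = 0
  · subst hm
    simp [AddMonoidAlgebra.one_def]
  · simp [hm]

end Groth.Agent.S17677
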