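import Groth.Statements.S17679
import Mathlib.Tactic
import Mathlib.LinearAlgebra.FreeModule.PID
import Mathlib.LinearAlgebra.Dimension.Finrank
import Mathlib.Algebra.MonoidAlgebra.MapDomain
import Mathlib.Algebra.MonoidAlgebra.Basic
import Mathlib.RingTheory.GradedAlgebra.Basic
import Mathlib.RingTheory.FiniteType
import Mathlib.Analysis.Seminorm
import Mathlib.Algebra.Module.CharacterModule
import Mathlib.Topology.Algebra.Group.Basic
import Mathlib.GroupTheory.FiniteAbelian.Basic
import Mathlib.NumberTheory.Padics.PadicVal.Basic
import Mathlib.Data.Nat.Factorial.BigOperators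
import Mathlib.Algebra.CharP.Basic
import Mathlib.Data.Nat.Choose.Sum

set_option autoImplicit false
open DiagMon

namespace Groth.Agent.S17679

/-- For n ≥ 1 the minimal number of generators of ℤ^n as an additive monoid is n + 1: some n + 1
elements generate ℤ^n as a monoid, and every finite set generating ℤ^n as a monoid has at least n +
1 elements. (For n = 0 the empty set generates the zero monoid, so the count n + 1 is stated for n ≥
1 only.) -/
theorem result (n : ℕ) (hn : 1 ≤ n) :
    (∃ s : Finset (Fin n → ℤ), s.card = n + 1 ∧ AddSubmonoid.closure (s : Set (Fin n → ℤ)) = ⊤) ∧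
    ∀ s : Finset (Fin n → ℤ), AddSubmonoid.closure (s : Set (Fin n → ℤ)) = ⊤ → n + 1 ≤ s.card := by
  constructor
  · let f : Fin n → (Fin n → ℤ) := fun i => Pi.single i 1
    have hfinj : Function.Injective f := fun i j h => by
      have := congrFun h i
      by_contra hij
      simp [f, hij] at this
    have hnot : (-∑ i, f i) ∉ Finset.univ.image f := by
      simp only [Finset.mem_image, Finset.mem_univ, true_and, not_exists]
      intro i h
      have := congrFun h i
      simp [f, Finset.sum_apply, Pi.single_apply] at this
    refine ⟨insert (-∑ i, f i) (Finset.univ.image f), ?_, ?_⟩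
    · rw [Finset.card_insert_of_notMem hnot, Finset.card_image_of_injective _ hfinj]; simp
    · rw [eq_top_iff]
      intro x _
      let M : ℕ := ∑ i, (x i).natAbs
      have hx : x = ∑ i, ((x i + M).toNat) • f i + M • (-∑ i, f i) := by
        funext j
        have hj : (x j).natAbs ≤ M := Finset.single_le_sum (fun i _ => Nat.zero_le (x i).natAbs) (Finset.mem_univ j)
        simp [f, Finset.sum_apply, Pi.single_apply]
        omega
      rw [hx]
      refine add_mem (sum_mem fun i _ => nsmul_mem (AddSubmonoid.subset_closure ?_) _)
        (nsmul_mem (AddSubmonoid.subset_closure ?_) _) <;> simp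
  · intro s hs
    by_contra hc
    let L : (s → ℤ) →ₗ[ℤ] (Fin n → ℤ) := Fintype.linearCombination ℤ (fun i : s => (i : Fin n → ℤ))
    have hsurj : Function.Surjective L := by
      intro x
      obtain ⟨g, hg, hx⟩ := AddSubmonoid.mem_closure_finset.1 (hs.ge (AddSubmonoid.mem_top x))
      refine ⟨fun i => g i, ?_⟩
      rw [← hx, Fintype.linearCombination_apply, ← Finset.sum_coe_sort s]
      simp
    have hle := LinearMap.finrank_le_finrank_of_surjective hsurj
    simp only [Module.finrank_pi, Fintype.card_coe, Fintype.card_fin] at hle
    have hcard : s.card = n := by omega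
    have e : (Fin n → ℤ) ≃ₗ[ℤ] (s → ℤ) := LinearEquiv.funCongrLeft ℤ ℤ ((Fintype.equivFinOfCardEq (by simpa using hcard)))
    have hinj : Function.Injective L := by
      have := OrzechProperty.injective_of_surjective_endomorphism (e.toLinearMap ∘ₗ L) (e.surjective.comp hsurj)
      exact fun x y h => this (congrArg e h)
    obtain ⟨a, ha⟩ : s.Nonempty := Finset.card_pos.1 (by omega)
    obtain ⟨g, hg, hx⟩ := AddSubmonoid.mem_closure_finset.1 (hs.ge (AddSubmonoid.mem_top (-a)))
    classical
    have h0 : L (fun i : s => (g i : ℤ) + if (i : Fin n → ℤ) = a then 1 else 0) = 0 := by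
      rw [Fintype.linearCombination_apply]
      simp only [add_smul, Finset.sum_add_distrib]
      rw [Finset.sum_coe_sort s (fun i => (g i : ℤ) • i), Finset.sum_coe_sort s (fun i => (if i = a then (1:ℤ) else 0) • i)]
      simp only [natCast_zsmul, hx, ite_smul, one_smul, zero_smul, Finset.sum_ite_eq', ha, if_true, neg_add_cancel]
    have := congrFun (hinj (h0.trans (map_zero L).symm)) ⟨a, ha⟩
    simp at this
    omega

end Groth.Agent.S17679
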