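import Groth.Statements.S17681
import Groth.Agent.Lib.AbRigid.Connected
import Mathlib.AlgebraicGeometry.AlgClosed.Basic
import Mathlib.AlgebraicGeometry.Morphisms.Etale
import Mathlib.Tactic

set_option autoImplicit false
universe u
open CategoryTheory MonoidalCategory CartesianMonoidalCategory MonObj GrpObj AlgebraicGeometry
open AlgGrp

namespace Groth.Agent.S17681

set_option backward.isDefEq.respectTransparency.types false

open Limits

theorem irreducible_base (S : Scheme.{u}) (G : Over S) [GrpObj G] [LocallyOfFiniteType G.hom]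
    (hconn : ∀ s : S, ConnectedSpace (G.hom.fiber s))
    {Ω : Type u} [Field Ω] (s : Spec (CommRingCat.of Ω) ⟶ S) : IrreducibleSpace ↥(pullback G.hom s) := by
  obtain ⟨⟨y, φ⟩, rfl⟩ := (Scheme.SpecToEquivOfField Ω S).symm.surjective s
  let Gy := (Over.pullback (S.fromSpecResidueField y)).obj G
  letI : GrpObj Gy := Functor.grpObjObj
  haveI : LocallyOfFiniteType Gy.hom := by dsimp [Gy]; infer_instance
  haveI : ConnectedSpace Gy.left := hconn y
  haveI hgi : GeometricallyIrreducible Gy.hom :=
    Groth.Agent.AbRigid.geometricallyIrreducible_of_connected (K := S.residueField y) Gy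
  have hP : IsPullback (pullback.fst Gy.hom (Spec.map φ) ≫ pullback.fst G.hom (S.fromSpecResidueField y))
      (pullback.snd Gy.hom (Spec.map φ)) G.hom (Spec.map φ ≫ S.fromSpecResidueField y) :=
    IsPullback.paste_horiz (IsPullback.of_hasPullback Gy.hom (Spec.map φ))
      (IsPullback.of_hasPullback G.hom (S.fromSpecResidueField y))
  haveI : IrreducibleSpace ↥(pullback Gy.hom (Spec.map φ)) :=
    hgi.geometrically_irreducibleSpace _ _ _ (IsPullback.of_hasPullback _ _)
  exact hP.isoPullback.hom.homeomorph.irreducibleSpace_iff.1 inferInstance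

theorem fixed_of_point (S : Scheme.{u}) (G X Y : Over S) [GrpObj G] [LocallyOfFiniteType G.hom]
    (hconn : ∀ s : S, ConnectedSpace (G.hom.fiber s))
    (a : AlgGrp.Action G X) (f : X ⟶ Y) [Etale f.left] {Ω : Type u} [Field Ω] [IsAlgClosed Ω]
    (s : Spec (CommRingCat.of Ω) ⟶ S) (x : Over.mk s ⟶ X)
    (hx : ∀ (T' : Over S) (t : T' ⟶ Over.mk s) (g : T' ⟶ G), lift g (t ≫ x) ≫ a.act ≫ f = t ≫ x ≫ f)
    (g₀ : Over.mk s ⟶ G) : lift g₀ x ≫ a.act = x := by
  let T : Over S := Over.mk s
  let P := G ⊗ T
  let π : P.left ⟶ Spec (CommRingCat.of Ω) := (snd G T).left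
  haveI : LocallyOfFiniteType π := (inferInstance : LocallyOfFiniteType (pullback.snd G.hom s))
  haveI : IrreducibleSpace P.left := irreducible_base S G hconn s
  haveI : JacobsonSpace P.left := LocallyOfFiniteType.jacobsonSpace π
  let U : P ⟶ X := lift (fst G T) (snd G T ≫ x) ≫ a.act
  let V : P ⟶ X := snd G T ≫ x
  have hUV : U.left ≫ f.left = V.left ≫ f.left := by
    have h := hx P (snd G T) (fst G T)
    rw [← Category.assoc] at h
    exact congrArg CommaMorphism.left (h.trans (Category.assoc _ _ _).symm)
  let W : P.left ⟶ pullback f.left f.left := pullback.lift U.left V.left hUV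
  let D : (pullback f.left f.left).Opens := (pullback.diagonal f.left).opensRange
  let pt := IsLocalRing.closedPoint Ω
  have key : ∀ h : T ⟶ G, (lift h (𝟙 T)).left pt ∈ W ⁻¹ᵁ D ↔ lift h x ≫ a.act = x := by
    intro h
    have e1 : lift h (𝟙 T) ≫ U = lift h x ≫ a.act := by
      simp only [U]
      rw [← Category.assoc, comp_lift, lift_fst, lift_snd_assoc, Category.id_comp]
    have e2 : lift h (𝟙 T) ≫ V = x := by simp [V]
    constructor
    · intro hmem
      have hr : Set.range ((lift h (𝟙 T)).left ≫ W).base ⊆ Set.range (pullback.diagonal f.left).base := by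
        rintro _ ⟨z, rfl⟩
        obtain rfl : z = pt := Subsingleton.elim (α := Spec (CommRingCat.of Ω)) _ _
        exact hmem
      let w := IsOpenImmersion.lift (pullback.diagonal f.left) _ hr
      have hw : w ≫ pullback.diagonal f.left = _ := IsOpenImmersion.lift_fac _ _ hr
      have a1 := congrArg (· ≫ pullback.fst f.left f.left) hw
      have a2 := congrArg (· ≫ pullback.snd f.left f.left) hw
      simp only [Category.assoc, pullback.diagonal_fst, pullback.diagonal_snd, Category.comp_id, W,
        pullback.lift_fst, pullback.lift_snd, ← Over.comp_left, e1, e2] at a1 a2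
      exact Over.OverMorphism.ext (a1.symm.trans a2)
    · intro he
      have e : (lift h (𝟙 T)).left ≫ W = x.left ≫ pullback.diagonal f.left := by
        apply pullback.hom_ext
        · simp only [Category.assoc, W, pullback.lift_fst, pullback.diagonal_fst, Category.comp_id,
            ← Over.comp_left, e1, he]
        · simp only [Category.assoc, W, pullback.lift_snd, pullback.diagonal_snd, Category.comp_id,
            ← Over.comp_left, e2]
      show W.base ((lift h (𝟙 T)).left pt) ∈ D
      rw [← Scheme.Hom.comp_apply, e, Scheme.Hom.comp_apply]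
      exact Set.mem_range_self _
  have hone : lift (1 : T ⟶ G) x ≫ a.act = x := by
    have : lift (1 : T ⟶ G) x = lift (toUnit T) x ≫ (η[G] ▷ X) := by
      ext <;> simp [Hom.one_def]
    rw [this, Category.assoc, a.one_act]
    simp
  let m : P ⟶ P := lift ((snd G T ≫ g₀) * fst G T) (snd G T)
  have hm : ∀ h : T ⟶ G, lift h (𝟙 T) ≫ m = lift (g₀ * h) (𝟙 T) := fun h => by
    simp only [m, comp_lift, MonObj.comp_mul, lift_snd_assoc, Category.id_comp, lift_fst, lift_snd]
  obtain ⟨p, hp, hpc⟩ : ∃ p : P.left, p ∈ (W ⁻¹ᵁ D ⊓ m.left ⁻¹ᵁ (W ⁻¹ᵁ D) : P.left.Opens) ∧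
      p ∈ closedPoints P.left := by
    refine nonempty_inter_closedPoints ?_ (W ⁻¹ᵁ D ⊓ m.left ⁻¹ᵁ (W ⁻¹ᵁ D) : P.left.Opens).2.isLocallyClosed
    obtain ⟨q, -, hq⟩ := (IrreducibleSpace.isIrreducible_univ P.left).2 _ _ (W ⁻¹ᵁ D).2 (m.left ⁻¹ᵁ (W ⁻¹ᵁ D)).2
      ⟨_, trivial, (key 1).2 hone⟩ ⟨(lift g₀⁻¹ (𝟙 T)).left pt, trivial, by
        show m.left.base _ ∈ W ⁻¹ᵁ D
        rw [← Scheme.Hom.comp_apply, ← Over.comp_left, hm, mul_inv_cancel]
        exact (key 1).2 hone⟩
    exact ⟨q, hq⟩
  have hsec : pointOfClosedPoint π p hpc ≫ π = 𝟙 _ := pointOfClosedPoint_comp _ _ _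
  have hTsnd : (snd G T).left ≫ T.hom = P.hom := Over.w _
  let q : T ⟶ P := Over.homMk (pointOfClosedPoint π p hpc) (by
    rw [← hTsnd, ← Category.assoc]
    exact (congrArg (· ≫ T.hom) hsec).trans (Category.id_comp _))
  have hq : q = lift (q ≫ fst G T) (𝟙 T) := by
    apply CartesianMonoidalCategory.hom_ext
    · simp
    · rw [lift_snd]; exact Over.OverMorphism.ext hsec
  set h := q ≫ fst G T with hh
  have hpt : q.left pt = p := pointOfClosedPoint_apply π p hpc pt
  have h1 : lift h x ≫ a.act = x := (key h).1 (by rw [← hq, hpt]; exact hp.1)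
  have h2 : lift (g₀ * h) x ≫ a.act = x := (key _).1 (by
    rw [← hm, ← hq, Over.comp_left, Scheme.Hom.comp_apply, hpt]; exact hp.2)
  have hmul : lift (g₀ * h) x ≫ a.act = lift g₀ (lift h x ≫ a.act) ≫ a.act := by
    have : lift (g₀ * h) x = lift (lift g₀ h) x ≫ (μ[G] ▷ X) := by
      ext <;> simp [Hom.mul_def]
    rw [this, Category.assoc, a.mul_act]
    simp [lift_lift_associator_hom_assoc, lift_whiskerLeft_assoc]
  rw [h2, h1] at hmul
  exact hmul.symm

/-- Let S be a scheme, G a flat S-group scheme of finite presentation with connected fibres, X and Y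
S-schemes locally of finite presentation with actions of G, and f : X → Y an étale G-equivariant
S-morphism; assume that S is locally Noetherian or that X and Y are quasi-separated over S. Then f
reflects fixed points: a T-point x of X whose image in Y is fixed by G after every base change T' →
T is itself fixed by G after every base change, so that the fixed-point subfunctor of X is the
preimage of that of Y. (The source allows X and Y to be algebraic spaces over S; this row is the
case of schemes.) -/
theorem result (S : Scheme.{u})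
    (G : Over S) [GrpObj G] [Flat G.hom] [LocallyOfFinitePresentation G.hom] [QuasiCompact G.hom]
    [QuasiSeparated G.hom] (hconn : ∀ s : S, ConnectedSpace (G.hom.fiber s))
    (X Y : Over S) [LocallyOfFinitePresentation X.hom] [LocallyOfFinitePresentation Y.hom]
    (hS : IsLocallyNoetherian S ∨ (QuasiSeparated X.hom ∧ QuasiSeparated Y.hom))
    (a : AlgGrp.Action G X) (b : AlgGrp.Action G Y) (f : X ⟶ Y) [Etale f.left]
    (hf : a.act ≫ f = (G ◁ f) ≫ b.act) (T : Over S) (x : T ⟶ X)
    (hx : ∀ (T' : Over S) (t : T' ⟶ T) (g : T' ⟶ G), lift g (t ≫ x ≫ f) ≫ b.act = t ≫ x ≫ f)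
    (T' : Over S) (t : T' ⟶ T) (g : T' ⟶ G) : lift g (t ≫ x) ≫ a.act = t ≫ x := by
  have hf' : lift g (t ≫ x) ≫ a.act ≫ f = t ≫ x ≫ f := by
    rw [hf, lift_whiskerLeft_assoc, Category.assoc]
    exact hx T' t g
  let u := lift g (t ≫ x) ≫ a.act
  let v := t ≫ x
  have huv : u.left ≫ f.left = v.left ≫ f.left :=
    congrArg CommaMorphism.left (show u ≫ f = v ≫ f by simpa [u, v, Category.assoc] using hf')
  let W : T'.left ⟶ pullback f.left f.left := pullback.lift u.left v.left huv
  have hr : Set.range W.base ⊆ Set.range (pullback.diagonal f.left).base := by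
    rintro _ ⟨p, rfl⟩
    let Ω := AlgebraicClosure (T'.left.residueField p)
    let qp : Spec (CommRingCat.of Ω) ⟶ T'.left :=
      Spec.map (CommRingCat.ofHom (algebraMap (T'.left.residueField p) Ω)) ≫ T'.left.fromSpecResidueField p
    have hqp : qp (IsLocalRing.closedPoint Ω) = p := by
      rw [Scheme.Hom.comp_apply]
      exact Scheme.fromSpecResidueField_apply _ _
    let s := qp ≫ T'.hom
    let q : Over.mk s ⟶ T' := Over.homMk qp rfl
    have hfix : lift (q ≫ g) (q ≫ t ≫ x) ≫ a.act = q ≫ t ≫ x := by
      refine fixed_of_point S G X Y hconn a f s _ (fun T'' t'' g'' => ?_) _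
      rw [hf, lift_whiskerLeft_assoc]
      simpa [Category.assoc] using hx T'' (t'' ≫ q ≫ t) g''
    have e : qp ≫ W = (q ≫ v).left ≫ pullback.diagonal f.left := by
      apply pullback.hom_ext
      · simp only [Category.assoc, W, pullback.lift_fst, pullback.diagonal_fst, Category.comp_id]
        refine congrArg CommaMorphism.left (show q ≫ u = q ≫ v from ?_)
        simp only [u, v, ← Category.assoc q, comp_lift]
        exact hfix.trans (Category.assoc _ _ _).symm
      · simp only [Category.assoc, W, pullback.lift_snd, pullback.diagonal_snd, Category.comp_id]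
        rfl
    rw [← hqp, ← Scheme.Hom.comp_apply, e, Scheme.Hom.comp_apply]
    exact Set.mem_range_self _
  let w := IsOpenImmersion.lift (pullback.diagonal f.left) W hr
  have hw : w ≫ pullback.diagonal f.left = W := IsOpenImmersion.lift_fac _ _ hr
  have a1 := congrArg (· ≫ pullback.fst f.left f.left) hw
  have a2 := congrArg (· ≫ pullback.snd f.left f.left) hw
  simp only [Category.assoc, pullback.diagonal_fst, pullback.diagonal_snd, Category.comp_id, W,
    pullback.lift_fst, pullback.lift_snd] at a1 a2
  exact Over.OverMorphism.ext (a1.symm.trans a2)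

end Groth.Agent.S17681
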