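import Groth.Statements.S17682
import Mathlib

set_option autoImplicit false
universe u v w u'
open DiagMon

namespace Groth.Agent.S17682
open DirectSum Finset

/-- Let R be a commutative ring, A a commutative R-algebra graded by a commutative monoid M, N a
submonoid of M and R' a commutative R-algebra. For every R-algebra homomorphism F : A → R' vanishing
on the homogeneous elements of degree outside N there is a unique R-algebra homomorphism f : A →
R'[M] which is graded (a homogeneous element of degree m goes to a multiple of X^m), vanishes on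
homogeneous elements of degree outside N, and composes with the augmentation X^m ↦ 1 to F. In the
dictionary where an M-grading of A is an action of the diagonalizable monoid scheme Spec R[M] on
Spec A and graded maps A → R'[M] supported on N are equivariant maps from the monoid scheme of N
over R', this says that the attractor of Spec A for the magnet N is represented by the closed
subscheme of Spec A defined by the homogeneous elements of degree outside N. -/
theorem result (R : Type u) [CommRing R]
    (A : Type v) [CommRing A] [Algebra R A] (M : Type w) [AddCommMonoid M] [DecidableEq M]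
    (𝒜 : M → Submodule R A) [GradedAlgebra 𝒜] (N : AddSubmonoid M) (R' : Type u') [CommRing R']
    [Algebra R R'] (F : A →ₐ[R] R') (hF : ∀ m, m ∉ N → ∀ a ∈ 𝒜 m, F a = 0) :
    ∃! f : A →ₐ[R] AddMonoidAlgebra R' M,
      (∀ m, ∀ a ∈ 𝒜 m, f a =
          AddMonoidAlgebra.single m (Bialgebra.counitAlgHom R' (AddMonoidAlgebra R' M) (f a))) ∧
      (∀ m, m ∉ N → ∀ a ∈ 𝒜 m, f a = 0) ∧
      ∀ a, Bialgebra.counitAlgHom R' (AddMonoidAlgebra R' M) (f a) = F a := by
  classical
  let g : ∀ m, 𝒜 m →ₗ[R] AddMonoidAlgebra R' M := fun m =>
    { toFun := fun a => AddMonoidAlgebra.single m (F a)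
      map_add' := fun a b => by simp [AddMonoidAlgebra.single_add]
      map_smul' := fun r a => by simp [AddMonoidAlgebra.smul_single] }
  let G : (⨁ m, 𝒜 m) →ₐ[R] AddMonoidAlgebra R' M := DirectSum.toAlgebra R (fun m => 𝒜 m) g
    (by show AddMonoidAlgebra.single 0 (F (1 : A)) = 1; rw [map_one]; rfl)
    (fun {i j} a b => by
      show AddMonoidAlgebra.single (i + j) (F ((a : A) * b)) = AddMonoidAlgebra.single i (F a) * AddMonoidAlgebra.single j (F b)
      rw [AddMonoidAlgebra.single_mul_single, map_mul])
  let f : A →ₐ[R] AddMonoidAlgebra R' M := G.comp (decomposeAlgEquiv 𝒜).toAlgHom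
  have hf : ∀ m, ∀ a ∈ 𝒜 m, f a = AddMonoidAlgebra.single m (F a) := fun m a ha => by
    show G (decompose 𝒜 a) = _
    rw [decompose_of_mem 𝒜 ha]
    exact DirectSum.toAddMonoid_of _ _ _
  have hcs : ∀ (m : M) (r : R'), Bialgebra.counitAlgHom R' (AddMonoidAlgebra R' M) (AddMonoidAlgebra.single m r) = r := by simp
  refine ⟨f, ⟨fun m a ha => by rw [hf m a ha, hcs], fun m hm a ha => by rw [hf m a ha, hF m hm a ha, AddMonoidAlgebra.single_zero],
    fun a => ?_⟩, ?_⟩
  · induction a using DirectSum.Decomposition.inductionOn 𝒜 with
    | zero => simp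
    | @homogeneous i a => rw [hf i a a.2, hcs]
    | add a b ha hb => simp [map_add] at ha hb ⊢; simp [ha, hb]
  · rintro f' ⟨h1, -, h3⟩
    refine AlgHom.ext fun a => ?_
    induction a using DirectSum.Decomposition.inductionOn 𝒜 with
    | zero => simp
    | @homogeneous i a => rw [h1 i a a.2, h3, hf i a a.2]
    | add a b ha hb => simp [ha, hb]

end Groth.Agent.S17682
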