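import Groth.Statements.S17683
import Mathlib.Tactic
import Mathlib.LinearAlgebra.FreeModule.PID
import Mathlib.LinearAlgebra.Dimension.Finrank
import Mathlib.Algebra.MonoidAlgebra.MapDomain
import Mathlib.Algebra.MonoidAlgebra.Basic
import Mathlib.RingTheory.GradedAlgebra.Basic
import Mathlib.RingTheory.FiniteType
import Mathlib.Analysis.Seminorm
import Mathlib.Algebra.Module.CharacterModule
import Mathlib.Topology.Algebra.Group.Basic
import Mathlib.GroupTheory.FiniteAbelian.Basic
import Mathlib.NumberTheory.Padics.PadicVal.Basic
import Mathlib.Data.Nat.Factorial.BigOperators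
import Mathlib.Algebra.CharP.Basic
import Mathlib.Data.Nat.Choose.Sum

set_option autoImplicit false
universe u
open DiagMon

namespace Groth.Agent.S17683

/-- Let N be a commutative monoid and F a submonoid of N. The additive projection ℤ[N] → ℤ[F] of monoid
algebras keeping the monomials with exponent in F and killing the others is multiplicative, i.e. F
is a face of N, if and only if for all x, y in N the sum x + y lies in F exactly when both x and y
do. -/
theorem result {N : Type u} [AddCommMonoid N] (F : AddSubmonoid N) :
    (∀ a b : AddMonoidAlgebra ℤ N,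
        AddMonoidAlgebra.comapDomain ((↑) : F → N) Subtype.val_injective (a * b) =
          AddMonoidAlgebra.comapDomain ((↑) : F → N) Subtype.val_injective a *
            AddMonoidAlgebra.comapDomain ((↑) : F → N) Subtype.val_injective b) ↔
      ∀ x y : N, x + y ∈ F ↔ (x ∈ F ∧ y ∈ F) := by
  have hs : ∀ (x : N) (r : ℤ) (hx : x ∈ F), AddMonoidAlgebra.comapDomain ((↑) : F → N) Subtype.val_injective (AddMonoidAlgebra.single x r) = AddMonoidAlgebra.single (⟨x, hx⟩ : F) r :=
    fun x r hx => AddMonoidAlgebra.comapDomain_single_map ((↑) : F → N) _ (⟨x, hx⟩ : F) r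
  have hn : ∀ (x : N) (r : ℤ), x ∉ F → AddMonoidAlgebra.comapDomain ((↑) : F → N) Subtype.val_injective (AddMonoidAlgebra.single x r) = 0 :=
    fun x r hx => by
      ext y
      have : x ≠ (y : N) := fun e => hx (e ▸ y.2)
      simpa using Finsupp.single_eq_of_ne this.symm
  constructor
  · intro h x y
    refine ⟨fun hxy => ?_, fun ⟨a, b⟩ => add_mem a b⟩
    have := h (.single x 1) (.single y 1)
    rw [AddMonoidAlgebra.single_mul_single, hs _ _ hxy] at this
    by_contra hc
    rw [not_and_or] at hc
    rcases hc with hc | hc <;> rw [hn _ _ hc] at this <;> simp at this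
  · intro h a b
    induction a using AddMonoidAlgebra.induction_linear with
    | zero => simp
    | add f g hf hg => simp [add_mul, hf, hg]
    | single x r =>
      induction b using AddMonoidAlgebra.induction_linear with
      | zero => simp
      | add f g hf hg => simp [mul_add, hf, hg]
      | single y t =>
        rw [AddMonoidAlgebra.single_mul_single]
        by_cases hx : x ∈ F
        · by_cases hy : y ∈ F
          · rw [hs _ _ hx, hs _ _ hy, hs _ _ (add_mem hx hy), AddMonoidAlgebra.single_mul_single]
            rfl
          · rw [hn _ _ hy, hn _ _ (fun hxy => hy ((h x y).1 hxy).2), mul_zero]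
        · rw [hn _ _ hx, hn _ _ (fun hxy => hx ((h x y).1 hxy).1), zero_mul]

end Groth.Agent.S17683
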