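import Groth.Statements.S17684
import Mathlib.Tactic
import Mathlib.LinearAlgebra.FreeModule.PID
import Mathlib.LinearAlgebra.Dimension.Finrank
import Mathlib.Algebra.MonoidAlgebra.MapDomain
import Mathlib.Algebra.MonoidAlgebra.Basic
import Mathlib.RingTheory.GradedAlgebra.Basic
import Mathlib.RingTheory.FiniteType
import Mathlib.Analysis.Seminorm
import Mathlib.Algebra.Module.CharacterModule
import Mathlib.Topology.Algebra.Group.Basic
import Mathlib.GroupTheory.FiniteAbelian.Basic
import Mathlib.NumberTheory.Padics.PadicVal.Basic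
import Mathlib.Data.Nat.Factorial.BigOperators
import Mathlib.Algebra.CharP.Basic
import Mathlib.Data.Nat.Choose.Sum

set_option autoImplicit false
universe u
open DiagMon

namespace Groth.Agent.S17684

/-- Let N ⊆ L ⊆ L' be submonoids of a commutative monoid M and suppose L is a face of L', that is, for
x, y in L' the sum x + y lies in L exactly when x and y do. Then the set difference of L' by the
difference of L and N is the underlying set of a submonoid N' of M containing N, and N is a face of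
N'. (The published statement also identifies the monoid scheme of N' over any base with a push-out
of schemes; that clause is not stated here.) -/
theorem result (M : Type u) [AddCommMonoid M] (N L L' : AddSubmonoid M)
    (hNL : N ≤ L) (hLL' : L ≤ L') (hface : ∀ x ∈ L', ∀ y ∈ L', x + y ∈ L ↔ (x ∈ L ∧ y ∈ L)) :
    ∃ N' : AddSubmonoid M, (N' : Set M) = (L' : Set M) \ ((L : Set M) \ (N : Set M)) ∧ N ≤ N' ∧
      ∀ x ∈ N', ∀ y ∈ N', x + y ∈ N ↔ (x ∈ N ∧ y ∈ N) := by
  refine ⟨{ carrier := (L' : Set M) \ ((L : Set M) \ (N : Set M))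
            add_mem' := ?_
            zero_mem' := ⟨L'.zero_mem, fun h => h.2 N.zero_mem⟩ }, rfl, ?_, ?_⟩
  · rintro x y ⟨hx, hx'⟩ ⟨hy, hy'⟩
    refine ⟨L'.add_mem hx hy, fun ⟨h1, h2⟩ => h2 ?_⟩
    obtain ⟨a, b⟩ := (hface x hx y hy).1 h1
    exact N.add_mem (not_not.1 fun h => hx' ⟨a, h⟩) (not_not.1 fun h => hy' ⟨b, h⟩)
  · exact fun x hx => ⟨hLL' (hNL hx), fun h => h.2 hx⟩
  · rintro x ⟨hx, hx'⟩ y ⟨hy, hy'⟩
    refine ⟨fun h => ?_, fun ⟨a, b⟩ => add_mem a b⟩
    obtain ⟨a, b⟩ := (hface x hx y hy).1 (hNL h)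
    exact ⟨not_not.1 fun h => hx' ⟨a, h⟩, not_not.1 fun h => hy' ⟨b, h⟩⟩

end Groth.Agent.S17684
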