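import Groth.Statements.S17685
import Groth.Agent.Lib.WeilClosed.Over
import Mathlib.AlgebraicGeometry.Morphisms.Finite
import Mathlib.AlgebraicGeometry.Morphisms.Flat
import Mathlib.AlgebraicGeometry.Morphisms.FinitePresentation
import Mathlib.RingTheory.Flat.EquationalCriterion
import Mathlib.RingTheory.Finiteness.ModuleFinitePresentation

set_option autoImplicit false
universe u
open CategoryTheory MonoidalCategory CartesianMonoidalCategory MonObj GrpObj AlgebraicGeometry
open AlgGrp

namespace Groth.Agent.S17685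

lemma isPullback_whiskerRight {S : Scheme.{u}} {A B : Over S} (f : A ⟶ B) (X : Over S) :
    IsPullback (fst A X).left (f ▷ X).left f.left (fst B X).left := by
  refine IsPullback.of_bot (v₂₁ := (snd B X).left) (h₃₁ := X.hom) (v₂₂ := B.hom) ?_ ?_ ?_
  · rw [← Over.comp_left, whiskerRight_snd, Over.w f]
    exact IsPullback.of_hasPullback A.hom X.hom
  · rw [← Over.comp_left, ← Over.comp_left, whiskerRight_fst]
  · exact IsPullback.of_hasPullback B.hom X.hom

/-- Let S be a scheme, F an S-scheme that is finite locally free over S (finite, flat and locally of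
finite presentation) with a section e of F over S which is a surjective closed immersion (an
infinitesimal pointed S-scheme), and X an S-scheme with an action of the pointed scheme F, i.e. an
S-morphism F ×_S X → X through which e acts as the identity. Then the subfunctor of F-fixed points
of X, whose T-points are the T-points x of X with g · x_{T'} = x_{T'} for every S-scheme T' over T
and every T'-point g of F, is represented by a closed subscheme of X. (The source allows F and X to
be algebraic spaces over S; this row is the case of schemes.) -/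
theorem result (S : Scheme.{u})
    (F X : Over S) (e : 𝟙_ (Over S) ⟶ F) (act : F ⊗ X ⟶ X) (he : (e ▷ X) ≫ act = (λ_ X).hom)
    [IsFinite F.hom] [Flat F.hom] [LocallyOfFinitePresentation F.hom]
    [IsClosedImmersion e.left] [Surjective e.left] :
    ∃ (Z : Scheme.{u}) (i : Z ⟶ X.left), IsClosedImmersion i ∧
      ∀ (T : Over S) (x : T ⟶ X), (∃ y : T.left ⟶ Z, y ≫ i = x.left) ↔
        ∀ (T' : Over S) (t : T' ⟶ T) (g : T' ⟶ F), lift g (t ≫ x) ≫ act = t ≫ x := by
  obtain ⟨Z, i, hi, hZ⟩ := Groth.Agent.WeilClosed.exists_closedSubscheme_over F X X act (snd F X)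
    (fun ξ => by
      obtain ⟨U, hU, hξ, -⟩ := exists_isAffineOpen_mem_and_subset (X := S) (U := ⊤) (x := X.hom ξ) trivial
      refine ⟨⟨U, hU⟩, hξ, fun ζ hζ => ⟨⟨F.hom ⁻¹ᵁ U, hU.preimage F.hom⟩, le_rfl, hζ, ?_⟩⟩
      have h1 := HasRingHomProperty.appLE (P := @Flat.{u}) F.hom inferInstance ⟨U, hU⟩ ⟨F.hom ⁻¹ᵁ U, hU.preimage F.hom⟩ le_rfl
      have h2 := HasRingHomProperty.appLE (P := @LocallyOfFinitePresentation.{u}) F.hom inferInstance ⟨U, hU⟩
        ⟨F.hom ⁻¹ᵁ U, hU.preimage F.hom⟩ le_rfl
      have h3 := F.hom.finite_app U hU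
      rw [Scheme.Hom.app_eq_appLE] at h3
      letI := (F.hom.appLE U (F.hom ⁻¹ᵁ U) le_rfl).hom.toAlgebra
      haveI : Module.Flat Γ(S, U) Γ(F.left, F.hom ⁻¹ᵁ U) := h1
      haveI : Algebra.FinitePresentation Γ(S, U) Γ(F.left, F.hom ⁻¹ᵁ U) := h2
      haveI : Module.Finite Γ(S, U) Γ(F.left, F.hom ⁻¹ᵁ U) := h3
      haveI := Module.FinitePresentation.of_finite_of_finitePresentation Γ(S, U) Γ(F.left, F.hom ⁻¹ᵁ U)
      exact Module.Flat.projective_of_finitePresentation)
    (Groth.Agent.WeilClosed.stable_cover F X act (fun U z hz => by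
      have hs : Surjective (e ▷ X).left := MorphismProperty.of_isPullback (P := @Surjective)
        (isPullback_whiskerRight e X) inferInstance
      obtain ⟨w, rfl⟩ := hs.surj z
      show act.left ((e ▷ X).left w) ∈ U
      have h1 : (e ▷ X).left ≫ act.left = (e ▷ X).left ≫ (snd F X).left := by
        rw [← Over.comp_left, ← Over.comp_left, he, whiskerRight_snd]
        rfl
      rw [← Scheme.Hom.comp_apply, h1, Scheme.Hom.comp_apply]
      exact hz))
  refine ⟨Z.left, i.left, hi, fun T x => ?_⟩
  have h := hZ T x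
  rw [Groth.Agent.WeilClosed.whisker_eq_iff_forall] at h
  simp only [lift_snd] at h
  rw [← h]
  constructor
  · rintro ⟨y, hy⟩
    refine ⟨Over.homMk y ?_, Over.OverMorphism.ext hy⟩
    rw [← Over.w i, reassoc_of% hy, Over.w x]
  · rintro ⟨z, rfl⟩
    exact ⟨z.left, rfl⟩

end Groth.Agent.S17685
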