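import Groth.Statements.S17687
import Mathlib

set_option autoImplicit false
universe u v w
open DiagMon

namespace Groth.Agent.S17687
open DirectSum Finset

/-- Let R be a commutative ring and A a commutative R-algebra of finite type graded by a commutative
monoid M. Then the set of ideals J_N, N running over all submonoids of M, where J_N is generated by
the homogeneous elements of degree not in N (the ideal of the attractor of Spec A for the magnet N),
is finite: Spec A has finitely many attractors and hence finitely many pure magnets. (The source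
assumes Spec A of finite presentation over the base; its proof uses only a finite set of homogeneous
algebra generators, so finite type is assumed here.) -/
theorem result (R : Type u) [CommRing R] (A : Type v) [CommRing A]
    [Algebra R A] [Algebra.FiniteType R A] (M : Type w) [AddCommMonoid M] [DecidableEq M]
    (𝒜 : M → Submodule R A) [GradedAlgebra 𝒜] :
    (Set.range fun N : AddSubmonoid M => Ideal.span {a : A | ∃ m : M, m ∉ N ∧ a ∈ 𝒜 m}).Finite := by
  classical
  obtain ⟨s, hs⟩ := (Algebra.FiniteType.out : (⊤ : Subalgebra R A).FG)
  let G : Finset A := s.biUnion fun x => (decompose 𝒜 x).support.image fun d => (decompose 𝒜 x d : A)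
  refine Set.Finite.subset (G.finite_toSet.finite_subsets.image Ideal.span) ?_
  rintro _ ⟨N, rfl⟩
  set S := {a : A | ∃ m : M, m ∉ N ∧ a ∈ 𝒜 m}
  refine ⟨(G : Set A) ∩ S, Set.inter_subset_left, le_antisymm (Ideal.span_mono Set.inter_subset_right) (Ideal.span_le.2 ?_)⟩
  set J := Ideal.span ((G : Set A) ∩ S)
  have key : ∀ a : A, ∀ m ∉ N, (decompose 𝒜 a m : A) ∈ J := by
    intro a
    have ha : a ∈ Algebra.adjoin R (s : Set A) := hs ▸ trivial
    induction ha using Algebra.adjoin_induction with
    | mem x hx =>
      intro m hm
      by_cases h : m ∈ (decompose 𝒜 x).support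
      · exact Ideal.subset_span ⟨Finset.mem_biUnion.2 ⟨x, hx, Finset.mem_image.2 ⟨m, h, rfl⟩⟩, m, hm, SetLike.coe_mem _⟩
      · rw [DFinsupp.notMem_support_iff.1 h]; exact J.zero_mem
    | algebraMap r =>
      intro m hm
      rw [decompose_of_mem_ne 𝒜 (SetLike.algebraMap_mem_graded 𝒜 r) (fun h => hm (by cases h; exact N.zero_mem))]
      exact J.zero_mem
    | add x y _ _ hx hy =>
      intro m hm
      simpa using J.add_mem (hx m hm) (hy m hm)
    | mul x y _ _ hx hy =>
      intro m hm
      rw [decompose_mul, DirectSum.coe_mul_apply]
      refine J.sum_mem fun ij hij => ?_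
      have hij' := (Finset.mem_filter.1 hij).2
      by_cases h : ij.1 ∈ N
      · exact J.mul_mem_left _ (hy _ fun h2 => hm (hij' ▸ N.add_mem h h2))
      · exact J.mul_mem_right _ (hx _ h)
  rintro a ⟨m, hm, ha⟩
  have := key a m hm
  rwa [decompose_of_mem_same 𝒜 ha] at this

end Groth.Agent.S17687
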