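import Groth.Statements.S17688
import Groth.Agent.Lib.NeronMap.Basic
import Groth.Agent.Lib.NeronElem.Basic

set_option autoImplicit false
universe u
open CategoryTheory CategoryTheory.Limits AlgebraicGeometry MonObj
open Neron

namespace Groth.Agent.S17688

open Groth.Agent Opposite

theorem map_pow' {S S' : Scheme.{u}} (f : S' ⟶ S) {X U : Over S} [GrpObj U] (x : X ⟶ U) (n : ℕ) :
    (Over.pullback f).map (x ^ n) = ((Over.pullback f).map x) ^ n :=
  map_pow ((Over.pullback f).homMonoidHom (X := X) (M := U)) x n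

theorem map_one' {S S' : Scheme.{u}} (f : S' ⟶ S) {X U : Over S} [GrpObj U] :
    (Over.pullback f).map (1 : X ⟶ U) = 1 :=
  (Over.pullback f).map_one

theorem isIso_pow_of {S : Scheme.{u}} (U : Over S) [GrpObj U] (m a : ℕ)
    (h : ((𝟙 U : U ⟶ U) ^ m) ^ a = 𝟙 U) : IsIso ((𝟙 U : U ⟶ U) ^ m) := by
  refine ⟨(𝟙 U : U ⟶ U) ^ a, ?_, ?_⟩
  · rw [MonObj.comp_pow, Category.comp_id, h]
  · rw [MonObj.comp_pow, Category.comp_id, ← pow_mul, Nat.mul_comm, pow_mul, h]


/-- Let R be a discrete valuation ring whose fraction field K has characteristic p > 0, and let U be a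
flat, separated, commutative group scheme over Spec R whose generic fibre U_K is annihilated by a
power p^N of p (in the group of endomorphisms of U_K as a K-scheme, the p^N-th power of the identity
is the unit). Then for every prime ℓ invertible in R the ℓ-th power map of U (the ℓ-th power of the
identity in the group of R-morphisms U → U) is an isomorphism. -/
theorem result
    (R : Type u) [CommRing R] [IsDomain R] [IsDiscreteValuationRing R]
    (p : ℕ) (hp : p.Prime) [CharP (FractionRing R) p]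
    (U : Over (Spec (CommRingCat.of R))) [GrpObj U] [IsCommMonObj U] [Flat U.hom] [IsSeparated U.hom]
    (N : ℕ) (hN : (𝟙 (Red.bc (Neron.genPt R) U) : Red.bc (Neron.genPt R) U ⟶ Red.bc (Neron.genPt R) U) ^ (p ^ N) = 1)
    (ℓ : ℕ) (hℓ : ℓ.Prime) (hℓu : IsUnit (ℓ : R)) :
    IsIso ((𝟙 U : U ⟶ U) ^ ℓ) := by
  haveI : IsDedekindDomain R := inferInstance
  have hU : (𝟙 U : U ⟶ U) ^ (p ^ N) = 1 := by
    apply Groth.Agent.NeronElem.eq_of_map_eq R U U
    simp only [genericFibre, map_pow', map_one', CategoryTheory.Functor.map_id]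
    exact hN
  have hne : ℓ ≠ p := by
    rintro rfl
    have h0 : (ℓ : R) = 0 := by
      apply IsFractionRing.injective R (FractionRing R)
      rw [map_natCast, map_zero, CharP.cast_eq_zero]
    exact hℓu.ne_zero h0
  have hco : (p ^ N).Coprime ℓ := Nat.Coprime.pow_left N ((Nat.coprime_primes hp hℓ).2 hne.symm)
  obtain ⟨a, -, ha⟩ := Nat.exists_mul_mod_eq_of_coprime 1 hco.symm (pow_ne_zero N hp.ne_zero)
  have key : ((𝟙 U : U ⟶ U) ^ ℓ) ^ a = 𝟙 U := by
    rw [← pow_mul, pow_eq_pow_mod (ℓ * a) hU, ha, ← pow_eq_pow_mod 1 hU, _root_.pow_one]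
  exact isIso_pow_of _ ℓ a key

end Groth.Agent.S17688
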