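import Groth.Statements.S17689
import Mathlib.AlgebraicGeometry.Morphisms.UniversallyInjective
import Mathlib.AlgebraicGeometry.Morphisms.Finite
import Mathlib.FieldTheory.PurelyInseparable.Basic
import Mathlib.RingTheory.DiscreteValuationRing.Basic
import Mathlib.RingTheory.IntegralClosure.IntegrallyClosed
import Mathlib.Algebra.CharP.Frobenius
import Mathlib.RingTheory.Polynomial.RationalRoot

set_option autoImplicit false
universe u
open CategoryTheory AlgebraicGeometry
open Neron

namespace Groth.Agent.S17689

/-- Let R ⊆ S be a finite extension of discrete valuation rings (the structure map R → S is injective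
and S is a finite R-module) such that the induced extension K ⊆ L of fraction fields is purely
inseparable. Then the morphism Spec S → Spec R is a universal homeomorphism: every base change of it
is a homeomorphism on underlying spaces. (No excellence hypothesis is needed here.) -/
theorem result
    (R S K L : Type u) [CommRing R] [IsDomain R] [IsDiscreteValuationRing R]
    [CommRing S] [IsDomain S] [IsDiscreteValuationRing S] [Algebra R S] [Module.Finite R S] [FaithfulSMul R S]
    [Field K] [Field L] [Algebra R K] [IsFractionRing R K] [Algebra S L] [IsFractionRing S L]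
    [Algebra K L] [Algebra R L] [IsScalarTower R S L] [IsScalarTower R K L] [IsPurelyInseparable K L] :
    FlatMor.IsUnivHomeo (Spec.map (CommRingCat.ofHom (algebraMap R S))) := by
  haveI : Algebra.IsIntegral R S := inferInstance
  have hinjS : Function.Injective (algebraMap R S) := FaithfulSMul.algebraMap_injective R S
  haveI : IsFinite (Spec.map (CommRingCat.ofHom (algebraMap R S))) :=
    (IsFinite.SpecMap_iff _).2 (RingHom.finite_algebraMap.2 inferInstance)
  haveI : Surjective (Spec.map (CommRingCat.ofHom (algebraMap R S))) :=
    ⟨(algebraMap_isIntegral_iff.2 ‹Algebra.IsIntegral R S›).comap_surjective hinjS⟩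
  let q := ringExpChar K
  have hpow : ∀ x : S, ∃ (n : ℕ) (r : R), algebraMap R S r = x ^ q ^ n := fun x => by
    obtain ⟨n, y, hy⟩ := IsPurelyInseparable.pow_mem K q (algebraMap S L x)
    have hyi : IsIntegral R y := by
      rw [← isIntegral_algHom_iff (IsScalarTower.toAlgHom R K L) (algebraMap K L).injective]
      rw [IsScalarTower.coe_toAlgHom', hy]
      exact (IsIntegral.algebraMap (Algebra.IsIntegral.isIntegral x)).pow _
    obtain ⟨r, hr⟩ := IsIntegrallyClosed.isIntegral_iff.1 hyi
    refine ⟨n, r, IsFractionRing.injective S L ?_⟩
    rw [← IsScalarTower.algebraMap_apply R S L, IsScalarTower.algebraMap_apply R K L, hr, hy, map_pow]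
  haveI : UniversallyInjective (Spec.map (CommRingCat.ofHom (algebraMap R S))) := by
    rw [(tfae_universallyInjective _).out 0 1 (a := UniversallyInjective _)]
    intro Ω hΩ a b hab
    letI := hΩ
    obtain ⟨φ, rfl⟩ := Spec.map_surjective a
    obtain ⟨ψ, rfl⟩ := Spec.map_surjective b
    simp only [← Spec.map_comp] at hab
    have hab' := Spec.map_injective hab
    congr 1
    ext x
    obtain ⟨n, r, hr⟩ := hpow x
    have e : φ.hom x ^ q ^ n = ψ.hom x ^ q ^ n := by
      rw [← map_pow, ← map_pow, ← hr]
      exact congr($(hab').hom r)
    rcases expChar_is_prime_or_one K q with hq | hq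
    · haveI : Fact q.Prime := ⟨hq⟩
      haveI : CharP K q := by
        have hqc : ringChar K = q := by
          have h1 : q = max (ringChar K) 1 := rfl
          rcases le_total (ringChar K) 1 with hle | hle
          · rw [max_eq_right hle] at h1; exact absurd h1 hq.ne_one
          · rw [max_eq_left hle] at h1; exact h1.symm
        exact hqc ▸ ringChar.charP K
      haveI : CharP R q := RingHom.charP _ (IsFractionRing.injective R K) q
      haveI : CharP Ω q := by
        let f : R →+* Ω := φ.hom.comp (algebraMap R S)
        haveI : CharP Ω (ringChar Ω) := ringChar.charP Ω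
        have h0 : (q : Ω) = 0 := by rw [← map_natCast f, CharP.cast_eq_zero, map_zero]
        exact CharP.ringChar_of_prime_eq_zero hq h0 ▸ ringChar.charP Ω
      exact iterateFrobenius_inj Ω q n (by simpa [iterateFrobenius_def] using e)
    · simpa [hq] using e
  intro X' Y' i₁ i₂ f' h
  haveI : IsFinite f' := MorphismProperty.of_isPullback h.flip ‹_›
  haveI : Surjective f' := MorphismProperty.of_isPullback h.flip ‹_›
  haveI : UniversallyInjective f' := MorphismProperty.of_isPullback h.flip ‹_›
  show IsHomeomorph f'.base
  refine ⟨f'.continuous, fun U hU => ?_, f'.injective, f'.surjective⟩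
  rw [← compl_compl U, Set.image_compl_eq ⟨f'.injective, f'.surjective⟩]
  exact (f'.isClosedMap _ hU.isClosed_compl).isOpen_compl

end Groth.Agent.S17689
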