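import Groth.Statements.S17690
import Groth.Agent.Lib.GRing6.DimOne
import Groth.Agent.Lib.GRing6.HensExc
import Groth.Agent.Lib.FlatDepth.RegNormal

set_option autoImplicit false
universe u
open Neron

namespace Groth.Agent.S17690

/-- Let R be an excellent discrete valuation ring (Noetherian, universally catenary, G-ring, J-2) with
fraction field K, and let L be a finite purely inseparable field extension of K. Then the integral
closure S of R in L is a discrete valuation ring, and S is a finite R-module. -/
theorem result
    (R K L : Type u) [CommRing R] [IsDomain R] [IsDiscreteValuationRing R] (hR : EGA4.IsExcellent R)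
    [Field K] [Algebra R K] [IsFractionRing R K] [Field L] [Algebra K L] [FiniteDimensional K L]
    [IsPurelyInseparable K L] [Algebra R L] [IsScalarTower R K L] :
    IsDiscreteValuationRing ↥(integralClosure R L) ∧ Module.Finite R ↥(integralClosure R L) := by
  haveI := CplLocH7.faithfullyFlat_cpl R
  haveI := CplLocH7.isNoetherianRing_cpl R
  have hreg : CAlg.IsRegularHom R (EGA4.Cpl R) := GRing6.regularProp.hom_cpl_of_gAll R hR.2.2.1.2
  have hN : CAlg.IsN2 R := GRing6.isN2_of_local_domain R ⟨inferInstance, fun p _ => FlatDepth.geomReduced_of_geomRegular (hreg.2 p).2⟩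
  haveI : FaithfulSMul R L := (faithfulSMul_iff_algebraMap_injective _ _).2 (by
    rw [IsScalarTower.algebraMap_eq R K L]; exact (algebraMap K L).injective.comp (IsFractionRing.injective R K))
  let eK : FractionRing R ≃ₐ[R] K := FractionRing.algEquiv R K
  letI : Algebra (FractionRing R) K := eK.toAlgHom.toRingHom.toAlgebra
  haveI : IsScalarTower R (FractionRing R) K := .of_algebraMap_eq fun r => (eK.commutes r).symm
  haveI : Module.Finite (FractionRing R) K := Module.Finite.of_surjective (Algebra.linearMap _ _) eK.surjective
  letI : Algebra (FractionRing R) L := ((algebraMap K L).comp (algebraMap (FractionRing R) K)).toAlgebra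
  haveI : IsScalarTower (FractionRing R) K L := .of_algebraMap_eq fun _ => rfl
  haveI : IsScalarTower R (FractionRing R) L := .of_algebraMap_eq fun r => by
    rw [IsScalarTower.algebraMap_apply R K L, IsScalarTower.algebraMap_apply R (FractionRing R) K]; rfl
  haveI : Module.Finite (FractionRing R) L := Module.Finite.trans K L
  haveI hfin : Module.Finite R (integralClosure R L) := hN L inferInstance
  refine ⟨?_, hfin⟩
  let S := integralClosure R L
  haveI : IsNoetherianRing S := IsNoetherianRing.of_finite R S
  haveI : IsFractionRing S L := IsIntegralClosure.isFractionRing_of_finite_extension R K L S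
  haveI : IsIntegrallyClosed S := integralClosure.isIntegrallyClosedOfFiniteExtension K
  haveI : FaithfulSMul R S := (faithfulSMul_iff_algebraMap_injective _ _).2 fun a b h =>
    FaithfulSMul.algebraMap_injective R L (congrArg Subtype.val h)
  haveI : Algebra.IsIntegral R S := Algebra.IsIntegral.of_finite R S
  haveI : Ring.DimensionLEOne S := Ring.DimensionLEOne.integralClosure R L
  haveI : IsDedekindDomain S := {}
  obtain ⟨q, _⟩ := ExpChar.exists K
  have key : ∀ (M M' : Ideal S), M.IsMaximal → M'.IsMaximal → M ≤ M' := by
    intro M M' hM hM' x hx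
    obtain ⟨n, y, hy⟩ := IsPurelyInseparable.pow_mem K q (x : L)
    have hyint : IsIntegral R y := (isIntegral_algebraMap_iff (algebraMap K L).injective).1 (hy ▸ x.2.pow _)
    obtain ⟨r, hr⟩ := IsIntegrallyClosed.isIntegral_iff.1 hyint
    have hxr : x ^ q ^ n = algebraMap R S r := Subtype.ext (by
      show (x : L) ^ q ^ n = algebraMap R L r
      rw [← hy, ← hr, ← IsScalarTower.algebraMap_apply])
    have h1 : ∀ (N : Ideal S), N.IsMaximal → N.comap (algebraMap R S) = IsLocalRing.maximalIdeal R := fun N hN =>
      IsLocalRing.eq_maximalIdeal (Ideal.isMaximal_comap_of_isIntegral_of_isMaximal (R := R) N)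
    refine hM'.isPrime.mem_of_pow_mem (q ^ n) ?_
    rw [hxr, ← Ideal.mem_comap, h1 M' hM', ← h1 M hM, Ideal.mem_comap, ← hxr]
    exact M.pow_mem_of_mem hx _ (pow_pos (expChar_pos K q) n)
  obtain ⟨M, hM⟩ := Ideal.exists_maximal S
  haveI : IsLocalRing S := IsLocalRing.of_unique_max_ideal ⟨M, hM, fun M' hM' => le_antisymm (key M' M hM' hM) (key M M' hM hM')⟩
  have hnf : ¬ IsField S := fun h => IsDiscreteValuationRing.not_isField R (isField_of_isIntegral_of_isField (FaithfulSMul.algebraMap_injective R S) h)
  exact ((IsDiscreteValuationRing.TFAE S hnf).out 0 2).2 (inferInstance : IsDedekindDomain S)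

end Groth.Agent.S17690
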