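import Groth.Statements.S17692
import Groth.Agent.Lib.WeilExist.Basic

set_option autoImplicit false
set_option backward.isDefEq.respectTransparency.types false
universe u
open CategoryTheory CategoryTheory.Limits AlgebraicGeometry
open WeilRes

namespace Groth.Agent.S17692

/-- Suppose f : S' → S is a finite, locally free morphism of schemes (i.e. finite, flat and locally of
finite presentation) that is also a universal homeomorphism, and let X' be an arbitrary scheme over
S' (no condition on finite sets of points lying in a common affine open). Then the Weil restriction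
of X' along f is representable by an S-scheme: there exist an S-scheme R and an S'-morphism q from
the base change R ×_S S' to X' such that, for every S-scheme T, sending an S-morphism g : T → R to
(g ×_S S') followed by q is a bijection onto the S'-morphisms T ×_S S' → X'. (The published
statement writes X' as a scheme over S; the proof treats an S'-scheme, as here.) -/
theorem result
    {S S' : Scheme.{u}} (f : S' ⟶ S) [IsFinite f] [Flat f] [LocallyOfFinitePresentation f]
    (hf : FlatMor.IsUnivHomeo f) (X' : Over S') :
    ∃ (R : Over S) (q : Red.bc f R ⟶ X'), WeilRes.IsWeilRes f X' R q := by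
  refine Groth.Agent.WeilExist.exists_isWeilRes f X' fun T z t => ?_
  have hf' : ∀ {A B : Scheme.{u}} {a : A ⟶ B} {i₁ : A ⟶ S'} {i₂ : B ⟶ S},
      IsPullback a i₁ i₂ f → IsHomeomorph a := fun h => hf _ _ _ h
  obtain ⟨p₀, hp₀⟩ := (hf' (IsPullback.of_hasPullback T.hom f)).bijective.2 t
  obtain ⟨V, hV, hsV, -⟩ := exists_isAffineOpen_mem_and_subset (X := S) (x := T.hom t) (U := ⊤) trivial
  have hmem : f (X'.hom (z.left p₀)) ∈ V := by
    have h1 : X'.hom (z.left p₀) = pullback.snd T.hom f p₀ := congr($(Over.w z) p₀)
    have h2 : T.hom (pullback.fst T.hom f p₀) = f (pullback.snd T.hom f p₀) :=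
      congr($(pullback.condition (f := T.hom) (g := f)) p₀)
    rw [h1, ← h2]
    exact (congrArg T.hom hp₀).symm ▸ hsV
  obtain ⟨U, hU, hxU, hUV⟩ := exists_isAffineOpen_mem_and_subset (X := X'.left)
    (x := z.left p₀) (U := (X'.hom ≫ f) ⁻¹ᵁ V) hmem
  refine ⟨V, U, hV, hU, hsV, fun x hx => hUV hx, fun p hp => ?_⟩
  rw [(hf' (IsPullback.of_hasPullback T.hom f)).bijective.1 (hp.trans hp₀.symm)]
  exact hxU

end Groth.Agent.S17692
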