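import Groth.Statements.S17694
import Groth.Agent.Lib.GmAV19.Basic
import Groth.Agent.Lib.GlueClosed13.Basic
import Groth.Agent.Lib.SGA7Torsion.Infinitesimal
import Groth.Agent.Lib.TorPts21.BaseChangeTorus
import Groth.Agent.Lib.MTRigid29.CentralSubDesc

set_option autoImplicit false
universe u
open CategoryTheory CategoryTheory.Limits AlgebraicGeometry MonObj
open WeilRes

namespace Groth.Agent.S17694

open MonoidalCategory CartesianMonoidalCategory Groth.Agent.AlgGrpBasic19 Groth.Agent.DiagGL

set_option linter.style.haveILetI false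
set_option backward.isDefEq.respectTransparency.types false

/-- A homomorphism to a base change remains one after splitting the base change. -/
theorem isMonHom_reassoc {S S' S'' : Scheme.{u}} (ψ : S' ⟶ S) (y : S'' ⟶ S') (X : Over S) [GrpObj X]
    {G : Over S''} [GrpObj G] (φ : G ⟶ Red.bc (y ≫ ψ) X) [IsMonHom φ] :
    IsMonHom (MultAct19.reassocPt ψ y X φ) := by
  have h1 : MultAct19.reassocPt ψ y X (1 : 𝟙_ (Over S'') ⟶ Red.bc (y ≫ ψ) X) = 1 := by
    have h := MultAct19.reassocPt_mul ψ y X (1 : 𝟙_ (Over S'') ⟶ Red.bc (y ≫ ψ) X) 1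
    rw [_root_.one_mul] at h
    exact mul_eq_left.1 h.symm
  refine ⟨?_, ?_⟩
  · rw [← MultAct19.reassocPt_comp, IsMonHom.one_hom, one_eq_one, h1, ← one_eq_one]
  · rw [← MultAct19.reassocPt_comp, IsMonHom.mul_hom, ← lift_fst_comp_snd_comp, ← Hom.mul_def,
      MultAct19.reassocPt_mul, MultAct19.reassocPt_comp, MultAct19.reassocPt_comp, Hom.mul_def,
      lift_fst_comp_snd_comp]

/-- Let κ be a field, B a finite κ-algebra and E an abelian scheme over B, that is a proper smooth
B-group scheme whose geometric fibres are connected. Let R be a κ-group scheme which, with the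
homomorphism q : R ×_κ Spec B → E, is the Weil restriction of E along Spec B → Spec κ. Then the
maximal torus of R is trivial; precisely, as the proof establishes, for every algebraically closed
field Ω over κ every homomorphism of Ω-group schemes from the multiplicative group over Ω to the
base change of R to Ω is trivial. -/
theorem result
    (κ B : Type u) [Field κ] [CommRing B] [Algebra κ B] [Module.Finite κ B]
    (E : Over (Spec (CommRingCat.of B))) [GrpObj E] [IsProper E.hom] [Smooth E.hom]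
    (hEc : ∀ (Ω' : Type u) [Field Ω'] (t : Spec (CommRingCat.of Ω') ⟶ Spec (CommRingCat.of B)),
      ConnectedSpace ↥(pullback E.hom t))
    (R : Over (Spec (CommRingCat.of κ))) [GrpObj R]
    (q : Red.bc (Spec.map (CommRingCat.ofHom (algebraMap κ B))) R ⟶ E) [IsMonHom q]
    (hR : WeilRes.IsWeilRes (Spec.map (CommRingCat.ofHom (algebraMap κ B))) E R q)
    (Ω : Type u) [Field Ω] [IsAlgClosed Ω] [Algebra κ Ω]
    (φ : Red.Gm (Spec (CommRingCat.of Ω)) ⟶ Red.bc (Spec.map (CommRingCat.ofHom (algebraMap κ Ω))) R)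
    [IsMonHom φ] :
    φ = 1 := by
  classical
  haveI : IsSeparated (Red.bc (Spec.map (CommRingCat.ofHom (algebraMap κ Ω))) R).hom :=
    AbRigid.isSeparated_of_grpObj _
  haveI := GmAV19.isReduced_gm (K := Ω)
  haveI : IsSeparated (Red.Gm (Spec (CommRingCat.of Ω))).hom := AbRigid.isSeparated_of_grpObj _
  have hlft : LocallyOfFiniteType (Red.Gm (Spec (CommRingCat.of Ω))).hom := by
    obtain ⟨g, _, -⟩ := BddFin29.exists_coord_gm (K := Ω)
    haveI : LocallyOfFiniteType (BddFin29.sp Ω (BddFin29.Lz Ω)).hom := by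
      refine (HasRingHomProperty.Spec_iff (P := @LocallyOfFiniteType)).2 ?_
      exact RingHom.finiteType_algebraMap.2 inferInstance
    haveI : IsIso (inv g).left := inferInstanceAs (IsIso ((Over.forget _).map (inv g)))
    rw [← Over.w (inv g)]
    infer_instance
  -- it is enough to treat torsion points
  suffices key : ∀ (c : Ωˣ) (n : ℕ), (n : Ω) ≠ 0 → c ^ n = 1 → GmAV19.pt c ≫ φ = 1 by
    ext1
    refine ext_of_fromSpecResidueField_eq _ _ (Red.bc _ R).hom _ (GmAV19.dense_torsion (K := Ω)) ?_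
      ((Over.w φ).trans (Over.w (1 : Red.Gm _ ⟶ Red.bc _ R)).symm)
    rintro x ⟨c, ⟨n, hn, hcn⟩, rfl⟩
    have hcl : IsClosed ({(GmAV19.pt c).left (IsLocalRing.closedPoint Ω)} : Set _) :=
      AbRigid.isClosed_image_point (Z := Red.Gm (Spec (CommRingCat.of Ω))) (GmAV19.pt c)
    have hp : (GmAV19.pt c).left = pointOfClosedPoint (Red.Gm (Spec (CommRingCat.of Ω))).hom _ hcl :=
      ext_of_apply_closedPoint_eq (Red.Gm (Spec (CommRingCat.of Ω))).hom (Over.w (GmAV19.pt c))
        (pointOfClosedPoint_comp _ _ _) (pointOfClosedPoint_apply _ _ _ _).symm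
    have h := congrArg (fun a => a.left) ((key c n hn hcn).trans (MonObj.comp_one (GmAV19.pt c)).symm)
    simp only [Over.comp_left, hp, pointOfClosedPoint, Category.assoc] at h
    exact (cancel_epi _).1 h
  intro c n hn hcn
  let σ := Spec.map (CommRingCat.ofHom (algebraMap κ Ω))
  let τ := Spec.map (CommRingCat.ofHom (algebraMap κ B))
  let T := (Over.map σ).obj (𝟙_ (Over (Spec (CommRingCat.of Ω))))
  let d := GmAV19.pt c ≫ φ
  have hdn : d ^ n = 1 := by
    show (GmAV19.pt c ≫ φ) ^ n = 1
    rw [← MonObj.pow_comp, ← GmAV19.pt_pow, hcn, GmAV19.pt_one, MonObj.one_comp]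
  let g : T ⟶ R := fl σ R d
  have hgn : g ^ n = 1 := by
    have : ∀ m : ℕ, g ^ m = fl σ R (d ^ m) := by
      intro m
      induction m with
      | zero => rw [pow_zero, pow_zero, MTRigid29.fl_one]
      | succ m ih => rw [pow_succ, pow_succ, fl_mul, ih]
    rw [this, hdn, MTRigid29.fl_one]
  let x := WeilRes.restr τ q T g
  have hxn : x ^ n = 1 := by
    have : ∀ m : ℕ, x ^ m = WeilRes.restr τ q T (g ^ m) := by
      intro m
      induction m with
      | zero => rw [pow_zero, pow_zero, WeilRes.restr_one]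
      | succ m ih => rw [pow_succ, pow_succ, WeilRes.restr_mul, ih]
    rw [this, hgn, WeilRes.restr_one]
  suffices hx : x = 1 by
    have hg : g = 1 := (hR T).1 (hx.trans (WeilRes.restr_one τ q T).symm)
    exact fl_injective σ R (hg.trans (MTRigid29.fl_one σ).symm)
  -- the fibre product is finite over the algebraically closed field
  let P := (Red.bc τ T).left
  let a : P ⟶ Spec (CommRingCat.of Ω) := pullback.fst T.hom τ
  let b : P ⟶ Spec (CommRingCat.of B) := pullback.snd T.hom τ
  haveI : IsFinite τ := by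
    show IsFinite (Spec.map (CommRingCat.ofHom (algebraMap κ B)))
    rw [IsFinite.SpecMap_iff]
    exact RingHom.finite_algebraMap.2 inferInstance
  haveI : IsFinite a := MorphismProperty.pullback_fst T.hom τ ‹_›
  haveI : LocallyOfFiniteType a := inferInstance
  haveI : DiscreteTopology P := by
    refine isDiscrete_univ_iff.1 ?_
    have h := a.isDiscrete_preimage_singleton (IsLocalRing.closedPoint Ω)
    have hu : a ⁻¹' {(IsLocalRing.closedPoint Ω : Spec (CommRingCat.of Ω))} = Set.univ :=
      Set.eq_univ_of_forall fun _ => Subsingleton.elim (α := PrimeSpectrum Ω) _ _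
    exact hu ▸ h
  ext1
  refine GlueClosed13.hom_ext_of_stalks _ _ fun y => ?_
  let W := P.presheaf.stalk y
  let t : Spec W ⟶ Spec (CommRingCat.of B) := P.fromSpecStalk y ≫ b
  letI : Algebra B W := (Spec.preimage t).hom.toAlgebra
  have ht : Spec.map (CommRingCat.ofHom (algebraMap B W)) = t := Spec.map_preimage t
  let j : SGA7Torsion.specOver B W ⟶ Red.bc τ T := Over.homMk (P.fromSpecStalk y) ht.symm
  suffices hj : j ≫ x = 1 from congrArg (fun z => z.left) (hj.trans (MonObj.comp_one j).symm)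
  refine SGA7Torsion.eq_one_of_pow_eq_one E _ n ?_ (by rw [← MonObj.comp_pow, hxn, MonObj.comp_one]) ?_
  · have h := (isUnit_iff_ne_zero.2 hn).map (Spec.preimage (P.fromSpecStalk y ≫ a)).hom
    rwa [map_natCast] at h
  -- the reduction of the point
  have hyc : IsClosed ({y} : Set P) := isClosed_discrete _
  let u : Spec (CommRingCat.of Ω) ⟶ P := pointOfClosedPoint a y hyc
  have hua : u ≫ a = 𝟙 _ := pointOfClosedPoint_comp a y hyc
  let θ : Spec (CommRingCat.of Ω) ⟶ Spec (CommRingCat.of B) := u ≫ b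
  have hθ : θ ≫ τ = σ := by
    have hc : pullback.fst T.hom τ ≫ T.hom = pullback.snd T.hom τ ≫ τ := pullback.condition
    show (u ≫ pullback.snd T.hom τ) ≫ τ = σ
    rw [Category.assoc, ← hc, ← Category.assoc]
    show (u ≫ a) ≫ 𝟙 _ ≫ σ = σ
    rw [hua, Category.id_comp, Category.id_comp]
  suffices hu : u ≫ x.left = u ≫ (1 : Red.bc τ T ⟶ E).left by
    rw [← Category.assoc]
    refine (congrArg (_ ≫ ·) (rfl : x = x)).trans (Over.OverMorphism.ext ?_)
    simp only [u, pointOfClosedPoint, Category.assoc] at hu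
    have h2 := (cancel_epi _).1 hu
    refine Eq.trans ?_ (congrArg (fun z => z.left) (MonObj.comp_one
      (SGA7Torsion.specHom (Ideal.Quotient.mkₐ B (IsLocalRing.maximalIdeal W)) ≫ j)))
    simp only [Over.comp_left, Category.assoc]
    exact (Category.assoc _ _ _).symm.trans (h2.trans (Category.assoc _ _ _))
  clear_value u
  obtain ⟨φ', hφ', hd'⟩ : ∃ (φ' : Red.Gm (Spec (CommRingCat.of Ω)) ⟶ Red.bc (θ ≫ τ) R),
      IsMonHom φ' ∧ ∀ z : 𝟙_ (Over (Spec (CommRingCat.of Ω))) ⟶ Red.Gm (Spec (CommRingCat.of Ω)),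
        (fl (θ ≫ τ) R (z ≫ φ')).left = (fl σ R (z ≫ φ)).left := by
    rw [hθ]
    exact ⟨φ, inferInstance, fun z => rfl⟩
  haveI := isMonHom_reassoc τ θ R φ'
  haveI : IsProper (Red.bc θ E).hom := inferInstanceAs (IsProper (pullback.snd E.hom θ))
  have hψ := GmAV19.eq_one_of_proper (Red.bc θ E)
    (MultAct19.reassocPt τ θ R φ' ≫ (Over.pullback θ).map q)
  have hz := congrArg (fun z => GmAV19.pt c ≫ z) hψ
  simp only [MonObj.comp_one, ← Category.assoc, ← MultAct19.reassocPt_comp] at hz
  have hz' := congrArg (fl θ E) hz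
  rw [TorPts21.fl_comp_map, MTRigid29.fl_one] at hz'
  let w : (Over.map θ).obj (𝟙_ (Over (Spec (CommRingCat.of Ω)))) ⟶ Red.bc τ T :=
    Over.homMk u (by
      show u ≫ b = 𝟙 _ ≫ θ
      rw [Category.id_comp])
  have hw : w ≫ (Over.pullback τ).map g = fl θ (Red.bc τ R) (MultAct19.reassocPt τ θ R (GmAV19.pt c ≫ φ')) := by
    refine fl_injective τ R ?_
    rw [MultAct19.fl_reassocPt, TorPts21.fl_comp_map]
    refine Over.OverMorphism.ext ?_
    rw [Over.comp_left, Over.comp_left, hd', MTRigid29.fl_left]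
    show (u ≫ pullback.fst T.hom τ) ≫ g.left = 𝟙 _ ≫ g.left
    rw [hua]
    rfl
  have hfin : w ≫ x = 1 := by
    show w ≫ (Over.pullback τ).map g ≫ q = 1
    rw [← Category.assoc, hw, hz']
  exact congrArg (fun z => z.left) (hfin.trans (MonObj.comp_one w).symm)

end Groth.Agent.S17694
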