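import Groth.Statements.S17697
import Groth.Agent.Lib.SemiNhd19.Pseudo
-- import your own Groth.Agent.* helpers here

set_option autoImplicit false
universe u
open CategoryTheory CategoryTheory.Limits MonoidalCategory CartesianMonoidalCategory AlgebraicGeometry MonObj
open Neron

namespace Groth.Agent.S17697

set_option linter.style.haveILetI false
set_option backward.isDefEq.respectTransparency.types false


/-- Let R be an excellent discrete valuation ring of equal characteristic p > 0 with fraction field K, P
a pseudo-abelian variety over K, that is a smooth connected commutative K-group scheme of finite
type all of whose smooth connected affine closed subgroup schemes are trivial (unit section an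
isomorphism), given together with an exact sequence of K-group schemes 0 → E → P → V → 0 in which E
is an abelian variety, embedded as a closed subgroup and equal to the kernel of the surjective
homomorphism P → V, and V is smooth, connected, affine and unipotent (no non-trivial subtorus over
an algebraic closure of K), and P' a smooth separated R-group scheme with an isomorphism of K-group
schemes from its generic fibre onto P (a smooth separated model of P) such that the identity
component of the special fibre of P' is semiabelian, rendered as: the geometric special fibre of P'
admits no closed subgroup scheme isomorphic to the additive group. Then P is proper over K, so an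
abelian variety (equivalently V is trivial and E → P an isomorphism), and P has semiabelian
reduction over R. (The published statement does not mention E and V: every pseudo-abelian variety
admits such a sequence, with E its maximal abelian subvariety, by a structure result that the
published proof takes from the literature without proof, so the sequence is carried here as data.) -/
theorem result
    (R K : Type u) [CommRing R] [IsDomain R] [IsDiscreteValuationRing R] (hR : EGA4.IsExcellent R)
    (p : ℕ) (hp : p.Prime) [CharP R p] [Field K] [Algebra R K] [IsFractionRing R K]
    (P : Over (Spec (CommRingCat.of K))) [GrpObj P] [IsCommMonObj P]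
    [Smooth P.hom] [LocallyOfFiniteType P.hom] [QuasiCompact P.hom] [ConnectedSpace ↥P.left]
    (hP : ∀ (H : Over (Spec (CommRingCat.of K))) [GrpObj H] (j : H ⟶ P) [IsMonHom j],
      IsClosedImmersion j.left → Smooth H.hom → ConnectedSpace ↥H.left → IsAffine H.left → IsIso η[H])
    (E V : Over (Spec (CommRingCat.of K))) [GrpObj E] [GrpObj V]
    [IsProper E.hom] [GeometricallyIntegral E.hom]
    (jE : E ⟶ P) [IsMonHom jE] (πV : P ⟶ V) [IsMonHom πV]
    (hjE : IsClosedImmersion jE.left) (hker : AlgGrp.IsKernel jE πV) (hπV : Surjective πV.left)
    [Smooth V.hom] [ConnectedSpace ↥V.left] [IsAffine V.left]
    (hV : Red.HasNoSubtorus (AlgebraicClosure K) (Red.bc (Spec.map (CommRingCat.ofHom (algebraMap K (AlgebraicClosure K)))) V))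
    (P' : Over (Spec (CommRingCat.of R))) [GrpObj P'] [Smooth P'.hom] [IsSeparated P'.hom]
    (e : Red.bc (Spec.map (CommRingCat.ofHom (algebraMap R K))) P' ≅ P) [IsMonHom e.hom]
    (h0 : SGA7.FibreUnipotentRankZero (IsLocalRing.closedPoint R) P') :
    IsProper P.hom ∧ SGA7.HasSemistableReduction R K P := by
  obtain ⟨hPp, G, _, i, w, hw, -, -, -, hs, hsep, hq, -, hfib⟩ :=
    SemiNhd19.pseudoAbelian_main hp P E V jE πV hjE hker hπV hV P' e h0
  exact ⟨hPp, G, inferInstance, w, hw, hs, hsep, hq, hfib⟩

end Groth.Agent.S17697
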