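import Groth.Statements.S17703
import Groth.Agent.Lib.GRing6.Dedekind
import Groth.Agent.Lib.GRing6.HensExc
import Groth.Agent.Lib.GRing6.FormalFibreDomains
import Groth.Agent.Lib.FlatDepth.RegNormal

set_option autoImplicit false
universe u
open Neron

namespace Groth.Agent.S17703

open IsLocalRing TensorProduct in
theorem isField_generic (R : Type u) [CommRing R] [IsDomain R] [IsDiscreteValuationRing R] :
    IsField ((⊥ : Ideal R).Fiber (EGA4.Cpl R)) := by
  haveI := CplLocH7.faithfullyFlat_cpl R
  let C := EGA4.Cpl R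
  haveI : IsRegularLocalRing C := (Compl.isRegularLocalRing_adicCompletion_iff R).1 inferInstance
  haveI := RegLoc.isDomain C
  obtain ⟨ϖ, hϖ⟩ := IsDiscreteValuationRing.exists_irreducible R
  let t : C := algebraMap R C ϖ
  have ht0 : t ≠ 0 := fun h => hϖ.ne_zero (FaithfulSMul.algebraMap_injective R C (h.trans (map_zero _).symm))
  have hm : maximalIdeal C = Ideal.span {t} := by
    refine (CplLocH7.maximalIdeal_cpl R).trans ?_
    show (maximalIdeal R).map (algebraMap R C) = _
    exact ((congrArg (Ideal.map (algebraMap R C)) hϖ.maximalIdeal_eq).trans (Ideal.map_span _ _)).trans (by rw [Set.image_singleton])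
  have hnf : ¬ IsField C := fun h => ht0 (by
    rw [isField_iff_maximalIdeal_eq.1 h, eq_comm, Ideal.span_singleton_eq_bot] at hm
    exact hm)
  haveI : IsDiscreteValuationRing C :=
    ((IsDiscreteValuationRing.TFAE C hnf).out 0 4).2 (⟨⟨t, hm⟩⟩ : (maximalIdeal C).IsPrincipal)
  have hti : Irreducible t := (IsDiscreteValuationRing.irreducible_iff_uniformizer t).2 hm
  let K := (⊥ : Ideal R).ResidueField
  let L := C ⊗[R] K
  haveI : IsLocalization (Algebra.algebraMapSubmonoid C (nonZeroDivisors R)) L := by infer_instance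
  haveI : IsFractionRing C L := by
    refine ⟨fun y => ?_, fun z => ?_, fun {x y} h => ?_⟩
    · obtain ⟨n, u, hu⟩ := IsDiscreteValuationRing.eq_unit_mul_pow_irreducible (nonZeroDivisors.ne_zero y.2) hti
      rw [hu, map_mul, map_pow]
      exact (u.isUnit.map _).mul ((IsLocalization.map_units L
        (⟨t, ϖ, mem_nonZeroDivisors_of_ne_zero hϖ.ne_zero, rfl⟩ : Algebra.algebraMapSubmonoid C (nonZeroDivisors R))).pow n)
    · obtain ⟨⟨a, s⟩, hs⟩ := IsLocalization.surj (Algebra.algebraMapSubmonoid C (nonZeroDivisors R)) z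
      obtain ⟨r, hr, hrs⟩ := s.2
      exact ⟨⟨a, ⟨(s : C), mem_nonZeroDivisors_of_ne_zero fun h => nonZeroDivisors.ne_zero hr
        (FaithfulSMul.algebraMap_injective R C ((hrs.trans h).trans (map_zero _).symm))⟩⟩, hs⟩
    · obtain ⟨s, hs⟩ := (IsLocalization.eq_iff_exists (Algebra.algebraMapSubmonoid C (nonZeroDivisors R)) L).1 h
      obtain ⟨r, hr, hrs⟩ := s.2
      exact ⟨⟨(s : C), mem_nonZeroDivisors_of_ne_zero fun h => nonZeroDivisors.ne_zero hr
        (FaithfulSMul.algebraMap_injective R C ((hrs.trans h).trans (map_zero _).symm))⟩, hs⟩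
  exact MulEquiv.isField (IsFractionRing.toField C).toIsField
    (Algebra.TensorProduct.comm R K C).toRingEquiv.toMulEquiv


/-- Let R be a discrete valuation ring with fraction field K, R̂ its completion and K̂ = Frac R̂. Then R
is excellent (Noetherian, universally catenary, G-ring and J-2) if and only if K̂ is geometrically
reduced over K, i.e. K ⊆ K̂ is separable; here K̂ is written as the generic formal fibre κ(0) ⊗_R R̂
of R, which is R̂ with the uniformizer inverted. -/
theorem result
    (R : Type u) [CommRing R] [IsDomain R] [IsDiscreteValuationRing R] :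
    EGA4.IsExcellent R ↔
      Algebra.IsGeometricallyReduced (⊥ : Ideal R).ResidueField (EGA4.formalFibre R (⊥ : Ideal R)) := by
  haveI := CplLocH7.faithfullyFlat_cpl R
  constructor
  · intro h
    haveI := CplLocH7.isNoetherianRing_cpl R
    have hreg := ((GRing6.regularProp.hom_cpl_of_gAll R h.2.2.1.2 : CAlg.IsRegularHom R (EGA4.Cpl R)).2 (⊥ : Ideal R)).2
    haveI : IsNoetherianRing ((⊥ : Ideal R).Fiber (EGA4.Cpl R)) := FlatDepth.isNoetherianRing_fiber _
    exact FlatDepth.geomReduced_of_geomRegular hreg
  · intro h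
    haveI := CplLocH7.isNoetherianRing_cpl R
    have hhom : CAlg.IsRegularHom R (EGA4.Cpl R) := by
      refine ⟨inferInstance, fun p _ => ⟨FlatDepth.isNoetherianRing_fiber p, ?_⟩⟩
      rcases eq_or_ne p ⊥ with rfl | hp
      · letI := (isField_generic R).toField
        haveI : Algebra.IsGeometricallyReduced (⊥ : Ideal R).ResidueField ((⊥ : Ideal R).Fiber (EGA4.Cpl R)) := h
        exact FlatDepth.geomRegular_of_field
      · exact GRing6.geomRegular_closed_formalFibre R p (IsLocalRing.eq_maximalIdeal (Ideal.IsPrime.isMaximal ‹_› hp))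
    haveI : IsRegularRing R := inferInstance
    haveI := UCat.isCM_of_regular R
    exact ⟨inferInstance, UCat.isUniversallyCatenary_of_cm R, GRing6.isGRing_of_local R hhom,
      GRing6.isJ2_of_local_isGRing R hhom⟩

end Groth.Agent.S17703
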