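import Groth.Statements.S17714
import Groth.Agent.Lib.ToddH28.Basic

set_option autoImplicit false
open MoretBailly

namespace Groth.Agent.S17714

open Groth.Agent

/-- Let n ≥ 2 and d ≥ 1 be natural numbers with n congruent to 0 or 1 modulo 4, and s an integer with 2s
> n + d + 1. Write B(x) = x/(1 - e^(-x)) for the exponential generating series of the Bernoulli
numbers (B'_1 = 1/2). Then for all sufficiently large natural numbers p the coefficient of x^n in
B(-dx)^(-1) B(-dpx) B(x)^(n+1) e^((dp-d-n-1+s)x) is strictly negative. (The published statement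
asserts this for every n ≥ 2 not congruent to 2 modulo 4. For n congruent to 3 modulo 4 the
coefficient is a polynomial in p of degree n - 1 with leading coefficient (2s-d-n-1) B'_(n-1)
d^(n-1)/(2 (n-1)!) > 0, so it is eventually positive: for n = 3, d = 1, s = 3 it equals (p^2 -
1)/24. The residues 0 and 1 are exactly the ones the leading-term argument gives.) -/
theorem result (n d : ℕ) (s : ℤ) (hn : 2 ≤ n)
    (hmod : n % 4 = 0 ∨ n % 4 = 1) (hd : 1 ≤ d) (hs : (n : ℤ) + d + 1 < 2 * s) :
    ∃ P : ℕ, ∀ p : ℕ, P ≤ p →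
      PowerSeries.coeff n ((PowerSeries.rescale (-(d : ℚ)) (bernoulli'PowerSeries ℚ))⁻¹ * PowerSeries.rescale (-((d : ℚ) * p)) (bernoulli'PowerSeries ℚ) * bernoulli'PowerSeries ℚ ^ (n + 1) * PowerSeries.rescale ((d : ℚ) * p - d - n - 1 + s) (PowerSeries.exp ℚ)) < 0 := by
  classical
  simp only [ToddH28.coeff_eq]
  rcases hmod with h | h
  · refine ToddH28.eventually_neg _ ?_
    rw [Nat.sub_self, ToddH28.K_zero, one_mul]
    have hb := ToddH28.sign_bernoulli' (n / 2) (by omega) (n := n) (by omega)
    rw [Odd.neg_one_pow ⟨n / 4, by omega⟩] at hb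
    have hd' : (0 : ℚ) < (d : ℚ) ^ n := pow_pos (by exact_mod_cast hd) n
    exact div_neg_of_neg_of_pos (mul_neg_of_neg_of_pos (by linarith) hd') (by positivity)
  · obtain ⟨m, rfl⟩ : ∃ m, n = m + 1 := ⟨n - 1, by omega⟩
    have hz : bernoulli' (m + 1) = 0 := bernoulli'_eq_zero_of_odd ⟨m / 2, by omega⟩ (by omega)
    obtain ⟨P, hP⟩ := ToddH28.eventually_neg (m := m) (fun j => PowerSeries.coeff (m + 1 - j) (ToddH28.K (m + 1) d s) *
      (bernoulli' j * (d : ℚ) ^ j / (j.factorial : ℚ))) (by
        show PowerSeries.coeff (m + 1 - m) _ * _ < 0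
        rw [show m + 1 - m = 1 by omega, ToddH28.K_one]
        have hb := ToddH28.sign_bernoulli' (m / 2) (by omega) (n := m) (by omega)
        rw [Odd.neg_one_pow ⟨m / 4, by omega⟩] at hb
        have hd' : (0 : ℚ) < (d : ℚ) ^ m := pow_pos (by exact_mod_cast hd) m
        have hs' : ((m : ℚ) + 1) + d + 1 < 2 * s := by exact_mod_cast hs
        refine mul_neg_of_pos_of_neg ?_ (div_neg_of_neg_of_pos (mul_neg_of_neg_of_pos (by linarith) hd') (by positivity))
        push_cast
        linarith)
    refine ⟨P, fun p hp => ?_⟩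
    rw [Finset.sum_range_succ, hz]
    simpa using hP p hp

end Groth.Agent.S17714
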