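import Groth.Statements.S17715
import Mathlib.Tactic
import Mathlib.RingTheory.MvPolynomial.Basic
import Mathlib.RingTheory.Ideal.Quotient.Operations
import Mathlib.LinearAlgebra.Basis.Basic
import Mathlib.Data.Matrix.Mul
import Mathlib.NumberTheory.Bernoulli
import Mathlib.RingTheory.PowerSeries.Inverse
import Mathlib.RingTheory.AdicCompletion.Basic
import Mathlib.LinearAlgebra.Matrix.Charpoly.Coeff
import Mathlib.Algebra.Polynomial.Expand
import Mathlib.NumberTheory.Padics.PadicVal.Basic
import Mathlib.RingTheory.IntegralClosure.IsIntegralClosure.Basic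
import Mathlib.GroupTheory.Torsion
import Mathlib.Algebra.MonoidAlgebra.Basic
import Mathlib.RingTheory.Norm.Basic
import Mathlib.LinearAlgebra.Eigenspace.Zero
import Mathlib.RingTheory.LocalRing.ResidueField.Basic
import Mathlib.RingTheory.Artinian.Module
import Mathlib.FieldTheory.IsAlgClosed.Basic
import Mathlib.RingTheory.Ideal.AssociatedPrime.Basic
import Mathlib.RingTheory.Ideal.MinimalPrime.Noetherian
import Mathlib.RingTheory.RegularLocalRing.Defs
import Mathlib.RingTheory.Ideal.KrullsHeightTheorem
import Mathlib.RingTheory.Nakayama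

set_option autoImplicit false
open MoretBailly

namespace Groth.Agent.S17715

/-- Write B(x) = x/(1 - e^(-x)) for the exponential generating series of the Bernoulli numbers (B'_1 =
1/2). For all natural numbers d and p the coefficient of x^3 in B(-dx)^(-1) B(-dpx) B(x)^4
e^((dp-d-3)x), i.e. the case n = 3, s = 1 of the Todd-class integrand, equals
-d(d+2)(p-1)(dp-d-2)/24 = -(d^3+2d^2) p^2/24 + (d^3+3d^2+2d) p/12 - (d^3+4d^2+4d)/24. (The published
closed form has the same p^2 and p coefficients but constant term -(d^3+2d^2+2d)/24; direct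
expansion gives the value stated here, which vanishes at p = 1.) -/
theorem result (d p : ℕ) :
    PowerSeries.coeff 3 ((PowerSeries.rescale (-(d : ℚ)) (bernoulli'PowerSeries ℚ))⁻¹ * PowerSeries.rescale (-((d : ℚ) * p)) (bernoulli'PowerSeries ℚ) * bernoulli'PowerSeries ℚ ^ (4) * PowerSeries.rescale ((d : ℚ) * p - d - 3) (PowerSeries.exp ℚ)) =
      -((d : ℚ) * (d + 2) * (p - 1) * (d * p - d - 2)) / 24 := by
  have hB : ∀ n, PowerSeries.coeff n (bernoulli'PowerSeries ℚ) = bernoulli' n / n.factorial := fun n => by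
    simp [bernoulli'PowerSeries]
  have e0 : PowerSeries.constantCoeff (PowerSeries.rescale (-(d : ℚ)) (bernoulli'PowerSeries ℚ)) = 1 := by
    rw [← PowerSeries.coeff_zero_eq_constantCoeff_apply]; simp [PowerSeries.coeff_rescale, hB, bernoulli'_zero, -PowerSeries.coeff_zero_eq_constantCoeff]
  have hinv := PowerSeries.mul_inv_cancel (PowerSeries.rescale (-(d : ℚ)) (bernoulli'PowerSeries ℚ)) (by rw [e0]; exact one_ne_zero)
  set F := (PowerSeries.rescale (-(d : ℚ)) (bernoulli'PowerSeries ℚ))⁻¹
  have c0 := congrArg (PowerSeries.coeff 0) hinv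
  have c1 := congrArg (PowerSeries.coeff 1) hinv
  have c2 := congrArg (PowerSeries.coeff 2) hinv
  have c3 := congrArg (PowerSeries.coeff 3) hinv
  simp only [PowerSeries.coeff_mul, Finset.Nat.sum_antidiagonal_succ, Finset.Nat.antidiagonal_zero, Finset.sum_singleton, PowerSeries.coeff_rescale, hB, bernoulli'_zero, bernoulli'_one, bernoulli'_two, bernoulli'_three, PowerSeries.coeff_one] at c0 c1 c2 c3
  norm_num [Nat.factorial] at c0 c1 c2 c3
  simp only [pow_succ, pow_zero, one_mul, PowerSeries.coeff_mul, Finset.Nat.sum_antidiagonal_succ, Finset.Nat.antidiagonal_zero, Finset.sum_singleton, PowerSeries.coeff_rescale, hB, bernoulli'_zero, bernoulli'_one, bernoulli'_two, bernoulli'_three, PowerSeries.coeff_exp]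
  norm_num [Nat.factorial]
  have g1 : PowerSeries.coeff 1 F = (d:ℚ) / 2 := by linear_combination c1 + (d:ℚ) / 2 * c0
  rw [g1] at c2 c3
  have g2 : PowerSeries.coeff 2 F = (d:ℚ)^2 / 6 := by linear_combination c2 - (d:ℚ)^2/12 * c0
  rw [g2] at c3
  have g3 : PowerSeries.coeff 3 F = (d:ℚ)^3 / 24 := by linear_combination c3
  have g0 : PowerSeries.constantCoeff F = 1 := by simpa using c0
  simp only [g0, g1, g2, g3]
  ring

end Groth.Agent.S17715
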