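import Groth.Statements.S17717
import Mathlib.Tactic
import Mathlib.RingTheory.MvPolynomial.Basic
import Mathlib.RingTheory.Ideal.Quotient.Operations
import Mathlib.LinearAlgebra.Basis.Basic
import Mathlib.Data.Matrix.Mul
import Mathlib.NumberTheory.Bernoulli
import Mathlib.RingTheory.PowerSeries.Inverse
import Mathlib.RingTheory.AdicCompletion.Basic
import Mathlib.LinearAlgebra.Matrix.Charpoly.Coeff
import Mathlib.Algebra.Polynomial.Expand
import Mathlib.NumberTheory.Padics.PadicVal.Basic
import Mathlib.RingTheory.IntegralClosure.IsIntegralClosure.Basic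
import Mathlib.GroupTheory.Torsion
import Mathlib.Algebra.MonoidAlgebra.Basic
import Mathlib.RingTheory.Norm.Basic
import Mathlib.LinearAlgebra.Eigenspace.Zero
import Mathlib.RingTheory.LocalRing.ResidueField.Basic
import Mathlib.RingTheory.Artinian.Module
import Mathlib.FieldTheory.IsAlgClosed.Basic
import Mathlib.RingTheory.Ideal.AssociatedPrime.Basic
import Mathlib.RingTheory.Ideal.MinimalPrime.Noetherian
import Mathlib.RingTheory.RegularLocalRing.Defs
import Mathlib.RingTheory.Ideal.KrullsHeightTheorem
import Mathlib.RingTheory.Nakayama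

set_option autoImplicit false
open MoretBailly

namespace Groth.Agent.S17717

/-- Write B(x) = x/(1 - e^(-x)) for the exponential generating series of the Bernoulli numbers (B'_1 =
1/2). For all natural numbers d, p and every integer s the coefficient of x in B(-dx)^(-1) B(-dpx)
B(x)^2 e^((dp-d-2+s)x), i.e. the case n = 1 of the Todd-class integrand, equals d(p-1)/2 + s - 1. -/
theorem result (d p : ℕ) (s : ℤ) :
    PowerSeries.coeff 1 ((PowerSeries.rescale (-(d : ℚ)) (bernoulli'PowerSeries ℚ))⁻¹ * PowerSeries.rescale (-((d : ℚ) * p)) (bernoulli'PowerSeries ℚ) * bernoulli'PowerSeries ℚ ^ (2) * PowerSeries.rescale ((d : ℚ) * p - d - 2 + s) (PowerSeries.exp ℚ)) =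
      (d : ℚ) * (p - 1) / 2 + s - 1 := by
  have hB : ∀ n, PowerSeries.coeff n (bernoulli'PowerSeries ℚ) = bernoulli' n / n.factorial := fun n => by
    simp [bernoulli'PowerSeries]
  have e0 : PowerSeries.constantCoeff (PowerSeries.rescale (-(d : ℚ)) (bernoulli'PowerSeries ℚ)) = 1 := by
    rw [← PowerSeries.coeff_zero_eq_constantCoeff_apply]; simp [PowerSeries.coeff_rescale, hB, bernoulli'_zero, -PowerSeries.coeff_zero_eq_constantCoeff]
  have hinv := PowerSeries.mul_inv_cancel (PowerSeries.rescale (-(d : ℚ)) (bernoulli'PowerSeries ℚ)) (by rw [e0]; exact one_ne_zero)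
  set F := (PowerSeries.rescale (-(d : ℚ)) (bernoulli'PowerSeries ℚ))⁻¹
  have c0 := congrArg (PowerSeries.coeff 0) hinv
  have c1 := congrArg (PowerSeries.coeff 1) hinv
  simp only [PowerSeries.coeff_mul, Finset.Nat.sum_antidiagonal_succ, Finset.Nat.antidiagonal_zero, Finset.sum_singleton, PowerSeries.coeff_rescale, hB, bernoulli'_zero, bernoulli'_one, PowerSeries.coeff_one] at c0 c1
  norm_num at c0 c1
  simp only [pow_two, PowerSeries.coeff_mul, Finset.Nat.sum_antidiagonal_succ, Finset.Nat.antidiagonal_zero, Finset.sum_singleton, PowerSeries.coeff_rescale, hB, bernoulli'_zero, bernoulli'_one, PowerSeries.coeff_exp]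
  norm_num
  linear_combination c1 + ((d:ℚ) * (p:ℚ) / 2 + s - 1 - (d:ℚ)/2) * c0

end Groth.Agent.S17717
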