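import Groth.Statements.S17718
import Groth.Agent.Lib.ToddH28.Basic
import Groth.Agent.S17714

set_option autoImplicit false
open MoretBailly

namespace Groth.Agent.S17718

open Groth.Agent

/-- Let n ≥ 2 and d ≥ 1 be natural numbers with n not congruent to 2 modulo 4, and write B(x) = x/(1 -
e^(-x)) for the exponential generating series of the Bernoulli numbers (B'_1 = 1/2). Then there is
an integer s ≥ 1 such that for all sufficiently large natural numbers p the coefficient of x^n in
B(-dx)^(-1) B(-dpx) B(x)^(n+1) e^((dp-d-n-1+s)x) is strictly negative. (The published argument fixes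
any s with 2s > n + d + 1, which gives the sign only for n congruent to 0 or 1 modulo 4; for n
congruent to 3 modulo 4 the choice s = 1 makes the leading coefficient (2s-d-n-1) B'_(n-1)
d^(n-1)/(2 (n-1)!) negative instead.) -/
theorem result (n d : ℕ) (hn : 2 ≤ n)
    (hmod : n % 4 ≠ 2) (hd : 1 ≤ d) :
    ∃ s : ℤ, 1 ≤ s ∧ ∃ P : ℕ, ∀ p : ℕ, P ≤ p →
      PowerSeries.coeff n ((PowerSeries.rescale (-(d : ℚ)) (bernoulli'PowerSeries ℚ))⁻¹ * PowerSeries.rescale (-((d : ℚ) * p)) (bernoulli'PowerSeries ℚ) * bernoulli'PowerSeries ℚ ^ (n + 1) * PowerSeries.rescale ((d : ℚ) * p - d - n - 1 + s) (PowerSeries.exp ℚ)) < 0 := by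
  classical
  by_cases h : n % 4 = 3
  · refine ⟨1, le_rfl, ?_⟩
    simp only [ToddH28.coeff_eq]
    obtain ⟨m, rfl⟩ : ∃ m, n = m + 1 := ⟨n - 1, by omega⟩
    have hz : bernoulli' (m + 1) = 0 := bernoulli'_eq_zero_of_odd ⟨m / 2, by omega⟩ (by omega)
    obtain ⟨P, hP⟩ := ToddH28.eventually_neg (m := m) (fun j => PowerSeries.coeff (m + 1 - j) (ToddH28.K (m + 1) d 1) *
      (bernoulli' j * (d : ℚ) ^ j / (j.factorial : ℚ))) (by
        show PowerSeries.coeff (m + 1 - m) _ * _ < 0
        rw [show m + 1 - m = 1 by omega, ToddH28.K_one]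
        have hb := ToddH28.sign_bernoulli' (m / 2) (by omega) (n := m) (by omega)
        rw [Even.neg_one_pow ⟨(m / 2 + 1) / 2, by omega⟩, one_mul] at hb
        have hd' : (1 : ℚ) ≤ d := by exact_mod_cast hd
        have hm' : (1 : ℚ) ≤ m := by exact_mod_cast (by omega : 1 ≤ m)
        refine mul_neg_of_neg_of_pos ?_ (div_pos (mul_pos hb (pow_pos (by linarith) m)) (by positivity))
        push_cast
        linarith)
    refine ⟨P, fun p hp => ?_⟩
    rw [Finset.sum_range_succ, hz]
    simpa using hP p hp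
  · exact ⟨(n : ℤ) + d + 1, by omega,
      Groth.Agent.S17714.result n d ((n : ℤ) + d + 1) hn (by omega) hd (by omega)⟩

end Groth.Agent.S17718
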