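import Groth.Statements.S17720
import Mathlib

set_option autoImplicit false
universe u
open CAlg

namespace Groth.Agent.S17720
open MvPowerSeries IsLocalRing

variable {A : Type u} [CommRing A]

/-- The one-jet of a power series in two variables. -/
noncomputable def jet (β : A) : MvPowerSeries (Fin 2) A →+* TrivSqZeroExt (A ⧸ Ideal.span {β}) ((A ⧸ Ideal.span {β}) × (A ⧸ Ideal.span {β})) where
  toFun P := TrivSqZeroExt.inl (Ideal.Quotient.mk _ (constantCoeff P)) +
    TrivSqZeroExt.inr (Ideal.Quotient.mk _ (coeff (Finsupp.single 0 1) P), Ideal.Quotient.mk _ (coeff (Finsupp.single 1 1) P))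
  map_zero' := by
    refine TrivSqZeroExt.ext (by simp) ?_
    simp
  map_one' := by
    refine TrivSqZeroExt.ext (by simp) ?_
    simp [coeff_one]
  map_add' P Q := by
    refine TrivSqZeroExt.ext (by simp) ?_
    simp
  map_mul' P Q := by
    classical
    have h : ∀ i : Fin 2, coeff (Finsupp.single i 1) (P * Q) =
        constantCoeff P * coeff (Finsupp.single i 1) Q + coeff (Finsupp.single i 1) P * constantCoeff Q := by
      intro i
      rw [coeff_mul, Finsupp.antidiagonal_single, Finset.sum_map]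
      simp [Finset.Nat.sum_antidiagonal_succ, coeff_zero_eq_constantCoeff]
    refine TrivSqZeroExt.ext (by simp) ?_
    simp only [TrivSqZeroExt.snd_mul, TrivSqZeroExt.snd_add, TrivSqZeroExt.snd_inl, TrivSqZeroExt.snd_inr,
      TrivSqZeroExt.fst_add, TrivSqZeroExt.fst_inl, TrivSqZeroExt.fst_inr, zero_add, add_zero, h, map_add, map_mul,
      op_smul_eq_smul, Prod.smul_mk, smul_eq_mul, Prod.mk_add_mk]
    ext <;> ring

theorem jet_fst (β : A) (P : MvPowerSeries (Fin 2) A) : (jet β P).fst = Ideal.Quotient.mk _ (constantCoeff P) := by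
  simp [jet]

theorem jet_snd (β : A) (P : MvPowerSeries (Fin 2) A) : (jet β P).snd =
    (Ideal.Quotient.mk _ (coeff (Finsupp.single 0 1) P), Ideal.Quotient.mk _ (coeff (Finsupp.single 1 1) P)) := by
  simp [jet]

theorem mem_span_of_algEquiv [IsLocalRing A] (α β : A) (hα : α ∈ maximalIdeal A) (hβ : β ∈ maximalIdeal A)
    (φ : (MvPowerSeries (Fin 2) A ⧸ Ideal.span {(X 0 * X 1 - C α : MvPowerSeries (Fin 2) A)}) ≃ₐ[A] (MvPowerSeries (Fin 2) A ⧸ Ideal.span {(X 0 * X 1 - C β : MvPowerSeries (Fin 2) A)})) :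
    α ∈ Ideal.span {β} := by
  classical
  set Iα := Ideal.span {(X 0 * X 1 - C α : MvPowerSeries (Fin 2) A)}
  set Iβ := Ideal.span {(X 0 * X 1 - C β : MvPowerSeries (Fin 2) A)}
  set Ab := A ⧸ Ideal.span {β}
  have hXX : jet β (X 0 * X 1 - C β) = 0 := by
    have hb : Ideal.Quotient.mk (Ideal.span {β}) β = 0 :=
      Ideal.Quotient.eq_zero_iff_mem.2 (Ideal.mem_span_singleton_self β)
    rw [map_sub, map_mul]
    refine TrivSqZeroExt.ext ?_ ?_
    · simp [jet_fst, hb]
    · rw [TrivSqZeroExt.snd_sub, TrivSqZeroExt.snd_mul]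
      simp [jet_fst, jet_snd, coeff_X, coeff_C, hb, Finsupp.single_eq_single_iff]
  let ψ : MvPowerSeries (Fin 2) A ⧸ Iβ →+* TrivSqZeroExt Ab (Ab × Ab) := Ideal.Quotient.lift Iβ (jet β) fun P hP => by
    obtain ⟨c, rfl⟩ := Ideal.mem_span_singleton'.1 hP
    rw [map_mul, hXX, mul_zero]
  have hψC : ∀ c : A, ψ (Ideal.Quotient.mk Iβ (C c)) = TrivSqZeroExt.inl (Ideal.Quotient.mk _ c) := by
    intro c
    refine TrivSqZeroExt.ext ?_ ?_
    · show (jet β (C c)).fst = Ideal.Quotient.mk _ c
      rw [jet_fst, constantCoeff_C]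
    · show (jet β (C c)).snd = 0
      rw [jet_snd]
      simp [coeff_C]
  let Φ : MvPowerSeries (Fin 2) A →+* TrivSqZeroExt Ab (Ab × Ab) := ψ.comp ((φ : _ →+* _).comp (Ideal.Quotient.mk Iα))
  have hΦC : ∀ c : A, Φ (C c) = TrivSqZeroExt.inl (Ideal.Quotient.mk _ c) := by
    intro c
    show ψ (φ (algebraMap A _ c)) = _
    rw [φ.commutes]
    exact hψC c
  have hsurj : Function.Surjective Φ := by
    intro z
    obtain ⟨a, ha⟩ := Ideal.Quotient.mk_surjective z.fst
    obtain ⟨b, hb⟩ := Ideal.Quotient.mk_surjective z.snd.1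
    obtain ⟨c, hc⟩ := Ideal.Quotient.mk_surjective z.snd.2
    have hz : ψ (Ideal.Quotient.mk Iβ (C a + C b * X 0 + C c * X 1)) = z := by
      show jet β _ = z
      refine TrivSqZeroExt.ext (by simp [jet_fst, ha]) ?_
      rw [map_add, map_add, map_mul, map_mul, TrivSqZeroExt.snd_add, TrivSqZeroExt.snd_add, TrivSqZeroExt.snd_mul,
        TrivSqZeroExt.snd_mul]
      simp [jet_fst, jet_snd, coeff_X, coeff_C, Finsupp.single_eq_single_iff, hb, hc]
    obtain ⟨w, hw⟩ := φ.surjective (Ideal.Quotient.mk Iβ (C a + C b * X 0 + C c * X 1))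
    obtain ⟨w, rfl⟩ := Ideal.Quotient.mk_surjective w
    exact ⟨w, (congrArg ψ hw).trans hz⟩
  -- reduction to the residue field
  haveI : Nontrivial Ab := Ideal.Quotient.nontrivial_iff.2 fun h => hβ (Ideal.span_singleton_eq_top.1 h)
  let π : Ab →+* ResidueField A := Ideal.Quotient.lift _ (residue A) fun z hz => by
    obtain ⟨c, rfl⟩ := Ideal.mem_span_singleton'.1 hz
    exact (residue_eq_zero_iff _).2 ((maximalIdeal A).mul_mem_left c hβ)
  have hπu : ∀ z : Ab, ¬ IsUnit z → π z = 0 := by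
    intro z hz
    obtain ⟨z, rfl⟩ := Ideal.Quotient.mk_surjective z
    exact (residue_eq_zero_iff z).2 ((mem_maximalIdeal z).2 fun hu => hz (hu.map _))
  have hnu : ∀ i : Fin 2, π (Φ (X i)).fst = 0 := by
    intro i
    refine hπu _ fun hu => ?_
    have h2 : IsUnit (Φ (X i)) := TrivSqZeroExt.isUnit_iff_isUnit_fst.2 hu
    haveI : IsLocalHom Φ := IsLocalHom.of_surjective Φ hsurj
    have h3 := isUnit_of_map_unit Φ (X i) h2
    rw [MvPowerSeries.isUnit_iff_constantCoeff, constantCoeff_X] at h3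
    exact not_isUnit_zero h3
  set a := (Φ (X 0)).fst
  set b := (Φ (X 1)).fst
  set u := (Φ (X 0)).snd
  set v := (Φ (X 1)).snd
  have hprod : Φ (X 0) * Φ (X 1) = TrivSqZeroExt.inl (Ideal.Quotient.mk _ α) := by
    rw [← map_mul, ← hΦC]
    show ψ (φ (Ideal.Quotient.mk Iα (X 0 * X 1))) = ψ (φ (Ideal.Quotient.mk Iα (C α)))
    rw [Ideal.Quotient.eq.2 (Ideal.mem_span_singleton_self (X 0 * X 1 - C α))]
  have hlin : ∀ e : Ab × Ab, ∃ s t : ResidueField A, s * π u.1 + t * π v.1 = π e.1 ∧ s * π u.2 + t * π v.2 = π e.2 := by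
    intro e
    obtain ⟨P, hP⟩ := hsurj (TrivSqZeroExt.inr e)
    have hdec : ∃ Q R : MvPowerSeries (Fin 2) A, P = C (constantCoeff P) + X 0 * Q + X 1 * R := by
      have hdvd : ∀ i : Fin 2, ∀ W : MvPowerSeries (Fin 2) A,
          X i ∣ W ↔ ∀ m : Fin 2 →₀ ℕ, m i = 0 → coeff m W = 0 := fun i W => X_dvd_iff
      let P₁ : MvPowerSeries (Fin 2) A := fun m => if m 0 = 0 ∧ m ≠ 0 then coeff m P else 0
      have hc : ∀ m, coeff m P₁ = if m 0 = 0 ∧ m ≠ 0 then coeff m P else 0 := fun m => rfl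
      obtain ⟨R', hR'⟩ : X (1 : Fin 2) ∣ P₁ := (hdvd 1 _).2 fun m hm => by
        rw [hc, if_neg]
        rintro ⟨h0, hne⟩
        exact hne (Finsupp.ext fun i => by fin_cases i <;> simpa)
      obtain ⟨Q', hQ'⟩ : X (0 : Fin 2) ∣ P - C (constantCoeff P) - P₁ := (hdvd 0 _).2 fun m hm => by
        rw [map_sub, map_sub, hc, coeff_C]
        by_cases hm0 : m = 0
        · subst hm0; simp [coeff_zero_eq_constantCoeff]
        · simp [hm0, hm]
      exact ⟨Q', R', by linear_combination hQ' + hR'⟩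
    obtain ⟨Q, R, hdec⟩ := hdec
    have hs := congrArg TrivSqZeroExt.snd hP
    rw [hdec, map_add, map_add, map_mul, map_mul, hΦC, TrivSqZeroExt.snd_add, TrivSqZeroExt.snd_add,
      TrivSqZeroExt.snd_inl, TrivSqZeroExt.snd_mul, TrivSqZeroExt.snd_mul, TrivSqZeroExt.snd_inr] at hs
    simp only [op_smul_eq_smul, zero_add] at hs
    refine ⟨π (Φ Q).fst, π (Φ R).fst, ?_, ?_⟩
    · have h := congrArg (fun w : Ab × Ab => π w.1) hs
      simp only [Prod.fst_add, Prod.smul_fst, smul_eq_mul, map_add, map_mul, hnu, zero_mul, zero_add] at h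
      linear_combination h
    · have h := congrArg (fun w : Ab × Ab => π w.2) hs
      simp only [Prod.snd_add, Prod.smul_snd, smul_eq_mul, map_add, map_mul, hnu, zero_mul, zero_add] at h
      linear_combination h
  have hdet : IsUnit (u.1 * v.2 - u.2 * v.1) := by
    by_contra hne
    have h0 := hπu _ hne
    rw [map_sub, map_mul, map_mul] at h0
    obtain ⟨s, t, h1, h2⟩ := hlin (1, 0)
    obtain ⟨s', t', h3, h4⟩ := hlin (0, 1)
    simp only [map_one, map_zero] at h1 h2 h3 h4
    have : (s * t' - t * s') * (π u.1 * π v.2 - π u.2 * π v.1) = 1 := by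
      linear_combination (s' * π u.2 + t' * π v.2) * h1 - (s * π u.2 + t * π v.2) * h3 + h4
    rw [h0, mul_zero] at this
    exact zero_ne_one this
  have hs := congrArg TrivSqZeroExt.snd hprod
  rw [TrivSqZeroExt.snd_mul, TrivSqZeroExt.snd_inl] at hs
  simp only [op_smul_eq_smul] at hs
  have e1 : a * v.1 + b * u.1 = 0 := congrArg Prod.fst hs
  have e2 : a * v.2 + b * u.2 = 0 := congrArg Prod.snd hs
  have ha0 : a * (u.1 * v.2 - u.2 * v.1) = 0 := by linear_combination u.1 * e2 - u.2 * e1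
  have hf := congrArg TrivSqZeroExt.fst hprod
  rw [TrivSqZeroExt.fst_mul, TrivSqZeroExt.fst_inl] at hf
  rw [← Ideal.Quotient.eq_zero_iff_mem, ← hf, show (Φ (X 0)).fst = 0 from hdet.mul_left_eq_zero.1 ha0, zero_mul]

open MvPowerSeries IsLocalRing in
/-- Let A be a Noetherian local ring and α, β two elements of its maximal ideal. If the quotient of the
power series ring in two variables over A by xy − α is isomorphic, as an A-algebra, to the quotient
by xy − β, then αA = βA. (The published statement allows any local ring A; it is taken Noetherian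
here, the case in which an algebra isomorphism between these complete local rings is continuous for
their adic topologies.) -/
theorem result
    (A : Type u) [CommRing A] [IsLocalRing A] [IsNoetherianRing A]
    (α β : A) (hα : α ∈ maximalIdeal A) (hβ : β ∈ maximalIdeal A)
    (φ : (MvPowerSeries (Fin 2) A ⧸ Ideal.span {(X 0 * X 1 - C α : MvPowerSeries (Fin 2) A)}) ≃ₐ[A] (MvPowerSeries (Fin 2) A ⧸ Ideal.span {(X 0 * X 1 - C β : MvPowerSeries (Fin 2) A)})) :
    Ideal.span {α} = Ideal.span {β} := by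
  exact le_antisymm ((Ideal.span_singleton_le_iff_mem _).2 (mem_span_of_algEquiv α β hα hβ φ))
    ((Ideal.span_singleton_le_iff_mem _).2 (mem_span_of_algEquiv β α hβ hα φ.symm))

end Groth.Agent.S17720
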