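import Groth.Statements.S17721
import Mathlib
import Groth.Statements.S18889
import Groth.Statements.S18544

set_option autoImplicit false
universe u
open CAlg

namespace Groth.Agent.S17721

open Polynomial IsLocalRing in

open Polynomial IsLocalRing in
/-- Let R be a complete discrete valuation ring with fraction field K, and f a polynomial over R with
non-zero constant term a₀ such that a₀ does not divide some coefficient of f of positive degree
(equivalently, the Newton polygon of f has a side of negative slope). Let b be the power series over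
K with b · f = a₀, the expansion of the geometric series in 1 − f/a₀. Then the valuations of the
coefficients b_j are not bounded below: for every non-zero c in R there is an index j with c · b_j
outside R. -/
theorem result
    (R : Type u) [CommRing R] [IsDomain R] [IsDiscreteValuationRing R]
    [IsAdicComplete (maximalIdeal R) R]
    (K : Type u) [Field K] [Algebra R K] [IsFractionRing R K]
    (f : R[X]) (h0 : f.coeff 0 ≠ 0) (hslope : ∃ i : ℕ, 0 < i ∧ ¬ (f.coeff 0 ∣ f.coeff i))
    (b : PowerSeries K)
    (hb : b * ((f.map (algebraMap R K) : K[X]) : PowerSeries K) = PowerSeries.C (algebraMap R K (f.coeff 0))) :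
    ∀ c : R, c ≠ 0 → ∃ j : ℕ, algebraMap R K c * PowerSeries.coeff j b ∉ (algebraMap R K).range := by
  intro c hc
  by_contra hcon
  push Not at hcon
  choose B hB using hcon
  let Bs : PowerSeries R := PowerSeries.mk B
  have hmap : PowerSeries.map (algebraMap R K) Bs = PowerSeries.C (algebraMap R K c) * b := by
    ext j
    simp [Bs, hB]
  have heq : Bs * (f : PowerSeries R) = PowerSeries.C (c * f.coeff 0) := by
    apply PowerSeries.map_injective _ (IsFractionRing.injective R K)
    rw [map_mul, hmap, ← Polynomial.polynomial_map_coe, mul_assoc, hb, PowerSeries.map_C, map_mul, map_mul]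
  -- primitive part
  have prim : ∀ φ : PowerSeries R, φ ≠ 0 → ∃ (d : R) (ψ : PowerSeries R) (j : ℕ),
      d ≠ 0 ∧ φ = PowerSeries.C d * ψ ∧ IsUnit (PowerSeries.coeff j ψ) := by
    intro φ hφ
    classical
    let I := Ideal.span (Set.range fun j => PowerSeries.coeff j φ)
    obtain ⟨d, hd⟩ := (IsPrincipalIdealRing.principal I).principal
    have hd' : ∀ j, d ∣ PowerSeries.coeff j φ := fun j =>
      Ideal.mem_span_singleton.1 (by
        rw [← Ideal.submodule_span_eq, ← hd]
        exact Ideal.subset_span ⟨j, rfl⟩)
    choose e he using hd'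
    have hd0 : d ≠ 0 := by
      rintro rfl
      exact hφ (PowerSeries.ext fun j => by simp [he j])
    have hφe : φ = PowerSeries.C d * PowerSeries.mk e := PowerSeries.ext fun j => by simp [he j]
    refine ⟨d, PowerSeries.mk e, ?_⟩
    by_contra hno
    push Not at hno
    have hm : I ≤ Ideal.span {d} * maximalIdeal R := by
      rw [Ideal.span_le]
      rintro _ ⟨j, rfl⟩
      rw [SetLike.mem_coe]
      show PowerSeries.coeff j φ ∈ _
      rw [he j]
      refine Ideal.mul_mem_mul (Ideal.mem_span_singleton_self d) ?_
      have := hno j hd0 hφe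
      simpa using this
    have hdI : d ∈ I := by rw [hd]; exact Submodule.mem_span_singleton_self d
    obtain ⟨z, hz, hzd⟩ := Ideal.mem_span_singleton_mul.1 (hm hdI)
    have : z = 1 := mul_left_cancel₀ hd0 (hzd.trans (mul_one d).symm)
    exact (maximalIdeal.isMaximal R).ne_top ((Ideal.eq_top_iff_one _).2 (this ▸ hz))
  have hf0 : (f : PowerSeries R) ≠ 0 := fun h => h0 (by
    have := congrArg (PowerSeries.coeff 0) h
    simpa [Polynomial.coeff_coe] using this)
  have hB0 : Bs ≠ 0 := fun h => by
    have := congrArg PowerSeries.constantCoeff heq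
    simp [h, hc, h0] at this
  obtain ⟨d, g, j, hd, hfg, hgu⟩ := prim _ hf0
  obtain ⟨d', B1, j', hd', hBg, hBu⟩ := prim _ hB0
  have hg0 : ¬ IsUnit (PowerSeries.coeff 0 g) := by
    intro hu
    obtain ⟨i, -, hi⟩ := hslope
    apply hi
    have e := fun n => congrArg (PowerSeries.coeff n) hfg
    simp only [Polynomial.coeff_coe, PowerSeries.coeff_C_mul] at e
    rw [e 0, e i]
    exact mul_dvd_mul_left _ hu.dvd
  have hgB : g * B1 = PowerSeries.C (PowerSeries.coeff 0 g * PowerSeries.coeff 0 B1) := by
    have hdd : PowerSeries.C (d * d') ≠ 0 := fun h => mul_ne_zero hd hd' (by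
      have := congrArg PowerSeries.constantCoeff h
      simpa using this)
    have h1 : PowerSeries.C (d * d') * (g * B1) = PowerSeries.C (c * f.coeff 0) := by
      rw [← heq, hfg, hBg, map_mul]; ring
    have h2 := congrArg PowerSeries.constantCoeff h1
    simp only [map_mul, PowerSeries.constantCoeff_C] at h2
    apply mul_left_cancel₀ hdd
    rw [h1, ← h2, ← map_mul]
    simp only [PowerSeries.coeff_zero_eq_constantCoeff, map_mul]
  let r := IsLocalRing.residue R
  have h3 := congrArg (PowerSeries.map r) hgB
  have hz : r (PowerSeries.coeff 0 g) = 0 := (IsLocalRing.residue_eq_zero_iff _).2 hg0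
  rw [map_mul, PowerSeries.map_C, map_mul, hz, zero_mul, map_zero, mul_eq_zero] at h3
  rcases h3 with h | h
  · have := congrArg (PowerSeries.coeff j) h
    simp only [PowerSeries.coeff_map, map_zero] at this
    exact (IsLocalRing.residue_eq_zero_iff _).1 this hgu
  · have := congrArg (PowerSeries.coeff j') h
    simp only [PowerSeries.coeff_map, map_zero] at this
    exact (IsLocalRing.residue_eq_zero_iff _).1 this hBu

end Groth.Agent.S17721
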