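import Groth.Statements.S17722
import Mathlib
import Groth.Agent.Lib.RegLoc.UFD

set_option autoImplicit false
universe u
open CAlg

namespace Groth.Agent.S17722
open TensorProduct

theorem isPrincipal_descends {R R' : Type u} [CommRing R] [CommRing R'] [IsDomain R'] [IsLocalRing R']
    [Algebra R R'] [Module.FaithfullyFlat R R'] (p : Ideal R)
    (hp : (p.map (algebraMap R R')).IsPrincipal) : p.IsPrincipal := by
  obtain ⟨g, hg⟩ := hp
  change p.map (algebraMap R R') = Ideal.span {g} at hg
  have back : ∀ a ∈ p, p.map (algebraMap R R') = Ideal.span {algebraMap R R' a} → p = Ideal.span {a} := fun a ha h => by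
    rw [← Ideal.comap_map_eq_self_of_faithfullyFlat (B := R') p, h, ← Set.image_singleton, ← Ideal.map_span,
      Ideal.comap_map_eq_self_of_faithfullyFlat]
  by_cases hg0 : g = 0
  · exact ⟨0, back 0 (zero_mem _) (by rw [hg, hg0, map_zero])⟩
  classical
  have hgm : g ∈ p.map (algebraMap R R') := hg ▸ Ideal.mem_span_singleton_self g
  have hdiv : ∀ a ∈ p, g ∣ algebraMap R R' a := fun a ha =>
    Ideal.mem_span_singleton.1 (hg ▸ Ideal.mem_map_of_mem _ ha)
  by_cases hex : ∃ a ∈ p, ∃ s, IsUnit s ∧ algebraMap R R' a = g * s
  · obtain ⟨a, ha, s, hs, he⟩ := hex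
    exact ⟨a, back a ha (by rw [hg, he, Ideal.span_singleton_mul_right_unit hs])⟩
  · exfalso
    have : p.map (algebraMap R R') ≤ Ideal.span {g} * IsLocalRing.maximalIdeal R' := by
      refine Ideal.map_le_iff_le_comap.2 fun a ha => ?_
      obtain ⟨s, hs⟩ := hdiv a ha
      rw [Ideal.mem_comap, hs]
      exact Ideal.mul_mem_mul (Ideal.mem_span_singleton_self g) (fun hu => hex ⟨a, ha, s, hu, hs⟩)
    obtain ⟨m, hm, hgm'⟩ := Ideal.mem_span_singleton_mul.1 (this hgm)
    have : m = 1 := mul_left_cancel₀ hg0 (hgm'.trans (mul_one g).symm)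
    exact (IsLocalRing.mem_maximalIdeal _).1 (this ▸ hm) isUnit_one

/-- Let R → R' be a faithfully flat ring map between Noetherian integrally closed local domains, and p
an ideal of R. If the ideal pR' generated by the image of p is principal, then p is principal. (The
second assertion of the published lemma, descent of unique factorization, is not part of this row.) -/
theorem result
    (R R' : Type u) [CommRing R] [CommRing R'] [IsDomain R] [IsDomain R']
    [IsNoetherianRing R] [IsNoetherianRing R'] [IsLocalRing R] [IsLocalRing R']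
    [IsIntegrallyClosed R] [IsIntegrallyClosed R']
    [Algebra R R'] [Module.FaithfullyFlat R R']
    (p : Ideal R) (hp : (p.map (algebraMap R R')).IsPrincipal) :
    p.IsPrincipal := by
  exact isPrincipal_descends p hp

end Groth.Agent.S17722
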