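import Groth.Statements.S17723
import Groth.Agent.Lib.LabCycH28.Basic

set_option autoImplicit false
universe u
open LabGraph

namespace Groth.Agent.S17723

open Finset

/-- Let G be a finite connected multigraph with endpoint map ends and edge labels l taking positive
integer values. We say g : V → ℤ is elementary-Cartier if, for some integer n ≥ 1, all values of g
are multiples of n and, for each edge whose label fails to divide n, g agrees at its two endpoints
(equivalently, once the edges with label dividing n are removed, g takes a single value on each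
connected piece of what remains). Then every Cartier function f (for each edge, the label divides
the difference of the values of f at its endpoints) lies in the ℤ-span of the elementary-Cartier
functions. -/
theorem result
    {V E : Type u} [Fintype V] [Fintype E] [DecidableEq V] [DecidableEq E]
    (ends : E → V × V) (l : E → ℕ) (hl : ∀ e, 0 < l e) (hconn : LabGraph.Connected ends)
    (f : V → ℤ) (hf : LabGraph.IsCartier ends l f) :
    f ∈ Submodule.span ℤ {g : V → ℤ | ∃ n : ℕ, 0 < n ∧ (∀ v, (n : ℤ) ∣ g v) ∧
      ∀ e, ¬ (l e ∣ n) → g (ends e).1 = g (ends e).2} := by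
  classical
  set W := Submodule.span ℤ {g : V → ℤ | ∃ n : ℕ, 0 < n ∧ (∀ v, (n : ℤ) ∣ g v) ∧
      ∀ e, ¬ (l e ∣ n) → g (ends e).1 = g (ends e).2} with hW
  let M := ∏ e, l e
  have hM : 0 < M := Finset.prod_pos fun e _ => hl e
  suffices h : ∀ m n : ℕ, n * m = M → ∀ f, LabGraph.IsCartier ends l f → (∀ v, (n : ℤ) ∣ f v) → f ∈ W from
    h M 1 (one_mul M) f hf fun v => by simp
  intro m
  induction m using Nat.strongRecOn with
  | _ m ih =>
    intro n hnm f hf hn
    have hm0 : m ≠ 0 := by rintro rfl; simp at hnm; omega
    by_cases hm1 : m = 1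
    · refine Submodule.subset_span ⟨n, ?_, hn, fun e he => absurd ?_ he⟩
      · rw [hm1, mul_one] at hnm; omega
      · rw [hm1, mul_one] at hnm; exact hnm ▸ Finset.dvd_prod_of_mem l (mem_univ e)
    obtain ⟨p, hp, hpm⟩ := Nat.exists_prime_and_dvd hm1
    obtain ⟨j, m', hm', hmeq⟩ := Nat.exists_eq_pow_mul_and_not_dvd hm0 p hp.ne_one
    have hj : 1 ≤ j := by
      rcases j with - | j
      · rw [pow_zero, one_mul] at hmeq; exact absurd (hmeq ▸ hpm) hm'
      · omega
    by_cases hm'1 : m' = 1
    · -- prime power step
      subst hm'1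
      rw [mul_one] at hmeq
      obtain ⟨j, rfl⟩ : ∃ i, j = i + 1 := ⟨j - 1, by omega⟩
      let R := LabCycH28.AdjIn ends (univ.filter fun e => ¬ l e ∣ n)
      let s : Setoid V := Relation.EqvGen.setoid R
      let g : V → ℤ := fun v => f (Quotient.out (Quotient.mk s v))
      have hg : ∀ e, ¬ l e ∣ n → g (ends e).1 = g (ends e).2 := fun e he => by
        have : Quotient.mk s (ends e).1 = Quotient.mk s (ends e).2 :=
          Quotient.sound (Relation.EqvGen.rel _ _ ⟨e, by simp [he], Or.inl rfl⟩)
        simp only [g, this]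
      have hcong : ∀ a b, Relation.EqvGen R a b → ((n * p : ℕ) : ℤ) ∣ f a - f b := by
        intro a b h
        induction h with
        | refl => simp
        | symm _ _ _ ih => rw [← neg_sub]; exact dvd_neg.2 ih
        | trans _ _ _ _ _ ih1 ih2 => have := dvd_add ih1 ih2; rwa [sub_add_sub_cancel] at this
        | rel a b h =>
          obtain ⟨e, he, hor⟩ := h
          rw [mem_filter] at he
          have h1 : (Nat.lcm (l e) n : ℤ) ∣ f (ends e).1 - f (ends e).2 := by
            rw [Int.natCast_dvd]
            exact Nat.lcm_dvd (Int.natCast_dvd.1 (hf e)) (Int.natCast_dvd.1 (dvd_sub (hn _) (hn _)))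
          have h2 : n * p ∣ Nat.lcm (l e) n := by
            obtain ⟨c, hc⟩ := Nat.dvd_lcm_right (l e) n
            have hc1 : c ≠ 1 := fun h => he.2 (by rw [h, mul_one] at hc; exact hc ▸ Nat.dvd_lcm_left _ _)
            have hcd : c ∣ p ^ (j + 1) := by
              have h3 : Nat.lcm (l e) n ∣ n * m := Nat.lcm_dvd (hnm ▸ Finset.dvd_prod_of_mem l (mem_univ e)) (Dvd.intro m rfl)
              rw [hc, hmeq] at h3
              exact Nat.dvd_of_mul_dvd_mul_left (Nat.pos_of_ne_zero fun h => by subst h; simp at hnm; omega) h3
            obtain ⟨i, -, rfl⟩ := (Nat.dvd_prime_pow hp).1 hcd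
            rcases i with - | i
            · simp at hc1
            · rw [hc]; exact Nat.mul_dvd_mul_left n (dvd_pow_self p (Nat.succ_ne_zero i))
          have h3 := (Int.natCast_dvd_natCast.2 h2).trans h1
          rcases hor with hor | hor <;> rw [hor] at h3
          · exact h3
          · rw [← neg_sub]; exact dvd_neg.2 h3
      have hgn : ∀ v, (n : ℤ) ∣ g v := fun v => hn _
      have hn0 : 0 < n := Nat.pos_of_ne_zero fun h => by subst h; simp at hnm; omega
      have hgW : g ∈ W := Submodule.subset_span ⟨n, hn0, hgn, hg⟩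
      have hrest : f - g ∈ W := by
        refine ih (p ^ j) ?_ (n * p) ?_ _ (fun e => ?_) (fun v => ?_)
        · rw [hmeq]; exact Nat.pow_lt_pow_right hp.one_lt (Nat.lt_succ_self j)
        · rw [← hnm, hmeq, pow_succ]; ring
        · simp only [Pi.sub_apply]
          by_cases he : l e ∣ n
          · exact dvd_sub (dvd_sub ((Int.natCast_dvd_natCast.2 he).trans (hn _)) ((Int.natCast_dvd_natCast.2 he).trans (hgn _)))
              (dvd_sub ((Int.natCast_dvd_natCast.2 he).trans (hn _)) ((Int.natCast_dvd_natCast.2 he).trans (hgn _)))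
          · rw [hg e he, sub_sub_sub_cancel_right]; exact hf e
        · have := hcong _ _ (Quotient.exact (Quotient.out_eq (Quotient.mk s v)))
          rw [← neg_sub]; exact dvd_neg.2 this
      have := W.add_mem hrest hgW
      rwa [sub_add_cancel] at this
    · -- coprime splitting
      have hcop : Nat.Coprime (p ^ j) m' := Nat.Coprime.pow_left j ((Nat.Prime.coprime_iff_not_dvd hp).2 hm')
      obtain ⟨a, b, hab⟩ := (Int.isCoprime_iff_gcd_eq_one.2 ((Int.gcd_natCast_natCast (p ^ j) m').trans hcop))
      have hpj : 1 < p ^ j := Nat.one_lt_pow (by omega) hp.one_lt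
      have hm'0 : m' ≠ 0 := by rintro rfl; simp at hmeq; omega
      have hm'2 : 1 < m' := by omega
      have key : ∀ (c : ℤ) (t r : ℕ), t * r = m → 1 < t → (c • ((t : ℤ) • f)) ∈ W := by
        intro c t r htr ht
        refine W.smul_mem c (ih r ?_ (n * t) (by rw [mul_assoc, htr, hnm]) _ (fun e => ?_) fun v => ?_)
        · rw [← htr]
          exact lt_mul_of_one_lt_left (Nat.pos_of_ne_zero fun h => by subst h; simp at htr; omega) ht
        · simp only [Pi.smul_apply, smul_eq_mul, ← mul_sub]; exact (hf e).mul_left _
        · simp only [Pi.smul_apply, smul_eq_mul, Nat.cast_mul]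
          rw [mul_comm]; exact mul_dvd_mul_left _ (hn v)
      have hf' : f = a • (((p ^ j : ℕ) : ℤ) • f) + b • ((m' : ℤ) • f) := by
        rw [smul_smul, smul_smul, ← add_smul, hab, one_smul]
      rw [hf']
      exact W.add_mem (key a _ m' hmeq.symm hpj) (key b m' (p ^ j) (by rw [hmeq, mul_comm]) hm'2)

end Groth.Agent.S17723
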