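import Groth.Statements.S17724
import Groth.Agent.Lib.LabCycH28.Basic

set_option autoImplicit false
universe u v
open LabGraph

namespace Groth.Agent.S17724

open Finset

/-- Let G be a finite connected multigraph with endpoint map ends, whose edges carry labels lab in a set
L and positive integer labels n, and suppose the L-labels are constant along every circuit. Say g :
V → ℤ is pre-achievable when for some finite set B of edges all carrying the same L-label, g takes
equal values at the two endpoints of every edge outside B (so g is constant on the connected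
components of the graph with B deleted); say g is Cartier when for every edge e the integer n(e)
divides the difference of the values of g at its endpoints. Then every Cartier function f is a
finite sum of functions each of which is Cartier and pre-achievable, and when f vanishes at a vertex
v₀ the summands can all be taken to vanish at v₀. -/
theorem result
    {V E : Type u} [Fintype V] [Fintype E] [DecidableEq V] [DecidableEq E] {L : Type v}
    (ends : E → V × V) (lab : E → L) (n : E → ℕ) (hn : ∀ e, 0 < n e)
    (hconn : LabGraph.Connected ends)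
    (hcirc : ∀ C : Finset E, LabGraph.IsCircuit ends C → ∀ e ∈ C, ∀ e' ∈ C, lab e = lab e')
    (f : V → ℤ) (hf : LabGraph.IsCartier ends n f) :
    f ∈ AddSubmonoid.closure {g : V → ℤ | LabGraph.IsCartier ends n g ∧ (∃ B : Finset E, (∀ e ∈ B, ∀ e' ∈ B, lab e = lab e') ∧ ∀ e, e ∉ B → g (ends e).1 = g (ends e).2)} ∧
    ∀ v₀ : V, f v₀ = 0 →
      f ∈ AddSubmonoid.closure {g : V → ℤ | LabGraph.IsCartier ends n g ∧ (∃ B : Finset E, (∀ e ∈ B, ∀ e' ∈ B, lab e = lab e') ∧ ∀ e, e ∉ B → g (ends e).1 = g (ends e).2) ∧ g v₀ = 0} := by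
  classical
  let x : L → E → ℤ := fun a e => if lab e = a then LabCycH28.cob ends f e else 0
  have hex : ∀ a, ∃ g : V → ℤ, ∀ e, LabCycH28.cob ends g e = x a e := by
    intro a
    obtain ⟨T, -, hT⟩ := LabDetH28.exists_spanningTree ends univ (LabDetH28.connected_univ hconn)
    obtain ⟨g, hg⟩ := LabCycH28.exists_cob_eq ends (x a) T fun C hC hcirc =>
      LabDetH28.not_even_of_subset hT C hC hcirc.1 hcirc.2.1
    refine ⟨g, fun e₀ => ?_⟩
    by_cases he : e₀ ∈ T
    · exact hg e₀ he
    have hj : Relation.ReflTransGen (LabCycH28.AdjIn ends T) (ends e₀).2 (ends e₀).1 :=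
      Relation.ReflTransGen.mono (fun _ _ ⟨e, h⟩ => ⟨e.1, e.2, h⟩) _ _ (hT.1.2 _ _)
    obtain ⟨γ₀, hγ1, hγ2, hγ3⟩ := LabCycH28.cycle_of_joined ends T e₀ he hj
    obtain ⟨C, hC, heC⟩ : ∃ C, LabGraph.IsCircuit ends C ∧ e₀ ∈ C ∧ C ⊆ insert e₀ T := by
      let D := univ.filter fun e => ((γ₀ e : ℤ) : ZMod 2) ≠ 0
      have hDsub : D ⊆ insert e₀ T := fun e h => by
        by_contra hne
        simp [D, hγ1 e hne] at h
      have hev : ∀ v, Even (LabGraph.endCount ends D v) := fun v => by
        rw [LabDetH28.even_iff]
        have h4 := congrArg (fun z : ℤ => (z : ZMod 2)) (hγ3 v)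
        simp only [LabGraph.boundary, Int.cast_sum, Int.cast_sub, Int.cast_zero] at h4
        rw [Finset.sum_filter]
        refine (Finset.sum_congr rfl fun e _ => ?_).trans h4
        push_cast
        simp only [LabDetH28.inc]
        generalize (γ₀ e : ZMod 2) = a
        revert a
        split_ifs <;> decide
      obtain ⟨C', h5, h6⟩ := LabDetH28.exists_circuit_subset ends D ⟨e₀, by simp [D, hγ2]⟩ hev
      refine ⟨C', h6, ?_, h5.trans hDsub⟩
      by_contra hne
      exact LabDetH28.not_even_of_subset hT C' (fun e h => (mem_insert.1 (hDsub (h5 h))).resolve_left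
        fun h' => hne (h' ▸ h)) h6.1 h6.2.1
    obtain ⟨γ, h1, h2, h3⟩ := LabCycH28.even_cycle ends hC.2.1 heC.1
    have hzero : ∑ e, γ e * x a e = 0 := by
      by_cases hla : lab e₀ = a
      · rw [← LabCycH28.orth_cob ends h3 f]
        refine Finset.sum_congr rfl fun e _ => ?_
        by_cases heC' : e ∈ C
        · simp only [x]; rw [if_pos ((hcirc C hC e heC' e₀ heC.1).trans hla)]
        · simp [h1 e heC']
      · refine Finset.sum_eq_zero fun e _ => ?_
        by_cases heC' : e ∈ C
        · simp only [x]; rw [if_neg fun h => hla ((hcirc C hC e₀ heC.1 e heC').trans h), mul_zero]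
        · simp [h1 e heC']
    have h4 := LabCycH28.orth_cob ends h3 g
    have hrest : ∑ e ∈ univ.erase e₀, γ e * LabCycH28.cob ends g e = ∑ e ∈ univ.erase e₀, γ e * x a e := by
      refine Finset.sum_congr rfl fun e hne => ?_
      by_cases heC' : e ∈ C
      · rw [hg e ((mem_insert.1 (heC.2 heC')).resolve_left (ne_of_mem_erase hne))]
      · simp [h1 e heC']
    rw [← Finset.add_sum_erase _ _ (mem_univ e₀), h2, one_mul] at h4 hzero
    linarith
  choose g hg using hex
  have main : ∀ v₀ : V, ∀ c : ℤ, f v₀ = c →
      (fun v => f v - c) ∈ AddSubmonoid.closure {g : V → ℤ | LabGraph.IsCartier ends n g ∧ (∃ B : Finset E, (∀ e ∈ B, ∀ e' ∈ B, lab e = lab e') ∧ ∀ e, e ∉ B → g (ends e).1 = g (ends e).2) ∧ g v₀ = 0} := by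
    intro v₀ c hc
    let h : L → V → ℤ := fun a v => g a v - g a v₀
    have hsum : (fun v => f v - c) = ∑ a ∈ univ.image lab, h a := by
      set F : V → ℤ := fun v => f v - (∑ a ∈ univ.image lab, h a) v with hF
      have hstep : ∀ e, F (ends e).1 = F (ends e).2 := by
        intro e
        have h1 : ∑ a ∈ univ.image lab, (h a (ends e).2 - h a (ends e).1) = f (ends e).2 - f (ends e).1 := by
          rw [Finset.sum_congr rfl fun a _ => show h a (ends e).2 - h a (ends e).1 = x a e by
            rw [← hg a e]; simp [h, LabCycH28.cob]]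
          simp only [x, Finset.sum_ite_eq, mem_image_of_mem lab (mem_univ e), if_true, LabCycH28.cob,
            LinearMap.coe_mk, AddHom.coe_mk]
        rw [Finset.sum_sub_distrib] at h1
        simp only [hF, Finset.sum_apply]
        linarith
      funext v
      have hF0 : F v = F v₀ := by
        induction hconn.2 v₀ v with
        | refl => rfl
        | @tail b d _ hbd ih' =>
          obtain ⟨e, he⟩ := hbd
          have := hstep e
          rcases he with he | he <;> rw [he] at this <;> linarith
      simp only [hF, Finset.sum_apply] at hF0 ⊢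
      have hz : ∑ a ∈ univ.image lab, h a v₀ = 0 := Finset.sum_eq_zero fun a _ => by simp [h]
      rw [hz, hc] at hF0
      linarith
    rw [hsum]
    refine AddSubmonoid.sum_mem _ fun a _ => AddSubmonoid.subset_closure (show LabGraph.IsCartier ends n (h a) ∧ (∃ B : Finset E, (∀ e ∈ B, ∀ e' ∈ B, lab e = lab e') ∧ ∀ e, e ∉ B → h a (ends e).1 = h a (ends e).2) ∧ h a v₀ = 0 from ?_)
    refine ⟨fun e => ?_,
      ⟨univ.filter (fun e => lab e = a), fun e he e' he' => by simp_all, fun e he => ?_⟩, by simp [h]⟩
    · have h1 := hg a e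
      simp only [x, LabCycH28.cob, LinearMap.coe_mk, AddHom.coe_mk] at h1
      simp only [h, sub_sub_sub_cancel_right]
      split_ifs at h1 with hla
      · rw [show g a (ends e).1 - g a (ends e).2 = f (ends e).1 - f (ends e).2 by linarith]; exact hf e
      · rw [show g a (ends e).1 - g a (ends e).2 = 0 by linarith]; exact dvd_zero _
    · have h1 := hg a e
      simp only [x, LabCycH28.cob, LinearMap.coe_mk, AddHom.coe_mk] at h1
      rw [if_neg fun h' => he (by simp [h'])] at h1
      simp only [h]; linarith
  refine ⟨?_, fun v₀ h0 => ?_⟩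
  · obtain ⟨v₀⟩ := hconn.1
    have hc : (fun _ : V => f v₀) ∈ AddSubmonoid.closure {g : V → ℤ | LabGraph.IsCartier ends n g ∧ (∃ B : Finset E, (∀ e ∈ B, ∀ e' ∈ B, lab e = lab e') ∧ ∀ e, e ∉ B → g (ends e).1 = g (ends e).2)} :=
      AddSubmonoid.subset_closure ⟨fun e => by simp, ∅, by simp, fun e _ => rfl⟩
    have h1 : (fun v => f v - f v₀) ∈ AddSubmonoid.closure {g : V → ℤ | LabGraph.IsCartier ends n g ∧ (∃ B : Finset E, (∀ e ∈ B, ∀ e' ∈ B, lab e = lab e') ∧ ∀ e, e ∉ B → g (ends e).1 = g (ends e).2)} :=
      by
      refine AddSubmonoid.closure_mono ?_ (main v₀ _ rfl)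
      intro g hg
      exact ⟨hg.1, hg.2.1⟩
    have h2 := AddSubmonoid.add_mem _ h1 hc
    have e : (fun v => f v - f v₀) + (fun _ : V => f v₀) = f := by funext v; simp
    rwa [e] at h2
  · simpa using main v₀ 0 h0

end Groth.Agent.S17724
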