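import Groth.Statements.S17726
import Mathlib
import Groth.Agent.Lib.H2Alg.WeakAss

set_option autoImplicit false
universe u
open CAlg

namespace Groth.Agent.S17726
open TensorProduct

/-- Let f and g be non-zero-divisors of a commutative ring A, not both units; think of them as local
equations, at a point of the union of the supports, of two effective Cartier divisors E and D. If
the ideals generated by g^{m₁} and f^{n₁} coincide, and likewise for g^{m₂} and f^{n₂}, then m₁ n₂ =
m₂ n₁. So all pairs (m, n) with m D = n E locally at the point are proportional, and the saturation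
of the monoid they form is generated by a single element. -/
theorem result
    (A : Type u) [CommRing A] (f g : A)
    (hf : f ∈ nonZeroDivisors A) (hg : g ∈ nonZeroDivisors A) (hfg : ¬ (IsUnit f ∧ IsUnit g))
    (m₁ n₁ m₂ n₂ : ℕ)
    (h₁ : Ideal.span {g ^ m₁} = Ideal.span {f ^ n₁})
    (h₂ : Ideal.span {g ^ m₂} = Ideal.span {f ^ n₂}) :
    m₁ * n₂ = m₂ * n₁ := by
  have hu : ∀ a b : A, Ideal.span {a} = Ideal.span {b} → ∀ k, Ideal.span {a ^ k} = Ideal.span {b ^ k} := fun a b h k => by
    rw [← Ideal.span_singleton_pow, h, Ideal.span_singleton_pow]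
  by_contra hne
  have e1 := hu _ _ h₁ m₂
  have e2 := hu _ _ h₂ m₁
  rw [← pow_mul, ← pow_mul] at e1 e2
  rw [mul_comm m₂ m₁, e1] at e2
  have key : ∀ a b : ℕ, a < b → Ideal.span {f ^ a} = Ideal.span {f ^ b} → IsUnit f := by
    intro a b hab h
    obtain ⟨c, hc⟩ := Ideal.mem_span_singleton.1 (h ▸ Ideal.mem_span_singleton_self (f ^ a) : f ^ a ∈ Ideal.span {f ^ b})
    obtain ⟨d, rfl⟩ := Nat.exists_eq_add_of_lt hab
    have : f ^ a * (f ^ (d + 1) * c - 1) = 0 := by rw [mul_sub, ← mul_assoc, ← pow_add, mul_one, ← add_assoc, ← hc, sub_self]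
    have := sub_eq_zero.1 (mem_nonZeroDivisors_iff.1 (pow_mem hf a) |>.1 _ this)
    exact (isUnit_pow_iff (Nat.succ_ne_zero d)).1 (IsUnit.of_mul_eq_one _ this)
  have hfu : IsUnit f := by
    rcases Nat.lt_or_gt_of_ne (show n₁ * m₂ ≠ n₂ * m₁ from fun h => hne (by rw [mul_comm m₁ n₂, ← h, mul_comm])) with h | h
    · exact key _ _ h e2
    · exact key _ _ h e2.symm
  refine hfg ⟨hfu, ?_⟩
  have gu : ∀ m n, m ≠ 0 → Ideal.span {g ^ m} = Ideal.span {f ^ n} → IsUnit g := fun m n hm h => by
    rw [Ideal.span_singleton_eq_top.2 (hfu.pow n), Ideal.span_singleton_eq_top] at h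
    exact (isUnit_pow_iff hm).1 h
  by_cases hm : m₁ = 0
  · exact gu m₂ n₂ (fun h => hne (by simp [hm, h])) h₂
  · exact gu m₁ n₁ hm h₁

end Groth.Agent.S17726
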