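import Groth.Statements.S17727
import Groth.Agent.Lib.NeronMap.Dense

set_option autoImplicit false
universe u
open Neron

namespace Groth.Agent.S17727

open CategoryTheory AlgebraicGeometry in
/-- Let f : E → S be a morphism of schemes and U ⊆ S a schematically dense open subscheme such that f
restricts to an isomorphism over U and the preimage of U is schematically dense in E. Then for every
section σ of f and every point s of S there is an open neighbourhood W of σ(s) in E on which f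
restricts to an open immersion. (The published statements conclude that the section lands in the
étale locus of f, in one published form for an algebraic space E, in another for f locally of finite
type over a Noetherian base; the affine-local argument gives the sharper conclusion recorded here,
for schemes.) -/
theorem result
    {E S : Scheme.{u}} (f : E ⟶ S) (U : S.Opens) (hU : CInt.IsSchematicallyDense U)
    (hiso : IsIso (morphismRestrict f U)) (hdense : CInt.IsSchematicallyDense (f ⁻¹ᵁ U))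
    (σ : S ⟶ E) (hσ : σ ≫ f = 𝟙 S) (s : S) :
    ∃ W : E.Opens, σ.base s ∈ W ∧ IsOpenImmersion (W.ι ≫ f) := by
  obtain ⟨W₀, hW₀, hsW, -⟩ := exists_isAffineOpen_mem_and_subset (X := E) (x := σ.base s) (U := ⊤) trivial
  let V : S.Opens := σ ⁻¹ᵁ W₀
  let W : E.Opens := W₀ ⊓ f ⁻¹ᵁ V
  have hfs : ∀ t : S, f.base (σ.base t) = t := fun t => by
    rw [← Scheme.Hom.comp_apply, hσ]; rfl
  refine ⟨W, ⟨hsW, show σ.base (f.base (σ.base s)) ∈ W₀ by rw [hfs]; exact hsW⟩, ?_⟩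
  haveI : IsAffine (W₀ : Scheme.{u}) := hW₀
  let r : (W : Scheme.{u}) ⟶ (V : Scheme.{u}) :=
    IsOpenImmersion.lift V.ι (W.ι ≫ f) (by
      rw [Scheme.Opens.range_ι]; rintro - ⟨z, rfl⟩; exact z.2.2)
  let t : (V : Scheme.{u}) ⟶ (W : Scheme.{u}) :=
    IsOpenImmersion.lift W.ι (V.ι ≫ σ) (by
      rw [Scheme.Opens.range_ι]; rintro - ⟨z, rfl⟩
      refine ⟨z.2, show f.base (σ.base z.1) ∈ V from ?_⟩
      rw [hfs]; exact z.2)
  have hr : r ≫ V.ι = W.ι ≫ f := IsOpenImmersion.lift_fac _ _ _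
  have ht : t ≫ W.ι = V.ι ≫ σ := IsOpenImmersion.lift_fac _ _ _
  have htr : t ≫ r = 𝟙 _ := by
    rw [← cancel_mono V.ι, Category.assoc, hr, reassoc_of% ht, hσ, Category.comp_id, Category.id_comp]
  have hrt : r ≫ t = 𝟙 _ := by
    rw [← cancel_mono (E.homOfLE (inf_le_left : W ≤ W₀)), Category.id_comp]
    refine Groth.Agent.NeronMap.eq_of_ι_comp_eq (Groth.Agent.NeronMap.dense_preimage_ι hdense W)
      (Limits.terminal.from _) _ _ (Limits.terminal.hom_ext _ _) ?_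
    rw [← cancel_mono W₀.ι]
    simp only [Category.assoc, Scheme.homOfLE_ι]
    erw [ht, reassoc_of% hr]
    have hz : Set.range ((W.ι ⁻¹ᵁ f ⁻¹ᵁ U).ι ≫ W.ι ≫ f).base ⊆ Set.range U.ι.base := by
      rw [Scheme.Opens.range_ι]; rintro - ⟨z, rfl⟩; exact z.2
    have hrange : ∀ z, ((W.ι ⁻¹ᵁ f ⁻¹ᵁ U).ι ≫ W.ι ≫ f ≫ σ).base z ∈ (f ⁻¹ᵁ U : E.Opens) := fun z => by
      show f.base (σ.base (f.base _)) ∈ U
      rw [hfs]
      exact z.2
    let x₁ : ((W.ι ⁻¹ᵁ f ⁻¹ᵁ U : (W : Scheme.{u}).Opens) : Scheme.{u}) ⟶ ((f ⁻¹ᵁ U : E.Opens) : Scheme.{u}) :=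
      IsOpenImmersion.lift (f ⁻¹ᵁ U).ι ((W.ι ⁻¹ᵁ f ⁻¹ᵁ U).ι ≫ W.ι ≫ f ≫ σ) (by
        rw [Scheme.Opens.range_ι]; rintro - ⟨z, rfl⟩; exact hrange z)
    let x₂ : ((W.ι ⁻¹ᵁ f ⁻¹ᵁ U : (W : Scheme.{u}).Opens) : Scheme.{u}) ⟶ ((f ⁻¹ᵁ U : E.Opens) : Scheme.{u}) :=
      IsOpenImmersion.lift (f ⁻¹ᵁ U).ι ((W.ι ⁻¹ᵁ f ⁻¹ᵁ U).ι ≫ W.ι) (by
        rw [Scheme.Opens.range_ι]; rintro - ⟨z, rfl⟩; exact z.2)
    haveI := hiso
    have hx : x₁ = x₂ := by
      rw [← cancel_mono (morphismRestrict f U), ← cancel_mono U.ι]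
      simp only [Category.assoc, morphismRestrict_ι, x₁, x₂, IsOpenImmersion.lift_fac_assoc]
      rw [hσ, Category.comp_id]
    have hx' := congrArg (· ≫ (f ⁻¹ᵁ U).ι) hx
    simpa only [x₁, x₂, IsOpenImmersion.lift_fac] using hx'
  haveI : IsIso r := ⟨t, hrt, htr⟩
  rw [← hr]
  infer_instance

end Groth.Agent.S17727
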