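import Groth.Statements.S17728
import Groth.Agent.Lib.NeronMap.Dense
import Groth.Agent.Lib.VarDim.Irred
import Groth.Agent.S0386
import Mathlib.AlgebraicGeometry.Morphisms.FlatMono
import Mathlib.AlgebraicGeometry.Morphisms.Etale

set_option autoImplicit false
universe u
open Neron

namespace Groth.Agent.S17728

open CategoryTheory Limits AlgebraicGeometry

theorem nhd_of_section {E S : Scheme.{u}} (f : E ⟶ S) (U : S.Opens)
    (hiso : IsIso (morphismRestrict f U)) (hdense : CInt.IsSchematicallyDense (f ⁻¹ᵁ U))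
    (σ : S ⟶ E) (hσ : σ ≫ f = 𝟙 S) (s : S) :
    ∃ W : E.Opens, σ.base s ∈ W ∧ IsOpenImmersion (W.ι ≫ f) := by
  obtain ⟨W₀, hW₀, hsW, -⟩ := exists_isAffineOpen_mem_and_subset (X := E) (x := σ.base s) (U := ⊤) trivial
  let V : S.Opens := σ ⁻¹ᵁ W₀
  let W : E.Opens := W₀ ⊓ f ⁻¹ᵁ V
  have hfs : ∀ t : S, f.base (σ.base t) = t := fun t => by
    rw [← Scheme.Hom.comp_apply, hσ]; rfl
  refine ⟨W, ⟨hsW, show σ.base (f.base (σ.base s)) ∈ W₀ by rw [hfs]; exact hsW⟩, ?_⟩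
  haveI : IsAffine (W₀ : Scheme.{u}) := hW₀
  let r : (W : Scheme.{u}) ⟶ (V : Scheme.{u}) :=
    IsOpenImmersion.lift V.ι (W.ι ≫ f) (by
      rw [Scheme.Opens.range_ι]; rintro - ⟨z, rfl⟩; exact z.2.2)
  let t : (V : Scheme.{u}) ⟶ (W : Scheme.{u}) :=
    IsOpenImmersion.lift W.ι (V.ι ≫ σ) (by
      rw [Scheme.Opens.range_ι]; rintro - ⟨z, rfl⟩
      refine ⟨z.2, show f.base (σ.base z.1) ∈ V from ?_⟩
      rw [hfs]; exact z.2)
  have hr : r ≫ V.ι = W.ι ≫ f := IsOpenImmersion.lift_fac _ _ _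
  have ht : t ≫ W.ι = V.ι ≫ σ := IsOpenImmersion.lift_fac _ _ _
  have htr : t ≫ r = 𝟙 _ := by
    rw [← cancel_mono V.ι, Category.assoc, hr, reassoc_of% ht, hσ, Category.comp_id, Category.id_comp]
  have hrt : r ≫ t = 𝟙 _ := by
    rw [← cancel_mono (E.homOfLE (inf_le_left : W ≤ W₀)), Category.id_comp]
    refine Groth.Agent.NeronMap.eq_of_ι_comp_eq (Groth.Agent.NeronMap.dense_preimage_ι hdense W)
      (Limits.terminal.from _) _ _ (Limits.terminal.hom_ext _ _) ?_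
    rw [← cancel_mono W₀.ι]
    simp only [Category.assoc, Scheme.homOfLE_ι]
    erw [ht, reassoc_of% hr]
    have hz : Set.range ((W.ι ⁻¹ᵁ f ⁻¹ᵁ U).ι ≫ W.ι ≫ f).base ⊆ Set.range U.ι.base := by
      rw [Scheme.Opens.range_ι]; rintro - ⟨z, rfl⟩; exact z.2
    have hrange : ∀ z, ((W.ι ⁻¹ᵁ f ⁻¹ᵁ U).ι ≫ W.ι ≫ f ≫ σ).base z ∈ (f ⁻¹ᵁ U : E.Opens) := fun z => by
      show f.base (σ.base (f.base _)) ∈ U
      rw [hfs]
      exact z.2
    let x₁ : ((W.ι ⁻¹ᵁ f ⁻¹ᵁ U : (W : Scheme.{u}).Opens) : Scheme.{u}) ⟶ ((f ⁻¹ᵁ U : E.Opens) : Scheme.{u}) :=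
      IsOpenImmersion.lift (f ⁻¹ᵁ U).ι ((W.ι ⁻¹ᵁ f ⁻¹ᵁ U).ι ≫ W.ι ≫ f ≫ σ) (by
        rw [Scheme.Opens.range_ι]; rintro - ⟨z, rfl⟩; exact hrange z)
    let x₂ : ((W.ι ⁻¹ᵁ f ⁻¹ᵁ U : (W : Scheme.{u}).Opens) : Scheme.{u}) ⟶ ((f ⁻¹ᵁ U : E.Opens) : Scheme.{u}) :=
      IsOpenImmersion.lift (f ⁻¹ᵁ U).ι ((W.ι ⁻¹ᵁ f ⁻¹ᵁ U).ι ≫ W.ι) (by
        rw [Scheme.Opens.range_ι]; rintro - ⟨z, rfl⟩; exact z.2)
    haveI := hiso
    have hx : x₁ = x₂ := by
      rw [← cancel_mono (morphismRestrict f U), ← cancel_mono U.ι]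
      simp only [Category.assoc, morphismRestrict_ι, x₁, x₂, IsOpenImmersion.lift_fac_assoc]
      rw [hσ, Category.comp_id]
    have hx' := congrArg (· ≫ (f ⁻¹ᵁ U).ι) hx
    simpa only [x₁, x₂, IsOpenImmersion.lift_fac] using hx'
  haveI : IsIso r := ⟨t, hrt, htr⟩
  rw [← hr]
  infer_instance

theorem isOpenImmersion_of_flat {X S : Scheme.{u}} [IsNoetherian S] (f : X ⟶ S) [LocallyOfFiniteType f]
    (U : S.Opens) (hiso : IsIso (morphismRestrict f U)) (hdense : CInt.IsSchematicallyDense (f ⁻¹ᵁ U))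
    (x : X) (hx : (f.stalkMap x).hom.Flat) :
    ∃ W : X.Opens, x ∈ W ∧ IsOpenImmersion (W.ι ≫ f) := by
  haveI : LocallyOfFinitePresentation f := Groth.Agent.VarDim.locallyOfFinitePresentation_of_locallyNoetherian f
  obtain ⟨W, hW, hxW, hWflat⟩ := exists_isAffineOpen_mem_and_subset (X := X) (x := x)
    (U := ⟨{z : X | (f.stalkMap z).hom.Flat}, Groth.Agent.S0386.result f⟩) hx
  refine ⟨W, hxW, ?_⟩
  haveI : IsAffine (W : Scheme.{u}) := hW
  haveI : Flat (W.ι ≫ f) := by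
    rw [Flat.iff_flat_stalkMap]
    intro z
    erw [Scheme.Hom.stalkMap_comp, CommRingCat.hom_comp]
    exact (hWflat z.2 : (f.stalkMap z.1).hom.Flat).comp
      (RingHom.Flat.of_bijective (ConcreteCategory.bijective_of_isIso (W.ι.stalkMap z)))
  haveI : LocallyOfFiniteType (W.ι ≫ f) := inferInstance
  haveI : IsLocallyNoetherian (W : Scheme.{u}) := LocallyOfFiniteType.isLocallyNoetherian (W.ι ≫ f)
  haveI : IsSeparated (W.ι ≫ f) := inferInstance
  let D : (W : Scheme.{u}).Opens := W.ι ⁻¹ᵁ f ⁻¹ᵁ U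
  haveI : IsSchemeTheoreticallyDominant D.ι :=
    ⟨Groth.Agent.NeronMap.ker_ι_eq_bot (Groth.Agent.NeronMap.dense_preimage_ι hdense W)⟩
  haveI : QuasiCompact D.ι := inferInstance
  haveI := hiso
  let g := W.ι ≫ f
  let r := pullback.snd D.ι (pullback.fst g g)
  haveI : IsSchemeTheoreticallyDominant r :=
    IsSchemeTheoreticallyDominant.pullbackSnd D.ι (pullback.fst g g)
  have heq : pullback.fst g g = pullback.snd g g := by
    refine Groth.Agent.AbRigid.eq_of_comp_eq_of_ker_eq_bot r r.ker_eq_bot (terminal.from (W : Scheme.{u})) _ _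
      (terminal.hom_ext _ _) ?_
    rw [← cancel_mono W.ι]
    have hc : r ≫ pullback.fst g g = pullback.fst D.ι (pullback.fst g g) ≫ D.ι := pullback.condition.symm
    have hfc : ((r ≫ pullback.fst g g) ≫ W.ι) ≫ f = ((r ≫ pullback.snd g g) ≫ W.ι) ≫ f := by
      simp only [Category.assoc]
      rw [show pullback.fst g g ≫ W.ι ≫ f = pullback.snd g g ≫ W.ι ≫ f from pullback.condition]
    have hmem : ∀ z, f.base (((r ≫ pullback.fst g g) ≫ W.ι).base z) ∈ U := fun z => by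
      rw [hc]
      exact (pullback.fst D.ι (pullback.fst g g) z).2
    let x₁ : pullback D.ι (pullback.fst g g) ⟶ ((f ⁻¹ᵁ U : X.Opens) : Scheme.{u}) :=
      IsOpenImmersion.lift (f ⁻¹ᵁ U).ι ((r ≫ pullback.fst g g) ≫ W.ι) (by
        rw [Scheme.Opens.range_ι]; rintro - ⟨z, rfl⟩; exact hmem z)
    let x₂ : pullback D.ι (pullback.fst g g) ⟶ ((f ⁻¹ᵁ U : X.Opens) : Scheme.{u}) :=
      IsOpenImmersion.lift (f ⁻¹ᵁ U).ι ((r ≫ pullback.snd g g) ≫ W.ι) (by
        rw [Scheme.Opens.range_ι]; rintro - ⟨z, rfl⟩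
        show f.base _ ∈ U
        have := congr($(hfc).base z)
        simp only [Scheme.Hom.comp_apply] at this ⊢
        rw [← this]
        exact hmem z)
    have he : x₁ = x₂ := by
      rw [← cancel_mono (morphismRestrict f U), ← cancel_mono U.ι]
      simp only [Category.assoc, morphismRestrict_ι, x₁, x₂, IsOpenImmersion.lift_fac_assoc]
      simpa only [Category.assoc] using hfc
    have he' := congrArg (· ≫ (f ⁻¹ᵁ U).ι) he
    simpa only [x₁, x₂, IsOpenImmersion.lift_fac] using he'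
  haveI : Mono g := ⟨fun {T} a b hab => by
    rw [← pullback.lift_fst a b hab, heq, pullback.lift_snd]⟩
  haveI : LocallyOfFinitePresentation g := Groth.Agent.VarDim.locallyOfFinitePresentation_of_locallyNoetherian g
  exact IsOpenImmersion.of_flat_of_mono g


open CategoryTheory AlgebraicGeometry in
/-- Let S be a Noetherian scheme, U ⊆ S a dense open subscheme and f : X → S a morphism locally of
finite type which restricts to an isomorphism over U and for which the preimage of U is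
schematically dense in X. For a point x of X the following are equivalent: f is étale on some open
neighbourhood of x; f is flat at x, that is, the local ring of X at x is flat over the local ring of
S at f(x); some open neighbourhood V of f(x) carries a section σ of f over V passing through x. -/
theorem result
    {X S : Scheme.{u}} [IsNoetherian S] (f : X ⟶ S) [LocallyOfFiniteType f]
    (U : S.Opens) (hU : Dense (U : Set S))
    (hiso : IsIso (morphismRestrict f U)) (hdense : CInt.IsSchematicallyDense (f ⁻¹ᵁ U))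
    (x : X) :
    List.TFAE [
      ∃ W : X.Opens, x ∈ W ∧ Etale (W.ι ≫ f),
      (f.stalkMap x).hom.Flat,
      ∃ (V : S.Opens) (hV : f.base x ∈ V) (σ : (V : Scheme.{u}) ⟶ X),
        σ ≫ f = V.ι ∧ σ.base ⟨f.base x, hV⟩ = x] := by
  tfae_have 1 → 2 := by
    rintro ⟨W, hxW, hW⟩
    haveI := hW
    have h := (Flat.iff_flat_stalkMap (W.ι ≫ f)).1 inferInstance ⟨x, hxW⟩
    erw [Scheme.Hom.stalkMap_comp, CommRingCat.hom_comp] at h
    let e := (asIso (W.ι.stalkMap ⟨x, hxW⟩)).commRingCatIsoToRingEquiv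
    have h' := h.comp (RingHom.Flat.of_bijective e.symm.bijective : e.symm.toRingHom.Flat)
    have key : e.symm.toRingHom.comp ((W.ι.stalkMap ⟨x, hxW⟩).hom.comp (f.stalkMap x).hom) = (f.stalkMap x).hom := by
      ext a
      exact e.symm_apply_apply _
    rw [← key]
    exact h'
  tfae_have 2 → 3 := fun h => by
    obtain ⟨W, hxW, hW⟩ := isOpenImmersion_of_flat f U hiso hdense x h
    haveI := hW
    let V : S.Opens := (W.ι ≫ f).opensRange
    let e : (W : Scheme.{u}) ≅ (V : Scheme.{u}) :=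
      IsOpenImmersion.isoOfRangeEq (W.ι ≫ f) V.ι (by rw [Scheme.Opens.range_ι]; rfl)
    have he : e.hom ≫ V.ι = W.ι ≫ f := IsOpenImmersion.isoOfRangeEq_hom_fac _ _ _
    refine ⟨V, ⟨⟨x, hxW⟩, rfl⟩, e.inv ≫ W.ι, ?_, ?_⟩
    · rw [Category.assoc, ← he, Iso.inv_hom_id_assoc]
    · have hx' : e.hom.base ⟨x, hxW⟩ = ⟨f.base x, ⟨⟨x, hxW⟩, rfl⟩⟩ := Subtype.ext congr($(he).base ⟨x, hxW⟩)
      rw [← hx', ← Scheme.Hom.comp_apply, Iso.hom_inv_id_assoc]
      rfl
  tfae_have 3 → 1 := by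
    rintro ⟨V, hV, σ, hσ, hσx⟩
    haveI := hiso
    let f' := morphismRestrict f V
    let σ' : (V : Scheme.{u}) ⟶ ((f ⁻¹ᵁ V : X.Opens) : Scheme.{u}) := IsOpenImmersion.lift (f ⁻¹ᵁ V).ι σ (by
      rw [Scheme.Opens.range_ι]; rintro - ⟨z, rfl⟩
      show f.base (σ.base z) ∈ V
      rw [← Scheme.Hom.comp_apply, hσ]
      exact z.2)
    have hσ' : σ' ≫ (f ⁻¹ᵁ V).ι = σ := IsOpenImmersion.lift_fac _ _ _
    have hsec : σ' ≫ f' = 𝟙 _ := by
      rw [← cancel_mono V.ι, Category.assoc, morphismRestrict_ι, reassoc_of% hσ', hσ, Category.id_comp]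
    have hiso' : IsIso (morphismRestrict f' (V.ι ⁻¹ᵁ U)) := by
      have h1 : MorphismProperty.isomorphisms Scheme.{u} (morphismRestrict f (V.ι ''ᵁ V.ι ⁻¹ᵁ U)) := by
        rw [Scheme.Hom.image_preimage_eq_opensRange_inf, Scheme.Opens.opensRange_ι]
        have h2 := IsZariskiLocalAtTarget.restrict (P := MorphismProperty.isomorphisms Scheme.{u})
          (f := morphismRestrict f U) (MorphismProperty.isomorphisms.iff _ |>.2 hiso) (U.ι ⁻¹ᵁ V)
        rw [(MorphismProperty.isomorphisms Scheme.{u}).arrow_mk_iso_iff (morphismRestrictRestrict f U (U.ι ⁻¹ᵁ V))] at h2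
        rw [Scheme.Hom.image_preimage_eq_opensRange_inf, Scheme.Opens.opensRange_ι, inf_comm] at h2
        exact h2
      exact ((MorphismProperty.isomorphisms Scheme.{u}).arrow_mk_iso_iff (morphismRestrictRestrict f V (V.ι ⁻¹ᵁ U))).2 h1
    have hd : CInt.IsSchematicallyDense (f' ⁻¹ᵁ V.ι ⁻¹ᵁ U) := by
      have : f' ⁻¹ᵁ V.ι ⁻¹ᵁ U = (f ⁻¹ᵁ V).ι ⁻¹ᵁ f ⁻¹ᵁ U := by
        rw [← Scheme.Hom.comp_preimage, morphismRestrict_ι, Scheme.Hom.comp_preimage]
      rw [this]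
      exact Groth.Agent.NeronMap.dense_preimage_ι hdense _
    obtain ⟨W, hxW, hW⟩ := nhd_of_section f' _ hiso' hd σ' hsec ⟨f.base x, hV⟩
    haveI := hW
    refine ⟨(f ⁻¹ᵁ V).ι ''ᵁ W, ⟨_, hxW, ?_⟩, ?_⟩
    · show ((σ' ≫ (f ⁻¹ᵁ V).ι).base _) = x
      rw [hσ', hσx]
    · have : ((f ⁻¹ᵁ V).ι ''ᵁ W).ι ≫ f =
          ((f ⁻¹ᵁ V).ι.isoImage W).inv ≫ W.ι ≫ f' ≫ V.ι := by
        rw [morphismRestrict_ι, Scheme.Hom.isoImage_inv_ι_assoc]
      rw [this, ← Category.assoc W.ι]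
      infer_instance
  tfae_finish

end Groth.Agent.S17728
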