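import Groth.Prelude.Def_DualGr
import Groth.Prelude.Def_CInt
import Mathlib.AlgebraicGeometry.Morphisms.Smooth
import Mathlib.AlgebraicGeometry.Morphisms.FiniteType
import Mathlib.AlgebraicGeometry.Restrict
import Mathlib.RingTheory.AdicCompletion.Basic
import Mathlib.RingTheory.Noetherian.Defs
import Groth.Agent.Lib.ThickNode3
-- import your own Groth.Agent.* helpers here

set_option autoImplicit false
set_option linter.style.haveILetI false
set_option backward.isDefEq.respectTransparency false
universe u
namespace DualGr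
end DualGr
open DualGr

namespace Groth.Agent.S17729

open CategoryTheory AlgebraicGeometry IsLocalRing in
/-- Let R be a complete Noetherian local ring and C → Spec R a morphism locally of finite type, smooth
over a schematically dense open subscheme U of Spec R. Let c be a point of C over the closed point
whose local ring is formally a node of thickness (a) over R for an element a of R: the completion of
the local ring at c is isomorphic, compatibly with R, to R̂[[x,y]]/(xy − a). Then a is a
non-zero-divisor in R. (The published statement is for a semistable curve over a locally Noetherian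
base and a non-smooth point over a separably closed field, with the node presentation supplied by
the local structure of such curves; it is stated here over the spectrum of a complete Noetherian
local ring with the node presentation as a hypothesis, the case to which the argument reduces, and
semistability plays no further role.) -/
theorem result
    (R : Type u) [CommRing R] [IsNoetherianRing R] [IsLocalRing R]
    [IsAdicComplete (maximalIdeal R) R]
    {C : Scheme.{u}} (f : C ⟶ Spec (CommRingCat.of R)) [LocallyOfFiniteType f]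
    (U : (Spec (CommRingCat.of R)).Opens) (hU : CInt.IsSchematicallyDense U)
    (hsm : Smooth (morphismRestrict f U))
    (c : C) (hc : f.base c = closedPoint R) (a : R)
    (hnode : DualGr.IsThickNode (DualGr.stalkHom f c) a) :
    a ∈ nonZeroDivisors R := by
  classical
  rw [mem_nonZeroDivisors_iff_right]
  intro t hta
  by_contra ht
  let X := Spec (CommRingCat.of R)
  let eR := Scheme.ΓSpecIso (CommRingCat.of R)
  let s : Γ(X, ⊤) := eR.inv t
  -- a basic open inside `U` on which `t` does not vanish
  obtain ⟨g, hgU, hgt⟩ : ∃ g : Γ(X, ⊤), X.basicOpen g ≤ U ∧ ∀ k : ℕ, g ^ k * s ≠ 0 := by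
    by_contra h
    push Not at h
    have hs0 : s = 0 := by
      refine hU ⊤ ?_
      rw [map_zero]
      refine X.IsSheaf.section_ext fun x hx => ?_
      obtain ⟨g, hgU, hxg⟩ := (isAffineOpen_top X).exists_basicOpen_le (V := U) ⟨x, hx.2⟩ trivial
      obtain ⟨k, hk⟩ := h g hgU
      have hle : X.basicOpen g ≤ ⊤ ⊓ U := le_inf le_top hgU
      refine ⟨X.basicOpen g, hle, hxg, ?_⟩
      haveI := (isAffineOpen_top X).isLocalization_basicOpen g
      rw [map_zero, ← CommRingCat.comp_apply, ← Functor.map_comp]
      show algebraMap Γ(X, ⊤) Γ(X, X.basicOpen g) s = 0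
      exact (IsLocalization.map_eq_zero_iff (Submonoid.powers g) _ _).2 ⟨⟨g ^ k, k, rfl⟩, hk⟩
    exact ht (by simpa [s] using congrArg eR.hom hs0)
  let g0 : R := eR.hom g
  have hgt' : g0 ∉ Ideal.radical ((⊥ : Ideal R).colon {t}) := fun ⟨k, hk⟩ => hgt k (by
    rw [Submodule.mem_colon_singleton, Submodule.mem_bot, smul_eq_mul] at hk
    have := congrArg eR.inv hk
    simp only [g0, map_mul, map_pow, map_zero] at this
    simpa [s] using this)
  rw [Ideal.radical_eq_sInf, Submodule.mem_sInf] at hgt'
  push Not at hgt'
  obtain ⟨p, ⟨hpann, hp⟩, hgp⟩ := hgt'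
  haveI := hp
  have hap : a ∈ p := hpann (Submodule.mem_colon_singleton.2 ((Submodule.mem_bot R).2 (by rw [smul_eq_mul, mul_comm]; exact hta)))
  -- an affine neighbourhood of the node
  obtain ⟨V, hV, hcV, -⟩ := exists_isAffineOpen_mem_and_subset (show c ∈ (⊤ : C.Opens) from trivial)
  let ψ : CommRingCat.of R ⟶ Γ(C, V) := eR.inv ≫ f.appLE ⊤ V le_top
  letI : Algebra R Γ(C, V) := ψ.hom.toAlgebra
  haveI : Algebra.FiniteType R Γ(C, V) :=
    (RingHom.FiniteType.comp (f.finiteType_appLE (isAffineOpen_top X) hV le_top) (RingHom.FiniteType.of_surjective _ eR.symm.commRingCatIsoToRingEquiv.surjective) : ψ.hom.FiniteType)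
  letI : Algebra Γ(C, V) (C.presheaf.stalk c) := (C.presheaf.germ V c hcV).hom.toAlgebra
  letI : Algebra R (C.presheaf.stalk c) := (DualGr.stalkHom f c).toAlgebra
  haveI : IsScalarTower R Γ(C, V) (C.presheaf.stalk c) := IsScalarTower.of_algebraMap_eq fun r => by
    show DualGr.stalkHom f c r = C.presheaf.germ V c hcV (ψ r)
    simp only [DualGr.stalkHom, Coh.toGlobal, ψ, RingHom.comp_apply, Scheme.Hom.appLE]
    exact (TopCat.Presheaf.germ_res_apply C.presheaf (homOfLE le_top) c hcV _).symm
  haveI := hV.isLocalization_stalk ⟨c, hcV⟩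
  let gS : Γ(C, V) := ψ g0
  let W := C.basicOpen gS
  have hW : IsAffineOpen W := hV.basicOpen gS
  have hWU : W ≤ f ⁻¹ᵁ U := by
    have h1 : gS = f.appLE ⊤ V le_top g := by simp [gS, ψ, g0]
    show C.basicOpen gS ≤ _
    rw [h1, Scheme.basicOpen_appLE]
    exact inf_le_right.trans (f.preimage_mono hgU)
  haveI hsmW : Smooth (W.ι ≫ f) := by
    haveI := hsm
    have : W.ι ≫ f = C.homOfLE hWU ≫ morphismRestrict f U ≫ U.ι := by
      rw [morphismRestrict_ι, Scheme.homOfLE_ι_assoc]
    rw [this]; infer_instance
  haveI := hV.isLocalization_basicOpen gS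
  letI : Algebra R Γ(C, W) := ((algebraMap Γ(C, V) Γ(C, W)).comp ψ.hom).toAlgebra
  haveI : IsScalarTower R Γ(C, V) Γ(C, W) := IsScalarTower.of_algebraMap_eq fun _ => rfl
  haveI : IsAffine (W : Scheme.{u}) := hW
  have h3 : Algebra.Smooth R Γ(C, W) := by
    rw [← RingHom.smooth_algebraMap]
    have h2 := (W.ι ≫ f).smooth_appLE (isAffineOpen_top X) (isAffineOpen_top (W : Scheme.{u})) (U := ⊤) (V := ⊤) le_top
    have h4 := (RingHom.Smooth.respectsIso.1 ((W.ι ≫ f).appLE ⊤ ⊤ le_top).hom W.topIso.commRingCatIsoToRingEquiv h2)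
    have h5 := RingHom.Smooth.respectsIso.2 _ eR.symm.commRingCatIsoToRingEquiv h4
    refine cast (congrArg RingHom.Smooth (?_ : _ = algebraMap R Γ(C, W))) h5
    refine RingHom.ext fun r => Eq.symm ?_
    show algebraMap R Γ(C, W) r = W.topIso.hom ((W.ι ≫ f).appLE ⊤ ⊤ le_top (eR.inv r))
    rw [IsScalarTower.algebraMap_apply R Γ(C, V) Γ(C, W)]
    show C.presheaf.map (homOfLE (C.basicOpen_le gS)).op (f.appLE ⊤ V le_top (eR.inv r)) = _
    rw [← CommRingCat.comp_apply, ← CommRingCat.comp_apply _ W.topIso.hom, Scheme.Hom.appLE_map,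
      Scheme.Hom.comp_appLE, Scheme.Opens.ι_appLE]
    simp only [Scheme.Opens.topIso, Scheme.Hom.appLE, Functor.mapIso_hom, Category.assoc, ← Functor.map_comp]
    rfl
  haveI := h3
  haveI : Algebra.Smooth R (Localization.Away (algebraMap R Γ(C, V) g0)) :=
    Algebra.Smooth.of_equiv ((IsLocalization.algEquiv (Submonoid.powers gS) Γ(C, W) (Localization.Away gS)).restrictScalars R)
  exact ThickNode3.false_of_smooth (hV.primeIdealOf ⟨c, hcV⟩).asIdeal (C.presheaf.stalk c) a hnode p hap g0 hgp inferInstance

end Groth.Agent.S17729
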