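import Groth.Statements.S17730
import Groth.Agent.Lib.BranchSm1.Apply

set_option autoImplicit false
universe u
open Hensel

namespace Groth.Agent.S17730

open IsLocalRing in
/-- Let R be a Noetherian local ring which is strictly henselian (henselian with separably closed
residue field), Δ a prime element of R, R' a smooth R-algebra, q a prime ideal of R' containing the
image of the maximal ideal of R, and T a strict henselization of the localization R'_q. Then the
image of Δ in T is a prime element of T. (This is the published statement, that a prime element of
the étale local ring of the base at a geometric point remains prime in the étale local ring of a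
smooth scheme over it at a geometric point above, written for the base the spectrum of R; the
published hypothesis that the base be smooth-factorial, meaning that all its smooth schemes are
locally factorial, is not used by the argument and is omitted; R is taken Noetherian, which the
published statement does not state and the argument requires.) -/
theorem result
    (R R' T : Type u) [CommRing R] [IsNoetherianRing R] [HenselianLocalRing R]
    [IsSepClosed (ResidueField R)]
    [CommRing R'] [Algebra R R'] [Algebra.Smooth R R']
    (q : Ideal R') [q.IsPrime] (hq : (maximalIdeal R).map (algebraMap R R') ≤ q)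
    [CommRing T] [IsLocalRing T] [Algebra (Localization.AtPrime q) T]
    [IsLocalHom (algebraMap (Localization.AtPrime q) T)]
    [Hensel.IsStrictHenselization (Localization.AtPrime q) T]
    (Δ : R) (hΔ : Prime Δ) :
    Prime (algebraMap (Localization.AtPrime q) T
      (algebraMap R' (Localization.AtPrime q) (algebraMap R R' Δ))) := by
  open TensorProduct IsLocalRing in
  letI : Algebra R T := (((algebraMap (Localization.AtPrime q) T).comp (algebraMap R' (Localization.AtPrime q))).comp (algebraMap R R')).toAlgebra
  haveI : IsScalarTower R (Localization.AtPrime q) T := IsScalarTower.of_algebraMap_eq fun r => by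
    rw [IsScalarTower.algebraMap_apply R R' (Localization.AtPrime q)]; rfl
  have hQ : q.comap (algebraMap R R') = maximalIdeal R :=
    le_antisymm (le_maximalIdeal (Ideal.IsPrime.comap _).ne_top) (Ideal.map_le_iff_le_comap.1 hq)
  haveI : IsLocalHom (algebraMap R T) := by
    refine ((local_hom_TFAE _).out 0 4).mpr ?_
    have h1 : (maximalIdeal T).comap (algebraMap (Localization.AtPrime q) T) = maximalIdeal _ :=
      ((local_hom_TFAE (algebraMap (Localization.AtPrime q) T)).out 0 4).mp ‹_›
    rw [IsScalarTower.algebraMap_eq R (Localization.AtPrime q) T, ← Ideal.comap_comap, h1,
      IsScalarTower.algebraMap_eq R R' (Localization.AtPrime q), ← Ideal.comap_comap]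
    show ((maximalIdeal _).under R').comap _ = _
    rw [IsLocalization.AtPrime.under_maximalIdeal (Localization.AtPrime q) q]
    exact hQ
  obtain ⟨hinj, hprime⟩ := Groth.Agent.BranchSm1.isPrime_map_of_smooth R R' q hQ T (Or.inr inferInstance)
    fun N _ _ _ _ hN => by
      haveI := hN
      haveI := Groth.Agent.BranchSm1.isPurelyInseparable_residue_of_isSepClosed R N
      obtain ⟨hloc, -⟩ := Groth.Agent.Hens.isLocalRing_tensor_of_purelyInseparable R N T
      exact hloc
  show Prime (algebraMap R T Δ)
  have h := hprime (Ideal.span {Δ}) ((Ideal.span_singleton_prime hΔ.ne_zero).2 hΔ)
  rw [Ideal.map_span, Set.image_singleton] at h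
  exact (Ideal.span_singleton_prime ((map_ne_zero_iff _ hinj).2 hΔ.ne_zero)).1 h

end Groth.Agent.S17730
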