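import Groth.Statements.S17731


set_option autoImplicit false
universe u
open Neron

namespace Groth.Agent.S17731

open Groth.Agent CategoryTheory AlgebraicGeometry

/-- Composition with `g`. -/
noncomputable def push {S S' : Scheme.{u}} (g : S' ⟶ S) {Y' : Over S'} {N : Over S}
    (f : Y' ⟶ (Over.pullback g).obj N) : Over.mk (Y'.hom ≫ g) ⟶ N :=
  Over.homMk (f.left ≫ Limits.pullback.fst N.hom g) (by
    show (f.left ≫ Limits.pullback.fst N.hom g) ≫ N.hom = Y'.hom ≫ g
    rw [Category.assoc, Limits.pullback.condition, ← Category.assoc]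
    congr 1
    exact Over.w f)

theorem push_injective {S S' : Scheme.{u}} (g : S' ⟶ S) {Y' : Over S'} {N : Over S} :
    Function.Injective (push g (Y' := Y') (N := N)) := by
  intro a b h
  ext1
  refine Limits.pullback.hom_ext ?_ ?_
  · exact congr(($h).left)
  · exact (Over.w a).trans (Over.w b).symm

/-- The comparison between the two restrictions. -/
noncomputable def cmp {S S' : Scheme.{u}} (g : S' ⟶ S) (U : S.Opens) (Y' : Over S') :
    Limits.pullback (Y'.hom ≫ g) U.ι ⟶ Limits.pullback Y'.hom (g ⁻¹ᵁ U).ι :=
  Limits.pullback.lift (Limits.pullback.fst _ _)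
    ((isPullback_morphismRestrict g U).flip.lift (Limits.pullback.fst _ _ ≫ Y'.hom) (Limits.pullback.snd _ _)
      (by rw [Category.assoc, Limits.pullback.condition]))
    (IsPullback.lift_fst _ _ _ _).symm

noncomputable def cmpInv {S S' : Scheme.{u}} (g : S' ⟶ S) (U : S.Opens) (Y' : Over S') :
    Limits.pullback Y'.hom (g ⁻¹ᵁ U).ι ⟶ Limits.pullback (Y'.hom ≫ g) U.ι :=
  Limits.pullback.lift (Limits.pullback.fst _ _) (Limits.pullback.snd _ _ ≫ (g ∣_ U)) (by
    rw [Category.assoc, morphismRestrict_ι, Limits.pullback.condition_assoc])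

theorem cmp_fst {S S' : Scheme.{u}} (g : S' ⟶ S) (U : S.Opens) (Y' : Over S') :
    cmp g U Y' ≫ Limits.pullback.fst _ _ = Limits.pullback.fst _ _ := Limits.pullback.lift_fst _ _ _

theorem isIso_cmp {S S' : Scheme.{u}} (g : S' ⟶ S) (U : S.Opens) (Y' : Over S') : IsIso (cmp g U Y') := by
  refine ⟨cmpInv g U Y', ?_, ?_⟩
  · apply Limits.pullback.hom_ext
    · unfold cmp cmpInv
      rw [Category.assoc, Limits.pullback.lift_fst, Limits.pullback.lift_fst, Category.id_comp]
    · unfold cmp cmpInv
      rw [Category.assoc, Limits.pullback.lift_snd, ← Category.assoc, Limits.pullback.lift_snd, Category.id_comp]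
      exact IsPullback.lift_snd _ _ _ _
  · apply Limits.pullback.hom_ext
    · unfold cmp cmpInv
      rw [Category.assoc, Limits.pullback.lift_fst, Limits.pullback.lift_fst, Category.id_comp]
    · unfold cmp cmpInv
      rw [Category.assoc, Limits.pullback.lift_snd, Category.id_comp]
      apply (isPullback_morphismRestrict g U).flip.hom_ext
      · rw [Category.assoc, IsPullback.lift_fst, ← Category.assoc, Limits.pullback.lift_fst, Limits.pullback.condition]
      · rw [Category.assoc, IsPullback.lift_snd, Limits.pullback.lift_snd]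

theorem map_push_left {S S' : Scheme.{u}} (g : S' ⟶ S) (U : S.Opens) {Y' : Over S'} {N : Over S}
    (a : Y' ⟶ (Over.pullback g).obj N) :
    ((Over.pullback U.ι).map (push g a)).left ≫ Limits.pullback.fst N.hom U.ι =
      cmp g U Y' ≫ ((Over.pullback (g ⁻¹ᵁ U).ι).map a).left ≫
        Limits.pullback.fst ((Over.pullback g).obj N).hom (g ⁻¹ᵁ U).ι ≫ Limits.pullback.fst N.hom g := by
  rw [show ((Over.pullback U.ι).map (push g a)).left ≫ Limits.pullback.fst N.hom U.ι =
    Limits.pullback.fst (Y'.hom ≫ g) U.ι ≫ a.left ≫ Limits.pullback.fst N.hom g from Limits.pullback.lift_fst _ _ _]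
  have h : ((Over.pullback (g ⁻¹ᵁ U).ι).map a).left ≫ Limits.pullback.fst ((Over.pullback g).obj N).hom (g ⁻¹ᵁ U).ι =
      Limits.pullback.fst Y'.hom (g ⁻¹ᵁ U).ι ≫ a.left := Limits.pullback.lift_fst _ _ _
  rw [reassoc_of% h, ← Category.assoc, ← Category.assoc, ← Category.assoc, cmp_fst]


open CategoryTheory AlgebraicGeometry in
/-- Let S be a scheme, U ⊆ S a schematically dense open subscheme and N → S a smooth S-scheme having
uniqueness in the Néron mapping property with respect to U: for every smooth S-scheme Y, restriction
to U is injective on S-morphisms Y → N. Then for every smooth morphism g : S' → S the base change N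
×_S S' → S' has uniqueness in the Néron mapping property with respect to g⁻¹(U): for every smooth
S'-scheme Y', restriction to g⁻¹(U) is injective on S'-morphisms Y' → N ×_S S'. (The published
statement is for models which are algebraic spaces, tested against smooth algebraic spaces; this row
states the case of a scheme model tested against smooth schemes. The companion assertion that Néron
models are preserved by smooth base change is not restated here.) -/
theorem result
    {S S' : Scheme.{u}} (g : S' ⟶ S) [Smooth g]
    (U : S.Opens) (hU : CInt.IsSchematicallyDense U) (N : Over S) [Smooth N.hom]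
    (hN : ∀ Y : Over S, Smooth Y.hom →
      Function.Injective (fun f : Y ⟶ N => (Over.pullback U.ι).map f))
    (Y' : Over S') [Smooth Y'.hom] :
    Function.Injective (fun f : Y' ⟶ (Over.pullback g).obj N => (Over.pullback (g ⁻¹ᵁ U).ι).map f) := by
  intro a b hab
  apply push_injective g
  haveI : Smooth (Over.mk (Y'.hom ≫ g)).hom := inferInstanceAs (Smooth (Y'.hom ≫ g))
  refine (hN _ inferInstance) ?_
  ext1
  refine Limits.pullback.hom_ext ?_ ((Over.w _).trans (Over.w _).symm)
  rw [map_push_left, map_push_left]
  simp only at hab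
  rw [hab]

end Groth.Agent.S17731
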