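import Groth.Statements.S17732
import Mathlib
import Groth.Agent.Lib.WeakAss18.Mero

set_option autoImplicit false
universe u
open CDiv

namespace Groth.Agent.S17732


open AlgebraicGeometry in
/-- The stalk of an ideal sheaf, computed on any affine neighbourhood. -/
theorem Groth.Agent.S17732.map_germ_eq {X : Scheme} (D : X.IdealSheafData) {U V : X.affineOpens} {y : X}
    (hU : y ∈ U.1) (hV : y ∈ V.1) :
    (D.ideal U).map (X.presheaf.germ U.1 y hU).hom = (D.ideal V).map (X.presheaf.germ V.1 y hV).hom := by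
  obtain ⟨W, hW, hyW, hle'⟩ := AlgebraicGeometry.exists_isAffineOpen_mem_and_subset (U := U.1 ⊓ V.1) (x := y) ⟨hU, hV⟩
  have hle : W ≤ U.1 ⊓ V.1 := hle'
  have h : ∀ (T : X.affineOpens) (hWT : W ≤ T.1),
      (D.ideal T).map (X.presheaf.germ T.1 y (hWT hyW)).hom =
        (D.ideal ⟨W, hW⟩).map (X.presheaf.germ W y hyW).hom := by
    intro T hWT
    rw [← D.map_ideal (U := ⟨W, hW⟩) (V := T) hWT, Ideal.map_map, ← CommRingCat.hom_comp]
    erw [TopCat.Presheaf.germ_res]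
  exact (h U (hle.trans inf_le_left)).trans (h V (hle.trans inf_le_right)).symm

theorem Groth.Agent.S17732.pow_inj {R : Type*} [CommRing R] {a : R} (ha : a ∈ nonZeroDivisors R) (hu : ¬ IsUnit a)
    {i j : ℕ} (h : Ideal.span {a} ^ i = Ideal.span {a} ^ j) : i = j := by
  wlog hij : i ≤ j generalizing i j
  · exact (this h.symm (le_of_not_ge hij)).symm
  by_contra hne
  obtain ⟨d, rfl⟩ := Nat.exists_eq_add_of_le hij
  rw [Ideal.span_singleton_pow, Ideal.span_singleton_pow] at h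
  obtain ⟨c, hc⟩ := Ideal.mem_span_singleton'.1 (h ▸ Ideal.mem_span_singleton_self (a ^ i) :
    a ^ i ∈ Ideal.span {a ^ (i + d)})
  have h1 : (c * a ^ d - 1) * a ^ i = 0 := by rw [sub_mul, one_mul, mul_assoc, ← pow_add, add_comm d i, hc, sub_self]
  rw [mul_right_mem_nonZeroDivisors_eq_zero_iff (pow_mem ha i), sub_eq_zero] at h1
  have hd : d ≠ 0 := fun h => hne (by omega)
  exact hu (isUnit_pow_iff hd |>.1 (IsUnit.of_mul_eq_one c ((mul_comm _ _).trans h1)))


open AlgebraicGeometry in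
/-- Let X be a Noetherian scheme and D, E effective Cartier divisors on X, encoded by their ideal
sheaves, each locally generated on an affine open by a single non-zero-divisor. Assume that the
union of the supports of D and E is connected (or empty) and that every point of X has an affine
open neighbourhood on which the m-th power of the ideal of D equals the n-th power of the ideal of E
for some (m, n) ≠ (0, 0). Then there is a pair (m, n) ≠ (0, 0) for which this equality holds on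
every affine open of X, that is, m D = n E globally. -/
theorem result
    (X : Scheme.{u}) [IsNoetherian X] (D E : X.IdealSheafData)
    (hD : (∀ x : X, ∃ U : X.affineOpens, x ∈ (U : X.Opens) ∧ ∃ g : Γ(X, U), g ∈ nonZeroDivisors Γ(X, U) ∧ D.ideal U = Ideal.span {g}))
    (hE : (∀ x : X, ∃ U : X.affineOpens, x ∈ (U : X.Opens) ∧ ∃ g : Γ(X, U), g ∈ nonZeroDivisors Γ(X, U) ∧ E.ideal U = Ideal.span {g}))
    (hconn : IsPreconnected ((D.support : Set X) ∪ (E.support : Set X)))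
    (hloc : ∀ x : X, ∃ U : X.affineOpens, x ∈ (U : X.Opens) ∧
      ∃ m n : ℕ, (m, n) ≠ (0, 0) ∧ D.ideal U ^ m = E.ideal U ^ n) :
    ∃ m n : ℕ, (m, n) ≠ (0, 0) ∧ ∀ U : X.affineOpens, D.ideal U ^ m = E.ideal U ^ n := by
  classical
  choose U hxU m n hmn0 hmn using hloc
  let mn : X → ℕ × ℕ := fun x => (m x, n x)
  have hmn0 : ∀ x, mn x ≠ (0, 0) := hmn0
  have hmn : ∀ x, D.ideal (U x) ^ (mn x).1 = E.ideal (U x) ^ (mn x).2 := hmn
  let S : Set X := (D.support : Set X) ∪ (E.support : Set X)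
  have hDy : ∀ y : X, ∃ a : X.presheaf.stalk y, a ∈ nonZeroDivisors (X.presheaf.stalk y) ∧
      (∀ V : X.affineOpens, ∀ hV : y ∈ V.1, (D.ideal V).map (X.presheaf.germ V.1 y hV).hom = Ideal.span {a}) ∧
      (y ∈ (D.support : Set X) → ¬ IsUnit a) := by
    intro y
    obtain ⟨V, hyV, g, hg, hI⟩ := hD y
    have hreg := Groth.Agent.WA.mem_regSub_of_nonZeroDivisors V.2 hg
    refine ⟨X.presheaf.germ V.1 y hyV g, hreg ⟨y, hyV⟩, fun V' hV' => ?_, fun hy hu => ?_⟩
    · rw [Groth.Agent.S17732.map_germ_eq D hV' hyV, hI, Ideal.map_span, Set.image_singleton]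
    · rw [SetLike.mem_coe, Scheme.IdealSheafData.mem_support_iff_of_mem (U := V) hyV, Scheme.mem_zeroLocus_iff] at hy
      exact hy g (hI ▸ Ideal.mem_span_singleton_self g) ((X.mem_basicOpen g y hyV).2 hu)
  have hEy : ∀ y : X, ∃ a : X.presheaf.stalk y, a ∈ nonZeroDivisors (X.presheaf.stalk y) ∧
      (∀ V : X.affineOpens, ∀ hV : y ∈ V.1, (E.ideal V).map (X.presheaf.germ V.1 y hV).hom = Ideal.span {a}) ∧
      (y ∈ (E.support : Set X) → ¬ IsUnit a) := by
    intro y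
    obtain ⟨V, hyV, g, hg, hI⟩ := hE y
    have hreg := Groth.Agent.WA.mem_regSub_of_nonZeroDivisors V.2 hg
    refine ⟨X.presheaf.germ V.1 y hyV g, hreg ⟨y, hyV⟩, fun V' hV' => ?_, fun hy hu => ?_⟩
    · rw [Groth.Agent.S17732.map_germ_eq E hV' hyV, hI, Ideal.map_span, Set.image_singleton]
    · rw [SetLike.mem_coe, Scheme.IdealSheafData.mem_support_iff_of_mem (U := V) hyV, Scheme.mem_zeroLocus_iff] at hy
      exact hy g (hI ▸ Ideal.mem_span_singleton_self g) ((X.mem_basicOpen g y hyV).2 hu)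
  choose a ha haD hau using hDy
  choose b hb hbE hbu using hEy
  have hrel : ∀ (x y : X), y ∈ (U x).1 → Ideal.span {a y} ^ (mn x).1 = Ideal.span {b y} ^ (mn x).2 := by
    intro x y hy
    have h1 := congrArg (Ideal.map (X.presheaf.germ (U x).1 y hy).hom) (hmn x)
    rwa [Ideal.map_pow, Ideal.map_pow, haD y _ hy, hbE y _ hy] at h1
  have huniq : ∀ x x' y, y ∈ (U x).1 → y ∈ (U x').1 → y ∈ S → (mn x).1 * (mn x').2 = (mn x').1 * (mn x).2 := by
    intro x x' y hy hy' hyS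
    have e1 := hrel x y hy
    have e2 := hrel x' y hy'
    rcases hyS with h | h
    · refine Groth.Agent.S17732.pow_inj (ha y) (hau y h) ?_
      rw [pow_mul, e1, pow_mul, e2, ← pow_mul, ← pow_mul, mul_comm]
    · have h3 : (mn x).2 * (mn x').1 = (mn x').2 * (mn x).1 := by
        refine Groth.Agent.S17732.pow_inj (hb y) (hbu y h) ?_
        rw [pow_mul, ← e1, pow_mul, ← e2, ← pow_mul, ← pow_mul, mul_comm]
      linarith
  have htop : ∀ x, (∀ y ∈ (U x).1, y ∉ S) → D.ideal (U x) = ⊤ ∧ E.ideal (U x) = ⊤ := by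
    intro x hx
    have h0 : ∀ J : X.IdealSheafData, (∀ y ∈ (U x).1, y ∉ (J.support : Set X)) → J.ideal (U x) = ⊤ := by
      intro J hJ
      by_contra hne
      obtain ⟨M, hM, hJM⟩ := Ideal.exists_le_maximal _ hne
      let y := (U x).2.fromSpec ⟨M, hM.isPrime⟩
      have hyU : y ∈ (U x).1 := (U x).2.range_fromSpec.le ⟨_, rfl⟩
      refine hJ y hyU ?_
      rw [SetLike.mem_coe, Scheme.IdealSheafData.mem_support_iff_of_mem (U := U x) hyU, Scheme.mem_zeroLocus_iff]
      intro r hr hmem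
      have h1 := (Groth.Agent.M1.isUnit_germ_iff (U x).2 hyU r).1 ((X.mem_basicOpen r y hyU).1 hmem)
      rw [(U x).2.fromSpec.isOpenEmbedding.injective ((U x).2.fromSpec_primeIdealOf ⟨y, hyU⟩)] at h1
      exact h1 (hJM hr)
    exact ⟨h0 D fun y hy h => hx y hy (Or.inl h), h0 E fun y hy h => hx y hy (Or.inr h)⟩
  -- the common ratio
  obtain ⟨p, hp0, hp⟩ : ∃ p : ℕ × ℕ, p ≠ (0, 0) ∧ ∀ x y, y ∈ (U x).1 → y ∈ S →
      (mn x).1 * p.2 = p.1 * (mn x).2 := by
    rcases S.eq_empty_or_nonempty with hS | ⟨y₀, hy₀⟩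
    · exact ⟨(1, 1), by simp, fun x y _ hy => absurd hy (hS ▸ Set.notMem_empty y)⟩
    refine ⟨mn y₀, hmn0 y₀, fun x y hy hyS => ?_⟩
    let P : Set X := ⋃ z ∈ {z | (mn z).1 * (mn y₀).2 = (mn y₀).1 * (mn z).2}, ((U z).1 : Set X)
    let Q : Set X := ⋃ z ∈ {z | ¬ (mn z).1 * (mn y₀).2 = (mn y₀).1 * (mn z).2}, ((U z).1 : Set X)
    by_contra hne
    have h1 := hconn P Q (isOpen_biUnion fun z _ => (U z).1.isOpen) (isOpen_biUnion fun z _ => (U z).1.isOpen)
      (fun z hz => by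
        by_cases h : (mn z).1 * (mn y₀).2 = (mn y₀).1 * (mn z).2
        · exact Or.inl (Set.mem_iUnion₂.2 ⟨z, h, hxU z⟩)
        · exact Or.inr (Set.mem_iUnion₂.2 ⟨z, h, hxU z⟩))
      ⟨y₀, hy₀, Set.mem_iUnion₂.2 ⟨y₀, mul_comm _ _ |>.trans (mul_comm _ _) , hxU y₀⟩⟩
      ⟨y, hyS, Set.mem_iUnion₂.2 ⟨x, hne, hy⟩⟩
    obtain ⟨z, hzS, hzP, hzQ⟩ := h1
    obtain ⟨z₁, hz₁, hzU₁⟩ := Set.mem_iUnion₂.1 hzP
    obtain ⟨z₂, hz₂, hzU₂⟩ := Set.mem_iUnion₂.1 hzQ
    have h2 := huniq z₁ z₂ z hzU₁ hzU₂ hzS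
    refine hz₂ ?_
    simp only [Set.mem_setOf_eq] at hz₁
    have hs : 0 < (mn z₁).1 + (mn z₁).2 := by
      by_contra h
      exact hmn0 z₁ (Prod.ext (by omega) (by omega))
    refine Nat.eq_of_mul_eq_mul_left hs ?_
    nlinarith
  obtain ⟨T, hT⟩ := isCompact_univ.elim_finite_subcover (fun x : X => ((U x).1 : Set X)) (fun x => (U x).1.isOpen)
    (fun x _ => Set.mem_iUnion.2 ⟨x, hxU x⟩)
  let L := ∏ x ∈ T, ((mn x).1 + (mn x).2)
  have hspos : ∀ x, 0 < (mn x).1 + (mn x).2 := fun x => by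
    by_contra h
    exact hmn0 x (Prod.ext (by omega) (by omega))
  have hL : 0 < L := Finset.prod_pos fun x _ => hspos x
  refine ⟨p.1 * L, p.2 * L, fun h => hp0 ?_, ?_⟩
  · rw [Prod.mk.injEq] at h
    exact Prod.ext ((mul_eq_zero.1 h.1).resolve_right hL.ne') ((mul_eq_zero.1 h.2).resolve_right hL.ne')
  have hfin : D ^ (p.1 * L) = E ^ (p.2 * L) := by
    refine Scheme.IdealSheafData.ext_of_iSup_eq_top (fun x : T => U x.1)
      (eq_top_iff.2 fun z _ => ?_) fun x => ?_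
    · obtain ⟨x, hx, hz⟩ := Set.mem_iUnion₂.1 (hT (Set.mem_univ z))
      exact TopologicalSpace.Opens.mem_iSup.2 ⟨⟨x, hx⟩, hz⟩
    rw [Scheme.IdealSheafData.ideal_pow, Scheme.IdealSheafData.ideal_pow]
    simp only [Pi.pow_apply]
    by_cases hne : ∃ y ∈ (U x.1).1, y ∈ S
    · obtain ⟨y, hy, hyS⟩ := hne
      obtain ⟨q, hq⟩ : (mn x.1).1 + (mn x.1).2 ∣ L := Finset.dvd_prod_of_mem _ x.2
      have h1 := hp x.1 y hy hyS
      have e1 : p.1 * L = (mn x.1).1 * (q * (p.1 + p.2)) := by rw [hq]; linear_combination q * h1.symm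
      have e2 : p.2 * L = (mn x.1).2 * (q * (p.1 + p.2)) := by rw [hq]; linear_combination q * h1
      rw [e1, e2, pow_mul, hmn x.1, ← pow_mul]
    · push Not at hne
      obtain ⟨h1, h2⟩ := htop x.1 hne
      rw [h1, h2, Ideal.top_pow, Ideal.top_pow]
  intro V
  have h := congrArg (fun I : X.IdealSheafData => I.ideal V) hfin
  simpa [Scheme.IdealSheafData.ideal_pow] using h

end Groth.Agent.S17732
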