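import Groth.Statements.S17733
import Mathlib
import Groth.Agent.Lib.EffCartier.Comap
import Groth.Agent.Lib.MeroLib.Extend

set_option autoImplicit false
universe u
open CDiv

namespace Groth.Agent.S17733


theorem Groth.Agent.S17733.dvd_of_eval_zero {R : Type*} [CommRing R] [IsDomain R] [IsIntegrallyClosed R]
    (g h : R) (hh : h ≠ 0) (n : ℕ) (a : ℕ → R)
    (hsum : g ^ n + ∑ i ∈ Finset.range n, a i * g ^ i * h ^ (n - i) = 0) : h ∣ g := by
  let K := FractionRing R
  let q : K := algebraMap R K g / algebraMap R K h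
  have hh' : algebraMap R K h ≠ 0 := (map_ne_zero_iff _ (IsFractionRing.injective R K)).2 hh
  have hdeg : (∑ i ∈ Finset.range n, Polynomial.C (a i) * Polynomial.X ^ i).degree < (n : WithBot ℕ) := by
    rw [Finset.sum_range]
    exact Polynomial.degree_sum_fin_lt fun i : Fin n => a i
  have hint : IsIntegral R q := by
    refine ⟨Polynomial.X ^ n + ∑ i ∈ Finset.range n, Polynomial.C (a i) * Polynomial.X ^ i,
      Polynomial.monic_X_pow_add hdeg, ?_⟩
    rw [Polynomial.eval₂_add, Polynomial.eval₂_X_pow, Polynomial.eval₂_finsetSum]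
    simp only [Polynomial.eval₂_mul, Polynomial.eval₂_C, Polynomial.eval₂_X_pow]
    have hq : q * algebraMap R K h = algebraMap R K g := div_mul_cancel₀ _ hh'
    refine (mul_eq_zero.1 (?_ : _ * algebraMap R K h ^ n = 0)).resolve_right (pow_ne_zero _ hh')
    have h0 := congrArg (algebraMap R K) hsum
    rw [map_zero, map_add, map_pow, map_sum] at h0
    simp only [map_mul, map_pow] at h0
    rw [← h0, add_mul, ← mul_pow, hq, Finset.sum_mul]
    refine congrArg _ (Finset.sum_congr rfl fun i hi => ?_)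
    have hin : i + (n - i) = n := Nat.add_sub_cancel' (Finset.mem_range.1 hi).le
    calc algebraMap R K (a i) * q ^ i * algebraMap R K h ^ n
        = algebraMap R K (a i) * q ^ i * algebraMap R K h ^ (i + (n - i)) := by rw [hin]
      _ = _ := by rw [← hq, mul_pow, pow_add]; ring
  obtain ⟨r, hr⟩ := IsIntegrallyClosed.algebraMap_eq_of_integral hint
  exact ⟨r, IsFractionRing.injective R K (by rw [map_mul, hr, mul_div_cancel₀ _ hh'])⟩

open CategoryTheory AlgebraicGeometry in
theorem Groth.Agent.S17733.isIntegral_of_eq {S S' : Scheme} (f : S' ⟶ S) {W V : S.Opens} (e : W = V)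
    {Z : CommRingCat} {i : Γ(S', f ⁻¹ᵁ W) ⟶ Z} (h : (f.app W ≫ i).hom.IsIntegral) (hi : IsIso i) :
    (f.app V).hom.IsIntegral := by
  subst e
  intro x
  obtain ⟨P, hP, h0⟩ := h (i.hom x)
  refine ⟨P, hP, (ConcreteCategory.bijective_of_isIso i).1 ?_⟩
  change i.hom (Polynomial.eval₂ (f.app W).hom x P) = i.hom 0
  rw [Polynomial.hom_eval₂, map_zero]
  exact h0


open CategoryTheory AlgebraicGeometry in
/-- Let S be a locally Noetherian normal scheme (every local ring an integrally closed domain), f : S' →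
S a proper morphism whose scheme-theoretic image is S (its kernel ideal sheaf is zero), and U ⊆ S a
schematically dense open subscheme such that f⁻¹(U) is also schematically dense in S'. Suppose D and
E are effective Cartier divisors of S, encoded by ideal sheaves each locally generated on an affine
open by one non-zero-divisor, with supports disjoint from U. If the pulled-back ideal sheaves of D
and E along f coincide, then D = E. -/
theorem result
    {S S' : Scheme.{u}} [IsLocallyNoetherian S]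
    (hnorm : ∀ x : S, IsDomain (S.presheaf.stalk x) ∧ IsIntegrallyClosed (S.presheaf.stalk x))
    (f : S' ⟶ S) [IsProper f] (hdom : f.ker = ⊥)
    (U : S.Opens) (hU : CInt.IsSchematicallyDense U) (hU' : CInt.IsSchematicallyDense (f ⁻¹ᵁ U))
    (D E : S.IdealSheafData)
    (hD : (∀ x : S, ∃ U : S.affineOpens, x ∈ (U : S.Opens) ∧ ∃ g : Γ(S, U), g ∈ nonZeroDivisors Γ(S, U) ∧ D.ideal U = Ideal.span {g}))
    (hE : (∀ x : S, ∃ U : S.affineOpens, x ∈ (U : S.Opens) ∧ ∃ g : Γ(S, U), g ∈ nonZeroDivisors Γ(S, U) ∧ E.ideal U = Ideal.span {g}))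
    (hDU : (D.support : Set S) ⊆ (U : Set S)ᶜ) (hEU : (E.support : Set S) ⊆ (U : Set S)ᶜ)
    (h : D.comap f = E.comap f) : D = E := by
  classical
  have key : ∀ (A B : S.IdealSheafData)
      (hA : ∀ x : S, ∃ U : S.affineOpens, x ∈ (U : S.Opens) ∧ ∃ g : Γ(S, U), g ∈ nonZeroDivisors Γ(S, U) ∧ A.ideal U = Ideal.span {g})
      (hB : ∀ x : S, ∃ U : S.affineOpens, x ∈ (U : S.Opens) ∧ ∃ g : Γ(S, U), g ∈ nonZeroDivisors Γ(S, U) ∧ B.ideal U = Ideal.span {g})
      (hBU : (B.support : Set S) ⊆ (U : Set S)ᶜ) (hAB : A.comap f = B.comap f), A ≤ B := by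
    intro A B hA hB hBU hAB
    choose UA hUA gA hgA hAI using hA
    choose UB hUB gB hgB hBI using hB
    choose W hW hxW hWle using fun x : S => AlgebraicGeometry.exists_isAffineOpen_mem_and_subset
      (U := (UA x).1 ⊓ (UB x).1) (x := x) ⟨hUA x, hUB x⟩
    refine Scheme.IdealSheafData.le_of_iSup_eq_top (fun x : S => (⟨W x, hW x⟩ : S.affineOpens))
      (eq_top_iff.2 fun x _ => TopologicalSpace.Opens.mem_iSup.2 ⟨x, hxW x⟩) fun x => ?_
    have hWA : W x ≤ (UA x).1 := fun y hy => (hWle x hy).1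
    have hWB : W x ≤ (UB x).1 := fun y hy => (hWle x hy).2
    let g : Γ(S, W x) := S.presheaf.map (homOfLE hWA).op (gA x)
    let h : Γ(S, W x) := S.presheaf.map (homOfLE hWB).op (gB x)
    have hAW : A.ideal ⟨W x, hW x⟩ = Ideal.span {g} := by
      rw [← A.map_ideal (U := ⟨W x, hW x⟩) (V := UA x) hWA, hAI x, Ideal.map_span, Set.image_singleton]; rfl
    have hBW : B.ideal ⟨W x, hW x⟩ = Ideal.span {h} := by
      rw [← B.map_ideal (U := ⟨W x, hW x⟩) (V := UB x) hWB, hBI x, Ideal.map_span, Set.image_singleton]; rfl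
    have hhreg : h ∈ Mero.regSub S (W x) := Mero.regSub_res _
      (Groth.Agent.WA.mem_regSub_of_nonZeroDivisors (UB x).2 (hgB x))
    rw [hAW, hBW, Ideal.span_singleton_le_iff_mem, Ideal.mem_span_singleton]
    -- pulled back equations
    let φ := f.app (W x)
    have hunit : ∀ (y : S') (hy : y ∈ f ⁻¹ᵁ W x), f y ∈ U → IsUnit (S'.presheaf.germ (f ⁻¹ᵁ W x) y hy (φ h)) := by
      intro y hy hyU
      refine (Groth.Agent.WA.isUnit_germ_app f hy h).2 ?_
      by_contra hu
      have hmem : f y ∈ (B.support : Set S) := by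
        rw [SetLike.mem_coe, Scheme.IdealSheafData.mem_support_iff_of_mem (U := ⟨W x, hW x⟩) hy, hBW,
          Scheme.zeroLocus_span, Scheme.mem_zeroLocus_iff]
        intro r hr hmem
        rw [Set.mem_singleton_iff.1 hr, S.mem_basicOpen h (f y) hy] at hmem
        exact hu hmem
      exact hBU hmem hyU
    have hreg : φ h ∈ Mero.regSub S' (f ⁻¹ᵁ W x) := by
      rintro ⟨y, hy⟩
      rw [mem_nonZeroDivisors_iff_right]
      intro z hz
      obtain ⟨V₀, hyV₀, c, rfl⟩ := S'.presheaf.exists_germ_eq z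
      have h0 : S'.presheaf.germ (V₀ ⊓ f ⁻¹ᵁ W x) y ⟨hyV₀, hy⟩ (S'.presheaf.map (homOfLE inf_le_left).op c *
          S'.presheaf.map (homOfLE inf_le_right).op (φ h)) = S'.presheaf.germ (V₀ ⊓ f ⁻¹ᵁ W x) y ⟨hyV₀, hy⟩ 0 := by
        rw [map_mul, TopCat.Presheaf.germ_res_apply, TopCat.Presheaf.germ_res_apply, map_zero]
        exact hz
      obtain ⟨V, hyV, i, i', e⟩ := S'.presheaf.germ_eq y _ _ _ _ h0
      have hc : S'.presheaf.map (homOfLE (i.le.trans inf_le_left)).op c = 0 := by
        refine hU' V ?_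
        rw [map_zero]
        refine TopCat.Presheaf.section_ext S'.sheaf _ _ 0 fun w hw => ?_
        change S'.presheaf.germ _ w hw (S'.presheaf.map _ (S'.presheaf.map _ c)) = S'.presheaf.germ _ w hw 0
        have e' := congrArg (S'.presheaf.germ V w hw.1) e
        rw [TopCat.Presheaf.germ_res_apply, TopCat.Presheaf.germ_res_apply, map_mul,
          TopCat.Presheaf.germ_res_apply, TopCat.Presheaf.germ_res_apply, map_zero] at e'
        rw [TopCat.Presheaf.germ_res_apply, TopCat.Presheaf.germ_res_apply, map_zero]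
        exact (hunit w (inf_le_right (a := V₀) (i.le hw.1)) hw.2).mul_left_eq_zero.1 e'
      rw [← S'.presheaf.germ_res_apply (homOfLE (i.le.trans inf_le_left)) y hyV c, hc, map_zero]
    let k : Γ(Mero.kmod S', f ⁻¹ᵁ W x) :=
      Mero.toK S' _ (φ g) * ((Groth.Agent.MeroLib.regU (φ h) hreg)⁻¹ : (Γ(Mero.kmod S', f ⁻¹ᵁ W x))ˣ)
    obtain ⟨u, hu⟩ := Groth.Agent.MeroLib.exists_section k fun y => by
      obtain ⟨V, hV, hyV, hVle⟩ := AlgebraicGeometry.exists_isAffineOpen_mem_and_subset (U := f ⁻¹ᵁ W x) y.2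
      have h1 := Groth.Agent.EffCartier.comap_ideal A f ⟨W x, hW x⟩ ⟨V, hV⟩ hVle
      have h2 := Groth.Agent.EffCartier.comap_ideal B f ⟨W x, hW x⟩ ⟨V, hV⟩ hVle
      rw [hAB, hAW, Ideal.map_span, Set.image_singleton, h2, hBW, Ideal.map_span, Set.image_singleton] at h1
      obtain ⟨c, hc⟩ := Ideal.mem_span_singleton'.1 (h1.symm ▸ Ideal.mem_span_singleton_self _ :
        (f.appLE (W x) V hVle).hom g ∈ Ideal.span {(f.appLE (W x) V hVle).hom h})
      refine ⟨S'.presheaf.germ V y.1 hyV c, ?_⟩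
      have h3 := congrArg (S'.presheaf.germ V y.1 hyV) hc
      rw [map_mul] at h3
      simp only [Scheme.Hom.appLE, CommRingCat.hom_comp, RingHom.comp_apply, TopCat.Presheaf.germ_res_apply] at h3
      change _ = (Mero.toK S' _ (φ g)).1 y * (Groth.Agent.MeroLib.unitAt (Groth.Agent.MeroLib.regU (φ h) hreg)⁻¹ y : Mero.KStalk S' y.1)
      rw [Groth.Agent.MeroLib.toK_val, Groth.Agent.MeroLib.unitAt, map_inv, Units.eq_mul_inv_iff_mul_eq]
      refine (congrArg (algebraMap _ (Mero.KStalk S' y.1) _ * ·) (Groth.Agent.MeroLib.regU_val (φ h) hreg y)).trans ?_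
      rw [← map_mul]
      exact congrArg _ h3
    have hmul : u * φ h = φ g := Groth.Agent.WA.toK_injective (by
      rw [map_mul, hu, mul_assoc, show Mero.toK S' _ (φ h) = ((Groth.Agent.MeroLib.regU (φ h) hreg : (Γ(Mero.kmod S', f ⁻¹ᵁ W x))ˣ) : Γ(Mero.kmod S', f ⁻¹ᵁ W x)) from rfl,
        Units.inv_mul, mul_one])
    -- integrality
    have hint : φ.hom.IsIntegral := by
      haveI : IsAffine (W x : Scheme.{u}) := hW x
      haveI : UniversallyClosed (f ∣_ W x) := MorphismProperty.of_isPullback (isPullback_morphismRestrict f (W x)).flip inferInstance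
      have h1 := isIntegral_appTop_of_universallyClosed (f ∣_ W x)
      rw [morphismRestrict_appTop] at h1
      have e1 : (W x).ι ''ᵁ ⊤ = W x := by simp
      exact Groth.Agent.S17733.isIntegral_of_eq f e1 h1 (Functor.map_isIso _ _)
    obtain ⟨P, hPm, hP⟩ := hint u
    have hker : Function.Injective φ := by
      rw [injective_iff_map_eq_zero]
      intro r hr
      have h1 : r ∈ f.ker.ideal ⟨W x, hW x⟩ := by
        rw [Scheme.Hom.ker_apply]; exact hr
      rw [hdom] at h1
      simpa using h1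
    let n := P.natDegree
    have hsum : g ^ n + ∑ i ∈ Finset.range n, P.coeff i * g ^ i * h ^ (n - i) = 0 := by
      refine hker ?_
      rw [map_zero, map_add, map_pow, map_sum]
      simp only [map_mul, map_pow]
      rw [show φ g = u * φ h from hmul.symm, mul_pow]
      have h1 : u ^ n + ∑ i ∈ Finset.range n, φ (P.coeff i) * u ^ i = 0 := by
        rw [Polynomial.eval₂_eq_sum_range, Finset.sum_range_succ, hPm.coeff_natDegree, map_one, one_mul] at hP
        rw [add_comm]; exact hP
      have h2 : ∑ i ∈ Finset.range n, φ (P.coeff i) * (u * φ h) ^ i * φ h ^ (n - i) =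
          (∑ i ∈ Finset.range n, φ (P.coeff i) * u ^ i) * φ h ^ n := by
        rw [Finset.sum_mul]
        refine Finset.sum_congr rfl fun i hi => ?_
        have hin : i + (n - i) = n := Nat.add_sub_cancel' (Finset.mem_range.1 hi).le
        calc φ (P.coeff i) * (u * φ h) ^ i * φ h ^ (n - i)
            = φ (P.coeff i) * u ^ i * φ h ^ (i + (n - i)) := by rw [mul_pow, pow_add]; ring
          _ = _ := by rw [hin]
      rw [h2, ← add_mul, h1, zero_mul]
    have hdvd : ∀ y : W x, S.presheaf.germ (W x) y.1 y.2 h ∣ S.presheaf.germ (W x) y.1 y.2 g := fun y => by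
      haveI := (hnorm y.1).1
      haveI := (hnorm y.1).2
      refine Groth.Agent.S17733.dvd_of_eval_zero _ _ (nonZeroDivisors.ne_zero (hhreg y)) n
        (fun i => S.presheaf.germ (W x) y.1 y.2 (P.coeff i)) ?_
      have h3 := congrArg (S.presheaf.germ (W x) y.1 y.2) hsum
      simpa [map_sum] using h3
    let q : Γ(Mero.kmod S, W x) :=
      Mero.toK S _ g * ((Groth.Agent.MeroLib.regU h hhreg)⁻¹ : (Γ(Mero.kmod S, W x))ˣ)
    obtain ⟨d, hd⟩ := Groth.Agent.MeroLib.exists_section q fun y => by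
      obtain ⟨c, hc⟩ := hdvd y
      refine ⟨c, ?_⟩
      change _ = (Mero.toK S _ g).1 y * (Groth.Agent.MeroLib.unitAt (Groth.Agent.MeroLib.regU h hhreg)⁻¹ y : Mero.KStalk S y.1)
      rw [Groth.Agent.MeroLib.toK_val, Groth.Agent.MeroLib.unitAt, map_inv, Units.eq_mul_inv_iff_mul_eq]
      refine (congrArg (algebraMap _ (Mero.KStalk S y.1) _ * ·) (Groth.Agent.MeroLib.regU_val h hhreg y)).trans ?_
      rw [← map_mul, mul_comm, hc]
    refine ⟨d, Groth.Agent.WA.toK_injective ?_⟩
    rw [map_mul, hd, mul_left_comm, show Mero.toK S _ h = ((Groth.Agent.MeroLib.regU h hhreg : (Γ(Mero.kmod S, W x))ˣ) : Γ(Mero.kmod S, W x)) from rfl,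
      Units.mul_inv, mul_one]
  exact le_antisymm (key D E hD hE hEU h) (key E D hE hD hDU h.symm)

end Groth.Agent.S17733
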