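import Groth.Statements.S17734
import Groth.Agent.Lib.LimShf14.Pic
import Groth.Agent.Lib.LimH13.NhdLimit
import Groth.Agent.Lib.Descend.Basic
-- import your own Groth.Agent.* helpers here

set_option autoImplicit false
universe u
open PicF

namespace Groth.Agent.S17734

open CategoryTheory AlgebraicGeometry Limits in
/-- Let f : X → S be a proper morphism of finite presentation, s a point of S, and L an invertible
module on the base change X^s of X to the spectrum of the local ring of S at s. Then there are an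
open neighbourhood V of s in S and an invertible module L' on the open subscheme f⁻¹(V) = X ×_S V
such that the pullback of L' along the canonical morphism X^s → f⁻¹(V) (the unique one compatible
with the projection X^s → X) is isomorphic to L. -/
theorem result
    {X S : Scheme.{u}} (f : X ⟶ S) [IsProper f] [LocallyOfFinitePresentation f] (s : S)
    (L : (pullback f (S.fromSpecStalk s)).Modules) (hL : PicF.IsInvertible L) :
    ∃ (V : S.Opens) (_ : s ∈ V) (L' : (↑(f ⁻¹ᵁ V) : Scheme.{u}).Modules), PicF.IsInvertible L' ∧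
      ∀ (ι : pullback f (S.fromSpecStalk s) ⟶ ↑(f ⁻¹ᵁ V)),
        ι ≫ (f ⁻¹ᵁ V).ι = pullback.fst f (S.fromSpecStalk s) →
        Nonempty ((Scheme.Modules.pullback ι).obj L' ≅ L) := by
  obtain ⟨V0, hV0, hsV, -⟩ := TopologicalSpace.Opens.isBasis_iff_nbhd.1 S.isBasis_affineOpens
    (show s ∈ (⊤ : S.Opens) from trivial)
  let V : S.affineOpens := ⟨V0, hV0⟩
  haveI : IsAffine (V.1 : Scheme.{u}) := hV0
  let f' : ((f ⁻¹ᵁ V.1 : X.Opens) : Scheme.{u}) ⟶ (V.1 : Scheme.{u}) := f ∣_ V.1
  haveI : IsProper f' := MorphismProperty.of_isPullback (isPullback_morphismRestrict f V.1).flip inferInstance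
  haveI : CompactSpace ↥((f ⁻¹ᵁ V.1 : X.Opens) : Scheme.{u}) := QuasiCompact.compactSpace_of_compactSpace f'
  haveI : QuasiSeparatedSpace ↥((f ⁻¹ᵁ V.1 : X.Opens) : Scheme.{u}) :=
    quasiSeparatedSpace_of_quasiSeparated f'
  let D := LimH13.Nhd.diag s V
  let c := LimH13.Nhd.cone s V
  let t : D ⟶ (Functor.const _).obj (V.1 : Scheme.{u}) :=
    { app := fun h => S.homOfLE (S.basicOpen_le h.unop.1)
      naturality := fun h h' a => by
        rw [← cancel_mono V.1.ι]
        simp [D, LimH13.Nhd.diag] }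
  haveI : ∀ h, IsAffineHom (t.app h) := fun h => by
    haveI : IsAffine (S.basicOpen h.unop.1).toScheme := hV0.basicOpen _
    exact inferInstanceAs (IsAffineHom (S.homOfLE (S.basicOpen_le h.unop.1)))
  haveI := LimH13.Nhd.isDirected s V
  haveI : Nonempty (LimH13.Nhd.Idx s V) := ⟨⟨1, by rw [Scheme.basicOpen_of_isUnit _ isUnit_one]; exact hsV⟩⟩
  haveI : IsFiltered (LimH13.Nhd.Idx s V) := isFiltered_of_directed_le_nonempty _
  have hq : ∀ h, c.π.app h ≫ t.app h = V.1.fromSpecStalkOfMem s hsV := fun h => by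
    rw [← cancel_mono V.1.ι]
    simp [c, t, D, LimH13.Nhd.cone]
    exact (congrArg (_ ≫ ·) (S.homOfLE_ι (S.basicOpen_le h.unop.1))).trans (Scheme.Opens.fromSpecStalkOfMem_ι _ _ h.unop.2)
  let p : pullback f (S.fromSpecStalk s) ⟶ ((f ⁻¹ᵁ V.1 : X.Opens) : Scheme.{u}) :=
    (isPullback_morphismRestrict f V.1).lift (pullback.snd f (S.fromSpecStalk s) ≫ V.1.fromSpecStalkOfMem s hsV)
      (pullback.fst f (S.fromSpecStalk s))
      (by rw [Category.assoc, Scheme.Opens.fromSpecStalkOfMem_ι, pullback.condition])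
  have hp : p ≫ (f ⁻¹ᵁ V.1).ι = pullback.fst f (S.fromSpecStalk s) :=
    (isPullback_morphismRestrict f V.1).lift_snd _ _ _
  have hP : IsPullback p (pullback.snd f (S.fromSpecStalk s)) f' (V.1.fromSpecStalkOfMem s hsV) := by
    refine IsPullback.of_right ?_ ((isPullback_morphismRestrict f V.1).lift_fst _ _ _) (isPullback_morphismRestrict f V.1).flip
    rw [hp, Scheme.Opens.fromSpecStalkOfMem_ι]
    exact IsPullback.of_hasPullback _ _
  have hlim := Descend.pbIsLimit D t f' c hq hP (LimH13.Nhd.isLimit s V hsV)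
  obtain ⟨h, y, hy⟩ := LimShf14.exists_picSet_rep (Descend.pbDiagram D t f') (Descend.pbCone D t f' c hq hP) hlim
    ⟨PicF.cl L, L, rfl, hL⟩
  obtain ⟨M, hM, hMinv⟩ := y.2
  rw [← hM] at hy
  obtain ⟨e⟩ := LimShf14.iso_of_cl_eq (L := (Scheme.Modules.pullback ((Descend.pbCone D t f' c hq hP).π.app h)).obj M)
    (M := L) hy
  -- the stage is an open subscheme
  let W : S.Opens := S.basicOpen h.unop.1
  let j : (Descend.pbDiagram D t f').obj h ⟶ X := pullback.fst f' (t.app h) ≫ (f ⁻¹ᵁ V.1).ι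
  have hj : IsPullback j (pullback.snd f' (t.app h)) f W.ι := by
    have h1 := (IsPullback.of_hasPullback f' (t.app h)).paste_horiz (isPullback_morphismRestrict f V.1).flip
    rwa [show t.app h ≫ V.1.ι = W.ι from S.homOfLE_ι (S.basicOpen_le _)] at h1
  let ew := hj.isoIsPullback X (W : Scheme.{u}) (isPullback_morphismRestrict f W).flip
  refine ⟨W, h.unop.2, (Scheme.Modules.pullback ew.inv).obj M, Twist.isInvertible_pullback ew.inv hMinv,
    fun ι hι => ?_⟩
  have hw : ι ≫ ew.inv = (Descend.pbCone D t f' c hq hP).π.app h := by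
    rw [Iso.comp_inv_eq, ← cancel_mono (f ⁻¹ᵁ W).ι, hι, Category.assoc]
    rw [show ew.hom ≫ (f ⁻¹ᵁ W).ι = j from hj.isoIsPullback_hom_fst _ _ (isPullback_morphismRestrict f W).flip]
    exact (((Category.assoc _ _ _).symm.trans (congrArg (· ≫ (f ⁻¹ᵁ V.1).ι) (Descend.pbCone_fst D t f' c hq hP h))).trans hp).symm
  exact ⟨(ModLimH13.cmp ι ew.inv hw).app M ≪≫ e⟩


end Groth.Agent.S17734
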