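import Mathlib.RingTheory.RegularLocalRing.Defs
import Mathlib.RingTheory.AdicCompletion.Basic
import Mathlib.RingTheory.MvPowerSeries.Basic
import Mathlib.RingTheory.MvPolynomial.Basic
import Mathlib.RingTheory.Ideal.Quotient.Operations
import Mathlib.RingTheory.Localization.AtPrime.Basic
import Mathlib.RingTheory.Ideal.Height
import Groth.Agent.Lib.NodeVal3.Fibral
-- import your own Groth.Agent.* helpers here

set_option autoImplicit false
universe u
namespace CAlg
end CAlg
open CAlg

namespace Groth.Agent.S17735

open IsLocalRing in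
/-- Let R be a regular local ring complete for its maximal ideal, r a non-zero element of R, A the
quotient of the power series ring in x, y over R by xy − r, B the quotient of the polynomial ring in
x, y over R by xy − r, ι : B → A the natural map, P the ideal of B generated by x, y and the maximal
ideal of R, à the localization of B at P and φ : à → A the map extending ι. Call a prime of height
one of A (or of Ã) fibral when it contains a non-zero element of R. Then contraction along φ is a
bijection from the set of fibral height-one primes of A onto the set of fibral height-one primes of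
Ã; equivalently it induces an isomorphism between the free abelian groups of fibral Weil divisors. -/
theorem result
    (R : Type u) [CommRing R] [IsRegularLocalRing R]
    [IsAdicComplete (maximalIdeal R) R]
    (r : R) (hr : r ≠ 0)
    (ι : (MvPolynomial (Fin 2) R ⧸ Ideal.span {(MvPolynomial.X 0 * MvPolynomial.X 1 - MvPolynomial.C r : MvPolynomial (Fin 2) R)}) →+*
      (MvPowerSeries (Fin 2) R ⧸ Ideal.span {(MvPowerSeries.X 0 * MvPowerSeries.X 1 - MvPowerSeries.C r : MvPowerSeries (Fin 2) R)}))
    (hι : ι.comp (Ideal.Quotient.mk _) =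
      (Ideal.Quotient.mk _).comp (MvPolynomial.coeToMvPowerSeries.ringHom : MvPolynomial (Fin 2) R →+* MvPowerSeries (Fin 2) R))
    (P : Ideal (MvPolynomial (Fin 2) R ⧸ Ideal.span {(MvPolynomial.X 0 * MvPolynomial.X 1 - MvPolynomial.C r : MvPolynomial (Fin 2) R)})) [P.IsPrime]
    (hP : P = Ideal.span {Ideal.Quotient.mk _ (MvPolynomial.X 0), Ideal.Quotient.mk _ (MvPolynomial.X 1)} ⊔
      (maximalIdeal R).map (algebraMap R _))
    (φ : Localization.AtPrime P →+* (MvPowerSeries (Fin 2) R ⧸ Ideal.span {(MvPowerSeries.X 0 * MvPowerSeries.X 1 - MvPowerSeries.C r : MvPowerSeries (Fin 2) R)}))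
    (hφ : φ.comp (algebraMap _ (Localization.AtPrime P)) = ι) :
    Set.BijOn (fun 𝔓 => Ideal.comap φ 𝔓)
      {𝔓 | 𝔓.IsPrime ∧ 𝔓.height = 1 ∧ Ideal.comap (algebraMap R _) 𝔓 ≠ ⊥}
      {𝔮 : Ideal (Localization.AtPrime P) | 𝔮.IsPrime ∧ @Ideal.height (Localization.AtPrime P) _ 𝔮 = 1 ∧ Ideal.comap (algebraMap R (Localization.AtPrime P)) 𝔮 ≠ ⊥} := by
  exact NodeVal3.bijOn r hr ι hι P hP φ hφ

end Groth.Agent.S17735
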