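import Groth.Statements.S17738
import Groth.Agent.Lib.QsChow19.Factor
import Groth.Agent.Lib.Disc25.NormalScheme
import Groth.Agent.Lib.VB17.Setup
import Mathlib.AlgebraicGeometry.Morphisms.Etale
import Mathlib.RingTheory.Etale.Field

set_option autoImplicit false
universe u
open CategoryTheory AlgebraicGeometry
open QsChow

namespace Groth.Agent.S17738

/-- Take a field k and an irreducible normal k-variety X (a separated scheme of finite type over k all
of whose local rings are integrally closed domains) and let L be a finite Galois extension of k. If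
the base change of X to L is not irreducible, then there is an intermediate field F of L over k,
different from k, such that the structure morphism of X factors through a k-morphism from X to Spec
F. -/
theorem result
    (k : Type u) [Field k] (X : Scheme.{u}) [X.Over (Spec (CommRingCat.of k))]
    [IrreducibleSpace X] (hX : Pi1.IsNormalScheme X)
    [IsSeparated (X ↘ Spec (CommRingCat.of k))] [LocallyOfFiniteType (X ↘ Spec (CommRingCat.of k))]
    [QuasiCompact (X ↘ Spec (CommRingCat.of k))]
    (L : Type u) [Field L] [Algebra k L] [FiniteDimensional k L] [IsGalois k L]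
    (hred : ¬ IrreducibleSpace ↥(Curv2.bc k X L)) :
    ∃ F : IntermediateField k L, F ≠ ⊥ ∧
      ∃ g : X ⟶ Spec (CommRingCat.of F),
        g ≫ Spec.map (CommRingCat.ofHom (algebraMap k F)) = X ↘ Spec (CommRingCat.of k) := by
  haveI : QuasiSeparated (X ↘ Spec (CommRingCat.of k)) := inferInstance
  haveI : ConnectedSpace X := { toPreconnectedSpace := inferInstance, toNonempty := inferInstance }
  refine Groth.Agent.QsChow19.exists_factor k X L fun hc => hred ?_
  haveI := hc
  haveI : Algebra.FormallyEtale k L := Algebra.FormallyEtale.of_isSeparable k L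
  haveI : Algebra.FinitePresentation k L := Algebra.FinitePresentation.of_finiteType.1 inferInstance
  haveI : Algebra.Etale k L := ⟨inferInstance, inferInstance⟩
  haveI : Etale (Spec.map (CommRingCat.ofHom (algebraMap k L))) := by
    rw [HasRingHomProperty.Spec_iff (P := @Etale)]
    show (algebraMap k L).Etale
    rw [RingHom.etale_algebraMap]
    infer_instance
  haveI : IsFinite (Spec.map (CommRingCat.ofHom (algebraMap k L))) := by
    rw [IsFinite.SpecMap_iff]
    exact RingHom.finite_algebraMap.2 inferInstance
  haveI : Etale (Curv2.bcFst k X L) := MorphismProperty.of_isPullback (IsPullback.of_hasPullback _ _).flip inferInstance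
  haveI : IsFinite (Curv2.bcFst k X L) := MorphismProperty.of_isPullback (IsPullback.of_hasPullback _ _).flip inferInstance
  have hn := Groth.Agent.Disc25.isNormalScheme_of_finite_etale (Curv2.bcFst k X L) hX
  haveI : LocallyOfFiniteType (Curv2.bcFst k X L ≫ X ↘ Spec (CommRingCat.of k)) := inferInstance
  haveI : QuasiCompact (Curv2.bcFst k X L ≫ X ↘ Spec (CommRingCat.of k)) := inferInstance
  haveI : IsLocallyNoetherian (Curv2.bc k X L) :=
    LocallyOfFiniteType.isLocallyNoetherian (Curv2.bcFst k X L ≫ X ↘ Spec (CommRingCat.of k))
  haveI : CompactSpace ↥(Curv2.bc k X L) :=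
    QuasiCompact.compactSpace_of_compactSpace (Curv2.bcFst k X L ≫ X ↘ Spec (CommRingCat.of k))
  haveI : IsNoetherian (Curv2.bc k X L) := ⟨⟩
  haveI := Groth.Agent.VB17.isIntegral_of_connected (X := Curv2.bc k X L) fun x => (hn x).1
  infer_instance

end Groth.Agent.S17738
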