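import Groth.Statements.S17740
import Groth.Agent.Lib.QsChow19.Basic

set_option autoImplicit false
open QsChow

namespace Groth.Agent.S17740

/-- For an integer n ≥ 2 put s := n / 2 + 1 (integer part) and, for 2 ≤ j ≤ s, let k_j be the integer
part of the base-2 logarithm of (2n - 1)/(2j - 3); let P := F_2[ε_1, …, ε_s]/(ε_1^n, ε_2^(2^k_2), …,
ε_s^(2^k_s)) over the field F_2 with two elements, and let τ be the F_2-algebra involution of P with
τ(ε_1) = ε_1 and τ(ε_j) = ε_j + ε_1^(2j-3) for 2 ≤ j ≤ s (it exists since (2j-3)·2^k_j ≥ n, and is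
unique). Let 1 ≤ m ≤ n. If for some y in P the element y + τ(y) lies in the ideal ε_1^m P, then y +
τ(y) = ε_1^m z for some τ-fixed z in P. Equivalently: the map from the τ-fixed subalgebra modulo
ε_1^m to P modulo ε_1^m induced by the inclusion is injective on the image of id + τ. -/
theorem result (n : ℕ) (hn : 2 ≤ n)
    (τ : QsChow.P n →ₐ[ZMod 2] QsChow.P n) (hτ1 : τ (QsChow.eps n 1) = QsChow.eps n 1)
    (hτ : ∀ j : ℕ, 2 ≤ j → j ≤ QsChow.numVars n →
      τ (QsChow.eps n j) = QsChow.eps n j + QsChow.eps n 1 ^ (2 * j - 3))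
    (m : ℕ) (hm1 : 1 ≤ m) (hmn : m ≤ n) (y : QsChow.P n)
    (hy : y + τ y ∈ Ideal.span ({QsChow.eps n 1 ^ m} : Set (QsChow.P n))) :
    ∃ z : QsChow.P n, τ z = z ∧ y + τ y = QsChow.eps n 1 ^ m * z := by
  open Groth.Agent.QsChow19 in
  obtain ⟨a, ha, b, hb, rfl⟩ := exists_decomp hn y
  open Groth.Agent.QsChow19 in
  rw [add_tau_decomp hn hτ1 hτ ha hb] at hy ⊢
  open Groth.Agent.QsChow19 in
  obtain ⟨p, hp⟩ := Ideal.mem_span_singleton.1 hy
  open Groth.Agent.QsChow19 in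
  have h1 : QsChow.eps n 1 * (b - QsChow.eps n 1 ^ (m - 1) * p) = 0 := by
    rw [mul_sub, ← mul_assoc, ← pow_succ', show m - 1 + 1 = m by omega, hp, sub_self]
  open Groth.Agent.QsChow19 in
  obtain ⟨hq, -⟩ := mem_of_eps_mul_eq_zero hn h1
  open Groth.Agent.QsChow19 in
  obtain ⟨c, hc, d, hd, rfl⟩ := exists_decomp hn p
  open Groth.Agent.QsChow19 in
  have hfix : τ (QsChow.eps n 1 ^ (m - 1) * (c + QsChow.eps n 2 * d)) = QsChow.eps n 1 ^ (m - 1) * (c + QsChow.eps n 2 * d) := by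
    have h := tau_fix hn hτ1 hτ (sub_mem hb hq)
    simpa using h
  open Groth.Agent.QsChow19 in
  have hd0 : QsChow.eps n 1 ^ m * d = 0 := by
    have h := add_tau_decomp hn hτ1 hτ (mul_mem (pow_mem eps_one_mem (m - 1)) hc) (mul_mem (pow_mem eps_one_mem (m - 1)) hd)
    rw [show QsChow.eps n 1 ^ (m - 1) * c + QsChow.eps n 2 * (QsChow.eps n 1 ^ (m - 1) * d) =
      QsChow.eps n 1 ^ (m - 1) * (c + QsChow.eps n 2 * d) by ring, hfix, ← mul_assoc, ← pow_succ',
      show m - 1 + 1 = m by omega] at h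
    linear_combination -h + (QsChow.eps n 1 ^ (m - 1) * (c + QsChow.eps n 2 * d)) * two_eq_zero (n := n)
  refine ⟨c, Groth.Agent.QsChow19.tau_fix hn hτ1 hτ hc, ?_⟩
  rw [hp, mul_add, mul_left_comm, hd0, mul_zero, add_zero]

end Groth.Agent.S17740
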