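import Groth.Statements.S17743
import Groth.Agent.Lib.PtNorm19.Basic
import Mathlib.FieldTheory.Galois.Basic
import Mathlib.GroupTheory.Sylow
import Mathlib.Algebra.Group.Subgroup.ZPowers.Lemmas
import Mathlib.GroupTheory.Archimedean

set_option autoImplicit false
universe u
open CategoryTheory AlgebraicGeometry
open QsChow

namespace Groth.Agent.S17743

set_option backward.isDefEq.respectTransparency.types false

/-- A subgroup of the Galois group of a finite Galois subextension gives an intermediate field of that index. -/
theorem exists_field_of_subgroup {k K : Type u} [Field k] [Field K] [Algebra k K] (L : IntermediateField k K)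
    [FiniteDimensional k L] [IsGalois k L] (H : Subgroup (↥L ≃ₐ[k] ↥L)) :
    ∃ F : IntermediateField k K, FiniteDimensional k F ∧ (H ≠ ⊤ → F ≠ ⊥) ∧
      Module.finrank k F * Nat.card H = Module.finrank k L := by
  let F₀ := IntermediateField.fixedField H
  have e := (IntermediateField.equivMap F₀ L.val).toLinearEquiv
  have hcard : Module.finrank k F₀ * Nat.card H = Module.finrank k L := by
    rw [← IntermediateField.finrank_fixedField_eq_card H]
    exact Module.finrank_mul_finrank k F₀ L
  refine ⟨F₀.map L.val, Module.Finite.equiv e, fun hH h => hH ?_, by rw [← e.finrank_eq]; exact hcard⟩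
  have h0 : Module.finrank k F₀ = 1 := by rw [e.finrank_eq, h, IntermediateField.finrank_bot]
  rw [h0, one_mul] at hcard
  haveI : Finite (↥L ≃ₐ[k] ↥L) := inferInstance
  exact Subgroup.eq_top_of_card_eq H (by rw [hcard, IsGalois.card_aut_eq_finrank k L])


/-- Let K be a separable algebraic field extension of k and suppose that some intermediate field L of K
over k is finite Galois over k with degree [L:k] not of the form p^n for a prime p and n ≥ 0 (so
[L:k] has at least two prime factors). Then the subgroup of the Chow group of zero-cycles of Spec k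
generated by the classes of push-forwards from Spec F, over the intermediate fields F of K over k
that are finite over k and different from k, is the whole group; that is, the conormed Chow group of
the point relative to K over k is zero. (Degree 1 = p^0 must be excluded: for L = K = k the quotient
is ℤ.) -/
theorem result
    (k : Type u) [Field k] (K : Type u) [Field K] [Algebra k K] [Algebra.IsSeparable k K]
    (L : IntermediateField k K) [FiniteDimensional k L] [IsGalois k L]
    (hL : ∀ p n : ℕ, p.Prime → Module.finrank k L ≠ p ^ n) :
    QsChow.ptNormSubgroup k K = ⊤ := by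
  rw [← AddSubgroup.index_eq_one, Groth.Agent.PtNorm19.index_ptNormSubgroup, AddSubgroup.index_eq_one]
  obtain ⟨d, hd⟩ := Int.subgroup_cyclic (AddSubgroup.closure
      {z : ℤ | ∃ F : IntermediateField k K, FiniteDimensional k F ∧ F ≠ ⊥ ∧ (Module.finrank k F : ℤ) ∣ z})
  have hdvd : ∀ F : IntermediateField k K, FiniteDimensional k F → F ≠ ⊥ → d ∣ (Module.finrank k F : ℤ) :=
    fun F hF hF' => by
      have hmem := AddSubgroup.subset_closure (k := {z : ℤ | ∃ F : IntermediateField k K,
        FiniteDimensional k F ∧ F ≠ ⊥ ∧ (Module.finrank k F : ℤ) ∣ z}) ⟨F, hF, hF', dvd_rfl⟩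
      rw [hd, SetLike.mem_coe, ← AddSubgroup.zmultiples_eq_closure, Int.mem_zmultiples_iff] at hmem
      exact hmem
  rw [hd, ← AddSubgroup.zmultiples_eq_closure]
  have h1 : d.natAbs = 1 := by
    by_contra hne
    obtain ⟨p, hp, hpd⟩ := Nat.exists_prime_and_dvd hne
    haveI : Fact p.Prime := ⟨hp⟩
    obtain ⟨P⟩ := (inferInstance : Nonempty (Sylow p (↥L ≃ₐ[k] ↥L)))
    have hP := P.card_eq_multiplicity
    rw [IsGalois.card_aut_eq_finrank k L] at hP
    obtain ⟨F, hF, hne', hmul⟩ := exists_field_of_subgroup L (P : Subgroup (↥L ≃ₐ[k] ↥L))
    have hFne := hne' fun h => hL p ((Module.finrank k L).factorization p) hp (by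
      have hc := congrArg (fun S : Subgroup (↥L ≃ₐ[k] ↥L) => Nat.card S) h
      simp only [Subgroup.card_top] at hc
      rw [IsGalois.card_aut_eq_finrank k L] at hc
      exact hc.symm.trans hP)
    have hp' : p ∣ Module.finrank k F :=
      hpd.trans (by simpa using Int.natAbs_dvd_natAbs.2 (hdvd F hF hFne))
    have hL0 : Module.finrank k L ≠ 0 := Module.finrank_pos.ne'
    refine Nat.not_dvd_ordCompl hp hL0 ?_
    rwa [← show Module.finrank k F = Module.finrank k L / p ^ (Module.finrank k L).factorization p from
      (Nat.div_eq_of_eq_mul_left (pow_pos hp.pos _) (hmul.symm.trans (by rw [hP]))).symm]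
  rcases Int.natAbs_eq d with h | h <;> rw [h, h1] <;>
    exact eq_top_iff.2 fun z _ => Int.mem_zmultiples_iff.2 (by simp)

end Groth.Agent.S17743
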