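import Groth.Statements.S17744
import Groth.Agent.Lib.PtNorm19.Basic
import Mathlib.FieldTheory.Galois.Basic
import Mathlib.GroupTheory.Sylow
import Mathlib.Algebra.Group.Subgroup.ZPowers.Lemmas

set_option autoImplicit false
universe u
open CategoryTheory AlgebraicGeometry
open QsChow

namespace Groth.Agent.S17744

set_option backward.isDefEq.respectTransparency.types false

/-- A subgroup of the Galois group of a finite Galois subextension gives an intermediate field of that index. -/
theorem exists_field_of_subgroup {k K : Type u} [Field k] [Field K] [Algebra k K] (L : IntermediateField k K)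
    [FiniteDimensional k L] [IsGalois k L] (H : Subgroup (↥L ≃ₐ[k] ↥L)) :
    ∃ F : IntermediateField k K, FiniteDimensional k F ∧ (H ≠ ⊤ → F ≠ ⊥) ∧
      Module.finrank k F * Nat.card H = Module.finrank k L := by
  let F₀ := IntermediateField.fixedField H
  have e := (IntermediateField.equivMap F₀ L.val).toLinearEquiv
  have hcard : Module.finrank k F₀ * Nat.card H = Module.finrank k L := by
    rw [← IntermediateField.finrank_fixedField_eq_card H]
    exact Module.finrank_mul_finrank k F₀ L
  refine ⟨F₀.map L.val, Module.Finite.equiv e, fun hH h => hH ?_, by rw [← e.finrank_eq]; exact hcard⟩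
  have h0 : Module.finrank k F₀ = 1 := by rw [e.finrank_eq, h, IntermediateField.finrank_bot]
  rw [h0, one_mul] at hcard
  haveI : Finite (↥L ≃ₐ[k] ↥L) := inferInstance
  exact Subgroup.eq_top_of_card_eq H (by rw [hcard, IsGalois.card_aut_eq_finrank k L])


/-- Let K be a separable algebraic field extension of k, let L be an intermediate field of K over k that
is finite Galois over k of degree p^n with p prime and n ≥ 1, and suppose that every intermediate
field of K over k that is finite over k has degree a power of p. Then the subgroup of the Chow group
of zero-cycles of Spec k generated by the classes of push-forwards from Spec F, over the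
intermediate fields F of K over k that are finite over k and different from k, has index p; that is,
the conormed Chow group of the point relative to K over k is cyclic of order p (the field with p
elements, in the source's ring language). (For n = 0, i.e. L = k, the assertion fails with K = k, so
n ≥ 1 is required.) -/
theorem result
    (k : Type u) [Field k] (K : Type u) [Field K] [Algebra k K] [Algebra.IsSeparable k K]
    (L : IntermediateField k K) [FiniteDimensional k L] [IsGalois k L]
    (p n : ℕ) (hp : p.Prime) (hn : 1 ≤ n) (hL : Module.finrank k L = p ^ n)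
    (hF : ∀ F : IntermediateField k K, FiniteDimensional k F → ∃ e : ℕ, Module.finrank k F = p ^ e) :
    (QsChow.ptNormSubgroup k K).index = p := by
  haveI : Fact p.Prime := ⟨hp⟩
  rw [Groth.Agent.PtNorm19.index_ptNormSubgroup]
  suffices h : AddSubgroup.closure {z : ℤ | ∃ F : IntermediateField k K,
      FiniteDimensional k F ∧ F ≠ ⊥ ∧ (Module.finrank k F : ℤ) ∣ z} = AddSubgroup.zmultiples (p : ℤ) by
    rw [h, Int.index_zmultiples, Int.natAbs_natCast]
  apply le_antisymm
  · refine (AddSubgroup.closure_le _).2 ?_
    rintro z ⟨F, hfd, hne, hz⟩
    obtain ⟨e, he⟩ := hF F hfd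
    refine Int.mem_zmultiples_iff.2 (dvd_trans ?_ hz)
    rw [he, Nat.cast_pow]
    exact dvd_pow_self _ fun h0 => hne (IntermediateField.finrank_eq_one_iff.1 (by rw [he, h0, pow_zero]))
  · rw [AddSubgroup.zmultiples_le]
    obtain ⟨H, hH⟩ := Sylow.exists_subgroup_card_pow_prime p (G := ↥L ≃ₐ[k] ↥L) (n := n - 1) (by
      rw [IsGalois.card_aut_eq_finrank k L, hL]; exact pow_dvd_pow _ (by omega))
    obtain ⟨F, hfd, hne, hmul⟩ := exists_field_of_subgroup L H
    have hFp : Module.finrank k F = p := by
      rw [hH, hL] at hmul
      refine Nat.eq_of_mul_eq_mul_right (pow_pos hp.pos (n - 1)) (hmul.trans ?_)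
      rw [← pow_succ', show n - 1 + 1 = n by omega]
    refine AddSubgroup.subset_closure ⟨F, hfd, hne fun h => ?_, by rw [hFp]⟩
    have hc : Nat.card H = Nat.card (↥L ≃ₐ[k] ↥L) := by rw [h, Subgroup.card_top]
    rw [hH, IsGalois.card_aut_eq_finrank k L, hL] at hc
    have := Nat.pow_right_injective hp.two_le hc
    omega

end Groth.Agent.S17744
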