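import Groth.Statements.S17748
import Groth.Agent.Lib.QsChow19.Present

set_option autoImplicit false
open QsChow

namespace Groth.Agent.S17748

/-- Let n ≥ 2, s := n / 2 + 1, k_j the integer part of log_2((2n-1)/(2j-3)) for 2 ≤ j ≤ s, P := F_2[ε_1,
…, ε_s]/(ε_1^n, ε_2^(2^k_2), …, ε_s^(2^k_s)), τ the F_2-algebra involution of P fixing ε_1 and
sending ε_j to ε_j + ε_1^(2j-3) (2 ≤ j ≤ s), and ē_1 := ε_1, ē_2 := ε_2^2 + ε_1ε_2, ē_j := ε_j +
ε_1^(2j-4)ε_2 (j ≥ 3), x̄ := ε_1^(n-1)ε_2; write 2^a for the exact power of 2 dividing n, l for the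
integer with n = 2^a(2l-3), and k'_1 := a, k'_2 := the integer part of log_2 n, k'_j := the integer
part of log_2(2n/(2j-3)) for j ≥ 3. Suppose n is even and not a power of 2 — equivalently a ≥ 1 and
n ≠ 2^a, which is how the hypothesis is written — and let ψ : F_2[e_1, …, e_s] → P be the algebra
map with e_j ↦ ē_j. Then (i) for a polynomial q, ψ(q) lies in ε_1^(2^a) · P^τ (P^τ the τ-fixed
subalgebra) if and only if q lies in the ideal generated by the powers e_j^(2^k'_j) for 1 ≤ j ≤ s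
and the product e_1 · e_l^(2^(k'_l - 1)); (ii) every τ-fixed element of P is ψ(q) plus an element of
ε_1^(2^a) · P^τ for some q. That is, P^τ modulo ε_1^(2^a) is F_2[e_1, …, e_s]/(e_1^(2^k'_1), …,
e_s^(2^k'_s), e_1 e_l^(2^(k'_l - 1))) via ψ. -/
theorem result (n : ℕ) (hn : 2 ≤ n)
    (τ : QsChow.P n →ₐ[ZMod 2] QsChow.P n) (hτ1 : τ (QsChow.eps n 1) = QsChow.eps n 1)
    (hτ : ∀ j : ℕ, 2 ≤ j → j ≤ QsChow.numVars n →
      τ (QsChow.eps n j) = QsChow.eps n j + QsChow.eps n 1 ^ (2 * j - 3))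
    (ha : 1 ≤ QsChow.twoExp n) (hne : n ≠ 2 ^ QsChow.twoExp n) :
    (∀ q : QsChow.FreeP n,
      (∃ w : QsChow.P n, τ w = w ∧ QsChow.psi n q = QsChow.eps n 1 ^ 2 ^ QsChow.twoExp n * w) ↔
        q ∈ QsChow.evenIdeal n) ∧
    (∀ z : QsChow.P n, τ z = z → ∃ q : QsChow.FreeP n, ∃ w : QsChow.P n,
      τ w = w ∧ z = QsChow.psi n q + QsChow.eps n 1 ^ 2 ^ QsChow.twoExp n * w) := by
  obtain ⟨h1, h2⟩ := Groth.Agent.QsChow19.evenIdeal_iff hn ha hne
  refine ⟨fun q => ?_, fun z hz => ?_⟩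
  · rw [← h1, ← Groth.Agent.QsChow19.exists_fixed_iff hn hτ1 hτ, Groth.Agent.QsChow19.psi_eq]
  · obtain ⟨g, rfl⟩ := Groth.Agent.QsChow19.mem_of_fixed hn hτ1 hτ hz
    obtain ⟨q, hq⟩ := h2 g
    obtain ⟨w, hw, e⟩ := (Groth.Agent.QsChow19.exists_fixed_iff hn hτ1 hτ _ _).2 hq
    refine ⟨q, w, hw, ?_⟩
    rw [map_sub, sub_eq_iff_eq_add'] at e
    rw [Groth.Agent.QsChow19.psi_eq]
    exact e

end Groth.Agent.S17748
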