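import Groth.Statements.S17752
import Groth.Agent.Lib.Depth.PrimeAvoid
-- import your own Groth.Agent.* helpers here

set_option autoImplicit false
universe u
open LocCoh

namespace Groth.Agent.S17752

/-- Let R be a Noetherian ring of Krull dimension d and I an ideal of R. Then there are d + 1 elements
f_0, …, f_d of I such that I and the ideal they generate have the same radical; in other words the
arithmetic rank of I is at most d + 1. -/
theorem result (R : Type u) [CommRing R] [IsNoetherianRing R] (d : ℕ) (hd : ringKrullDim R = d) (I : Ideal R) : ∃ f : Fin (d + 1) → R, (∀ i, f i ∈ I) ∧ I.radical = (Ideal.span (Set.range f)).radical := by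
  obtain ⟨f, hfI, hf⟩ := Groth.Agent.DepthLib.exists_fin_mem_cutting I (d + 1)
  refine ⟨f, hfI, le_antisymm ?_ (Ideal.radical_mono (Ideal.span_le.2 ?_))⟩
  · rw [Ideal.radical_eq_sInf (Ideal.span (Set.range f)), le_sInf_iff]
    · rintro p ⟨hp, hprime⟩
      refine hprime.radical_le_iff.2 ?_
      by_contra hI
      have h1 := hf p hp hI
      have h2 := Ideal.height_le_ringKrullDim_of_ne_top hprime.ne_top
      rw [hd] at h2
      have h3 : ((d + 1 : ℕ) : ℕ∞) ≤ (d : ℕ∞) := h1.trans (WithBot.coe_le_coe.1 h2)
      rw [Nat.cast_le] at h3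
      omega
  · rintro _ ⟨i, rfl⟩
    exact hfI i

end Groth.Agent.S17752
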