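import Groth.Statements.S17753
import Groth.Agent.Lib.Depth.PrimeAvoid
-- import your own Groth.Agent.* helpers here

set_option autoImplicit false
universe u
open LocCoh

namespace Groth.Agent.S17753

/-- Let R be a Noetherian local ring of Krull dimension d and I a proper ideal of R. Then there are d
elements f_1, …, f_d of I such that I and the ideal they generate have the same radical, so the
arithmetic rank of I is at most d. (The published statement has no properness hypothesis; for the
unit ideal of a field, d = 0 and no empty family generates the unit ideal up to radical, and the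
published proof uses that the maximal ideal contains I.) -/
theorem result (R : Type u) [CommRing R] [IsNoetherianRing R] [IsLocalRing R] (d : ℕ) (hd : ringKrullDim R = d) (I : Ideal R) (hI : I ≠ ⊤) : ∃ f : Fin d → R, (∀ i, f i ∈ I) ∧ I.radical = (Ideal.span (Set.range f)).radical := by
  have hItop := hI
  clear hI
  obtain ⟨f, hfI, hf⟩ := Groth.Agent.DepthLib.exists_fin_mem_cutting I d
  refine ⟨f, hfI, le_antisymm ?_ (Ideal.radical_mono (Ideal.span_le.2 ?_))⟩
  · rw [Ideal.radical_eq_sInf (Ideal.span (Set.range f)), le_sInf_iff]
    · rintro p ⟨hp, hprime⟩
      refine hprime.radical_le_iff.2 ?_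
      by_contra hI
      have h1 := hf p hp hI
      have hne : p ≠ IsLocalRing.maximalIdeal R := fun h => hI (h ▸ IsLocalRing.le_maximalIdeal hItop)
      have hlt : p < IsLocalRing.maximalIdeal R :=
        lt_of_le_of_ne (IsLocalRing.le_maximalIdeal hprime.ne_top) hne
      have h2 := Ideal.height_strict_mono_of_isPrime hlt
      have h3 : (IsLocalRing.maximalIdeal R).height = d := by
        have := IsLocalRing.maximalIdeal_height_eq_ringKrullDim (R := R)
        rw [hd] at this
        exact WithBot.coe_injective this
      exact absurd (h2.trans_le h3.le) (not_lt.2 h1)
  · rintro _ ⟨i, rfl⟩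
    exact hfI i

end Groth.Agent.S17753
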