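import Groth.Statements.S17754
import Mathlib

set_option autoImplicit false
universe u
open CAlg

namespace Groth.Agent.S17754

/-- Let R be a complete Noetherian local ring with maximal ideal m, and let I_0 ⊇ I_1 ⊇ I_2 ⊇ ⋯ be a
descending sequence of ideals of R whose intersection is zero. Then for every natural number n there
is an index s with I_s contained in m^n; that is, the filtration by the I_s is at least as fine as
the m-adic one. -/
theorem result (R : Type u) [CommRing R] [IsNoetherianRing R] [IsLocalRing R] [IsAdicComplete (IsLocalRing.maximalIdeal R) R] (I : ℕ → Ideal R) (hI : Antitone I) (hinf : ⨅ s, I s = ⊥) (n : ℕ) : ∃ s : ℕ, I s ≤ IsLocalRing.maximalIdeal R ^ n := by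
  set m := IsLocalRing.maximalIdeal R
  rcases Nat.eq_zero_or_pos n with rfl | hn
  · exact ⟨0, by simp⟩
  -- stabilisation
  have stab : ∀ j, 1 ≤ j → ∃ s, ∀ t, s ≤ t → I s ⊔ m ^ j = I t ⊔ m ^ j := by
    intro j hj
    have : IsArtinianRing (R ⧸ m ^ j) := IsLocalRing.quotient_artinian_of_mem_minimalPrimes_of_isLocalRing _ (by
      refine ⟨⟨inferInstance, Ideal.pow_le_self (by omega)⟩, fun q hq _ => ?_⟩
      exact (hq.1.pow_le_iff (by omega : j ≠ 0)).1 hq.2)
    let c : ℕ →o (Ideal (R ⧸ m ^ j))ᵒᵈ := ⟨fun t => OrderDual.toDual ((I t).map (Ideal.Quotient.mk (m ^ j))),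
      fun a b h => Ideal.map_mono (hI h)⟩
    obtain ⟨s, hs⟩ := IsArtinian.monotone_stabilizes c
    refine ⟨s, fun t ht => ?_⟩
    have h' : (I s).map (Ideal.Quotient.mk (m ^ j)) = (I t).map (Ideal.Quotient.mk (m ^ j)) :=
      OrderDual.toDual.injective (hs t ht)
    have := congrArg (Ideal.comap (Ideal.Quotient.mk (m ^ j))) h'
    rwa [Ideal.comap_map_of_surjective' _ Ideal.Quotient.mk_surjective,
      Ideal.comap_map_of_surjective' _ Ideal.Quotient.mk_surjective, Ideal.mk_ker] at this
  choose! σ hσ using stab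
  refine ⟨σ n, fun x hx => ?_⟩
  have step : ∀ j, 1 ≤ j → ∀ x ∈ I (σ j) ⊔ m ^ j, ∃ y ∈ I (σ (j + 1)) ⊔ m ^ (j + 1), y - x ∈ m ^ j := by
    intro j hj x hx
    rw [hσ j hj (max (σ j) (σ (j + 1))) (le_max_left _ _)] at hx
    obtain ⟨y, hy, z, hz, rfl⟩ := Submodule.mem_sup.1 hx
    exact ⟨y, Ideal.mem_sup_left (hI (le_max_right _ _) hy), by simpa using hz⟩
  choose! g hg hg' using step
  let xs : ℕ → R := fun k => Nat.rec x (fun k y => g (n + k) y) k
  have hxs : ∀ k, xs k ∈ I (σ (n + k)) ⊔ m ^ (n + k) := by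
    intro k
    induction k with
    | zero => exact Ideal.mem_sup_left hx
    | succ k ih => exact hg (n + k) (by omega) _ ih
  have hd : ∀ k l, k ≤ l → xs l - xs k ∈ m ^ (n + k) := by
    intro k l h
    induction l, h using Nat.le_induction with
    | base => simp
    | succ l h ih =>
      have h1 : xs (l + 1) - xs l ∈ m ^ (n + k) :=
        Ideal.pow_le_pow_right (by omega) (hg' (n + l) (by omega) _ (hxs l))
      simpa using add_mem h1 ih
  obtain ⟨L, hL⟩ := IsPrecomplete.prec (I := m) inferInstance (f := xs) (fun {a b} h => by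
    rw [SModEq.comm, SModEq.sub_mem, smul_eq_mul, Ideal.mul_top]
    exact Ideal.pow_le_pow_right (by omega) (hd a b h))
  have hL' : ∀ k, xs k - L ∈ m ^ k := fun k => by
    have := hL k
    rwa [SModEq.sub_mem, smul_eq_mul, Ideal.mul_top] at this
  have hLI : ∀ s, L ∈ I s := by
    intro s
    by_cases htop : I s = ⊤
    · rw [htop]; trivial
    rw [← Ideal.Quotient.eq_zero_iff_mem]
    have : IsHausdorff m (R ⧸ I s) := inferInstance
    refine IsHausdorff.haus this _ fun j => ?_
    rw [SModEq.zero]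
    have hmem : L ∈ I s ⊔ m ^ j := by
      have h1 : xs j ∈ I s ⊔ m ^ j := by
        have h2 := hxs j
        rcases le_total s (σ (n + j)) with h | h
        · exact (sup_le_sup (hI h) (Ideal.pow_le_pow_right (Nat.le_add_left j n)) : I (σ (n + j)) ⊔ m ^ (n + j) ≤ I s ⊔ m ^ j) h2
        · rw [hσ (n + j) (by omega) s h] at h2
          exact (sup_le_sup le_rfl (Ideal.pow_le_pow_right (Nat.le_add_left j n)) : I s ⊔ m ^ (n + j) ≤ I s ⊔ m ^ j) h2
      have := sub_mem h1 (Ideal.mem_sup_right (S := I s) (hL' j))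
      simpa using this
    obtain ⟨a, ha, b, hb, rfl⟩ := Submodule.mem_sup.1 hmem
    rw [map_add, Ideal.Quotient.eq_zero_iff_mem.2 ha, zero_add,
      show Ideal.Quotient.mk (I s) b = b • (1 : R ⧸ I s) by rw [Algebra.smul_def, mul_one]; rfl]
    exact Submodule.smul_mem_smul hb trivial
  have hL0 : L = 0 := by
    have : L ∈ ⨅ s, I s := Submodule.mem_iInf _ |>.2 hLI
    rw [hinf] at this; simpa using this
  have h1 := hd 0 n (Nat.zero_le n)
  have h2 := hL' n
  rw [hL0, sub_zero] at h2
  have := sub_mem h2 h1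
  simpa [xs] using this

end Groth.Agent.S17754
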