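import Groth.Statements.S17756
import Groth.Agent.Lib.InjHull.Duality
import Mathlib.Algebra.Module.SpanRankOperations
-- import your own Groth.Agent.* helpers here

set_option autoImplicit false
universe u
open Matlis

namespace Groth.Agent.S17756

/-- Let R be a Noetherian local ring with maximal ideal m and residue field k, E an injective hull of k,
and M a finitely generated R-module with Matlis dual M^v = Hom_R(M, E). Then the minimal number of
generators of M equals the k-dimension of the socle of M^v, the submodule of elements of M^v killed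
by m (stated as its length as an R-module). -/
theorem result (R : Type u) [CommRing R] [IsNoetherianRing R] [IsLocalRing R] (E : Type u) [AddCommGroup E] [Module R E] (f : IsLocalRing.ResidueField R →ₗ[R] E) (hf : InjHull.IsInjectiveHull f) (M : Type u) [AddCommGroup M] [Module R M] [Module.Finite R M] : ((⊤ : Submodule R M).spanFinrank : ℕ∞) = Module.length R (LocCoh.torsionBy (IsLocalRing.maximalIdeal R) (M →ₗ[R] E)) := by
  let m := IsLocalRing.maximalIdeal R
  let Q := M ⧸ (m • ⊤ : Submodule R M)
  let k := R ⧸ m
  have hQm : ∀ r ∈ m, ∀ q : Q, r • q = 0 := by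
    intro r hr q
    obtain ⟨q, rfl⟩ := Submodule.Quotient.mk_surjective _ q
    rw [← Submodule.Quotient.mk_smul, Submodule.Quotient.mk_eq_zero]
    exact Submodule.smul_mem_smul hr trivial
  have hz : ∀ φ : M →ₗ[R] E, φ ∈ LocCoh.torsionBy m (M →ₗ[R] E) → (m • ⊤ : Submodule R M) ≤ LinearMap.ker φ := by
    intro φ hφ
    refine Submodule.smul_le.2 fun r hr x _ => ?_
    rw [LinearMap.mem_ker, map_smul]
    exact LinearMap.congr_fun (Groth.Agent.InjHullLib.mem_torsion_iff.1 hφ r hr) x
  let e : (Q →ₗ[R] E) ≃ₗ[R] LocCoh.torsionBy m (M →ₗ[R] E) :=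
    { toFun := fun φ => ⟨φ ∘ₗ Submodule.mkQ _, Groth.Agent.InjHullLib.mem_torsion_iff.2 fun r hr => by
        ext x
        show r • φ (Submodule.Quotient.mk x) = 0
        rw [← map_smul, hQm r hr, map_zero]⟩
      map_add' := fun φ ψ => rfl
      map_smul' := fun r φ => rfl
      invFun := fun ψ => Submodule.liftQ _ ψ.1 (hz ψ.1 ψ.2)
      left_inv := fun φ => by ext x; rfl
      right_inv := fun ψ => by ext x; rfl }
  have hlen : Module.length R Q = ((⊤ : Submodule R M).spanFinrank : ℕ∞) := by
    let _ := Ideal.Quotient.field m
    have : Module.Finite k Q := Module.Finite.of_restrictScalars_finite R k Q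
    rw [Module.length_eq_of_surjective (R := k) (S := R) (M := Q) Ideal.Quotient.mk_surjective,
      Module.length_eq_finrank, IsLocalRing.spanFinrank_eq_finrank_quotient (⊤ : Submodule R M) Module.Finite.fg_top]
    congr 1
    refine LinearEquiv.finrank_eq (LinearEquiv.extendScalarsOfSurjective (R := R) (S := k) Ideal.Quotient.mk_surjective
      (Submodule.Quotient.equiv _ _ Submodule.topEquiv.symm ?_))
    rw [Submodule.map_smul'', Submodule.map_top, LinearEquiv.range]
  have hfl : IsFiniteLength R Q := Module.length_ne_top_iff.1 (by rw [hlen]; exact ENat.natCast_ne_top _)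
  rw [← e.length_eq, Groth.Agent.InjHullLib.length_dual hf hfl, hlen]

end Groth.Agent.S17756
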