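import Groth.Statements.S17765
import Groth.Agent.Lib.Depth.CM
import Groth.Agent.Lib.Depth.Devissage
import Groth.Agent.Lib.RegLoc.GlobalDim
import Groth.Agent.Lib.RegLoc.PD
-- import your own Groth.Agent.* helpers here

set_option autoImplicit false
universe u
open CategoryTheory
open LocCoh

namespace Groth.Agent.S17765

/-- Let B be a regular local ring, M a finitely generated B-module and p an associated prime ideal of M.
Then the height of p is at most the projective dimension of M: for every n such that M has
projective dimension at most n, ht p ≤ n. -/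
theorem result (B : Type u) [CommRing B] [IsRegularLocalRing B] (M : Type u) [AddCommGroup M] [Module B M] [Module.Finite B M] (p : Ideal B) (hp : p ∈ associatedPrimes B M) (n : ℕ) (hn : HasProjectiveDimensionLE (ModuleCat.of B M) n) : p.height ≤ n := by
  have := IsAssociatedPrime.isPrime hp
  have hreg := Groth.Agent.RegLoc.isRegularLocalRing_localization B p
  have hCM := Groth.Agent.DepthLib.isCohenMacaulayLocalRing_of_isRegularLocalRing
    (R := Localization.AtPrime p)
  have hht := hCM.supportDim_eq_depth
  rw [Module.supportDim_self_eq_ringKrullDim,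
    IsLocalization.AtPrime.ringKrullDim_eq_height p] at hht
  obtain ⟨d, hd⟩ : ∃ d : ℕ, p.height = d :=
    Groth.Agent.DepthLib.exists_depth_eq_natCast (R := Localization.AtPrime p)
      (M := Localization.AtPrime p) |>.imp fun d hd => (WithBot.coe_injective hht).trans hd
  rw [hd, Nat.cast_le]
  by_contra! hlt
  have hpd : Groth.Agent.RegLoc.PD (Localization.AtPrime p) (LocalizedModule p.primeCompl M) n :=
    Groth.Agent.RegLoc.pd_localizedModule p.primeCompl M hn
  have hspan : (IsLocalRing.maximalIdeal (Localization.AtPrime p)).spanFinrank = d :=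
    Groth.Agent.RegLoc.spanFinrank_eq_of_dim (by
      rw [IsLocalization.AtPrime.ringKrullDim_eq_height p, hd]; rfl)
  obtain ⟨_, m, hm⟩ := isAssociatedPrime_iff.1
    (Module.associatedPrimes.mem_associatedPrimes_atPrime_of_mem_associatedPrimes hp)
  let g := LinearMap.toSpanSingleton (Localization.AtPrime p) (LocalizedModule p.primeCompl M) m
  have hker : LinearMap.ker g = IsLocalRing.maximalIdeal (Localization.AtPrime p) := by
    ext x; rw [hm]; simp [g]
  let f := (IsLocalRing.maximalIdeal (Localization.AtPrime p)).liftQ g hker.ge
  have hf : Function.Injective f :=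
    LinearMap.ker_eq_bot.1 (Submodule.ker_liftQ_eq_bot _ _ _ hker.le)
  have hS := Groth.Agent.DepthLib.shortExact_of_linearMap hf (Submodule.mkQ_surjective f.range)
    (LinearMap.exact_map_mkQ_range f)
  have h0 : Subsingleton (Abelian.Ext (ModuleCat.of _ (LocalizedModule p.primeCompl M))
      (ModuleCat.of (Localization.AtPrime p) (Localization.AtPrime p)) d) :=
    HasProjectiveDimensionLT.subsingleton (hX := hpd) _ (n + 1) d hlt _
  have h1 : Subsingleton (Abelian.Ext (ModuleCat.of _ (LocalizedModule p.primeCompl M ⧸ f.range))
      (ModuleCat.of (Localization.AtPrime p) (Localization.AtPrime p)) (d + 1)) :=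
    HasProjectiveDimensionLT.subsingleton
      (hX := Groth.Agent.RegLoc.hasProjectiveDimensionLT_of_regular hspan _) _ (d + 1) _ le_rfl _
  have h2 := ((Groth.Agent.DepthLib.idealDepth_eq_iff (R := Localization.AtPrime p)
    (M := Localization.AtPrime p) d).1 ((WithBot.coe_injective hht).symm.trans hd)).2
  refine not_subsingleton_iff_nontrivial.2 h2 (subsingleton_of_forall_eq 0 fun x => ?_)
  obtain ⟨y, hy⟩ := Abelian.Ext.contravariant_sequence_exact₁ hS _ x (n₁ := d + 1) (add_comm 1 d)
    (h1.elim _ _)
  rw [← hy, h0.elim y 0]
  simp


end Groth.Agent.S17765
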