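import Groth.Statements.S17769
import Groth.Agent.Lib.GrLC21.EndDeg
import Groth.Agent.Lib.GrLC21.RegPoly
import Groth.Agent.Lib.GrLC21.StarCM

set_option autoImplicit false
set_option backward.isDefEq.respectTransparency false
universe u
open GrLC

namespace Groth.Agent.S17769

/-- Let R = ⊕_{n ≥ 0} R_n be a Noetherian positively ℤ-graded ring which is standard graded (its
irrelevant ideal is generated by R_1), *local with unique homogeneous maximal ideal m,
Cohen–Macaulay, and of Krull dimension d + 1. Let x be a homogeneous element of degree k lying in m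
which is a non-zerodivisor on R, and let N be R ⧸ xR as a graded R-module, presented by a surjective
degree-preserving R-linear map π : R → N with kernel xR. Writing a(·) for the largest degree in
which the top graded local cohomology with support in m is nonzero (computed from *injective
resolutions I of R and F of N), one has a(R ⧸ xR) = a(R) + k, that is, the end of H^d_m(N) equals
the end of H^{d+1}_m(R) plus k. (The published statement does not require x to lie in m; for a
homogeneous unit x of degree 0 one has R ⧸ xR = 0, whose local cohomology vanishes, and the formula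
fails. The proof uses that H^d_m(R ⧸ xR) is the top local cohomology, i.e. that x is not a unit, so
x is taken in m here; for a standard graded ring this excludes only the units of degree 0.) -/
theorem result (R : Type u) [CommRing R] [LocCoh.IsCohenMacaulayRing R] (𝒜 : ℤ → AddSubgroup R) [GradedRing 𝒜] (hpos : ∀ n : ℤ, n < 0 → 𝒜 n = ⊥) (hstd : Ideal.span (⋃ n ∈ Set.Ioi (0 : ℤ), (𝒜 n : Set R)) = Ideal.span ((𝒜 1 : AddSubgroup R) : Set R)) (m : HomogeneousIdeal 𝒜) (hm : GrLC.IsStarLocal 𝒜 m) (d : ℕ) (hd : ringKrullDim R = (d + 1 : ℕ)) (I : GrLC.StarInjRes 𝒜 𝒜) (x : R) (k : ℤ) (hxk : x ∈ 𝒜 k) (hxm : x ∈ m.toIdeal) (hx : IsSMulRegular R x) (N : Type u) [AddCommGroup N] [Module R N] (𝒩 : ℤ → AddSubgroup N) [DirectSum.Decomposition 𝒩] [SetLike.GradedSMul 𝒜 𝒩] (π : R →ₗ[R] N) (hπ : GrLC.IsGrHom 𝒜 𝒩 π) (hπs : Function.Surjective π) (hπk : LinearMap.ker π = Ideal.span {x}) (F : GrLC.StarInjRes 𝒜 𝒩) : GrLC.endDeg (F.Hgr m d) = GrLC.endDeg (I.Hgr m (d + 1)) + ((k : WithTop ℤ) : WithBot (WithTop ℤ)) := by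
  have hpos' : ∀ n : ℤ, n < 0 → ∀ r ∈ 𝒜 n, r = 0 := fun n hn r hr => by
    rw [hpos n hn, AddSubgroup.mem_bot] at hr
    exact hr
  have hk : 0 ≤ k := by
    by_contra hk
    have hx0 := hpos' k (by omega) x hxk
    subst hx0
    have : Subsingleton R := ⟨fun a b => hx (show (0 : R) • a = (0 : R) • b by simp)⟩
    rw [ringKrullDim_eq_bot_of_subsingleton] at hd
    exact WithBot.bot_ne_coe hd
  let X := GrLC21.toGMod 𝒜 𝒜
  let f := GrLC21.smulMap X (k := k) x
  have hf : GrLC.IsGrHom (GrLC21.shift X k).gr X.gr f := GrLC21.smulMap_grHom X hxk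
  let S : GrLC21.Seq (GrLC21.shift X k) X (GrLC21.toGMod 𝒜 𝒩) :=
    { f := f, g := π, f_grHom := hf, g_grHom := hπ, f_inj := hx, g_surj := hπs
      exact := by
        refine SetLike.ext fun (r : R) => ⟨?_, fun hr => ?_⟩
        · rintro ⟨(z : R), rfl⟩
          show x • z ∈ LinearMap.ker π
          rw [hπk]
          exact Ideal.mul_mem_right z _ (Ideal.subset_span rfl)
        · have hr' : r ∈ Ideal.span {x} := hπk ▸ hr
          obtain ⟨z, hz⟩ := Ideal.mem_span_singleton'.1 hr'
          exact ⟨(z : R), show x • z = r by rw [smul_eq_mul, mul_comm]; exact hz⟩ }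
  refine GrLC21.eq_of_forall_le_int fun D => ?_
  have key : ∀ y : WithBot (WithTop ℤ), y + ((k : WithTop ℤ) : WithBot (WithTop ℤ)) ≤ ((D : WithTop ℤ) : WithBot (WithTop ℤ)) ↔
      y ≤ (((D - k : ℤ) : WithTop ℤ) : WithBot (WithTop ℤ)) := fun y => by
    cases y with
    | bot => simp
    | coe y =>
      cases y with
      | top =>
        rw [← WithBot.coe_add, WithBot.coe_le_coe, WithBot.coe_le_coe]
        simp
      | coe a =>
        rw [← WithBot.coe_add, ← WithTop.coe_add, WithBot.coe_le_coe, WithBot.coe_le_coe, WithTop.coe_le_coe,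
          WithTop.coe_le_coe]
        omega
  rw [key, GrLC21.endDeg_le_iff_van, GrLC21.endDeg_le_iff_van]
  constructor
  · intro h g hg
    refine GrLC21.Van.succ_of_smul hxk hxm S rfl fun n => h _ ?_
    rw [nsmul_eq_mul]
    push_cast
    nlinarith
  · intro h g hg
    refine GrLC21.Van.right S (GrLC21.van_self_of_ne hpos' hm hd (by omega) g) ((GrLC21.van_shift_iff k).2 ?_)
    exact h _ (by omega)

end Groth.Agent.S17769
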