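import Groth.Statements.S17771
import Groth.Agent.Lib.GrLC21.StarCM
import Groth.Agent.Lib.GrLC21.Gen
import Groth.Agent.Lib.GrLC21.EndDeg

set_option autoImplicit false
set_option backward.isDefEq.respectTransparency false
universe u
open GrLC

namespace Groth.Agent.S17771

/-- Let R = ⊕_{n ≥ 0} R_n be a positively ℤ-graded ring which is standard graded (irrelevant ideal
generated by R_1), with R_0 Artinian, *local with unique homogeneous maximal ideal m, and
Cohen–Macaulay of Krull dimension d. Then the a-invariant of R is at least −d: the end (largest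
nonzero degree) of the graded local cohomology module H^d_m(R), computed from any *injective
resolution of R in the graded category, is ≥ −d. (Equality holds exactly for polynomial rings
R_0[T_1, …, T_d]; that characterisation is not part of this statement.) -/
theorem result (R : Type u) [CommRing R] [LocCoh.IsCohenMacaulayRing R] (𝒜 : ℤ → AddSubgroup R) [GradedRing 𝒜] (hpos : ∀ n : ℤ, n < 0 → 𝒜 n = ⊥) (hstd : Ideal.span (⋃ n ∈ Set.Ioi (0 : ℤ), (𝒜 n : Set R)) = Ideal.span ((𝒜 1 : AddSubgroup R) : Set R)) [IsArtinianRing (GrLC.deg0 𝒜)] (m : HomogeneousIdeal 𝒜) (hm : GrLC.IsStarLocal 𝒜 m) (d : ℕ) (hd : ringKrullDim R = d) (I : GrLC.StarInjRes 𝒜 𝒜) : (((-(d : ℤ) : ℤ) : WithTop ℤ) : WithBot (WithTop ℤ)) ≤ GrLC.endDeg (I.Hgr m d) := by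
  have hpos' : ∀ n : ℤ, n < 0 → ∀ r ∈ 𝒜 n, r = 0 := fun n hn r hr => by
    rw [hpos n hn, AddSubgroup.mem_bot] at hr
    exact hr
  have : Nontrivial R := by
    by_contra h
    rw [not_nontrivial_iff_subsingleton] at h
    rw [ringKrullDim_eq_bot_of_subsingleton] at hd
    exact WithBot.bot_ne_coe hd
  let a : HomogeneousIdeal 𝒜 := ⟨Ideal.span ((𝒜 1 : AddSubgroup R) : Set R),
    Ideal.homogeneous_span 𝒜 _ fun r hr => ⟨1, hr⟩⟩
  have hmax := GrLC21.isMaximal_starMax hpos' hm.1
  have ham : a.toIdeal ≤ m.toIdeal.radical := by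
    refine le_trans ?_ Ideal.le_radical
    show Ideal.span ((𝒜 1 : AddSubgroup R) : Set R) ≤ m.toIdeal
    rw [← hstd]
    exact GrLC21.pos_le_starMax hpos' hm.1
  have hma : m.toIdeal ≤ a.toIdeal.radical := by
    intro x hx
    rw [Ideal.radical_eq_sInf, Submodule.mem_sInf]
    intro (P : Ideal R) hP'
    obtain ⟨hPa, hP⟩ := hP'
    have hPa' : Ideal.span (⋃ n ∈ Set.Ioi (0 : ℤ), (𝒜 n : Set R)) ≤ P := by rw [hstd]; exact hPa
    have hcomp : ∀ g ≠ (0 : ℤ), ∀ r ∈ 𝒜 g, r ∈ P := fun g hg r hr => by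
      rcases lt_or_gt_of_ne hg with h | h
      · rw [hpos' g h r hr]
        exact zero_mem P
      · exact hPa' (Ideal.subset_span (Set.mem_biUnion h hr))
    have hPh : P.IsHomogeneous 𝒜 := by
      intro g r hr
      change GrLC21.proj 𝒜 g r ∈ P
      rcases eq_or_ne g 0 with rfl | hg
      · have h := sub_mem hr (sum_mem (t := (GrLC21.degs 𝒜 r).erase 0)
          (f := fun g => GrLC21.proj 𝒜 g r) fun g hg => hcomp g (Finset.ne_of_mem_erase hg) _ (GrLC21.proj_mem 𝒜 g r))
        by_cases h0 : (0 : ℤ) ∈ GrLC21.degs 𝒜 r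
        · nth_rewrite 1 [← GrLC21.sum_proj 𝒜 r] at h
          rwa [← Finset.add_sum_erase _ _ h0, add_sub_cancel_right] at h
        · rw [GrLC21.mem_degs, not_not] at h0
          rw [h0]
          exact zero_mem P
      · exact hcomp g hg _ (GrLC21.proj_mem 𝒜 g r)
    have hPm : P ≤ m.toIdeal := GrLC21.le_of_isStarLocal hm hPh hP.ne_top
    have hPmax : P.IsMaximal := by
      have hq : ((P.comap (GrLC.deg0 𝒜).subtype)).IsMaximal :=
        Ideal.IsPrime.isMaximal' (hP.comap _)
      refine ⟨⟨hP.ne_top, fun J hJ => ?_⟩⟩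
      obtain ⟨r, hrJ, hrP⟩ := SetLike.exists_of_lt hJ
      have hdiff : r - GrLC21.proj 𝒜 0 r ∈ P := by
        refine GrLC21.spans_induction (GrLC21.spans_of_decomposition 𝒜) r (by simp)
          (fun u v hu hv => by rw [map_add, add_sub_add_comm]; exact add_mem hu hv) fun g s hs => ?_
        rcases eq_or_ne g 0 with rfl | hg
        · rw [GrLC21.proj_of_mem 𝒜 hs, sub_self]
          exact zero_mem P
        · rw [GrLC21.proj_of_mem_ne 𝒜 hs hg, sub_zero]
          exact hcomp g hg s hs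
      have h0J : GrLC21.proj 𝒜 0 r ∈ J := by
        have := J.sub_mem hrJ (hJ.le hdiff)
        rwa [sub_sub_cancel] at this
      have hlt : P.comap (GrLC.deg0 𝒜).subtype < J.comap (GrLC.deg0 𝒜).subtype := by
        refine lt_of_le_not_ge (Ideal.comap_mono hJ.le) fun h => hrP ?_
        have h1 : GrLC21.proj 𝒜 0 r ∈ P :=
          h (show (⟨_, GrLC21.proj_mem 𝒜 0 r⟩ : GrLC.deg0 𝒜) ∈ J.comap (GrLC.deg0 𝒜).subtype from h0J)
        have := P.add_mem hdiff h1
        rwa [sub_add_cancel] at this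
      have htop := hq.1.2 _ hlt
      exact (Ideal.comap_eq_top_iff).1 htop
    rw [hPmax.eq_of_le hmax.ne_top hPm]
    exact hx
  have key : ∀ D : ℤ, GrLC.endDeg (I.Hgr m d) ≤ ((D : WithTop ℤ) : WithBot (WithTop ℤ)) → -(d : ℤ) ≤ D := by
    intro D hD
    have hv := (GrLC21.endDeg_le_iff_van I d D).1 hD
    have hreg : ∀ (i : ℕ) (g : ℤ), D + d < g + i → GrLC21.Van a i g (GrLC21.toGMod 𝒜 𝒜) := by
      intro i g hg
      refine (GrLC21.van_iff_of_radical ham hma).2 ?_
      rcases eq_or_ne i d with rfl | hi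
      · exact hv g (by omega)
      · exact GrLC21.van_self_of_ne hpos' hm hd hi g
    have h := GrLC21.span_le_reg (a := a) rfl hreg
    by_contra hlt
    have hbot : Submodule.span R (⋃ (g : ℤ) (_ : g ≤ D + d), ((GrLC21.toGMod 𝒜 𝒜).gr g : Set (GrLC21.toGMod 𝒜 𝒜).carrier)) = ⊥ := by
      rw [Submodule.span_eq_bot]
      intro x hx
      obtain ⟨n, hn, hx⟩ := Set.mem_iUnion₂.1 hx
      exact hpos' n (by omega) x hx
    exact top_ne_bot (α := Submodule R R) (h.symm.trans hbot)
  generalize GrLC.endDeg (I.Hgr m d) = y at key ⊢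
  cases y with
  | bot => exact absurd (key (-(d : ℤ) - 1) bot_le) (by omega)
  | coe t =>
    cases t with
    | top => exact WithBot.coe_le_coe.2 le_top
    | coe D =>
      rw [WithBot.coe_le_coe, WithTop.coe_le_coe]
      exact key D le_rfl

end Groth.Agent.S17771
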