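import Groth.Statements.S17772
import Groth.Agent.Lib.GrLC21.HilbSerre
import Groth.Agent.Lib.GrLC21.StarCM
import Groth.Agent.S17767

set_option autoImplicit false
set_option backward.isDefEq.respectTransparency false
universe u
open GrLC

namespace Groth.Agent.S17772

/-- Let R = ⊕_{n ≥ 0} R_n be a positively ℤ-graded ring which is standard graded (irrelevant ideal
generated by R_1), with R_0 Artinian, *local with unique homogeneous maximal ideal m, and
Cohen–Macaulay of Krull dimension d; let H_R(n) = ℓ_{R_0}(R_n) be its Hilbert function and P_R ∈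
ℚ[X] its Hilbert polynomial (a polynomial agreeing with H_R for all large n, taken as given). Then
the a-invariant of R, the largest degree in which H^d_m(R) is nonzero (computed from any *injective
resolution of R), equals the supremum of the integers n with P_R(n) ≠ H_R(n). (The published text
writes 'min' for this supremum; the set of such n is unbounded below whenever it is nonempty, e.g.
all n < 0 for a polynomial ring over a field, and the published one-line proof H_R(n) − P_R(n) =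
(−1)^d ℓ(H^d_m(R)_n) identifies the set with the nonzero degrees of H^d_m(R), whose largest element
is a(R).) -/
theorem result (R : Type u) [CommRing R] [LocCoh.IsCohenMacaulayRing R] (𝒜 : ℤ → AddSubgroup R) [GradedRing 𝒜] (hpos : ∀ n : ℤ, n < 0 → 𝒜 n = ⊥) (hstd : Ideal.span (⋃ n ∈ Set.Ioi (0 : ℤ), (𝒜 n : Set R)) = Ideal.span ((𝒜 1 : AddSubgroup R) : Set R)) [IsArtinianRing (GrLC.deg0 𝒜)] (m : HomogeneousIdeal 𝒜) (hm : GrLC.IsStarLocal 𝒜 m) (d : ℕ) (hd : ringKrullDim R = d) (I : GrLC.StarInjRes 𝒜 𝒜) (P : Polynomial ℚ) (hP : ∃ N : ℤ, ∀ n : ℤ, N ≤ n → P.eval (n : ℚ) = ((Module.length (GrLC.deg0 𝒜) (GrLC.comp 𝒜 𝒜 n)).toNat : ℚ)) : GrLC.endDeg (I.Hgr m d) = ⨆ (n : ℤ) (_ : P.eval (n : ℚ) ≠ ((Module.length (GrLC.deg0 𝒜) (GrLC.comp 𝒜 𝒜 n)).toNat : ℚ)), ((n : WithTop ℤ) : WithBot (WithTop ℤ)) := by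
  have hpos' : ∀ n : ℤ, n < 0 → ∀ r ∈ 𝒜 n, r = 0 := fun n hn r hr => by
    rw [hpos n hn, AddSubgroup.mem_bot] at hr
    exact hr
  rw [GrLC.endDeg]
  refine iSup_congr fun n => iSup_congr_Prop ?_ fun _ => rfl
  have hfin : Module.Finite R (GrLC21.toGMod 𝒜 𝒜).carrier := inferInstanceAs (Module.Finite R R)
  have h := GrLC21.pieceLen_sub_eval m d hpos' hm hd hstd (GrLC21.toGMod 𝒜 𝒜)
    (fun i => (Groth.Agent.S17767.result R 𝒜 hpos m hm R 𝒜 I i).imp fun N hN n hn =>
      (GrLC21.Hcomp_eq_bot_iff_van I).1 (hN n hn)) P (by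
      obtain ⟨N, hN⟩ := hP
      exact ⟨N, fun n hn => hN n hn⟩) n
  rw [GrLC21.pieceLen_toGMod, GrLC21.chi, Finset.sum_eq_single d
    (fun i _ hi => by rw [GrLC21.Hlen_eq_zero (GrLC21.van_self_of_ne hpos' hm hd hi n)]; simp) (by simp),
    GrLC21.Hlen_toGMod I] at h
  obtain ⟨h1, h2⟩ := GrLC21.finiteLength_Hcomp m hpos' hm (GrLC21.toGMod 𝒜 𝒜) (GrLC21.toGModRes I) d n
  have h3 : Module.length (GrLC.deg0 𝒜) ((GrLC21.toGModRes I).Hcomp m d n) ≠ ⊤ := Module.length_ne_top
  have h4 : GrLC21.len (GrLC.deg0 𝒜) (I.Hcomp m d n) = 0 ↔ I.Hcomp m d n = ⊥ := by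
    rw [← Submodule.subsingleton_iff_eq_bot, ← Module.length_eq_zero_iff (R := GrLC.deg0 𝒜), GrLC21.len,
      ENat.toNat_eq_zero]
    refine or_iff_left ?_
    cases d <;> exact h3
  refine Iff.trans (not_congr ((GrLC21.Hgr_eq_bot_iff I m).trans h4.symm)) ?_
  change (GrLC21.len (GrLC.deg0 𝒜) (GrLC.comp 𝒜 𝒜 n) : ℚ) - _ = _ at h
  show ¬ _ ↔ P.eval (n : ℚ) ≠ (GrLC21.len (GrLC.deg0 𝒜) (GrLC.comp 𝒜 𝒜 n) : ℚ)
  constructor
  · intro hne heq
    rw [heq, sub_self, eq_comm, Int.cast_eq_zero, mul_eq_zero] at h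
    rcases h with h | h
    · exact absurd h (pow_ne_zero _ (by norm_num))
    · exact hne (by exact_mod_cast h)
  · intro hne h0
    refine hne ?_
    rw [h0] at h
    simp at h
    linarith

end Groth.Agent.S17772
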