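import Groth.Statements.S17773
import Groth.Agent.Lib.FlatCx.Cochain
import Groth.Agent.Lib.RFPlus.MapExtend
import Mathlib.CategoryTheory.Abelian.LeftDerived
import Mathlib.CategoryTheory.Abelian.Projective.Resolution
import Mathlib.Algebra.Homology.QuasiIso

set_option autoImplicit false
universe u
open CategoryTheory CategoryTheory.Limits
open CAlg

namespace Groth.Agent.S17773


open CategoryTheory CategoryTheory.Limits CategoryTheory.MonoidalCategory in
theorem exists_lift {R : Type u} [CommRing R] {M : ModuleCat.{u} R} (F : ChainComplex (ModuleCat.{u} R) ℕ)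
    (φ : F ⟶ (ChainComplex.single₀ (ModuleCat.{u} R)).obj M) [QuasiIso φ] (P : ProjectiveResolution M) :
    ∃ ψ : P.complex ⟶ F, ψ ≫ φ = P.π := by
  have w : F.d 1 0 ≫ φ.f 0 = 0 := by rw [← φ.comm 1 0, HomologicalComplex.single_obj_d, comp_zero]
  have h0 : (ShortComplex.mk _ _ w).Exact ∧ Epi (φ.f 0) := by
    have h : QuasiIsoAt φ 0 := inferInstance
    rw [ChainComplex.quasiIsoAt₀_iff, ShortComplex.quasiIso_iff_of_zeros'] at h
    · exact h
    · exact F.shape 0 0 (by simp)
    · exact HomologicalComplex.single_obj_d (ComplexShape.down ℕ) 0 M _ _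
    · exact HomologicalComplex.single_obj_d (ComplexShape.down ℕ) 0 M _ _
  haveI := h0.2
  have hsucc : ∀ n, (ShortComplex.mk (F.d (n + 2) (n + 1)) (F.d (n + 1) n) (F.d_comp_d _ _ _)).Exact := fun n => by
    have h := (quasiIsoAt_iff_exactAt' φ (n + 1) (ChainComplex.exactAt_succ_single_obj _ _)).1 inferInstance
    exact (F.exactAt_iff' (n + 2) (n + 1) n (by simp only [ChainComplex.prev]; rfl) (by simp)).1 h
  let f0 : P.complex.X 0 ⟶ F.X 0 := Projective.factorThru (P.π.f 0) (φ.f 0)
  have hf0 : f0 ≫ φ.f 0 = P.π.f 0 := Projective.factorThru_comp _ _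
  have hw1 : (P.complex.d 1 0 ≫ f0) ≫ φ.f 0 = 0 := by
    rw [Category.assoc, hf0, ← P.π.comm 1 0, HomologicalComplex.single_obj_d, comp_zero]
  let f1 : P.complex.X 1 ⟶ F.X 1 := h0.1.liftFromProjective (P.complex.d 1 0 ≫ f0) hw1
  have hf1 : f1 ≫ F.d 1 0 = P.complex.d 1 0 ≫ f0 := h0.1.liftFromProjective_comp _ _
  let ψ : P.complex ⟶ F := ChainComplex.mkHom _ _ f0 f1 hf1 fun n ⟨g, g', hw⟩ =>
    ⟨(hsucc n).liftFromProjective (P.complex.d (n + 2) (n + 1) ≫ g')
      (by simp [hw]), (hsucc n).liftFromProjective_comp _ _⟩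
  refine ⟨ψ, ?_⟩
  refine HomologicalComplex.to_single_hom_ext ?_
  simp only [ψ, HomologicalComplex.comp_f, ChainComplex.mkHom_f_0]
  exact hf0

open CategoryTheory CategoryTheory.Limits CategoryTheory.MonoidalCategory in
theorem main (R : Type u) [CommRing R] (M N : ModuleCat.{u} R) (F : ChainComplex (ModuleCat.{u} R) ℕ) (hF : ∀ i : ℕ, Module.Flat R (F.X i)) (φ : F ⟶ (ChainComplex.single₀ (ModuleCat.{u} R)).obj M) [QuasiIso φ] (i : ℕ) : Nonempty ((((tensorRight N).mapHomologicalComplex (ComplexShape.down ℕ)).obj F).homology i ≅ ((Tor' (ModuleCat.{u} R) i).obj M).obj N) := by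
  let P := ProjectiveResolution.of M
  obtain ⟨ψ, hψ⟩ := exists_lift F φ P
  haveI : QuasiIso (ψ ≫ φ) := by rw [hψ]; infer_instance
  haveI : QuasiIso ψ := quasiIso_of_comp_right ψ φ
  let e := ComplexShape.embeddingDownNat
  haveI : QuasiIso (HomologicalComplex.extendMap ψ e) := (HomologicalComplex.quasiIso_extendMap_iff ψ e).2 inferInstance
  have hflat : ∀ (K : ChainComplex (ModuleCat.{u} R) ℕ), (∀ n, Module.Flat R (K.X n)) →
      ∀ j, Module.Flat R ((K.extend e).X j) := fun K hK j => by
    by_cases h : ∃ n, e.f n = j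
    · obtain ⟨n, hn⟩ := h
      haveI := hK n
      exact Module.Flat.of_linearEquiv (K.extendXIso e hn).toLinearEquiv
    · haveI : Subsingleton ((K.extend e).X j) :=
        ModuleCat.subsingleton_of_isZero (K.isZero_extend_X e j fun n hn => h ⟨n, hn⟩)
      infer_instance
  have hb : ∀ (K : ChainComplex (ModuleCat.{u} R) ℕ) (j : ℤ), 0 < j → IsZero ((K.extend e).X j) := fun K j hj =>
    K.isZero_extend_X e j fun n hn => by simp [e, ComplexShape.embeddingDownNat] at hn; omega
  have hP : ∀ n, Module.Flat R (P.complex.X n) := fun n => by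
    haveI : Projective (ModuleCat.of R (P.complex.X n)) := P.projective n
    haveI : Module.Projective R (P.complex.X n) := (IsProjective.iff_projective (R := R) (P.complex.X n)).2 inferInstance
    infer_instance
  haveI := Groth.Agent.FlatCxLib.quasiIso_tensorRight_map (hflat _ hP) (hflat _ hF) (hb _) (hb _)
    (HomologicalComplex.extendMap ψ e) N
  have hi : e.f i = -(i : ℤ) := rfl
  let c : ∀ K : ChainComplex (ModuleCat.{u} R) ℕ,
      (((tensorRight N).mapHomologicalComplex (ComplexShape.up ℤ)).obj (K.extend e)).homology (-(i : ℤ)) ≅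
      (((tensorRight N).mapHomologicalComplex (ComplexShape.down ℕ)).obj K).homology i := fun K =>
    HomologicalComplex.homologyMapIso (Groth.Agent.RFPlus.mapExtendIso (tensorRight N) e K) _ ≪≫
      HomologicalComplex.extendHomologyIso _ e hi
  exact ⟨(c F).symm ≪≫ (asIso (HomologicalComplex.homologyMap
    (((tensorRight N).mapHomologicalComplex (ComplexShape.up ℤ)).map (HomologicalComplex.extendMap ψ e)) (-(i : ℤ)))).symm ≪≫
    c P.complex ≪≫ (P.isoLeftDerivedObj (tensorRight N) i).symm⟩



/-- Let R be a commutative ring, M and N two R-modules, and F a flat resolution of M: a chain complex F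
of flat R-modules concentrated in non-negative degrees together with a quasi-isomorphism from F to M
placed in degree 0. Then for every i ≥ 0 the i-th homology module of the complex F ⊗_R N is
isomorphic to Tor_i^R(M, N), the i-th left derived functor of − ⊗_R N evaluated at M (existence of
an isomorphism of R-modules). -/
theorem result (R : Type u) [CommRing R] (M N : Type u) [AddCommGroup M] [Module R M] [AddCommGroup N] [Module R N] (F : ChainComplex (ModuleCat.{u} R) ℕ) (hF : ∀ i : ℕ, Module.Flat R (F.X i)) (φ : F ⟶ (ChainComplex.single₀ (ModuleCat.{u} R)).obj (ModuleCat.of R M)) [QuasiIso φ] (i : ℕ) : Nonempty ((((MonoidalCategory.tensorRight (ModuleCat.of R N)).mapHomologicalComplex (ComplexShape.down ℕ)).obj F).homology i ≅ ((Tor' (ModuleCat.{u} R) i).obj (ModuleCat.of R M)).obj (ModuleCat.of R N)) := by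
  exact main R (ModuleCat.of R M) (ModuleCat.of R N) F hF φ i

end Groth.Agent.S17773
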