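import Groth.Statements.S17774
import Groth.Agent.Lib.Goren.LocalDuality27
import Groth.Agent.Lib.Goren.CMHeight27
-- import your own Groth.Agent.* helpers here

set_option autoImplicit false
universe u
open CategoryTheory Opposite
open LocCoh

namespace Groth.Agent.S17774

/-- Let (S, n) be a Gorenstein local ring, I an ideal of S of height g such that R = S ⧸ I is a
Cohen–Macaulay local ring, of Krull dimension d, and E an injective hull of the residue field of S.
Then the canonical module of R is Ext^g_S(R, S), in the following sense: the Matlis dual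
Hom_S(Ext^g_S(R, S), E) is isomorphic as an S-module to the top local cohomology H^d_n(R) of R
regarded as an S-module (existence of an S-linear isomorphism; Hom into E over S and local
cohomology with support in n agree with the corresponding notions over R for R-modules). -/
theorem result (S : Type u) [CommRing S] [LocCoh.IsGorensteinLocalRing S] (I : Ideal S) (g : ℕ) (hg : I.height = g) [LocCoh.IsCohenMacaulayLocalRing (S ⧸ I)] (d : ℕ) (hd : ringKrullDim (S ⧸ I) = d) (E : Type u) [AddCommGroup E] [Module S E] (f : IsLocalRing.ResidueField S →ₗ[S] E) (hf : InjHull.IsInjectiveHull f) : Nonempty ((((Ext S (ModuleCat.{u} S) g).obj (op (ModuleCat.of S (S ⧸ I)))).obj (ModuleCat.of S S) →ₗ[S] E) ≃ₗ[S] LocCoh.H (IsLocalRing.maximalIdeal S) d (S ⧸ I)) := by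
  haveI := GorenLib.isCohenMacaulayLocalRing_of_gorenstein (S := S)
  have hI : I ≠ ⊤ := fun h => by
    haveI := Ideal.Quotient.subsingleton_iff.2 h
    exact not_nontrivial (S ⧸ I) inferInstance
  have hn : ringKrullDim S = ((d + g : ℕ) : WithBot ℕ∞) := by
    rw [GorenLib.ringKrullDim_eq_quotient_add_height I hI, hd, hg]
    rfl
  obtain ⟨D⟩ := GorenLib.exists_dualityData (n := d + g) hn hf
  have h := D.duality' g (S ⧸ I) (Nat.le_add_left g d)
  rwa [Nat.add_sub_cancel] at h

end Groth.Agent.S17774
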