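import Groth.Statements.S17779
import Mathlib

set_option autoImplicit false
open DRR

namespace Groth.Agent.S17779
open Finset

/-- For natural numbers n and k with k ≤ n + 1, the alternating sum over j = 0, …, n of (−1)^(n−j) C(n,
j) j^k (with the convention 0^0 = 1) equals n! · n(n+1)/2 when k = n + 1, equals n! when k = n, and
vanishes when k < n. (The published statement takes n ≥ 1 and divides through by n!; the case n = 0
holds as well and is included.) -/
theorem result (n k : ℕ) (hk : k ≤ n + 1) :
    (∑ j ∈ Finset.range (n + 1), (-1 : ℤ) ^ (n - j) * (n.choose j : ℤ) * (j : ℤ) ^ k) =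
      (if k = n + 1 then (((n + 1).choose 2 * n.factorial : ℕ) : ℤ)
        else if k = n then (n.factorial : ℤ) else 0) := by
  induction n generalizing k with
  | zero => rcases k with _ | _ | k <;> simp at hk ⊢
  | succ n ih =>
    rcases k with _ | k
    · rw [if_neg (by omega), if_neg (by omega)]
      simp only [pow_zero, mul_one]
      rw [← Finset.sum_range_reflect]
      refine Eq.trans (Finset.sum_congr rfl fun j hj => ?_) (Int.alternating_sum_range_choose_of_ne (n := n + 1) (by omega))
      rw [Finset.mem_range] at hj
      rw [show n + 1 + 1 - 1 - j = n + 1 - j by omega, Nat.sub_sub_self (by omega), Nat.choose_symm (by omega)]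
    · rw [Finset.sum_range_succ', Nat.cast_zero, zero_pow (Nat.succ_ne_zero _), mul_zero, add_zero]
      have h1 : ∀ i ∈ range (n + 1), (-1 : ℤ) ^ (n + 1 - (i + 1)) * ((n + 1).choose (i + 1) : ℤ) * ((i + 1 : ℕ) : ℤ) ^ (k + 1) =
          (n + 1 : ℤ) * ∑ l ∈ range (k + 1), (k.choose l : ℤ) * ((-1) ^ (n - i) * (n.choose i : ℤ) * (i : ℤ) ^ l) := by
        intro i _
        have e1 : ((n + 1).choose (i + 1) : ℤ) * (i + 1 : ℤ) = (n + 1 : ℤ) * (n.choose i : ℤ) := by
          exact_mod_cast (Nat.add_one_mul_choose_eq n i).symm
        have e2 : ((i : ℤ) + 1) ^ k = ∑ l ∈ range (k + 1), (k.choose l : ℤ) * (i : ℤ) ^ l := by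
          rw [add_pow]; exact sum_congr rfl fun l _ => by rw [one_pow, mul_one, mul_comm]
        rw [Nat.add_sub_add_right, Nat.cast_succ, pow_succ, mul_sum]
        calc _ = (-1 : ℤ) ^ (n - i) * (((n + 1).choose (i + 1) : ℤ) * (i + 1 : ℤ)) * ((i : ℤ) + 1) ^ k := by ring
          _ = _ := by rw [e1, e2, mul_sum]; exact sum_congr rfl fun l _ => by ring
      rw [sum_congr rfl h1, ← mul_sum, sum_comm]
      simp only [← mul_sum]
      have hk' : k ≤ n + 1 := by omega
      rw [sum_congr rfl (fun l hl => by rw [ih l (by rw [Finset.mem_range] at hl; omega)])]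
      rcases Nat.lt_trichotomy k n with h | h | h
      · rw [if_neg (by omega), if_neg (by omega), sum_eq_zero, mul_zero]
        intro l hl; rw [Finset.mem_range] at hl
        rw [if_neg (by omega), if_neg (by omega), mul_zero]
      · subst h
        rw [if_neg (by omega), if_pos rfl, sum_eq_single k]
        · rw [if_neg (by omega), if_pos rfl, Nat.choose_self, Nat.factorial_succ]; push_cast; ring
        · intro l hl hne; rw [Finset.mem_range] at hl
          rw [if_neg (by omega), if_neg hne, mul_zero]
        · intro hh; simp at hh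
      · obtain rfl : k = n + 1 := by omega
        rw [if_pos rfl, sum_range_succ, sum_eq_single n]
        · rw [if_neg (by omega), if_pos rfl, if_pos rfl, Nat.choose_succ_self_right, Nat.choose_self,
            show (n + 1 + 1).choose 2 = (n + 1) + (n + 1).choose 2 by rw [Nat.choose_succ_succ (n + 1) 1, Nat.choose_one_right],
            Nat.factorial_succ]
          push_cast; ring
        · intro l hl hne; rw [Finset.mem_range] at hl
          rw [if_neg (by omega), if_neg hne, mul_zero]
        · intro hh; simp at hh

end Groth.Agent.S17779
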