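import Groth.Statements.S17780
import Mathlib
import Groth.Agent.S17779
import Groth.Agent.S17779

set_option autoImplicit false
universe u
open DRR

namespace Groth.Agent.S17780
open Finset

/-- For x, y in a commutative ring and a natural number n, (n+1)! · x · y^n equals the sum over j = 0,
…, n of (−1)^(n−j) C(n, j) (x + j y)^(n+1), minus (n · (n+1)!/2) · y^(n+1). (The published identity
is stated in ℚ[x, y] with an overall factor 1/(n+1) and the coefficients C(n, j)(−1)^(n−j)/n!; it is
given here multiplied through by (n+1)!, which makes it an identity with integer coefficients valid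
in every commutative ring; n · (n+1)!/2 is an integer.) -/
theorem result (A : Type u) [CommRing A] (x y : A) (n : ℕ) :
    ((n + 1).factorial : A) * x * y ^ n =
      (∑ j ∈ Finset.range (n + 1), (-1 : A) ^ (n - j) * (n.choose j : A) * (x + (j : A) * y) ^ (n + 1))
        - ((n * (n + 1).factorial / 2 : ℕ) : A) * y ^ (n + 1) := by
  have hS := fun k hk => congrArg (Int.cast : ℤ → A) (Groth.Agent.S17779.result n k hk)
  simp only [Int.cast_sum, Int.cast_mul, Int.cast_pow, Int.cast_neg, Int.cast_one, Int.cast_natCast] at hS
  have h1 : ∀ j ∈ range (n + 1), (-1 : A) ^ (n - j) * (n.choose j : A) * (x + (j : A) * y) ^ (n + 1) =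
      ∑ l ∈ range (n + 2), ((n + 1).choose l : A) * x ^ (n + 1 - l) * y ^ l * ((-1) ^ (n - j) * (n.choose j : A) * (j : A) ^ l) := by
    intro j _
    rw [add_comm x, add_pow, mul_sum]
    exact sum_congr rfl fun l _ => by ring
  rw [sum_congr rfl h1, sum_comm]
  simp only [← mul_sum]
  rw [sum_congr rfl (fun l hl => by rw [hS l (by rw [Finset.mem_range] at hl; omega)]), sum_range_succ, sum_eq_single n]
  · rw [if_neg (by omega), if_pos rfl, if_pos rfl, Nat.choose_succ_self_right, Nat.choose_self]
    have e : n * (n + 1).factorial / 2 = (n + 1).choose 2 * n.factorial := by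
      rw [Nat.choose_two_right, Nat.add_sub_cancel, Nat.factorial_succ,
        show n * ((n + 1) * n.factorial) = (n + 1) * n * n.factorial by ring]
      exact Nat.mul_div_right_comm (Nat.two_dvd_mul_add_one n |> fun h => by rwa [mul_comm] at h) _
    rw [e, Nat.factorial_succ]
    simp only [Nat.add_sub_cancel_left, Nat.sub_self, Int.cast_natCast]
    push_cast; ring
  · intro l hl hne; rw [Finset.mem_range] at hl
    rw [if_neg (by omega), if_neg hne]; simp
  · intro hh; simp at hh

end Groth.Agent.S17780
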