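import Groth.Statements.S17781
import Mathlib.Data.Nat.Choose.Lucas
import Mathlib.Data.Nat.Factorization.Basic
import Mathlib.Tactic.Ring
import Mathlib.Tactic.Linarith
import Mathlib.Tactic.Positivity

set_option autoImplicit false
open Variety

namespace Groth.Agent.S17781

theorem div_gcd_dvd_choose (d n : ℕ) (hd : 1 ≤ d) (hn : 1 ≤ n) : d / d.gcd n ∣ d.choose n := by
  have h : d ∣ d.choose n * n := by
    obtain ⟨m, rfl⟩ : ∃ m, n = m + 1 := ⟨n - 1, by omega⟩
    obtain ⟨e, rfl⟩ : ∃ e, d = e + 1 := ⟨d - 1, by omega⟩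
    exact ⟨e.choose m, (Nat.add_one_mul_choose_eq e m).symm⟩
  have hg : 0 < d.gcd n := Nat.gcd_pos_of_pos_left _ (by omega)
  refine (Nat.Coprime.dvd_mul_right (Nat.coprime_div_gcd_div_gcd hg)).mp ?_
  apply Nat.dvd_of_mul_dvd_mul_right hg
  rw [Nat.div_mul_cancel (Nat.gcd_dvd_left d n), mul_assoc, Nat.div_mul_cancel (Nat.gcd_dvd_right d n)]
  exact h

theorem not_dvd_choose_pred (p : ℕ) (hp : p.Prime) (k m : ℕ) (hm : 1 ≤ m) :
    ¬ p ∣ (p ^ k * m - 1).choose (p ^ k - 1) := by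
  haveI := Fact.mk hp
  induction k with
  | zero => simp [hp.ne_one]
  | succ k ih =>
    have hp1 := hp.one_lt
    have e1 : p ^ (k + 1) * m - 1 = (p - 1) + p * (p ^ k * m - 1) := by
      have : 1 ≤ p ^ k * m := Nat.one_le_iff_ne_zero.mpr (by positivity)
      have : p * (p ^ k * m) = p ^ (k + 1) * m := by ring
      rw [Nat.mul_sub, mul_one]; 
      have : p ≤ p * (p ^ k * m) := Nat.le_mul_of_pos_right _ (by omega)
      omega
    have e2 : p ^ (k + 1) - 1 = (p - 1) + p * (p ^ k - 1) := by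
      have : p * p ^ k = p ^ (k + 1) := by ring
      have : p ≤ p * p ^ k := Nat.le_mul_of_pos_right _ (by positivity)
      rw [Nat.mul_sub, mul_one]; omega
    have hl := Choose.choose_modEq_choose_mod_mul_choose_div_nat (p := p) (n := p ^ (k + 1) * m - 1) (k := p ^ (k + 1) - 1)
    rw [e1, e2, Nat.add_mul_mod_self_left, Nat.mod_eq_of_lt (by omega : p - 1 < p),
      Nat.add_mul_mod_self_left, Nat.mod_eq_of_lt (by omega : p - 1 < p), Nat.choose_self, one_mul,
      Nat.add_mul_div_left _ _ hp.pos, Nat.add_mul_div_left _ _ hp.pos,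
      Nat.div_eq_of_lt (by omega : p - 1 < p), zero_add, zero_add] at hl
    rw [e1, e2]
    exact fun h => ih ((hl.dvd_iff dvd_rfl).mp h)

theorem dvd_div_of_forall_dvd_choose (d N g δ : ℕ) (hd : 1 ≤ d) (hg : ∀ n ∈ Finset.Icc 1 N, g ∣ d.choose n)
    (hδN : δ ∈ Finset.Icc 1 N) (hδd : δ ∣ d) : g ∣ d / δ := by
  obtain ⟨hδ1, hδ2⟩ := Finset.mem_Icc.mp hδN
  refine (Nat.dvd_div_iff_mul_dvd hδd).mpr ((Nat.dvd_iff_prime_pow_dvd_dvd _ _).mpr fun p k hp hk => ?_)
  have hδ0 : δ ≠ 0 := by omega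
  set a := δ.factorization p with ha
  have hpa : p ^ a ∣ δ := Nat.ordProj_dvd δ p
  rcases le_or_gt k a with hka | hka
  · exact (pow_dvd_pow p hka).trans (hpa.trans hδd)
  obtain ⟨j, rfl⟩ : ∃ j, k = a + j := ⟨k - a, by omega⟩
  have hjg : p ^ j ∣ g := by
    have e : δ * g = p ^ a * ((δ / p ^ a) * g) := by rw [← mul_assoc, Nat.mul_div_cancel' hpa]
    rw [e, pow_add] at hk
    have := Nat.dvd_of_mul_dvd_mul_left (by have := hp.pos; positivity) hk
    exact (Nat.Coprime.pow_left j (hp.coprime_iff_not_dvd.mpr (Nat.not_dvd_ordCompl hp hδ0))).dvd_of_dvd_mul_left this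
  obtain ⟨m, hm⟩ : p ^ a ∣ d := hpa.trans hδd
  have hm1 : 1 ≤ m := by
    rcases Nat.eq_zero_or_pos m with rfl | h
    · simp at hm; omega
    · exact h
  have hpos : 1 ≤ p ^ a := Nat.one_le_pow _ _ hp.pos
  have hC : d.choose (p ^ a) = m * (d - 1).choose (p ^ a - 1) := by
    have h := Nat.add_one_mul_choose_eq (d - 1) (p ^ a - 1)
    rw [show d - 1 + 1 = d by omega, show p ^ a - 1 + 1 = p ^ a by omega] at h
    apply Nat.eq_of_mul_eq_mul_right hpos
    rw [← h]; nlinarith [hm]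
  have hdvd : p ^ j ∣ m := by
    have := hjg.trans (hg (p ^ a) (Finset.mem_Icc.mpr ⟨hpos, (Nat.le_of_dvd (by omega) hpa).trans hδ2⟩))
    rw [hC] at this
    refine (Nat.Coprime.pow_left j (hp.coprime_iff_not_dvd.mpr ?_)).dvd_of_dvd_mul_right this
    rw [hm]; exact not_dvd_choose_pred p hp a m hm1
  rw [hm, pow_add]
  exact mul_dvd_mul_left _ hdvd

/-- Let d ≥ 1 and N ≥ 1 be integers and let I(d, N) be the greatest common divisor of the quotients d/δ
over the divisors δ of d with 1 ≤ δ ≤ N. Then I(d, N) equals the greatest common divisor of the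
integers χ(d, n) = 1 − (−1)^n C(d − 1, n) for 1 ≤ n ≤ N (χ(d, n) is the Euler characteristic of O_H
for a degree-d hypersurface H in projective n-space). Both greatest common divisors are taken in ℤ,
normalised to be non-negative. -/
theorem result (d N : ℕ) (hd : 1 ≤ d) (hN : 1 ≤ N) :
    (Finset.Icc 1 N).gcd (fun n => 1 - (-1 : ℤ) ^ n * ((d - 1).choose n : ℤ)) =
      ((Finset.Icc 1 N).filter (fun δ => δ ∣ d)).gcd (fun δ => ((d / δ : ℕ) : ℤ)) := by
  have hunit : ∀ n : ℕ, IsUnit ((-1 : ℤ) ^ n) := fun n => isUnit_one.neg.pow n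
  have key₁ : ∀ g : ℤ, (∀ n ∈ Finset.Icc 1 N, g ∣ 1 - (-1 : ℤ) ^ n * ((d - 1).choose n : ℤ)) ↔
      ∀ n ∈ Finset.Icc 1 N, g ∣ (d.choose n : ℤ) := by
    intro g
    have rec' : ∀ m : ℕ, (1 - (-1 : ℤ) ^ (m + 1) * ((d - 1).choose (m + 1) : ℤ)) =
        (1 - (-1 : ℤ) ^ m * ((d - 1).choose m : ℤ)) + (-1 : ℤ) ^ m * (d.choose (m + 1) : ℤ) := by
      intro m
      have e : d.choose (m + 1) = (d - 1).choose m + (d - 1).choose (m + 1) := by
        conv_lhs => rw [show d = d - 1 + 1 by omega]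
        exact Nat.choose_succ_succ _ _
      rw [e]; push_cast; ring
    constructor
    · intro h n hn
      obtain ⟨h1, h2⟩ := Finset.mem_Icc.mp hn
      obtain ⟨m, rfl⟩ : ∃ m, n = m + 1 := ⟨n - 1, by omega⟩
      have hm : g ∣ 1 - (-1 : ℤ) ^ m * ((d - 1).choose m : ℤ) := by
        rcases Nat.eq_zero_or_pos m with rfl | hp
        · simp
        · exact h m (Finset.mem_Icc.mpr ⟨hp, by omega⟩)
      have := h (m + 1) hn
      rw [rec', dvd_add_right hm] at this
      exact (IsUnit.dvd_mul_left (hunit m)).mp this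
    · intro h n hn
      have : ∀ n ≤ N, g ∣ 1 - (-1 : ℤ) ^ n * ((d - 1).choose n : ℤ) := by
        intro n hn
        induction n with
        | zero => simp
        | succ m ih =>
          rw [rec']
          exact dvd_add (ih (by omega)) (Dvd.dvd.mul_left (h _ (Finset.mem_Icc.mpr ⟨by omega, hn⟩)) _)
      exact this n (Finset.mem_Icc.mp hn).2
  refine dvd_antisymm_of_normalize_eq Finset.normalize_gcd Finset.normalize_gcd ?_ ?_
  · refine Finset.dvd_gcd fun δ hδ => ?_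
    obtain ⟨hδN, hδd⟩ := Finset.mem_filter.mp hδ
    have hC : ∀ n ∈ Finset.Icc 1 N, ((Finset.Icc 1 N).gcd fun n => 1 - (-1 : ℤ) ^ n * ((d - 1).choose n : ℤ)).natAbs ∣ d.choose n :=
      fun n hn => Int.ofNat_dvd.mp (Int.natAbs_dvd.mpr ((key₁ ((Finset.Icc 1 N).gcd fun n => 1 - (-1 : ℤ) ^ n * ((d - 1).choose n : ℤ))).mp (fun m hm => Finset.gcd_dvd hm) n hn))
    exact Int.natAbs_dvd.mp (Int.ofNat_dvd.mpr (dvd_div_of_forall_dvd_choose d N _ δ hd hC hδN hδd))
  · refine Finset.dvd_gcd ((key₁ _).mpr fun n hn => ?_)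
    obtain ⟨h1, h2⟩ := Finset.mem_Icc.mp hn
    have hmem : d.gcd n ∈ (Finset.Icc 1 N).filter (fun δ => δ ∣ d) :=
      Finset.mem_filter.mpr ⟨Finset.mem_Icc.mpr ⟨Nat.gcd_pos_of_pos_left _ (by omega),
        (Nat.le_of_dvd (by omega) (Nat.gcd_dvd_right d n)).trans h2⟩, Nat.gcd_dvd_left d n⟩
    exact (Finset.gcd_dvd hmem).trans (Int.ofNat_dvd.mpr (div_gcd_dvd_choose d n hd h1))

end Groth.Agent.S17781
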