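import Groth.Statements.S17783
import Groth.Agent.Lib.NumPoly18.TauEuler
import Groth.Agent.Lib.NumPoly18.FamilyEuler
import Groth.Agent.Lib.ArInter.Geometric
import Groth.Agent.Lib.ArInter.Euler
import Groth.Agent.Lib.CurveCoh17.IdealPow
import Groth.Agent.Lib.CohMop.ClosedCounit
import Groth.Agent.Lib.RHom.ProjClosed
import Groth.Agent.Lib.MumVan22.ChiTwist
import Groth.Agent.Lib.TensorMod.PullTensor
import Groth.Agent.Lib.CartExt13.Divisor
import Groth.Agent.Lib.CurveR1_10.Basic
import Groth.Agent.Lib.HilbRS3.QuotPush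

set_option autoImplicit false
universe u
open CategoryTheory CategoryTheory.Limits AlgebraicGeometry
open Variety

namespace Groth.Agent.S17783


section
set_option backward.isDefEq.respectTransparency false

open Groth.Agent Groth.Agent.NumPoly18

/-- A twist with trivial power does not change Euler characteristics. -/
private theorem euler_periodic {k : Type u} [Field k] {Y : Scheme.{u}} [Y.Over (Spec (CommRingCat.of k))]
    [IsProper (Y ↘ Spec (CommRingCat.of k))] {L : Y.Modules} (hL : PicF.IsInvertible L) {n : ℕ} (hn : 0 < n)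
    (e : CohB1.tensorPow L n ≅ Coh.structureModule Y) {F : Y.Modules} (hF : Coh.IsCoh F) (a : ℕ) :
    Curv2.euler k Y (CohB1.tensorMod F (CohB1.tensorPow L a)) = Curv2.euler k Y F := by
  obtain ⟨d, hd⟩ := Snapper.exists_dim_le (k := k) (X := Y)
  have step : ∀ j : ℕ, Curv2.euler k Y (CohB1.tensorMod F (CohB1.tensorPow L (n * j))) = Curv2.euler k Y F := by
    intro j
    induction j with
    | zero => exact CurveCoh17.euler_iso (M2.tensorRUnit F)
    | succ j ih =>
      refine Eq.trans ?_ ih
      exact CurveCoh17.euler_iso (M2.tensorIso (Iso.refl F)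
        (M2.tensorPowAdd L (n * j) n ≪≫ M2.tensorIso (Iso.refl _) e ≪≫ M2.tensorRUnit _))
  obtain ⟨Q, hQ, -, -⟩ := Snapper.exists_isHilbPoly_dim k hL hF (r := d) ((Snapper.dim_le_of_subset (Set.subset_univ _) (le_of_eq ((Homeomorph.Set.univ Y).isHomeomorph.topologicalKrullDim_eq _))).trans hd)
  have hQ' : ∀ i : ℕ, (Curv2.euler k Y (CohB1.tensorMod F (CohB1.tensorPow L i)) : ℚ) = Q.eval (i : ℚ) :=
    fun i => hQ i
  have hQc : Q - Polynomial.C ((Curv2.euler k Y F : ℤ) : ℚ) = 0 := by
    refine Polynomial.eq_zero_of_infinite_isRoot _ (Set.Infinite.mono ?_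
      (Set.infinite_range_of_injective (f := fun j : ℕ => (((n * j : ℕ)) : ℚ)) fun a b hab => ?_))
    · rintro _ ⟨j, rfl⟩
      simp only [Set.mem_setOf_eq, Polynomial.IsRoot.def, Polynomial.eval_sub, Polynomial.eval_C]
      rw [← hQ' (n * j), step j, sub_self]
    · exact Nat.eq_of_mul_eq_mul_left hn (Nat.cast_injective hab)
  have h1 := hQ' a
  rw [sub_eq_zero.1 hQc, Polynomial.eval_C] at h1
  exact Int.cast_injective h1

variable {X Y : Scheme.{u}} (i : Y ⟶ X) [IsClosedImmersion i]

private def Ess (M : X.Modules) : Prop := ∃ N : Y.Modules, Nonempty (M ≅ (Scheme.Modules.pushforward i).obj N)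

private theorem ess_quot {J : X.IdealSheafData} (h : i.ker ≤ J) : Ess i (ClSub.quotMod J) := by
  have hk : i.ker ≤ J.subschemeι.ker := by rwa [Scheme.IdealSheafData.ker_subschemeι]
  let l := IsClosedImmersion.lift i J.subschemeι hk
  exact ⟨(Scheme.Modules.pushforward l).obj (Coh.structureModule J.subscheme),
    ⟨(Scheme.Modules.pushforwardCongr (IsClosedImmersion.lift_fac i J.subschemeι hk).symm).app _ ≪≫
      ((Scheme.Modules.pushforwardComp l i).app _).symm⟩⟩

private theorem ess_tensor {M E : X.Modules} (h : Ess i M) (hE : PicF.IsInvertible E) :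
    Ess i (CohB1.tensorMod E M) := by
  obtain ⟨N, ⟨e⟩⟩ := h
  exact ⟨_, ⟨M2.tensorComm _ _ ≪≫ M2.tensorIso e (Iso.refl E) ≪≫ AmpleFin18.projIso i E N hE⟩⟩

private theorem Ess.of_iso {M M' : X.Modules} (h : Ess i M) (e : M' ≅ M) : Ess i M' := by
  obtain ⟨N, ⟨e'⟩⟩ := h
  exact ⟨N, ⟨e ≪≫ e'⟩⟩

private theorem shortExact_pull {S : ShortComplex X.Modules} (hS : S.ShortExact)
    (h1 : Ess i S.X₁) (h2 : Ess i S.X₂) (h3 : Ess i S.X₃) :
    (S.map (Scheme.Modules.pullback i)).ShortExact := by
  let adj := Scheme.Modules.pullbackPushforwardAdjunction i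
  haveI : IsIso adj.counit := by
    haveI : ∀ N, IsIso (adj.counit.app N) := fun N => CohMop.isIso_counit_closedImmersion i N
    exact NatIso.isIso_of_isIso_app _
  haveI : (Scheme.Modules.pushforward i).Faithful := adj.fullyFaithfulROfIsIsoCounit.faithful
  haveI : (Scheme.Modules.pushforward i).Full := adj.fullyFaithfulROfIsIsoCounit.full
  haveI : PreservesFiniteColimits (Scheme.Modules.pushforward i) := RHom.preservesFiniteColimits_push i
  haveI : PreservesFiniteLimits (Scheme.Modules.pushforward i) :=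
    haveI := adj.rightAdjoint_preservesLimits
    inferInstance
  haveI : (Scheme.Modules.pushforward i).PreservesHomology := inferInstance
  have hu : ∀ M, Ess i M → IsIso (adj.unit.app M) := fun M ⟨N, ⟨e⟩⟩ => adj.isIso_unit_app_of_iso e
  haveI := hu _ h1
  haveI := hu _ h2
  haveI := hu _ h3
  have h : ((S.map (Scheme.Modules.pullback i)).map (Scheme.Modules.pushforward i)).ShortExact :=
    ShortComplex.shortExact_of_iso (ShortComplex.isoMk (asIso (adj.unit.app S.X₁)) (asIso (adj.unit.app S.X₂))
      (asIso (adj.unit.app S.X₃)) (adj.unit.naturality S.f).symm (adj.unit.naturality S.g).symm) hS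
  exact { exact := (ShortComplex.exact_map_iff_of_faithful _ (Scheme.Modules.pushforward i)).1 h.exact
          mono_f := (Scheme.Modules.pushforward i).mono_of_mono_map h.mono_f
          epi_g := (Scheme.Modules.pushforward i).epi_of_epi_map h.epi_g }

end


/-- Let R be a discrete valuation ring with fraction field K, let 𝒳 be a normal scheme, proper and flat
over Spec R, with generic fibre the K-scheme X, and let m ≥ 1 be an integer such that the special
fibre of 𝒳 is m times an effective Cartier divisor D, i.e. the ideal sheaf 𝔪_R · O_𝒳 of the special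
fibre is the m-th power of the ideal sheaf of D. Then m divides the Euler characteristic χ(X, O_X).
(The published statement asks only that the special fibre be divisible by m as a Cartier divisor and
deduces from normality that the quotient divisor is effective; the divisor is taken effective here.) -/
theorem result (R : Type u) [CommRing R] [IsDomain R]
    [IsDiscreteValuationRing R] (𝒳 : Scheme.{u}) (p : 𝒳 ⟶ Spec (CommRingCat.of R)) [IsProper p] [Flat p]
    (hn : Pi1.IsNormalScheme 𝒳) (X : Scheme.{u}) [X.Over (Spec (CommRingCat.of (FractionRing R)))]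
    (hX : Models.IsModel R 𝒳 p X (X ↘ Spec (CommRingCat.of (FractionRing R)))) (m : ℕ) (hm : 1 ≤ m)
    (I : 𝒳.IdealSheafData) (hI : BlowUp.IsEffCartierIdeal I)
    (hIm : I ^ m = Models.specialFibreIdeal R (Over.mk p)) :
    (m : ℤ) ∣ Curv2.euler (FractionRing R) X (Coh.structureModule X) := by
  obtain ⟨-, -, -, g, hg⟩ := hX
  haveI : IsLocallyNoetherian 𝒳 := LocallyOfFiniteType.isLocallyNoetherian p
  haveI : LocallyOfFinitePresentation p := inferInstance
  haveI : CompactSpace 𝒳 := QuasiCompact.compactSpace_of_compactSpace p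
  haveI : AlgebraicGeometry.IsNoetherian 𝒳 := {}
  obtain ⟨ϖ, hϖ⟩ := IsDiscreteValuationRing.exists_irreducible R
  let σ := Spec.map (CommRingCat.ofHom (IsLocalRing.residue R))
  haveI : IsClosedImmersion σ := IsClosedImmersion.spec_of_surjective _ IsLocalRing.residue_surjective
  let Y := pullback p σ
  let i : Y ⟶ 𝒳 := pullback.fst p σ
  haveI : IsClosedImmersion i := MorphismProperty.pullback_fst _ _ inferInstance
  letI : Y.Over (Spec (CommRingCat.of (IsLocalRing.ResidueField R))) := ⟨pullback.snd p σ⟩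
  haveI : IsProper (Y ↘ Spec (CommRingCat.of (IsLocalRing.ResidueField R))) := MorphismProperty.pullback_snd _ _ inferInstance
  haveI : IsNoetherian Y := CohFound.isNoetherian_of_isProper (Y ↘ Spec (CommRingCat.of (IsLocalRing.ResidueField R)))
  haveI : IsProper (X ↘ Spec (CommRingCat.of (FractionRing R))) := MorphismProperty.of_isPullback (P := @IsProper) hg inferInstance
  have hker : i.ker = I ^ m := by
    rw [hIm]
    exact (ArInter.ker_fst_fibre (X := Over.mk p) hϖ).trans (ArInter.specialFibreIdeal_eq (Xo := Over.mk p) ϖ hϖ).symm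
  haveI : Coh.IsQCoh (Coh.structureModule 𝒳) := M1.isQCoh_structureModule 𝒳
  have hO : Coh.IsCoh (Coh.structureModule 𝒳) := M1.isCoh_structureModule 𝒳
  have hfl : FlatMod.IsFlatOver p (Coh.structureModule 𝒳) := CartExt13.isFlatOver_structureModule p
  have hχ : Curv2.euler (FractionRing R) X (Coh.structureModule X) =
      Curv2.euler (IsLocalRing.ResidueField R) Y (Coh.structureModule Y) := by
    have h1 := NumPoly18.eulerChar_eq_euler (k := FractionRing R) p hO hfl g _ hg
    have h2 := NumPoly18.eulerChar_eq_euler (k := IsLocalRing.ResidueField R) p hO hfl i σ (IsPullback.of_hasPullback p σ)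
    rw [CurveCoh17.euler_iso (Twist.pullbackUnitIso g)] at h1
    rw [CurveCoh17.euler_iso (Twist.pullbackUnitIso i)] at h2
    rw [← h1, ← h2]
    exact (FibEuler9.isLocallyConstant_eulerChar p _ (M1.isFP_of_isCoh hO) hfl).apply_eq_of_preconnectedSpace _ _
  -- the normal bundle and its trivial power
  let N := ClSub.idealMod I
  have hN : PicF.IsInvertible N := M2.isInvertible_idealMod I hI
  have hNY := PicLoc.isInvertible_pullback i hN
  obtain ⟨em⟩ := CurveCoh17.nonempty_idealMod_pow hI m
  have hglob : IsPullback g (X ↘ Spec (CommRingCat.of (FractionRing R))) p _ := hg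
  have hpow : Nonempty (Coh.structureModule 𝒳 ≅ ClSub.idealMod (I ^ m)) := by
    rw [hIm, ArInter.specialFibreIdeal_eq (Xo := Over.mk p) ϖ hϖ]
    haveI : Mono (M1.secHom (M := Coh.structureModule 𝒳) (ArInter.glob (Over.mk p) ϖ)) := by
      refine (M1.mono_iff_app _).mpr fun U a b hab => ?_
      rw [Twist.secHom_app, Twist.secHom_app] at hab
      choose V hV hxV hVU using fun x : U => exists_isAffineOpen_mem_and_subset (U := U) x.2
      refine M1.modules_eq_of_locally_eq _ U V hVU (fun x hx => TopologicalSpace.Opens.mem_iSup.mpr ⟨⟨x, hx⟩, hxV ⟨x, hx⟩⟩) _ _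
        fun x => ?_
      have hf : (p.appLE ⊤ (V x) le_top).hom.Flat := Flat.flat_appLE p (isAffineOpen_top _) (hV x) le_top
      letI := (p.appLE ⊤ (V x) le_top).hom.toAlgebra
      haveI : Module.Flat Γ(Spec (CommRingCat.of R), ⊤) Γ(𝒳, V x) := hf
      have hreg : IsSMulRegular Γ(𝒳, V x) ((Scheme.ΓSpecIso (CommRingCat.of R)).inv ϖ) := by
        refine IsSMulRegular.of_flat ?_
        refine IsRegular.left ?_
        exact isRegular_iff_mem_nonZeroDivisors.mpr (mem_nonZeroDivisors_of_ne_zero fun h =>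
          hϖ.ne_zero ((ConcreteCategory.bijective_of_isIso (Scheme.ΓSpecIso (CommRingCat.of R)).inv).1 (h.trans (map_zero _).symm)))
      have e : p.appLE ⊤ (V x) le_top =
          p.app ⊤ ≫ 𝒳.presheaf.map (homOfLE (le_top : U ≤ ⊤)).op ≫ 𝒳.presheaf.map (homOfLE (hVU x)).op := by
        rw [Scheme.Hom.appLE, ← Functor.map_comp]
        rfl
      refine hreg ?_
      show _ • _ = _ • _
      rw [Algebra.smul_def, Algebra.smul_def]
      show (p.appLE ⊤ (V x) le_top) _ * (𝒳.presheaf.map (homOfLE (hVU x)).op) (show Γ(𝒳, U) from a) =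
        (p.appLE ⊤ (V x) le_top) _ * (𝒳.presheaf.map (homOfLE (hVU x)).op) (show Γ(𝒳, U) from b)
      have hab'' : (show Γ(𝒳, U) from a) * (𝒳.presheaf.map (homOfLE (le_top : U ≤ ⊤)).op) (ArInter.glob (Over.mk p) ϖ) =
          (show Γ(𝒳, U) from b) * (𝒳.presheaf.map (homOfLE (le_top : U ≤ ⊤)).op) (ArInter.glob (Over.mk p) ϖ) := hab
      have hab' := congrArg (𝒳.presheaf.map (homOfLE (hVU x)).op) hab''
      rw [map_mul, map_mul] at hab'
      rw [e, mul_comm, mul_comm _ ((𝒳.presheaf.map (homOfLE (hVU x)).op) (show Γ(𝒳, U) from b))]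
      exact hab'
    exact SecDiv.nonempty_iso_idealMod (M1.secHom (M := Coh.structureModule 𝒳) (ArInter.glob (Over.mk p) ϖ))
  have eY : CohB1.tensorPow ((Scheme.Modules.pullback i).obj N) m ≅ Coh.structureModule Y :=
    (M2.pullTensorPowIso i N m).symm ≪≫ (Scheme.Modules.pullback i).mapIso (em ≪≫ hpow.some.symm) ≪≫ Twist.pullbackUnitIso i
  let G := (Scheme.Modules.pullback i).obj (ClSub.quotMod I)
  have hG : Coh.IsCoh G := M1.isCoh_pullback i (CurveCoh17.isCoh_quotMod I)
  let e : ℕ → ℤ := fun j => Curv2.euler (IsLocalRing.ResidueField R) Y ((Scheme.Modules.pullback i).obj (ClSub.quotMod (I ^ j)))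
  have hle : ∀ j, j ≤ m → i.ker ≤ I ^ j := fun j hj => by
    rw [hker]; exact fun U => by
      simp only [Scheme.IdealSheafData.ideal_pow, Pi.pow_apply]
      exact Ideal.pow_le_pow_right hj
  have hrec : ∀ j, 1 ≤ j → j + 1 ≤ m →
      e (j + 1) = Curv2.euler (IsLocalRing.ResidueField R) Y G + e j := fun j hj1 hj => by
    obtain ⟨S, hS, ⟨e₁⟩, e₂, e₃, -, -, -, -⟩ := ArInter.exists_quot_ses hI (BlowUpExist.isEffCartierIdeal_pow hI j)
    have hpj := M2.isInvertible_idealMod _ (BlowUpExist.isEffCartierIdeal_pow hI j)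
    have hS' := shortExact_pull i hS ((ess_tensor i (ess_quot i (by simpa using hle 1 (by omega))) hpj).of_iso i e₁)
      ((ess_quot i (hle (j + 1) hj)).of_iso i (e₂ ≪≫ eqToIso (congrArg ClSub.quotMod (pow_succ' I j).symm)))
      ((ess_quot i (hle j (by omega))).of_iso i e₃)
    obtain ⟨ej⟩ := CurveCoh17.nonempty_idealMod_pow hI j
    let f₁ : (Scheme.Modules.pullback i).obj S.X₁ ≅ CohB1.tensorMod G (CohB1.tensorPow ((Scheme.Modules.pullback i).obj N) j) :=
      (Scheme.Modules.pullback i).mapIso (e₁ ≪≫ M2.tensorComm _ _ ≪≫ M2.tensorIso (Iso.refl _) ej.symm) ≪≫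
        M2.pullTensorIso i _ _ ≪≫ M2.tensorIso (Iso.refl _) (M2.pullTensorPowIso i N j)
    let f₂ := (Scheme.Modules.pullback i).mapIso (e₂ ≪≫ eqToIso (congrArg ClSub.quotMod (pow_succ' I j).symm))
    let f₃ := (Scheme.Modules.pullback i).mapIso e₃
    have hsum := ChiTwist22.euler_add_coh (k := IsLocalRing.ResidueField R) hS'
      (CohFound.isCoh_of_iso f₁.symm (CurveCoh17.isCoh_tensor hG (Snapper.isCoh_of_isInvertible (M2.isInvertible_tensorPow hNY j))))
      (CohFound.isCoh_of_iso f₂.symm (M1.isCoh_pullback i (CurveCoh17.isCoh_quotMod _)))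
      (CohFound.isCoh_of_iso f₃.symm (M1.isCoh_pullback i (CurveCoh17.isCoh_quotMod _)))
    simp only [ShortComplex.map_X₁, ShortComplex.map_X₂, ShortComplex.map_X₃] at hsum
    rw [CurveCoh17.euler_iso f₁, CurveCoh17.euler_iso f₂, CurveCoh17.euler_iso f₃, euler_periodic hNY (by omega) eY hG] at hsum
    exact hsum
  have hall : ∀ j, j + 1 ≤ m → e (j + 1) = ((j + 1 : ℕ) : ℤ) * Curv2.euler (IsLocalRing.ResidueField R) Y G := by
    intro j
    induction j with
    | zero => intro _; simp [e, G]
    | succ j ih =>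
      intro hj
      rw [hrec (j + 1) (by omega) hj, ih (by omega)]
      push_cast
      ring
  have hem : e m = Curv2.euler (IsLocalRing.ResidueField R) Y (Coh.structureModule Y) := by
    obtain ⟨q⟩ := HilbRS3.nonempty_quotMod_ker i
    haveI := CohMop.isIso_counit_closedImmersion i (Coh.structureModule Y)
    refine CurveCoh17.euler_iso ((Scheme.Modules.pullback i).mapIso (eqToIso (congrArg ClSub.quotMod hker.symm) ≪≫ q) ≪≫ ?_)
    exact asIso ((Scheme.Modules.pullbackPushforwardAdjunction i).counit.app (Coh.structureModule Y))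
  have hm' := hall (m - 1) (by omega)
  rw [Nat.sub_add_cancel hm, hem] at hm'
  exact ⟨_, hχ.trans hm'⟩

end Groth.Agent.S17783
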