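import Groth.Statements.S17785
import Mathlib

set_option autoImplicit false
universe u
open Variety

namespace Groth.Agent.S17785

open Polynomial IsDedekindDomain IsDedekindDomain.HeightOneSpectrum WithZero

lemma valuation_core {M : Type u} [Field M] (v : Valuation M (WithZero (Multiplicative ℤ)))
    (d N c E : ℕ) (hd : 1 ≤ d) (p : M) (hp : v p = exp (-(E : ℤ)))
    (y : Fin (N + 1) → M) (hy : y ≠ 0)
    (heq : y 0 ^ d = ∑ i : Fin N, p ^ (((i : ℕ) + 1) * c) * y i.succ ^ d) :
    ((Finset.Icc 1 N).filter (fun δ => δ ∣ d)).gcd (fun δ => d / δ) ∣ E * c := by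
  classical
  let T : Fin (N + 1) → M := Fin.cons (-(y 0 ^ d)) (fun i => p ^ (((i : ℕ) + 1) * c) * y i.succ ^ d)
  have hsum : ∑ j, T j = 0 := by
    rw [Fin.sum_univ_succ]
    simp only [T, Fin.cons_zero, Fin.cons_succ]
    rw [← heq]
    simp
  have hv : ∀ j : Fin (N + 1), v (T j) = v p ^ ((j : ℕ) * c) * v (y j) ^ d := by
    intro j
    refine Fin.cases ?_ (fun i => ?_) j
    · simp only [T, Fin.cons_zero, Fin.val_zero, zero_mul, pow_zero, one_mul, Valuation.map_neg,
        map_pow]
    · simp only [T, Fin.cons_succ, Fin.val_succ, map_mul, map_pow]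
  have hp0 : v p ≠ 0 := by rw [hp]; exact exp_ne_zero
  obtain ⟨j, _, hj⟩ := Finset.exists_max_image (Finset.univ : Finset (Fin (N + 1)))
    (fun j => v (T j)) Finset.univ_nonempty
  have hj0 : v (T j) ≠ 0 := by
    intro h0
    apply hy
    funext l
    have h1 : v (T l) ≤ 0 := h0 ▸ hj l (Finset.mem_univ l)
    have h2 : v (T l) = 0 := le_antisymm h1 zero_le'
    rw [hv] at h2
    have h3 := (mul_eq_zero.mp h2).resolve_left (pow_ne_zero _ hp0)
    exact v.zero_iff.mp (eq_zero_of_pow_eq_zero h3)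
  obtain ⟨k, hkj, hk⟩ : ∃ k, k ≠ j ∧ v (T k) = v (T j) := by
    by_contra hne
    push Not at hne
    have := v.map_sum_eq_of_lt (s := Finset.univ) (f := T) (j := j) (Finset.mem_univ j)
      (fun i hi => lt_of_le_of_ne (hj i (Finset.mem_univ i)) (hne i (by simpa using hi)))
    rw [hsum, map_zero] at this
    exact hj0 this.symm
  rw [hv, hv] at hk
  have hlog := congrArg log hk
  rw [hv] at hj0
  have hyj : v (y j) ≠ 0 := fun h => hj0 (by rw [h, zero_pow (by omega), mul_zero])
  have hyk : v (y k) ≠ 0 := fun h => hj0 (by rw [← hk, h, zero_pow (by omega), mul_zero])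
  rw [log_mul (pow_ne_zero _ hp0) (pow_ne_zero _ hyk),
    log_mul (pow_ne_zero _ hp0) (pow_ne_zero _ hyj), log_pow, log_pow, log_pow, log_pow, hp,
    log_exp] at hlog
  simp only [nsmul_eq_mul, Nat.cast_mul] at hlog
  set δ : ℕ := (((j : ℕ) : ℤ) - ((k : ℕ) : ℤ)).natAbs with hδ
  have h1 : (d : ℤ) ∣ ((E * c : ℕ) : ℤ) * (((j : ℕ) : ℤ) - ((k : ℕ) : ℤ)) :=
    ⟨log (v (y j)) - log (v (y k)), by push_cast; linarith⟩
  have h2 : d ∣ E * c * δ := by
    have := Int.natAbs_dvd_natAbs.mpr h1
    rwa [Int.natAbs_mul, Int.natAbs_natCast, Int.natAbs_natCast] at this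
  have hδ1 : 1 ≤ δ := by
    have : (j : ℕ) ≠ (k : ℕ) := fun h => hkj (Fin.ext h.symm)
    omega
  have hδN : δ ≤ N := by
    have := j.isLt
    have := k.isLt
    omega
  let g := Nat.gcd d δ
  have hg0 : 0 < g := Nat.gcd_pos_of_pos_left _ (by omega)
  have hgmem : g ∈ (Finset.Icc 1 N).filter (fun δ => δ ∣ d) := by
    simp only [Finset.mem_filter, Finset.mem_Icc]
    exact ⟨⟨hg0, le_trans (Nat.le_of_dvd hδ1 (Nat.gcd_dvd_right _ _)) hδN⟩, Nat.gcd_dvd_left _ _⟩
  refine (Finset.gcd_dvd hgmem).trans ?_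
  have hcop : Nat.Coprime (d / g) (δ / g) := Nat.coprime_div_gcd_div_gcd hg0
  apply hcop.dvd_of_dvd_mul_right
  rw [← Nat.mul_div_assoc _ (Nat.gcd_dvd_right d δ)]
  exact Nat.div_dvd_div (Nat.gcd_dvd_left d δ) h2

lemma separable_core (R : Type u) [CommRing R] [IsDomain R] [IsDiscreteValuationRing R]
    (K : Type u) [Field K] [Algebra R K] [IsFractionRing R K]
    (ϖ : R) (hϖ : Irreducible ϖ)
    (M : Type u) [Field M] [Algebra K M] [Algebra R M] [IsScalarTower R K M]
    [FiniteDimensional K M] [Algebra.IsSeparable K M] (d N c : ℕ) (hd : 1 ≤ d)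
    (y : Fin (N + 1) → M) (hy : y ≠ 0)
    (heq : y 0 ^ d = ∑ i : Fin N, algebraMap R M ϖ ^ (((i : ℕ) + 1) * c) * y i.succ ^ d) :
    ((Finset.Icc 1 N).filter (fun δ => δ ∣ d)).gcd (fun δ => d / δ) ∣ c * Module.finrank K M := by
  classical
  haveI : IsDedekindDomain (integralClosure R M) := integralClosure.isDedekindDomain R K M
  haveI : IsFractionRing (integralClosure R M) M :=
    integralClosure.isFractionRing_of_finite_extension K M
  haveI : Module.Finite R (integralClosure R M) := IsIntegralClosure.finite R K M _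
  have hinj : Function.Injective (algebraMap R M) := by
    rw [IsScalarTower.algebraMap_eq R K M]
    exact (algebraMap K M).injective.comp (IsFractionRing.injective R K)
  haveI : FaithfulSMul R M := (faithfulSMul_iff_algebraMap_injective R M).mpr hinj
  have hinjB : Function.Injective (algebraMap R (integralClosure R M)) := fun a b h =>
    hinj (by simpa using congrArg (fun z : integralClosure R M => (z : M)) h)
  haveI : FaithfulSMul R (integralClosure R M) :=
    (faithfulSMul_iff_algebraMap_injective R _).mpr hinjB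
  let p : Ideal R := IsLocalRing.maximalIdeal R
  have hp0 : p ≠ ⊥ := IsDiscreteValuationRing.not_a_field R
  let v₀ : HeightOneSpectrum R := ⟨p, inferInstance, hp0⟩
  have hv₀ : v₀.valuation K (algebraMap R K ϖ) = exp (-(1 : ℤ)) := by
    rw [valuation_of_algebraMap, intValuation_singleton v₀ hϖ.ne_zero hϖ.maximalIdeal_eq]
  rw [← Ideal.sum_ramification_inertia (R := R) (S := integralClosure R M) K M (p := p) hp0,
    Finset.mul_sum]
  refine Finset.dvd_sum (fun P hP => ?_)
  obtain ⟨hPp, hPl⟩ := (IsDedekindDomain.mem_primesOverFinset_iff hp0 _).mp hP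
  haveI := hPp
  haveI : P.LiesOver p := hPl
  have hP0 : P ≠ ⊥ := Ideal.ne_bot_of_liesOver_of_ne_bot hp0 P
  let w : HeightOneSpectrum (integralClosure R M) := ⟨P, hPp, hP0⟩
  haveI : w.asIdeal.LiesOver v₀.asIdeal := hPl
  have hw : w.valuation M (algebraMap R M ϖ) = exp (-((Ideal.ramificationIdx' p P : ℕ) : ℤ)) := by
    rw [IsScalarTower.algebraMap_apply R K M, ← valuation_liesOver M v₀ w, hv₀, ← exp_nsmul]
    simp [v₀, w, nsmul_eq_mul]
  have := valuation_core (w.valuation M) d N c _ hd _ hw y hy heq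
  rw [mul_comm] at this
  rw [← mul_assoc]
  exact this.mul_right _

lemma upper (R : Type u) [CommRing R] [IsDomain R]
    [IsDiscreteValuationRing R] (K : Type u) [Field K] [Algebra R K] [IsFractionRing R K]
    (ϖ : R) (hϖ : Irreducible ϖ) (d N : ℕ) (hd : 1 ≤ d)
    (L : Type u) [Field L] [Algebra K L] [FiniteDimensional K L]
    (x : Fin (N + 1) → L) (hx : x ≠ 0)
    (heq : x 0 ^ d =
      ∑ i : Fin N, algebraMap K L (algebraMap R K (ϖ ^ ((i : ℕ) + 1))) * x i.succ ^ d) :
    ((Finset.Icc 1 N).filter (fun δ => δ ∣ d)).gcd (fun δ => d / δ) ∣ Module.finrank K L := by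
  obtain ⟨q, hq⟩ := ExpChar.exists K
  let Ls := separableClosure K L
  haveI : IsPurelyInseparable Ls L := separableClosure.isPurelyInseparable K L
  haveI : ExpChar Ls q := expChar_of_injective_algebraMap (algebraMap K Ls).injective q
  haveI : ExpChar L q := expChar_of_injective_algebraMap (algebraMap K L).injective q
  obtain ⟨s, hs⟩ := IsPurelyInseparable.finrank_eq_pow (F := Ls) (E := L) q
  have hmem : ∀ a : L, ∃ b : Ls, algebraMap Ls L b = a ^ q ^ s := by
    intro a
    have h1 := IsPurelyInseparable.minpoly_natDegree_eq' Ls q a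
    have h2 : (minpoly Ls a).natDegree ∣ Module.finrank Ls L :=
      minpoly.degree_dvd (IsIntegral.of_finite Ls a)
    rw [h1, hs] at h2
    obtain ⟨m, hm⟩ := h2
    obtain ⟨b, hb⟩ := IsPurelyInseparable.elemExponent_def' Ls q a
    exact ⟨b ^ m, by rw [map_pow, hb, hm, pow_mul]⟩
  choose b hb using hmem
  let y : Fin (N + 1) → Ls := fun i => b (x i)
  have hqs : q ^ s ≠ 0 := (expChar_pow_pos K q s).ne'
  have hy : y ≠ 0 := by
    intro h
    apply hx
    funext i
    have h1 := hb (x i)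
    rw [show b (x i) = 0 from congrFun h i, map_zero] at h1
    exact eq_zero_of_pow_eq_zero h1.symm
  letI : Algebra R Ls := ((algebraMap K Ls).comp (algebraMap R K)).toAlgebra
  haveI : IsScalarTower R K Ls := IsScalarTower.of_algebraMap_eq (fun _ => rfl)
  have heq' : y 0 ^ d = ∑ i : Fin N, algebraMap R Ls ϖ ^ (((i : ℕ) + 1) * q ^ s) * y i.succ ^ d := by
    apply (algebraMap Ls L).injective
    have hπ : algebraMap Ls L (algebraMap R Ls ϖ) = algebraMap K L (algebraMap R K ϖ) :=
      (IsScalarTower.algebraMap_apply K Ls L _).symm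
    simp only [map_pow, map_sum, map_mul, hπ, y, hb]
    rw [← pow_mul, mul_comm, pow_mul, heq, sum_pow_char_pow q s]
    refine Finset.sum_congr rfl (fun i _ => ?_)
    rw [mul_pow, map_pow, map_pow, ← pow_mul, ← pow_mul, ← pow_mul, mul_comm d]
  have := separable_core R K ϖ hϖ Ls d N (q ^ s) hd y hy heq'
  rw [← Module.finrank_mul_finrank K Ls L, hs, mul_comm]
  exact this

lemma lower (R : Type u) [CommRing R] [IsDomain R]
    [IsDiscreteValuationRing R] (K : Type u) [Field K] [Algebra R K] [IsFractionRing R K]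
    (ϖ : R) (hϖ : Irreducible ϖ) (d N δ : ℕ) (hd : 1 ≤ d) (h1 : 1 ≤ δ) (h2 : δ ≤ N) (h3 : δ ∣ d) :
    ∃ (L : Type u) (_ : Field L) (_ : Algebra K L),
        FiniteDimensional K L ∧ ((d / δ : ℕ) : ℤ) = (Module.finrank K L : ℤ) ∧
        ∃ x : Fin (N + 1) → L, x ≠ 0 ∧
          x 0 ^ d = ∑ i : Fin N, algebraMap K L (algebraMap R K (ϖ ^ ((i : ℕ) + 1))) * x i.succ ^ d := by
  classical
  have he : 0 < d / δ := Nat.div_pos (Nat.le_of_dvd (by omega) h3) (by omega)
  have hmon : (X ^ (d / δ) - C ϖ : R[X]).Monic := monic_X_pow_sub_C _ he.ne'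
  have hprime : (Ideal.span {ϖ}).IsPrime := (Ideal.span_singleton_prime hϖ.ne_zero).mpr hϖ.prime
  have hdeg : (X ^ (d / δ) - C ϖ : R[X]).natDegree = d / δ := natDegree_X_pow_sub_C
  have hE : (X ^ (d / δ) - C ϖ : R[X]).IsEisensteinAt (Ideal.span {ϖ}) := by
    refine ⟨?_, fun {n} hn => ?_, ?_⟩
    · rw [hmon.leadingCoeff, Ideal.mem_span_singleton]
      exact hϖ.not_isUnit ∘ isUnit_of_dvd_one
    · rw [hdeg] at hn
      rw [coeff_sub, coeff_X_pow, if_neg hn.ne, zero_sub, Ideal.neg_mem_iff, coeff_C]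
      split_ifs
      · exact Ideal.mem_span_singleton_self ϖ
      · exact zero_mem _
    · rw [coeff_sub, coeff_X_pow, if_neg he.ne, coeff_C_zero, zero_sub, Ideal.neg_mem_iff,
        Ideal.span_singleton_pow, Ideal.mem_span_singleton]
      rintro ⟨t, ht⟩
      apply hϖ.not_isUnit
      refine IsUnit.of_mul_eq_one t (mul_left_cancel₀ hϖ.ne_zero ?_)
      rw [mul_one]
      conv_rhs => rw [ht]
      ring
  have hirrR := hE.irreducible hprime hmon.isPrimitive (by omega)
  have hirr : Irreducible (X ^ (d / δ) - C (algebraMap R K ϖ) : K[X]) := by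
    have := (hmon.irreducible_iff_irreducible_map_fraction_map (K := K)).mp hirrR
    simpa using this
  haveI : Fact (Irreducible (X ^ (d / δ) - C (algebraMap R K ϖ) : K[X])) := ⟨hirr⟩
  let pb := AdjoinRoot.powerBasis hirr.ne_zero
  refine ⟨AdjoinRoot (X ^ (d / δ) - C (algebraMap R K ϖ)), inferInstance, inferInstance,
    Module.Finite.of_basis pb.basis, ?_, ?_⟩
  · rw [pb.finrank, AdjoinRoot.powerBasis_dim, natDegree_X_pow_sub_C]
  let t : AdjoinRoot (X ^ (d / δ) - C (algebraMap R K ϖ)) := AdjoinRoot.root _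
  have ht : t ^ (d / δ) = algebraMap K _ (algebraMap R K ϖ) := by
    have := AdjoinRoot.eval₂_root (X ^ (d / δ) - C (algebraMap R K ϖ))
    rw [eval₂_sub, eval₂_X_pow, eval₂_C, sub_eq_zero] at this
    exact this
  let i₀ : Fin N := ⟨δ - 1, by omega⟩
  refine ⟨Fin.cons t (fun i => if i = i₀ then 1 else 0), fun h => ?_, ?_⟩
  · have := congrFun h i₀.succ
    simp at this
  · simp only [Fin.cons_zero, Fin.cons_succ]
    have hd0 : d ≠ 0 := by omega
    rw [Finset.sum_eq_single i₀ (fun i _ hi => by simp [hi, hd0])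
      (fun h => absurd (Finset.mem_univ _) h)]
    rw [if_pos rfl, one_pow, mul_one, map_pow, map_pow,
      show (i₀ : ℕ) + 1 = δ from Nat.sub_add_cancel h1, ← ht, ← pow_mul, Nat.div_mul_cancel h3]

/-- Let R be a discrete valuation ring with fraction field K and uniformizer π, and let d, N ≥ 1.
Consider the hypersurface X in projective N-space over K defined by x_0^d = π x_1^d + π^2 x_2^d + ⋯
+ π^N x_N^d. Its index over K — the greatest common divisor of the degrees of its closed points,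
equivalently of the degrees [L : K] of the finite field extensions L over which the equation has a
non-zero solution — equals I(d, N), the greatest common divisor of the quotients d/δ over the
divisors δ of d with 1 ≤ δ ≤ N. Stated as an equality of subgroups of ℤ: the subgroup generated by
those degrees [L : K] is the subgroup generated by I(d, N). -/
theorem result (R : Type u) [CommRing R] [IsDomain R]
    [IsDiscreteValuationRing R] (K : Type u) [Field K] [Algebra R K] [IsFractionRing R K]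
    (ϖ : R) (hϖ : Irreducible ϖ) (d N : ℕ) (hd : 1 ≤ d) (hN : 1 ≤ N) :
    AddSubgroup.closure {m : ℤ | ∃ (L : Type u) (_ : Field L) (_ : Algebra K L),
        FiniteDimensional K L ∧ m = (Module.finrank K L : ℤ) ∧
        ∃ x : Fin (N + 1) → L, x ≠ 0 ∧
          x 0 ^ d = ∑ i : Fin N, algebraMap K L (algebraMap R K (ϖ ^ ((i : ℕ) + 1))) * x i.succ ^ d} =
      AddSubgroup.zmultiples ((((Finset.Icc 1 N).filter (fun δ => δ ∣ d)).gcd (fun δ => d / δ) : ℕ) : ℤ) := by
  classical
  set I := ((Finset.Icc 1 N).filter (fun δ => δ ∣ d)).gcd (fun δ => d / δ) with hI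
  apply le_antisymm
  · rw [AddSubgroup.closure_le]
    rintro m ⟨L, _, _, hL, rfl, x, hx, heq⟩
    rw [SetLike.mem_coe, AddSubgroup.mem_zmultiples_iff]
    obtain ⟨c, hc⟩ := upper R K ϖ hϖ d N hd L x hx heq
    exact ⟨(c : ℤ), by rw [hc, ← hI, smul_eq_mul]; push_cast; ring⟩
  · rw [AddSubgroup.zmultiples_le]
    obtain ⟨a, ha⟩ := Int.subgroup_cyclic (AddSubgroup.closure {m : ℤ | ∃ (L : Type u) (_ : Field L) (_ : Algebra K L),
        FiniteDimensional K L ∧ m = (Module.finrank K L : ℤ) ∧
        ∃ x : Fin (N + 1) → L, x ≠ 0 ∧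
          x 0 ^ d = ∑ i : Fin N, algebraMap K L (algebraMap R K (ϖ ^ ((i : ℕ) + 1))) * x i.succ ^ d})
    rw [ha, ← AddSubgroup.zmultiples_eq_closure, Int.mem_zmultiples_iff, hI, Int.dvd_natCast]
    refine Finset.dvd_gcd (fun δ hδ => ?_)
    simp only [Finset.mem_filter, Finset.mem_Icc] at hδ
    rw [← Int.dvd_natCast, ← Int.mem_zmultiples_iff, AddSubgroup.zmultiples_eq_closure, ← ha]
    exact AddSubgroup.subset_closure (lower R K ϖ hϖ d N δ hd hδ.1.1 hδ.1.2 hδ.2)

end Groth.Agent.S17785
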