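import Groth.Statements.S1779
import Groth.Agent.Lib.Dlz27.FlatExtApps
import Groth.Agent.Lib.Compl.Algebraize
import Groth.Agent.Lib.Compl.Noetherian
-- import your own Groth.Agent.* helpers here

set_option autoImplicit false
universe u
open CategoryTheory
attribute [local instance] HasDerivedCategory.standard
open Dual

namespace Groth.Agent.S1779

/-- Let A be a Noetherian ring, I an ideal and ω a dualizing complex for A. Assuming the derived base
change functor to the I-adic completion exists, the base change of ω is a dualizing complex for the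
I-adic completion of A. -/
theorem result (A : Type u) [CommRing A] [IsNoetherianRing A] (I : Ideal A) [DRing.HasLBaseChange (algebraMap A (AdicCompletion I A))] (ω : Dual.D A) (hω : Dual.IsDualizing A ω) : Dual.IsDualizing (AdicCompletion I A) ((DRing.LBaseChange (algebraMap A (AdicCompletion I A))).obj ω) := by
  haveI := Groth.Agent.Compl.isNoetherianRing_adicCompletion I (IsNoetherian.noetherian I)
  haveI := AdicCompletion.isAdicComplete_self I (IsNoetherian.noetherian I)
  refine Groth.Agent.Dlz27.isDualizing_LBaseChange_mod_ideal _ (RingHom.flat_algebraMap_iff.2 inferInstance) hω I ?_ ?_ (IsAdicComplete.le_jacobson_bot _)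
  · intro q
    obtain ⟨x, rfl⟩ := Ideal.Quotient.mk_surjective q
    obtain ⟨a, ha⟩ := Groth.Agent.Compl.exists_sub_mem_map_pow I 1 x
    rw [pow_one] at ha
    exact ⟨a, ((Ideal.Quotient.mk_eq_mk_iff_sub_mem _ _).2 ha).symm⟩
  · ext a
    rw [RingHom.mem_ker, RingHom.comp_apply, Ideal.Quotient.eq_zero_iff_mem]
    refine ⟨fun h => ?_, fun h => Ideal.mem_map_of_mem _ h⟩
    rw [← pow_one I]
    exact Groth.Agent.Compl.mem_pow_of_map_mem I (n := 1) (by rw [pow_one]; exact h)

end Groth.Agent.S1779
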