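import Groth.Statements.S17790
import Groth.Agent.Lib.LefFEt11.Idem
import Groth.Agent.Lib.ResDesc11.Basic
-- import your own Groth.Agent.* helpers here

set_option autoImplicit false
universe u
open CategoryTheory CategoryTheory.Limits AlgebraicGeometry
open Pi1

namespace Groth.Agent.S17790

open Groth.Agent

/-- A clopen subset of the spectrum of a local ring is everything or nothing. -/
theorem eq_univ_of_isClopen {A : Type u} [CommRing A] [IsLocalRing A]
    {S : Set ↥(Spec (CommRingCat.of A))} (hS : IsClopen S) (hne : S.Nonempty) : S = Set.univ := by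
  have key : ∀ {T : Set ↥(Spec (CommRingCat.of A))}, IsClosed T → T.Nonempty → IsLocalRing.closedPoint A ∈ T := by
    intro T hT ⟨x, hx⟩
    refine Specializes.mem_closed (PrimeSpectrum.le_iff_specializes x (IsLocalRing.closedPoint A) |>.1 ?_) hT hx
    exact IsLocalRing.le_maximalIdeal x.2.ne_top
  by_contra h
  exact key hS.compl.1 (Set.nonempty_compl.2 h) (key hS.1 hne)

/-- An open subscheme of a local spectrum to which restriction of finite étale covers is an equivalence is
connected. -/
theorem connectedSpace_of_isEquivalence {X X' : Scheme.{u}} [ConnectedSpace X]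
    (j : X' ⟶ X) [(FEt.restrict j).IsEquivalence] : ConnectedSpace X' := by
  let one : ∀ (Z : Scheme.{u}), FEt.Cat Z := fun Z => MorphismProperty.Over.mk ⊤ (𝟙 Z) ⟨inferInstance, inferInstance⟩
  let em : ∀ (Z : Scheme.{u}), FEt.Cat Z := fun Z => FEtEq25.openCover' (one Z) (⊥ : Z.Opens) isClosed_empty
  have hne : Nonempty X' := by
    by_contra h
    rw [not_nonempty_iff] at h
    haveI : IsEmpty ↥((FEt.restrict j).obj (one _)).left := Function.isEmpty (β := ↥X') ⇑((FEt.restrict j).obj (one _)).hom
    let φ : (FEt.restrict j).obj (one _) ⟶ (FEt.restrict j).obj (em _) :=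
      MorphismProperty.Over.homMk (isInitialOfIsEmpty.to _) (isInitialOfIsEmpty.hom_ext _ _)
    obtain ⟨ψ, -⟩ := (FEt.restrict j).map_surjective φ
    exact (ψ.left (Classical.arbitrary X)).2
  refine { toNonempty := hne, isPreconnected_univ := ?_ }
  rw [← preconnectedSpace_iff_univ, preconnectedSpace_iff_clopen]
  intro D hD
  by_contra hcon
  push Not at hcon
  obtain ⟨hD0, hD1⟩ := hcon
  let Y' : FEt.Cat X' := FEtEq25.openCover' (one X') ⟨D, hD.2⟩ hD.1
  obtain ⟨Y, ⟨e⟩⟩ := Functor.EssSurj.mem_essImage (F := FEt.restrict j) Y'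
  have hS : IsClopen (Set.range Y.hom) := ⟨Y.hom.isClosedMap.isClosed_range, Y.hom.isOpenMap.isOpen_range⟩
  have hr : Set.range ((FEt.restrict j).obj Y).hom = D := by
    rw [← FEtEq25.w e.hom]
    change Set.range ⇑(e.hom.left ≫ Y'.hom) = D
    have hsurj : Function.Surjective e.hom.left := fun z => ⟨e.inv.left z, by
      have := congrArg (fun f : Y' ⟶ Y' => f.left z) e.inv_hom_id
      exact (Scheme.Hom.comp_apply _ _ z).symm.trans this⟩
    rw [Scheme.Hom.comp_base, TopCat.coe_comp, hsurj.range_comp]
    exact Subtype.range_coe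
  have hr' : Set.range ((FEt.restrict j).obj Y).hom = j ⁻¹' Set.range Y.hom :=
    Scheme.Pullback.range_snd Y.hom j
  rcases (preconnectedSpace_iff_clopen (α := ↥X)).1 inferInstance _ hS with h | h
  · rw [h, Set.preimage_empty, hr] at hr'
    exact hD0.ne_empty hr'
  · rw [h, Set.preimage_univ, hr] at hr'
    exact hD1 hr'

/-- Under the Lefschetz condition, the support of a connected scheme is connected. -/
theorem isConnected_support_of_lefCond {U : Scheme.{u}} [IsLocallyNoetherian U] [ConnectedSpace U]
    (J : U.IdealSheafData) (h : Lef.LefCond U J) : _root_.IsConnected (J.support : Set U) := by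
  let X' : Scheme.{u} := (⊤ : U.Opens)
  let ι : X' ⟶ U := (⊤ : U.Opens).ι
  let K : X'.IdealSheafData := J.comap ι
  have hI : ∀ D : X'.Modules, FlatMod.IsFinLocFree D → Lef.HomToFormalBijective K D := fun D hD =>
    h ⊤ (Set.subset_univ _) D hD
  have hO := hI _ (ResDesc11.isFinLocFree_structureModule X')
  have hrι : Function.Surjective ι := fun x => ⟨⟨x, trivial⟩, rfl⟩
  haveI : ConnectedSpace X' := by
    refine isConnected_iff_connectedSpace.1 (?_ : _root_.IsConnected ((⊤ : U.Opens) : Set U))
    rw [TopologicalSpace.Opens.coe_top]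
    exact isConnected_univ
  have hsupp : (K.support : Set X') = ι ⁻¹' (J.support : Set U) :=
    congrArg (fun s => SetLike.coe s) (J.support_comap ι)
  have hne : (K.support : Set X').Nonempty := by
    obtain ⟨x, -, hx⟩ := LefFEt11.inter_range_nonempty K hO Set.univ isClopen_univ Set.univ_nonempty
    exact ⟨x, K.range_subschemeι ▸ hx⟩
  have hconn : ConnectedSpace K.subscheme := by
    haveI : Nonempty K.subscheme := by
      obtain ⟨x, hx⟩ := hne
      rw [← K.range_subschemeι] at hx
      exact ⟨hx.choose⟩
    refine { toNonempty := inferInstance, isPreconnected_univ := ?_ }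
    rw [← preconnectedSpace_iff_univ, preconnectedSpace_iff_clopen]
    intro C hC
    let p : pullback (𝟙 X') K.subschemeι ⟶ K.subscheme := pullback.snd _ _
    obtain ⟨D, hD, hDC⟩ := LefFEt11.exists_clopen (𝟙 X') K ⟨inferInstance, inferInstance⟩ hI (p ⁻¹' C)
      (hC.preimage p.continuous)
    have hp : Function.Surjective p := fun z => ⟨inv p z, by rw [← Scheme.Hom.comp_apply, IsIso.inv_hom_id]; rfl⟩
    have e : ∀ z, pullback.fst (𝟙 X') K.subschemeι z = K.subschemeι (p z) := fun z => by
      rw [← Scheme.Hom.comp_apply, ← pullback.condition, Category.comp_id]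
    rcases preconnectedSpace_iff_clopen.1 inferInstance D hD with h0 | h0
    · refine Or.inl (Set.eq_empty_of_forall_notMem fun z hz => ?_)
      obtain ⟨w, rfl⟩ := hp z
      have : w ∈ p ⁻¹' C := hz
      rw [← hDC, h0] at this
      exact this
    · refine Or.inr (Set.eq_univ_of_forall fun z => ?_)
      obtain ⟨w, rfl⟩ := hp z
      have : w ∈ p ⁻¹' C := hDC ▸ (h0 ▸ Set.mem_univ _)
      exact this
  have h2 : _root_.IsConnected (ι '' (K.support : Set X')) := by
    rw [← K.range_subschemeι, ← Set.range_comp]
    exact isConnected_range (ι.continuous.comp K.subschemeι.continuous)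
  rwa [hsupp, Set.image_preimage_eq _ hrι] at h2

/-- Let A be a Noetherian local ring and I an ideal for which A is I-adically complete and A/I is local;
write X = Spec A, Y = V(I) and U for the punctured spectrum. Suppose that A is pure (the pair formed
by X and its closed point is pure) and that the effective Lefschetz condition Leff(U, U ∩ Y) holds.
Then Y minus the closed point, i.e. U ∩ Y, is a connected (nonempty) subset of X. -/
theorem result (A : Type u) [CommRing A] [IsLocalRing A] [IsNoetherianRing A] (I : Ideal A) [IsAdicComplete I A] [IsLocalRing (A ⧸ I)] (hpure : SGA2.IsPurePair (Spec (CommRingCat.of A)) (FEt.puncturedSpec A)) (hleff : LefX.LeffCond (↑(FEt.puncturedSpec A) : Scheme.{u}) ((Spec.map (CommRingCat.ofHom (Ideal.Quotient.mk I))).ker.comap (FEt.puncturedSpec A).ι)) : IsConnected (((Spec.map (CommRingCat.ofHom (Ideal.Quotient.mk I))).ker.support : Set ↥(Spec (CommRingCat.of A))) ∩ (FEt.puncturedSpec A : Set ↥(Spec (CommRingCat.of A)))) := by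
  let U : (Spec (CommRingCat.of A)).Opens := FEt.puncturedSpec A
  haveI := hpure ⊤
  haveI : ConnectedSpace ↥(Spec (CommRingCat.of A)) := by
    refine { toNonempty := ⟨IsLocalRing.closedPoint A⟩, isPreconnected_univ := ?_ }
    rw [← preconnectedSpace_iff_univ, preconnectedSpace_iff_clopen]
    exact fun S hS => S.eq_empty_or_nonempty.imp id (eq_univ_of_isClopen hS)
  haveI : ConnectedSpace ↥((⊤ : (Spec (CommRingCat.of A)).Opens) : Scheme.{u}) := by
    refine isConnected_iff_connectedSpace.1
      (?_ : _root_.IsConnected ((⊤ : (Spec (CommRingCat.of A)).Opens) : Set ↥(Spec (CommRingCat.of A))))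
    rw [TopologicalSpace.Opens.coe_top]
    exact isConnected_univ
  haveI : ConnectedSpace ↥(U : Scheme.{u}) := by
    have := connectedSpace_of_isEquivalence
      ((Spec (CommRingCat.of A)).homOfLE (inf_le_left : (⊤ : (Spec (CommRingCat.of A)).Opens) ⊓ U ≤ ⊤))
    rwa [top_inf_eq] at this
  have h := (isConnected_support_of_lefCond _ hleff.1).image U.ι U.ι.continuous.continuousOn
  rw [Scheme.IdealSheafData.support_comap] at h
  have e : U.ι '' (U.ι ⁻¹' ((Spec.map (CommRingCat.ofHom (Ideal.Quotient.mk I))).ker.support : Set _)) =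
      ((Spec.map (CommRingCat.ofHom (Ideal.Quotient.mk I))).ker.support : Set _) ∩ (U : Set _) := by
    rw [Set.image_preimage_eq_inter_range, Scheme.Opens.range_ι]
  exact e ▸ h

end Groth.Agent.S17790
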