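import Groth.Statements.S4094
import Groth.Agent.Lib.OrbitQuot19.Basic

set_option autoImplicit false
universe u
open CategoryTheory MonoidalCategory CartesianMonoidalCategory MonObj GrpObj AlgebraicGeometry CategoryTheory.Limits
open GrpQ

namespace Groth.Agent.S4094

theorem exists_desc_mono {S : Scheme.{u}} {A B Q X : Over S} (P : A ⟶ B) [Surjective P.left] [Flat P.left]
    [LocallyOfFinitePresentation P.left] (c : A ⟶ Q) (i : Q ⟶ X) [Mono i] (k : B ⟶ X) (h : c ≫ i = P ≫ k) :
    ∃ m : B ⟶ Q, m ≫ i = k := by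
  haveI : Mono i.left := Over.mono_left_of_mono i
  have e : c.left ≫ i.left = P.left ≫ k.left := congrArg CommaMorphism.left h
  let m : B.left ⟶ Q.left := EffectiveEpi.desc P.left c.left fun {Z} g₁ g₂ hg => by
    rw [← cancel_mono i.left, Category.assoc, Category.assoc, e, reassoc_of% hg]
  have hm : m ≫ i.left = k.left := by
    rw [← cancel_epi P.left, EffectiveEpi.fac_assoc, e]
  exact ⟨Over.homMk m (by rw [← Over.w i, reassoc_of% hm, Over.w k]), Over.OverMorphism.ext hm⟩

/-- Left translation through a homomorphism. -/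
noncomputable def leftAction {S : Scheme.{u}} {G H : Over S} [GrpObj G] [GrpObj H] (u : G ⟶ H) [IsMonHom u] :
    AlgGrp.Action G H where
  act := (fst G H ≫ u) * snd G H
  one_act := by
    rw [MonObj.comp_mul, whiskerRight_fst_assoc, whiskerRight_snd, IsMonHom.one_hom,
      show fst (𝟙_ (Over S)) H = toUnit _ from toUnit_unique _ _, ← Hom.one_def, _root_.one_mul, leftUnitor_hom]
  mul_act := by
    have hμ : μ[G] ≫ u = (fst G G ≫ u) * (snd G G ≫ u) := by
      rw [IsMonHom.mul_hom, MonObj.mul_eq_mul, MonObj.comp_mul, tensorHom_fst, tensorHom_snd]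
    simp only [MonObj.comp_mul, whiskerRight_fst_assoc, whiskerRight_snd, whiskerLeft_fst_assoc, whiskerLeft_snd,
      associator_hom_fst_assoc, associator_hom_snd_fst_assoc, associator_hom_snd_snd, hμ, _root_.mul_assoc,
      Category.assoc]

theorem leftAction_orbitMap {S : Scheme.{u}} {G H : Over S} [GrpObj G] [GrpObj H] (u : G ⟶ H) [IsMonHom u] :
    (leftAction u).orbitMap η[H] = u := by
  show lift (𝟙 G) (toUnit G ≫ η[H]) ≫ ((fst G H ≫ u) * snd G H) = u
  rw [MonObj.comp_mul, lift_fst_assoc, lift_snd, ← Hom.one_def, _root_.mul_one, Category.id_comp]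

/-- Let u : G → H be a homomorphism of S-group schemes with G locally of finite presentation and H
locally of finite type over S, whose kernel K is flat over S. Then there are an S-group scheme Q,
locally of finite presentation over S, and homomorphisms p : G → Q, i : Q → H with p ≫ i = u, p
surjective, flat and locally of finite presentation with kernel K, and i a monomorphism. -/
theorem result (S : Scheme.{u}) (G H : Over S) [GrpObj G] [GrpObj H]
    [LocallyOfFinitePresentation G.hom] [LocallyOfFiniteType H.hom] (u : G ⟶ H) [IsMonHom u]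
    (hK : Flat (pullback u η[H]).hom) :
    ∃ (Q : Over S) (_ : GrpObj Q) (p : G ⟶ Q) (i : Q ⟶ H), IsMonHom p ∧ IsMonHom i ∧ p ≫ i = u ∧
      Surjective p.left ∧ Flat p.left ∧ LocallyOfFinitePresentation p.left ∧ Mono i ∧
      LocallyOfFinitePresentation Q.hom ∧ AlgGrp.IsKernel (pullback.fst u η[H]) p := by
  have key : ∀ o : G ⟶ H, (leftAction u).orbitMap η[H] = o → Flat (pullback o η[H]).hom →
      ∃ (Q : Over S) (p : G ⟶ Q) (i : Q ⟶ H), p ≫ i = o ∧ Surjective p.left ∧ Flat p.left ∧
        LocallyOfFinitePresentation p.left ∧ Mono i ∧ LocallyOfFinitePresentation Q.hom ∧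
        IsPullback ((G ◁ pullback.fst o η[H]) ≫ μ[G]) (fst G (pullback o η[H])) p p := by
    rintro o rfl h
    exact OrbitQuot19.exists_quotient _ _ h
  obtain ⟨Q, p, i, e, h1, h2, h3, h4, h5, -⟩ := key u (leftAction_orbitMap u) hK
  haveI := h1; haveI := h2; haveI := h3; haveI := h4
  have hfst : (fst G G ≫ u) * (snd G G ≫ u) = μ[G] ≫ u := by
    rw [IsMonHom.mul_hom, MonObj.mul_eq_mul, MonObj.comp_mul, tensorHom_fst, tensorHom_snd]
  obtain ⟨m, hm⟩ : ∃ m : Q ⊗ Q ⟶ Q, m ≫ i = (fst Q Q ≫ i) * (snd Q Q ≫ i) := by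
    haveI : Surjective (p ⊗ₘ p).left :=
      MorphismProperty.pullbackMap (P := @Surjective) h1 h1 (Over.w p).symm (Over.w p).symm
    haveI : Flat (p ⊗ₘ p).left :=
      MorphismProperty.pullbackMap (P := @Flat) h2 h2 (Over.w p).symm (Over.w p).symm
    haveI : LocallyOfFinitePresentation (p ⊗ₘ p).left :=
      MorphismProperty.pullbackMap (P := @LocallyOfFinitePresentation) h3 h3 (Over.w p).symm (Over.w p).symm
    refine exists_desc_mono (p ⊗ₘ p) (μ[G] ≫ p) i _ ?_
    rw [Category.assoc, e, ← hfst, MonObj.comp_mul, tensorHom_fst_assoc, tensorHom_snd_assoc, e]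
  obtain ⟨n, hn⟩ : ∃ n : Q ⟶ Q, n ≫ i = i⁻¹ := by
    refine exists_desc_mono p (ι[G] ≫ p) i _ ?_
    rw [Category.assoc, e, GrpObj.comp_inv, e]
    exact GrpObj.inv_hom u
  have one' : (1 : 𝟙_ (Over S) ⟶ H) = η[H] := by
    rw [Hom.one_def, toUnit_unique (toUnit (𝟙_ (Over S))) (𝟙 _), Category.id_comp]
  have he : (η[G] ≫ p) ≫ i = 1 := by rw [Category.assoc, e, IsMonHom.one_hom, one']
  letI hQ : GrpObj Q := SubGrp13.grpObjOfMono i hm he hn
  have hp : IsMonHom p := by
    refine ⟨rfl, ?_⟩
    rw [← cancel_mono i, Category.assoc, Category.assoc, e]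
    show μ[G] ≫ u = (p ⊗ₘ p) ≫ m ≫ i
    rw [← hfst, hm, MonObj.comp_mul, tensorHom_fst_assoc, tensorHom_snd_assoc, e]
  refine ⟨Q, hQ, p, i, hp, SubGrp13.isMonHom_grpObjOfMono i hm he hn, e, h1, h2, h3, h4, h5, ?_⟩
  have hη : η[Q] ≫ i = η[H] := he.trans one'
  have cmp : ∀ s : PullbackCone p η[Q], s.fst ≫ u = s.snd ≫ η[H] := fun s => by
    rw [← e, ← Category.assoc, s.condition, Category.assoc, hη]
  refine ⟨⟨?_⟩, ⟨PullbackCone.IsLimit.mk _ (fun s => pullback.lift s.fst s.snd (cmp s))
    (fun s => pullback.lift_fst _ _ _) (fun s => toUnit_unique _ _)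
    (fun s k h1 h2 => pullback.hom_ext (h1.trans (pullback.lift_fst _ _ _).symm) (toUnit_unique _ _))⟩⟩
  rw [← cancel_mono i, Category.assoc, Category.assoc, e, hη, pullback.condition]
  congr 1
  exact toUnit_unique _ _

end Groth.Agent.S4094
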