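import Groth.Statements.S17794
import Groth.Agent.Lib.GrpQuot.FppfQuot
import Groth.Agent.S4094
import Groth.Agent.Lib.SchBasic.Basic

set_option autoImplicit false
set_option linter.style.haveILetI false
set_option backward.isDefEq.respectTransparency.types false
universe u
open CategoryTheory CategoryTheory.Limits MonoidalCategory CartesianMonoidalCategory MonObj GrpObj AlgebraicGeometry
open GrpSch

namespace Groth.Agent.S17794

/-- Let S be a scheme and f : G → H a homomorphism of S-group schemes, both of finite presentation over
S (locally of finite presentation, quasi-compact and quasi-separated), and let i : N → G be the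
kernel of f (the square formed by i, f, the unit section of H and N → S is cartesian). Then f is
faithfully flat (flat and surjective) if and only if the map of representable sheaves h_G → h_H
induced by f on the big fppf site of S is an epimorphism of sheaves of sets and N is flat over S. -/
theorem result {S : Scheme.{u}} {G H N : Over S} [GrpObj G] [GrpObj H] (f : G ⟶ H) [IsMonHom f] [LocallyOfFinitePresentation G.hom] [QuasiCompact G.hom] [QuasiSeparated G.hom] [LocallyOfFinitePresentation H.hom] [QuasiCompact H.hom] [QuasiSeparated H.hom] (i : N ⟶ G) (hi : AlgGrp.IsKernel i f) : (Flat f.left ∧ Surjective f.left) ↔ (Epi (QuotSh.repMap Scheme.fppfPrecoverage f) ∧ Flat N.hom) := by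
  have hiso : ∀ {V W : Over S} (g : V ⟶ W), Epi ((AlgSp.yon S).map g) ↔ Epi (QuotSh.repMap Scheme.fppfPrecoverage g) :=
    fun {V W} g => by
      have e := Groth.Agent.GrpQuot.yon_map_repIso g
      constructor <;> intro h
      · have : Epi ((QuotSh.repIsoUliftYoneda Scheme.fppfPrecoverage V).inv ≫ QuotSh.repMap Scheme.fppfPrecoverage g) := by
          rw [← e]; exact epi_comp _ _
        exact epi_of_epi (QuotSh.repIsoUliftYoneda Scheme.fppfPrecoverage V).inv _
      · have : Epi ((AlgSp.yon S).map g) := by
          have h2 : (AlgSp.yon S).map g = ((QuotSh.repIsoUliftYoneda Scheme.fppfPrecoverage V).inv ≫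
              QuotSh.repMap Scheme.fppfPrecoverage g) ≫ (QuotSh.repIsoUliftYoneda Scheme.fppfPrecoverage W).hom := by
            rw [← e, Category.assoc, Iso.inv_hom_id, Category.comp_id]
          rw [h2]; exact epi_comp _ _
        exact this
  have hN : IsPullback i.left (toUnit N).left f.left η[H].left := (Over.forget S).map_isPullback hi
  constructor
  · rintro ⟨hfl, hsu⟩
    haveI := hfl; haveI := hsu
    haveI : LocallyOfFinitePresentation (f.left ≫ H.hom) := by rw [Over.w f]; infer_instance
    haveI : LocallyOfFinitePresentation f.left := Groth.Agent.SchBasic.locallyOfFinitePresentation_of_comp f.left H.hom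
    refine ⟨(hiso f).1 ?_, ?_⟩
    · haveI : Sheaf.IsLocallySurjective ((AlgSp.yon S).map f) :=
        Groth.Agent.AlgSpace.isLocallySurjective_of_lifts _ fun T g => by
          obtain ⟨g', rfl⟩ := (AlgSp.yon S).map_surjective g
          refine ⟨pullback f g', pullback.snd f g', (AlgSp.yon S).map (pullback.fst f g'), ?_, ?_, ?_, ?_⟩
          any_goals
            have sq := ((IsPullback.of_hasPullback f g').map (Over.forget S)).flip
            first
              | exact MorphismProperty.of_isPullback (P := @Flat) sq.flip ‹_›
              | exact MorphismProperty.of_isPullback (P := @Surjective) sq.flip ‹_›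
              | exact MorphismProperty.of_isPullback (P := @LocallyOfFinitePresentation) sq.flip ‹_›
          rw [← Functor.map_comp, ← Functor.map_comp, pullback.condition]
      exact (CategoryTheory.Sheaf.isLocallySurjective_iff_epi _).1 inferInstance
    · rw [← Over.w (toUnit N)]
      haveI : Flat (toUnit N).left := MorphismProperty.of_isPullback (P := @Flat) hN ‹_›
      haveI : Flat (𝟙_ (Over S)).hom := inferInstanceAs (Flat (𝟙 S))
      infer_instance
  · rintro ⟨hep, hfl⟩
    have hK : Flat (pullback f η[H]).hom := by
      let e := hi.isoPullback
      rw [← Over.w e.inv]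
      infer_instance
    obtain ⟨Q, _, p, m, hp, hm, e, hs, hpf, hl, hmono, -⟩ := Groth.Agent.S4094.result S G H f hK
    haveI := (hiso f).2 hep
    haveI : Epi ((AlgSp.yon S).map p ≫ (AlgSp.yon S).map m) := by rw [← Functor.map_comp, e]; infer_instance
    haveI : Epi ((AlgSp.yon S).map m) := epi_of_epi ((AlgSp.yon S).map p) _
    haveI := hmono
    haveI : IsIso ((AlgSp.yon S).map m) := isIso_of_mono_of_epi _
    haveI : IsIso m := isIso_of_fully_faithful (AlgSp.yon S) m
    rw [← e, Over.comp_left]
    haveI : IsIso m.left := inferInstanceAs (IsIso ((Over.forget S).map m))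
    haveI := hpf; haveI := hs
    exact ⟨inferInstance, inferInstance⟩

end Groth.Agent.S17794
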