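import Groth.Statements.S17797
import Mathlib

set_option autoImplicit false
universe u
open CAlg

namespace Groth.Agent.S17797


open IsLocalRing in
theorem main (k : Type u) [Field k] (S : Type u) [CommRing S] [IsLocalRing S] [Algebra k S] [Algebra.EssFiniteType k S] : ∃ (K : Type u) (_ : Field K) (_ : Algebra k K) (A : Type u) (_ : CommRing A) (_ : Algebra K A) (_ : Algebra k A) (_ : IsScalarTower k K A) (_ : Algebra.FiniteType K A) (m : Ideal A) (_ : m.IsMaximal), Nonempty (S ≃ₐ[k] Localization.AtPrime m) := by
  let κ := ResidueField S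
  obtain ⟨s, hs⟩ := exists_isTranscendenceBasis k κ
  let P := MvPolynomial s k
  choose t ht using fun i : s => residue_surjective (i : κ)
  let ψ : P →ₐ[k] S := MvPolynomial.aeval t
  have hres : (IsScalarTower.toAlgHom k S κ).comp ψ = MvPolynomial.aeval (Subtype.val : s → κ) := by
    refine MvPolynomial.algHom_ext fun i => ?_
    simp [ψ]
    exact ht i
  have hu : ∀ p : nonZeroDivisors P, IsUnit (ψ p) := fun p => by
    refine notMem_maximalIdeal.1 fun h => nonZeroDivisors.coe_ne_zero p (hs.1 ?_)
    show MvPolynomial.aeval (Subtype.val : s → κ) p.1 = MvPolynomial.aeval (Subtype.val : s → κ) 0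
    rw [map_zero, ← hres, AlgHom.comp_apply]
    exact (residue_eq_zero_iff _).2 h
  let K := FractionRing P
  let f : K →ₐ[k] S := IsLocalization.liftAlgHom hu
  letI := f.toRingHom.toAlgebra
  haveI : IsScalarTower k K S := IsScalarTower.of_algebraMap_eq fun a => (f.commutes a).symm
  have halg : Algebra.IsAlgebraic K κ := by
    constructor
    intro y
    have hy := hs.isAlgebraic.isAlgebraic y
    refine IsAlgebraic.ringHom_of_comp_eq
      (f := (algebraMap P K).comp hs.1.aevalEquiv.symm.toRingHom) (g := RingHom.id κ) hy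
      ((IsFractionRing.injective P K).comp hs.1.aevalEquiv.symm.injective) ?_
    refine RingHom.ext fun a => ?_
    obtain ⟨p, rfl⟩ := hs.1.aevalEquiv.surjective a
    show algebraMap K κ (algebraMap P K (hs.1.aevalEquiv.symm (hs.1.aevalEquiv p))) = _
    rw [AlgEquiv.symm_apply_apply, IsScalarTower.algebraMap_apply K S κ]
    show algebraMap S κ (f (algebraMap P K p)) = _
    rw [show f (algebraMap P K p) = ψ p from IsLocalization.lift_eq hu p]
    exact (AlgHom.congr_fun hres p).trans (hs.1.algebraMap_aevalEquiv p).symm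
  let σ := Algebra.EssFiniteType.finset k S
  let A : Subalgebra K S := Algebra.adjoin K (σ : Set S)
  haveI : Algebra.FiniteType K A := ⟨Subalgebra.fg_top A |>.2 ⟨σ, rfl⟩⟩
  let m : Ideal A := (maximalIdeal S).comap A.val.toRingHom
  haveI hm : m.IsPrime := Ideal.IsPrime.comap _
  haveI : IsDomain (A ⧸ m) := Ideal.Quotient.isDomain m
  let g : (A ⧸ m) →ₐ[K] κ := Ideal.Quotient.liftₐ m ((IsScalarTower.toAlgHom K S κ).comp A.val)
    fun a ha => (residue_eq_zero_iff _).2 ha
  have hg : Function.Injective g := by
    rw [injective_iff_map_eq_zero]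
    intro z hz
    obtain ⟨a, rfl⟩ := Ideal.Quotient.mk_surjective z
    exact Ideal.Quotient.eq_zero_iff_mem.2 ((residue_eq_zero_iff _).1 hz)
  haveI : Algebra.IsIntegral K (A ⧸ m) := ⟨fun z =>
    ((isAlgebraic_algHom_iff g hg).1 (halg.isAlgebraic (g z))).isIntegral⟩
  have hmax : m.IsMaximal := Ideal.Quotient.maximal_of_isField m
    (isField_of_isIntegral_of_isField' (R := K) (S := A ⧸ m) (Field.toIsField K))
  have hunit : ∀ a : m.primeCompl, IsUnit (algebraMap A S a) := fun a => notMem_maximalIdeal.1 a.2
  haveI : IsLocalization.AtPrime S m := by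
    refine ⟨hunit, fun z => ?_, fun {a b} h => ⟨1, by rw [Subtype.ext h]⟩⟩
    obtain ⟨d, hd, hdu, hzd⟩ := (Algebra.essFiniteType_cond_iff k S σ).1
      (Algebra.EssFiniteType.isLocalization (R := k) (S := S)) z
    have hle : ∀ w ∈ Algebra.adjoin k (σ : Set S), w ∈ A := fun w hw =>
      (Algebra.adjoin_le (S := A.restrictScalars k) Algebra.subset_adjoin) hw
    exact ⟨⟨⟨z * d, hle _ hzd⟩, ⟨⟨d, hle _ hd⟩, fun h => notMem_maximalIdeal.2 hdu h⟩⟩, rfl⟩
  exact ⟨K, inferInstance, inferInstance, A, inferInstance, inferInstance, inferInstance, inferInstance, inferInstance,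
    m, hmax, ⟨((IsLocalization.algEquiv m.primeCompl S (Localization.AtPrime m)).restrictScalars k)⟩⟩



/-- Suppose k is a field of characteristic zero and S is a local domain that is an essentially
finite-type k-algebra. Then there are an extension field K of k, a K-algebra A of finite type and a
maximal ideal m of A such that S is isomorphic over k to the localization A_m. -/
theorem result (k : Type u) [Field k] [CharZero k] (S : Type u) [CommRing S] [IsDomain S] [IsLocalRing S] [Algebra k S] [Algebra.EssFiniteType k S] : ∃ (K : Type u) (_ : Field K) (_ : Algebra k K) (A : Type u) (_ : CommRing A) (_ : Algebra K A) (_ : Algebra k A) (_ : IsScalarTower k K A) (_ : Algebra.FiniteType K A) (m : Ideal A) (_ : m.IsMaximal), Nonempty (S ≃ₐ[k] Localization.AtPrime m) := by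
  exact main k S

end Groth.Agent.S17797
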