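import Groth.Statements.S17803
import Groth.Agent.Lib.FlatDepth.FieldExt
import Groth.Agent.S2650
import Groth.Agent.S0600
import Groth.Agent.S5785
import Groth.Agent.Lib.FlatDepth.RingFib
import Groth.Agent.Lib.FlatDepth.RegNormal
import Groth.Agent.Lib.NormalSmooth12.Basic
import Groth.Agent.Lib.GRing6.RegOpen
import Groth.Agent.Lib.Compl.Noetherian
-- import your own Groth.Agent.* helpers here

set_option autoImplicit false
set_option backward.isDefEq.respectTransparency false
universe u
open EGA4 Groth.Agent

namespace Groth.Agent.S17803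

/-- Let A be an excellent normal domain which is a quotient of a regular ring, I an ideal of A and f ∈
A. Then the I-adic completion of the localization A_f is a normal ring (its localization at every
prime ideal is an integrally closed domain), and it is a quotient of a regular ring. -/
theorem result (A : Type u) [CommRing A] [IsDomain A] [IsIntegrallyClosed A] (hexc : EGA4.IsExcellent A) (hreg : ∃ (R : Type u) (_ : CommRing R) (_ : IsRegularRing R) (φ : R →+* A), Function.Surjective φ) (I : Ideal A) (f : A) : EGA4.IsNormalRing (AdicCompletion (I.map (algebraMap A (Localization.Away f))) (Localization.Away f)) ∧ ∃ (R' : Type u) (_ : CommRing R') (_ : IsRegularRing R') (ψ : R' →+* AdicCompletion (I.map (algebraMap A (Localization.Away f))) (Localization.Away f)), Function.Surjective ψ := by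
  classical
  obtain ⟨hN, -, -, -⟩ := id hexc
  haveI := hN
  let Af := Localization.Away f
  let J := I.map (algebraMap A Af)
  have hnA : EGA4.IsNormalRing A := fun p _ =>
    ⟨IsLocalization.isDomain_localization p.primeCompl_le_nonZeroDivisors,
      isIntegrallyClosed_of_isLocalization (Localization.AtPrime p) p.primeCompl p.primeCompl_le_nonZeroDivisors⟩
  have hnf : EGA4.IsNormalRing Af := NormalSmooth12.isNormalRing_localization hnA (Submonoid.powers f) Af
  have hexf : EGA4.IsExcellent Af := S2650.result A hexc _
  haveI : IsNoetherianRing Af := hexf.1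
  have hreghom := S0600.result Af hexf.2.2.1 J
  have hnh := FlatDepth.isNormalHom_of_isRegularHom hreghom
  haveI := hnh.1
  haveI : IsNoetherianRing (AdicCompletion J Af) :=
    haveI : IsNoetherianRing (Af ⧸ J) := isNoetherianRing_of_surjective _ _ (Ideal.Quotient.mk J) Ideal.Quotient.mk_surjective
    Compl.isNoetherianRing_adicCompletion J (IsNoetherian.noetherian _)
  refine ⟨FlatDepth.normal_of_flat_fibres hnf fun p _ =>
    haveI := GRing6.regular_fibre_of_isRegularHom Af (AdicCompletion J Af) hreghom p
    FlatDepth.isNormalRing_of_isRegularRing _, ?_⟩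
  obtain ⟨R, _, hR, φ, hφ⟩ := hreg
  obtain ⟨g, rfl⟩ := hφ f
  let Rg := Localization.Away g
  haveI : IsRegularRing Rg := FlatDepth.isRegularRing_of_isLocalization (R := R) (S := Rg) (Submonoid.powers g)
  let ψ : Rg →+* Af := IsLocalization.Away.map Rg Af φ g
  haveI : IsLocalization ((Submonoid.powers g).map φ) Af := by
    rw [Submonoid.map_powers]; infer_instance
  have hψ : Function.Surjective ψ :=
    IsLocalization.map_surjective_of_surjective (Submonoid.powers g) Rg Af hφ
  let K := J.comap ψ
  have hK : ∀ n, (K ^ n).map ψ = J ^ n := fun n => by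
    rw [Ideal.map_pow, Ideal.map_comap_of_surjective _ hψ]
  let F : (n : ℕ) → AdicCompletion K Rg →+* Af ⧸ J ^ n := fun n =>
    (Ideal.quotientMap (J ^ n) ψ (Ideal.map_le_iff_le_comap.1 (hK n).le)).comp (AdicCompletion.evalₐ K n).toRingHom
  have hF : ∀ {m n : ℕ} (hle : m ≤ n), (Ideal.Quotient.factorPow J hle).comp (F n) = F m := by
    intro m n hle
    refine RingHom.ext fun x => ?_
    induction x using AdicCompletion.induction_on with
    | _ a =>
      simp only [F, RingHom.comp_apply, AlgHom.toRingHom_eq_coe, RingHom.coe_coe, AdicCompletion.evalₐ_mk,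
        Ideal.quotientMap_mk, Ideal.Quotient.factor_mk]
      rw [← sub_eq_zero, ← map_sub, ← map_sub, Ideal.Quotient.eq_zero_iff_mem, ← hK]
      refine Ideal.mem_map_of_mem _ ?_
      rw [← Ideal.Quotient.eq]
      exact AdicCompletion.Ideal.mk_eq_mk K hle a
  refine ⟨AdicCompletion K Rg, inferInstance, S5785.result Rg K, AdicCompletion.liftRingHom J F hF, fun y => ?_⟩
  induction y using AdicCompletion.induction_on with
  | _ b =>
    have hstep : ∀ (n : ℕ) (r : Rg), ψ r - b.val n ∈ J ^ n →
        ∃ r' : Rg, ψ r' - b.val (n + 1) ∈ J ^ (n + 1) ∧ r' - r ∈ K ^ n := by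
      intro n r hr
      have hb : b.val (n + 1) - ψ r ∈ J ^ n := by
        have h1 : b.val (n + 1) - b.val n ∈ J ^ n :=
          Ideal.Quotient.eq.1 (AdicCompletion.Ideal.mk_eq_mk J (Nat.le_succ n) b)
        have h2 := sub_mem h1 hr
        rwa [sub_sub_sub_cancel_right] at h2
      rw [← hK] at hb
      obtain ⟨d, hd, hdeq⟩ := (Ideal.mem_map_iff_of_surjective ψ hψ).1 hb
      exact ⟨r + d, by rw [map_add, hdeq, add_sub_cancel, sub_self]; exact zero_mem _, by rw [add_sub_cancel_left]; exact hd⟩
    choose next hnext1 hnext2 using hstep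
    obtain ⟨r0, hr0⟩ := hψ (b.val 0)
    let seq : (n : ℕ) → {r : Rg // ψ r - b.val n ∈ J ^ n} := fun n =>
      Nat.rec ⟨r0, by simp [hr0]⟩ (fun n r => ⟨next n r.1 r.2, hnext1 n r.1 r.2⟩) n
    let a : AdicCompletion.AdicCauchySequence K Rg := AdicCompletion.AdicCauchySequence.mk K Rg (fun n => (seq n).1)
      fun n => by
        rw [SModEq.comm, SModEq.sub_mem, smul_eq_mul, Ideal.mul_top]
        exact hnext2 n (seq n).1 (seq n).2
    refine ⟨AdicCompletion.mk K Rg a, AdicCompletion.ext_evalₐ fun n => ?_⟩
    rw [AdicCompletion.evalₐ_liftRingHom]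
    simp only [F, RingHom.comp_apply, AlgHom.toRingHom_eq_coe, RingHom.coe_coe, AdicCompletion.evalₐ_mk,
      Ideal.quotientMap_mk]
    exact Ideal.Quotient.eq.2 (seq n).2

end Groth.Agent.S17803
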