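import Groth.Statements.S17804
import Groth.Agent.Lib.DivSub15.Basic
import Groth.Agent.Lib.FppfSource.Scheme
-- import your own Groth.Agent.* helpers here

set_option autoImplicit false
universe u
open CategoryTheory CategoryTheory.Limits MonoidalCategory CartesianMonoidalCategory MonObj GrpObj AlgebraicGeometry
open GrpSch

namespace Groth.Agent.S17804

/-- Let k be a field, G a commutative group scheme locally of finite type over k, H ⊆ G a closed
subgroup scheme of finite type over k, and q : G → Q the quotient G/H (q is flat, surjective,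
locally of finite presentation, and G ×_k H → G ×_Q G, (g, h) ↦ (g, gh), is an isomorphism). Let n ≥
1 and M ≥ 1 be integers. Then G contains a closed subgroup scheme G_M annihilated by n^N for some N,
with image in Q killed by n^M, such that the induced homomorphism from G_M to the kernel Q[n^M] of
multiplication by n^M on Q is flat and surjective. -/
theorem result (k : Type u) [Field k] {G H Q : Over (Spec (CommRingCat.of k))} [GrpObj G] [IsCommMonObj G] [GrpObj H] [GrpObj Q] [LocallyOfFiniteType G.hom] [LocallyOfFiniteType H.hom] [QuasiCompact H.hom] (iH : H ⟶ G) [IsMonHom iH] (hcl : IsClosedImmersion iH.left) (q : G ⟶ Q) [IsMonHom q] (hq : RedSub.IsQuotient iH q) (n : ℕ) (hn : 0 < n) (M : ℕ) (hM : 0 < M) : ∃ (G' : Over (Spec (CommRingCat.of k))) (_ : GrpObj G') (j : G' ⟶ G) (_ : IsMonHom j), IsClosedImmersion j.left ∧ (∃ N : ℕ, ∀ (T : Over (Spec (CommRingCat.of k))) (g : T ⟶ G'), g ^ (n ^ N) = 1) ∧ (∀ (T : Over (Spec (CommRingCat.of k)))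 (g : T ⟶ G'), (g ≫ j ≫ q) ^ (n ^ M) = 1) ∧ ∀ (K : Over (Spec (CommRingCat.of k))) [GrpObj K] (κ : K ⟶ Q) [IsMonHom κ], AlgGrp.IsKernel κ ((𝟙 Q) ^ (n ^ M)) → ∀ ℓ : G' ⟶ K, ℓ ≫ κ = j ≫ q → Flat ℓ.left ∧ Surjective ℓ.left := by

  obtain ⟨hs, hfl, hp, hsq⟩ := hq
  haveI := hs
  haveI := hfl
  haveI := hp
  haveI := hcl
  haveI : LocallyOfFinitePresentation (q.left ≫ Q.hom) := by rw [Over.w q]; infer_instance
  haveI := Groth.Agent.FppfSource.locallyOfFinitePresentation_of_fppf_comp q.left Q.hom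
  haveI : IsClosedImmersion η[Q].left := isClosedImmersion_of_comp_eq_id Q.hom η[Q].left (Over.w η[Q])
  haveI : IsClosedImmersion η[G].left := isClosedImmersion_of_comp_eq_id G.hom η[G].left (Over.w η[G])
  haveI hqc : QuasiCompact q.left := by
    have hsnd : (G ◁ iH) ≫ μ[G] = fst G H * (snd G H ≫ iH) := by
      rw [MonObj.mul_eq_mul, MonObj.comp_mul, whiskerLeft_fst, whiskerLeft_snd]
    haveI : QuasiCompact (fst G H).left := by rw [Over.fst_left]; infer_instance
    haveI : QuasiCompact ((Over.forget (Spec (CommRingCat.of k))).map (fst G H)) := ‹QuasiCompact (fst G H).left›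
    exact @Groth.Agent.DivSub15.quasiCompact_of_kernelPair _ _ _ q.left hs q.left.isOpenMap _ _ (hsq.map (Over.forget _)).flip ‹QuasiCompact (fst G H).left›
  haveI : Mono iH := (Over.forget _).mono_of_mono_map (f := iH) (inferInstanceAs (Mono iH.left))
  haveI : IsCommMonObj H := ⟨by
    rw [← cancel_mono iH, Category.assoc, IsMonHom.mul_hom iH, ← BraidedCategory.braiding_naturality_assoc,
      IsCommMonObj.mul_comm]⟩
  obtain ⟨c, hc⟩ := Groth.Agent.DivSub15.exists_eventually_divisible H n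
  have rel : ∀ {T : Over (Spec (CommRingCat.of k))} (g g' : T ⟶ G),
      g ≫ q = g' ≫ q ↔ ∃ x : T ⟶ H, g' = g * (x ≫ iH) := by
    intro T g g'
    have hmul : ∀ (g : T ⟶ G) (x : T ⟶ H), lift g x ≫ (G ◁ iH) ≫ μ[G] = g * (x ≫ iH) := fun g x => by
      rw [lift_whiskerLeft_assoc, Hom.mul_def]
    constructor
    · intro e
      obtain ⟨t, ht1, ht2⟩ := hsq.exists_lift g g' e
      refine ⟨t ≫ snd G H, ?_⟩
      rw [← hmul, ← ht1, ← comp_lift_assoc, lift_fst_snd, Category.id_comp, ht2]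
    · rintro ⟨x, rfl⟩
      rw [← hmul, Category.assoc, ← hsq.w, lift_fst_assoc]
  let P₁ : G ⟶ G := (𝟙 G : G ⟶ G) ^ n ^ (c + M)
  haveI : IsMonHom P₁ := Groth.Agent.TorusIsog19.isMonHom_pow G _
  let i₁ := Groth.Agent.Isogeny14.kerIncl P₁
  letI := Groth.Agent.Isogeny14.kerGrp P₁
  haveI : IsMonHom i₁ := Groth.Agent.Isogeny14.isMonHom_kerIncl P₁
  let PM : G ⟶ G := (𝟙 G : G ⟶ G) ^ n ^ M
  haveI : IsMonHom PM := Groth.Agent.TorusIsog19.isMonHom_pow G _
  let f₂ : Groth.Agent.Isogeny14.kerOver P₁ ⟶ Q := i₁ ≫ PM ≫ q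
  let i₂ := Groth.Agent.Isogeny14.kerIncl f₂
  letI gr := Groth.Agent.Isogeny14.kerGrp f₂
  haveI : IsMonHom i₂ := Groth.Agent.Isogeny14.isMonHom_kerIncl f₂
  haveI h1cl : IsClosedImmersion i₁.left := MorphismProperty.pullback_fst _ _ ‹IsClosedImmersion η[G].left›
  haveI h2cl : IsClosedImmersion i₂.left := MorphismProperty.pullback_fst _ _ ‹IsClosedImmersion η[Q].left›
  let j := i₂ ≫ i₁
  have hjcl : IsClosedImmersion j.left := by simp only [j, Over.comp_left]; infer_instance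
  haveI := hjcl
  refine ⟨_, gr, j, inferInstance, hjcl, ⟨c + M, fun T g => ?_⟩, fun T g => ?_, ?_⟩
  · haveI := Groth.Agent.Isogeny14.mono_kerIncl P₁
    haveI := Groth.Agent.Isogeny14.mono_kerIncl f₂
    rw [← cancel_mono i₂, ← cancel_mono i₁, Groth.Agent.Isogeny14.hom_pow_comp i₂, MonObj.one_comp,
      Groth.Agent.Isogeny14.hom_pow_comp i₁, MonObj.one_comp, ← Groth.Agent.TorusIsog19.comp_id_pow,
      Category.assoc]
    show (g ≫ i₂) ≫ i₁ ≫ P₁ = 1
    rw [Groth.Agent.Isogeny14.kerIncl_comp, MonObj.comp_one]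
  · rw [← Category.assoc, ← Groth.Agent.Isogeny14.hom_pow_comp q, ← Groth.Agent.TorusIsog19.comp_id_pow,
      Category.assoc, Category.assoc]
    show g ≫ (i₂ ≫ i₁) ≫ PM ≫ q = 1
    rw [Category.assoc, show i₁ ≫ PM ≫ q = f₂ from rfl, Groth.Agent.Isogeny14.kerIncl_comp, MonObj.comp_one]
  intro K _ κ _ hκ ℓ hℓ
  haveI : Mono κ := by
    haveI : IsSplitMono η[Q] := ⟨⟨⟨toUnit Q, toUnit_unique _ _⟩⟩⟩
    exact MorphismProperty.of_isPullback (P := MorphismProperty.monomorphisms _) hκ.flip (inferInstanceAs (Mono η[Q]))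
  haveI : IsClosedImmersion κ.left :=
    MorphismProperty.of_isPullback (P := @IsClosedImmersion) (hκ.map (Over.forget _)).flip ‹IsClosedImmersion η[Q].left›
  haveI : LocallyOfFiniteType K.hom := by rw [← Over.w κ]; infer_instance
  haveI : LocallyOfFiniteType (Groth.Agent.Isogeny14.kerOver f₂).hom := by rw [← Over.w j]; infer_instance
  haveI : IsMonHom (ℓ ≫ κ) := by rw [hℓ]; infer_instance
  haveI : IsMonHom ℓ := ⟨by
    rw [← cancel_mono κ, Category.assoc, IsMonHom.one_hom (f := κ)]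
    exact IsMonHom.one_hom (f := ℓ ≫ κ), by
    rw [← cancel_mono κ, Category.assoc, Category.assoc, IsMonHom.mul_hom (f := κ),
      MonoidalCategory.tensorHom_comp_tensorHom_assoc]
    exact IsMonHom.mul_hom (f := ℓ ≫ κ)⟩
  haveI : QuasiCompact (ℓ.left ≫ κ.left) := by
    rw [← Over.comp_left, hℓ, Over.comp_left]; infer_instance
  haveI : QuasiCompact ℓ.left := QuasiCompact.of_comp ℓ.left κ.left
  obtain ⟨T₁, c₁, g, hc1, hc2, hc3, hg⟩ := Groth.Agent.SpecialExt15.exists_cover_lift q κ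
  have hκM : κ ^ n ^ M = 1 := by
    rw [← Groth.Agent.TorusIsog19.comp_id_pow, hκ.w, Hom.one_def]
  obtain ⟨h, hh⟩ := (rel 1 (g ^ n ^ M)).1 (by
    rw [MonObj.one_comp, Groth.Agent.Isogeny14.hom_pow_comp q, hg, ← MonObj.comp_pow, hκM, MonObj.comp_one])
  rw [_root_.one_mul] at hh
  obtain ⟨T₂, d, h', hd1, hd2, hd3, hh'⟩ := hc M T₁ h
  letI : CommMonoid (T₂ ⟶ G) := Hom.commMonoid
  let g' : T₂ ⟶ G := (d ≫ g) * (h' ≫ iH)⁻¹
  have hg'N : g' ≫ P₁ = 1 := by
    rw [Groth.Agent.TorusIsog19.comp_id_pow]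
    simp only [g']
    rw [mul_pow, inv_pow, ← Groth.Agent.Isogeny14.hom_pow_comp iH, hh', Groth.Agent.Isogeny14.hom_pow_comp iH,
      Category.assoc, ← hh, MonObj.comp_pow, ← pow_mul, ← pow_add, Nat.add_comm M c, mul_inv_cancel]
  have hg'q : g' ≫ q = d ≫ c₁ ≫ κ := by
    rw [← hg, ← Category.assoc d g q]
    exact (rel _ _).2 ⟨h', by simp only [g', inv_mul_cancel_right]⟩
  let z₁ := Groth.Agent.Isogeny14.kerLift P₁ g' hg'N
  have hz₁ : z₁ ≫ i₁ = g' := Groth.Agent.Isogeny14.kerLift_incl _ _ _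
  have hz₁' : z₁ ≫ f₂ = 1 := by
    simp only [f₂]
    rw [reassoc_of% hz₁, ← Category.assoc g' PM q, Groth.Agent.TorusIsog19.comp_id_pow,
      Groth.Agent.Isogeny14.hom_pow_comp q, hg'q, ← MonObj.comp_pow, ← MonObj.comp_pow, hκM,
      MonObj.comp_one, MonObj.comp_one]
  let z := Groth.Agent.Isogeny14.kerLift f₂ z₁ hz₁'
  have hz : z ≫ ℓ = d ≫ c₁ := by
    rw [← cancel_mono κ, Category.assoc, hℓ, Category.assoc]
    simp only [j, z]
    rw [reassoc_of% (Groth.Agent.Isogeny14.kerLift_incl f₂ z₁ hz₁'), reassoc_of% hz₁, hg'q, Category.assoc]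
  haveI : Flat (z ≫ ℓ).left := by rw [hz, Over.comp_left]; infer_instance
  haveI : Surjective (z ≫ ℓ).left := by rw [hz, Over.comp_left]; infer_instance
  haveI : QuasiCompact (z ≫ ℓ).left := by rw [hz, Over.comp_left]; infer_instance
  exact Groth.Agent.TorusIsog19.flat_surjective_of_factor ℓ z


end Groth.Agent.S17804
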