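import Groth.Statements.S17808
import Groth.Agent.Lib.CurvePts22.General
import Groth.Agent.Lib.VB17.SmoothDuality

set_option linter.style.haveILetI false
set_option backward.isDefEq.respectTransparency false
set_option backward.isDefEq.respectTransparency.types false
set_option autoImplicit false
universe u
open CategoryTheory CategoryTheory.Limits AlgebraicGeometry
open JacVar

namespace Groth.Agent.S17808

/-- Let C be a smooth proper connected curve of genus g > 0 over an algebraically closed field k (with a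
chosen point), and let r ≤ g. Then there is a nonempty open subset U of the r-fold fibre power C ×_k
⋯ ×_k C such that for every k-point (P_1, …, P_r) of U (closed points, k being algebraically closed)
and every invertible module M on C with M ⊗ I_{P_1} ⊗ ⋯ ⊗ I_{P_r} ≅ O_C (so M is O(P_1 + ⋯ + P_r)),
h⁰(C, M) = 1. (The published statement, over the ground field of the section, says only that U is
open; this row also asserts that U is non-empty; k is taken algebraically closed so that the
k-points of U are its closed points.) -/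
theorem result (k : Type u) [Field k] [IsAlgClosed k]
    (C : Scheme.{u}) [C.Over (Spec (CommRingCat.of k))]
    [IsProper (C ↘ Spec (CommRingCat.of k))] [Smooth (C ↘ Spec (CommRingCat.of k))] [GeometricallyConnected (C ↘ Spec (CommRingCat.of k))]
    (hdim : topologicalKrullDim ↥C = 1)
    (hg : 0 < Curv2.genus k C)
    (σ₀ : Spec (CommRingCat.of k) ⟶ C) (hσ₀ : σ₀ ≫ (C ↘ Spec (CommRingCat.of k)) = 𝟙 _)
    (r : ℕ) (hr : r ≤ Curv2.genus k C) :
    ∃ U : (SymProd.fibPow (C ↘ Spec (CommRingCat.of k)) r).Opens, (U : Set ↥(SymProd.fibPow (C ↘ Spec (CommRingCat.of k)) r)).Nonempty ∧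
      ∀ (x : Spec (CommRingCat.of k) ⟶ SymProd.fibPow (C ↘ Spec (CommRingCat.of k)) r)
        (hx : x ≫ WidePullback.base (fun (_ : Fin r) => (C ↘ Spec (CommRingCat.of k))) = 𝟙 _)
        (hxU : ∀ p, x.base p ∈ U) (M : C.Modules) (hM : PicF.IsInvertible M)
        (hMD : Nonempty (CohB1.tensorMod M (FGA.tensorList (List.ofFn fun i : Fin r =>
          ClSub.idealMod (x ≫ WidePullback.π (fun (_ : Fin r) => (C ↘ Spec (CommRingCat.of k))) i).ker)) ≅ Coh.structureModule C)),
        Module.finrank k (Coh.HH C M 0) = 1 := by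
  haveI : IsIntegral C := Groth.Agent.VB17.isIntegral_of_smooth (k := k) (X := C)
  obtain ⟨hX, h0, hbig⟩ := Groth.Agent.CurvePts22.setup hdim σ₀ hσ₀
  obtain ⟨W, lam, hW⟩ := Groth.Agent.VB17.exists_isDualizing hX h0 hbig
  obtain ⟨hWg, -, -⟩ := hW.invariants hX h0 hbig
  obtain ⟨O, hO, hOx⟩ := Groth.Agent.CurvePts22.exists_open_h0_twist (k := k) hdim hW.inv r
  refine ⟨O, hO, fun x hx hxU M hM hMD => ?_⟩
  obtain ⟨e⟩ := hMD
  have hQ : ∀ i, (x ≫ WidePullback.π (fun (_ : Fin r) => (C ↘ Spec (CommRingCat.of k))) i) ≫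
      (C ↘ Spec (CommRingCat.of k)) = 𝟙 _ := fun i => by rw [Category.assoc, WidePullback.π_arrow, hx]
  obtain ⟨hT, hdT⟩ := Groth.Agent.CurvePts22.deg_ptFn hdim _ hQ
  have h1 := (hW.finrank_h1 hX h0 hbig hM hT (Groth.Agent.M2.tensorComm _ _ ≪≫ e)).trans (hOx x hx hxU)
  haveI := hX.like.noetherian
  have hrr := hX.like.rr (Groth.Agent.CurveCoh17.isCoh_of_ofRank
    ((Groth.Agent.M2.isInvertible_iff_isFinLocFreeOfRank_one _).1 hM))
  have hd := hX.like.deg_of_tensor_iso hT hM (Groth.Agent.M2.tensorComm _ _ ≪≫ e)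
  rw [hd, hdT, h1, hWg, h0] at hrr
  omega

end Groth.Agent.S17808
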