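import Groth.Statements.S17810
import Groth.Agent.Lib.JacPts22.Albanese

set_option linter.style.haveILetI false
set_option backward.isDefEq.respectTransparency false
set_option backward.isDefEq.respectTransparency.types false
set_option maxHeartbeats 1000000
set_option autoImplicit false
universe u
open CategoryTheory CategoryTheory.Limits AlgebraicGeometry MonoidalCategory CartesianMonoidalCategory MonObj
open JacVar

namespace Groth.Agent.S17810

open Groth.Agent Groth.Agent.JacPts22

/-- The case of a curve with a rational point. Let C be a smooth proper geometrically connected curve of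
genus g > 0 over a field k with a k-rational point P, (J, ψ) its Jacobian (a commutative group
scheme over k, coarse moduli scheme on all k-schemes for degree-0 line bundles on C modulo twisting
from the base, group law induced by tensor product), j : C ⟶ J the Abel map with base point P, and F
: C ×_k C ⟶ J the morphism (x, y) ↦ j(x) · j(y)⁻¹, which sends (x, y) to the class of O(x − y) and
does not depend on P. Then for every abelian variety A over k (commutative group scheme, proper,
smooth and geometrically irreducible over k) and every morphism φ : C ×_k C ⟶ A over k which maps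
the diagonal to the zero of A, there is a unique homomorphism of group schemes J ⟶ A whose composite
with F is φ. (Stated when C has a rational point, through which F is written; the published
statement covers every C by descent.) -/
theorem result (k : Type u) [Field k]
    (C : Scheme.{u}) [C.Over (Spec (CommRingCat.of k))]
    [IsProper (C ↘ Spec (CommRingCat.of k))] [Smooth (C ↘ Spec (CommRingCat.of k))] [GeometricallyConnected (C ↘ Spec (CommRingCat.of k))]
    (hdim : topologicalKrullDim ↥C = 1)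
    (hg : 0 < Curv2.genus k C)
    (σ : Spec (CommRingCat.of k) ⟶ C) (hσ : σ ≫ (C ↘ Spec (CommRingCat.of k)) = 𝟙 _)
    (J : Over (Spec (CommRingCat.of k))) [GrpObj J] [IsCommMonObj J]
    (ψ : (ModFun.PicDeg (C ↘ Spec (CommRingCat.of k)) 0).Hom ⊤ J) (hJ : Jac.IsJacobian (C ↘ Spec (CommRingCat.of k)) ⊤ J ψ)
    (j : Over.mk (C ↘ Spec (CommRingCat.of k)) ⟶ J) (hj : Jac.IsAbelJacobiAt (C ↘ Spec (CommRingCat.of k)) σ ψ j)
    (A : Over (Spec (CommRingCat.of k))) [GrpObj A] [IsCommMonObj A]
    [IsProper A.hom] [Smooth A.hom] [GeometricallyIrreducible A.hom]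
    (φ : Over.mk (C ↘ Spec (CommRingCat.of k)) ⊗ Over.mk (C ↘ Spec (CommRingCat.of k)) ⟶ A)
    (hφ : lift (𝟙 (Over.mk (C ↘ Spec (CommRingCat.of k)))) (𝟙 (Over.mk (C ↘ Spec (CommRingCat.of k)))) ≫ φ = toUnit _ ≫ η[A]) :
    ∃! χ : J ⟶ A, IsMonHom χ ∧
      ((fst (Over.mk (C ↘ Spec (CommRingCat.of k))) (Over.mk (C ↘ Spec (CommRingCat.of k))) ≫ j) * (snd (Over.mk (C ↘ Spec (CommRingCat.of k))) (Over.mk (C ↘ Spec (CommRingCat.of k))) ≫ j)⁻¹) ≫ χ = φ := by
  haveI : IsIntegral C := VB17.isIntegral_of_smooth (k := k) (X := C)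
  haveI := AmpleFib.geometricallyIntegral_of_smooth_connected (k := k) (X := C)
  haveI : GeometricallyConnected A.hom := PicPn.geometricallyConnected_of_irreducible A.hom
  haveI := AbRigid.geometricallyIntegral_of_smooth A
  let X : Over (Spec (CommRingCat.of k)) := Over.mk (C ↘ Spec (CommRingCat.of k))
  haveI : IsProper X.hom := ‹IsProper (C ↘ Spec (CommRingCat.of k))›
  haveI : GeometricallyIntegral X.hom :=
    AmpleFib.geometricallyIntegral_of_smooth_connected (k := k) (X := C)
  let σ' : 𝟙_ (Over (Spec (CommRingCat.of k))) ⟶ X := Over.homMk σ hσ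
  change lift (𝟙 X) (𝟙 X) ≫ φ = toUnit X ≫ η[A] at hφ
  rw [one_eq_one, MonObj.comp_one] at hφ
  have hσσ : lift σ' σ' ≫ φ = η[A] := by
    rw [show lift σ' σ' = σ' ≫ lift (𝟙 X) (𝟙 X) by rw [comp_lift, Category.comp_id], Category.assoc, hφ,
      MonObj.comp_one, one_eq_one]
  have hsplit := AbRigid.eq_mul_of_axes X X A φ σ' σ' hσσ
  set p : X ⟶ A := lift (𝟙 X) (toUnit X ≫ σ') ≫ φ with hp
  set q : X ⟶ A := lift (toUnit X ≫ σ') (𝟙 X) ≫ φ with hq
  have hqp : q = p⁻¹ := by
    have h := congrArg (lift (𝟙 X) (𝟙 X) ≫ ·) hsplit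
    simp only [MonObj.comp_mul, lift_fst_assoc, lift_snd_assoc, Category.id_comp, hφ] at h
    exact eq_inv_of_mul_eq_one_right h.symm
  have hp0 : σ' ≫ p = 1 := by
    rw [hp, ← Category.assoc, comp_lift, Category.comp_id, ← Category.assoc,
      toUnit_unique (σ' ≫ toUnit X) (𝟙 _), Category.id_comp, hσσ, one_eq_one]
  obtain ⟨χ, hm, hχ⟩ := exists_albanese hdim hσ hJ j hj hg p (by
    rw [← one_eq_one] at hp0
    exact congrArg CommaMorphism.left hp0)
  haveI := hm
  have hφχ : φ = ((fst X X ≫ j) * (snd X X ≫ j)⁻¹) ≫ χ := by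
    rw [MonObj.mul_comp, GrpObj.inv_comp, Category.assoc, Category.assoc, hχ, hsplit, hqp,
      GrpObj.comp_inv]
  refine ⟨χ, ⟨hm, hφχ.symm⟩, fun χ' ⟨hm', hχ'⟩ => ?_⟩
  haveI := hm'
  refine hom_ext_abel hdim σ hσ hJ j hj χ' χ ?_
  have h := congrArg (lift (𝟙 X) (toUnit X ≫ σ') ≫ ·) (hχ'.trans hφχ)
  have hj0 : σ' ≫ j = 1 := base_comp_abel hdim hσ hJ j hj
  have e : lift (𝟙 X) (toUnit X ≫ σ') ≫ ((fst X X ≫ j) * (snd X X ≫ j)⁻¹) = j := by
    rw [MonObj.comp_mul, GrpObj.comp_inv, lift_fst_assoc, lift_snd_assoc, Category.id_comp, Category.assoc, hj0,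
      MonObj.comp_one, inv_one, _root_.mul_one]
  calc j ≫ χ' = lift (𝟙 X) (toUnit X ≫ σ') ≫ ((fst X X ≫ j) * (snd X X ≫ j)⁻¹) ≫ χ' := by
        rw [← Category.assoc, e]
    _ = lift (𝟙 X) (toUnit X ≫ σ') ≫ ((fst X X ≫ j) * (snd X X ≫ j)⁻¹) ≫ χ := h
    _ = j ≫ χ := by rw [← Category.assoc, e]

end Groth.Agent.S17810
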