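import Groth.Statements.S17811
import Groth.Agent.Lib.Torelli22.CurveIso

set_option linter.style.haveILetI false
set_option backward.isDefEq.respectTransparency false
set_option backward.isDefEq.respectTransparency.types false
set_option maxHeartbeats 1000000
set_option autoImplicit false
universe u
open CategoryTheory CategoryTheory.Limits AlgebraicGeometry MonoidalCategory CartesianMonoidalCategory MonObj
open JacVar

namespace Groth.Agent.S17811

open Groth.Agent Groth.Agent.JacPts22 Groth.Agent.CurvePts22 Groth.Agent.Torelli22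

/-- Torelli's statement. Let k be an algebraically closed field, C and C' smooth proper connected curves
of the same genus g ≥ 2 over k with k-points P and P', (J, ψ) and (J', ψ') their Jacobians
(commutative group schemes over k which are coarse moduli schemes, on all k-schemes, for degree-0
line bundles modulo twisting from the base, group law induced by tensor product), j : C ⟶ J and j' :
C' ⟶ J' the Abel maps with base points P and P', and N, N' invertible modules of degree g − 1 on C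
and C'. Let Θ ⊂ J and Θ' ⊂ J' be the theta loci of N and N' (closures of the loci of classes ξ with
a nonzero global section of ξ ⊗ N, resp. of ξ ⊗ N'); they are translates of the images of the (g −
1)-st symmetric powers. Suppose β : J ≅ J' is an isomorphism of group schemes over k mapping Θ onto
the translate of Θ' by some k-point; this says that β respects the canonical principal
polarizations. Then there are an isomorphism α : C ≅ C' over k, a k-point c of J' and a sign s ∈ {1,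
−1} such that j' ∘ α = (β ∘ j)^s · c in the group of morphisms C ⟶ J'. (The published statement does
not restrict the genus; this row assumes g ≥ 2.) -/
theorem result (k : Type u) [Field k] [IsAlgClosed k]
    (C : Scheme.{u}) [C.Over (Spec (CommRingCat.of k))]
    [IsProper (C ↘ Spec (CommRingCat.of k))] [Smooth (C ↘ Spec (CommRingCat.of k))] [GeometricallyConnected (C ↘ Spec (CommRingCat.of k))]
    (hdim : topologicalKrullDim ↥C = 1)
    (C' : Scheme.{u}) [C'.Over (Spec (CommRingCat.of k))]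
    [IsProper (C' ↘ Spec (CommRingCat.of k))] [Smooth (C' ↘ Spec (CommRingCat.of k))] [GeometricallyConnected (C' ↘ Spec (CommRingCat.of k))]
    (hdim' : topologicalKrullDim ↥C' = 1)
    (g : ℕ) (hg : Curv2.genus k C = g) (hg' : Curv2.genus k C' = g) (hg2 : 2 ≤ g)
    (σ : Spec (CommRingCat.of k) ⟶ C) (hσ : σ ≫ (C ↘ Spec (CommRingCat.of k)) = 𝟙 _) (σ' : Spec (CommRingCat.of k) ⟶ C') (hσ' : σ' ≫ (C' ↘ Spec (CommRingCat.of k)) = 𝟙 _)
    (J : Over (Spec (CommRingCat.of k))) [GrpObj J] [IsCommMonObj J]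
    (ψ : (ModFun.PicDeg (C ↘ Spec (CommRingCat.of k)) 0).Hom ⊤ J) (hJ : Jac.IsJacobian (C ↘ Spec (CommRingCat.of k)) ⊤ J ψ)
    (J' : Over (Spec (CommRingCat.of k))) [GrpObj J'] [IsCommMonObj J']
    (ψ' : (ModFun.PicDeg (C' ↘ Spec (CommRingCat.of k)) 0).Hom ⊤ J') (hJ' : Jac.IsJacobian (C' ↘ Spec (CommRingCat.of k)) ⊤ J' ψ')
    (j : Over.mk (C ↘ Spec (CommRingCat.of k)) ⟶ J) (hj : Jac.IsAbelJacobiAt (C ↘ Spec (CommRingCat.of k)) σ ψ j)
    (j' : Over.mk (C' ↘ Spec (CommRingCat.of k)) ⟶ J') (hj' : Jac.IsAbelJacobiAt (C' ↘ Spec (CommRingCat.of k)) σ' ψ' j')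
    (N : C.Modules) (hN : PicF.IsInvertible N) (hNdeg : Curv2.deg k C N 1 = (g : ℤ) - 1)
    (N' : C'.Modules) (hN' : PicF.IsInvertible N') (hNdeg' : Curv2.deg k C' N' 1 = (g : ℤ) - 1)
    (β : J ≅ J') [IsMonHom β.hom] (c₀ : 𝟙_ (Over (Spec (CommRingCat.of k))) ⟶ J')
    (hβ : β.hom.left.base '' Jac.thetaLocus (C ↘ Spec (CommRingCat.of k)) 0 ψ N =
      (Jac.transl J' c₀).left.base ⁻¹' Jac.thetaLocus (C' ↘ Spec (CommRingCat.of k)) 0 ψ' N') :
    ∃ (α : C ≅ C') (hα : α.hom ≫ (C' ↘ Spec (CommRingCat.of k)) = (C ↘ Spec (CommRingCat.of k))) (c : 𝟙_ (Over (Spec (CommRingCat.of k))) ⟶ J') (s : ℤ),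
      (s = 1 ∨ s = -1) ∧
      Over.homMk α.hom hα ≫ j' = (j ≫ β.hom) ^ s * (toUnit (Over.mk (C ↘ Spec (CommRingCat.of k))) ≫ c) := by
  classical
  letI : ∀ Y : Scheme.{u}, PicGrp.Law Y := fun Y => Groth.Agent.M2.law Y
  haveI : IsIntegral C := VB17.isIntegral_of_smooth (k := k) (X := C)
  haveI : IsIntegral C' := VB17.isIntegral_of_smooth (k := k) (X := C')
  haveI : GeometricallyIntegral (C ↘ Spec (CommRingCat.of k)) := PicSep22.geometricallyIntegral_of_smooth _
  haveI : GeometricallyIntegral (C' ↘ Spec (CommRingCat.of k)) := PicSep22.geometricallyIntegral_of_smooth _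
  haveI : IsSeparated J.hom := AbRigid.isSeparated_of_grpObj J
  haveI : IsSeparated J'.hom := AbRigid.isSeparated_of_grpObj J'
  haveI : IsClosedImmersion j.left := isClosedImmersion_abel hdim σ hσ hJ j hj (by omega)
  haveI : IsClosedImmersion j'.left := isClosedImmersion_abel hdim' σ' hσ' hJ' j' hj' (by omega)
  obtain ⟨S₀, hS⟩ := exists_sys hdim σ hσ ψ hJ j hj hg hg2
  obtain ⟨T, hT⟩ := exists_sys hdim' σ' hσ' ψ' hJ' j' hj' hg' hg2
  let e : (𝟙_ (Over (Spec (CommRingCat.of k))) ⟶ J') ≃* (𝟙_ (Over (Spec (CommRingCat.of k))) ⟶ J) :=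
    { toFun := fun w => w ≫ β.inv
      invFun := fun z => z ≫ β.hom
      left_inv := fun w => by simp
      right_inv := fun z => by simp
      map_mul' := fun w w' => by
        rw [← cancel_mono β.hom, MonObj.mul_comp]
        try simp }
  let S : Sys (ClPts J') g := Sys.map e (fun F hF => clPts_preimage β.inv hF)
    (fun F hF => clPts_preimage β.hom hF) S₀
  have hSW : ∀ n w, w ∈ S.W n ↔ pt (w ≫ β.inv).left ∈ Set.range (sumMap j n).left.base := fun n w => hS n _
  obtain ⟨n, rfl⟩ : ∃ n, g = n + 1 := ⟨g - 1, by omega⟩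
  obtain ⟨a, ha⟩ := Riemann22.thetaLocus_eq hdim hJ hσ j hj hg hN (by rw [hNdeg]; push_cast; ring)
  obtain ⟨a', ha'⟩ := Riemann22.thetaLocus_eq hdim' hJ' hσ' j' hj' hg' hN' (by rw [hNdeg']; push_cast; ring)
  have key : ∀ z : 𝟙_ (Over (Spec (CommRingCat.of k))) ⟶ J', z * (c₀ * a') ∈ T.W n ↔ z * (a ≫ β.hom) ∈ S.W n := fun z => by
    rw [hT, hSW, show (z * (a ≫ β.hom)) ≫ β.inv = (z ≫ β.inv) * a from (e.map_mul _ _).trans (congrArg _ (e.apply_symm_apply a)),
      ← _root_.mul_assoc, ← point_comp_transl, ← point_comp_transl, ← point_comp_transl (z ≫ β.inv)]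
    have h := Set.ext_iff.1 hβ (pt z.left)
    rw [ha, ha'] at h
    refine Iff.trans h.symm ⟨?_, fun hz => ⟨pt (z ≫ β.inv).left, hz, ?_⟩⟩
    · rintro ⟨q, hq, hqz⟩
      have : pt (z ≫ β.inv).left = q := by
        show β.inv.left.base (pt z.left) = q
        rw [← hqz]
        show (β.hom.left ≫ β.inv.left).base q = q
        rw [← Over.comp_left, β.hom_inv_id]
        rfl
      show (Jac.transl J a).left.base (pt (z ≫ β.inv).left) ∈ _
      rw [this]
      exact hq
    · show ((z ≫ β.inv) ≫ β.hom).left.base _ = _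
      rw [Category.assoc, β.inv_hom_id, Category.comp_id]
      rfl
  have hc : ∀ z, z ∈ T.W (n + 1 - 1) ↔ z * ((c₀ * a')⁻¹ * (a ≫ β.hom)) ∈ S.W (n + 1 - 1) := fun z => by
    rw [Nat.add_sub_cancel, ← _root_.mul_assoc, ← key, inv_mul_cancel_right]
  -- points of the curves
  have hone : ∀ x : 𝟙_ (Over (Spec (CommRingCat.of k))) ⟶ Over.mk (C' ↘ Spec (CommRingCat.of k)), x ≫ j' ∈ T.W 1 := fun x => by
    rw [hT]
    refine ⟨pt (mkPt (fun _ : Fin 1 => (⟨x.left, Over.w x⟩ : Torelli22.Pts k C'))).left, ?_⟩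
    show pt (mkPt _ ≫ sumMap j' 1).left = _
    rw [Riemann22.comp_sumMap, Fin.prod_univ_one, Riemann22.mkPt_prj (fun _ : Fin 1 => x) 0]
  have hone₀ : ∀ x : 𝟙_ (Over (Spec (CommRingCat.of k))) ⟶ Over.mk (C ↘ Spec (CommRingCat.of k)), (x ≫ j) ≫ β.hom ∈ S.W 1 := fun x => by
    rw [hSW, Category.assoc, β.hom_inv_id, Category.comp_id]
    refine ⟨pt (mkPt (fun _ : Fin 1 => (⟨x.left, Over.w x⟩ : Torelli22.Pts k C))).left, ?_⟩
    show pt (mkPt _ ≫ sumMap j 1).left = _
    rw [Riemann22.comp_sumMap, Fin.prod_univ_one, Riemann22.mkPt_prj (fun _ : Fin 1 => x) 0]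
  have hW₀ : ∀ w, w ∈ S.W 1 → pt w.left ∈ Set.range (j ≫ β.hom).left.base := fun w hw => by
    obtain ⟨q, hq⟩ := (hSW 1 w).1 hw
    refine ⟨(prj 0).left.base q, ?_⟩
    have h1 : sumMap j 1 = prj 0 ≫ j := by simp [sumMap]
    rw [h1] at hq
    show β.hom.left.base ((prj 0 ≫ j).left.base q) = _
    rw [hq]
    show ((w ≫ β.inv) ≫ β.hom).left.base _ = _
    rw [Category.assoc, β.inv_hom_id, Category.comp_id]
    rfl
  have hW : ∀ w, w ∈ T.W 1 → pt w.left ∈ Set.range j'.left.base := fun w hw => by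
    obtain ⟨q, hq⟩ := (hT 1 w).1 hw
    refine ⟨(prj 0).left.base q, ?_⟩
    have h1 : sumMap j' 1 = prj 0 ≫ j' := by simp [sumMap]
    rw [h1] at hq
    exact hq
  have two : ∀ (X : Scheme.{u}) [X.Over (Spec (CommRingCat.of k))] [IsProper (X ↘ Spec (CommRingCat.of k))]
      (c d : 𝟙_ (Over (Spec (CommRingCat.of k))) ⟶ Over.mk (X ↘ Spec (CommRingCat.of k))), c ≠ d →
      ∃ p q : X, p ≠ q ∧ IsClosed ({p} : Set X) := fun X _ _ c d hcd => by
    haveI : IsSeparated (Over.mk (X ↘ Spec (CommRingCat.of k))).hom := inferInstanceAs (IsSeparated (X ↘ Spec (CommRingCat.of k)))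
    haveI := CurvePts22.isClosedImmersion_of_section (C := X) c.left (Over.w c)
    refine ⟨pt c.left, pt d.left, fun h => hcd (Over.OverMorphism.ext (ext_of_pt_eq _ (Over.w c) (Over.w d) h)), ?_⟩
    exact (CurvePts22.range_eq (C := X) c.left) ▸ c.left.isClosedEmbedding.isClosed_range
  obtain ⟨p₁, p₂, hp⟩ := Riemann22.exists_two_points (k := k) (C := C) hdim
  obtain ⟨q₁, q₂, hq⟩ := Riemann22.exists_two_points (k := k) (C := C') hdim'
  -- isomorphisms and inversion keep closed immersions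
  haveI : IsIso β.hom.left := (inferInstance : IsIso ((Over.forget _).map β.hom))
  have hinv : IsIso ((𝟙 J')⁻¹ : J' ⟶ J').left := by
    have h2 : ((𝟙 J')⁻¹ : J' ⟶ J') ≫ (𝟙 J')⁻¹ = 𝟙 J' := by rw [GrpObj.comp_inv, Category.comp_id, inv_inv]
    exact ⟨_, by rw [← Over.comp_left, h2]; rfl, by rw [← Over.comp_left, h2]; rfl⟩
  haveI := hinv
  haveI : ∀ b : 𝟙_ (Over (Spec (CommRingCat.of k))) ⟶ J', IsIso (Jac.transl J' b).left := fun b => Riemann22.isIso_transl b
  haveI : IsClosedImmersion (j ≫ β.hom).left := inferInstanceAs (IsClosedImmersion (j.left ≫ β.hom.left))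
  rcases combi (fun F (hF : ClPts J' F) => clPts_inv hF) S T hg2 hc with ⟨b, hb⟩ | ⟨b, hb⟩ | ⟨b, hb⟩ | ⟨b, hb⟩
  · haveI : IsClosedImmersion (j' ≫ Jac.transl J' b).left := inferInstanceAs (IsClosedImmersion (j'.left ≫ (Jac.transl J' b).left))
    obtain ⟨α, hα, he⟩ := exists_iso_of_mem hdim (two C' q₁ q₂ hq) (j ≫ β.hom) (j' ≫ Jac.transl J' b) fun x => hW₀ _ (by
      rw [← Category.assoc, point_comp_transl]; exact hb _ (hone x))
    refine ⟨α, hα, b⁻¹, 1, Or.inl rfl, ?_⟩
    rw [← Category.assoc, comp_transl] at he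
    rw [zpow_one, GrpObj.comp_inv, eq_mul_inv_iff_mul_eq]
    exact he
  · haveI : IsClosedImmersion ((j' ≫ (𝟙 J')⁻¹) ≫ Jac.transl J' b).left :=
      inferInstanceAs (IsClosedImmersion ((j'.left ≫ ((𝟙 J')⁻¹ : J' ⟶ J').left) ≫ (Jac.transl J' b).left))
    obtain ⟨α, hα, he⟩ := exists_iso_of_mem hdim (two C' q₁ q₂ hq) (j ≫ β.hom) ((j' ≫ (𝟙 J')⁻¹) ≫ Jac.transl J' b) fun x => hW₀ _ (by
      rw [← Category.assoc, ← Category.assoc, point_comp_transl, GrpObj.comp_inv, Category.comp_id]; exact hb _ (hone x))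
    refine ⟨α, hα, b, -1, Or.inr rfl, ?_⟩
    rw [← Category.assoc, ← Category.assoc, comp_transl, GrpObj.comp_inv, Category.comp_id] at he
    rw [zpow_neg_one, ← he, mul_inv, inv_inv, inv_mul_cancel_right]
  · haveI : IsClosedImmersion ((j ≫ β.hom) ≫ Jac.transl J' b).left :=
      inferInstanceAs (IsClosedImmersion ((j ≫ β.hom).left ≫ (Jac.transl J' b).left))
    obtain ⟨α, hα, he⟩ := exists_iso_of_mem hdim' (two C p₁ p₂ hp) j' ((j ≫ β.hom) ≫ Jac.transl J' b) fun x => hW _ (by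
      rw [← Category.assoc, point_comp_transl, ← Category.assoc]; exact hb _ (hone₀ x))
    have hα' : α.inv ≫ (C' ↘ Spec (CommRingCat.of k)) = (C ↘ Spec (CommRingCat.of k)) := by rw [← hα, Iso.inv_hom_id_assoc]
    refine ⟨α.symm, hα', b, 1, Or.inl rfl, ?_⟩
    rw [zpow_one, ← he, ← Category.assoc,
      show (Over.homMk α.symm.hom hα' : Over.mk (C ↘ Spec (CommRingCat.of k)) ⟶ Over.mk (C' ↘ Spec (CommRingCat.of k))) ≫ (Over.homMk α.hom hα : Over.mk (C' ↘ Spec (CommRingCat.of k)) ⟶ Over.mk (C ↘ Spec (CommRingCat.of k))) = 𝟙 _ from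
        Over.OverMorphism.ext α.inv_hom_id, Category.id_comp, comp_transl]
  · haveI : IsClosedImmersion (((j ≫ β.hom) ≫ (𝟙 J')⁻¹) ≫ Jac.transl J' b).left :=
      inferInstanceAs (IsClosedImmersion (((j ≫ β.hom).left ≫ ((𝟙 J')⁻¹ : J' ⟶ J').left) ≫ (Jac.transl J' b).left))
    obtain ⟨α, hα, he⟩ := exists_iso_of_mem hdim' (two C p₁ p₂ hp) j' (((j ≫ β.hom) ≫ (𝟙 J')⁻¹) ≫ Jac.transl J' b) fun x => hW _ (by
      rw [← Category.assoc, ← Category.assoc, point_comp_transl, GrpObj.comp_inv, Category.comp_id, ← Category.assoc]; exact hb _ (hone₀ x))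
    have hα' : α.inv ≫ (C' ↘ Spec (CommRingCat.of k)) = (C ↘ Spec (CommRingCat.of k)) := by rw [← hα, Iso.inv_hom_id_assoc]
    refine ⟨α.symm, hα', b, -1, Or.inr rfl, ?_⟩
    rw [zpow_neg_one, ← he, ← Category.assoc,
      show (Over.homMk α.symm.hom hα' : Over.mk (C ↘ Spec (CommRingCat.of k)) ⟶ Over.mk (C' ↘ Spec (CommRingCat.of k))) ≫ (Over.homMk α.hom hα : Over.mk (C' ↘ Spec (CommRingCat.of k)) ⟶ Over.mk (C ↘ Spec (CommRingCat.of k))) = 𝟙 _ from
        Over.OverMorphism.ext α.inv_hom_id, Category.id_comp, comp_transl, GrpObj.comp_inv, Category.comp_id]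

end Groth.Agent.S17811
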