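import Groth.Statements.S17813
import Groth.Agent.Lib.JacPts22.Reflect

set_option linter.style.haveILetI false
set_option backward.isDefEq.respectTransparency false
set_option backward.isDefEq.respectTransparency.types false
set_option maxHeartbeats 1000000
set_option autoImplicit false
universe u
open CategoryTheory CategoryTheory.Limits AlgebraicGeometry MonoidalCategory CartesianMonoidalCategory MonObj
open JacVar

namespace Groth.Agent.S17813

open Groth.Agent Groth.Agent.JacPts22 Groth.Agent.CurvePts22 Groth.Agent.Torelli22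

/-- Let k be an algebraically closed field, C a smooth proper connected curve of genus g ≥ 2 over k with
a k-point P, (J, ψ) its Jacobian (a commutative group scheme over k, coarse moduli scheme on all
k-schemes for degree-0 line bundles modulo twisting from the base, group law induced by tensor
product) and j : C ⟶ J the Abel map with base point P. Write W^r ⊂ J for the image of the r-fold
product C ×_k ⋯ ×_k C under (x_1, …, x_r) ↦ j(x_1) ⋯ j(x_r) (the image of the r-th symmetric power;
W^0 is the origin), and W^r_a for its translate by a k-point a of J. Then for 0 ≤ r ≤ g − 1 the set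
W^{g−1−r} is the intersection of the translates W^{g−1}_{a⁻¹} over all k-points a of J lying in W^r.
(The companion equality for the images under x ↦ κ·x⁻¹, κ the image of a canonical divisor, is not
stated.) -/
theorem result (k : Type u) [Field k] [IsAlgClosed k]
    (C : Scheme.{u}) [C.Over (Spec (CommRingCat.of k))]
    [IsProper (C ↘ Spec (CommRingCat.of k))] [Smooth (C ↘ Spec (CommRingCat.of k))] [GeometricallyConnected (C ↘ Spec (CommRingCat.of k))]
    (hdim : topologicalKrullDim ↥C = 1)
    (g : ℕ) (hg : Curv2.genus k C = g) (hg2 : 2 ≤ g)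
    (σ : Spec (CommRingCat.of k) ⟶ C) (hσ : σ ≫ (C ↘ Spec (CommRingCat.of k)) = 𝟙 _)
    (J : Over (Spec (CommRingCat.of k))) [GrpObj J] [IsCommMonObj J]
    (ψ : (ModFun.PicDeg (C ↘ Spec (CommRingCat.of k)) 0).Hom ⊤ J) (hJ : Jac.IsJacobian (C ↘ Spec (CommRingCat.of k)) ⊤ J ψ)
    (j : Over.mk (C ↘ Spec (CommRingCat.of k)) ⟶ J) (hj : Jac.IsAbelJacobiAt (C ↘ Spec (CommRingCat.of k)) σ ψ j)
    (r : ℕ) (hr : r ≤ g - 1) :
    Set.range ((List.ofFn fun i : Fin (g - 1 - r) =>
        (Over.homMk (WidePullback.π (fun (_ : Fin (g - 1 - r)) => (C ↘ Spec (CommRingCat.of k))) i)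
          (WidePullback.π_arrow (fun (_ : Fin (g - 1 - r)) => (C ↘ Spec (CommRingCat.of k))) i) : Over.mk (WidePullback.base fun (_ : Fin (g - 1 - r)) => (C ↘ Spec (CommRingCat.of k))) ⟶ Over.mk (C ↘ Spec (CommRingCat.of k))) ≫ j).prod).left.base =
      ⋂ (a : 𝟙_ (Over (Spec (CommRingCat.of k))) ⟶ J) (_ : ∀ p, a.left.base p ∈ Set.range ((List.ofFn fun i : Fin r =>
        (Over.homMk (WidePullback.π (fun (_ : Fin r) => (C ↘ Spec (CommRingCat.of k))) i)
          (WidePullback.π_arrow (fun (_ : Fin r) => (C ↘ Spec (CommRingCat.of k))) i) : Over.mk (WidePullback.base fun (_ : Fin r) => (C ↘ Spec (CommRingCat.of k))) ⟶ Over.mk (C ↘ Spec (CommRingCat.of k))) ≫ j).prod).left.base),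
        ((Jac.transl J a⁻¹).left.base '' Set.range ((List.ofFn fun i : Fin (g - 1) =>
        (Over.homMk (WidePullback.π (fun (_ : Fin (g - 1)) => (C ↘ Spec (CommRingCat.of k))) i)
          (WidePullback.π_arrow (fun (_ : Fin (g - 1)) => (C ↘ Spec (CommRingCat.of k))) i) : Over.mk (WidePullback.base fun (_ : Fin (g - 1)) => (C ↘ Spec (CommRingCat.of k))) ⟶ Over.mk (C ↘ Spec (CommRingCat.of k))) ≫ j).prod).left.base) := by
  haveI : IsIntegral C := VB17.isIntegral_of_smooth (k := k) (X := C)
  haveI : IsSeparated J.hom := AbRigid.isSeparated_of_grpObj J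
  letI : ∀ Y : Scheme.{u}, PicGrp.Law Y := fun Y => Groth.Agent.M2.law Y
  simp only [image_eq_range, forall_base_iff, pt_mem_sum hdim σ hσ ψ hJ j hj]
  have mem : ∀ z a, pt z.left ∈ Set.range (trMap j (g - 1) a⁻¹).left.base ↔
      Eff (k := k) hdim (g - 1) (cN hdim σ hσ ψ hJ (g - 1) (z * a)) := fun z a => by
    rw [pt_mem_trMap hdim σ hσ ψ hJ j hj, inv_inv]
  have hall := fun t => forall_eff_iff hdim σ hσ ψ hJ j hj hg (by omega) hr t
  refine Set.Subset.antisymm (Set.subset_iInter₂ fun a ha => range_subset _ (isClosed_range _) fun x => ?_) ?_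
  · refine (mem _ a).2 ?_
    rw [_root_.mul_comm]
    exact (hall _).2 (eff_sum hdim σ hσ ψ hJ j hj x) a ha
  · let a₀ : 𝟙_ (Over (Spec (CommRingCat.of k))) ⟶ J :=
      mkPt (fun _ : Fin r => (⟨σ, hσ⟩ : Torelli22.Pts k C)) ≫ sumMap j r
    have ha₀ := eff_sum hdim σ hσ ψ hJ j hj (mkPt (fun _ : Fin r => (⟨σ, hσ⟩ : Torelli22.Pts k C)))
    intro q hq
    refine range_inter_subset (trMap j (g - 1) a₀⁻¹) (K := ⋂ (a) (_ : Eff (k := k) hdim r (cN hdim σ hσ ψ hJ r a)),
      Set.range (trMap j (g - 1) a⁻¹).left.base) (isClosed_iInter fun a => isClosed_iInter fun _ => isClosed_range _)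
      (isClosed_range _) (fun x hx => (pt_mem_sum hdim σ hσ ψ hJ j hj _).2 ((hall _).1 fun a ha => ?_))
      ⟨Set.mem_iInter₂.1 hq a₀ ha₀, hq⟩
    rw [_root_.mul_comm]
    exact (mem _ a).1 (Set.mem_iInter₂.1 hx a ha)

end Groth.Agent.S17813
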