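import Groth.Statements.S19877
import Groth.Agent.Lib.Torelli22.Jac
import Groth.Agent.Lib.Torelli22.Points

set_option linter.style.haveILetI false
set_option backward.isDefEq.respectTransparency false
set_option backward.isDefEq.respectTransparency.types false
set_option maxHeartbeats 1000000
set_option autoImplicit false
universe u
open CategoryTheory CategoryTheory.Limits AlgebraicGeometry MonoidalCategory CartesianMonoidalCategory MonObj
open JacVar

namespace Groth.Agent.S19877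

open Groth.Agent

/-- Let k be an algebraically closed field, C and C' smooth proper connected curves of the same genus g
≥ 2 over k with k-points P and P', (J, ψ) and (J', ψ') their Jacobians (commutative group schemes
over k, coarse moduli schemes on all k-schemes for degree-0 line bundles modulo twisting from the
base, group law induced by tensor product), j and j' the Abel maps with base points P and P', and β
: J ≅ J' an isomorphism of group schemes over k. Fix a sign s ∈ {1, −1}. If isomorphisms α₁, α₂ : C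
≅ C' over k and k-points c₁, c₂ of J' satisfy j' ∘ α_i = (β ∘ j)^s · c_i for i = 1, 2 (group of
morphisms C ⟶ J'), then α₁ = α₂ and c₁ = c₂. This holds whether or not C is hyperelliptic; for C not
hyperelliptic the sign is determined as well, which is a separate statement. (The published
statement takes β an isomorphism of the canonically polarized Jacobians; this row allows any
isomorphism of group schemes β.) -/
theorem result (k : Type u) [Field k] [IsAlgClosed k]
    (C : Scheme.{u}) [C.Over (Spec (CommRingCat.of k))]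
    [IsProper (C ↘ Spec (CommRingCat.of k))] [Smooth (C ↘ Spec (CommRingCat.of k))] [GeometricallyConnected (C ↘ Spec (CommRingCat.of k))]
    (hdim : topologicalKrullDim ↥C = 1)
    (C' : Scheme.{u}) [C'.Over (Spec (CommRingCat.of k))]
    [IsProper (C' ↘ Spec (CommRingCat.of k))] [Smooth (C' ↘ Spec (CommRingCat.of k))] [GeometricallyConnected (C' ↘ Spec (CommRingCat.of k))]
    (hdim' : topologicalKrullDim ↥C' = 1)
    (g : ℕ) (hg : Curv2.genus k C = g) (hg' : Curv2.genus k C' = g) (hg2 : 2 ≤ g)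
    (σ : Spec (CommRingCat.of k) ⟶ C) (hσ : σ ≫ (C ↘ Spec (CommRingCat.of k)) = 𝟙 _) (σ' : Spec (CommRingCat.of k) ⟶ C') (hσ' : σ' ≫ (C' ↘ Spec (CommRingCat.of k)) = 𝟙 _)
    (J : Over (Spec (CommRingCat.of k))) [GrpObj J] [IsCommMonObj J]
    (ψ : (ModFun.PicDeg (C ↘ Spec (CommRingCat.of k)) 0).Hom ⊤ J) (hJ : Jac.IsJacobian (C ↘ Spec (CommRingCat.of k)) ⊤ J ψ)
    (J' : Over (Spec (CommRingCat.of k))) [GrpObj J'] [IsCommMonObj J']
    (ψ' : (ModFun.PicDeg (C' ↘ Spec (CommRingCat.of k)) 0).Hom ⊤ J') (hJ' : Jac.IsJacobian (C' ↘ Spec (CommRingCat.of k)) ⊤ J' ψ')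
    (j : Over.mk (C ↘ Spec (CommRingCat.of k)) ⟶ J) (hj : Jac.IsAbelJacobiAt (C ↘ Spec (CommRingCat.of k)) σ ψ j)
    (j' : Over.mk (C' ↘ Spec (CommRingCat.of k)) ⟶ J') (hj' : Jac.IsAbelJacobiAt (C' ↘ Spec (CommRingCat.of k)) σ' ψ' j')
    (β : J ≅ J') [IsMonHom β.hom]
    (α₁ α₂ : C ≅ C') (hα₁ : α₁.hom ≫ (C' ↘ Spec (CommRingCat.of k)) = (C ↘ Spec (CommRingCat.of k))) (hα₂ : α₂.hom ≫ (C' ↘ Spec (CommRingCat.of k)) = (C ↘ Spec (CommRingCat.of k)))
    (c₁ c₂ : 𝟙_ (Over (Spec (CommRingCat.of k))) ⟶ J') (s : ℤ) (hs : s = 1 ∨ s = -1)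
    (h₁ : Over.homMk α₁.hom hα₁ ≫ j' = (j ≫ β.hom) ^ s * (toUnit (Over.mk (C ↘ Spec (CommRingCat.of k))) ≫ c₁))
    (h₂ : Over.homMk α₂.hom hα₂ ≫ j' = (j ≫ β.hom) ^ s * (toUnit (Over.mk (C ↘ Spec (CommRingCat.of k))) ≫ c₂)) :
    α₁ = α₂ ∧ c₁ = c₂ := by
  haveI : IsIntegral C := Groth.Agent.VB17.isIntegral_of_smooth (k := k) (X := C)
  haveI : IsIntegral C' := Groth.Agent.VB17.isIntegral_of_smooth (k := k) (X := C')
  letI : ∀ Y : Scheme.{u}, PicGrp.Law Y := fun Y => Groth.Agent.M2.law Y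
  let Cv := Over.mk (C ↘ Spec (CommRingCat.of k))
  let Cv' := Over.mk (C' ↘ Spec (CommRingCat.of k))
  let q : Cv ⟶ J' := (j ≫ β.hom) ^ s
  have hinv : α₁.inv ≫ (C ↘ Spec (CommRingCat.of k)) = (C' ↘ Spec (CommRingCat.of k)) := by
    rw [← hα₁, Iso.inv_hom_id_assoc]
  let b : Cv' ⟶ Cv := Over.homMk α₁.inv hinv
  let m₁ : Cv ⟶ Cv' := Over.homMk α₁.hom hα₁
  let m₂ : Cv ⟶ Cv' := Over.homMk α₂.hom hα₂
  have hbm : b ≫ m₁ = 𝟙 Cv' := Over.OverMorphism.ext α₁.inv_hom_id
  let a : (𝟙_ (Over (Spec (CommRingCat.of k))) ⟶ Cv') → (𝟙_ (Over (Spec (CommRingCat.of k))) ⟶ Cv') :=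
    fun y => y ≫ b ≫ m₂
  have key : ∀ y : 𝟙_ (Over (Spec (CommRingCat.of k))) ⟶ Cv',
      y ≫ j' = (y ≫ b ≫ q) * c₁ ∧ a y ≫ j' = (y ≫ b ≫ q) * c₂ := by
    intro y
    have e : ∀ c : 𝟙_ (Over (Spec (CommRingCat.of k))) ⟶ J', (y ≫ b) ≫ (q * (toUnit Cv ≫ c)) = (y ≫ b ≫ q) * c := by
      intro c
      rw [MonObj.comp_mul, ← Category.assoc (y ≫ b) (toUnit Cv), toUnit_unique ((y ≫ b) ≫ toUnit Cv) (𝟙 _),
        Category.id_comp, Category.assoc]
    constructor
    · conv_lhs => rw [← Category.comp_id y, ← hbm, ← Category.assoc y b m₁, Category.assoc]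
      exact (congrArg ((y ≫ b) ≫ ·) h₁).trans (e c₁)
    · show (y ≫ b ≫ m₂) ≫ j' = _
      rw [← Category.assoc y b m₂, Category.assoc]
      exact (congrArg ((y ≫ b) ≫ ·) h₂).trans (e c₂)
  let a' : Torelli22.Pts k C' → Torelli22.Pts k C' := fun y =>
    ⟨(a (Over.homMk y.1 y.2)).left, Over.w (a (Over.homMk y.1 y.2))⟩
  have ha' : ∀ y : Torelli22.Pts k C', (a' y).1 = y.1 ≫ (α₁.inv ≫ α₂.hom) := fun y => rfl
  have hα : α₁ = α₂ := by
    by_cases hfix : ∃ y, a' y = y
    · obtain ⟨y₀, hy₀⟩ := hfix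
      have hY : a (Over.homMk y₀.1 y₀.2) = Over.homMk y₀.1 y₀.2 :=
        Over.OverMorphism.ext (congrArg Subtype.val hy₀)
      have hc : c₁ = c₂ := by
        obtain ⟨e1, e2⟩ := key (Over.homMk y₀.1 y₀.2)
        rw [hY, e1] at e2
        exact mul_left_cancel e2
      have hall : ∀ y, a' y = y := by
        intro y
        obtain ⟨e1, e2⟩ := key (Over.homMk y.1 y.2)
        have hr := Torelli22.abel_rel hdim' σ' hσ' J' ψ' hJ' j' hj' (a (Over.homMk y.1 y.2)) (Over.homMk y.1 y.2)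
          (Over.homMk y.1 y.2) (Over.homMk y.1 y.2) (by rw [e1, e2, hc])
        exact Torelli22.P_injective hdim' (by rw [hg']; omega) (mul_right_cancel hr)
      refine Iso.ext ((cancel_epi α₁.inv).1 ?_)
      rw [α₁.inv_hom_id]
      symm
      haveI : JacobsonSpace C' := LocallyOfFiniteType.jacobsonSpace (C' ↘ Spec (CommRingCat.of k))
      haveI : LocallyOfFiniteType ((α₁.inv ≫ α₂.hom) ≫ (C' ↘ Spec (CommRingCat.of k))) := by
        rw [Category.assoc, hα₂, hinv]; infer_instance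
      refine ext_of_apply_eq (C' ↘ Spec (CommRingCat.of k)) Set.univ isClosed_univ.isLocallyClosed dense_univ
        (fun x _ hx => ?_) (by rw [Category.assoc, hα₂, hinv, Category.id_comp])
      have h := congrArg (fun w => w.base (IsLocalRing.closedPoint k)) ((ha' _).symm.trans (congrArg Subtype.val
        (hall ⟨pointOfClosedPoint _ x hx, pointOfClosedPoint_comp _ x hx⟩)))
      simp only [Scheme.Hom.comp_apply] at h
      rw [pointOfClosedPoint_apply] at h
      exact h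
    · exfalso
      push_neg at hfix
      refine Torelli22.no_translation hdim' (by rw [hg']; omega) ⟨σ', hσ'⟩ a' ?_ ?_ ?_ hfix
      · intro y y' h
        refine Subtype.ext ((cancel_mono (α₁.inv ≫ α₂.hom)).1 ?_)
        rw [← ha', ← ha', h]
      · intro z
        refine ⟨⟨z.1 ≫ α₂.inv ≫ α₁.hom, ?_⟩, Subtype.ext ?_⟩
        · rw [Category.assoc, Category.assoc, hα₁, ← hα₂, Iso.inv_hom_id_assoc]
          exact z.2
        · rw [ha']
          simp
      · intro y y'
        obtain ⟨e1, e2⟩ := key (Over.homMk y.1 y.2)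
        obtain ⟨e3, e4⟩ := key (Over.homMk y'.1 y'.2)
        exact Torelli22.abel_rel hdim' σ' hσ' J' ψ' hJ' j' hj' (a (Over.homMk y.1 y.2)) (Over.homMk y'.1 y'.2)
          (Over.homMk y.1 y.2) (a (Over.homMk y'.1 y'.2)) (by
            rw [e1, e2, e3, e4, _root_.mul_mul_mul_comm, _root_.mul_mul_mul_comm _ c₁, _root_.mul_comm c₂ c₁])
  refine ⟨hα, ?_⟩
  obtain ⟨e1, e2⟩ := key (Over.homMk σ' hσ')
  have hY : a (Over.homMk σ' hσ') = Over.homMk σ' hσ' := Over.OverMorphism.ext (by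
    show σ' ≫ α₁.inv ≫ α₂.hom = σ'
    rw [← hα, Iso.inv_hom_id, Category.comp_id])
  rw [hY, e1] at e2
  exact mul_left_cancel e2

end Groth.Agent.S19877
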