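import Groth.Statements.S17815
import Groth.Agent.Lib.Torelli22.Jac
import Groth.Agent.Lib.Torelli22.Hyper
import Groth.Agent.S19877

set_option linter.style.haveILetI false
set_option backward.isDefEq.respectTransparency false
set_option backward.isDefEq.respectTransparency.types false
set_option maxHeartbeats 1000000
set_option autoImplicit false
universe u
open CategoryTheory CategoryTheory.Limits AlgebraicGeometry MonoidalCategory CartesianMonoidalCategory MonObj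
open JacVar

namespace Groth.Agent.S17815

open Groth.Agent

/-- The non-hyperelliptic case. Let k be an algebraically closed field, C and C' smooth proper connected
curves of genus g ≥ 2 over k with k-points P and P', (J, ψ) and (J', ψ') their Jacobians
(commutative group schemes over k, coarse moduli schemes on all k-schemes for degree-0 line bundles
modulo twisting from the base, group law induced by tensor product), j and j' the Abel maps with
base points P and P', and β : J ≅ J' an isomorphism of group schemes over k. Suppose C is not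
hyperelliptic: no invertible module of degree 2 on C has a two-dimensional space of global sections.
Then the isomorphism, the sign and the translation in Torelli's conclusion are uniquely determined
by β, P and P': if isomorphisms α₁, α₂ : C ≅ C' over k, k-points c₁, c₂ of J' and signs s₁, s₂ ∈ {1,
−1} satisfy j' ∘ α_i = (β ∘ j)^{s_i} · c_i for i = 1, 2, then α₁ = α₂, s₁ = s₂ and c₁ = c₂. (The
published statement takes β an isomorphism of the canonically polarized Jacobians; this row allows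
any isomorphism of group schemes β.) -/
theorem result (k : Type u) [Field k] [IsAlgClosed k]
    (C : Scheme.{u}) [C.Over (Spec (CommRingCat.of k))]
    [IsProper (C ↘ Spec (CommRingCat.of k))] [Smooth (C ↘ Spec (CommRingCat.of k))] [GeometricallyConnected (C ↘ Spec (CommRingCat.of k))]
    (hdim : topologicalKrullDim ↥C = 1)
    (C' : Scheme.{u}) [C'.Over (Spec (CommRingCat.of k))]
    [IsProper (C' ↘ Spec (CommRingCat.of k))] [Smooth (C' ↘ Spec (CommRingCat.of k))] [GeometricallyConnected (C' ↘ Spec (CommRingCat.of k))]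
    (hdim' : topologicalKrullDim ↥C' = 1)
    (g : ℕ) (hg : Curv2.genus k C = g) (hg' : Curv2.genus k C' = g) (hg2 : 2 ≤ g)
    (σ : Spec (CommRingCat.of k) ⟶ C) (hσ : σ ≫ (C ↘ Spec (CommRingCat.of k)) = 𝟙 _) (σ' : Spec (CommRingCat.of k) ⟶ C') (hσ' : σ' ≫ (C' ↘ Spec (CommRingCat.of k)) = 𝟙 _)
    (J : Over (Spec (CommRingCat.of k))) [GrpObj J] [IsCommMonObj J]
    (ψ : (ModFun.PicDeg (C ↘ Spec (CommRingCat.of k)) 0).Hom ⊤ J) (hJ : Jac.IsJacobian (C ↘ Spec (CommRingCat.of k)) ⊤ J ψ)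
    (J' : Over (Spec (CommRingCat.of k))) [GrpObj J'] [IsCommMonObj J']
    (ψ' : (ModFun.PicDeg (C' ↘ Spec (CommRingCat.of k)) 0).Hom ⊤ J') (hJ' : Jac.IsJacobian (C' ↘ Spec (CommRingCat.of k)) ⊤ J' ψ')
    (j : Over.mk (C ↘ Spec (CommRingCat.of k)) ⟶ J) (hj : Jac.IsAbelJacobiAt (C ↘ Spec (CommRingCat.of k)) σ ψ j)
    (j' : Over.mk (C' ↘ Spec (CommRingCat.of k)) ⟶ J') (hj' : Jac.IsAbelJacobiAt (C' ↘ Spec (CommRingCat.of k)) σ' ψ' j')
    (β : J ≅ J') [IsMonHom β.hom]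
    (hnh : ¬ ∃ L : C.Modules, PicF.IsInvertible L ∧ Curv2.deg k C L 1 = 2 ∧ Module.finrank k (Coh.HH C L 0) = 2)
    (α₁ α₂ : C ≅ C') (hα₁ : α₁.hom ≫ (C' ↘ Spec (CommRingCat.of k)) = (C ↘ Spec (CommRingCat.of k))) (hα₂ : α₂.hom ≫ (C' ↘ Spec (CommRingCat.of k)) = (C ↘ Spec (CommRingCat.of k)))
    (c₁ c₂ : 𝟙_ (Over (Spec (CommRingCat.of k))) ⟶ J') (s₁ s₂ : ℤ) (hs₁ : s₁ = 1 ∨ s₁ = -1) (hs₂ : s₂ = 1 ∨ s₂ = -1)
    (h₁ : Over.homMk α₁.hom hα₁ ≫ j' = (j ≫ β.hom) ^ s₁ * (toUnit (Over.mk (C ↘ Spec (CommRingCat.of k))) ≫ c₁))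
    (h₂ : Over.homMk α₂.hom hα₂ ≫ j' = (j ≫ β.hom) ^ s₂ * (toUnit (Over.mk (C ↘ Spec (CommRingCat.of k))) ≫ c₂)) :
    α₁ = α₂ ∧ s₁ = s₂ ∧ c₁ = c₂ := by
  haveI : IsIntegral C := VB17.isIntegral_of_smooth (k := k) (X := C)
  letI : ∀ Y : Scheme.{u}, PicGrp.Law Y := fun Y => Groth.Agent.M2.law Y
  let Cv := Over.mk (C ↘ Spec (CommRingCat.of k))
  let Cv' := Over.mk (C' ↘ Spec (CommRingCat.of k))
  by_cases hs : s₁ = s₂
  · subst hs
    obtain ⟨h1, h2⟩ := S19877.result k C hdim C' hdim' g hg hg' hg2 σ hσ σ' hσ' J ψ hJ J' ψ' hJ' j hj j' hj' β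
      α₁ α₂ hα₁ hα₂ c₁ c₂ s₁ hs₁ h₁ h₂
    exact ⟨h1, rfl, h2⟩
  exfalso
  refine hnh ?_
  let bm : Cv ⟶ Cv := Over.homMk (α₂.hom ≫ α₁.inv) (by
    show (α₂.hom ≫ α₁.inv) ≫ (C ↘ Spec (CommRingCat.of k)) = (C ↘ Spec (CommRingCat.of k))
    rw [← hα₁, Category.assoc, Iso.inv_hom_id_assoc, hα₂, hα₁])
  have hbm : bm ≫ (Over.homMk α₁.hom hα₁ : Cv ⟶ Cv') = Over.homMk α₂.hom hα₂ :=
    Over.OverMorphism.ext (by simp [bm])
  have e : ∀ (x : 𝟙_ (Over (Spec (CommRingCat.of k))) ⟶ Cv) (q : Cv ⟶ J') (c : 𝟙_ (Over (Spec (CommRingCat.of k))) ⟶ J'),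
      x ≫ (q * (toUnit Cv ≫ c)) = (x ≫ q) * c := by
    intro x q c
    rw [MonObj.comp_mul, ← Category.assoc x (toUnit Cv), toUnit_unique (x ≫ toUnit Cv) (𝟙 _), Category.id_comp]
  have hcases : (s₁ = 1 ∧ s₂ = -1) ∨ (s₁ = -1 ∧ s₂ = 1) := by omega
  let b : Torelli22.Pts k C → Torelli22.Pts k C := fun x =>
    ⟨((Over.homMk x.1 x.2 : 𝟙_ (Over (Spec (CommRingCat.of k))) ⟶ Cv) ≫ bm).left, Over.w _⟩
  refine Torelli22.exists_g12 hdim (by rw [hg]; omega) ⟨σ, hσ⟩ b fun y y' => ?_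
  let Y : 𝟙_ (Over (Spec (CommRingCat.of k))) ⟶ Cv := Over.homMk y.1 y.2
  let Y' : 𝟙_ (Over (Spec (CommRingCat.of k))) ⟶ Cv := Over.homMk y'.1 y'.2
  have hprod : ((Y ≫ bm) ≫ j ≫ β.hom) * (Y ≫ j ≫ β.hom) = ((Y' ≫ bm) ≫ j ≫ β.hom) * (Y' ≫ j ≫ β.hom) := by
    rcases hcases with ⟨hs1, hs2⟩ | ⟨hs1, hs2⟩
    · have hc : ∀ x, ((x ≫ bm) ≫ j ≫ β.hom) * (x ≫ j ≫ β.hom) = c₁⁻¹ * c₂ := fun x => by
        have h : ((x ≫ bm) ≫ (j ≫ β.hom) ^ s₁) * c₁ = (x ≫ (j ≫ β.hom) ^ s₂) * c₂ := by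
          rw [← e, ← e, ← h₁, ← h₂, ← hbm, Category.assoc, Category.assoc]
        rw [hs1, hs2, zpow_one, zpow_neg_one, GrpObj.comp_inv] at h
        rw [eq_inv_mul_iff_mul_eq, _root_.mul_comm, _root_.mul_right_comm, h, _root_.mul_right_comm, inv_mul_cancel,
          _root_.one_mul]
      rw [hc, hc]
    · have hc : ∀ x, ((x ≫ bm) ≫ j ≫ β.hom) * (x ≫ j ≫ β.hom) = c₂⁻¹ * c₁ := fun x => by
        have h : ((x ≫ bm) ≫ (j ≫ β.hom) ^ s₁) * c₁ = (x ≫ (j ≫ β.hom) ^ s₂) * c₂ := by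
          rw [← e, ← e, ← h₁, ← h₂, ← hbm, Category.assoc, Category.assoc]
        rw [hs1, hs2, zpow_one, zpow_neg_one, GrpObj.comp_inv] at h
        rw [eq_inv_mul_iff_mul_eq, _root_.mul_comm, _root_.mul_assoc, ← h, ← _root_.mul_assoc, mul_inv_cancel,
          _root_.one_mul]
      rw [hc, hc]
  simp only [← Category.assoc] at hprod
  rw [← MonObj.mul_comp _ _ β.hom, ← MonObj.mul_comp _ _ β.hom] at hprod
  have h := Torelli22.abel_rel hdim σ hσ J ψ hJ j hj (Y ≫ bm) Y (Y' ≫ bm) Y' ((cancel_mono β.hom).1 hprod)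
  rw [_root_.mul_comm] at h
  exact h.trans (_root_.mul_comm _ _)

end Groth.Agent.S17815
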