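import Groth.Statements.S17816
import Groth.Agent.Lib.JacPts22.Albanese

set_option linter.style.haveILetI false
set_option backward.isDefEq.respectTransparency false
set_option backward.isDefEq.respectTransparency.types false
set_option maxHeartbeats 1000000
set_option autoImplicit false
universe u
open CategoryTheory CategoryTheory.Limits AlgebraicGeometry MonoidalCategory CartesianMonoidalCategory MonObj
open JacVar

namespace Groth.Agent.S17816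

open Groth.Agent Groth.Agent.JacPts22

/-- Let k be a field and C₁, C₂ smooth proper geometrically connected curves of positive genus over k
with k-points P₁ and P₂; let (J₁, ψ₁) and (J₂, ψ₂) be their Jacobians (commutative group schemes
over k, coarse moduli schemes on all k-schemes for degree-0 line bundles modulo twisting from the
base, group law induced by tensor product), j₁ : C₁ ⟶ J₁ the Abel map with base point P₁, and M a
universal degree-0 family on C₂ × J₂ which is trivial along P₂ × J₂ and whose classifying morphism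
under ψ₂ is the identity of J₂ (the sheaf M^{P₂}). For a homomorphism χ : J₁ ⟶ J₂ let Φ(χ) be the
class of the pullback of M along 1 × (χ ∘ j₁) : C₂ × C₁ ⟶ C₂ × J₂. Then χ ↦ Φ(χ) is a bijection from
the homomorphisms of group schemes J₁ ⟶ J₂ onto the isomorphism classes of divisorial
correspondences between (C₂, P₂) and (C₁, P₁), i.e. classes of invertible modules on C₂ ×_k C₁
trivial on P₂ × C₁ and on C₂ × P₁: each Φ(χ) is such a class, Φ is injective on homomorphisms, and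
every such class is Φ(χ) for a homomorphism χ. -/
theorem result (k : Type u) [Field k]
    (C₁ : Scheme.{u}) [C₁.Over (Spec (CommRingCat.of k))]
    [IsProper (C₁ ↘ Spec (CommRingCat.of k))] [Smooth (C₁ ↘ Spec (CommRingCat.of k))] [GeometricallyConnected (C₁ ↘ Spec (CommRingCat.of k))]
    (hdim₁ : topologicalKrullDim ↥C₁ = 1)
    (C₂ : Scheme.{u}) [C₂.Over (Spec (CommRingCat.of k))]
    [IsProper (C₂ ↘ Spec (CommRingCat.of k))] [Smooth (C₂ ↘ Spec (CommRingCat.of k))] [GeometricallyConnected (C₂ ↘ Spec (CommRingCat.of k))]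
    (hdim₂ : topologicalKrullDim ↥C₂ = 1)
    (hg₁ : 0 < Curv2.genus k C₁) (hg₂ : 0 < Curv2.genus k C₂)
    (σ₁ : Spec (CommRingCat.of k) ⟶ C₁) (hσ₁ : σ₁ ≫ (C₁ ↘ Spec (CommRingCat.of k)) = 𝟙 _) (σ₂ : Spec (CommRingCat.of k) ⟶ C₂) (hσ₂ : σ₂ ≫ (C₂ ↘ Spec (CommRingCat.of k)) = 𝟙 _)
    (J₁ : Over (Spec (CommRingCat.of k))) [GrpObj J₁] [IsCommMonObj J₁]
    (ψ₁ : (ModFun.PicDeg (C₁ ↘ Spec (CommRingCat.of k)) 0).Hom ⊤ J₁) (hJ₁ : Jac.IsJacobian (C₁ ↘ Spec (CommRingCat.of k)) ⊤ J₁ ψ₁)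
    (J₂ : Over (Spec (CommRingCat.of k))) [GrpObj J₂] [IsCommMonObj J₂]
    (ψ₂ : (ModFun.PicDeg (C₂ ↘ Spec (CommRingCat.of k)) 0).Hom ⊤ J₂) (hJ₂ : Jac.IsJacobian (C₂ ↘ Spec (CommRingCat.of k)) ⊤ J₂ ψ₂)
    (j₁ : Over.mk (C₁ ↘ Spec (CommRingCat.of k)) ⟶ J₁) (hj₁ : Jac.IsAbelJacobiAt (C₁ ↘ Spec (CommRingCat.of k)) σ₁ ψ₁ j₁)
    (Pu : (PicF.XT (C₂ ↘ Spec (CommRingCat.of k)) J₂).Modules) (hPu : ModFun.IsUnivFamily ⊤ (ModFun.PicDeg (C₂ ↘ Spec (CommRingCat.of k)) 0) J₂ Pu)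
    (hPn : Jac.IsNormAlong (C₂ ↘ Spec (CommRingCat.of k)) σ₂ hσ₂ J₂ Pu)
    (hT₂ : (⊤ : ObjectProperty (Over (Spec (CommRingCat.of k)))) J₂) (hPuψ : ψ₂.app J₂ Pu hT₂ hPu.1 = 𝟙 J₂) :
    (∀ χ : J₁ ⟶ J₂, IsMonHom χ →
      (PicF.IsInvertibleCl (PicF.pullCl (PicF.XTmap (C₂ ↘ Spec (CommRingCat.of k)) (j₁ ≫ χ)) (PicF.cl Pu)) ∧
        PicF.IsTrivialCl (PicF.pullCl (PicF.secT (C₂ ↘ Spec (CommRingCat.of k)) σ₂ hσ₂ (Over.mk (C₁ ↘ Spec (CommRingCat.of k)))) (PicF.pullCl (PicF.XTmap (C₂ ↘ Spec (CommRingCat.of k)) (j₁ ≫ χ)) (PicF.cl Pu))) ∧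
        PicF.IsTrivialCl (PicF.pullCl (PicF.XTmap (C₂ ↘ Spec (CommRingCat.of k)) (Over.homMk σ₁ hσ₁ : 𝟙_ (Over (Spec (CommRingCat.of k))) ⟶ Over.mk (C₁ ↘ Spec (CommRingCat.of k)))) (PicF.pullCl (PicF.XTmap (C₂ ↘ Spec (CommRingCat.of k)) (j₁ ≫ χ)) (PicF.cl Pu))))) ∧
    (∀ χ₁ χ₂ : J₁ ⟶ J₂, IsMonHom χ₁ → IsMonHom χ₂ →
      PicF.pullCl (PicF.XTmap (C₂ ↘ Spec (CommRingCat.of k)) (j₁ ≫ χ₁)) (PicF.cl Pu) = PicF.pullCl (PicF.XTmap (C₂ ↘ Spec (CommRingCat.of k)) (j₁ ≫ χ₂)) (PicF.cl Pu) → χ₁ = χ₂) ∧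
    (∀ c : PicF.Cl (PicF.XT (C₂ ↘ Spec (CommRingCat.of k)) (Over.mk (C₁ ↘ Spec (CommRingCat.of k)))),
      (PicF.IsInvertibleCl (c) ∧
        PicF.IsTrivialCl (PicF.pullCl (PicF.secT (C₂ ↘ Spec (CommRingCat.of k)) σ₂ hσ₂ (Over.mk (C₁ ↘ Spec (CommRingCat.of k)))) (c)) ∧
        PicF.IsTrivialCl (PicF.pullCl (PicF.XTmap (C₂ ↘ Spec (CommRingCat.of k)) (Over.homMk σ₁ hσ₁ : 𝟙_ (Over (Spec (CommRingCat.of k))) ⟶ Over.mk (C₁ ↘ Spec (CommRingCat.of k)))) (c))) →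
      ∃ χ : J₁ ⟶ J₂, IsMonHom χ ∧ PicF.pullCl (PicF.XTmap (C₂ ↘ Spec (CommRingCat.of k)) (j₁ ≫ χ)) (PicF.cl Pu) = c) := by
  haveI : IsIntegral C₁ := VB17.isIntegral_of_smooth (k := k) (X := C₁)
  haveI : IsIntegral C₂ := VB17.isIntegral_of_smooth (k := k) (X := C₂)
  haveI := AmpleFib.geometricallyIntegral_of_smooth_connected (k := k) (X := C₁)
  haveI := AmpleFib.geometricallyIntegral_of_smooth_connected (k := k) (X := C₂)
  letI : ∀ Y : Scheme.{u}, PicGrp.Law Y := fun Y => Groth.Agent.M2.law Y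
  obtain ⟨hp₂, hs₂, hgi₂⟩ := jacobian_props hdim₂ σ₂ hσ₂ hJ₂
  haveI := hp₂
  haveI := hs₂
  haveI := hgi₂
  obtain ⟨hp₁, -, -⟩ := jacobian_props hdim₁ σ₁ hσ₁ hJ₁
  obtain ⟨-, -, -, ξ, hξ, hψ⟩ := exists_fine _ hdim₂ σ₂ hσ₂ J₂ ψ₂ hJ₂.coarse.2.1
  let f₂ := C₂ ↘ Spec (CommRingCat.of k)
  let σ₁' : 𝟙_ (Over (Spec (CommRingCat.of k))) ⟶ Over.mk (C₁ ↘ Spec (CommRingCat.of k)) := Over.homMk σ₁ hσ₁
  have hj₁0 : σ₁' ≫ j₁ = 1 := base_comp_abel hdim₁ hσ₁ hJ₁ j₁ hj₁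
  let P := PicRep20.famCls f₂ 0 hPu.1
  have hdP : ∀ t, PicTan20.degCl f₂ J₂ t P.1 = 0 := PicRep20.degCl_famCls _ hdim₂ 0 hPu.1
  have hd : ∀ {T : Over (Spec (CommRingCat.of k))} (g : T ⟶ J₂) t,
      PicTan20.degCl f₂ T t (Abel10.pc (PicF.XTmap f₂ g) P).1 = 0 := fun g t =>
    (PicTan20.degCl_pull f₂ g t P.2).trans (hdP _)
  have hcl : ∀ {T : Over (Spec (CommRingCat.of k))} (g : T ⟶ J₂),
      PicRep20.classify hξ (Abel10.pc (PicF.XTmap f₂ g) P) (hd g) = g := fun {T} g => by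
    rw [PicRep20.classify_pc hξ g P hdP, ← hψ J₂ Pu hPu.1]
    exact (congrArg (g ≫ ·) hPuψ).trans (Category.comp_id g)
  have hn : ∀ {T : Over (Spec (CommRingCat.of k))} (g : T ⟶ J₂),
      Abel10.pc (PicF.secT f₂ σ₂ hσ₂ T) (Abel10.pc (PicF.XTmap f₂ g) P) = 1 := fun {T} g => by
    rw [PicRep20.pc_secT_map, show Abel10.pc (PicF.secT f₂ σ₂ hσ₂ J₂) P = 1 from
      Subtype.ext (hPn.trans PicGrp.one_val.symm), map_one]
  have huniq : ∀ {T : Over (Spec (CommRingCat.of k))} (a b : PicLoc.PicSet (PicF.XT f₂ T))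
      (ha : ∀ t, PicTan20.degCl f₂ T t a.1 = 0) (hb : ∀ t, PicTan20.degCl f₂ T t b.1 = 0),
      Abel10.pc (PicF.secT f₂ σ₂ hσ₂ T) a = 1 → Abel10.pc (PicF.secT f₂ σ₂ hσ₂ T) b = 1 →
      PicRep20.classify hξ a ha = PicRep20.classify hξ b hb → a = b := by
    intro T a b ha hb ha1 hb1 e
    obtain ⟨m, hm⟩ := PicRep20.classify_spec hξ a ha
    obtain ⟨m', hm'⟩ := PicRep20.classify_spec hξ b hb
    rw [e] at hm
    replace ha1 := (congrArg (Abel10.pc (PicF.secT f₂ σ₂ hσ₂ T)) hm).symm.trans ha1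
    replace hb1 := (congrArg (Abel10.pc (PicF.secT f₂ σ₂ hσ₂ T)) hm').symm.trans hb1
    rw [map_mul, PicRep20.pc_secT_proj] at ha1 hb1
    obtain rfl := mul_left_cancel (ha1.trans hb1.symm)
    exact hm.trans hm'.symm
  have hone : Abel10.pc (PicF.XTmap f₂ (1 : 𝟙_ (Over (Spec (CommRingCat.of k))) ⟶ J₂)) P = 1 :=
    huniq _ _ (hd _) (deg_one₀ hdim₂) (hn _) (map_one _)
      ((hcl _).trans (classify_one hdim₂ hξ hψ hJ₂ _).symm)
  refine ⟨fun χ hχ => ?_, fun χ₁ χ₂ hχ₁ hχ₂ h => ?_, fun c ⟨hc, hcs, hcσ⟩ => ?_⟩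
  · haveI := hχ
    let cc := Abel10.pc (PicF.XTmap f₂ (j₁ ≫ χ)) P
    refine ⟨cc.2, (congrArg Subtype.val (hn (j₁ ≫ χ))).trans PicGrp.one_val, ?_⟩
    have h : Abel10.pc (PicF.XTmap f₂ σ₁') cc = 1 := by
      simp only [cc]
      rw [Abel10.pc_comp _ _ (HilbBC25.XTmap_comp f₂ σ₁' (j₁ ≫ χ)).symm, ← Category.assoc, hj₁0,
        MonObj.one_comp, hone]
    exact (congrArg Subtype.val h).trans PicGrp.one_val
  · haveI := hχ₁
    haveI := hχ₂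
    refine hom_ext_abel hdim₁ σ₁ hσ₁ hJ₁ j₁ hj₁ χ₁ χ₂ ?_
    rw [← hcl (j₁ ≫ χ₁), ← hcl (j₁ ≫ χ₂)]
    exact classify_congr hξ (Subtype.ext h) _ _
  · let cc : PicLoc.PicSet (PicF.XT f₂ (Over.mk (C₁ ↘ Spec (CommRingCat.of k)))) := ⟨c, hc⟩
    have hcσ' : Abel10.pc (PicF.XTmap f₂ σ₁') cc = 1 := Subtype.ext (hcσ.trans PicGrp.one_val.symm)
    have hdc : ∀ t, PicTan20.degCl f₂ (Over.mk (C₁ ↘ Spec (CommRingCat.of k))) t cc.1 = 0 := fun t => by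
      obtain ⟨N, hNc, hN⟩ := id hc
      have hlc : IsLocallyConstant fun t => PicTan20.degMod f₂ (Over.mk (C₁ ↘ Spec (CommRingCat.of k))) t N :=
        PicTan20.isLocallyConstant_degMod _ (fun s => (PicRep20.fiber_dim _ hdim₂ s).le) _ hN
      haveI : IrreducibleSpace (Over.mk (C₁ ↘ Spec (CommRingCat.of k))).left :=
        inferInstanceAs (IrreducibleSpace C₁)
      haveI : PreconnectedSpace (Over.mk (C₁ ↘ Spec (CommRingCat.of k))).left :=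
        PreirreducibleSpace.preconnectedSpace _
      have h0 := PicTan20.degCl_pull f₂ σ₁' (IsLocalRing.closedPoint k) cc.2
      have h1 : PicTan20.degCl f₂ _ (IsLocalRing.closedPoint k) (PicF.pullCl (PicF.XTmap f₂ σ₁') cc.1) = 0 :=
        (congrArg (PicTan20.degCl _ _ _) (congrArg Subtype.val hcσ')).trans (deg_one₀ hdim₂ _)
      rw [h0] at h1
      change PicTan20.degCl _ _ _ c = 0 at h1
      show PicTan20.degCl _ _ _ c = 0
      rw [← hNc, PicTan20.degCl_cl] at h1 ⊢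
      exact (hlc.apply_eq_of_preconnectedSpace t _).trans h1
    let g := PicRep20.classify hξ cc hdc
    have hd1 : ∀ t, PicTan20.degCl f₂ _ t (Abel10.pc (PicF.XTmap f₂ σ₁') cc).1 = 0 := hcσ' ▸ deg_one₀ hdim₂
    have hg0 : σ₁' ≫ g = η[J₂] := by
      rw [← PicRep20.classify_pc hξ σ₁' cc hdc hd1, classify_congr hξ hcσ' hd1 (deg_one₀ hdim₂),
        classify_one hdim₂ hξ hψ hJ₂, one_eq_one]
    obtain ⟨χ, hm, hχ⟩ := exists_albanese hdim₁ hσ₁ hJ₁ j₁ hj₁ hg₁ g (congrArg CommaMorphism.left hg0)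
    refine ⟨χ, hm, ?_⟩
    refine congrArg Subtype.val (?_ : Abel10.pc (PicF.XTmap f₂ (j₁ ≫ χ)) P = cc)
    refine huniq _ _ (hd _) hdc (hn _) (Subtype.ext (hcs.trans PicGrp.one_val.symm)) ?_
    rw [hcl, hχ]

end Groth.Agent.S17816
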