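import Groth.Statements.S17817
import Groth.Agent.Lib.JacPts22.CurveSection
import Groth.Agent.Lib.JacPts22.CurveJacobian
import Groth.Agent.S10958
import Groth.Agent.Lib.AbRigid.Image
import Groth.Agent.Lib.AVQuotH1.Reduc
import Groth.Agent.Lib.AVDegree22.MulDeg

set_option linter.style.haveILetI false
set_option backward.isDefEq.respectTransparency false
set_option backward.isDefEq.respectTransparency.types false
set_option maxHeartbeats 1000000
set_option autoImplicit false
universe u
open CategoryTheory CategoryTheory.Limits AlgebraicGeometry MonoidalCategory CartesianMonoidalCategory MonObj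
open JacVar

namespace Groth.Agent.S17817

open Groth.Agent Groth.Agent.JacPts22

/-- Let k be an infinite field and A an abelian variety over k (a commutative group scheme, proper,
smooth and geometrically irreducible over k) of positive dimension. Then there is a closed subscheme
C of A which is a smooth proper geometrically connected curve over k such that, for every k-rational
point P of C, every Jacobian (J, ψ) of C (commutative group scheme over k, coarse moduli scheme on
all k-schemes for degree-0 line bundles modulo twisting from the base, group law induced by tensor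
product), every Abel map j : C ⟶ J with base point P and every homomorphism χ : J ⟶ A with χ ∘ j
equal to the inclusion of C followed by translation by the inverse of P, the morphism χ is
surjective: A is a quotient of the Jacobian of C. (The universal property is expressed through a
rational point of C; for C without rational points only the existence of the curve is asserted
here.) -/
theorem result (k : Type u) [Field k] [Infinite k]
    (A : Over (Spec (CommRingCat.of k))) [GrpObj A] [IsCommMonObj A]
    [IsProper A.hom] [Smooth A.hom] [GeometricallyIrreducible A.hom]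
    (hA : 1 ≤ topologicalKrullDim ↥A.left) :
    ∃ (C : Scheme.{u}) (i : C ⟶ A.left), IsClosedImmersion i ∧ IsProper (i ≫ A.hom) ∧ Smooth (i ≫ A.hom) ∧
      GeometricallyConnected (i ≫ A.hom) ∧ topologicalKrullDim ↥C = 1 ∧
      ∀ (σ : Spec (CommRingCat.of k) ⟶ C) (hσ : σ ≫ (i ≫ A.hom) = 𝟙 _)
        (J : Over (Spec (CommRingCat.of k))) [GrpObj J] [IsCommMonObj J] (ψ : (ModFun.PicDeg (i ≫ A.hom) 0).Hom ⊤ J),
        Jac.IsJacobian (i ≫ A.hom) ⊤ J ψ →
        ∀ (j : Over.mk (i ≫ A.hom) ⟶ J), Jac.IsAbelJacobiAt (i ≫ A.hom) σ ψ j →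
        ∀ (χ : J ⟶ A), IsMonHom χ →
          j ≫ χ = (Over.homMk i rfl : Over.mk (i ≫ A.hom) ⟶ A) *
            (toUnit (Over.mk (i ≫ A.hom)) ≫ (Over.homMk (σ ≫ i) ((Category.assoc σ i A.hom).trans hσ) : 𝟙_ (Over (Spec (CommRingCat.of k))) ⟶ A))⁻¹ →
          Function.Surjective χ.left.base := by
  haveI : IrreducibleSpace ↥A.left := GeometricallyIrreducible.irreducibleSpace_of_subsingleton A.hom
  haveI : GeometricallyConnected A.hom := PicPn.geometricallyConnected_of_irreducible A.hom
  haveI : GeometricallyIntegral A.hom := PicSep22.geometricallyIntegral_of_smooth A.hom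
  haveI : IsIntegral A.left := GeometricallyIntegral.isIntegral_of_subsingleton A.hom
  obtain ⟨N, f, hf, hfA⟩ := S10958.result k A
  haveI := hf
  haveI : Smooth (f ≫ CohB1.ProjSpace.toSpec N k) := by rw [hfA]; infer_instance
  haveI : GeometricallyConnected (f ≫ CohB1.ProjSpace.toSpec N k) := by rw [hfA]; infer_instance
  obtain ⟨C, i, hi, hCs, hCg, hC1, hC⟩ :=
    exists_curve (k := k) _ A.left f (VarDim.dim_eq_sdim_genericPoint A.hom).le hA
  haveI := hi
  rw [hfA] at hCs hCg
  haveI : IsProper (i ≫ A.hom) := inferInstance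
  refine ⟨C, i, hi, inferInstance, hCs, hCg, hC1, ?_⟩
  intro σ hσ J _ _ ψ hJ j hj χ hχ hjχ
  letI : C.Over (Spec (CommRingCat.of k)) := ⟨i ≫ A.hom⟩
  haveI : IsProper (C ↘ Spec (CommRingCat.of k)) := ‹IsProper (i ≫ A.hom)›
  haveI : Smooth (C ↘ Spec (CommRingCat.of k)) := hCs
  haveI : GeometricallyConnected (C ↘ Spec (CommRingCat.of k)) := hCg
  haveI : IsIntegral C := VB17.isIntegral_of_smooth (k := k) (X := C)
  haveI : GeometricallyIntegral (C ↘ Spec (CommRingCat.of k)) := PicSep22.geometricallyIntegral_of_smooth _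
  obtain ⟨hp, -, hgi⟩ := jacobian_props (C := C) hC1 σ hσ hJ
  haveI := hp
  haveI := hgi
  haveI := hχ
  haveI : LocallyOfFiniteType A.hom := inferInstance
  obtain ⟨B, gB, iB, q, hiB, hq, hiBc, hBp, hBi, hqs, -, -, hqi⟩ := AbRigid.exists_image J A χ
  haveI := hiB
  haveI := hiBc
  haveI := hBp
  haveI := hBi
  haveI := hqs
  obtain ⟨n, r, hn, hr, hir⟩ := AVQuotH1.exists_retraction iB
  haveI := hr
  let h : A ⟶ A := (𝟙 A) ^ n * (r ≫ iB)⁻¹
  have hx : ∀ {T : Over (Spec (CommRingCat.of k))} (x : T ⟶ A), x ≫ h = x ^ n * ((x ≫ r) ≫ iB)⁻¹ :=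
    fun {T} x => by
      simp only [h, MonObj.comp_mul, GrpObj.comp_inv, MonObj.comp_pow, Category.comp_id, Category.assoc]
  have hib : iB ≫ h = 1 := by
    rw [hx, hir, MonObj.pow_comp, Category.id_comp, mul_inv_cancel]
  let Cm : Over (Spec (CommRingCat.of k)) := Over.mk (i ≫ A.hom)
  let P : 𝟙_ (Over (Spec (CommRingCat.of k))) ⟶ A :=
    Over.homMk (σ ≫ i) ((Category.assoc σ i A.hom).trans hσ)
  let inc : Cm ⟶ A := Over.homMk i rfl
  let u : Cm ⟶ A := (j ≫ q) ≫ iB
  have hu : inc = u * (toUnit Cm ≫ P) := by
    have : u = inc * (toUnit Cm ≫ P)⁻¹ := by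
      show (j ≫ q) ≫ iB = _
      rw [Category.assoc, hqi]
      exact hjχ
    rw [this, inv_mul_cancel_right]
  have hinc : inc ≫ h = toUnit Cm ≫ (P ≫ h) := by
    have e1 : u ≫ h = 1 := by rw [show u ≫ h = (j ≫ q) ≫ (iB ≫ h) from Category.assoc _ _ _, hib, MonObj.comp_one]
    rw [hu, hx, MonObj.mul_comp, MonObj.mul_comp, _root_.mul_pow, _root_.mul_inv, _root_.mul_mul_mul_comm,
      ← hx, ← hx, e1, _root_.one_mul, Category.assoc]
  let p₀ : A.left := (P ≫ h).left (IsLocalRing.closedPoint k)
  have hall : ∀ x : A.left, h.left x = p₀ := fun x => f.isClosedEmbedding.injective (by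
    refine hC N (h.left ≫ f) (by rw [Category.assoc, hfA, Over.w h]) (f p₀) (fun c => ?_) x
    show f (h.left (i c)) = f p₀
    have e := congrArg (fun φ : Cm ⟶ A => φ.left c) hinc
    simp only [Over.comp_left] at e
    refine congrArg f (e.trans ?_)
    show (P ≫ h).left ((toUnit Cm).left c) = p₀
    exact congrArg (P ≫ h).left (Subsingleton.elim (α := PrimeSpectrum k) _ _))
  let e₀ : A.left := η[A].left (IsLocalRing.closedPoint k)
  have hall' : ∀ x : A.left, h.left x = e₀ := fun x => by
    obtain ⟨b⟩ : Nonempty B.left := ⟨η[B].left (IsLocalRing.closedPoint k)⟩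
    have e := congrArg (fun φ : B ⟶ A => φ.left b) hib
    simp only [Over.comp_left, Hom.one_def] at e
    rw [hall x, ← hall (iB.left b)]
    refine e.trans ?_
    exact congrArg η[A].left (Subsingleton.elim (α := PrimeSpectrum k) _ _)
  have h1 : h = 1 := by
    haveI := AVQuotH1.isClosedImmersion_unit A
    have hsub : Set.range h.left ⊆ (η[A].left.ker.support : Set A.left) := by
      rintro _ ⟨x, rfl⟩
      rw [hall' x, Scheme.Hom.support_ker]
      exact subset_closure ⟨_, rfl⟩
    obtain ⟨t, ht⟩ := AmpleFin18.exists_lift_of_range_subset h.left η[A].left.ker hsub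
    have hk : η[A].left.ker ≤ h.left.ker := by
      rw [← ht]
      exact (Scheme.IdealSheafData.ker_subschemeι _).ge.trans (Scheme.Hom.le_ker_comp _ _)
    have hl := IsClosedImmersion.lift_fac η[A].left h.left hk
    have e : IsClosedImmersion.lift η[A].left h.left hk = A.hom := by
      have h2 := congrArg (· ≫ A.hom) hl
      simp only [Category.assoc, Over.w h] at h2
      rw [Over.w η[A]] at h2
      exact (Category.comp_id _).symm.trans h2
    ext1
    rw [← hl, e, Hom.one_def, Over.comp_left]
    rfl
  have hrn : r ≫ iB = (𝟙 A) ^ n := (mul_inv_eq_one.1 h1).symm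
  obtain ⟨-, -, hs⟩ := AVDegree22.isFinite_flat_surjective_pow A hn
  intro x
  obtain ⟨y, hy⟩ := hs.surj x
  rw [← hrn] at hy
  obtain ⟨z, hz⟩ := q.left.surjective (r.left y)
  refine ⟨z, ?_⟩
  rw [← hqi, Over.comp_left, Scheme.Hom.comp_apply, hz]
  exact hy

end Groth.Agent.S17817
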