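import Groth.Statements.S17818
import Groth.Agent.Lib.JacPts22.HomExt

set_option linter.style.haveILetI false
set_option backward.isDefEq.respectTransparency false
set_option backward.isDefEq.respectTransparency.types false
set_option maxHeartbeats 1000000
set_option autoImplicit false
universe u
open CategoryTheory CategoryTheory.Limits AlgebraicGeometry MonoidalCategory CartesianMonoidalCategory MonObj
open JacVar

namespace Groth.Agent.S17818

open Groth.Agent Groth.Agent.JacPts22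

/-- Let C be a smooth proper geometrically connected curve of genus g > 0 over a field k with a
k-rational point P, (J, ψ) its Jacobian (a commutative group scheme over k, coarse moduli scheme on
all k-schemes for degree-0 line bundles modulo twisting from the base, group law induced by tensor
product), M the universal family on C × J normalised along P × J whose classifying morphism under ψ
is the identity (the sheaf M^P), j : C ⟶ J the Abel map with base point P, and L^P the module on C ×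
C with L^P ⊗ I_Δ ≅ pr₁^* I_P ⊗ pr₂^* I_P, i.e. O(Δ − C × P − P × C). If N is an invertible module on
C × J, trivial along P × J and along C × 0 (a divisorial correspondence between (C, P) and J), whose
pullback along 1 × j is isomorphic to L^P, then N is isomorphic to M. -/
theorem result (k : Type u) [Field k]
    (C : Scheme.{u}) [C.Over (Spec (CommRingCat.of k))]
    [IsProper (C ↘ Spec (CommRingCat.of k))] [Smooth (C ↘ Spec (CommRingCat.of k))] [GeometricallyConnected (C ↘ Spec (CommRingCat.of k))]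
    (hdim : topologicalKrullDim ↥C = 1)
    (hg : 0 < Curv2.genus k C)
    (σ : Spec (CommRingCat.of k) ⟶ C) (hσ : σ ≫ (C ↘ Spec (CommRingCat.of k)) = 𝟙 _)
    (J : Over (Spec (CommRingCat.of k))) [GrpObj J] [IsCommMonObj J]
    (ψ : (ModFun.PicDeg (C ↘ Spec (CommRingCat.of k)) 0).Hom ⊤ J) (hJ : Jac.IsJacobian (C ↘ Spec (CommRingCat.of k)) ⊤ J ψ)
    (Pu : (PicF.XT (C ↘ Spec (CommRingCat.of k)) J).Modules) (hPu : ModFun.IsUnivFamily ⊤ (ModFun.PicDeg (C ↘ Spec (CommRingCat.of k)) 0) J Pu)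
    (hPn : Jac.IsNormAlong (C ↘ Spec (CommRingCat.of k)) σ hσ J Pu)
    (hT : (⊤ : ObjectProperty (Over (Spec (CommRingCat.of k)))) J) (hPuψ : ψ.app J Pu hT hPu.1 = 𝟙 J)
    (j : Over.mk (C ↘ Spec (CommRingCat.of k)) ⟶ J) (hj : Jac.IsAbelJacobiAt (C ↘ Spec (CommRingCat.of k)) σ ψ j)
    (LP : (PicF.XT (C ↘ Spec (CommRingCat.of k)) (Over.mk (C ↘ Spec (CommRingCat.of k)))).Modules) (hLPi : PicF.IsInvertible LP)
    (hLP : Nonempty (CohB1.tensorMod LP (ClSub.idealMod (pullback.diagonal (C ↘ Spec (CommRingCat.of k))).ker) ≅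
      CohB1.tensorMod ((Scheme.Modules.pullback (pullback.fst (C ↘ Spec (CommRingCat.of k)) (C ↘ Spec (CommRingCat.of k)))).obj (ClSub.idealMod σ.ker))
        ((Scheme.Modules.pullback (pullback.snd (C ↘ Spec (CommRingCat.of k)) (C ↘ Spec (CommRingCat.of k)))).obj (ClSub.idealMod σ.ker))))
    (N : (PicF.XT (C ↘ Spec (CommRingCat.of k)) J).Modules) (hN : PicF.IsInvertible N)
    (hNP : Jac.IsNormAlong (C ↘ Spec (CommRingCat.of k)) σ hσ J N)
    (hN0 : PicF.IsTrivialCl (PicF.pullCl (PicF.XTmap (C ↘ Spec (CommRingCat.of k)) (η[J])) (PicF.cl N)))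
    (hNj : Nonempty ((Scheme.Modules.pullback (PicF.XTmap (C ↘ Spec (CommRingCat.of k)) j)).obj N ≅ LP)) :
    Nonempty (N ≅ Pu) := by
  haveI : IsIntegral C := VB17.isIntegral_of_smooth (k := k) (X := C)
  haveI := AmpleFib.geometricallyIntegral_of_smooth_connected (k := k) (X := C)
  letI : ∀ Y : Scheme.{u}, PicGrp.Law Y := fun Y => Groth.Agent.M2.law Y
  obtain ⟨hp, hs, hgi⟩ := jacobian_props hdim σ hσ hJ
  haveI := hp
  haveI := hgi
  haveI : IsIntegral J.left := GeometricallyIntegral.isIntegral_of_subsingleton J.hom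
  obtain ⟨-, -, -, ξ, hξ, hψ⟩ := exists_fine _ hdim σ hσ J ψ hJ.coarse.2.1
  obtain ⟨hP, L, hL, hAJ, hLj⟩ := id hj
  have hdη : ∀ (T : Over (Spec (CommRingCat.of k))) (t : T.left),
      PicTan20.degCl (C ↘ Spec (CommRingCat.of k)) T t (1 : PicLoc.PicSet (PicF.XT _ T)).1 = 0 :=
    fun T => deg_one₀ hdim (T := T)
  let η' : 𝟙_ (Over (Spec (CommRingCat.of k))) ⟶ J := η[J]
  have hNη : Abel10.pc (PicF.XTmap (C ↘ Spec (CommRingCat.of k)) η') (PicGrp.cls N hN) = 1 :=
    Subtype.ext (hN0.trans PicGrp.one_val.symm)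
  have hdN : ∀ t, PicTan20.degCl (C ↘ Spec (CommRingCat.of k)) J t (PicGrp.cls N hN).1 = 0 := fun t => by
    have hc : IsLocallyConstant fun t => PicTan20.degMod (C ↘ Spec (CommRingCat.of k)) J t N :=
      PicTan20.isLocallyConstant_degMod _ (fun s => (PicRep20.fiber_dim _ hdim s).le) J hN
    haveI : PreconnectedSpace J.left := PreirreducibleSpace.preconnectedSpace _
    have h0 := PicTan20.degCl_pull (C ↘ Spec (CommRingCat.of k)) η' (IsLocalRing.closedPoint k) (PicGrp.cls N hN).2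
    have h1 : PicTan20.degCl (C ↘ Spec (CommRingCat.of k)) _ (IsLocalRing.closedPoint k)
        (PicF.pullCl (PicF.XTmap (C ↘ Spec (CommRingCat.of k)) η') (PicGrp.cls N hN).1) = 0 :=
      (congrArg (PicTan20.degCl _ _ _) (congrArg Subtype.val hNη)).trans (hdη _ _)
    rw [h0] at h1
    rw [show (PicGrp.cls N hN).1 = PicF.cl N from rfl, PicTan20.degCl_cl] at h1 ⊢
    exact (hc.apply_eq_of_preconnectedSpace t _).trans h1
  let h := PicRep20.classify hξ (PicGrp.cls N hN) hdN
  have hη : η[J] ≫ h = η[J] := by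
    rw [← PicRep20.classify_pc hξ η' _ hdN (hNη ▸ hdη _), classify_congr hξ hNη _ (hdη _),
      classify_one hdim hξ hψ hJ, one_eq_one]
  haveI : IsMonHom h := AbRigid.isMonHom_of_one J J h hη
  have hLinv := (M2.isInvertible_iff_isFinLocFreeOfRank_one L).2 hL.1.2
  obtain ⟨hjm⟩ : Nonempty ((Scheme.Modules.pullback (PicF.XTmap (C ↘ Spec (CommRingCat.of k)) j)).obj N ≅ LP) := hNj
  have hjN : Abel10.pc (PicF.XTmap (C ↘ Spec (CommRingCat.of k)) j) (PicGrp.cls N hN) = PicGrp.cls LP hLPi := by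
    rw [Abel10.pc, PicGrp.pullHom_cls]
    exact (PicGrp.cls_eq_cls_iff _ _).2 ⟨hjm⟩
  have hLPc : ∃ m, PicGrp.cls LP hLPi = PicRep20.famCls _ 0 hL *
      Abel10.pc (PicF.XTproj (C ↘ Spec (CommRingCat.of k)) (Over.mk (C ↘ Spec (CommRingCat.of k)))) m := by
    obtain ⟨e₁⟩ := hLP
    obtain ⟨e₂⟩ := hAJ.2
    have hσI := Abel10.isInvertible_point hdim σ hσ
    haveI := CurveCartier25.smoothOfRelativeDimension_one (C ↘ Spec (CommRingCat.of k)) hdim
    haveI := smoothOfRelativeDimension_isStableUnderBaseChange 1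
    haveI : SmoothOfRelativeDimension 1 (pullback.snd (C ↘ Spec (CommRingCat.of k)) (C ↘ Spec (CommRingCat.of k))) :=
      MorphismProperty.of_isPullback (P := @SmoothOfRelativeDimension 1)
        (IsPullback.of_hasPullback (C ↘ Spec (CommRingCat.of k)) (C ↘ Spec (CommRingCat.of k))) inferInstance
    have hI := M2.isInvertible_idealMod _ (S15990.result (pullback.snd (C ↘ Spec (CommRingCat.of k)) (C ↘ Spec (CommRingCat.of k)))
      (pullback.diagonal (C ↘ Spec (CommRingCat.of k))) (pullback.diagonal_snd _)).1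
    refine ⟨PicGrp.cls _ hσI, mul_right_cancel (b := PicGrp.cls (Y := pullback (C ↘ Spec (CommRingCat.of k)) (C ↘ Spec (CommRingCat.of k))) _ hI) ?_⟩
    show PicGrp.cls (Y := pullback (C ↘ Spec (CommRingCat.of k)) (C ↘ Spec (CommRingCat.of k))) LP hLPi * _ =
      PicGrp.cls (Y := pullback (C ↘ Spec (CommRingCat.of k)) (C ↘ Spec (CommRingCat.of k))) L hLinv *
        Abel10.pc (pullback.snd (C ↘ Spec (CommRingCat.of k)) (C ↘ Spec (CommRingCat.of k))) (PicGrp.cls _ hσI) * _
    have hf := PicLoc.isInvertible_pullback (pullback.fst (C ↘ Spec (CommRingCat.of k)) (C ↘ Spec (CommRingCat.of k))) hσI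
    have hs' := PicLoc.isInvertible_pullback (pullback.snd (C ↘ Spec (CommRingCat.of k)) (C ↘ Spec (CommRingCat.of k))) hσI
    have a1 : PicGrp.cls (Y := pullback (C ↘ Spec (CommRingCat.of k)) (C ↘ Spec (CommRingCat.of k))) LP hLPi *
        PicGrp.cls _ hI = PicGrp.cls _ hf * PicGrp.cls _ hs' := by
      rw [AlgEquiv22.cls_tensor hLPi hI, AlgEquiv22.cls_tensor hf hs']
      exact (PicGrp.cls_eq_cls_iff _ _).2 ⟨e₁⟩
    have a2 : PicGrp.cls (Y := pullback (C ↘ Spec (CommRingCat.of k)) (C ↘ Spec (CommRingCat.of k))) L hLinv *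
        PicGrp.cls _ hI = PicGrp.cls _ hf := by
      rw [AlgEquiv22.cls_tensor hLinv hI]
      exact (PicGrp.cls_eq_cls_iff _ hf).2 ⟨e₂⟩
    rw [a1, Abel10.pc, PicGrp.pullHom_cls, mul_right_comm]
    erw [a2]
  have hjh : j ≫ h = j ≫ 𝟙 J := by
    obtain ⟨m, hm⟩ := hLPc
    have hd1 := PicRep20.degCl_famCls _ hdim 0 hL
    have hd2 : ∀ t, PicTan20.degCl (C ↘ Spec (CommRingCat.of k)) _ t
        (Abel10.pc (PicF.XTmap (C ↘ Spec (CommRingCat.of k)) j) (PicGrp.cls N hN)).1 = 0 :=
      fun t => (PicTan20.degCl_pull _ j t (PicGrp.cls N hN).2).trans (hdN _)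
    rw [← PicRep20.classify_pc hξ j _ hdN hd2, classify_congr hξ (hjN.trans hm) hd2 (hjN.trans hm ▸ hd2),
      classify_twist hdim hξ _ m hd1, ← hψ, Category.comp_id]
    exact hLj
  have hid : h = 𝟙 J := hom_ext_abel hdim σ hσ hJ j hj h (𝟙 J) hjh
  obtain ⟨m, hm⟩ := PicRep20.classify_spec hξ (PicGrp.cls N hN) hdN
  obtain ⟨m', hm'⟩ := PicRep20.classify_spec hξ (PicRep20.famCls _ 0 hPu.1) (PicRep20.degCl_famCls _ hdim 0 hPu.1)
  have e1 : PicF.XTmap (C ↘ Spec (CommRingCat.of k)) (𝟙 J) = 𝟙 _ := by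
    apply pullback.hom_ext <;> simp [PicF.XTmap]
  rw [show PicRep20.classify hξ (PicGrp.cls N hN) hdN = 𝟙 J from hid, e1, Abel10.pc_id] at hm
  rw [← hψ J Pu hPu.1, show ψ.app J Pu trivial hPu.1 = 𝟙 J from hPuψ, e1, Abel10.pc_id] at hm'
  have k1 : Abel10.pc (PicF.secT (C ↘ Spec (CommRingCat.of k)) σ hσ J) (PicGrp.cls N hN) = 1 :=
    Subtype.ext (hNP.trans PicGrp.one_val.symm)
  have k2 : Abel10.pc (PicF.secT (C ↘ Spec (CommRingCat.of k)) σ hσ J) (PicRep20.famCls _ 0 hPu.1) = 1 :=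
    Subtype.ext (hPn.trans PicGrp.one_val.symm)
  rw [hm, map_mul, PicRep20.pc_secT_proj] at k1
  rw [hm', map_mul, PicRep20.pc_secT_proj] at k2
  have : m = m' := mul_left_cancel (k1.trans k2.symm)
  subst this
  exact (PicGrp.cl_eq_cl_iff N Pu).1 (congrArg Subtype.val (hm.trans hm'.symm))

end Groth.Agent.S17818
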