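import Groth.Statements.S17819
import Groth.Agent.Lib.JacPts22.Reflect

set_option linter.style.haveILetI false
set_option backward.isDefEq.respectTransparency false
set_option backward.isDefEq.respectTransparency.types false
set_option maxHeartbeats 1000000
set_option autoImplicit false
universe u
open CategoryTheory CategoryTheory.Limits AlgebraicGeometry MonoidalCategory CartesianMonoidalCategory MonObj
open JacVar

namespace Groth.Agent.S17819

open Groth.Agent Groth.Agent.JacPts22 Groth.Agent.CurvePts22 Groth.Agent.Torelli22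

/-- Let k be an algebraically closed field, C a smooth proper connected curve of genus g ≥ 2 over k with
a k-point P, (J, ψ) its Jacobian (a commutative group scheme over k, coarse moduli scheme on all
k-schemes for degree-0 line bundles modulo twisting from the base, group law induced by tensor
product) and j : C ⟶ J the Abel map with base point P. Write W^r ⊂ J for the image of the r-fold
product C ×_k ⋯ ×_k C under (x_1, …, x_r) ↦ j(x_1) ⋯ j(x_r) (the image of the r-th symmetric power;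
W^0 is the origin), and W^r_a for its translate by a k-point a of J. Let κ be the k-point of J given
by ψ on the degree-0 module Ω_{C/k} ⊗ I_P^{⊗(2g−2)} (the image of a canonical divisor), and for Z ⊂
J let Z^* be the image of Z under x ↦ κ·x⁻¹. Then for every k-point a of J one has (W^{g−1}_a)^* =
W^{g−1}_{a⁻¹} as subsets of J. -/
theorem result (k : Type u) [Field k] [IsAlgClosed k]
    (C : Scheme.{u}) [C.Over (Spec (CommRingCat.of k))]
    [IsProper (C ↘ Spec (CommRingCat.of k))] [Smooth (C ↘ Spec (CommRingCat.of k))] [GeometricallyConnected (C ↘ Spec (CommRingCat.of k))]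
    (hdim : topologicalKrullDim ↥C = 1)
    (g : ℕ) (hg : Curv2.genus k C = g) (hg2 : 2 ≤ g)
    (σ : Spec (CommRingCat.of k) ⟶ C) (hσ : σ ≫ (C ↘ Spec (CommRingCat.of k)) = 𝟙 _)
    (J : Over (Spec (CommRingCat.of k))) [GrpObj J] [IsCommMonObj J]
    (ψ : (ModFun.PicDeg (C ↘ Spec (CommRingCat.of k)) 0).Hom ⊤ J) (hJ : Jac.IsJacobian (C ↘ Spec (CommRingCat.of k)) ⊤ J ψ)
    (j : Over.mk (C ↘ Spec (CommRingCat.of k)) ⟶ J) (hj : Jac.IsAbelJacobiAt (C ↘ Spec (CommRingCat.of k)) σ ψ j)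
    (Kf : (PicF.XT (C ↘ Spec (CommRingCat.of k)) (𝟙_ (Over (Spec (CommRingCat.of k))))).Modules)
    (hKf : Nonempty (Kf ≅ (Scheme.Modules.pullback (pullback.fst (C ↘ Spec (CommRingCat.of k)) (𝟙_ (Over (Spec (CommRingCat.of k)))).hom)).obj
      (CohB1.tensorMod (Omega.sheaf (C ↘ Spec (CommRingCat.of k))) (CohB1.tensorPow (ClSub.idealMod σ.ker) (2 * g - 2)))))
    (hT₁ : (⊤ : ObjectProperty (Over (Spec (CommRingCat.of k)))) (𝟙_ (Over (Spec (CommRingCat.of k))))) (hKok : (ModFun.PicDeg (C ↘ Spec (CommRingCat.of k)) 0).ok (𝟙_ (Over (Spec (CommRingCat.of k)))) Kf)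
    (κ : (𝟙_ (Over (Spec (CommRingCat.of k)))) ⟶ J) (hκ : ψ.app (𝟙_ (Over (Spec (CommRingCat.of k)))) Kf hT₁ hKok = κ)
    (a : (𝟙_ (Over (Spec (CommRingCat.of k)))) ⟶ J) :
    (Jac.transl J κ).left.base '' (((𝟙 J)⁻¹).left.base '' ((Jac.transl J a).left.base '' Set.range ((List.ofFn fun i : Fin (g - 1) =>
        (Over.homMk (WidePullback.π (fun (_ : Fin (g - 1)) => (C ↘ Spec (CommRingCat.of k))) i)
          (WidePullback.π_arrow (fun (_ : Fin (g - 1)) => (C ↘ Spec (CommRingCat.of k))) i) : Over.mk (WidePullback.base fun (_ : Fin (g - 1)) => (C ↘ Spec (CommRingCat.of k))) ⟶ Over.mk (C ↘ Spec (CommRingCat.of k))) ≫ j).prod).left.base)) =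
      ((Jac.transl J a⁻¹).left.base '' Set.range ((List.ofFn fun i : Fin (g - 1) =>
        (Over.homMk (WidePullback.π (fun (_ : Fin (g - 1)) => (C ↘ Spec (CommRingCat.of k))) i)
          (WidePullback.π_arrow (fun (_ : Fin (g - 1)) => (C ↘ Spec (CommRingCat.of k))) i) : Over.mk (WidePullback.base fun (_ : Fin (g - 1)) => (C ↘ Spec (CommRingCat.of k))) ⟶ Over.mk (C ↘ Spec (CommRingCat.of k))) ≫ j).prod).left.base) := by
  haveI : IsIntegral C := VB17.isIntegral_of_smooth (k := k) (X := C)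
  haveI : IsSeparated J.hom := AbRigid.isSeparated_of_grpObj J
  letI : ∀ Y : Scheme.{u}, PicGrp.Law Y := fun Y => Groth.Agent.M2.law Y
  rw [image_eq_range, image_eq_range, image_eq_range, image_eq_range, Category.assoc (trMap j (g - 1) a)]
  have hK := cN_kappa hdim σ hσ ψ hJ g Kf hKf hT₁ hKok
  rw [hκ] at hK
  have flip : ∀ z, Eff (k := k) hdim (g - 1) (cN hdim σ hσ ψ hJ (g - 1) z) →
      Eff (k := k) hdim (g - 1) (cN hdim σ hσ ψ hJ (g - 1) (κ * z⁻¹)) := by
    intro z hz
    refine eff_of_h0_pos hdim _ _ (degC_cN hdim σ hσ ψ hJ _ _) ?_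
    have h := (cN_mul hdim σ hσ (show g - 1 + (g - 1) = 2 * g - 2 by omega) (κ * z⁻¹) z (ψ := ψ) (hJ := hJ))
    rw [inv_mul_cancel_right, hK] at h
    have hr := rr hdim ⟨σ, hσ⟩ (cN hdim σ hσ ψ hJ (g - 1) z)
    rw [hz.deg hdim, hg, mul_inv_eq_iff_eq_mul.2 h] at hr
    have := hz.h0_pos hdim ⟨σ, hσ⟩
    omega
  have e : ∀ z : 𝟙_ (Over (Spec (CommRingCat.of k))) ⟶ J, κ * (z * a)⁻¹ = κ * z⁻¹ * a⁻¹ := fun z => by
    rw [mul_inv, _root_.mul_assoc]
  refine Set.Subset.antisymm (range_subset _ (isClosed_range _) fun x => ?_) (range_subset _ (isClosed_range _) fun x => ?_)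
  · refine (pt_mem_trMap hdim σ hσ ψ hJ j hj _ _).2 ?_
    have h := flip _ ((pt_mem_refMap hdim σ hσ ψ hJ j hj _ a κ).1 (pt_comp_mem (refMap j (g - 1) a κ) x))
    rw [inv_inv]
    generalize x ≫ refMap j (g - 1) a κ = z at h ⊢
    rwa [← e, mul_inv, inv_inv, mul_inv_cancel_left] at h
  · refine (pt_mem_refMap hdim σ hσ ψ hJ j hj _ a κ).2 ?_
    have h := flip _ ((pt_mem_trMap hdim σ hσ ψ hJ j hj _ a⁻¹).1 (pt_comp_mem (trMap j (g - 1) a⁻¹) x))
    rwa [inv_inv, e] at h

end Groth.Agent.S17819
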