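import Groth.Statements.S17820
import Groth.Agent.Lib.Riemann22.Class
import Groth.Agent.Lib.JacPts22.Vanish
import Groth.Agent.Lib.NodeBlow14.Centre
import Groth.Agent.Lib.AlgSpCartier.SchemeDescent
import Groth.Agent.Lib.SecDiv18.Basic
import Groth.Agent.Lib.PicSep22.Smooth
import Groth.Agent.Lib.VB17.SmoothDuality

set_option linter.style.haveILetI false
set_option backward.isDefEq.respectTransparency false
set_option backward.isDefEq.respectTransparency.types false
set_option maxHeartbeats 1000000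
set_option autoImplicit false
universe u
open CategoryTheory CategoryTheory.Limits AlgebraicGeometry MonoidalCategory CartesianMonoidalCategory MonObj
open JacVar

namespace Groth.Agent.S17820

open Groth.Agent Groth.Agent.JacPts22 Groth.Agent.Torelli22

/-- Let k be an algebraically closed field, C a smooth proper connected curve of genus g ≥ 1 over k with
a k-point P, (J, ψ) its Jacobian (a commutative group scheme over k, coarse moduli scheme on all
k-schemes for degree-0 line bundles modulo twisting from the base, group law induced by tensor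
product) and j : C ⟶ J the Abel map with base point P. Let Θ = W^{g−1} ⊂ J be the image of the (g −
1)-fold product C ×_k ⋯ ×_k C under (x_1, …, x_{g−1}) ↦ j(x_1) ⋯ j(x_{g−1}), Θ⁻ its image under
inversion, and for an effective divisor D = P_1 + ⋯ + P_g of degree g on C (k-points P_i) let a =
j(P_1) ⋯ j(P_g) be its image in J and Θ⁻_a the translate of Θ⁻ by a. If L(Θ⁻_a) is an invertible
module on J inverse to the ideal of the reduced closed subscheme Θ⁻_a, then its pullback along j is
isomorphic to O_C(D), the invertible module with O_C(D) ⊗ I_{P_1} ⊗ ⋯ ⊗ I_{P_g} ≅ O_C. -/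
theorem result (k : Type u) [Field k] [IsAlgClosed k]
    (C : Scheme.{u}) [C.Over (Spec (CommRingCat.of k))]
    [IsProper (C ↘ Spec (CommRingCat.of k))] [Smooth (C ↘ Spec (CommRingCat.of k))] [GeometricallyConnected (C ↘ Spec (CommRingCat.of k))]
    (hdim : topologicalKrullDim ↥C = 1)
    (g : ℕ) (hg : Curv2.genus k C = g) (hg1 : 1 ≤ g)
    (σ : Spec (CommRingCat.of k) ⟶ C) (hσ : σ ≫ (C ↘ Spec (CommRingCat.of k)) = 𝟙 _)
    (J : Over (Spec (CommRingCat.of k))) [GrpObj J] [IsCommMonObj J]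
    (ψ : (ModFun.PicDeg (C ↘ Spec (CommRingCat.of k)) 0).Hom ⊤ J) (hJ : Jac.IsJacobian (C ↘ Spec (CommRingCat.of k)) ⊤ J ψ)
    (j : Over.mk (C ↘ Spec (CommRingCat.of k)) ⟶ J) (hj : Jac.IsAbelJacobiAt (C ↘ Spec (CommRingCat.of k)) σ ψ j)
    (D : Fin g → (Spec (CommRingCat.of k) ⟶ C)) (hD : ∀ i, D i ≫ (C ↘ Spec (CommRingCat.of k)) = 𝟙 _)
    (MD : C.Modules) (hMD : PicF.IsInvertible MD)
    (hMDD : Nonempty (CohB1.tensorMod MD (FGA.tensorList (List.ofFn fun i : Fin g => ClSub.idealMod (D i).ker)) ≅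
      Coh.structureModule C))
    (La : J.left.Modules) (hLa : PicF.IsInvertible La)
    (hLaΘ : ClSub.IsInverseOf La (ClSub.idealMod (Scheme.IdealSheafData.vanishingIdeal
      ⟨closure ((Jac.transl J ((List.ofFn fun i : Fin g => (Over.homMk (D i) (hD i) : (𝟙_ (Over (Spec (CommRingCat.of k)))) ⟶ Over.mk (C ↘ Spec (CommRingCat.of k))) ≫ j).prod)).left.base '' (((𝟙 J)⁻¹).left.base '' Set.range ((List.ofFn fun i : Fin (g - 1) =>
        (Over.homMk (WidePullback.π (fun (_ : Fin (g - 1)) => (C ↘ Spec (CommRingCat.of k))) i)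
          (WidePullback.π_arrow (fun (_ : Fin (g - 1)) => (C ↘ Spec (CommRingCat.of k))) i) : Over.mk (WidePullback.base fun (_ : Fin (g - 1)) => (C ↘ Spec (CommRingCat.of k))) ⟶ Over.mk (C ↘ Spec (CommRingCat.of k))) ≫ j).prod).left.base)), isClosed_closure⟩))) :
    Nonempty ((Scheme.Modules.pullback j.left).obj La ≅ MD) := by
  classical
  letI : ∀ Y : Scheme.{u}, PicGrp.Law Y := fun Y => Groth.Agent.M2.law Y
  haveI : IsIntegral C := VB17.isIntegral_of_smooth (k := k) (X := C)
  haveI : GeometricallyIntegral (C ↘ Spec (CommRingCat.of k)) := PicSep22.geometricallyIntegral_of_smooth _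
  obtain ⟨n, rfl⟩ : ∃ n, g = n + 1 := ⟨g - 1, by omega⟩
  obtain ⟨hJp, -, hJg⟩ := jacobian_props hdim σ hσ hJ
  haveI := hJp
  haveI := hJg
  haveI : IsProper (pw k C n).hom := inferInstance
  have hcl : IsClosed (Set.range (sumMap j n).left.base) := JacPts22.isClosed_range (sumMap j n)
  set a := (List.ofFn fun i : Fin (n + 1) =>
    (Over.homMk (D i) (hD i) : (𝟙_ (Over (Spec (CommRingCat.of k)))) ⟶ Over.mk (C ↘ Spec (CommRingCat.of k))) ≫ j).prod with ha
  let t : J ⟶ J := (𝟙 J)⁻¹ ≫ Jac.transl J a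
  have ht : t = (𝟙 J)⁻¹ * (toUnit J ≫ a) := comp_transl _ _
  have htt : t ≫ t = 𝟙 J := by
    conv_lhs => arg 2; rw [ht]
    rw [MonObj.comp_mul, GrpObj.comp_inv, Category.comp_id, ← Category.assoc t, toUnit_unique (t ≫ toUnit J) (toUnit J),
      ht, mul_inv, inv_inv, inv_mul_cancel_right]
  haveI : IsIso t.left := ⟨t.left, by rw [← Over.comp_left, htt]; rfl, by rw [← Over.comp_left, htt]; rfl⟩
  have hp : ∀ p, t.left.base (t.left.base p) = p := fun p => by
    show (t.left ≫ t.left) p = p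
    rw [← Over.comp_left, htt]; rfl
  let vI := Scheme.IdealSheafData.vanishingIdeal (⟨_, hcl⟩ : TopologicalSpace.Closeds J.left)
  let vZ := Scheme.IdealSheafData.vanishingIdeal (⟨closure ((Jac.transl J a).left.base '' (((𝟙 J)⁻¹).left.base ''
    Set.range (sumMap j n).left.base)), isClosed_closure⟩ : TopologicalSpace.Closeds J.left)
  have hZ : closure ((Jac.transl J a).left.base '' (((𝟙 J)⁻¹).left.base '' Set.range (sumMap j n).left.base)) =
      t.left.base ⁻¹' Set.range (sumMap j n).left.base := by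
    have h1 : (Jac.transl J a).left.base '' (((𝟙 J)⁻¹).left.base '' Set.range (sumMap j n).left.base) =
        t.left.base ⁻¹' Set.range (sumMap j n).left.base := by
      rw [← Set.image_comp]
      show t.left.base '' _ = _
      exact congrFun (Set.image_eq_preimage_of_inverse hp hp) _
    rw [h1, (hcl.preimage t.left.continuous).closure_eq]
  have hvZ : vZ = vI.comap t.left :=
    (congrArg Scheme.IdealSheafData.vanishingIdeal (TopologicalSpace.Closeds.ext hZ)).trans
      (NodeBlow14.comap_vanishingIdeal t.left ⟨_, hcl⟩).symm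
  have hvI : vI = vZ.comap t.left := by
    rw [hvZ, ← Scheme.IdealSheafData.comap_comp, ← Over.comp_left, htt]
    exact (Scheme.IdealSheafData.comap_id _).symm
  have hLaΘ' : ClSub.IsInverseOf La (ClSub.idealMod vZ) := hLaΘ
  have hI : PicF.IsInvertible (ClSub.idealMod vZ) :=
    M2.isInvertible_of_tensor_iso hLa (M2.tensorComm _ _ ≪≫ hLaΘ'.some)
  have hEZ : BlowUp.IsEffCartierIdeal vZ := SecDiv.isEffCartierIdeal_of_isInvertible vZ hI
  have hE : BlowUp.IsEffCartierIdeal vI := by
    rw [hvI]; exact AlgSpCartier.isEffCartierIdeal_comap_of_flat t.left hEZ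
  have hA : PicGrp.cls La hLa = (Abel10.pc t.left (PicGrp.cls _ (M2.isInvertible_idealMod _ hE)))⁻¹ := by
    have h1 : PicGrp.cls La hLa * PicGrp.cls _ hI = 1 := (PicGrp.cls_mul_cls_eq_one_iff _ _).2 hLaΘ'
    have hc : BlowUp.IsEffCartierIdeal (vI.comap t.left) := hvZ ▸ hEZ
    rw [eq_inv_of_mul_eq_one_left h1, Riemann22.cls_comap _ hE hc, ← Riemann22.cls_congr hvZ hEZ hc]
  have hcls := Riemann22.pullback_theta_class hdim hσ hJ j hj hg hcl hE a
  let Q : Fin (n + 1) → Torelli22.Pts k C := fun i => ⟨D i, hD i⟩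
  have hya : mkPt Q ≫ sumMap j (n + 1) = a := by
    rw [Riemann22.comp_sumMap, ha, List.prod_ofFn]
    exact Finset.prod_congr rfl fun i _ => congrArg (· ≫ j) (Over.OverMorphism.ext (WidePullback.lift_π _ _ _ _ i))
  rw [← hya, cN_sum hdim σ hσ ψ hJ j hj (mkPt Q), inv_inv] at hcls
  simp only [coord_mkPt] at hcls
  have hTi : PicF.IsInvertible (FGA.tensorList (List.ofFn fun i => ClSub.idealMod (Q i).1.ker)) :=
    M2.isInvertible_of_tensor_iso hMD (M2.tensorComm _ _ ≪≫ hMDD.some)
  have hM : PicGrp.cls MD hMD = (∏ i, Torelli22.P hdim (Q i))⁻¹ := by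
    rw [← cls_ptFn hdim _ Q hTi]
    exact eq_inv_of_mul_eq_one_left ((PicGrp.cls_mul_cls_eq_one_iff _ _).2 hMDD)
  refine (PicGrp.cls_eq_cls_iff (PicLoc.isInvertible_pullback _ hLa) hMD).1 ?_
  rw [hM, ← PicGrp.pullHom_cls j.left (M2.pullMul _) La hLa, hA]
  show Abel10.pc j.left (Abel10.pc t.left _)⁻¹ = _
  rw [map_inv, ← hcls, Abel10.pc_comp j.left t.left (h := (Riemann22.hMap j a).left) ?_, hya]
  show (j ≫ t).left = _
  rw [ht, MonObj.comp_mul, GrpObj.comp_inv, Category.comp_id, ← Category.assoc j, toUnit_unique (j ≫ toUnit J) (toUnit _)]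

end Groth.Agent.S17820
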