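import Groth.Statements.S17821
import Groth.Agent.Lib.Riemann22.Inter
import Groth.Agent.Lib.JacPts22.Vanish
import Groth.Agent.Lib.NodeBlow14.Centre
import Groth.Agent.Lib.AlgSpCartier.SchemeDescent
import Groth.Agent.Lib.SecDiv18.Basic
import Groth.Agent.Lib.PicSep22.Smooth
import Groth.Agent.Lib.VB17.SmoothDuality

set_option linter.style.haveILetI false
set_option backward.isDefEq.respectTransparency false
set_option backward.isDefEq.respectTransparency.types false
set_option maxHeartbeats 1000000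
set_option autoImplicit false
universe u
open CategoryTheory CategoryTheory.Limits AlgebraicGeometry MonoidalCategory CartesianMonoidalCategory MonObj
open JacVar

namespace Groth.Agent.S17821

open Groth.Agent Groth.Agent.JacPts22 Groth.Agent.Torelli22

/-- Let k be an algebraically closed field, C a smooth proper connected curve of genus g ≥ 1 over k with
a k-point P, (J, ψ) its Jacobian (a commutative group scheme over k, coarse moduli scheme on all
k-schemes for degree-0 line bundles modulo twisting from the base, group law induced by tensor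
product) and j : C ⟶ J the Abel map with base point P; let Θ = W^{g−1} ⊂ J be the image of the (g −
1)-fold product of C under (x_i) ↦ Π j(x_i) and Θ⁻ its image under inversion. Let P_1, …, P_g be
distinct k-points of C such that the divisor D = P_1 + ⋯ + P_g satisfies h⁰(O_C(D)) = 1 (O_C(D)
being the invertible module with O_C(D) ⊗ I_{P_1} ⊗ ⋯ ⊗ I_{P_g} ≅ O_C), and let a = j(P_1) ⋯ j(P_g).
Then j⁻¹(Θ⁻_a) = D as Cartier divisors on C: the pullback along j of the ideal of the reduced closed
subscheme Θ⁻_a of J is the intersection of the ideals of the points P_i. (The published statement is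
phrased for a in the largest open subset of J over which the fibres of C^(g) → J are finite and the
divisor mapping to a is a sum of g distinct points; this row states it pointwise, for a divisor D of
g distinct points with h⁰(O_C(D)) = 1.) -/
theorem result (k : Type u) [Field k] [IsAlgClosed k]
    (C : Scheme.{u}) [C.Over (Spec (CommRingCat.of k))]
    [IsProper (C ↘ Spec (CommRingCat.of k))] [Smooth (C ↘ Spec (CommRingCat.of k))] [GeometricallyConnected (C ↘ Spec (CommRingCat.of k))]
    (hdim : topologicalKrullDim ↥C = 1)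
    (g : ℕ) (hg : Curv2.genus k C = g) (hg1 : 1 ≤ g)
    (σ : Spec (CommRingCat.of k) ⟶ C) (hσ : σ ≫ (C ↘ Spec (CommRingCat.of k)) = 𝟙 _)
    (J : Over (Spec (CommRingCat.of k))) [GrpObj J] [IsCommMonObj J]
    (ψ : (ModFun.PicDeg (C ↘ Spec (CommRingCat.of k)) 0).Hom ⊤ J) (hJ : Jac.IsJacobian (C ↘ Spec (CommRingCat.of k)) ⊤ J ψ)
    (j : Over.mk (C ↘ Spec (CommRingCat.of k)) ⟶ J) (hj : Jac.IsAbelJacobiAt (C ↘ Spec (CommRingCat.of k)) σ ψ j)
    (D : Fin g → (Spec (CommRingCat.of k) ⟶ C)) (hD : ∀ i, D i ≫ (C ↘ Spec (CommRingCat.of k)) = 𝟙 _) (hDinj : ∀ i i', D i = D i' → i = i')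
    (MD : C.Modules) (hMD : PicF.IsInvertible MD)
    (hMDD : Nonempty (CohB1.tensorMod MD (FGA.tensorList (List.ofFn fun i : Fin g => ClSub.idealMod (D i).ker)) ≅
      Coh.structureModule C))
    (hMD1 : Module.finrank k (Coh.HH C MD 0) = 1) :
    (Scheme.IdealSheafData.vanishingIdeal ⟨closure ((Jac.transl J ((List.ofFn fun i : Fin g => (Over.homMk (D i) (hD i) : (𝟙_ (Over (Spec (CommRingCat.of k)))) ⟶ Over.mk (C ↘ Spec (CommRingCat.of k))) ≫ j).prod)).left.base '' (((𝟙 J)⁻¹).left.base '' Set.range ((List.ofFn fun i : Fin (g - 1) =>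
        (Over.homMk (WidePullback.π (fun (_ : Fin (g - 1)) => (C ↘ Spec (CommRingCat.of k))) i)
          (WidePullback.π_arrow (fun (_ : Fin (g - 1)) => (C ↘ Spec (CommRingCat.of k))) i) : Over.mk (WidePullback.base fun (_ : Fin (g - 1)) => (C ↘ Spec (CommRingCat.of k))) ⟶ Over.mk (C ↘ Spec (CommRingCat.of k))) ≫ j).prod).left.base)), isClosed_closure⟩).comap j.left =
      ⨅ i : Fin g, (D i).ker := by
  classical
  letI : ∀ Y : Scheme.{u}, PicGrp.Law Y := fun Y => Groth.Agent.M2.law Y
  haveI : IsIntegral C := VB17.isIntegral_of_smooth (k := k) (X := C)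
  haveI : GeometricallyIntegral (C ↘ Spec (CommRingCat.of k)) := PicSep22.geometricallyIntegral_of_smooth _
  obtain ⟨n, rfl⟩ : ∃ n, g = n + 1 := ⟨g - 1, by omega⟩
  obtain ⟨hJp, -, hJg⟩ := jacobian_props hdim σ hσ hJ
  haveI := hJp
  haveI := hJg
  haveI : IsProper (pw k C n).hom := inferInstance
  have hcl : IsClosed (Set.range (sumMap j n).left.base) := JacPts22.isClosed_range (sumMap j n)
  set a := (List.ofFn fun i : Fin (n + 1) =>
    (Over.homMk (D i) (hD i) : (𝟙_ (Over (Spec (CommRingCat.of k)))) ⟶ Over.mk (C ↘ Spec (CommRingCat.of k))) ≫ j).prod with ha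
  let t : J ⟶ J := (𝟙 J)⁻¹ ≫ Jac.transl J a
  have ht : t = (𝟙 J)⁻¹ * (toUnit J ≫ a) := comp_transl _ _
  have htt : t ≫ t = 𝟙 J := by
    conv_lhs => arg 2; rw [ht]
    rw [MonObj.comp_mul, GrpObj.comp_inv, Category.comp_id, ← Category.assoc t, toUnit_unique (t ≫ toUnit J) (toUnit J),
      ht, mul_inv, inv_inv, inv_mul_cancel_right]
  haveI : IsIso t.left := ⟨t.left, by rw [← Over.comp_left, htt]; rfl, by rw [← Over.comp_left, htt]; rfl⟩
  have hp : ∀ p, t.left.base (t.left.base p) = p := fun p => by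
    show (t.left ≫ t.left) p = p
    rw [← Over.comp_left, htt]; rfl
  let vI := Scheme.IdealSheafData.vanishingIdeal (⟨_, hcl⟩ : TopologicalSpace.Closeds J.left)
  let vZ := Scheme.IdealSheafData.vanishingIdeal (⟨closure ((Jac.transl J a).left.base '' (((𝟙 J)⁻¹).left.base ''
    Set.range (sumMap j n).left.base)), isClosed_closure⟩ : TopologicalSpace.Closeds J.left)
  have hZ : closure ((Jac.transl J a).left.base '' (((𝟙 J)⁻¹).left.base '' Set.range (sumMap j n).left.base)) =
      t.left.base ⁻¹' Set.range (sumMap j n).left.base := by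
    have h1 : (Jac.transl J a).left.base '' (((𝟙 J)⁻¹).left.base '' Set.range (sumMap j n).left.base) =
        t.left.base ⁻¹' Set.range (sumMap j n).left.base := by
      rw [← Set.image_comp]
      show t.left.base '' _ = _
      exact congrFun (Set.image_eq_preimage_of_inverse hp hp) _
    rw [h1, (hcl.preimage t.left.continuous).closure_eq]
  have hvZ : vZ = vI.comap t.left :=
    (congrArg Scheme.IdealSheafData.vanishingIdeal (TopologicalSpace.Closeds.ext hZ)).trans
      (NodeBlow14.comap_vanishingIdeal t.left ⟨_, hcl⟩).symm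
  have hvI : vI = vZ.comap t.left := by
    rw [hvZ, ← Scheme.IdealSheafData.comap_comp, ← Over.comp_left, htt]
    exact (Scheme.IdealSheafData.comap_id _).symm
  have hcomp : j ≫ t = Riemann22.hMap j a := by
    rw [ht, Riemann22.hMap, MonObj.comp_mul, GrpObj.comp_inv, Category.comp_id, ← Category.assoc j,
      toUnit_unique (j ≫ toUnit J) (toUnit _)]
  let Q : Fin (n + 1) → Torelli22.Pts k C := fun i => ⟨D i, hD i⟩
  have hya : mkPt Q ≫ sumMap j (n + 1) = a := by
    rw [Riemann22.comp_sumMap, ha, List.prod_ofFn]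
    exact Finset.prod_congr rfl fun i _ => congrArg (· ≫ j) (Over.OverMorphism.ext (WidePullback.lift_π _ _ _ _ i))
  have hprj : ∀ i, (mkPt Q ≫ prj i).left = D i := fun i => WidePullback.lift_π _ _ _ _ i
  have hTi : PicF.IsInvertible (FGA.tensorList (List.ofFn fun i => ClSub.idealMod (Q i).1.ker)) :=
    M2.isInvertible_of_tensor_iso hMD (M2.tensorComm _ _ ≪≫ hMDD.some)
  have hM : PicGrp.cls MD hMD = cN hdim σ hσ ψ hJ (n + 1) a := by
    rw [← hya, cN_sum hdim σ hσ ψ hJ j hj (mkPt Q)]
    simp only [coord_mkPt]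
    rw [← cls_ptFn hdim _ Q hTi]
    exact eq_inv_of_mul_eq_one_left ((PicGrp.cls_mul_cls_eq_one_iff _ _).2 hMDD)
  have h01 : h0C k (cN hdim σ hσ ψ hJ (n + 1) a) = 1 := by rw [← hM, h0C_cls, hMD1]
  obtain ⟨x, hx⟩ := exists_drop hdim (c := cN hdim σ hσ ψ hJ (n + 1) a) (Nat.lt_of_lt_of_eq Nat.one_pos h01.symm)
  have hdrop := h0C_drop hdim hx
  let c : 𝟙_ (Over (Spec (CommRingCat.of k))) ⟶ Over.mk (C ↘ Spec (CommRingCat.of k)) := Over.homMk x.1 x.2
  have hz : (c ≫ Riemann22.hMap j a) * (c ≫ j) = a := by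
    rw [Riemann22.hMap, MonObj.comp_mul, GrpObj.comp_inv, ← Category.assoc c, toUnit_unique (c ≫ toUnit _) (𝟙 _),
      Category.id_comp, inv_mul_cancel_comm]
  have hout : CurvePts22.pt (c ≫ Riemann22.hMap j a).left ∉ Set.range (sumMap j n).left.base := by
    intro hmem
    have h := ((pt_mem_sum hdim σ hσ ψ hJ j hj _).1 hmem).h0_pos hdim x
    have h1 : cN hdim σ hσ ψ hJ 1 (c ≫ j) = (Torelli22.P hdim x)⁻¹ := by
      rw [cN, iota_abel hdim J ψ hJ σ hσ j hj c, pow_one]
      exact mul_inv_eq_of_eq_mul (mul_comm _ _)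
    have h2 := cN_mul hdim σ hσ (show n + 1 = n + 1 from rfl) (c ≫ Riemann22.hMap j a) (c ≫ j) (ψ := ψ) (hJ := hJ)
    rw [hz, h1] at h2
    rw [eq_mul_of_mul_inv_eq h2.symm] at h
    omega
  have key := Riemann22.comap_theta_eq_prod hdim hσ hJ j hj hg hcl a ⟨c, hout⟩ (mkPt Q) hya
  show vZ.comap j.left = _
  rw [hvZ, ← Scheme.IdealSheafData.comap_comp, ← Over.comp_left, hcomp, key]
  simp only [hprj]
  haveI : ∀ i, IsClosedImmersion (D i) := fun i => CurvePts22.isClosedImmersion_of_section (D i) (hD i)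
  refine le_antisymm (le_iInf fun i => ?_) ?_
  · rw [← Finset.mul_prod_erase _ _ (Finset.mem_univ i)]
    exact CurveCartier25.mul_le_left _ _
  · refine Riemann22.le_prod_of_forall _ (fun i i' hne => ?_) _ (fun i => iInf_le _ i) _ Finset.univ_nonempty
    exact Riemann22.pts_sup (k := k) (C := C) (Over.homMk (D i) (hD i)) (Over.homMk (D i') (hD i'))
      fun e => hne (hDinj i i' (congrArg CommaMorphism.left e))

end Groth.Agent.S17821
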