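import Groth.Statements.S17822
import Groth.Agent.Lib.JacPts22.Reflect

set_option linter.style.haveILetI false
set_option backward.isDefEq.respectTransparency false
set_option backward.isDefEq.respectTransparency.types false
set_option maxHeartbeats 1000000
set_option autoImplicit false
universe u
open CategoryTheory CategoryTheory.Limits AlgebraicGeometry MonoidalCategory CartesianMonoidalCategory MonObj
open JacVar

namespace Groth.Agent.S17822

open Groth.Agent Groth.Agent.JacPts22 Groth.Agent.CurvePts22 Groth.Agent.Torelli22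

/-- Let k be an algebraically closed field, C a smooth proper connected curve of genus g ≥ 2 over k with
a k-point P, (J, ψ) its Jacobian (a commutative group scheme over k, coarse moduli scheme on all
k-schemes for degree-0 line bundles modulo twisting from the base, group law induced by tensor
product) and j : C ⟶ J the Abel map with base point P. Write W^r ⊂ J for the image of the r-fold
product C ×_k ⋯ ×_k C under (x_1, …, x_r) ↦ j(x_1) ⋯ j(x_r) (the image of the r-th symmetric power;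
W^0 is the origin), and W^r_a for its translate by a k-point a of J. Let κ be the k-point of J given
by ψ on Ω_{C/k} ⊗ I_P^{⊗(2g−2)} and Z^* the image of Z ⊂ J under x ↦ κ·x⁻¹. Let 0 ≤ r ≤ g − 2 and
let a, b, x, y be k-points of J with x in W^1, y in W^{g−1−r} and a·x = b·y. If W^{r+1}_a is not
contained in W^{g−1}_b, then W^{r+1}_a ∩ W^{g−1}_b = W^r_{a·x} ∪ (W^{r+1}_a ∩ (W^{g−2}_{y·a⁻¹})^*)
as subsets of J. -/
theorem result (k : Type u) [Field k] [IsAlgClosed k]
    (C : Scheme.{u}) [C.Over (Spec (CommRingCat.of k))]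
    [IsProper (C ↘ Spec (CommRingCat.of k))] [Smooth (C ↘ Spec (CommRingCat.of k))] [GeometricallyConnected (C ↘ Spec (CommRingCat.of k))]
    (hdim : topologicalKrullDim ↥C = 1)
    (g : ℕ) (hg : Curv2.genus k C = g) (hg2 : 2 ≤ g)
    (σ : Spec (CommRingCat.of k) ⟶ C) (hσ : σ ≫ (C ↘ Spec (CommRingCat.of k)) = 𝟙 _)
    (J : Over (Spec (CommRingCat.of k))) [GrpObj J] [IsCommMonObj J]
    (ψ : (ModFun.PicDeg (C ↘ Spec (CommRingCat.of k)) 0).Hom ⊤ J) (hJ : Jac.IsJacobian (C ↘ Spec (CommRingCat.of k)) ⊤ J ψ)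
    (j : Over.mk (C ↘ Spec (CommRingCat.of k)) ⟶ J) (hj : Jac.IsAbelJacobiAt (C ↘ Spec (CommRingCat.of k)) σ ψ j)
    (Kf : (PicF.XT (C ↘ Spec (CommRingCat.of k)) (𝟙_ (Over (Spec (CommRingCat.of k))))).Modules)
    (hKf : Nonempty (Kf ≅ (Scheme.Modules.pullback (pullback.fst (C ↘ Spec (CommRingCat.of k)) (𝟙_ (Over (Spec (CommRingCat.of k)))).hom)).obj
      (CohB1.tensorMod (Omega.sheaf (C ↘ Spec (CommRingCat.of k))) (CohB1.tensorPow (ClSub.idealMod σ.ker) (2 * g - 2)))))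
    (hT₁ : (⊤ : ObjectProperty (Over (Spec (CommRingCat.of k)))) (𝟙_ (Over (Spec (CommRingCat.of k))))) (hKok : (ModFun.PicDeg (C ↘ Spec (CommRingCat.of k)) 0).ok (𝟙_ (Over (Spec (CommRingCat.of k)))) Kf)
    (κ : (𝟙_ (Over (Spec (CommRingCat.of k)))) ⟶ J) (hκ : ψ.app (𝟙_ (Over (Spec (CommRingCat.of k)))) Kf hT₁ hKok = κ)
    (r : ℕ) (hr : r ≤ g - 2) (a b x y : (𝟙_ (Over (Spec (CommRingCat.of k)))) ⟶ J)
    (hx : ∀ p, x.left.base p ∈ Set.range ((List.ofFn fun i : Fin 1 =>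
        (Over.homMk (WidePullback.π (fun (_ : Fin 1) => (C ↘ Spec (CommRingCat.of k))) i)
          (WidePullback.π_arrow (fun (_ : Fin 1) => (C ↘ Spec (CommRingCat.of k))) i) : Over.mk (WidePullback.base fun (_ : Fin 1) => (C ↘ Spec (CommRingCat.of k))) ⟶ Over.mk (C ↘ Spec (CommRingCat.of k))) ≫ j).prod).left.base)
    (hy : ∀ p, y.left.base p ∈ Set.range ((List.ofFn fun i : Fin (g - 1 - r) =>
        (Over.homMk (WidePullback.π (fun (_ : Fin (g - 1 - r)) => (C ↘ Spec (CommRingCat.of k))) i)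
          (WidePullback.π_arrow (fun (_ : Fin (g - 1 - r)) => (C ↘ Spec (CommRingCat.of k))) i) : Over.mk (WidePullback.base fun (_ : Fin (g - 1 - r)) => (C ↘ Spec (CommRingCat.of k))) ⟶ Over.mk (C ↘ Spec (CommRingCat.of k))) ≫ j).prod).left.base)
    (hab : a * x = b * y)
    (hnot : ¬ (((Jac.transl J a).left.base '' Set.range ((List.ofFn fun i : Fin (r + 1) =>
        (Over.homMk (WidePullback.π (fun (_ : Fin (r + 1)) => (C ↘ Spec (CommRingCat.of k))) i)
          (WidePullback.π_arrow (fun (_ : Fin (r + 1)) => (C ↘ Spec (CommRingCat.of k))) i) : Over.mk (WidePullback.base fun (_ : Fin (r + 1)) => (C ↘ Spec (CommRingCat.of k))) ⟶ Over.mk (C ↘ Spec (CommRingCat.of k))) ≫ j).prod).left.base) ⊆ ((Jac.transl J b).left.base '' Set.range ((List.ofFn fun i : Fin (g - 1) =>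
        (Over.homMk (WidePullback.π (fun (_ : Fin (g - 1)) => (C ↘ Spec (CommRingCat.of k))) i)
          (WidePullback.π_arrow (fun (_ : Fin (g - 1)) => (C ↘ Spec (CommRingCat.of k))) i) : Over.mk (WidePullback.base fun (_ : Fin (g - 1)) => (C ↘ Spec (CommRingCat.of k))) ⟶ Over.mk (C ↘ Spec (CommRingCat.of k))) ≫ j).prod).left.base))) :
    ((Jac.transl J a).left.base '' Set.range ((List.ofFn fun i : Fin (r + 1) =>
        (Over.homMk (WidePullback.π (fun (_ : Fin (r + 1)) => (C ↘ Spec (CommRingCat.of k))) i)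
          (WidePullback.π_arrow (fun (_ : Fin (r + 1)) => (C ↘ Spec (CommRingCat.of k))) i) : Over.mk (WidePullback.base fun (_ : Fin (r + 1)) => (C ↘ Spec (CommRingCat.of k))) ⟶ Over.mk (C ↘ Spec (CommRingCat.of k))) ≫ j).prod).left.base) ∩ ((Jac.transl J b).left.base '' Set.range ((List.ofFn fun i : Fin (g - 1) =>
        (Over.homMk (WidePullback.π (fun (_ : Fin (g - 1)) => (C ↘ Spec (CommRingCat.of k))) i)
          (WidePullback.π_arrow (fun (_ : Fin (g - 1)) => (C ↘ Spec (CommRingCat.of k))) i) : Over.mk (WidePullback.base fun (_ : Fin (g - 1)) => (C ↘ Spec (CommRingCat.of k))) ⟶ Over.mk (C ↘ Spec (CommRingCat.of k))) ≫ j).prod).left.base) =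
      ((Jac.transl J (a * x)).left.base '' Set.range ((List.ofFn fun i : Fin r =>
        (Over.homMk (WidePullback.π (fun (_ : Fin r) => (C ↘ Spec (CommRingCat.of k))) i)
          (WidePullback.π_arrow (fun (_ : Fin r) => (C ↘ Spec (CommRingCat.of k))) i) : Over.mk (WidePullback.base fun (_ : Fin r) => (C ↘ Spec (CommRingCat.of k))) ⟶ Over.mk (C ↘ Spec (CommRingCat.of k))) ≫ j).prod).left.base) ∪
      (((Jac.transl J a).left.base '' Set.range ((List.ofFn fun i : Fin (r + 1) =>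
        (Over.homMk (WidePullback.π (fun (_ : Fin (r + 1)) => (C ↘ Spec (CommRingCat.of k))) i)
          (WidePullback.π_arrow (fun (_ : Fin (r + 1)) => (C ↘ Spec (CommRingCat.of k))) i) : Over.mk (WidePullback.base fun (_ : Fin (r + 1)) => (C ↘ Spec (CommRingCat.of k))) ⟶ Over.mk (C ↘ Spec (CommRingCat.of k))) ≫ j).prod).left.base) ∩ ((Jac.transl J κ).left.base '' (((𝟙 J)⁻¹).left.base '' ((Jac.transl J (y * a⁻¹)).left.base '' Set.range ((List.ofFn fun i : Fin (g - 2) =>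
        (Over.homMk (WidePullback.π (fun (_ : Fin (g - 2)) => (C ↘ Spec (CommRingCat.of k))) i)
          (WidePullback.π_arrow (fun (_ : Fin (g - 2)) => (C ↘ Spec (CommRingCat.of k))) i) : Over.mk (WidePullback.base fun (_ : Fin (g - 2)) => (C ↘ Spec (CommRingCat.of k))) ⟶ Over.mk (C ↘ Spec (CommRingCat.of k))) ≫ j).prod).left.base)))) := by
  haveI : IsIntegral C := VB17.isIntegral_of_smooth (k := k) (X := C)
  haveI : IsSeparated J.hom := AbRigid.isSeparated_of_grpObj J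
  letI : ∀ Y : Scheme.{u}, PicGrp.Law Y := fun Y => Groth.Agent.M2.law Y
  simp only [image_eq_range, forall_base_iff, pt_mem_sum hdim σ hσ ψ hJ j hj] at *
  rw [Category.assoc (trMap j (g - 2) (y * a⁻¹))]
  have hK := cN_kappa hdim σ hσ ψ hJ g Kf hKf hT₁ hKok
  rw [hκ] at hK
  let cn := fun n z => cN hdim σ hσ ψ hJ n z
  have hmul : ∀ {m n l : ℕ} (_ : m + n = l) z t, cn l (z * t) = cn m z * cn n t :=
    fun hl z t => cN_mul hdim σ hσ hl z t
  have hb : a * b⁻¹ = y * x⁻¹ := by rw [← div_eq_mul_inv, ← div_eq_mul_inv, div_eq_div_iff_mul_eq_mul, hab, _root_.mul_comm]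
  -- the three classes
  have eA : ∀ z, cn (g - 1) (z * b⁻¹) = cn (r + 1) (z * a⁻¹) * (cn (g - 1 - r) y * (cn 1 x)⁻¹) := fun z => by
    have h1 : cn (g - 1 - r) y = cn (g - 2 - r) (y * x⁻¹) * cn 1 x := by
      conv_lhs => rw [← inv_mul_cancel_right y x]
      exact hmul (by omega) _ _
    rw [h1, mul_inv_cancel_right, ← hmul (show r + 1 + (g - 2 - r) = g - 1 by omega), ← hb, _root_.mul_assoc,
      inv_mul_cancel_left]
  have eB : ∀ z, cn r (z * (a * x)⁻¹) = cn (r + 1) (z * a⁻¹) * (cn 1 x)⁻¹ := fun z => by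
    rw [eq_mul_inv_iff_mul_eq, ← hmul rfl, mul_inv, ← _root_.mul_assoc, inv_mul_cancel_right]
  have eS : ∀ z, cn (g - 2) (κ * z⁻¹ * (y * a⁻¹)⁻¹) = KC (k := k) hdim * (cn (r + 1) (z * a⁻¹) * cn (g - 1 - r) y)⁻¹ :=
    fun z => by
    rw [eq_mul_inv_iff_mul_eq, ← hmul (show r + 1 + (g - 1 - r) = g by omega),
      ← hmul (show g - 2 + g = 2 * g - 2 by omega), ← hK]
    congr 1
    rw [_root_.mul_assoc κ, _root_.mul_assoc κ, ← mul_inv, _root_.mul_right_comm z a⁻¹ y, _root_.mul_assoc z y a⁻¹,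
      inv_mul_cancel, _root_.mul_one]
  let c := fun z => cn (r + 1) (z * a⁻¹) * cn (g - 1 - r) y
  let A := Set.range (trMap j (r + 1) a).left.base
  let B := Set.range (trMap j (g - 1) b).left.base
  let D := Set.range (trMap j r (a * x)).left.base
  let S := Set.range (refMap j (g - 2) (y * a⁻¹) κ).left.base
  show A ∩ B = D ∪ A ∩ S
  have P₀ : Torelli22.Pts k C := ⟨σ, hσ⟩
  have hX : ∀ z : 𝟙_ (Over (Spec (CommRingCat.of k))) ⟶ J, degC k (c z) = g := fun z => by
    simp only [c, cn, degC_mul hdim, degC_cN hdim σ hσ ψ hJ]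
    omega
  have hstar : ∀ z : 𝟙_ (Over (Spec (CommRingCat.of k))) ⟶ J, pt z.left ∈ S ↔ 2 ≤ h0C k (c z) ∨ False := fun z => by
    simp only [S, or_false]
    rw [pt_mem_refMap hdim σ hσ ψ hJ j hj, show cN hdim σ hσ ψ hJ (g - 2) _ = _ from eS z]
    have hr' := rr hdim P₀ (c z)
    rw [hX, hg] at hr'
    refine ⟨fun h => ?_, fun h => eff_of_h0_pos hdim _ _ ?_ ?_⟩
    · have := h.h0_pos hdim P₀
      simp only [c] at hr' ⊢
      omega
    · rw [degC_mul hdim, degC_KC hdim, degC_inv hdim, show degC k (cn (r + 1) (z * a⁻¹) * cn (g - 1 - r) y) = _ from hX z, hg]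
      omega
    · simp only [c] at hr' h
      omega
  obtain ⟨X, hXc⟩ := hx
  obtain ⟨Y, hYc⟩ := hy
  have hx' : cn 1 x = (P hdim (X 0))⁻¹ := by simpa [cn] using hXc
  have hD : ∀ z : 𝟙_ (Over (Spec (CommRingCat.of k))) ⟶ J, pt z.left ∈ D → pt z.left ∈ A ∧ pt z.left ∈ B := by
    intro z hz
    have h := (pt_mem_trMap hdim σ hσ ψ hJ j hj z (a * x)).1 hz
    have hE : Eff (k := k) hdim (r + 1) (cn (r + 1) (z * a⁻¹)) := by
      have := h.mul hdim (⟨X, hXc⟩ : Eff (k := k) hdim 1 (cn 1 x)) rfl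
      rwa [show cN hdim σ hσ ψ hJ r _ = _ from eB z, inv_mul_cancel_right] at this
    refine ⟨(pt_mem_trMap hdim σ hσ ψ hJ j hj z a).2 hE, (pt_mem_trMap hdim σ hσ ψ hJ j hj z b).2 ?_⟩
    have := h.mul hdim (⟨Y, hYc⟩ : Eff (k := k) hdim _ (cn (g - 1 - r) y)) (show r + (g - 1 - r) = g - 1 by omega)
    rw [show cN hdim σ hσ ψ hJ r _ = _ from eB z, mul_right_comm, _root_.mul_assoc, ← eA z] at this
    exact this
  have hS : ∀ z : 𝟙_ (Over (Spec (CommRingCat.of k))) ⟶ J, pt z.left ∈ A → pt z.left ∈ S → pt z.left ∈ B := by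
    intro z hA hs
    have h2 : 2 ≤ h0C k (c z) := ((hstar z).1 hs).resolve_right id
    refine (pt_mem_trMap hdim σ hσ ψ hJ j hj z b).2 ?_
    show Eff (k := k) hdim (g - 1) (cn (g - 1) (z * b⁻¹))
    rw [eA z, hx', inv_inv, ← _root_.mul_assoc]
    refine eff_of_h0_pos hdim _ _ ?_ ?_
    · rw [degC_mul hdim, degC_P hdim, hX]; omega
    · have := h0C_le_mul_P hdim (c z) (X 0)
      simp only [c] at this h2 ⊢
      omega
  refine Set.Subset.antisymm (range_inter_subset _ (isClosed_range _) ((isClosed_range _).union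
    ((isClosed_range _).inter (isClosed_range _))) fun w hw => ?_) (Set.union_subset
    (Set.subset_inter (range_subset _ (isClosed_range _) fun w => (hD _ (pt_comp_mem _ w)).1)
      (range_subset _ (isClosed_range _) fun w => (hD _ (pt_comp_mem _ w)).2))
    (Set.subset_inter Set.inter_subset_left (range_inter_subset _ (isClosed_range _) (isClosed_range _)
      fun w hw => hS _ (pt_comp_mem _ w) hw)))
  have hzA := pt_comp_mem (trMap j (r + 1) a) w
  generalize w ≫ trMap j (r + 1) a = z at hw hzA ⊢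
  by_cases h2 : 2 ≤ h0C k (c z)
  · exact Or.inr ⟨hzA, (hstar z).2 (Or.inl h2)⟩
  have hB : Eff (k := k) hdim (g - 1) (c z * P hdim (X 0)) := by
    have := (pt_mem_trMap hdim σ hσ ψ hJ j hj z b).1 hw
    rwa [show cN hdim σ hσ ψ hJ (g - 1) _ = _ from eA z, hx', inv_inv, ← _root_.mul_assoc] at this
  obtain ⟨E, hEc⟩ := (pt_mem_trMap hdim σ hσ ψ hJ j hj z a).1 hzA
  have hbad : ¬ Good (X 0) (c z) := fun hG => by
    have := h0C_drop hdim hG
    have := hB.h0_pos hdim P₀
    omega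
  by_cases hmem : ∃ i, X 0 = E i
  · obtain ⟨i, hi⟩ := hmem
    refine Or.inl ((pt_mem_trMap hdim σ hσ ψ hJ j hj z _).2 ⟨E ∘ i.succAbove, ?_⟩)
    rw [show cN hdim σ hσ ψ hJ r _ = _ from eB z, show cn (r + 1) (z * a⁻¹) = _ from hEc, hx', inv_inv,
      Fin.prod_univ_succAbove _ i, mul_inv, ← hi, mul_right_comm, inv_mul_cancel, _root_.one_mul]
    rfl
  exfalso
  obtain ⟨i, hi⟩ : ∃ i, X 0 = Y i := by
    by_contra hne
    push Not at hne hmem
    refine hbad ?_
    show Good (X 0) (cN hdim σ hσ ψ hJ (r + 1) (z * a⁻¹) * cN hdim σ hσ ψ hJ (g - 1 - r) y)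
    rw [hEc, hYc]
    exact (good_eff hdim (by omega) _ E hmem).mul hdim (good_eff hdim (by omega) _ Y hne)
  obtain ⟨m, hm⟩ : ∃ m, g - 1 - r = m + 1 := ⟨g - 2 - r, by omega⟩
  refine hnot (range_subset _ (isClosed_range _) fun v => ?_)
  have hv := (pt_mem_trMap hdim σ hσ ψ hJ j hj _ a).1 (pt_comp_mem (trMap j (r + 1) a) v)
  refine (pt_mem_trMap hdim σ hσ ψ hJ j hj _ b).2 ?_
  rw [show cN hdim σ hσ ψ hJ (g - 1) _ = _ from eA _]
  have hY' : Eff (k := k) hdim m (cn (g - 1 - r) y * (cn 1 x)⁻¹) := by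
    refine ⟨(Y ∘ Fin.cast hm.symm) ∘ (Fin.cast hm i).succAbove, ?_⟩
    rw [show cn (g - 1 - r) y = _ from hYc, hx', inv_inv, ← (finCongr hm.symm).prod_comp,
      Fin.prod_univ_succAbove _ (Fin.cast hm i), mul_inv, hi, mul_right_comm]
    simp
  exact hv.mul hdim hY' (by omega)

end Groth.Agent.S17822
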