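import Groth.Statements.S17823
import Groth.Agent.Lib.Riemann22.PtsProd
import Groth.Agent.S17819
import Groth.Agent.Lib.NodeBlow14.Centre
import Groth.Agent.Lib.PicSep22.Smooth
import Groth.Agent.Lib.VB17.SmoothDuality

set_option linter.style.haveILetI false
set_option backward.isDefEq.respectTransparency false
set_option backward.isDefEq.respectTransparency.types false
set_option maxHeartbeats 1000000
set_option autoImplicit false
universe u
open CategoryTheory CategoryTheory.Limits AlgebraicGeometry MonoidalCategory CartesianMonoidalCategory MonObj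
open JacVar

namespace Groth.Agent.S17823

open Groth.Agent Groth.Agent.JacPts22 Groth.Agent.Torelli22

/-- Let k be an algebraically closed field, C a smooth proper connected curve of genus g ≥ 2 over k with
a k-point P, (J, ψ) its Jacobian (a commutative group scheme over k, coarse moduli scheme on all
k-schemes for degree-0 line bundles modulo twisting from the base, group law induced by tensor
product) and j : C ⟶ J the Abel map with base point P. Write W^r ⊂ J for the image of the r-fold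
product C ×_k ⋯ ×_k C under (x_1, …, x_r) ↦ j(x_1) ⋯ j(x_r) (the image of the r-th symmetric power;
W^0 is the origin), and W^r_a for its translate by a k-point a of J. Let κ be the k-point of J given
by ψ on Ω_{C/k} ⊗ I_P^{⊗(2g−2)}. If a is a k-point of J such that W^1 = j(C) is not contained in
W^{g−1}_a, then there are k-points P_1, …, P_g of C, unique up to reordering, with j(P_1) ⋯ j(P_g) =
a·κ (the unique effective divisor D(a) of degree g whose class maps to a·κ), and W^1 · W^{g−1}_a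
regarded as a divisor on C equals D(a): the pullback along j of the ideal of the reduced closed
subscheme W^{g−1}_a is the product of the ideals of the points P_i. -/
theorem result (k : Type u) [Field k] [IsAlgClosed k]
    (C : Scheme.{u}) [C.Over (Spec (CommRingCat.of k))]
    [IsProper (C ↘ Spec (CommRingCat.of k))] [Smooth (C ↘ Spec (CommRingCat.of k))] [GeometricallyConnected (C ↘ Spec (CommRingCat.of k))]
    (hdim : topologicalKrullDim ↥C = 1)
    (g : ℕ) (hg : Curv2.genus k C = g) (hg2 : 2 ≤ g)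
    (σ : Spec (CommRingCat.of k) ⟶ C) (hσ : σ ≫ (C ↘ Spec (CommRingCat.of k)) = 𝟙 _)
    (J : Over (Spec (CommRingCat.of k))) [GrpObj J] [IsCommMonObj J]
    (ψ : (ModFun.PicDeg (C ↘ Spec (CommRingCat.of k)) 0).Hom ⊤ J) (hJ : Jac.IsJacobian (C ↘ Spec (CommRingCat.of k)) ⊤ J ψ)
    (j : Over.mk (C ↘ Spec (CommRingCat.of k)) ⟶ J) (hj : Jac.IsAbelJacobiAt (C ↘ Spec (CommRingCat.of k)) σ ψ j)
    (Kf : (PicF.XT (C ↘ Spec (CommRingCat.of k)) (𝟙_ (Over (Spec (CommRingCat.of k))))).Modules)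
    (hKf : Nonempty (Kf ≅ (Scheme.Modules.pullback (pullback.fst (C ↘ Spec (CommRingCat.of k)) (𝟙_ (Over (Spec (CommRingCat.of k)))).hom)).obj
      (CohB1.tensorMod (Omega.sheaf (C ↘ Spec (CommRingCat.of k))) (CohB1.tensorPow (ClSub.idealMod σ.ker) (2 * g - 2)))))
    (hT₁ : (⊤ : ObjectProperty (Over (Spec (CommRingCat.of k)))) (𝟙_ (Over (Spec (CommRingCat.of k))))) (hKok : (ModFun.PicDeg (C ↘ Spec (CommRingCat.of k)) 0).ok (𝟙_ (Over (Spec (CommRingCat.of k)))) Kf)
    (κ : (𝟙_ (Over (Spec (CommRingCat.of k)))) ⟶ J) (hκ : ψ.app (𝟙_ (Over (Spec (CommRingCat.of k)))) Kf hT₁ hKok = κ)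
    (a : (𝟙_ (Over (Spec (CommRingCat.of k)))) ⟶ J) (ha : ¬ (Set.range ((List.ofFn fun i : Fin 1 =>
        (Over.homMk (WidePullback.π (fun (_ : Fin 1) => (C ↘ Spec (CommRingCat.of k))) i)
          (WidePullback.π_arrow (fun (_ : Fin 1) => (C ↘ Spec (CommRingCat.of k))) i) : Over.mk (WidePullback.base fun (_ : Fin 1) => (C ↘ Spec (CommRingCat.of k))) ⟶ Over.mk (C ↘ Spec (CommRingCat.of k))) ≫ j).prod).left.base ⊆ ((Jac.transl J a).left.base '' Set.range ((List.ofFn fun i : Fin (g - 1) =>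
        (Over.homMk (WidePullback.π (fun (_ : Fin (g - 1)) => (C ↘ Spec (CommRingCat.of k))) i)
          (WidePullback.π_arrow (fun (_ : Fin (g - 1)) => (C ↘ Spec (CommRingCat.of k))) i) : Over.mk (WidePullback.base fun (_ : Fin (g - 1)) => (C ↘ Spec (CommRingCat.of k))) ⟶ Over.mk (C ↘ Spec (CommRingCat.of k))) ≫ j).prod).left.base))) :
    ∃ (D : Fin g → (Spec (CommRingCat.of k) ⟶ C)) (hD : ∀ i, D i ≫ (C ↘ Spec (CommRingCat.of k)) = 𝟙 _),
      (List.ofFn fun i : Fin g => (Over.homMk (D i) (hD i) : (𝟙_ (Over (Spec (CommRingCat.of k)))) ⟶ Over.mk (C ↘ Spec (CommRingCat.of k))) ≫ j).prod = a * κ ∧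
      (∀ (D' : Fin g → (Spec (CommRingCat.of k) ⟶ C)) (hD' : ∀ i, D' i ≫ (C ↘ Spec (CommRingCat.of k)) = 𝟙 _),
        (List.ofFn fun i : Fin g => (Over.homMk (D' i) (hD' i) : (𝟙_ (Over (Spec (CommRingCat.of k)))) ⟶ Over.mk (C ↘ Spec (CommRingCat.of k))) ≫ j).prod = a * κ → ∃ e : Equiv.Perm (Fin g), ∀ i, D' i = D (e i)) ∧
      (Scheme.IdealSheafData.vanishingIdeal ⟨closure ((Jac.transl J a).left.base '' Set.range ((List.ofFn fun i : Fin (g - 1) =>
        (Over.homMk (WidePullback.π (fun (_ : Fin (g - 1)) => (C ↘ Spec (CommRingCat.of k))) i)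
          (WidePullback.π_arrow (fun (_ : Fin (g - 1)) => (C ↘ Spec (CommRingCat.of k))) i) : Over.mk (WidePullback.base fun (_ : Fin (g - 1)) => (C ↘ Spec (CommRingCat.of k))) ⟶ Over.mk (C ↘ Spec (CommRingCat.of k))) ≫ j).prod).left.base), isClosed_closure⟩).comap j.left =
        ∏ i : Fin g, (D i).ker := by
  classical
  letI : ∀ Y : Scheme.{u}, PicGrp.Law Y := fun Y => Groth.Agent.M2.law Y
  haveI : IsIntegral C := VB17.isIntegral_of_smooth (k := k) (X := C)
  haveI : GeometricallyIntegral (C ↘ Spec (CommRingCat.of k)) := PicSep22.geometricallyIntegral_of_smooth _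
  obtain ⟨n, rfl⟩ : ∃ n, g = n + 1 := ⟨g - 1, by omega⟩
  have h19 := Groth.Agent.S17819.result k C hdim (n + 1) hg hg2 σ hσ J ψ hJ j hj Kf hKf hT₁ hKok κ hκ a⁻¹
  rw [inv_inv] at h19
  obtain ⟨hJp, -, hJg⟩ := jacobian_props hdim σ hσ hJ
  haveI := hJp
  haveI := hJg
  haveI : IsProper (pw k C n).hom := inferInstance
  have hcl : IsClosed (Set.range (sumMap j n).left.base) := JacPts22.isClosed_range (sumMap j n)
  set b := a * κ with hb
  let t : J ⟶ J := (𝟙 J)⁻¹ * (toUnit J ≫ b)
  have htt : t ≫ t = 𝟙 J := by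
    show t ≫ ((𝟙 J)⁻¹ * (toUnit J ≫ b)) = _
    rw [MonObj.comp_mul, GrpObj.comp_inv, Category.comp_id, ← Category.assoc t, toUnit_unique (t ≫ toUnit J) (toUnit J),
      mul_inv, inv_inv, inv_mul_cancel_right]
  haveI : IsIso t.left := ⟨t.left, by rw [← Over.comp_left, htt]; rfl, by rw [← Over.comp_left, htt]; rfl⟩
  have hp : ∀ p, t.left.base (t.left.base p) = p := fun p => by
    show (t.left ≫ t.left) p = p
    rw [← Over.comp_left, htt]; rfl
  have htr : Jac.transl J a⁻¹ ≫ (𝟙 J)⁻¹ ≫ Jac.transl J κ = t := by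
    rw [comp_transl, MonObj.comp_mul, GrpObj.comp_inv, Category.comp_id, ← Category.assoc (Jac.transl J a⁻¹),
      toUnit_unique (Jac.transl J a⁻¹ ≫ toUnit J) (toUnit J)]
    show (𝟙 J * (toUnit J ≫ a⁻¹))⁻¹ * _ = (𝟙 J)⁻¹ * (toUnit J ≫ b)
    rw [GrpObj.comp_inv, mul_inv, inv_inv, _root_.mul_assoc, ← MonObj.comp_mul]
  let vI := Scheme.IdealSheafData.vanishingIdeal (⟨_, hcl⟩ : TopologicalSpace.Closeds J.left)
  let W := (Jac.transl J a).left.base '' Set.range (sumMap j n).left.base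
  let vZ := Scheme.IdealSheafData.vanishingIdeal (⟨closure W, isClosed_closure⟩ : TopologicalSpace.Closeds J.left)
  have hW : W = t.left.base ⁻¹' Set.range (sumMap j n).left.base := by
    refine h19.symm.trans ?_
    rw [← Set.image_comp, ← Set.image_comp]
    show ((Jac.transl J a⁻¹) ≫ (𝟙 J)⁻¹ ≫ Jac.transl J κ).left.base '' _ = _
    rw [htr]
    exact congrFun (Set.image_eq_preimage_of_inverse hp hp) _
  have hvZ : vZ = vI.comap t.left :=
    (congrArg Scheme.IdealSheafData.vanishingIdeal (TopologicalSpace.Closeds.ext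
      (by show closure W = t.left.base ⁻¹' Set.range (sumMap j n).left.base; rw [hW, (hcl.preimage t.left.continuous).closure_eq]))).trans (NodeBlow14.comap_vanishingIdeal t.left ⟨_, hcl⟩).symm
  have hcomp : j ≫ t = Riemann22.hMap j b := by
    show j ≫ ((𝟙 J)⁻¹ * (toUnit J ≫ b)) = _
    rw [Riemann22.hMap, MonObj.comp_mul, GrpObj.comp_inv, Category.comp_id, ← Category.assoc j,
      toUnit_unique (j ≫ toUnit J) (toUnit _)]
  -- a point of the curve outside the translate
  obtain ⟨c, hout⟩ : ∃ c : 𝟙_ (Over (Spec (CommRingCat.of k))) ⟶ Over.mk (C ↘ Spec (CommRingCat.of k)),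
      CurvePts22.pt (c ≫ Riemann22.hMap j b).left ∉ Set.range (sumMap j n).left.base := by
    by_contra hne
    push Not at hne
    haveI : IsProper (pw k C 1).hom := inferInstance
    refine ha (range_subset (sumMap j 1) (by rw [image_eq_range]; exact JacPts22.isClosed_range _) fun x => ?_)
    show _ ∈ W
    rw [hW]
    have h := hne (x ≫ prj 0)
    rw [← hcomp] at h
    rw [Riemann22.comp_sumMap, Fin.prod_univ_one]
    rw [← Category.assoc] at h
    exact h
  -- Jacobi inversion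
  obtain ⟨y, hy⟩ : ∃ y : 𝟙_ (Over (Spec (CommRingCat.of k))) ⟶ pw k C (n + 1), y ≫ sumMap j (n + 1) = b := by
    refine exists_sum hdim σ hσ ψ hJ j hj (eff_of_h0_pos hdim _ _ (degC_cN hdim σ hσ ψ hJ _ _) ?_)
    have hr := rr hdim ⟨σ, hσ⟩ (cN hdim σ hσ ψ hJ (n + 1) b)
    rw [degC_cN, hg] at hr
    omega
  have hprod : ∀ (D : Fin (n + 1) → (Spec (CommRingCat.of k) ⟶ C)) (hD : ∀ i, D i ≫ (C ↘ Spec (CommRingCat.of k)) = 𝟙 _)
      (y : 𝟙_ (Over (Spec (CommRingCat.of k))) ⟶ pw k C (n + 1)), (∀ i, (y ≫ prj i).left = D i) →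
      (List.ofFn fun i : Fin (n + 1) => (Over.homMk (D i) (hD i) : (𝟙_ (Over (Spec (CommRingCat.of k)))) ⟶ Over.mk (C ↘ Spec (CommRingCat.of k))) ≫ j).prod =
        y ≫ sumMap j (n + 1) := fun D hD y hyD => by
    rw [Riemann22.comp_sumMap, List.prod_ofFn]
    exact Finset.prod_congr rfl fun i _ => congrArg (· ≫ j) (Over.OverMorphism.ext (hyD i).symm)
  refine ⟨fun i => (y ≫ prj i).left, fun i => Over.w (y ≫ prj i), (hprod _ _ y fun i => rfl).trans hy, ?_, ?_⟩
  · intro D' hD' hsum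
    let y' := mkPt (fun i => (⟨D' i, hD' i⟩ : Torelli22.Pts k C))
    have hy' : y' ≫ sumMap j (n + 1) = b := (hprod D' hD' y' fun i => WidePullback.lift_π _ _ _ _ i).symm.trans hsum
    have k1 := Riemann22.comap_theta_eq_prod hdim hσ hJ j hj hg hcl b ⟨c, hout⟩ y hy
    have k2 := Riemann22.comap_theta_eq_prod hdim hσ hJ j hj hg hcl b ⟨c, hout⟩ y' hy'
    obtain ⟨e, he⟩ := Riemann22.exists_perm_of_prod_eq hdim (fun i => y ≫ prj i) (fun i => y' ≫ prj i) (k1.symm.trans k2)
    exact ⟨e, fun i => (WidePullback.lift_π _ _ _ _ i).symm.trans (congrArg CommaMorphism.left (he i))⟩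
  · show vZ.comap j.left = _
    rw [hvZ, ← Scheme.IdealSheafData.comap_comp, ← Over.comp_left, hcomp,
      Riemann22.comap_theta_eq_prod hdim hσ hJ j hj hg hcl b ⟨c, hout⟩ y hy]

end Groth.Agent.S17823
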