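import Groth.Statements.S17824
import Groth.Agent.Lib.JacPts22.Vanish

set_option linter.style.haveILetI false
set_option backward.isDefEq.respectTransparency false
set_option backward.isDefEq.respectTransparency.types false
set_option maxHeartbeats 1000000
set_option autoImplicit false
universe u
open CategoryTheory CategoryTheory.Limits AlgebraicGeometry
open JacVar

namespace Groth.Agent.S17824

open MonoidalCategory CartesianMonoidalCategory Groth.Agent Groth.Agent.JacPts22 Groth.Agent.CurvePts22 Groth.Agent.Torelli22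

/-- Parts (a) and (b) over an algebraically closed field. Let C be a smooth proper connected curve of
genus g > 0 over an algebraically closed field k with a k-point P, and consider the 2g-fold fibre
power C ×_k ⋯ ×_k C, a k-rational point of which is a pair (D, D') of g-tuples of k-points (the
first g and the last g coordinates). (a) There is a nonempty open subset U of it such that for every
k-rational point (P_1, …, P_{2g}) of U and every invertible module M with M ⊗ I_{P_1} ⊗ ⋯ ⊗
I_{P_{2g}} ≅ I_P^{⊗g}, i.e. M ≅ O(D + D' − gP), one has h⁰(C, M) = 1. (b) There is a nonempty open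
subset V such that for every k-rational point of V and every invertible M with M ⊗ I_{P_{g+1}} ⊗ ⋯ ⊗
I_{P_{2g}} ⊗ I_P^{⊗g} ≅ I_{P_1} ⊗ ⋯ ⊗ I_{P_g}, i.e. M ≅ O(D' − D + gP), one has h⁰(C, M) = 1. (The
published lemma is phrased on C^(g) × C^(g), over the ground field, and for points with values in
every field containing it; this row takes k algebraically closed and k-points of the 2g-fold fibre
power.) -/
theorem result (k : Type u) [Field k] [IsAlgClosed k]
    (C : Scheme.{u}) [C.Over (Spec (CommRingCat.of k))]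
    [IsProper (C ↘ Spec (CommRingCat.of k))] [Smooth (C ↘ Spec (CommRingCat.of k))] [GeometricallyConnected (C ↘ Spec (CommRingCat.of k))]
    (hdim : topologicalKrullDim ↥C = 1)
    (g : ℕ) (hg : Curv2.genus k C = g) (hg1 : 1 ≤ g)
    (σ : Spec (CommRingCat.of k) ⟶ C) (hσ : σ ≫ (C ↘ Spec (CommRingCat.of k)) = 𝟙 _) :
    (∃ U : (SymProd.fibPow (C ↘ Spec (CommRingCat.of k)) (2 * g)).Opens, (U : Set ↥(SymProd.fibPow (C ↘ Spec (CommRingCat.of k)) (2 * g))).Nonempty ∧
      ∀ (x : Spec (CommRingCat.of k) ⟶ SymProd.fibPow (C ↘ Spec (CommRingCat.of k)) (2 * g))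
        (hx : x ≫ WidePullback.base (fun (_ : Fin (2 * g)) => (C ↘ Spec (CommRingCat.of k))) = 𝟙 _)
        (hxU : ∀ p, x.base p ∈ U) (M : C.Modules) (hM : PicF.IsInvertible M)
        (hMD : Nonempty (CohB1.tensorMod M (FGA.tensorList (List.ofFn fun i : Fin (2 * g) => ClSub.idealMod (x ≫ WidePullback.π (fun (_ : Fin (2 * g)) => (C ↘ Spec (CommRingCat.of k))) i).ker)) ≅
          CohB1.tensorPow (ClSub.idealMod σ.ker) g)),
        Module.finrank k (Coh.HH C M 0) = 1) ∧
    (∃ V : (SymProd.fibPow (C ↘ Spec (CommRingCat.of k)) (2 * g)).Opens, (V : Set ↥(SymProd.fibPow (C ↘ Spec (CommRingCat.of k)) (2 * g))).Nonempty ∧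
      ∀ (x : Spec (CommRingCat.of k) ⟶ SymProd.fibPow (C ↘ Spec (CommRingCat.of k)) (2 * g))
        (hx : x ≫ WidePullback.base (fun (_ : Fin (2 * g)) => (C ↘ Spec (CommRingCat.of k))) = 𝟙 _)
        (hxV : ∀ p, x.base p ∈ V) (M : C.Modules) (hM : PicF.IsInvertible M)
        (hMD : Nonempty (CohB1.tensorMod M (CohB1.tensorMod
            (FGA.tensorList (List.ofFn fun i : Fin g => ClSub.idealMod (x ≫ WidePullback.π (fun (_ : Fin (2 * g)) => (C ↘ Spec (CommRingCat.of k))) (Fin.cast (two_mul g).symm (Fin.natAdd g i))).ker))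
            (CohB1.tensorPow (ClSub.idealMod σ.ker) g)) ≅
          FGA.tensorList (List.ofFn fun i : Fin g => ClSub.idealMod (x ≫ WidePullback.π (fun (_ : Fin (2 * g)) => (C ↘ Spec (CommRingCat.of k))) (Fin.cast (two_mul g).symm (Fin.castAdd g i))).ker))),
        Module.finrank k (Coh.HH C M 0) = 1) := by
  haveI : IsIntegral C := VB17.isIntegral_of_smooth (k := k) (X := C)
  letI : ∀ Y : Scheme.{u}, PicGrp.Law Y := fun Y => Groth.Agent.M2.law Y
  let S₀ : Torelli22.Pts k C := ⟨σ, hσ⟩
  have one_of : ∀ (M : C.Modules) (hM : PicF.IsInvertible M), degC k (PicGrp.cls M hM) = g →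
      h0C k (KC (k := k) hdim * (PicGrp.cls M hM)⁻¹) = 0 → Module.finrank k (Coh.HH C M 0) = 1 := by
    intro M hM hd h0
    have := rr hdim S₀ (PicGrp.cls M hM)
    rw [h0, hd, hg] at this
    rw [← h0C_cls hM]
    omega
  have hK : h0C k (KC (k := k) hdim) = g := by
    have := rr hdim S₀ (KC (k := k) hdim)
    rw [mul_inv_cancel, h0C_one hdim S₀, degC_KC hdim, hg] at this
    omega
  have hPg : degC k (P hdim S₀ ^ g) = -(g : ℤ) := by rw [degC_pow hdim, degC_P hdim]; ring
  have hcl : PicGrp.cls _ (M2.isInvertible_tensorPow (Abel10.isInvertible_point hdim σ hσ) g) = P hdim S₀ ^ g :=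
    (Subtype.ext (PicGrp.cls_pow_val (Abel10.isInvertible_point hdim σ hσ) g)).symm
  have degP : ∀ (n : ℕ) (Q : Fin n → Torelli22.Pts k C), degC k (∏ i, P hdim (Q i)) = -(n : ℤ) := fun n Q => by
    have := (show Eff (k := k) hdim n (∏ i, P hdim (Q i))⁻¹ from ⟨Q, rfl⟩).deg hdim
    rw [degC_inv hdim] at this
    omega
  constructor
  · obtain ⟨U, hU⟩ := exists_open_h0_eq_zero (k := k) hdim (KC (k := k) hdim * (P hdim S₀ ^ g)⁻¹) (fun _ : Fin (2 * g) => 1)
    simp only [zpow_one] at hU
    refine ⟨U, ?_, fun x hx hxU M hM hMD => ?_⟩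
    · have hN : h0C k (KC (k := k) hdim * (P hdim S₀ ^ g)⁻¹) = 2 * g - 1 := by
        have := rr hdim S₀ (KC (k := k) hdim * (P hdim S₀ ^ g)⁻¹)
        rw [mul_inv, inv_inv, mul_inv_cancel_left, h0C_eq_zero_of_neg hdim (c := P hdim S₀ ^ g) (by rw [hPg]; omega),
          degC_mul hdim, degC_KC hdim, degC_inv hdim, hPg, hg] at this
        omega
      obtain ⟨Q, hQ⟩ := exists_drop_list (k := k) hdim (2 * g - 1) _ hN.ge
      refine ⟨_, (hU (mkPt (Fin.cons S₀ Q ∘ Fin.cast (show 2 * g = 2 * g - 1 + 1 by omega)))).2 ?_⟩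
      simp only [coord_mkPt, Function.comp_apply]
      rw [← Equiv.prod_comp (finCongr (show 2 * g - 1 + 1 = 2 * g by omega)), Fin.prod_univ_succ]
      simp only [finCongr_apply, Fin.cast_cast, Fin.cast_eq_self, Fin.cons_zero, Fin.cons_succ]
      rw [_root_.mul_comm (P hdim S₀) _, ← _root_.mul_assoc]
      have := h0C_mul_P_le hdim (KC (k := k) hdim * (P hdim S₀ ^ g)⁻¹ * ∏ i, P hdim (Q i)) S₀
      omega
    · let x' : 𝟙_ (Over (Spec (CommRingCat.of k))) ⟶ pw k C (2 * g) := Over.homMk x hx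
      have hT := (CurvePts22.deg_ptFn hdim (fun i => (coord x' i).1) fun i => (coord x' i).2).1
      obtain ⟨e⟩ := hMD
      have hc : PicGrp.cls M hM * ∏ i, P hdim (coord x' i) = P hdim S₀ ^ g := by
        rw [← cls_ptFn hdim _ (coord x') hT, AlgEquiv22.cls_tensor, ← hcl]
        exact (PicGrp.cls_eq_cls_iff _ _).2 ⟨e⟩
      rw [← eq_mul_inv_iff_mul_eq] at hc
      refine one_of M hM ?_ ?_
      · rw [hc, degC_mul hdim, degC_inv hdim, degP, hPg]; push_cast; ring
      · rw [hc, mul_inv, inv_inv, ← _root_.mul_assoc]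
        exact (hU x').1 (hxU _)
  · let ι₁ : Fin g → Fin (2 * g) := fun i => Fin.cast (two_mul g).symm (Fin.castAdd g i)
    let ι₂ : Fin g → Fin (2 * g) := fun i => Fin.cast (two_mul g).symm (Fin.natAdd g i)
    let ε : Fin (2 * g) → ℤ := fun i => if (i : ℕ) < g then -1 else 1
    have split : ∀ Q : Fin (2 * g) → Torelli22.Pts k C,
        ∏ i, P hdim (Q i) ^ ε i = (∏ i, P hdim (Q (ι₁ i)))⁻¹ * ∏ i, P hdim (Q (ι₂ i)) := fun Q => by
      rw [← Equiv.prod_comp (finCongr (two_mul g).symm), Fin.prod_univ_add, ← Finset.prod_inv_distrib]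
      congr 1 <;> refine Finset.prod_congr rfl fun i _ => ?_
      · simp [ε, ι₁]
      · simp [ε, ι₂]
    obtain ⟨U, hU⟩ := exists_open_h0_eq_zero (k := k) hdim (KC (k := k) hdim * P hdim S₀ ^ g) ε
    refine ⟨U, ?_, fun x hx hxU M hM hMD => ?_⟩
    · obtain ⟨Q, hQ⟩ := exists_drop_list (k := k) hdim g _ hK.ge
      refine ⟨_, (hU (mkPt (Fin.append (fun _ : Fin g => S₀) Q ∘ Fin.cast (two_mul g)))).2 ?_⟩
      simp only [coord_mkPt]
      rw [split]
      simp only [Function.comp_apply, ι₁, ι₂, Fin.cast_cast, Fin.cast_eq_self, Fin.append_left, Fin.append_right,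
        Finset.prod_const, Finset.card_univ, Fintype.card_fin]
      rw [_root_.mul_assoc, mul_inv_cancel_left]
      omega
    · let x' : 𝟙_ (Over (Spec (CommRingCat.of k))) ⟶ pw k C (2 * g) := Over.homMk x hx
      have h1 := (CurvePts22.deg_ptFn hdim (fun i => (coord x' (ι₁ i)).1) fun i => (coord x' (ι₁ i)).2).1
      have h2 := (CurvePts22.deg_ptFn hdim (fun i => (coord x' (ι₂ i)).1) fun i => (coord x' (ι₂ i)).2).1
      have hI := M2.isInvertible_tensorPow (Abel10.isInvertible_point hdim σ hσ) g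
      obtain ⟨e⟩ := hMD
      have hc : PicGrp.cls M hM * ((∏ i, P hdim (coord x' (ι₂ i))) * P hdim S₀ ^ g) = ∏ i, P hdim (coord x' (ι₁ i)) := by
        rw [← cls_ptFn hdim _ _ h1, ← cls_ptFn hdim _ _ h2, ← hcl, AlgEquiv22.cls_tensor, AlgEquiv22.cls_tensor]
        exact (PicGrp.cls_eq_cls_iff _ _).2 ⟨e⟩
      rw [← eq_mul_inv_iff_mul_eq] at hc
      refine one_of M hM ?_ ?_
      · rw [hc, degC_mul hdim, degC_inv hdim, degC_mul hdim, degP, degP, hPg]; ring
      · have h := (hU x').1 (hxU _)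
        rw [split] at h
        rw [hc, mul_inv, inv_inv]
        refine Eq.trans (congrArg (h0C k) ?_) h
        simp only [_root_.mul_assoc, _root_.mul_comm, _root_.mul_left_comm]

end Groth.Agent.S17824
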