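import Groth.Statements.S17825
import Mathlib.AlgebraicGeometry.Morphisms.Separated

set_option autoImplicit false
universe u
open CategoryTheory CategoryTheory.Limits AlgebraicGeometry
open JacVar

namespace Groth.Agent.S17825

/-- Let S be a scheme, Y an S-scheme separated over S, F a presheaf of sets on the category of
S-schemes, f : h_Y ⟶ F a morphism from the functor of points of Y, and s : F ⟶ h_Y a section of f (s
followed by f is the identity). Then F is represented by a closed subscheme of Y: there are an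
S-scheme Z, a morphism i : Z ⟶ Y over S which is a closed immersion, and an isomorphism F ≅ h_Z
whose composite with h_i : h_Z ⟶ h_Y is s. (The published lemma treats the case where Y is the r-th
symmetric power of a curve, F the functor of degree-r invertible families modulo twisting and f the
divisor-class map.) -/
theorem result {S : Scheme.{u}} (Y : Over S) [IsSeparated Y.hom]
    (F : (Over S)ᵒᵖ ⥤ Type u) (f : yoneda.obj Y ⟶ F) (s : F ⟶ yoneda.obj Y) (hsf : s ≫ f = 𝟙 F) :
    ∃ (Z : Over S) (i : Z ⟶ Y), IsClosedImmersion i.left ∧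
      ∃ e : F ≅ yoneda.obj Z, e.hom ≫ yoneda.map i = s := by
  obtain ⟨e₀, he₀⟩ := yoneda.map_surjective (f ≫ s)
  have hidem : e₀ ≫ e₀ = e₀ := yoneda.map_injective (by
    rw [yoneda.map_comp, he₀, Category.assoc, reassoc_of% hsf])
  let p : Y ⟶ equalizer e₀ (𝟙 Y) := equalizer.lift e₀ (by rw [hidem, Category.comp_id])
  have hpi : p ≫ equalizer.ι e₀ (𝟙 Y) = e₀ := equalizer.lift_ι _ _
  have hip : equalizer.ι e₀ (𝟙 Y) ≫ p = 𝟙 _ := equalizer.hom_ext (by
    rw [Category.assoc, hpi, Category.id_comp, equalizer.condition, Category.comp_id])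
  have h1 : (s ≫ yoneda.map p) ≫ (yoneda.map (equalizer.ι e₀ (𝟙 Y)) ≫ f) = 𝟙 F := by
    rw [Category.assoc, ← Category.assoc (yoneda.map p), ← yoneda.map_comp, hpi, he₀, Category.assoc, hsf,
      Category.comp_id, hsf]
  have h2 : (yoneda.map (equalizer.ι e₀ (𝟙 Y)) ≫ f) ≫ (s ≫ yoneda.map p) = 𝟙 _ := by
    rw [Category.assoc, ← Category.assoc f, ← he₀, ← yoneda.map_comp, ← yoneda.map_comp,
      show e₀ ≫ p = p from equalizer.hom_ext (by rw [Category.assoc, hpi, hidem]), hip, yoneda.map_id]
  refine ⟨equalizer e₀ (𝟙 Y), equalizer.ι e₀ (𝟙 Y), inferInstance, ⟨_, _, h1, h2⟩, ?_⟩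
  show (s ≫ yoneda.map p) ≫ yoneda.map (equalizer.ι e₀ (𝟙 Y)) = s
  rw [Category.assoc, ← yoneda.map_comp, hpi, he₀, reassoc_of% hsf]

end Groth.Agent.S17825
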