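import Groth.Statements.S17826
import Groth.Agent.Lib.JacBC22.ThetaClass
import Groth.Agent.Lib.JacBC22.DualProps
import Groth.Agent.Lib.RR22.Mumford
import Groth.Agent.Lib.RosTrace22.Lambda
import Groth.Agent.Lib.PtsDetect19.Basic

set_option linter.style.haveILetI false
set_option backward.isDefEq.respectTransparency false
set_option backward.isDefEq.respectTransparency.types false
set_option maxHeartbeats 1000000
set_option autoImplicit false
set_option synthInstance.maxHeartbeats 200000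
set_option maxHeartbeats 4000000
universe u
open CategoryTheory CategoryTheory.Limits AlgebraicGeometry MonoidalCategory CartesianMonoidalCategory MonObj
open JacVar

namespace Groth.Agent.S17826

open Groth.Agent Groth.Agent.Abel10 Groth.Agent.PicRep20 Groth.Agent.JacPts22 Groth.Agent.JacBC22
open scoped CategoryTheory.Obj

/-- Let C be a smooth proper geometrically connected curve of genus g > 0 over a field k with a
k-rational point P, (J, ψ) its Jacobian (a commutative group scheme over k, coarse moduli scheme on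
all k-schemes for degree-0 line bundles modulo twisting from the base, group law induced by tensor
product) with universal family M on C × J normalised along P × J and classified by the identity of
J, and j : C ⟶ J the Abel map with base point P. Let N be an invertible module of degree g − 1 on C
and Θ_J the theta line bundle on J (an invertible module inverse to the ideal of the closure of the
locus of classes ξ with a nonzero section of ξ ⊗ N — a translate of W^{g−1}, which has the same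
associated homomorphism). Let (Jt, φ) be an fppf dual of J with normalised Poincaré module 𝒫 on J ×
Jt, lam : J ⟶ Jt the homomorphism attached to Θ_J through φ, and fd : Jt ⟶ J a homomorphism such
that (1 × fd)^* M and (j × 1)^* 𝒫 have the same class on C × Jt. Then lam followed by fd is the
inversion of J and fd followed by lam is the inversion of Jt: −fd is inverse to lam, so lam is an
isomorphism. -/
theorem result (k : Type u) [Field k]
    (C : Scheme.{u}) [C.Over (Spec (CommRingCat.of k))]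
    [IsProper (C ↘ Spec (CommRingCat.of k))] [Smooth (C ↘ Spec (CommRingCat.of k))] [GeometricallyConnected (C ↘ Spec (CommRingCat.of k))]
    (hdim : topologicalKrullDim ↥C = 1)
    (g : ℕ) (hg : Curv2.genus k C = g) (hg1 : 1 ≤ g)
    (σ : Spec (CommRingCat.of k) ⟶ C) (hσ : σ ≫ (C ↘ Spec (CommRingCat.of k)) = 𝟙 _)
    (J : Over (Spec (CommRingCat.of k))) [GrpObj J] [IsCommMonObj J]
    (ψ : (ModFun.PicDeg (C ↘ Spec (CommRingCat.of k)) 0).Hom ⊤ J) (hJ : Jac.IsJacobian (C ↘ Spec (CommRingCat.of k)) ⊤ J ψ)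
    (Pu : (PicF.XT (C ↘ Spec (CommRingCat.of k)) J).Modules) (hPu : ModFun.IsUnivFamily ⊤ (ModFun.PicDeg (C ↘ Spec (CommRingCat.of k)) 0) J Pu)
    (hPn : Jac.IsNormAlong (C ↘ Spec (CommRingCat.of k)) σ hσ J Pu)
    (hT : (⊤ : ObjectProperty (Over (Spec (CommRingCat.of k)))) J) (hPuψ : ψ.app J Pu hT hPu.1 = 𝟙 J)
    (j : Over.mk (C ↘ Spec (CommRingCat.of k)) ⟶ J) (hj : Jac.IsAbelJacobiAt (C ↘ Spec (CommRingCat.of k)) σ ψ j)
    (N : C.Modules) (hN : PicF.IsInvertible N) (hNdeg : Curv2.deg k C N 1 = (g : ℤ) - 1)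
    (ΘJ : J.left.Modules) (hΘJ : Jac.IsThetaLB (C ↘ Spec (CommRingCat.of k)) 0 ψ N ΘJ)
    (Jt : Over (Spec (CommRingCat.of k))) [GrpObj Jt] [IsCommMonObj Jt]
    (φ : AgPol.DualMap J Jt) (hJt : AbDual.IsDualAV Scheme.fppfPrecoverage J Jt φ)
    (P : (PicF.XT J.hom Jt).Modules) (hP : PicF.IsInvertible P) (hPP : AbDual.IsPoincareCl J Jt φ (PicF.cl P))
    (lam : J ⟶ Jt) (hlam : AgPol.IsLambda J Jt φ ΘJ lam)
    (fd : Jt ⟶ J) [IsMonHom fd]
    (hfd : PicF.cl ((Scheme.Modules.pullback (PicF.XTmap (C ↘ Spec (CommRingCat.of k)) fd)).obj Pu) =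
      PicF.cl ((Scheme.Modules.pullback (AbDual.bcMap j Jt)).obj P)) :
    lam ≫ fd = (𝟙 J)⁻¹ ∧ fd ≫ lam = (𝟙 Jt)⁻¹ := by
  classical
  letI : ∀ Y : Scheme.{u}, PicGrp.Law Y := fun Y => Groth.Agent.M2.law Y
  haveI : IsIntegral C := VB17.isIntegral_of_smooth (k := k) (X := C)
  haveI : GeometricallyIntegral (C ↘ Spec (CommRingCat.of k)) := PicSep22.geometricallyIntegral_of_smooth _
  obtain ⟨hJp, hJs, hJg⟩ := jacobian_props hdim σ hσ hJ
  haveI := hJp; haveI := hJs; haveI := hJg
  haveI : IsSeparated J.hom := AbRigid.isSeparated_of_grpObj J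
  haveI : GeometricallyConnected J.hom := (DualAV22.smooth_gc (A := J)).2
  let pC := C ↘ Spec (CommRingCat.of k)
  let K := AlgebraicClosure k
  let γb := βa k
  obtain ⟨n, rfl⟩ : ∃ n, g = n + 1 := ⟨g - 1, by omega⟩
  obtain ⟨i1, i2, i3, i4, i5, hdimK, hgK⟩ := setup γb hdim
  haveI := i1; haveI := i2; haveI := i3; haveI := i4; haveI := i5
  obtain ⟨-, -, -, ξ, hξ, hψ⟩ := exists_fine _ hdim σ hσ J ψ hJ.coarse.2.1
  obtain ⟨ψK, hJK, hψK⟩ := exists_jacobian_bc γb hdim hdimK hξ hψ hJ
  obtain ⟨σK, hσK, jK, hfst, hjK, hflj⟩ := exists_abel_bc γb hdim hdimK hξ hψ hψK hJK hσ hj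
  obtain ⟨hamp, hbil⟩ := theta_bc hdim hJ hσ hj hdimK hJK hσK hjK hflj hg (hgK.trans hg) hN
    (by rw [hNdeg]; push_cast; ring) hΘJ
  obtain ⟨hJtp, hJts⟩ := dual_props hJt hamp hlam
  haveI := hJtp; haveI := hJts
  haveI : IsSeparated Jt.hom := AbRigid.isSeparated_of_grpObj Jt
  haveI : Surjective lam.left := DualAV22.surjective_lam hJt hamp hlam
  obtain ⟨NΛ, hNΛ, hs, rfl⟩ := hlam
  haveI hlamhom : IsMonHom (φ J (PicF.cl NΛ)) := AgPol22.isMonHom_phi hJt hΘJ.1 hNΛ hs
  set lam := φ J (PicF.cl NΛ) with hlamdef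
  let c := PicGrp.cls ΘJ hΘJ.1
  have hNc : (PicGrp.cls NΛ hNΛ : PicLoc.PicSet (J ⊗ J).left) = RR22.mumC c :=
    (RosTrace22.isLambdaSheaf_iff hΘJ.1 hNΛ).1 hs
  have hΛP : PicF.cl NΛ = PicF.pullCl (J ◁ lam).left (PicF.cl P) :=
    RR22.cl_eq_pull_poincare (c := c) hJt (AgPol22.picZero_mum hΘJ.1 hNΛ hs) (congrArg Subtype.val hNc) hPP
  -- lam followed by fd, as the classifying morphism of a family
  obtain ⟨LP, hLP, hLPc⟩ := PicGrp.exists_eq_cls (PicGrp.cls NΛ hNΛ)
  let famPu := famCls pC 0 hPu.1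
  have hid : classify hξ famPu (degCl_famCls pC hdim 0 hPu.1) = 𝟙 J := by
    rw [← hψ J Pu hPu.1]; exact hPuψ
  have hM : pc (PicF.XTmap pC (lam ≫ fd)) famPu = pc (AbDual.bcMap j J) (PicGrp.cls NΛ hNΛ) := by
    rw [← pc_map_map pC lam fd]
    have h1 : pc (PicF.XTmap pC fd) famPu = pc (AbDual.bcMap j Jt) (PicGrp.cls P hP) := by
      refine Subtype.ext ?_
      exact hfd
    rw [h1]
    refine (pc_comp _ _ rfl _).trans ?_
    have h2 : PicF.XTmap pC lam ≫ AbDual.bcMap j Jt = AbDual.bcMap j J ≫ (J ◁ lam).left := by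
      apply pullback.hom_ext <;> simp [PicF.XTmap, AbDual.bcMap, pullback.map]
      all_goals first
        | exact pullback.lift_snd _ _ _
        | exact pullback.lift_fst _ _ _
        | (erw [pullback.lift_fst_assoc]; done)
        | (erw [pullback.lift_snd_assoc]; done)
        | (rw [← Category.assoc]; refine congrArg (· ≫ _) ?_; exact pullback.lift_fst _ _ _)
    rw [h2]
    refine (pc_comp _ _ rfl _).symm.trans (congrArg (pc (AbDual.bcMap j J)) ?_)
    exact Subtype.ext hΛP.symm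
  have hlf : lam ≫ fd = (𝟙 J)⁻¹ := by
    haveI := AbRigid.geometricallyReduced_of_smooth J.hom
    refine PtsDetect19.hom_ext_points K _ _ fun w => ?_
    obtain ⟨z, rfl⟩ := flPt_surjective γb w
    let b : Over.mk γb ⟶ J := flPt γb z
    show b ≫ lam ≫ fd = b ≫ (𝟙 J)⁻¹
    rw [GrpObj.comp_inv, Category.comp_id]
    have hd : ∀ t, PicTan20.degCl pC J t (pc (PicF.XTmap pC (lam ≫ fd)) famPu).1 = 0 := fun t =>
      (PicTan20.degCl_pull _ _ t famPu.2).trans (degCl_famCls pC hdim 0 hPu.1 _)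
    have e1 : lam ≫ fd = classify hξ (pc (PicF.XTmap pC (lam ≫ fd)) famPu) hd := by
      rw [classify_pc hξ (lam ≫ fd) famPu (degCl_famCls pC hdim 0 hPu.1) hd, hid, Category.comp_id]
    have hd' : ∀ t, PicTan20.degCl pC (Over.mk γb) t
        (pc (PicF.XTmap pC b) (pc (PicF.XTmap pC (lam ≫ fd)) famPu)).1 = 0 := fun t =>
      (PicTan20.degCl_pull _ b t (pc (PicF.XTmap pC (lam ≫ fd)) famPu).2).trans (hd _)
    rw [e1, ← classify_pc hξ b _ hd hd']
    show _ = (flPt γb z)⁻¹
    rw [show (flPt γb z)⁻¹ = flPt γb z⁻¹ from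
      (map_inv (MonoidHom.mk' (flPt γb) (flPt_mul γb) : (𝟙_ (Over (Spec (CommRingCat.of K))) ⟶ Red.bc γb J) →* (Over.mk γb ⟶ J)) z).symm]
    refine (flPt_eq_classify γb hdim hdimK hξ hψK hJK z⁻¹ _ ?_ _).symm
    rw [map_inv, ← hbil z, hM, hNc]
    -- the two readings of the class
    let pK := CK γb C ↘ Spec (CommRingCat.of K)
    let G : Over.mk pK ⟶ Red.bc γb J := toUnit _ ≫ z
    let F' : (Over.map γb).obj (Over.mk pK) ⟶ J := DiagGL.fl γb J jK
    let G' : (Over.map γb).obj (Over.mk pK) ⟶ J := DiagGL.fl γb J G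
    have hjmap : jK = (Over.pullback γb).map j := by
      haveI : IsSeparated (Red.bc γb J).hom := AbRigid.isSeparated_of_grpObj _
      haveI : IsProper (Over.mk pK).hom := i1
      haveI : Smooth (Over.mk pK).hom := i2
      haveI := AbRigid.geometricallyReduced_of_smooth (Over.mk pK).hom
      refine PtsDetect19.hom_ext_points K _ _ fun v => ?_
      let x : 𝟙_ (Over (Spec (CommRingCat.of K))) ⟶ Over.mk pK := Over.homMk v.left (by
        refine (Over.w v).trans ?_
        show Spec.map (CommRingCat.ofHom (algebraMap K K)) = 𝟙 _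
        simp)
      have h2 : x ≫ jK = x ≫ (Over.pullback γb).map j := by
        refine flPt_injective γb ((hflj x).trans (Over.OverMorphism.ext ?_))
        show (x.left ≫ pullback.fst pC γb) ≫ j.left = 𝟙 _ ≫ (x.left ≫ ((Over.pullback γb).map j).left) ≫ pullback.fst J.hom γb
        rw [Category.id_comp, Category.assoc, Category.assoc]
        exact congrArg (x.left ≫ ·) (pullback.lift_fst _ _ _).symm
      exact Over.OverMorphism.ext (congrArg (fun f : 𝟙_ (Over (Spec (CommRingCat.of K))) ⟶ Red.bc γb J => f.left) h2)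
    have hF : F'.left = pullback.fst pC γb ≫ j.left := by
      show jK.left ≫ pullback.fst J.hom γb = _
      rw [hjmap]
      exact pullback.lift_fst _ _ _
    have hG : G'.left = pullback.snd pC γb ≫ (flPt γb z).left := by
      show ((toUnit (Over.mk pK)).left ≫ z.left) ≫ pullback.fst J.hom γb = _ ≫ (𝟙 _ ≫ z.left ≫ pullback.fst J.hom γb)
      rw [Category.id_comp, Category.assoc, Over.toUnit_left]
      rfl
    have hpb : ∀ F : Over.mk pK ⟶ Red.bc γb J,
        AlgEquiv22.pb F (pc (Y' := (Red.bc γb J).left) (pullback.fst J.hom γb) c) = AlgEquiv22.pb (DiagGL.fl γb J F) c :=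
      fun F => pc_comp _ _ rfl c
    symm
    show pc (PicF.XTmap pC (flPt γb z)) (pc (AbDual.bcMap j J) (RR22.mumC c)) =
      Index22.bil (pc (Y' := (Red.bc γb J).left) (pullback.fst J.hom γb) c) jK G
    rw [Index22.bil, hpb, hpb, hpb, DiagGL.fl_mul]
    have hh : PicF.XTmap pC (flPt γb z) ≫ AbDual.bcMap j J = (lift F' G').left := by
      apply pullback.hom_ext
      · refine Eq.trans ?_ (congrArg (fun f : (Over.map γb).obj (Over.mk pK) ⟶ J => f.left) (lift_fst F' G')).symm
        rw [hF, Category.assoc, AbDual.bcMap, pullback.lift_fst, ← Category.assoc]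
        exact congrArg (· ≫ j.left) (HilbBC25.XTmap_fst pC _)
      · refine Eq.trans ?_ (congrArg (fun f : (Over.map γb).obj (Over.mk pK) ⟶ J => f.left) (lift_snd F' G')).symm
        rw [hG, Category.assoc, AbDual.bcMap, pullback.lift_snd, Category.comp_id]
        exact pullback.lift_snd _ _ _
    refine (pc_comp _ _ hh (RR22.mumC c)).trans ?_
    show AlgEquiv22.pb (lift F' G') (RR22.mumC c) = _
    rw [RR22.mumC, map_mul, map_mul, map_inv, map_inv, AlgEquiv22.pb_pb, AlgEquiv22.pb_pb, AlgEquiv22.pb_pb,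
      MonObj.comp_mul, lift_fst, lift_snd, mul_inv, ← _root_.mul_assoc]
  refine ⟨hlf, ?_⟩
  haveI := AbRigid.geometricallyReduced_of_smooth Jt.hom
  refine PtsDetect19.hom_ext_points K _ _ fun w => ?_
  let v : Over.mk γb ⟶ Jt := w
  obtain ⟨y, hy⟩ := exists_lift_pt lam v (lam.left.surjective _)
  show v ≫ fd ≫ lam = v ≫ (𝟙 Jt)⁻¹
  rw [← hy, Category.assoc, ← Category.assoc lam fd, hlf, ← Category.assoc y, GrpObj.comp_inv, Category.comp_id,
    GrpObj.comp_inv, Category.comp_id, GrpObj.inv_comp]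

end Groth.Agent.S17826
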