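import Groth.Statements.S17827
import Groth.Agent.Lib.Riemann22.Poincare
import Groth.Agent.Lib.NodeBlow14.Centre
import Groth.Agent.Lib.BlowUp26.Basic
import Groth.Agent.Lib.PicSep22.Smooth
import Groth.Agent.Lib.VB17.SmoothDuality

set_option linter.style.haveILetI false
set_option backward.isDefEq.respectTransparency false
set_option backward.isDefEq.respectTransparency.types false
set_option maxHeartbeats 1000000
set_option autoImplicit false
universe u
open CategoryTheory CategoryTheory.Limits AlgebraicGeometry MonoidalCategory CartesianMonoidalCategory MonObj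
open JacVar

namespace Groth.Agent.S17827

open Groth.Agent Groth.Agent.JacPts22 Groth.Agent.Torelli22

/-- Let k be an algebraically closed field, C a smooth proper connected curve of genus g ≥ 1 over k with
a k-point P, (J, ψ) its Jacobian (a commutative group scheme over k, coarse moduli scheme on all
k-schemes for degree-0 line bundles modulo twisting from the base, group law induced by tensor
product) with universal family M on C × J normalised along P × J and classified by the identity of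
J, and j : C ⟶ J the Abel map with base point P. Let Θ = W^{g−1} ⊂ J be the image of the (g −
1)-fold product of C under (x_i) ↦ Π j(x_i), Θ⁻ its image under inversion, L(Θ⁻) an invertible
module on J inverse to the ideal of the reduced closed subscheme Θ⁻, and Λ an invertible module on J
× J with Λ ⊗ pr₁^* L(Θ⁻) ⊗ pr₂^* L(Θ⁻) ≅ m^* L(Θ⁻), m the group law (the sheaf m^*L(Θ⁻) ⊗
pr₁^*L(Θ⁻)⁻¹ ⊗ pr₂^*L(Θ⁻)⁻¹). Then the pullback of Λ along j × (−1) : C × J ⟶ J × J is isomorphic to
M. -/
theorem result (k : Type u) [Field k] [IsAlgClosed k]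
    (C : Scheme.{u}) [C.Over (Spec (CommRingCat.of k))]
    [IsProper (C ↘ Spec (CommRingCat.of k))] [Smooth (C ↘ Spec (CommRingCat.of k))] [GeometricallyConnected (C ↘ Spec (CommRingCat.of k))]
    (hdim : topologicalKrullDim ↥C = 1)
    (g : ℕ) (hg : Curv2.genus k C = g) (hg1 : 1 ≤ g)
    (σ : Spec (CommRingCat.of k) ⟶ C) (hσ : σ ≫ (C ↘ Spec (CommRingCat.of k)) = 𝟙 _)
    (J : Over (Spec (CommRingCat.of k))) [GrpObj J] [IsCommMonObj J]
    (ψ : (ModFun.PicDeg (C ↘ Spec (CommRingCat.of k)) 0).Hom ⊤ J) (hJ : Jac.IsJacobian (C ↘ Spec (CommRingCat.of k)) ⊤ J ψ)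
    (j : Over.mk (C ↘ Spec (CommRingCat.of k)) ⟶ J) (hj : Jac.IsAbelJacobiAt (C ↘ Spec (CommRingCat.of k)) σ ψ j)
    (Pu : (PicF.XT (C ↘ Spec (CommRingCat.of k)) J).Modules) (hPu : ModFun.IsUnivFamily ⊤ (ModFun.PicDeg (C ↘ Spec (CommRingCat.of k)) 0) J Pu)
    (hPn : Jac.IsNormAlong (C ↘ Spec (CommRingCat.of k)) σ hσ J Pu)
    (hT : (⊤ : ObjectProperty (Over (Spec (CommRingCat.of k)))) J) (hPuψ : ψ.app J Pu hT hPu.1 = 𝟙 J)
    (LΘm : J.left.Modules) (hLΘm : PicF.IsInvertible LΘm)
    (hLΘmI : ClSub.IsInverseOf LΘm (ClSub.idealMod (Scheme.IdealSheafData.vanishingIdeal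
      ⟨closure (((𝟙 J)⁻¹).left.base '' Set.range ((List.ofFn fun i : Fin (g - 1) =>
        (Over.homMk (WidePullback.π (fun (_ : Fin (g - 1)) => (C ↘ Spec (CommRingCat.of k))) i)
          (WidePullback.π_arrow (fun (_ : Fin (g - 1)) => (C ↘ Spec (CommRingCat.of k))) i) : Over.mk (WidePullback.base fun (_ : Fin (g - 1)) => (C ↘ Spec (CommRingCat.of k))) ⟶ Over.mk (C ↘ Spec (CommRingCat.of k))) ≫ j).prod).left.base), isClosed_closure⟩)))
    (Λ : (PicF.XT J.hom J).Modules) (hΛ : PicF.IsInvertible Λ)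
    (hΛL : AgPol.IsLambdaSheaf (μ[J].left : PicF.XT J.hom J ⟶ J.left) (fst J J).left (snd J J).left LΘm Λ) :
    Nonempty ((Scheme.Modules.pullback (PicF.XTmap (C ↘ Spec (CommRingCat.of k)) ((𝟙 J)⁻¹) ≫ AbDual.bcMap j J)).obj Λ ≅ Pu) := by
  classical
  letI : ∀ Y : Scheme.{u}, PicGrp.Law Y := fun Y => Groth.Agent.M2.law Y
  haveI : IsIntegral C := VB17.isIntegral_of_smooth (k := k) (X := C)
  haveI : GeometricallyIntegral (C ↘ Spec (CommRingCat.of k)) := PicSep22.geometricallyIntegral_of_smooth _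
  obtain ⟨n, rfl⟩ : ∃ n, g = n + 1 := ⟨g - 1, by omega⟩
  obtain ⟨hJp, hJs, hJg⟩ := jacobian_props hdim σ hσ hJ
  haveI := hJp
  haveI := hJg
  haveI : IsProper (pw k C n).hom := inferInstance
  have hcl : IsClosed (Set.range (sumMap j n).left.base) := JacPts22.isClosed_range (sumMap j n)
  let vI := Scheme.IdealSheafData.vanishingIdeal (⟨_, hcl⟩ : TopologicalSpace.Closeds J.left)
  have hE : BlowUp.IsEffCartierIdeal vI := Riemann22.isEffCartierIdeal_theta hdim hσ hJ j hj hg hcl
  let t : J ⟶ J := (𝟙 J)⁻¹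
  have htt : t ≫ t = 𝟙 J := by
    show t ≫ (𝟙 J)⁻¹ = _
    rw [GrpObj.comp_inv, Category.comp_id, inv_inv]
  haveI : IsIso t.left := ⟨t.left, by rw [← Over.comp_left, htt]; rfl, by rw [← Over.comp_left, htt]; rfl⟩
  have hp : ∀ p, t.left.base (t.left.base p) = p := fun p => by
    show (t.left ≫ t.left) p = p
    rw [← Over.comp_left, htt]; rfl
  let W := ((𝟙 J)⁻¹).left.base '' Set.range (sumMap j n).left.base
  have hW : closure W = t.left.base ⁻¹' Set.range (sumMap j n).left.base := by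
    rw [show W = t.left.base ⁻¹' Set.range (sumMap j n).left.base from congrFun (Set.image_eq_preimage_of_inverse hp hp) _,
      (hcl.preimage t.left.continuous).closure_eq]
  let vZ := Scheme.IdealSheafData.vanishingIdeal (⟨closure W, isClosed_closure⟩ : TopologicalSpace.Closeds J.left)
  have hvZ : vZ = vI.comap t.left :=
    (congrArg Scheme.IdealSheafData.vanishingIdeal (TopologicalSpace.Closeds.ext hW)).trans
      (NodeBlow14.comap_vanishingIdeal t.left ⟨_, hcl⟩).symm
  have hE' : BlowUp.IsEffCartierIdeal (vI.comap t.left) := BlowUp26.isEffCartierIdeal_comap_flat hE t.left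
  have hZ : BlowUp.IsEffCartierIdeal vZ := by rw [hvZ]; exact hE'
  have hL : PicGrp.cls LΘm hLΘm = AlgEquiv22.pb t (PicGrp.cls _ (M2.isInvertible_idealMod _ hE))⁻¹ := by
    rw [map_inv]
    refine eq_inv_of_mul_eq_one_left ?_
    have e : AlgEquiv22.pb t (PicGrp.cls _ (M2.isInvertible_idealMod _ hE)) = PicGrp.cls _ (M2.isInvertible_idealMod _ hZ) :=
      (Riemann22.cls_comap t.left hE hE').trans (Riemann22.cls_congr hvZ hZ hE').symm
    rw [e]
    exact (PicGrp.cls_mul_cls_eq_one_iff hLΘm _).2 hLΘmI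
  have hΛc : PicGrp.cls Λ hΛ = Index22.bil (PicGrp.cls LΘm hLΘm) (fst J J) (snd J J) := by
    refine eq_mul_inv_of_mul_eq ?_
    rw [show fst J J * snd J J = μ[J] by rw [Hom.mul_def, lift_fst_snd, Category.id_comp]]
    rw [AlgEquiv22.pb, AlgEquiv22.pb, AlgEquiv22.pb, PicGrp.pullHom_cls, PicGrp.pullHom_cls, PicGrp.pullHom_cls,
      ← _root_.mul_assoc]
    have h1 := PicLoc.isInvertible_pullback (fst J J).left hLΘm
    have h2 := PicLoc.isInvertible_pullback (snd J J).left hLΘm
    have h12 := M2.isInvertible_tensor hΛ h1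
    show PicGrp.cls (Y := (J ⊗ J).left) Λ hΛ * PicGrp.cls _ h1 * PicGrp.cls _ h2 = _
    rw [AlgEquiv22.cls_tensor hΛ h1, AlgEquiv22.cls_tensor h12 h2]
    exact (PicGrp.cls_eq_cls_iff _ _).2 hΛL
  refine Riemann22.iso_univFamily hdim hσ hJ j hj hg hcl hE hPu hPn hT hPuψ (PicLoc.isInvertible_pullback _ hΛ) ?_
  rw [← hL, ← hΛc, Abel10.pc]
  exact (PicGrp.pullHom_cls _ _ _ _).symm

end Groth.Agent.S17827
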