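import Groth.Statements.S17828
import Groth.Agent.Lib.JacBC22.Geom

set_option linter.style.haveILetI false
set_option backward.isDefEq.respectTransparency false
set_option backward.isDefEq.respectTransparency.types false
set_option maxHeartbeats 1000000
set_option autoImplicit false
set_option synthInstance.maxHeartbeats 200000
universe u
open CategoryTheory CategoryTheory.Limits AlgebraicGeometry MonoidalCategory CartesianMonoidalCategory MonObj
open JacVar

namespace Groth.Agent.S17828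

open Groth.Agent Groth.Agent.JacPts22 Groth.Agent.CurvePts22 Groth.Agent.Torelli22 Groth.Agent.JacBC22

/-- The case of curves with rational points. Let k be a perfect field, C and C' smooth proper
geometrically connected curves of the same genus g ≥ 2 over k with k-rational points P and P', (J,
ψ) and (J', ψ') their Jacobians (commutative group schemes over k, coarse moduli schemes on all
k-schemes for degree-0 line bundles modulo twisting from the base, group law induced by tensor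
product), N and N' invertible modules of degree g − 1 on C and C', and Θ ⊂ J, Θ' ⊂ J' the theta loci
of N and N' (closures of the loci of classes ξ with a nonzero global section of ξ ⊗ N, resp. ξ ⊗
N'). If β : J ≅ J' is an isomorphism of group schemes over k mapping Θ onto the translate of Θ' by a
k-rational point of J' — for curves with rational points this is an isomorphism of the canonically
polarized Jacobians over k — then C and C' are isomorphic over k. (The published corollary does not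
assume rational points on C and C'; it is stated here for curves having them, through which the
theta divisors are defined over k.) -/
theorem result (k : Type u) [Field k] [PerfectField k]
    (C : Scheme.{u}) [C.Over (Spec (CommRingCat.of k))]
    [IsProper (C ↘ Spec (CommRingCat.of k))] [Smooth (C ↘ Spec (CommRingCat.of k))] [GeometricallyConnected (C ↘ Spec (CommRingCat.of k))]
    (hdim : topologicalKrullDim ↥C = 1)
    (C' : Scheme.{u}) [C'.Over (Spec (CommRingCat.of k))]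
    [IsProper (C' ↘ Spec (CommRingCat.of k))] [Smooth (C' ↘ Spec (CommRingCat.of k))] [GeometricallyConnected (C' ↘ Spec (CommRingCat.of k))]
    (hdim' : topologicalKrullDim ↥C' = 1)
    (g : ℕ) (hg : Curv2.genus k C = g) (hg' : Curv2.genus k C' = g) (hg2 : 2 ≤ g)
    (σ : Spec (CommRingCat.of k) ⟶ C) (hσ : σ ≫ (C ↘ Spec (CommRingCat.of k)) = 𝟙 _) (σ' : Spec (CommRingCat.of k) ⟶ C') (hσ' : σ' ≫ (C' ↘ Spec (CommRingCat.of k)) = 𝟙 _)
    (J : Over (Spec (CommRingCat.of k))) [GrpObj J] [IsCommMonObj J]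
    (ψ : (ModFun.PicDeg (C ↘ Spec (CommRingCat.of k)) 0).Hom ⊤ J) (hJ : Jac.IsJacobian (C ↘ Spec (CommRingCat.of k)) ⊤ J ψ)
    (J' : Over (Spec (CommRingCat.of k))) [GrpObj J'] [IsCommMonObj J']
    (ψ' : (ModFun.PicDeg (C' ↘ Spec (CommRingCat.of k)) 0).Hom ⊤ J') (hJ' : Jac.IsJacobian (C' ↘ Spec (CommRingCat.of k)) ⊤ J' ψ')
    (N : C.Modules) (hN : PicF.IsInvertible N) (hNdeg : Curv2.deg k C N 1 = (g : ℤ) - 1)
    (N' : C'.Modules) (hN' : PicF.IsInvertible N') (hNdeg' : Curv2.deg k C' N' 1 = (g : ℤ) - 1)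
    (β : J ≅ J') [IsMonHom β.hom] (c₀ : 𝟙_ (Over (Spec (CommRingCat.of k))) ⟶ J')
    (hβ : β.hom.left.base '' Jac.thetaLocus (C ↘ Spec (CommRingCat.of k)) 0 ψ N =
      (Jac.transl J' c₀).left.base ⁻¹' Jac.thetaLocus (C' ↘ Spec (CommRingCat.of k)) 0 ψ' N') :
    ∃ α : C ≅ C', α.hom ≫ (C' ↘ Spec (CommRingCat.of k)) = (C ↘ Spec (CommRingCat.of k)) := by
  classical
  letI : ∀ Y : Scheme.{u}, PicGrp.Law Y := fun Y => Groth.Agent.M2.law Y
  haveI : IsIntegral C := VB17.isIntegral_of_smooth (k := k) (X := C)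
  haveI : IsIntegral C' := VB17.isIntegral_of_smooth (k := k) (X := C')
  haveI : GeometricallyIntegral (C ↘ Spec (CommRingCat.of k)) := PicSep22.geometricallyIntegral_of_smooth _
  haveI : GeometricallyIntegral (C' ↘ Spec (CommRingCat.of k)) := PicSep22.geometricallyIntegral_of_smooth _
  obtain ⟨hJp, -, -⟩ := jacobian_props hdim σ hσ hJ
  obtain ⟨hJp', -, -⟩ := jacobian_props hdim' σ' hσ' hJ'
  haveI := hJp; haveI := hJp'
  haveI : IsSeparated J.hom := AbRigid.isSeparated_of_grpObj J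
  haveI : IsSeparated J'.hom := AbRigid.isSeparated_of_grpObj J'
  obtain ⟨L, hL, hLok⟩ := exists_ajFamily hdim σ hσ
  obtain ⟨j, hj⟩ : ∃ j, Jac.IsAbelJacobiAt (C ↘ Spec (CommRingCat.of k)) σ ψ j :=
    ⟨ψ.app _ L trivial hLok, trivial, L, hLok, hL, rfl⟩
  obtain ⟨L', hL', hLok'⟩ := exists_ajFamily hdim' σ' hσ'
  obtain ⟨j', hj'⟩ : ∃ j', Jac.IsAbelJacobiAt (C' ↘ Spec (CommRingCat.of k)) σ' ψ' j' :=
    ⟨ψ'.app _ L' trivial hLok', trivial, L', hLok', hL', rfl⟩
  haveI : IsClosedImmersion j.left := isClosedImmersion_abel hdim σ hσ hJ j hj (by omega)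
  haveI : IsClosedImmersion j'.left := isClosedImmersion_abel hdim' σ' hσ' hJ' j' hj' (by omega)
  let γb := βa k
  let Tb := Over.mk γb
  obtain ⟨-, -, -, iK, -, hdimK, -⟩ := setup γb hdim
  obtain ⟨-, -, -, iK', -, hdimK', -⟩ := setup γb hdim'
  haveI := iK; haveI := iK'
  obtain ⟨⟨S₀, hS⟩, hstab₀⟩ := exists_sys_geom γb hdim hJ hσ hj hg hg2
  obtain ⟨⟨T, hT⟩, hstab'⟩ := exists_sys_geom γb hdim' hJ' hσ' hj' hg' hg2
  let e : (Tb ⟶ J') ≃* (Tb ⟶ J) :=
    { toFun := fun w => w ≫ β.inv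
      invFun := fun z => z ≫ β.hom
      left_inv := fun w => by simp
      right_inv := fun z => by simp
      map_mul' := fun w w' => by
        rw [← cancel_mono β.hom, MonObj.mul_comp]
        try simp }
  let S : Sys (ClG γb J') g := Sys.map e (fun F hF => clG_preimage γb β.inv hF)
    (fun F hF => clG_preimage γb β.hom hF) S₀
  have hSW : ∀ m w, w ∈ S.W m ↔ ∃ y : Tb ⟶ pw k C m, y ≫ sumMap j m = w ≫ β.inv := fun m w => hS m _
  obtain ⟨n, rfl⟩ : ∃ n, g = n + 1 := ⟨g - 1, by omega⟩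
  obtain ⟨a, ha⟩ := thetaLocus_eq_range hdim hJ hσ hj hg hN (by rw [hNdeg]; push_cast; ring)
  obtain ⟨a', ha'⟩ := thetaLocus_eq_range hdim' hJ' hσ' hj' hg' hN' (by rw [hNdeg']; push_cast; ring)
  let cl := IsLocalRing.closedPoint (AlgebraicClosure k)
  have key : ∀ v : Tb ⟶ J', v * ((toUnit Tb ≫ c₀) * (toUnit Tb ≫ a')) ∈ T.W n ↔
      v * ((toUnit Tb ≫ a) ≫ β.hom) ∈ S.W n := fun v => by
    rw [hT, hSW, show (v * ((toUnit Tb ≫ a) ≫ β.hom)) ≫ β.inv = (v ≫ β.inv) * (toUnit Tb ≫ a) from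
      (e.map_mul _ _).trans (congrArg _ (e.apply_symm_apply _))]
    have h1 : (∃ y : Tb ⟶ pw k C' n, y ≫ sumMap j' n = v * ((toUnit Tb ≫ c₀) * (toUnit Tb ≫ a'))) ↔
        (v ≫ Jac.transl J' c₀).left cl ∈ Jac.thetaLocus (C' ↘ Spec (CommRingCat.of k)) 0 ψ' N' := by
      rw [ha']
      constructor
      · rintro ⟨y, hy⟩
        have : y ≫ trMap j' n a'⁻¹ = v ≫ Jac.transl J' c₀ := by
          rw [← Category.assoc, comp_transl, comp_transl, hy, GrpObj.comp_inv, ← _root_.mul_assoc v, mul_inv_cancel_right]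
        rw [← this]
        exact ⟨y.left.base cl, rfl⟩
      · intro h
        obtain ⟨y, hy⟩ := exists_lift_pt (trMap j' n a'⁻¹) (v ≫ Jac.transl J' c₀) h
        rw [← Category.assoc, comp_transl, comp_transl, GrpObj.comp_inv, mul_inv_eq_iff_eq_mul] at hy
        exact ⟨y, hy.trans (_root_.mul_assoc _ _ _)⟩
    have h2 : (∃ y : Tb ⟶ pw k C n, y ≫ sumMap j n = (v ≫ β.inv) * (toUnit Tb ≫ a)) ↔
        (v ≫ β.inv).left cl ∈ Jac.thetaLocus (C ↘ Spec (CommRingCat.of k)) 0 ψ N := by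
      rw [ha]
      constructor
      · rintro ⟨y, hy⟩
        have : y ≫ trMap j n a⁻¹ = v ≫ β.inv := by
          rw [← Category.assoc, comp_transl, hy, GrpObj.comp_inv, mul_inv_cancel_right]
        rw [← this]
        exact ⟨y.left.base cl, rfl⟩
      · intro h
        obtain ⟨y, hy⟩ := exists_lift_pt (trMap j n a⁻¹) (v ≫ β.inv) h
        rw [← Category.assoc, comp_transl, GrpObj.comp_inv, mul_inv_eq_iff_eq_mul] at hy
        exact ⟨y, hy⟩
    rw [h1, h2]
    refine Iff.trans (Set.ext_iff.1 hβ (v.left cl)).symm ⟨?_, fun hz => ⟨(v ≫ β.inv).left cl, hz, ?_⟩⟩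
    · rintro ⟨q, hq, hqz⟩
      have : (v ≫ β.inv).left cl = q := by
        show β.inv.left.base (v.left cl) = q
        rw [← hqz]
        show (β.hom.left ≫ β.inv.left).base q = q
        rw [← Over.comp_left, β.hom_inv_id]
        rfl
      rw [this]
      exact hq
    · show ((v ≫ β.inv) ≫ β.hom).left.base _ = _
      rw [Category.assoc, β.inv_hom_id, Category.comp_id]
  have hc : ∀ z, z ∈ T.W (n + 1 - 1) ↔
      z * (((toUnit Tb ≫ c₀) * (toUnit Tb ≫ a'))⁻¹ * ((toUnit Tb ≫ a) ≫ β.hom)) ∈ S.W (n + 1 - 1) := fun z => by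
    rw [Nat.add_sub_cancel, ← _root_.mul_assoc z, ← key, inv_mul_cancel_right]
  have hT1 : ∀ w, w ∈ T.W 1 ↔ ∃ y, y ≫ j' = w := fun w => by
    rw [hT, show sumMap j' 1 = prj 0 ≫ j' by simp [sumMap]]
    refine ⟨fun ⟨y, hy⟩ => ⟨y ≫ prj 0, (Category.assoc _ _ _).trans hy⟩, fun ⟨y, hy⟩ =>
      ⟨Over.homMk (WidePullback.lift γb (fun _ => y.left) fun _ => Over.w y) (WidePullback.lift_base _ _ _ _), ?_⟩⟩
    rw [← Category.assoc, ← hy]
    exact congrArg (· ≫ j') (Over.OverMorphism.ext (WidePullback.lift_π _ _ _ _ _))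
  have hS1 : ∀ w, w ∈ S.W 1 ↔ ∃ y, y ≫ j ≫ β.hom = w := fun w => by
    rw [hSW, show sumMap j 1 = prj 0 ≫ j by simp [sumMap]]
    refine ⟨fun ⟨y, hy⟩ => ⟨y ≫ prj 0, ?_⟩, fun ⟨y, hy⟩ =>
      ⟨Over.homMk (WidePullback.lift γb (fun _ => y.left) fun _ => Over.w y) (WidePullback.lift_base _ _ _ _), ?_⟩⟩
    · rw [← Category.assoc, Category.assoc y, hy, Category.assoc, β.inv_hom_id, Category.comp_id]
    · rw [← Category.assoc, ← hy, Category.assoc y, Category.assoc j, β.hom_inv_id, Category.comp_id]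
      exact congrArg (· ≫ j) (Over.OverMorphism.ext (WidePullback.lift_π _ _ _ _ _))
  haveI : IsIso β.hom.left := (inferInstance : IsIso ((Over.forget _).map β.hom))
  have hinv : IsIso ((𝟙 J')⁻¹ : J' ⟶ J').left := by
    have h2 : ((𝟙 J')⁻¹ : J' ⟶ J') ≫ (𝟙 J')⁻¹ = 𝟙 J' := by rw [GrpObj.comp_inv, Category.comp_id, inv_inv]
    exact ⟨_, by rw [← Over.comp_left, h2]; rfl, by rw [← Over.comp_left, h2]; rfl⟩
  haveI := hinv
  haveI : IsClosedImmersion (j ≫ β.hom).left := inferInstanceAs (IsClosedImmersion (j.left ≫ β.hom.left))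
  haveI : IsClosedImmersion ((j ≫ β.hom) ≫ (𝟙 J')⁻¹).left :=
    inferInstanceAs (IsClosedImmersion ((j ≫ β.hom).left ≫ ((𝟙 J')⁻¹ : J' ⟶ J').left))
  haveI : IsClosedImmersion (j' ≫ (𝟙 J')⁻¹).left :=
    inferInstanceAs (IsClosedImmersion (j'.left ≫ ((𝟙 J')⁻¹ : J' ⟶ J').left))
  have hstab : ∀ t, (∀ y, ∃ y', (y ≫ j ≫ β.hom) * t = y' ≫ j ≫ β.hom) →
      (∀ y, ∃ y', (y ≫ j ≫ β.hom) * t⁻¹ = y' ≫ j ≫ β.hom) → t = 1 := fun t h h' => by
    refine e.injective ((hstab₀ (e t) (fun y => ?_) fun y => ?_).trans (map_one e).symm)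
    · obtain ⟨y', hy'⟩ := h y
      refine ⟨y', ?_⟩
      have h3 := congrArg e hy'
      rwa [map_mul, show e (y ≫ j ≫ β.hom) = y ≫ j by simp [e], show e (y' ≫ j ≫ β.hom) = y' ≫ j by simp [e]] at h3
    · obtain ⟨y', hy'⟩ := h' y
      refine ⟨y', ?_⟩
      have h3 := congrArg e hy'
      rwa [map_mul, map_inv, show e (y ≫ j ≫ β.hom) = y ≫ j by simp [e], show e (y' ≫ j ≫ β.hom) = y' ≫ j by simp [e]] at h3
  have flip : ∀ {X : Over (Spec (CommRingCat.of k))} (G : X ⟶ J'),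
      (∀ t : Tb ⟶ J', (∀ y, ∃ y', (y ≫ G) * t = y' ≫ G) → (∀ y, ∃ y', (y ≫ G) * t⁻¹ = y' ≫ G) → t = 1) →
      ∀ t : Tb ⟶ J', (∀ y, ∃ y', (y ≫ G ≫ (𝟙 J')⁻¹) * t = y' ≫ G ≫ (𝟙 J')⁻¹) →
        (∀ y, ∃ y', (y ≫ G ≫ (𝟙 J')⁻¹) * t⁻¹ = y' ≫ G ≫ (𝟙 J')⁻¹) → t = 1 := by
    intro X G hG t h h'
    simp only [GrpObj.comp_inv, Category.comp_id] at h h'
    refine hG t (fun y => ?_) fun y => ?_
    · obtain ⟨y', hy'⟩ := h' y
      exact ⟨y', by rw [← inv_inj, mul_inv]; exact hy'⟩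
    · obtain ⟨y', hy'⟩ := h y
      exact ⟨y', by rw [← inv_inj, mul_inv, inv_inv]; exact hy'⟩
  rcases combi (fun F (hF : ClG γb J' F) => clG_inv γb hF) S T hg2 hc with ⟨b, hb⟩ | ⟨b, hb⟩ | ⟨b, hb⟩ | ⟨b, hb⟩
  · refine exists_iso_of_translate hdim hdim' hdimK hdimK' (j ≫ β.hom) j' hstab' (b := b) fun y => ?_
    obtain ⟨x, hx⟩ := (hS1 _).1 (hb _ ((hT1 _).2 ⟨y, rfl⟩))
    exact ⟨x, hx.symm⟩
  · refine exists_iso_of_translate hdim hdim' hdimK hdimK' (j ≫ β.hom) (j' ≫ (𝟙 J')⁻¹) (flip j' hstab') (b := b) fun y => ?_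
    obtain ⟨x, hx⟩ := (hS1 _).1 (hb _ ((hT1 _).2 ⟨y, rfl⟩))
    exact ⟨x, by simp only [GrpObj.comp_inv, Category.comp_id]; exact hx.symm⟩
  · obtain ⟨α, hα⟩ := exists_iso_of_translate hdim' hdim hdimK' hdimK j' (j ≫ β.hom) hstab (b := b) fun y => by
      obtain ⟨x, hx⟩ := (hT1 _).1 (hb _ ((hS1 _).2 ⟨y, rfl⟩))
      exact ⟨x, hx.symm⟩
    exact ⟨α.symm, by rw [← hα]; exact Iso.inv_hom_id_assoc _ _⟩
  · obtain ⟨α, hα⟩ := exists_iso_of_translate hdim' hdim hdimK' hdimK j' ((j ≫ β.hom) ≫ (𝟙 J')⁻¹) (flip (j ≫ β.hom) hstab) (b := b) fun y => by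
      obtain ⟨x, hx⟩ := (hT1 _).1 (hb _ ((hS1 _).2 ⟨y, rfl⟩))
      exact ⟨x, by simp only [GrpObj.comp_inv, Category.comp_id]; exact hx.symm⟩
    exact ⟨α.symm, by rw [← hα]; exact Iso.inv_hom_id_assoc _ _⟩

end Groth.Agent.S17828
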