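import Groth.Statements.S17829
import Groth.Agent.Lib.AVTrace22.Main
import Groth.Agent.Lib.AVDegree22.CharPoly
import Groth.Agent.Lib.PicSep22.Smooth
import Groth.Agent.Lib.TateTors22.Divisible
import Groth.Agent.Lib.JacPts22.CurveSection

set_option linter.style.haveILetI false
set_option backward.isDefEq.respectTransparency false
set_option maxHeartbeats 1000000
set_option autoImplicit false
universe u
open CategoryTheory CategoryTheory.Limits AlgebraicGeometry MonoidalCategory CartesianMonoidalCategory MonObj
open JacVar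

namespace Groth.Agent.S17829

open Groth.Agent

private theorem over_eq_of_hom {S X : Scheme.{u}} (inst : X.Over S) (f : X ⟶ S) (h : X ↘ S = f) : inst = ⟨f⟩ := by
  cases inst; subst h; rfl

private theorem isInvertible_inverse {X : Scheme.{u}} {L Linv : X.Modules} (hL : PicF.IsInvertible L)
    (h : Nonempty (CohB1.tensorMod L Linv ≅ Coh.structureModule X)) : PicF.IsInvertible Linv :=
  M2.isInvertible_of_tensor_iso hL (M2.tensorComm _ _ ≪≫ h.some)

/-- A denotes a g-dimensional abelian variety over the field k (a commutative group scheme, proper,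
smooth and geometrically irreducible over k), L an ample invertible module on A with an inverse L⁻¹
(its class H), and α an endomorphism of A. Let ℓ be a prime invertible in k and Ω an algebraically
closed field over k, and let T be the ℓ-adic Tate module of the Ω-valued points of A, assumed finite
free over ℤ_ℓ (as it is, of rank 2g), so that Tr(α) is the trace of T_ℓ(α) on T. Write D_H(α) for
the class of (α + 1)^* L ⊗ α^* L⁻¹ ⊗ L⁻¹, whose inverse module is (α + 1)^* L⁻¹ ⊗ α^* L ⊗ L. Then
Tr(α) · (H^g) = g · (H^{g−1} · D_H(α)), where the intersection numbers are the alternating sums of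
Euler characteristics of tensor products of the inverse modules; that is, Tr(α) = g (H^{g−1} ·
D_H(α)) / (H^g). -/
theorem result (k : Type u) [Field k]
    (A : Over (Spec (CommRingCat.of k))) [GrpObj A] [IsCommMonObj A]
    [IsProper A.hom] [Smooth A.hom] [GeometricallyIrreducible A.hom]
    [A.left.Over (Spec (CommRingCat.of k))] (hA : A.left ↘ Spec (CommRingCat.of k) = A.hom)
    (g : ℕ) (hg : topologicalKrullDim ↥A.left = g)
    (L Linv : A.left.Modules) (hL : PicF.IsInvertible L) (hLinv : Nonempty (CohB1.tensorMod L Linv ≅ Coh.structureModule A.left))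
    (hamp : CohB1.IsAmple L)
    (α : A ⟶ A) [IsMonHom α]
    (l : ℕ) [Fact l.Prime] (hl : (l : k) ≠ 0)
    (Ω : Type u) [Field Ω] [IsAlgClosed Ω] [Algebra k Ω]
    [Module.Free ℤ_[l] (AbDual.TateMod A l (Over.mk (Spec.map (CommRingCat.ofHom (algebraMap k Ω)))))] [Module.Finite ℤ_[l] (AbDual.TateMod A l (Over.mk (Spec.map (CommRingCat.ofHom (algebraMap k Ω)))))] :
    (LinearMap.trace ℤ_[l] (AbDual.TateMod A l (Over.mk (Spec.map (CommRingCat.ofHom (algebraMap k Ω))))) (AbDual.tateMapₗ (A := A) (l := l) (T := (Over.mk (Spec.map (CommRingCat.ofHom (algebraMap k Ω))))) α)) *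
      (FGA.intNum k A.left g (fun _ : Fin g => Linv) (Coh.structureModule A.left) : ℤ_[l]) =
    (g : ℤ_[l]) * (FGA.intNum k A.left g
      (fun i : Fin g => if (i : ℕ) = 0 then
        CohB1.tensorMod ((Scheme.Modules.pullback (α * 𝟙 A).left).obj Linv)
          (CohB1.tensorMod ((Scheme.Modules.pullback α.left).obj L) L)
        else Linv) (Coh.structureModule A.left) : ℤ_[l]) := by
  haveI : IrreducibleSpace ↥A.left := GeometricallyIrreducible.irreducibleSpace_of_subsingleton A.hom
  haveI : GeometricallyConnected A.hom := PicPn.geometricallyConnected_of_irreducible A.hom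
  haveI : GeometricallyIntegral A.hom := PicSep22.geometricallyIntegral_of_smooth A.hom
  haveI : IsIntegral A.left := GeometricallyIntegral.isIntegral_of_subsingleton A.hom
  letI : ∀ Y : Scheme.{u}, PicGrp.Law Y := fun Y => Groth.Agent.M2.law Y
  obtain rfl := over_eq_of_hom _ _ hA
  cases g with
  | zero =>
    have hr : Module.finrank ℤ_[l] (AbDual.TateMod A l (SGA7.pt (K := k) Ω)) = 2 * 0 :=
      TateTors22.finrank_tateMod (A := A) Ω l hl hg
    haveI : Subsingleton (AbDual.TateMod A l (Over.mk (Spec.map (CommRingCat.ofHom (algebraMap k Ω))))) :=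
      Module.finrank_zero_iff.1 hr
    rw [Subsingleton.elim (AbDual.tateMapₗ (A := A) (l := l) (T := (Over.mk (Spec.map (CommRingCat.ofHom (algebraMap k Ω))))) α) 0,
      map_zero, zero_mul, Nat.cast_zero, zero_mul]
  | succ h =>
    let β : EndAV.End A := EndAV.End.of α
    obtain ⟨P, hPm, hPd, hPe, hPc⟩ := AVDegree22.exists_int_charpoly (K := Ω) (l := l) hl hg β
    have hrank := TateTors22.finrank_tateMod (A := A) Ω l hl hg
    let b := Module.finBasisOfFinrankEq ℤ_[l] (AbDual.TateMod A l (SGA7.pt (K := k) Ω)) hrank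
    haveI : Nonempty (Fin (2 * (h + 1))) := ⟨⟨0, by omega⟩⟩
    have htr : LinearMap.trace ℤ_[l] _ (EndAV.End.tateRep l (SGA7.pt (K := k) Ω) β) =
        ((-P.coeff (2 * h + 1) : ℤ) : ℤ_[l]) := by
      rw [LinearMap.trace_eq_matrix_trace ℤ_[l] b, Matrix.trace_eq_neg_charpoly_coeff, LinearMap.charpoly_toMatrix,
        hPc, Polynomial.coeff_map, Fintype.card_fin, show 2 * (h + 1) - 1 = 2 * h + 1 by omega]
      simp
    set d : PicLoc.PicSet A.left := PicGrp.cls Linv (isInvertible_inverse hL hLinv) with hd
    have hLd : PicGrp.cls L hL = d⁻¹ :=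
      eq_inv_of_mul_eq_one_left ((PicGrp.cls_mul_cls_eq_one_iff hL _).2 hLinv)
    have key := AVTrace22.coeff_mul_intNum Ω hg β d ((P.map (Int.castRingHom ℚ)).comp (-Polynomial.X)) (fun j => ?_)
      (fun i : Fin (h + 1) => if (i : ℕ) = 0 then
        CohB1.tensorMod ((Scheme.Modules.pullback (α * 𝟙 A).left).obj Linv)
          (CohB1.tensorMod ((Scheme.Modules.pullback α.left).obj L) L)
        else Linv) (fun i => ?_) ?_ (fun i => ?_) Linv (isInvertible_inverse hL hLinv) rfl
    rotate_left
    · rw [Polynomial.eval_comp, Polynomial.eval_neg, Polynomial.eval_X, ← Int.cast_natCast, ← Int.cast_neg,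
        ← eq_intCast (Int.castRingHom ℚ) (-(j : ℤ)), Polynomial.eval_map_apply, hPe, eq_intCast, Int.cast_neg,
        sub_neg_eq_add]
    · split_ifs with h0
      · exact M2.isInvertible_tensor (PicLoc.isInvertible_pullback _ (isInvertible_inverse hL hLinv))
          (M2.isInvertible_tensor (PicLoc.isInvertible_pullback _ hL) hL)
      · exact isInvertible_inverse hL hLinv
    · apply Subtype.ext
      simp only [Fin.val_zero, if_true, PicGrp.cls_val, Index22.bil]
      rw [show β.toHom = α from rfl, AlgEquiv22.pb_id, mul_inv, ← map_inv, ← hLd, hd]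
      simp only [AlgEquiv22.pb, PicGrp.pullHom_cls, PicGrp.mul_val, PicGrp.cls_val, PicGrp.mulCl_cl]
    · apply Subtype.ext
      simp only [Fin.val_succ, Nat.succ_ne_zero, if_false, hd, PicGrp.cls_val]
    rw [show ((-Polynomial.X : Polynomial ℚ)) = Polynomial.C (-1) * Polynomial.X by simp,
      Polynomial.comp_C_mul_X_coeff, Polynomial.coeff_map, Odd.neg_one_pow ⟨h, rfl⟩, eq_intCast, mul_neg, _root_.mul_one,
      ← Int.cast_neg, ← Int.cast_natCast, ← Int.cast_mul, ← Int.cast_mul, Int.cast_inj] at key
    have e := congrArg (Int.cast : ℤ → ℤ_[l]) key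
    rw [Int.cast_mul, Int.cast_mul, ← htr, Int.cast_natCast] at e
    exact e

end Groth.Agent.S17829
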