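import Groth.Prelude.Def_AutSch
import Groth.Prelude.Def_Omega3
import Groth.Prelude.Def_Coh
import Mathlib.AlgebraicGeometry.Morphisms.Proper
import Mathlib.AlgebraicGeometry.Morphisms.FormallyUnramified
import Mathlib.AlgebraicGeometry.Morphisms.FiniteType
import Mathlib.Topology.KrullDimension
import Groth.Agent.Lib.DefAut3.Bwd
import Groth.Agent.Lib.GrpUnr20.Basic
import Mathlib.RingTheory.Ideal.IdempotentFG
import Mathlib.LinearAlgebra.Basis.VectorSpace
-- import your own Groth.Agent.* helpers here

namespace AutSch
end AutSch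

set_option autoImplicit false
set_option linter.style.haveILetI false
set_option backward.isDefEq.respectTransparency false
set_option backward.isDefEq.respectTransparency.types false
universe u
open CategoryTheory MonoidalCategory CartesianMonoidalCategory MonObj GrpObj AlgebraicGeometry
open AutSch

namespace Groth.Agent.S17831

/-- A rational point at which every first order tangent vector vanishes is open. -/
theorem isOpenImmersion_of_section {k : Type u} [Field k] {Y : Scheme.{u}} (y : Y ⟶ Spec (CommRingCat.of k))
    [LocallyOfFiniteType y] (s : Spec (CommRingCat.of k) ⟶ Y) (hs : s ≫ y = 𝟙 _)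
    (H : ∀ g : Spec (CommRingCat.of (DualNumber k)) ⟶ Y,
      g ≫ y = Spec.map (CommRingCat.ofHom (algebraMap k (DualNumber k))) →
      Spec.map (CommRingCat.ofHom (TrivSqZeroExt.fstHom k k k).toRingHom) ≫ g = s →
      g = Spec.map (CommRingCat.ofHom (algebraMap k (DualNumber k))) ≫ s) : IsOpenImmersion s := by
  obtain ⟨V, hV, hpV, -⟩ := exists_isAffineOpen_mem_and_subset (X := Y) (x := s (IsLocalRing.closedPoint k))
    (U := ⊤) trivial
  have hrange : Set.range s ⊆ Set.range hV.fromSpec := by
    rintro _ ⟨q, rfl⟩
    rw [Subsingleton.elim (α := PrimeSpectrum k) q (IsLocalRing.closedPoint k), hV.range_fromSpec]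
    exact hpV
  obtain ⟨ev, hev⟩ : ∃ ev : Γ(Y, V) ⟶ CommRingCat.of k, Spec.map ev ≫ hV.fromSpec = s :=
    ⟨Spec.preimage (IsOpenImmersion.lift hV.fromSpec s hrange), by
      rw [Spec.map_preimage, IsOpenImmersion.lift_fac]⟩
  obtain ⟨φ, hφ⟩ : ∃ φ : CommRingCat.of k ⟶ Γ(Y, V), Spec.map φ = hV.fromSpec ≫ y :=
    ⟨_, Spec.map_preimage _⟩
  have hevφ : φ ≫ ev = 𝟙 _ := Spec.map_injective (by rw [Spec.map_comp, hφ, ← Category.assoc, hev, hs, Spec.map_id])
  have hft : φ.hom.FiniteType := (HasRingHomProperty.Spec_iff (P := @LocallyOfFiniteType)).1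
    (by rw [hφ]; infer_instance)
  algebraize [φ.hom]
  haveI : IsNoetherianRing Γ(Y, V) := Algebra.FiniteType.isNoetherianRing k _
  let e : Γ(Y, V) →ₐ[k] k := { ev.hom with
    commutes' := fun c => (congrArg (fun m : CommRingCat.of k ⟶ CommRingCat.of k => m.hom c) hevφ :) }
  have heval : ∀ c, e (algebraMap k Γ(Y, V) c) = c := fun c => e.commutes c
  set m := RingHom.ker e with hm
  have hkey : ∀ a ∈ m, a ∈ m ^ 2 := by
    intro a ha
    by_contra hna
    obtain ⟨l, hla, hl⟩ := Submodule.exists_le_ker_of_notMem (p := (m ^ 2).restrictScalars k) (v := a) (fun h => hna ((Submodule.restrictScalars_mem k _ a).1 h))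
    have hle : ∀ t ∈ m ^ 2, l t = 0 := fun t ht => hl ht
    have hsub : ∀ r, r - algebraMap k Γ(Y, V) (e r) ∈ m := fun r => by
      rw [hm, RingHom.mem_ker, map_sub, heval, sub_self]
    let ψ : Γ(Y, V) →+* DualNumber k :=
      { toFun := fun r => TrivSqZeroExt.inl (e r) + TrivSqZeroExt.inr (l (r - algebraMap k Γ(Y, V) (e r)))
        map_one' := by simp
        map_zero' := by simp
        map_add' := fun r r' => by
          apply TrivSqZeroExt.ext
          · simp
          · simp only [map_add, TrivSqZeroExt.snd_add, TrivSqZeroExt.snd_inl, TrivSqZeroExt.snd_inr, zero_add]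
            rw [← map_add l]
            congr 1
            ring
        map_mul' := fun r r' => by
          apply TrivSqZeroExt.ext
          · simp
          · simp only [map_mul, TrivSqZeroExt.snd_add, TrivSqZeroExt.snd_inl, TrivSqZeroExt.snd_inr, zero_add,
              TrivSqZeroExt.snd_mul, TrivSqZeroExt.fst_add, TrivSqZeroExt.fst_inl, TrivSqZeroExt.fst_inr, add_zero,
              smul_eq_mul, MulOpposite.smul_eq_mul_unop, MulOpposite.unop_op]
            have hxy : l ((r - algebraMap k Γ(Y, V) (e r)) * (r' - algebraMap k Γ(Y, V) (e r'))) = 0 :=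
              hle _ (by rw [sq]; exact Ideal.mul_mem_mul (hsub r) (hsub r'))
            have hdec : r * r' - algebraMap k Γ(Y, V) (e r) * algebraMap k Γ(Y, V) (e r') =
                e r • (r' - algebraMap k Γ(Y, V) (e r')) + e r' • (r - algebraMap k Γ(Y, V) (e r)) +
                (r - algebraMap k Γ(Y, V) (e r)) * (r' - algebraMap k Γ(Y, V) (e r')) := by
              rw [Algebra.smul_def, Algebra.smul_def]; ring
            rw [hdec, map_add, map_add, map_smul, map_smul, hxy, smul_eq_mul, smul_eq_mul]
            ring }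
    have h1 : (CommRingCat.ofHom ψ) = ev ≫ CommRingCat.ofHom (algebraMap k (DualNumber k)) := by
      refine Spec.map_injective ((cancel_mono hV.fromSpec).1 ?_)
      rw [Spec.map_comp, Category.assoc, hev]
      refine H _ ?_ ?_
      · rw [Category.assoc, ← hφ, ← Spec.map_comp]
        congr 1
        refine CommRingCat.hom_ext (RingHom.ext fun c => ?_)
        show TrivSqZeroExt.inl (e (algebraMap k Γ(Y, V) c)) +
          TrivSqZeroExt.inr (l (algebraMap k Γ(Y, V) c - algebraMap k Γ(Y, V) (e (algebraMap k Γ(Y, V) c)))) = _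
        rw [heval, sub_self, map_zero, TrivSqZeroExt.inr_zero, add_zero]
        rfl
      · rw [← Category.assoc, ← Spec.map_comp]
        rw [show CommRingCat.ofHom ψ ≫ CommRingCat.ofHom (TrivSqZeroExt.fstHom k k k).toRingHom = ev from
          CommRingCat.hom_ext (RingHom.ext fun r => by
            rw [CommRingCat.hom_comp, CommRingCat.hom_ofHom, CommRingCat.hom_ofHom]
            simp [ψ, e]), hev]
    have h2 := congrArg (fun f : Γ(Y, V) ⟶ CommRingCat.of (DualNumber k) => TrivSqZeroExt.snd (f.hom a)) h1
    change TrivSqZeroExt.snd (TrivSqZeroExt.inl (e a) + TrivSqZeroExt.inr (l (a - algebraMap k Γ(Y, V) (e a)))) =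
      TrivSqZeroExt.snd (TrivSqZeroExt.inl (e a) : DualNumber k) at h2
    rw [hm, RingHom.mem_ker] at ha
    simp only [ha, map_zero, sub_zero, TrivSqZeroExt.snd_add, TrivSqZeroExt.snd_inl, TrivSqZeroExt.snd_inr,
      zero_add] at h2
    exact hla h2
  have hidem : IsIdempotentElem m :=
    le_antisymm Ideal.mul_le_left fun a ha => by rw [← sq]; exact hkey a ha
  obtain ⟨t, ht, hmt⟩ := (Ideal.isIdempotentElem_iff_of_fg _ (IsNoetherian.noetherian m)).1 hidem
  letI : Algebra Γ(Y, V) (CommRingCat.of k) := ev.hom.toAlgebra
  haveI : IsLocalization.Away (1 - t) (CommRingCat.of k) := IsLocalization.away_of_isIdempotentElem ht.one_sub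
    (by rw [sub_sub_cancel]; exact hmt) fun c => ⟨algebraMap k Γ(Y, V) c, heval c⟩
  haveI : IsOpenImmersion (Spec.map ev) := IsOpenImmersion.of_isLocalization (1 - t)
  rw [← hev]
  infer_instance

section Fam

variable {S : Scheme.{u}} {X G : Over S} [GrpObj G] (a : AlgGrp.Action G X)

theorem famOf_one (T : Over S) : AutSch.famOf a (1 : T ⟶ G) = fst X T := by
  rw [AutSch.famOf, Hom.one_def, show lift (snd X T ≫ toUnit T ≫ η[G]) (fst X T) =
    lift (snd X T ≫ toUnit T) (fst X T) ≫ (η[G] ▷ X) by rw [lift_whiskerRight, Category.assoc],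
    Category.assoc, a.one_act, leftUnitor_hom, lift_snd]

theorem endOf_comp_famOf {T : Over S} (g h : T ⟶ G) :
    AutSch.endOf (AutSch.famOf a g) ≫ AutSch.famOf a h = AutSch.famOf a (h * g) := by
  rw [AutSch.famOf, AutSch.famOf, AutSch.famOf, AutSch.endOf, ← Category.assoc, comp_lift, lift_fst,
    ← Category.assoc (lift _ (snd X T)), lift_snd, Hom.mul_def, ← Category.assoc (snd X T), comp_lift]
  conv_rhs => rw [← lift_whiskerRight, Category.assoc, a.mul_act, lift_lift_associator_hom_assoc,
    lift_whiskerLeft_assoc]

theorem isAutFamily_famOf {T : Over S} (g : T ⟶ G) : AutSch.IsAutFamily (AutSch.famOf a g) := by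
  have key : ∀ g h : T ⟶ G, h * g = 1 →
      AutSch.endOf (AutSch.famOf a g) ≫ AutSch.endOf (AutSch.famOf a h) = 𝟙 _ := fun g h e => by
    refine CartesianMonoidalCategory.hom_ext _ _ ?_ ?_
    · rw [Category.assoc, AutSch.endOf_fst, endOf_comp_famOf, e, famOf_one, Category.id_comp]
    · rw [Category.assoc, AutSch.endOf_snd, AutSch.endOf_snd, Category.id_comp]
  exact ⟨⟨AutSch.endOf (AutSch.famOf a g⁻¹), key _ _ (inv_mul_cancel g), key _ _ (mul_inv_cancel g)⟩⟩

theorem eq_one_of_famOf (hG : AutSch.Represents X G a) {T : Over S} (g : T ⟶ G)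
    (h : AutSch.famOf a g = fst X T) : g = 1 := by
  have hfst : AutSch.IsAutFamily (fst X T) := by
    rw [← famOf_one a T]; exact isAutFamily_famOf a 1
  exact ((AutSch.represents_iff G a).1 hG T _ hfst).unique h (famOf_one a T)

end Fam

/-- Let k be a field and X a proper k-scheme of dimension at most 1, and let the k-group scheme G,
locally of finite type over k, with its action a be the automorphism group scheme of X over k. Then
G → Spec k is unramified exactly when Der_k(O_X, O_X) = 0, i.e. when every k-derivation of O_X into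
O_X takes the value zero on every section over every open. (Unramified is stated as formally
unramified, G being locally of finite type. The published statement also lists as equivalent that
the automorphism group scheme is geometrically reduced of dimension zero, and a condition on the
moduli stack of curves; this row states the unramified condition only.) -/
theorem result (k : Type u) [Field k]
    (X : Over (Spec (CommRingCat.of k))) [IsProper X.hom] (hdim : topologicalKrullDim ↥X.left ≤ 1)
    (G : Over (Spec (CommRingCat.of k))) [GrpObj G] [LocallyOfFiniteType G.hom] (a : AlgGrp.Action G X)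
    (hG : AutSch.Represents X G a) :
    FormallyUnramified G.hom ↔
      ∀ (D : OmegaSh.Der X.hom (Coh.structureModule X.left)) (U : X.left.Opens) (s : Γ(X.left, U)),
        D.app U s = 0 := by
  haveI : IsSeparated X.hom := inferInstance
  have hflat : Flat X.hom := inferInstance
  let A : ArtFun.Art k k := ArtFun.Art.dual k k
  let ξ : ArtFun.DefSch X.left X.hom A := ArtFun.DefSch.trivial X.left X.hom hflat A
  let T : Over (Spec (CommRingCat.of k)) := Over.mk (ArtFun.Art.specMap (ArtFun.Art.ofBase A) :
    ArtFun.Art.spec A ⟶ Spec (CommRingCat.of k))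
  let u : 𝟙_ (Over (Spec (CommRingCat.of k))) ⟶ T :=
    Over.homMk (ArtFun.Art.specRes A) ((ArtFun.Art.specRes_comp _).trans ((Category.id_comp _).symm.trans (ArtFun.Art.comp_specRes_base _)))
  let j : X ⟶ X ⊗ T := lift (𝟙 X) (toUnit X ≫ u)
  have hj : ξ.i = j.left := by
    apply Limits.pullback.hom_ext
    · exact (Limits.pullback.lift_fst _ _ _).trans
        (congrArg CommaMorphism.left (lift_fst (𝟙 X) (toUnit X ≫ u))).symm
    · exact (Limits.pullback.lift_snd _ _ _).trans
        (congrArg CommaMorphism.left (lift_snd (𝟙 X) (toUnit X ≫ u))).symm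
  -- rigidity of the trivial deformation
  have hder : (∀ e : ξ.Iso ξ, e.iso.hom = 𝟙 ξ.total) →
      ∀ (D : OmegaSh.Der X.hom (Coh.structureModule X.left)) (U : X.left.Opens) (s : Γ(X.left, U)),
        D.app U s = 0 := by
    intro hrig D
    have haff : ∀ (U : X.left.affineOpens) b, D.app U.1 b = 0 := by
      let ε : A := (DualNumber.eps : DualNumber k)
      have hann : ∀ r : A, ε * r = 0 → r ∈ IsLocalRing.maximalIdeal A := fun r hr => by
        rw [A.mem_maximalIdeal_iff]
        have key : ∀ t : DualNumber k, DualNumber.eps * t = 0 → TrivSqZeroExt.fst t = 0 := fun t ht => by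
          have h1 := congrArg TrivSqZeroExt.snd ht
          simpa [DualNumber.snd_mul] using h1
        exact key r hr
      let pr : ξ.total ⟶ X.left := Limits.pullback.fst _ _
      haveI : IsAffineHom (ArtFun.Art.specMap (ArtFun.Art.ofBase A)) := isAffineHom_of_isAffine _
      haveI : IsAffineHom pr := MorphismProperty.pullback_fst (P := @IsAffineHom) X.hom
        (ArtFun.Art.specMap (ArtFun.Art.ofBase A) : ArtFun.Art.spec A ⟶ Spec (CommRingCat.of k)) inferInstance
      exact DefAut3.der_eq_zero ξ pr ε DualNumber.eps_mul_eps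
        (IsPullback.of_hasPullback _ _) ((Limits.pullback.lift_fst _ _ _).trans rfl) (DualNumber.fst_eps) hann
        (fun U => D.app U) (fun U b c => D.d_mul b c)
        (fun U c => by
          rw [← ThickAff3.res_str X.hom (le_top : U ≤ ⊤) c]
          refine (D.d_map (homOfLE (le_top : U ≤ ⊤)).op _).trans ?_
          have h0 : D.app ⊤ (ThickAff3.str X.hom ⊤ c) = 0 := by
            refine Eq.trans (congrArg (D.app ⊤) ?_) (D.d_app (X := Opposite.op ⊤) ((Scheme.ΓSpecIso (CommRingCat.of k)).inv c))
            exact congrArg (fun m : Γ(Spec (CommRingCat.of k), ⊤) ⟶ Γ(X.left, ⊤) =>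
              m.hom ((Scheme.ΓSpecIso (CommRingCat.of k)).inv c)) (Scheme.Hom.app_eq_appLE (f := X.hom) (U := ⊤)).symm
          exact (congrArg _ h0).trans (map_zero _))
        (fun U V h b => (D.d_map (homOfLE h).op b).symm) hrig
    intro U s
    refine (Coh.structureModule X.left).isSheaf.section_ext (fun p hp => ?_)
    obtain ⟨V, hV, hpV, hVU⟩ := exists_isAffineOpen_mem_and_subset (X := X.left) (x := p) (U := U) hp
    refine ⟨V, hVU, hpV, ?_⟩
    rw [map_zero]
    exact ((D.d_map (homOfLE hVU).op s).symm.trans (haff ⟨V, hV⟩ _))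
  constructor
  · intro hunr
    refine hder fun e => ?_
    let e' : (X ⊗ T).left ⟶ (X ⊗ T).left := e.iso.hom
    haveI : IsIso e' := ⟨⟨e.iso.inv, e.iso.hom_inv_id, e.iso.inv_hom_id⟩⟩
    have he1 : e' ≫ (snd X T).left = (snd X T).left := e.hom_f
    have he2 : j.left ≫ e' = j.left := by
      have : ξ.i ≫ e.iso.hom = ξ.i := e.i_hom
      rwa [hj] at this
    let φ : X ⊗ T ⟶ X := Over.homMk (e' ≫ (fst X T).left) (by
      calc (e' ≫ (fst X T).left) ≫ X.hom = e' ≫ (X ⊗ T).hom := by rw [Category.assoc, Over.w]
        _ = e' ≫ (snd X T).left ≫ T.hom := by rw [Over.w]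
        _ = (X ⊗ T).hom := by rw [← Category.assoc, he1, Over.w])
    have hend : (AutSch.endOf φ).left = e' := by
      apply Limits.pullback.hom_ext
      · exact congrArg CommaMorphism.left (AutSch.endOf_fst φ)
      · exact (congrArg CommaMorphism.left (AutSch.endOf_snd φ)).trans he1.symm
    have hφ : AutSch.IsAutFamily φ := by
      haveI : IsIso ((Over.forget _).map (AutSch.endOf φ)) := by
        show IsIso (AutSch.endOf φ).left
        rw [hend]; infer_instance
      exact isIso_of_reflects_iso (AutSch.endOf φ) (Over.forget _)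
    obtain ⟨g, hg, -⟩ := (AutSch.represents_iff G a).1 hG T φ hφ
    have hjφ : j ≫ φ = 𝟙 X := Over.OverMorphism.ext (by
      show j.left ≫ e' ≫ (fst X T).left = 𝟙 X.left
      rw [← Category.assoc, he2, ← Over.comp_left, lift_fst]
      rfl)
    have hug : u ≫ g = 1 := by
      refine eq_one_of_famOf a hG _ ?_
      rw [AutSch.famOf_comp, hg, AutSch.pullFam, show X ◁ u = fst X (𝟙_ _) ≫ j from
        CartesianMonoidalCategory.hom_ext _ _ (by simp [j])
          (by simp [j, toUnit_unique (snd X (𝟙_ _)) (toUnit (X ⊗ 𝟙_ _))]), Category.assoc, hjφ, Category.comp_id]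
    have hg1 : g = 1 := by
      haveI := hunr
      let p := Limits.pullback.lift g.left (1 : T ⟶ G).left ((Over.w g).trans (Over.w (1 : T ⟶ G)).symm)
      have hu : u.left ≫ p = η[G].left ≫ Limits.pullback.diagonal G.hom := by
        apply Limits.pullback.hom_ext
        · rw [Category.assoc, Limits.pullback.lift_fst, Category.assoc, Limits.pullback.diagonal_fst, Category.comp_id]
          exact (congrArg CommaMorphism.left hug).trans (by rw [Hom.one_def]; simp)
        · rw [Category.assoc, Limits.pullback.lift_snd, Category.assoc, Limits.pullback.diagonal_snd, Category.comp_id]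
          exact (congrArg CommaMorphism.left (show u ≫ (1 : T ⟶ G) = 1 from MonObj.comp_one u)).trans
            (by rw [Hom.one_def]; simp)
      haveI := DefAut3.surjective_specRes A
      have hr : Set.range p ⊆ Set.range (Limits.pullback.diagonal G.hom) := by
        rintro _ ⟨t, rfl⟩
        obtain ⟨q, rfl⟩ := (ArtFun.Art.specRes A).surjective t
        refine ⟨η[G].left q, ?_⟩
        exact (congrArg (fun m : _ ⟶ Limits.pullback G.hom G.hom => m q) hu).symm
      have hL := IsOpenImmersion.lift_fac (Limits.pullback.diagonal G.hom) p hr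
      apply Over.OverMorphism.ext
      have e1 : p ≫ Limits.pullback.fst G.hom G.hom = IsOpenImmersion.lift (Limits.pullback.diagonal G.hom) p hr := by
        rw [← Category.comp_id (IsOpenImmersion.lift (Limits.pullback.diagonal G.hom) p hr),
          ← Limits.pullback.diagonal_fst G.hom, ← Category.assoc, hL]
      have e2 : p ≫ Limits.pullback.snd G.hom G.hom = IsOpenImmersion.lift (Limits.pullback.diagonal G.hom) p hr := by
        rw [← Category.comp_id (IsOpenImmersion.lift (Limits.pullback.diagonal G.hom) p hr),
          ← Limits.pullback.diagonal_snd G.hom, ← Category.assoc, hL]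
      rw [Limits.pullback.lift_fst] at e1
      rw [Limits.pullback.lift_snd] at e2
      exact e1.trans e2.symm
    have : AutSch.endOf φ = 𝟙 _ := by
      rw [← hg, hg1, famOf_one]; exact lift_fst_snd
    show e' = _
    rw [← hend, this]
    rfl
  · intro hD
    have hsub : Subsingleton (Omega.sheaf X.hom ⟶ Coh.structureModule X.left) :=
      subsingleton_of_forall_eq 0 fun α => DefAut3.eq_zero_of_affine X.hom α fun U s =>
        hD ((OmegaSh.dOmega X.hom).postcomp α.val) U.1 s
    haveI : IsOpenImmersion η[G].left := by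
      refine isOpenImmersion_of_section G.hom η[G].left (Over.w η[G]) fun g hg hgs => ?_
      let g' : T ⟶ G := Over.homMk g hg
      have hug : u ≫ g' = 1 := Over.OverMorphism.ext (hgs.trans (by rw [Hom.one_def]; simp))
      let φ := AutSch.famOf a g'
      haveI : IsIso (AutSch.endOf φ) := isAutFamily_famOf a g'
      have hjφ : j ≫ φ = 𝟙 X := by
        rw [show j = lift (𝟙 X) (toUnit X) ≫ X ◁ u from
          CartesianMonoidalCategory.hom_ext _ _ (by simp [j]) (by simp [j]), Category.assoc,
          show X ◁ u ≫ φ = fst X (𝟙_ _) from (AutSch.famOf_comp a u g').symm.trans (by rw [hug, famOf_one]),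
          lift_fst]
      have hjend : j ≫ AutSch.endOf φ = j := CartesianMonoidalCategory.hom_ext _ _
        (by rw [Category.assoc, AutSch.endOf_fst, hjφ, lift_fst]) (by rw [Category.assoc, AutSch.endOf_snd])
      let e : ξ.Iso ξ := ⟨(Over.forget _).mapIso (asIso (AutSch.endOf φ)),
        congrArg CommaMorphism.left (AutSch.endOf_snd φ), by
          rw [hj]; exact congrArg CommaMorphism.left hjend⟩
      have h1 : AutSch.endOf φ = 𝟙 _ := Over.OverMorphism.ext (DefAut3.iso_eq_id ξ hsub e)
      have h2 : g' = 1 := eq_one_of_famOf a hG g' (by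
        show φ = _
        rw [← AutSch.endOf_fst φ, h1, Category.id_comp])
      exact (congrArg CommaMorphism.left h2).trans (by rw [Hom.one_def]; rfl)
    exact GrpUnr20.formallyUnramified_of_unit G

end Groth.Agent.S17831
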