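import Groth.Statements.S17833
import Groth.Agent.Lib.Rigid19.AntiAffine
import Groth.Agent.Lib.GrpField.Component
import Groth.Agent.Lib.LimH13.Reduced
import Groth.Agent.Lib.AbRigid.SmoothGI
import Mathlib.AlgebraicGeometry.Sites.Fpqc
import Mathlib.AlgebraicGeometry.Morphisms.Proper

set_option autoImplicit false
universe u
open CategoryTheory MonoidalCategory CartesianMonoidalCategory MonObj GrpObj AlgebraicGeometry
open AlgGrp

namespace Groth.Agent.S17833

/-- Over an algebraically closed field k, let G be a connected smooth k-group scheme of finite type (in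
the terminology of the notes, a smooth connected algebraic group), and H an affine normal subgroup
scheme of G such that the quotient G/H is an abelian variety: here j : H → G is the kernel of a flat
surjective homomorphism q : G → Q of k-group schemes with Q proper over k, and H is affine. Then an
automorphism u of the algebraic group G which fixes H pointwise (j ∘ u = j) and induces the identity
of Q (q ∘ u = q) is the identity. Equivalently, the map from the group of automorphisms of G fixing
H pointwise to the automorphism group of G/H is injective. -/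
theorem result (k : Type u) [Field k] [IsAlgClosed k]
    (G H Q : Over (Spec (CommRingCat.of k))) [GrpObj G] [GrpObj H] [GrpObj Q]
    [Smooth G.hom] [QuasiCompact G.hom] [ConnectedSpace ↥G.left]
    [IsAffine H.left] [IsProper Q.hom]
    (j : H ⟶ G) [IsMonHom j] (q : G ⟶ Q) [IsMonHom q] [Flat q.left] [Surjective q.left]
    (hker : AlgGrp.IsKernel j q)
    (u : G ≅ G) [IsMonHom u.hom] (hH : j ≫ u.hom = j) (hQ : u.hom ≫ q = q) :
    u.hom = 𝟙 G := by
  classical
  let w : G ⟶ G := u.hom * (𝟙 G)⁻¹
  have hwq : w ≫ q = toUnit G ≫ η[Q] := by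
    rw [← Hom.one_def]
    simp only [w, MonObj.mul_comp, GrpObj.inv_comp, hQ, Category.id_comp, mul_inv_cancel]
  let w' : G ⟶ H := hker.lift w (toUnit G) hwq
  have hw' : w' ≫ j = w := hker.lift_fst _ _ _
  haveI : Mono η[Q] :=
    (IsSplitMono.mk' { retraction := toUnit Q, id := by ext1; simp }).mono
  haveI : Mono j := MorphismProperty.of_isPullback (P := MorphismProperty.monomorphisms _) hker.flip
    (MorphismProperty.monomorphisms.infer_property η[Q])
  have hinv : ∀ {T : Over (Spec (CommRingCat.of k))} (a b : T ⟶ G), a ≫ q = b ≫ q → a ≫ w' = b ≫ w' := by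
    intro T a b hab
    have hn : (a⁻¹ * b) ≫ q = toUnit T ≫ η[Q] := by
      rw [← Hom.one_def, MonObj.mul_comp, GrpObj.inv_comp, hab, inv_mul_cancel]
    let n' : T ⟶ H := hker.lift (a⁻¹ * b) (toUnit T) hn
    have hn' : n' ≫ j = a⁻¹ * b := hker.lift_fst _ _ _
    have hb : b = a * (n' ≫ j) := by rw [hn', mul_inv_cancel_left]
    have hub : b ≫ u.hom = (a ≫ u.hom) * (n' ≫ j) := by
      conv_lhs => rw [hb]
      rw [MonObj.mul_comp, Category.assoc, hH]
    rw [← cancel_mono j, Category.assoc, Category.assoc, hw']
    simp only [w, MonObj.comp_mul, GrpObj.comp_inv, Category.comp_id]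
    rw [hub, hn']
    group
  haveI : QuasiCompact q.left := by
    haveI : QuasiCompact (q.left ≫ Q.hom) := by rw [Over.w q]; infer_instance
    exact QuasiCompact.of_comp q.left Q.hom
  have hdesc : ∀ {Z : Scheme.{u}} (g₁ g₂ : Z ⟶ G.left), g₁ ≫ q.left = g₂ ≫ q.left →
      g₁ ≫ w'.left = g₂ ≫ w'.left := by
    intro Z g₁ g₂ h
    have h2 : g₂ ≫ G.hom = g₁ ≫ G.hom := by
      rw [← Over.w q, ← Category.assoc, ← h, Category.assoc]
    let T : Over (Spec (CommRingCat.of k)) := Over.mk (g₁ ≫ G.hom)
    exact congrArg (fun f => f.left)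
      (hinv (T := T) (Over.homMk g₁ rfl) (Over.homMk g₂ h2) (Over.OverMorphism.ext h))
  let r' := EffectiveEpi.desc q.left w'.left hdesc
  have hr' : q.left ≫ r' = w'.left := EffectiveEpi.fac q.left w'.left hdesc
  haveI : Epi q.left := inferInstance
  let r : Q ⟶ H := Over.homMk r' (by
    rw [← cancel_epi q.left, ← Category.assoc, hr', Over.w w', Over.w q])
  have hr : q ≫ r = w' := Over.OverMorphism.ext hr'
  haveI : IsReduced G.left := Groth.Agent.AbRigid.isReduced_of_smooth_over_field G.hom
  haveI : IsReduced Q.left := Groth.Agent.LimH13.isReduced_of_flat_of_surjective q.left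
  haveI : IrreducibleSpace ↥G.left := by
    have h := Groth.Agent.GrpField.isIrreducible_connectedComponent G
      (η[G].left (IsLocalRing.closedPoint k))
    rw [PreconnectedSpace.connectedComponent_eq_univ] at h
    exact (irreducibleSpace_def _).mpr h
  haveI : IrreducibleSpace ↥Q.left := by
    refine (irreducibleSpace_def _).mpr ?_
    show IsIrreducible Set.univ
    rw [← q.left.surjective.range_eq, ← Set.image_univ]
    exact (IrreducibleSpace.isIrreducible_univ _).image _ q.left.continuous.continuousOn
  haveI : IsIntegral Q.left :=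
    (isIntegral_iff_irreducibleSpace_and_isReduced _).mpr ⟨inferInstance, inferInstance⟩
  have hΓ : Function.Surjective Q.hom.appTop.hom := by
    let F : CommRingCat.of k ⟶ Γ(Q.left, ⊤) := (Scheme.ΓSpecIso (CommRingCat.of k)).inv ≫ Q.hom.appTop
    have hint : F.hom.IsIntegral := by
      apply RingHom.isIntegral_respectsIso.2 (e := (Scheme.ΓSpecIso _).symm.commRingCatIsoToRingEquiv)
      exact isIntegral_appTop_of_universallyClosed Q.hom
    let := (isField_of_universallyClosed k Q.hom).toField
    algebraize [F.hom]
    intro y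
    obtain ⟨x, hx⟩ := (IsAlgClosed.algebraMap_bijective_of_isIntegral (k := k) (K := Γ(Q.left, ⊤))).2 y
    exact ⟨(Scheme.ΓSpecIso (CommRingCat.of k)).inv x, hx⟩
  have hc := Groth.Agent.Rigid19.eq_toUnit_comp_of_isAffine hΓ η[Q] r
  have hw1 : η[G] ≫ w = 1 := by
    simp only [w, MonObj.comp_mul, GrpObj.comp_inv, Category.comp_id, IsMonHom.one_hom, mul_inv_cancel]
  have hw : w = 1 := by
    have hw'c : w' = toUnit G ≫ η[Q] ≫ r := by
      rw [← hr, hc]; simp
    have h3 : η[G] ≫ w' = η[Q] ≫ r := by
      rw [hw'c, ← Category.assoc, toUnit_unique (η[G] ≫ toUnit G) (𝟙 _), Category.id_comp]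
    rw [← hw', hw'c, ← h3, Category.assoc, Category.assoc, hw', hw1, MonObj.comp_one]
  exact (mul_inv_eq_one.mp hw)

end Groth.Agent.S17833
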