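import Groth.Statements.S17843
import Mathlib

set_option autoImplicit false
universe u v
open CAlg

namespace Groth.Agent.S17843
open CAlg

open Polynomial

theorem exists_lift {R : Type u} [CommRing R] (r : R) (c : Polynomial (Localization.Away r)) (a : R)
    (ha : c.coeff 0 = algebraMap R _ a) :
    ∃ N : ℕ, ∀ n, N ≤ n → ∃ p : R[X], p.coeff 0 = a ∧
      p.map (algebraMap R (Localization.Away r)) =
        Polynomial.aeval (Polynomial.C (algebraMap R (Localization.Away r) (r ^ n)) * Polynomial.X) c := by
  classical
  choose e b hb using fun i => IsLocalization.Away.surj r (c.coeff i)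
  refine ⟨(Finset.range (c.natDegree + 1)).sup e, fun n hn => ?_⟩
  refine ⟨C a + ∑ i ∈ Finset.Ioc 0 c.natDegree, C (b i * r ^ (n * i - e i)) * X ^ i, ?_, ?_⟩
  · rw [coeff_add, coeff_C_zero, finsetSum_coeff, Finset.sum_eq_zero, add_zero]
    intro i hi
    rw [Finset.mem_Ioc] at hi
    rw [coeff_C_mul_X_pow, if_neg (by omega)]
  · conv_rhs => rw [c.as_sum_range_C_mul_X_pow, ← Nat.succ_eq_add_one, Finset.range_eq_Ico, Finset.sum_eq_sum_Ico_succ_bot (by omega)]
    rw [Polynomial.map_add, Polynomial.map_C, Polynomial.map_sum, map_add, map_sum]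
    congr 1
    · simp [← ha]
    · refine Finset.sum_congr (by ext i; simp; omega) fun i hi => ?_
      rw [Finset.mem_Ico] at hi
      have hle : e i ≤ n * i := (Finset.le_sup (f := e) (Finset.mem_range.2 (by omega))).trans
        (hn.trans (Nat.le_mul_of_pos_right n (by omega)))
      rw [Polynomial.map_mul, Polynomial.map_C, Polynomial.map_pow, Polynomial.map_X, map_mul, ← hb i, map_pow,
        mul_assoc (c.coeff i), ← pow_add, Nat.add_sub_cancel' hle]
      simp only [aeval_C, aeval_X, map_pow, mul_pow, ← pow_mul, Algebra.algebraMap_self, RingHom.id_apply, algebraMap_eq, map_mul]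
      ring

/-- In the case of an affine scheme of finite presentation, let B be a finitely presented R-algebra, r ∈
R, and x : B → R[1/r][T] an R-algebra homomorphism whose value at T = 0, a homomorphism B → R[1/r],
is induced by a homomorphism x̃₀ : B → R. Then for every large enough n, the homomorphism x(rⁿT) : B
→ R[1/r][T] is induced by a homomorphism x̃ : B → R[T] whose value at T = 0 is x̃₀. The published
statement is for algebraic spaces locally of finite presentation over R; this row takes an affine
scheme of finite presentation. -/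
theorem result
    (R : Type u) (B : Type v) [CommRing R] [CommRing B] [Algebra R B]
    [Algebra.FinitePresentation R B] (r : R)
    (x : B →ₐ[R] Polynomial (Localization.Away r))
    (x₀ : B →ₐ[R] R)
    (hx₀ : (algebraMap R (Localization.Away r)).comp x₀.toRingHom =
      (Polynomial.evalRingHom 0).comp x.toRingHom) :
    ∃ N : ℕ, ∀ n : ℕ, N ≤ n →
      ∃ y : B →ₐ[R] Polynomial R,
        (Polynomial.evalRingHom 0).comp y.toRingHom = x₀.toRingHom ∧
        (Polynomial.mapRingHom (algebraMap R (Localization.Away r))).comp y.toRingHom =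
          (Polynomial.aeval (Polynomial.C (algebraMap R (Localization.Away r) (r ^ n)) * Polynomial.X) :
              Polynomial (Localization.Away r) →ₐ[Localization.Away r] Polynomial (Localization.Away r)).toRingHom.comp
            x.toRingHom := by
  classical
  obtain ⟨m, π, hπ, s, hs⟩ := Algebra.FinitePresentation.out (R := R) (A := B)
  have hx0 : ∀ i, (x (π (MvPolynomial.X i))).coeff 0 = algebraMap R _ (x₀ (π (MvPolynomial.X i))) := fun i => by
    rw [coeff_zero_eq_eval_zero]
    exact (RingHom.congr_fun hx₀ _).symm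
  choose N hN using fun i => exists_lift r (x (π (MvPolynomial.X i))) (x₀ (π (MvPolynomial.X i))) (hx0 i)
  let N0 := Finset.univ.sup N
  choose p hp0 hp using fun i => hN i N0 (Finset.le_sup (f := N) (Finset.mem_univ i))
  let Y : MvPolynomial (Fin m) R →ₐ[R] R[X] := MvPolynomial.aeval p
  let sc : ℕ → (Polynomial (Localization.Away r) →ₐ[Localization.Away r] Polynomial (Localization.Away r)) :=
    fun n => Polynomial.aeval (Polynomial.C (algebraMap R (Localization.Away r) (r ^ n)) * Polynomial.X)
  have hY : (mapAlgHom (Algebra.ofId R (Localization.Away r))).comp Y = ((sc N0).restrictScalars R).comp (x.comp π) :=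
    MvPolynomial.algHom_ext fun i => by
      simp only [AlgHom.comp_apply, Y, MvPolynomial.aeval_X]
      exact hp i
  have hY0 : ∀ q, (Y q).coeff 0 = x₀ (π q) := fun q => by
    have : (Polynomial.aeval (R := R) (0 : R)).comp Y = x₀.comp π := MvPolynomial.algHom_ext fun i => by
      simp [Y, ← coeff_zero_eq_eval_zero, hp0]
    rw [coeff_zero_eq_eval_zero]
    simpa using AlgHom.congr_fun this q
  have hkill : ∀ q ∈ RingHom.ker π.toRingHom, ∃ K : ℕ, ∀ M, K ≤ M →
      (Polynomial.aeval (R := R) (C (r ^ M) * X)) (Y q) = 0 := by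
    intro q hq
    have h1 : (Y q).map (algebraMap R (Localization.Away r)) = 0 := by
      have := AlgHom.congr_fun hY q
      simp only [AlgHom.comp_apply, show π q = 0 from hq, map_zero] at this
      exact this
    have hex : ∀ i, ∃ k, r ^ k * (Y q).coeff i = 0 := fun i => by
      have h2 := congrArg (fun z => z.coeff i) h1
      simp only [coeff_map, coeff_zero] at h2
      obtain ⟨⟨_, k, rfl⟩, hk⟩ := (IsLocalization.map_eq_zero_iff (Submonoid.powers r) _ _).1 h2
      exact ⟨k, hk⟩
    choose k hk using hex
    refine ⟨(Finset.range ((Y q).natDegree + 1)).sup k, fun M hM => ?_⟩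
    rw [(Y q).as_sum_range_C_mul_X_pow, map_sum]
    refine Finset.sum_eq_zero fun i hi => ?_
    simp only [map_mul, map_pow, aeval_C, aeval_X, algebraMap_eq, mul_pow, ← pow_mul]
    rcases Nat.eq_zero_or_pos i with rfl | hi0
    · rw [hY0, show π q = 0 from hq, map_zero, map_zero, zero_mul]
    · obtain ⟨d, hd⟩ := Nat.exists_eq_add_of_le ((Finset.le_sup (f := k) hi).trans (hM.trans (Nat.le_mul_of_pos_right M hi0)))
      rw [← mul_assoc, ← map_pow, ← map_mul, hd, pow_add, ← mul_assoc, mul_comm ((Y q).coeff i) (r ^ k i), hk, zero_mul,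
        map_zero, zero_mul]
  choose K hK using hkill
  have hsmem : ∀ q : s, (q : MvPolynomial (Fin m) R) ∈ RingHom.ker π.toRingHom := fun q => by
    rw [← hs]; exact Ideal.subset_span q.2
  refine ⟨N0 + Finset.univ.sup (fun q : s => K q (hsmem q)), fun n hn => ?_⟩
  obtain ⟨M, rfl⟩ := Nat.exists_eq_add_of_le (show N0 ≤ n by omega)
  let Z : MvPolynomial (Fin m) R →ₐ[R] R[X] := (Polynomial.aeval (R := R) (C (r ^ M) * X)).comp Y
  have hZ : RingHom.ker π.toRingHom ≤ RingHom.ker Z.toRingHom := by
    rw [← hs, Ideal.span_le]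
    intro q hq
    exact hK q (hsmem ⟨q, hq⟩) M (le_trans (Finset.le_sup (f := fun q : s => K q (hsmem q)) (Finset.mem_univ ⟨q, hq⟩)) (by omega))
  let y : B →ₐ[R] R[X] := AlgHom.liftOfSurjective π hπ Z hZ
  have hy : ∀ q, y (π q) = Z q := fun q => AlgHom.liftOfSurjective_apply π hπ Z hZ q
  refine ⟨y, ?_, ?_⟩
  · refine RingHom.ext fun b => ?_
    obtain ⟨q, rfl⟩ := hπ b
    show (y (π q)).eval 0 = x₀ (π q)
    rw [hy, ← hY0, coeff_zero_eq_eval_zero]
    simp [Z, ← Polynomial.comp_eq_aeval, Polynomial.eval_comp]
  · refine RingHom.ext fun b => ?_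
    obtain ⟨q, rfl⟩ := hπ b
    show (y (π q)).map (algebraMap R (Localization.Away r)) = sc (N0 + M) (x (π q))
    rw [hy]
    have h1 := AlgHom.congr_fun hY q
    simp only [AlgHom.comp_apply, AlgHom.restrictScalars_apply] at h1
    have h2 : (Z q).map (algebraMap R (Localization.Away r)) = sc M ((Y q).map (algebraMap R (Localization.Away r))) := by
      simp only [Z, sc, AlgHom.comp_apply]
      induction (Y q) using Polynomial.induction_on' with
      | add a b ha hb => simp only [map_add, Polynomial.map_add, ha, hb]
      | monomial i a => simp [← C_mul_X_pow_eq_monomial]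
    rw [h2, show (Y q).map (algebraMap R (Localization.Away r)) = sc N0 (x (π q)) from h1]
    have h3 : (sc M).comp (sc N0) = sc (N0 + M) := Polynomial.algHom_ext (by
      simp [sc, pow_add]
      ring)
    exact AlgHom.congr_fun h3 _

end Groth.Agent.S17843
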