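import Groth.Statements.S17859
import Mathlib.CategoryTheory.Monoidal.Rigid.Basic
import Mathlib.LinearAlgebra.Contraction
import Mathlib.Algebra.Category.ModuleCat.Monoidal.Basic
-- import your own Groth.Agent.* helpers here

set_option autoImplicit false
open CategoryTheory MonoidalCategory
universe u
open Algz

namespace Groth.Agent.S17859

/-- Over an affine scheme, that is for modules over a commutative ring `R`, a finitely generated
projective `R`-module `M`, viewed as an object of the monoidal category of `R`-modules (tensor
product over `R`), has a right dual. (The published statement is the equivalence, for quasi-coherent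
sheaves on a quasi-compact quasi-separated scheme, between being dualizable and being a vector
bundle; stated here is the affine case of the implication from vector bundle to dualizable. The
converse implication, that a module admitting a dual is finitely generated projective, is stated
separately and is not repeated here.) -/
theorem result (R : Type u) [CommRing R] (M : ModuleCat.{u} R)
    [Module.Finite R M] [Module.Projective R M] : Nonempty (HasRightDual M) := by
  let D : ModuleCat.{u} R := ModuleCat.of R (Module.Dual R M)
  let T : TensorProduct R M (Module.Dual R M) :=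
    TensorProduct.comm R _ _ ((dualTensorHomEquiv R M M).symm LinearMap.id)
  have hT : dualTensorHom R M M (TensorProduct.comm R M (Module.Dual R M) T) = LinearMap.id := by
    rw [show TensorProduct.comm R M (Module.Dual R M) T = (dualTensorHomEquiv R M M).symm LinearMap.id from
      (TensorProduct.comm R (Module.Dual R M) M).symm_apply_apply _]
    exact (dualTensorHomEquiv R M M).apply_symm_apply _
  let η : 𝟙_ (ModuleCat.{u} R) ⟶ M ⊗ D := ModuleCat.ofHom (LinearMap.toSpanSingleton R _ T)
  let ε : D ⊗ M ⟶ 𝟙_ (ModuleCat.{u} R) := ModuleCat.ofHom (contractLeft R M)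
  refine ⟨@HasRightDual.mk _ _ _ M D
    { coevaluation' := η
      evaluation' := ε
      coevaluation_evaluation' := ?_
      evaluation_coevaluation' := ?_ }⟩
  · refine ModuleCat.hom_ext (TensorProduct.ext' fun (f : Module.Dual R M) (r : R) => ?_)
    change (ε ▷ D) ((α_ D M D).inv (f ⊗ₜ[R] (r • T))) = (λ_ D).inv (r • f)
    have gen : ∀ z : TensorProduct R M (Module.Dual R M), (ε ▷ D) ((α_ D M D).inv (f ⊗ₜ[R] z)) =
        (1 : R) ⊗ₜ[R] (f ∘ₗ dualTensorHom R M M (TensorProduct.comm R M (Module.Dual R M) z) : Module.Dual R M) := by
      intro z
      induction z using TensorProduct.induction_on with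
      | zero => simp
      | tmul m g =>
        rw [ModuleCat.MonoidalCategory.associator_inv_apply, ModuleCat.MonoidalCategory.whiskerRight_apply]
        change (f m) ⊗ₜ[R] g = (1 : R) ⊗ₜ[R] _
        rw [show f m = f m • (1 : R) from (mul_one _).symm, TensorProduct.smul_tmul]
        congr 1
        ext y
        simp [mul_comm]
      | add a b ha hb => simp only [TensorProduct.tmul_add, map_add, ha, hb, LinearMap.comp_add]
    rw [gen, map_smul, map_smul, hT]
    rw [ModuleCat.MonoidalCategory.leftUnitor_inv_apply]
    congr 1
    exact (LinearMap.comp_smul _ _ _).trans (by rw [LinearMap.comp_id])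
  · refine ModuleCat.hom_ext (TensorProduct.ext' fun (r : R) (m : M) => ?_)
    change (M ◁ ε) ((α_ M D M).hom ((r • T) ⊗ₜ[R] m)) = (ρ_ M).inv (r • m)
    have gen : ∀ z : TensorProduct R M (Module.Dual R M), (M ◁ ε) ((α_ M D M).hom (z ⊗ₜ[R] m)) =
        (dualTensorHom R M M (TensorProduct.comm R M (Module.Dual R M) z) m) ⊗ₜ[R] (1 : R) := by
      intro z
      induction z using TensorProduct.induction_on with
      | zero => simp
      | tmul y g =>
        rw [ModuleCat.MonoidalCategory.associator_hom_apply, ModuleCat.MonoidalCategory.whiskerLeft_apply]
        change y ⊗ₜ[R] g m = _ ⊗ₜ[R] (1 : R)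
        rw [show g m = g m • (1 : R) from (mul_one _).symm, ← TensorProduct.smul_tmul]
        simp
      | add a b ha hb => simp only [TensorProduct.add_tmul, map_add, ha, hb, LinearMap.add_apply]
    rw [gen, map_smul, map_smul, hT]
    rw [ModuleCat.MonoidalCategory.rightUnitor_inv_apply]
    simp

end Groth.Agent.S17859
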