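import Groth.Statements.S17860
import Groth.Agent.Lib.Nis27.Generators
import Groth.Agent.Lib.Nis27.Basic
-- import your own Groth.Agent.* helpers here

set_option autoImplicit false
open CategoryTheory AlgebraicGeometry
universe u
open Algz

namespace Groth.Agent.S17860

/-- Let `R` be a commutative ring and `M` a finite `R`-module. Suppose `Spec R` is covered by opens `U
0, …, U (m-1)` (not necessarily affine) such that over each `U i` the restriction of the associated
sheaf of modules `M~` is a quotient of the free module of rank `n` (it is generated by `n` sections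
over `U i`). Then `M` is generated by `n * m` elements. -/
theorem result (R : CommRingCat.{u}) (M : ModuleCat.{u} R)
    [Module.Finite R M] (n m : ℕ) (U : Fin m → (Spec R).Opens) (hU : ⨆ i, U i = ⊤)
    (hgen : ∀ i, ∃ φ : FlatMod.freeMod (↑(U i)) n ⟶ (AlgebraicGeometry.tilde M).restrict (U i).ι, Epi φ) :
    ∃ s : Fin (n * m) → M, Submodule.span R (Set.range s) = ⊤ := by
  refine Nis27.exists_generators_of_flag M (U := fun i => (U i : Scheme.{u})) (fun i => (U i).ι)
    (fun i => ?_) (fun j => (⋃ i ∈ {i : Fin m | j.val ≤ i.val}, (U i : Set (Spec R)))ᶜ) ?_ ?_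
    (fun j => (isOpen_biUnion fun i _ => (U i).isOpen).isClosed_compl) fun j => ?_
  · obtain ⟨φ, hφ⟩ := hgen i
    exact ⟨φ ≫ (Scheme.Modules.restrictFunctorIsoPullback (U i).ι).hom.app _, epi_comp _ _⟩
  · rw [Set.compl_empty_iff, Set.eq_univ_iff_forall]
    intro x
    obtain ⟨i, hi⟩ := TopologicalSpace.Opens.mem_iSup.1 (hU.ge (trivial : x ∈ (⊤ : (Spec R).Opens)))
    exact Set.mem_iUnion₂.2 ⟨i, Nat.zero_le _, hi⟩
  · rw [Set.compl_univ_iff]
    refine Set.eq_empty_iff_forall_notMem.2 fun x hx => ?_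
    obtain ⟨i, hi, -⟩ := Set.mem_iUnion₂.1 hx
    exact absurd (show m ≤ i.val from hi) (not_le.2 i.isLt)
  · have hW : ((⋃ i ∈ {i : Fin m | j.succ.val ≤ i.val}, (U i : Set (Spec R)))ᶜ \
        (⋃ i ∈ {i : Fin m | j.castSucc.val ≤ i.val}, (U i : Set (Spec R)))ᶜ) =
        (U j : Set (Spec R)) ∩ (⋃ i ∈ {i : Fin m | j.succ.val ≤ i.val}, (U i : Set (Spec R)))ᶜ := by
      ext x
      simp only [Set.mem_sdiff, Set.mem_compl_iff, not_not, Set.mem_inter_iff, Set.mem_iUnion, Set.mem_ofPred_eq,
        exists_prop, Fin.val_succ, Fin.val_castSucc]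
      constructor
      · rintro ⟨h1, i, hi, hx⟩
        rcases hi.eq_or_lt with h | h
        · exact ⟨(Fin.ext h : j = i) ▸ hx, h1⟩
        · exact absurd ⟨i, h, hx⟩ h1
      · exact fun ⟨h1, h2⟩ => ⟨h2, j, le_rfl, h1⟩
    show W4c5algebraiztannaka.HasSectOver (U j).ι _
    exact (congrArg (W4c5algebraiztannaka.HasSectOver (U j).ι) hW).mpr (Nis27.hasSectOver_of_open (U j) (𝟙 _) (Category.id_comp _)
      (isOpen_biUnion fun i _ => (U i).isOpen).isClosed_compl)

end Groth.Agent.S17860
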