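import Groth.Statements.S17863
import Mathlib.AlgebraicGeometry.QuasiAffine
import Mathlib.RingTheory.AdicCompletion.RingHom
-- import your own Groth.Agent.* helpers here

set_option autoImplicit false
open CategoryTheory AlgebraicGeometry
universe u
open Algz

namespace Groth.Agent.S17863

/-- Let `A` be a commutative ring which is `I`-adically complete for an ideal `I` and let `X` be a
quasi-affine scheme. Then the natural map from `X(A)` to compatible systems in the `X(A/I^n)` is
bijective: two morphisms `Spec A ⟶ X` with the same restriction to every `Spec (A/I^n)` are equal,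
and every family of morphisms `Spec (A/I^n) ⟶ X` compatible with the transition maps `Spec (A/I^n) ⟶
Spec (A/I^(n+1))` is the family of restrictions of a morphism `Spec A ⟶ X`. -/
theorem result (A : Type u) [CommRing A] (I : Ideal A) [IsAdicComplete I A]
    (X : Scheme.{u}) [X.IsQuasiAffine] :
    (∀ f g : Spec (CommRingCat.of A) ⟶ X,
      (∀ n : ℕ, Spec.map (CommRingCat.ofHom (Ideal.Quotient.mk (I ^ n))) ≫ f =
        Spec.map (CommRingCat.ofHom (Ideal.Quotient.mk (I ^ n))) ≫ g) → f = g) ∧
    (∀ e : ∀ n : ℕ, Spec (CommRingCat.of (A ⧸ I ^ n)) ⟶ X,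
      (∀ n : ℕ, Spec.map (CommRingCat.ofHom (Ideal.Quotient.factorPowSucc I n)) ≫ e (n + 1) = e n) →
      ∃ f : Spec (CommRingCat.of A) ⟶ X,
        ∀ n : ℕ, Spec.map (CommRingCat.ofHom (Ideal.Quotient.mk (I ^ n))) ≫ f = e n) := by
  let j := X.toSpecΓ
  let q : ∀ n : ℕ, Spec (CommRingCat.of (A ⧸ I ^ n)) ⟶ Spec (CommRingCat.of A) :=
    fun n => Spec.map (CommRingCat.ofHom (Ideal.Quotient.mk (I ^ n)))
  refine ⟨fun f g h => ?_, fun e he => ?_⟩
  · rw [← cancel_mono j, ← Spec.map_preimage (f ≫ j), ← Spec.map_preimage (g ≫ j)]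
    congr 1
    ext x
    refine (IsHausdorff.eq_iff_smodEq (I := I)).2 fun n => ?_
    rw [SModEq.sub_mem, smul_eq_mul, Ideal.mul_top, ← Ideal.Quotient.mk_eq_mk_iff_sub_mem]
    have h1 : Spec.preimage (f ≫ j) ≫ CommRingCat.ofHom (Ideal.Quotient.mk (I ^ n)) =
        Spec.preimage (g ≫ j) ≫ CommRingCat.ofHom (Ideal.Quotient.mk (I ^ n)) :=
      Spec.map_injective (by
        rw [Spec.map_comp, Spec.map_comp, Spec.map_preimage, Spec.map_preimage, ← Category.assoc, h n, Category.assoc])
    exact ConcreteCategory.congr_hom h1 x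
  · let φ : ∀ n : ℕ, Γ(X, ⊤) →+* A ⧸ I ^ n := fun n => (Spec.preimage (e n ≫ j)).hom
    have hsucc : ∀ n, (Ideal.Quotient.factorPowSucc I n).comp (φ (n + 1)) = φ n := fun n => by
      have h1 : Spec.preimage (e (n + 1) ≫ j) ≫ CommRingCat.ofHom (Ideal.Quotient.factorPowSucc I n) =
          Spec.preimage (e n ≫ j) :=
        Spec.map_injective (by rw [Spec.map_comp, Spec.map_preimage, Spec.map_preimage, ← Category.assoc, he n])
      exact congrArg CommRingCat.Hom.hom h1
    have hφ : ∀ {m n : ℕ} (hle : m ≤ n), (Ideal.Quotient.factorPow I hle).comp (φ n) = φ m := fun {m n} hle => by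
      induction n, hle using Nat.le_induction with
      | base => exact RingHom.ext fun x => by simp
      | succ n hle ih =>
        rw [← ih, ← hsucc n]
        ext x
        simp only [RingHom.comp_apply]
        obtain ⟨y, hy⟩ := Ideal.Quotient.mk_surjective (φ (n + 1) x)
        rw [← hy]
        rfl
    let φl : Γ(X, ⊤) →+* A := IsAdicComplete.liftRingHom I φ hφ
    let F : Spec (CommRingCat.of A) ⟶ Spec Γ(X, ⊤) := Spec.map (CommRingCat.ofHom φl)
    have hF : ∀ n, q n ≫ F = e n ≫ j := fun n => by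
      show Spec.map _ ≫ Spec.map _ = _
      rw [← Spec.map_comp, ← Spec.map_preimage (e n ≫ j)]
      congr 1
      ext x
      exact IsAdicComplete.mk_liftRingHom I φ hφ n x
    have hr : Set.range F ⊆ Set.range j := by
      rintro _ ⟨p, rfl⟩
      obtain ⟨m, hm, hle⟩ := Ideal.exists_le_maximal p.asIdeal p.isPrime.ne_top
      have hIm : I ^ 1 ≤ m := by
        rw [pow_one]
        exact (IsAdicComplete.le_jacobson_bot I).trans (sInf_le ⟨bot_le, hm⟩)
      let M : PrimeSpectrum A := ⟨m, hm.isPrime⟩
      have hMI : M ∈ Set.range (q 1) := by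
        change M ∈ Set.range (PrimeSpectrum.comap (Ideal.Quotient.mk (I ^ 1)))
        rw [range_comap_of_surjective _ _ Ideal.Quotient.mk_surjective, Ideal.mk_ker]
        exact hIm
      obtain ⟨z, hz⟩ := hMI
      have hsp : (p : Spec (CommRingCat.of A)) ⤳ q 1 z := by
        rw [hz]
        exact (PrimeSpectrum.le_iff_specializes p M).1 hle
      have h1 : F (q 1 z) ∈ Set.range j :=
        ⟨e 1 z, by rw [← Scheme.Hom.comp_apply, ← Scheme.Hom.comp_apply, hF]⟩
      exact (hsp.map F.continuous).mem_open j.isOpenEmbedding.isOpen_range h1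
    refine ⟨IsOpenImmersion.lift j F hr, fun n => ?_⟩
    rw [← cancel_mono j, Category.assoc, IsOpenImmersion.lift_fac]
    exact hF n

end Groth.Agent.S17863
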