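import Groth.Statements.S17864
import Mathlib.RingTheory.Finiteness.Projective
import Mathlib.LinearAlgebra.StdBasis
import Mathlib.RingTheory.AdicCompletion.Functoriality
-- import your own Groth.Agent.* helpers here

set_option autoImplicit false
universe u
open Algz

namespace Groth.Agent.S17864

/-- The full-faithfulness assertion. Let `A` be a commutative ring which is `I`-adically complete for an
ideal `I`, and `P`, `Q` finitely generated projective `A`-modules. An `A`-linear map `P → Q` is
determined by its reductions modulo the powers `I^n`, and every family of `A`-linear maps `P/I^n P →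
Q/I^n Q` compatible with the transition maps is the family of reductions of an `A`-linear map `P →
Q`. (The companion assertion, that compatible systems of finite projective modules over the rings
`A/I^n` lift to `A`, is not restated here.) -/
theorem result (A : Type u) [CommRing A] (I : Ideal A)
    [IsAdicComplete I A] (P Q : Type u) [AddCommGroup P] [Module A P] [Module.Finite A P]
    [Module.Projective A P] [AddCommGroup Q] [Module A Q] [Module.Finite A Q] [Module.Projective A Q] :
    (∀ f f' : P →ₗ[A] Q, (∀ n : ℕ, f.reduceModIdeal (I ^ n) = f'.reduceModIdeal (I ^ n)) → f = f') ∧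
    (∀ g : ∀ n : ℕ, P ⧸ (I ^ n • ⊤ : Submodule A P) →ₗ[A] Q ⧸ (I ^ n • ⊤ : Submodule A Q),
      (∀ n : ℕ, AdicCompletion.transitionMap I Q (Nat.le_succ n) ∘ₗ g (n + 1) =
        g n ∘ₗ AdicCompletion.transitionMap I P (Nat.le_succ n)) →
      ∃ f : P →ₗ[A] Q, ∀ n : ℕ, f.reduceModIdeal (I ^ n) = g n) := by
  obtain ⟨d, r, s, -, -, hrs⟩ := Module.Finite.exists_comp_eq_id_of_projective A Q
  have hcoord : ∀ (n : ℕ) (v : Fin d → A), v ∈ (I ^ n • ⊤ : Submodule A (Fin d → A)) →
      ∀ j, v j ∈ I ^ n := fun n v hv j => by
    refine Submodule.smul_induction_on hv (fun a ha x _ => ?_) (fun x y hx hy => add_mem hx hy)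
    exact Ideal.mul_mem_right _ _ ha
  have hvec : ∀ (n : ℕ) (v : Fin d → A), (∀ j, v j ∈ I ^ n) → v ∈ (I ^ n • ⊤ : Submodule A (Fin d → A)) :=
    fun n v hv => by
      rw [pi_eq_sum_univ v]
      exact Submodule.sum_mem _ fun j _ => Submodule.smul_mem_smul (hv j) Submodule.mem_top
  have hs : ∀ (n : ℕ) (x : Q), x ∈ (I ^ n • ⊤ : Submodule A Q) → ∀ j, s x j ∈ I ^ n := fun n x hx => by
    refine hcoord n _ (Submodule.smul_top_le_comap_smul_top _ s hx)
  have hr : ∀ x, r (s x) = x := LinearMap.congr_fun hrs
  have : IsHausdorff I Q := ⟨fun x hx => by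
    rw [← hr x]
    refine (congrArg r (funext fun j => IsHausdorff.haus ‹IsAdicComplete I A›.toIsHausdorff _ fun n => ?_)).trans r.map_zero
    rw [SModEq.zero, smul_eq_mul, Ideal.mul_top]
    exact hs n x (SModEq.zero.1 (hx n)) j⟩
  have : IsPrecomplete I Q := ⟨fun a ha => by
    choose L hL using fun j => IsPrecomplete.prec ‹IsAdicComplete I A›.toIsPrecomplete (f := fun n => s (a n) j)
      (fun {m n} hmn => by
        rw [SModEq.sub_mem, smul_eq_mul, Ideal.mul_top]
        simpa using hs m _ (SModEq.sub_mem.1 (ha hmn)) j)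
    refine ⟨r L, fun n => ?_⟩
    rw [SModEq.sub_mem, ← hr (a n), ← map_sub]
    refine Submodule.smul_top_le_comap_smul_top _ r (hvec n _ fun j => ?_)
    simpa [SModEq.sub_mem, Ideal.mul_top] using hL j n⟩
  have : IsAdicComplete I Q := { }
  constructor
  · intro f f' h
    apply DFunLike.coe_injective
    refine IsHausdorff.funext I fun n x => ?_
    exact LinearMap.congr_fun (h n) (Submodule.Quotient.mk x)
  · intro g hg
    have hcomp : ∀ {m n : ℕ} (hle : m ≤ n), Submodule.factorPow I Q hle ∘ₗ (g n ∘ₗ Submodule.mkQ _) =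
        g m ∘ₗ Submodule.mkQ _ := by
      intro m n hle
      refine IsAdicComplete.StrictMono.factorPow_comp_eq_of_factorPow_comp_succ_eq (a := id) strictMono_id
        (fun n => g n ∘ₗ Submodule.mkQ _) (fun {k} => ?_) hle
      refine LinearMap.ext fun x => ?_
      exact LinearMap.congr_fun (hg k) (Submodule.Quotient.mk x)
    refine ⟨IsAdicComplete.lift I (fun n => g n ∘ₗ Submodule.mkQ _) hcomp, fun n => ?_⟩
    refine LinearMap.ext fun y => ?_
    induction y using Submodule.Quotient.induction_on with
    | _ x => exact IsAdicComplete.mk_lift I hcomp n x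

end Groth.Agent.S17864
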