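import Groth.Statements.S17873
import Groth.Agent.Lib.Depth.More
import Groth.Agent.Lib.Depth.CM
import Groth.Agent.Lib.CI2.Regular
import Mathlib.RingTheory.Ideal.AssociatedPrime.Finiteness

set_option autoImplicit false
universe u
open GRRSing

namespace Groth.Agent.S17873

/-- Let T be a Cohen–Macaulay Noetherian local ring, J a proper ideal of T, j the grade of J (the
J-depth of T, i.e. the supremum of the lengths of T-regular sequences inside J; a natural number
here) and c the minimal number of generators of J (equal to the dimension of J/𝔪J over the residue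
field). Then j ≤ c and there is a generating sequence t_1, …, t_c of J such that t_1, …, t_j is a
T-regular sequence. (The published statement does not exclude J = T; there c = 1 while the grade,
read as the depth of T, can exceed 1, so this row assumes J proper.) -/
theorem result {T : Type u} [CommRing T] [LocCoh.IsCohenMacaulayLocalRing T]
    (J : Ideal T) (hJ : J ≠ ⊤) (j : ℕ) (hj : LocCoh.idealDepth J T = j) :
    j ≤ Submodule.spanFinrank J ∧
      ∃ ts : List T, ts.length = Submodule.spanFinrank J ∧ Ideal.ofList ts = J ∧
        RingTheory.Sequence.IsRegular T (ts.take j) := by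
  classical
  let c := Submodule.spanFinrank J
  have hJm : J ≤ IsLocalRing.maximalIdeal T := IsLocalRing.le_maximalIdeal hJ
  have main : ∀ i : ℕ, i ≤ j → ∃ hi : i ≤ c, ∃ f : Fin c → T, Ideal.span (Set.range f) = J ∧
      RingTheory.Sequence.IsWeaklyRegular T ((List.ofFn f).take i) := by
    intro i
    induction i with
    | zero =>
      intro _
      obtain ⟨l, hl, hlen⟩ := Groth.Agent.CI2.exists_generators J
      refine ⟨Nat.zero_le _, fun q => l.get (q.cast hlen.symm), ?_, by simp⟩
      refine Eq.trans ?_ hl
      rw [Ideal.ofList]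
      congr 1
      ext y
      constructor
      · rintro ⟨q, rfl⟩; exact List.get_mem _ _
      · intro hy; obtain ⟨q, rfl⟩ := List.get_of_mem hy; exact ⟨q.cast hlen, rfl⟩
    | succ i ih =>
      intro hij
      obtain ⟨hi, f, hf, hreg⟩ := ih (Nat.le_of_succ_le hij)
      let rs := (List.ofFn f).take i
      have hrsJ : ∀ r ∈ rs, r ∈ J := fun r hr => by
        obtain ⟨q, rfl⟩ := (List.mem_ofFn' _ _).1 (List.mem_of_mem_take hr)
        exact hf ▸ Ideal.subset_span ⟨q, rfl⟩
      have hlen : rs.length = i := by simp [rs, List.length_take]; omega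
      let M := T ⧸ (Ideal.ofList rs • ⊤ : Submodule T T)
      have hne : Ideal.ofList rs • (⊤ : Submodule T T) ≠ ⊤ := by
        rw [smul_eq_mul, Ideal.mul_top]
        exact ne_top_of_le_ne_top hJ (Ideal.span_le.2 hrsJ)
      have : Nontrivial M := Submodule.Quotient.nontrivial_iff.2 hne
      have hd : LocCoh.idealDepth J M + i = (j : ℕ∞) := by
        rw [← hj, ← hlen]; exact Groth.Agent.DepthLib.idealDepth_quot_add_length hreg hrsJ
      have hJM : J • (⊤ : Submodule T M) ≠ ⊤ := Groth.Agent.DepthLib.smul_top_ne_top hJ
      have h1 : 1 ≤ LocCoh.idealDepth J M := by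
        by_contra h
        rw [ENat.lt_one_iff_eq_zero.1 (not_le.1 h), zero_add] at hd
        have : i = j := by exact_mod_cast hd
        omega
      obtain ⟨y, hyJ, hy⟩ := Groth.Agent.DepthLib.exists_isSMulRegular_of_one_le_idealDepth hJM h1
      let K : Ideal T := Ideal.ofList rs ⊔ IsLocalRing.maximalIdeal T * J
      have hKJ : ¬ J ≤ K := by
        intro hle
        have hle' : J ≤ Ideal.ofList rs := Submodule.le_of_le_smul_of_le_jacobson_bot (IsNoetherian.noetherian J)
          (IsLocalRing.maximalIdeal_le_jacobson _) hle
        obtain ⟨z, hz⟩ := exists_ne (0 : M)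
        refine hz (hy ?_)
        show y • z = y • (0 : M)
        obtain ⟨t, rfl⟩ := Submodule.Quotient.mk_surjective _ z
        rw [smul_zero, ← Submodule.Quotient.mk_smul, Submodule.Quotient.mk_eq_zero, smul_eq_mul,
          smul_eq_mul, Ideal.mul_top]
        exact Ideal.mul_mem_right _ _ (hle' hyJ)
      have hfin := associatedPrimes.finite T M
      obtain ⟨x, hxJ, hxK, hx⟩ : ∃ x ∈ J, x ∉ K ∧ IsSMulRegular M x := by
        by_contra hall
        push Not at hall
        let g : Option (Ideal T) → Ideal T := fun o => o.getD K
        have hcov : (J : Set T) ⊆ ⋃ o ∈ (↑(insert none (hfin.toFinset.image some)) : Set (Option (Ideal T))), g o := by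
          intro x hx
          rw [Finset.coe_insert, Set.biUnion_insert]
          by_cases hxK : x ∈ K
          · exact Or.inl hxK
          · refine Or.inr ?_
            have hz : x ∈ {r : T | ∃ z : M, z ≠ 0 ∧ r • z = 0} := by
              have := hall x hx hxK
              rw [isSMulRegular_iff_right_eq_zero_of_smul] at this
              push Not at this
              obtain ⟨z, hz1, hz2⟩ := this
              exact ⟨z, hz2, hz1⟩
            rw [← biUnion_associatedPrimes_eq_zero_divisors] at hz
            simp only [Set.mem_iUnion, exists_prop] at hz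
            obtain ⟨P, hP, hxP⟩ := hz
            simp only [Set.mem_iUnion, exists_prop, Finset.coe_image, Set.Finite.coe_toFinset, Set.mem_image]
            exact ⟨some P, ⟨P, hP, rfl⟩, hxP⟩
        obtain ⟨o, ho, hle⟩ := (Ideal.subset_union_prime none none fun o ho hne _ => by
          rw [Finset.mem_insert, Finset.mem_image] at ho
          rcases ho with rfl | ⟨P, hP, rfl⟩
          · exact absurd rfl hne
          · exact ((hfin.mem_toFinset).1 hP).isPrime).1 hcov
        rw [Finset.mem_insert, Finset.mem_image] at ho
        rcases ho with rfl | ⟨P, hP, rfl⟩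
        · exact hKJ hle
        · have hmem : y ∈ ⋃ p ∈ associatedPrimes T M, (p : Set T) :=
            Set.mem_iUnion₂.2 ⟨P, (hfin.mem_toFinset).1 hP, hle hyJ⟩
          rw [biUnion_associatedPrimes_eq_zero_divisors] at hmem
          obtain ⟨z, hz, hyz⟩ := hmem
          exact hz (hy (hyz.trans (smul_zero y).symm))
      -- exchange
      obtain ⟨a, ha⟩ := Ideal.mem_span_range_iff_exists_fun.1 (hf.symm ▸ hxJ : x ∈ Ideal.span (Set.range f))
      obtain ⟨q, hq, hqu⟩ : ∃ q : Fin c, i ≤ q ∧ IsUnit (a q) := by
        by_contra hall
        push Not at hall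
        refine hxK (ha ▸ sum_mem fun q _ => ?_)
        by_cases hq : (q : ℕ) < i
        · refine Ideal.mem_sup_left (Ideal.mul_mem_left _ _ (Ideal.subset_span ?_))
          show f q ∈ rs
          exact List.mem_take_iff_getElem.2 ⟨q, by simp [hq], by simp⟩
        · exact Ideal.mem_sup_right (Ideal.mul_mem_mul (hall q (not_lt.1 hq)) (hf ▸ Ideal.subset_span ⟨q, rfl⟩))
      have hic : i < c := lt_of_le_of_lt hq q.2
      let g : Fin c → T := Function.update (f ∘ Equiv.swap ⟨i, hic⟩ q) ⟨i, hic⟩ x
      have hg : Ideal.span (Set.range g) = J := by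
        refine le_antisymm (Ideal.span_le.2 ?_) ?_
        · rintro _ ⟨l, rfl⟩
          rcases eq_or_ne l ⟨i, hic⟩ with rfl | hl
          · simpa [g] using hxJ
          · simp only [g, Function.update_of_ne hl, Function.comp_apply]
            exact hf ▸ Ideal.subset_span ⟨_, rfl⟩
        · have hothers : ∀ l, l ≠ q → f l ∈ Ideal.span (Set.range g) := fun l hl => by
            refine Ideal.subset_span ⟨Equiv.swap ⟨i, hic⟩ q l, ?_⟩
            have : Equiv.swap ⟨i, hic⟩ q l ≠ ⟨i, hic⟩ := fun h => hl (by
              have := congrArg (Equiv.swap ⟨i, hic⟩ q) h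
              rwa [Equiv.swap_apply_self, Equiv.swap_apply_left] at this)
            simp [g, this]
          rw [← hf, Ideal.span_le]
          rintro _ ⟨l, rfl⟩
          rcases eq_or_ne l q with rfl | hl
          · have hxg : x ∈ Ideal.span (Set.range g) := Ideal.subset_span ⟨⟨i, hic⟩, by simp [g]⟩
            rw [← ha, ← Finset.add_sum_erase _ _ (Finset.mem_univ l)] at hxg
            have := (Ideal.add_mem_iff_left _ (sum_mem fun m hm => Ideal.mul_mem_left _ _
              (hothers m (Finset.ne_of_mem_erase hm)))).1 hxg
            exact (Ideal.unit_mul_mem_iff_mem _ hqu).1 this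
          · exact hothers l hl
      refine ⟨hic, g, hg, ?_⟩
      have htake : (List.ofFn g).take (i + 1) = rs ++ [x] := by
        apply List.ext_getElem
        · simp [rs, List.length_take]; omega
        intro l hl1 hl2
        have hl : l < i + 1 := by simp [List.length_take] at hl1; omega
        rw [List.getElem_take, List.getElem_ofFn]
        rcases Nat.lt_succ_iff_lt_or_eq.1 hl with hl | rfl
        · rw [List.getElem_append_left (by omega)]
          have h1 : (⟨l, by omega⟩ : Fin c) ≠ ⟨i, hic⟩ := fun h => by simp at h; omega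
          have h2 : (⟨l, by omega⟩ : Fin c) ≠ q := fun h => by have h' : l = (q : ℕ) := congrArg Fin.val h; omega
          simp [g, rs, Equiv.swap_apply_of_ne_of_ne h1 h2, h1]
        · rw [List.getElem_append_right (by omega)]
          simp [g]
      rw [htake, RingTheory.Sequence.isWeaklyRegular_append_iff, RingTheory.Sequence.isWeaklyRegular_singleton_iff]
      exact ⟨hreg, hx⟩
  obtain ⟨hjc, f, hf, hreg⟩ := main j le_rfl
  refine ⟨hjc, List.ofFn f, List.length_ofFn .., ?_, ⟨hreg, ?_⟩⟩
  · rw [← hf, Ideal.ofList]
    congr 1
    ext y; simp [List.mem_ofFn]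
  · rw [smul_eq_mul, Ideal.mul_top]
    exact (ne_top_of_le_ne_top hJ (Ideal.span_le.2 fun r hr => by
      obtain ⟨q, rfl⟩ := (List.mem_ofFn' _ _).1 (List.mem_of_mem_take hr)
      exact hf ▸ Ideal.subset_span ⟨q, rfl⟩)).symm

end Groth.Agent.S17873
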