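import Groth.Statements.S17874
import Groth.Agent.Lib.DSeqCM28.Main

set_option autoImplicit false
universe u
open GRRSing

namespace Groth.Agent.S17874

/-- Let T be a Cohen–Macaulay Noetherian local ring and p a prime ideal of T whose minimal number of
generators is at most height(p) + 1, and assume the localization T_p is a regular local ring. In
that case some d-sequence generates p: there is a list of elements generating p, no member of which
lies in the ideal of the others, and such that for all positions i ≤ k the colon ideals ((t_1, …,
t_{i-1}) : t_k t_i) and ((t_1, …, t_{i-1}) : t_k) coincide. -/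
theorem result {T : Type u} [CommRing T] [LocCoh.IsCohenMacaulayLocalRing T]
    (p : Ideal T) [p.IsPrime] (hgen : (Submodule.spanFinrank p : ℕ∞) ≤ p.height + 1)
    [IsRegularLocalRing (Localization.AtPrime p)] :
    ∃ ts : List T, Ideal.ofList ts = p ∧ W4c5grrsingularflat.IsDSeq ts := by
  exact Groth.Agent.DSeqCM28.exists_isDSeq p hgen

end Groth.Agent.S17874
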