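import Groth.Statements.S17875
import Mathlib.Tactic
import Mathlib.Data.Set.Card
import Mathlib.Algebra.BigOperators.Fin
import Mathlib.Algebra.Order.Chebyshev
import Mathlib.Analysis.Calculus.ContDiff.Deriv
import Mathlib.Analysis.Calculus.ParametricIntervalIntegral
import Mathlib.MeasureTheory.Integral.IntervalIntegral.FundThmCalculus
import Mathlib.RingTheory.Polynomial.Pochhammer
import Mathlib.Algebra.Algebra.Rat
import Mathlib.RingTheory.TensorProduct.Basic
import Mathlib.RingTheory.Localization.BaseChange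
import Mathlib.RingTheory.Flat.TorsionFree
import Mathlib.RingTheory.MvPolynomial.Basic
import Mathlib.RingTheory.Ideal.Quotient.Operations
import Mathlib.RingTheory.LocalRing.Basic
import Mathlib.Algebra.CharP.Lemmas

set_option autoImplicit false
universe u
open Polynomial
open GRRSing

open Polynomial

namespace Groth.Agent.S17875

/-- Let R be a commutative ℚ-algebra, r an element of R and δ a natural number with (r - 1) ^ (δ + 1) =
0. Write s(k, j) for the signed Stirling numbers of the first kind, the coefficients of x (x - 1) ⋯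
(x - k + 1) = Σ_j s(k, j) x ^ j. Then (i) for every natural number n, r ^ n = Σ_{k ≤ δ} [n (n - 1) ⋯
(n - k + 1) / k!] (r - 1) ^ k; and (ii) in the polynomial ring R[x], Σ_{k ≤ δ} [x (x - 1) ⋯ (x - k +
1) / k!] (r - 1) ^ k = Σ_{j ≤ δ} [Σ_{k ≤ δ} Σ_{u ≤ k} (-1) ^ (k - u) s(k, j) / (u! (k - u)!) · r ^
u] x ^ j. -/
theorem result {R : Type u} [CommRing R] [Algebra ℚ R]
    (r : R) (δ : ℕ) (hr : (r - 1) ^ (δ + 1) = 0) :
    (∀ n : ℕ, r ^ n = ∑ k ∈ Finset.range (δ + 1), ((descPochhammer ℚ k).eval (n : ℚ) / (k.factorial : ℚ)) • (r - 1) ^ k) ∧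
    (∑ k ∈ Finset.range (δ + 1), ((k.factorial : ℚ)⁻¹ • (descPochhammer R k * Polynomial.C ((r - 1) ^ k))) =
      ∑ j ∈ Finset.range (δ + 1), Polynomial.C (∑ k ∈ Finset.range (δ + 1), ∑ u ∈ Finset.range (k + 1),
        (((-1 : ℚ) ^ (k - u) * (((descPochhammer ℤ k).coeff j : ℤ) : ℚ)) / ((u.factorial * (k - u).factorial : ℕ) : ℚ)) • r ^ u) * Polynomial.X ^ j) := by
  constructor
  · intro n
    have hc : ∀ k, (descPochhammer ℚ k).eval (n : ℚ) / (k.factorial : ℚ) = (n.choose k : ℚ) := by
      intro k
      rw [descPochhammer_eval_eq_descFactorial, Nat.descFactorial_eq_factorial_mul_choose, Nat.cast_mul,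
        mul_div_assoc, mul_div, mul_div_cancel_left₀ _ (by exact_mod_cast k.factorial_ne_zero)]
    simp only [hc, Nat.cast_smul_eq_nsmul, nsmul_eq_mul]
    conv_lhs => rw [show r = (r - 1) + 1 by ring, add_pow]
    simp only [one_pow, mul_one]
    rcases le_total (n + 1) (δ + 1) with h | h
    · rw [Finset.sum_subset (Finset.range_subset_range.2 h)]
      · exact Finset.sum_congr rfl fun k _ => mul_comm _ _
      · intro k _ hk
        rw [Finset.mem_range, not_lt] at hk
        rw [Nat.choose_eq_zero_of_lt (by omega), Nat.cast_zero, mul_zero]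
    · rw [← Finset.sum_subset (Finset.range_subset_range.2 h)]
      · exact Finset.sum_congr rfl fun k _ => mul_comm _ _
      · intro k _ hk
        rw [Finset.mem_range, not_lt] at hk
        obtain ⟨c, rfl⟩ := Nat.exists_eq_add_of_le hk
        rw [pow_add, hr, zero_mul, zero_mul]
  · ext m
    simp only [finsetSum_coeff, coeff_smul, coeff_mul_C, coeff_C_mul_X_pow]
    rw [Finset.sum_ite_eq]
    have hcoef : ∀ k, (descPochhammer R k).coeff m = ((((descPochhammer ℤ k).coeff m : ℤ) : ℚ)) • (1 : R) := by
      intro k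
      rw [← descPochhammer_map (Int.castRingHom R), coeff_map, Int.cast_smul_eq_zsmul, zsmul_one]
      rfl
    split_ifs with hm
    · refine Finset.sum_congr rfl fun k _ => ?_
      rw [hcoef, smul_one_mul, smul_smul, sub_eq_add_neg, add_pow, Finset.smul_sum]
      refine Finset.sum_congr rfl fun u hu => ?_
      rw [Finset.mem_range, Nat.lt_succ_iff] at hu
      rw [show (-1 : R) ^ (k - u) = ((-1 : ℚ) ^ (k - u)) • (1 : R) by rw [Algebra.smul_def, map_pow, map_neg, map_one, mul_one],
        mul_smul_comm, mul_one, smul_mul_assoc, ← nsmul_eq_mul', ← Nat.cast_smul_eq_nsmul ℚ, smul_smul, smul_smul]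
      congr 1
      rw [Nat.cast_choose ℚ hu, Nat.cast_mul]
      field_simp
    · refine Finset.sum_eq_zero fun k hk => ?_
      rw [Finset.mem_range, not_lt] at hm
      rw [Finset.mem_range] at hk
      rw [coeff_eq_zero_of_natDegree_lt (p := descPochhammer R k), zero_mul, smul_zero]
      rcases subsingleton_or_nontrivial R with h | h
      · rw [Subsingleton.elim (descPochhammer R k) 0, natDegree_zero]; omega
      · refine lt_of_le_of_lt ?_ (show k < m by omega)
        rw [← descPochhammer_map (algebraMap ℤ R)]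
        exact natDegree_map_le.trans (descPochhammer_natDegree ℤ k).le

end Groth.Agent.S17875
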