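import Groth.Statements.S17878
import Mathlib.Analysis.SpecificLimits.Normed

set_option autoImplicit false
universe u
open Filter Topology
open GRRSing

namespace Groth.Agent.S17878

theorem E_rec (E : ℕ → ℚ) (hE : PowerSeries.mk (fun j => E j / (j.factorial : ℚ)) * (PowerSeries.exp ℚ + 1) = 2)
    (n : ℕ) : ∑ i ∈ Finset.range n, (n.choose i : ℚ) * E i + 2 * E n = if n = 0 then 2 else 0 := by
  have h := congrArg (PowerSeries.coeff n) hE
  rw [mul_add, mul_one, map_add, PowerSeries.coeff_mul,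
    Finset.Nat.sum_antidiagonal_eq_sum_range_succ_mk, PowerSeries.coeff_mk,
    Finset.sum_range_succ] at h
  have h2 : PowerSeries.coeff n (2 : PowerSeries ℚ) = if n = 0 then 2 else 0 := by
    rw [show (2 : PowerSeries ℚ) = PowerSeries.C 2 from (map_ofNat _ 2).symm, PowerSeries.coeff_C]
  rw [h2] at h
  simp only [PowerSeries.coeff_mk, PowerSeries.coeff_exp, Nat.sub_self, Nat.factorial_zero,
    Nat.cast_one, div_one, map_one, mul_one, Algebra.algebraMap_self, RingHom.id_apply] at h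
  have hn : (n.factorial : ℚ) ≠ 0 := by exact_mod_cast n.factorial_ne_zero
  have e : ∀ i ∈ Finset.range n, (n.factorial : ℚ) *
      (E i / (i.factorial : ℚ) * (1 / ((n - i).factorial : ℚ))) = (n.choose i : ℚ) * E i := by
    intro i hi
    rw [Finset.mem_range] at hi
    have := Nat.choose_mul_factorial_mul_factorial hi.le
    have hi0 : (i.factorial : ℚ) ≠ 0 := by exact_mod_cast i.factorial_ne_zero
    have hni : ((n - i).factorial : ℚ) ≠ 0 := by exact_mod_cast (n-i).factorial_ne_zero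
    rw [← this]
    push_cast
    field_simp
  have h3 := congrArg ((n.factorial : ℚ) * ·) h
  simp only [mul_add, Finset.mul_sum] at h3
  rw [Finset.sum_congr rfl e] at h3
  have e2 : (n.factorial : ℚ) * (E n / n.factorial) = E n := by field_simp
  rw [e2] at h3
  split_ifs at h3 ⊢ with hz
  · subst hz; simp at h3 ⊢; linarith
  · linarith

theorem summable_pow_mul (j : ℕ) {y : ℂ} (hy : ‖y‖ < 1) : Summable fun k : ℕ => (k : ℂ) ^ j * y ^ k :=
  summable_pow_mul_geometric_of_norm_lt_one j hy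

theorem F_rec (j : ℕ) {y : ℂ} (hy : ‖y‖ < 1) :
    (1 - y) * ∑' k : ℕ, (k : ℂ) ^ j * y ^ k =
      (if j = 0 then 1 else 0) + y * ∑ i ∈ Finset.range j, (j.choose i : ℂ) * ∑' k : ℕ, (k : ℂ) ^ i * y ^ k := by
  have h1 := (summable_pow_mul j hy).tsum_eq_zero_add
  have h0 : ((0 : ℕ) : ℂ) ^ j * y ^ 0 = if j = 0 then 1 else 0 := by
    split_ifs with h <;> simp [h]
  have h2 : ∑' k : ℕ, ((k + 1 : ℕ) : ℂ) ^ j * y ^ (k + 1) =
      y * ∑ i ∈ Finset.range (j + 1), (j.choose i : ℂ) * ∑' k : ℕ, (k : ℂ) ^ i * y ^ k := by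
    simp only [Finset.mul_sum, ← tsum_mul_left]
    rw [← Summable.tsum_finsetSum (fun i _ => ((summable_pow_mul i hy).mul_left _).mul_left _)]
    refine tsum_congr fun k => ?_
    rw [Nat.cast_add, Nat.cast_one, add_pow, Finset.sum_mul]
    refine Finset.sum_congr rfl fun i _ => ?_
    rw [one_pow, pow_succ]; ring
  rw [h0, h2, Finset.sum_range_succ, Nat.choose_self, Nat.cast_one, one_mul, mul_add] at h1
  linear_combination h1

theorem F_tendsto (E : ℕ → ℚ) (hE : PowerSeries.mk (fun j => E j / (j.factorial : ℚ)) * (PowerSeries.exp ℚ + 1) = 2)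
    (j : ℕ) : Tendsto (fun y : ℝ => ∑' k : ℕ, (k : ℂ) ^ j * (y : ℂ) ^ k)
      (𝓝[Set.Ioo (-1 : ℝ) 1] (-1 : ℝ)) (𝓝 ((2 : ℂ)⁻¹ * (E j : ℂ))) := by
  induction j using Nat.strong_induction_on with
  | _ j ih =>
    have hy : Tendsto (fun y : ℝ => (y : ℂ)) (𝓝[Set.Ioo (-1 : ℝ) 1] (-1 : ℝ)) (𝓝 (-1 : ℂ)) := by
      have := (Complex.continuous_ofReal.tendsto (-1 : ℝ)).mono_left
        (nhdsWithin_le_nhds (s := Set.Ioo (-1 : ℝ) 1))
      simpa using this
    have hden : Tendsto (fun y : ℝ => 1 - (y : ℂ)) (𝓝[Set.Ioo (-1 : ℝ) 1] (-1 : ℝ)) (𝓝 2) := by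
      have := (tendsto_const_nhds (x := (1 : ℂ))).sub hy
      rwa [show (1 : ℂ) - -1 = 2 by norm_num] at this
    have hnum : Tendsto (fun y : ℝ => (if j = 0 then (1 : ℂ) else 0) + (y : ℂ) *
        ∑ i ∈ Finset.range j, (j.choose i : ℂ) * ∑' k : ℕ, (k : ℂ) ^ i * (y : ℂ) ^ k)
        (𝓝[Set.Ioo (-1 : ℝ) 1] (-1 : ℝ))
        (𝓝 ((if j = 0 then (1 : ℂ) else 0) + (-1) *
          ∑ i ∈ Finset.range j, (j.choose i : ℂ) * ((2 : ℂ)⁻¹ * (E i : ℂ)))) :=
      tendsto_const_nhds.add (hy.mul (tendsto_finsetSum _ fun i hi =>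
        tendsto_const_nhds.mul (ih i (Finset.mem_range.mp hi))))
    have hval : ((if j = 0 then (1 : ℂ) else 0) + (-1) *
          ∑ i ∈ Finset.range j, (j.choose i : ℂ) * ((2 : ℂ)⁻¹ * (E i : ℂ))) / 2 = (2 : ℂ)⁻¹ * (E j : ℂ) := by
      have h := congrArg (fun q : ℚ => (q : ℂ)) (E_rec E hE j)
      push_cast [apply_ite (fun q : ℚ => (q : ℂ))] at h
      simp only [mul_left_comm _ (2 : ℂ)⁻¹, ← Finset.mul_sum]
      split_ifs at h ⊢ with hz <;> linear_combination (-1/4 : ℂ) * h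
    rw [← hval]
    refine (hnum.div hden two_ne_zero).congr' ?_
    filter_upwards [self_mem_nhdsWithin] with y hy'
    have hn : ‖(y : ℂ)‖ < 1 := by
      rw [Complex.norm_real, Real.norm_eq_abs, abs_lt]; exact hy'
    have hne : (1 : ℂ) - y ≠ 0 := by
      intro h
      have : (y : ℂ) = 1 := (sub_eq_zero.mp h).symm
      rw [this] at hn; simp at hn
    simp only [Pi.div_apply, div_eq_iff hne]
    rw [← F_rec j hn]; ring


/-- Let T be a nonzero commutative normed ℂ-algebra such that the map ℂ → T/nilradical(T) is surjective,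
let P = Σ_j d_j x ^ j be a polynomial over T and put h_k = P(k). Let E_0, E_1, … be the rational
numbers with 2/(e^t + 1) = Σ_j E_j t ^ j / j! (so E_0 = 1, E_1 = -1/2). Then for every complex y
with |y| < 1 the series Σ_k h_k y ^ k converges in T, and as y → -1 along real y in (-1, 1) its sum
tends to (1/2) Σ_j E_j d_j. (The published statement allows any norm topology on T as a complex
vector space; this row takes T a normed ℂ-algebra.) -/
theorem result {T : Type u} [NormedCommRing T] [NormedAlgebra ℂ T] [Nontrivial T]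
    (hT : Function.Surjective (algebraMap ℂ (T ⧸ nilradical T)))
    (E : ℕ → ℚ) (hE : PowerSeries.mk (fun j => E j / (j.factorial : ℚ)) * (PowerSeries.exp ℚ + 1) = 2)
    (P : Polynomial T) :
    (∀ y : ℂ, ‖y‖ < 1 → Summable (fun k : ℕ => y ^ k • P.eval (k : T))) ∧
    Tendsto (fun y : ℝ => ∑' k : ℕ, ((y : ℂ) ^ k) • P.eval (k : T)) (𝓝[Set.Ioo (-1 : ℝ) 1] (-1 : ℝ))
      (𝓝 ((2 : ℂ)⁻¹ • ∑ j ∈ Finset.range (P.natDegree + 1), ((E j : ℚ) : ℂ) • P.coeff j)) := by
  have key : ∀ (y : ℂ) (k : ℕ), y ^ k • P.eval (k : T) =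
      ∑ j ∈ Finset.range (P.natDegree + 1), ((k : ℂ) ^ j * y ^ k) • P.coeff j := by
    intro y k
    rw [Polynomial.eval_eq_sum_range, Finset.smul_sum]
    refine Finset.sum_congr rfl fun j _ => ?_
    rw [Algebra.smul_def, Algebra.smul_def, map_mul, map_pow, map_pow, map_natCast]
    ring
  have hs : ∀ y : ℂ, ‖y‖ < 1 → ∀ j, HasSum (fun k : ℕ => ((k : ℂ) ^ j * y ^ k) • P.coeff j)
      ((∑' k : ℕ, (k : ℂ) ^ j * y ^ k) • P.coeff j) := fun y hy j =>
    (summable_pow_mul j hy).hasSum.smul_const _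
  have hsum : ∀ y : ℂ, ‖y‖ < 1 → HasSum (fun k : ℕ => y ^ k • P.eval (k : T))
      (∑ j ∈ Finset.range (P.natDegree + 1), (∑' k : ℕ, (k : ℂ) ^ j * y ^ k) • P.coeff j) := by
    intro y hy
    simp only [key]
    exact hasSum_sum fun j _ => hs y hy j
  refine ⟨fun y hy => (hsum y hy).summable, ?_⟩
  have hval : ((2 : ℂ)⁻¹ • ∑ j ∈ Finset.range (P.natDegree + 1), ((E j : ℚ) : ℂ) • P.coeff j) =
      ∑ j ∈ Finset.range (P.natDegree + 1), ((2 : ℂ)⁻¹ * (E j : ℂ)) • P.coeff j := by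
    rw [Finset.smul_sum]; simp only [smul_smul]
  rw [hval]
  refine Tendsto.congr' ?_ (tendsto_finsetSum _ fun j _ => (F_tendsto E hE j).smul_const _)
  filter_upwards [self_mem_nhdsWithin] with y hy'
  refine ((hsum _ ?_).tsum_eq).symm
  rw [Complex.norm_real, Real.norm_eq_abs, abs_lt]; exact hy'

end Groth.Agent.S17878
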