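import Groth.Statements.S17880
import Groth.Agent.S7383
import Groth.Agent.Lib.LimH13.Struct

set_option autoImplicit false
universe u
open CategoryTheory AlgebraicGeometry
open Lim

namespace Groth.Agent.S17880

set_option backward.isDefEq.respectTransparency false
set_option backward.isDefEq.respectTransparency.types false


/-- Let f : Y → X be a morphism of schemes with X and Y quasi-compact and quasi-separated. Then f is the
composite of an affine morphism Y → Z and a morphism Z → X of finite presentation (locally of finite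
presentation, quasi-compact and quasi-separated); if f is separated, Z → X can in addition be chosen
separated. Both assertions are packaged in one existential. -/
theorem result {X Y : Scheme.{u}} (f : Y ⟶ X)
    [CompactSpace X] [QuasiSeparatedSpace X] [CompactSpace Y] [QuasiSeparatedSpace Y] :
    ∃ (Z : Scheme.{u}) (g : Y ⟶ Z) (h : Z ⟶ X), IsAffineHom g ∧ LocallyOfFinitePresentation h ∧
      QuasiCompact h ∧ QuasiSeparated h ∧ (IsSeparated f → IsSeparated h) ∧ g ≫ h = f := by

  obtain ⟨I, _, _, _, D, c, hc, hfp, haff, ⟨e⟩⟩ := Groth.Agent.S7383.result f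
  haveI : IsFiltered I := isFiltered_of_directed_le_nonempty I
  haveI : IsConnected Iᵒᵖ := IsCofiltered.isConnected _
  let E := D ⋙ Over.forget X
  have hcE : Limits.IsLimit ((Over.forget X).mapCone c) := Limits.isLimitOfPreserves (Over.forget X) hc
  haveI : ∀ {i j} (a : i ⟶ j), IsAffineHom (E.map a) := fun a => haff _ _ a
  haveI : ∀ i, CompactSpace (E.obj i) := fun i => by
    haveI := (hfp i).2.1
    exact QuasiCompact.compactSpace_of_compactSpace (D.obj i).hom
  haveI : ∀ i, QuasiSeparatedSpace (E.obj i) := fun i => by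
    haveI := (hfp i).2.2
    exact quasiSeparatedSpace_of_quasiSeparated (D.obj i).hom
  haveI hπ : ∀ i, IsAffineHom (((Over.forget X).mapCone c).π.app i) := fun i =>
    isAffineHom_π_app E _ hcE i
  have hcomp : ∀ i, e.inv.left ≫ ((Over.forget X).mapCone c).π.app i ≫ (D.obj i).hom = f := fun i => by
    change e.inv.left ≫ (c.π.app i).left ≫ (D.obj i).hom = f
    rw [Over.w (c.π.app i)]
    exact Over.w e.inv
  haveI : IsIso e.inv.left := inferInstanceAs (IsIso ((Over.forget X).mapIso e).inv)
  haveI : IsIso e.hom.left := inferInstanceAs (IsIso ((Over.forget X).mapIso e).hom)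
  by_cases hs : IsSeparated f
  · let t : E ⟶ (Functor.const Iᵒᵖ).obj X :=
      { app := fun i => (D.obj i).hom
        naturality := fun i j a => by simp [E] }
    let i₀ : Iᵒᵖ := Opposite.op (Classical.arbitrary I)
    haveI : IsSeparated (((Over.forget X).mapCone c).π.app i₀ ≫ t.app i₀) := by
      have h1 : ((Over.forget X).mapCone c).π.app i₀ ≫ t.app i₀ = e.hom.left ≫ f :=
        (Over.w (c.π.app i₀)).trans (Over.w e.hom).symm
      rw [h1]
      infer_instance
    obtain ⟨i₁, hi₁⟩ := LimH13.exists_isSeparated_structureMap (t := t) hcE i₀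
    refine ⟨E.obj i₁, e.inv.left ≫ ((Over.forget X).mapCone c).π.app i₁, (D.obj i₁).hom,
      (haveI := hπ i₁; inferInstance),
      (hfp i₁).1, (hfp i₁).2.1, (hfp i₁).2.2, fun _ => hi₁ i₁ (𝟙 _), ?_⟩
    rw [Category.assoc]
    exact hcomp i₁
  · let i₀ : Iᵒᵖ := Opposite.op (Classical.arbitrary I)
    refine ⟨E.obj i₀, e.inv.left ≫ ((Over.forget X).mapCone c).π.app i₀, (D.obj i₀).hom,
      (haveI := hπ i₀; inferInstance),
      (hfp i₀).1, (hfp i₀).2.1, (hfp i₀).2.2, fun h => absurd h hs, ?_⟩
    rw [Category.assoc]
    exact hcomp i₀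

end Groth.Agent.S17880
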