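import Groth.Statements.S17879
import Groth.Agent.Lib.Nagata4.Nagata
import Groth.Agent.S17880

set_option autoImplicit false
universe u
open CategoryTheory AlgebraicGeometry
open Lim

namespace Groth.Agent.S17879

/-- Let f : Y → X be a morphism of schemes with X and Y quasi-compact and quasi-separated. Then f is
separated if and only if it is the composite of an affine morphism Y → Z and a proper morphism Z →
X, for some scheme Z. -/
theorem result {X Y : Scheme.{u}} (f : Y ⟶ X)
    [CompactSpace X] [QuasiSeparatedSpace X] [CompactSpace Y] [QuasiSeparatedSpace Y] :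
    IsSeparated f ↔
      ∃ (Z : Scheme.{u}) (g : Y ⟶ Z) (h : Z ⟶ X), IsAffineHom g ∧ IsProper h ∧ g ≫ h = f := by
  constructor
  · intro hf
    obtain ⟨Z, g, h, hg, hlfp, hqc, hqs, hsep, hgh⟩ := Groth.Agent.S17880.result f
    haveI := hsep hf
    obtain ⟨Zb, j, p, hj, hjc, hp, hjp⟩ := Nagata4.exists_compactification h
    haveI : CompactSpace Zb := QuasiCompact.compactSpace_of_compactSpace p
    haveI : QuasiSeparatedSpace Zb := quasiSeparatedSpace_of_quasiSeparated p
    haveI : CompactSpace Z := QuasiCompact.compactSpace_of_compactSpace h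
    obtain ⟨E, hE, hEs⟩ := AdmBlowUp4.exists_ideal_support_eq Zb j.opensRange (isCompact_range j.continuous)
    let b := BlowUpExist.ChartIdx.blowUpHom E
    have hb : BlowUp.IsBlowUp b E := BlowUpExist.ChartIdx.isBlowUp_blowUpHom
    haveI : IsProper b := BlowUpExist.isProper hE hb
    obtain ⟨j', hj', hjb, hjr⟩ := Nagata4.exists_lift j hb (by rw [hEs]; exact disjoint_compl_left)
    haveI : IsAffineHom j' := by
      have h1 : j'.opensRange = EffCartier.cmpl (E.comap b) := by
        rw [hjr, AdmOpen4.cmpl_eq hEs b]
      haveI : IsAffineHom j'.opensRange.ι := by rw [h1]; exact EffCartier.isAffineHom_interior hb.1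
      rw [← Scheme.Hom.isoOpensRange_hom_ι j']
      infer_instance
    exact ⟨_, g ≫ j', b ≫ p, inferInstance, inferInstance,
      by rw [Category.assoc, reassoc_of% hjb, hjp, hgh]⟩
  · rintro ⟨Z, g, h, hg, hh, rfl⟩
    infer_instance

end Groth.Agent.S17879
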