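import Groth.Statements.S17881
import Mathlib

set_option autoImplicit false
universe u
open CAlg

namespace Groth.Agent.S17881

/-- Let O be a subring of a nontrivial commutative ring A. The following are equivalent: (i) A is a
local ring, every non-unit of A belongs to O, and for every unit u of A one of u, u⁻¹ belongs to O —
equivalently O is the preimage in the local ring A of a valuation ring of the residue field of A,
which makes O a semi-valuation ring with semi-fraction ring A; (ii) for all f, g in A generating the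
unit ideal, either f ∈ gO or g ∈ fO. (A is taken nontrivial: over the zero ring (ii) holds and (i)
fails.) -/
theorem result (A : Type u) [CommRing A] [Nontrivial A]
    (O : Subring A) :
    (IsLocalRing A ∧ (∀ a : A, ¬ IsUnit a → a ∈ O) ∧ (∀ u : Aˣ, (u : A) ∈ O ∨ ((u⁻¹ : Aˣ) : A) ∈ O)) ↔
      ∀ f g : A, IsCoprime f g → (∃ o ∈ O, f = g * o) ∨ (∃ o ∈ O, g = f * o) := by
  constructor
  · rintro ⟨hl, hn, hu⟩ f g hfg
    have key : ∀ (f : A) (g : Aˣ), (∃ o ∈ O, f = g * o) ∨ (∃ o ∈ O, (g : A) = f * o) := by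
      intro f g
      by_cases hf : IsUnit f
      · obtain ⟨f, rfl⟩ := hf
        rcases hu (g⁻¹ * f) with h | h
        · exact Or.inl ⟨_, h, by simp⟩
        · exact Or.inr ⟨_, h, by simp⟩
      · refine Or.inl ⟨(g⁻¹ : Aˣ) * f, hn _ (fun h => hf ?_), by simp⟩
        simpa using (g.isUnit.mul h)
    obtain ⟨a, b, hab⟩ := hfg
    rcases IsLocalRing.isUnit_or_isUnit_of_add_one hab with h | h
    · obtain ⟨f, rfl⟩ := (IsUnit.mul_iff.1 h).2
      exact (key g f).symm
    · obtain ⟨g, rfl⟩ := (IsUnit.mul_iff.1 h).2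
      exact key f g
  · intro H
    refine ⟨IsLocalRing.of_isUnit_or_isUnit_one_sub_self fun f => ?_, fun a ha => ?_, fun u => ?_⟩
    · rcases H f (1 - f) ⟨1, 1, by ring⟩ with ⟨o, -, h⟩ | ⟨o, -, h⟩
      · exact Or.inr (IsUnit.of_mul_eq_one (o + 1) (by linear_combination (-1 : A) * h))
      · exact Or.inl (IsUnit.of_mul_eq_one (o + 1) (by linear_combination (-1 : A) * h))
    · rcases H a 1 isCoprime_one_right with ⟨o, ho, rfl⟩ | ⟨o, -, h⟩
      · simpa using ho
      · exact absurd (IsUnit.of_mul_eq_one o h.symm) ha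
    · rcases H (u : A) 1 isCoprime_one_right with ⟨o, ho, h⟩ | ⟨o, ho, h⟩
      · exact Or.inl (by rw [h, one_mul]; exact ho)
      · refine Or.inr ?_
        rwa [show ((u⁻¹ : Aˣ) : A) = o from Units.inv_eq_of_mul_eq_one_right h.symm]

end Groth.Agent.S17881
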