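import Groth.Statements.S17882
import Mathlib
import Groth.Prelude.Def_Fitting
import Groth.Agent.Lib.Fitting.More

set_option autoImplicit false
universe u
open CAlg

namespace Groth.Agent.S17882
open scoped TensorProduct

/-- Let B be a commutative ring, r ≥ 1, N a finitely generated submodule of B^r, and n_1, …, n_r ∈ N.
Suppose the determinant of the matrix with rows n_1, …, n_r is a nonzerodivisor of B and that the
determinant of every matrix whose rows lie in N is a multiple of it (the image of the top exterior
power of N in that of B^r ≅ B is the principal ideal generated by n_1 ∧ ⋯ ∧ n_r, a nonzerodivisor).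
Then n_1, …, n_r are linearly independent over B and span N: N is free of rank r with this basis. -/
theorem result (B : Type u) [CommRing B] (r : ℕ) (hr : 0 < r)
    (N : Submodule B (Fin r → B)) (hN : N.FG) (n : Fin r → (Fin r → B)) (hn : ∀ i, n i ∈ N)
    (hgen : ∀ m : Fin r → (Fin r → B), (∀ i, m i ∈ N) →
      Matrix.det (Matrix.of m) ∈ Ideal.span {Matrix.det (Matrix.of n)})
    (hnzd : Matrix.det (Matrix.of n) ∈ nonZeroDivisors B) :
    LinearIndependent B n ∧ Submodule.span B (Set.range n) = N := by
  classical
  set M := Matrix.of n with hM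
  refine ⟨?_, le_antisymm (Submodule.span_le.2 (Set.range_subset_iff.2 hn)) fun m hm => ?_⟩
  · rw [Fintype.linearIndependent_iff]
    intro g hg i
    have h1 : Matrix.vecMul g M = 0 := by
      rw [Matrix.vecMul_eq_sum]; exact hg
    have h2 := congrArg (fun v => Matrix.vecMul v M.adjugate) h1
    simp only [Matrix.vecMul_vecMul, Matrix.mul_adjugate, Matrix.vecMul_smul, Matrix.vecMul_one, Matrix.zero_vecMul] at h2
    exact (mul_right_mem_nonZeroDivisors_eq_zero_iff hnzd).1 (by rw [mul_comm]; exact congrFun h2 i)
  · have hc : ∀ i, ∃ c, c * M.det = (M.updateRow i m).det := fun i => by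
      refine Ideal.mem_span_singleton'.1 (hgen (M.updateRow i m) fun j => ?_)
      by_cases h : j = i
      · subst h; rw [Matrix.updateRow_self]; exact hm
      · rw [Matrix.updateRow_ne h]; exact hn j
    choose c hc using hc
    have h1 : M.transpose.mulVec (Matrix.cramer M.transpose m) = M.det • m := by
      rw [Matrix.mulVec_cramer, Matrix.det_transpose]
    have h2 : Matrix.cramer M.transpose m = M.det • c := funext fun i => by
      rw [Matrix.cramer_transpose_apply, ← hc i, Pi.smul_apply, smul_eq_mul, mul_comm]
    rw [h2, Matrix.mulVec_smul] at h1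
    have h3 : M.transpose.mulVec c = m := funext fun i =>
      (isRegular_iff_mem_nonZeroDivisors.2 hnzd).left (congrFun h1 i)
    rw [← h3, Matrix.mulVec_transpose, Matrix.vecMul_eq_sum]
    exact Submodule.sum_mem _ fun i _ => Submodule.smul_mem _ _ (Submodule.subset_span ⟨i, rfl⟩)

end Groth.Agent.S17882
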