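import Groth.Statements.S17883
import Groth.Agent.Lib.FinLocExt4.Main
import Groth.Agent.Lib.Nagata4.Nagata
-- import your own Groth.Agent.* helpers here

set_option autoImplicit false
universe u v
open CategoryTheory AlgebraicGeometry
open FlatMor

namespace Groth.Agent.S17883

/-- Let S be a Noetherian scheme and f : X → S a separated morphism of finite type, and let (E_i) be a
finite family of finite locally free O_X-modules. Then there exist a scheme X', an open immersion j
: X → X' with schematically dense image (scheme-theoretically dominant and quasi-compact) and a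
proper morphism g : X' → S with j ≫ g = f, and for each i a finite locally free module E'_i on X'
whose pullback along j is isomorphic to E_i. For the empty family this is Nagata's embedding into a
proper S-scheme with schematically dense image. -/
theorem result {S X : Scheme.{u}} (f : X ⟶ S)
    [IsNoetherian S] [IsSeparated f] [QuasiCompact f] [LocallyOfFiniteType f]
    {ι : Type v} [Finite ι] (E : ι → X.Modules) (hE : ∀ i, FlatMod.IsFinLocFree (E i)) :
    ∃ (X' : Scheme.{u}) (j : X ⟶ X') (g : X' ⟶ S), IsOpenImmersion j ∧ QuasiCompact j ∧
      IsSchemeTheoreticallyDominant j ∧ IsProper g ∧ j ≫ g = f ∧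
      ∀ i, ∃ E' : X'.Modules, FlatMod.IsFinLocFree E' ∧
        Nonempty ((Scheme.Modules.pullback j).obj E' ≅ E i) := by
  haveI : Fintype ι := Fintype.ofFinite ι
  obtain ⟨Y, j, p, hj, hjc, hp, hjp⟩ := Groth.Agent.Nagata4.exists_compactification f
  haveI := Groth.Agent.EffCartier.dominant_toImage j
  haveI : IsLocallyNoetherian j.image := LocallyOfFiniteType.isLocallyNoetherian (j.imageι ≫ p)
  haveI : CompactSpace j.image := QuasiCompact.compactSpace_of_compactSpace (j.imageι ≫ p)
  haveI : IsNoetherian j.image := ⟨⟩
  obtain ⟨X', b, j', hj', hd', hjb, -, hb, -, hs⟩ :=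
    Groth.Agent.FinLocExt4.exists_extend j.toImage (Finset.univ : Finset ι) E hE
  haveI : IsLocallyNoetherian X' := LocallyOfFiniteType.isLocallyNoetherian b
  exact ⟨X', j', b ≫ j.imageι ≫ p, hj', inferInstance, hd', inferInstance,
    by rw [reassoc_of% hjb, Scheme.Hom.toImage_imageι_assoc, hjp], fun i => hs i (Finset.mem_univ i)⟩

end Groth.Agent.S17883
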