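import Groth.Statements.S17884
import Groth.Agent.Lib.FinLocExt4.Main
import Groth.Agent.S9706
import Groth.Agent.Lib.QuotProj11.Main
import Groth.Agent.Lib.QuotProj11.Proper
-- import your own Groth.Agent.* helpers here

set_option autoImplicit false
universe u v
open CategoryTheory AlgebraicGeometry
open FlatMor

namespace Groth.Agent.S17884

/-- Let S be a Noetherian scheme and f : X → S a separated quasi-projective morphism (of finite type,
with an f-ample invertible module), and let (E_i) be a finite family of finite locally free
O_X-modules. Then there exist a scheme X', an open immersion j : X → X' with schematically dense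
image and a projective morphism g : X' → S with j ≫ g = f, and for each i a finite locally free
module on X' whose pullback along j is isomorphic to E_i. -/
theorem result {S X : Scheme.{u}} (f : X ⟶ S)
    [IsNoetherian S] [IsSeparated f] (hf : RelProj.IsQuasiProjective f)
    {ι : Type v} [Finite ι] (E : ι → X.Modules) (hE : ∀ i, FlatMod.IsFinLocFree (E i)) :
    ∃ (X' : Scheme.{u}) (j : X ⟶ X') (g : X' ⟶ S), IsOpenImmersion j ∧ QuasiCompact j ∧
      IsSchemeTheoreticallyDominant j ∧ RelProj.IsProjective g ∧ j ≫ g = f ∧
      ∀ i, ∃ E' : X'.Modules, FlatMod.IsFinLocFree E' ∧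
        Nonempty ((Scheme.Modules.pullback j).obj E' ≅ E i) := by
  haveI : Fintype ι := Fintype.ofFinite ι
  haveI : CompactSpace S := inferInstance
  obtain ⟨P, j, g, hj, hg, hjg⟩ := Groth.Agent.S9706.result f hf
  haveI : IsProper g := Groth.Agent.QuotProj11.isProper_of_isProjective hg
  haveI : IsLocallyNoetherian P := LocallyOfFiniteType.isLocallyNoetherian g
  haveI : QuasiCompact j := inferInstance
  haveI := Groth.Agent.EffCartier.dominant_toImage j
  haveI : IsLocallyNoetherian j.image := LocallyOfFiniteType.isLocallyNoetherian (j.imageι ≫ g)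
  haveI : CompactSpace j.image := QuasiCompact.compactSpace_of_compactSpace (j.imageι ≫ g)
  haveI : IsNoetherian j.image := ⟨⟩
  obtain ⟨X', b, j', hj', hd', hjb, hbP, hb, -, hs⟩ :=
    Groth.Agent.FinLocExt4.exists_extend j.toImage (Finset.univ : Finset ι) E hE
  haveI : IsLocallyNoetherian X' := LocallyOfFiniteType.isLocallyNoetherian b
  exact ⟨X', j', b ≫ j.imageι ≫ g, hj', inferInstance, hd',
    Groth.Agent.S9708.result b (j.imageι ≫ g) hbP (Groth.Agent.QuotProj11.isProjective_comp_of_isClosedImmersion _ hg),
    by rw [reassoc_of% hjb, Scheme.Hom.toImage_imageι_assoc, hjg], fun i => hs i (Finset.mem_univ i)⟩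

end Groth.Agent.S17884
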