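import Groth.Statements.S17885
import Groth.Agent.S7383
import Groth.Agent.Lib.LimH13.Struct
import Mathlib.CategoryTheory.Filtered.Final

set_option autoImplicit false
universe u
open CategoryTheory AlgebraicGeometry
open Lim

namespace Groth.Agent.S17885

set_option backward.isDefEq.respectTransparency false
set_option backward.isDefEq.respectTransparency.types false


/-- Let f : Y → X be a morphism of schemes with X and Y quasi-compact and quasi-separated. Then f is
affine if and only if the X-scheme Y is a limit, in the category of schemes over X, of a filtered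
inverse system of X-schemes that are affine and of finite presentation over X. -/
theorem result {X Y : Scheme.{u}} (f : Y ⟶ X)
    [CompactSpace X] [QuasiSeparatedSpace X] [CompactSpace Y] [QuasiSeparatedSpace Y] :
    IsAffineHom f ↔
      ∃ (I : Type u) (_ : SmallCategory I) (_ : IsFiltered I) (D : Iᵒᵖ ⥤ Over X)
        (c : Limits.Cone D) (_ : Limits.IsLimit c),
        (∀ i, IsAffineHom (D.obj i).hom ∧ LocallyOfFinitePresentation (D.obj i).hom) ∧
        Nonempty (c.pt ≅ Over.mk f) := by

  constructor
  · intro hf
    obtain ⟨I, _, _, _, D, c, hc, hfp, haff, ⟨e⟩⟩ := Groth.Agent.S7383.result f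
    haveI : IsFiltered I := isFiltered_of_directed_le_nonempty I
    haveI : IsConnected Iᵒᵖ := IsCofiltered.isConnected _
    let E := D ⋙ Over.forget X
    have hcE : Limits.IsLimit ((Over.forget X).mapCone c) := Limits.isLimitOfPreserves (Over.forget X) hc
    haveI : ∀ {i j} (a : i ⟶ j), IsAffineHom (E.map a) := fun a => haff _ _ a
    haveI : ∀ i, CompactSpace (E.obj i) := fun i => by
      haveI := (hfp i).2.1
      exact QuasiCompact.compactSpace_of_compactSpace (D.obj i).hom
    haveI : ∀ i, QuasiSeparatedSpace (E.obj i) := fun i => by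
      haveI := (hfp i).2.2
      exact quasiSeparatedSpace_of_quasiSeparated (D.obj i).hom
    let t : E ⟶ (Functor.const Iᵒᵖ).obj X :=
      { app := fun i => (D.obj i).hom
        naturality := fun i j a => by simp [E] }
    let i₀ : Iᵒᵖ := Opposite.op (Classical.arbitrary I)
    haveI : IsIso e.hom.left := inferInstanceAs (IsIso ((Over.forget X).mapIso e).hom)
    haveI : IsAffineHom (((Over.forget X).mapCone c).π.app i₀ ≫ t.app i₀) := by
      have h1 : ((Over.forget X).mapCone c).π.app i₀ ≫ t.app i₀ = e.hom.left ≫ f :=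
        (Over.w (c.π.app i₀)).trans (Over.w e.hom).symm
      rw [h1]
      infer_instance
    obtain ⟨i₁, hi₁⟩ := LimH13.exists_isAffineHom_structureMap (t := t) hcE i₀
    let J := {i : I // i₁.unop ≤ i}
    haveI : IsDirectedOrder J := ⟨fun a b => by
      obtain ⟨k, hak, hbk⟩ := exists_ge_ge a.1 b.1
      exact ⟨⟨k, a.2.trans hak⟩, hak, hbk⟩⟩
    haveI : Nonempty J := ⟨⟨i₁.unop, le_rfl⟩⟩
    have hmono : Monotone (fun j : J => j.1) := fun a b h => h
    haveI : hmono.functor.Final := hmono.final_functor_iff.mpr fun i => by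
      obtain ⟨k, hk1, hk2⟩ := exists_ge_ge i i₁.unop
      exact ⟨⟨k, hk2⟩, hk1⟩
    haveI : IsFiltered J := isFiltered_of_directed_le_nonempty J
    exact ⟨J, inferInstance, inferInstance, hmono.functor.op ⋙ D, c.whisker hmono.functor.op,
      (Functor.Initial.isLimitWhiskerEquiv _ _).symm hc,
      fun j => ⟨hi₁ (Opposite.op j.unop.1) (homOfLE j.unop.2).op, (hfp (Opposite.op j.unop.1)).1⟩, ⟨e⟩⟩
  · rintro ⟨I, _, _, D, c, hc, hD, ⟨e⟩⟩
    haveI : IsConnected Iᵒᵖ := IsCofiltered.isConnected _
    let E := D ⋙ Over.forget X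
    have hcE : Limits.IsLimit ((Over.forget X).mapCone c) := Limits.isLimitOfPreserves (Over.forget X) hc
    haveI : ∀ {i j} (a : i ⟶ j), IsAffineHom (E.map a) := fun {i j} a => by
      haveI := (hD i).1
      haveI := (hD j).1
      haveI : IsAffineHom ((D.map a).left ≫ (D.obj j).hom) := by
        rw [Over.w (D.map a)]
        infer_instance
      exact IsAffineHom.of_comp (D.map a).left (D.obj j).hom
    obtain ⟨i⟩ : Nonempty Iᵒᵖ := inferInstance
    haveI : IsAffineHom (c.π.app i).left := isAffineHom_π_app E _ hcE i
    haveI := (hD i).1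
    haveI : IsIso e.inv.left := inferInstanceAs (IsIso ((Over.forget X).mapIso e).inv)
    have h1 : e.inv.left ≫ (c.π.app i).left ≫ (D.obj i).hom = f := by
      rw [Over.w (c.π.app i)]
      exact Over.w e.inv
    rw [← h1]
    infer_instance

end Groth.Agent.S17885
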