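import Groth.Statements.S17886
import Groth.Agent.Lib.AdmBlow2.AmpleFam
import Groth.Agent.Lib.Ample18.Avoid

set_option autoImplicit false
set_option backward.isDefEq.respectTransparency false
universe u
open CategoryTheory AlgebraicGeometry
open FlatMor

namespace Groth.Agent.S17886

/-- Let S be a Noetherian scheme and f : X → S separated and of finite type. Then X is covered by
finitely many affine opens U_1, …, U_n each of which is dense in X and quasi-projective over S (of
finite type with a relatively ample invertible module). -/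
theorem result {S X : Scheme.{u}} (f : X ⟶ S)
    [IsNoetherian S] [IsSeparated f] [QuasiCompact f] [LocallyOfFiniteType f] :
    ∃ (n : ℕ) (U : Fin n → X.Opens), (⨆ i, U i) = ⊤ ∧
      ∀ i, IsAffineOpen (U i) ∧ Dense ((U i : Set X)) ∧ RelProj.IsQuasiProjective ((U i).ι ≫ f) := by
  haveI : IsLocallyNoetherian X := LocallyOfFiniteType.isLocallyNoetherian f
  haveI : CompactSpace X := QuasiCompact.compactSpace_of_compactSpace f
  haveI : IsNoetherian X := ⟨⟩
  have hirr : (irreducibleComponents X).Finite := TopologicalSpace.NoetherianSpace.finite_irreducibleComponents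
  choose V0 hV0 hxV0 _ using fun x : X => exists_isAffineOpen_mem_and_subset (X := X) (U := ⊤) (x := x) trivial
  choose W hW hle hgen using fun x : X => Groth.Agent.AdmBlow2.exists_affine_ge_genericPoints hirr (V0 x) (hV0 x)
  obtain ⟨t, ht⟩ := isCompact_univ.elim_finite_subcover (fun x : X => (W x : Set X)) (fun x => (W x).2)
    (fun x _ => Set.mem_iUnion.2 ⟨x, hle x (hxV0 x)⟩)
  refine ⟨t.card, fun i => W (t.equivFin.symm i).1, top_unique fun x _ => ?_, fun i => ⟨hW _, ?_, ?_⟩⟩
  · obtain ⟨y, hy, hxy⟩ := Set.mem_iUnion₂.1 (ht (Set.mem_univ x))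
    exact TopologicalSpace.Opens.mem_iSup.2 ⟨t.equivFin ⟨y, hy⟩, by simp only [Equiv.symm_apply_apply]; exact hxy⟩
  · refine Dense.mono (s₁ := genericPoints X) (hgen _) ?_
    rw [dense_iff_closure_eq, genericPoints.closure]
  · let U := W (t.equivFin.symm i).1
    haveI : IsAffine (U : Scheme.{u}) := hW _
    refine ⟨inferInstance, inferInstance, Coh.structureModule _, inferInstance, fun V => ?_⟩
    haveI : CompactSpace ((U.ι ≫ f) ⁻¹ᵁ V.1 : Scheme.{u}) :=
      isCompact_iff_compactSpace.1 ((U.ι ≫ f).isCompact_preimage V.2.isCompact)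
    haveI : Scheme.IsQuasiAffine ((U.ι ≫ f) ⁻¹ᵁ V.1 : Scheme.{u}) :=
      Scheme.IsQuasiAffine.of_isImmersion ((U.ι ≫ f) ⁻¹ᵁ V.1).ι
    exact Groth.Agent.Amp.isAmple_of_isQuasiAffine
      (Groth.Agent.M2.isInvertible_restrict (PicLoc.isInvertible_structureModule _) ((U.ι ≫ f) ⁻¹ᵁ V.1).ι)

end Groth.Agent.S17886
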