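import Groth.Statements.S17888
import Groth.Agent.Lib.FinLocExt4.Main
import Groth.Agent.Lib.AdmOpen4.Open
-- import your own Groth.Agent.* helpers here

set_option autoImplicit false
universe u
open CategoryTheory AlgebraicGeometry
open FlatMor

namespace Groth.Agent.S17888

/-- S is a Noetherian scheme and f : X → S is separated and of finite type; X is covered by two open
subschemes X₁ and X₂, both containing an open subscheme U that is schematically dense in X; and E₁
on X₁, E₂ on X₂ are finite locally free modules that become isomorphic after restricting to U. Then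
there exist a proper morphism π : X' → X which restricts to an isomorphism over U and under which
the preimage of U is schematically dense in X', and a finite locally free module E' on X' whose
restriction to π⁻¹(U) is isomorphic to the pullback of E₁|_U along π⁻¹(U) → U. -/
theorem result {S X : Scheme.{u}} (f : X ⟶ S)
    [IsNoetherian S] [IsSeparated f] [QuasiCompact f] [LocallyOfFiniteType f]
    (U X₁ X₂ : X.Opens) (hU₁ : U ≤ X₁) (hU₂ : U ≤ X₂) (hX : X₁ ⊔ X₂ = ⊤)
    [IsSchemeTheoreticallyDominant U.ι]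
    (E₁ : (↑X₁ : Scheme.{u}).Modules) (E₂ : (↑X₂ : Scheme.{u}).Modules)
    (hE₁ : FlatMod.IsFinLocFree E₁) (hE₂ : FlatMod.IsFinLocFree E₂)
    (φ : (Scheme.Modules.pullback (X.homOfLE hU₁)).obj E₁ ≅ (Scheme.Modules.pullback (X.homOfLE hU₂)).obj E₂) :
    ∃ (X' : Scheme.{u}) (π : X' ⟶ X) (E' : X'.Modules), IsProper π ∧ IsIso (π ∣_ U) ∧
      IsSchemeTheoreticallyDominant (π ⁻¹ᵁ U).ι ∧ FlatMod.IsFinLocFree E' ∧
      Nonempty ((Scheme.Modules.pullback (π ⁻¹ᵁ U).ι).obj E' ≅
        (Scheme.Modules.pullback (π ∣_ U ≫ X.homOfLE hU₁)).obj E₁) := by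
  haveI : IsLocallyNoetherian X := LocallyOfFiniteType.isLocallyNoetherian f
  haveI : CompactSpace X := QuasiCompact.compactSpace_of_compactSpace f
  haveI : IsNoetherian X := ⟨⟩
  obtain ⟨X', π, j', hj', hd', hjb, -, hπ, -, hs⟩ := Groth.Agent.FinLocExt4.exists_extend U.ι
    (Finset.univ : Finset PUnit.{1}) (fun _ => (Scheme.Modules.pullback (X.homOfLE hU₁)).obj E₁)
    (fun _ => Groth.Agent.M2.isFinLocFree_pullback _ hE₁)
  obtain ⟨E', hE', ⟨e⟩⟩ := hs PUnit.unit (Finset.mem_univ _)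
  haveI : QuasiCompact U.ι := inferInstance
  haveI : IsIso (π ∣_ U) := Groth.Agent.AdmOpen4.isIso_restrict_of_section U π j' hjb
  have hmem : ∀ x, j' x ∈ π ⁻¹ᵁ U := fun x => by
    show π (j' x) ∈ U
    rw [← Scheme.Hom.comp_apply, hjb]
    exact x.2
  refine ⟨X', π, E', hπ, ‹_›, Groth.Agent.EffCartier.dominant_of_range_le j' _ hmem, hE', ?_⟩
  let l := IsOpenImmersion.lift (π ⁻¹ᵁ U).ι j' (by
    rintro _ ⟨x, rfl⟩; rw [Scheme.Opens.range_ι]; exact hmem x)
  have hl : l ≫ (π ⁻¹ᵁ U).ι = j' := IsOpenImmersion.lift_fac _ _ _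
  have hl1 : l ≫ (π ∣_ U) = 𝟙 _ := by
    rw [← cancel_mono U.ι, Category.assoc, morphismRestrict_ι, reassoc_of% hl, hjb, Category.id_comp]
  have hl2 : (π ∣_ U) ≫ j' = (π ⁻¹ᵁ U).ι := by
    rw [← hl, ← Category.assoc, (IsIso.eq_inv_of_hom_inv_id (f := π ∣_ U) (g := l) (by
      rw [← cancel_mono (π ∣_ U), Category.assoc, hl1, Category.comp_id, Category.id_comp])), IsIso.hom_inv_id,
      Category.id_comp]
  exact ⟨(Scheme.Modules.pullbackCongr hl2.symm).app E' ≪≫ ((Scheme.Modules.pullbackComp (π ∣_ U) j').app E').symm ≪≫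
    (Scheme.Modules.pullback (π ∣_ U)).mapIso e ≪≫ (Scheme.Modules.pullbackComp (π ∣_ U) (X.homOfLE hU₁)).app E₁⟩

end Groth.Agent.S17888
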