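import Groth.Statements.S17889
import Groth.Agent.Lib.BlowUp3.Sep

set_option autoImplicit false
universe u
open CategoryTheory AlgebraicGeometry TopologicalSpace
open BlowUp

namespace Groth.Agent.S17889

/-- Let X be a Noetherian scheme, X₀ ⊆ X an open subscheme, p : Z → X a morphism of finite type with Z
Noetherian, and F ⊆ X, G ⊆ Z closed subsets with p⁻¹(F ∩ X₀) ∩ G = ∅. Let a be a quasi-coherent
ideal sheaf on X whose support does not meet X₀, which contains the vanishing ideal I_F of F, and
which is contained in the kernel ideal of V(I_F·O_Z + I_G) → Z → X (the ideal of the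
scheme-theoretic image under p of p⁻¹(F) ∩ G). Let π : X' → X be a blowing-up along a, Z' = Z ×_X X'
with projections π' : Z' → Z and p' : Z' → X'. Then p'⁻¹ of the closure in X' of π⁻¹(F ∩ X₀) is
disjoint from the closure in Z' of π'⁻¹(G ∩ p⁻¹(X₀)). Taking a to be that kernel ideal shows such an
a exists. -/
theorem result
    {X Z : Scheme.{u}} [IsNoetherian X] [IsNoetherian Z] (p : Z ⟶ X) [LocallyOfFiniteType p]
    (X₀ : X.Opens) (F : Closeds X) (G : Closeds Z)
    (hFG : p.base ⁻¹' ((F : Set X) ∩ (X₀ : Set X)) ∩ (G : Set Z) = ∅)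
    (𝔞 : X.IdealSheafData) (h₁ : Disjoint (𝔞.support : Set X) (X₀ : Set X))
    (h₂ : Scheme.IdealSheafData.vanishingIdeal F ≤ 𝔞)
    (h₃ : 𝔞 ≤ (((Scheme.IdealSheafData.vanishingIdeal F).comap p ⊔
      Scheme.IdealSheafData.vanishingIdeal G).subschemeι ≫ p).ker)
    {X' : Scheme.{u}} (π : X' ⟶ X) (hπ : BlowUp.IsBlowUp π 𝔞) :
    (Limits.pullback.snd p π).base ⁻¹' closure (π.base ⁻¹' ((F : Set X) ∩ (X₀ : Set X))) ∩
      closure ((Limits.pullback.fst p π).base ⁻¹' ((G : Set Z) ∩ (p ⁻¹ᵁ X₀ : Set Z))) = ∅ := by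
  rw [← Set.disjoint_iff_inter_eq_empty]
  refine (BlowUp3.disjoint_closure_preimage (Limits.pullback.snd p π) (E := 𝔞.comap π)
    (J := (Scheme.IdealSheafData.vanishingIdeal F).comap π) (M := 𝔞.comap π)
    (T := (Scheme.IdealSheafData.vanishingIdeal F).comap π)
    (K := (Scheme.IdealSheafData.vanishingIdeal G).comap (Limits.pullback.fst p π)) hπ.1
    (Scheme.IdealSheafData.comap_mono π h₂) ?_ ?_ ?_ (fun _ _ _ _ h => h) le_sup_right ?_ ?_).symm
  · intro x hx
    rw [Scheme.IdealSheafData.support_comap]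
    show π x ∈ ((Scheme.IdealSheafData.vanishingIdeal F).support : Set X)
    rw [Scheme.IdealSheafData.coe_support_vanishingIdeal]
    exact hx.1
  · rw [Scheme.IdealSheafData.support_comap, Set.disjoint_left]
    intro x hx hx'
    exact Set.disjoint_left.1 h₁ hx' hx.2
  · rw [Scheme.Hom.ker_comp, Scheme.IdealSheafData.ker_subschemeι, Scheme.IdealSheafData.le_map_iff_comap_le] at h₃
    rw [← Scheme.IdealSheafData.comap_comp, ← Scheme.IdealSheafData.comap_comp, ← Limits.pullback.condition,
      Scheme.IdealSheafData.comap_comp, Scheme.IdealSheafData.comap_comp, ← Scheme.IdealSheafData.comap_sup]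
    exact Scheme.IdealSheafData.comap_mono _ h₃
  · intro z hz
    rw [Scheme.IdealSheafData.support_comap]
    show (Limits.pullback.fst p π) z ∈ ((Scheme.IdealSheafData.vanishingIdeal G).support : Set Z)
    rw [Scheme.IdealSheafData.coe_support_vanishingIdeal]
    exact hz.1
  · intro z hz hz'
    rw [Scheme.IdealSheafData.support_comap] at hz'
    have h : (Limits.pullback.snd p π ≫ π) z ∈ (𝔞.support : Set X) := hz'
    rw [← Limits.pullback.condition] at h
    exact Set.disjoint_left.1 h₁ h hz.2

end Groth.Agent.S17889
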