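import Groth.Statements.S1789
import Groth.Agent.Lib.BC8.ViaNormalized
import Groth.Agent.Lib.BC8.FibreOne
import Groth.Agent.S1782

set_option autoImplicit false
universe u
open CategoryTheory
attribute [local instance] HasDerivedCategory.standard
open Dual2

namespace Groth.Agent.S1789


/-- Let R → A be a ring map of finite type between Noetherian rings with R local, where φ^!(K) is formed
from a presentation ψ : R[x_1, …, x_n] → A as RHom_P(A, K ⊗^L_R P)[n], assuming the derived base
change to P exists and taking for RHom_P(A, −) a right adjoint of restriction of scalars along ψ.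
Let m be a maximal ideal of A lying over the maximal ideal of R and ω a normalized dualizing complex
for R. Assuming the derived base change D(A) → D(A_m) exists, the base change of φ^!(ω) to A_m is a
normalized dualizing complex for A_m. -/
theorem result (R A : Type u) [CommRing R] [CommRing A] [IsNoetherianRing R] [IsNoetherianRing A] [Algebra R A] (n : ℕ) (ψ : MvPolynomial (Fin n) R →ₐ[R] A) (hψ : Function.Surjective ψ) [DRing.HasLBaseChange (algebraMap R (MvPolynomial (Fin n) R))] (Rψ : Dual.D (MvPolynomial (Fin n) R) ⥤ Dual.D A) (adj : DRing.restrictD ψ.toRingHom ⊣ Rψ) [IsLocalRing R] (m : Ideal A) [m.IsMaximal] (hm : m.comap (algebraMap R A) = IsLocalRing.maximalIdeal R) (ω : Dual.D R) (hω : Dual.IsDualizing R ω) (hn : Dual.IsNormalized R ω) [DRing.HasLBaseChange (algebraMap A (Localization.AtPrime m))] : Dual.IsDualizing (Localization.AtPrime m) ((DRing.LBaseChange (algebraMap A (Localization.AtPrime m))).obj (Dual2.shriekVia n Rψ ω)) ∧ Dual.IsNormalized (Localization.AtPrime m) ((DRing.LBaseChange (algebraMap A (Localization.AtPrime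 m))).obj (Dual2.shriekVia n Rψ ω)) := by
  let M₀ := Dual2.shriekVia n Rψ ω
  have hd : Dual.IsDualizing A M₀ := S1782.result R A n ψ hψ Rψ adj ω hω
  let q : PrimeSpectrum A := ⟨m, inferInstance⟩
  haveI : DRing.HasLBaseChange (algebraMap A (Localization q.asIdeal.primeCompl)) :=
    ‹DRing.HasLBaseChange (algebraMap A (Localization.AtPrime m))›
  have h1 := BC8.isDualizing_lbc_loc hd q
  refine ⟨h1, ?_⟩
  let Mo := Dlz27.model hd
  have hdeg : Dlz27.deg hd Mo q = 0 := by
    by_contra hne
    refine (Dlz27.vanS_iff_ne_deg hd Mo q _).1 ((Dlz27.vanS_iff_hom Mo q.asIdeal.primeCompl (A ⧸ q.asIdeal) _).2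
      fun f => ⟨1, ?_⟩) rfl
    haveI := BC8.subsingleton_hom_via_maximal n ψ hψ adj hω hn m hm (Dlz27.deg hd Mo q) hne
    exact Subsingleton.elim _ _
  obtain ⟨l⟩ := Dlz27.exists_LBaseChange_iso q.asIdeal.primeCompl Mo.W
  let e : (DRing.LBaseChange (algebraMap A (Localization q.asIdeal.primeCompl))).obj M₀ ≅ Dlz27.omegaAt Mo q :=
    ((DRing.LBaseChange _).mapIso Mo.e).symm ≪≫ l
  intro i hi
  have h2 := Dlz27.isNormalized_omegaAt hd Mo q i hi
  rw [hdeg] at h2
  exact @Equiv.subsingleton _ _ (Iso.homCongr (Iso.refl _)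
    ((shiftFunctor _ i).mapIso (e ≪≫ ((shiftFunctorZero _ ℤ).app (Dlz27.omegaAt Mo q)).symm))) h2


end Groth.Agent.S1789
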