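import Groth.Statements.S17895


set_option autoImplicit false
universe u
open CategoryTheory AlgebraicGeometry
open FlatMor

namespace Groth.Agent.S17895

/-- Let S be a Noetherian scheme, X and Y separated S-schemes of finite type, j : U → X an open
immersion and g : U → Y a proper S-morphism. Then the image of the graph morphism (j, g) : U → X ×_S
Y is closed; in particular, when the image of j is schematically dense in X, g is a proper
quasi-domination of X over Y. (Schematic density of U plays no role in the closedness and is not
assumed here.) -/
theorem result {S X Y U : Scheme.{u}} [IsNoetherian S]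
    (pX : X ⟶ S) (pY : Y ⟶ S) [IsSeparated pX] [QuasiCompact pX] [LocallyOfFiniteType pX]
    [IsSeparated pY] [QuasiCompact pY] [LocallyOfFiniteType pY]
    (j : U ⟶ X) [IsOpenImmersion j] (g : U ⟶ Y) [IsProper g] (hg : j ≫ pX = g ≫ pY) :
    IsClosed (Set.range (fun u => (Limits.pullback.lift j g hg) u)) := by
  have : IsProper (Limits.pullback.lift j g hg ≫ Limits.pullback.snd pX pY) := by
    rw [Limits.pullback.lift_snd]; infer_instance
  have : IsProper (Limits.pullback.lift j g hg) := IsProper.of_comp _ (Limits.pullback.snd pX pY)
  exact (Limits.pullback.lift j g hg).isClosedMap.isClosed_range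

end Groth.Agent.S17895
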