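import Groth.Statements.S17896
import Groth.Agent.Lib.FinLocExt4.Main
import Groth.Agent.Lib.AdmOpen4.TwoDom
-- import your own Groth.Agent.* helpers here

set_option autoImplicit false
universe u
open CategoryTheory AlgebraicGeometry
open FlatMor

namespace Groth.Agent.S17896

/-- Let S be a Noetherian scheme, X₁ and X₂ separated S-schemes of finite type and j₁ : U → X₁, j₂ : U →
X₂ open immersions over S with schematically dense images, and let E be an O_U-module extending to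
finite locally free modules E₁ on X₁ and E₂ on X₂ (pullbacks along jᵢ isomorphic to E). Then there
exist a separated S-scheme X of finite type, an open immersion k : U → X over S with schematically
dense image, a finite locally free module E' on X whose pullback along k is isomorphic to E, and for
i = 1, 2 a proper quasi-domination of X over Xᵢ compatible with U: a schematically dense open Wᵢ ⊆ X
through which k factors and a proper S-morphism φᵢ : Wᵢ → Xᵢ restricting to jᵢ on U, whose graph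
morphism Wᵢ → X ×_S Xᵢ has closed image. -/
theorem result {S X₁ X₂ U : Scheme.{u}}
    [IsNoetherian S] (p₁ : X₁ ⟶ S) (p₂ : X₂ ⟶ S)
    [IsSeparated p₁] [QuasiCompact p₁] [LocallyOfFiniteType p₁]
    [IsSeparated p₂] [QuasiCompact p₂] [LocallyOfFiniteType p₂]
    (j₁ : U ⟶ X₁) (j₂ : U ⟶ X₂) [IsOpenImmersion j₁] [IsOpenImmersion j₂]
    [IsSchemeTheoreticallyDominant j₁] [IsSchemeTheoreticallyDominant j₂] (hj : j₁ ≫ p₁ = j₂ ≫ p₂)
    (E : U.Modules) (E₁ : X₁.Modules) (E₂ : X₂.Modules)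
    (hE₁ : FlatMod.IsFinLocFree E₁) (hE₂ : FlatMod.IsFinLocFree E₂)
    (e₁ : (Scheme.Modules.pullback j₁).obj E₁ ≅ E) (e₂ : (Scheme.Modules.pullback j₂).obj E₂ ≅ E) :
    ∃ (X : Scheme.{u}) (p : X ⟶ S) (k : U ⟶ X) (E' : X.Modules),
      IsSeparated p ∧ QuasiCompact p ∧ LocallyOfFiniteType p ∧ IsOpenImmersion k ∧ QuasiCompact k ∧
      IsSchemeTheoreticallyDominant k ∧ k ≫ p = j₁ ≫ p₁ ∧ FlatMod.IsFinLocFree E' ∧
      Nonempty ((Scheme.Modules.pullback k).obj E' ≅ E) ∧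
      (∃ (W₁ : X.Opens) (φ₁ : (↑W₁ : Scheme.{u}) ⟶ X₁) (hφ₁ : W₁.ι ≫ p = φ₁ ≫ p₁) (l₁ : U ⟶ ↑W₁),
        IsSchemeTheoreticallyDominant W₁.ι ∧ IsProper φ₁ ∧ l₁ ≫ W₁.ι = k ∧ l₁ ≫ φ₁ = j₁ ∧
        IsClosed (Set.range (fun w => (Limits.pullback.lift W₁.ι φ₁ hφ₁) w))) ∧
      (∃ (W₂ : X.Opens) (φ₂ : (↑W₂ : Scheme.{u}) ⟶ X₂) (hφ₂ : W₂.ι ≫ p = φ₂ ≫ p₂) (l₂ : U ⟶ ↑W₂),
        IsSchemeTheoreticallyDominant W₂.ι ∧ IsProper φ₂ ∧ l₂ ≫ W₂.ι = k ∧ l₂ ≫ φ₂ = j₂ ∧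
        IsClosed (Set.range (fun w => (Limits.pullback.lift W₂.ι φ₂ hφ₂) w))) := by
  haveI : IsLocallyNoetherian X₁ := LocallyOfFiniteType.isLocallyNoetherian p₁
  haveI : QuasiCompact j₁ := inferInstance
  haveI : CompactSpace X₁ := QuasiCompact.compactSpace_of_compactSpace p₁
  haveI : CompactSpace U := QuasiCompact.compactSpace_of_compactSpace j₁
  have hE : FlatMod.IsFinLocFree E :=
    Groth.Agent.M2.isFinLocFree_of_iso e₁ (Groth.Agent.M2.isFinLocFree_pullback j₁ hE₁)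
  obtain ⟨X₀, q, hsq, hqq, hftq, k₀, hk₀, hkq, hd₁, hd₂⟩ := Groth.Agent.AdmOpen4.exists_two_dom p₁ p₂ j₁ j₂ hj
  haveI : IsLocallyNoetherian X₀ := LocallyOfFiniteType.isLocallyNoetherian q
  haveI : QuasiCompact k₀ := inferInstance
  haveI := Groth.Agent.EffCartier.dominant_toImage k₀
  haveI : IsLocallyNoetherian k₀.image := LocallyOfFiniteType.isLocallyNoetherian k₀.imageι
  haveI : CompactSpace k₀.image := QuasiCompact.compactSpace_of_compactSpace (k₀.imageι ≫ q)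
  haveI : IsNoetherian k₀.image := ⟨⟩
  obtain ⟨X, b, k, hk, hkd, hkb, -, hb, -, hs⟩ := Groth.Agent.FinLocExt4.exists_extend k₀.toImage
    (Finset.univ : Finset PUnit.{1}) (fun _ => E) (fun _ => hE)
  obtain ⟨E', hE', he⟩ := hs PUnit.unit (Finset.mem_univ _)
  have hkm : k ≫ (b ≫ k₀.imageι) = k₀ := by rw [reassoc_of% hkb, Scheme.Hom.toImage_imageι]
  haveI : IsLocallyNoetherian X := LocallyOfFiniteType.isLocallyNoetherian b
  obtain ⟨W₁, l₁, φ₁, hφ₁, hl₁, hlp₁, hpr₁, hcl₁⟩ := hd₁.restrict (b ≫ k₀.imageι) k hkm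
  obtain ⟨W₂, l₂, φ₂, hφ₂, hl₂, hlp₂, hpr₂, hcl₂⟩ := hd₂.restrict (b ≫ k₀.imageι) k hkm
  have hdom : ∀ (W : X.Opens) (l : U ⟶ (W : Scheme.{u})), l ≫ W.ι = k → IsSchemeTheoreticallyDominant W.ι :=
    fun W l hl => by
      haveI : IsSchemeTheoreticallyDominant (l ≫ W.ι) := hl ▸ hkd
      exact Groth.Agent.EffCartier.dominant_of_comp (f := l) W.ι
  exact ⟨X, (b ≫ k₀.imageι) ≫ q, k, E', inferInstance, inferInstance, inferInstance, hk, inferInstance, hkd,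
    by rw [← Category.assoc, hkm, hkq], hE', he,
    ⟨W₁, φ₁, hφ₁, l₁, hdom W₁ l₁ hl₁, hpr₁, hl₁, hlp₁, hcl₁⟩, ⟨W₂, φ₂, hφ₂, l₂, hdom W₂ l₂ hl₂, hpr₂, hl₂, hlp₂, hcl₂⟩⟩

end Groth.Agent.S17896
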