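import Groth.Statements.S17899
import Groth.Agent.Lib.ValPD15.Basic
import Mathlib

set_option autoImplicit false
universe u
open TensorProduct
open CAlg

namespace Groth.Agent.S17899
open IsLocalRing TensorProduct

variable {A : Type u} [CommRing A] [IsLocalRing A] {R : ValuationSubring (ResidueField A)}
  {O : Subring A} (hO : O = R.toSubring.comap (residue A))

include hO

theorem mem_iff {a : A} : a ∈ O ↔ residue A a ∈ R := by
  rw [hO]; rfl

theorem mem_of_mem_maximalIdeal {a : A} (ha : a ∈ maximalIdeal A) : a ∈ O := by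
  rw [mem_iff hO, (residue_eq_zero_iff a).2 ha]; exact R.zero_mem

theorem mem_or_inv_mem (a : A) : a ∈ O ∨ ∃ s : O, IsUnit (s : A) ∧ (s : A) * a = 1 := by
  by_cases ha : a ∈ O
  · exact Or.inl ha
  right
  have hu : IsUnit a := by
    by_contra h
    exact ha (mem_of_mem_maximalIdeal hO ((mem_maximalIdeal a).2 h))
  obtain ⟨u, rfl⟩ := hu
  have hinv : ((↑u⁻¹ : Aˣ) : A) ∈ O := by
    rw [mem_iff hO] at ha ⊢
    rcases R.mem_or_inv_mem (residue A (u : A)) with h | h
    · exact absurd h ha
    · rwa [← map_units_inv] at h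
  exact ⟨⟨_, hinv⟩, (u⁻¹).isUnit, u.inv_mul⟩

theorem div_mem {s a : A} (hs : IsUnit s) (ha : a ∈ maximalIdeal A) : ∃ b : O, (b : A) ∈ maximalIdeal A ∧ s * (b : A) = a := by
  obtain ⟨u, rfl⟩ := hs
  exact ⟨⟨_, mem_of_mem_maximalIdeal hO (Ideal.mul_mem_left _ ((↑u⁻¹ : Aˣ) : A) ha)⟩, Ideal.mul_mem_left _ _ ha,
    by rw [← mul_assoc, Units.mul_inv, one_mul]⟩

/-- Pivot: some entry of a vector with a unit entry divides it in `O`. -/
theorem exists_pivot {n : ℕ} (v : Fin n → A) (hv : ∃ k, v k ∉ maximalIdeal A) :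
    ∃ j, ∃ u : Aˣ, (u : A) = v j ∧ ∀ k, (↑u⁻¹ : A) * v k ∈ O := by
  obtain ⟨k₀, hk₀⟩ := hv
  obtain ⟨j, -, hj⟩ := Finset.exists_max_image Finset.univ (fun k => R.valuation (residue A (v k))) ⟨k₀, Finset.mem_univ _⟩
  have hne : residue A (v j) ≠ 0 := fun h => by
    have := hj k₀ (Finset.mem_univ _)
    rw [h, map_zero, le_zero_iff, map_eq_zero, residue_eq_zero_iff] at this
    exact hk₀ this
  obtain ⟨u, hu⟩ := (isUnit_iff_ne_zero.2 hne).of_map (f := residue A)
  refine ⟨j, u, hu, fun k => ?_⟩
  rw [mem_iff hO, map_mul, map_units_inv, hu, ← ValuationSubring.valuation_le_one_iff, map_mul, map_inv₀,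
    mul_comm, ← div_eq_mul_inv]
  exact div_le_one_of_le₀ (hj k (Finset.mem_univ _)) zero_le

variable {C : Type u} [CommRing C] [Algebra O C]

/-- Clearing denominators in the base change. -/
theorem exists_scale (z : A ⊗[O] C) : ∃ (s : O) (c : C), IsUnit (s : A) ∧ (s : A) • z = 1 ⊗ₜ c := by
  induction z using TensorProduct.induction_on with
  | zero => exact ⟨1, 0, isUnit_one, by simp⟩
  | tmul a c =>
    rcases mem_or_inv_mem hO a with ha | ⟨s, hs, hsa⟩
    · refine ⟨1, (⟨a, ha⟩ : O) • c, isUnit_one, ?_⟩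
      rw [OneMemClass.coe_one, one_smul, ← TensorProduct.smul_tmul, Subring.smul_def, smul_eq_mul, mul_one]
    · exact ⟨s, c, hs, by rw [TensorProduct.smul_tmul', smul_eq_mul, hsa]⟩
  | add z z' hz hz' =>
    obtain ⟨s, c, hs, hc⟩ := hz
    obtain ⟨s', c', hs', hc'⟩ := hz'
    refine ⟨s * s', s' • c + s • c', hs.mul hs', ?_⟩
    rw [TensorProduct.tmul_add, ← TensorProduct.smul_tmul, ← TensorProduct.smul_tmul, Subring.smul_def,
      Subring.smul_def, Subring.coe_mul, smul_add, smul_eq_mul, mul_one, smul_eq_mul, mul_one]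
    conv_lhs => rw [mul_smul, smul_comm (s : A) (s' : A) z, hc]
    rw [mul_smul, hc', TensorProduct.smul_tmul', TensorProduct.smul_tmul', smul_eq_mul, smul_eq_mul, mul_one,
      mul_one]

theorem key {n : ℕ} (r : Fin n → O) : ∀ (J : Finset (Fin n)) (m : ℕ) (v : Fin m → Fin n → A) (d : Fin m → A ⊗[O] C)
    (x : Fin n → C) (hinj : Function.Injective (fun c : C => (1 : A) ⊗ₜ[O] c)),
    (∀ l k, k ∉ J → v l k = 0) → (∀ l, ∑ k, (r k : A) * v l k = 0) →
    (∀ k, (1 : A) ⊗ₜ[O] x k = ∑ l, v l k • d l) →
      x ∈ Submodule.span O {w : Fin n → C | ∃ (u : Fin n → O) (c : C), ∑ k, r k * u k = 0 ∧ ∀ k, w k = u k • c} := by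
  classical
  intro J
  induction J using Finset.strongInduction with
  | H J ih =>
    intro m v d x hinj hJ hrel hx
    by_cases hun : ∃ l k, v l k ∉ maximalIdeal A
    · obtain ⟨l, hl⟩ := hun
      obtain ⟨j, u, hu, hmem⟩ := exists_pivot hO (v l) hl
      have hjJ : j ∈ J := by
        by_contra hj
        exact u.isUnit.ne_zero (hu.trans (hJ l j hj))
      let w : Fin n → O := fun k => ⟨_, hmem k⟩
      have hwj : (w j : A) = 1 := by show (↑u⁻¹ : A) * v l j = 1; rw [← hu, Units.inv_mul]
      have hwrel : ∑ k, r k * w k = 0 := by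
        apply Subtype.ext
        rw [AddSubmonoidClass.coe_finset_sum, ZeroMemClass.coe_zero]
        have := congrArg ((↑u⁻¹ : A) * ·) (hrel l)
        simp only [mul_zero, Finset.mul_sum] at this
        rw [← this]
        exact Finset.sum_congr rfl fun k _ => by show (r k : A) * (↑u⁻¹ * v l k) = _; ring
      let x' : Fin n → C := fun k => x k - w k • x j
      have hx' : x' ∈ Submodule.span O _ := ih (J.erase j) (Finset.erase_ssubset hjJ) m
        (fun l' k => v l' k - v l' j * (w k : A)) d x' hinj
        (fun l' k hk => by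
          by_cases hkj : k = j
          · subst hkj; rw [hwj, mul_one, sub_self]
          · have hkJ : k ∉ J := fun h => hk (Finset.mem_erase.2 ⟨hkj, h⟩)
            show v l' k - v l' j * (↑u⁻¹ * v l k) = 0
            rw [hJ l' k hkJ, hJ l k hkJ, mul_zero, mul_zero, sub_self])
        (fun l' => by
          have h0 := congrArg Subtype.val hwrel
          rw [AddSubmonoidClass.coe_finset_sum, ZeroMemClass.coe_zero] at h0
          simp only [mul_sub, Finset.sum_sub_distrib, hrel, zero_sub, neg_eq_zero]
          rw [← mul_zero (v l' j), ← h0, Finset.mul_sum]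
          exact Finset.sum_congr rfl fun k _ => by rw [Subring.coe_mul]; ring)
        (fun k => by
          simp only [sub_smul, Finset.sum_sub_distrib, ← hx]
          rw [TensorProduct.tmul_sub, ← TensorProduct.smul_tmul, Subring.smul_def, smul_eq_mul, mul_one]
          congr 1
          rw [← mul_one (w k : A), ← smul_eq_mul, ← TensorProduct.smul_tmul', hx, Finset.smul_sum]
          exact Finset.sum_congr rfl fun l' _ => by rw [smul_eq_mul, mul_one, smul_smul, mul_comm])
      have : x = x' + (fun k => w k • x j) := funext fun k => (sub_add_cancel _ _).symm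
      rw [this]
      exact add_mem hx' (Submodule.subset_span ⟨w, x j, hwrel, fun k => rfl⟩)
    · push Not at hun
      choose s c hs hsc using fun l => exists_scale hO (d l)
      choose q hq hqv using fun l k => div_mem hO (hs l) (hun l k)
      have hx2 : x = ∑ l, fun k => q l k • c l := funext fun k => hinj (by
        show (1 : A) ⊗ₜ[O] x k = (1 : A) ⊗ₜ[O] _
        rw [hx, Finset.sum_apply, TensorProduct.tmul_sum]
        refine Finset.sum_congr rfl fun l _ => ?_
        rw [← hqv l k, mul_comm, mul_smul, hsc, TensorProduct.smul_tmul', smul_eq_mul, mul_one,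
          ← TensorProduct.smul_tmul, Subring.smul_def, smul_eq_mul, mul_one])
      rw [hx2]
      refine sum_mem fun l _ => Submodule.subset_span ⟨q l, c l, ?_, fun k => rfl⟩
      apply Subtype.ext
      rw [AddSubmonoidClass.coe_finset_sum, ZeroMemClass.coe_zero]
      refine (hs l).mul_right_eq_zero.1 ?_
      rw [Finset.mul_sum, ← hrel l]
      exact Finset.sum_congr rfl fun k _ => by rw [Subring.coe_mul, ← hqv l k]; ring

theorem flat (hinj : Function.Injective (fun c : C => (1 : A) ⊗ₜ[O] c)) (hflat : Module.Flat A (A ⊗[O] C)) :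
    Module.Flat O C := by
  classical
  rw [Module.Flat.iff_forall_isTrivialRelation]
  intro n r x hrx
  have h0 : ∑ k, (r k : A) • ((1 : A) ⊗ₜ[O] x k) = 0 := by
    rw [← TensorProduct.tmul_zero C (1 : A), ← hrx, TensorProduct.tmul_sum]
    exact Finset.sum_congr rfl fun k _ => by
      rw [← TensorProduct.smul_tmul, TensorProduct.smul_tmul', Subring.smul_def]
  obtain ⟨m, a, y, hy, ha⟩ := (Module.Flat.iff_forall_isTrivialRelation.1 hflat) h0
  have hmem := key hO r Finset.univ m (fun l k => a k l) y x hinj (fun l k hk => absurd (Finset.mem_univ k) hk) ha hy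
  obtain ⟨N, f, g, hg⟩ := Submodule.mem_span_set'.1 hmem
  choose u c hu huc using fun i => (g i).2
  refine ⟨N, fun k i => u i k, fun i => f i • c i, fun k => ?_, hu⟩
  have := congrFun hg k
  rw [Finset.sum_apply] at this
  rw [← this]
  exact Finset.sum_congr rfl fun i _ => by rw [Pi.smul_apply, huc, smul_comm]

/-- The residue map to the valuation ring. -/
noncomputable def toR : O →+* R :=
  ((residue A).comp O.subtype).codRestrict R.toSubring (fun x => (mem_iff hO).1 x.2)

theorem finitePresentation [Algebra.FiniteType O C] (hinj : Function.Injective (fun c : C => (1 : A) ⊗ₜ[O] c))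
    (hflat : Module.Flat A (A ⊗[O] C)) (hfp : Algebra.FinitePresentation A (A ⊗[O] C)) :
    Algebra.FinitePresentation O C := by
  classical
  obtain ⟨n, φ, hφ⟩ := Algebra.FiniteType.iff_quotient_mvPolynomial''.1 ‹Algebra.FiniteType O C›
  let ι : MvPolynomial (Fin n) O →+* MvPolynomial (Fin n) A := MvPolynomial.map (algebraMap O A)
  have hι : Function.Injective ι := MvPolynomial.map_injective _ Subtype.val_injective
  let ψ : MvPolynomial (Fin n) A →ₐ[A] A ⊗[O] C := MvPolynomial.aeval fun i => (1 : A) ⊗ₜ[O] φ (MvPolynomial.X i)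
  have hψι : ∀ g, ψ (ι g) = (1 : A) ⊗ₜ[O] φ g := by
    intro g
    show MvPolynomial.aeval _ (MvPolynomial.map (algebraMap O A) g) = _
    rw [MvPolynomial.aeval_map_algebraMap]
    exact DFunLike.congr_fun (MvPolynomial.algHom_ext (f := (MvPolynomial.aeval fun i => (1 : A) ⊗ₜ[O] φ (MvPolynomial.X i)))
      (g := (Algebra.TensorProduct.includeRight : C →ₐ[O] A ⊗[O] C).comp φ) fun i => by simp) g
  have hψ : Function.Surjective ψ := fun z => by
    induction z using TensorProduct.induction_on with
    | zero => exact ⟨0, map_zero _⟩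
    | tmul a c =>
      obtain ⟨g, rfl⟩ := hφ c
      exact ⟨a • ι g, by rw [map_smul, hψι, TensorProduct.smul_tmul', smul_eq_mul, mul_one]⟩
    | add z z' hz hz' =>
      obtain ⟨g, rfl⟩ := hz
      obtain ⟨g', rfl⟩ := hz'
      exact ⟨g + g', map_add _ _ _⟩
  let I := RingHom.ker φ.toRingHom
  have hIJ : ∀ g, g ∈ I ↔ ψ (ι g) = 0 := fun g => by
    rw [hψι, RingHom.mem_ker]
    exact ⟨fun h => by rw [show φ g = 0 from h, TensorProduct.tmul_zero], fun h => hinj (h.trans (TensorProduct.tmul_zero _ _).symm)⟩
  -- clearing denominators of polynomials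
  have hclear : ∀ G : MvPolynomial (Fin n) A, ∃ (s : O) (g : MvPolynomial (Fin n) O), IsUnit (s : A) ∧ (s : A) • G = ι g := by
    intro G
    induction G using MvPolynomial.induction_on' with
    | monomial e a =>
      rcases mem_or_inv_mem hO a with ha | ⟨s, hs, hsa⟩
      · exact ⟨1, MvPolynomial.monomial e ⟨a, ha⟩, isUnit_one, by
          rw [OneMemClass.coe_one, one_smul]
          show _ = MvPolynomial.map (algebraMap O A) (MvPolynomial.monomial e ⟨a, ha⟩)
          rw [MvPolynomial.map_monomial]; rfl⟩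
      · exact ⟨s, MvPolynomial.monomial e 1, hs, by
          rw [MvPolynomial.smul_monomial, smul_eq_mul, hsa]
          show _ = MvPolynomial.map (algebraMap O A) (MvPolynomial.monomial e 1)
          rw [MvPolynomial.map_monomial, map_one (algebraMap O A)]⟩
    | add G G' hG hG' =>
      obtain ⟨s, g, hs, hg⟩ := hG
      obtain ⟨s', g', hs', hg'⟩ := hG'
      refine ⟨s * s', s' • g + s • g', hs.mul hs', ?_⟩
      rw [map_add, smul_add, Algebra.smul_def s' g, Algebra.smul_def s g', map_mul, map_mul,
        MvPolynomial.algebraMap_eq, MvPolynomial.map_C, MvPolynomial.map_C, ← MvPolynomial.smul_eq_C_mul,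
        ← MvPolynomial.smul_eq_C_mul, ← hg, ← hg', smul_smul, smul_smul, Subring.coe_mul, mul_comm (s : A)]
      congr 2
      exact mul_comm _ _
  -- generators coming from `A`
  obtain ⟨T, hT⟩ := Algebra.FinitePresentation.ker_fG_of_surjective ψ hψ
  choose sT gT hsT hgT using hclear
  let G : Finset (MvPolynomial (Fin n) O) := T.image gT
  have hGI : ∀ g ∈ G, g ∈ I := by
    intro g hg
    obtain ⟨t, ht, rfl⟩ := Finset.mem_image.1 hg
    rw [hIJ, ← hgT t, map_smul, show ψ t = 0 from RingHom.mem_ker.1 (hT.le (Ideal.subset_span ht) : t ∈ RingHom.ker ψ.toRingHom), smul_zero]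
  have hTspan : ∀ F, ψ F = 0 → F ∈ (Ideal.span (G : Set (MvPolynomial (Fin n) O))).map ι := by
    intro F hF
    have hF' : F ∈ Ideal.span (T : Set (MvPolynomial (Fin n) A)) := hT.symm ▸ hF
    refine Ideal.span_le.2 (fun t ht => ?_) hF'
    obtain ⟨u, hu⟩ := hsT t
    have : t = (↑u⁻¹ : A) • ι (gT t) := by rw [← hgT, ← hu, smul_smul, Units.inv_mul, one_smul]
    rw [this, MvPolynomial.smul_eq_C_mul]
    exact Ideal.mul_mem_left _ _ (Ideal.mem_map_of_mem _ (Ideal.subset_span (Finset.mem_image_of_mem _ ht)))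
  -- small polynomials in the map of an ideal
  have hsmall : ∀ (q : A), q ∈ maximalIdeal A → ∀ F ∈ (Ideal.span (G : Set (MvPolynomial (Fin n) O))).map ι,
      ∃ g ∈ Ideal.span (G : Set (MvPolynomial (Fin n) O)), ι g = q • F := by
    intro q hq F hF
    induction hF using Submodule.span_induction generalizing q with
    | mem F hF =>
      obtain ⟨g, hg, rfl⟩ := hF
      exact ⟨MvPolynomial.C ⟨q, mem_of_mem_maximalIdeal hO hq⟩ * g, Ideal.mul_mem_left _ _ hg, by
        rw [map_mul, MvPolynomial.map_C, MvPolynomial.smul_eq_C_mul]; rfl⟩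
    | zero => exact ⟨0, zero_mem _, by simp⟩
    | add F F' _ _ h h' =>
      obtain ⟨g, hg, hge⟩ := h q hq
      obtain ⟨g', hg', hge'⟩ := h' q hq
      exact ⟨g + g', add_mem hg hg', by rw [map_add, hge, hge', smul_add]⟩
    | smul H F _ h =>
      obtain ⟨s, k, hs, hk⟩ := (⟨sT H, gT H, hsT H, hgT H⟩ : ∃ (s : O) (g : MvPolynomial (Fin n) O), IsUnit (s : A) ∧ (s : A) • H = ι g)
      obtain ⟨b, hb, hbq⟩ := div_mem hO hs hq
      obtain ⟨g, hg, hge⟩ := h b hb
      refine ⟨k * g, Ideal.mul_mem_left _ _ hg, ?_⟩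
      rw [map_mul, hge, ← hk, smul_eq_mul, ← hbq, smul_mul_smul_comm]
  -- step A
  have hA : ∀ g ∈ I, (∀ e, ((g.coeff e : O) : A) ∈ maximalIdeal A) → g ∈ Ideal.span (G : Set (MvPolynomial (Fin n) O)) := by
    intro g hg hsm
    let es := g.support.equivFin.symm
    let q : Fin g.support.card → A := fun i => ((g.coeff (es i).1 : O) : A)
    let z : Fin g.support.card → A ⊗[O] C := fun i => ψ (MvPolynomial.monomial (es i).1 1)
    have hsum : ι g = ∑ i, q i • MvPolynomial.monomial (es i).1 (1 : A) := by
      conv_lhs => rw [g.as_sum, map_sum, ← Finset.sum_coe_sort]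
      rw [← es.sum_comp]
      exact Finset.sum_congr rfl fun i _ => by
        rw [MvPolynomial.map_monomial, MvPolynomial.smul_monomial, smul_eq_mul, mul_one]; rfl
    have hz : ∑ i, q i • z i = 0 := by
      rw [← (hIJ g).1 hg, hsum, map_sum]
      exact Finset.sum_congr rfl fun i _ => (map_smul ψ _ _).symm
    obtain ⟨m, a, y, hy, ha⟩ := (Module.Flat.iff_forall_isTrivialRelation.1 hflat) hz
    choose Y hY using fun l => hψ (y l)
    have hdec : ι g = ∑ i, q i • (MvPolynomial.monomial (es i).1 (1 : A) - ∑ l, a i l • Y l) := by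
      simp only [smul_sub, Finset.sum_sub_distrib, Finset.smul_sum, smul_smul]
      rw [Finset.sum_comm, ← hsum]
      simp only [← Finset.sum_smul, ha, zero_smul, Finset.sum_const_zero, sub_zero]
    choose h hh hhe using fun i => hsmall (q i) (hsm _) _ (hTspan (MvPolynomial.monomial (es i).1 (1 : A) - ∑ l, a i l • Y l) (by
      rw [map_sub, map_sum, sub_eq_zero]
      exact (hy i).trans (Finset.sum_congr rfl fun l _ => by rw [map_smul, hY])))
    have : g = ∑ i, h i := hι (by rw [hdec, map_sum]; exact Finset.sum_congr rfl fun i _ => (hhe i).symm)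
    rw [this]
    exact sum_mem fun i _ => hh i
  -- step B
  let π : MvPolynomial (Fin n) O →+* MvPolynomial (Fin n) R := MvPolynomial.map (toR hO)
  have hπsurj : Function.Surjective π := MvPolynomial.map_surjective _ fun r => by
    obtain ⟨a, ha⟩ := residue_surjective (R := A) (r : ResidueField A)
    exact ⟨⟨a, (mem_iff hO).2 (ha.symm ▸ r.2)⟩, Subtype.ext ha⟩
  have hker : ∀ g : MvPolynomial (Fin n) O, π g = 0 ↔ ∀ e, ((g.coeff e : O) : A) ∈ maximalIdeal A := fun g => by
    rw [MvPolynomial.ext_iff]
    refine forall_congr' fun e => ?_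
    rw [MvPolynomial.coeff_map, MvPolynomial.coeff_zero, ← residue_eq_zero_iff]
    exact Subtype.ext_iff
  let N : Submodule (MvPolynomial (Fin n) R) (Fin 1 → MvPolynomial (Fin n) R) :=
    Submodule.comap (LinearMap.proj (R := MvPolynomial (Fin n) R) (φ := fun _ : Fin 1 => MvPolynomial (Fin n) R) 0) (I.map π)
  have hsat : Groth.Agent.ValCoh15.IsSat R N := by
    intro c x hc hx
    show x 0 ∈ I.map π
    have hx' : algebraMap R (MvPolynomial (Fin n) R) c * x 0 ∈ I.map π := hx
    obtain ⟨g, hg, hge⟩ := (Ideal.mem_map_iff_of_surjective π hπsurj).1 hx'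
    obtain ⟨g0, hg0⟩ := hπsurj (x 0)
    obtain ⟨a, ha⟩ := residue_surjective (R := A) (c : ResidueField A)
    let s : O := ⟨a, (mem_iff hO).2 (ha.symm ▸ c.2)⟩
    have hsu : IsUnit (s : A) := by
      by_contra h
      refine hc (Subtype.ext ?_)
      rw [← ha, (residue_eq_zero_iff a).2 ((mem_maximalIdeal a).2 h)]; rfl
    have hs : toR hO s = c := Subtype.ext ha
    have he0 : π (MvPolynomial.C s * g0 - g) = 0 := by
      rw [map_sub, map_mul, MvPolynomial.map_C, hs, hg0, hge, MvPolynomial.algebraMap_eq, sub_self]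
    choose b hb hbe using fun e => div_mem hO hsu ((hker _).1 he0 e)
    let e' : MvPolynomial (Fin n) O := ∑ e ∈ (MvPolynomial.C s * g0 - g).support, MvPolynomial.monomial e (b e)
    have he' : MvPolynomial.C s * e' = MvPolynomial.C s * g0 - g := by
      conv_rhs => rw [MvPolynomial.as_sum (MvPolynomial.C s * g0 - g)]
      rw [Finset.mul_sum]
      exact Finset.sum_congr rfl fun e _ => by
        rw [MvPolynomial.C_mul_monomial, show s * b e = MvPolynomial.coeff e (MvPolynomial.C s * g0 - g) from Subtype.ext (hbe e)]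
    have hsI : MvPolynomial.C s * (g0 - e') ∈ I := by rw [mul_sub, he', sub_sub_cancel]; exact hg
    have hI' : g0 - e' ∈ I := by
      rw [hIJ] at hsI ⊢
      rw [map_mul, MvPolynomial.map_C, ← MvPolynomial.smul_eq_C_mul, map_smul] at hsI
      exact hsu.smul_eq_zero.1 hsI
    have hπe : π e' = 0 := by
      rw [hker]
      intro e
      rw [MvPolynomial.coeff_sum, AddSubmonoidClass.coe_finset_sum]
      refine sum_mem fun e₁ _ => ?_
      rw [MvPolynomial.coeff_monomial]
      split_ifs
      · exact hb _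
      · exact zero_mem _
    rw [← hg0, ← sub_zero (π g0), ← hπe, ← map_sub]
    exact Ideal.mem_map_of_mem _ hI'
  obtain ⟨S, hS⟩ := Groth.Agent.ValPD15.hcoh_essFiniteType R (MvPolynomial (Fin n) R) 1 N hsat
  have hS' : ∀ w ∈ S, ∃ g ∈ I, π g = w 0 := fun w hw =>
    (Ideal.mem_map_iff_of_surjective π hπsurj).1 (show w ∈ N from hS ▸ Submodule.subset_span hw)
  choose gS hgS hgSe using hS'
  have hIspan : I = Ideal.span ((G : Set (MvPolynomial (Fin n) O)) ∪ Set.range fun w : S => gS w.1 w.2) := by
    refine le_antisymm (fun g hg => ?_) (Ideal.span_le.2 ?_)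
    · have hN : (fun _ => π g : Fin 1 → MvPolynomial (Fin n) R) ∈ Submodule.span (MvPolynomial (Fin n) R) (S : Set _) :=
        hS.symm ▸ (Ideal.mem_map_of_mem π hg : π g ∈ I.map π)
      obtain ⟨f, hf⟩ := Submodule.mem_span_finset.1 hN
      choose f' hf' using fun w => hπsurj (f w)
      let g₁ := ∑ w : S, f' w.1 * gS w.1 w.2
      have hg₁ : π (g - g₁) = 0 := by
        rw [map_sub, map_sum, sub_eq_zero]
        have := congrFun hf.2 0
        rw [Finset.sum_apply] at this
        rw [← this, ← Finset.sum_coe_sort]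
        exact Finset.sum_congr rfl fun w _ => by rw [map_mul, hf', hgSe, Pi.smul_apply, smul_eq_mul]
      have hg₁I : g₁ ∈ I := sum_mem fun w _ => Ideal.mul_mem_left _ _ (hgS _ _)
      rw [← sub_add_cancel g g₁]
      exact add_mem (Ideal.span_mono Set.subset_union_left (hA _ (sub_mem hg hg₁I) ((hker _).1 hg₁)))
        (sum_mem fun w _ => Ideal.mul_mem_left _ _ (Ideal.subset_span (Or.inr ⟨w, rfl⟩)))
    · rintro g (hg | ⟨w, rfl⟩)
      · exact hGI g hg
      · exact hgS _ _
  refine Algebra.FinitePresentation.of_surjective hφ ?_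
  rw [show RingHom.ker φ.toRingHom = _ from hIspan]
  exact Submodule.fg_span (G.finite_toSet.union (Set.finite_range _))

omit hO in

/-- Let A be a local ring with residue field K, R a valuation ring of K and O ⊆ A the preimage of R
under A → K (so O is a semi-valuation ring with semi-fraction ring A, S = Spec O is glued from U =
Spec A and T = Spec R). Let C be an O-algebra of finite type which is U-admissible (C → A ⊗_O C
injective) and such that A ⊗_O C is flat and of finite presentation over A. Then C is flat and of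
finite presentation over O. (The published assertion is more general: the base may be any
quasi-compact quasi-separated U-admissible scheme over Spec O, and the scheme over it any
quasi-compact quasi-separated admissible scheme. This row is the case of an affine scheme over Spec
O itself, the case in which the published proof carries out its argument.) -/
theorem result
    (A : Type u) [CommRing A] [IsLocalRing A] (R : ValuationSubring (IsLocalRing.ResidueField A))
    (O : Subring A) (hO : O = R.toSubring.comap (IsLocalRing.residue A))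
    (C : Type u) [CommRing C] [Algebra ↥O C] [Algebra.FiniteType ↥O C]
    (hadm : Function.Injective (Algebra.TensorProduct.includeRight : C →ₐ[↥O] A ⊗[↥O] C))
    (hflat : Module.Flat A (A ⊗[↥O] C)) (hfp : Algebra.FinitePresentation A (A ⊗[↥O] C)) :
    Module.Flat ↥O C ∧ Algebra.FinitePresentation ↥O C := by
  exact ⟨flat hO hadm hflat, finitePresentation hO hadm hflat hfp⟩

end Groth.Agent.S17899
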