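import Groth.Statements.S17901
import Groth.Agent.Lib.PinchH7.Square

set_option autoImplicit false
universe u
open TensorProduct
open Pinch

namespace Groth.Agent.S17901

/-- Let R be a commutative ring and let B' → B → A, B' → A' → A be a fibre square of R-algebras (B' = B
×_A A') with A' → A surjective, where B, A' and A are flat over R. Then for every commutative
R-algebra R' the square obtained by applying R' ⊗_R − is again a fibre square: R' ⊗_R A' → R' ⊗_R A
is surjective and every pair of elements of R' ⊗_R B and R' ⊗_R A' with the same image in R' ⊗_R A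
is the image of a unique element of R' ⊗_R B'. (The published lemma concludes that the base-changed
square of spectra is co-cartesian in ringed spaces; this row states the ring form, surjective edge
and fibre product, which its proof establishes before translating it to ringed spaces.) -/
theorem result (R B' B A' A : Type u) [CommRing R] [CommRing B'] [CommRing B] [CommRing A'] [CommRing A]
    [Algebra B' B] [Algebra B' A'] [Algebra B A] [Algebra A' A] [Algebra B' A]
    [IsScalarTower B' B A] [IsScalarTower B' A' A]
    [Algebra R B'] [Algebra R B] [Algebra R A'] [Algebra R A]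
    [IsScalarTower R B' B] [IsScalarTower R B' A'] [IsScalarTower R B' A] [IsScalarTower R B A] [IsScalarTower R A' A]
    (hsq : EtMil.IsFibreSquare B' B A' A)
    [Module.Flat R B] [Module.Flat R A'] [Module.Flat R A]
    (R' : Type u) [CommRing R'] [Algebra R R'] :
    Function.Surjective (Algebra.TensorProduct.map (AlgHom.id R R') (IsScalarTower.toAlgHom R A' A)) ∧
    ∀ (x : R' ⊗[R] B) (y : R' ⊗[R] A'),
      Algebra.TensorProduct.map (AlgHom.id R R') (IsScalarTower.toAlgHom R B A) x =
        Algebra.TensorProduct.map (AlgHom.id R R') (IsScalarTower.toAlgHom R A' A) y →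
      ∃! z : R' ⊗[R] B',
        Algebra.TensorProduct.map (AlgHom.id R R') (IsScalarTower.toAlgHom R B' B) z = x ∧
        Algebra.TensorProduct.map (AlgHom.id R R') (IsScalarTower.toAlgHom R B' A') z = y := by
  classical
  have hsurj : Function.Surjective
      (Algebra.TensorProduct.map (AlgHom.id R R') (IsScalarTower.toAlgHom R A' A)) := by
    intro t
    obtain ⟨s, hs⟩ := LinearMap.lTensor_surjective R'
      (g := (IsScalarTower.toAlgHom R A' A).toLinearMap) hsq.1 t
    refine ⟨s, ?_⟩
    rw [← hs]
    rfl
  refine ⟨hsurj, fun x y hxy => ?_⟩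
  let i := Groth.Agent.PinchH7.sqIncl R B' B A'
  let p := Groth.Agent.PinchH7.sqDiff R B A' A
  let e := TensorProduct.prodRight R R R' B A'
  have hinj : Function.Injective (i.lTensor R') :=
    Groth.Agent.FlatSyz.lTensor_subtype_injective_of_flat_quotient i
      (Groth.Agent.PinchH7.sqIncl_injective hsq) p (Groth.Agent.PinchH7.sq_exact hsq)
      (Groth.Agent.PinchH7.sqDiff_surjective hsq) R'
  have hex : Function.Exact (i.lTensor R') (p.lTensor R') :=
    lTensor_exact R' (Groth.Agent.PinchH7.sq_exact hsq) (Groth.Agent.PinchH7.sqDiff_surjective hsq)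
  have hproj : ∀ z : R' ⊗[R] B', e (i.lTensor R' z) =
      (Algebra.TensorProduct.map (AlgHom.id R R') (IsScalarTower.toAlgHom R B' B) z,
       Algebra.TensorProduct.map (AlgHom.id R R') (IsScalarTower.toAlgHom R B' A') z) := by
    intro z
    induction z using TensorProduct.induction_on with
    | zero => simp [Prod.zero_eq_mk, Prod.mk_eq_zero]
    | tmul r b => simp [e, i, Groth.Agent.PinchH7.sqIncl]
    | add a b ha hb => simp only [map_add, ha, hb, Prod.mk_add_mk]
  have hdiff : ∀ u : R' ⊗[R] (B × A'), p.lTensor R' u =
      Algebra.TensorProduct.map (AlgHom.id R R') (IsScalarTower.toAlgHom R B A) (e u).1 -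
      Algebra.TensorProduct.map (AlgHom.id R R') (IsScalarTower.toAlgHom R A' A) (e u).2 := by
    intro u
    induction u using TensorProduct.induction_on with
    | zero => simp [Prod.zero_eq_mk, Prod.mk_eq_zero]
    | tmul r b => simp [e, p, Groth.Agent.PinchH7.sqDiff_apply, TensorProduct.tmul_sub]
    | add a b ha hb => simp only [map_add, ha, hb, Prod.fst_add, Prod.snd_add]; abel
  have h0 : p.lTensor R' (e.symm (x, y)) = 0 := by
    rw [hdiff, e.apply_symm_apply]
    exact sub_eq_zero.mpr hxy
  obtain ⟨z, hz⟩ := (hex _).mp h0
  have hz' : e (i.lTensor R' z) = (x, y) := by rw [hz, e.apply_symm_apply]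
  rw [hproj] at hz'
  refine ⟨z, ⟨(Prod.ext_iff.mp hz').1, (Prod.ext_iff.mp hz').2⟩, fun z' hz'' => ?_⟩
  apply hinj
  apply e.injective
  rw [hproj, hproj, hz''.1, hz''.2, hz']

end Groth.Agent.S17901
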