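import Groth.Statements.S17902
import Mathlib

set_option autoImplicit false
universe u
open CAlg

namespace Groth.Agent.S17902

theorem span_at (A : Type u) [CommRing A] (M : Type u) [AddCommGroup M] [Module A M] {n : ℕ}
    (s : Fin n → M) (q : PrimeSpectrum A) :
    q ∉ Module.support A (M ⧸ Submodule.span A (Set.range s)) ↔
      Submodule.span (Localization.AtPrime q.asIdeal)
        (Set.range fun j => LocalizedModule.mkLinearMap q.asIdeal.primeCompl M (s j)) = ⊤ := by
  rw [Module.notMem_support_iff']
  constructor
  · intro h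
    rw [eq_top_iff]
    rintro y -
    obtain ⟨⟨x, t⟩, rfl⟩ := IsLocalizedModule.mk'_surjective q.asIdeal.primeCompl
      (LocalizedModule.mkLinearMap q.asIdeal.primeCompl M) y
    obtain ⟨u, hu, hux⟩ := h (Submodule.Quotient.mk x)
    rw [← Submodule.Quotient.mk_smul, Submodule.Quotient.mk_eq_zero] at hux
    rw [Function.uncurry_apply_pair]
    have h1 : LocalizedModule.mkLinearMap q.asIdeal.primeCompl M (u • x) ∈ Submodule.span (Localization.AtPrime q.asIdeal)
        (Set.range fun j => LocalizedModule.mkLinearMap q.asIdeal.primeCompl M (s j)) := by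
      have := Submodule.mem_map_of_mem (f := LocalizedModule.mkLinearMap q.asIdeal.primeCompl M) hux
      rw [Submodule.map_span, ← Set.range_comp] at this
      exact Submodule.span_le_restrictScalars A (Localization.AtPrime q.asIdeal) _ this
    rw [map_smul, ← IsScalarTower.algebraMap_smul (Localization.AtPrime q.asIdeal) u,
      Submodule.smul_mem_iff_of_isUnit _ (IsLocalization.map_units _ (⟨u, hu⟩ : q.asIdeal.primeCompl))] at h1
    rw [← Submodule.smul_mem_iff_of_isUnit _
      (IsLocalization.map_units (Localization.AtPrime q.asIdeal) t), IsScalarTower.algebraMap_smul, ← Submonoid.smul_def,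
      IsLocalizedModule.mk'_cancel']
    exact h1
  · intro h x
    obtain ⟨x, rfl⟩ := Submodule.Quotient.mk_surjective _ x
    have hloc := Submodule.localized'_span (Localization.AtPrime q.asIdeal) q.asIdeal.primeCompl
      (LocalizedModule.mkLinearMap q.asIdeal.primeCompl M) (Set.range s)
    rw [← Set.range_comp] at hloc
    have hx : LocalizedModule.mkLinearMap q.asIdeal.primeCompl M x ∈ Submodule.localized' (Localization.AtPrime q.asIdeal)
        q.asIdeal.primeCompl (LocalizedModule.mkLinearMap q.asIdeal.primeCompl M) (Submodule.span A (Set.range s)) := by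
      rw [hloc]; erw [h]; trivial
    obtain ⟨m, hm, t, ht⟩ := hx
    rw [IsLocalizedModule.mk'_eq_iff, Submonoid.smul_def, ← map_smul,
      IsLocalizedModule.eq_iff_exists q.asIdeal.primeCompl] at ht
    obtain ⟨c, hc⟩ := ht
    refine ⟨c * t, mul_mem c.2 t.2, ?_⟩
    rw [← Submodule.Quotient.mk_smul, Submodule.Quotient.mk_eq_zero, mul_smul]
    rw [Submonoid.smul_def, Submonoid.smul_def] at hc
    rw [← hc]
    exact Submodule.smul_mem _ _ hm

theorem main (A : Type u) [CommRing A] (M : Type u) [AddCommGroup M] [Module A M]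
    [Module.Finite A M] [Module.Projective A M] (n : ℕ) (P : Finset (PrimeSpectrum A))
    (hP : ∀ p ∈ P, ∃ g : A, g ∉ p.asIdeal ∧
      Nonempty (Module.Basis (Fin n) (Localization.Away g) (LocalizedModule (Submonoid.powers g) M))) :
    ∃ (s : Fin n → M) (U : Set (PrimeSpectrum A)), IsOpen U ∧ (∀ p ∈ P, p ∈ U) ∧
      ∀ q ∈ U,
        LinearIndependent (Localization.AtPrime q.asIdeal)
            (fun j => LocalizedModule.mkLinearMap q.asIdeal.primeCompl M (s j)) ∧
          Submodule.span (Localization.AtPrime q.asIdeal)
            (Set.range fun j => LocalizedModule.mkLinearMap q.asIdeal.primeCompl M (s j)) = ⊤ := by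
  classical
  -- the maximal elements of `P`
  let Q := P.filter fun p => ∀ p' ∈ P, p ≤ p' → p = p'
  have hQ : ∀ p ∈ P, ∃ p' ∈ Q, p ≤ p' := by
    intro p hp
    obtain ⟨p', hpp', hmax⟩ := (P.finite_toSet).exists_le_maximal hp
    exact ⟨p', Finset.mem_filter.2 ⟨hmax.1, fun r hr h => le_antisymm h (hmax.2 hr h)⟩, hpp'⟩
  -- generators at each prime
  have hgen : ∀ p ∈ P, ∃ m : Fin n → M, p ∉ Module.support A (M ⧸ Submodule.span A (Set.range m)) := by
    intro p hp
    obtain ⟨g, hg, ⟨b⟩⟩ := hP p hp
    choose mt hmt using fun j => IsLocalizedModule.surj (Submonoid.powers g)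
      (LocalizedModule.mkLinearMap (Submonoid.powers g) M) (b j)
    refine ⟨fun j => (mt j).1, Module.notMem_support_iff'.2 fun x => ?_⟩
    obtain ⟨x, rfl⟩ := Submodule.Quotient.mk_surjective _ x
    have hspan : Submodule.span (Localization.Away g)
        (Set.range fun j => LocalizedModule.mkLinearMap (Submonoid.powers g) M (mt j).1) = ⊤ := by
      rw [eq_top_iff, ← b.span_eq, Submodule.span_le]
      rintro _ ⟨j, rfl⟩
      rw [SetLike.mem_coe, ← Submodule.smul_mem_iff_of_isUnit _
        (IsLocalization.map_units (Localization.Away g) (mt j).2), IsScalarTower.algebraMap_smul,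
        ← Submonoid.smul_def, hmt]
      exact Submodule.subset_span ⟨j, rfl⟩
    have hloc := Submodule.localized'_span (Localization.Away g) (Submonoid.powers g)
      (LocalizedModule.mkLinearMap (Submonoid.powers g) M) (Set.range fun j => (mt j).1)
    rw [← Set.range_comp] at hloc
    have hx : LocalizedModule.mkLinearMap (Submonoid.powers g) M x ∈ Submodule.localized' (Localization.Away g)
        (Submonoid.powers g) (LocalizedModule.mkLinearMap (Submonoid.powers g) M)
        (Submodule.span A (Set.range fun j => (mt j).1)) := by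
      rw [hloc]; erw [hspan]; trivial
    obtain ⟨m, hm, t, ht⟩ := hx
    rw [IsLocalizedModule.mk'_eq_iff, Submonoid.smul_def, ← map_smul,
      IsLocalizedModule.eq_iff_exists (Submonoid.powers g)] at ht
    obtain ⟨c, hc⟩ := ht
    refine ⟨c * t, ?_, ?_⟩
    · obtain ⟨i, hi⟩ := c.2
      obtain ⟨k, hk⟩ := t.2
      rw [← hi, ← hk]
      exact fun h => hg (p.isPrime.mem_of_pow_mem (i + k) (by rw [pow_add]; exact h))
    · rw [← Submodule.Quotient.mk_smul, Submodule.Quotient.mk_eq_zero, mul_smul]
      rw [Submonoid.smul_def, Submonoid.smul_def] at hc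
      rw [← hc]
      exact Submodule.smul_mem _ _ hm
  choose! m hm using hgen
  -- interpolation
  have hsep : ∀ p ∈ Q, ∃ e : A, e ∉ p.asIdeal ∧ ∀ r ∈ Q, r ≠ p → e ∈ r.asIdeal := by
    intro p hp
    have hx : ∀ r ∈ Q.erase p, ∃ x, x ∈ r.asIdeal ∧ x ∉ p.asIdeal := by
      intro r hr
      rw [Finset.mem_erase] at hr
      apply SetLike.not_le_iff_exists.1
      exact fun h => hr.1 ((Finset.mem_filter.1 hr.2).2 p (Finset.mem_filter.1 hp).1 h)
    choose! x hx hxp using hx
    refine ⟨∏ r ∈ Q.erase p, x r, fun h => ?_, fun r hr hrp => ?_⟩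
    · obtain ⟨r, hr, hr'⟩ := (p.isPrime.prod_mem_iff).1 h
      exact hxp r hr hr'
    · exact Ideal.mem_of_dvd _ (Finset.dvd_prod_of_mem x (Finset.mem_erase.2 ⟨hrp, hr⟩)) (hx r (Finset.mem_erase.2 ⟨hrp, hr⟩))
  choose! e he her using hsep
  let s : Fin n → M := fun j => ∑ r ∈ Q, e r • m r j
  have hspanQ : ∀ p ∈ Q, p ∉ Module.support A (M ⧸ Submodule.span A (Set.range s)) := by
    intro p hp
    rw [span_at]
    let Ap := Localization.AtPrime p.asIdeal
    let mk := LocalizedModule.mkLinearMap p.asIdeal.primeCompl M
    have hm' := (span_at A M (m p) p).1 (hm p (Finset.mem_filter.1 hp).1)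
    haveI : Module.Finite Ap (LocalizedModule p.asIdeal.primeCompl M) :=
      Module.Finite.of_isLocalizedModule p.asIdeal.primeCompl mk
    refine top_le_iff.1 (Submodule.le_of_le_smul_of_le_jacobson_bot Module.Finite.fg_top
      (IsLocalRing.maximalIdeal_le_jacobson _) ?_)
    conv_lhs => rw [← hm']
    rw [Submodule.span_le]
    rintro _ ⟨j, rfl⟩
    have hu : IsUnit (algebraMap A Ap (e p)) := IsLocalization.map_units Ap (⟨e p, he p hp⟩ : p.asIdeal.primeCompl)
    rw [SetLike.mem_coe, ← Submodule.smul_mem_iff_of_isUnit _ hu, IsScalarTower.algebraMap_smul, ← map_smul,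
      show e p • m p j = s j - ∑ r ∈ Q.erase p, e r • m r j from eq_sub_of_add_eq
        (Finset.add_sum_erase Q (fun r => e r • m r j) hp), map_sub]
    refine sub_mem (Submodule.mem_sup_left (Submodule.subset_span ⟨j, rfl⟩)) (Submodule.mem_sup_right ?_)
    rw [map_sum]
    refine sum_mem fun r hr => ?_
    rw [map_smul, ← IsScalarTower.algebraMap_smul Ap (e r)]
    exact Submodule.smul_mem_smul ((IsLocalization.AtPrime.to_map_mem_maximal_iff Ap p.asIdeal (e r)).2
      (her r (Finset.mem_of_mem_erase hr) p hp (Finset.ne_of_mem_erase hr).symm)) trivial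
  choose! g hg hb using hP
  let U : Set (PrimeSpectrum A) := (Module.support A (M ⧸ Submodule.span A (Set.range s)))ᶜ ∩
    ⋃ p ∈ P, (PrimeSpectrum.basicOpen (g p) : Set (PrimeSpectrum A))
  refine ⟨s, U, ?_, fun p hp => ⟨?_, Set.mem_biUnion hp (hg p hp)⟩, fun q hq => ?_⟩
  · exact (Module.isClosed_support (R := A) (M := M ⧸ Submodule.span A (Set.range s))).isOpen_compl.inter
      (isOpen_biUnion fun p _ => (PrimeSpectrum.basicOpen (g p)).isOpen)
  · obtain ⟨p', hp', hle⟩ := hQ p hp
    exact fun h => hspanQ p' hp' (Module.mem_support_mono hle h)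
  obtain ⟨hq1, hq2⟩ := hq
  obtain ⟨p, hp, hpq⟩ := Set.mem_iUnion₂.1 hq2
  have hspan := (span_at A M s q).1 hq1
  refine ⟨?_, hspan⟩
  obtain ⟨b⟩ := hb p hp
  let Ag := Localization.Away (g p)
  let Mq := LocalizedModule q.asIdeal.primeCompl M
  haveI : Module.FinitePresentation A M := Module.finitePresentation_of_projective A M
  haveI : Module.Free (Localization.AtPrime q.asIdeal) Mq := Module.free_of_flat_of_isLocalRing
  have hrank : Module.finrank (Localization.AtPrime q.asIdeal) Mq = n := by
    haveI : Module.Free Ag (LocalizedModule (Submonoid.powers (g p)) M) := Module.Free.of_basis b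
    obtain ⟨Q', hQ'⟩ : q ∈ Set.range (PrimeSpectrum.comap (algebraMap A Ag)) := by
      rw [PrimeSpectrum.localization_away_comap_range Ag (g p)]; exact hpq
    haveI : Nontrivial Ag := ⟨⟨0, 1, fun h => Q'.isPrime.ne_top
      ((Ideal.eq_top_iff_one _).2 (h ▸ Q'.asIdeal.zero_mem))⟩⟩
    have h1 := Module.rankAtStalk_isBaseChange ((isLocalizedModule_iff_isBaseChange (Submonoid.powers (g p)) Ag
      (LocalizedModule.mkLinearMap (Submonoid.powers (g p)) M)).1 inferInstance) Q'
    rw [hQ', Module.rankAtStalk_eq_finrank_of_free, Module.finrank_eq_card_basis b, Fintype.card_fin] at h1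
    exact h1.symm
  let c := Module.finBasisOfFinrankEq _ _ hrank
  let f := Fintype.linearCombination (Localization.AtPrime q.asIdeal)
    (fun j => LocalizedModule.mkLinearMap q.asIdeal.primeCompl M (s j))
  have hf : Function.Surjective f := by
    rw [← LinearMap.range_eq_top, Fintype.range_linearCombination]; exact hspan
  have hinj : Function.Injective f := by
    have h2 := OrzechProperty.injective_of_surjective_endomorphism (f.comp c.equivFun.toLinearMap)
      (hf.comp c.equivFun.surjective)
    intro x y hxy
    obtain ⟨x, rfl⟩ := c.equivFun.surjective x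
    obtain ⟨y, rfl⟩ := c.equivFun.surjective y
    exact congrArg c.equivFun (h2 hxy)
  exact linearIndependent_iff_injective_fintypeLinearCombination.2 hinj



/-- Let A be a commutative ring, M a finitely generated projective A-module, n a natural number and P a
finite set of prime ideals of A such that for every p in P there is g outside p with M_g free of
rank n over A_g. Then there exist n elements of M and an open subset U of Spec A containing P such
that for every prime q in U the images of these elements in M_q form a basis of M_q over A_q. (The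
published conclusion is that the associated sheaf is free of rank n on some open neighbourhood of P;
the form given here, with n global elements of M, is what its proof produces.) -/
theorem result (A : Type u) [CommRing A] (M : Type u) [AddCommGroup M] [Module A M]
    [Module.Finite A M] [Module.Projective A M] (n : ℕ) (P : Finset (PrimeSpectrum A))
    (hP : ∀ p ∈ P, ∃ g : A, g ∉ p.asIdeal ∧
      Nonempty (Module.Basis (Fin n) (Localization.Away g) (LocalizedModule (Submonoid.powers g) M))) :
    ∃ (s : Fin n → M) (U : Set (PrimeSpectrum A)), IsOpen U ∧ (∀ p ∈ P, p ∈ U) ∧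
      ∀ q ∈ U,
        LinearIndependent (Localization.AtPrime q.asIdeal)
            (fun j => LocalizedModule.mkLinearMap q.asIdeal.primeCompl M (s j)) ∧
          Submodule.span (Localization.AtPrime q.asIdeal)
            (Set.range fun j => LocalizedModule.mkLinearMap q.asIdeal.primeCompl M (s j)) = ⊤ := by
  exact main A M n P hP

end Groth.Agent.S17902
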