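import Groth.Statements.S17903
import Groth.Agent.S17900
import Groth.Agent.Lib.PinchH7.Sections
import Mathlib.AlgebraicGeometry.Morphisms.Flat
-- import your own Groth.Agent.* helpers here

set_option autoImplicit false
universe u
open CategoryTheory AlgebraicGeometry
open Pinch

namespace Groth.Agent.S17903

theorem flat_of_square {R B' B A' A : CommRingCat.{u}} (r : R ⟶ B') (p : B' ⟶ B) (s : B' ⟶ A') (b : B ⟶ A)
    (a : A' ⟶ A) (hc : p ≫ b = s ≫ a) (ha : Function.Surjective a)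
    (hu : ∀ (y : B) (x : A'), b y = a x → ∃! z : B', p z = y ∧ s z = x)
    (h1 : (r ≫ p).hom.Flat) (h2 : (r ≫ s).hom.Flat) (h3 : (r ≫ p ≫ b).hom.Flat) : r.hom.Flat := by
  algebraize [r.hom, p.hom, s.hom, b.hom, a.hom, (r ≫ p).hom, (r ≫ s).hom, (p ≫ b).hom, (r ≫ p ≫ b).hom]
  haveI : IsScalarTower R B' B := .of_algebraMap_eq' rfl
  haveI : IsScalarTower R B' A' := .of_algebraMap_eq' rfl
  haveI : IsScalarTower B' B A := .of_algebraMap_eq' rfl
  haveI : IsScalarTower B' A' A := .of_algebraMap_eq' (congrArg CommRingCat.Hom.hom hc)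
  haveI : IsScalarTower R B' A := .of_algebraMap_eq' rfl
  haveI : IsScalarTower R B A := .of_algebraMap_eq' rfl
  haveI : IsScalarTower R A' A := .of_algebraMap_eq'
    (congrArg CommRingCat.Hom.hom (congrArg (r ≫ ·) hc))
  exact Groth.Agent.S17900.result R B' B A' A ⟨ha, hu⟩


/-- Let S be a scheme and Z → X, Z → Z', X → X', Z' → X' a commutative square of S-schemes in which Z →
X and Z' → X' are closed immersions and Z → Z' and X → X' are affine, and which is a pushout square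
in the category of ringed spaces. If X, Z and Z' are flat over S then X' is flat over S. -/
theorem result {S X Z Z' X' : Scheme.{u}}
    (fX : X ⟶ S) (fZ' : Z' ⟶ S) (fX' : X' ⟶ S) (ι : Z ⟶ X) (q : Z ⟶ Z') (π : X ⟶ X') (ι' : Z' ⟶ X')
    [IsClosedImmersion ι] [IsClosedImmersion ι'] [IsAffineHom q] [IsAffineHom π]
    (hq : q ≫ fZ' = ι ≫ fX) (hπ : π ≫ fX' = fX) (hι' : ι' ≫ fX' = fZ')
    (hpo : IsPushout ((Scheme.forgetToLocallyRingedSpace ⋙ LocallyRingedSpace.forgetToSheafedSpace).map ι) ((Scheme.forgetToLocallyRingedSpace ⋙ LocallyRingedSpace.forgetToSheafedSpace).map q)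
      ((Scheme.forgetToLocallyRingedSpace ⋙ LocallyRingedSpace.forgetToSheafedSpace).map π) ((Scheme.forgetToLocallyRingedSpace ⋙ LocallyRingedSpace.forgetToSheafedSpace).map ι'))
    [Flat fX] [Flat (ι ≫ fX)] [Flat fZ'] :
    Flat fX' := by
  have hw : ι ≫ π = q ≫ ι' := by
    apply Scheme.forgetToLocallyRingedSpace.map_injective
    apply LocallyRingedSpace.forgetToSheafedSpace.map_injective
    simpa only [Functor.map_comp, Functor.comp_map] using hpo.w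
  rw [flat_iff]
  intro W hW V hV e
  have e1 : π ⁻¹ᵁ V ≤ fX ⁻¹ᵁ W := by rw [← hπ]; exact fun x hx => e hx
  have e2 : ι' ⁻¹ᵁ V ≤ fZ' ⁻¹ᵁ W := by rw [← hι']; exact fun x hx => e hx
  have e3 : ι ⁻¹ᵁ π ⁻¹ᵁ V ≤ (ι ≫ fX) ⁻¹ᵁ W := fun x hx => e1 hx
  have hA : IsAffineOpen (π ⁻¹ᵁ V) := hV.preimage π
  have hB : IsAffineOpen (ι' ⁻¹ᵁ V) := hV.preimage ι'
  have hZ : IsAffineOpen (ι ⁻¹ᵁ π ⁻¹ᵁ V) := hA.preimage ι
  have he : ι ⁻¹ᵁ π ⁻¹ᵁ V = q ⁻¹ᵁ ι' ⁻¹ᵁ V := by
    rw [← Scheme.Hom.comp_preimage, ← Scheme.Hom.comp_preimage, hw]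
  refine flat_of_square (fX'.appLE W V e) (ι'.app V) (π.app V)
    (q.app _ ≫ Z.presheaf.map (eqToHom he).op) (ι.app (π ⁻¹ᵁ V)) ?_ (ι.app_surjective _ hA)
    (fun y x h => ?_) ?_ ?_ ?_
  · rw [← Category.assoc, ← Scheme.Hom.comp_app, ← Scheme.Hom.comp_app]
    exact (Scheme.Hom.congr_app hw V).symm
  · obtain ⟨t, ⟨t1, t2⟩, t3⟩ := Groth.Agent.PinchH7.existsUnique_section_scheme hpo hw V x y h.symm
    exact ⟨t, ⟨t2, t1⟩, fun t' ht => t3 t' ⟨ht.2, ht.1⟩⟩
  · rw [Scheme.Hom.app_eq_appLE, Scheme.Hom.appLE_comp_appLE]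
    simpa only [hι'] using Flat.flat_appLE fZ' hW hB e2
  · rw [Scheme.Hom.app_eq_appLE, Scheme.Hom.appLE_comp_appLE]
    simpa only [hπ] using Flat.flat_appLE fX hW hA e1
  · simp only [Scheme.Hom.app_eq_appLE, Scheme.Hom.appLE_map, ← Category.assoc, Scheme.Hom.appLE_comp_appLE]
    have h : q ≫ ι' ≫ fX' = ι ≫ fX := by rw [hι', hq]
    simpa only [Category.assoc, h] using Flat.flat_appLE (ι ≫ fX) hW hZ e3

end Groth.Agent.S17903
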