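import Groth.Statements.S17904
import Groth.Agent.Lib.Pinch4.BaseChange
import Groth.Agent.Lib.PinchRSH7.Main
-- import your own Groth.Agent.* helpers here

set_option autoImplicit false
universe u
open CategoryTheory AlgebraicGeometry
open Pinch

namespace Groth.Agent.S17904

/-- Let S be a scheme and Z → X, Z → Z', X → X', Z' → X' a commutative square of S-schemes in which Z →
X and Z' → X' are closed immersions and Z → Z' and X → X' are affine, which is a pushout square in
the category of ringed spaces, with X, Z and Z' flat over S. Then for every morphism T → S the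
square of base changes Z_T → X_T, Z_T → Z'_T, X_T → X'_T, Z'_T → X'_T is a pushout square in the
category of ringed spaces. -/
theorem result {S X Z Z' X' : Scheme.{u}}
    (fX : X ⟶ S) (fZ' : Z' ⟶ S) (fX' : X' ⟶ S) (ι : Z ⟶ X) (q : Z ⟶ Z') (π : X ⟶ X') (ι' : Z' ⟶ X')
    [IsClosedImmersion ι] [IsClosedImmersion ι'] [IsAffineHom q] [IsAffineHom π]
    (hq : q ≫ fZ' = ι ≫ fX) (hπ : π ≫ fX' = fX) (hι' : ι' ≫ fX' = fZ')
    (hpo : IsPushout ((Scheme.forgetToLocallyRingedSpace ⋙ LocallyRingedSpace.forgetToSheafedSpace).map ι) ((Scheme.forgetToLocallyRingedSpace ⋙ LocallyRingedSpace.forgetToSheafedSpace).map q)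
      ((Scheme.forgetToLocallyRingedSpace ⋙ LocallyRingedSpace.forgetToSheafedSpace).map π) ((Scheme.forgetToLocallyRingedSpace ⋙ LocallyRingedSpace.forgetToSheafedSpace).map ι'))
    [Flat fX] [Flat (ι ≫ fX)] [Flat fZ']
    {T : Scheme.{u}} (g : T ⟶ S) :
    IsPushout
      ((Scheme.forgetToLocallyRingedSpace ⋙ LocallyRingedSpace.forgetToSheafedSpace).map
        ((Over.pullback g).map (Over.homMk ι rfl : Over.mk (ι ≫ fX) ⟶ Over.mk fX)).left)
      ((Scheme.forgetToLocallyRingedSpace ⋙ LocallyRingedSpace.forgetToSheafedSpace).map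
        ((Over.pullback g).map (Over.homMk q hq : Over.mk (ι ≫ fX) ⟶ Over.mk fZ')).left)
      ((Scheme.forgetToLocallyRingedSpace ⋙ LocallyRingedSpace.forgetToSheafedSpace).map
        ((Over.pullback g).map (Over.homMk π hπ : Over.mk fX ⟶ Over.mk fX')).left)
      ((Scheme.forgetToLocallyRingedSpace ⋙ LocallyRingedSpace.forgetToSheafedSpace).map
        ((Over.pullback g).map (Over.homMk ι' hι' : Over.mk fZ' ⟶ Over.mk fX')).left) := by
  let mι : Over.mk (ι ≫ fX) ⟶ Over.mk fX := Over.homMk ι rfl
  let mq : Over.mk (ι ≫ fX) ⟶ Over.mk fZ' := Over.homMk q hq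
  let mπ : Over.mk fX ⟶ Over.mk fX' := Over.homMk π hπ
  let mι' : Over.mk fZ' ⟶ Over.mk fX' := Over.homMk ι' hι'
  have i1 : ((Over.pullback g).map mι).left ≫ Limits.pullback.fst fX g = Limits.pullback.fst (ι ≫ fX) g ≫ ι :=
    Limits.pullback.lift_fst ..
  have i2 : ((Over.pullback g).map mι).left ≫ Limits.pullback.snd fX g = Limits.pullback.snd (ι ≫ fX) g :=
    Limits.pullback.lift_snd ..
  have q1 : ((Over.pullback g).map mq).left ≫ Limits.pullback.fst fZ' g = Limits.pullback.fst (ι ≫ fX) g ≫ q :=
    Limits.pullback.lift_fst ..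
  have p1 : ((Over.pullback g).map mπ).left ≫ Limits.pullback.fst fX' g = Limits.pullback.fst fX g ≫ π :=
    Limits.pullback.lift_fst ..
  have p2 : ((Over.pullback g).map mπ).left ≫ Limits.pullback.snd fX' g = Limits.pullback.snd fX g :=
    Limits.pullback.lift_snd ..
  have j1 : ((Over.pullback g).map mι').left ≫ Limits.pullback.fst fX' g = Limits.pullback.fst fZ' g ≫ ι' :=
    Limits.pullback.lift_fst ..
  have j2 : ((Over.pullback g).map mι').left ≫ Limits.pullback.snd fX' g = Limits.pullback.snd fZ' g :=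
    Limits.pullback.lift_snd ..
  have H := Groth.Agent.PinchRSH7.isPinch_of_rsPushout hpo
  have hw : mι ≫ mπ = mq ≫ mι' := Over.OverMorphism.ext H.w
  have hw' : ((Over.pullback g).map mι).left ≫ ((Over.pullback g).map mπ).left =
      ((Over.pullback g).map mq).left ≫ ((Over.pullback g).map mι').left := by
    rw [← Over.comp_left, ← Over.comp_left, ← Functor.map_comp, ← Functor.map_comp, hw]
  have hZ := Groth.Agent.Pinch4.isPullback_map ι fX g (ι ≫ fX) rfl _ i1 i2
  have H' := H.baseChange (IsPullback.of_hasPullback fX' g)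
    (Groth.Agent.Pinch4.isPullback_map π fX' g fX hπ _ p1 p2)
    (Groth.Agent.Pinch4.isPullback_map ι' fX' g fZ' hι' _ j1 j2) hZ q1 hw'
    (Or.inr (by rw [Category.assoc, hπ]; infer_instance))
  have : IsClosedImmersion ((Over.pullback g).map mι).left :=
    MorphismProperty.of_isPullback hZ inferInstance
  exact Groth.Agent.PinchRSH7.isPushout_rs H'

end Groth.Agent.S17904
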