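import Groth.Statements.S17906
import Groth.Agent.Lib.TensorMod.PicLaw

set_option autoImplicit false
universe u
open CategoryTheory CategoryTheory.Limits AlgebraicGeometry
open PicRel

namespace Groth.Agent.S17906

set_option backward.isDefEq.respectTransparency false

theorem pull_pull {X Y Z : Scheme.{u}} (g : X ⟶ Y) (h : Y ⟶ Z) (c : PicF.Cl Z) :
    PicF.pullCl g (PicF.pullCl h c) = PicF.pullCl (g ≫ h) c := (PicLoc.pullCl_comp g h c).symm

theorem inv_pull {X Y : Scheme.{u}} (g : X ⟶ Y) {c : PicF.Cl Y} (h : PicF.IsInvertibleCl c) :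
    PicF.IsInvertibleCl (PicF.pullCl g c) := by
  obtain ⟨L, rfl, hL⟩ := h
  exact ⟨_, rfl, PicLoc.isInvertible_pullback g hL⟩



/-- Let f : X → S be a morphism of schemes, g : S' → S a morphism and X' = X ×_S S'. If the relative
Picard functor of X over S, sheafified and described through a representing S-scheme P with maps φ_T
from classes of modules on X ×_S T to S-morphisms T → P, is represented by P, then the relative
Picard functor of X' over S' is represented by P ×_S S': a class c on (X ×_S S') ×_{S'} T is sent,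
after transport along the canonical isomorphism of this scheme with X ×_S T, to the S'-morphism T →
P ×_S S' whose components are φ(c) and the structure morphism of T. (The published statement is for
the fppf sheafification, asserts the isomorphism of functors Pic_{X/S} ×_S S' ≅ Pic_{X'/S'} in
general, and adds the compatibility of universal bundles and rigidifications; stated here is the
representability consequence for the étale sheafification, to which the same argument applies.) -/
theorem result {X S S' : Scheme.{u}} (f : X ⟶ S) (g : S' ⟶ S)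
    (P : Over S) (φ : ∀ T : Over S, PicF.Cl (PicF.XT f T) → (T ⟶ P)) (hP : PicRel.IsRelPic f P φ) :
    PicRel.IsRelPic (pullback.snd f g) (Over.mk (pullback.snd P.hom g))
      (fun T c => Over.homMk
        (pullback.lift (φ (Over.mk (T.hom ≫ g)) (PicF.pullCl (pullbackLeftPullbackSndIso f g T.hom).inv c)).left T.hom
          (Over.w (φ (Over.mk (T.hom ≫ g)) (PicF.pullCl (pullbackLeftPullbackSndIso f g T.hom).inv c))))
        (pullback.lift_snd _ _ _)) := by
  obtain ⟨hn, hs, hi⟩ := hP
  constructor
  · intro T1 T2 h c hc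
    let h' : Over.mk (T2.hom ≫ g) ⟶ Over.mk (T1.hom ≫ g) := Over.homMk h.left (by simp [reassoc_of% (Over.w h)])
    have key : (pullbackLeftPullbackSndIso f g T2.hom).inv ≫ PicF.XTmap (pullback.snd f g) h =
        PicF.XTmap f h' ≫ (pullbackLeftPullbackSndIso f g T1.hom).inv := by
      rw [Iso.inv_comp_eq, ← Category.assoc, Iso.eq_comp_inv]
      apply pullback.hom_ext <;> simp [PicF.XTmap, h']
    have e : φ (Over.mk (T2.hom ≫ g)) (PicF.pullCl (pullbackLeftPullbackSndIso f g T2.hom).inv
        (PicF.pullCl (PicF.XTmap (pullback.snd f g) h) c)) = h' ≫ φ (Over.mk (T1.hom ≫ g))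
        (PicF.pullCl (pullbackLeftPullbackSndIso f g T1.hom).inv c) := by
      rw [pull_pull, key, ← pull_pull]
      exact hn _ _ h' _ (inv_pull _ hc)
    ext1
    apply pullback.hom_ext
    · simp [e, h']
    · simp
  · intro T h
    have hw : h.left ≫ pullback.snd P.hom g = T.hom := Over.w h
    let h' : Over.mk (T.hom ≫ g) ⟶ P := Over.homMk (h.left ≫ pullback.fst P.hom g)
      (by rw [Category.assoc, pullback.condition, ← Category.assoc, hw]; rfl)
    obtain ⟨ι, U, hU, hc⟩ := hs _ h'
    refine ⟨ι, U, hU, fun i => ?_⟩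
    obtain ⟨c, hc1, hc2⟩ := hc i
    let j : Over.mk ((ovr T (U i)).hom ≫ g) ⟶ ovr (Over.mk (T.hom ≫ g)) (U i) :=
      Over.homMk (𝟙 (U i).left) (by simp)
    refine ⟨PicF.pullCl (pullbackLeftPullbackSndIso f g (ovr T (U i)).hom).hom
      (PicF.pullCl (PicF.XTmap f j) c), inv_pull _ (inv_pull _ hc1), ?_⟩
    ext1
    apply pullback.hom_ext
    · simp only [Over.homMk_left, pullback.lift_fst, Over.comp_left]
      rw [pull_pull, Iso.inv_hom_id]
      erw [PicLoc.pullCl_id, hn _ _ j c hc1, hc2]
      simp [j, h']
    · simp only [Over.homMk_left, pullback.lift_snd, Over.comp_left, Category.assoc]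
      simp [hw]
  · intro T c c' hc hc' h
    have e : φ (Over.mk (T.hom ≫ g)) (PicF.pullCl (pullbackLeftPullbackSndIso f g T.hom).inv c) =
        φ (Over.mk (T.hom ≫ g)) (PicF.pullCl (pullbackLeftPullbackSndIso f g T.hom).inv c') := by
      ext1
      simpa using congrArg (fun k => k.left ≫ pullback.fst P.hom g) h
    obtain ⟨ι, U, hU, hcc⟩ := hi _ _ _ (inv_pull _ hc) (inv_pull _ hc') e
    refine ⟨ι, U, hU, fun i => ?_⟩
    let j : Over.mk ((ovr T (U i)).hom ≫ g) ⟶ ovr (Over.mk (T.hom ≫ g)) (U i) :=
      Over.homMk (𝟙 (U i).left) (by simp)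
    have key : PicF.XTmap (pullback.snd f g) (ovrHom T (U i)) =
        (pullbackLeftPullbackSndIso f g (ovr T (U i)).hom).hom ≫ PicF.XTmap f j ≫
          PicF.XTmap f (ovrHom (Over.mk (T.hom ≫ g)) (U i)) ≫ (pullbackLeftPullbackSndIso f g T.hom).inv := by
      rw [← Category.assoc, ← Category.assoc, Iso.eq_comp_inv]
      apply pullback.hom_ext <;> simp [PicF.XTmap, j]
    rw [key, ← pull_pull, ← pull_pull, ← pull_pull, hcc i]
    simp only [pull_pull, Category.assoc]


end Groth.Agent.S17906
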