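import Groth.Statements.S1791
import Groth.Agent.Lib.Dlz27.CxFaltings
-- import your own Groth.Agent.* helpers here

set_option autoImplicit false
universe u
open CategoryTheory
attribute [local instance] HasDerivedCategory.standard
open LocCoh

namespace Groth.Agent.S1791

/-- Let A be a Noetherian ring with a dualizing complex, T ⊆ T' subsets of Spec A stable under
specialization, s an integer, and K an object of D(A) which is bounded below with finite cohomology
modules. Assume the derived base change functors D(A) → D(A_p) exist. Then there is an ideal J with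
V(J) ⊆ T' annihilating H^i_T(K) for all i ≤ s if and only if for all primes p ∉ T' and q ∈ T with p
⊆ q, writing h for the length of the longest chain of primes from p to q, the local cohomology H^i
of K_p at the maximal ideal of A_p vanishes for every i ≤ s − h (that is, depth(K_p) + h > s). -/
theorem result (A : Type u) [CommRing A] [IsNoetherianRing A] (hA : ∃ ω : Dual.D A, Dual.IsDualizing A ω) (T T' : Set (PrimeSpectrum A)) (hT : StableUnderSpecialization T) (hT' : StableUnderSpecialization T') (hTT' : T ⊆ T') (s : ℤ) (K : Dual.D A) (a : ℤ) (hKa : ∀ i : ℤ, i < a → Subsingleton (Dual.HD A K i)) (hK : ∀ i : ℤ, Module.Finite A (Dual.HD A K i)) [∀ p : PrimeSpectrum A, DRing.HasLBaseChange (algebraMap A (Localization.AtPrime p.asIdeal))] : (∃ J : Ideal A, PrimeSpectrum.zeroLocus (J : Set A) ⊆ T' ∧ ∀ i : ℤ, i ≤ s → ∀ a ∈ J, ∀ x : Dual2.HDT A T K i, a • x = 0) ↔ (∀ (p q : PrimeSpectrum A) (hpq : p ≤ q), p ∉ T' → q ∈ T → ∀ h : ℕ, Order.height (⟨q, hpq⟩ : Set.Ici p) = h → ∀ i : ℤ, i ≤ s - h → Subsingleton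 (Dual2.HDI (Localization.AtPrime p.asIdeal) (IsLocalRing.maximalIdeal (Localization.AtPrime p.asIdeal)) ((DRing.LBaseChange (algebraMap A (Localization.AtPrime p.asIdeal))).obj K) i)) := by
  obtain ⟨ω, hω⟩ := hA
  let Mω := Dlz27.model hω
  obtain ⟨W, hW0, hWi, hWK, ⟨e⟩⟩ := HTFin27.exists_res_bounded K a hKa
  have key := Dlz27.annihilator_cx_iff W hWi a hω Mω K e hK hT hT' s
  have conv : ∀ (i : ℤ) (c : A), (∀ x : Dual2.HDT A T K i, c • x = 0) ↔
      ∀ z ∈ HTFin27.TCy T W i, c • z ∈ HTFin27.TBd T W i := fun i c =>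
    Dlz27.smul_eq_zero_iff_cycles W e i (HTFin27.isColimK_κD T K i) c
  refine Iff.trans (exists_congr fun J => and_congr_right fun _ => forall_congr' fun i => imp_congr_right fun _ =>
    forall_congr' fun c => imp_congr_right fun _ => conv i c) (key.trans ?_)
  have eb : ∀ p : PrimeSpectrum A, Nonempty ((Dlz27.locD p.asIdeal.primeCompl).obj K ≅
      (DRing.LBaseChange (algebraMap A (Localization.AtPrime p.asIdeal))).obj K) := fun p => by
    obtain ⟨e'⟩ := Dlz27.exists_LBaseChange_iso p.asIdeal.primeCompl W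
    exact ⟨(Dlz27.locDIso W K e p.asIdeal.primeCompl).symm ≪≫ e'.symm ≪≫
      (DRing.LBaseChange (algebraMap A (Localization p.asIdeal.primeCompl))).mapIso e⟩
  have hdeg : ∀ (p q : PrimeSpectrum A) (hpq : p ≤ q) (n : ℕ), Order.height (⟨q, hpq⟩ : Set.Ici p) = n →
      (n : ℤ) = Dlz27.deg hω Mω q - Dlz27.deg hω Mω p := by
    intro p q hpq n hn
    rw [Dlz27.height_eq_deg_sub Mω hω p q hpq] at hn
    have h1 := (Dlz27.deg_strictMono hω Mω).monotone hpq
    have h2 : (Dlz27.deg hω Mω q - Dlz27.deg hω Mω p).toNat = n := by exact_mod_cast hn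
    omega
  constructor
  · intro h p q hpq hp hq n hn i hi
    rw [hdeg p q hpq n hn] at hi
    obtain ⟨e'⟩ := eb p
    exact Dlz27.subsingleton_hdi_of_iso _ e' i (h p q hpq hp hq i hi)
  · intro h p q hpq hp hq i hi
    obtain ⟨e'⟩ := eb p
    have hn := Dlz27.height_eq_deg_sub Mω hω p q hpq
    refine Dlz27.subsingleton_hdi_of_iso _ e'.symm i (h p q hpq hp hq _ hn i ?_)
    rw [hdeg p q hpq _ hn]
    exact hi

end Groth.Agent.S1791
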