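import Groth.Statements.S17910
import Mathlib.LinearAlgebra.ExteriorPower.Basis
import Mathlib.Algebra.Module.Projective

set_option autoImplicit false
universe u
open scoped TensorProduct
open SymTen

namespace Groth.Agent.S17910

open exteriorPower

variable {R : Type u} [CommRing R] {d : ℕ}

/-- Tensor power to exterior power. -/
noncomputable def E (P : Type u) [AddCommGroup P] [Module R P] : (⨂[R] _ : Fin d, P) →ₗ[R] ⋀[R]^d P :=
  PiTensorProduct.lift (exteriorPower.ιMulti R d (M := P)).toMultilinearMap

lemma E_tprod {P : Type u} [AddCommGroup P] [Module R P] (p : Fin d → P) :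
    E (R := R) P (PiTensorProduct.tprod R p) = exteriorPower.ιMulti R d p := by
  simp [E]

lemma toTensorPower_injective_free {F : Type u} [AddCommGroup F] [Module R F] [Module.Free R F] :
    Function.Injective (toTensorPower R F d) := by
  obtain ⟨⟨I, b⟩⟩ := Module.Free.exists_basis (R := R) (M := F)
  classical
  letI : LinearOrder I := linearOrderOfSTO (WellOrderingRel)
  rw [← LinearMap.ker_eq_bot, LinearMap.ker_eq_bot']
  intro z hz
  refine (b.exteriorPower d).ext_elem fun s => ?_
  rw [exteriorPower.basis_repr_apply, exteriorPower.basis_repr_apply, map_zero]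
  simp [exteriorPower.ιMultiDual, exteriorPower.ιMulti_family, exteriorPower.pairingDual,
    exteriorPower.alternatingMapToDual, hz]

lemma toTensorPower_injective {P : Type u} [AddCommGroup P] [Module R P] [Module.Projective R P] :
    Function.Injective (toTensorPower R P d) := by
  obtain ⟨s, hs⟩ := Module.projective_def'.1 ‹Module.Projective R P›
  have hnat : toTensorPower R (P →₀ R) d ∘ₗ exteriorPower.map d s =
      PiTensorProduct.map (R := R) (s := fun _ : Fin d => P) (t := fun _ : Fin d => P →₀ R) (fun _ => s) ∘ₗ toTensorPower R P d := by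
    refine exteriorPower.linearMap_ext (R := R) (M := P) (N := ⨂[R] _ : Fin d, (P →₀ R)) ?_
    ext v
    simp [map_sum]
  intro x y h
  refine exteriorPower.map_injective (f := s) (Finsupp.linearCombination R (id : P → P)) hs ?_
  refine toTensorPower_injective_free ?_
  have := LinearMap.congr_fun hnat
  simp only [LinearMap.comp_apply] at this
  rw [this, this, h]

lemma toTensorPower_E {P : Type u} [AddCommGroup P] [Module R P] (t : ⨂[R] _ : Fin d, P) :
    toTensorPower R P d (E P t) = ∑ σ : Equiv.Perm (Fin d),
      Equiv.Perm.sign σ • PiTensorProduct.reindex R (fun _ : Fin d => P) σ.symm t := by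
  induction t using PiTensorProduct.induction_on with
  | smul_tprod r p =>
    simp only [map_smul, E_tprod, toTensorPower_apply_ιMulti, Finset.smul_sum]
    refine Finset.sum_congr rfl fun σ _ => ?_
    rw [smul_comm, PiTensorProduct.reindex_tprod, Equiv.symm_symm]
  | add x y hx hy =>
    simp only [map_add, hx, hy, ← Finset.sum_add_distrib]
    exact Finset.sum_congr rfl fun σ _ => by simp only [Units.smul_def]; exact (zsmul_add _ _ _).symm

lemma altSpan_le_ker {P : Type u} [AddCommGroup P] [Module R P] :
    SymTen.altSpan R P d ≤ LinearMap.ker (E (R := R) (d := d) P) := by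
  refine Submodule.span_le.2 ?_
  rintro _ ⟨p, i, j, hij, hp, rfl⟩
  show E P _ = 0
  rw [E_tprod]
  exact (exteriorPower.ιMulti R d).map_eq_zero_of_eq p hp hij

lemma ker_le_altSpan {P : Type u} [AddCommGroup P] [Module R P] :
    LinearMap.ker (E (R := R) (d := d) P) ≤ SymTen.altSpan R P d := by
  let I := SymTen.altSpan R P d
  let Q : P [⋀^Fin d]→ₗ[R] ((⨂[R] _ : Fin d, P) ⧸ I) :=
    { I.mkQ.compMultilinearMap (PiTensorProduct.tprod R) with
      map_eq_zero_of_eq' := fun p i j hp hij =>
        (Submodule.Quotient.mk_eq_zero I).2 (Submodule.subset_span ⟨p, i, j, hij, hp, rfl⟩) }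
  have h : exteriorPower.alternatingMapLinearEquiv Q ∘ₗ E P = I.mkQ := by
    refine PiTensorProduct.ext (MultilinearMap.ext fun p => ?_)
    simp [E_tprod, Q]
    all_goals rfl
  intro x hx
  rw [← Submodule.ker_mkQ (SymTen.altSpan R P d), LinearMap.mem_ker, ← LinearMap.congr_fun h x,
    LinearMap.comp_apply, LinearMap.mem_ker.1 hx, map_zero]

/-- Let R be a commutative ring, A a commutative R-algebra, d ≥ 0, and P an A-module that is finitely
generated projective (finite locally free) as an R-module. Let the d-fold tensor power of A over R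
act on the d-fold tensor power of P over R factor by factor, and let I_d be the R-span of the pure
tensors p_1 ⊗ ⋯ ⊗ p_d with two equal factors p_i = p_j, i ≠ j (the submodule by which the tensor
power is divided to give the d-th exterior power). Then every symmetric tensor a ∈ TS^d_R(A) maps
I_d into itself, so that TS^d_R(A) acts on the d-th exterior power of P over R. -/
theorem result (R : Type u) [CommRing R] (A : Type u) [CommRing A] [Algebra R A]
    (P : Type u) [AddCommGroup P] [Module R P] [Module A P] [IsScalarTower R A P]
    [Module.Finite R P] [Module.Projective R P] (d : ℕ)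
    (a : ⨂[R] _ : Fin d, A) (ha : a ∈ SymTen.TS R A d)
    (x : ⨂[R] _ : Fin d, P) (hx : x ∈ SymTen.altSpan R P d) :
    SymTen.tpowAct R A P d a x ∈ SymTen.altSpan R P d := by
  classical
  refine ker_le_altSpan (LinearMap.mem_ker.2 (toTensorPower_injective ?_))
  rw [map_zero, toTensorPower_E]
  have hx0 : E (R := R) P x = 0 := LinearMap.mem_ker.1 (altSpan_le_ker hx)
  have hAlt : ∑ σ : Equiv.Perm (Fin d), Equiv.Perm.sign σ • PiTensorProduct.reindex R (fun _ : Fin d => P) σ.symm x = 0 := by
    rw [← toTensorPower_E, hx0, map_zero]
  have heq : ∀ (σ : Equiv.Perm (Fin d)) (b : ⨂[R] _ : Fin d, A) (y : ⨂[R] _ : Fin d, P),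
      PiTensorProduct.reindex R (fun _ : Fin d => P) σ (SymTen.tpowAct R A P d b y) =
        SymTen.tpowAct R A P d (PiTensorProduct.reindex R (fun _ : Fin d => A) σ b)
          (PiTensorProduct.reindex R (fun _ : Fin d => P) σ y) := by
    intro σ b y
    induction b using PiTensorProduct.induction_on with
    | smul_tprod r v =>
      induction y using PiTensorProduct.induction_on with
      | smul_tprod r' w => simp [SymTen.tpowAct, PiTensorProduct.reindex_tprod]
      | add y y' hy hy' => simp only [map_add, hy, hy']
    | add b b' hb hb' => simp only [map_add, LinearMap.add_apply, hb, hb']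
  have : ∀ σ : Equiv.Perm (Fin d), PiTensorProduct.reindex R (fun _ : Fin d => P) σ (SymTen.tpowAct R A P d a x) =
      SymTen.tpowAct R A P d a (PiTensorProduct.reindex R (fun _ : Fin d => P) σ x) := fun σ => by
    rw [heq, (SymTen.mem_TS_iff R A d a).1 ha σ]
  have h2 := congrArg (SymTen.tpowAct R A P d a) hAlt
  rw [map_zero, map_sum] at h2
  refine Eq.trans (Finset.sum_congr rfl fun σ _ => ?_) h2
  rw [this, Units.smul_def, Units.smul_def, map_zsmul]

end Groth.Agent.S17910
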