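import Groth.Statements.S17911
import Groth.Agent.Lib.GerbAbs16.FFGerbe

set_option autoImplicit false
universe u
open CategoryTheory AlgebraicGeometry
open Gerb

namespace Groth.Agent.S17911
set_option linter.style.haveILetI false
set_option backward.isDefEq.respectTransparency false
set_option backward.isDefEq.respectTransparency.types false
open Groth.Agent.GerbAbs Groth.Agent.FC16 CategoryTheory.Functor


/-- Let S be a scheme and let 𝒳, 𝒴 be gerbes over the big fppf site of schemes over S (stacks in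
groupoids in which objects exist locally and any two objects over the same scheme are locally
isomorphic), and let φ : 𝒳 → 𝒴 be a functor over Sch_S. Suppose 𝒳 has an object s over S itself such
that, for every object x of 𝒳 admitting a morphism to s (that is, for every pullback of s), φ
induces a bijection from the automorphisms of x over the identity to those of φ(x) — the induced
homomorphism of automorphism sheaves Aut(s) → Aut(φ s) is an isomorphism. Then φ is an equivalence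
over Sch_S: some functor over Sch_S in the other direction is inverse to φ up to isomorphisms over
Sch_S. -/
theorem result (S : Scheme.{u}) (𝒳 𝒴 : AlgSt.Cat S)
    (h𝒳 : Gerb.IsGerbe (QuotSh.J Scheme.fppfPrecoverage S) 𝒳)
    (h𝒴 : Gerb.IsGerbe (QuotSh.J Scheme.fppfPrecoverage S) 𝒴)
    (φ : 𝒳 ⥤ᵇ 𝒴) (s : 𝒳.obj) (hs : 𝒳.p.obj s = Over.mk (𝟙 S))
    (hφ : ∀ (x : 𝒳.obj) (c : x ⟶ s), Function.Bijective (Gerb.autMap φ x)) :
    FibCat.IsEquivOver φ := by
  have hX := isPrestack_of_isStack _ h𝒳.1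
  have hY := isPrestack_of_isStack _ h𝒴.1
  let term : ∀ U : Over S, U ⟶ 𝒳.p.obj s := fun U => (Over.mkIdTerminal.from U) ≫ eqToHom hs.symm
  have hbij : ∀ z, Function.Bijective (Gerb.autMap φ z) := bijective_of_cover φ hX hY fun z => by
    obtain ⟨R, hR, hR'⟩ := Band.exists_local_lift hX h𝒳.2.2 z s (term _)
    exact ⟨R, hR, fun z₀ π hπ => hφ z₀ (hR' z₀ π hπ).choose⟩
  haveI := full_of_bijective φ hX hY h𝒳.2.2 hbij
  haveI := faithful_of_bijective φ hX hY hbij
  refine isEquivOver_of φ (essSurjOver_of_locally h𝒳.1 hY φ fun y => ?_)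
  obtain ⟨x₀, l₀, hl₀⟩ := FC16.exists_lift hX.1 (x := s) rfl (term (𝒴.p.obj y))
  have e₀ : 𝒳.p.obj x₀ = 𝒴.p.obj y := IsHomLift.domain_eq 𝒳.p (term (𝒴.p.obj y)) l₀
  obtain ⟨R, hR, hR'⟩ := h𝒴.2.2 y (φ.obj x₀)
    (show (𝒴.p.obj y ⟶ 𝒴.p.obj (φ.obj x₀)) from eqToHom (e₀.symm.trans (φ.w_obj x₀).symm))
    (IsHomLift.of_fac' (𝟭 (Over S)) _ _ rfl ((φ.w_obj x₀).trans e₀) (by simp))
  refine ⟨R, hR, fun V f hf => ?_⟩
  obtain ⟨y₀, p, q, hp, hq, -⟩ := hR' f hf
  haveI := hp
  haveI := hq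
  obtain ⟨x₁, l₁, hl₁⟩ := FC16.exists_lift hX.1 (x := x₀) e₀ f
  haveI := hl₁
  obtain ⟨i, hi, -⟩ := FC16.exists_iso_of_lifts hY.1 f (φ.map l₁) q
  haveI := hi
  exact ⟨x₁, i.hom ≫ p, IsHomLift.comp_lift_id_left' (p := 𝒴.p) V i.hom f p⟩

end Groth.Agent.S17911
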