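import Groth.Statements.S17914
import Groth.Agent.Lib.GammaD.Gamma
import Mathlib.RingTheory.Norm.Basic
import Mathlib.RingTheory.TensorProduct.Basic

set_option autoImplicit false
universe u
open scoped TensorProduct
open PolLaw

namespace Groth.Agent.S17914

/-- Affine-free form, stated through universal properties. Let R → R' be a commutative algebra that is
free of rank d as an R-module, Q a commutative R-algebra, and Q' a commutative ring under Q and R'
which is their pushout over R and is free of rank d over Q. Let (C, γ) be the degree-d divided power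
algebra of R' over R with its universal multiplicative law (hypothesis: every multiplicative law of
degree d out of R' factors uniquely through γ) and π : C → R the R-algebra map with π ∘ γ = the norm
law of R' over R; let (C', γ', π') be the analogous data for Q' over Q. Let θ : C → C' be an
R-algebra homomorphism compatible with the two universal laws over every commutative Q-algebra P:
γ'_P applied to the image of z ∈ P ⊗_R R' in P ⊗_Q Q' equals (p ⊗ c ↦ p ⊗ θ c) applied to γ_P(z) (so
θ is the base-change homomorphism of divided power algebras). Then π' (θ c) is the image in Q of π c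
for every c ∈ C: the algebra map attached to the norm commutes with base change. (The published
lemma is for a finite locally free extension of constant rank and states the commutativity of each
of three squares; this row assumes R' free over R and states the commutativity of the composite.) -/
theorem result {R R' Q Q' : Type u} [CommRing R] [CommRing R'] [Algebra R R']
    [CommRing Q] [Algebra R Q] [CommRing Q'] [Algebra R Q'] [Algebra Q Q'] [Algebra R' Q']
    [IsScalarTower R Q Q'] [IsScalarTower R R' Q'] [Algebra.IsPushout R R' Q Q']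
    [Module.Free R R'] [Module.Finite R R'] [Module.Free Q Q'] [Module.Finite Q Q']
    (d : ℕ) (hd : Module.finrank R R' = d) (hd' : Module.finrank Q Q' = d)
    {C : Type u} [CommRing C] [Algebra R C] (γ : PolLaw.MulLaw R R' C d) (hγ : PolLaw.IsGammaD γ)
    (π : C →ₐ[R] R) (hπ : PolLaw.MulLaw.postcomp π γ = PolLaw.normLaw R R' d hd)
    {C' : Type u} [CommRing C'] [Algebra R C'] [Algebra Q C'] [IsScalarTower R Q C']
    (γ' : PolLaw.MulLaw Q Q' C' d) (hγ' : PolLaw.IsGammaD γ')
    (π' : C' →ₐ[Q] Q) (hπ' : PolLaw.MulLaw.postcomp π' γ' = PolLaw.normLaw Q Q' d hd')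
    (θ : C →ₐ[R] C')
    (hθ : ∀ (P : Type u) [CommRing P] [Algebra R P] [Algebra Q P] [IsScalarTower R Q P] (z : P ⊗[R] R'),
      γ'.law.toFun' P (PolLaw.bcAlong (IsScalarTower.toAlgHom R R' Q').toLinearMap P z) =
        PolLaw.bcAlong θ.toLinearMap P (γ.law.toFun' P z)) :
    ∀ c : C, π' (θ c) = algebraMap R Q (π c) := by
  classical
  suffices hh : (Algebra.linearMap R Q ∘ₗ π.toLinearMap) = ((π'.restrictScalars R).toLinearMap ∘ₗ θ.toLinearMap) by
    intro c; exact (LinearMap.congr_fun hh c).symm
  set h₁ : C →ₗ[R] Q := Algebra.linearMap R Q ∘ₗ π.toLinearMap with hh₁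
  set h₂ : C →ₗ[R] Q := (π'.restrictScalars R).toLinearMap ∘ₗ θ.toLinearMap with hh₂
  suffices hG : h₁ ∘ₗ Groth.Agent.GammaD.G γ = h₂ ∘ₗ Groth.Agent.GammaD.G γ by
    ext c
    obtain ⟨t, rfl⟩ := Groth.Agent.GammaD.G_surjective γ hγ c
    exact LinearMap.congr_fun hG t
  refine LinearMap.ext fun t => ?_
  have key := Groth.Agent.GammaD.eq_on_orbit (Groth.Agent.GammaD.bP R R') (d := d)
    (h₁ ∘ₗ Groth.Agent.GammaD.G γ) (h₂ ∘ₗ Groth.Agent.GammaD.G γ) (fun T => ?_)
  · have := LinearMap.congr_fun key t
    simp only [LinearMap.comp_apply] at this ⊢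
    rwa [Groth.Agent.GammaD.G_R] at this
  let M := R' →₀ ℕ
  refine Groth.Agent.GammaD.ext_coefT fun o => ?_
  rw [Groth.Agent.GammaD.coefT_lTensor, Groth.Agent.GammaD.coefT_lTensor]
  show h₁ (Groth.Agent.GammaD.G γ _) = h₂ (Groth.Agent.GammaD.G γ _)
  rw [← Groth.Agent.GammaD.coefT_lTensor o (Groth.Agent.GammaD.G γ), Groth.Agent.GammaD.G_tl]
  set x := (Groth.Agent.GammaD.piP R R').toLinearMap.lTensor (MvPolynomial M R)
    (Groth.Agent.GammaD.gen (Groth.Agent.GammaD.bP R R') T) with hx
  set z := γ.law.toFun' (MvPolynomial M R) x with hz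
  let φ : MvPolynomial M R →ₐ[R] MvPolynomial M Q := MvPolynomial.mapAlgHom (Algebra.ofId R Q)
  let Λ : (C →ₗ[R] Q) → (MvPolynomial M R ⊗[R] C →ₗ[R] MvPolynomial M Q) := fun h =>
    (LinearMap.mul' R (MvPolynomial M Q)) ∘ₗ TensorProduct.map φ.toLinearMap
      ((IsScalarTower.toAlgHom R Q (MvPolynomial M Q)).toLinearMap ∘ₗ h)
  have hΛ : ∀ h w, MvPolynomial.coeff o (Λ h w) = h (Groth.Agent.GammaD.coefT o w) := by
    intro h w
    induction w using TensorProduct.induction_on with
    | zero => simp
    | add a b ha hb => simp only [map_add, MvPolynomial.coeff_add, ha, hb]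
    | tmul s c =>
      rw [Groth.Agent.GammaD.coefT_tmul, map_smul]
      simp only [Λ, φ, LinearMap.comp_apply, TensorProduct.map_tmul, LinearMap.mul'_apply, AlgHom.toLinearMap_apply,
        IsScalarTower.coe_toAlgHom', MvPolynomial.algebraMap_eq, MvPolynomial.mapAlgHom_apply]
      rw [mul_comm, MvPolynomial.coeff_C_mul, MvPolynomial.coeff_map, Algebra.smul_def, mul_comm]
      rfl
  rw [← hΛ, ← hΛ]
  congr 1
  set P := MvPolynomial M Q with hP
  set x' := Algebra.TensorProduct.map φ (AlgHom.id R R') x with hx'
  have hrT : φ.toLinearMap.rTensor R' x = x' := PolLaw.rTensor_algHom_apply φ x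
  -- values over `P`
  have hcomp : γ.law.toFun' P x' = φ.toLinearMap.rTensor C z := by
    rw [hz, ← hrT]; exact (congrFun (γ.law.isCompat' φ) x).symm
  have hπP : π.toLinearMap.lTensor P (γ.law.toFun' P x') = Algebra.norm P x' ⊗ₜ[R] (1 : R) :=
    (congrFun (congrFun (congrFun (congrFun (congrArg PolynomialLaw.toFun'
      (congrArg PolLaw.MulLaw.law hπ)) P) _) _) x').trans (PolLaw.normLaw_apply R R' d hd P x')
  have e1 : Λ h₁ z = Algebra.norm P x' := by
    have : ∀ w, Λ h₁ w = TensorProduct.rid R P (π.toLinearMap.lTensor P (φ.toLinearMap.rTensor C w)) := by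
      intro w
      induction w using TensorProduct.induction_on with
      | zero => simp
      | add a b ha hb => simp only [map_add, ha, hb]
      | tmul s c =>
        simp only [Λ, hh₁, LinearMap.comp_apply, TensorProduct.map_tmul, LinearMap.mul'_apply, AlgHom.toLinearMap_apply,
          IsScalarTower.coe_toAlgHom', Algebra.linearMap_apply, LinearMap.rTensor_tmul, LinearMap.lTensor_tmul,
          TensorProduct.rid_tmul]
        rw [← IsScalarTower.algebraMap_apply R Q P, Algebra.smul_def, mul_comm]
    rw [this, ← hcomp, hπP, TensorProduct.rid_tmul, one_smul]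
  let f := (IsScalarTower.toAlgHom R R' Q').toLinearMap
  have hπP' : π'.toLinearMap.lTensor P (γ'.law.toFun' P (PolLaw.bcAlong f P x'))
      = Algebra.norm P (PolLaw.bcAlong f P x') ⊗ₜ[Q] (1 : Q) :=
    (congrFun (congrFun (congrFun (congrFun (congrArg PolynomialLaw.toFun'
      (congrArg PolLaw.MulLaw.law hπ')) P) _) _) _).trans (PolLaw.normLaw_apply Q Q' d hd' P _)
  have e2 : Λ h₂ z = Algebra.norm P (PolLaw.bcAlong (Q := Q) f P x') := by
    have : ∀ w, Λ h₂ w = TensorProduct.rid Q P (π'.toLinearMap.lTensor P (PolLaw.bcAlong θ.toLinearMap P (φ.toLinearMap.rTensor C w))) := by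
      intro w
      induction w using TensorProduct.induction_on with
      | zero => simp
      | add a b ha hb => simp only [map_add, ha, hb]
      | tmul s c =>
        simp only [Λ, hh₂, LinearMap.comp_apply, TensorProduct.map_tmul, LinearMap.mul'_apply, AlgHom.toLinearMap_apply,
          IsScalarTower.coe_toAlgHom', LinearMap.rTensor_tmul, PolLaw.bcAlong, LinearEquiv.coe_coe,
          LinearMap.coe_restrictScalars, AlgHom.restrictScalars_apply]
        rw [TensorProduct.AlgebraTensorModule.cancelBaseChange_symm_tmul, LinearMap.lTensor_tmul, LinearMap.lTensor_tmul,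
          TensorProduct.rid_tmul, LinearMap.liftBaseChange_tmul, one_smul, Algebra.smul_def, mul_comm]
        rfl
    rw [this, ← hcomp, ← hθ, hπP', TensorProduct.rid_tmul, one_smul]
  refine e1.trans (Eq.trans ?_ e2.symm)
  -- the base change is an isomorphism of `P`-algebras
  have hpush : Algebra.IsPushout R Q R' Q' := Algebra.IsPushout.symm inferInstance
  let e : P ⊗[R] R' ≃ₐ[P] P ⊗[Q] Q' :=
    (Algebra.TensorProduct.cancelBaseChange R Q P P R').symm.trans
      (Algebra.TensorProduct.congr AlgEquiv.refl (Algebra.IsPushout.equiv R Q R' Q'))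
  have he : ∀ y, e y = PolLaw.bcAlong (Q := Q) f P y := by
    intro y
    induction y using TensorProduct.induction_on with
    | zero => simp
    | add a b ha hb => simp only [map_add, ha, hb]
    | tmul p r =>
      simp only [e, f, PolLaw.bcAlong, AlgEquiv.trans_apply, LinearMap.comp_apply, LinearEquiv.coe_coe,
        LinearMap.coe_restrictScalars, TensorProduct.AlgebraTensorModule.cancelBaseChange_symm_tmul,
        LinearMap.lTensor_tmul, LinearMap.liftBaseChange_tmul, one_smul]
      rw [show (Algebra.TensorProduct.cancelBaseChange R Q P P R').symm (p ⊗ₜ[R] r) = p ⊗ₜ[Q] ((1 : Q) ⊗ₜ[R] r) by simp]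
      rw [Algebra.TensorProduct.congr_apply, Algebra.TensorProduct.map_tmul]
      simp [Algebra.IsPushout.equiv_tmul]
  rw [← he, Algebra.norm_eq_of_algEquiv]

end Groth.Agent.S17914
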