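import Groth.Statements.S1955
import Groth.Agent.Lib.Vol26.Zigzag

set_option autoImplicit false
universe u
open CategoryTheory AlgebraicGeometry
open Cyc

set_option backward.isDefEq.respectTransparency false
set_option backward.isDefEq.respectTransparency.types false
set_option maxHeartbeats 1000000

namespace Groth.Agent.S1955

open CategoryTheory.Limits TopologicalSpace Groth.Agent.Vol26
open CurveCoh17 (stalkLin)

/-- The cycle of a coherent module. -/
theorem exists_cycle {X : Scheme.{u}} [IsLocallyNoetherian X] {δ : X → ℤ} (hd : Cyc.IsDimFun X δ) {k : ℤ}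
    {F : X.Modules} (hF : Cyc.CohLe δ k F) :
    ∃ α : AlgebraicCycle X ℤ, α ∈ Cyc.Zk X δ k ∧ ⇑α = Cyc.sheafFun δ k F := by
  refine ⟨⟨Cyc.sheafFun δ k F, Set.subset_univ _, fun x _ => ?_⟩, fun x hx => ?_, rfl⟩
  · obtain ⟨W, hW, hx, hfin⟩ := exists_nhd_finite hd hF x
    refine ⟨W, hW.mem_nhds hx, hfin.subset fun y hy => ?_⟩
    have h := hy.2
    simp only [Function.mem_support, Cyc.sheafFun] at h
    split_ifs at h with hk
    · refine ⟨hk, not_subsingleton_iff_nontrivial.1 fun hn => h ?_, hy.1⟩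
      rw [Module.length_eq_zero_iff.2 hn]
      rfl
    · exact absurd rfl h
  · show Cyc.sheafFun δ k F x = 0
    simp only [Cyc.sheafFun, if_neg hx]


/-- The assignment F ↦ [F]_k induces an isomorphism from K_0(Coh_{≤k}(X)/Coh_{≤k−1}(X)) onto the group
Z_k(X) of k-cycles: there is an additive map ψ to coefficient functions with ψ[F] = [F]_k for every
coherent F with support of δ-dimension ≤ k, which is injective with image exactly the coefficient
functions of k-cycles. K_0 of the Serre quotient is modelled as K_0(Coh_{≤k}) modulo the classes of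
Coh_{≤k−1} (Cyc.K0CohQuot). Here a pair (X, δ) with Cyc.IsSetup plays the role of a scheme locally
of finite type over a fixed base with a dimension function (X locally Noetherian with universally
catenary local rings, δ a dimension function). -/
theorem result (X : Scheme.{u}) (δ : X → ℤ) (hX : Cyc.IsSetup X δ) (k : ℤ) : ∃ ψ : Cyc.K0CohQuot δ k (k - 1) →+ (X → ℤ), (∀ F : X.Modules, Cyc.CohLe δ k F → ψ (Cyc.toK0CohQuot δ k (k - 1) F) = Cyc.sheafFun δ k F) ∧ Function.Injective ψ ∧ Set.range ψ = {a | ∃ α : AlgebraicCycle X ℤ, α ∈ Cyc.Zk X δ k ∧ ⇑α = a} := by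
  obtain ⟨hN, -, hd⟩ := hX
  let φ : KZero.K0sub (Cyc.CohLe δ k) →+ (X → ℤ) :=
    K0Cat.liftSub (fun M => Cyc.sheafFun δ k M.1) fun S h1 h2 h3 hS =>
      Cyc26.sheafFun_shortExact hd k hS h1.1 h3.1 h2.2
  have hφ : ∀ F, Cyc.CohLe δ k F → φ (KZero.clSub (Cyc.CohLe δ k) F) = Cyc.sheafFun δ k F := fun F hF =>
    K0Cat.liftSub_clSub _ _ hF
  let ψ : Cyc.K0CohQuot δ k (k - 1) →+ (X → ℤ) := QuotientAddGroup.lift _ φ (by
    rw [AddSubgroup.closure_le]
    rintro c ⟨F, hF, rfl⟩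
    show φ _ = 0
    rw [hφ F (cohLe_mono (by omega) hF)]
    exact sheafFun_eq_zero_of_cohLe hF (by omega))
  have hψ : ∀ F, Cyc.CohLe δ k F → ψ (Cyc.toK0CohQuot δ k (k - 1) F) = Cyc.sheafFun δ k F := hφ
  have hrep : ∀ z, ∃ F F' : X.Modules, Cyc.CohLe δ k F ∧ Cyc.CohLe δ k F' ∧
      z = Cyc.toK0CohQuot δ k (k - 1) F - Cyc.toK0CohQuot δ k (k - 1) F' := by
    intro z
    induction z using QuotientAddGroup.induction_on with
    | H w =>
      obtain ⟨Z, hZ⟩ : ∃ Z : X.Modules, Cyc.CohLe δ k Z :=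
        ⟨_, (cycleSheafPos_spec hd (0 : AlgebraicCycle X ℤ) fun _ _ => rfl).1⟩
      refine K0Cat.clSub_induction (p := fun w => ∃ F F' : X.Modules, Cyc.CohLe δ k F ∧ Cyc.CohLe δ k F' ∧
        (QuotientAddGroup.mk w : Cyc.K0CohQuot δ k (k - 1)) =
          Cyc.toK0CohQuot δ k (k - 1) F - Cyc.toK0CohQuot δ k (k - 1) F') w ?_ ?_ ?_ ?_
      · exact ⟨Z, Z, hZ, hZ, by rw [sub_self, QuotientAddGroup.mk_zero]⟩
      · intro F hF
        refine ⟨F ⊞ Z, Z, cohLe_biprod hF hZ, hZ, ?_⟩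
        rw [toK0_biprod hF hZ, add_sub_cancel_right]
        rfl
      · rintro a ⟨F, F', hF, hF', e⟩
        exact ⟨F', F, hF', hF, by rw [QuotientAddGroup.mk_neg, e, neg_sub]⟩
      · rintro a b ⟨F, F', hF, hF', e⟩ ⟨E, E', hE, hE', e'⟩
        refine ⟨F ⊞ E, F' ⊞ E', cohLe_biprod hF hE, cohLe_biprod hF' hE', ?_⟩
        rw [QuotientAddGroup.mk_add, e, e', toK0_biprod hF hE, toK0_biprod hF' hE']
        abel
  refine ⟨ψ, hψ, (injective_iff_map_eq_zero ψ).2 fun z hz => ?_, Set.ext fun a => ⟨?_, ?_⟩⟩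
  · obtain ⟨F, F', hF, hF', rfl⟩ := hrep z
    rw [map_sub, hψ F hF, hψ F' hF', sub_eq_zero] at hz
    rw [(isChar_toK0 (δ := δ) le_rfl le_rfl).congr hd hF hF' hz, sub_self]
  · rintro ⟨z, rfl⟩
    obtain ⟨F, F', hF, hF', rfl⟩ := hrep z
    obtain ⟨α, hα, eα⟩ := exists_cycle hd hF
    obtain ⟨β, hβ, eβ⟩ := exists_cycle hd hF'
    refine ⟨α - β, fun x hx => ?_, ?_⟩
    · show α x - β x = 0
      rw [hα x hx, hβ x hx, sub_zero]
    · rw [map_sub, hψ F hF, hψ F' hF', ← eα, ← eβ]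
      rfl
  · rintro ⟨α, hα, rfl⟩
    refine ⟨Cyc.toK0CohQuot δ k (k - 1) (Cyc.cycleSheafPos ⇑α) - Cyc.toK0CohQuot δ k (k - 1) (Cyc.cycleSheafNeg ⇑α), ?_⟩
    rw [map_sub, hψ _ (cycleSheafPos_spec hd α hα).1, hψ _ (cycleSheafNeg_spec hd α hα).1, pos_sub_neg hd α hα]

end Groth.Agent.S1955
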