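import Groth.Statements.S17924
import Groth.Agent.S1955
import Groth.Agent.Lib.ModM1.Coh
import Groth.Agent.Lib.SyntRank2.Basic
import Groth.Agent.Lib.CurveCoh17.Integral
-- import your own Groth.Agent.* helpers here

set_option autoImplicit false
set_option backward.isDefEq.respectTransparency false
universe u
open CategoryTheory CategoryTheory.Limits AlgebraicGeometry
open RefCh

namespace Groth.Agent.S17924

/-- Let k be an algebraically closed field, X an integral normal scheme of dimension n = s + 2 admitting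
a closed immersion into some P^N_k over k, δ a dimension function on X (a pair (X, δ) as in the
setup of Chow homology, Cyc.IsSetup) normalised by δ(generic point) = n, so that δ(x) is the
dimension of the closure of x, and ℒ a coherent reflexive O_X-module of rank one (ℒ = O_X(-D) for a
Weil divisor D). Write K(X) = K_0(Coh(X)) and K_m(X) for the subgroup generated by the classes of
coherent modules whose support has dimension at most m. Then [O_X] - [ℒ] ∈ K_{n-1}(X): the classes
of O_X and ℒ agree in K_0(Coh(X)) / K_{n-1}(X) (Cyc.toK0CohQuot δ n (n - 1)); in the notation [O_D]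
= [O_X] - [O_X(-D)], the class [O_D] lies in K_{n-1}(X). -/
theorem result (k : Type u) [Field k] [IsAlgClosed k] (X : Scheme.{u}) [X.Over (Spec (CommRingCat.of k))]
    [AlgebraicGeometry.IsIntegral X] (hnorm : Pi1.IsNormalScheme X) (s : ℕ) (hdim : topologicalKrullDim X = (s + 2 : ℕ))
    (hproj : ∃ (N : ℕ) (ι : X ⟶ CohB1.ProjSpace N k), IsClosedImmersion ι ∧ ι ≫ CohB1.ProjSpace.toSpec N k = X ↘ Spec (CommRingCat.of k))
    (δ : X → ℤ) (hδ : Cyc.IsSetup X δ) (hδη : δ (genericPoint X) = (s + 2 : ℕ))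
    (ℒ : X.Modules) (hℒ : RefHull.IsRef1 ℒ) :
    Cyc.toK0CohQuot δ (s + 2 : ℕ) (s + 1 : ℕ) (Coh.structureModule X) =
      Cyc.toK0CohQuot δ (s + 2 : ℕ) (s + 1 : ℕ) ℒ := by
  haveI := hδ.1
  have h0 := S1955.result X δ hδ (s + 2 : ℕ)
  have hk : ((s + 2 : ℕ) : ℤ) - 1 = ((s + 1 : ℕ) : ℤ) := by push_cast; ring
  rw [hk] at h0
  obtain ⟨ψ, hψ, hinj, -⟩ := h0
  have hgen : ∀ x : X, x ≠ genericPoint X → δ x < (s + 2 : ℕ) := fun x hx =>
    hδη ▸ (hδ.2.2 (genericPoint X) x (genericPoint_specializes x) (Ne.symm hx)).1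
  have hle : ∀ F : X.Modules, Coh.IsCoh F → Cyc.CohLe δ (s + 2 : ℕ) F := fun F hF => ⟨hF, fun x _ => by
    rcases eq_or_ne x (genericPoint X) with rfl | hx
    · exact hδη.le
    · exact (hgen x hx).le⟩
  refine hinj ?_
  rw [hψ _ (hle _ (M1.isCoh_structureModule X)), hψ _ (hle _ hℒ.1)]
  funext x
  unfold Cyc.sheafFun
  split_ifs with hx
  · have hxη : x = genericPoint X := by
      by_contra h
      exact absurd hx (hgen x h).ne
    subst hxη
    obtain ⟨U, hU, hinv⟩ := hℒ.2.2
    have hne : (U : Set X).Nonempty := hU.nonempty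
    have hηU : genericPoint X ∈ U := ((genericPoint_spec X).mem_open_set_iff U.2).2 (by simpa using hne)
    have hrk : FlatMod.IsFinLocFreeOfRank 1 ((Scheme.Modules.restrictFunctor U.ι).obj ℒ) := fun y => by
      obtain ⟨V, hy, ⟨e⟩⟩ := hinv y
      exact ⟨V, hy, ⟨e ≪≫ (M2.freeModOneIso _).symm⟩⟩
    obtain ⟨e₁⟩ := CurveCoh17.nonempty_stalk_equiv_structureModule (genericPoint X)
    obtain ⟨e₂⟩ := SyntRank2.nonempty_stalk_equiv_of_restrict hrk hηU
    rw [e₁.length_eq, e₂.length_eq]
  · rfl

end Groth.Agent.S17924
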