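import Groth.Statements.S17917
import Groth.Agent.Lib.RefCh12.Pairing
import Groth.Agent.S17924
-- import your own Groth.Agent.* helpers here

set_option autoImplicit false
set_option linter.style.haveILetI false
set_option backward.isDefEq.respectTransparency false
set_option backward.isDefEq.respectTransparency.types false
set_option backward.isDefEq.respectTransparency false
universe u
open CategoryTheory CategoryTheory.Limits AlgebraicGeometry
open RefCh Groth.Agent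

namespace Groth.Agent.S17917

/-- Let k be an algebraically closed field, X an integral normal scheme of dimension s + 2 admitting a
closed immersion into some P^N_k over k, and L_1, …, L_s invertible O_X-modules with inverses M_1,
…, M_s. Let ℒ_1 be a coherent reflexive O_X-module of rank one (ℒ_1 = O_X(D_1) for a Weil divisor
D_1, with dual ℒ_1^∨ = O_X(-D_1)) and ℒ_2 an invertible O_X-module (a Cartier divisor D_2) with
inverse 𝓜_2. With q(ℱ) the limit of 2 χ(c_1(L_1) ⋯ c_1(L_s) · [ℱ^[m]]) / m^2 (reflexive powers,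
FGA.intNum in the M_i), assumed to exist for ℒ_1, ℒ_2 and the reflexive hull ℒ_1 ⊗̂ ℒ_2 of ℒ_1 ⊗
ℒ_2, one has (q(ℒ_1 ⊗̂ ℒ_2) - q(ℒ_1) - q(ℒ_2)) / 2 = χ(c_1(ℒ_2) c_1(L_1) ⋯ c_1(L_s) · ([O_X] -
[ℒ_1^∨])), the right side written as the difference of the alternating sums FGA.intNum in (𝓜_2, M_1,
…, M_s) of O_X and of ℒ_1^∨; that is, D_1 · D_2 · L_1 ⋯ L_s equals the usual intersection number of
the Cartier divisor D_2 and the L_i with the cycle of D_1. (The published text normalises D^2 · L_1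
⋯ L_s as twice the limit of χ(c_1(L_1) ⋯ c_1(L_s) · ([O_X] - [O_X(-mD)])) / m^2, the negative of the
number used here, and with that sign the identity fails for two lines on the projective plane, where
it would read -1 = 1.) -/
theorem result (k : Type u) [Field k] [IsAlgClosed k] (X : Scheme.{u}) [X.Over (Spec (CommRingCat.of k))]
    [AlgebraicGeometry.IsIntegral X] (hnorm : Pi1.IsNormalScheme X) (s : ℕ) (hdim : topologicalKrullDim X = (s + 2 : ℕ))
    (hproj : ∃ (N : ℕ) (ι : X ⟶ CohB1.ProjSpace N k), IsClosedImmersion ι ∧ ι ≫ CohB1.ProjSpace.toSpec N k = X ↘ Spec (CommRingCat.of k))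
    (L M : Fin s → X.Modules) (hL : ∀ i, PicF.IsInvertible (L i))
    (hLM : ∀ i, Nonempty (CohB1.tensorMod (L i) (M i) ≅ Coh.structureModule X))
    (ℒ₁ ℒ₂ 𝓜₂ : X.Modules) (h₁ : RefHull.IsRef1 ℒ₁) (h₂ : PicF.IsInvertible ℒ₂)
    (h₂' : Nonempty (CohB1.tensorMod ℒ₂ 𝓜₂ ≅ Coh.structureModule X))
    (q₁ q₂ q₁₂ : ℝ)
    (hq₁ : Filter.Tendsto (fun m : ℕ => (2 : ℝ) * (FGA.intNum k X (s + 2) M (RefPow.refPow ℒ₁ m) : ℝ) / ((m : ℝ) ^ 2)) Filter.atTop (nhds q₁))
    (hq₂ : Filter.Tendsto (fun m : ℕ => (2 : ℝ) * (FGA.intNum k X (s + 2) M (RefPow.refPow ℒ₂ m) : ℝ) / ((m : ℝ) ^ 2)) Filter.atTop (nhds q₂))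
    (hq₁₂ : Filter.Tendsto (fun m : ℕ => (2 : ℝ) * (FGA.intNum k X (s + 2) M (RefPow.refPow (RefPow.refTensor ℒ₁ ℒ₂) m) : ℝ) / ((m : ℝ) ^ 2)) Filter.atTop (nhds q₁₂)) :
    (q₁₂ - q₁ - q₂) / 2 =
      ((FGA.intNum k X (s + 2) (Fin.cons 𝓜₂ M) (Coh.structureModule X) -
        FGA.intNum k X (s + 2) (Fin.cons 𝓜₂ M) (RefHull.dual ℒ₁) : ℤ) : ℝ) := by
  classical
  obtain ⟨N, ι, hι, hιk⟩ := hproj
  haveI : IsProper (X ↘ Spec (CommRingCat.of k)) := by
    haveI := hι
    rw [← hιk]; infer_instance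
  haveI : IsLocallyNoetherian X := LocallyOfFiniteType.isLocallyNoetherian (X ↘ Spec (CommRingCat.of k))
  obtain ⟨δ, hδ, hη⟩ := RefCh12.exists_delta k (X := X) ((s + 2 : ℕ) : ℤ)
  have hd := hδ.2.2
  have hM2 : PicF.IsInvertible 𝓜₂ := M2.isInvertible_of_tensor_iso h₂ (M2.tensorComm 𝓜₂ ℒ₂ ≪≫ h₂'.some)
  have hM : ∀ i, PicF.IsInvertible (M i) := fun i =>
    M2.isInvertible_of_tensor_iso (hL i) (M2.tensorComm (M i) (L i) ≪≫ (hLM i).some)
  have hdk : topologicalKrullDim X ≤ ((s + 2 : ℕ) : WithBot ℕ∞) := hdim.le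
  have top : ∀ {F : X.Modules}, Coh.IsCoh F → Cyc.CohLe δ ((s + 2 : ℕ) : ℤ) F := fun hF =>
    ⟨hF, fun x _ => hη ▸ UCat26.delta_le_of_specializes hd (genericPoint_specializes x)⟩
  have r1 := RH26.R1.of_ref1 hnorm h₁
  have hO : Coh.IsCoh (Coh.structureModule X) := M1.isCoh_structureModule X
  have hOi : PicF.IsInvertible (Coh.structureModule X) := M2.isInvertible_tensorPow h₂ 0
  let c : X.Modules → KZero.K0sub (Cyc.CohLe δ ((s + 2 : ℕ) : ℤ)) := fun F => KZero.clSub _ F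
  let D := fun (A : X.Modules) (hA : PicF.IsInvertible A) => RefCh12.dif (δ := δ) ((s + 2 : ℕ) : ℤ) A hA
  let V := (RefCh12.chiK k hdk δ ((s + 2 : ℕ) : ℤ)).comp (RefCh12.alt ((s + 2 : ℕ) : ℤ) M hM Finset.univ)
  let x1 := c ℒ₁ - c (Coh.structureModule X)
  -- vanishing in low level
  have hV0 : ∀ {j : ℤ}, j < s → j ≤ ((s + 2 : ℕ) : ℤ) → ∀ {z : KZero.K0sub (Cyc.CohLe δ ((s + 2 : ℕ) : ℤ))},
      z ∈ RefCh12.lvl δ ((s + 2 : ℕ) : ℤ) j → V z = 0 := by
    intro j hj hj' z hz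
    have h2 := RefCh12.alt_mem hd M hM Finset.univ hj' hz
    rw [RefCh12.lvl_eq_bot hd (by omega) hη (by rw [Int.toNat_natCast]; exact hdim.le)
      (by rw [Finset.card_univ, Fintype.card_fin]; omega), AddSubgroup.mem_bot] at h2
    simp only [V, AddMonoidHom.comp_apply, h2, map_zero]
  have hx1 : x1 ∈ RefCh12.lvl δ ((s + 2 : ℕ) : ℤ) ((s + 1 : ℕ) : ℤ) := by
    have := neg_mem ((RefCh12.mk_eq_iff _ _).1 (S17924.result k X hnorm s hdim ⟨N, ι, hι, hιk⟩ δ hδ hη ℒ₁ h₁))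
    rwa [neg_sub] at this
  have hDD : ∀ (A B : X.Modules) (hA : PicF.IsInvertible A) (hB : PicF.IsInvertible B),
      V (D _ (M2.isInvertible_tensor hA hB) x1) = V (D A hA x1) + V (D B hB x1) := by
    intro A B hA hB
    have h1 := RefCh12.dif_mem hd (by omega) hB (RefCh12.dif_mem hd (by omega) hA hx1)
    simp only [D, RefCh12.dif_tensor hA hB, map_sub, map_add, hV0 (by omega) (by omega) h1, sub_zero]
  have hDpow : ∀ m : ℕ, V (D _ (M2.isInvertible_tensorPow h₂ m) x1) = (m : ℤ) * V (D ℒ₂ h₂ x1) := by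
    intro m
    induction m with
    | zero =>
      show V (RefCh12.dif _ (Coh.structureModule X) _ x1) = _
      rw [RefCh12.dif_unit]; exact (map_zero V).trans (by simp)
    | succ m ih =>
      show V (D (CohB1.tensorMod (CohB1.tensorPow ℒ₂ m) ℒ₂) (M2.isInvertible_tensor (M2.isInvertible_tensorPow h₂ m) h₂) x1) = _
      rw [hDD _ _ (M2.isInvertible_tensorPow h₂ m) h₂, ih]; push_cast; ring
  have hI : ∀ {F : X.Modules}, Coh.IsCoh F → FGA.intNum k X (s + 2) M F = V (c F) := fun hF => by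
    rw [RefCh12.intNum_eq_chiK hdk M hM (top hF)]; rfl
  -- the quadratic expression
  have hE : ∀ m : ℕ, FGA.intNum k X (s + 2) M (RefPow.refPow (RefPow.refTensor ℒ₁ ℒ₂) m) -
      FGA.intNum k X (s + 2) M (RefPow.refPow ℒ₁ m) - FGA.intNum k X (s + 2) M (RefPow.refPow ℒ₂ m) =
      -((m : ℤ) * ((m : ℤ) * V (D ℒ₂ h₂ x1))) - V (c (Coh.structureModule X)) := by
    intro m
    have hN := M2.isInvertible_tensorPow h₂ m
    have rF := r1.refPow m
    obtain ⟨e12⟩ := RefCh12.refPow_tensor_invertible hnorm h₁ h₂ m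
    obtain ⟨e2⟩ := RefCh12.refPow_invertible hnorm h₂ m
    have t12 := RefCh12.cohLe_tensor hN (top rF.coh)
    have tN := RefCh12.cohLe_iso (M2.tensorLUnit (CohB1.tensorPow ℒ₂ m)) (RefCh12.cohLe_tensor hN (top hO))
    rw [hI (RefCh12.cohLe_iso e12.symm t12).1, hI rF.coh, hI (RefCh12.cohLe_iso e2.symm tN).1]
    simp only [c]
    rw [← RefCh12.clSub_iso e12.symm t12, ← RefCh12.clSub_iso e2.symm tN,
      ← RefCh12.clSub_iso (M2.tensorLUnit (CohB1.tensorPow ℒ₂ m)) (RefCh12.cohLe_tensor hN (top hO)),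
      ← RefCh12.tw_clSub hN (top rF.coh), ← RefCh12.tw_clSub hN (top hO)]
    have he := RefCh12.refPow_linear hnorm s hdim ⟨N, ι, hι, hιk⟩ hδ hη h₁ m
    have h3 := hV0 (j := (s : ℤ) - 1) (by omega) (by omega) (RefCh12.dif_mem hd (by omega) hN he)
    have h4 := hDpow m
    simp only [D, RefCh12.dif, AddMonoidHom.sub_apply, AddMonoidHom.id_apply, map_sub, map_zsmul, smul_eq_mul, x1, c] at h3 h4 ⊢
    linear_combination -h3 - (m : ℤ) * h4
  have hR : FGA.intNum k X (s + 2) (Fin.cons 𝓜₂ M) (Coh.structureModule X) -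
      FGA.intNum k X (s + 2) (Fin.cons 𝓜₂ M) (RefHull.dual ℒ₁) = -V (D ℒ₂ h₂ x1) := by
    have hcI : ∀ i, PicF.IsInvertible ((Fin.cons 𝓜₂ M : Fin (s + 1) → X.Modules) i) := fun i => by
      rcases Fin.eq_zero_or_eq_succ i with rfl | ⟨j, rfl⟩
      · simpa using hM2
      · simpa using hM j
    rw [RefCh12.intNum_eq_chiK hdk _ hcI (top hO), RefCh12.intNum_eq_chiK hdk _ hcI (top r1.dual.coh),
      RefCh12.alt_cons hM2 M hM hcI]
    show V (D 𝓜₂ hM2 (c (Coh.structureModule X))) - V (D 𝓜₂ hM2 (c (RefHull.dual ℒ₁))) = _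
    obtain ⟨e0⟩ := r1.dual_tensorHull
    have h0 := S17932.result k X hnorm s hdim ⟨N, ι, hι, hιk⟩ δ hδ hη _ ℒ₁ r1.dual.isRef1 h₁
    simp only [Cyc.toK0CohQuot, ← QuotientAddGroup.mk_add] at h0
    rw [QuotientAddGroup.eq_iff_sub_mem] at h0
    have hiso : c (RefPow.refTensor (RefHull.dual ℒ₁) ℒ₁) = c (Coh.structureModule X) :=
      RefCh12.clSub_iso e0 (RefCh12.cohLe_iso e0.symm (top hO))
    simp only [c] at hiso
    rw [hiso] at h0
    have h1 := hV0 (j := (s : ℤ) - 1) (by omega) (by omega) (RefCh12.dif_mem hd (by omega) hM2 (j := (s : ℤ)) h0)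
    have h2 := hDD ℒ₂ 𝓜₂ h₂ hM2
    simp only [D] at h2
    rw [RefCh12.dif_congr (M2.isInvertible_tensor h₂ hM2) hOi h₂', RefCh12.dif_unit] at h2
    simp only [D, x1, c, map_sub, map_add, AddMonoidHom.zero_apply, map_zero] at h1 h2 ⊢
    linear_combination h1 - h2
  rw [hR]
  have h := (hq₁₂.sub hq₁).sub hq₂
  have h0 := ((RefCh12.tendsto_linear_div_sq (((-V (c (Coh.structureModule X))) : ℤ) : ℝ) 0).const_mul 2).const_add
    (-(2 * ((V (D ℒ₂ h₂ x1) : ℤ) : ℝ)))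
  have key := tendsto_nhds_unique h (h0.congr' ?_)
  · push_cast at key ⊢
    linarith
  · filter_upwards [Filter.eventually_ne_atTop 0] with m hm
    have hm' : (m : ℝ) ≠ 0 := by exact_mod_cast hm
    have := congrArg (fun z : ℤ => (z : ℝ)) (hE m)
    push_cast at this ⊢
    field_simp
    linear_combination -this

end Groth.Agent.S17917
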