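import Groth.Statements.S17918
import Groth.Agent.Lib.RefCh12.Pairing
-- import your own Groth.Agent.* helpers here

set_option autoImplicit false
set_option linter.style.haveILetI false
set_option backward.isDefEq.respectTransparency false
set_option backward.isDefEq.respectTransparency.types false
set_option backward.isDefEq.respectTransparency false
universe u
open CategoryTheory CategoryTheory.Limits AlgebraicGeometry
open RefCh Groth.Agent

namespace Groth.Agent.S17918

/-- Let k be an algebraically closed field, X an integral normal scheme of dimension s + 3 admitting a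
closed immersion into some P^N_k over k, L_1, …, L_s, A and B invertible O_X-modules with inverses
M_1, …, M_s, A' and B' (so that A' ⊗ B' is an inverse of A ⊗ B), and ℒ a coherent reflexive
O_X-module of rank one (ℒ = O_X(D)). Suppose 2 χ(c_1(A) c_1(L_1) ⋯ c_1(L_s) · [ℒ^[m]]) / m^2 → a, 2
χ(c_1(B) c_1(L_1) ⋯ c_1(L_s) · [ℒ^[m]]) / m^2 → b and 2 χ(c_1(A ⊗ B) c_1(L_1) ⋯ c_1(L_s) · [ℒ^[m]])
/ m^2 → c as m → ∞, the Euler characteristics being the alternating sums FGA.intNum in (A', M_1, …,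
M_s), (B', M_1, …, M_s) and (A' ⊗ B', M_1, …, M_s) of the reflexive powers ℒ^[m]. Then c = a + b:
the self-intersection number D^2 · L_0 · L_1 ⋯ L_s is additive in the invertible module L_0. -/
theorem result (k : Type u) [Field k] [IsAlgClosed k] (X : Scheme.{u}) [X.Over (Spec (CommRingCat.of k))]
    [AlgebraicGeometry.IsIntegral X] (hnorm : Pi1.IsNormalScheme X) (s : ℕ) (hdim : topologicalKrullDim X = (s + 3 : ℕ))
    (hproj : ∃ (N : ℕ) (ι : X ⟶ CohB1.ProjSpace N k), IsClosedImmersion ι ∧ ι ≫ CohB1.ProjSpace.toSpec N k = X ↘ Spec (CommRingCat.of k))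
    (L M : Fin s → X.Modules) (hL : ∀ i, PicF.IsInvertible (L i))
    (hLM : ∀ i, Nonempty (CohB1.tensorMod (L i) (M i) ≅ Coh.structureModule X))
    (A A' B B' : X.Modules) (hA : PicF.IsInvertible A) (hB : PicF.IsInvertible B)
    (hAA' : Nonempty (CohB1.tensorMod A A' ≅ Coh.structureModule X))
    (hBB' : Nonempty (CohB1.tensorMod B B' ≅ Coh.structureModule X))
    (ℒ : X.Modules) (hℒ : RefHull.IsRef1 ℒ) (a b c : ℝ)
    (ha : Filter.Tendsto (fun m : ℕ => (2 : ℝ) * (FGA.intNum k X (s + 3) (Fin.cons A' M) (RefPow.refPow ℒ m) : ℝ) / ((m : ℝ) ^ 2)) Filter.atTop (nhds a))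
    (hb : Filter.Tendsto (fun m : ℕ => (2 : ℝ) * (FGA.intNum k X (s + 3) (Fin.cons B' M) (RefPow.refPow ℒ m) : ℝ) / ((m : ℝ) ^ 2)) Filter.atTop (nhds b))
    (hc : Filter.Tendsto (fun m : ℕ => (2 : ℝ) * (FGA.intNum k X (s + 3) (Fin.cons (CohB1.tensorMod A' B') M) (RefPow.refPow ℒ m) : ℝ) / ((m : ℝ) ^ 2)) Filter.atTop (nhds c)) :
    c = a + b := by
  classical
  obtain ⟨N, ι, hι, hιk⟩ := hproj
  haveI : IsProper (X ↘ Spec (CommRingCat.of k)) := by
    haveI := hι
    rw [← hιk]; infer_instance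
  haveI : IsLocallyNoetherian X := LocallyOfFiniteType.isLocallyNoetherian (X ↘ Spec (CommRingCat.of k))
  obtain ⟨δ, hδ, hη⟩ := RefCh12.exists_delta k (X := X) ((s + 1 + 2 : ℕ) : ℤ)
  have hd := hδ.2.2
  have hA' : PicF.IsInvertible A' := M2.isInvertible_of_tensor_iso hA (M2.tensorComm A' A ≪≫ hAA'.some)
  have hB' : PicF.IsInvertible B' := M2.isInvertible_of_tensor_iso hB (M2.tensorComm B' B ≪≫ hBB'.some)
  have hM : ∀ i, PicF.IsInvertible (M i) := fun i =>
    M2.isInvertible_of_tensor_iso (hL i) (M2.tensorComm (M i) (L i) ≪≫ (hLM i).some)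
  have hdk : topologicalKrullDim X ≤ ((s + 3 : ℕ) : WithBot ℕ∞) := hdim.le
  have top : ∀ {F : X.Modules}, Coh.IsCoh F → Cyc.CohLe δ ((s + 1 + 2 : ℕ) : ℤ) F := fun hF =>
    ⟨hF, fun x _ => hη ▸ UCat26.delta_le_of_specializes hd (genericPoint_specializes x)⟩
  have rL := RH26.R1.of_ref1 hnorm hℒ
  let c : X.Modules → KZero.K0sub (Cyc.CohLe δ ((s + 1 + 2 : ℕ) : ℤ)) := fun F => KZero.clSub _ F
  let al := RefCh12.alt (δ := δ) ((s + 1 + 2 : ℕ) : ℤ) M hM Finset.univ
  let χ := RefCh12.chiK k hdk δ ((s + 1 + 2 : ℕ) : ℤ)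
  have hI : ∀ (C : X.Modules) (hC : PicF.IsInvertible C) (m : ℕ),
      FGA.intNum k X (s + 3) (Fin.cons C M) (RefPow.refPow ℒ m) =
        χ (al (RefCh12.dif _ C hC (c (RefPow.refPow ℒ m)))) := by
    intro C hC m
    have hcI : ∀ i, PicF.IsInvertible ((Fin.cons C M : Fin (s + 1) → X.Modules) i) := fun i => by
      rcases Fin.eq_zero_or_eq_succ i with rfl | ⟨j, rfl⟩
      · simpa using hC
      · simpa using hM j
    rw [RefCh12.intNum_eq_chiK hdk _ hcI (top (rL.refPow m).coh), RefCh12.alt_cons hC M hM hcI]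
    rfl
  let P := fun z => χ (al (RefCh12.dif _ B' hB' (RefCh12.dif _ A' hA' z)))
  have hlin : ∀ m : ℕ, FGA.intNum k X (s + 3) (Fin.cons (CohB1.tensorMod A' B') M) (RefPow.refPow ℒ m) -
      FGA.intNum k X (s + 3) (Fin.cons A' M) (RefPow.refPow ℒ m) -
      FGA.intNum k X (s + 3) (Fin.cons B' M) (RefPow.refPow ℒ m) =
      -P (c (Coh.structureModule X)) + (m : ℤ) * -P (c ℒ - c (Coh.structureModule X)) := by
    intro m
    have he := RefCh12.refPow_linear hnorm (s + 1) hdim ⟨N, ι, hι, hιk⟩ hδ hη hℒ m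
    have h1 := RefCh12.dif_mem hd (by omega) hB' (RefCh12.dif_mem hd (by omega) hA' he)
    have h2 := RefCh12.alt_mem hd M hM Finset.univ (by omega) h1
    rw [RefCh12.lvl_eq_bot hd (by omega) hη (by rw [Int.toNat_natCast]; exact hdim.le)
      (by rw [Finset.card_univ, Fintype.card_fin]; omega), AddSubgroup.mem_bot] at h2
    have h3 := congrArg χ h2
    rw [map_zero] at h3
    simp only [map_sub, map_zsmul, smul_eq_mul] at h3
    rw [hI _ (M2.isInvertible_tensor hA' hB'), hI _ hA', hI _ hB', RefCh12.dif_tensor hA' hB']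
    simp only [P, c, al, map_add, map_sub]
    linear_combination -h3
  have h := (hc.sub ha).sub hb
  have h0 := (RefCh12.tendsto_linear_div_sq (((-P (c (Coh.structureModule X))) : ℤ) : ℝ)
    (((-P (c ℒ - c (Coh.structureModule X))) : ℤ) : ℝ)).const_mul 2
  have key := tendsto_nhds_unique h (h0.congr' (Filter.Eventually.of_forall fun m => ?_))
  · linarith
  · have := congrArg (fun z : ℤ => (z : ℝ)) (hlin m)
    push_cast at this ⊢
    rw [← sub_div, ← sub_div, mul_div_assoc']
    congr 1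
    linear_combination -(2 : ℝ) * this

end Groth.Agent.S17918
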