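import Groth.Statements.S17925
import Groth.Agent.Lib.RefCh12.DetClass
import Groth.Agent.Lib.CMReg18.Proj
import Groth.Agent.Lib.RelAmple18.Ops
import Groth.Agent.Lib.CohFound.ProjQuot
-- import your own Groth.Agent.* helpers here

set_option autoImplicit false
set_option backward.isDefEq.respectTransparency false
set_option backward.isDefEq.respectTransparency.types false
set_option maxHeartbeats 1000000
universe u
open CategoryTheory CategoryTheory.Limits AlgebraicGeometry
open RefCh Groth.Agent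

namespace Groth.Agent.S17925

/-- Let k be an algebraically closed field, X an integral normal scheme of dimension n = s + 2 admitting
a closed immersion into some P^N_k over k, δ a dimension function on X (Cyc.IsSetup) with δ(generic
point) = n, and F a torsion-free coherent O_X-module whose stalk at the generic point has dimension
r, with W = Λ^r F and W^** coherent (as it is), so that det F = W^** = O_X(c_1(F)) and [O_{-c_1(F)}]
= [O_X] - [W^**]. With K_m(X) ⊆ K_0(Coh(X)) the subgroup generated by coherent modules with support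
of dimension at most m, the class α(F) = [F] - r [O_X] + ([O_X] - [W^**]) lies in K_{n-2}(X): it
vanishes in K_0(Coh(X)) / K_{n-2}(X) (Cyc.toK0CohQuot δ n (n - 2)). -/
theorem result (k : Type u) [Field k] [IsAlgClosed k] (X : Scheme.{u}) [X.Over (Spec (CommRingCat.of k))]
    [AlgebraicGeometry.IsIntegral X] (hnorm : Pi1.IsNormalScheme X) (s : ℕ) (hdim : topologicalKrullDim X = (s + 2 : ℕ))
    (hproj : ∃ (N : ℕ) (ι : X ⟶ CohB1.ProjSpace N k), IsClosedImmersion ι ∧ ι ≫ CohB1.ProjSpace.toSpec N k = X ↘ Spec (CommRingCat.of k))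
    (δ : X → ℤ) (hδ : Cyc.IsSetup X δ) (hδη : δ (genericPoint X) = (s + 2 : ℕ))
    (r : ℕ) (F : X.Modules) (hF : Coh.IsCoh F) (hFtf : TorSh.IsTorsionFree F)
    (hrk : Module.finrank (X.presheaf.stalk (genericPoint X)) (F.presheaf.stalk (genericPoint X)) = r) (W : X.Modules) (hW : ExtPow.IsExtPow r F W)
    (hWc : Coh.IsCoh (RefHull.ddual W)) :
    Cyc.toK0CohQuot δ (s + 2 : ℕ) (s : ℕ) F - (r : ℤ) • Cyc.toK0CohQuot δ (s + 2 : ℕ) (s : ℕ) (Coh.structureModule X) +
      (Cyc.toK0CohQuot δ (s + 2 : ℕ) (s : ℕ) (Coh.structureModule X) -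
        Cyc.toK0CohQuot δ (s + 2 : ℕ) (s : ℕ) (RefHull.ddual W)) = 0 := by
  classical
  haveI := hδ.1
  have hd := hδ.2.2
  obtain ⟨N, ι, hι, hιk⟩ := hproj
  haveI := hι
  haveI := (CMReg18.isAmple_twistOne k (n := N)).2.1
  let H := (Scheme.Modules.pullback ι).obj (Twist.twistProjSpace N k 1)
  have hH : CohB1.IsAmple H := RA.isAmple_pullback_of_quasiAffine ι (fun V hV => by
    haveI : IsAffine (ι ⁻¹ᵁ V : Scheme.{u}) := hV.preimage ι
    infer_instance) (CMReg18.isAmple_twistOne k)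
  have hFT := M1.isFP_isFT (M1.isFP_of_isCoh hF)
  obtain ⟨φ, hφ⟩ := ExtFil4.exists_phi hW
  have hWq : Coh.IsQCoh W := Wedge2.isQCoh_of_isExtPow hF.1 hW
  haveI := hWq
  have hWcoh : Coh.IsCoh W := ⟨hWq, M1.isFT_of_finite_sections hWq fun U hU => by
    haveI := M1.finite_sections hF.1 hFT hU
    exact Module.Finite.equiv (φ ⟨U, hU⟩).symm⟩
  -- the generic basis
  haveI : Module.IsTorsionFree (X.presheaf.stalk (genericPoint X)) (F.presheaf.stalk (genericPoint X)) := hFtf _
  haveI : IsPrincipalIdealRing (X.presheaf.stalk (genericPoint X)) :=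
    RH26.isPrincipalIdealRing_stalk hnorm (by rw [ringKrullDim_eq_zero_of_isField RH26.isField_η]; exact zero_le_one)
  obtain ⟨-, b, -⟩ := RefCh12.exists_basis_sp hF.1 hFT (x := genericPoint X) hrk
  obtain ⟨U₀, hη₀, e₀, he₀⟩ := RefCh12.exists_affine_sections (F := F) (fun i => b i)
  have gω := RefCh12.gen_wg_generic hφ hη₀ e₀ b (fun i => (he₀ i).symm)
  let w₀ := RefCh12.wg φ U₀ hη₀ e₀
  let L := RefHull.ddual W
  have rL : RH26.R1 L := RH26.R1.ddual hnorm hWcoh ⟨_, gω⟩
  let ω₀ := CurveCoh17.stalkLin (RefHull.bidualMap W) _ w₀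
  have gω₀ : Amp.Gen ω₀ := RH26.gen_bidual hWcoh gω
  have hO : Coh.IsCoh (Coh.structureModule X) := M1.isCoh_structureModule X
  -- twisted maps
  let Fam : Fin r ⊕ Bool → X.Modules := Sum.elim (fun _ => F) fun t => cond t L (Coh.structureModule X)
  let el : ∀ i : Fin r ⊕ Bool, (Fam i).presheaf.stalk (genericPoint X) := fun
    | Sum.inl i => b i
    | Sum.inr true => ω₀
    | Sum.inr false => RefCh12.oneAt X (genericPoint X)
  obtain ⟨M, hM, p, hp, hf⟩ := RefCh12.exists_twisted hH Fam (fun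
    | Sum.inl _ => hF.1
    | Sum.inr true => rL.coh.1
    | Sum.inr false => hO.1) el
  have hfF : ∀ i, ∃ f : Coh.structureModule X ⟶ CohB1.tensorMod F M,
      CurveCoh17.stalkLin f _ (RefCh12.oneAt X (genericPoint X)) = Cyc26.tstalk F M _ (b i) p := fun i => hf (Sum.inl i)
  choose fm hfm using hfF
  obtain ⟨mb, hmb⟩ : ∃ f : Coh.structureModule X ⟶ CohB1.tensorMod L M,
      CurveCoh17.stalkLin f _ (RefCh12.oneAt X (genericPoint X)) = Cyc26.tstalk L M _ ω₀ p := hf (Sum.inr true)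
  obtain ⟨ma, hma⟩ : ∃ f : Coh.structureModule X ⟶ CohB1.tensorMod (Coh.structureModule X) M,
      CurveCoh17.stalkLin f _ (RefCh12.oneAt X (genericPoint X)) =
        Cyc26.tstalk (Coh.structureModule X) M _ (RefCh12.oneAt X (genericPoint X)) p := hf (Sum.inr false)
  let O := Coh.structureModule X
  let ψ : (⨁ fun _ : Fin r => O) ⟶ CohB1.tensorMod F M := biproduct.desc fm
  have hψ : ∀ (x : X) (S : (Fin r → O.presheaf.stalk x) ≃ₗ[X.presheaf.stalk x] (⨁ fun _ : Fin r => O).presheaf.stalk x),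
      (∀ c, S c = ∑ i, CurveCoh17.stalkLin (biproduct.ι (fun _ : Fin r => O) i) x (c i)) → ∀ c : Fin r → X.presheaf.stalk x,
      CurveCoh17.stalkLin ψ x (S fun i => c i • RefCh12.oneAt X x) =
        ∑ i, c i • CurveCoh17.stalkLin (fm i) x (RefCh12.oneAt X x) := fun x S hS c => by
    rw [hS, map_sum]
    refine Finset.sum_congr rfl fun i _ => ?_
    rw [← CurveCoh17.stalkLin_comp, biproduct.ι_desc, map_smul]
  let coord : ∀ x : X, (Fin r → X.presheaf.stalk x) ≃ₗ[X.presheaf.stalk x] (Fin r → O.presheaf.stalk x) := fun x =>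
    LinearEquiv.piCongrRight fun _ => RH26.genEquiv (RefCh12.gen_oneAt x)
  -- at the generic point
  have hψη : Function.Bijective (CurveCoh17.stalkLin ψ (genericPoint X)) := by
    obtain ⟨S, hS⟩ := RefCh12.exists_stalk_biproduct (fun _ : Fin r => O) (genericPoint X)
    let E := (b.equivFun.symm).trans (RefCh12.twEquiv F hp)
    have h1 : ∀ c, CurveCoh17.stalkLin ψ _ (S (coord _ c)) = E c := fun c => by
      refine (hψ _ S hS c).trans ?_
      simp only [E, LinearEquiv.trans_apply, Module.Basis.equivFun_symm_apply, map_sum, map_smul, RefCh12.twEquiv_apply]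
      exact Finset.sum_congr rfl fun i _ => congrArg _ (hfm i)
    have h2 : ⇑(CurveCoh17.stalkLin ψ (genericPoint X)) = fun v => E ((coord _).symm (S.symm v)) := funext fun v => by
      rw [← h1, LinearEquiv.apply_symm_apply, LinearEquiv.apply_symm_apply]
    rw [h2]
    exact E.bijective.comp ((coord _).symm.bijective.comp S.symm.bijective)
  have g1 := RefCh12.gen_oneAt (X := X) (genericPoint X)
  have gOp := RH26.gen_tstalk' g1 hp
  have gLp := RH26.gen_tstalk' gω₀ hp
  have hne : ∀ {G : X.Modules} {g : G.presheaf.stalk (genericPoint X)}, Amp.Gen g → g ≠ 0 := fun {G g} hg h0 =>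
    zero_ne_one (α := X.presheaf.stalk (genericPoint X)) (hg.1 (by
      show (0 : X.presheaf.stalk (genericPoint X)) • g = (1 : X.presheaf.stalk (genericPoint X)) • g
      rw [h0, smul_zero, smul_zero]))
  have hmaη := RefCh12.bijective_generic ma g1 gOp (hma ▸ hne gOp)
  have hmbη := RefCh12.bijective_generic mb g1 gLp (hmb ▸ hne gLp)
  have hk1 : ((s + 2 : ℕ) : ℤ) = ((s : ℤ) + 1) + 1 := by push_cast; ring
  have hη : δ (genericPoint X) = ((s : ℤ) + 1) + 1 := hδη.trans hk1
  -- codimension one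
  have loc : ∀ x, δ x = (s : ℤ) + 1 →
      Function.Injective (CurveCoh17.stalkLin ψ x) ∧ Function.Injective (CurveCoh17.stalkLin ma x) ∧
      Function.Injective (CurveCoh17.stalkLin mb x) ∧
      Module.length (X.presheaf.stalk x) ((cokernel ψ).presheaf.stalk x) +
          Module.length (X.presheaf.stalk x) ((cokernel ma).presheaf.stalk x) =
        Module.length (X.presheaf.stalk x) ((cokernel mb).presheaf.stalk x) +
          r • Module.length (X.presheaf.stalk x) ((cokernel ma).presheaf.stalk x) := by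
    intro x hx
    haveI := (hnorm x).1
    have hc1 : Order.coheight x = 1 := RefCh12.coheight_eq_one hd hη (by omega)
    haveI := RH26.isPrincipalIdealRing_stalk hnorm ((RH26.dim_eq_one_iff x).2 hc1).le
    haveI : Module.IsTorsionFree (X.presheaf.stalk x) (F.presheaf.stalk x) := hFtf x
    obtain ⟨e, bx, hbx⟩ := RefCh12.exists_basis_sp hF.1 hFT (x := x) hrk
    obtain ⟨U, hxU, t, ht⟩ := RefCh12.exists_affine_sections (F := F) (fun i => e i)
    obtain ⟨gwx, hwsp⟩ := RefCh12.gen_wg hφ hxU t (fun v => ⟨fun i => e.repr v i, by simp only [ht, e.sum_repr]⟩) bx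
      (fun i => (hbx i).trans (by rw [ht i]))
    have gωx := RH26.gen_bidual hWcoh gwx
    obtain ⟨m, hm⟩ := Cyc26.exists_gen hM x
    have hmη := RH26.gen_sp (RH26.injective_sp_of_isReflexiveAt (Snapper.isCoh_of_isInvertible hM)
      (RH26.isReflexiveAt_of_gen hm)) hp hm
    obtain ⟨ν, hν⟩ := hmη.2 p
    simp only at hν
    have hν0 : ν ≠ 0 := fun h => hne hp (by rw [← hν, h, zero_smul])
    obtain ⟨νi, hνi⟩ := (RH26.isField_η (X := X)).mul_inv_cancel hν0
    have gLx := RH26.gen_tstalk' gωx hm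
    have gOx := RH26.gen_tstalk' (RefCh12.gen_oneAt x) hm
    obtain ⟨α, hα⟩ := gOx.2 (CurveCoh17.stalkLin ma x (RefCh12.oneAt X x))
    obtain ⟨β, hβ⟩ := gLx.2 (CurveCoh17.stalkLin mb x (RefCh12.oneAt X x))
    simp only at hα hβ
    have sp1 : ∀ {G : X.Modules} (g : O ⟶ G),
        G.presheaf.stalkSpecializes (RH26.gsp x) (CurveCoh17.stalkLin g x (RefCh12.oneAt X x)) =
          CurveCoh17.stalkLin g _ (RefCh12.oneAt X (genericPoint X)) := fun {G} g => by
      rw [← RefCh12.oneAt_sp (RH26.gsp x)]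
      exact RH26.stalkMapₗ_stalkSpecializes g (RH26.gsp x) _
    have hαν : X.presheaf.stalkSpecializes (RH26.gsp x) α = ν := by
      have h := congrArg ((CohB1.tensorMod O M).presheaf.stalkSpecializes (RH26.gsp x)) hα
      rw [Cyc26.stalkSpecializes_smul, Cyc26.tstalk_stalkSpecializes, RefCh12.oneAt_sp, sp1 ma, hma] at h
      refine (RH26.gen_tstalk' g1 hmη).1 (h.trans ?_)
      show Cyc26.tstalk O M _ (RefCh12.oneAt X (genericPoint X)) p = _
      rw [← hν, ← one_smul (X.presheaf.stalk (genericPoint X)) (RefCh12.oneAt X (genericPoint X)), Cyc26.tstalk_smul]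
      simp only [one_mul, one_smul]
      rfl
    let A : Matrix (Fin r) (Fin r) (X.presheaf.stalk x) := fun i j =>
      e.repr ((RefCh12.twEquiv F hm).symm (CurveCoh17.stalkLin (fm i) x (RefCh12.oneAt X x))) j
    have hA : ∀ i, CurveCoh17.stalkLin (fm i) x (RefCh12.oneAt X x) = RefCh12.twEquiv F hm (∑ j, A i j • e j) := fun i => by
      simp only [A, e.sum_repr, LinearEquiv.apply_symm_apply]
    have hrow : ∀ i, b i = ∑ j, (νi * X.presheaf.stalkSpecializes (RH26.gsp x) (A i j)) • bx j := by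
      intro i
      have h := congrArg ((CohB1.tensorMod F M).presheaf.stalkSpecializes (RH26.gsp x)) (hA i)
      rw [RefCh12.twEquiv_apply, Cyc26.tstalk_stalkSpecializes, sp1 (fm i), hfm, map_sum,
        ← RefCh12.twEquiv_apply F hmη] at h
      have h' : (RefCh12.twEquiv F hmη) (ν • b i) =
          RefCh12.twEquiv F hmη (∑ j, F.presheaf.stalkSpecializes (RH26.gsp x) (A i j • e j)) := by
        rw [← h, RefCh12.twEquiv_apply]
        show Cyc26.tstalk F M _ (ν • b i) _ = Cyc26.tstalk F M _ (b i) p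
        rw [← one_smul (X.presheaf.stalk (genericPoint X)) (M.presheaf.stalkSpecializes (RH26.gsp x) m), Cyc26.tstalk_smul,
          ← hν, ← one_smul (X.presheaf.stalk (genericPoint X)) (b i), Cyc26.tstalk_smul]
        simp only [one_smul, one_mul, mul_one]
      have h2 := (RefCh12.twEquiv F hmη).injective h'
      rw [← one_smul (X.presheaf.stalk (genericPoint X)) (b i), ← hνi, mul_comm, mul_smul, h2, Finset.smul_sum]
      refine Finset.sum_congr rfl fun j _ => ?_
      rw [Cyc26.stalkSpecializes_smul, ← hbx, mul_smul]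
    let A' : Matrix (Fin r) (Fin r) (X.presheaf.stalk (genericPoint X)) :=
      νi • A.map (X.presheaf.stalkSpecializes (RH26.gsp x)).hom
    have hwd : w₀ = A'.det • RefCh12.wg φ U (RH26.mem_of_genericPoint U.1 hxU) t := by
      refine RefCh12.wg_det hφ hη₀ _ e₀ t A' fun i => ?_
      rw [he₀, hrow]
      refine Finset.sum_congr rfl fun j _ => ?_
      rw [hbx, ← ht j, TopCat.Presheaf.germ_stalkSpecializes_apply]
      rfl
    have hdet : A'.det = νi ^ r * X.presheaf.stalkSpecializes (RH26.gsp x) A.det := by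
      simp only [A', Matrix.det_smul, Fintype.card_fin]
      congr 1
      exact (RingHom.map_det _ A).symm
    have hβν : X.presheaf.stalkSpecializes (RH26.gsp x) β = ν * A'.det := by
      have h := congrArg ((CohB1.tensorMod L M).presheaf.stalkSpecializes (RH26.gsp x)) hβ
      rw [Cyc26.stalkSpecializes_smul, Cyc26.tstalk_stalkSpecializes, sp1 mb, hmb] at h
      have hωsp : L.presheaf.stalkSpecializes (RH26.gsp x) (RefHull.stalkMapₗ (RefHull.bidualMap W) x (RefCh12.wg φ U hxU t)) =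
          RefHull.stalkMapₗ (RefHull.bidualMap W) _ (RefCh12.wg φ U (RH26.mem_of_genericPoint U.1 hxU) t) := by
        rw [RH26.stalkMapₗ_stalkSpecializes, hwsp]
      rw [hωsp] at h
      have gη : Amp.Gen (RefHull.stalkMapₗ (RefHull.bidualMap W) (genericPoint X)
          (RefCh12.wg φ U (RH26.mem_of_genericPoint U.1 hxU) t)) := RH26.gen_bidual hWcoh
        (RefCh12.gen_wg_generic hφ _ t bx fun i => (hbx i).trans (by
          rw [← ht i, TopCat.Presheaf.germ_stalkSpecializes_apply]))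
      refine (RH26.gen_tstalk' gη hmη).1 (h.trans ?_)
      show Cyc26.tstalk L M _ (RefHull.stalkMapₗ (RefHull.bidualMap W) _ w₀) p = _
      rw [← hν, hwd, map_smul, Cyc26.tstalk_smul, mul_comm]
    have hαr : α ^ r * β = α * A.det := by
      refine RH26.sp_injective x ?_
      rw [map_mul, map_mul, map_pow, hαν, hβν, hdet]
      calc ν ^ r * (ν * (νi ^ r * X.presheaf.stalkSpecializes (RH26.gsp x) A.det))
          = (ν * νi) ^ r * (ν * X.presheaf.stalkSpecializes (RH26.gsp x) A.det) := by rw [mul_pow]; ring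
        _ = _ := by rw [hνi, one_pow, one_mul]
    have hα0 : α ≠ 0 := fun h => hν0 (by rw [← hαν, h, map_zero])
    have hdet0 : A.det ≠ 0 := fun h => by
      refine hne gω ?_
      show w₀ = 0
      rw [hwd, hdet, h, map_zero, mul_zero, zero_smul]
    have hβ0 : β ≠ 0 := fun h => mul_ne_zero hα0 hdet0 (by rw [← hαr, h, mul_zero])
    obtain ⟨S, hS⟩ := RefCh12.exists_stalk_biproduct (fun _ : Fin r => O) x
    obtain ⟨iψ, lψ⟩ := RefCh12.coker_matrix ψ A.transpose (by rwa [Matrix.det_transpose])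
      ((coord x).trans S) (e.equivFun.symm.trans (RefCh12.twEquiv F hm)) fun c => by
        refine (hψ x S hS c).trans ?_
        simp only [hA, LinearEquiv.trans_apply, Module.Basis.equivFun_symm_apply, map_sum, Lattice26.mulAct_apply,
          Matrix.transpose_apply, Finset.sum_smul, map_smul, Finset.smul_sum, smul_eq_mul, mul_smul]
        rw [Finset.sum_comm]
        exact Finset.sum_congr rfl fun j _ => Finset.sum_congr rfl fun i _ => smul_comm _ _ _
    obtain ⟨ea⟩ := RefCh12.nonempty_coker_equiv ma (RefCh12.gen_oneAt x) gOx hα.symm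
    obtain ⟨eb⟩ := RefCh12.nonempty_coker_equiv mb (RefCh12.gen_oneAt x) gLx hβ.symm
    refine ⟨iψ, RefCh12.injective_of_gen ma (RefCh12.gen_oneAt x) gOx hα0 hα.symm,
      RefCh12.injective_of_gen mb (RefCh12.gen_oneAt x) gLx hβ0 hβ.symm, ?_⟩
    rw [lψ, Matrix.det_transpose, ← ea.length_eq, ← eb.length_eq]
    show Ring.ord _ A.det + Ring.ord _ α = Ring.ord _ β + r • Ring.ord _ α
    rw [← Ring.ord_mul _ (mem_nonZeroDivisors_of_ne_zero hα0), mul_comm, ← hαr,
      Ring.ord_mul _ (mem_nonZeroDivisors_of_ne_zero hβ0), Ring.ord_pow (mem_nonZeroDivisors_of_ne_zero hα0), add_comm]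
  -- classes
  have hW0 : Cyc.CohLe δ ((s : ℤ) + 1 + 1) O := ⟨hO, fun x _ => by
    rcases eq_or_ne x (genericPoint X) with rfl | h
    · exact hη.le
    · exact hη ▸ (hd _ x (genericPoint_specializes x) (Ne.symm h)).1.le⟩
  obtain ⟨hWr, eWr⟩ := RefCh12.biproduct_spec (δ := δ) le_rfl hW0 r
  obtain ⟨lψ, eψ⟩ := RefCh12.class_eq hd hη ψ hWr.1 (CohFound.isCoh_tensor hF (Snapper.isCoh_of_isInvertible hM)) hψη
    fun x hx => (loc x hx).1
  obtain ⟨la, ea⟩ := RefCh12.class_eq hd hη ma hO (CohFound.isCoh_tensor hO (Snapper.isCoh_of_isInvertible hM)) hmaη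
    fun x hx => (loc x hx).2.1
  obtain ⟨lb, eb⟩ := RefCh12.class_eq hd hη mb hO (CohFound.isCoh_tensor rL.coh (Snapper.isCoh_of_isInvertible hM)) hmbη
    fun x hx => (loc x hx).2.2.1
  obtain ⟨lr, er⟩ := RefCh12.biproduct_spec (δ := δ) (show (s : ℤ) + 1 ≤ (s : ℤ) + 1 + 1 by omega) la r
  have key : Cyc.toK0CohQuot δ ((s : ℤ) + 1 + 1) ((s : ℤ) + 1 - 1) (cokernel ψ ⊞ cokernel ma) =
      Cyc.toK0CohQuot δ ((s : ℤ) + 1 + 1) ((s : ℤ) + 1 - 1) (cokernel mb ⊞ ⨁ fun _ : Fin r => cokernel ma) := by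
    refine (Vol26.isChar_toK0 (δ := δ) (k := (s : ℤ) + 1) (by omega) le_rfl).congr hd (Vol26.cohLe_biprod lψ la)
      (Vol26.cohLe_biprod lb lr) ?_
    rw [Vol26.sheafFun_biprod hd lψ la, Vol26.sheafFun_biprod hd lb lr]
    funext x
    simp only [Pi.add_apply, Cyc.sheafFun]
    split_ifs with hx
    · obtain ⟨S, -⟩ := RefCh12.exists_stalk_biproduct (fun _ : Fin r => cokernel ma) x
      obtain ⟨na, hna⟩ := ENat.ne_top_iff_exists.1 (Vol26.length_ne_top_of_cohLe hd hx la)
      obtain ⟨nb, hnb⟩ := ENat.ne_top_iff_exists.1 (Vol26.length_ne_top_of_cohLe hd hx lb)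
      obtain ⟨nψ, hnψ⟩ := ENat.ne_top_iff_exists.1 (Vol26.length_ne_top_of_cohLe hd hx lψ)
      have h := (loc x hx).2.2.2
      rw [← hna, ← hnb, ← hnψ] at h ⊢
      rw [← S.length_eq, Module.length_pi_of_fintype]
      simp only [← hna, Finset.sum_const, Finset.card_univ, Fintype.card_fin]
      simp only [nsmul_eq_mul, ← Nat.cast_mul, ← Nat.cast_add, Nat.cast_inj] at h
      simp only [nsmul_eq_mul, ← Nat.cast_mul, ENat.toNat_coe]
      exact_mod_cast h
    · rfl
  have cle : ∀ {G : X.Modules}, Cyc.CohLe δ ((s : ℤ) + 1) G → Cyc.CohLe δ ((s : ℤ) + 1 + 1) G := fun hG =>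
    ⟨hG.1, fun x hx => (hG.2 x hx).trans (by omega)⟩
  rw [Vol26.toK0_biprod (cle lψ) (cle la), Vol26.toK0_biprod (cle lb) (cle lr)] at key
  simp only [Cyc.toK0CohQuot] at eψ ea eb key
  rw [eWr] at eψ
  rw [er] at key
  let c := fun G : X.Modules => KZero.clSub (Cyc.CohLe δ ((s : ℤ) + 1 + 1)) G
  let Y := c F - (r : ℤ) • c O + (c O - c L)
  have top : ∀ {G : X.Modules}, Coh.IsCoh G → Cyc.CohLe δ ((s : ℤ) + 1 + 1) G := fun hG => ⟨hG, fun x _ => by
    rcases eq_or_ne x (genericPoint X) with rfl | h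
    · exact hη.le
    · exact hη ▸ (hd _ x (genericPoint_specializes x) (Ne.symm h)).1.le⟩
  have memTw : RefCh12.tw _ M hM Y ∈ RefCh12.lvl δ ((s : ℤ) + 1 + 1) ((s : ℤ) + 1 - 1) := by
    simp only [Y, c, map_add, map_sub, map_zsmul, RefCh12.tw_clSub hM (top hF), RefCh12.tw_clSub hM (top hO), O,
      RefCh12.tw_clSub hM (top rL.coh)]
    refine (QuotientAddGroup.eq_zero_iff _).1 ?_
    unfold RefCh12.lvl
    try simp only [QuotientAddGroup.mk_zsmul] at eψ
    try simp only [QuotientAddGroup.mk_zsmul] at key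
    simp only [QuotientAddGroup.mk_add, QuotientAddGroup.mk_sub, QuotientAddGroup.mk_zsmul]
    rw [eψ, ea, eb]
    rw [← sub_eq_zero] at key
    refine Eq.trans ?_ key
    simp only [O, zsmul_add, smul_add]
    abel
  have mono : RefCh12.lvl δ ((s : ℤ) + 1 + 1) ((s : ℤ) + 1 - 1) ≤ RefCh12.lvl δ ((s : ℤ) + 1 + 1) ((s : ℤ) + 1) :=
    AddSubgroup.closure_mono fun z ⟨G, hG, e⟩ => ⟨G, ⟨hG.1, fun x hx => (hG.2 x hx).trans (by omega)⟩, e⟩
  have hYn : Y ∈ RefCh12.lvl δ ((s : ℤ) + 1 + 1) ((s : ℤ) + 1 + 1) := by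
    have hc : ∀ {G : X.Modules}, Coh.IsCoh G → c G ∈ RefCh12.lvl δ ((s : ℤ) + 1 + 1) ((s : ℤ) + 1 + 1) := fun hG =>
      AddSubgroup.subset_closure ⟨_, top hG, rfl⟩
    exact add_mem (sub_mem (hc hF) (AddSubgroup.zsmul_mem _ (hc hO) _)) (sub_mem (hc hO) (hc rL.coh))
  have hYeq : Y = RefCh12.dif _ M hM Y + RefCh12.tw _ M hM Y := by
    simp [RefCh12.dif]
  have hY1 : Y ∈ RefCh12.lvl δ ((s : ℤ) + 1 + 1) ((s : ℤ) + 1) := by
    rw [hYeq]
    refine add_mem ?_ (mono memTw)
    have := RefCh12.dif_mem hd le_rfl hM hYn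
    rwa [show (s : ℤ) + 1 + 1 - 1 = (s : ℤ) + 1 by ring] at this
  have hY : Y ∈ RefCh12.lvl δ ((s : ℤ) + 1 + 1) ((s : ℤ) + 1 - 1) := by
    rw [hYeq]
    exact add_mem (RefCh12.dif_mem hd (by omega) hM hY1) memTw
  revert hY
  generalize hA' : (s : ℤ) + 1 + 1 = A at *
  generalize hB' : (s : ℤ) + 1 - 1 = B at *
  obtain rfl : ((s + 2 : ℕ) : ℤ) = A := by omega
  obtain rfl : (s : ℤ) = B := by omega
  intro hY
  have h := (QuotientAddGroup.eq_zero_iff _).2 hY
  simp only [Y, c, QuotientAddGroup.mk_add, QuotientAddGroup.mk_sub, QuotientAddGroup.mk_zsmul] at h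
  exact h

end Groth.Agent.S17925
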