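import Groth.Statements.S17919
import Groth.Agent.Lib.RefCh12.Pairing
import Groth.Agent.Lib.RefCh12.FrobDet
import Groth.Agent.S17925
-- import your own Groth.Agent.* helpers here

set_option autoImplicit false
set_option linter.style.haveILetI false
set_option backward.isDefEq.respectTransparency false
set_option backward.isDefEq.respectTransparency.types false
set_option backward.isDefEq.respectTransparency false
universe u
open CategoryTheory CategoryTheory.Limits AlgebraicGeometry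
open RefCh Groth.Agent

namespace Groth.Agent.S17919

/-- Let k be an algebraically closed field of characteristic p > 0, X an integral normal scheme of
dimension s + 3 admitting a closed immersion into some P^N_k over k, L_1, …, L_s, A and B invertible
O_X-modules with inverses M_1, …, M_s, A' and B', E a coherent reflexive O_X-module, and (G_m) its
reflexive Frobenius pull-backs F_X^[m] E (G_0 = E, G_{m+1} ≅ (F_X^* G_m)^**). Suppose χ(c_1(A)
c_1(L_1) ⋯ c_1(L_s) · [G_m]) / p^{2m} → a, χ(c_1(B) c_1(L_1) ⋯ c_1(L_s) · [G_m]) / p^{2m} → b and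
χ(c_1(A ⊗ B) c_1(L_1) ⋯ c_1(L_s) · [G_m]) / p^{2m} → c as m → ∞ (alternating sums FGA.intNum in (A',
M_1, …, M_s), (B', M_1, …, M_s) and (A' ⊗ B', M_1, …, M_s)). Then c = a + b: the number ∫_X ch_2(E)
L_0 L_1 ⋯ L_s, defined as such a limit, is additive in the invertible module L_0. -/
theorem result (k : Type u) [Field k] [IsAlgClosed k] (X : Scheme.{u}) [X.Over (Spec (CommRingCat.of k))]
    [AlgebraicGeometry.IsIntegral X] (hnorm : Pi1.IsNormalScheme X) (s : ℕ) (hdim : topologicalKrullDim X = (s + 3 : ℕ))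
    (hproj : ∃ (N : ℕ) (ι : X ⟶ CohB1.ProjSpace N k), IsClosedImmersion ι ∧ ι ≫ CohB1.ProjSpace.toSpec N k = X ↘ Spec (CommRingCat.of k))
    (p : ℕ) [Fact p.Prime] [CharP k p] [FrobSch.IsCharP X p]
    (L M : Fin s → X.Modules) (hL : ∀ i, PicF.IsInvertible (L i))
    (hLM : ∀ i, Nonempty (CohB1.tensorMod (L i) (M i) ≅ Coh.structureModule X))
    (A A' B B' : X.Modules) (hA : PicF.IsInvertible A) (hB : PicF.IsInvertible B)
    (hAA' : Nonempty (CohB1.tensorMod A A' ≅ Coh.structureModule X))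
    (hBB' : Nonempty (CohB1.tensorMod B B' ≅ Coh.structureModule X))
    (E : X.Modules) (hE : Coh.IsCoh E) (hEr : RefHull.IsReflexive E)
    (G : ℕ → X.Modules) (hG0 : G 0 = E)
    (hG : ∀ m, Nonempty (G (m + 1) ≅ RefHull.ddual ((Scheme.Modules.pullback (FrobSch.frob X p)).obj (G m)))) (a b c : ℝ)
    (ha : Filter.Tendsto (fun m : ℕ => (FGA.intNum k X (s + 3) (Fin.cons A' M) (G m) : ℝ) / ((p : ℝ) ^ (2 * m))) Filter.atTop (nhds a))
    (hb : Filter.Tendsto (fun m : ℕ => (FGA.intNum k X (s + 3) (Fin.cons B' M) (G m) : ℝ) / ((p : ℝ) ^ (2 * m))) Filter.atTop (nhds b))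
    (hc : Filter.Tendsto (fun m : ℕ => (FGA.intNum k X (s + 3) (Fin.cons (CohB1.tensorMod A' B') M) (G m) : ℝ) / ((p : ℝ) ^ (2 * m))) Filter.atTop (nhds c)) :
    c = a + b := by
  classical
  obtain ⟨N, ι, hι, hιk⟩ := hproj
  haveI : IsProper (X ↘ Spec (CommRingCat.of k)) := by
    haveI := hι
    rw [← hιk]; infer_instance
  haveI : IsLocallyNoetherian X := LocallyOfFiniteType.isLocallyNoetherian (X ↘ Spec (CommRingCat.of k))
  obtain ⟨δ, hδ, hη⟩ := RefCh12.exists_delta k (X := X) ((s + 1 + 2 : ℕ) : ℤ)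
  have hd := hδ.2.2
  have hA' : PicF.IsInvertible A' := M2.isInvertible_of_tensor_iso hA (M2.tensorComm A' A ≪≫ hAA'.some)
  have hB' : PicF.IsInvertible B' := M2.isInvertible_of_tensor_iso hB (M2.tensorComm B' B ≪≫ hBB'.some)
  have hM : ∀ i, PicF.IsInvertible (M i) := fun i =>
    M2.isInvertible_of_tensor_iso (hL i) (M2.tensorComm (M i) (L i) ≪≫ (hLM i).some)
  have hdk : topologicalKrullDim X ≤ ((s + 3 : ℕ) : WithBot ℕ∞) := hdim.le
  have top : ∀ {F : X.Modules}, Coh.IsCoh F → Cyc.CohLe δ ((s + 1 + 2 : ℕ) : ℤ) F := fun hF =>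
    ⟨hF, fun x _ => hη ▸ UCat26.delta_le_of_specializes hd (genericPoint_specializes x)⟩
  let r := Module.finrank (X.presheaf.stalk (genericPoint X)) (E.presheaf.stalk (genericPoint X))
  haveI := hE.1
  let W₀ := Wedge2.extMod r E
  have hW₀ : ExtPow.IsExtPow r E W₀ := Wedge2.isExtPow_extMod r E
  have hEc : RH26.Closed1 E := (RH26.isReflexive_iff_closed1 hnorm hE).1 hEr
  let D₀ := RefHull.ddual W₀
  have rD : RH26.R1 D₀ := by
    obtain ⟨W', -, -, h, -, -⟩ := RefCh12.det_frobRef p hnorm hE hEc (r := r) rfl hW₀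
    exact h
  have hind : ∀ m : ℕ, Coh.IsCoh (G m) ∧ RH26.Closed1 (G m) ∧
      Module.finrank (X.presheaf.stalk (genericPoint X)) ((G m).presheaf.stalk (genericPoint X)) = r ∧
      ∃ W, ExtPow.IsExtPow r (G m) W ∧ Nonempty (RefHull.ddual W ≅ RefPow.refPow D₀ (p ^ m)) := by
    intro m
    induction m with
    | zero =>
      subst hG0
      refine ⟨hE, hEc, rfl, W₀, hW₀, ?_⟩
      rw [pow_zero]
      exact ⟨Iso.refl _⟩
    | succ m ih =>
      obtain ⟨hc, hcl, hrk, W, hW, hWi⟩ := ih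
      obtain ⟨W', hW', hrk', -, -, ⟨e'⟩⟩ := RefCh12.det_frobRef p hnorm hc hcl hrk hW
      obtain ⟨e''⟩ := RefCh12.frobRef_refPow p rD hWi
      obtain ⟨eG⟩ := hG m
      have hP := M1.isCoh_pullback (FrobSch.frob X p) hc
      refine ⟨CohFound.isCoh_of_iso eG.symm (RH26.isCoh_dual (RH26.isCoh_dual hP)),
        RH26.closed1_of_iso eG (RH26.closed1_dual hnorm (RH26.isCoh_dual hP)), ?_, W',
        Wedge2.isExtPow_of_iso eG.symm (Iso.refl W') hW', ?_⟩
      · exact ((LinearEquiv.ofBijective _ ((RH26.isIso_iff_stalkMapₗ eG.hom).1 inferInstance _)).finrank_eq).trans hrk'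
      · rw [pow_succ', ]
        exact ⟨e' ≪≫ e''⟩
  let c : X.Modules → KZero.K0sub (Cyc.CohLe δ ((s + 1 + 2 : ℕ) : ℤ)) := fun F => KZero.clSub _ F
  let al := RefCh12.alt (δ := δ) ((s + 1 + 2 : ℕ) : ℤ) M hM Finset.univ
  let χ := RefCh12.chiK k hdk δ ((s + 1 + 2 : ℕ) : ℤ)
  have hI : ∀ (C : X.Modules) (hC : PicF.IsInvertible C) (m : ℕ),
      FGA.intNum k X (s + 3) (Fin.cons C M) (G m) = χ (al (RefCh12.dif _ C hC (c (G m)))) := by
    intro C hC m
    have hcI : ∀ i, PicF.IsInvertible ((Fin.cons C M : Fin (s + 1) → X.Modules) i) := fun i => by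
      rcases Fin.eq_zero_or_eq_succ i with rfl | ⟨j, rfl⟩
      · simpa using hC
      · simpa using hM j
    rw [RefCh12.intNum_eq_chiK hdk _ hcI (top (hind m).1), RefCh12.alt_cons hC M hM hcI]
    rfl
  let P := fun z => χ (al (RefCh12.dif _ B' hB' (RefCh12.dif _ A' hA' z)))
  have hlin : ∀ m : ℕ, FGA.intNum k X (s + 3) (Fin.cons (CohB1.tensorMod A' B') M) (G m) -
      FGA.intNum k X (s + 3) (Fin.cons A' M) (G m) - FGA.intNum k X (s + 3) (Fin.cons B' M) (G m) =
      -((r : ℤ) * P (c (Coh.structureModule X))) + ((p ^ m : ℕ) : ℤ) * -P (c D₀ - c (Coh.structureModule X)) := by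
    intro m
    obtain ⟨hc, hcl, hrk, W, hW, ⟨eW⟩⟩ := hind m
    have hPc := top (rD.refPow (p ^ m)).coh
    have e25 := S17925.result k X hnorm (s + 1) hdim ⟨N, ι, hι, hιk⟩ δ hδ hη r (G m) hc
      (fun x => RH26.isTorsionFree_of_injective_sp (hcl.1 x)) hrk W hW (RefCh12.cohLe_iso eW.symm hPc).1
    simp only [Cyc.toK0CohQuot, ← QuotientAddGroup.mk_add, ← QuotientAddGroup.mk_sub, ← QuotientAddGroup.mk_zsmul] at e25
    replace e25 := (QuotientAddGroup.eq_zero_iff _).1 e25
    rw [RefCh12.clSub_iso eW (RefCh12.cohLe_iso eW.symm hPc)] at e25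
    have he := add_mem e25 (RefCh12.refPow_linear hnorm (s + 1) hdim ⟨N, ι, hι, hιk⟩ hδ hη rD.isRef1 (p ^ m))
    have h1 := RefCh12.dif_mem hd (by omega) hB' (RefCh12.dif_mem hd (by omega) hA' (j := ((s + 1 : ℕ) : ℤ)) he)
    have h2 := RefCh12.alt_mem hd M hM Finset.univ (by omega) h1
    rw [RefCh12.lvl_eq_bot hd (by omega) hη (by rw [Int.toNat_natCast]; exact hdim.le)
      (by rw [Finset.card_univ, Fintype.card_fin]; omega), AddSubgroup.mem_bot] at h2
    have h3 := congrArg χ h2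
    rw [map_zero] at h3
    simp only [map_sub, map_add, map_zsmul, smul_eq_mul] at h3
    rw [hI _ (M2.isInvertible_tensor hA' hB'), hI _ hA', hI _ hB', RefCh12.dif_tensor hA' hB']
    simp only [P, c, al, map_add, map_sub]
    linear_combination -h3
  have hp : Filter.Tendsto (fun m : ℕ => p ^ m) Filter.atTop Filter.atTop :=
    tendsto_pow_atTop_atTop_of_one_lt (Fact.out : p.Prime).one_lt
  have h := (hc.sub ha).sub hb
  have h0 := (RefCh12.tendsto_linear_div_sq (((-((r : ℤ) * P (c (Coh.structureModule X)))) : ℤ) : ℝ)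
    (((-P (c D₀ - c (Coh.structureModule X))) : ℤ) : ℝ)).comp hp
  have key := tendsto_nhds_unique h (h0.congr fun m => ?_)
  · linarith
  · have := congrArg (fun z : ℤ => (z : ℝ)) (hlin m)
    simp only [Function.comp_apply]
    push_cast at this ⊢
    rw [← sub_div, ← sub_div, ← pow_mul, mul_comm m 2, this]; ring

end Groth.Agent.S17919
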