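import Groth.Statements.S17921
import Groth.Agent.Lib.RefCh12.Pairing
import Groth.Agent.Lib.RefCh12.FrobRef
-- import your own Groth.Agent.* helpers here

set_option autoImplicit false
set_option linter.style.haveILetI false
set_option backward.isDefEq.respectTransparency false
set_option backward.isDefEq.respectTransparency.types false
set_option backward.isDefEq.respectTransparency false
universe u
open CategoryTheory CategoryTheory.Limits AlgebraicGeometry
open RefCh Groth.Agent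

namespace Groth.Agent.S17921

/-- Let k be an algebraically closed field of characteristic p > 0, X an integral normal scheme of
dimension s + 2 admitting a closed immersion into some P^N_k over k, L_1, …, L_s invertible
O_X-modules with inverses M_1, …, M_s, and ℒ a coherent reflexive O_X-module of rank one (ℒ =
O_X(D)), with reflexive Frobenius pull-backs G_m = F_X^[m] ℒ (G_0 = ℒ, G_{m+1} ≅ (F_X^* G_m)^**). If
2 χ(c_1(L_1) ⋯ c_1(L_s) · [ℒ^[m]]) / m^2 → a (so a = D^2 · L_1 ⋯ L_s) and χ(c_1(L_1) ⋯ c_1(L_s) ·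
[G_m]) / p^{2m} → b (so b = ∫_X ch_2(ℒ) L_1 ⋯ L_s), the Euler characteristics being the alternating
sums FGA.intNum in the M_i, then a = 2 b: the second Chern number ∫_X c_2(ℒ) L_1 ⋯ L_s = a / 2 - b
of a rank one reflexive module vanishes. -/
theorem result (k : Type u) [Field k] [IsAlgClosed k] (X : Scheme.{u}) [X.Over (Spec (CommRingCat.of k))]
    [AlgebraicGeometry.IsIntegral X] (hnorm : Pi1.IsNormalScheme X) (s : ℕ) (hdim : topologicalKrullDim X = (s + 2 : ℕ))
    (hproj : ∃ (N : ℕ) (ι : X ⟶ CohB1.ProjSpace N k), IsClosedImmersion ι ∧ ι ≫ CohB1.ProjSpace.toSpec N k = X ↘ Spec (CommRingCat.of k))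
    (p : ℕ) [Fact p.Prime] [CharP k p] [FrobSch.IsCharP X p]
    (L M : Fin s → X.Modules) (hL : ∀ i, PicF.IsInvertible (L i))
    (hLM : ∀ i, Nonempty (CohB1.tensorMod (L i) (M i) ≅ Coh.structureModule X))
    (ℒ : X.Modules) (hℒ : RefHull.IsRef1 ℒ)
    (G : ℕ → X.Modules) (hG0 : G 0 = ℒ)
    (hG : ∀ m, Nonempty (G (m + 1) ≅ RefHull.ddual ((Scheme.Modules.pullback (FrobSch.frob X p)).obj (G m)))) (a b : ℝ)
    (ha : Filter.Tendsto (fun m : ℕ => (2 : ℝ) * (FGA.intNum k X (s + 2) M (RefPow.refPow ℒ m) : ℝ) / ((m : ℝ) ^ 2)) Filter.atTop (nhds a))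
    (hb : Filter.Tendsto (fun m : ℕ => (FGA.intNum k X (s + 2) M (G m) : ℝ) / ((p : ℝ) ^ (2 * m))) Filter.atTop (nhds b)) :
    a = 2 * b := by
  classical
  obtain ⟨N, ι, hι, hιk⟩ := hproj
  haveI : IsProper (X ↘ Spec (CommRingCat.of k)) := by
    haveI := hι
    rw [← hιk]; infer_instance
  haveI : IsLocallyNoetherian X := LocallyOfFiniteType.isLocallyNoetherian (X ↘ Spec (CommRingCat.of k))
  obtain ⟨δ, hδ, hη⟩ := RefCh12.exists_delta k (X := X) ((s + 2 : ℕ) : ℤ)
  have hd := hδ.2.2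
  have hM : ∀ i, PicF.IsInvertible (M i) := fun i =>
    M2.isInvertible_of_tensor_iso (hL i) (M2.tensorComm (M i) (L i) ≪≫ (hLM i).some)
  have hdk : topologicalKrullDim X ≤ ((s + 2 : ℕ) : WithBot ℕ∞) := hdim.le
  have top : ∀ {F : X.Modules}, Coh.IsCoh F → Cyc.CohLe δ ((s + 2 : ℕ) : ℤ) F := fun hF =>
    ⟨hF, fun x _ => hη ▸ UCat26.delta_le_of_specializes hd (genericPoint_specializes x)⟩
  have rL := RH26.R1.of_ref1 hnorm hℒ
  have heq : ∀ m : ℕ, FGA.intNum k X (s + 2) M (G m) = FGA.intNum k X (s + 2) M (RefPow.refPow ℒ (p ^ m)) := by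
    intro m
    obtain ⟨e⟩ := RefCh12.frobRef_iter p rL G hG0 hG m
    have hP := top (rL.refPow (p ^ m)).coh
    rw [RefCh12.intNum_eq_chiK hdk M hM (RefCh12.cohLe_iso e.symm hP), RefCh12.intNum_eq_chiK hdk M hM hP,
      RefCh12.clSub_iso e.symm hP]
  have hp : Filter.Tendsto (fun m : ℕ => p ^ m) Filter.atTop Filter.atTop :=
    tendsto_pow_atTop_atTop_of_one_lt (Fact.out : p.Prime).one_lt
  refine tendsto_nhds_unique ((ha.comp hp).congr fun m => ?_) (hb.const_mul 2)
  simp only [Function.comp_apply, heq]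
  push_cast
  rw [← pow_mul, mul_comm m 2, mul_div_assoc]

end Groth.Agent.S17921
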