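import Groth.Statements.S17926
import Groth.Agent.Lib.RefCh12.Alt
import Groth.Agent.Lib.TensorMod.InvCrit
import Groth.Agent.S17924
-- import your own Groth.Agent.* helpers here

set_option autoImplicit false
set_option backward.isDefEq.respectTransparency false
set_option backward.isDefEq.respectTransparency.types false
universe u
open CategoryTheory CategoryTheory.Limits AlgebraicGeometry
open RefCh Groth.Agent

namespace Groth.Agent.S17926

/-- Let k be an algebraically closed field, X an integral normal scheme of dimension n = s + 2 admitting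
a closed immersion into some P^N_k over k, δ a dimension function on X (Cyc.IsSetup) with δ(generic
point) = n, L_1, …, L_{n-1} invertible O_X-modules with inverses M_1, …, M_{n-1}, and ℒ a coherent
reflexive O_X-module of rank one (ℒ = O_X(-D) for a Weil divisor D, [O_D] = [O_X] - [ℒ]). With
c_1(L) · [F] = [F] - [L^{-1} ⊗ F] on K_0(Coh(X)), the class c_1(L_1) ⋯ c_1(L_{n-1}) · [O_D] = Σ_{I ⊆
{1, …, n-1}} (-1)^{|I|} ([M_I ⊗ O_X] - [M_I ⊗ ℒ]), where M_I = ⊗_{i ∈ I} M_i (FGA.tensorList of the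
sorted I), lies in K_0(X), the subgroup generated by the classes of coherent modules with
zero-dimensional support: its image in K_0(Coh(X)) / K_0(X) (Cyc.toK0CohQuot δ n 0) vanishes. -/
theorem result (k : Type u) [Field k] [IsAlgClosed k] (X : Scheme.{u}) [X.Over (Spec (CommRingCat.of k))]
    [AlgebraicGeometry.IsIntegral X] (hnorm : Pi1.IsNormalScheme X) (s : ℕ) (hdim : topologicalKrullDim X = (s + 2 : ℕ))
    (hproj : ∃ (N : ℕ) (ι : X ⟶ CohB1.ProjSpace N k), IsClosedImmersion ι ∧ ι ≫ CohB1.ProjSpace.toSpec N k = X ↘ Spec (CommRingCat.of k))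
    (δ : X → ℤ) (hδ : Cyc.IsSetup X δ) (hδη : δ (genericPoint X) = (s + 2 : ℕ))
    (L M : Fin (s + 1) → X.Modules) (hL : ∀ i, PicF.IsInvertible (L i))
    (hLM : ∀ i, Nonempty (CohB1.tensorMod (L i) (M i) ≅ Coh.structureModule X))
    (ℒ : X.Modules) (hℒ : RefHull.IsRef1 ℒ) :
    (∑ I : Finset (Fin (s + 1)), ((-1 : ℤ) ^ I.card) •
      (Cyc.toK0CohQuot δ (s + 2 : ℕ) 0 (CohB1.tensorMod (FGA.tensorList ((I.sort (· ≤ ·)).map M)) (Coh.structureModule X)) -
        Cyc.toK0CohQuot δ (s + 2 : ℕ) 0 (CohB1.tensorMod (FGA.tensorList ((I.sort (· ≤ ·)).map M)) ℒ))) = 0 := by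
  haveI := hδ.1
  have hd := hδ.2.2
  obtain ⟨N, ι, hι, hιk⟩ := id hproj
  have hM : ∀ i, PicF.IsInvertible (M i) := fun i =>
    M2.isInvertible_of_tensor_iso_unit (M i) (L i) (M2.tensorComm _ _ ≪≫ (hLM i).some)
  have top : ∀ {F : X.Modules}, Coh.IsCoh F → Cyc.CohLe δ (s + 2 : ℕ) F := fun hF => ⟨hF, fun x _ => by
    rcases eq_or_ne x (genericPoint X) with rfl | h
    · exact hδη.le
    · exact hδη ▸ (hd _ x (genericPoint_specializes x) (Ne.symm h)).1.le⟩
  have hO := top (M1.isCoh_structureModule X)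
  have hL1 := top hℒ.1
  have hx : KZero.clSub (Cyc.CohLe δ (s + 2 : ℕ)) (Coh.structureModule X) -
      KZero.clSub (Cyc.CohLe δ (s + 2 : ℕ)) ℒ ∈ RefCh12.lvl δ (s + 2 : ℕ) (s + 1 : ℕ) :=
    (RefCh12.mk_eq_iff _ _).1 (S17924.result k X hnorm s hdim hproj δ hδ hδη ℒ hℒ)
  have h := RefCh12.alt_mem hd M hM Finset.univ (by omega : ((s + 1 : ℕ) : ℤ) ≤ ((s + 2 : ℕ) : ℤ)) hx
  rw [map_sub, RefCh12.alt_univ_clSub M hM hO, RefCh12.alt_univ_clSub M hM hL1, Finset.card_univ, Fintype.card_fin,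
    sub_self, ← Finset.sum_sub_distrib] at h
  refine Eq.trans ?_ ((QuotientAddGroup.eq_zero_iff _).2 h)
  simp only [Cyc.toK0CohQuot, ← smul_sub]
  rw [← QuotientAddGroup.mk'_apply, map_sum]
  simp only [map_zsmul, map_sub, QuotientAddGroup.mk'_apply]

end Groth.Agent.S17926
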