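import Groth.Statements.S17928
import Groth.Agent.Lib.RefCh12.Alt
import Groth.Agent.Lib.TensorMod.InvCrit
import Groth.Agent.S17924
import Groth.Agent.S17932
-- import your own Groth.Agent.* helpers here

set_option autoImplicit false
set_option backward.isDefEq.respectTransparency false
set_option backward.isDefEq.respectTransparency.types false
universe u
open CategoryTheory CategoryTheory.Limits AlgebraicGeometry
open RefCh Groth.Agent

namespace Groth.Agent.S17928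

/-- Let k be an algebraically closed field, X an integral normal scheme of dimension n = s + 2 admitting
a closed immersion into some P^N_k over k, δ a dimension function on X (Cyc.IsSetup) with δ(generic
point) = n, L_1, …, L_{n-1} invertible O_X-modules with inverses M_1, …, M_{n-1}, and ℒ_1, ℒ_2
coherent reflexive O_X-modules of rank one (ℒ_j = O_X(-D_j)); write ℒ_1 ⊗̂ ℒ_2 for the reflexive
hull of ℒ_1 ⊗ ℒ_2, which is O_X(-D_1 - D_2). In K(X) = K_0(Coh(X)) (classes KZero.clSub for the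
property 'coherent with support of δ-dimension ≤ n', i.e. all coherent modules) put S(ℒ) = Σ_{I ⊆
{1, …, n-1}} (-1)^{|I|} ([M_I ⊗ O_X] - [M_I ⊗ ℒ]) with M_I = ⊗_{i∈I} M_i, so that S(O_X(-D)) =
c_1(L_1) ⋯ c_1(L_{n-1}) · [O_D]. Then S(ℒ_1 ⊗̂ ℒ_2) = S(ℒ_1) + S(ℒ_2): the K(X)-valued symbol
c_1(L_1) ⋯ c_1(L_{n-1}) · [O_D] is additive, hence ℤ-linear, in the Weil divisor D. -/
theorem result (k : Type u) [Field k] [IsAlgClosed k] (X : Scheme.{u}) [X.Over (Spec (CommRingCat.of k))]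
    [AlgebraicGeometry.IsIntegral X] (hnorm : Pi1.IsNormalScheme X) (s : ℕ) (hdim : topologicalKrullDim X = (s + 2 : ℕ))
    (hproj : ∃ (N : ℕ) (ι : X ⟶ CohB1.ProjSpace N k), IsClosedImmersion ι ∧ ι ≫ CohB1.ProjSpace.toSpec N k = X ↘ Spec (CommRingCat.of k))
    (δ : X → ℤ) (hδ : Cyc.IsSetup X δ) (hδη : δ (genericPoint X) = (s + 2 : ℕ))
    (L M : Fin (s + 1) → X.Modules) (hL : ∀ i, PicF.IsInvertible (L i))
    (hLM : ∀ i, Nonempty (CohB1.tensorMod (L i) (M i) ≅ Coh.structureModule X))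
    (ℒ₁ ℒ₂ : X.Modules) (h₁ : RefHull.IsRef1 ℒ₁) (h₂ : RefHull.IsRef1 ℒ₂) :
    (∑ I : Finset (Fin (s + 1)), ((-1 : ℤ) ^ I.card) •
        (KZero.clSub (Cyc.CohLe δ (s + 2 : ℕ)) (CohB1.tensorMod (FGA.tensorList ((I.sort (· ≤ ·)).map M)) (Coh.structureModule X)) -
          KZero.clSub (Cyc.CohLe δ (s + 2 : ℕ)) (CohB1.tensorMod (FGA.tensorList ((I.sort (· ≤ ·)).map M)) (RefPow.refTensor ℒ₁ ℒ₂)))) =
      (∑ I : Finset (Fin (s + 1)), ((-1 : ℤ) ^ I.card) •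
        (KZero.clSub (Cyc.CohLe δ (s + 2 : ℕ)) (CohB1.tensorMod (FGA.tensorList ((I.sort (· ≤ ·)).map M)) (Coh.structureModule X)) -
          KZero.clSub (Cyc.CohLe δ (s + 2 : ℕ)) (CohB1.tensorMod (FGA.tensorList ((I.sort (· ≤ ·)).map M)) ℒ₁))) +
      (∑ I : Finset (Fin (s + 1)), ((-1 : ℤ) ^ I.card) •
        (KZero.clSub (Cyc.CohLe δ (s + 2 : ℕ)) (CohB1.tensorMod (FGA.tensorList ((I.sort (· ≤ ·)).map M)) (Coh.structureModule X)) -
          KZero.clSub (Cyc.CohLe δ (s + 2 : ℕ)) (CohB1.tensorMod (FGA.tensorList ((I.sort (· ≤ ·)).map M)) ℒ₂))) := by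
  haveI := hδ.1
  have hd := hδ.2.2
  have hM : ∀ i, PicF.IsInvertible (M i) := fun i =>
    M2.isInvertible_of_tensor_iso_unit (M i) (L i) (M2.tensorComm _ _ ≪≫ (hLM i).some)
  have top : ∀ {F : X.Modules}, Coh.IsCoh F → Cyc.CohLe δ (s + 2 : ℕ) F := fun hF => ⟨hF, fun x _ => by
    rcases eq_or_ne x (genericPoint X) with rfl | h
    · exact hδη.le
    · exact hδη ▸ (hd _ x (genericPoint_specializes x) (Ne.symm h)).1.le⟩
  have hO := top (M1.isCoh_structureModule X)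
  have hL1 := top h₁.1
  have hL2 := top h₂.1
  have hT : Cyc.CohLe δ (s + 2 : ℕ) (RefPow.refTensor ℒ₁ ℒ₂) :=
    top ((RH26.R1.of_ref1 hnorm h₁).tensorHull (RH26.R1.of_ref1 hnorm h₂)).coh
  let c := fun F : X.Modules => KZero.clSub (Cyc.CohLe δ (s + 2 : ℕ)) F
  have hx : c ℒ₁ + c ℒ₂ - c (RefPow.refTensor ℒ₁ ℒ₂) - c (Coh.structureModule X) ∈
      RefCh12.lvl δ (s + 2 : ℕ) (s : ℕ) := by
    have e := S17932.result k X hnorm s hdim hproj δ hδ hδη ℒ₁ ℒ₂ h₁ h₂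
    have e' : (Cyc.toK0CohQuot δ (s + 2 : ℕ) (s : ℕ) ℒ₁ + Cyc.toK0CohQuot δ (s + 2 : ℕ) (s : ℕ) ℒ₂) -
        Cyc.toK0CohQuot δ (s + 2 : ℕ) (s : ℕ) (RefPow.refTensor ℒ₁ ℒ₂) -
        Cyc.toK0CohQuot δ (s + 2 : ℕ) (s : ℕ) (Coh.structureModule X) = 0 := by
      rw [← e]; abel
    simp only [Cyc.toK0CohQuot, ← QuotientAddGroup.mk_add, ← QuotientAddGroup.mk_sub] at e'
    exact (QuotientAddGroup.eq_zero_iff _).1 e'
  have h := RefCh12.alt_mem hd M hM Finset.univ (by omega : ((s : ℕ) : ℤ) ≤ ((s + 2 : ℕ) : ℤ)) hx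
  rw [RefCh12.lvl_eq_bot hd (by omega) hδη (by rw [hdim, Int.toNat_natCast]) (by simp)] at h
  simp only [c, map_sub, map_add, AddSubgroup.mem_bot, RefCh12.alt_univ_clSub M hM hO,
    RefCh12.alt_univ_clSub M hM hL1, RefCh12.alt_univ_clSub M hM hL2, RefCh12.alt_univ_clSub M hM hT] at h
  simp only [smul_sub, Finset.sum_sub_distrib]
  rw [← sub_eq_zero, ← h]
  abel

end Groth.Agent.S17928
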