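import Groth.Statements.S17929
import Groth.Agent.Lib.RefCh12.Alt
import Groth.Agent.Lib.TensorMod.InvCrit
import Groth.Agent.S17924
-- import your own Groth.Agent.* helpers here

set_option autoImplicit false
set_option backward.isDefEq.respectTransparency false
set_option backward.isDefEq.respectTransparency.types false
universe u
open CategoryTheory CategoryTheory.Limits AlgebraicGeometry
open RefCh Groth.Agent

namespace Groth.Agent.S17929

/-- Let k be an algebraically closed field, X an integral normal scheme of dimension n = s + 2 admitting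
a closed immersion into some P^N_k over k, δ a dimension function on X (Cyc.IsSetup) with δ(generic
point) = n, L_1, …, L_s, A and B invertible O_X-modules with inverses M_1, …, M_s, A' and B' (so A'
⊗ B' is an inverse of A ⊗ B), and ℒ a coherent reflexive O_X-module of rank one (ℒ = O_X(-D)). For a
family (N_0, …, N_s) of modules put S_N(ℒ) = Σ_{I ⊆ {0, …, s}} (-1)^{|I|} ([N_I ⊗ O_X] - [N_I ⊗ ℒ])
in K(X) = K_0(Coh(X)) (classes KZero.clSub of coherent modules), N_I = ⊗_{i∈I} N_i, so that S_{(A',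
M_1, …, M_s)}(O_X(-D)) = c_1(A) c_1(L_1) ⋯ c_1(L_s) · [O_D]. Then S_{(A' ⊗ B', M)}(ℒ) = S_{(A',
M)}(ℒ) + S_{(B', M)}(ℒ): the K(X)-valued symbol c_1(L_0) c_1(L_1) ⋯ c_1(L_s) · [O_D] is additive,
hence ℤ-linear, in the invertible module L_0. -/
theorem result (k : Type u) [Field k] [IsAlgClosed k] (X : Scheme.{u}) [X.Over (Spec (CommRingCat.of k))]
    [AlgebraicGeometry.IsIntegral X] (hnorm : Pi1.IsNormalScheme X) (s : ℕ) (hdim : topologicalKrullDim X = (s + 2 : ℕ))
    (hproj : ∃ (N : ℕ) (ι : X ⟶ CohB1.ProjSpace N k), IsClosedImmersion ι ∧ ι ≫ CohB1.ProjSpace.toSpec N k = X ↘ Spec (CommRingCat.of k))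
    (δ : X → ℤ) (hδ : Cyc.IsSetup X δ) (hδη : δ (genericPoint X) = (s + 2 : ℕ))
    (L M : Fin s → X.Modules) (hL : ∀ i, PicF.IsInvertible (L i))
    (hLM : ∀ i, Nonempty (CohB1.tensorMod (L i) (M i) ≅ Coh.structureModule X))
    (A A' B B' : X.Modules) (hA : PicF.IsInvertible A) (hB : PicF.IsInvertible B)
    (hAA' : Nonempty (CohB1.tensorMod A A' ≅ Coh.structureModule X))
    (hBB' : Nonempty (CohB1.tensorMod B B' ≅ Coh.structureModule X))
    (ℒ : X.Modules) (hℒ : RefHull.IsRef1 ℒ) :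
    (∑ I : Finset (Fin (s + 1)), ((-1 : ℤ) ^ I.card) •
        (KZero.clSub (Cyc.CohLe δ (s + 2 : ℕ)) (CohB1.tensorMod (FGA.tensorList ((I.sort (· ≤ ·)).map (Fin.cons (CohB1.tensorMod A' B') M))) (Coh.structureModule X)) -
          KZero.clSub (Cyc.CohLe δ (s + 2 : ℕ)) (CohB1.tensorMod (FGA.tensorList ((I.sort (· ≤ ·)).map (Fin.cons (CohB1.tensorMod A' B') M))) ℒ))) =
      (∑ I : Finset (Fin (s + 1)), ((-1 : ℤ) ^ I.card) •
        (KZero.clSub (Cyc.CohLe δ (s + 2 : ℕ)) (CohB1.tensorMod (FGA.tensorList ((I.sort (· ≤ ·)).map (Fin.cons A' M))) (Coh.structureModule X)) -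
          KZero.clSub (Cyc.CohLe δ (s + 2 : ℕ)) (CohB1.tensorMod (FGA.tensorList ((I.sort (· ≤ ·)).map (Fin.cons A' M))) ℒ))) +
      (∑ I : Finset (Fin (s + 1)), ((-1 : ℤ) ^ I.card) •
        (KZero.clSub (Cyc.CohLe δ (s + 2 : ℕ)) (CohB1.tensorMod (FGA.tensorList ((I.sort (· ≤ ·)).map (Fin.cons B' M))) (Coh.structureModule X)) -
          KZero.clSub (Cyc.CohLe δ (s + 2 : ℕ)) (CohB1.tensorMod (FGA.tensorList ((I.sort (· ≤ ·)).map (Fin.cons B' M))) ℒ))) := by
  classical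
  haveI := hδ.1
  have hd := hδ.2.2
  have hM : ∀ i, PicF.IsInvertible (M i) := fun i =>
    M2.isInvertible_of_tensor_iso_unit (M i) (L i) (M2.tensorComm _ _ ≪≫ (hLM i).some)
  have hA' : PicF.IsInvertible A' := M2.isInvertible_of_tensor_iso_unit A' A (M2.tensorComm _ _ ≪≫ hAA'.some)
  have hB' : PicF.IsInvertible B' := M2.isInvertible_of_tensor_iso_unit B' B (M2.tensorComm _ _ ≪≫ hBB'.some)
  have top : ∀ {F : X.Modules}, Coh.IsCoh F → Cyc.CohLe δ (s + 2 : ℕ) F := fun hF => ⟨hF, fun x _ => by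
    rcases eq_or_ne x (genericPoint X) with rfl | h
    · exact hδη.le
    · exact hδη ▸ (hd _ x (genericPoint_specializes x) (Ne.symm h)).1.le⟩
  have hO := top (M1.isCoh_structureModule X)
  have hL1 := top hℒ.1
  let x := KZero.clSub (Cyc.CohLe δ (s + 2 : ℕ)) (Coh.structureModule X) -
      KZero.clSub (Cyc.CohLe δ (s + 2 : ℕ)) ℒ
  have hx : x ∈ RefCh12.lvl δ (s + 2 : ℕ) (s + 1 : ℕ) :=
    (RefCh12.mk_eq_iff _ _).1 (S17924.result k X hnorm s hdim hproj δ hδ hδη ℒ hℒ)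
  have hcons : ∀ {C : X.Modules}, PicF.IsInvertible C →
      ∀ i, PicF.IsInvertible ((Fin.cons C M : Fin (s + 1) → X.Modules) i) := fun hC i => Fin.cases hC hM i
  let S₀ : Finset (Fin (s + 1)) := Finset.univ.erase 0
  have hS₀ : insert 0 S₀ = Finset.univ := Finset.insert_erase (Finset.mem_univ _)
  let R := RefCh12.alt (δ := δ) (s + 2 : ℕ) (Fin.cons (Coh.structureModule X) M : Fin (s + 1) → X.Modules)
    (hcons (PicLoc.isInvertible_structureModule X)) S₀
  have hdec : ∀ {C : X.Modules} (hC : PicF.IsInvertible C),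
      RefCh12.alt (δ := δ) (s + 2 : ℕ) (Fin.cons C M : Fin (s + 1) → X.Modules) (hcons hC) Finset.univ =
        R.comp (RefCh12.dif (s + 2 : ℕ) C hC) := by
    intro C hC
    rw [← hS₀, RefCh12.alt_insert _ _ (hcons hC) (Finset.notMem_erase 0 _)]
    congr 1
    refine Finset.sum_congr rfl fun I hI => ?_
    congr 1
    refine RefCh12.tw_congr _ _ ⟨eqToIso (congrArg FGA.tensorList (List.map_congr_left fun i hi => ?_))⟩
    have hi0 : i ≠ 0 := Finset.ne_of_mem_erase (Finset.mem_powerset.1 hI ((Finset.mem_sort _).1 hi))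
    obtain ⟨j, rfl⟩ := Fin.exists_succ_eq.2 hi0
    simp only [Fin.cons_succ]
  have hmem : R (RefCh12.dif (s + 2 : ℕ) A' hA' (RefCh12.dif (s + 2 : ℕ) B' hB' x)) = 0 := by
    have h := RefCh12.alt_mem hd (Fin.cons (Coh.structureModule X) M : Fin (s + 1) → X.Modules)
      (hcons (PicLoc.isInvertible_structureModule X)) S₀ (by omega)
      (RefCh12.dif_mem hd (by omega) hA' (RefCh12.dif_mem hd (by omega) hB' hx))
    rw [RefCh12.lvl_eq_bot hd (by omega) hδη (by rw [hdim, Int.toNat_natCast])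
      (by simp [S₀])] at h
    exact AddSubgroup.mem_bot.1 h
  have hsum : ∀ {C : X.Modules} (hC : PicF.IsInvertible C),
      (∑ I : Finset (Fin (s + 1)), ((-1 : ℤ) ^ I.card) •
        (KZero.clSub (Cyc.CohLe δ (s + 2 : ℕ)) (CohB1.tensorMod (FGA.tensorList ((I.sort (· ≤ ·)).map (Fin.cons C M))) (Coh.structureModule X)) -
          KZero.clSub (Cyc.CohLe δ (s + 2 : ℕ)) (CohB1.tensorMod (FGA.tensorList ((I.sort (· ≤ ·)).map (Fin.cons C M))) ℒ))) =
      R (RefCh12.dif (s + 2 : ℕ) C hC x) := by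
    intro C hC
    rw [← AddMonoidHom.comp_apply, ← hdec hC]
    simp only [x, map_sub, RefCh12.alt_univ_clSub _ (hcons hC) hO, RefCh12.alt_univ_clSub _ (hcons hC) hL1,
      smul_sub, Finset.sum_sub_distrib]
  rw [hsum (M2.isInvertible_tensor hA' hB'), hsum hA', hsum hB', ← map_add, ← sub_eq_zero, ← map_sub, ← neg_eq_zero,
    ← map_neg, ← hmem]
  congr 1
  have ht := DFunLike.congr_fun (RefCh12.tw_tw (δ := δ) (n := ((s + 2 : ℕ) : ℤ)) hB' hA') x
  simp only [AddMonoidHom.comp_apply] at ht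
  simp only [RefCh12.dif, AddMonoidHom.sub_apply, AddMonoidHom.id_apply, map_sub, ← ht]
  rw [show (RefCh12.tw (δ := δ) ((s + 2 : ℕ) : ℤ) A' hA') (RefCh12.tw ((s + 2 : ℕ) : ℤ) B' hB' x) =
    RefCh12.tw ((s + 2 : ℕ) : ℤ) B' hB' (RefCh12.tw ((s + 2 : ℕ) : ℤ) A' hA' x) by
      rw [← AddMonoidHom.comp_apply, ← AddMonoidHom.comp_apply, RefCh12.tw_tw, RefCh12.tw_tw,
        RefCh12.tw_congr _ _ ⟨M2.tensorComm _ _⟩]]
  abel

end Groth.Agent.S17929
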