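import Groth.Statements.S17930
import Groth.Agent.Lib.RefCh12.FlatDual
import Groth.Agent.Lib.CohBC18.Field
import Groth.Agent.Lib.Snapper.Main
import Groth.Agent.Lib.TensorMod.PullTensor
import Groth.Agent.Lib.Twist.Pullback
import Groth.Agent.Lib.CohFound.ProjQuot
import Groth.Agent.Lib.CurveCoh17.GenusBC
-- import your own Groth.Agent.* helpers here

set_option autoImplicit false
set_option linter.style.haveILetI false
set_option maxHeartbeats 800000
set_option backward.isDefEq.respectTransparency false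
set_option backward.isDefEq.respectTransparency.types false
set_option backward.isDefEq.respectTransparency false
universe u
open CategoryTheory CategoryTheory.Limits AlgebraicGeometry
open RefCh Groth.Agent

namespace Groth.Agent.S17930

/-- Let k be an algebraically closed field of characteristic p > 0, X an integral normal scheme of
dimension s + 2 admitting a closed immersion into some P^N_k over k, L_1, …, L_s invertible
O_X-modules with inverses M_1, …, M_s, E a coherent reflexive O_X-module and (G_m) its reflexive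
Frobenius pull-backs (G_0 = E, G_{m+1} ≅ (F_X^* G_m)^**). Let K ⊇ k be an algebraically closed
extension field, X_K = X ×_k Spec K with projection π : X_K → X, and (G'_m) reflexive Frobenius
pull-backs of E_K = π^*E on X_K (G'_0 = π^*E, G'_{m+1} ≅ (F_{X_K}^* G'_m)^**). If χ(c_1(L_1) ⋯
c_1(L_s) · [G_m]) / p^{2m} → b (alternating sums FGA.intNum over k in the M_i) and χ(c_1(π^*L_1) ⋯
c_1(π^*L_s) · [G'_m]) / p^{2m} → b' (alternating sums FGA.intNum over K in the π^*M_i), then b' = b:
the number ∫_X ch_2(E) L_1 ⋯ L_s is unchanged by algebraically closed base field extension. -/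
theorem result (k : Type u) [Field k] [IsAlgClosed k] (X : Scheme.{u}) [X.Over (Spec (CommRingCat.of k))]
    [AlgebraicGeometry.IsIntegral X] (hnorm : Pi1.IsNormalScheme X) (s : ℕ) (hdim : topologicalKrullDim X = (s + 2 : ℕ))
    (hproj : ∃ (N : ℕ) (ι : X ⟶ CohB1.ProjSpace N k), IsClosedImmersion ι ∧ ι ≫ CohB1.ProjSpace.toSpec N k = X ↘ Spec (CommRingCat.of k))
    (p : ℕ) [Fact p.Prime] [CharP k p] [FrobSch.IsCharP X p]
    (L M : Fin s → X.Modules) (hL : ∀ i, PicF.IsInvertible (L i))
    (hLM : ∀ i, Nonempty (CohB1.tensorMod (L i) (M i) ≅ Coh.structureModule X))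
    (E : X.Modules) (hE : Coh.IsCoh E) (hEr : RefHull.IsReflexive E)
    (G : ℕ → X.Modules) (hG0 : G 0 = E)
    (hG : ∀ m, Nonempty (G (m + 1) ≅ RefHull.ddual ((Scheme.Modules.pullback (FrobSch.frob X p)).obj (G m)))) (b : ℝ)
    (hb : Filter.Tendsto (fun m : ℕ => (FGA.intNum k X (s + 2) M (G m) : ℝ) / ((p : ℝ) ^ (2 * m))) Filter.atTop (nhds b))
    (K : Type u) [Field K] [IsAlgClosed K] [Algebra k K] [FrobSch.IsCharP (Curv2.bc k X K) p]
    (G' : ℕ → (Curv2.bc k X K).Modules) (hG'0 : G' 0 = (Scheme.Modules.pullback (Curv2.bcFst k X K)).obj E)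
    (hG' : ∀ m, Nonempty (G' (m + 1) ≅ RefHull.ddual ((Scheme.Modules.pullback (FrobSch.frob (Curv2.bc k X K) p)).obj (G' m))))
    (b' : ℝ)
    (hb' : letI : (Curv2.bc k X K).Over (Spec (CommRingCat.of K)) := ⟨Curv2.bcSnd k X K⟩
      Filter.Tendsto (fun m : ℕ => (FGA.intNum K (Curv2.bc k X K) (s + 2) (fun i => (Scheme.Modules.pullback (Curv2.bcFst k X K)).obj (M i)) (G' m) : ℝ) / ((p : ℝ) ^ (2 * m))) Filter.atTop (nhds b')) :
    b' = b := by
  classical
  obtain ⟨N, ι, hι, hιk⟩ := hproj
  haveI : IsProper (X ↘ Spec (CommRingCat.of k)) := by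
    haveI := hι
    rw [← hιk]; infer_instance
  haveI : IsNoetherian X := CohFound.isNoetherian_of_isProper (X ↘ Spec (CommRingCat.of k))
  letI : (Curv2.bc k X K).Over (Spec (CommRingCat.of K)) := ⟨Curv2.bcSnd k X K⟩
  let π := Curv2.bcFst k X K
  haveI : Flat (Spec.map (CommRingCat.ofHom (algebraMap k K))) := by
    rw [Flat.SpecMap_iff]
    exact RingHom.flat_algebraMap_iff.2 inferInstance
  haveI : Flat π := inferInstanceAs (Flat (Limits.pullback.fst _ _))
  haveI : LocallyOfFiniteType (Curv2.bcSnd k X K) := inferInstanceAs (LocallyOfFiniteType (Limits.pullback.snd _ _))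
  haveI : IsLocallyNoetherian (Curv2.bc k X K) := LocallyOfFiniteType.isLocallyNoetherian (Curv2.bcSnd k X K)
  have hM : ∀ i, PicF.IsInvertible (M i) := fun i =>
    M2.isInvertible_of_tensor_iso (hL i) (M2.tensorComm (M i) (L i) ≪≫ (hLM i).some)
  have hind : ∀ m : ℕ, Coh.IsCoh (G m) ∧ Nonempty (G' m ≅ (Scheme.Modules.pullback π).obj (G m)) := by
    intro m
    induction m with
    | zero => exact ⟨by rw [hG0]; exact hE, ⟨eqToIso (by rw [hG'0, hG0])⟩⟩
    | succ m ih =>
      obtain ⟨hc, ⟨e⟩⟩ := ih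
      obtain ⟨eG⟩ := hG m
      obtain ⟨eG'⟩ := hG' m
      have hP := M1.isCoh_pullback (FrobSch.frob X p) hc
      have hc' : Coh.IsCoh (G (m + 1)) := CohFound.isCoh_of_iso eG.symm (RH26.isCoh_dual (RH26.isCoh_dual hP))
      let c : (Scheme.Modules.pullback (FrobSch.frob (Curv2.bc k X K) p)).obj ((Scheme.Modules.pullback π).obj (G m)) ≅
          (Scheme.Modules.pullback π).obj ((Scheme.Modules.pullback (FrobSch.frob X p)).obj (G m)) :=
        (Scheme.Modules.pullbackComp (FrobSch.frob (Curv2.bc k X K) p) π).app (G m) ≪≫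
          (Scheme.Modules.pullbackCongr (FrobSch.frob_comp p π)).app (G m) ≪≫
          ((Scheme.Modules.pullbackComp π (FrobSch.frob X p)).app (G m)).symm
      let t := (Scheme.Modules.pullback (FrobSch.frob (Curv2.bc k X K) p)).mapIso e ≪≫ c
      obtain ⟨d1⟩ := RefCh12.ddual_congr
        (M1.isCoh_pullback (FrobSch.frob (Curv2.bc k X K) p) (CohFound.isCoh_of_iso e.symm (M1.isCoh_pullback π hc))) t
      obtain ⟨d2⟩ := RefCh12.ddual_pullback π (fun x => (hnorm x).1) hP
      exact ⟨hc', ⟨eG' ≪≫ d1 ≪≫ d2 ≪≫ (Scheme.Modules.pullback π).mapIso eG.symm⟩⟩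
  have hlist : ∀ l : List (Fin s), Nonempty ((Scheme.Modules.pullback π).obj (FGA.tensorList (l.map M)) ≅
      FGA.tensorList (l.map fun i => (Scheme.Modules.pullback π).obj (M i))) := by
    intro l
    induction l with
    | nil => exact ⟨Twist.pullbackUnitIso _⟩
    | cons a l ih =>
      obtain ⟨e⟩ := ih
      exact ⟨M2.pullTensorIso _ _ _ ≪≫ M2.tensorIso (Iso.refl _) e⟩
  have hint : ∀ m : ℕ, FGA.intNum K (Curv2.bc k X K) (s + 2) (fun i => (Scheme.Modules.pullback π).obj (M i)) (G' m) =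
      FGA.intNum k X (s + 2) M (G m) := by
    intro m
    obtain ⟨hc, ⟨e'⟩⟩ := hind m
    unfold FGA.intNum
    refine Finset.sum_congr rfl fun I _ => ?_
    congr 1
    unfold FGA.eulerCharLE
    refine Finset.sum_congr rfl fun q _ => ?_
    obtain ⟨e⟩ := hlist (I.sort (· ≤ ·))
    have hq : Coh.IsQCoh (CohB1.tensorMod (FGA.tensorList ((I.sort (· ≤ ·)).map M)) (G m)) :=
      M2.isQCoh_tensor (Snapper.isCoh_of_isInvertible
        (Snapper.isInvertible_tensorList fun N hN => by
          obtain ⟨i, -, rfl⟩ := List.mem_map.1 hN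
          exact hM i)).1 hc.1
    obtain ⟨φ⟩ := CohBC18.nonempty_HH_bc (k := k) X K _ hq q
    let ψ := φ.trans (CurveCoh17.hequiv K
      (M2.pullTensorIso _ _ _ ≪≫ M2.tensorIso e e'.symm) q)
    congr 2
    exact ψ.finrank_eq.symm.trans Module.finrank_baseChange
  refine tendsto_nhds_unique ?_ hb
  refine Filter.Tendsto.congr (fun m => ?_) hb'
  rw [hint]

end Groth.Agent.S17930
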