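import Mathlib.AlgebraicGeometry.Morphisms.Finite
import Mathlib.AlgebraicGeometry.Morphisms.ClosedImmersion
import Mathlib.AlgebraicGeometry.Pullbacks
import Mathlib.RingTheory.Henselian
import Groth.Agent.Lib.Hens.ClopenLift

set_option autoImplicit false
open CategoryTheory CategoryTheory.Limits AlgebraicGeometry
universe u
namespace Hensel
end Hensel
open Hensel

namespace Groth.Agent.S17962

/-- Let i : X₀ ⟶ X be a closed immersion such that (X, X₀) is a henselian couple, i.e. for every finite
morphism g : Y ⟶ X every open-closed subset of Y ×_X X₀ is the inverse image under the first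
projection of exactly one open-closed subset of Y. Then for every finite morphism h : Y ⟶ X the
couple (Y, Y ×_X X₀), with the first projection as closed immersion, is again henselian. -/
theorem result {X X₀ : Scheme.{u}}
    (i : X₀ ⟶ X) [IsClosedImmersion i]
    (hX : ∀ (Y : Scheme.{u}) (g : Y ⟶ X), IsFinite g →
      ∀ V : Set ↥(pullback g (i)), IsClopen V →
        ∃! U : Set ↥Y, IsClopen U ∧ (pullback.fst g (i)).base ⁻¹' U = V)
    {Y : Scheme.{u}} (h : Y ⟶ X) [IsFinite h] :
    ∀ (Z : Scheme.{u}) (g : Z ⟶ Y), IsFinite g →
      ∀ V : Set ↥(pullback g (pullback.fst h i)), IsClopen V →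
        ∃! U : Set ↥Z, IsClopen U ∧ (pullback.fst g (pullback.fst h i)).base ⁻¹' U = V := by
  intro Z g hg
  have h1 : Hens.ClopenLift (pullback.fst (g ≫ h) i).base := hX Z (g ≫ h) inferInstance
  refine h1.congr_range (pullback.fst (g ≫ h) i).isClosedEmbedding.isEmbedding
    (pullback.fst g (pullback.fst h i)).isClosedEmbedding.isEmbedding ?_
  rw [Scheme.Pullback.range_fst, Scheme.Pullback.range_fst, Scheme.Pullback.range_fst]
  rfl

end Groth.Agent.S17962
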