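import Groth.Statements.S17964
import Groth.Agent.Lib.Hens.ClopenLift
-- import your own Groth.Agent.* helpers here

set_option autoImplicit false
open CategoryTheory CategoryTheory.Limits AlgebraicGeometry
universe u
open Hensel

namespace Groth.Agent.S17964

theorem exists_sigma_eq {ι : Type u} (X : ι → Scheme.{u}) (z : ↥(∐ X)) :
    ∃ (k : ι) (w : ↥(X k)), (Sigma.ι X k).base w = z := by
  obtain ⟨⟨k, w⟩, rfl⟩ := (sigmaMk X).surjective z
  exact ⟨k, w, (sigmaMk_mk X k w).symm⟩

theorem isFinite_sigmaι {ι : Type u} (X : ι → Scheme.{u}) (j : ι) : IsFinite (Sigma.ι X j) := by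
  have : IsClosed (Set.range (Sigma.ι X j).base) := by
    rw [← isOpen_compl_iff, show (Set.range (Sigma.ι X j).base)ᶜ =
      ⋃ (k) (_ : k ≠ j), Set.range (Sigma.ι X k).base by
        ext z
        simp only [Set.mem_compl_iff, Set.mem_iUnion]
        constructor
        · intro h
          obtain ⟨k, w, rfl⟩ := exists_sigma_eq X z
          refine ⟨k, ?_, w, rfl⟩
          rintro rfl
          exact h ⟨w, rfl⟩
        · rintro ⟨k, hk, w, rfl⟩ ⟨x, hx⟩
          exact hk (congrArg Sigma.fst ((sigmaι_eq_iff X j k x w).mp hx)).symm]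
    exact isOpen_biUnion fun k _ => (Sigma.ι X k).opensRange.2
  have : IsClosedImmersion (Sigma.ι X j) := .of_isPreimmersion _ this
  infer_instance

theorem mem_range_map_iff {ι : Type u} (X X₀ : ι → Scheme.{u}) (i : ∀ j, X₀ j ⟶ X j) (j : ι)
    (x : ↥(X j)) :
    (Sigma.ι X j).base x ∈ Set.range (Limits.Sigma.map i).base ↔ x ∈ Set.range (i j).base := by
  have hcomm : ∀ (k) (w : ↥(X₀ k)), (Limits.Sigma.map i).base ((Sigma.ι X₀ k).base w) =
      (Sigma.ι X k).base ((i k).base w) := fun k w => by
    rw [← Scheme.Hom.comp_apply, Limits.Sigma.ι_map, Scheme.Hom.comp_apply]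
  constructor
  · rintro ⟨z, hz⟩
    obtain ⟨k, w, rfl⟩ := exists_sigma_eq X₀ z
    rw [hcomm] at hz
    have h := (sigmaι_eq_iff X _ _ _ _).mp hz
    obtain ⟨rfl, h⟩ := Sigma.mk.inj_iff.mp h
    exact ⟨w, eq_of_heq h⟩
  · rintro ⟨w, rfl⟩
    exact ⟨_, hcomm j w⟩

theorem isClosedImmersion_map {ι : Type u} (X X₀ : ι → Scheme.{u}) (i : ∀ j, X₀ j ⟶ X j)
    [∀ j, IsClosedImmersion (i j)] : IsClosedImmersion (Limits.Sigma.map i) := by
  refine IsZariskiLocalAtTarget.of_openCover (𝒰 := sigmaOpenCover X) fun j => ?_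
  have hp : IsPullback (i j) (Sigma.ι X₀ j) (Sigma.ι X j) (Limits.Sigma.map i) := by
    refine IsOpenImmersion.isPullback _ _ _ _ (Limits.Sigma.ι_map _ _) ?_
    ext z
    obtain ⟨k, w, rfl⟩ := exists_sigma_eq X₀ z
    show (Limits.Sigma.map i).base ((Sigma.ι X₀ k).base w) ∈ Set.range (Sigma.ι X j).base ↔
      (Sigma.ι X₀ k).base w ∈ Set.range (Sigma.ι X₀ j).base
    rw [← Scheme.Hom.comp_apply, Limits.Sigma.ι_map, Scheme.Hom.comp_apply]
    constructor
    · rintro ⟨x, hx⟩
      obtain rfl : j = k := congrArg Sigma.fst ((sigmaι_eq_iff X _ _ _ _).mp hx)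
      exact ⟨w, rfl⟩
    · rintro ⟨x, hx⟩
      obtain rfl : j = k := congrArg Sigma.fst ((sigmaι_eq_iff X₀ _ _ _ _).mp hx)
      exact ⟨_, rfl⟩
  show IsClosedImmersion (pullback.snd (Limits.Sigma.map i) (Sigma.ι X j))
  rw [← hp.flip.isoPullback_inv_snd]
  exact (MorphismProperty.cancel_left_of_respectsIso @IsClosedImmersion _ _).mpr (‹∀ j, IsClosedImmersion (i j)› j)

/-- Let (X_j) be a family of schemes indexed by a type ι, with closed immersions i_j : X_{j,0} ⟶ X_j,
and consider the induced morphism of disjoint unions ∐ X_{j,0} ⟶ ∐ X_j. Then the couple (∐ X_j, ∐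
X_{j,0}) is henselian (for every finite morphism g : Y ⟶ ∐ X_j, every open-closed subset of the
fibre product of Y with ∐ X_{j,0} is the inverse image under the first projection of exactly one
open-closed subset of Y) if and only if each couple (X_j, X_{j,0}) is henselian. -/
theorem result {ι : Type u} (X X₀ : ι → Scheme.{u})
    (i : ∀ j, X₀ j ⟶ X j) [∀ j, IsClosedImmersion (i j)] :
    (∀ (Y : Scheme.{u}) (g : Y ⟶ ∐ X), IsFinite g →
      ∀ V : Set ↥(pullback g (Limits.Sigma.map i)), IsClopen V →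
        ∃! U : Set ↥Y, IsClopen U ∧ (pullback.fst g (Limits.Sigma.map i)).base ⁻¹' U = V) ↔
    ∀ j : ι, ∀ (Y : Scheme.{u}) (g : Y ⟶ X j), IsFinite g →
      ∀ V : Set ↥(pullback g (i j)), IsClopen V →
        ∃! U : Set ↥Y, IsClopen U ∧ (pullback.fst g (i j)).base ⁻¹' U = V := by
  have := isClosedImmersion_map X X₀ i
  constructor
  · intro h j Y g hg
    have := isFinite_sigmaι X j
    have h1 : Hens.ClopenLift (pullback.fst (g ≫ Sigma.ι X j) (Limits.Sigma.map i)).base :=
      h Y (g ≫ Sigma.ι X j) inferInstance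
    refine h1.congr_range (pullback.fst _ (Limits.Sigma.map i)).isClosedEmbedding.isEmbedding
      (pullback.fst g (i j)).isClosedEmbedding.isEmbedding ?_
    rw [Scheme.Pullback.range_fst, Scheme.Pullback.range_fst]
    ext y
    rw [Set.mem_preimage, Set.mem_preimage, Scheme.Hom.comp_apply]
    exact mem_range_map_iff X X₀ i j _
  · intro h Y g hg V hV
    let gj := fun j => pullback.snd g (Sigma.ι X j)
    let pj := fun j => pullback.fst g (Sigma.ι X j)
    let Zs : Set ↥Y := Set.range (pullback.fst g (Limits.Sigma.map i)).base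
    have hemb := (pullback.fst g (Limits.Sigma.map i)).isClosedEmbedding.isEmbedding
    -- the trace of `V` on each piece
    have hlift : ∀ j, ∃! U : Set ↥(pullback g (Sigma.ι X j)), IsClopen U ∧
        ∀ y, (pj j).base y ∈ Zs → (y ∈ U ↔ (pj j).base y ∈ (pullback.fst g (Limits.Sigma.map i)).base '' V) := by
      intro j
      have hfin : IsFinite (gj j) := inferInstance
      have hr : ∀ y, (pj j).base y ∈ Zs ↔ y ∈ Set.range (pullback.fst (gj j) (i j)).base := by
        intro y
        show _ ∈ Set.range _ ↔ _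
        rw [Scheme.Pullback.range_fst, Scheme.Pullback.range_fst, Set.mem_preimage, Set.mem_preimage,
          ← Scheme.Hom.comp_apply, pullback.condition, Scheme.Hom.comp_apply]
        exact mem_range_map_iff X X₀ i j _
      let q := hemb.toHomeomorph
      let c : ↥(pullback (gj j) (i j)) → ↥(pullback g (Limits.Sigma.map i)) := fun p =>
        q.symm ⟨(pj j).base ((pullback.fst (gj j) (i j)).base p), (hr _).mpr ⟨p, rfl⟩⟩
      have hc : Continuous c := q.symm.continuous.comp
        (((pj j).continuous.comp (pullback.fst (gj j) (i j)).continuous).subtype_mk _)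
      have hc' : ∀ p, (pj j).base ((pullback.fst (gj j) (i j)).base p) ∈
          (pullback.fst g (Limits.Sigma.map i)).base '' V ↔ p ∈ c ⁻¹' V := by
        intro p
        have e : (pullback.fst g (Limits.Sigma.map i)).base (c p) =
            (pj j).base ((pullback.fst (gj j) (i j)).base p) :=
          congrArg Subtype.val (q.apply_symm_apply _)
        rw [← e, hemb.injective.mem_set_image]
        rfl
      obtain ⟨U, ⟨hU, hUV⟩, huniq⟩ := h j _ (gj j) hfin (c ⁻¹' V) (hV.preimage hc)
      refine ⟨U, ⟨hU, fun y hy => ?_⟩, fun U' ⟨hU', hUV'⟩ => huniq U' ⟨hU', ?_⟩⟩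
      · obtain ⟨p, rfl⟩ := (hr y).mp hy
        rw [hc', ← hUV]
        rfl
      · ext p
        rw [← hc']
        exact hUV' _ ((hr _).mpr ⟨p, rfl⟩)
    choose U hU huniq using hlift
    have hjoint : ∀ y : ↥Y, ∃ j w, (pj j).base w = y := fun y => by
      obtain ⟨k, x, hx⟩ := exists_sigma_eq X (g.base y)
      have : y ∈ Set.range (pj k).base := by
        rw [Scheme.Pullback.range_fst]
        exact ⟨x, hx⟩
      exact ⟨k, this⟩
    have hsame : ∀ {j k} {w w'}, (pj j).base w = (pj k).base w' → j = k := by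
      intro j k w w' e
      have e' := congrArg g.base e
      rw [← Scheme.Hom.comp_apply, ← Scheme.Hom.comp_apply, pullback.condition, pullback.condition,
        Scheme.Hom.comp_apply, Scheme.Hom.comp_apply] at e'
      exact congrArg Sigma.fst ((sigmaι_eq_iff X _ _ _ _).mp e')
    have hpre : ∀ j, (pj j).base ⁻¹' (⋃ k, (pj k).base '' U k) = U j := by
      intro j
      ext w
      simp only [Set.mem_preimage, Set.mem_iUnion]
      constructor
      · rintro ⟨k, w', hw', e⟩
        obtain rfl := hsame e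
        exact (pj k).isOpenEmbedding.injective e ▸ hw'
      · exact fun hw => ⟨j, w, hw, rfl⟩
    have hclopen : IsClopen (⋃ k, (pj k).base '' U k) := by
      refine ⟨?_, isOpen_iUnion fun k => (pj k).isOpenEmbedding.isOpenMap _ (hU k).1.2⟩
      rw [← isOpen_compl_iff, show (⋃ k, (pj k).base '' U k)ᶜ = ⋃ k, (pj k).base '' (U k)ᶜ by
        ext y
        obtain ⟨j, w, rfl⟩ := hjoint y
        simp only [Set.mem_compl_iff, Set.mem_iUnion]
        rw [show (∃ k, (pj j).base w ∈ (pj k).base '' U k) ↔ w ∈ U j by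
          rw [← hpre j]; simp]
        constructor
        · exact fun hw => ⟨j, w, hw, rfl⟩
        · rintro ⟨k, w', hw', e⟩
          obtain rfl := hsame e
          exact (pj k).isOpenEmbedding.injective e ▸ hw']
      exact isOpen_iUnion fun k => (pj k).isOpenEmbedding.isOpenMap _ (hU k).1.1.isOpen_compl
    refine ⟨_, ⟨hclopen, ?_⟩, fun U' ⟨hU', hUV'⟩ => ?_⟩
    · ext p
      obtain ⟨j, w, hw⟩ := hjoint ((pullback.fst g (Limits.Sigma.map i)).base p)
      have h2 := (hU j).2 w (hw ▸ ⟨p, rfl⟩)
      rw [hw, hemb.injective.mem_set_image] at h2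
      rw [← h2, Set.mem_preimage, ← hw, ← Set.mem_preimage, hpre]
    · have : ∀ j, (pj j).base ⁻¹' U' = U j := fun j => huniq j _ ⟨hU'.preimage (pj j).continuous,
        fun y hy => by
          obtain ⟨p, hp⟩ := hy
          rw [← hp, hemb.injective.mem_set_image, ← hUV']
          exact iff_of_eq (congrArg (· ∈ U') hp).symm⟩
      ext y
      obtain ⟨j, w, rfl⟩ := hjoint y
      rw [← Set.mem_preimage, this, ← hpre j]
      rfl

end Groth.Agent.S17964
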