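import Groth.Statements.S17966
import Groth.Agent.Lib.PiOne25.EssSurj
import Groth.Agent.Lib.HensProper6.Apps
-- import your own Groth.Agent.* helpers here

set_option autoImplicit false
open CategoryTheory CategoryTheory.Limits AlgebraicGeometry
universe u
open Pi1

namespace Groth.Agent.S17966

/-- Let A be a Noetherian ring, I an ideal of A, f : X ⟶ Spec A a proper morphism, i : X₀ = X ×_{Spec A}
Spec (A/I) ⟶ X the first projection, and assume that (X, X₀) is a henselian couple (for every finite
morphism g : Y ⟶ X, every open-closed subset of Y ×_X X₀ is the inverse image under the first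
projection of exactly one open-closed subset of Y). Then for every finite morphism g : X' ⟶ X, base
change of finite etale covers along the first projection X' ×_X X₀ ⟶ X' is an equivalence of
categories. -/
theorem result
    (A : Type u) [CommRing A] [IsNoetherianRing A] (I : Ideal A) {X : Scheme.{u}}
    (f : X ⟶ Spec (CommRingCat.of A)) [IsProper f]
    (hX : ∀ (Y : Scheme.{u}) (g : Y ⟶ X), IsFinite g →
      ∀ V : Set ↥(pullback g (pullback.fst f (Spec.map (CommRingCat.ofHom (Ideal.Quotient.mk I))))), IsClopen V →
        ∃! U : Set ↥Y, IsClopen U ∧ (pullback.fst g (pullback.fst f (Spec.map (CommRingCat.ofHom (Ideal.Quotient.mk I))))).base ⁻¹' U = V)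
    {X' : Scheme.{u}} (g : X' ⟶ X) [IsFinite g] :
    (FEt.restrict (pullback.fst g (pullback.fst f (Spec.map (CommRingCat.ofHom (Ideal.Quotient.mk I)))))).IsEquivalence := by
  let q := Spec.map (CommRingCat.ofHom (Ideal.Quotient.mk I))
  haveI : IsProper (g ≫ f) := inferInstance
  obtain ⟨A', _, I', _, _, f', _, t, hsq⟩ := Groth.Agent.HensProper6.exists_proper_over_henselian I (g ≫ f)
    (fun Y h hh => by
      haveI := hh
      let e := asIso (pullback.map h (pullback.fst g (pullback.fst f q)) h (pullback.fst (g ≫ f) q) (𝟙 Y)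
        (pullbackRightPullbackFstIso f q g).hom (𝟙 X') (by simp) (by rw [Category.comp_id, pullbackRightPullbackFstIso_hom_fst]))
      let e' := (pullbackRightPullbackFstIso g (pullback.fst f q) h).symm ≪≫ e
      have he : e'.hom ≫ pullback.fst h (pullback.fst (g ≫ f) q) = pullback.fst (h ≫ g) (pullback.fst f q) := by
        show ((pullbackRightPullbackFstIso g (pullback.fst f q) h).inv ≫ e.hom) ≫ _ = _
        rw [Category.assoc, show e.hom ≫ pullback.fst h (pullback.fst (g ≫ f) q) = pullback.fst h (pullback.fst g (pullback.fst f q)) from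
          (pullback.lift_fst _ _ _).trans (Category.comp_id _)]
        exact pullbackRightPullbackFstIso_inv_fst _ _ _
      intro V hV
      obtain ⟨U, ⟨hU, hUV⟩, huniq⟩ := hX Y (h ≫ g) inferInstance (e'.hom ⁻¹' V) (hV.preimage e'.hom.continuous)
      have key : ∀ U' : Set Y, (pullback.fst h (pullback.fst (g ≫ f) q)).base ⁻¹' U' = V ↔
          (pullback.fst (h ≫ g) (pullback.fst f q)).base ⁻¹' U' = e'.hom ⁻¹' V := fun U' => by
        rw [← he, Scheme.Hom.comp_base, TopCat.coe_comp, Set.preimage_comp]
        refine (Set.preimage_eq_preimage ?_).symm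
        exact e'.hom.surjective
      exact ⟨U, ⟨hU, (key U).2 hUV⟩, fun U' hU' => huniq U' ⟨hU'.1, (key U').1 hU'.2⟩⟩)
  haveI := Groth.Agent.PiOne25.isEquivalence_closedFibre A' I' f'
  let a := (pullbackRightPullbackFstIso f q g).hom ≫ hsq.isoPullback.hom
  haveI : IsIso a := inferInstance
  refine Groth.Agent.PureLift25.isEquivalence_restrict_of_iso_comp a (𝟙 X')
    (k := pullback.fst f' (Spec.map (CommRingCat.ofHom (Ideal.Quotient.mk I')))) ?_
  rw [Category.comp_id, Category.assoc, hsq.isoPullback_hom_fst, pullbackRightPullbackFstIso_hom_fst]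

end Groth.Agent.S17966
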