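import Groth.Statements.S17969
import Mathlib
import Groth.Agent.Lib.RegLoc.UFD

set_option autoImplicit false
universe u
open scoped TensorProduct
open CAlg

namespace Groth.Agent.S17969
open TensorProduct

/-- Let A be an integrally closed domain with fraction field K and B a commutative A-algebra which is
finite and torsion-free as an A-module and generated as an A-algebra by a single element x. Let P be
the characteristic polynomial of multiplication by 1 ⊗ x on the finite free K-module K ⊗_A B. Then P
has coefficients in A, namely P is the image of a monic polynomial over A, and the kernel of the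
A-algebra map A[T] → B sending T to x is generated by that polynomial, so that B is A[T]/(P). -/
theorem result
    (A : Type u) [CommRing A] [IsDomain A] [IsIntegrallyClosed A]
    (B : Type u) [CommRing B] [Algebra A B] [Module.Finite A B] [NoZeroSMulDivisors A B]
    (x : B) (hx : Algebra.adjoin A {x} = ⊤) :
    ∃ P : Polynomial A, P.Monic ∧
      Polynomial.map (algebraMap A (FractionRing A)) P =
        (LinearMap.mulLeft (FractionRing A) ((1 : FractionRing A) ⊗ₜ[A] x)).charpoly ∧
      RingHom.ker (Polynomial.aeval x).toRingHom = Ideal.span {P} := by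
  classical
  let K := FractionRing A
  let y : K ⊗[A] B := 1 ⊗ₜ x
  have haev : ∀ Q : Polynomial A, Polynomial.aeval y (Q.map (algebraMap A K)) = (1 : K) ⊗ₜ[A] (Polynomial.aeval x Q) := fun Q => by
    rw [Polynomial.aeval_map_algebraMap]
    exact Polynomial.aeval_algHom_apply (Algebra.TensorProduct.includeRight : B →ₐ[A] K ⊗[A] B) x Q
  have hinj : ∀ b : B, ((1 : K) ⊗ₜ[A] b) = 0 → b = 0 := fun b hb => by
    obtain ⟨c, hc⟩ := (IsLocalizedModule.eq_zero_iff (nonZeroDivisors A) (TensorProduct.mk A K B 1)).1 hb
    exact (smul_eq_zero.1 hc).resolve_left (nonZeroDivisors.coe_ne_zero c)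
  obtain ⟨P0, hP0, hP0x⟩ := IsIntegral.of_finite A x
  have hy : IsIntegral K y := ⟨P0.map (algebraMap A K), hP0.map _, by
    rw [← Polynomial.aeval_def, haev, Polynomial.aeval_def, hP0x, tmul_zero]⟩
  have hgen : Algebra.adjoin K {y} = ⊤ := by
    rw [eq_top_iff]
    rintro z -
    induction z using TensorProduct.induction_on with
    | zero => exact zero_mem _
    | add a b ha hb => exact add_mem ha hb
    | tmul c b =>
      obtain ⟨Q, rfl⟩ : ∃ Q : Polynomial A, Polynomial.aeval x Q = b := by
        have : b ∈ Algebra.adjoin A {x} := hx ▸ Algebra.mem_top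
        rwa [Algebra.adjoin_singleton_eq_range_aeval] at this
      rw [show c ⊗ₜ[A] (Polynomial.aeval x Q) = c • ((1 : K) ⊗ₜ[A] (Polynomial.aeval x Q)) by rw [TensorProduct.smul_tmul', smul_eq_mul, mul_one], ← haev]
      exact Subalgebra.smul_mem _ (Polynomial.aeval_mem_adjoin_singleton K y) c
  let pb : PowerBasis K (K ⊗[A] B) := PowerBasis.ofAdjoinEqTop hy hgen
  have hchar : (LinearMap.mulLeft K y).charpoly = minpoly K y := by
    rw [← LinearMap.charpoly_toMatrix _ pb.basis, show y = pb.gen from (PowerBasis.ofAdjoinEqTop_gen hy hgen).symm, ← charpoly_leftMulMatrix pb]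
    rfl
  have hdvd : minpoly K y ∣ P0.map (algebraMap A K) := minpoly.dvd K y (by rw [haev, Polynomial.aeval_def, hP0x, tmul_zero])
  obtain ⟨P, hP⟩ := IsIntegrallyClosed.eq_map_mul_C_of_dvd K hP0 hdvd
  rw [(minpoly.monic hy).leadingCoeff, Polynomial.C_1, mul_one] at hP
  have hPm : P.Monic := Polynomial.monic_of_injective (IsFractionRing.injective A K) (hP ▸ minpoly.monic hy)
  refine ⟨P, hPm, hP.trans hchar.symm, ?_⟩
  ext Q
  rw [RingHom.mem_ker, Ideal.mem_span_singleton]
  show Polynomial.aeval x Q = 0 ↔ P ∣ Q
  constructor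
  · intro h
    rw [← Polynomial.map_dvd_map _ (IsFractionRing.injective A K) hPm, hP]
    exact minpoly.dvd K y (by rw [haev, h, tmul_zero])
  · intro h
    refine hinj _ ?_
    rw [← haev]
    obtain ⟨R0, rfl⟩ := h
    rw [Polynomial.map_mul, map_mul, hP, minpoly.aeval, zero_mul]

end Groth.Agent.S17969
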