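import Groth.Statements.S1797
import Groth.Agent.Lib.HLV27.NormalExc
-- import your own Groth.Agent.* helpers here

set_option autoImplicit false
universe u
open LocCoh

namespace Groth.Agent.S1797

/-- Let A be an excellent normal Noetherian local ring (an integrally closed domain) and I an ideal with
dim V(I) ≥ 1, i.e. dim A/I ≥ 1. Then cd(A, I) < dim A: for every A-module M, H^i_I(M) = 0 whenever i
≥ dim A. Moreover, if dim A = 2 then the open subscheme Spec A ∖ V(I) is affine. -/
theorem result (A : Type u) [CommRing A] [IsDomain A] [IsLocalRing A] [IsNoetherianRing A] [IsIntegrallyClosed A] (hA : EGA4.IsExcellent A) (I : Ideal A) (hI : (1 : WithBot ℕ∞) ≤ ringKrullDim (A ⧸ I)) : (∀ (M : Type u) [AddCommGroup M] [Module A M] (i : ℕ), ringKrullDim A ≤ (i : WithBot ℕ∞) → Subsingleton (LocCoh.H I i M)) ∧ (ringKrullDim A = 2 → AlgebraicGeometry.IsAffine (↑(LocCoh.puncturedOpen A I) : AlgebraicGeometry.Scheme.{u})) := by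
  obtain ⟨d, hd⟩ := Groth.Agent.RegLoc.exists_dim_eq_nat (R := A)
  exact ⟨fun M _ _ i hi => Groth.Agent.HLV27.cd_lt_dim A hA.2.2.1 I hI d hd M i (Nat.cast_le.1 (hd ▸ hi)),
    fun h2 => Groth.Agent.HLV27.isAffine_punctured A hA.2.2.1 I hI h2⟩

end Groth.Agent.S1797
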