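import Groth.Statements.S17973
import Mathlib
import Groth.Agent.Lib.Hens.EssEtale
-- import your own Groth.Agent.* helpers here

set_option autoImplicit false
universe u
open EGA4loc

attribute [local instance] MvPolynomial.algebraMvPolynomial

namespace Groth.Agent.S17973

/-- Let A be a local ring, B a local ring which is a local-etale A-algebra (isomorphic over A to the
localization of an etale A-algebra at a prime ideal lying over the maximal ideal of A), and C a
local-etale B-algebra, regarded as an A-algebra through B. Then C is a local-etale A-algebra. -/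
theorem result (A : Type u) [CommRing A] [IsLocalRing A]
    (B : Type u) [CommRing B] [IsLocalRing B] [Algebra A B]
    (C : Type u) [CommRing C] [Algebra B C] [Algebra A C] [IsScalarTower A B C]
    (hB : EGA4loc.IsEssentiallyEtale A B) (hC : EGA4loc.IsEssentiallyEtale B C) :
    EGA4loc.IsEssentiallyEtale A C := by
  obtain ⟨hfB, heB⟩ := Hens.essEtale_formallyEtale hB
  obtain ⟨C1, _, _, q, _, hC1, hq, ⟨eB⟩⟩ := hB
  obtain ⟨D, _, _, q', _, hD, hq', ⟨eC⟩⟩ := hC
  letI : Algebra C1 B := (eB.symm.toAlgHom.toRingHom.comp (algebraMap C1 (Localization.AtPrime q))).toAlgebra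
  haveI : IsScalarTower A C1 B := IsScalarTower.of_algebraMap_eq fun a => by
    show _ = eB.symm (algebraMap C1 (Localization.AtPrime q) (algebraMap A C1 a))
    rw [← IsScalarTower.algebraMap_apply, AlgEquiv.commutes]
  haveI hlocB : IsLocalization q.primeCompl B := by
    let e' : Localization.AtPrime q ≃ₐ[C1] B :=
      { eB.symm with commutes' := fun c => rfl }
    exact IsLocalization.isLocalization_of_algEquiv q.primeCompl e'
  letI : Algebra A D := ((algebraMap B D).comp (algebraMap A B)).toAlgebra
  haveI : IsScalarTower A B D := IsScalarTower.of_algebraMap_eq fun a => rfl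
  haveI : Algebra.FormallyEtale A D := Algebra.FormallyEtale.comp A B D
  haveI : Algebra.FormallyEtale D (Localization.AtPrime q') :=
    Algebra.FormallyEtale.of_isLocalization q'.primeCompl
  haveI hfeC : Algebra.FormallyEtale A (Localization.AtPrime q') :=
    Algebra.FormallyEtale.comp A D _
  obtain ⟨n, π, hπ, hJ⟩ := Algebra.FinitePresentation.out (R := B) (A := D)
  let M : Submonoid (MvPolynomial (Fin n) C1) := q.primeCompl.map MvPolynomial.C
  haveI : IsLocalization M (MvPolynomial (Fin n) B) := inferInstance
  let J := RingHom.ker π.toRingHom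
  obtain ⟨s, hs⟩ := hJ
  choose num den hnd0 using fun p : MvPolynomial (Fin n) B => IsLocalization.exists_mk'_eq M p
  have hnd : ∀ p : MvPolynomial (Fin n) B, p * algebraMap _ (MvPolynomial (Fin n) B) (den p : MvPolynomial (Fin n) C1) =
      algebraMap _ (MvPolynomial (Fin n) B) (num p) := fun p => by
    conv_lhs => arg 1; rw [← hnd0 p]
    exact IsLocalization.mk'_spec _ _ _
  classical
  let J0 : Ideal (MvPolynomial (Fin n) C1) := Ideal.span ((fun p => (num p, den p).1) '' (s : Set _))
  have hJ0fg : J0.FG := Submodule.fg_span (s.finite_toSet.image _)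
  have hmapJ : J0.map (algebraMap _ (MvPolynomial (Fin n) B)) = J := by
    rw [Ideal.map_span, ← Set.image_comp]
    refine le_antisymm (Ideal.span_le.mpr ?_) ?_
    · rintro _ ⟨p, hp, rfl⟩
      show algebraMap _ _ (num p) ∈ J
      rw [← hnd]
      exact Ideal.mul_mem_right _ _ (hs.le (Ideal.subset_span hp))
    · show RingHom.ker π.toRingHom ≤ _
      rw [← hs, Submodule.span_le]
      intro p hp
      have : algebraMap _ (MvPolynomial (Fin n) B) (num p) ∈
          Ideal.span ((algebraMap _ (MvPolynomial (Fin n) B) ∘ fun p => (num p, den p).1) '' (s : Set _)) :=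
        Ideal.subset_span ⟨p, hp, rfl⟩
      rw [← hnd] at this
      exact (Ideal.mul_unit_mem_iff_mem _ (IsLocalization.map_units _ (den p))).mp this
  let E := MvPolynomial (Fin n) C1 ⧸ J0
  haveI : Algebra.FinitePresentation C1 E := Algebra.FinitePresentation.quotient hJ0fg
  haveI : Algebra.FinitePresentation A E := Algebra.FinitePresentation.trans A C1 E
  let ρ : MvPolynomial (Fin n) C1 →+* D :=
    π.toRingHom.comp (algebraMap _ (MvPolynomial (Fin n) B))
  have hρ0 : ∀ x ∈ J0, ρ x = 0 := fun x hx => by
    have : algebraMap _ (MvPolynomial (Fin n) B) x ∈ J := hmapJ ▸ Ideal.mem_map_of_mem _ hx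
    exact this
  let ψ : E →+* D := Ideal.Quotient.lift J0 ρ hρ0
  letI : Algebra E D := ψ.toAlgebra
  let S : Submonoid E := M.map (Ideal.Quotient.mk J0)
  haveI : IsLocalization S D := by
    refine ⟨fun y => ?_, fun z => ?_, fun {x y} hxy => ?_⟩
    · obtain ⟨m, hm, hy⟩ := y.2
      rw [← hy]
      exact (IsLocalization.map_units (MvPolynomial (Fin n) B) ⟨m, hm⟩).map π
    · obtain ⟨r, rfl⟩ := hπ z
      refine ⟨(Ideal.Quotient.mk J0 (num r), ⟨_, ⟨_, (den r).2, rfl⟩⟩), ?_⟩
      show π r * π (algebraMap _ _ (den r : MvPolynomial (Fin n) C1)) = π (algebraMap _ _ (num r))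
      rw [← map_mul, hnd]
    · obtain ⟨x, rfl⟩ := Ideal.Quotient.mk_surjective x
      obtain ⟨y, rfl⟩ := Ideal.Quotient.mk_surjective y
      have h0 : algebraMap _ (MvPolynomial (Fin n) B) (x - y) ∈ J := by
        show π _ = 0
        rw [map_sub, map_sub, sub_eq_zero]
        exact hxy
      rw [← hmapJ, IsLocalization.algebraMap_mem_map_algebraMap_iff M] at h0
      obtain ⟨m, hm, hmem⟩ := h0
      refine ⟨⟨_, ⟨m, hm, rfl⟩⟩, ?_⟩
      rw [← map_mul, ← map_mul, Ideal.Quotient.eq, ← mul_sub]
      exact hmem
  let Q : Ideal E := q'.comap (algebraMap E D)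
  haveI : IsLocalization.AtPrime (Localization.AtPrime q') Q :=
    IsLocalization.isLocalization_isLocalization_atPrime_isLocalization S (Localization.AtPrime q') q'
  have hψA : ∀ a, ψ (algebraMap A E a) = algebraMap A D a := fun a => by
    show π (algebraMap _ (MvPolynomial (Fin n) B) (algebraMap A (MvPolynomial (Fin n) C1) a)) = _
    rw [IsScalarTower.algebraMap_apply A B D, ← π.commutes]
    congr 1
    rw [IsScalarTower.algebraMap_apply A C1 B]
    simp [IsScalarTower.algebraMap_apply A C1 (MvPolynomial (Fin n) C1)]
  haveI : IsScalarTower A E (Localization.AtPrime q') := IsScalarTower.of_algebraMap_eq fun a => by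
    rw [IsScalarTower.algebraMap_apply E D (Localization.AtPrime q') (algebraMap A E a),
      show algebraMap E D (algebraMap A E a) = algebraMap A D a from hψA a,
      ← IsScalarTower.algebraMap_apply]
  haveI : Algebra.IsEtaleAt A Q := Algebra.FormallyEtale.of_equiv
    ((IsLocalization.algEquiv Q.primeCompl (Localization.AtPrime q') (Localization.AtPrime Q)).restrictScalars A)
  obtain ⟨f, hf, het⟩ := Algebra.exists_etale_of_isEtaleAt (R := A) Q
  have hdisj : Disjoint (Submonoid.powers f : Set E) (Q : Set E) :=
    (Ideal.disjoint_powers_iff_notMem_of_isPrime f).mpr hf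
  let Qf : Ideal (Localization.Away f) := Q.map (algebraMap E (Localization.Away f))
  haveI : Qf.IsPrime := IsLocalization.isPrime_of_isPrime_disjoint (Submonoid.powers f) _ Q inferInstance hdisj
  have hQf : Qf.comap (algebraMap E (Localization.Away f)) = Q :=
    IsLocalization.under_map_of_isPrime_disjoint (Submonoid.powers f) _ inferInstance hdisj
  haveI hatQ : IsLocalization.AtPrime (Localization.AtPrime Qf) (Qf.comap (algebraMap E (Localization.Away f))) :=
    IsLocalization.isLocalization_isLocalization_atPrime_isLocalization (Submonoid.powers f) _ Qf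
  simp only [hQf] at hatQ
  have hq'D : q'.comap (algebraMap B D) = IsLocalRing.maximalIdeal B := hq'
  refine ⟨Localization.Away f, inferInstance, inferInstance, Qf, inferInstance, het, ?_, ⟨?_⟩⟩
  · rw [IsScalarTower.algebraMap_eq A E (Localization.Away f), ← Ideal.comap_comap, hQf,
      Ideal.comap_comap, show (algebraMap E D).comp (algebraMap A E) = algebraMap A D from RingHom.ext hψA,
      IsScalarTower.algebraMap_eq A B D, ← Ideal.comap_comap, hq'D]
    have hlocal : IsLocalHom (algebraMap A B) := by
      refine ⟨fun a ha => ?_⟩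
      have h1 : IsUnit (algebraMap C1 (Localization.AtPrime q) (algebraMap A C1 a)) := by
        rw [← IsScalarTower.algebraMap_apply, ← eB.commutes]
        exact ha.map eB
      rw [IsLocalization.AtPrime.isUnit_to_map_iff (Localization.AtPrime q) q] at h1
      by_contra hna
      exact h1 (Ideal.mem_comap.mp (hq.symm ▸ hna))
    exact ((IsLocalRing.local_hom_TFAE (algebraMap A B)).out 0 4 rfl rfl).mp hlocal
  · let e1 : Localization.AtPrime q' ≃ₐ[A] Localization.AtPrime Qf :=
      (IsLocalization.algEquiv Q.primeCompl (Localization.AtPrime q') (Localization.AtPrime Qf)).restrictScalars A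
    exact (eC.restrictScalars A).trans e1

end Groth.Agent.S17973
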