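import Groth.Statements.S17974
import Mathlib.RingTheory.Ideal.IdempotentFG
import Mathlib.RingTheory.Unramified.Basic
import Mathlib.RingTheory.Kaehler.Basic
-- import your own Groth.Agent.* helpers here

set_option autoImplicit false
universe u
open Unram

namespace Groth.Agent.S17974

/-- Let A be a commutative ring, B an unramified A-algebra (formally unramified and of finite type), C
an A-algebra, p a prime ideal of C, and u, v : B → C two A-algebra homomorphisms which agree after
composition with C → C/p. Then there is an element f of C not in p such that u and v agree after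
composition with the localization map C → C[1/f]. -/
theorem result
    (A : Type u) [CommRing A] (B : Type u) [CommRing B] [Algebra A B]
    [Algebra.FormallyUnramified A B] [Algebra.FiniteType A B]
    (C : Type u) [CommRing C] [Algebra A C] (p : Ideal C) [p.IsPrime]
    (u v : B →ₐ[A] C)
    (huv : (Ideal.Quotient.mk p).comp u.toRingHom = (Ideal.Quotient.mk p).comp v.toRingHom) :
    ∃ f : C, f ∉ p ∧
      (algebraMap C (Localization.Away f)).comp u.toRingHom =
        (algebraMap C (Localization.Away f)).comp v.toRingHom := by
  obtain ⟨e, he, hsp⟩ : ∃ e, IsIdempotentElem e ∧ KaehlerDifferential.ideal A B = Submodule.span (TensorProduct A B B) {e} :=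
    (Ideal.isIdempotentElem_iff_of_fg _ (KaehlerDifferential.ideal_fg A B)).mp <|
      (Ideal.cotangent_subsingleton_iff _).mp (inferInstanceAs (Subsingleton (KaehlerDifferential A B)))
  let W : TensorProduct A B B →ₐ[A] C := Algebra.TensorProduct.lift u v fun _ _ => Commute.all _ _
  have hmem : e ∈ KaehlerDifferential.ideal A B := hsp ▸ Submodule.mem_span_singleton_self e
  have hεp : W e ∈ p := by
    let uq : B →ₐ[A] C ⧸ p := (Ideal.Quotient.mkₐ A p).comp u
    have hcomp : (Ideal.Quotient.mkₐ A p).comp W = uq.comp (Algebra.TensorProduct.lmul' A) := by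
      ext x
      · simp [W, uq]
      · simpa [W, uq] using (RingHom.congr_fun huv x).symm
    have h1 := DFunLike.congr_fun hcomp e
    rw [AlgHom.comp_apply, AlgHom.comp_apply, (RingHom.mem_ker.1 hmem : Algebra.TensorProduct.lmul' A e = 0),
      map_zero] at h1
    exact Ideal.Quotient.eq_zero_iff_mem.1 h1
  refine ⟨1 - W e, fun hf => ‹p.IsPrime›.ne_top ((Ideal.eq_top_iff_one p).2 (by simpa using p.add_mem hf hεp)), ?_⟩
  have hid : (1 - W e) * W e = 0 := by
    rw [sub_mul, one_mul, ← map_mul, he.eq, sub_self]
  have h0 : algebraMap C (Localization.Away (1 - W e)) (W e) = 0 := by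
    refine (IsLocalization.map_eq_zero_iff (Submonoid.powers (1 - W e)) _ _).2 ⟨⟨_, Submonoid.mem_powers _⟩, hid⟩
  refine RingHom.ext fun b => sub_eq_zero.1 ?_
  have hb : TensorProduct.tmul A b (1 : B) - TensorProduct.tmul A (1 : B) b ∈ Submodule.span (TensorProduct A B B) {e} := by
    rw [← hsp]
    simp [KaehlerDifferential.ideal]
  obtain ⟨c, hc⟩ := Submodule.mem_span_singleton.1 hb
  have hd : W (TensorProduct.tmul A b (1 : B) - TensorProduct.tmul A (1 : B) b) = u b - v b := by simp [W]
  rw [RingHom.comp_apply, RingHom.comp_apply, ← map_sub]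
  show algebraMap C _ (u b - v b) = 0
  rw [← hd, ← hc, smul_eq_mul, map_mul, map_mul, h0, mul_zero]

end Groth.Agent.S17974
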