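import Groth.Statements.S17975
import Groth.Agent.Lib.Hens.Finite
-- import your own Groth.Agent.* helpers here

set_option autoImplicit false
universe u
open Hensel

namespace Groth.Agent.S17975

/-- Let A be a local ring with maximal ideal m and residue field k, C a commutative A-algebra which is
finitely generated as an A-module, Q₀ a monic polynomial of degree n over k, e an A-algebra
isomorphism from C/mC to k[T]/(Q₀), and x an element of C whose class is sent by e to the class of
T. Then x generates C as an A-algebra, and x is a root of a monic polynomial Q over A of degree n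
whose reduction modulo m equals Q₀. -/
theorem result
    (A : Type u) [CommRing A] [IsLocalRing A] (C : Type u) [CommRing C] [Algebra A C] [Module.Finite A C]
    (Q₀ : Polynomial (IsLocalRing.ResidueField A)) (hQ₀ : Q₀.Monic)
    (e : (C ⧸ Ideal.map (algebraMap A C) (IsLocalRing.maximalIdeal A)) ≃ₐ[A] AdjoinRoot Q₀)
    (x : C) (hx : e (Ideal.Quotient.mk (Ideal.map (algebraMap A C) (IsLocalRing.maximalIdeal A)) x) = AdjoinRoot.root Q₀) :
    Algebra.adjoin A {x} = ⊤ ∧
      ∃ Q : Polynomial A, Q.Monic ∧ Q.natDegree = Q₀.natDegree ∧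
        Polynomial.map (IsLocalRing.residue A) Q = Q₀ ∧ Polynomial.aeval x Q = 0 := by
  let m' := Ideal.map (algebraMap A C) (IsLocalRing.maximalIdeal A)
  obtain ⟨Q₁, hQ₁, hd₁, hQ₁m⟩ := Polynomial.lifts_and_degree_eq_and_monic
    (Polynomial.mem_lifts_of_surjective IsLocalRing.residue_surjective Q₀) hQ₀
  have hev : ∀ p : Polynomial A, e (Ideal.Quotient.mk m' (Polynomial.aeval x p)) =
      AdjoinRoot.mk Q₀ (p.map (IsLocalRing.residue A)) := by
    intro p
    have : e (Ideal.Quotient.mk m' (Polynomial.aeval x p)) =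
        (e.toAlgHom.comp (Ideal.Quotient.mkₐ A m')) (Polynomial.aeval x p) := rfl
    rw [this, ← Polynomial.aeval_algHom_apply]
    show Polynomial.aeval (e (Ideal.Quotient.mk m' x)) p = _
    rw [hx, ← AdjoinRoot.aeval_eq, ← IsLocalRing.ResidueField.algebraMap_eq,
      Polynomial.aeval_map_algebraMap]
  have hgen : ∀ y : C, ∃ p : Polynomial A, y - Polynomial.aeval x p ∈ m' := by
    intro y
    obtain ⟨q, hq⟩ := AdjoinRoot.mk_surjective (e (Ideal.Quotient.mk m' y))
    obtain ⟨p, rfl⟩ := Polynomial.map_surjective _ IsLocalRing.residue_surjective q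
    refine ⟨p, Ideal.Quotient.eq.mp (e.injective ?_)⟩
    rw [hev, hq]
  have hQx : Polynomial.aeval x Q₁ ∈ m' := by
    rw [← Ideal.Quotient.eq_zero_iff_mem]
    apply e.injective
    rw [hev, hQ₁, map_zero, AdjoinRoot.mk_self]
  have hspan := Hens.span_pow_eq_top_of_monic (A := A) x Q₁ hQ₁m hgen hQx
  refine ⟨?_, ?_⟩
  · rw [eq_top_iff]
    intro y _
    have hy : y ∈ Submodule.span A (Set.range fun i : Fin Q₁.natDegree => x ^ (i : ℕ)) :=
      hspan ▸ Submodule.mem_top
    have hle : Submodule.span A (Set.range fun i : Fin Q₁.natDegree => x ^ (i : ℕ)) ≤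
        (Algebra.adjoin A {x}).toSubmodule :=
      Submodule.span_le.mpr (by
        rintro _ ⟨i, rfl⟩
        exact pow_mem (Algebra.subset_adjoin rfl : x ∈ Algebra.adjoin A {x}) _)
    exact hle hy
  obtain ⟨Q, hQ, hQd, hQ0⟩ := Hens.exists_monic_relation_of_span_eq_top x _ hspan
  have hd : Q.natDegree = Q₀.natDegree := by
    rw [hQd, ← hQ₁m.natDegree_map (IsLocalRing.residue A), hQ₁]
  refine ⟨Q, hQ, hd, ?_, hQ0⟩
  have h0 : AdjoinRoot.mk Q₀ (Q.map (IsLocalRing.residue A)) = 0 := by
    rw [← hev, hQ0, map_zero, map_zero]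
  rw [AdjoinRoot.mk_eq_zero] at h0
  exact Polynomial.eq_of_monic_of_dvd_of_natDegree_le hQ₀ (hQ.map _) h0
    (by rw [hQ.natDegree_map, hd])

end Groth.Agent.S17975
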