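import Groth.Prelude.Def_EssEt
import Mathlib
import Groth.Agent.Lib.Hens.EssEtale

set_option autoImplicit false
universe u
namespace EGA4loc
end EGA4loc
open EGA4loc

namespace Groth.Agent.S17977

/-- Let A be a local ring, B a local ring which is a local-etale A-algebra, and C a local ring with a
local structure map A → C. Then every A-algebra homomorphism B → C is local. (The source states this
for local ind-etale B, i.e. filtered colimits of local-etale algebras along local maps, and reduces
at once to the local-etale case stated here.) -/
theorem result (A : Type u) [CommRing A] [IsLocalRing A]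
    (B : Type u) [CommRing B] [IsLocalRing B] [Algebra A B] (hB : EGA4loc.IsEssentiallyEtale A B)
    (C : Type u) [CommRing C] [IsLocalRing C] [Algebra A C] [IsLocalHom (algebraMap A C)]
    (φ : B →ₐ[A] C) : IsLocalHom φ.toRingHom := by
  have h' := hB
  obtain ⟨E, _, _, q, _, hE, hq, ⟨e⟩⟩ := h'
  obtain ⟨hfe, heft⟩ := Hens.essEtale_formallyEtale hB
  have hle : (IsLocalRing.maximalIdeal A).map (algebraMap A B) ≤ IsLocalRing.maximalIdeal B := by
    rw [Ideal.map_le_iff_le_comap]
    intro a ha hu
    have h1 : IsUnit (algebraMap E (Localization.AtPrime q) (algebraMap A E a)) := by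
      rw [← IsScalarTower.algebraMap_apply, ← e.commutes]
      exact hu.map e
    rw [IsLocalization.AtPrime.isUnit_to_map_iff (Localization.AtPrime q) q] at h1
    rw [← hq] at ha
    exact h1 ha
  have : IsLocalHom (algebraMap A B) :=
    ((IsLocalRing.local_hom_TFAE (algebraMap A B)).out 0 2 rfl rfl).mpr hle
  refine ((IsLocalRing.local_hom_TFAE φ.toRingHom).out 0 2 rfl rfl).mpr ?_
  rw [← Algebra.FormallyUnramified.map_maximalIdeal (R := A) (S := B), Ideal.map_map,
    show φ.toRingHom.comp (algebraMap A B) = algebraMap A C from φ.comp_algebraMap]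
  exact ((IsLocalRing.local_hom_TFAE (algebraMap A C)).out 0 2 rfl rfl).mp ‹_›

end Groth.Agent.S17977
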