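import Groth.Statements.S17979
import Groth.Agent.Lib.Hens.Finite
-- import your own Groth.Agent.* helpers here

set_option autoImplicit false
universe u
open Hensel

namespace Groth.Agent.S17979

/-- Let A be a local ring with residue field k and Q, R polynomials over A with Q monic. If the images
of Q and R in k[T] generate the unit ideal, then Q and R already generate the unit ideal of A[T]. -/
theorem result (A : Type u) [CommRing A] [IsLocalRing A]
    (Q R : Polynomial A) (hQ : Q.Monic)
    (h : IsCoprime (Polynomial.map (IsLocalRing.residue A) Q) (Polynomial.map (IsLocalRing.residue A) R)) :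
    IsCoprime Q R := by
  have := hQ.finite_adjoinRoot
  have hunit : IsUnit (AdjoinRoot.mk Q R) := by
    rw [← Ideal.span_singleton_eq_top]
    by_contra hne
    obtain ⟨M, hM, hle⟩ := Ideal.exists_le_maximal _ hne
    have hRM := hle (Ideal.mem_span_singleton_self _)
    have : Algebra.IsIntegral A (AdjoinRoot Q) := Algebra.IsIntegral.of_finite A _
    have hmM := Hens.maximalIdeal_map_le (A := A) (⟨M, hM⟩ : MaximalSpectrum _)
    obtain ⟨u, v, huv⟩ := h
    obtain ⟨u, rfl⟩ := Polynomial.map_surjective _ IsLocalRing.residue_surjective u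
    obtain ⟨v, rfl⟩ := Polynomial.map_surjective _ IsLocalRing.residue_surjective v
    rw [← Polynomial.map_mul, ← Polynomial.map_mul, ← Polynomial.map_add,
      ← Polynomial.map_one (IsLocalRing.residue A), ← sub_eq_zero, ← Polynomial.map_sub] at huv
    have h1 : AdjoinRoot.mk Q (u * Q + v * R - 1) ∈
        (IsLocalRing.maximalIdeal A).map (algebraMap A (AdjoinRoot Q)) := by
      rw [← AdjoinRoot.aeval_eq, Polynomial.aeval_eq_sum_range]
      refine Submodule.sum_mem _ fun i _ => ?_
      rw [Algebra.smul_def]
      refine Ideal.mul_mem_right _ _ (Ideal.mem_map_of_mem _ ?_)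
      rw [← IsLocalRing.residue_eq_zero_iff, ← Polynomial.coeff_map, huv, Polynomial.coeff_zero]
    have h2 : AdjoinRoot.mk Q v * AdjoinRoot.mk Q R - AdjoinRoot.mk Q (u * Q + v * R - 1) = 1 := by
      simp [map_sub, map_add, map_mul]
    exact hM.ne_top ((Ideal.eq_top_iff_one _).mpr
      (h2 ▸ sub_mem (Ideal.mul_mem_left _ _ hRM) (hmM h1)))
  obtain ⟨w, hw⟩ := hunit.exists_left_inv
  obtain ⟨w, rfl⟩ := AdjoinRoot.mk_surjective w
  rw [← map_mul, ← map_one (AdjoinRoot.mk Q), AdjoinRoot.mk_eq_mk] at hw
  obtain ⟨c, hc⟩ := hw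
  exact ⟨-c, w, by linear_combination hc⟩

end Groth.Agent.S17979
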