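import Groth.Statements.S17980
import Groth.Agent.Lib.Hens.Finite
import Groth.Agent.S17979
-- import your own Groth.Agent.* helpers here

set_option autoImplicit false
universe u
open Hensel

namespace Groth.Agent.S17980

/-- Let A be a local ring with residue field k, and let Q R = U V be two factorizations of one
polynomial over A with Q and U monic, such that Q and U have the same image in k[T], R and V have
the same image in k[T], and the images of Q and R in k[T] generate the unit ideal. Then Q = U and R
= V. -/
theorem result (A : Type u) [CommRing A] [IsLocalRing A]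
    (Q R U V : Polynomial A) (hQ : Q.Monic) (hU : U.Monic)
    (hQU : Polynomial.map (IsLocalRing.residue A) Q = Polynomial.map (IsLocalRing.residue A) U)
    (hRV : Polynomial.map (IsLocalRing.residue A) R = Polynomial.map (IsLocalRing.residue A) V)
    (hcop : IsCoprime (Polynomial.map (IsLocalRing.residue A) Q) (Polynomial.map (IsLocalRing.residue A) R))
    (h : Q * R = U * V) : Q = U ∧ R = V := by
  have hc : IsCoprime Q V :=
    S17979.result A Q V hQ (hRV ▸ hcop)
  have hdvd : Q ∣ U := hc.dvd_of_dvd_mul_right (h ▸ dvd_mul_right Q R)
  have hd : Q.natDegree = U.natDegree := by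
    rw [← hQ.natDegree_map (IsLocalRing.residue A), hQU, hU.natDegree_map]
  have hQU' : Q = U := (Polynomial.eq_of_monic_of_dvd_of_natDegree_le hQ hU hdvd hd.ge).symm
  subst hQU'
  exact ⟨rfl, hQ.isRegular.left h⟩

end Groth.Agent.S17980
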