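import Groth.Statements.S17985
import Groth.Agent.Lib.WeilNum29.Gor

set_option autoImplicit false
universe u
open MvPolynomial
open WeilNum

namespace Groth.Agent.S17985

/-- Let p be a prime, e ≥ 1 and q = p^e. Let (π_i) be a nonempty finite family of pairwise nonconjugate
Weil q-numbers: π_i is an element of a field K_i of characteristic zero, integral over ℤ with
minimal polynomial P_i, every complex root of P_i has absolute value √q, and P_i ≠ P_j for i ≠ j.
Suppose the total degree Σ_i deg P_i is even, equal to 2D. Let R_w be the minimal central order, the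
image of ℤ[F, V] → ∏_i K_i, F ↦ (π_i), V ↦ (q/π_i). Then R_w is free of rank 2D as a ℤ-module, has
Krull dimension 1, and is a Gorenstein ring (Noetherian, with all localizations at primes of finite
injective dimension over themselves). -/
theorem result (p e : ℕ) [Fact p.Prime] (he : 0 < e)
    (ι : Type) [Fintype ι] (K : ι → Type u) [∀ i, Field (K i)] [∀ i, CharZero (K i)] (π : ∀ i, K i)
    (hint : ∀ i, IsIntegral ℤ (π i))
    (hweil : ∀ i, ∀ z ∈ (minpoly ℤ (π i)).aroots ℂ, ‖z‖ = Real.sqrt ((p : ℝ) ^ e))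
    (hinj : ∀ i j, minpoly ℤ (π i) = minpoly ℤ (π j) → i = j)
    [Nonempty ι] (D : ℕ) (hD : ∑ i, (minpoly ℤ (π i)).natDegree = 2 * D) :
    Module.Free ℤ (MvPolynomial.aeval ![fun i => π i, fun i => ((p : K i) ^ e) / π i] :
        MvPolynomial (Fin 2) ℤ →ₐ[ℤ] ((i : ι) → K i)).range ∧
      Module.finrank ℤ (MvPolynomial.aeval ![fun i => π i, fun i => ((p : K i) ^ e) / π i] :
        MvPolynomial (Fin 2) ℤ →ₐ[ℤ] ((i : ι) → K i)).range = 2 * D ∧
      ringKrullDim (MvPolynomial.aeval ![fun i => π i, fun i => ((p : K i) ^ e) / π i] :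
        MvPolynomial (Fin 2) ℤ →ₐ[ℤ] ((i : ι) → K i)).range = 1 ∧
      LocCoh.IsGorensteinRing (MvPolynomial.aeval ![fun i => π i, fun i => ((p : K i) ^ e) / π i] :
        MvPolynomial (Fin 2) ℤ →ₐ[ℤ] ((i : ι) → K i)).range := by
  have hp : p ≠ 0 := (Fact.out : p.Prime).ne_zero
  have hr := Groth.Agent.WeilNum29.roots_family hint (pow_ne_zero e (Nat.cast_ne_zero.mpr hp)) hweil hinj
  obtain ⟨h, d, -⟩ := Groth.Agent.WeilNum29.datum_family hp hint hweil hD
  rw [Groth.Agent.WeilNum29.toProd_eq (p := p) (e := e) (π := π)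
    (MvPolynomial.aeval ![fun i => π i, fun i => ((p : K i) ^ e) / π i] :
      MvPolynomial (Fin 2) ℤ →ₐ[ℤ] ((i : ι) → K i))
    (MvPolynomial.aeval_X _ 0) (MvPolynomial.aeval_X _ 1)]
  set F := Groth.Agent.WeilNum29.toProd ((p : ℤ) ^ e) π
  obtain ⟨b⟩ := Groth.Agent.WeilNum29.exists_basis_range d hr
  have hfree : Module.Free ℤ F.range := Module.Free.of_basis b
  haveI : Module.Finite ℤ F.range := Module.Finite.of_basis b
  refine ⟨hfree, ?_, ?_, Groth.Agent.WeilNum29.isGorensteinRing_range d F
    (Groth.Agent.WeilNum29.ker_toProd d hr)⟩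
  · rw [Module.finrank_eq_card_basis b, Fintype.card_sum, Fintype.card_fin, two_mul]
  · have hinjZ : Function.Injective (algebraMap ℤ F.range) := by
      intro a c hac
      obtain ⟨i⟩ := ‹Nonempty ι›
      have := congrArg (fun x : F.range => (x : (i : ι) → K i) i) hac
      simpa using this
    rw [Groth.Agent.VarDim.ringKrullDim_eq_of_isIntegral hinjZ]
    exact IsPrincipalIdealRing.ringKrullDim_eq_one ℤ Int.not_isField

end Groth.Agent.S17985
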