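import Groth.Statements.S17986
import Groth.Agent.Lib.WeilNum29.Rational

set_option autoImplicit false
set_option maxHeartbeats 2000000
universe u
open MvPolynomial
open scoped Classical
open WeilNum

namespace Groth.Agent.S17986

/-- Let p be a prime, e ≥ 1, and assume q = p^e = s² for an integer s (of either sign; s is then a
rational Weil q-number). Let (π_i) be a finite family of pairwise nonconjugate nonrational Weil
q-numbers: π_i lies in a field K_i of characteristic zero, is integral over ℤ with minimal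
polynomial P_i of degree different from 1, every complex root of P_i has absolute value √q, and P_i
≠ P_j for i ≠ j (since q is a square these π_i are nonreal, so Σ_i deg P_i = 2D is even). Put P_v =
∏_i P_i and let h ∈ ℤ[F, V] (F = X_0, V = X_1) be any polynomial with F^D · h ≡ P_v(F) modulo FV −
q. Consider the ring map ℤ[F, V] → (∏_i K_i) × ℚ sending F to ((π_i)_i, s) and V to ((q/π_i)_i, s);
its image R_w is the minimal central order of the family enlarged by s. Then: (1) its kernel is the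
ideal generated by FV − q, h · (F − s) and h · (V − s); (2) R_w is a Gorenstein ring if and only if
every π_i is ordinary, meaning that exactly half of the roots of P_i in an algebraic closure of ℚ_p,
counted with multiplicity, are p-adic units. -/
theorem result (p e : ℕ) [Fact p.Prime] (he : 0 < e)
    (s : ℤ) (hs : s ^ 2 = (p : ℤ) ^ e)
    (ι : Type) [Fintype ι] (K : ι → Type u) [∀ i, Field (K i)] [∀ i, CharZero (K i)] (π : ∀ i, K i)
    (hint : ∀ i, IsIntegral ℤ (π i)) (hdeg : ∀ i, (minpoly ℤ (π i)).natDegree ≠ 1)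
    (hweil : ∀ i, ∀ z ∈ (minpoly ℤ (π i)).aroots ℂ, ‖z‖ = Real.sqrt ((p : ℝ) ^ e))
    (hinj : ∀ i j, minpoly ℤ (π i) = minpoly ℤ (π j) → i = j)
    (D : ℕ) (hD : ∑ i, (minpoly ℤ (π i)).natDegree = 2 * D)
    (h : MvPolynomial (Fin 2) ℤ)
    (hh : X 0 ^ D * h - Polynomial.aeval (X 0 : MvPolynomial (Fin 2) ℤ) (∏ i, minpoly ℤ (π i)) ∈
      Ideal.span ({X 0 * X 1 - C ((p : ℤ) ^ e)} : Set (MvPolynomial (Fin 2) ℤ))) :
    RingHom.ker (MvPolynomial.aeval ![(⟨fun i => π i, (s : ℚ)⟩ : ((i : ι) → K i) × ℚ), ⟨fun i => ((p : K i) ^ e) / π i, (s : ℚ)⟩] :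
        MvPolynomial (Fin 2) ℤ →ₐ[ℤ] (((i : ι) → K i) × ℚ)) =
        Ideal.span {X 0 * X 1 - C ((p : ℤ) ^ e), h * (X 0 - C s), h * (X 1 - C s)} ∧
      (LocCoh.IsGorensteinRing (MvPolynomial.aeval ![(⟨fun i => π i, (s : ℚ)⟩ : ((i : ι) → K i) × ℚ), ⟨fun i => ((p : K i) ^ e) / π i, (s : ℚ)⟩] :
        MvPolynomial (Fin 2) ℤ →ₐ[ℤ] (((i : ι) → K i) × ℚ)).range ↔
        ∀ i, 2 * Multiset.card (((minpoly ℤ (π i)).aroots (PadicAlgCl p)).filter (fun z => ‖z‖ = 1)) = (minpoly ℤ (π i)).natDegree) := by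
  have hp : p ≠ 0 := (Fact.out : p.Prime).ne_zero
  have hr := Groth.Agent.WeilNum29.roots_family hint (pow_ne_zero e (Nat.cast_ne_zero.mpr hp)) hweil hinj
  obtain ⟨-, -, hd⟩ := Groth.Agent.WeilNum29.datum_family hp hint hweil hD
  have d := hd h hh
  have hirr : ∀ i, Irreducible (minpoly ℤ (π i)) := fun i => minpoly.irreducible (hint i)
  have hnr : ∀ i, ∀ z ∈ (minpoly ℤ (π i)).aroots ℂ, z.im ≠ 0 := fun i =>
    Groth.Agent.WeilNum29.nonreal_of_irreducible hs (minpoly.monic (hint i)) (hirr i) (hdeg i) (hweil i)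
  have hPs : (∏ i, minpoly ℤ (π i)).eval s ≠ 0 := by
    rw [Polynomial.eval_prod]
    exact Finset.prod_ne_zero_iff.mpr fun i _ =>
      Groth.Agent.WeilNum29.eval_ne_zero_of_irreducible (minpoly.monic (hint i)) (hirr i) (hdeg i) s
  set F : MvPolynomial (Fin 2) ℤ →ₐ[ℤ] (((i : ι) → K i) × ℚ) :=
    MvPolynomial.aeval ![(⟨fun i => π i, (s : ℚ)⟩ : ((i : ι) → K i) × ℚ),
      ⟨fun i => ((p : K i) ^ e) / π i, (s : ℚ)⟩] with hF
  have hF1 : ((AlgHom.fst ℤ ((i : ι) → K i) ℚ).comp F) = Groth.Agent.WeilNum29.toProd ((p : ℤ) ^ e) π :=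
    Groth.Agent.WeilNum29.toProd_eq _ (by simp [hF]) (by simp [hF])
  have hF2 : ∀ x, (F x).2 = ((MvPolynomial.eval (fun _ => s) x : ℤ) : ℚ) := fun x => by
    induction x using MvPolynomial.induction_on with
    | C c => simp [hF]
    | add a b ha hb => simp [ha, hb]
    | mul_X a k ha => fin_cases k <;> simp [hF] at ha ⊢ <;> simp [ha]
  have hker := Groth.Agent.WeilNum29.ker_pair d hs hPs _ (Groth.Agent.WeilNum29.ker_toProd d hr) F
    (fun x => Prod.ext (by rw [← hF1]; rfl) (hF2 x))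
  have hw := fun i => Groth.Agent.WeilNum29.isWeilPoly_minpoly (hint i) (hweil i)
  have hreg : ∀ x : ((i : ι) → K i) × ℚ, (p : ((i : ι) → K i) × ℚ) * x = 0 → x = 0 := fun x hx => by
    refine Prod.ext (funext fun i => ?_) ?_
    · have := congrFun (congrArg Prod.fst hx) i
      simpa [hp] using this
    · simpa [hp] using congrArg Prod.snd hx
  refine ⟨hker, ?_⟩
  have hmid : (p : ℤ) ∣ (∏ i, minpoly ℤ (π i)).coeff D ↔
      (p : ℤ) ∣ ∏ i, (minpoly ℤ (π i)).coeff ((minpoly ℤ (π i)).natDegree / 2) := by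
    have hDs : D = ∑ i, (minpoly ℤ (π i)).natDegree / 2 := by
      have : 2 * D = 2 * ∑ i, (minpoly ℤ (π i)).natDegree / 2 := by
        rw [← hD, Finset.mul_sum]
        exact Finset.sum_congr rfl fun i _ => (Nat.two_mul_div_two_of_even ((hw i).of_nonreal (hnr i)).1).symm
      omega
    rw [hDs]
    refine Groth.Agent.WeilNum29.dvd_coeff_prod_iff _ _ fun i j hj => ?_
    have := Groth.Agent.WeilNum29.coeff_half he (hw i) (hnr i)
      ((minpoly ℤ (π i)).natDegree / 2 - j) (by omega)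
    rw [show (minpoly ℤ (π i)).natDegree / 2 - ((minpoly ℤ (π i)).natDegree / 2 - j) = j by omega] at this
    rw [this]
    exact Dvd.dvd.mul_right (dvd_pow_self _ (Nat.mul_ne_zero (by omega) (by omega))) _
  have hord : (∀ i, 2 * Multiset.card (((minpoly ℤ (π i)).aroots (PadicAlgCl p)).filter
      (fun z => ‖z‖ = 1)) = (minpoly ℤ (π i)).natDegree) ↔
      ¬ (p : ℤ) ∣ (∏ i, minpoly ℤ (π i)).coeff D := by
    rw [hmid, Prime.dvd_finsetProd_iff (Nat.prime_iff_prime_int.mp Fact.out)]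
    simp only [fun i => Groth.Agent.WeilNum29.ordinary_iff_weil he (hw i) (hnr i), Finset.mem_univ,
      true_and, not_exists]
  rw [hord]
  haveI : CharZero (((i : ι) → K i) × ℚ) :=
    ⟨fun a b hab => by simpa using congrArg Prod.snd hab⟩
  exact ⟨fun hG hc => Groth.Agent.WeilNum29.not_gorenstein_of_dvd F he hs d hker hreg hc hG,
    fun hc => Groth.Agent.WeilNum29.gorenstein_of_not_dvd F he hs d hker hc⟩

end Groth.Agent.S17986
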