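import Groth.Statements.S17988
import Groth.Agent.Lib.CI2.GorOneRefl
import Groth.Agent.Lib.Branch14.Normal
import Groth.Agent.Lib.TsenLang.FnField
import Groth.Prelude.Def_CAlg
import Mathlib

set_option autoImplicit false
universe u
open CAlg

namespace Groth.Agent.S17988

theorem eval_injective_of_regular {S : Type u} [CommRing S] [IsReduced S] [IsNoetherianRing S]
    (M : Type u) [AddCommGroup M] [Module S M] [Module.Finite S M]
    (htf : ∀ s ∈ nonZeroDivisors S, ∀ m : M, s • m = 0 → m = 0) :
    Function.Injective (Module.Dual.eval S M) := by
  haveI : IsArtinianRing (FractionRing S) :=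
    Groth.Agent.Branch14.isArtinianRing_fractionRing S (minimalPrimes.finite_of_isNoetherianRing S)
  haveI : IsReduced (FractionRing S) := inferInstance
  haveI : IsSemisimpleRing (FractionRing S) := IsArtinianRing.isSemisimpleRing_of_isReduced _
  let T := nonZeroDivisors S
  let mk := LocalizedModule.mkLinearMap T M
  haveI : Module.Projective (FractionRing S) (LocalizedModule T M) := Module.projective_of_isSemisimpleRing _ _
  haveI : Module.FinitePresentation S M := Module.finitePresentation_of_finite S M
  let ι : (M →ₗ[S] S) →ₗ[S] (LocalizedModule T M →ₗ[FractionRing S] FractionRing S) :=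
    IsLocalizedModule.mapExtendScalars T mk (Algebra.linearMap S (FractionRing S)) (FractionRing S)
  haveI : IsLocalizedModule T ι :=
    Module.FinitePresentation.isLocalizedModule_mapExtendScalars T mk (Algebra.linearMap S (FractionRing S)) _
  rw [injective_iff_map_eq_zero]
  intro m hm
  have hz : mk m = 0 := by
    apply Module.eval_apply_injective (FractionRing S)
    refine LinearMap.ext fun g => ?_
    rw [map_zero, LinearMap.zero_apply, Module.Dual.eval_apply]
    obtain ⟨⟨f, s⟩, hs⟩ := IsLocalizedModule.surj T ι g
    apply (IsLocalization.map_units (FractionRing S) s).mul_left_cancel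
    rw [mul_zero, ← Algebra.smul_def]
    simp only [Submonoid.smul_def] at hs
    rw [← LinearMap.smul_apply, hs]
    refine (IsLocalizedModule.map_apply T mk (Algebra.linearMap S (FractionRing S)) f m).trans ?_
    rw [show f m = 0 from LinearMap.congr_fun hm f, map_zero]
  obtain ⟨s, hs⟩ := (IsLocalizedModule.eq_zero_iff T mk).1 hz
  exact htf s s.2 m hs

/-- Let Λ be a principal ideal domain and S a commutative Λ-algebra which is finitely generated and free
as a Λ-module and reduced as a ring; let M be a finitely generated S-module. Then M is torsionless
(the canonical map M → M** to the double S-dual is injective) if and only if M is free as a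
Λ-module. If in addition S is a Gorenstein ring (it has Krull dimension at most 1, being finite over
Λ), then M is reflexive (M → M** bijective) if and only if M is free as a Λ-module, so that for such
S torsionless and reflexive finitely generated modules coincide. The published statement is the case
Λ = ℤ, resp. Λ = ℤ_ℓ for a prime ℓ, with S the minimal central order R_w of a finite set of Weil
q-numbers, resp. its ℓ-adic completion R_w ⊗ ℤ_ℓ, under the assumption that R_w is Gorenstein; the
argument given there uses only that S is finite free over Λ, reduced, and (for reflexivity)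
Gorenstein of dimension one. -/
theorem result (Λ : Type u) [CommRing Λ] [IsDomain Λ] [IsPrincipalIdealRing Λ]
    (S : Type u) [CommRing S] [Algebra Λ S] [Module.Finite Λ S] [Module.Free Λ S] [IsReduced S]
    (M : Type u) [AddCommGroup M] [Module S M] [Module Λ M] [IsScalarTower Λ S M] [Module.Finite S M] :
    (Function.Injective (Module.Dual.eval S M) ↔ Module.Free Λ M) ∧
      (LocCoh.IsGorensteinRing S → (Module.IsReflexive S M ↔ Module.Free Λ M)) := by
  haveI : IsNoetherianRing S := IsNoetherianRing.of_finite Λ S
  haveI : Module.Finite Λ M := Module.Finite.trans S M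
  have h1 : Function.Injective (Module.Dual.eval S M) ↔ Module.Free Λ M := by
    refine ⟨fun h => ?_, fun hfree => eval_injective_of_regular M fun s hs m hsm => ?_⟩
    · haveI : Module.IsTorsionFree Λ M := Module.IsTorsionFree.of_smul_eq_zero fun c m hcm => by
        by_cases hc : c = 0
        · exact Or.inl hc
        refine Or.inr (h (LinearMap.ext fun f => ?_))
        rw [map_zero, LinearMap.zero_apply, Module.Dual.eval_apply]
        have : c • f m = 0 := by rw [← LinearMap.map_smul_of_tower, hcm, map_zero]
        exact (smul_eq_zero.1 this).resolve_left hc
      exact Module.free_of_finite_type_torsion_free'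
    · obtain ⟨c, hc, t, ht⟩ := (Algebra.IsIntegral.isIntegral (R := Λ) s).isAlgebraic.exists_nonzero_dvd hs
      have : c • m = 0 := by rw [← algebraMap_smul S c, ht, mul_comm, mul_smul, hsm, smul_zero]
      exact (smul_eq_zero.1 this).resolve_left hc
  refine ⟨h1, fun hG => ⟨fun h => h1.1 (Module.bijective_dual_eval S M).1, fun h => ?_⟩⟩
  haveI := hG
  refine Groth.Agent.CI2.GorOneRefl.isReflexive_of_injective_eval S ?_ M (h1.2 h)
  rcases subsingleton_or_nontrivial S with hS | hS
  · rw [ringKrullDim_eq_bot_of_subsingleton]; exact bot_le
  haveI : Algebra.IsIntegral Λ S := inferInstance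
  refine (Order.krullDim_le_of_strictMono (fun q : PrimeSpectrum S => PrimeSpectrum.comap (algebraMap Λ S) q)
    fun q q' h => Ideal.IsIntegral.comap_lt_comap (A := S) h).trans (Ring.krullDimLE_iff.1 inferInstance)

end Groth.Agent.S17988
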