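import Groth.Statements.S17989
import Groth.Agent.Lib.CI2.GorOneRefl
import Groth.Agent.Lib.Depth.More
import Mathlib

set_option autoImplicit false
universe u
open CategoryTheory
open CAlg

namespace Groth.Agent.S17989
open CategoryTheory

open Groth.Agent

theorem ext_one_of_extend {S : Type u} [CommRing S] {M : Type u} [AddCommGroup M] [Module S M]
    {n : ℕ} (π : (Fin n → S) →ₗ[S] M) (hπ : Function.Surjective π)
    (h : ∀ g : LinearMap.ker π →ₗ[S] S, ∃ G : (Fin n → S) →ₗ[S] S, G.comp (LinearMap.ker π).subtype = g) :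
    Subsingleton (Abelian.Ext (ModuleCat.of S M) (ModuleCat.of S S) 1) := by
  have hSC := π.shortExact_shortComplexKer hπ
  refine ⟨fun a b => ?_⟩
  suffices h0 : ∀ a : Abelian.Ext (ModuleCat.of S M) (ModuleCat.of S S) 1, a = 0 by rw [h0 a, h0 b]
  intro a
  haveI : Projective π.shortComplexKer.X₂ :=
    (IsProjective.iff_projective (R := S) (Fin n → S)).1 inferInstance
  obtain ⟨x₁, hx₁⟩ := Abelian.Ext.contravariant_sequence_exact₃ hSC (ModuleCat.of S S)
    (a : Abelian.Ext π.shortComplexKer.X₃ (ModuleCat.of S S) 1) (Abelian.Ext.eq_zero_of_projective _) (n₀ := 0) rfl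
  obtain ⟨g, rfl⟩ := Abelian.Ext.homEquiv₀.symm.surjective x₁
  obtain ⟨G, hG⟩ := h g.hom
  rw [← hx₁]
  have : g = π.shortComplexKer.f ≫ ModuleCat.ofHom G := by
    ext z
    exact (LinearMap.congr_fun hG z).symm
  rw [this, Abelian.Ext.homEquiv₀_symm_apply, ← Abelian.Ext.mk₀_comp_mk₀, ← Abelian.Ext.comp_assoc _ _ _ (add_zero 1) (zero_add 0) rfl]
  · simp [hSC.extClass_comp]

/-- Let S be a Gorenstein ring (a Noetherian ring all of whose localizations at prime ideals have finite
injective dimension as modules over themselves) of Krull dimension 1, and let M be a finitely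
generated reflexive S-module (the canonical map M → M** is bijective). Then Ext¹_S(M, S) = 0. -/
theorem result (S : Type u) [CommRing S]
    [LocCoh.IsGorensteinRing S] (hdim : ringKrullDim S = 1)
    (M : Type u) [AddCommGroup M] [Module S M] [Module.Finite S M] [Module.IsReflexive S M] :
    Subsingleton (Abelian.Ext (ModuleCat.of S M) (ModuleCat.of S S) 1) := by
  classical
  obtain ⟨n, π, hπ⟩ := Module.Finite.exists_fin' S M
  haveI : Module.Finite S (Module.Dual S M) :=
    haveI := Module.finitePresentation_of_finite S M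
    inferInstance
  obtain ⟨m, σ, hσ⟩ := Module.Finite.exists_fin' S (Module.Dual S M)
  refine ext_one_of_extend π hπ fun g => ?_
  let A : (Fin n → S) →ₗ[S] (Fin m → S) := (LinearMap.pi fun i => σ (Pi.single i 1)).comp π
  have hker : LinearMap.ker π = LinearMap.ker A := by
    ext z
    simp only [LinearMap.mem_ker, A, LinearMap.comp_apply]
    refine ⟨fun h => by rw [h, map_zero], fun h => (Module.bijective_dual_eval S M).1 ?_⟩
    rw [map_zero]
    refine LinearMap.ext fun f => ?_
    obtain ⟨c, rfl⟩ := hσ f
    rw [Module.Dual.eval_apply, LinearMap.zero_apply, pi_eq_sum_univ' c, map_sum, LinearMap.sum_apply]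
    refine Finset.sum_eq_zero fun i _ => ?_
    rw [map_smul, LinearMap.smul_apply]
    have := congrFun h i
    simp only [LinearMap.pi_apply] at this
    rw [this]
    exact smul_zero _
  let I : Ideal S :=
    { carrier := {s | ∃ G : (Fin n → S) →ₗ[S] S, ∀ z : LinearMap.ker π, G z = s * g z}
      zero_mem' := ⟨0, fun z => by simp⟩
      add_mem' := by
        rintro a b ⟨G, hG⟩ ⟨H, hH⟩
        exact ⟨G + H, fun z => by simp [hG, hH, add_mul]⟩
      smul_mem' := by
        rintro c a ⟨G, hG⟩
        exact ⟨c • G, fun z => by simp [hG, mul_assoc]⟩ }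
  suffices hI : I = ⊤ by
    obtain ⟨G, hG⟩ := (Ideal.eq_top_iff_one I).1 hI
    exact ⟨G, LinearMap.ext fun z => (hG z).trans (one_mul _)⟩
  by_contra hne
  obtain ⟨P, hP, hle⟩ := Ideal.exists_le_maximal _ hne
  let p := P.primeCompl
  let R := Localization.AtPrime P
  haveI : LocCoh.IsGorensteinLocalRing R := LocCoh.IsGorensteinRing.isGorensteinLocalRing_localization P
  let fn : (Fin n → S) →ₗ[S] (Fin n → R) := LinearMap.pi fun i => (Algebra.linearMap S R).comp (LinearMap.proj i)
  let fm : (Fin m → S) →ₗ[S] (Fin m → R) := LinearMap.pi fun i => (Algebra.linearMap S R).comp (LinearMap.proj i)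
  let f1 : S →ₗ[S] R := Algebra.linearMap S R
  haveI : IsLocalizedModule p f1 := inferInstanceAs (IsLocalizedModule p (Algebra.linearMap S R))
  haveI : IsLocalizedModule p fn := IsLocalizedModule.pi p fun _ : Fin n => f1
  haveI : IsLocalizedModule p fm := IsLocalizedModule.pi p fun _ : Fin m => f1
  let AR : (Fin n → R) →ₗ[R] (Fin m → R) := IsLocalizedModule.mapExtendScalars p fn fm R A
  let gK : (LinearMap.ker π).localized' R p fn →ₗ[R] R :=
    IsLocalizedModule.mapExtendScalars p ((LinearMap.ker π).toLocalized' R p fn) f1 R g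
  have hKR : (LinearMap.ker π).localized' R p fn = LinearMap.ker AR := by
    rw [hker]
    exact LinearMap.localized'_ker_eq_ker_localizedMap R p fn fm A
  obtain ⟨d, hd, hd1⟩ : ∃ d : ℕ, ringKrullDim R = d ∧ d ≤ 1 := by
    have h1 : ringKrullDim R ≤ 1 := by
      rw [IsLocalization.AtPrime.ringKrullDim_eq_height P R, ← hdim]
      exact Ideal.height_le_ringKrullDim_of_ne_top hP.ne_top
    have h0 : (0 : WithBot ℕ∞) ≤ ringKrullDim R := ringKrullDim_nonneg_of_nontrivial
    revert h0 h1
    generalize ringKrullDim R = e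
    intro h1 h0
    induction e with
    | bot => simp at h0
    | coe e =>
      have h2 : e ≤ 1 := by exact_mod_cast h1
      lift e to ℕ using ne_top_of_le_ne_top ENat.one_ne_top h2
      exact ⟨e, rfl, by exact_mod_cast h2⟩
  obtain ⟨hdepth, hinjd, -⟩ := GorenLib.gorenstein_of_dim hd
  have hext : ∃ G : (Fin n → R) →ₗ[R] R, G.comp ((LinearMap.ker π).localized' R p fn).subtype = gK := by
    interval_cases d
    · rw [zero_add, ← injective_iff_hasInjectiveDimensionLT_one] at hinjd
      exact Module.Injective.extension_property R R _ _ _ (Submodule.injective_subtype _) gK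
        (inj := (Module.injective_iff_injective_object _ _).2 hinjd)
    · obtain ⟨x, hx, hreg⟩ := DepthLib.exists_isSMulRegular_of_one_le_idealDepth
        (I := IsLocalRing.maximalIdeal R) (M := R) (by
          rw [Ideal.smul_eq_mul, Ideal.mul_top]; exact Ideal.IsPrime.ne_top') (le_of_eq hdepth.symm)
      refine CI2.GorOneRefl.exists_extend hx (mem_nonZeroDivisors_iff_right.2 fun y hy => hreg (show x • y = x • (0 : R) by rw [smul_zero, smul_eq_mul, mul_comm, hy]))
        (CI2.GorOneRefl.injective_quotient (by rw [hd]; norm_num) hx hreg) _ (fun z hz => ?_) gK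
      rw [hKR, LinearMap.mem_ker] at hz ⊢
      rw [map_smul] at hz
      exact funext fun i => hreg (show x • AR z i = x • (0 : R) by rw [smul_zero]; exact congrFun hz i)
  obtain ⟨G, hG⟩ := hext
  obtain ⟨⟨a, s⟩, hs⟩ := IsLocalizedModule.surj p fn fun i => G (Pi.single i 1)
  -- `s G` has integral coefficients `a`
  let H : (Fin n → S) →ₗ[S] S := ∑ i, a i • LinearMap.proj i
  have hH : ∀ z : LinearMap.ker π, algebraMap S R (H z) = algebraMap S R (s * g z) := by
    intro z
    have h1 : G (fn z) = algebraMap S R (g z) := by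
      have h2 : gK ((LinearMap.ker π).toLocalized' R p fn z) = algebraMap S R (g z) :=
        IsLocalizedModule.map_apply p ((LinearMap.ker π).toLocalized' R p fn) f1 g z
      rw [← h2, ← hG]
      rfl
    rw [map_mul, ← h1, pi_eq_sum_univ' (fn z), map_sum, Finset.mul_sum]
    simp only [H, LinearMap.sum_apply, LinearMap.smul_apply, LinearMap.proj_apply, smul_eq_mul, map_sum, map_mul]
    refine Finset.sum_congr rfl fun i _ => ?_
    rw [map_smul, smul_eq_mul]
    have h3 : algebraMap S R (a i) = algebraMap S R s * G (Pi.single i 1) := by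
      have := congrFun hs i
      simp only [fn, Submonoid.smul_def, LinearMap.pi_apply, LinearMap.comp_apply, LinearMap.proj_apply, Algebra.linearMap_apply, Pi.smul_apply, Algebra.smul_def] at this
      exact this.symm
    rw [h3]
    simp [fn]
    ring
  haveI : Module.Finite S (LinearMap.ker π) := Module.Finite.iff_fg.2 (IsNoetherian.noetherian _)
  obtain ⟨r, e, he⟩ := Module.Finite.exists_fin' S (LinearMap.ker π)
  choose t ht using fun j : Fin r => (IsLocalization.eq_iff_exists p R).1 (hH (e (Pi.single j 1)))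
  have hmem : ((∏ j, t j : p) : S) * s ∈ I := by
    refine ⟨((∏ j, t j : p) : S) • H, fun z => ?_⟩
    obtain ⟨c, rfl⟩ := he z
    have : ∀ j, ((∏ j, t j : p) : S) * H (e (Pi.single j 1)) = ((∏ j, t j : p) : S) * s * g (e (Pi.single j 1)) := by
      intro j
      rw [Submonoid.coe_finsetProd, ← Finset.prod_erase_mul _ _ (Finset.mem_univ j), mul_assoc, ht j]
      ring
    rw [pi_eq_sum_univ' c, map_sum, map_sum, Submodule.coe_sum, map_sum, Finset.mul_sum]
    refine Finset.sum_congr rfl fun j _ => ?_
    rw [map_smul, Submodule.coe_smul, map_smul, map_smul, LinearMap.smul_apply, smul_eq_mul, smul_eq_mul, this]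
    ring
  exact (Submonoid.mul_mem p (∏ j, t j : p).2 s.2) (hle hmem)

end Groth.Agent.S17989
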