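import Groth.Statements.S17990
import Groth.Agent.Lib.CI2.BassEnd
import Groth.Prelude.Def_CAlg
import Mathlib

set_option autoImplicit false
universe u
open CAlg

namespace Groth.Agent.S17990

theorem dual_eval_bijective_localized {A : Type u} [CommRing A] [IsNoetherianRing A]
    {G : Type u} [AddCommGroup G] [Module A G] [Module.Finite A G] (S : Submonoid A)
    (h : Function.Bijective (Module.Dual.eval A G)) :
    Function.Bijective (Module.Dual.eval (Localization S) (LocalizedModule S G)) := by
  have : Module.FinitePresentation A G := Module.finitePresentation_of_finite A G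
  have : Module.FinitePresentation A (G →ₗ[A] A) := Module.finitePresentation_of_finite A _
  let mk := LocalizedModule.mkLinearMap S G
  let lm := Algebra.linearMap A (Localization S)
  let ι₁ : (G →ₗ[A] A) →ₗ[A] (LocalizedModule S G →ₗ[Localization S] Localization S) :=
    IsLocalizedModule.mapExtendScalars S mk lm (Localization S)
  have : IsLocalizedModule S ι₁ :=
    Module.FinitePresentation.isLocalizedModule_mapExtendScalars S mk lm _
  let ι₂ : ((G →ₗ[A] A) →ₗ[A] A) →ₗ[A]
      ((LocalizedModule S G →ₗ[Localization S] Localization S) →ₗ[Localization S] Localization S) :=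
    IsLocalizedModule.mapExtendScalars S ι₁ lm (Localization S)
  have : IsLocalizedModule S ι₂ :=
    Module.FinitePresentation.isLocalizedModule_mapExtendScalars S ι₁ lm _
  have h₁ : ∀ f x, ι₁ f (mk x) = algebraMap A (Localization S) (f x) := fun f x => by
    simp [ι₁, lm, IsLocalizedModule.map_apply]
  have h₂ : ∀ φ f, ι₂ φ (ι₁ f) = algebraMap A (Localization S) (φ f) := fun φ f => by
    simp [ι₂, lm, IsLocalizedModule.map_apply]
  let ev := Module.Dual.eval (Localization S) (LocalizedModule S G)
  have hev : ∀ x, ι₂ (Module.Dual.eval A G x) = ev (mk x) := fun x => by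
    refine LinearMap.ext fun ψ => ?_
    obtain ⟨⟨f, s⟩, hs⟩ := IsLocalizedModule.surj S ι₁ ψ
    apply (IsLocalization.map_units (Localization S) s).mul_left_cancel
    rw [← Algebra.smul_def, ← Algebra.smul_def, Submonoid.smul_def] at *
    rw [← LinearMap.map_smul_of_tower, hs, h₂, ← LinearMap.map_smul_of_tower, hs]
    exact (h₁ f x).symm
  refine ⟨(injective_iff_map_eq_zero ev).2 fun y hy => ?_, fun ψ => ?_⟩
  · obtain ⟨⟨x, s⟩, hs⟩ := IsLocalizedModule.surj S mk y
    rw [Submonoid.smul_def] at hs
    have h3 : ι₂ (Module.Dual.eval A G x) = 0 := by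
      rw [hev, ← hs, LinearMap.map_smul_of_tower, hy, smul_zero]
    obtain ⟨t, ht⟩ := (IsLocalizedModule.eq_zero_iff S ι₂).1 h3
    have h4 : mk x = 0 := (IsLocalizedModule.eq_zero_iff S mk).2 ⟨t, h.1 (by
      rw [Submonoid.smul_def, map_smul, map_zero, ← Submonoid.smul_def, ht])⟩
    rw [← hs] at h4
    exact (IsLocalizedModule.smul_inj mk s y 0).1 (by rw [Submonoid.smul_def, h4, smul_zero])
  · obtain ⟨⟨φ, s⟩, hs⟩ := IsLocalizedModule.surj S ι₂ ψ
    obtain ⟨x, rfl⟩ := h.2 φ
    rw [hev] at hs
    refine ⟨IsLocalizedModule.mk' mk x s, ?_⟩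
    apply (IsLocalizedModule.smul_inj ι₂ s _ _).1
    rw [hs, Submonoid.smul_def, ← LinearMap.map_smul_of_tower, ← Submonoid.smul_def, IsLocalizedModule.mk'_cancel']

/-- Let S be a reduced Gorenstein ring (Noetherian, all localizations at primes of finite injective
dimension over themselves) whose Krull dimension is ≤ 1; let M be a finitely generated S-module
which is reflexive (M → M** bijective). Then M is locally free of rank 1, i.e. the localization M_P
is isomorphic to S_P as an S_P-module for every prime ideal P of S, if and only if the natural ring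
map S → End_S(M), sending s to multiplication by s, is bijective. -/
theorem result (S : Type u) [CommRing S]
    [IsReduced S] [LocCoh.IsGorensteinRing S] (hdim : ringKrullDim S ≤ 1)
    (M : Type u) [AddCommGroup M] [Module S M] [Module.Finite S M] [Module.IsReflexive S M] :
    (∀ (P : Ideal S) (_ : P.IsPrime),
        Nonempty (LocalizedModule P.primeCompl M ≃ₗ[Localization.AtPrime P] Localization.AtPrime P)) ↔
      Function.Bijective (algebraMap S (Module.End S M)) := by
  classical
  haveI : Module.FinitePresentation S M := Module.finitePresentation_of_finite S M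
  constructor
  · intro h
    have hlocal : ∀ (P : Ideal S) [P.IsPrime], Function.Bijective
        (algebraMap (Localization.AtPrime P) (Module.End (Localization.AtPrime P) (LocalizedModule P.primeCompl M))) := by
      intro P hP
      obtain ⟨e⟩ := h P hP
      refine ⟨fun a b hab => ?_, fun f => ⟨e (f (e.symm 1)), LinearMap.ext fun z => ?_⟩⟩
      · simpa using congrArg e (LinearMap.congr_fun hab (e.symm 1))
      · apply e.injective
        rw [Module.algebraMap_end_apply, map_smul, smul_eq_mul, mul_comm, ← smul_eq_mul, ← map_smul, ← map_smul]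
        congr 2
        apply e.injective
        simp
    refine ⟨(injective_iff_map_eq_zero _).2 fun a ha => ?_, fun f => ?_⟩
    · by_contra hne
      obtain ⟨P, hP, hle⟩ := Ideal.exists_le_maximal (Ideal.span {a} : Ideal S).annihilator (by
        rw [Ne, Submodule.annihilator_eq_top_iff, Ideal.span_singleton_eq_bot]; exact hne)
      have h1 : algebraMap S (Localization.AtPrime P) a = 0 := (hlocal P).1 (by
        refine LinearMap.ext fun z => ?_
        rw [map_zero, Module.algebraMap_end_apply, algebraMap_smul, LinearMap.zero_apply]
        induction z using LocalizedModule.induction_on with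
        | _ m s => rw [LocalizedModule.smul'_mk, show a • m = 0 from LinearMap.congr_fun ha m, LocalizedModule.zero_mk])
      obtain ⟨⟨s, hs⟩, hsa⟩ := (IsLocalization.map_eq_zero_iff P.primeCompl _ a).1 h1
      exact hs (hle (by rw [Submodule.annihilator_span_singleton, LinearMap.mem_ker, LinearMap.toSpanSingleton_apply]; exact hsa))
    · let I : Ideal S := (LinearMap.range (Algebra.linearMap S (Module.End S M))).comap (LinearMap.toSpanSingleton S _ f)
      suffices hI : I = ⊤ by
        have h1 : (1 : S) ∈ I := hI ▸ trivial
        obtain ⟨a, ha⟩ := h1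
        exact ⟨a, by rw [← Algebra.linearMap_apply, ha]; exact one_smul _ f⟩
      by_contra hne
      obtain ⟨P, hP, hle⟩ := Ideal.exists_le_maximal I hne
      let mk := LocalizedModule.mkLinearMap P.primeCompl M
      let ι : Module.End S M →ₗ[S] Module.End (Localization.AtPrime P) (LocalizedModule P.primeCompl M) :=
        IsLocalizedModule.mapExtendScalars P.primeCompl mk mk (Localization.AtPrime P)
      haveI : IsLocalizedModule P.primeCompl ι :=
        Module.FinitePresentation.isLocalizedModule_mapExtendScalars P.primeCompl mk mk _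
      obtain ⟨b, hb⟩ := (hlocal P).2 (ι f)
      obtain ⟨⟨a, s⟩, hs⟩ := IsLocalization.surj P.primeCompl b
      have h2 : ι ((s : S) • f) = ι (a • (1 : Module.End S M)) := by
        rw [map_smul, ← hb]
        refine LinearMap.ext fun z => ?_
        obtain ⟨⟨m, t⟩, ht⟩ := IsLocalizedModule.surj P.primeCompl mk z
        have e1 : ι (a • (1 : Module.End S M)) (mk m) = a • mk m :=
          (IsLocalizedModule.map_apply P.primeCompl mk mk (a • (1 : Module.End S M)) m).trans (map_smul mk a m)
        apply (IsLocalizedModule.smul_inj mk t _ _).1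
        simp only [Submonoid.smul_def] at ht ⊢
        rw [← LinearMap.map_smul_of_tower, ← LinearMap.map_smul_of_tower, ht, e1, LinearMap.smul_apply,
          Module.algebraMap_end_apply, ← algebraMap_smul (Localization.AtPrime P) (s : S), smul_smul, mul_comm, hs,
          algebraMap_smul]
      obtain ⟨c, hc⟩ := IsLocalizedModule.exists_of_eq (S := P.primeCompl) h2
      have h3 : (c : S) * s ∈ I := ⟨c * a, by
        rw [Algebra.linearMap_apply, Algebra.algebraMap_eq_smul_one, LinearMap.toSpanSingleton_apply, mul_smul, mul_smul]
        exact hc.symm⟩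
      exact (hP.isPrime.mem_or_mem (hle h3)).elim c.2 s.2
  · intro h P hP
    let R := Localization.AtPrime P
    let MP := LocalizedModule P.primeCompl M
    haveI : IsReduced R := inferInstance
    have hd : ringKrullDim R ≤ 1 := by
      rw [IsLocalization.AtPrime.ringKrullDim_eq_height P R]
      exact (Ideal.height_le_ringKrullDim_of_ne_top hP.ne_top).trans hdim
    refine Groth.Agent.CI2.BassEnd.nonempty_equiv_self hd MP
      (dual_eval_bijective_localized P.primeCompl (Module.bijective_dual_eval S M)) ?_
    let mk := LocalizedModule.mkLinearMap P.primeCompl M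
    let ι : Module.End S M →ₗ[S] Module.End R MP :=
      IsLocalizedModule.mapExtendScalars P.primeCompl mk mk R
    haveI : IsLocalizedModule P.primeCompl ι :=
      Module.FinitePresentation.isLocalizedModule_mapExtendScalars P.primeCompl mk mk _
    have hι : ∀ a : S, ι (algebraMap S _ a) = algebraMap R (Module.End R MP) (algebraMap S R a) := fun a => by
      refine LinearMap.ext fun z => ?_
      obtain ⟨⟨m, t⟩, ht⟩ := IsLocalizedModule.surj P.primeCompl mk z
      apply (IsLocalizedModule.smul_inj mk t _ _).1
      simp only [Submonoid.smul_def] at ht ⊢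
      rw [← LinearMap.map_smul_of_tower, ← LinearMap.map_smul_of_tower, ht]
      rw [Module.algebraMap_end_apply, algebraMap_smul, ← map_smul]
      exact IsLocalizedModule.map_apply P.primeCompl mk mk (algebraMap S _ a) m
    refine ⟨(injective_iff_map_eq_zero _).2 fun b hb => ?_, fun ψ => ?_⟩
    · obtain ⟨⟨a, s⟩, hs⟩ := IsLocalization.surj P.primeCompl b
      have h1 : ι (algebraMap S _ a) = 0 := by rw [hι, ← hs, map_mul, hb, zero_mul]
      obtain ⟨c, hc⟩ := (IsLocalizedModule.eq_zero_iff P.primeCompl ι).1 h1
      have h2 : (c : S) * a = 0 := h.1 (by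
        rw [map_mul, map_zero, ← Algebra.smul_def]; exact hc)
      have h3 : algebraMap S R a = 0 := (IsLocalization.map_eq_zero_iff P.primeCompl R a).2 ⟨c, h2⟩
      rw [h3] at hs
      exact (IsLocalization.map_units R s).mul_left_eq_zero.1 hs
    · obtain ⟨⟨f, s⟩, hs⟩ := IsLocalizedModule.surj P.primeCompl ι ψ
      obtain ⟨a, rfl⟩ := h.2 f
      rw [hι, Submonoid.smul_def] at hs
      refine ⟨IsLocalization.mk' R a s, LinearMap.ext fun z => ?_⟩
      apply (IsLocalizedModule.smul_inj mk s _ _).1
      have h4 := LinearMap.congr_fun hs z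
      simp only [LinearMap.smul_apply, Module.algebraMap_end_apply] at h4
      rw [Submonoid.smul_def, Submonoid.smul_def, h4, Module.algebraMap_end_apply,
        ← algebraMap_smul R (s : S) (IsLocalization.mk' R a s • z), smul_smul, mul_comm, IsLocalization.mk'_spec]

end Groth.Agent.S17990
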