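import Groth.Statements.S17996
import Groth.Agent.Lib.MinOrd22.Essential
import Mathlib.Algebra.Module.ULift
import Mathlib.LinearAlgebra.FreeModule.PID

set_option autoImplicit false
universe u
open CategoryTheory MonoidalCategory CartesianMonoidalCategory MonObj GrpObj AlgebraicGeometry MvPolynomial
open AbVar

namespace Groth.Agent.S17996

/-- (a) ⇒ (b): a Waterhouse-type realization of orders as endomorphism rings; let p be a prime and k a
field with p elements. Let (π_j) be a finite family of pairwise nonconjugate nonreal Weil p-numbers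
(π_j in a field K_j of characteristic zero, integral over ℤ with minimal polynomial P_j, all complex
roots of P_j of absolute value √p and none real, P_i ≠ P_j for i ≠ j), P_w = ∏_j P_j, and R_w ⊆ ∏_j
K_j the minimal central order, the image of ℤ[F, V] → ∏_j K_j, F ↦ (π_j), V ↦ (p/π_j). An abelian
variety over k means a proper, geometrically integral commutative group scheme over k, taken with
its p-Frobenius endomorphism π (the identity on points and the p-th power map on sections; a
homomorphism); it lies in AV_w when P_w(π) = 0 in its endomorphism ring. Let A_w be an abelian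
variety over k together with a ring isomorphism ρ : R_w ≅ End(A_w) sending the class of F to the
Frobenius of A_w (so A_w lies in AV_w and its endomorphism ring is the minimal central order);
Hom(X, A_w) is a module over End(A_w) ≅ R_w by postcomposition. Let S be a subring of ∏_j K_j which
contains R_w, is finitely generated as a ℤ-module, and all of whose elements have a nonzero integer
multiple in R_w (that is, S is an order of R_w ⊗ ℚ = ∏_j ℚ(π_j) containing R_w). Then there exist an
abelian variety B in AV_w and a ring isomorphism S ≅ End(B) which sends F to the p-Frobenius of B;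
consequently B has Weil support exactly w, each simple isogeny factor of B appears exactly once, and
the isomorphism is one of R_w-algebras. The converse implication of the published result is not
stated here. -/
theorem result (p : ℕ) [Fact p.Prime] (k : Type u) [Field k] [Finite k] (hk : Nat.card k = p)
    (J : Type) [Fintype J] (K : J → Type) [∀ j, Field (K j)] [∀ j, CharZero (K j)] (ϖ : ∀ j, K j)
    (hint : ∀ j, IsIntegral ℤ (ϖ j))
    (hweil : ∀ j, ∀ z ∈ (minpoly ℤ (ϖ j)).aroots ℂ, ‖z‖ = Real.sqrt p)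
    (hnr : ∀ j, ∀ z ∈ (minpoly ℤ (ϖ j)).aroots ℂ, z.im ≠ 0)
    (hinj : ∀ i j, minpoly ℤ (ϖ i) = minpoly ℤ (ϖ j) → i = j)
    (Aw : Over (Spec (CommRingCat.of k))) [GrpObj Aw] [IsCommMonObj Aw] [IsProper Aw.hom] [GeometricallyIntegral Aw.hom]
    (πw : Aw ⟶ Aw) [IsMonHom πw] (hπwb : πw.left.base = 𝟙 _) (hπwle : ∀ U : Aw.left.Opens, U ≤ πw.left ⁻¹ᵁ U)
    (hπwapp : ∀ (U : Aw.left.Opens) (s : Γ(Aw.left, U)), (πw.left.appLE U U (hπwle U)).hom s = s ^ p)
    (ρw : (MvPolynomial.aeval ![fun j => ϖ j, fun j => (p : K j) / ϖ j] : MvPolynomial (Fin 2) ℤ →ₐ[ℤ] ((j : J) → K j)).range ≃+* EndAV.End Aw)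
    (hρw : ρw ⟨(MvPolynomial.aeval ![fun j => ϖ j, fun j => (p : K j) / ϖ j] : MvPolynomial (Fin 2) ℤ →ₐ[ℤ] ((j : J) → K j)) (X 0), AlgHom.mem_range_self _ _⟩ = EndAV.End.of πw)
    (S : Subalgebra ℤ ((j : J) → K j)) (hRS : (MvPolynomial.aeval ![fun j => ϖ j, fun j => (p : K j) / ϖ j] : MvPolynomial (Fin 2) ℤ →ₐ[ℤ] ((j : J) → K j)).range ≤ S) [Module.Finite ℤ S]
    (hSQ : ∀ x ∈ S, ∃ n : ℤ, n ≠ 0 ∧ n • x ∈ (MvPolynomial.aeval ![fun j => ϖ j, fun j => (p : K j) / ϖ j] : MvPolynomial (Fin 2) ℤ →ₐ[ℤ] ((j : J) → K j)).range) :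
    ∃ (B : Over (Spec (CommRingCat.of k))) (_ : GrpObj B) (_ : IsCommMonObj B) (πB : B ⟶ B) (_ : IsMonHom πB)
      (hπBle : ∀ U : B.left.Opens, U ≤ πB.left ⁻¹ᵁ U) (σ : S ≃+* EndAV.End B),
      IsProper B.hom ∧ GeometricallyIntegral B.hom ∧ πB.left.base = 𝟙 _ ∧
      (∀ (U : B.left.Opens) (s : Γ(B.left, U)), (πB.left.appLE U U (hπBle U)).hom s = s ^ p) ∧
      Polynomial.aeval (EndAV.End.of πB) (∏ j, minpoly ℤ (ϖ j)) = 0 ∧
      σ ⟨(MvPolynomial.aeval ![fun j => ϖ j, fun j => (p : K j) / ϖ j] : MvPolynomial (Fin 2) ℤ →ₐ[ℤ] ((j : J) → K j)) (X 0), hRS (AlgHom.mem_range_self _ _)⟩ = EndAV.End.of πB := by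
  obtain ⟨o⟩ := MinOrd22.exists_orderData (p := p) (ϖ := ϖ) hint hweil hnr hinj
  have hw : MinOrd22.IsPFrob p πw := ⟨hπwb, hπwle, hπwapp⟩
  let θ : EndAV.End Aw →+* S := (Subalgebra.inclusion hRS).toRingHom.comp ρw.symm.toRingHom
  letI : Module S (ULift.{u} S) := ULift.module'
  letI : Module (EndAV.End Aw) (ULift.{u} S) := Module.compHom _ θ
  haveI : IsAddTorsionFree S := Function.Injective.isAddTorsionFree S.val.toAddMonoidHom Subtype.val_injective
  haveI : Module.Finite ℤ (ULift.{u} S) := Module.Finite.equiv ULift.moduleEquiv.symm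
  haveI : Module.Free ℤ S := Module.free_of_finite_type_torsion_free'
  haveI : Module.Free ℤ (ULift.{u} S) := Module.Free.of_equiv ULift.moduleEquiv.symm
  obtain ⟨B, hB, e, he⟩ := MinOrd22.exists_of_module hk hint hw hweil hinj ρw hρw o (ULift.{u} S)
  obtain ⟨σ, hσ⟩ := MinOrd22.end_equiv hk hint hw hweil hinj ρw hρw o B hB θ
    (fun z => by
      obtain ⟨n, hn, hz⟩ := hSQ z.1 z.2
      exact ⟨n, hn, ρw ⟨_, hz⟩, Subtype.ext (by simp [θ])⟩)
    (e.symm.trans AddEquiv.ulift)
    (fun φ s => by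
      obtain ⟨z, rfl⟩ := e.surjective φ
      have h := he (s : EndAV.End Aw) z
      show (e.symm (e z ≫ s)).down = θ (s : EndAV.End Aw) * (e.symm (e z)).down
      rw [← h, e.symm_apply_apply, e.symm_apply_apply]
      rfl)
  obtain ⟨πB, hm, ⟨hb, hle, happ⟩, hP⟩ := hB
  refine ⟨B.X, inferInstance, inferInstance, πB, hm, hle, σ, inferInstance, inferInstance, hb, happ, hP, ?_⟩
  rw [← hσ πB ⟨hb, hle, happ⟩]
  exact congrArg σ (Subtype.ext (by rw [← hρw]; simp [θ]))

end Groth.Agent.S17996
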