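import Groth.Statements.S17999
import Groth.Agent.Lib.WeilNum29.Pic

set_option autoImplicit false
universe u
open MvPolynomial
open WeilNum

namespace Groth.Agent.S17999

/-- The case of finite sets of Weil numbers; let p be a prime, e ≥ 1 and q = p^e; let (π_j)_{j ∈ J} be a
finite family of pairwise nonconjugate Weil q-numbers (π_j in a field K_j of characteristic zero,
integral over ℤ with minimal polynomial P_j, all complex roots of P_j of absolute value √q, P_i ≠
P_j for i ≠ j), and let e : J' → J be an injective map selecting a subfamily. Let I_w, resp. I_v, be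
the kernel of ℤ[F, V] → ∏_{j ∈ J} K_j, resp. → ∏_{j' ∈ J'} K_{e(j')}, sending F ↦ (π_j) and V ↦
(q/π_j); then I_w ⊆ I_v and ℤ[F,V]/I_w → ℤ[F,V]/I_v is the natural surjection R_w → R_v of minimal
central orders. Then the induced homomorphism of Picard groups Pic(R_w) → Pic(R_v) is surjective.
The published statement concerns the Picard groups of the pro-rings attached to arbitrary subsets V
⊆ W of Weil q-number classes; only the case of finite sets is stated here. -/
theorem result (p e : ℕ) [Fact p.Prime] (he : 0 < e)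
    (J J' : Type) [Fintype J] [Fintype J'] (emb : J' → J) (hemb : Function.Injective emb)
    (K : J → Type u) [∀ j, Field (K j)] [∀ j, CharZero (K j)] (ϖ : ∀ j, K j)
    (hint : ∀ j, IsIntegral ℤ (ϖ j))
    (hweil : ∀ j, ∀ z ∈ (minpoly ℤ (ϖ j)).aroots ℂ, ‖z‖ = Real.sqrt ((p : ℝ) ^ e))
    (hinj : ∀ i j, minpoly ℤ (ϖ i) = minpoly ℤ (ϖ j) → i = j)
    (hle : RingHom.ker (MvPolynomial.aeval ![fun j => ϖ j, fun j => ((p : K j) ^ e) / ϖ j] :
          MvPolynomial (Fin 2) ℤ →ₐ[ℤ] ((j : J) → K j)) ≤
        RingHom.ker (MvPolynomial.aeval ![fun j' => ϖ (emb j'), fun j' => ((p : K (emb j')) ^ e) / ϖ (emb j')] :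
          MvPolynomial (Fin 2) ℤ →ₐ[ℤ] ((j' : J') → K (emb j')))) :
    Function.Surjective (CommRing.Pic.mapRingHom (Ideal.Quotient.factor hle)) := by
  classical
  have hp : p ≠ 0 := (Fact.out : p.Prime).ne_zero
  have hq : p ^ e ≠ 0 := pow_ne_zero _ hp
  have hw := fun j => Groth.Agent.WeilNum29.isWeilPoly_minpoly (hint j) (hweil j)
  have hne : ∀ j, ϖ j ≠ 0 := fun j h0 => by
    have h2 := (hw j).coeff_zero_sq hq
    have hc : (minpoly ℤ (ϖ j)).coeff 0 = 0 := by
      have := minpoly.aeval ℤ (ϖ j)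
      rw [h0] at this ⊢
      rwa [Polynomial.aeval_def, Polynomial.eval₂_at_zero, eq_intCast, Int.cast_eq_zero] at this
    rw [hc] at h2
    exact pow_ne_zero _ (Nat.cast_ne_zero.mpr hq) (h2.symm.trans (by norm_num))
  have hintq : ∀ j, IsIntegral ℤ (((p : K j) ^ e) / ϖ j) := fun j => by
    refine ⟨minpoly ℤ (ϖ j), minpoly.monic (hint j), ?_⟩
    rw [Polynomial.eval₂_eq_sum_range]
    refine (mul_eq_zero.mp (?_ : _ * ϖ j ^ (minpoly ℤ (ϖ j)).natDegree = 0)).resolve_right
      (pow_ne_zero _ (hne j))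
    have h0 : (((minpoly ℤ (ϖ j)).coeff 0 : ℤ) : K j) *
        Polynomial.aeval (ϖ j) (minpoly ℤ (ϖ j)) = 0 := by rw [minpoly.aeval, mul_zero]
    rw [Polynomial.aeval_eq_sum_range, Finset.mul_sum, ← Finset.sum_range_reflect] at h0
    rw [Finset.sum_mul, ← h0]
    refine Finset.sum_congr rfl fun i hi => ?_
    rw [Finset.mem_range] at hi
    rw [show (minpoly ℤ (ϖ j)).natDegree + 1 - 1 - i = (minpoly ℤ (ϖ j)).natDegree - i by omega]
    have hc := (hw j).refl_coeff hq (j := i) (by omega)
    have hc' := congrArg (fun z : ℤ => (z : K j)) hc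
    simp only [Int.cast_mul, Int.cast_pow, Int.cast_natCast, Nat.cast_pow] at hc'
    simp only [eq_intCast, zsmul_eq_mul, algebraMap_int_eq]
    rw [div_pow, ← mul_assoc (((minpoly ℤ (ϖ j)).coeff 0 : ℤ) : K j), ← hc',
      show ϖ j ^ (minpoly ℤ (ϖ j)).natDegree =
        ϖ j ^ ((minpoly ℤ (ϖ j)).natDegree - i) * ϖ j ^ i by rw [← pow_add, Nat.sub_add_cancel (by omega)]]
    have := pow_ne_zero i (hne j)
    field_simp
  let S : Finset J := Finset.univ.filter fun j => j ∉ Set.range emb
  have hroot : ∀ (j i : J), Polynomial.aeval (ϖ j) (minpoly ℤ (ϖ i)) = 0 → i = j := fun j i h => by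
    refine hinj i j ?_
    exact (Polynomial.eq_of_monic_of_associated (minpoly.monic (hint j)) (minpoly.monic (hint i))
      ((minpoly.irreducible (hint j)).associated_of_dvd (minpoly.irreducible (hint i))
        (minpoly.isIntegrallyClosed_dvd (hint j) h))).symm
  refine Groth.Agent.WeilNum29.pic_surjective_of_family emb _ _ (fun x j' => ?_) (fun k j => ?_)
    (∏ i ∈ S, minpoly ℤ (ϖ i)) (fun j hj => ?_) (fun j' => ?_) hle
  · induction x using MvPolynomial.induction_on with
    | C c => simp
    | add a b ha hb => simp [ha, hb]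
    | mul_X a k ha => fin_cases k <;> simp at ha ⊢ <;> simp [ha]
  · fin_cases k
    · simpa using hint j
    · simpa using hintq j
  · rw [map_prod]
    exact Finset.prod_eq_zero (Finset.mem_filter.mpr ⟨Finset.mem_univ j, hj⟩)
      (by simpa using minpoly.aeval ℤ (ϖ j))
  · rw [map_prod, Finset.prod_ne_zero_iff]
    intro i hi h0
    exact (Finset.mem_filter.mp hi).2 ⟨j', (hroot _ i (by simpa using h0)).symm⟩

end Groth.Agent.S17999
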