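import Groth.Statements.S18001
import Groth.Agent.Lib.MinOrd22.Sub

set_option autoImplicit false
universe u
open CategoryTheory MonoidalCategory CartesianMonoidalCategory MonObj GrpObj AlgebraicGeometry MvPolynomial
open AbVar

namespace Groth.Agent.S18001

/-- Let p be a prime and k a field with p elements. Let (π_j) be a finite family of pairwise
nonconjugate nonreal Weil p-numbers (π_j in a field K_j of characteristic zero, integral over ℤ with
minimal polynomial P_j, all complex roots of P_j of absolute value √p and none real, P_i ≠ P_j for i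
≠ j), P_w = ∏_j P_j, and R_w ⊆ ∏_j K_j the minimal central order, the image of ℤ[F, V] → ∏_j K_j, F
↦ (π_j), V ↦ (p/π_j). An abelian variety over k means a proper, geometrically integral commutative
group scheme over k, taken with its p-Frobenius endomorphism π (the identity on points and the p-th
power map on sections; a homomorphism); it lies in AV_w when P_w(π) = 0 in its endomorphism ring.
Let A_w be an abelian variety over k together with a ring isomorphism ρ : R_w ≅ End(A_w) sending the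
class of F to the Frobenius of A_w (so A_w lies in AV_w and its endomorphism ring is the minimal
central order); Hom(X, A_w) is a module over End(A_w) ≅ R_w by postcomposition. Let e : J' → J be
injective, selecting a subfamily of the π_j whose classes form v ⊆ w, with P_v = ∏_{j'} P_{e(j')}
and R_v the image of ℤ[F, V] → ∏_{j'} K_{e(j')}. Let j : C → A_w be the abelian subvariety of A_w
generated by the images of all homomorphisms B → A_w with B in AV_v, that is: C is an abelian
variety over k with p-Frobenius π_C, j is a homomorphism whose underlying morphism is a closed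
immersion, every homomorphism f : B → A_w with B in AV_v factors through j, and for every other
homomorphism j′ : C′ → A_w which is a closed immersion and through which all such f factor, j
factors through j′. Then C lies in AV_v, i.e. P_v(π_C) = 0 in End(C), and there is a ring
isomorphism R_v ≅ End(C) sending F to π_C; in particular the endomorphism ring of C is the minimal
central order R_v; the published formulation of this part, freeness of rank one of the Tate and
Dieudonné modules of C, is equivalent to it and is not used here. -/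
theorem result (p : ℕ) [Fact p.Prime] (k : Type u) [Field k] [Finite k] (hk : Nat.card k = p)
    (J : Type) [Fintype J] (K : J → Type) [∀ j, Field (K j)] [∀ j, CharZero (K j)] (ϖ : ∀ j, K j)
    (hint : ∀ j, IsIntegral ℤ (ϖ j))
    (hweil : ∀ j, ∀ z ∈ (minpoly ℤ (ϖ j)).aroots ℂ, ‖z‖ = Real.sqrt p)
    (hnr : ∀ j, ∀ z ∈ (minpoly ℤ (ϖ j)).aroots ℂ, z.im ≠ 0)
    (hinj : ∀ i j, minpoly ℤ (ϖ i) = minpoly ℤ (ϖ j) → i = j)
    (Aw : Over (Spec (CommRingCat.of k))) [GrpObj Aw] [IsCommMonObj Aw] [IsProper Aw.hom] [GeometricallyIntegral Aw.hom]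
    (πw : Aw ⟶ Aw) [IsMonHom πw] (hπwb : πw.left.base = 𝟙 _) (hπwle : ∀ U : Aw.left.Opens, U ≤ πw.left ⁻¹ᵁ U)
    (hπwapp : ∀ (U : Aw.left.Opens) (s : Γ(Aw.left, U)), (πw.left.appLE U U (hπwle U)).hom s = s ^ p)
    (ρw : (MvPolynomial.aeval ![fun j => ϖ j, fun j => (p : K j) / ϖ j] : MvPolynomial (Fin 2) ℤ →ₐ[ℤ] ((j : J) → K j)).range ≃+* EndAV.End Aw)
    (hρw : ρw ⟨(MvPolynomial.aeval ![fun j => ϖ j, fun j => (p : K j) / ϖ j] : MvPolynomial (Fin 2) ℤ →ₐ[ℤ] ((j : J) → K j)) (X 0), AlgHom.mem_range_self _ _⟩ = EndAV.End.of πw)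
    (J' : Type) [Fintype J'] (emb : J' → J) (hemb : Function.Injective emb)
    (C : Over (Spec (CommRingCat.of k))) [GrpObj C] [IsCommMonObj C] [IsProper C.hom] [GeometricallyIntegral C.hom]
    (πC : C ⟶ C) [IsMonHom πC] (hπCb : πC.left.base = 𝟙 _) (hπCle : ∀ U : C.left.Opens, U ≤ πC.left ⁻¹ᵁ U)
    (hπCapp : ∀ (U : C.left.Opens) (s : Γ(C.left, U)), (πC.left.appLE U U (hπCle U)).hom s = s ^ p)
    (j : EndAV.Hom C Aw) [IsClosedImmersion j.toHom.left]
    (hfac : ∀ (B : Over (Spec (CommRingCat.of k))) [GrpObj B] [IsCommMonObj B] [IsProper B.hom] [GeometricallyIntegral B.hom]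
      (πB : B ⟶ B) [IsMonHom πB] (hπBb : πB.left.base = 𝟙 _) (hπBle : ∀ U : B.left.Opens, U ≤ πB.left ⁻¹ᵁ U)
      (hπBapp : ∀ (U : B.left.Opens) (s : Γ(B.left, U)), (πB.left.appLE U U (hπBle U)).hom s = s ^ p)
      (hPB : Polynomial.aeval (EndAV.End.of πB) (∏ j', minpoly ℤ (ϖ (emb j'))) = 0)
      (f : EndAV.Hom B Aw), ∃ f₀ : EndAV.Hom B C, f₀ ≫ j = f)
    (hmin : ∀ (C' : Over (Spec (CommRingCat.of k))) [GrpObj C'] [IsCommMonObj C'] [IsProper C'.hom] [GeometricallyIntegral C'.hom]
      (j' : EndAV.Hom C' Aw) [IsClosedImmersion j'.toHom.left],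
      (∀ (B : Over (Spec (CommRingCat.of k))) [GrpObj B] [IsCommMonObj B] [IsProper B.hom] [GeometricallyIntegral B.hom]
        (πB : B ⟶ B) [IsMonHom πB] (hπBb : πB.left.base = 𝟙 _) (hπBle : ∀ U : B.left.Opens, U ≤ πB.left ⁻¹ᵁ U)
        (hπBapp : ∀ (U : B.left.Opens) (s : Γ(B.left, U)), (πB.left.appLE U U (hπBle U)).hom s = s ^ p)
        (hPB : Polynomial.aeval (EndAV.End.of πB) (∏ j', minpoly ℤ (ϖ (emb j'))) = 0)
        (f : EndAV.Hom B Aw), ∃ f₀ : EndAV.Hom B C', f₀ ≫ j' = f) →
      ∃ i : EndAV.Hom C C', i ≫ j' = j) :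
    Polynomial.aeval (EndAV.End.of πC) (∏ j', minpoly ℤ (ϖ (emb j'))) = 0 ∧
      ∃ ρv : (MvPolynomial.aeval ![fun j' => ϖ (emb j'), fun j' => (p : K (emb j')) / ϖ (emb j')] : MvPolynomial (Fin 2) ℤ →ₐ[ℤ] ((j' : J') → K (emb j'))).range ≃+* EndAV.End C,
        ρv ⟨(MvPolynomial.aeval ![fun j' => ϖ (emb j'), fun j' => (p : K (emb j')) / ϖ (emb j')] : MvPolynomial (Fin 2) ℤ →ₐ[ℤ] ((j' : J') → K (emb j'))) (X 0), AlgHom.mem_range_self _ _⟩ = EndAV.End.of πC := by
  obtain ⟨o⟩ := MinOrd22.exists_orderData (p := p) (ϖ := ϖ) hint hweil hnr hinj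
  have hw : MinOrd22.IsPFrob p πw := ⟨hπwb, hπwle, hπwapp⟩
  haveI : Mono j.toHom := Over.mono_of_mono_left _
  exact MinOrd22.exists_end_sub hk hint hw hweil hinj ρw hρw o emb hemb ⟨C⟩ ⟨hπCb, hπCle, hπCapp⟩ j
    (fun B π _ hπ hP f => by
      obtain ⟨hb, hle, happ⟩ := hπ
      exact hfac B.X π hb hle happ hP f)
    (fun C' j' hj' hp => by
      haveI := hj'
      exact hmin C'.X j' fun B _ _ _ _ π _ hb hle happ hP f => hp ⟨B⟩ π ⟨hb, hle, happ⟩ hP f)

end Groth.Agent.S18001
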