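import Groth.Statements.S18003
import Groth.Agent.Lib.WeilNum29.Modules

set_option autoImplicit false
universe u
open MvPolynomial
open WeilNum

namespace Groth.Agent.S18003

/-- Let p be a prime, e ≥ 1 and q = p^e; let (π_i) be a finite family of pairwise nonconjugate Weil
q-numbers (π_i in a field K_i of characteristic zero, integral over ℤ with minimal polynomial P_i,
all complex roots of P_i of absolute value √q, P_i ≠ P_j for i ≠ j) of even total degree Σ_i deg
P_i, P_w = ∏_i P_i, and R_w ⊆ ∏_i K_i the minimal central order, the image of ℤ[F, V] → ∏_i K_i, F ↦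
(π_i), V ↦ (q/π_i). Let T be a finitely generated free ℤ-module and F_T an endomorphism of T. Then
there exists an R_w-module structure on the additive group T in which the class of F acts as F_T if
and only if P_w(F_T) = 0 (equivalently: F_T is semisimple after tensoring with ℚ, with eigenvalues
among the conjugates of the π_i) and there is an endomorphism V_T of T with F_T ∘ V_T = q. When it
exists the structure is determined by F_T (the class of V acts as V_T = q·F_T⁻¹), and reflexive
R_w-modules are exactly the ℤ-free finitely generated ones, so this identifies the objects of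
Refl(R_w) with such pairs (T, F_T); the uniqueness remark is not part of the formal statement. -/
theorem result (p e : ℕ) [Fact p.Prime] (he : 0 < e)
    (ι : Type) [Fintype ι] (K : ι → Type u) [∀ i, Field (K i)] [∀ i, CharZero (K i)] (π : ∀ i, K i)
    (hint : ∀ i, IsIntegral ℤ (π i))
    (hweil : ∀ i, ∀ z ∈ (minpoly ℤ (π i)).aroots ℂ, ‖z‖ = Real.sqrt ((p : ℝ) ^ e))
    (hinj : ∀ i j, minpoly ℤ (π i) = minpoly ℤ (π j) → i = j)
    (D : ℕ) (hD : ∑ i, (minpoly ℤ (π i)).natDegree = 2 * D)
    (T : Type) [AddCommGroup T] [Module.Finite ℤ T] [Module.Free ℤ T] (FT : T →ₗ[ℤ] T) :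
    (∃ _ : Module (MvPolynomial.aeval ![fun i => π i, fun i => ((p : K i) ^ e) / π i] :
        MvPolynomial (Fin 2) ℤ →ₐ[ℤ] ((i : ι) → K i)).range T,
        ∀ t : T, (⟨(MvPolynomial.aeval ![fun i => π i, fun i => ((p : K i) ^ e) / π i] :
        MvPolynomial (Fin 2) ℤ →ₐ[ℤ] ((i : ι) → K i)) (X 0), AlgHom.mem_range_self _ _⟩ : (MvPolynomial.aeval ![fun i => π i, fun i => ((p : K i) ^ e) / π i] :
        MvPolynomial (Fin 2) ℤ →ₐ[ℤ] ((i : ι) → K i)).range) • t = FT t) ↔
      (Polynomial.aeval FT (∏ i, minpoly ℤ (π i)) = 0 ∧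
        ∃ VT : T →ₗ[ℤ] T, FT ∘ₗ VT = ((p : ℤ) ^ e) • LinearMap.id) := by
  have hp : p ≠ 0 := (Fact.out : p.Prime).ne_zero
  have hr := Groth.Agent.WeilNum29.roots_family hint (pow_ne_zero e (Nat.cast_ne_zero.mpr hp)) hweil hinj
  obtain ⟨h, d, -⟩ := Groth.Agent.WeilNum29.datum_family hp hint hweil hD
  have hP0 : (∏ i, minpoly ℤ (π i)).coeff 0 ≠ 0 := by
    have hw := Groth.Agent.WeilNum29.isWeilPoly_prod (q := p ^ e) Finset.univ
      (fun i => minpoly ℤ (π i))
      fun i _ => Groth.Agent.WeilNum29.isWeilPoly_minpoly (hint i) (hweil i)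
    intro h0
    have := hw.coeff_zero_sq (pow_ne_zero _ hp)
    rw [h0] at this
    exact pow_ne_zero _ (Nat.cast_ne_zero.mpr (pow_ne_zero _ hp)) (this.symm.trans (by norm_num))
  have hF := Groth.Agent.WeilNum29.toProd_eq (p := p) (e := e) (π := π)
    (MvPolynomial.aeval ![fun i => π i, fun i => ((p : K i) ^ e) / π i] :
      MvPolynomial (Fin 2) ℤ →ₐ[ℤ] ((i : ι) → K i))
    (MvPolynomial.aeval_X _ 0) (MvPolynomial.aeval_X _ 1)
  have hker := Groth.Agent.WeilNum29.ker_toProd d hr
  rw [← hF] at hker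
  constructor
  · rintro ⟨M, hM⟩
    refine Groth.Agent.WeilNum29.conditions_of_module _ ?_
      (RingHom.mem_ker.mp (hker ▸ Ideal.subset_span (Set.mem_insert _ _))) FT M hM
    funext i
    rw [hF]
    refine (Groth.Agent.WeilNum29.toProd_apply (q := (p : ℤ) ^ e) (π := π) _ i).trans ?_
    rw [← Polynomial.aeval_algHom_apply, MvPolynomial.aeval_X]
    exact (hr.dvd _).mpr dvd_rfl i
  · rintro ⟨hP, VT, hV⟩
    exact Groth.Agent.WeilNum29.exists_module d hP0 _ hker FT VT hP hV

end Groth.Agent.S18003
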