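import Groth.Statements.S18019
import Mathlib.Algebra.Polynomial.Div
import Mathlib.Algebra.CharP.Two
import Mathlib.RingTheory.Adjoin.Basic
import Mathlib.Tactic.Ring
import Mathlib.Tactic.LinearCombination

set_option autoImplicit false
universe u
open ClassStk

namespace Groth.Agent.S18019

open Polynomial in
/-- Let R be an integral domain of characteristic 2 and let a be a nonzero element of R, so that x ↦ x +
a defines an R-algebra involution of the polynomial ring R[x] (an action of the group of order two).
A polynomial f is invariant, f(x + a) = f(x), if and only if f belongs to the R-subalgebra generated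
by u = x (x + a); in other words the ring of invariants is the polynomial ring R[u]. -/
theorem result (R : Type u) [CommRing R] [IsDomain R]
    [CharP R 2] (a : R) (ha : a ≠ 0) (f : Polynomial R) :
    f.comp (X + C a) = f ↔ f ∈ Algebra.adjoin R ({X * (X + C a)} : Set (Polynomial R)) := by
  set u : Polynomial R := X * (X + C a) with hu
  have hinv : u.comp (X + C a) = u := by
    simp only [hu, mul_comp, add_comp, X_comp, C_comp]
    have : (C a : Polynomial R) + C a = 0 := by rw [← map_add, CharTwo.add_self_eq_zero, map_zero]
    linear_combination (X + C a) * this
  constructor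
  · intro hf
    induction hd : f.natDegree using Nat.strong_induction_on generalizing f with
    | _ d ih =>
      have hum : u.Monic := monic_X.mul (monic_X_add_C a)
      have hud : u.natDegree = 2 := by
        rw [hu, monic_X.natDegree_mul (monic_X_add_C a), natDegree_X, natDegree_X_add_C]
      have hu1 : u ≠ 1 := fun h => by rw [h, natDegree_one] at hud; exact absurd hud (by norm_num)
      have hdec := modByMonic_add_div f u
      have hr : (f %ₘ u).natDegree < 2 := hud ▸ natDegree_modByMonic_lt f hum hu1
      have hcomp := congrArg (fun q => q.comp (X + C a)) hdec
      simp only [add_comp, mul_comp, hinv, hf] at hcomp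
      have hrd : ((f %ₘ u).comp (X + C a)).degree < u.degree := by
        refine lt_of_le_of_lt degree_le_natDegree ?_
        rw [degree_eq_natDegree hum.ne_zero, hud, natDegree_comp, natDegree_X_add_C, mul_one]
        exact_mod_cast hr
      obtain ⟨e1, e2⟩ := div_modByMonic_unique _ _ hum ⟨hcomp, hrd⟩
      obtain ⟨c, b, hcb⟩ := exists_eq_X_add_C_of_natDegree_le_one (show (f %ₘ u).natDegree ≤ 1 by omega)
      have hc0 : c = 0 := by
        have := e2.symm
        rw [hcb, add_comp, mul_comp, C_comp, C_comp, X_comp] at this
        have h' : C (c * a) = (0 : Polynomial R) := by rw [map_mul]; linear_combination this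
        exact (mul_eq_zero.1 (C_eq_zero.1 h')).resolve_right ha
      rw [← hdec]
      refine add_mem ?_ (mul_mem (Algebra.subset_adjoin rfl) ?_)
      · rw [hcb, hc0, map_zero, zero_mul, zero_add]; exact Subalgebra.algebraMap_mem _ b
      · by_cases hlt : f.natDegree < 2
        · have h2 : f.degree < u.degree := by
            refine lt_of_le_of_lt degree_le_natDegree ?_
            rw [degree_eq_natDegree hum.ne_zero, hud]; exact_mod_cast hlt
          rw [(divByMonic_eq_zero_iff hum).2 h2]; exact zero_mem _
        · refine ih _ ?_ (f /ₘ u) e1.symm rfl
          rw [natDegree_divByMonic f hum, hud, ← hd]; omega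
  · intro hf
    induction hf using Algebra.adjoin_induction with
    | mem x hx => rw [Set.mem_singleton_iff.1 hx]; exact hinv
    | algebraMap r => simp [Polynomial.algebraMap_eq]
    | add x y _ _ hx hy => rw [add_comp, hx, hy]
    | mul x y _ _ hx hy => rw [mul_comp, hx, hy]

end Groth.Agent.S18019
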