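import Groth.Statements.S18021
import Groth.Agent.Lib.InertiaGpd.Basic

set_option autoImplicit false
open W4c5stacksedinertia

namespace Groth.Agent.S18021

open W4c5stacksedinertia in
/-- In the rational vector space K with basis the isomorphism classes of finite groups (the class of a
group standing for its classifying groupoid), the inertia operator is diagonalizable with spectrum
the positive integers: the eigenspaces attached to natural numbers span everything, and a rational
number is an eigenvalue if and only if it is a positive integer. -/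
theorem result :
    (⨆ n : ℕ, Module.End.eigenspace inertia (n : ℚ)) = ⊤ ∧
    ∀ μ : ℚ, Module.End.HasEigenvalue inertia μ ↔ ∃ n : ℕ, 0 < n ∧ μ = (n : ℚ) := by
  classical
  have htop : (⨆ n : ℕ, ⨆ (_ : 0 < n), Module.End.eigenspace inertia (n : ℚ)) = ⊤ := by
    refine eq_top_iff.2 fun v _ => ?_
    obtain ⟨n, hn⟩ := InertiaGpd.exists_Kle v
    refine (iSup₂_le fun j hj => ?_ : _ ≤ ⨆ m : ℕ, ⨆ (_ : 0 < m), Module.End.eigenspace inertia (m : ℚ)) (InertiaGpd.mem_iSup_of_Kle hn)
    exact inf_le_left.trans (le_iSup₂_of_le j (Finset.mem_Icc.1 hj).1 le_rfl)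
  refine ⟨eq_top_iff.2 (htop.ge.trans (iSup_mono fun n => iSup_le fun _ => le_rfl)), fun μ => ⟨fun h => ?_, ?_⟩⟩
  · by_contra hc
    push Not at hc
    refine h ?_
    have hd := Module.End.eigenspaces_iSupIndep inertia μ
    refine disjoint_self.1 (hd.mono le_rfl (le_top.trans (htop.ge.trans ?_)))
    exact iSup₂_le fun n hn => le_iSup₂_of_le (n : ℚ) (hc n hn).symm le_rfl
  · rintro ⟨n, hn, rfl⟩
    haveI : NeZero n := ⟨hn.ne'⟩
    refine Module.End.hasEigenvalue_of_hasEigenvector (x := cl (Multiplicative (ZMod n))) ⟨?_, ?_⟩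
    · rw [Module.End.mem_eigenspace_iff, inertia, InertiaGpd.inertiaR_cl, InertiaGpd.inertiaROf_one]
      have hw : ∀ x : Multiplicative (ZMod n), InertiaGpd.wcl {x} = (n : ℚ) • cl (Multiplicative (ZMod n)) := by
        intro x
        have h : Subgroup.centralizer ({x} : Set (Multiplicative (ZMod n))) = ⊤ := by
          ext y; simp [Subgroup.mem_centralizer_iff, mul_comm]
        rw [InertiaGpd.wcl, InertiaGpd.cl_congr ((MulEquiv.subgroupCongr h).trans Subgroup.topEquiv),
          Nat.card_congr ((MulEquiv.subgroupCongr h).trans Subgroup.topEquiv).toEquiv]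
        simp
      rw [Finset.sum_congr rfl fun x _ => hw x, Finset.sum_const, ← Nat.cast_smul_eq_nsmul ℚ, smul_smul, smul_smul]
      congr 1
      simp
    · exact Finsupp.single_ne_zero.2 one_ne_zero

end Groth.Agent.S18021
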