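import Groth.Statements.S18024
import Groth.Agent.Lib.InertiaGpd.Basic

set_option autoImplicit false
open W4c5stacksedinertia

namespace Groth.Agent.S18024

open W4c5stacksedinertia in
/-- In the rational vector space K with basis the isomorphism classes of finite groups (the class of a
group standing for its classifying groupoid), for every `r` the kernel of `inertiaR r` is the span
of the eigenspaces of the inertia operator with eigenvalue a natural number `k < r`. -/
theorem result (r : ℕ) :
    LinearMap.ker (inertiaR r) = ⨆ k ∈ Finset.range r, Module.End.eigenspace inertia (k : ℚ) := by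
  classical
  refine le_antisymm (fun v hv => ?_) (iSup₂_le fun k hk v hv => ?_)
  · obtain ⟨n, hn⟩ := InertiaGpd.exists_Kle v
    rw [LinearMap.mem_ker] at hv
    have hvan : ∀ s, r ≤ s → inertiaR s v = 0 := by
      intro s hs
      induction s, hs using Nat.le_induction with
      | base => exact hv
      | succ s _ ih => rw [InertiaGpd.inertiaR_succ, LinearMap.sub_apply, LinearMap.comp_apply, LinearMap.smul_apply, ih, map_zero, smul_zero, sub_zero]
    obtain ⟨h1, h2⟩ := InertiaGpd.proj_spec hn
    rw [← h2]
    refine Submodule.sum_mem _ fun k _ => ?_
    by_cases hk : k < r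
    · exact Submodule.mem_iSup_of_mem k (Submodule.mem_iSup_of_mem (Finset.mem_range.2 hk) (h1 k))
    · have : InertiaGpd.proj n k v = 0 := by
        rw [InertiaGpd.proj, LinearMap.sum_apply]
        refine Finset.sum_eq_zero fun s _ => ?_
        rw [LinearMap.smul_apply]
        rcases lt_or_ge s k with h | h
        · simp [Nat.choose_eq_zero_of_lt h]
        · rw [hvan s (by omega), smul_zero]
      rw [this]; exact zero_mem _
  · rw [LinearMap.mem_ker, InertiaGpd.inertiaR_of_eigen (Module.End.mem_eigenspace_iff.1 hv),
      Nat.descFactorial_eq_zero_iff_lt.2 (Finset.mem_range.1 hk), Nat.cast_zero, zero_smul]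

end Groth.Agent.S18024
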