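import Groth.Statements.S18025
import Groth.Agent.Lib.InertiaGpd.Basic

set_option autoImplicit false
open W4c5stacksedinertia

namespace Groth.Agent.S18025

open W4c5stacksedinertia in
/-- In the rational vector space K with basis the isomorphism classes of finite groups (the class of a
group standing for its classifying groupoid), the operators `P k := ∑ r, ((-1)^(r+k) / r!) *
Nat.choose r k • inertiaR r` (a finite sum on each vector) are the eigenprojections of the inertia
operator: `P k v` lies in the `k`-eigenspace of the inertia operator for every `v` and `k`, and `∑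
k, P k v = v`. -/
theorem result (v : K) :
    (∀ k : ℕ, (∑ᶠ r : ℕ, (((-1 : ℚ) ^ (r + k)) / (Nat.factorial r : ℚ) * (Nat.choose r k : ℚ)) •
        inertiaR r v) ∈ Module.End.eigenspace inertia (k : ℚ)) ∧
    (∑ᶠ k : ℕ, ∑ᶠ r : ℕ, (((-1 : ℚ) ^ (r + k)) / (Nat.factorial r : ℚ) * (Nat.choose r k : ℚ)) •
        inertiaR r v) = v := by
  classical
  obtain ⟨n, hn⟩ := InertiaGpd.exists_Kle v
  have hf : ∀ k : ℕ, (∑ᶠ r : ℕ, (((-1 : ℚ) ^ (r + k)) / (Nat.factorial r : ℚ) * (Nat.choose r k : ℚ)) • inertiaR r v) = InertiaGpd.proj n k v := by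
    intro k
    rw [InertiaGpd.proj, LinearMap.sum_apply]
    refine (finsum_eq_sum_of_support_subset _ fun r hr => ?_).trans (Finset.sum_congr rfl fun r _ => rfl)
    rw [Finset.coe_range, Set.mem_Iio]
    by_contra hc
    exact hr (by beta_reduce; rw [InertiaGpd.inertiaR_eq_zero_of_Kle hn (by omega : n < r), smul_zero])
  obtain ⟨h1, h2⟩ := InertiaGpd.proj_spec hn
  refine ⟨fun k => by rw [hf]; exact h1 k, ?_⟩
  simp only [hf]
  rw [finsum_eq_sum_of_support_subset _ (s := Finset.range (n + 1)) fun k hk => ?_, h2]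
  rw [Finset.coe_range, Set.mem_Iio]
  by_contra hc
  apply hk
  show InertiaGpd.proj n k v = 0
  rw [InertiaGpd.proj, LinearMap.sum_apply]
  refine Finset.sum_eq_zero fun r hr => ?_
  rw [Finset.mem_range] at hr
  simp [Nat.choose_eq_zero_of_lt (by omega : r < k)]

end Groth.Agent.S18025
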