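import Groth.Statements.S18026
import Groth.Agent.Lib.HensQF6.Sections
import Mathlib.RingTheory.Unramified.LocalStructure

set_option autoImplicit false
universe u
open Hensel

namespace Groth.Agent.S18026

open AlgebraicGeometry CategoryTheory in
/-- Let `A` be a henselian discrete valuation ring and `f : T ⟶ Spec A` an étale surjective morphism of
schemes. Then some open subscheme `U` of `T` is finite over `Spec A` and still maps onto it; in
particular `U → Spec A` is a finite étale cover sitting inside `T` as an open subscheme (étaleness
of the restriction is automatic, and surjectivity records that `U` meets the closed fibre). (The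
published statement asks for an open component of `T` finite étale over `Spec A`; when `T` is not
separated — two copies of `Spec A` glued along the generic point — no open and closed subset of `T`
is finite over `Spec A`, while the published proof constructs an open subscheme, the spectrum of the
local ring of `T` at a point of the closed fibre; so this row asks only for an open subscheme.) -/
theorem result
    (A : Type u) [CommRing A] [IsDomain A] [IsDiscreteValuationRing A] [HenselianLocalRing A]
    (T : Scheme.{u}) (f : T ⟶ Spec (CommRingCat.of A)) [Etale f] [Surjective f] :
    ∃ U : T.Opens, IsFinite (U.ι ≫ f) ∧ Surjective (U.ι ≫ f) := by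
  obtain ⟨x, hx⟩ := f.surjective (IsLocalRing.closedPoint A)
  obtain ⟨U, hU, hxU, -⟩ := exists_isAffineOpen_mem_and_subset (X := T) (x := x) (U := ⊤) trivial
  haveI : LocallyQuasiFinite f := (HasRingHomProperty.iff_appLE (P := @LocallyQuasiFinite)).2 fun {U V} e => by
    have h := HasRingHomProperty.appLE @Etale f inferInstance U V e
    algebraize [(f.appLE U V e).hom]
    exact (inferInstance : Algebra.QuasiFinite Γ(Spec (CommRingCat.of A), U) Γ(T, V))
  obtain ⟨V, -, hVf, hV⟩ := HensQF6.exists_affine_piece f hU
  refine ⟨V, hVf, ⟨fun z => ?_⟩⟩
  have hz : z ∈ Set.range (V.ι ≫ f) :=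
    (IsLocalRing.specializes_closedPoint z).mem_open (V.ι ≫ f).isOpenMap.isOpen_range
      ⟨⟨x, hV x hxU hx⟩, hx⟩
  exact hz

end Groth.Agent.S18026
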