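import Groth.Statements.S18828
import Groth.Agent.Lib.FlatH4.LocCrit
import Groth.Agent.Lib.OrbitTop19.Flat
import Groth.Agent.Lib.AlgSpDescent.Instances
import Mathlib.AlgebraicGeometry.Morphisms.FlatMono
import Mathlib.AlgebraicGeometry.Morphisms.Descent
import Mathlib.AlgebraicGeometry.Noetherian
import Mathlib.FieldTheory.IsAlgClosed.AlgebraicClosure

set_option autoImplicit false
universe u
open CategoryTheory MonoidalCategory CartesianMonoidalCategory MonObj AlgebraicGeometry
open AlgGrp

namespace Groth.Agent.S18828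

set_option backward.isDefEq.respectTransparency.types false
open CategoryTheory.Limits
open Groth.Agent.OrbitTop19
open scoped TensorProduct

open IsLocalRing in
/-- A local homomorphism which is bijective on all infinitesimal neighbourhoods is flat. -/
theorem flat_of_infinitesimal {A B : Type u} [CommRing A] [CommRing B] [IsLocalRing A] [IsLocalRing B]
    [IsNoetherianRing A] [IsNoetherianRing B] (φ : A →+* B)
    (h : ∀ n : ℕ, Function.Surjective ((Ideal.Quotient.mk (maximalIdeal B ^ (n + 1))).comp φ) ∧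
      ∀ a : A, φ a ∈ maximalIdeal B ^ (n + 1) ↔ a ∈ maximalIdeal A ^ (n + 1)) : φ.Flat := by
  algebraize [φ]
  set m := maximalIdeal A
  have hle : m.map φ ≤ maximalIdeal B := Ideal.map_le_iff_le_comap.2 fun a ha => by
    simpa using ((h 0).2 a).2 (by simpa using ha)
  have hsup : maximalIdeal B ≤ m.map φ ⊔ maximalIdeal B • maximalIdeal B := by
    intro b hb
    obtain ⟨a, ha⟩ := (h 1).1 (Ideal.Quotient.mk _ b)
    have h1 : φ a - b ∈ maximalIdeal B ^ 2 := Ideal.Quotient.eq.1 ha
    have h2 : φ a ∈ maximalIdeal B ^ (0 + 1) := by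
      have := add_mem (Ideal.pow_le_self (by norm_num) h1 : φ a - b ∈ maximalIdeal B) hb
      simpa using this
    have h4 : a ∈ m := by simpa using ((h 0).2 a).1 h2
    have : b = φ a - (φ a - b) := by ring
    rw [this]
    refine sub_mem (Ideal.mem_sup_left (Ideal.mem_map_of_mem _ h4)) (Ideal.mem_sup_right ?_)
    rwa [smul_eq_mul, ← pow_two]
  have hm : m.map φ = maximalIdeal B := le_antisymm hle
    (Submodule.le_of_le_smul_of_le_jacobson_bot (maximalIdeal B).fg_of_isNoetherianRing
      (maximalIdeal_le_jacobson ⊥) hsup)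
  refine FlatH4.flat_of_forall_flat_quotient_pow (S := B) (M := B) m
    (hle.trans (maximalIdeal_le_jacobson ⊥)) fun n hn => ?_
  obtain ⟨n, rfl⟩ : ∃ j, n = j + 1 := ⟨n - 1, by omega⟩
  let e : (A ⧸ m ^ (n + 1)) →ₗ[A ⧸ m ^ (n + 1)] (A ⧸ m ^ (n + 1)) ⊗[A] B :=
    LinearMap.toSpanSingleton _ _ ((1 : A ⧸ m ^ (n + 1)) ⊗ₜ[A] (1 : B))
  let q := TensorProduct.quotTensorEquivQuotSMul B (m ^ (n + 1))
  have hI : ∀ b : B, b ∈ ((m ^ (n + 1) : Ideal A) • (⊤ : Submodule A B)) ↔ b ∈ maximalIdeal B ^ (n + 1) := fun b => by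
    rw [Ideal.smul_top_eq_map, Submodule.restrictScalars_mem, Ideal.map_pow]
    exact iff_of_eq (congrArg (fun J : Ideal B => b ∈ J ^ (n + 1)) hm)
  have he : ∀ a : A, q (e (Ideal.Quotient.mk _ a)) = Submodule.Quotient.mk (φ a) := fun a => by
    show q ((Ideal.Quotient.mk (m ^ (n + 1)) a) • ((1 : A ⧸ m ^ (n + 1)) ⊗ₜ[A] (1 : B))) = _
    rw [TensorProduct.smul_tmul', smul_eq_mul, _root_.mul_one, TensorProduct.quotTensorEquivQuotSMul_mk_tmul]
    exact congrArg _ ((Algebra.algebraMap_eq_smul_one a).symm)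
  refine Module.Flat.of_linearEquiv (LinearEquiv.ofBijective e ⟨?_, ?_⟩).symm
  · rw [injective_iff_map_eq_zero]
    intro x hx
    obtain ⟨a, rfl⟩ := Ideal.Quotient.mk_surjective x
    have h3 := he a
    rw [hx, map_zero] at h3
    exact Ideal.Quotient.eq_zero_iff_mem.2
      (((h n).2 a).1 ((hI _).1 ((Submodule.Quotient.mk_eq_zero _).1 h3.symm)))
  · intro t
    obtain ⟨b, hb⟩ := Submodule.Quotient.mk_surjective _ (q t)
    obtain ⟨a, ha⟩ := (h n).1 (Ideal.Quotient.mk _ b)
    refine ⟨Ideal.Quotient.mk _ a, q.injective ?_⟩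
    rw [he, ← hb, Submodule.Quotient.eq]
    exact (hI _).2 (Ideal.Quotient.eq.1 ha)


/-- Let k be a field and f : H → G a homomorphism of locally algebraic groups over k (group k-schemes
locally of finite type). Write e_H for the unit point of H (the image under the unit section of the
point pt of the base Spec k) and φ : O_{G,f(e_H)} → O_{H,e_H} for the induced local homomorphism of
local rings. Assume (1) φ induces an isomorphism of completed local rings, stated here as: for every
n, φ followed by reduction modulo the (n+1)-st power of the maximal ideal of O_{H,e_H} is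
surjective, and an element of O_{G,f(e_H)} maps into that power exactly when it lies in the (n+1)-st
power of the maximal ideal of O_{G,f(e_H)}; and (2) f is a monomorphism of schemes. Then f is an
open immersion. -/
theorem result (k : Type u) [Field k]
    (H G : Over (Spec (CommRingCat.of k))) [GrpObj H] [GrpObj G]
    [LocallyOfFiniteType H.hom] [LocallyOfFiniteType G.hom] (f : H ⟶ G) [IsMonHom f] [Mono f.left]
    (pt : ↥(𝟙_ (Over (Spec (CommRingCat.of k)))).left)
    (h : ∀ n : ℕ,
      Function.Surjective ((Ideal.Quotient.mk (IsLocalRing.maximalIdeal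
          ↑(H.left.presheaf.stalk (η[H].left.base pt)) ^ (n + 1))).comp
        (f.left.stalkMap (η[H].left.base pt)).hom) ∧
      ∀ a : ↑(G.left.presheaf.stalk (f.left.base (η[H].left.base pt))),
        (f.left.stalkMap (η[H].left.base pt)).hom a ∈
            IsLocalRing.maximalIdeal ↑(H.left.presheaf.stalk (η[H].left.base pt)) ^ (n + 1) ↔
          a ∈ IsLocalRing.maximalIdeal ↑(G.left.presheaf.stalk (f.left.base (η[H].left.base pt))) ^ (n + 1)) :
    IsOpenImmersion f.left := by
  haveI : IsLocallyNoetherian G.left := LocallyOfFiniteType.isLocallyNoetherian G.hom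
  haveI : IsLocallyNoetherian H.left := LocallyOfFiniteType.isLocallyNoetherian H.hom
  haveI : LocallyOfFiniteType (f.left ≫ G.hom) := by rw [Over.w f]; infer_instance
  haveI : LocallyOfFiniteType f.left := locallyOfFiniteType_of_comp _ G.hom
  haveI : LocallyOfFinitePresentation f.left := LocallyOfFinitePresentation.iff_locallyOfFiniteType.2 inferInstance
  let eH := η[H].left pt
  have hflat : (f.left.stalkMap eH).hom.Flat := flat_of_infinitesimal _ h
  suffices Flat f.left from IsOpenImmersion.of_flat_of_mono f.left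
  let L : H.left.Opens := ⟨_, FlatH4.isOpen_flatLocus f.left⟩
  haveI : Flat (L.ι ≫ f.left) := (Flat.iff_flat_stalkMap _).2 fun x => by
    rw [Scheme.Hom.stalkMap_comp]
    exact RingHom.Flat.comp (show (f.left.stalkMap (L.ι x)).hom.Flat from x.2) (Flat.stalkMap L.ι x)
  let K := AlgebraicClosure k
  let φ := Spec.map (CommRingCat.ofHom (algebraMap k K))
  let F := Over.pullback φ
  letI : GrpObj (F.obj G) := Functor.grpObjObj
  letI : GrpObj (F.obj H) := Functor.grpObjObj
  let fK := F.map f
  haveI hfK : IsMonHom fK := inferInstance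
  haveI : LocallyOfFiniteType (F.obj H).hom := inferInstanceAs (LocallyOfFiniteType (pullback.snd H.hom φ))
  haveI : LocallyOfFiniteType (F.obj G).hom := inferInstanceAs (LocallyOfFiniteType (pullback.snd G.hom φ))
  have hfst : fK.left ≫ pullback.fst G.hom φ = pullback.fst H.hom φ ≫ f.left := pullback.lift_fst _ _ _
  have hsnd : fK.left ≫ pullback.snd G.hom φ = pullback.snd H.hom φ := pullback.lift_snd _ _ _
  have hsq : IsPullback (pullback.fst H.hom φ) fK.left f.left (pullback.fst G.hom φ) := by
    refine IsPullback.of_bot ?_ hfst.symm (IsPullback.of_hasPullback G.hom φ)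
    rw [hsnd, Over.w f]
    exact IsPullback.of_hasPullback H.hom φ
  haveI : LocallyOfFiniteType fK.left := MorphismProperty.of_isPullback (P := @LocallyOfFiniteType) hsq inferInstance
  let LK : (F.obj H).left.Opens := pullback.fst H.hom φ ⁻¹ᵁ L
  haveI : Flat (LK.ι ≫ fK.left) := MorphismProperty.of_isPullback (P := @Flat)
    ((isPullback_morphismRestrict (pullback.fst H.hom φ) L).paste_vert hsq) inferInstance
  have hLK : ∀ x ∈ LK, (fK.left.stalkMap x).hom.Flat := fun x hx => by
    have h1 := Flat.stalkMap (LK.ι ≫ fK.left) ⟨x, hx⟩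
    rw [Scheme.Hom.stalkMap_comp] at h1
    have h2 : fK.left.stalkMap (LK.ι ⟨x, hx⟩) =
        (fK.left.stalkMap (LK.ι ⟨x, hx⟩) ≫ LK.ι.stalkMap ⟨x, hx⟩) ≫ inv (LK.ι.stalkMap ⟨x, hx⟩) := by simp
    show (fK.left.stalkMap (LK.ι ⟨x, hx⟩)).hom.Flat
    rw [h2]
    exact RingHom.Flat.comp h1 (RingHom.Flat.of_bijective
      (ConcreteCategory.bijective_of_isIso (inv (LK.ι.stalkMap ⟨x, hx⟩))))
  let eK := (η[F.obj H]).left (IsLocalRing.closedPoint K)
  have heK : eK ∈ LK := by
    show (f.left.stalkMap (pullback.fst H.hom φ eK)).hom.Flat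
    have : pullback.fst H.hom φ eK = eH := by
      show pullback.fst H.hom φ ((Functor.LaxMonoidal.ε F ≫ F.map η[H]).left _) = _
      rw [Over.comp_left, ← Scheme.Hom.comp_apply, Category.assoc,
        show (F.map η[H]).left ≫ pullback.fst H.hom φ = pullback.fst _ φ ≫ (η[H]).left from pullback.lift_fst _ _ _,
        Scheme.Hom.comp_apply, Scheme.Hom.comp_apply]
      exact congrArg (η[H]).left (Subsingleton.elim (α := ↥(Spec (CommRingCat.of k))) _ _)
    rw [this]; exact hflat
  let LF : Set (F.obj H).left := {x | (fK.left.stalkMap x).hom.Flat}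
  haveI : IsLocallyNoetherian (F.obj G).left := LocallyOfFiniteType.isLocallyNoetherian (F.obj G).hom
  haveI : LocallyOfFinitePresentation fK.left := LocallyOfFinitePresentation.iff_locallyOfFiniteType.2 inferInstance
  haveI : JacobsonSpace (F.obj H).left := LocallyOfFiniteType.jacobsonSpace (Y := Spec _) (F.obj H).hom
  have hclosed : ∀ x : (F.obj H).left, IsClosed {x} → x ∈ LF := by
    intro x hx
    obtain ⟨c, hc⟩ := OrbitTop19.exists_point (F.obj H) x hx
    let u := tr (mulAction (F.obj H)) c⁻¹
    let v := tr (mulAction (F.obj G)) (c⁻¹ ≫ fK)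
    haveI : IsIso u.left := inferInstanceAs (IsIso ((Over.forget _).map (trIso (mulAction (F.obj H)) c⁻¹).hom))
    haveI : IsIso v.left := inferInstanceAs (IsIso ((Over.forget _).map (trIso (mulAction (F.obj G)) (c⁻¹ ≫ fK)).hom))
    have huv : fK ≫ v = u ≫ fK := by
      show fK ≫ lift (toUnit _ ≫ c⁻¹ ≫ fK) (𝟙 _) ≫ μ[F.obj G] = (lift (toUnit _ ≫ c⁻¹) (𝟙 _) ≫ μ[F.obj H]) ≫ fK
      rw [Category.assoc, IsMonHom.mul_hom, lift_map_assoc, ← Category.assoc fK, comp_lift, ← Category.assoc fK,
        comp_toUnit, Category.assoc, Category.comp_id, Category.id_comp]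
    refine flat_stalkMap_transfer fK.left fK.left u.left v.left
      (by rw [← Over.comp_left, ← Over.comp_left, huv]) x (hLK _ ?_)
    have e : u.left x = eK := by
      rw [← hc]
      refine (apply_comp_left c u _ ?_ _).trans rfl
      show c ≫ tr (mulAction (F.obj H)) c⁻¹ = η[F.obj H]
      rw [comp_tr, Subsingleton.elim (toUnit (𝟙_ _)) (𝟙 _), Category.id_comp]
      show lift c⁻¹ c ≫ μ[F.obj H] = _
      rw [← Hom.mul_def, inv_mul_cancel]; simp [Hom.one_def]
    rw [e]; exact heK
  haveI : Flat fK.left := (Flat.iff_flat_stalkMap _).2 fun x => by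
    by_contra hx
    obtain ⟨y, hy, hyc⟩ := nonempty_inter_closedPoints (Z := LFᶜ) ⟨x, hx⟩
      (FlatH4.isOpen_flatLocus fK.left).isClosed_compl.isLocallyClosed
    exact hy (hclosed y hyc)
  haveI : Surjective (pullback.fst G.hom φ) := inferInstance
  exact MorphismProperty.of_isPullback_of_descendsAlong (Q := @Surjective ⊓ @Flat ⊓ @QuasiCompact) hsq.flip
    ⟨⟨inferInstance, inferInstance⟩, inferInstance⟩ ‹Flat fK.left›

end Groth.Agent.S18828
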