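import Groth.Statements.S18027
import Groth.Agent.S18828
import Groth.Agent.Lib.GrpField.Smooth
import Groth.Agent.Lib.SerreCrit.Basic
import Groth.Agent.Lib.RegLoc.Basic
import Mathlib.RingTheory.KrullDimension.NonZeroDivisors

set_option autoImplicit false
universe u
open CategoryTheory MonoidalCategory CartesianMonoidalCategory MonObj GrpObj AlgebraicGeometry CategoryTheory.Limits
open AlgGrp

namespace Groth.Agent.S18027

set_option linter.style.haveILetI false
set_option backward.isDefEq.respectTransparency.types false
open Groth.Agent

/-- A surjection from a noetherian local domain onto a ring of the same dimension is injective. -/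
theorem injective_of_surjective {A B : Type u} [CommRing A] [IsDomain A] [IsLocalRing A] [IsNoetherianRing A]
    [CommRing B] [Nontrivial B] (φ : A →+* B) (hφ : Function.Surjective φ) (h : ringKrullDim B = ringKrullDim A) :
    Function.Injective φ := by
  refine (injective_iff_map_eq_zero φ).2 fun r hr => ?_
  by_contra hne
  have h1 := ringKrullDim_succ_le_of_surjective φ hφ (mem_nonZeroDivisors_of_ne_zero hne) hr
  rw [h] at h1
  obtain ⟨n, hn⟩ : ∃ n : ℕ, ringKrullDim A = n := by
    have h2 := ringKrullDim_lt_top (R := A)
    have h3 := ringKrullDim_nonneg_of_nontrivial (R := A)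
    induction hx : ringKrullDim A using WithBot.recBotCoe with
    | bot => simp [hx] at h3
    | coe x =>
      induction x with
      | top => simp [hx] at h2
      | coe m => exact ⟨m, rfl⟩
  rw [hn] at h1
  have h2 : n + 1 ≤ n := by exact_mod_cast h1
  omega

/-- Let `k` be a field and `u : G ⟶ H` a homomorphism of smooth `k`-group schemes which is a closed
immersion, where `G` and `H` have the same dimension. Then `u` carries the connected component of
the identity of `G` onto the connected component of the identity of `H`; as `u` is a closed
immersion and `H` is reduced, `u` therefore restricts to an isomorphism between the identity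
components. (The second printed assertion, on the groups of components, is not included.) -/
theorem result (k : Type u) [Field k]
    (G H : Over (Spec (CommRingCat.of k))) [GrpObj G] [GrpObj H]
    [Smooth G.hom] [Smooth H.hom] (u : G ⟶ H) [IsMonHom u] [IsClosedImmersion u.left]
    (hdim : topologicalKrullDim ↥G.left = topologicalKrullDim ↥H.left)
    (t : ↥((𝟙_ (Over (Spec (CommRingCat.of k)))).left)) :
    ⇑u.left.base '' connectedComponent (η[G].left.base t) = connectedComponent (η[H].left.base t) := by
  haveI : Subsingleton ↥(𝟙_ (Over (Spec (CommRingCat.of k)))).left := inferInstanceAs (Subsingleton (PrimeSpectrum k))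
  haveI : LocallyOfFiniteType u.left := inferInstance
  haveI : Mono u.left := inferInstance
  haveI : IsLocallyNoetherian H.left := LocallyOfFiniteType.isLocallyNoetherian H.hom
  haveI : IsLocallyNoetherian G.left := LocallyOfFiniteType.isLocallyNoetherian G.hom
  set eG := η[G].left.base t with heG
  have hu : u.left.base eG = η[H].left.base t := by
    rw [heG, ← IsMonHom.one_hom u]; rfl
  have hunit : ∀ (M : Over (Spec (CommRingCat.of k))) [GrpObj M] [LocallyOfFiniteType M.hom],
      IsClosed ({η[M].left.base t} : Set M.left) := fun M _ _ => by
    rw [Subsingleton.elim t (IsLocalRing.closedPoint k : Spec (CommRingCat.of k))]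
    exact GrpField.isClosed_unitPoint M
  haveI := WeilExt.isRegularLocalRing_stalk_of_smooth H.hom (u.left.base eG)
  haveI : IsDomain ↑(H.left.presheaf.stalk (u.left.base eG)) := RegLoc.isDomain _
  have hsurj : Function.Surjective (u.left.stalkMap eG).hom := Scheme.Hom.stalkMap_surjective u.left eG
  have hinj : Function.Injective (u.left.stalkMap eG).hom := by
    refine injective_of_surjective _ hsurj ?_
    rw [GrpField.ringKrullDim_stalk_eq G eG (hunit G), GrpField.ringKrullDim_stalk_eq H _ (hu ▸ hunit H), hdim]
  have hmax : (IsLocalRing.maximalIdeal ↑(H.left.presheaf.stalk (u.left.base eG))).map (u.left.stalkMap eG).hom =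
      IsLocalRing.maximalIdeal ↑(G.left.presheaf.stalk eG) := by
    refine le_antisymm (Ideal.map_le_iff_le_comap.2 fun a ha hua => ha (isUnit_of_map_unit (u.left.stalkMap eG).hom a hua)) ?_
    intro b hb
    obtain ⟨a, rfl⟩ := hsurj b
    exact Ideal.mem_map_of_mem _ fun hua => hb (hua.map _)
  haveI : IsOpenImmersion u.left := Groth.Agent.S18828.result k G H u t fun n => by
    refine ⟨Ideal.Quotient.mk_surjective.comp hsurj, fun a => ?_⟩
    rw [← hmax, ← Ideal.map_pow]
    refine ⟨fun ha => ?_, Ideal.mem_map_of_mem _⟩
    obtain ⟨b, hb, e⟩ := (Ideal.mem_map_iff_of_surjective _ hsurj).1 ha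
    exact hinj e ▸ hb
  have hclopen : IsClopen (Set.range u.left.base) :=
    ⟨u.left.isClosedEmbedding.isClosed_range, u.left.isOpenEmbedding.isOpen_range⟩
  rw [← hu]
  refine Set.Subset.antisymm (u.left.continuous.image_connectedComponent_subset _) ?_
  have hsub := hclopen.connectedComponent_subset ⟨eG, rfl⟩
  rw [← Set.image_preimage_eq_of_subset hsub]
  refine Set.image_mono (_root_.IsPreconnected.subset_connectedComponent ?_ mem_connectedComponent)
  exact isPreconnected_connectedComponent.preimage_of_isOpenMap u.left.isClosedEmbedding.injective
    u.left.isOpenEmbedding.isOpenMap hsub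

end Groth.Agent.S18027
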