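import Groth.Statements.S18030
import Groth.Agent.Lib.DMGen16.Main

set_option autoImplicit false
universe u
open CategoryTheory AlgebraicGeometry
open AlgSt

namespace Groth.Agent.S18030

/-- The generic-finiteness step of its proof: let `B` be a Noetherian ring and `𝒳` a Deligne–Mumford
stack over `Spec B` (big étale topology) which is locally of finite type and quasi-compact over
`Spec B`, has affine diagonal, is reduced and has an irreducible space of points. Then some open
substack `𝒰 ⊆ 𝒳` with a point has finite étale inertia: there is an open immersion `j : 𝒰 ⟶ 𝒳` with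
`|𝒰|` non-empty such that `I𝒰 ⟶ 𝒰` is representable by algebraic spaces, finite and étale. (The
published proposition is the stratification of every Noetherian Deligne–Mumford stack into finitely
many locally closed substacks that are connected with finite étale inertia; this row is the generic
step that its proof establishes and from which the stratification follows by Noetherian induction.) -/
theorem result
    (B : Type u) [CommRing B] [IsNoetherianRing B]
    (𝒳 : AlgSt.Cat (Spec (CommRingCat.of B)))
    (h𝒳 : AlgSt.IsDM Scheme.etalePrecoverage 𝒳)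
    (hft : AlgSt.LocQ (AlgSp.LocP @LocallyOfFiniteType) (FibCat.toSelf 𝒳))
    (hqc : AlgSt.IsQuasiCompact 𝒳)
    (hΔ : AlgSt.RepByAlgSpWith AlgSp.IsAffineMor (FibCat.diag (FibCat.toSelf 𝒳)))
    (hred : AlgSt.SmoothLocally (fun T => IsReduced T) 𝒳)
    (hirr : IrreducibleSpace (AlgSt.Points 𝒳)) :
    ∃ (𝒰 : AlgSt.Cat (Spec (CommRingCat.of B))) (j : 𝒰 ⥤ᵇ 𝒳),
      AlgSt.IsOpenImm j ∧ Nonempty (AlgSt.Points 𝒰) ∧
      AlgSt.RepByAlgSpWith (AlgSp.IsFiniteMor ⊓ AlgSp.IsEtaleMor) (FibCat.inertiaToBase (FibCat.toSelf 𝒰)) := by
  haveI : IsLocallyNoetherian (Spec (CommRingCat.of B)) := inferInstance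
  exact DMGen16.exists_open_finite_etale h𝒳 hft hΔ hred (hirr.toNonempty)

end Groth.Agent.S18030
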