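import Groth.Statements.S18042
import Groth.Agent.Lib.CBPoints15.Space
-- import your own Groth.Agent.* helpers here

set_option autoImplicit false
universe u
open AdjLin

namespace Groth.Agent.S18042

/-- Let k be an algebraically closed field of characteristic zero, n ≥ 1, and Z a finite set of points
of projective 3-space over k (points of the projectivization of k⁴, forms in four variables being
evaluated at the chosen representative) with the Cayley–Bacharach property in degree n: every form
of degree n vanishing at all points of Z but one vanishes at that point as well. If Z has at most 3n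
+ 1 points, then either all points of Z lie in one plane (a common 3-dimensional subspace of k⁴), or
they lie on the union of two skew lines (two 2-dimensional subspaces of k⁴ meeting in zero), each
line carrying at least n + 1 points of Z, and Z has at least 2n + 3 points. (The source states this
for an arbitrary zero-dimensional subscheme, with a third alternative, containment in the
first-order thickening of a line; for the reduced subschemes treated here that alternative is a case
of coplanarity.) -/
theorem result (k : Type u) [Field k] [IsAlgClosed k] [CharZero k]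
    (Z : Finset (Projectivization k (Fin 4 → k))) (n : ℕ) (hn : 1 ≤ n)
    (hCB : (∀ z ∈ Z, ∀ p : MvPolynomial (Fin 4) k, p.IsHomogeneous n →
      (∀ z' ∈ Z, z' ≠ z → MvPolynomial.eval z'.rep p = 0) → MvPolynomial.eval z.rep p = 0))
    (hcard : Z.card ≤ 3 * n + 1) :
    (∃ W : Submodule k (Fin 4 → k), Module.finrank k ↥W = 3 ∧ ∀ z ∈ Z, z.submodule ≤ W) ∨
      (∃ W₁ W₂ : Submodule k (Fin 4 → k), Module.finrank k ↥W₁ = 2 ∧ Module.finrank k ↥W₂ = 2 ∧ W₁ ⊓ W₂ = ⊥ ∧
        (∀ z ∈ Z, z.submodule ≤ W₁ ∨ z.submodule ≤ W₂) ∧
        n + 1 ≤ Set.ncard {z : Projectivization k (Fin 4 → k) | z ∈ Z ∧ z.submodule ≤ W₁} ∧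
        n + 1 ≤ Set.ncard {z : Projectivization k (Fin 4 → k) | z ∈ Z ∧ z.submodule ≤ W₂} ∧
        2 * n + 3 ≤ Z.card) := by
  classical
  have hsub : ∀ (W : Submodule k (Fin 4 → k)) (z : Projectivization k (Fin 4 → k)),
      z.submodule ≤ W ↔ z.rep ∈ W := fun W z => by
    rw [Projectivization.submodule_eq, Submodule.span_singleton_le_iff_mem]
  by_cases hcop : CBPoints15.Cop Z
  · left
    obtain ⟨W, hW, hZW⟩ := hcop
    have hlt : W < ⊤ := lt_top_iff_ne_top.2 fun h => by
      have h4 : Module.finrank k ↥W = 4 := by rw [h, finrank_top]; simp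
      omega
    obtain ⟨f, hf, hWf⟩ := Submodule.exists_le_ker_of_lt_top W hlt
    refine ⟨LinearMap.ker f, ?_, fun z hz => (hsub _ z).2 (hWf (hZW z hz))⟩
    have h5 := Module.Dual.finrank_ker_add_one_of_ne_zero hf
    rw [Module.finrank_fin_fun] at h5
    omega
  · right
    obtain ⟨L, T, hL, hT, hTc, hTL⟩ := CBPoints15.exists_line n Z hn hCB hcard hcop
    obtain ⟨L₂, hL₂, hskew, hcov⟩ := CBPoints15.exists_two_lines_of_line hn hCB hcard hcop hL
      (hTc.trans (Finset.card_le_card fun z hz => Finset.mem_filter.2 ⟨hT hz, hTL z hz⟩))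
    have hex : ∀ K : Submodule k (Fin 4 → k), Module.finrank k ↥K = 2 → ∃ z ∈ Z, z.rep ∉ K := by
      intro K hK
      by_contra h
      push Not at h
      exact hcop ⟨K, by omega, h⟩
    have c1 := CBPoints15.card_line_ge hn hCB hskew hcov (hex L₂ hL₂)
    have c2 := CBPoints15.card_line_ge hn hCB (inf_comm L L₂ ▸ hskew) (fun z hz => (hcov z hz).symm) (hex L hL)
    have hn' : ∀ K : Submodule k (Fin 4 → k),
        Set.ncard {z : Projectivization k (Fin 4 → k) | z ∈ Z ∧ z.submodule ≤ K} =
          (Z.filter fun z => z.rep ∈ K).card := fun K => by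
      rw [← Set.ncard_coe_finset]
      congr 1
      ext z
      simp [hsub]
    refine ⟨L, L₂, hL, hL₂, hskew, fun z hz => (hcov z hz).imp (hsub _ z).2 (hsub _ z).2, ?_, ?_, ?_⟩
    · rw [hn']; omega
    · rw [hn']; omega
    · have hd : Disjoint (Z.filter fun z => z.rep ∈ L) (Z.filter fun z => z.rep ∈ L₂) :=
        Finset.disjoint_left.2 fun z h1 h2 => z.rep_nonzero ((Submodule.mem_bot k).1
          (hskew ▸ Submodule.mem_inf.2 ⟨(Finset.mem_filter.1 h1).2, (Finset.mem_filter.1 h2).2⟩))
      have h := Finset.card_le_card (Finset.union_subset (Finset.filter_subset _ Z : (Z.filter fun z => z.rep ∈ L) ⊆ Z)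
        (Finset.filter_subset _ Z : (Z.filter fun z => z.rep ∈ L₂) ⊆ Z))
      rw [Finset.card_union_of_disjoint hd] at h
      omega


end Groth.Agent.S18042
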