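import Groth.Statements.S18046
import Groth.Agent.Lib.LMSimple8.CBEval3
import Groth.Agent.Lib.FundIso12.SmoothProj
import Groth.Agent.Lib.PicPn.Aut
import Groth.Agent.Lib.TensorMod.PullTensor

set_option backward.isDefEq.respectTransparency false
set_option backward.isDefEq.respectTransparency.types false
set_option maxHeartbeats 1600000
-- import your own Groth.Agent.* helpers here

set_option autoImplicit false
universe u
open CategoryTheory CategoryTheory.Limits AlgebraicGeometry
open AdjLin

namespace Groth.Agent.S18046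

/-- Let k be an algebraically closed field of characteristic zero and X ⊂ P³_k a smooth surface of
degree d, that is, a closed immersion ι : X → P³_k of an irreducible smooth k-scheme of dimension 2
whose hyperplane class H = ι*O(1) has self-intersection (H·H) = d (computed as an alternating sum of
Euler characteristics from two copies of ι*O(−1)); write O_X(j) = ι*O_{P³}(j) and h⁰(F) for the
k-dimension of H⁰(X, F). Let Z ⊂ X be a zero-dimensional local complete intersection subscheme (a
quasi-coherent ideal I_Z with finite support, generated by two sections on an affine neighbourhood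
of every point) with the Cayley–Bacharach property for O_X(n): for every quasi-coherent ideal I'
covering I_Z in the order of ideal sheaves, every global section of O_X(n) whose zero scheme has
ideal ≤ I' has zero scheme with ideal ≤ I_Z. For an integer j put r_Z(j) = h⁰(O_X(j)) − h⁰(O_X(j) ⊗
I_Z), the rank of the evaluation of forms of degree j on Z. Then for every integer m ≤ n, r_Z(m) +
r_Z(n − m) ≤ χ(O_X/I_Z) + h⁰(O_X(d − 4 − m)), where χ(O_X/I_Z), the Euler characteristic of the
structure sheaf of Z pushed to X, is the length of Z. (The published lemma does not assume that Z is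
a local complete intersection; its proof constructs a rank-2 vector bundle from Z by the
Cayley–Bacharach criterion, which needs this, so it is assumed here.) -/
theorem result
    (k : Type u) [Field k] [IsAlgClosed k] [CharZero k]
    (X : Scheme.{u}) [X.Over (Spec (CommRingCat.of k))] [Smooth (X ↘ (Spec (CommRingCat.of k)))]
    [IrreducibleSpace X] (hdim : topologicalKrullDim X = 2)
    (ι : X ⟶ CohB1.ProjSpace 3 k) [IsClosedImmersion ι]
    (hι : ι ≫ CohB1.ProjSpace.toSpec 3 k = X ↘ (Spec (CommRingCat.of k)))
    (d : ℤ) (hd : FGA.intNum k X 2 ![((Scheme.Modules.pullback ι).obj (Twist.twistProjSpace 3 k (-1))), ((Scheme.Modules.pullback ι).obj (Twist.twistProjSpace 3 k (-1)))] (Coh.structureModule X) = d)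
    (IZ : X.IdealSheafData) (hfin : (IZ.support : Set X).Finite)
    (hlci : ∀ x : X, ∃ V : X.affineOpens, x ∈ (V : X.Opens) ∧
      ∃ a b : Γ(X, V), IZ.ideal V = Ideal.span {a, b})
    (n m : ℤ) (hm : m ≤ n)
    (hCB : ∀ I' : X.IdealSheafData, IZ ⋖ I' →
      ∀ σ : Coh.structureModule X ⟶ ((Scheme.Modules.pullback ι).obj (Twist.twistProjSpace 3 k (n))),
        PicF2.zeroScheme ((Scheme.Modules.pullback ι).obj (Twist.twistProjSpace 3 k (n))) σ ≤ I' → PicF2.zeroScheme ((Scheme.Modules.pullback ι).obj (Twist.twistProjSpace 3 k (n))) σ ≤ IZ) :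
    ((Module.finrank k (Coh.HH X ((Scheme.Modules.pullback ι).obj (Twist.twistProjSpace 3 k (m))) 0) : ℤ) - (Module.finrank k (Coh.HH X (CohB1.tensorMod ((Scheme.Modules.pullback ι).obj (Twist.twistProjSpace 3 k (m))) (ClSub.idealMod IZ)) 0) : ℤ)) +
        ((Module.finrank k (Coh.HH X ((Scheme.Modules.pullback ι).obj (Twist.twistProjSpace 3 k (n - m))) 0) : ℤ) - (Module.finrank k (Coh.HH X (CohB1.tensorMod ((Scheme.Modules.pullback ι).obj (Twist.twistProjSpace 3 k (n - m))) (ClSub.idealMod IZ)) 0) : ℤ)) ≤
      FGA.eulerCharLE k X (ClSub.quotMod IZ) 2 + (Module.finrank k (Coh.HH X ((Scheme.Modules.pullback ι).obj (Twist.twistProjSpace 3 k (d - 4 - m))) 0) : ℤ) := by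
  haveI := Groth.Agent.FundIso12.isProper_of_proj ι hι
  haveI : IsReduced X := Groth.Agent.OrbitTop19.isReduced_of_smooth (X ↘ Spec (CommRingCat.of k))
  haveI : IsIntegral X := isIntegral_of_irreducibleSpace_of_isReduced X
  haveI : IsNoetherian X := CohFound.isNoetherian_of_isProper (X ↘ Spec (CommRingCat.of k))
  haveI : SmoothOfRelativeDimension 2 (X ↘ Spec (CommRingCat.of k)) := SurfRR10.smoothRelDim (k := k) hdim
  have hinv : ∀ j : ℤ, PicF.IsInvertible ((Scheme.Modules.pullback ι).obj (Twist.twistProjSpace 3 k j)) := fun j =>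
    Groth.Agent.Twist.isInvertible_pullback ι (Groth.Agent.Twist.isInvertible_twist _ (Groth.Agent.Twist.iSup_basicOpen_one 3 k) j)
  obtain ⟨t⟩ := Groth.Agent.Twist.nonempty_tensor_iso (CohB1.polyGrading 3 k) m (n - m)
    (Groth.Agent.Twist.iSup_basicOpen_one 3 k)
  let eN : CohB1.tensorMod ((Scheme.Modules.pullback ι).obj (Twist.twistProjSpace 3 k m))
      ((Scheme.Modules.pullback ι).obj (Twist.twistProjSpace 3 k (n - m))) ≅
      (Scheme.Modules.pullback ι).obj (Twist.twistProjSpace 3 k n) :=
    (M2.pullTensorIso _ _ _).symm ≪≫ (Scheme.Modules.pullback ι).mapIso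
      (t ≪≫ eqToIso (congrArg (Twist.twist (CohB1.polyGrading 3 k)) (add_sub_cancel m n)))
  have h := LMSimple8.rank_add_rank_le (k := k) IZ hfin
    (LMSimple8.isClosed_points_of_finite (k := k) IZ.support.isClosed hfin)
    (fun x hx => LMSimple8.exists_socle_qAt (k := k) IZ hfin hlci x hx)
    (hinv m) (hinv (n - m)) (hinv n) eN hCB
  have hQ : Coh.IsCoh (ClSub.quotMod IZ) :=
    CohFound.isCoh_push_closedImm IZ.subschemeι (M1.isCoh_structureModule _)
  have hdQ : topologicalKrullDim (CohB1.support (ClSub.quotMod IZ)) ≤ ((0 : ℕ) : WithBot ℕ∞) :=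
    le_trans (Topology.IsEmbedding.inclusion (NumPoly18.support_quotMod_subset IZ)).isInducing.topologicalKrullDim_le
      (InterLen.dim_le_zero_of_finite (k := k) IZ.support.isClosed hfin)
  haveI : Subsingleton (Coh.HH X (ClSub.quotMod IZ) 1) :=
    NumPoly18.subsingleton_HH_of_support (k := k) hQ (d := 0) hdQ (show 0 < 1 by omega)
  haveI : Subsingleton (Coh.HH X (ClSub.quotMod IZ) 2) :=
    NumPoly18.subsingleton_HH_of_support (k := k) hQ (d := 0) hdQ (show 0 < 2 by omega)
  have he : FGA.eulerCharLE k X (ClSub.quotMod IZ) 2 = (Module.finrank k (Coh.HH X (ClSub.quotMod IZ) 0) : ℤ) := by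
    simp [FGA.eulerCharLE, Finset.sum_range_succ, Module.finrank_zero_of_subsingleton]
  rw [he]
  omega

end Groth.Agent.S18046
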