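import Groth.Statements.S18049
import Mathlib.Tactic.Linarith
import Mathlib.Tactic.Ring

set_option autoImplicit false
open STCI

namespace Groth.Agent.S18049

/-- For natural numbers 0 < k < N such that k does not divide N, ⌊N/k⌋ ≤ (N - k)/gcd(k, N); stated here
in the equivalent cleared form ⌊N/k⌋ · gcd(k, N) ≤ N - k. -/
theorem result (k N : ℕ) (hk : 0 < k) (hkN : k < N) (hndvd : ¬ k ∣ N) :
    N / k * Nat.gcd k N ≤ N - k := by
  obtain ⟨g, a, b, hg, hco, ha, hb⟩ := Nat.exists_coprime' (Nat.gcd_pos_of_pos_left N hk)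
  have hgcd : Nat.gcd k N = g := by
    conv_lhs => rw [ha, hb]
    rw [Nat.gcd_mul_right, hco, one_mul]
  rw [hgcd, hb, ha, Nat.mul_div_mul_right _ _ hg, ← Nat.sub_mul]
  apply Nat.mul_le_mul_right
  have ha0 : 0 < a := by
    rcases Nat.eq_zero_or_pos a with h | h
    · subst h; simp at ha; omega
    · exact h
  have hna : ¬ a ∣ b := by
    intro h; apply hndvd; rw [ha, hb]; exact Nat.mul_dvd_mul_right h g
  have hab : a < b := by
    rw [ha, hb] at hkN; exact Nat.lt_of_mul_lt_mul_right hkN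
  have h1 := Nat.div_add_mod b a
  have h2 : 0 < b % a := Nat.pos_of_ne_zero fun h => hna (Nat.dvd_of_mod_eq_zero h)
  have h3 : 1 ≤ b / a := Nat.div_pos hab.le ha0
  generalize hq : b / a = q at *
  have h4 : a + q ≤ a * q + 1 := by nlinarith
  omega

end Groth.Agent.S18049
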