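import Groth.Statements.S18053
import Mathlib

set_option autoImplicit false
open STCI

namespace Groth.Agent.S18053

/-- Let (p_k)_{k ≥ 1} be a sequence of nonnegative integers and n a nonnegative integer such that (i)
p_1 ≤ 9 - (2/5)n, (ii) p_1 ≥ p_2 ≥ p_3 ≥ ⋯, (iii) Σ_k p_k ≤ 19 - n, and (iv) n/4 + Σ_{k ≥ 1}
p_k/(k(k+1)) ≥ 6. Then n = 0 and (p_k) is one of (9, 8, 2), (9, 9), (9, 9, 1) (followed by zeros).
Here the sequence is indexed from 0 (so p 0 is p_1 and the weight of p k is 1/((k+1)(k+2))), (iii)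
is stated for every partial sum, and the series in (iv) is the real sum Σ' over all k. -/
theorem result (p : ℕ → ℕ) (n : ℕ)
    (h1 : (p 0 : ℝ) ≤ 9 - (2 / 5 : ℝ) * n) (h2 : Antitone p)
    (h3 : ∀ m : ℕ, ((∑ k ∈ Finset.range m, p k : ℕ) : ℝ) ≤ 19 - (n : ℝ))
    (h4 : (6 : ℝ) ≤ (n : ℝ) / 4 + ∑' k : ℕ, (p k : ℝ) / (((k : ℝ) + 1) * ((k : ℝ) + 2))) :
    n = 0 ∧ (p = (fun k => if k = 0 then 9 else if k = 1 then 8 else if k = 2 then 2 else 0)
      ∨ p = (fun k => if k = 0 then 9 else if k = 1 then 9 else 0)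
      ∨ p = (fun k => if k = 0 then 9 else if k = 1 then 9 else if k = 2 then 1 else 0)) := by
  have hsum : ∀ m, (∑ k ∈ Finset.range m, p k) + n ≤ 19 := fun m => by
    have h := h3 m
    have h' : ((∑ k ∈ Finset.range m, p k : ℕ) : ℝ) + (n : ℝ) ≤ (19 : ℝ) := by linarith
    exact_mod_cast h'
  have hzero : ∀ k, 20 ≤ k → p k = 0 := fun k hk => by
    by_contra hne
    have h1 : ∑ i ∈ Finset.range (k + 1), 1 ≤ ∑ i ∈ Finset.range (k + 1), p i :=
      Finset.sum_le_sum fun i hi => le_trans (Nat.one_le_iff_ne_zero.2 hne) (h2 (Nat.lt_succ_iff.1 (Finset.mem_range.1 hi)))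
    simp at h1
    have := hsum (k + 1)
    omega
  have ht : ∑' k : ℕ, (p k : ℝ) / (((k : ℝ) + 1) * ((k : ℝ) + 2)) =
      ∑ k ∈ Finset.range 20, (p k : ℝ) / (((k : ℝ) + 1) * ((k : ℝ) + 2)) := by
    refine tsum_eq_sum fun k hk => ?_
    rw [hzero k (by simpa using hk)]
    simp
  have h20 := hsum 20
  rw [ht, Finset.range_eq_Ico, ← Finset.sum_Ico_consecutive _ (show 0 ≤ 3 by omega) (show 3 ≤ 20 by omega)] at h4
  rw [Finset.range_eq_Ico, ← Finset.sum_Ico_consecutive _ (show 0 ≤ 3 by omega) (show 3 ≤ 20 by omega)] at h20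
  have hr : (∑ k ∈ Finset.Ico 3 20, (p k : ℝ) / (((k : ℝ) + 1) * ((k : ℝ) + 2))) ≤
      ((∑ k ∈ Finset.Ico 3 20, p k : ℕ) : ℝ) / 20 := by
    rw [Nat.cast_sum, Finset.sum_div]
    refine Finset.sum_le_sum fun k hk => ?_
    have hk3 : (3 : ℝ) ≤ k := by exact_mod_cast (Finset.mem_Ico.1 hk).1
    gcongr
    nlinarith
  set S := ∑ k ∈ Finset.Ico 3 20, p k with hS
  simp only [Finset.sum_Ico_succ_top (Nat.zero_le _), Finset.Ico_self, Finset.sum_empty, zero_add] at h4 h20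
  norm_num at h4
  have key : 30 * p 0 + 10 * p 1 + 5 * p 2 + 3 * S + 15 * n ≥ 360 := by
    have : (360 : ℝ) ≤ ((30 * p 0 + 10 * p 1 + 5 * p 2 + 3 * S + 15 * n : ℕ) : ℝ) := by
      push_cast
      linarith
    exact_mod_cast this
  have hp0 : 5 * p 0 + 2 * n ≤ 45 := by
    have : ((5 * p 0 + 2 * n : ℕ) : ℝ) ≤ (45 : ℝ) := by push_cast; linarith
    exact_mod_cast this
  have h10 : p 1 ≤ p 0 := h2 (by omega)
  have h21 : p 2 ≤ p 1 := h2 (by omega)
  have hn : n = 0 := by omega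
  have hp : p 0 = 9 := by omega
  have hcases : (p 1 = 8 ∧ p 2 = 2) ∨ (p 1 = 9 ∧ p 2 = 0) ∨ (p 1 = 9 ∧ p 2 = 1) := by omega
  refine ⟨hn, ?_⟩
  have tail : ∀ k, 3 ≤ k → p k = 0 := fun k hk => by
    have h3k : p k ≤ p 2 := h2 (by omega)
    rcases hcases with h | h | h
    all_goals
      by_cases hk20 : 20 ≤ k
      · exact hzero k hk20
      · have : p k ≤ S := Finset.single_le_sum (f := p) (fun i _ => Nat.zero_le _) (Finset.mem_Ico.2 ⟨hk, by omega⟩)
        omega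
  have ext3 : ∀ g : ℕ → ℕ, g 0 = p 0 → g 1 = p 1 → g 2 = p 2 → (∀ k, 3 ≤ k → g k = 0) → p = g := fun g e0 e1 e2 e3 => by
    funext k
    match k with
    | 0 => exact e0.symm
    | 1 => exact e1.symm
    | 2 => exact e2.symm
    | k + 3 => rw [tail (k + 3) (by omega), e3 (k + 3) (by omega)]
  rcases hcases with ⟨a, b⟩ | ⟨a, b⟩ | ⟨a, b⟩
  · exact Or.inl (ext3 _ (by simp [hp]) (by simp [a]) (by simp [b]) (fun k hk => by simp [show k ≠ 0 by omega, show k ≠ 1 by omega, show k ≠ 2 by omega]))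
  · exact Or.inr (Or.inl (ext3 _ (by simp [hp]) (by simp [a]) (by simp [b]) (fun k hk => by simp [show k ≠ 0 by omega, show k ≠ 1 by omega])))
  · exact Or.inr (Or.inr (ext3 _ (by simp [hp]) (by simp [a]) (by simp [b]) (fun k hk => by simp [show k ≠ 0 by omega, show k ≠ 1 by omega, show k ≠ 2 by omega])))

end Groth.Agent.S18053
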