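import Groth.Statements.S18054
import Mathlib.Tactic.Linarith
import Mathlib.Tactic.LinearCombination
import Mathlib.Tactic.IntervalCases

set_option autoImplicit false
open STCI

namespace Groth.Agent.S18054

/-- Let s, t, d, g be integers with t ≥ s ≥ 4, d ≥ 1, g ≥ 0 and d dividing st; put n = st/d and assume n
≥ 2; put r = d[n(s - 4) + t] + (2 - 2g)n and assume r ≤ (s/3)(2s² - 6s + 7) - 1. Then d ≤ g + 3.
(The bound is written cleared of the denominator 3; s(2s² - 6s + 7) is always divisible by 3, so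
this is the same condition.) -/
theorem result (s t d g n : ℤ) (hs : 4 ≤ s) (hst : s ≤ t) (hd : 1 ≤ d) (hg : 0 ≤ g)
    (hn : s * t = d * n) (hn2 : 2 ≤ n)
    (hr : 3 * (d * (n * (s - 4) + t) + (2 - 2 * g) * n) ≤ s * (2 * s ^ 2 - 6 * s + 7) - 3) :
    d ≤ g + 3 := by
  by_contra hcon
  have hd4 : g + 4 ≤ d := by omega
  have hst0 : 0 ≤ t := by linarith
  have hR : s * t * (s - 4) + d * t + (10 - 2 * d) * n ≤ d * (n * (s - 4) + t) + (2 - 2 * g) * n := by
    have h1 : (10 - 2 * d) * n ≤ (2 - 2 * g) * n := by nlinarith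
    have h2 : d * (n * (s - 4) + t) = s * t * (s - 4) + d * t := by rw [hn]; ring
    linarith
  rcases eq_or_lt_of_le hs with hs4 | hs5
  · subst hs4
    have h1 : t * (d - 8) + 10 * n ≤ 19 := by nlinarith
    have h3 : t * (d * d - 8 * d + 40) ≤ 19 * d := by nlinarith
    have hd' : d ≤ 19 := by nlinarith [sq_nonneg (d - 7), mul_le_mul_of_nonneg_right hst (show (0:ℤ) ≤ d * d - 8 * d + 40 by nlinarith [sq_nonneg (d - 4)])]
    have ht : t ≤ 4 := by nlinarith [sq_nonneg (5 * t - 40), sq_nonneg (d - 6), sq_nonneg (d-7)]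
    obtain rfl : t = 4 := by omega
    interval_cases d <;> omega
  · have hA : 0 ≤ d * (s * (s - 6)) + d * d + 10 * s := by nlinarith [sq_nonneg (2 * d - 5), sq_nonneg (s - 3)]
    have h4 : t * (d * (s * (s - 6)) + d * d + 10 * s) = d * (s * t * (s - 4) + d * t + (10 - 2 * d) * n) := by
      linear_combination (10 - 2 * d) * hn
    have h5 : d * (3 * (s * t * (s - 4) + d * t + (10 - 2 * d) * n)) < d * (s * (2 * s ^ 2 - 6 * s + 7)) := by
      apply Int.mul_lt_mul_of_pos_left _ (by omega)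
      linarith
    have h6 : 3 * (d * (s * (s - 6)) + d * d + 10 * s) < d * (2 * s ^ 2 - 6 * s + 7) := by
      have := mul_le_mul_of_nonneg_right hst hA
      by_contra hh
      have := mul_le_mul_of_nonneg_left (not_lt.1 hh) (show (0:ℤ) ≤ s by omega)
      nlinarith
    rcases le_or_gt 13 s with h13 | h13
    · nlinarith [mul_le_mul_of_nonneg_left (show (0:ℤ) ≤ s * (s - 12) - 7 by nlinarith) (show (0:ℤ) ≤ d by omega)]
    · have h5' : 5 ≤ s := by omega
      interval_cases s <;> nlinarith [sq_nonneg (d - 7), sq_nonneg (6 * d - 43), sq_nonneg (6 * d - 42), sq_nonneg (d - 4)]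

end Groth.Agent.S18054
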