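import Groth.Statements.S18055
import Mathlib.Tactic.Linarith
import Mathlib.Tactic.Ring
import Mathlib.Tactic.LinearCombination
import Mathlib.Tactic.Positivity

set_option autoImplicit false
open STCI

namespace Groth.Agent.S18055

/-- Let d ≥ 1, g ≥ 0 and 1 ≤ s ≤ t be integers with d dividing st, put n = st/d and r = d[n(s - 4) + t]
+ (2 - 2g)n, and assume n ≥ 2, r > 0 and (n - 1) divides r. Then s < 2d² and t < 2d⁴. This is the
statement about the degree data (d, g the degree and genus of the curve, s ≤ t the degrees of the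
two surfaces) to which the published proof reduces the degree bound: there the divisibility and
positivity express that r/(n - 1), the common value of the type numbers of the pair, is a positive
integer; the geometric hypotheses themselves are not part of this row. -/
theorem result (d g s t n : ℤ) (hd : 1 ≤ d) (hg : 0 ≤ g) (hs : 1 ≤ s) (hst : s ≤ t)
    (hn : s * t = d * n) (hn2 : 2 ≤ n)
    (hpos : 0 < d * (n * (s - 4) + t) + (2 - 2 * g) * n)
    (hdvd : (n - 1) ∣ d * (n * (s - 4) + t) + (2 - 2 * g) * n) :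
    s < 2 * d ^ 2 ∧ t < 2 * d ^ 4 := by
  obtain ⟨k, hk⟩ := hdvd
  set m := d * (s - 4) + 2 - 2 * g with hm
  have hr : d * (n * (s - 4) + t) + (2 - 2 * g) * n = n * m + d * t := by rw [hm]; ring
  rw [hr] at hk hpos
  -- subtract the multiples of `n - 1`
  set k' := k - m with hk'
  have hX : m + d * t = k' * (n - 1) := by rw [hk']; linarith
  have hmd : 0 < s * m + d ^ 2 := by
    have h1 : 0 < (n * m + d * t) * (s * d) := by positivity
    have h2 : (n * m + d * t) * (s * d) = s * t * (s * m + d ^ 2) := by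
      linear_combination (-(s * m)) * hn
    rw [h2] at h1
    exact (pos_iff_pos_of_mul_pos h1).1 (mul_pos (by linarith) (by linarith))
  have hmu : m ≤ d * s - 4 * d + 2 := by rw [hm]; linarith [mul_sub d s 4]
  have hts : t ≥ 1 := by linarith
  have hXpos : 0 < m + d * t := by
    by_contra h
    push Not at h
    nlinarith [mul_le_mul_of_nonneg_left h (by linarith : (0:ℤ) ≤ s),
      mul_le_mul_of_nonneg_left (show d * 2 ≤ s * t by nlinarith) (by linarith : (0:ℤ) ≤ d)]
  have hk1 : 1 ≤ k' := by nlinarith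
  have hprod : k' * (s * t - d) = d ^ 2 * t + d * m := by
    linear_combination k' * hn + (-d) * hX
  have hst2 : 2 * d ≤ s * t := by nlinarith
  have hs2 : s < 2 * d ^ 2 := by
    by_contra h
    push Not at h
    have h1 : s * t - d ≤ d ^ 2 * t + d * m := by nlinarith
    nlinarith [mul_le_mul (sub_le_sub_right h (d ^ 2)) (sub_le_sub_right (h.trans hst) (d ^ 2))
      (by nlinarith) (by nlinarith), mul_le_mul_of_nonneg_left hmu (by linarith : (0:ℤ) ≤ d)]
  refine ⟨hs2, ?_⟩
  by_contra h
  push Not at h
  have hd2 : d ^ 2 ≤ d ^ 4 := pow_le_pow_right₀ hd (by norm_num)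
  rcases lt_or_ge (d ^ 2) s with hsd | hsd
  · have h1 : s * t - d ≤ d ^ 2 * t + d * m := by nlinarith
    nlinarith [mul_le_mul_of_nonneg_left hmu (by linarith : (0:ℤ) ≤ d),
      mul_le_mul_of_nonneg_right (show (1:ℤ) ≤ s - d ^ 2 by linarith) (show (0:ℤ) ≤ t - d ^ 2 by nlinarith)]
  have heq : t * (k' * s - d ^ 2) = d * (k' + m) := by linear_combination hprod
  rcases lt_trichotomy (k' * s) (d ^ 2) with hlt | he | hgt
  · have h1 : t ≤ -(d * (k' + m)) := by nlinarith
    have h3 : s * t < d * d ^ 2 := by nlinarith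
    nlinarith [pow_le_pow_right₀ hd (show 3 ≤ 4 by norm_num)]
  · rw [he, sub_self, mul_zero] at heq
    have : k' + m = 0 := (mul_eq_zero.1 heq.symm).resolve_left (by linarith)
    nlinarith
  · have h1 : t ≤ d * (k' + m) := by nlinarith
    have h4 : k' * (s * t) ≤ 2 * (d ^ 2 * t + d * m) := by nlinarith
    have hkb : k' ≤ 2 * d ^ 2 + 1 := by
      by_contra hk2
      push Not at hk2
      have a1 : d * m ≤ d ^ 2 * s := by
        nlinarith [mul_le_mul_of_nonneg_left hmu (by linarith : (0:ℤ) ≤ d)]
      have a2 : (2 * d ^ 2 + 2) * (s * t) ≤ k' * (s * t) :=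
        mul_le_mul_of_nonneg_right (by linarith) (by nlinarith)
      have a3 : 0 ≤ d ^ 2 * t * (s - 1) := mul_nonneg (by nlinarith) (by linarith)
      have a4 : s * (2 * d ^ 4) ≤ s * t := mul_le_mul_of_nonneg_left h (by linarith)
      have a5 : s * d ^ 2 ≤ s * d ^ 4 := mul_le_mul_of_nonneg_left hd2 (by linarith)
      have a6 : 0 < s * d ^ 2 := by nlinarith
      linarith
    have hds : d * s ≤ d * d ^ 2 := mul_le_mul_of_nonneg_left hsd (by linarith)
    rcases eq_or_lt_of_le hd with rfl | hd'
    · nlinarith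
    · nlinarith [mul_le_mul_of_nonneg_left hds (by linarith : (0:ℤ) ≤ d), mul_le_mul_of_nonneg_left hkb (by linarith : (0:ℤ) ≤ d)]

end Groth.Agent.S18055
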