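import Groth.Statements.S18056
import Groth.Agent.Lib.SmoothArtin29.Basic

set_option autoImplicit false
universe u v
open STCI

namespace Groth.Agent.S18056

/-- Let A → B be a homomorphism of Artinian local rings that is flat and formally smooth, where A has a
subring that is a field. Then A and B have the same length, each as a module over itself. -/
theorem result (A : Type u) (B : Type v) [CommRing A] [CommRing B]
    [IsLocalRing A] [IsLocalRing B] [IsArtinianRing A] [IsArtinianRing B] [Algebra A B]
    [Module.Flat A B] [Algebra.FormallySmooth A B] (hK : ∃ K : Subring A, IsField K) :
    Module.length A A = Module.length B B := by
  exact SmoothArtin29.length_eq A B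

end Groth.Agent.S18056
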