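import Groth.Statements.S18057
import Groth.Agent.Lib.SmoothArtin29.Basic
import Mathlib

set_option autoImplicit false
universe u
open STCI

namespace Groth.Agent.S18057

open AlgebraicGeometry CategoryTheory

lemma isArtinian_stalk_genericPoint (X : Scheme.{u}) [IrreducibleSpace ↥X] [IsLocallyNoetherian X]
    (x : X) (hx : x = genericPoint X) : IsArtinianRing (X.presheaf.stalk x) := by
  subst hx
  have hpt : ∀ y : Spec (X.presheaf.stalk (genericPoint X)), X.fromSpecStalk _ y = genericPoint X := fun y => by
    have h : X.fromSpecStalk (genericPoint X) y ⤳ genericPoint X := by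
      have : X.fromSpecStalk (genericPoint X) y ∈ Set.range (X.fromSpecStalk (genericPoint X)) := ⟨y, rfl⟩
      rwa [Scheme.range_fromSpecStalk] at this
    exact (h.antisymm (genericPoint_specializes _)).eq
  haveI : Subsingleton (PrimeSpectrum (X.presheaf.stalk (genericPoint X))) := ⟨fun a b =>
    (Scheme.Hom.isEmbedding (X.fromSpecStalk (genericPoint X))).injective ((hpt a).trans (hpt b).symm)⟩
  rw [isArtinianRing_iff_krullDimLE_zero, Ring.krullDimLE_zero_iff]
  intro I hI
  have : (⟨I, hI⟩ : PrimeSpectrum (X.presheaf.stalk (genericPoint X))) = IsLocalRing.closedPoint _ := Subsingleton.elim _ _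
  have h2 : I = IsLocalRing.maximalIdeal _ := congrArg PrimeSpectrum.asIdeal this
  rw [h2]
  infer_instance

lemma exists_factor_stalk {X : Scheme.{u}} (x : X) (B : CommRingCat.{u}) (l : Spec B ⟶ X) (hl : ∀ q, l q = x) :
    ∃ ψ : X.presheaf.stalk x ⟶ B, Spec.map ψ ≫ X.fromSpecStalk x = l := by
  obtain ⟨_, ⟨U, hU, rfl⟩, hxU, -⟩ :=
    X.isBasis_affineOpens.exists_subset_of_mem_open (Set.mem_univ x) isOpen_univ
  have hrange : Set.range l ⊆ Set.range hU.fromSpec := by
    rintro _ ⟨q, rfl⟩
    rw [hl, hU.range_fromSpec]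
    exact hxU
  let φ : Γ(X, U) ⟶ B := Spec.preimage (IsOpenImmersion.lift hU.fromSpec l hrange)
  have hφ : Spec.map φ ≫ hU.fromSpec = l := by rw [Spec.map_preimage]; exact IsOpenImmersion.lift_fac _ _ _
  let P := hU.primeIdealOf ⟨x, hxU⟩
  have hP : ∀ q : PrimeSpectrum B, PrimeSpectrum.comap φ.hom q = P := fun q => by
    refine (Scheme.Hom.isEmbedding hU.fromSpec).injective ?_
    rw [hU.fromSpec_primeIdealOf ⟨x, hxU⟩]
    have := congrArg (fun m : Spec B ⟶ X => m q) hφ
    simp only [Scheme.Hom.comp_apply, hl] at this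
    exact this
  letI : Algebra Γ(X, U) (X.presheaf.stalk x) := X.presheaf.algebra_section_stalk ⟨x, hxU⟩
  haveI : IsLocalization P.asIdeal.primeCompl (X.presheaf.stalk x) := hU.isLocalization_stalk ⟨x, hxU⟩
  have hunit : ∀ s : P.asIdeal.primeCompl, IsUnit (φ.hom s) := fun s => by
    by_contra h
    obtain ⟨m, hm, hsm⟩ := exists_max_ideal_of_mem_nonunits (a := φ.hom s) h
    have := hP ⟨m, hm.isPrime⟩
    have h3 := congrArg PrimeSpectrum.asIdeal this
    refine s.2 ?_
    exact (SetLike.ext_iff.1 h3 (s : Γ(X, U))).1 hsm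
  refine ⟨CommRingCat.ofHom (IsLocalization.lift (M := P.asIdeal.primeCompl) (S := ↑(X.presheaf.stalk x)) hunit), ?_⟩
  have hcomp : X.presheaf.germ U x hxU ≫ CommRingCat.ofHom
      (IsLocalization.lift (M := P.asIdeal.primeCompl) (S := ↑(X.presheaf.stalk x)) hunit) = φ := by
    ext r
    exact IsLocalization.lift_eq hunit r
  rw [← hU.fromSpecStalk_eq_fromSpecStalk hxU, IsAffineOpen.fromSpecStalk, ← Spec.map_comp_assoc, hcomp, hφ]

lemma formallySmooth_stalkMap {X' X : Scheme.{u}} (f : X' ⟶ X) (hf : MoreMor.IsFormallySmoothHom f) (x : X')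
    (hpt : ∀ y, y ⤳ x → y = x) :
    letI := (f.stalkMap x).hom.toAlgebra
    Algebra.FormallySmooth (X.presheaf.stalk (f x)) (X'.presheaf.stalk x) := by
  letI := (f.stalkMap x).hom.toAlgebra
  refine Algebra.FormallySmooth.of_comp_surjective fun B _ _ I hI g => ?_
  let β : X.presheaf.stalk (f x) ⟶ CommRingCat.of B := CommRingCat.ofHom (algebraMap (↑(X.presheaf.stalk (f x))) B)
  let γ : X'.presheaf.stalk x ⟶ CommRingCat.of (B ⧸ I) := CommRingCat.ofHom g.toRingHom
  let mk : CommRingCat.of B ⟶ CommRingCat.of (B ⧸ I) := CommRingCat.ofHom (Ideal.Quotient.mk I)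
  have hsq : β ≫ mk = f.stalkMap x ≫ γ := by
    ext r
    exact (g.commutes r).symm
  obtain ⟨l, hl1, hl2⟩ := hf B I hI (Spec.map γ ≫ X'.fromSpecStalk x) (Spec.map β ≫ X.fromSpecStalk (f x)) (by
    show Spec.map mk ≫ _ = _
    rw [← Category.assoc, ← Spec.map_comp, hsq, Spec.map_comp, Category.assoc,
      Scheme.SpecMap_stalkMap_fromSpecStalk, Category.assoc])
  have hl : ∀ q, l q = x := fun q => by
    obtain ⟨q', hq'⟩ : ∃ q', Spec.map mk q' = q := by
      refine ⟨⟨q.asIdeal.map (Ideal.Quotient.mk I), ?_⟩, ?_⟩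
      · exact Ideal.map_isPrime_of_surjective Ideal.Quotient.mk_surjective (by
          rw [Ideal.mk_ker]
          intro i hi
          refine q.isPrime.mem_of_pow_mem 2 ?_
          have : i ^ 2 ∈ I ^ 2 := Ideal.pow_mem_pow hi 2
          rw [hI, Submodule.mem_bot] at this
          rw [this]
          exact Ideal.zero_mem _)
      · apply PrimeSpectrum.ext
        show Ideal.comap (Ideal.Quotient.mk I) _ = _
        rw [Ideal.comap_map_of_surjective' _ Ideal.Quotient.mk_surjective, Ideal.mk_ker, sup_eq_left]
        intro i hi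
        refine q.isPrime.mem_of_pow_mem 2 ?_
        have : i ^ 2 ∈ I ^ 2 := Ideal.pow_mem_pow hi 2
        rw [hI, Submodule.mem_bot] at this
        rw [this]
        exact Ideal.zero_mem _
    refine hpt _ ?_
    have h := congrArg (fun m : Spec (CommRingCat.of (B ⧸ I)) ⟶ X' => m q') hl1
    have h2 : (Spec.map γ ≫ X'.fromSpecStalk x) q' ∈ Set.range (X'.fromSpecStalk x) := ⟨_, rfl⟩
    rw [Scheme.range_fromSpecStalk] at h2
    rw [← hq']
    show (Spec.map mk ≫ l) q' ⤳ x
    exact h ▸ h2
  obtain ⟨ψ, hψ⟩ := exists_factor_stalk x _ l hl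
  have h1 : ψ ≫ mk = γ := by
    apply Spec.map_injective
    rw [← cancel_mono (X'.fromSpecStalk x), Spec.map_comp, Category.assoc, hψ]
    exact hl1
  have h2 : f.stalkMap x ≫ ψ = β := by
    apply Spec.map_injective
    rw [← cancel_mono (X.fromSpecStalk (f x)), Spec.map_comp, Category.assoc,
      Scheme.SpecMap_stalkMap_fromSpecStalk, ← Category.assoc, hψ]
    exact hl2
  refine ⟨{ ψ.hom with commutes' := fun r => congrArg (fun m : X.presheaf.stalk (f x) ⟶ CommRingCat.of B => m.hom r) h2 }, ?_⟩
  refine AlgHom.ext fun s => ?_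
  exact congrArg (fun m : X'.presheaf.stalk x ⟶ CommRingCat.of (B ⧸ I) => m.hom s) h1

open AlgebraicGeometry CategoryTheory in
/-- For a morphism f : X' → X between irreducible Noetherian schemes that is flat and formally smooth,
with X defined over a field (rendered: the ring of global sections of X contains a subring that is a
field, which for nonempty X is the same as giving a morphism from X to the spectrum of a field), the
local rings of X' and X at their generic points η', η (Artinian local rings) satisfy length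
O_{X',η'} = length O_{X,η}. Formal smoothness is the infinitesimal lifting property against
square-zero thickenings of affine schemes. -/
theorem result {X' X : Scheme.{u}} (f : X' ⟶ X)
    [IrreducibleSpace ↥X'] [IrreducibleSpace ↥X] [IsNoetherian X'] [IsNoetherian X] [Flat f]
    (hf : MoreMor.IsFormallySmoothHom f) (hK : ∃ K : Subring Γ(X, ⊤), IsField K) :
    Module.length (X'.presheaf.stalk (genericPoint X')) (X'.presheaf.stalk (genericPoint X'))
      = Module.length (X.presheaf.stalk (genericPoint X)) (X.presheaf.stalk (genericPoint X)) := by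
  have hgen : f (genericPoint X') = genericPoint X := by
    obtain ⟨x', hx', hfx⟩ := Flat.generalizingMap f (genericPoint_specializes (f (genericPoint X')))
    have : x' = genericPoint X' := (hx'.antisymm (genericPoint_specializes x')).eq
    rw [← this]; exact hfx
  rw [← hgen]
  haveI := isArtinian_stalk_genericPoint X' _ rfl
  haveI := isArtinian_stalk_genericPoint X _ hgen
  letI := (f.stalkMap (genericPoint X')).hom.toAlgebra
  haveI : Module.Flat (X.presheaf.stalk (f (genericPoint X'))) (X'.presheaf.stalk (genericPoint X')) :=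
    (Flat.iff_flat_stalkMap f).1 inferInstance _
  haveI := formallySmooth_stalkMap f hf (genericPoint X') (fun y hy => (hy.antisymm (genericPoint_specializes y)).eq)
  exact (SmoothArtin29.length_eq _ _).symm

end Groth.Agent.S18057
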