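import Groth.Statements.S18061
import Groth.Agent.Lib.Unip23.BaseChange

set_option autoImplicit false
universe u
open scoped TensorProduct
open HopfRep

namespace Groth.Agent.S18061
open scoped TensorProduct

open Groth.Agent.CoalgH23 Groth.Agent.Unip23

/-- A is a discrete valuation ring, K denotes its field of fractions and k its residue field; G = Spec H
is a flat affine A-group scheme of finite presentation, H being a flat, finitely presented
commutative Hopf algebra over A. If the generic fibre G_K is unipotent (every nonzero
finite-dimensional representation has a nonzero fixed vector), then so is the special fibre G_k. -/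
theorem result (A : Type u) [CommRing A] [IsDomain A] [IsDiscreteValuationRing A]
    (K : Type u) [Field K] [Algebra A K] [IsFractionRing A K]
    (H : Type u) [CommRing H] [HopfAlgebra A H] [Module.Flat A H] [Algebra.FinitePresentation A H]
    (hK : HopfRep.IsUnipotent K (K ⊗[A] H)) :
    HopfRep.IsUnipotent (IsLocalRing.ResidueField A) (IsLocalRing.ResidueField A ⊗[A] H) := by
  refine isUnipotent_baseChange fun x => ?_
  obtain ⟨n, hn⟩ := exists_mem_fixFil hK ((1 : K) ⊗ₜ[A] x)
  haveI : Module.Flat A K := IsLocalization.flat K (nonZeroDivisors A)
  haveI := flat_quot_genFil (R := A) (H := H) n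
  exact ⟨n, mem_genFil_of_one_tmul (IsFractionRing.injective A K) hn⟩

end Groth.Agent.S18061
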