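import Groth.Statements.S18065
import Groth.Agent.Lib.SpecAff15.GenFibre
-- import your own Groth.Agent.* helpers here

set_option autoImplicit false
universe u
open CategoryTheory MonoidalCategory CartesianMonoidalCategory MonObj GrpObj AlgebraicGeometry CategoryTheory.Limits
open AlgGrp

namespace Groth.Agent.S18065

/-- Suppose A is a discrete valuation ring, and write K for its field of fractions and k for its residue
field; let G be a flat A-group scheme of finite presentation, not assumed separated. If the generic
fibre G_K is affine, then the special fibre G_k is affine. -/
theorem result (A : Type u) [CommRing A] [IsDomain A] [IsDiscreteValuationRing A]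
    (K : Type u) [Field K] [Algebra A K] [IsFractionRing A K]
    (G : Over (Spec (CommRingCat.of A))) [GrpObj G] [Flat G.hom] [LocallyOfFinitePresentation G.hom] [QuasiCompact G.hom]
    [IsAffine (Red.bc (Spec.map (CommRingCat.ofHom (algebraMap A K))) G).left] :
    IsAffine (Red.bc (Spec.map (CommRingCat.ofHom (algebraMap A (IsLocalRing.ResidueField A)))) G).left := by
  exact SpecAff15.isAffine_fibre_of_generic (K := K) G


end Groth.Agent.S18065
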