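import Groth.Statements.S18067
import Groth.Agent.Lib.Semiab15.AntiAff
-- import your own Groth.Agent.* helpers here

set_option autoImplicit false
universe u
open CategoryTheory MonoidalCategory CartesianMonoidalCategory MonObj GrpObj AlgebraicGeometry CategoryTheory.Limits
open AlgGrp

namespace Groth.Agent.S18067

/-- Let k be a field and G an anti-affine algebraic group over k, i.e. a smooth k-group scheme of finite
type with O(G) = k (hence connected and commutative). Then for every non-zero integer n the n-th
power map G → G, x ↦ x^n, is an isogeny: surjective and finite. -/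
theorem result (k : Type u) [Field k]
    (G : Over (Spec (CommRingCat.of k))) [GrpObj G] [Smooth G.hom] [QuasiCompact G.hom]
    (hG : Function.Bijective ((Scheme.ΓSpecIso (CommRingCat.of k)).inv ≫ G.hom.appTop).hom) (n : ℤ) (hn : n ≠ 0) :
    Surjective ((𝟙 G) ^ n).left ∧ IsFinite ((𝟙 G) ^ n).left := by
  obtain ⟨m, rfl | rfl⟩ := n.eq_nat_or_neg
  · obtain ⟨h1, -, h3⟩ := Groth.Agent.Semiab15.pow_aa hG (n := m) (by omega)
    rw [zpow_natCast]
    exact ⟨h3, h1⟩
  · obtain ⟨h1, -, h3⟩ := Groth.Agent.Semiab15.pow_aa hG (n := m) (by omega)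
    haveI := h1; haveI := h3
    haveI : IsIso (ι[G] : G ⟶ G).left := ((Over.forget _).mapIso (asIso (ι[G] : G ⟶ G))).isIso_hom
    rw [zpow_neg, zpow_natCast, Hom.inv_def, Over.comp_left]
    exact ⟨inferInstance, inferInstance⟩

end Groth.Agent.S18067
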