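import Groth.Statements.S18072
import Groth.Agent.Lib.IsogTransfer19.Main
import Groth.Agent.S7997
import Groth.Agent.S7999
import Groth.Agent.S5355
-- import your own Groth.Agent.* helpers here

set_option autoImplicit false
universe u
open CategoryTheory MonoidalCategory CartesianMonoidalCategory MonObj GrpObj AlgebraicGeometry CategoryTheory.Limits
open AlgGrp

namespace Groth.Agent.S18072

set_option linter.style.haveILetI false
set_option backward.isDefEq.respectTransparency.types false


/-- Let F be a field and f : G → H an isogeny between affine smooth connected F-groups (a surjective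
homomorphism with finite kernel, i.e. surjective and finite). Then each of the properties unipotent,
solvable, nilpotent and commutative holds for G exactly when it holds for H; here unipotence is
expressed as: the base change to an algebraic closure contains no non-trivial subtorus, solvable and
nilpotent through the derived and upper central series of the groups of points. -/
theorem result (F : Type u) [Field F]
    (G H : Over (Spec (CommRingCat.of F))) [GrpObj G] [Smooth G.hom] [QuasiCompact G.hom] [IsAffine G.left] [ConnectedSpace ↥G.left]
    [GrpObj H] [Smooth H.hom] [QuasiCompact H.hom] [IsAffine H.left] [ConnectedSpace ↥H.left]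
    (f : G ⟶ H) [IsMonHom f] [Surjective f.left] [IsFinite f.left] :
    (Red.HasNoSubtorus (AlgebraicClosure F) (Red.bc (Spec.map (CommRingCat.ofHom (algebraMap F (AlgebraicClosure F)))) G) ↔ Red.HasNoSubtorus (AlgebraicClosure F) (Red.bc (Spec.map (CommRingCat.ofHom (algebraMap F (AlgebraicClosure F)))) H)) ∧
    (Red.IsSolvableGrp G ↔ Red.IsSolvableGrp H) ∧ (AGF.IsNilpotentGrp G ↔ AGF.IsNilpotentGrp H) ∧
    (IsCommMonObj G ↔ IsCommMonObj H) := by
  haveI : QuasiCompact f.left := inferInstance
  haveI : IsReduced H.left := OrbitTop19.isReduced_of_smooth H.hom
  haveI : Flat f.left := (Groth.Agent.S5355.result F G H f f.left.surjective.denseRange).2 inferInstance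
  haveI : IsSeparated G.hom := inferInstance
  haveI : IsSeparated H.hom := inferInstance
  refine ⟨?_, ⟨fun h => Groth.Agent.S7997.result F G H f h, IsogTransfer19.isSolvableGrp_of_isogeny f⟩,
    ⟨fun h => Groth.Agent.S7999.result F G H f h, IsogTransfer19.isNilpotentGrp_of_isogeny f⟩,
    ⟨fun h => IsogTransfer19.isCommMonObj_of_cover f, fun h => IsogTransfer19.isCommMonObj_of_isogeny f⟩⟩
  exact IsogTransfer19.hasNoSubtorus_bc_iff (AlgebraicClosure F) _ f

end Groth.Agent.S18072
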