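import Groth.Statements.S18074
import Groth.Agent.Lib.AntiAffMin19.Basic
import Groth.Agent.Lib.AntiAff20.Kernel
import Groth.Agent.Lib.AffGrp19.Main
-- import your own Groth.Agent.* helpers here

set_option autoImplicit false
universe u
open CategoryTheory MonoidalCategory CartesianMonoidalCategory MonObj GrpObj AlgebraicGeometry CategoryTheory.Limits
open AlgGrp Groth.Agent.AffGrp19 Groth.Agent.AntiAff20 Groth.Agent.AntiAffMin19 CategoryTheory.Limits MonoidalCategory CartesianMonoidalCategory MonObj

namespace Groth.Agent.S18074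

set_option linter.style.haveILetI false
set_option backward.isDefEq.respectTransparency.types false


/-- Let k be a field and G a non-trivial k-group scheme of finite type. Then G is non-affine with every
closed subgroup scheme H ≠ G affine if and only if G is anti-affine and every anti-affine closed
subgroup scheme H ≠ G of G is trivial. -/
theorem result (k : Type u) [Field k]
    (G : Over (Spec (CommRingCat.of k))) [GrpObj G] [LocallyOfFiniteType G.hom] [QuasiCompact G.hom] (hG : ¬ Red.IsTrivialGrp G) :
    (¬ IsAffine G.left ∧ ∀ (H : Over (Spec (CommRingCat.of k))) [GrpObj H] (h : H ⟶ G) [IsMonHom h] [IsClosedImmersion h.left], ¬ IsIso h → IsAffine H.left) ↔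
    (Function.Bijective ((Scheme.ΓSpecIso (CommRingCat.of k)).inv ≫ G.hom.appTop).hom ∧ ∀ (H : Over (Spec (CommRingCat.of k))) [GrpObj H] (h : H ⟶ G) [IsMonHom h] [IsClosedImmersion h.left], ¬ IsIso h → Function.Bijective ((Scheme.ΓSpecIso (CommRingCat.of k)).inv ≫ H.hom.appTop).hom → Red.IsTrivialGrp H) := by
  haveI : QuasiSeparated G.hom := Groth.Agent.AlgGrpBasic19.quasiSeparatedSpace
  constructor
  · rintro ⟨hna, hmin⟩
    obtain ⟨iM, hl, hq, hbij⟩ := exists_antiAffine_kernel G
    haveI := hl; haveI := hq
    let i : pullback (toAff G) η[aff G] ⟶ G := pullback.fst (toAff G) η[aff G]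
    letI : GrpObj (pullback (toAff G) η[aff G]) := iM
    have hnotaff : ¬ IsAffine (pullback (toAff G) η[aff G]).left := fun ha =>
      hna (isAffine_of_trivial_kernel G (by haveI := ha; exact isIso_hom_of_antiAffine hbij))
    obtain ⟨iN, hiN⟩ := exists_kernel_grp G
    letI : GrpObj (pullback (toAff G) η[aff G]) := iN
    haveI := hiN
    haveI : IsClosedImmersion i.left := isClosedImmersion_kernel G
    have hi : IsIso i := by_contra fun h => hnotaff (hmin _ i h)
    haveI := hi
    haveI : IsIso i.left := inferInstanceAs (IsIso ((Over.forget _).map i))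
    refine ⟨bijective_of_iso i hbij, fun H _ h _ _ hh hH => ?_⟩
    haveI := hmin H h hh
    exact isIso_hom_of_antiAffine hH
  · rintro ⟨hbij, hmin⟩
    refine ⟨fun ha => hG (by haveI := ha; exact isIso_hom_of_antiAffine hbij), fun H iH h hh₁ hh₂ hh => ?_⟩
    haveI : LocallyOfFiniteType H.hom := by rw [← Over.w h]; infer_instance
    haveI : QuasiCompact H.hom := by rw [← Over.w h]; infer_instance
    haveI : QuasiSeparated H.hom := Groth.Agent.AlgGrpBasic19.quasiSeparatedSpace
    obtain ⟨-, hl, hq, hbijN⟩ := exists_antiAffine_kernel H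
    obtain ⟨iN, hiN⟩ := exists_kernel_grp H
    letI : GrpObj (pullback (toAff H) η[aff H]) := iN
    haveI := hiN
    haveI := hl; haveI := hq
    let i : pullback (toAff H) η[aff H] ⟶ H := pullback.fst (toAff H) η[aff H]
    haveI : IsClosedImmersion i.left := isClosedImmersion_kernel H
    haveI : IsClosedImmersion (i ≫ h).left := by rw [Over.comp_left]; infer_instance
    refine isAffine_of_trivial_kernel H (by_contra fun htriv => htriv ?_)
    by_cases hiso : IsIso (i ≫ h)
    · exfalso
      haveI := hiso
      haveI : IsSplitEpi h := ⟨⟨⟨inv (i ≫ h) ≫ i, by rw [Category.assoc, IsIso.inv_hom_id]⟩⟩⟩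
      haveI : Mono h := Over.mono_of_mono_left h
      exact hh (isIso_of_mono_of_isSplitEpi h)
    · exact hmin _ (i ≫ h) hiso hbijN

end Groth.Agent.S18074
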