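import Groth.Statements.S18075
import Groth.Agent.Lib.AntiAffMin19.Decomp
-- import your own Groth.Agent.* helpers here

set_option autoImplicit false
universe u
open CategoryTheory MonoidalCategory CartesianMonoidalCategory MonObj GrpObj AlgebraicGeometry CategoryTheory.Limits
open AlgGrp Groth.Agent.AffGrp19 Groth.Agent.AntiAffMin19 CategoryTheory.Limits MonoidalCategory CartesianMonoidalCategory MonObj

namespace Groth.Agent.S18075

set_option linter.style.haveILetI false
set_option backward.isDefEq.respectTransparency.types false


/-- Let k be a field and G a non-trivial anti-affine k-group scheme of finite type, and let i : N → G be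
a connected affine closed subgroup scheme which is the kernel of a flat surjective homomorphism q :
G → A onto an abelian variety A (for instance N = G_aff and A = G/G_aff, but any such N is allowed).
Then G has no anti-affine closed subgroup scheme other than G and the trivial group if and only if
the abelian variety A is simple (every smooth connected closed subgroup scheme of A is trivial or
equal to A). -/
theorem result (k : Type u) [Field k]
    (G : Over (Spec (CommRingCat.of k))) [GrpObj G] [LocallyOfFiniteType G.hom] [QuasiCompact G.hom] (hG : ¬ Red.IsTrivialGrp G)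
    (hGa : Function.Bijective ((Scheme.ΓSpecIso (CommRingCat.of k)).inv ≫ G.hom.appTop).hom)
    (N A : Over (Spec (CommRingCat.of k))) [GrpObj N] [GrpObj A] (i : N ⟶ G) [IsMonHom i] [IsClosedImmersion i.left]
    [IsAffine N.left] [ConnectedSpace ↥N.left]
    (q : G ⟶ A) [IsMonHom q] [Surjective q.left] [Flat q.left] [IsProper A.hom] [Smooth A.hom] [ConnectedSpace ↥A.left]
    (hq : AlgGrp.IsKernel i q) :
    (∀ (H : Over (Spec (CommRingCat.of k))) [GrpObj H] (h : H ⟶ G) [IsMonHom h] [IsClosedImmersion h.left], ¬ IsIso h → Function.Bijective ((Scheme.ΓSpecIso (CommRingCat.of k)).inv ≫ H.hom.appTop).hom → Red.IsTrivialGrp H) ↔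
    (∀ (B : Over (Spec (CommRingCat.of k))) [GrpObj B] (b : B ⟶ A) [IsMonHom b] [IsClosedImmersion b.left], Smooth B.hom → ConnectedSpace ↥B.left → IsIso b ∨ Red.IsTrivialGrp B) := by
  haveI : QuasiSeparated G.hom := Groth.Agent.AlgGrpBasic19.quasiSeparatedSpace
  haveI : QuasiCompact q.left := Groth.Agent.AlgGrpBasic19.quasiCompact_left q
  constructor
  · intro hmin B _ b _ _ hBs hBc
    haveI := hBs; haveI := hBc
    haveI : Mono b := Over.mono_of_mono_left b
    haveI : IsProper B.hom := by rw [← Over.w b]; infer_instance
    -- the preimage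
    obtain ⟨gH, hmH⟩ := exists_pullback_grp q b
    haveI := hmH
    let H := pullback q b
    let p : H ⟶ G := pullback.fst q b
    let r : H ⟶ B := pullback.snd q b
    have hsq := (IsPullback.of_hasPullback q b).map (Over.forget (Spec (CommRingCat.of k)))
    haveI : IsClosedImmersion p.left := isClosedImmersion_pullback_fst q b
    haveI : Mono p := Over.mono_of_mono_left p
    haveI : LocallyOfFiniteType H.hom := by rw [← Over.w p]; infer_instance
    haveI : QuasiCompact H.hom := by rw [← Over.w p]; infer_instance
    haveI : QuasiSeparated H.hom := Groth.Agent.AlgGrpBasic19.quasiSeparatedSpace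
    haveI : Surjective r.left := MorphismProperty.of_isPullback (P := @Surjective) hsq ‹Surjective q.left›
    haveI : Flat r.left := MorphismProperty.of_isPullback (P := @Flat) hsq ‹Flat q.left›
    haveI : IsMonHom r :=
      ⟨by rw [← cancel_mono b, Category.assoc, ← pullback.condition, ← Category.assoc,
          IsMonHom.one_hom, IsMonHom.one_hom, IsMonHom.one_hom],
       by rw [← cancel_mono b, Category.assoc, ← pullback.condition, ← Category.assoc,
          IsMonHom.mul_hom (f := p), Category.assoc, IsMonHom.mul_hom (f := q),
          MonoidalCategory.tensorHom_comp_tensorHom_assoc, Category.assoc, IsMonHom.mul_hom (f := b),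
          MonoidalCategory.tensorHom_comp_tensorHom_assoc, pullback.condition]⟩
    obtain ⟨gKer, hmKer⟩ := exists_kernel_of r
    haveI := hmKer
    haveI := Groth.Agent.AntiAffMin19.isClosedImmersion_eta B
    haveI : IsClosedImmersion (pullback.fst r η[B]).left := isClosedImmersion_pullback_fst r η[B]
    obtain ⟨-, hlM, hqM, hbM⟩ := Groth.Agent.AntiAff20.exists_antiAffine_kernel H
    obtain ⟨gM, hmM⟩ := exists_kernel_grp H
    haveI := hlM; haveI := hqM; haveI := hmM
    haveI := isClosedImmersion_kernel H
    let jM : pullback (toAff H) η[aff H] ⟶ H := pullback.fst (toAff H) η[aff H]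
    have hsM : Surjective (jM ≫ r).left :=
      surjective_comp (pullback.fst r η[B]) r (isKernel_pullback r) jM (isNormalHom_kernel r)
        (fun M' _ _ _ j' _ _ hb' => by
          haveI : QuasiSeparated M'.hom := Groth.Agent.AlgGrpBasic19.quasiSeparatedSpace
          exact exists_factor H hb' j')
    haveI : IsClosedImmersion (jM ≫ p).left := by rw [Over.comp_left]; infer_instance
    by_cases hiso : IsIso (jM ≫ p)
    · left
      haveI := hiso
      haveI : IsSplitEpi p := ⟨⟨⟨inv (jM ≫ p) ≫ jM, by rw [Category.assoc, IsIso.inv_hom_id]⟩⟩⟩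
      haveI : IsIso p := isIso_of_mono_of_isSplitEpi p
      obtain ⟨c, hc⟩ := Groth.Agent.MTExt29.exists_desc q (inv p ≫ r) (fun {X} x y hxy => by
        rw [← cancel_mono b, Category.assoc, Category.assoc, Category.assoc, Category.assoc,
          ← pullback.condition, IsIso.inv_hom_id_assoc]
        exact hxy)
      haveI := Groth.Agent.MTExt29.epi_of_cover q
      have hcb : c ≫ b = 𝟙 A := by
        rw [← cancel_epi q, ← Category.assoc, hc, Category.assoc, ← pullback.condition, IsIso.inv_hom_id_assoc,
          Category.comp_id]
      haveI : IsSplitEpi b := ⟨⟨⟨c, hcb⟩⟩⟩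
      exact isIso_of_mono_of_isSplitEpi b
    · right
      haveI ht : IsIso (pullback (toAff H) η[aff H]).hom := hmin _ (jM ≫ p) hiso hbM
      haveI : Subsingleton (pullback (toAff H) η[aff H]).left :=
        ⟨fun x y => (pullback (toAff H) η[aff H]).hom.homeomorph.injective (Subsingleton.elim (α := PrimeSpectrum k) _ _)⟩
      haveI := hsM
      haveI hsub : Subsingleton B.left := (jM ≫ r).left.surjective.subsingleton
      haveI : AlgebraicGeometry.IsReduced B.left := Groth.Agent.AbRigid.isReduced_of_smooth_over_field B.hom
      haveI : Surjective η[B].left := ⟨fun x => ⟨IsLocalRing.closedPoint k, Subsingleton.elim _ _⟩⟩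
      haveI : IsIso η[B].left := isIso_of_isClosedImmersion_of_surjective _
      have e : B.hom = inv η[B].left := by
        exact IsIso.eq_inv_of_hom_inv_id (Over.w η[B])
      show IsIso B.hom
      rw [e]
      infer_instance
  · intro hsimp H _ h _ _ hh hH
    haveI : Mono h := Over.mono_of_mono_left h
    haveI : LocallyOfFiniteType H.hom := by rw [← Over.w h]; infer_instance
    haveI : QuasiCompact H.hom := by rw [← Over.w h]; infer_instance
    haveI : QuasiSeparated H.hom := Groth.Agent.AlgGrpBasic19.quasiSeparatedSpace
    haveI : QuasiCompact (h ≫ q).left := Groth.Agent.AlgGrpBasic19.quasiCompact_left (h ≫ q)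
    obtain ⟨B, gB, ib, r, hib, hr, hfac, hibc, hker, hrqc, hrs⟩ := Groth.Agent.GrpGen20.exists_image (h ≫ q)
    haveI := hib; haveI := hr; haveI := hibc; haveI := hrqc; haveI := hrs
    haveI : IsProper B.hom := by rw [← Over.w ib]; infer_instance
    haveI : ConnectedSpace H.left := (Groth.Agent.S3293.result k H hH).1
    haveI : ConnectedSpace B.left := r.left.surjective.connectedSpace r.left.continuous
    have hBa : Function.Bijective (structRing B).hom := by
      haveI : Nonempty B.left := ⟨η[B].left (IsLocalRing.closedPoint k)⟩
      haveI : Nonempty (⊤ : B.left.Opens) := ⟨⟨Classical.arbitrary _, trivial⟩⟩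
      refine ⟨(structRing B).hom.injective, fun s => ?_⟩
      obtain ⟨c, hc⟩ := hH.2 (r.left.appTop s)
      refine ⟨c, ?_⟩
      haveI : IsSchemeTheoreticallyDominant r.left := ⟨hker⟩
      refine r.left.app_injective ⊤ ?_
      show r.left.appTop _ = r.left.appTop _
      rw [← hc]
      show (structRing B ≫ r.left.appTop).hom c = _
      rw [Category.assoc, ← Scheme.Hom.comp_appTop, Over.w r]
    haveI := Groth.Agent.AntiAff20.smooth_of_antiAffine B hBa
    rcases hsimp B ib inferInstance inferInstance with hi | ht
    · exfalso
      haveI := hi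
      haveI : IsIso ib.left := inferInstanceAs (IsIso ((Over.forget _).map ib))
      haveI : Surjective (h ≫ q).left := by rw [← hfac, Over.comp_left]; infer_instance
      haveI : IsClosedImmersion (𝟙 G : G ⟶ G).left := inferInstanceAs (IsClosedImmersion (𝟙 G.left))
      obtain ⟨g, hg⟩ := exists_factor_of_surjective i q hq (𝟙 G) hGa (fun M' _ _ _ j' _ _ _ => ⟨j', Category.comp_id _⟩)
        h inferInstance
      haveI : IsSplitEpi h := ⟨⟨⟨g, hg⟩⟩⟩
      exact hh (isIso_of_mono_of_isSplitEpi h)
    · haveI : IsIso B.hom := ht
      have h1 : (h ≫ q) = toUnit H ≫ η[A] := by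
        have hib1 : ib = toUnit B ≫ η[A] := by
          have e : η[B] ≫ ib = η[A] := IsMonHom.one_hom (f := ib)
          have hid : toUnit B ≫ η[B] = 𝟙 B := by
            apply Over.OverMorphism.ext
            rw [← cancel_mono B.hom, Over.w, Over.w]
          rw [← e, ← Category.assoc, hid, Category.id_comp]
        rw [← hfac, hib1, ← Category.assoc, toUnit_unique (r ≫ toUnit B) (toUnit H)]
      let n := hq.lift h (toUnit H) h1
      have hn : n ≫ i = h := hq.lift_fst _ _ _
      obtain ⟨w, hw⟩ := exists_const hH n
      have hid : 𝟙 H = toUnit H ≫ η[H] := by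
        rw [← cancel_mono h, Category.id_comp, Category.assoc, IsMonHom.one_hom]
        have hwi : w ≫ i = η[G] := by
          have h2 : η[H] ≫ n ≫ i = η[G] := by rw [hn, IsMonHom.one_hom]
          rw [hw] at h2
          simp only [Category.assoc] at h2
          rw [← Category.assoc η[H], toUnit_unique (η[H] ≫ toUnit _) (𝟙 _), Category.id_comp] at h2
          exact h2
        rw [← hn, hw, Category.assoc, hwi]
      exact ⟨η[H].left, (congrArg CommaMorphism.left hid).symm, Over.w η[H]⟩

end Groth.Agent.S18075
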