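import Groth.Statements.S18078
import Groth.Agent.Lib.SpecAff15.Special
import Groth.Agent.Lib.SubSpec19.Laws
import Groth.Agent.Lib.UnipBC21.Basic
import Groth.Agent.Lib.BorelFix21.Pts
-- import your own Groth.Agent.* helpers here

set_option autoImplicit false
universe u
open CategoryTheory MonoidalCategory CartesianMonoidalCategory MonObj GrpObj AlgebraicGeometry CategoryTheory.Limits
open AlgGrp

namespace Groth.Agent.S18078

set_option linter.style.haveILetI false
set_option backward.isDefEq.respectTransparency.types false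

/-- Let k be an algebraically closed field, F an algebraically closed field extension of k, G an
algebraic k-group (a k-group scheme of finite type) and d a natural number. Then G_F contains a
smooth connected unipotent closed subgroup of dimension at least d (unipotent: no non-trivial
subtorus) if and only if G does; that is, D_u(k, G) = D_u(F, G). -/
theorem result (k : Type u) [Field k] [IsAlgClosed k]
    (F : Type u) [Field F] [IsAlgClosed F] [Algebra k F]
    (G : Over (Spec (CommRingCat.of k))) [GrpObj G] [LocallyOfFiniteType G.hom] [QuasiCompact G.hom] (d : ℕ) :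
    (∃ (U : Over (Spec (CommRingCat.of F))) (_ : GrpObj U) (i : U ⟶ Red.bc (Spec.map (CommRingCat.ofHom (algebraMap k F))) G), IsMonHom i ∧ IsClosedImmersion i.left ∧
        Smooth U.hom ∧ IsAffine U.left ∧ ConnectedSpace ↥U.left ∧ Red.HasNoSubtorus F U ∧
        (d : WithBot ℕ∞) ≤ topologicalKrullDim ↥U.left) ↔
    (∃ (U : Over (Spec (CommRingCat.of k))) (_ : GrpObj U) (i : U ⟶ G), IsMonHom i ∧ IsClosedImmersion i.left ∧
        Smooth U.hom ∧ IsAffine U.left ∧ ConnectedSpace ↥U.left ∧ Red.HasNoSubtorus k U ∧
        (d : WithBot ℕ∞) ≤ topologicalKrullDim ↥U.left) := by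
  constructor
  · rintro ⟨U, _, i, hi, hc, hs, ha, hcn, hP, hd⟩
    haveI := hi
    haveI := hc
    haveI := hs
    haveI := hcn
    haveI := ha
    obtain ⟨U', hU', i', h1, h2, h3, h4, hdim, -, haff, hnt⟩ := SpecAff15.exists_of_extension15 G i
    exact ⟨U', hU', i', h1, h2, h3, haff ha, h4, hnt ha hP, hd.trans hdim⟩
  · rintro ⟨U, _, i, hi, hc, hs, ha, hcn, hP, hd⟩
    haveI := hi
    haveI := hc
    haveI := hs
    haveI := hcn
    haveI := ha
    let σ := Spec.map (CommRingCat.ofHom (algebraMap k F))
    obtain ⟨h1, h2, h3, h4⟩ := SubSpec19.exists_bc σ G i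
    exact ⟨Red.bc σ U, inferInstance, (Over.pullback σ).map i, inferInstance, h1, h2, BorelFix21.isAffine_bc σ U,
      h3, UnipBC21.hasNoSubtorus_bc σ U hP, h4.symm ▸ hd⟩


end Groth.Agent.S18078
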