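import Groth.Statements.S1808
import Groth.Agent.Lib.BC8.TopDualApps

set_option autoImplicit false
universe u
open CategoryTheory CategoryTheory.Limits AlgebraicGeometry
attribute [local instance] HasDerivedCategory.standard
open Dual

namespace Groth.Agent.S1808


/-- Let A be a Noetherian local ring with normalized dualizing complex ω_A^• and ω_A = H^{−dim
A}(ω_A^•); let X be proper over Spec A with Rf_* on D_QCoh assumed to exist and to preserve
quasi-coherence of cohomology, a a right adjoint of it, and W an object of D_QCoh(Spec A) isomorphic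
to the derived tilde of ω_A^• (tilde assumed left exact). Put ω_X = H^{−dim X}(a(W)). Let d be the
dimension of the closed fibre and suppose dim X = d + dim A. Then there is an A-linear map t :
H^d(X, ω_X) → ω_A such that for every coherent O_X-module F and every A-linear ψ : H^d(X, F) → ω_A
there is exactly one φ : F → ω_X with ψ = t ∘ H^d(φ); that is, ω_X represents F ↦ Hom_A(H^d(X, F),
ω_A). -/
theorem result (A : Type u) [CommRing A] [IsLocalRing A] [IsNoetherianRing A] (ω : Dual.D A) (hω : Dual.IsDualizing A ω) (hn : Dual.IsNormalized A ω) (dA : ℕ) (hdA : ringKrullDim A = dA) (X : Scheme.{u}) [X.Over (Spec (CommRingCat.of A))] [IsProper (X ↘ Spec (CommRingCat.of A))] [DCoh.HasRpush (X ↘ Spec (CommRingCat.of A))] (h : ∀ K : DCoh.D X, DCoh.IsQCohD K → DCoh.IsQCohD ((DCoh.Rpush (X ↘ Spec (CommRingCat.of A))).obj K)) (a : DCoh.DQCoh (Spec (CommRingCat.of A)) ⥤ DCoh.DQCoh X) (adj : (ObjectProperty.lift DCoh.IsQCohD (ObjectProperty.ι DCoh.IsQCohD ⋙ DCoh.Rpush (X ↘ Spec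 (CommRingCat.of A))) (fun K => h K.obj K.property)) ⊣ a) [PreservesFiniteLimits (tilde.functor (CommRingCat.of A))] (W : DCoh.DQCoh (Spec (CommRingCat.of A))) (hW : Nonempty (W.obj ≅ (DCoh.tildeD (CommRingCat.of A)).obj ω)) (dX d : ℕ) (hdX : topologicalKrullDim X = dX) (hd : topologicalKrullDim ((X ↘ Spec (CommRingCat.of A)).fiber (IsLocalRing.closedPoint A)) = d) (hdim : dX = d + dA) : ∃ t : Coh.HH X (DCoh.HD (a.obj W).obj (-(dX : ℤ))) d →ₗ[A] Dual.HD A ω (-(dA : ℤ)), ∀ (F : X.Modules), Coh.IsCoh F → ∀ ψ : Coh.HH X F d →ₗ[A] Dual.HD A ω (-(dA : ℤ)), ∃! φ : F ⟶ DCoh.HD (a.obj W).obj (-(dX : ℤ)), ∀ x : Coh.HH X F d, ψ x = t (Sheaf.H.map ((SheafOfModules.toSheaf X.ringCatSheaf).map φ) d x) := by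
  haveI : ∀ (U V : Scheme.{u}) (j : U ⟶ V) [IsOpenImmersion j],
      PreservesFiniteLimits (Scheme.Modules.restrictFunctor j) := fun U V j _ => inferInstance
  haveI : ∀ (R : CommRingCat.{u}), PreservesFiniteLimits (tilde.functor R) := fun R => M1.tilde_preservesFiniteLimits
  let f := X ↘ Spec (CommRingCat.of A)
  haveI : IsLocallyNoetherian X := LocallyOfFiniteType.isLocallyNoetherian f
  haveI : CompactSpace X := QuasiCompact.compactSpace_of_compactSpace f
  obtain ⟨eW⟩ := hW
  let eW' : W.obj ≅ (DPerf.tildeDD (CommRingCat.of A)).obj ω := eW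
  let hp : DCoh.RpushPreservesQCoh f := h
  let adj' : DCoh.RpushQ f hp ⊣ a := adj
  have hK := BC8.isDualizingSch_proper (A := CommRingCat.of A) hω f adj' eW'
  have hn' := BC8.dlt_eq_zero_of_isClosed (A := CommRingCat.of A) hω hn f adj' eW'
  haveI := BC8.isGE_of_normalized hω hn dA hdA
  haveI : (a.obj W).obj.IsGE (-((d : ℤ) - -(dA : ℤ))) :=
    (DerivedCategory.isGE_iff _ _).2 fun i hi => BC8.isZero_HD_of_outside hK hn' dX hdX i (Or.inl (by omega))
  obtain ⟨t, ht⟩ := BC8.exists_represents (hp := hp) A X adj' eW' d (-(dA : ℤ)) Coh.IsCoh (fun _ h => h.1)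
    fun F hF i hi => BC8.subsingleton_HH_above_fibre d hd.le hF.1 hi
  have e : -(dX : ℤ) = -((d : ℤ) - -(dA : ℤ)) := by omega
  rw [e]
  exact ⟨t, ht⟩


end Groth.Agent.S1808
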