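import Groth.Statements.S18080
import Groth.Agent.Lib.SAQuot15.Main
-- import your own Groth.Agent.* helpers here

set_option autoImplicit false
universe u
open CategoryTheory MonoidalCategory CartesianMonoidalCategory MonObj GrpObj AlgebraicGeometry CategoryTheory.Limits
open AlgGrp

namespace Groth.Agent.S18080

/-- Let k be a perfect field and G a connected algebraic group over k. Then G has a smallest normal
connected algebraic subgroup H such that G/H is a semi-abelian variety (an extension of an abelian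
variety by a torus): H is smooth, connected, closed and normal, is the kernel of a flat surjective
homomorphism onto a semi-abelian variety, and is contained in every other such subgroup. (The
identification of G → G/H with the generalized Albanese morphism of (G, e) is not part of this row.) -/
theorem result (k : Type u) [Field k] [PerfectField k]
    (G : Over (Spec (CommRingCat.of k))) [GrpObj G] [Smooth G.hom] [QuasiCompact G.hom] [ConnectedSpace ↥G.left] :
    ∃ (H : Over (Spec (CommRingCat.of k))) (_ : GrpObj H) (h : H ⟶ G), IsMonHom h ∧ IsClosedImmersion h.left ∧ AlgGrp.IsNormalHom h ∧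
      Smooth H.hom ∧ ConnectedSpace ↥H.left ∧
      (∃ (Q : Over (Spec (CommRingCat.of k))) (_ : GrpObj Q) (q : G ⟶ Q), IsMonHom q ∧ Surjective q.left ∧ Flat q.left ∧
        AlgGrp.IsKernel h q ∧ (∃ (T : Over (Spec (CommRingCat.of k))) (_ : GrpObj T) (t : T ⟶ Q) (A : Over (Spec (CommRingCat.of k))) (_ : GrpObj A) (p : Q ⟶ A),
        IsMonHom t ∧ IsClosedImmersion t.left ∧ Red.IsTorus T ∧ IsMonHom p ∧ Surjective p.left ∧ Flat p.left ∧
        AlgGrp.IsKernel t p ∧ IsProper A.hom ∧ Smooth A.hom ∧ ConnectedSpace ↥A.left)) ∧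
      ∀ (H' : Over (Spec (CommRingCat.of k))) [GrpObj H'] (h' : H' ⟶ G) [IsMonHom h'] [IsClosedImmersion h'.left]
        (Q' : Over (Spec (CommRingCat.of k))) [GrpObj Q'] (q' : G ⟶ Q') [IsMonHom q'] [Surjective q'.left] [Flat q'.left],
        AlgGrp.IsNormalHom h' → Smooth H'.hom → ConnectedSpace ↥H'.left → AlgGrp.IsKernel h' q' → (∃ (T : Over (Spec (CommRingCat.of k))) (_ : GrpObj T) (t : T ⟶ Q') (A : Over (Spec (CommRingCat.of k))) (_ : GrpObj A) (p : Q' ⟶ A),
        IsMonHom t ∧ IsClosedImmersion t.left ∧ Red.IsTorus T ∧ IsMonHom p ∧ Surjective p.left ∧ Flat p.left ∧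
        AlgGrp.IsKernel t p ∧ IsProper A.hom ∧ Smooth A.hom ∧ ConnectedSpace ↥A.left) →
        ∃ g : H ⟶ H', g ≫ h' = h := by
  obtain ⟨H, iH, h, hm, hc, hn, hs, hcn, hQ, hmin⟩ := SAQuot15.exists_smallest G
  refine ⟨H, iH, h, hm, hc, hn, hs, hcn, hQ, fun H' _ h' _ _ Q' _ q' _ _ _ _ _ _ hker hQ' => ?_⟩
  obtain ⟨g, hg, -⟩ := hker.exists_lift h (toUnit H) ((hmin Q' q' hQ').trans Hom.one_def)
  exact ⟨g, hg⟩


end Groth.Agent.S18080
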