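import Groth.Statements.S18085
-- import your own Groth.Agent.* helpers here
import Groth.Agent.S3293
import Groth.Agent.S14600
import Groth.Agent.Lib.Cartier.Smooth
import Groth.Agent.Lib.AffPart25.Descent
import Groth.Agent.Lib.Semiab15.Basic
import Groth.Agent.Lib.AffQuot19.Basic
import Groth.Agent.Lib.GrpDim20.Basic

set_option autoImplicit false
universe u
open CategoryTheory MonoidalCategory CartesianMonoidalCategory MonObj GrpObj AlgebraicGeometry CategoryTheory.Limits
open AlgGrp

namespace Groth.Agent.S18085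

/-- Let k be a field and G a connected k-group scheme of finite type, with G_aff = N (the smallest
normal connected affine closed subgroup scheme with abelian variety quotient), G_ant = M (the
largest anti-affine closed subgroup scheme) and (G_ant)_aff = M' (the smallest connected affine
closed subgroup scheme of M with abelian variety quotient M/M' = B). Then M' is smooth and contained
in N, and (N ∩ M)/M' is finite: the image of N ∩ M in B is a finite set of points. -/
theorem result (k : Type u) [Field k]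
    (G : Over (Spec (CommRingCat.of k))) [GrpObj G] [LocallyOfFiniteType G.hom] [QuasiCompact G.hom] [ConnectedSpace ↥G.left]
    (N : Over (Spec (CommRingCat.of k))) [GrpObj N] (i : N ⟶ G) [IsMonHom i] [IsClosedImmersion i.left]
    [IsAffine N.left] [ConnectedSpace ↥N.left] (hN : AlgGrp.IsNormalHom i)
    (A : Over (Spec (CommRingCat.of k))) [GrpObj A] (q : G ⟶ A) [IsMonHom q] [Surjective q.left] [Flat q.left]
    [IsProper A.hom] [Smooth A.hom] [ConnectedSpace ↥A.left] (hq : AlgGrp.IsKernel i q)
    (hNmin : ∀ (N₁ : Over (Spec (CommRingCat.of k))) [GrpObj N₁] (i₁ : N₁ ⟶ G) [IsMonHom i₁] [IsClosedImmersion i₁.left]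
    [IsAffine N₁.left] [ConnectedSpace ↥N₁.left] (A₁ : Over (Spec (CommRingCat.of k))) [GrpObj A₁] (q₁ : G ⟶ A₁) [IsMonHom q₁]
      [Surjective q₁.left] [Flat q₁.left] [IsProper A₁.hom] [Smooth A₁.hom] [ConnectedSpace ↥A₁.left],
      AlgGrp.IsNormalHom i₁ → AlgGrp.IsKernel i₁ q₁ → ∃ g : N ⟶ N₁, g ≫ i₁ = i)
    (M : Over (Spec (CommRingCat.of k))) [GrpObj M] [LocallyOfFiniteType M.hom] [QuasiCompact M.hom] (j : M ⟶ G) [IsMonHom j] [IsClosedImmersion j.left]
    (hM : Function.Bijective ((Scheme.ΓSpecIso (CommRingCat.of k)).inv ≫ M.hom.appTop).hom)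
    (hMmax : ∀ (M₁ : Over (Spec (CommRingCat.of k))) [GrpObj M₁] [LocallyOfFiniteType M₁.hom] [QuasiCompact M₁.hom] (j₁ : M₁ ⟶ G) [IsMonHom j₁] [IsClosedImmersion j₁.left],
      Function.Bijective ((Scheme.ΓSpecIso (CommRingCat.of k)).inv ≫ M₁.hom.appTop).hom → ∃ g : M₁ ⟶ M, g ≫ j = j₁)
    (M' : Over (Spec (CommRingCat.of k))) [GrpObj M'] (m : M' ⟶ M) [IsMonHom m] [IsClosedImmersion m.left]
    [IsAffine M'.left] [ConnectedSpace ↥M'.left]
    (B : Over (Spec (CommRingCat.of k))) [GrpObj B] (r : M ⟶ B) [IsMonHom r] [Surjective r.left] [Flat r.left]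
    [IsProper B.hom] [Smooth B.hom] [ConnectedSpace ↥B.left] (hr : AlgGrp.IsKernel m r)
    (hM'min : ∀ (M₂ : Over (Spec (CommRingCat.of k))) [GrpObj M₂] (m₂ : M₂ ⟶ M) [IsMonHom m₂] [IsClosedImmersion m₂.left]
    [IsAffine M₂.left] [ConnectedSpace ↥M₂.left] (B₂ : Over (Spec (CommRingCat.of k))) [GrpObj B₂] (r₂ : M ⟶ B₂) [IsMonHom r₂]
      [Surjective r₂.left] [Flat r₂.left] [IsProper B₂.hom] [Smooth B₂.hom] [ConnectedSpace ↥B₂.left],
      AlgGrp.IsKernel m₂ r₂ → ∃ g : M' ⟶ M₂, g ≫ m₂ = m)
    (P : Over (Spec (CommRingCat.of k))) (p₁ : P ⟶ N) (p₂ : P ⟶ M) (hP : IsPullback p₁ p₂ i j) :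
    Smooth M'.hom ∧ (∃ g : M' ⟶ N, g ≫ i = m ≫ j) ∧ (Set.range ⇑(p₂ ≫ r).left.base).Finite := by
  classical
  have hlfM' : LocallyOfFiniteType M'.hom := by rw [← Over.w m]; infer_instance
  haveI := hlfM'
  haveI : QuasiCompact M'.hom := by rw [← Over.w m]; infer_instance
  obtain ⟨hMconn, hMcomm⟩ := Groth.Agent.S3293.result k M hM
  haveI := hMcomm
  haveI : Mono i := Over.mono_of_mono_left i
  haveI : Mono j := Over.mono_of_mono_left j
  haveI : Mono m := Over.mono_of_mono_left m
  -- M' is smooth
  have hsmooth : Smooth M'.hom := by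
    obtain ⟨p, hp⟩ := CharP.exists k
    rcases CharP.char_is_prime_or_zero k p with hpp | rfl
    · haveI : Fact p.Prime := ⟨hpp⟩
      obtain ⟨T, gT, iT, A₁, gA, q₁, hiT, hciT, hT, hq₁, hsurj, hflat, hker, hprop, hsm, hconn⟩ :=
        Groth.Agent.S14600.result k p M hM
      haveI := hiT; haveI := hciT; haveI := hq₁; haveI := hsurj; haveI := hflat
      haveI := hprop; haveI := hsm; haveI := hconn
      obtain ⟨hTsm, hTconn⟩ := Groth.Agent.TorPts21.smooth_connected_of_isTorus hT
      haveI := hTsm; haveI := hTconn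
      haveI : IsAffineHom T.hom := (Groth.Agent.Semiab15.torus_props hT).2.2.1
      haveI : IsAffine T.left := isAffine_of_isAffineHom T.hom
      obtain ⟨g, hg⟩ := hM'min T iT A₁ q₁ hker
      have h1 : iT ≫ r = 1 := Groth.Agent.AffPart25.eq_one_of_affine_field (iT ≫ r)
      let h : T ⟶ M' := IsPullback.lift hr iT (toUnit T) (by rw [h1, Hom.one_def])
      have hh : h ≫ m = iT := IsPullback.lift_fst hr _ _ _
      haveI : Mono iT := Over.mono_of_mono_left iT
      let e : M' ≅ T :=
        { hom := g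
          inv := h
          hom_inv_id := by rw [← cancel_mono m, Category.assoc, hh, hg, Category.id_comp]
          inv_hom_id := by rw [← cancel_mono iT, Category.assoc, hg, hh, Category.id_comp] }
      haveI : IsIso e.hom.left := ((Over.forget _).mapIso e).isIso_hom
      rw [← Over.w e.hom]
      infer_instance
    · haveI : CharZero k := CharP.charP_to_charZero k
      exact Groth.Agent.Cartier.smooth_of_charZero M'
  haveI := hsmooth
  refine ⟨hsmooth, ?_, ?_⟩
  · have h1 : (m ≫ j) ≫ q = 1 := Groth.Agent.AffPart25.eq_one_of_affine_field ((m ≫ j) ≫ q)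
    exact ⟨IsPullback.lift hq (m ≫ j) (toUnit M') (by rw [h1, Hom.one_def]), IsPullback.lift_fst hq _ _ _⟩
  · have hkP : IsPullback p₂ (toUnit P) (j ≫ q) η[A] := by
      have := hP.flip.paste_vert hq
      rwa [toUnit_unique (p₁ ≫ toUnit N) (toUnit P)] at this
    obtain ⟨gP, hp₂⟩ := Groth.Agent.GrpDim20.exists_grpObj_kernel (j ≫ q) p₂ hkP
    haveI := hp₂
    haveI hc2 : IsClosedImmersion p₂.left := by
      have h' := (hP.map (Over.forget _))
      exact MorphismProperty.of_isPullback h' ‹IsClosedImmersion i.left›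
    haveI hc1 : IsClosedImmersion p₁.left := by
      have h' := (hP.flip.map (Over.forget _))
      exact MorphismProperty.of_isPullback h' ‹IsClosedImmersion j.left›
    haveI : IsAffine P.left := isAffine_of_isAffineHom p₁.left
    haveI : LocallyOfFiniteType P.hom := by rw [← Over.w p₂]; infer_instance
    haveI : QuasiCompact P.hom := by rw [← Over.w p₂]; infer_instance
    haveI : Mono p₂ := Over.mono_of_mono_left p₂
    haveI : IsCommMonObj P := Groth.Agent.AbelGrp20.isCommMonObj_of_mono p₂
    haveI : IsLocallyNoetherian B.left := LocallyOfFiniteType.isLocallyNoetherian B.hom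
    haveI : LocallyOfFiniteType r.left := by
      haveI : LocallyOfFiniteType (r.left ≫ B.hom) := by rw [Over.w]; infer_instance
      exact locallyOfFiniteType_of_comp r.left B.hom
    haveI : IsCommMonObj B := Groth.Agent.AbelGrp20.isCommMonObj_of_epi r
      ⟨inferInstance, inferInstance, LocallyOfFinitePresentation.iff_locallyOfFiniteType.2 inferInstance⟩
    obtain ⟨K, gK, jK, I, gI, p, m₂, -, -, hpm, hm₂, -, hlI, hqI, hpf, hps, -, -, hcI, hfac⟩ :=
      Groth.Agent.Semiab15.exists_image (p₂ ≫ r)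
    haveI := hpm; haveI := hpf; haveI := hps; haveI := hlI; haveI := hqI; haveI := hcI
    haveI : IsAffine I.left := Groth.Agent.AffQuot19.isAffine_target P I p
    haveI : IsProper I.hom := by rw [← Over.w m₂]; infer_instance
    haveI : IsAffineHom I.hom := isAffineHom_of_isAffine _
    haveI : IsFinite I.hom := (IsFinite.iff_isProper_and_isAffineHom).2 ⟨inferInstance, inferInstance⟩
    haveI : Finite I.left := by
      have h := I.hom.finite_preimage_singleton (IsLocalRing.closedPoint k)
      rw [← Set.finite_univ_iff]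
      exact h.subset fun x _ => Subsingleton.elim (α := PrimeSpectrum k) _ _
    rw [← hfac]
    refine (Set.finite_range ⇑m₂.left.base).subset ?_
    rintro x ⟨y, rfl⟩
    exact ⟨p.left.base y, rfl⟩

end Groth.Agent.S18085
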