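import Groth.Statements.S1809
import Groth.Agent.Lib.DlzSchCM27.Main
-- import your own Groth.Agent.* helpers here

set_option autoImplicit false
universe u
open CategoryTheory CategoryTheory.Limits AlgebraicGeometry
attribute [local instance] HasDerivedCategory.standard
open Dual

namespace Groth.Agent.S1809

/-- Let X be a locally Noetherian scheme and ω a dualizing complex on X (affine-locally the derived
tilde of a dualizing complex of the ring; exactness of restriction of module sheaves to opens and of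
M ↦ M~ is assumed through instance binders). Then for every point x the local ring O_{X,x} is
Cohen–Macaulay if and only if exactly one cohomology sheaf of ω has nonzero stalk at x; and the set
of points whose local ring is Cohen–Macaulay is open. -/
theorem result (X : Scheme.{u}) [IsLocallyNoetherian X] [∀ (U : Scheme.{u}) (j : U ⟶ X) [IsOpenImmersion j], PreservesFiniteLimits (Scheme.Modules.restrictFunctor j)] [∀ (R : CommRingCat.{u}), PreservesFiniteLimits (tilde.functor R)] (ω : DCoh.D X) (hω : Dual2.IsDualizingSch X ω) : (∀ x : X, LocCoh.IsCohenMacaulayLocalRing (X.presheaf.stalk x) ↔ ∃! i : ℤ, Nontrivial ((DCoh.HD ω i).presheaf.stalk x)) ∧ IsOpen {x : X | LocCoh.IsCohenMacaulayLocalRing (X.presheaf.stalk x)} := by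
  have key : ∀ (A : Type u) [CommRing A] [IsNoetherianRing A] (j : Spec (CommRingCat.of A) ⟶ X) [IsOpenImmersion j]
      (p : Spec (CommRingCat.of A)),
      (LocCoh.IsCohenMacaulayLocalRing (X.presheaf.stalk (j p)) ↔
        ∃! i : ℤ, Nontrivial ((DCoh.HD ω i).presheaf.stalk (j p))) ∧
      ∃ V : Set X, IsOpen V ∧ (LocCoh.IsCohenMacaulayLocalRing (X.presheaf.stalk (j p)) → j p ∈ V) ∧
        ∀ x ∈ V, LocCoh.IsCohenMacaulayLocalRing (X.presheaf.stalk x) := by
    intro A _ _ j _ p
    obtain ⟨ω', hω', ⟨e⟩⟩ := hω A j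
    have hcm : ∀ q : Spec (CommRingCat.of A), LocCoh.IsCohenMacaulayLocalRing (X.presheaf.stalk (j q)) ↔
        LocCoh.IsCohenMacaulayLocalRing (Localization.AtPrime (q : PrimeSpectrum A).asIdeal) := fun q => by
      obtain ⟨g⟩ := Groth.Agent.DlzSchCM27.exists_stalk_ringEquiv j q
      exact ⟨Groth.Agent.SMT.isCM_of_ringEquiv g, Groth.Agent.SMT.isCM_of_ringEquiv g.symm⟩
    refine ⟨?_, j '' {q : Spec (CommRingCat.of A) | LocCoh.IsCohenMacaulayLocalRing
      (Localization.AtPrime (q : PrimeSpectrum A).asIdeal)},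
      j.isOpenEmbedding.isOpenMap _ (Groth.Agent.S0372.result A ω' hω').1,
      fun h => ⟨p, (hcm p).1 h, rfl⟩, ?_⟩
    · refine (hcm p).trans ((Groth.Agent.DlzSchCM27.isCM_iff_existsUnique hω' p).trans ?_)
      simp only [Groth.Agent.DlzSchCM27.nontrivial_stalk_iff ω j ω' e p]
    · rintro _ ⟨q, hq, rfl⟩
      exact (hcm q).2 hq
  have hpt : ∀ x : X, ∃ (A : CommRingCat.{u}) (_ : IsNoetherianRing A) (j : Spec A ⟶ X)
      (_ : IsOpenImmersion j) (p : Spec A), j p = x := fun x => by
    obtain ⟨_, ⟨U, hU, rfl⟩, hxU, -⟩ :=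
      (X.isBasis_affineOpens).exists_subset_of_mem_open (Set.mem_univ x) isOpen_univ
    obtain ⟨p, hp⟩ : x ∈ Set.range hU.fromSpec := by rw [hU.range_fromSpec]; exact hxU
    exact ⟨Γ(X, U), IsLocallyNoetherian.component_noetherian ⟨U, hU⟩, hU.fromSpec, inferInstance, p, hp⟩
  refine ⟨fun x => ?_, isOpen_iff_forall_mem_open.2 fun x hx => ?_⟩
  · obtain ⟨A, _, j, _, p, rfl⟩ := hpt x
    exact (key A j p).1
  · obtain ⟨A, _, j, _, p, rfl⟩ := hpt x
    obtain ⟨V, hV, hmem, hsub⟩ := (key A j p).2
    exact ⟨V, hsub, hV, hmem hx⟩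

end Groth.Agent.S1809
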