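import Groth.Statements.S18090
import Groth.Agent.Lib.RadBC15.QuasiCompl
-- import your own Groth.Agent.* helpers here

set_option autoImplicit false
universe u
open CategoryTheory MonoidalCategory CartesianMonoidalCategory MonObj GrpObj AlgebraicGeometry CategoryTheory.Limits
open AlgGrp

namespace Groth.Agent.S18090

/-- Let k be a perfect field of characteristic p > 0, G a connected algebraic group over k, N = G_aff
its largest connected affine algebraic subgroup (normal, with abelian variety quotient), R =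
R(G_aff) the radical of N, T a maximal torus of R, and H = G_gug the smallest normal connected
algebraic subgroup of G with semi-abelian quotient, which lies in N. Then T is a quasi-complement to
H in N: N = T H and T ∩ H is finite. -/
theorem result (k : Type u) [Field k] [PerfectField k]
    (p : ℕ) [Fact p.Prime] [CharP k p]
    (G : Over (Spec (CommRingCat.of k))) [GrpObj G] [Smooth G.hom] [QuasiCompact G.hom] [ConnectedSpace ↥G.left]
    (N : Over (Spec (CommRingCat.of k))) [GrpObj N] (i : N ⟶ G) [IsMonHom i] [IsClosedImmersion i.left]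
    [Smooth N.hom] [IsAffine N.left] [ConnectedSpace ↥N.left] (hN : AlgGrp.IsNormalHom i)
    (A : Over (Spec (CommRingCat.of k))) [GrpObj A] (q : G ⟶ A) [IsMonHom q] [Surjective q.left] [Flat q.left]
    [IsProper A.hom] [Smooth A.hom] [ConnectedSpace ↥A.left] (hq : AlgGrp.IsKernel i q)
    (hNmax : ∀ (N₁ : Over (Spec (CommRingCat.of k))) [GrpObj N₁] (i₁ : N₁ ⟶ G) [IsMonHom i₁] [IsClosedImmersion i₁.left],
      Smooth N₁.hom → IsAffine N₁.left → ConnectedSpace ↥N₁.left → ∃ f : N₁ ⟶ N, f ≫ i = i₁)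
    (R : Over (Spec (CommRingCat.of k))) [GrpObj R] (r : R ⟶ N) [IsMonHom r] [IsClosedImmersion r.left]
    [Smooth R.hom] [ConnectedSpace ↥R.left] (hRs : Red.IsSolvableGrp R) (hRn : AlgGrp.IsNormalHom r)
    (hRmax : ∀ (R₁ : Over (Spec (CommRingCat.of k))) [GrpObj R₁] (r₁ : R₁ ⟶ N) [IsMonHom r₁] [IsClosedImmersion r₁.left],
      Smooth R₁.hom → ConnectedSpace ↥R₁.left → Red.IsSolvableGrp R₁ → AlgGrp.IsNormalHom r₁ → ∃ f : R₁ ⟶ R, f ≫ r = r₁)
    (T : Over (Spec (CommRingCat.of k))) [GrpObj T] (t : T ⟶ R) (hT : Red.IsMaximalTorus t)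
    (H : Over (Spec (CommRingCat.of k))) [GrpObj H] (h : H ⟶ G) [IsMonHom h] [IsClosedImmersion h.left]
    [Smooth H.hom] [ConnectedSpace ↥H.left] (hHn : AlgGrp.IsNormalHom h)
    (Q : Over (Spec (CommRingCat.of k))) [GrpObj Q] (qH : G ⟶ Q) [IsMonHom qH] [Surjective qH.left] [Flat qH.left]
    (hHker : AlgGrp.IsKernel h qH) (hQ : (∃ (T : Over (Spec (CommRingCat.of k))) (_ : GrpObj T) (t : T ⟶ Q) (A : Over (Spec (CommRingCat.of k))) (_ : GrpObj A) (p : Q ⟶ A),
        IsMonHom t ∧ IsClosedImmersion t.left ∧ Red.IsTorus T ∧ IsMonHom p ∧ Surjective p.left ∧ Flat p.left ∧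
        AlgGrp.IsKernel t p ∧ IsProper A.hom ∧ Smooth A.hom ∧ ConnectedSpace ↥A.left))
    (hHmin : ∀ (H' : Over (Spec (CommRingCat.of k))) [GrpObj H'] (h' : H' ⟶ G) [IsMonHom h'] [IsClosedImmersion h'.left]
        (Q' : Over (Spec (CommRingCat.of k))) [GrpObj Q'] (q' : G ⟶ Q') [IsMonHom q'] [Surjective q'.left] [Flat q'.left],
        AlgGrp.IsNormalHom h' → Smooth H'.hom → ConnectedSpace ↥H'.left → AlgGrp.IsKernel h' q' → (∃ (T : Over (Spec (CommRingCat.of k))) (_ : GrpObj T) (t : T ⟶ Q') (A : Over (Spec (CommRingCat.of k))) (_ : GrpObj A) (p : Q' ⟶ A),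
        IsMonHom t ∧ IsClosedImmersion t.left ∧ Red.IsTorus T ∧ IsMonHom p ∧ Surjective p.left ∧ Flat p.left ∧
        AlgGrp.IsKernel t p ∧ IsProper A.hom ∧ Smooth A.hom ∧ ConnectedSpace ↥A.left) →
        ∃ f : H ⟶ H', f ≫ h' = h)
    (g : H ⟶ N) (hg : g ≫ i = h) :
    Surjective (((t ≫ r) ⊗ₘ g) ≫ μ[N]).left ∧
    ∀ (P : Over (Spec (CommRingCat.of k))) (p₁ : P ⟶ T) (p₂ : P ⟶ H), IsPullback p₁ p₂ (t ≫ r) g → IsFinite P.hom := by
  haveI : IsSeparated G.hom := Groth.Agent.AbRigid.isSeparated_of_grpObj G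
  haveI : CompactSpace G.left := (quasiCompact_iff_compactSpace G.hom).1 inferInstance
  haveI : CompactSpace Q.left := qH.left.surjective.compactSpace qH.left.continuous
  haveI : QuasiCompact Q.hom := (quasiCompact_iff_compactSpace Q.hom).2 inferInstance
  haveI : LocallyOfFiniteType Q.hom := Groth.Agent.RadBC15.locallyOfFiniteType_target h hHn qH hHker
  haveI : Mono i := Over.mono_of_mono_left i
  haveI : Mono h := Over.mono_of_mono_left h
  haveI : LocallyOfFiniteType H.hom := inferInstance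
  haveI : QuasiCompact H.hom := by rw [← Over.w h]; infer_instance
  haveI := hT.1; haveI := hT.2.1
  refine ⟨Groth.Agent.RadBC15.surjective_mul r hRs hRn hRmax hT i hQ qH h hHker g hg, fun P p₁ p₂ hP => ?_⟩
  exact Groth.Agent.RadBC15.isFinite_inter G N i hN A q hq R r hRs hRn T t hT.2.2.1 H h
    (fun H' _ h' _ _ Q' _ q' _ _ _ h1 h2 h3 h4 h5 => hHmin H' h' Q' q' h1 h2 h3 h4 h5) g hg P p₁ p₂ hP

end Groth.Agent.S18090
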