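import Groth.Statements.S18094
import Groth.Agent.Lib.SpecAff15.Special
import Groth.Agent.Lib.SubSpec19.Laws
-- import your own Groth.Agent.* helpers here

set_option autoImplicit false
universe u
open CategoryTheory MonoidalCategory CartesianMonoidalCategory MonObj GrpObj AlgebraicGeometry CategoryTheory.Limits
open AlgGrp

namespace Groth.Agent.S18094

set_option linter.style.haveILetI false
set_option backward.isDefEq.respectTransparency.types false

/-- Let S be a scheme and G an S-group scheme of finite presentation; for s ∈ S let d_cu(s) be the
largest dimension of a smooth connected affine commutative unipotent closed subgroup of the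
geometric fibre of G at s, unipotent meaning without non-trivial subtorus. Then d_cu does not
decrease under specialization: for every natural number n, if s specializes to s' (that is, s' lies
in the closure of s) and d_cu(s) ≥ n, then d_cu(s') ≥ n. (The published statement asserts that d_cu
is upper semicontinuous on S, i.e. that the set of points s with d_cu(s) ≥ n is closed; the
published argument reduces to the spectrum of an integral local ring and establishes that this set
is stable under specialization, which is what is stated here. Closedness would in addition need the
set to be locally constructible, which the argument does not address.) -/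
theorem result (S : Scheme.{u}) (G : Over S) [GrpObj G]
    [LocallyOfFinitePresentation G.hom] [QuasiCompact G.hom] [QuasiSeparated G.hom] (n : ℕ) :
    StableUnderSpecialization {s : ↥S | ∃ (H : Over (Spec (CommRingCat.of (AlgebraicClosure (S.residueField s))))) (_ : GrpObj H)
      (i : H ⟶ Red.geomFibre s G), IsMonHom i ∧ IsClosedImmersion i.left ∧ Smooth H.hom ∧ IsAffine H.left ∧
      ConnectedSpace ↥H.left ∧ IsCommMonObj H ∧ Red.HasNoSubtorus (AlgebraicClosure (S.residueField s)) H ∧ (n : WithBot ℕ∞) ≤ topologicalKrullDim ↥H.left} := by
  intro s s' h hs
  obtain ⟨H, _, i, hi, hc, hsm, ha, hcn, hP, hu, hn⟩ := hs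
  haveI := hi
  haveI := hc
  haveI := hsm
  haveI := hcn
  haveI := ha
  haveI := hP
  obtain ⟨H', hH', i', h1, h2, h3, h4, hd, hlaw, haff, hnt⟩ := SpecAff15.exists_of_specializes15 G h i
  exact ⟨H', hH', i', h1, h2, h3, haff ha, h4, SubSpec19.isCommMonObj_of_laws hlaw, hnt ha hu, hn.trans hd⟩


end Groth.Agent.S18094
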