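import Groth.Statements.S18099
import Groth.Agent.Lib.RadBC15.Gug
-- import your own Groth.Agent.* helpers here

set_option autoImplicit false
universe u
open CategoryTheory MonoidalCategory CartesianMonoidalCategory MonObj GrpObj AlgebraicGeometry CategoryTheory.Limits
open AlgGrp

namespace Groth.Agent.S18099

/-- Let k be a perfect field, G a connected algebraic group over k, N = G_aff its largest connected
affine algebraic subgroup, R = R_u(G_aff) the unipotent radical of N, D = [G, G] the derived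
subgroup (the smallest closed normal subgroup scheme containing all commutators of points) and H the
smallest normal connected algebraic subgroup of G with semi-abelian quotient. Then H = R_u(G_aff)
[G, G]: the underlying set of H is the image of the multiplication R × D → G (both sides being
smooth closed subgroups, this is an equality of subgroups). The second equality of the published
statement, R_u(G_aff) [G, G] = R_u(G_aff) [G_aff, G_aff], is not part of this statement. -/
theorem result (k : Type u) [Field k] [PerfectField k]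
    (G : Over (Spec (CommRingCat.of k))) [GrpObj G] [Smooth G.hom] [QuasiCompact G.hom] [ConnectedSpace ↥G.left]
    (N : Over (Spec (CommRingCat.of k))) [GrpObj N] (i : N ⟶ G) [IsMonHom i] [IsClosedImmersion i.left]
    [Smooth N.hom] [IsAffine N.left] [ConnectedSpace ↥N.left]
    (hNmax : ∀ (N₁ : Over (Spec (CommRingCat.of k))) [GrpObj N₁] (i₁ : N₁ ⟶ G) [IsMonHom i₁] [IsClosedImmersion i₁.left],
      Smooth N₁.hom → IsAffine N₁.left → ConnectedSpace ↥N₁.left → ∃ f : N₁ ⟶ N, f ≫ i = i₁)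
    (R : Over (Spec (CommRingCat.of k))) [GrpObj R] (u : R ⟶ N) (hR : Par.IsUnipotentRadical u)
    (D : Over (Spec (CommRingCat.of k))) [GrpObj D] (d : D ⟶ G) [IsMonHom d] [IsClosedImmersion d.left] (hDn : AlgGrp.IsNormalHom d)
    (hD : ∀ (T : Over (Spec (CommRingCat.of k))) (g g' : T ⟶ G), ∃ m : T ⟶ D, g * g' * g⁻¹ * g'⁻¹ = m ≫ d)
    (hDmin : ∀ (D' : Over (Spec (CommRingCat.of k))) [GrpObj D'] (d' : D' ⟶ G) [IsMonHom d'] [IsClosedImmersion d'.left],
      AlgGrp.IsNormalHom d' → (∀ (T : Over (Spec (CommRingCat.of k))) (g g' : T ⟶ G), ∃ m : T ⟶ D', g * g' * g⁻¹ * g'⁻¹ = m ≫ d') →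
      ∃ f : D ⟶ D', f ≫ d' = d)
    (H : Over (Spec (CommRingCat.of k))) [GrpObj H] (h : H ⟶ G) [IsMonHom h] [IsClosedImmersion h.left]
    [Smooth H.hom] [ConnectedSpace ↥H.left] (hHn : AlgGrp.IsNormalHom h)
    (Q : Over (Spec (CommRingCat.of k))) [GrpObj Q] (qH : G ⟶ Q) [IsMonHom qH] [Surjective qH.left] [Flat qH.left]
    (hHker : AlgGrp.IsKernel h qH) (hQ : (∃ (T : Over (Spec (CommRingCat.of k))) (_ : GrpObj T) (t : T ⟶ Q) (A : Over (Spec (CommRingCat.of k))) (_ : GrpObj A) (p : Q ⟶ A),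
        IsMonHom t ∧ IsClosedImmersion t.left ∧ Red.IsTorus T ∧ IsMonHom p ∧ Surjective p.left ∧ Flat p.left ∧
        AlgGrp.IsKernel t p ∧ IsProper A.hom ∧ Smooth A.hom ∧ ConnectedSpace ↥A.left))
    (hHmin : ∀ (H' : Over (Spec (CommRingCat.of k))) [GrpObj H'] (h' : H' ⟶ G) [IsMonHom h'] [IsClosedImmersion h'.left]
        (Q' : Over (Spec (CommRingCat.of k))) [GrpObj Q'] (q' : G ⟶ Q') [IsMonHom q'] [Surjective q'.left] [Flat q'.left],
        AlgGrp.IsNormalHom h' → Smooth H'.hom → ConnectedSpace ↥H'.left → AlgGrp.IsKernel h' q' → (∃ (T : Over (Spec (CommRingCat.of k))) (_ : GrpObj T) (t : T ⟶ Q') (A : Over (Spec (CommRingCat.of k))) (_ : GrpObj A) (p : Q' ⟶ A),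
        IsMonHom t ∧ IsClosedImmersion t.left ∧ Red.IsTorus T ∧ IsMonHom p ∧ Surjective p.left ∧ Flat p.left ∧
        AlgGrp.IsKernel t p ∧ IsProper A.hom ∧ Smooth A.hom ∧ ConnectedSpace ↥A.left) →
        ∃ f : H ⟶ H', f ≫ h' = h) :
    Set.range ⇑h.left.base = Set.range ⇑(((u ≫ i) ⊗ₘ d) ≫ μ[G]).left.base := by
  haveI : CompactSpace G.left := (quasiCompact_iff_compactSpace G.hom).1 inferInstance
  haveI : CompactSpace Q.left := qH.left.surjective.compactSpace qH.left.continuous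
  haveI : QuasiCompact Q.hom := (quasiCompact_iff_compactSpace Q.hom).2 inferInstance
  haveI : LocallyOfFiniteType Q.hom := by
    haveI : IsSeparated Q.hom := Groth.Agent.AbRigid.isSeparated_of_grpObj Q
    haveI : QuasiCompact (qH.left ≫ Q.hom) := by rw [Over.w]; infer_instance
    haveI : QuasiCompact qH.left := QuasiCompact.of_comp qH.left Q.hom
    obtain ⟨Q₂, _, q₂, hm, hf, hs, hc, -, hk, hl, -⟩ := Groth.Agent.AffPart25.exists_quotient_any h hHn
    haveI := hm; haveI := hf; haveI := hs; haveI := hc; haveI := hl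
    obtain ⟨e, he, -⟩ := Groth.Agent.AffPart25.exists_desc_hom h q₂ hk qH (hHker.w.trans Hom.one_def.symm)
    obtain ⟨d', hd', -⟩ := Groth.Agent.AffPart25.exists_desc_hom h qH hHker q₂ (hk.w.trans Hom.one_def.symm)
    haveI := Groth.Agent.AlgGrpBasic19.epi_of_cover qH
    haveI := Groth.Agent.AlgGrpBasic19.epi_of_cover q₂
    haveI : IsIso d' := ⟨e, by rw [← cancel_epi qH, reassoc_of% hd', he, Category.comp_id],
      by rw [← cancel_epi q₂, reassoc_of% he, hd', Category.comp_id]⟩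
    haveI : IsIso d'.left := inferInstanceAs (IsIso ((Over.forget _).map d'))
    rw [← Over.w d']
    infer_instance
  haveI hQcomm := Groth.Agent.RadBC15.isCommMonObj_of_SA hQ
  obtain ⟨hum, -⟩ := id hR
  haveI := hum
  have hd : ∃ f : D ⟶ H, f ≫ h = d := hDmin H h hHn fun T g g' => by
    obtain ⟨m, hm, -⟩ := hHker.exists_lift (g * g' * g⁻¹ * g'⁻¹) (toUnit T) (by
      letI := Hom.commMonoid (M := Q) (X := T)
      rw [MonObj.mul_comp, MonObj.mul_comp, MonObj.mul_comp, GrpObj.inv_comp, GrpObj.inv_comp,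
        _root_.mul_comm (g ≫ qH), mul_inv_cancel_right, mul_inv_cancel, Hom.one_def])
    exact ⟨m, hm.symm⟩
  obtain ⟨fR, hfR, -⟩ := hHker.exists_lift (u ≫ i) (toUnit R) (by
    rw [← Hom.one_def, Category.assoc]
    exact Groth.Agent.RadBC15.comp_eq_one hR hQ (u ≫ i ≫ qH))
  obtain ⟨fD, hfD⟩ := hd
  haveI : Mono h := Over.mono_of_mono_left h
  refine le_antisymm ?_ ?_
  · obtain ⟨Q', _, q', hq', -, -, -, -, hSA, hrange⟩ := Groth.Agent.RadBC15.exists_quot_SA G i hNmax hR d hDn hD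
    haveI := hq'
    obtain ⟨C, _, c, hcm, hcc, hcn, hCs, hCc, ⟨P, _, r, hr, hrs, hrf, hker, hP⟩, hc1, -⟩ :=
      Groth.Agent.SAQuot15.exists_inf hSA hSA q' q'
    haveI := hcm; haveI := hcc; haveI := hr; haveI := hrs; haveI := hrf
    obtain ⟨f, hf⟩ := hHmin C c P r hcn hCs hCc hker hP
    obtain ⟨W', p, z, w, hp, -, hpx⟩ := hrange H h (by rw [← hf, Category.assoc, hc1, MonObj.comp_one])
    haveI := hp
    have hfac : lift z w ≫ ((u ≫ i) ⊗ₘ d) ≫ μ[G] = p ≫ h := by
      rw [← Category.assoc, lift_map, ← Hom.mul_def, hpx]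
    rintro _ ⟨a, rfl⟩
    obtain ⟨a', rfl⟩ := p.left.surjective a
    refine ⟨(lift z w).left a', ?_⟩
    rw [← Scheme.Hom.comp_apply, ← Scheme.Hom.comp_apply, ← Over.comp_left, ← Over.comp_left, hfac]
  · rw [show ((u ≫ i) ⊗ₘ d) ≫ μ[G] = ((fR ⊗ₘ fD) ≫ μ[H]) ≫ h by
      rw [Category.assoc, IsMonHom.mul_hom h, ← Category.assoc, tensorHom_comp_tensorHom, hfR, hfD]]
    rintro _ ⟨x, rfl⟩
    exact ⟨((fR ⊗ₘ fD) ≫ μ[H]).left x, rfl⟩

end Groth.Agent.S18099
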