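import Groth.Statements.S1810
import Groth.Agent.Lib.BC8.DlzShriek

set_option autoImplicit false
universe u
open CategoryTheory CategoryTheory.Limits AlgebraicGeometry
attribute [local instance] HasDerivedCategory.standard
open Dual

namespace Groth.Agent.S1810


/-- For a proper morphism (where the upper shriek is the right adjoint of Rf_*). Let f : X → Y be a
proper morphism with Y Noetherian, Rf_* on D_QCoh assumed to exist and to preserve quasi-coherence
of cohomology, and a a right adjoint of it; assume the exactness instances used to define dualizing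
complexes on X and Y. If K in D_QCoh(O_Y) is a dualizing complex on Y then a(K) is a dualizing
complex on X. -/
theorem result (X Y : Scheme.{u}) [IsNoetherian Y] [∀ (U : Scheme.{u}) (j : U ⟶ X) [IsOpenImmersion j], PreservesFiniteLimits (Scheme.Modules.restrictFunctor j)] [∀ (U : Scheme.{u}) (j : U ⟶ Y) [IsOpenImmersion j], PreservesFiniteLimits (Scheme.Modules.restrictFunctor j)] [∀ (R : CommRingCat.{u}), PreservesFiniteLimits (tilde.functor R)] (f : X ⟶ Y) [IsProper f] [DCoh.HasRpush f] (h : ∀ K : DCoh.D X, DCoh.IsQCohD K → DCoh.IsQCohD ((DCoh.Rpush f).obj K)) (a : DCoh.DQCoh Y ⥤ DCoh.DQCoh X) (adj : (ObjectProperty.lift DCoh.IsQCohD (ObjectProperty.ι DCoh.IsQCohD ⋙ DCoh.Rpush f) (fun K => h K.obj K.property)) ⊣ a) (K : DCoh.DQCoh Y) (hK : Dual2.IsDualizingSch Y K.obj) : Dual2.IsDualizingSch X (a.obj K).obj := by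
---
  haveI : ∀ (U V : Scheme.{u}) (j : U ⟶ V) [IsOpenImmersion j],
      PreservesFiniteLimits (Scheme.Modules.restrictFunctor j) := fun U V j _ => inferInstance
  obtain ⟨c, hc⟩ := BC8.exists_isGE_dualizing hK
  haveI : IsLocallyNoetherian X := LocallyOfFiniteType.isLocallyNoetherian f
  have h1 := BC8.isDualizingSch_phiF f f (𝟙 X) (Category.id_comp f) a (hp := h) adj K hK ⟨c, hc⟩
  intro A _ j _
  obtain ⟨ω, hω, ⟨e⟩⟩ := h1 A j
  exact ⟨ω, hω, ⟨(DCoh.restrictD j).mapIso ((DBC9.lPId X).app (a.obj K).obj).symm ≪≫ e⟩⟩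


end Groth.Agent.S1810
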