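import Groth.Statements.S18100
import Groth.Agent.Lib.GrpGen20.BoundedField
import Groth.Agent.Lib.GrpGen20.CommBound
import Groth.Agent.Lib.AbDual21.Phi
import Groth.Agent.Lib.AbRigid.Epi
import Groth.Agent.Lib.GeomRed21.Locus

set_option autoImplicit false
universe u
open CategoryTheory MonoidalCategory CartesianMonoidalCategory MonObj GrpObj AlgebraicGeometry CategoryTheory.Limits
open AlgGrp

namespace Groth.Agent.S18100

theorem geometricallyConnected_of_geometricallyIntegral' {A B : Scheme.{u}} (f : A ⟶ B)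
    [GeometricallyIntegral f] : GeometricallyConnected f := ⟨fun K _ y Z fst snd hpb => by
  haveI : IsIntegral Z := GeometricallyIntegral.geometrically_isIntegral y fst snd hpb
  infer_instance⟩

/-- Word morphisms commute with homomorphisms. -/
theorem sval_comp_hom {k : Type u} [Field k] {G Γ X T : Over (Spec (CommRingCat.of k))} [GrpObj G] [GrpObj Γ]
    (f : X ⟶ Γ) (i : Γ ⟶ G) [IsMonHom i] : ∀ {n : ℕ} (x : Fin n → (T ⟶ X)) (ε : Fin n → Bool),
    GrpGen20.sval f x ε ≫ i = GrpGen20.sval (f ≫ i) x ε := by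
  intro n
  induction n with
  | zero => intro x ε; simp [GrpGen20.sval, MonObj.one_comp]
  | succ n ih =>
    intro x ε
    have h := ih (fun j => x j.succ) (fun j => ε j.succ)
    simp only [GrpGen20.sval] at h
    simp only [GrpGen20.sval, List.ofFn_succ, List.prod_cons, MonObj.mul_comp, h]
    cases ε 0 <;> simp [GrpObj.inv_comp]


set_option linter.style.haveILetI false
set_option backward.isDefEq.respectTransparency.types false


/-- Let k be a field and G a non-trivial anti-affine k-group scheme of finite type with no anti-affine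
closed subgroup scheme other than G and the trivial one. Then G is either an abelian variety (proper
over k), or every complete subvariety of G has dimension zero: any closed subscheme of G that is
geometrically integral and proper over k has dimension 0. -/
theorem result (k : Type u) [Field k]
    (G : Over (Spec (CommRingCat.of k))) [GrpObj G] [LocallyOfFiniteType G.hom] [QuasiCompact G.hom] (hG : ¬ Red.IsTrivialGrp G)
    (hGa : Function.Bijective ((Scheme.ΓSpecIso (CommRingCat.of k)).inv ≫ G.hom.appTop).hom)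
    (hmin : ∀ (H : Over (Spec (CommRingCat.of k))) [GrpObj H] (h : H ⟶ G) [IsMonHom h] [IsClosedImmersion h.left], ¬ IsIso h → Function.Bijective ((Scheme.ΓSpecIso (CommRingCat.of k)).inv ≫ H.hom.appTop).hom → Red.IsTrivialGrp H) :
    IsProper G.hom ∨
      ∀ (Z : Over (Spec (CommRingCat.of k))) (z : Z ⟶ G) [IsClosedImmersion z.left] [IsProper Z.hom] [GeometricallyIntegral Z.hom],
        topologicalKrullDim ↥Z.left = 0 := by
  by_cases hP : IsProper G.hom
  · exact Or.inl hP
  refine Or.inr fun Z z _ _ _ => ?_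
  haveI : GeometricallyIntegral (Z ⊗ Z).hom := AbRigid.geometricallyIntegral_tensorObj Z Z
  haveI : IsProper (Z ⊗ Z).hom := inferInstanceAs (IsProper (Limits.pullback.fst Z.hom Z.hom ≫ Z.hom))
  haveI : GeometricallyConnected (Z ⊗ Z).hom := geometricallyConnected_of_geometricallyIntegral' _
  let f : Z ⊗ Z ⟶ G := (fst Z Z ≫ z) * (snd Z Z ≫ z)⁻¹
  let sw : Z ⊗ Z ⟶ Z ⊗ Z := lift (snd Z Z) (fst Z Z)
  have hsw : sw ≫ f = f⁻¹ := by
    simp [f, sw, MonObj.comp_mul, GrpObj.comp_inv]
  obtain ⟨Γ, hΓ, i, hi, hic, ⟨f', hf'⟩, hgr, hrange, -⟩ := GrpGen20.exists_generated f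
  -- bounded word length
  let K := AlgebraicClosure k
  let σ : Spec (CommRingCat.of K) ⟶ Spec (CommRingCat.of k) := Spec.map (CommRingCat.ofHom (algebraMap k K))
  haveI : ConnectedSpace ↥(Red.bc σ (Z ⊗ Z)).left :=
    GeometricallyConnected.geometrically_connectedSpace _ _ _ (IsPullback.of_hasPullback (Z ⊗ Z).hom σ)
  haveI : Surjective σ := ⟨fun p => ⟨IsLocalRing.closedPoint K, Subsingleton.elim (α := PrimeSpectrum k) _ _⟩⟩
  haveI : Surjective Z.hom := inferInstance
  obtain ⟨p₀, -⟩ := Z.hom.surjective (IsLocalRing.closedPoint k)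
  let δ : Z ⟶ Z ⊗ Z := lift (𝟙 Z) (𝟙 Z)
  have hδ : f.left (δ.left p₀) = η[G].left (IsLocalRing.closedPoint k) := by
    have h1 : δ ≫ f = 1 := by simp [δ, f, MonObj.comp_mul, GrpObj.comp_inv]
    rw [← AbRigid.left_comp_apply, h1, Hom.one_def, AbRigid.left_comp_apply]
    exact congrArg _ (Subsingleton.elim (α := Spec (CommRingCat.of k)) _ _)
  obtain ⟨z₀, hz₀⟩ := (MorphismProperty.pullback_fst (P := @Surjective) (Z ⊗ Z).hom σ inferInstance).surj (δ.left p₀)
  obtain ⟨n, W₀, -, hWn, hW⟩ := GrpGen20.exists_bound_field f σ fun x =>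
    ⟨Set.univ, isPreconnected_univ, trivial, z₀, trivial, by rw [hz₀]; exact hδ⟩
  have hcl : Set.range i.left ⊆ closure (GrpGen20.wordSet f n) := by
    rw [hrange]
    refine ((closure_mono (GrpGen20.genSet_subset_iUnion f)).trans ?_)
    exact closure_minimal ((Set.iUnion_subset hW).trans
      (closure_minimal hWn isClosed_closure)) isClosed_closure
  have hws := GrpGen20.range_eq_wordSet f i ⟨f', hf'⟩ n hcl
  -- the word morphism with all signs positive
  obtain ⟨W, y, hWp, hWi, hy⟩ : ∃ (W : Over (Spec (CommRingCat.of k))) (y : Fin (n + n) → (W ⟶ Z ⊗ Z)),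
      IsProper W.hom ∧ GeometricallyIntegral W.hom ∧
      ∀ (T : Over (Spec (CommRingCat.of k))) (x : Fin (n + n) → (T ⟶ Z ⊗ Z)), ∃ t : T ⟶ W, ∀ j, t ≫ y j = x j := by
    clear hws hcl
    generalize n + n = m
    induction m with
    | zero =>
      refine ⟨𝟙_ _, Fin.elim0, inferInstanceAs (IsProper (𝟙 _)), ⟨fun L _ x W p₁ p₂ hW => ?_⟩,
        fun T x => ⟨toUnit T, fun j => j.elim0⟩⟩
      haveI : IsIso (𝟙_ (Over (Spec (CommRingCat.of k)))).hom := inferInstanceAs (IsIso (𝟙 _))
      haveI : IsIso p₂ := hW.isIso_snd_of_isIso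
      haveI : Nonempty W := ⟨(inv p₂) (IsLocalRing.closedPoint L)⟩
      exact isIntegral_of_isOpenImmersion p₂
    | succ m ih =>
      obtain ⟨W, y, hW', hW'', hy⟩ := ih
      refine ⟨(Z ⊗ Z) ⊗ W, Fin.cons (fst (Z ⊗ Z) W) (fun j => snd (Z ⊗ Z) W ≫ y j),
        inferInstanceAs (IsProper (Limits.pullback.fst (Z ⊗ Z).hom W.hom ≫ (Z ⊗ Z).hom)),
        AbRigid.geometricallyIntegral_tensorObj _ _, fun T x => ?_⟩
      obtain ⟨t, ht⟩ := hy T (fun j => x j.succ)
      refine ⟨lift (x 0) t, Fin.cases (by simp) (fun i => by simp [ht i])⟩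
  let v : W ⟶ Γ := GrpGen20.sval f' y fun _ => true
  have hvs : Surjective v.left := by
    refine ⟨fun x₁ => ?_⟩
    obtain ⟨T, p, x, ε, hp⟩ := hws.subset ⟨x₁, rfl⟩
    obtain ⟨t, ht⟩ := hy T (fun j => if ε j then x j else x j ≫ sw)
    refine ⟨t.left p, i.left.isEmbedding.injective ?_⟩
    rw [← AbRigid.left_comp_apply, ← AbRigid.left_comp_apply, ← hp]
    refine congrArg (fun g : T ⟶ G => g.left p) ?_
    skip
    have key : v ≫ i = GrpGen20.sval f y fun _ => true := by
      rw [← hf', sval_comp_hom]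
    rw [key, GrpGen20.comp_sval, funext ht]
    unfold GrpGen20.sval
    congr 2
    funext j
    cases hε : ε j <;> simp [hε, Category.assoc, hsw, GrpObj.comp_inv]
  haveI : IsProper Γ.hom := by
    haveI : IsSeparated Γ.hom := AbRigid.isSeparated_of_grpObj Γ
    haveI : LocallyOfFiniteType Γ.hom := by rw [← Over.w i]; infer_instance
    haveI : UniversallyClosed (v.left ≫ Γ.hom) := by rw [Over.w v]; infer_instance
    haveI : UniversallyClosed Γ.hom := UniversallyClosed.of_comp_surjective v.left Γ.hom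
    exact {}
  have hΓa : Function.Bijective ((Scheme.ΓSpecIso (CommRingCat.of k)).inv ≫ Γ.hom.appTop).hom := by
    haveI := hWi
    haveI : GeometricallyConnected W.hom := geometricallyConnected_of_geometricallyIntegral' _
    haveI : Flat W.hom := inferInstance
    have hb : Function.Bijective W.hom.appTop := AbDual21.bijective_appTop W.hom
    haveI : IsReduced Γ.left := GeomRed21.isReduced_of_geometricallyReduced Γ.hom
    haveI : IsDominant v.left := ⟨hvs.surj.denseRange⟩
    haveI : IsSchemeTheoreticallyDominant v.left := .of_isDominant v.left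
    haveI : QuasiCompact v.left := by
      haveI : QuasiCompact (v.left ≫ Γ.hom) := by rw [Over.w v]; infer_instance
      exact QuasiCompact.of_comp v.left Γ.hom
    have hinj : Function.Injective v.left.appTop := v.left.app_injective ⊤
    have e : W.hom.appTop = Γ.hom.appTop ≫ v.left.appTop := by
      rw [← Scheme.Hom.comp_appTop, Over.w v]
    have hb' : Function.Bijective Γ.hom.appTop := by
      rw [e] at hb
      exact ⟨Function.Injective.of_comp hb.1, fun c => by
        obtain ⟨a, ha⟩ := hb.2 (v.left.appTop c)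
        exact ⟨a, hinj ha⟩⟩
    exact hb'.comp (ConcreteCategory.bijective_of_isIso (Scheme.ΓSpecIso (CommRingCat.of k)).inv)
  have htriv : Red.IsTrivialGrp Γ := by
    refine hmin Γ i (fun hiso => hP ?_) hΓa
    haveI : IsIso i.left := inferInstanceAs (IsIso ((Over.forget _).map i))
    have : G.hom = inv i.left ≫ Γ.hom := by rw [← Over.w i, IsIso.inv_hom_id_assoc]
    rw [this]; infer_instance
  haveI : IsIso Γ.hom := htriv
  have hf1 : f = 1 := by
    have : f' = 1 := Over.OverMorphism.ext ((cancel_mono Γ.hom).1 (by rw [Over.w, Over.w]))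
    rw [← hf', this, MonObj.one_comp]
  haveI : Mono z := Over.mono_of_mono_left z
  have hfs : fst Z Z = snd Z Z := by
    refine (cancel_mono z).1 ?_
    exact mul_inv_eq_one.1 hf1
  haveI : Mono Z.hom := ⟨fun {T} a b hab => by
    let a' : Over.mk (a ≫ Z.hom) ⟶ Z := Over.homMk a rfl
    let b' : Over.mk (a ≫ Z.hom) ⟶ Z := Over.homMk b hab.symm
    have h2 : a' = b' := by
      calc a' = lift a' b' ≫ fst Z Z := (lift_fst _ _).symm
        _ = lift a' b' ≫ snd Z Z := by rw [hfs]
        _ = b' := lift_snd _ _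
    exact congrArg (fun g => g.left) h2⟩
  haveI : IsClosedImmersion Z.hom := (IsClosedImmersion.iff_isProper_and_mono _).2 ⟨inferInstance, inferInstance⟩
  haveI : Subsingleton ↥Z.left := ⟨fun a b => Z.hom.isEmbedding.injective (Subsingleton.elim (α := Spec (CommRingCat.of k)) _ _)⟩
  haveI : Nonempty ↥Z.left := ⟨p₀⟩
  refine le_antisymm (topologicalKrullDim_zero_of_discreteTopology ↥Z.left) ?_
  exact Order.krullDim_nonneg_iff.2 ⟨⟨closure {p₀}, isIrreducible_singleton.closure, isClosed_closure⟩⟩

end Groth.Agent.S18100
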