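import Groth.Statements.S18101
import Groth.Agent.Lib.AffRep19.Fixed
import Groth.Agent.Lib.AffRep19.Linear
import Groth.Agent.Lib.AffRep19.GL

set_option autoImplicit false
universe u
open CategoryTheory MonoidalCategory CartesianMonoidalCategory MonObj GrpObj AlgebraicGeometry CategoryTheory.Limits
open AlgGrp

namespace Groth.Agent.S18101

/-- Let k be a field and G a k-group scheme of finite type. Then G is anti-affine, i.e. O(G) = k, if and
only if every action of G on a variety having a fixed point is trivial; the fixed point is taken
k-rational here (the published condition allows any closed fixed point, which gives a formally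
stronger necessary condition; the equivalence with a rational fixed point is what the published
argument through linear representations yields). -/
theorem result (k : Type u) [Field k]
    (G : Over (Spec (CommRingCat.of k))) [GrpObj G] [LocallyOfFiniteType G.hom] [QuasiCompact G.hom] :
    Function.Bijective ((Scheme.ΓSpecIso (CommRingCat.of k)).inv ≫ G.hom.appTop).hom ↔
      ∀ (X : Over (Spec (CommRingCat.of k))) [LocallyOfFiniteType X.hom] [QuasiCompact X.hom] [IsSeparated X.hom] [GeometricallyIntegral X.hom]
        (a : AlgGrp.Action G X) (x : 𝟙_ (Over (Spec (CommRingCat.of k))) ⟶ X), a.IsFixedPt x → a.act = snd G X := by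
  refine ⟨fun h X _ _ _ _ a x hx => ?_, fun h => ?_⟩
  · haveI : IsLocallyNoetherian X.left := LocallyOfFiniteType.isLocallyNoetherian X.hom
    haveI : IsIntegral X.left := GeometricallyIntegral.isIntegral_of_subsingleton X.hom
    exact Groth.Agent.AffRep19.act_eq_snd h a x hx
  · refine ⟨Groth.Agent.AffRep19.injective_struct η[G], ?_⟩
    by_contra hs
    obtain ⟨n, a, x, hx, hne⟩ := Groth.Agent.AffRep19.exists_nontrivial_action G hs
    haveI := Groth.Agent.AffRep19.lft_affSp (k := k) n
    haveI := Groth.Agent.AffRep19.geometricallyIntegral_affSp (k := k) n
    haveI : IsAffine (Groth.Agent.AffRep19.affSp k n).left := inferInstanceAs (IsAffine (Spec _))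
    exact hne (h _ a x hx)

end Groth.Agent.S18101
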