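import Groth.Statements.S18103
import Groth.Agent.Lib.SubSpec19.Derived
-- import your own Groth.Agent.* helpers here

set_option autoImplicit false
universe u
open CategoryTheory MonoidalCategory CartesianMonoidalCategory MonObj GrpObj AlgebraicGeometry CategoryTheory.Limits
open AlgGrp

namespace Groth.Agent.S18103

set_option linter.style.haveILetI false
set_option backward.isDefEq.respectTransparency.types false


/-- Let S be a scheme and G a smooth S-group scheme of finite presentation; for s ∈ S let d_0(s) be the
dimension of the derived group of the identity component of the geometric fibre of G at s, i.e. the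
least dimension of a closed subgroup scheme N of the identity component C (the connected open and
closed subgroup scheme) which is normal in C and contains all commutators of points of C. Then d_0
does not increase under specialization: for every natural number n, if s specializes to s' (that is,
s' lies in the closure of s) and d_0(s) ≤ n, then d_0(s') ≤ n. (The published statement asserts that
d_0 is lower semicontinuous on S, i.e. that the set of points s with d_0(s) ≤ n is closed; the
published argument reduces to the spectrum of an integral local ring and establishes that this set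
is stable under specialization, which is what is stated here. Closedness would in addition need the
set to be locally constructible, which the argument does not address.) -/
theorem result (S : Scheme.{u}) (G : Over S) [GrpObj G]
    [Smooth G.hom] [QuasiCompact G.hom] [QuasiSeparated G.hom] (n : ℕ) :
    StableUnderSpecialization {s : ↥S | ∃ (C : Over (Spec (CommRingCat.of (AlgebraicClosure (S.residueField s))))) (_ : GrpObj C) (c : C ⟶ Red.geomFibre s G)
      (N : Over (Spec (CommRingCat.of (AlgebraicClosure (S.residueField s))))) (_ : GrpObj N) (i : N ⟶ C),
      IsMonHom c ∧ IsOpenImmersion c.left ∧ IsClosedImmersion c.left ∧ ConnectedSpace ↥C.left ∧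
      IsMonHom i ∧ IsClosedImmersion i.left ∧ AlgGrp.IsNormalHom i ∧
      (∀ (T : Over (Spec (CommRingCat.of (AlgebraicClosure (S.residueField s))))) (g h : T ⟶ C), ∃ m : T ⟶ N, g * h * g⁻¹ * h⁻¹ = m ≫ i) ∧
      topologicalKrullDim ↥N.left ≤ (n : WithBot ℕ∞)} := by
  intro s s' h hs
  refine SubSpec19.of_specializes (fun K _ b => ∃ (C : Over (Spec (CommRingCat.of K))) (_ : GrpObj C)
    (c : C ⟶ Red.bc b G) (N : Over (Spec (CommRingCat.of K))) (_ : GrpObj N) (i : N ⟶ C),
    IsMonHom c ∧ IsOpenImmersion c.left ∧ IsClosedImmersion c.left ∧ ConnectedSpace ↥C.left ∧
    IsMonHom i ∧ IsClosedImmersion i.left ∧ AlgGrp.IsNormalHom i ∧ SubSpec19.HasComm i ∧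
    topologicalKrullDim ↥N.left ≤ (n : WithBot ℕ∞)) ?_ h hs
  rintro K _ _ V k _ _ r hr a ⟨C, gC, c, N, gN, i, g1, g2, g3, -, h1, h2, h3, h4, h5⟩
  haveI := g1
  haveI := g2
  haveI := g3
  haveI := h1
  haveI := h2
  obtain ⟨C', gC', c', N', gN', i', b1, b2, b3, b4, a1, a2, a3, a4, a5⟩ :=
    SubSpec19.neutral_derived_special G V r hr a c i h3 h4
  exact ⟨C', gC', c', N', gN', i', b1, b2, b3, b4, a1, a2, a3, a4, a5.trans h5⟩

end Groth.Agent.S18103
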