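import Groth.Statements.S1811
import Groth.Agent.Lib.BC8.DlzProper
import Groth.Agent.Lib.BC8.DlzCMModule
import Groth.Agent.Lib.BC8.DlzTen
import Groth.Agent.Lib.BC8.ViaCM

set_option autoImplicit false
universe u
open CategoryTheory CategoryTheory.Limits AlgebraicGeometry
attribute [local instance] HasDerivedCategory.standard
open Dual

namespace Groth.Agent.S1811


/-- Let k be a field and X a scheme proper over k with dim X = d and structure morphism f : X → Spec k;
assume the exactness instances used to define dualizing complexes on schemes (restriction of modules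
to open subschemes and the functors M ↦ M~ on affine schemes preserve finite limits). Assume the
derived direct image Rf_* exists and preserves quasi-coherence of cohomology sheaves (both known
results), so that it restricts to a functor D_QCoh(O_X) → D_QCoh(O_{Spec k}), and let a :
D_QCoh(O_{Spec k}) → D_QCoh(O_X) be a right adjoint of this restricted functor. Let O be an object
of D_QCoh(O_{Spec k}) isomorphic to the structure sheaf placed in degree 0, and put ω = a(O). Then ω
is a dualizing complex on X; its cohomology sheaves H^i(ω) vanish for i < −d and for i > 0; and for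
every i ≤ 0 the set of points of X at which H^i(ω) has nonzero stalk has Krull dimension at most −i.
(The published statement has further parts, which are not asserted here, and is phrased with the
upper shriek f^!; for the proper morphism f, f^!O is the a(O) used here.) -/
theorem result (k : Type u) [Field k] (X : Scheme.{u}) [X.Over (Spec (CommRingCat.of k))] [IsProper (X ↘ Spec (CommRingCat.of k))] [∀ (U : Scheme.{u}) (j : U ⟶ X) [IsOpenImmersion j], PreservesFiniteLimits (Scheme.Modules.restrictFunctor j)] [∀ (R : CommRingCat.{u}), PreservesFiniteLimits (tilde.functor R)] (d : ℕ) (hd : topologicalKrullDim X = d) (f : X ⟶ Spec (CommRingCat.of k)) (hf : f = X ↘ Spec (CommRingCat.of k)) [DCoh.HasRpush f] (h : ∀ K : DCoh.D X, DCoh.IsQCohD K → DCoh.IsQCohD ((DCoh.Rpush f).obj K)) (a : DCoh.DQCoh (Spec (CommRingCat.of k)) ⥤ DCoh.DQCoh X) (adj : (ObjectProperty.lift DCoh.IsQCohD (ObjectProperty.ι DCoh.IsQCohD ⋙ DCoh.Rpush f) (fun K => h K.obj K.property)) ⊣ a) (O : DCoh.DQCoh (Spec (CommRingCat.of k))) (hO : Nonempty (O.obj ≅ DCoh.inD (Spec (CommRingCat.of k))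 (Coh.structureModule (Spec (CommRingCat.of k))))) : Dual2.IsDualizingSch X (a.obj O).obj ∧ (∀ i : ℤ, (i < -(d : ℤ) ∨ 0 < i) → IsZero (DCoh.HD (a.obj O).obj i)) ∧ ∀ (i : ℤ) (n : ℕ), (n : ℤ) = -i → topologicalKrullDim {x : X | Nontrivial ((DCoh.HD (a.obj O).obj i).presheaf.stalk x)} ≤ (n : WithBot ℕ∞) := by
  haveI : IsProper f := hf ▸ inferInstance
  haveI : IsLocallyNoetherian X := LocallyOfFiniteType.isLocallyNoetherian f
  haveI : CompactSpace X := QuasiCompact.compactSpace_of_compactSpace f
  haveI : ∀ (U V : Scheme.{u}) (j : U ⟶ V) [IsOpenImmersion j],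
      PreservesFiniteLimits (Scheme.Modules.restrictFunctor j) := fun U V j _ => inferInstance
  obtain ⟨eO⟩ := hO
  let ω : Dual.D (CommRingCat.of k) := Dual.inD k k
  have hω : Dual.IsDualizing k ω := BC8.isDualizing_self_field k
  let eW : O.obj ≅ (DPerf.tildeDD (CommRingCat.of k)).obj ω := eO ≪≫ DGen9.KO.oneIso (R := CommRingCat.of k)
  let hp : DCoh.RpushPreservesQCoh f := h
  let adj' : DCoh.RpushQ f hp ⊣ a := adj
  have hK := BC8.isDualizingSch_proper hω f adj' eW
  have hn := BC8.dlt_eq_zero_of_isClosed hω (BC8.isNormalized_self_field k) f adj' eW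
  exact ⟨hK, BC8.isZero_HD_of_outside hK hn d hd,
    fun i n hn' => BC8.dim_support_le hK hn i (BC8.isCohD_dualizing hK i) n hn'⟩


end Groth.Agent.S1811
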