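import Groth.Statements.S18111
import Groth.Agent.Lib.FMHyp13.RankPoly
import Groth.Agent.Lib.FMHyp13.IntPoly

set_option autoImplicit false
set_option backward.isDefEq.respectTransparency false
set_option backward.isDefEq.respectTransparency.types false
universe u
open CategoryTheory CategoryTheory.Limits MonoidalCategory CartesianMonoidalCategory MonObj GrpObj AlgebraicGeometry
open AbVar

attribute [local instance] HasDerivedCategory.standard

namespace Groth.Agent.S18111

/-- Let k be an algebraically closed field of characteristic zero, A an abelian variety over k (a proper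
smooth k-group scheme with geometrically connected fibres) of dimension g, (A^t, φ) a given dual
abelian variety of A for the fppf topology with A^t itself an abelian variety, and P an invertible
module on A ×_k A^t whose class is a Poincaré class; for a k-point α of A^t write P_α for the
restriction of P to A × {α}. Let L be an ample invertible O_A-module with an inverse L' (L ⊗ L' ≅
O_A), negative powers of L meaning powers of L'. For a coherent O_A-module G write h^i_gen(G) for
the generic value of h^i(A, G ⊗ P_α), rendered as the minimum over all k-points α of A^t (the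
generic value by semicontinuity), and for b ≥ 1 let b_A : A → A be multiplication by b. Let F be a
coherent O_A-module, i ≥ 0, a an integer and b ≥ 1 an integer coprime to g!. Then b^g divides
h^i_gen(b_A^* F ⊗ L^{ab}), i.e. b^{2g} times the value at x = a/b of the i-th cohomological rank
function of F is divisible by b^g. (Stated for a coherent module; the source allows any object of
the bounded derived category of coherent modules. The published statement writes the twist as L^{a};
already for F = O_A, i = 0, a = 1, g = 2, b = 5 and a principal polarization this would ask 25 to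
divide h^0(L) = 1, and the published proof, which evaluates the rank function at a/b, gives the
power L^{ab} stated here.) -/
theorem result (k : Type u) [Field k] [IsAlgClosed k] [CharZero k]
    (A At : Over (Spec (CommRingCat.of k))) [GrpObj A] [IsProper A.hom] [Smooth A.hom] [GeometricallyConnected A.hom]
    [GrpObj At] [IsProper At.hom] [Smooth At.hom] [GeometricallyConnected At.hom]
    (φ : ∀ T : Over (Spec (CommRingCat.of k)), PicF.Cl (PicF.XT A.hom T) → (T ⟶ At))
    (hφ : AbDual.IsDualAV Scheme.fppfPrecoverage A At φ)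
    (P : (pullback A.hom At.hom).Modules) (hP : PicF.IsInvertible P)
    (hPξ : AbDual.IsPoincareCl A At φ (PicF.cl P))
    (g : ℕ) (hg : topologicalKrullDim ↥A.left = g)
    (L L' : A.left.Modules) (hL : CohB1.IsAmple L) (hLL' : Nonempty (CohB1.tensorMod L L' ≅ Coh.structureModule A.left))
    (F : A.left.Modules) (hF : Coh.IsCoh F) (i : ℕ) (a : ℤ) (b : ℕ) (hb : 0 < b)
    (hcop : Nat.Coprime b (Nat.factorial g)) :
    b ^ g ∣ W4c5cohrankabvar.hgen k P (W4c5cohrankabvar.twist A F L L' b (a * b)) i := by
  obtain ⟨ε, Pm, Pp, hε, hPm, -, hl, -⟩ := FMHyp13.exists_sided_polys hφ hP hPξ hg hL hLL' hF i a b hb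
  let x₀ : ℚ := (a : ℚ) / b
  have hlarge : ∀ d : ℕ, ((g : ℚ) + 1) / ε ≤ d → 0 < d → ∀ j, j ≤ g →
      ∃ z : ℤ, (g.factorial : ℚ) * Pm.coeff j * (d : ℚ) ^ (2 * g - j) = z := fun d hd hd0 j hj => by
    refine FMHyp13.exists_coeff_eq_int hd0 hPm (⌊x₀ * d⌋ - g) (fun s hs => ?_) hj
    have hdq : (0 : ℚ) < d := by exact_mod_cast hd0
    have h1 : ((⌊x₀ * d⌋ : ℤ) : ℚ) ≤ x₀ * d := Int.floor_le _
    have h2 : x₀ * d < ((⌊x₀ * d⌋ : ℤ) : ℚ) + 1 := Int.lt_floor_add_one _
    have h3 : (g : ℚ) + 1 ≤ ε * d := by rw [div_le_iff₀ hε] at hd; linarith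
    have hs' : (s : ℚ) ≤ g := by exact_mod_cast hs
    refine ⟨(W4c5cohrankabvar.hgen k P (W4c5cohrankabvar.twist A F L L' d ((⌊x₀ * d⌋ - g + s) * d)) i : ℕ), ?_⟩
    rw [← hl (⌊x₀ * d⌋ - g + s) d hd0 (by
        show x₀ - ε < _
        rw [lt_div_iff₀ hdq]; push_cast
        nlinarith [Nat.cast_nonneg (α := ℚ) s]) (by
        show _ ≤ x₀
        rw [div_le_iff₀ hdq]; push_cast
        linarith)]
    rw [Int.cast_natCast]
    field_simp
  obtain ⟨D, hD⟩ := exists_nat_gt (((g : ℚ) + 1) / ε)
  have hD0 : 0 < D := Nat.cast_pos.1 ((show (0 : ℚ) ≤ ((g : ℚ) + 1) / ε by positivity).trans_lt hD)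
  have hcoeff : ∀ j, j ≤ g → ∃ z : ℤ, (g.factorial : ℚ) * Pm.coeff j = z := fun j hj =>
    FMHyp13.exists_eq_int_of_coprime _ D (2 * g - j) (hlarge D hD.le hD0 j hj) (by
      simpa using hlarge (D + 1) (by push_cast; linarith) (Nat.succ_pos _) j hj)
  obtain ⟨z, hz⟩ := FMHyp13.exists_eval_eq_int hb hPm _ a hcoeff
  have hx := hl a b hb (by linarith) le_rfl
  rw [← hx] at hz
  refine (hcop.pow_left g).dvd_of_dvd_mul_left (m := g.factorial) ?_
  rw [← Int.natCast_dvd_natCast]
  refine ⟨z, ?_⟩
  have : ((g.factorial * W4c5cohrankabvar.hgen k P (W4c5cohrankabvar.twist A F L L' b (a * b)) i : ℕ) : ℚ) =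
      (((b : ℤ) ^ g * z : ℤ) : ℚ) := by
    push_cast
    rw [← hz, two_mul, pow_add]
    field_simp
  exact_mod_cast this

end Groth.Agent.S18111
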