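import Groth.Statements.S18112
import Mathlib.Algebra.Group.ForwardDiff
import Mathlib.RingTheory.Polynomial.Pochhammer
import Mathlib.Algebra.Polynomial.Roots

set_option autoImplicit false
universe u
open CategoryTheory CategoryTheory.Limits MonoidalCategory CartesianMonoidalCategory MonObj GrpObj AlgebraicGeometry
open AbVar

namespace Groth.Agent.S18112

open Polynomial in
/-- A polynomial of degree at most `g`, integral at `0, ..., g`, has integral coefficients times `g!`. -/
theorem factorial_mul_coeff_of_values (g : ℕ) (P : Polynomial ℚ) (hP : P.natDegree ≤ g)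
    (hval : ∀ m : ℕ, m ≤ g → ∃ z : ℤ, P.eval (m : ℚ) = z) :
    ∃ R : Polynomial ℤ, R.map (Int.castRingHom ℚ) = Polynomial.C (g.factorial : ℚ) * P := by
  let f : ℕ → ℚ := fun m => P.eval (m : ℚ)
  have hd : ∀ l : ℕ, l ≤ g → ∃ z : ℤ, (fwdDiff 1)^[l] f 0 = z := fun l hl => by
    rw [fwdDiff_iter_eq_sum_shift]
    have hmem : ∑ i ∈ Finset.range (l + 1), ((-1 : ℤ) ^ (l - i) * l.choose i) • f (0 + i • 1) ∈
        (Int.castAddHom ℚ).range := by
      refine sum_mem fun i hi => zsmul_mem ?_ _
      obtain ⟨z, hz⟩ := hval i (by have := Finset.mem_range.1 hi; omega)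
      exact ⟨z, by simpa [f] using hz.symm⟩
    obtain ⟨z, hz⟩ := hmem
    exact ⟨z, hz.symm⟩
  choose! z hz using hd
  refine ⟨∑ l ∈ Finset.range (g + 1), Polynomial.C (z l * (g.factorial / l.factorial : ℕ)) * descPochhammer ℤ l, ?_⟩
  set R := (∑ l ∈ Finset.range (g + 1), Polynomial.C (z l * (g.factorial / l.factorial : ℕ)) * descPochhammer ℤ l)
  have hRd : (R.map (Int.castRingHom ℚ)).natDegree ≤ g := by
    refine Polynomial.natDegree_map_le.trans (Polynomial.natDegree_sum_le_of_forall_le _ _ fun l hl => ?_)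
    refine Polynomial.natDegree_mul_le.trans ?_
    rw [Polynomial.natDegree_C, zero_add, descPochhammer_natDegree]
    exact Nat.lt_succ_iff.1 (Finset.mem_range.1 hl)
  refine Polynomial.eq_of_natDegree_lt_card_of_eval_eq _ _ (f := fun m : Fin (g + 1) => ((m : ℕ) : ℚ))
    (fun a b h => Fin.ext (Nat.cast_injective h)) (fun m => ?_) ?_
  · rw [Polynomial.eval_mul, Polynomial.eval_C]
    have hN := shift_eq_sum_fwdDiff_iter (h := (1 : ℕ)) f (m : ℕ) 0
    simp only [smul_eq_mul, _root_.mul_one, zero_add] at hN
    show _ = _ * f m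
    rw [hN, Finset.mul_sum]
    simp only [R, Polynomial.map_sum, Polynomial.map_mul, Polynomial.map_C, descPochhammer_map, Polynomial.eval_finset_sum,
      Polynomial.eval_mul, Polynomial.eval_C, descPochhammer_eval_eq_descFactorial]
    symm
    refine Finset.sum_subset_zero_on_sdiff (fun l hl => Finset.mem_range.2 (by
      have := Finset.mem_range.1 hl; omega)) (fun l hl => ?_) (fun l hl => ?_)
    · have : (m : ℕ) < l := by
        have := (Finset.mem_sdiff.1 hl).2
        rw [Finset.mem_range] at this; omega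
      rw [Nat.descFactorial_eq_zero_iff_lt.2 this]; simp
    · have hlg : l ≤ g := by have := Finset.mem_range.1 hl; omega
      rw [hz l hlg, Nat.descFactorial_eq_factorial_mul_choose, nsmul_eq_mul]
      have hdiv : ((g.factorial / l.factorial : ℕ) : ℚ) * l.factorial = g.factorial := by
        rw [← Nat.cast_mul, Nat.div_mul_cancel (Nat.factorial_dvd_factorial hlg)]
      simp only [map_mul, eq_intCast, Int.cast_natCast, Nat.cast_mul]
      linear_combination (-((m : ℕ).choose l : ℚ) * z l) * hdiv
  · rw [Fintype.card_fin]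
    exact Nat.lt_succ_of_le (max_le hRd (Polynomial.natDegree_C_mul_le _ _ |>.trans hP))

open Polynomial in
/-- Integrality of the normalised coefficients of a rational rank polynomial. -/
theorem factorial_mul_coeff_int (g : ℕ) (Q : Polynomial ℚ) (hQ : Q.natDegree ≤ g) (u v : ℚ) (huv : u < v)
    (hval : ∀ (a : ℤ) (b : ℕ), 0 < b → u < (a : ℚ) / b → (a : ℚ) / b < v →
      ∃ z : ℤ, (b : ℚ) ^ (2 * g) * Q.eval ((a : ℚ) / b) = z) (j : ℕ) :
    ∃ z : ℤ, (g.factorial : ℚ) * Q.coeff j = z := by
  rcases Nat.lt_or_ge g j with hj | hj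
  · exact ⟨0, by rw [Polynomial.coeff_eq_zero_of_natDegree_lt (hQ.trans_lt hj)]; simp⟩
  obtain ⟨N, hN⟩ := exists_nat_gt (((g : ℚ) + 2) / (v - u))
  have key : ∀ b : ℕ, N ≤ b → ∃ z : ℤ, (b : ℚ) ^ (2 * g - j) * ((g.factorial : ℚ) * Q.coeff j) = z := by
    intro b hb
    have hNpos : (0 : ℚ) < N := lt_of_le_of_lt (div_nonneg (by positivity) (sub_nonneg.2 huv.le)) hN
    have hbq : (0 : ℚ) < b := lt_of_lt_of_le hNpos (by exact_mod_cast hb)
    have hlen : (g : ℚ) + 2 < b * (v - u) := by
      have h1 := (div_lt_iff₀ (sub_pos.2 huv)).1 hN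
      have h2 : (N : ℚ) * (v - u) ≤ b * (v - u) := mul_le_mul_of_nonneg_right (by exact_mod_cast hb) (sub_nonneg.2 huv.le)
      linarith
    let a₀ : ℤ := ⌊(b : ℚ) * u⌋ + 1
    let P : Polynomial ℚ := Polynomial.C ((b : ℚ) ^ (2 * g)) * Q.comp (Polynomial.C ((b : ℚ)⁻¹) * Polynomial.X)
    have hP : P.natDegree ≤ g := by
      refine (Polynomial.natDegree_C_mul_le _ _).trans (Polynomial.natDegree_comp_le.trans ?_)
      calc Q.natDegree * (Polynomial.C ((b : ℚ)⁻¹) * Polynomial.X).natDegree ≤ g * 1 :=
            Nat.mul_le_mul hQ ((Polynomial.natDegree_C_mul_le _ _).trans Polynomial.natDegree_X_le)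
        _ = g := Nat.mul_one g
    obtain ⟨R, hR⟩ := factorial_mul_coeff_of_values g (P.comp (Polynomial.X + Polynomial.C (a₀ : ℚ)))
      (Polynomial.natDegree_comp_le.trans (by rw [Polynomial.natDegree_X_add_C, Nat.mul_one]; exact hP)) fun m hm => by
        have h1 := Int.floor_le ((b : ℚ) * u)
        have h2 := Int.lt_floor_add_one ((b : ℚ) * u)
        have hm' : (m : ℚ) ≤ g := by exact_mod_cast hm
        have hm0 : (0 : ℚ) ≤ m := by positivity
        obtain ⟨z, hz⟩ := hval (a₀ + m) b (by exact_mod_cast hbq) (by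
            rw [lt_div_iff₀ hbq]; simp only [a₀]; push_cast; linarith) (by
            rw [div_lt_iff₀ hbq]; simp only [a₀]; push_cast; nlinarith)
        refine ⟨z, ?_⟩
        rw [← hz]
        simp only [P, Polynomial.eval_comp, Polynomial.eval_mul, Polynomial.eval_C, Polynomial.eval_add,
          Polynomial.eval_X]
        push_cast
        rw [div_eq_inv_mul, add_comm (m : ℚ)]
    have hR' : (R.comp (Polynomial.X - Polynomial.C a₀)).map (Int.castRingHom ℚ) = Polynomial.C (g.factorial : ℚ) * P := by
      rw [Polynomial.map_comp, hR, Polynomial.mul_comp, Polynomial.C_comp, Polynomial.comp_assoc]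
      simp
    refine ⟨(R.comp (Polynomial.X - Polynomial.C a₀)).coeff j, ?_⟩
    have h := congrArg (fun S : Polynomial ℚ => S.coeff j) hR'
    simp only [Polynomial.coeff_map, eq_intCast, P, Polynomial.coeff_C_mul, Polynomial.comp_C_mul_X_coeff] at h
    obtain ⟨r, hr⟩ := Nat.exists_eq_add_of_le' (show j ≤ 2 * g by omega)
    simp only [eq_intCast]
    rw [h, hr, Nat.add_sub_cancel, pow_add, inv_pow]
    field_simp
  obtain ⟨z₁, h₁⟩ := key N le_rfl
  obtain ⟨z₂, h₂⟩ := key (N + 1) (Nat.le_succ N)
  obtain ⟨s, t, hst⟩ : IsCoprime ((N : ℤ) ^ (2 * g - j)) (((N + 1 : ℕ) : ℤ) ^ (2 * g - j)) :=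
    IsCoprime.pow ⟨-1, 1, by push_cast; ring⟩
  refine ⟨s * z₁ + t * z₂, ?_⟩
  have hst' := congrArg (Int.cast : ℤ → ℚ) hst
  push_cast at hst' h₁ h₂ ⊢
  rw [← h₁, ← h₂]
  linear_combination (-(g.factorial : ℚ) * Q.coeff j) * hst'


/-- Let k be an algebraically closed field of characteristic zero, A an abelian variety over k (a proper
smooth k-group scheme with geometrically connected fibres) of dimension g, (A^t, φ) a given dual
abelian variety of A for the fppf topology with A^t itself an abelian variety, and P an invertible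
module on A ×_k A^t whose class is a Poincaré class; for a k-point α of A^t write P_α for the
restriction of P to A × {α}. Let L be an ample invertible O_A-module with an inverse L' (L ⊗ L' ≅
O_A), negative powers of L meaning powers of L'. For a coherent O_A-module G write h^i_gen(G) for
the generic value of h^i(A, G ⊗ P_α), rendered as the minimum over all k-points α of A^t (the
generic value by semicontinuity), and for b ≥ 1 let b_A : A → A be multiplication by b. Let F be a
coherent O_A-module and i ≥ 0, and consider the i-th cohomological rank function of F with respect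
to L, the function on the rationals x = a/b (b ≥ 1) with value b^{-2g} · h^i_gen(b_A^* F ⊗ L^{ab}).
Suppose that on an open interval (u, v), u < v rational, this function agrees with a polynomial Q
with rational coefficients of degree at most g. Then every coefficient of Q lies in (1/g!)ℤ, i.e. g!
· Q has integer coefficients. (Stated for a coherent module; the source allows any object of the
bounded derived category of coherent modules. The degree bound on Q, which the source takes from the
local polynomiality of rank functions, is made a hypothesis here.) -/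
theorem result (k : Type u) [Field k] [IsAlgClosed k] [CharZero k]
    (A At : Over (Spec (CommRingCat.of k))) [GrpObj A] [IsProper A.hom] [Smooth A.hom] [GeometricallyConnected A.hom]
    [GrpObj At] [IsProper At.hom] [Smooth At.hom] [GeometricallyConnected At.hom]
    (φ : ∀ T : Over (Spec (CommRingCat.of k)), PicF.Cl (PicF.XT A.hom T) → (T ⟶ At))
    (hφ : AbDual.IsDualAV Scheme.fppfPrecoverage A At φ)
    (P : (pullback A.hom At.hom).Modules) (hP : PicF.IsInvertible P)
    (hPξ : AbDual.IsPoincareCl A At φ (PicF.cl P))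
    (g : ℕ) (hg : topologicalKrullDim ↥A.left = g)
    (L L' : A.left.Modules) (hL : CohB1.IsAmple L) (hLL' : Nonempty (CohB1.tensorMod L L' ≅ Coh.structureModule A.left))
    (F : A.left.Modules) (hF : Coh.IsCoh F) (i : ℕ) (u v : ℚ) (huv : u < v)
    (Q : Polynomial ℚ) (hQ : Q.natDegree ≤ g)
    (hpoly : ∀ (a : ℤ) (b : ℕ), 0 < b → u < (a : ℚ) / (b : ℚ) → (a : ℚ) / (b : ℚ) < v →
      ((W4c5cohrankabvar.hgen k P (W4c5cohrankabvar.twist A F L L' b (a * b)) i : ℕ) : ℚ) / (b : ℚ) ^ (2 * g) =
        Q.eval ((a : ℚ) / (b : ℚ)))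
    (j : ℕ) : ∃ z : ℤ, (Nat.factorial g : ℚ) * Q.coeff j = (z : ℚ) := by
  exact factorial_mul_coeff_int g Q hQ u v huv (fun a b hb h1 h2 => by
    refine ⟨(W4c5cohrankabvar.hgen k P (W4c5cohrankabvar.twist A F L L' b (a * b)) i : ℕ), ?_⟩
    rw [← hpoly a b hb h1 h2, mul_div_cancel₀ _ (pow_ne_zero _ (by exact_mod_cast hb.ne'))]
    norm_cast) j

end Groth.Agent.S18112
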