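import Groth.Statements.S18113
import Groth.Agent.Lib.FMHyp13.IdealAmple

set_option autoImplicit false
set_option backward.isDefEq.respectTransparency false
set_option backward.isDefEq.respectTransparency.types false
universe u
open CategoryTheory CategoryTheory.Limits MonoidalCategory CartesianMonoidalCategory MonObj GrpObj AlgebraicGeometry
open AbVar

noncomputable local instance instLawS18113 (Y : Scheme.{u}) : PicGrp.Law Y := Groth.Agent.M2.law Y

attribute [local instance] HasDerivedCategory.standard

namespace Groth.Agent.S18113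

/-- Let k be an algebraically closed field of characteristic zero, A an abelian variety over k (a proper
smooth k-group scheme with geometrically connected fibres) of dimension g, (A^t, φ) a given dual
abelian variety of A for the fppf topology with A^t itself an abelian variety, and P an invertible
module on A ×_k A^t whose class is a Poincaré class; for a k-point α of A^t write P_α for the
restriction of P to A × {α}. Let N be an ample invertible O_A-module with an inverse N' (N ⊗ N' ≅
O_A), negative powers of N meaning powers of N', and assume N globally generated: a morphism ev from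
a free O_A-module to N is given which is an epimorphism and induces a bijection on global sections
(so ev is the evaluation map H^0(N) ⊗ O_A → N); let M_N be its kernel. Let I_e ⊆ O_A be the ideal of
the unit point (the kernel of O_A → e_*O_{Spec k}). For a coherent O_A-module G write h^i_gen(G) for
the generic value of h^i(A, G ⊗ P_α), rendered as the minimum over all k-points α of A^t (the
generic value by semicontinuity), and for b ≥ 1 let b_A : A → A be multiplication by b. Then for i =
0 or i = 1 and every rational y = a/b < 1 (a an integer, b ≥ 1, c = b − a ≥ 1) one has h^i_{I_e}(y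
n) = ((1 − y)^g / χ(N)) · h^i_{M_N}((y/(1 − y)) n) for the cohomological rank functions with respect
to the class n of N; written out: χ(N) · c^g · h^i_gen(b_A^* I_e ⊗ N^{ab}) = b^g · h^i_gen(c_A^* M_N
⊗ N^{ac}), where χ(N) is the Euler characteristic of N. -/
theorem result (k : Type u) [Field k] [IsAlgClosed k] [CharZero k]
    (A At : Over (Spec (CommRingCat.of k))) [GrpObj A] [IsProper A.hom] [Smooth A.hom] [GeometricallyConnected A.hom]
    [GrpObj At] [IsProper At.hom] [Smooth At.hom] [GeometricallyConnected At.hom]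
    (φ : ∀ T : Over (Spec (CommRingCat.of k)), PicF.Cl (PicF.XT A.hom T) → (T ⟶ At))
    (hφ : AbDual.IsDualAV Scheme.fppfPrecoverage A At φ)
    (P : (pullback A.hom At.hom).Modules) (hP : PicF.IsInvertible P)
    (hPξ : AbDual.IsPoincareCl A At φ (PicF.cl P))
    (g : ℕ) (hg : topologicalKrullDim ↥A.left = g)
    (N N' : A.left.Modules) (hN : CohB1.IsAmple N) (hNN' : Nonempty (CohB1.tensorMod N N' ≅ Coh.structureModule A.left))
    (J : Type u) (ev : (SheafOfModules.free J : A.left.Modules) ⟶ N) [Epi ev]
    (hev : Function.Bijective (Sheaf.H.map ((SheafOfModules.toSheaf A.left.ringCatSheaf).map ev) 0))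
    (i : ℕ) (hi : i = 0 ∨ i = 1) (a : ℤ) (b c : ℕ) (hb : 0 < b) (hc : 0 < c) (habc : a + (c : ℤ) = (b : ℤ)) :
    @Curv2.euler k _ A.left ⟨A.hom⟩ N * (c : ℤ) ^ g *
        ((W4c5cohrankabvar.hgen k P (W4c5cohrankabvar.twist A (kernel (ClSub.unitToPush η[A].left)) N N' b (a * b)) i : ℕ) : ℤ) =
      (b : ℤ) ^ g * ((W4c5cohrankabvar.hgen k P (W4c5cohrankabvar.twist A (kernel ev) N N' c (a * c)) i : ℕ) : ℤ) := by
  haveI : GeometricallyIntegral A.hom := AbRigid.geometricallyIntegral_of_smooth A
  letI : A.left.Over (Spec (CommRingCat.of k)) := ⟨A.hom⟩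
  let f : A ⟶ At := RosTrace22.lamOf φ (PicGrp.cls N hN.1)
  obtain ⟨hc', ⟨eK⟩⟩ := FMHyp13.nonempty_transform_syzygy hφ hP hPξ hg hN ev hev hNN' f rfl
  have h := FMHyp13.hgen_exchange_scaled hφ hP hPξ hN hNN' hg hc' f rfl
    (FMHyp13.isZero_fmH_idealOne_tensor hφ hP hPξ hN ev hc') c b hc hb i
  rw [FMHyp13.euler_tensorPow_ample hN hg (c * b) (Nat.mul_pos hc hb)] at h
  let z1 : W4c5cohrankabvar.zpow N N' 1 ≅ N := M2.tensorLUnit N
  let z1' : W4c5cohrankabvar.zpow N N' (-1) ≅ N' := M2.tensorLUnit N'
  have hI : W4c5cohrankabvar.hgen k P (W4c5cohrankabvar.twist A (CohB1.tensorMod (kernel (ClSub.unitToPush η[A].left)) N)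
      N N' b (-((c : ℤ) * (b : ℤ)))) i =
      W4c5cohrankabvar.hgen k P (W4c5cohrankabvar.twist A (kernel (ClSub.unitToPush η[A].left)) N N' b (a * b)) i := by
    rw [FMHyp13.hgen_congr (M2.tensorIso ((Scheme.Modules.pullback ((𝟙 A) ^ b).left).mapIso
        (M2.tensorIso (Iso.refl (kernel (ClSub.unitToPush η[A].left))) z1.symm))
        (Iso.refl (W4c5cohrankabvar.zpow N N' (-((c : ℤ) * (b : ℤ)))))) i,
      FMHyp13.hgen_twist_zpow hφ hP hPξ hN hNN' _ b _ 1 i,
      show -((c : ℤ) * (b : ℤ)) + 1 * ((b * b : ℕ) : ℤ) = a * b by push_cast; rw [← habc]; ring]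
  have hM : W4c5cohrankabvar.hgen k P (W4c5cohrankabvar.twist A ((Scheme.Modules.pullback f.left).obj
      (FMHyp13.fmH P (CohB1.tensorMod (FMHyp13.UnitDual.idealOne A) N) (0 : ℤ))) N N' c ((c : ℤ) * (b : ℤ))) i =
      W4c5cohrankabvar.hgen k P (W4c5cohrankabvar.twist A (kernel ev) N N' c (a * c)) i := by
    rw [FMHyp13.hgen_congr (M2.tensorIso ((Scheme.Modules.pullback ((𝟙 A) ^ c).left).mapIso
        (eK ≪≫ M2.tensorIso (Iso.refl (kernel ev)) z1'.symm))
        (Iso.refl (W4c5cohrankabvar.zpow N N' ((c : ℤ) * (b : ℤ))))) i,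
      FMHyp13.hgen_twist_zpow hφ hP hPξ hN hNN' _ c _ (-1) i,
      show (c : ℤ) * (b : ℤ) + -1 * ((c * c : ℕ) : ℤ) = a * c by push_cast; rw [← habc]; ring]
  rw [hI, hM] at h
  refine mul_left_cancel₀ (pow_ne_zero g (Nat.cast_ne_zero.2 hb.ne' : (b : ℤ) ≠ 0)) ?_
  rw [← _root_.mul_assoc ((b : ℤ) ^ g) ((b : ℤ) ^ g), ← pow_add, ← two_mul, ← h]
  push_cast
  ring

end Groth.Agent.S18113
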