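import Groth.Statements.S18114
import Groth.Agent.Lib.FMHyp13.NearZero

set_option autoImplicit false
set_option backward.isDefEq.respectTransparency false
set_option backward.isDefEq.respectTransparency.types false
universe u
open CategoryTheory CategoryTheory.Limits MonoidalCategory CartesianMonoidalCategory MonObj GrpObj AlgebraicGeometry
open AbVar

noncomputable local instance instLawS18114 (Y : Scheme.{u}) : PicGrp.Law Y := Groth.Agent.M2.law Y

attribute [local instance] HasDerivedCategory.standard

namespace Groth.Agent.S18114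

/-- Let k be an algebraically closed field of characteristic zero, A an abelian variety over k (a proper
smooth k-group scheme with geometrically connected fibres) of dimension g, (A^t, φ) a given dual
abelian variety of A for the fppf topology with A^t itself an abelian variety, and P an invertible
module on A ×_k A^t whose class is a Poincaré class; for a k-point α of A^t write P_α for the
restriction of P to A × {α}. Let L be an ample invertible O_A-module with an inverse L' (L ⊗ L' ≅
O_A), negative powers of L meaning powers of L'. For a coherent O_A-module G write h^i_gen(G) for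
the generic value of h^i(A, G ⊗ P_α), rendered as the minimum over all k-points α of A^t (the
generic value by semicontinuity), and for b ≥ 1 let b_A : A → A be multiplication by b. Assume the
category of modules on A ×_k A^t has injective resolutions, and for a coherent O_A-module F let
R^iΦ_P(F) = R^i pr_{2,*}(pr_1^* F ⊗ P), a coherent module on A^t. Let Λ be a module on A ×_k A
isomorphic to the Mumford module m^*L ⊗ pr_1^*L' ⊗ pr_2^*L', with class algebraically trivial on the
geometric fibres of the second projection, and φ_L = φ(Λ) : A → A^t the morphism it classifies (x ↦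
t_x^*L ⊗ L'). For a coherent module G on A and y = c/d write χ_G(y l) = d^{-2g} χ(A, d_A^* G ⊗
L^{cd}). Then for every i there is ε > 0 such that for rational x = −a/b with a, b ≥ 1 and a/b < ε
the i-th cohomological rank function of F satisfies h^i_F(x l) = ((−x)^g / χ(L)) · χ_{φ_L^*
R^iΦ_P(F)}(−(1/x) l); written out: χ(L) · a^g · h^i_gen(b_A^* F ⊗ L'^{ab}) = b^g · χ(A, a_A^*(φ_L^*
R^iΦ_P(F)) ⊗ L^{ab}). (Stated for a coherent module; the source allows any object of the bounded
derived category, and also gives the companion formula for small positive x through the transform of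
the derived dual.) -/
theorem result (k : Type u) [Field k] [IsAlgClosed k] [CharZero k]
    (A At : Over (Spec (CommRingCat.of k))) [GrpObj A] [IsProper A.hom] [Smooth A.hom] [GeometricallyConnected A.hom]
    [GrpObj At] [IsProper At.hom] [Smooth At.hom] [GeometricallyConnected At.hom]
    (φ : ∀ T : Over (Spec (CommRingCat.of k)), PicF.Cl (PicF.XT A.hom T) → (T ⟶ At))
    (hφ : AbDual.IsDualAV Scheme.fppfPrecoverage A At φ)
    (P : (pullback A.hom At.hom).Modules) (hP : PicF.IsInvertible P)
    (hPξ : AbDual.IsPoincareCl A At φ (PicF.cl P))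
    (g : ℕ) (hg : topologicalKrullDim ↥A.left = g)
    (L L' : A.left.Modules) (hL : CohB1.IsAmple L) (hLL' : Nonempty (CohB1.tensorMod L L' ≅ Coh.structureModule A.left))
    [HasInjectiveResolutions (pullback A.hom At.hom).Modules]
    (Λ : (PicF.XT A.hom A).Modules)
    (hΛ : Nonempty (Λ ≅ CohB1.tensorMod (CohB1.tensorMod ((Scheme.Modules.pullback μ[A].left).obj L)
      ((Scheme.Modules.pullback (fst A A).left).obj L')) ((Scheme.Modules.pullback (snd A A).left).obj L')))
    (hΛ0 : AbDual.IsPicZeroCl A.hom A (PicF.cl Λ))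
    (F : A.left.Modules) (hF : Coh.IsCoh F) (i : ℕ) :
    ∃ ε : ℚ, 0 < ε ∧ ∀ (a b : ℕ), 0 < a → 0 < b → (a : ℚ) / (b : ℚ) < ε →
      @Curv2.euler k _ A.left ⟨A.hom⟩ L * (a : ℤ) ^ g *
          ((W4c5cohrankabvar.hgen k P (W4c5cohrankabvar.twist A F L L' b (-((a : ℤ) * (b : ℤ)))) i : ℕ) : ℤ) =
        (b : ℤ) ^ g * @Curv2.euler k _ A.left ⟨A.hom⟩
          (W4c5cohrankabvar.twist A
            ((Scheme.Modules.pullback (φ A (PicF.cl Λ)).left).obj
              ((Coh.Rpush (pullback.snd A.hom At.hom) i).obj
                (CohB1.tensorMod ((Scheme.Modules.pullback (pullback.fst A.hom At.hom)).obj F) P)))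
            L L' a ((a : ℤ) * (b : ℤ))) := by
  haveI : GeometricallyIntegral A.hom := AbRigid.geometricallyIntegral_of_smooth A
  haveI : IsLocallyNoetherian A.left := LocallyOfFiniteType.isLocallyNoetherian A.hom
  letI : A.left.Over (Spec (CommRingCat.of k)) := ⟨A.hom⟩
  have hL' := FMHyp13.isInvertible_of_ample_inverse hL.1 hLL'
  let f : A ⟶ At := φ A (PicF.cl Λ)
  have hf : f = RosTrace22.lamOf φ (PicGrp.cls L hL.1) :=
    congrArg (φ A) (RR22.cl_mumford hL.1 hLL' hΛ)
  obtain ⟨N, hN⟩ := FMHyp13.exists_uniform_power hP hL hF f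
  refine ⟨1 / ((N : ℚ) + 1), by positivity, fun a b ha hb hlt => ?_⟩
  have haq : (0 : ℚ) < a := by exact_mod_cast ha
  have hbq : (0 : ℚ) < b := by exact_mod_cast hb
  have hlt' : (N : ℚ) < (b : ℚ) / (a : ℚ) := by
    rw [lt_div_iff₀ (by positivity), div_mul_eq_mul_div, div_lt_one hbq] at hlt
    rw [lt_div_iff₀ haq]
    nlinarith
  have h := FMHyp13.hgen_near_zero hφ hP hPξ hL hLL' hg hF f hf N hN a b ha hlt' i
  rw [FMHyp13.euler_tensorPow_ample hL hg (a * b) (Nat.mul_pos ha hb)] at h
  obtain ⟨e⟩ := (FMHyp13.nonempty_fmH_rpush (A := A) (At := At) hP F).1 i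
  have he : @Curv2.euler k _ A.left ⟨A.hom⟩ (W4c5cohrankabvar.twist A ((Scheme.Modules.pullback f.left).obj
      (FMHyp13.fmH P F i)) L L' a ((a : ℤ) * (b : ℤ))) =
      @Curv2.euler k _ A.left ⟨A.hom⟩ (W4c5cohrankabvar.twist A ((Scheme.Modules.pullback f.left).obj
        ((Coh.Rpush (pullback.snd A.hom At.hom) i).obj
          (CohB1.tensorMod ((Scheme.Modules.pullback (pullback.fst A.hom At.hom)).obj F) P)))
        L L' a ((a : ℤ) * (b : ℤ))) :=
    CurveCoh17.euler_iso (M2.tensorIso ((Scheme.Modules.pullback _).mapIso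
      ((Scheme.Modules.pullback f.left).mapIso e)) (Iso.refl _))
  rw [← he]
  refine mul_left_cancel₀ (pow_ne_zero g (Nat.cast_ne_zero.2 hb.ne' : (b : ℤ) ≠ 0)) ?_
  rw [← mul_assoc ((b : ℤ) ^ g) ((b : ℤ) ^ g), ← pow_add, ← two_mul, ← h]
  push_cast
  ring

end Groth.Agent.S18114
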