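import Groth.Statements.S18117
import Groth.Agent.Lib.FMHyp13.LeftExpansion

set_option autoImplicit false
set_option backward.isDefEq.respectTransparency false
set_option backward.isDefEq.respectTransparency.types false
universe u
open CategoryTheory CategoryTheory.Limits MonoidalCategory CartesianMonoidalCategory MonObj GrpObj AlgebraicGeometry
open AbVar

attribute [local instance] HasDerivedCategory.standard

namespace Groth.Agent.S18117

/-- Let k be an algebraically closed field of characteristic zero, A an abelian variety over k (a proper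
smooth k-group scheme with geometrically connected fibres) of dimension g, (A^t, φ) a given dual
abelian variety of A for the fppf topology with A^t itself an abelian variety, and P an invertible
module on A ×_k A^t whose class is a Poincaré class; for a k-point α of A^t write P_α for the
restriction of P to A × {α}. Let L be an ample invertible O_A-module with an inverse L' (L ⊗ L' ≅
O_A), negative powers of L meaning powers of L'. For a coherent O_A-module G write h^i_gen(G) for
the generic value of h^i(A, G ⊗ P_α), rendered as the minimum over all k-points α of A^t (the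
generic value by semicontinuity), and for b ≥ 1 let b_A : A → A be multiplication by b. The i-th
cohomological rank function of a coherent module G with respect to L is x = c/d ↦ h^i_G(x l) =
d^{-2g} · h^i_gen(d_A^* G ⊗ L^{cd}) on the rationals (d ≥ 1). For a rational x₀ = a/b (b ≥ 1) say
that the Q-twisted sheaf F⟨x₀ l⟩ is GV (resp. M-regular) when for every i ≥ 1 the locus of k-points
α of A^t with h^i(A, b_A^* F ⊗ L^{ab} ⊗ P_α) > 0 is contained in a closed subset of A^t of dimension
at most g − i (resp. less than g − i; empty when this bound is negative), i.e. the i-th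
cohomological support locus has codimension ≥ i (resp. > i). Let F be a coherent O_A-module and x₀ =
a/b rational. Then F⟨x₀ l⟩ is GV if and only if, for every i ≥ 1, h^i_F((x₀ − x) l) = O(x^i) as x →
0⁺ through the rationals: there are C and ε > 0 with h^i_F(y l) ≤ C (x₀ − y)^i for every rational y
with x₀ − ε < y < x₀. (Stated for a coherent module; the source allows any object of the bounded
derived category whose negative support loci are empty.) -/
theorem result (k : Type u) [Field k] [IsAlgClosed k] [CharZero k]
    (A At : Over (Spec (CommRingCat.of k))) [GrpObj A] [IsProper A.hom] [Smooth A.hom] [GeometricallyConnected A.hom]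
    [GrpObj At] [IsProper At.hom] [Smooth At.hom] [GeometricallyConnected At.hom]
    (φ : ∀ T : Over (Spec (CommRingCat.of k)), PicF.Cl (PicF.XT A.hom T) → (T ⟶ At))
    (hφ : AbDual.IsDualAV Scheme.fppfPrecoverage A At φ)
    (P : (pullback A.hom At.hom).Modules) (hP : PicF.IsInvertible P)
    (hPξ : AbDual.IsPoincareCl A At φ (PicF.cl P))
    (g : ℕ) (hg : topologicalKrullDim ↥A.left = g)
    (L L' : A.left.Modules) (hL : CohB1.IsAmple L) (hLL' : Nonempty (CohB1.tensorMod L L' ≅ Coh.structureModule A.left))
    (F : A.left.Modules) (hF : Coh.IsCoh F) (a : ℤ) (b : ℕ) (hb : 0 < b) :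
    (∀ i : ℕ, 1 ≤ i → ∃ Z : Set ↥At.left, IsClosed Z ∧
        topologicalKrullDim ↥Z < ((g - i + 1 : ℕ) : WithBot ℕ∞) ∧
        ∀ α : 𝟙_ (Over (Spec (CommRingCat.of k))) ⟶ At,
          0 < W4c5cohrankabvar.hAt k P (W4c5cohrankabvar.twist A F L L' b (a * b)) α i → Set.range α.left.base ⊆ Z) ↔
    (∀ i : ℕ, 1 ≤ i → ∃ (C ε : ℚ), 0 < ε ∧ ∀ (c : ℤ) (d : ℕ), 0 < d →
        (a : ℚ) / (b : ℚ) - ε < (c : ℚ) / (d : ℚ) → (c : ℚ) / (d : ℚ) < (a : ℚ) / (b : ℚ) →
        ((W4c5cohrankabvar.hgen k P (W4c5cohrankabvar.twist A F L L' d (c * d)) i : ℕ) : ℚ) / (d : ℚ) ^ (2 * g) ≤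
          C * ((a : ℚ) / (b : ℚ) - (c : ℚ) / (d : ℚ)) ^ (i)) := by
  haveI : GeometricallyIntegral At.hom := AbRigid.geometricallyIntegral_of_smooth At
  haveI : AlgebraicGeometry.IsIntegral At.left := GeometricallyIntegral.isIntegral_of_subsingleton At.hom
  haveI : IsLocallyNoetherian A.left := LocallyOfFiniteType.isLocallyNoetherian A.hom
  have hG := FMHyp13.isCoh_twist hF hL.1 (FMHyp13.isInvertible_of_ample_inverse hL.1 hLL') b (a * b)
  rw [FMHyp13.gv_iff hP hG g]
  refine forall₂_congr fun i hi => ?_
  rw [FMHyp13.growth_iff_support hφ hP hPξ hg hL hLL' hF a b hb i i]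
  rcases le_or_gt i g with hig | hig
  · have hcl := M1.isClosed_support (FMHyp13.isCoh_fmH hP hG (i : ℤ)).2
    constructor
    · intro h y hy
      have hy' : closure ({y} : Set At.left) ⊆ _ := closure_minimal (Set.singleton_subset_iff.2 hy) hcl
      have h1 := ((Topology.IsEmbedding.inclusion hy').isInducing.topologicalKrullDim_le).trans_lt h
      rw [VarDim.dim_closure_singleton At.hom y] at h1
      have : VarDim.sdim At.hom y < g - i + 1 := by exact_mod_cast h1
      omega
    · intro h
      refine lt_of_le_of_lt (ProjDual12.dim_le_of_forall_sdim At.hom hcl (d := g - i) fun y hy => ?_) ?_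
      · have := h y hy; omega
      · exact_mod_cast Nat.lt_succ_self (g - i)
  · rw [FMHyp13.support_fmH_empty hφ hP hPξ hg hG i hig]
    refine iff_of_true ?_ fun y hy => absurd hy (Set.notMem_empty y)
    haveI : IsEmpty (TopologicalSpace.IrreducibleCloseds ↥(∅ : Set ↥At.left)) :=
      ⟨fun Z => Z.isIrreducible'.nonempty.elim fun x _ => isEmptyElim x⟩
    rw [topologicalKrullDim, Order.krullDim_eq_bot]
    exact WithBot.bot_lt_coe _

end Groth.Agent.S18117
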