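import Groth.Statements.S18118
import Groth.Agent.Lib.FMHyp13.LeftExpansion

set_option autoImplicit false
set_option backward.isDefEq.respectTransparency false
set_option backward.isDefEq.respectTransparency.types false
universe u
open CategoryTheory CategoryTheory.Limits MonoidalCategory CartesianMonoidalCategory MonObj GrpObj AlgebraicGeometry
open AbVar

attribute [local instance] HasDerivedCategory.standard

namespace Groth.Agent.S18118

/-- Let k be an algebraically closed field of characteristic zero, A an abelian variety over k (a proper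
smooth k-group scheme with geometrically connected fibres) of dimension g, (A^t, φ) a given dual
abelian variety of A for the fppf topology with A^t itself an abelian variety, and P an invertible
module on A ×_k A^t whose class is a Poincaré class; for a k-point α of A^t write P_α for the
restriction of P to A × {α}. Let L be an ample invertible O_A-module with an inverse L' (L ⊗ L' ≅
O_A), negative powers of L meaning powers of L'. For a coherent O_A-module G write h^i_gen(G) for
the generic value of h^i(A, G ⊗ P_α), rendered as the minimum over all k-points α of A^t (the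
generic value by semicontinuity), and for b ≥ 1 let b_A : A → A be multiplication by b. Assume the
category of modules on A ×_k A^t has injective resolutions, and for a coherent O_A-module G let
R^iΦ_P(G) = R^i pr_{2,*}(pr_1^* G ⊗ P) on A^t. The i-th cohomological rank function of a coherent
module G with respect to L is x = c/d ↦ h^i_G(x l) = d^{-2g} · h^i_gen(d_A^* G ⊗ L^{cd}) on the
rationals (d ≥ 1). Let F be a coherent O_A-module, x₀ = a/b rational and F₀ = b_A^* F ⊗ L^{ab}. Then
the supports of the sheaves R^iΦ_P(F₀) have codimension > i in A^t for every i ≥ 1 (the local ring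
of A^t at each point of the support of R^iΦ_P(F₀) has Krull dimension ≥ i + 1) if and only if, for
every i ≥ 1, h^i_F((x₀ − x) l) = O(x^{i+1}) as x → 0⁺ through the rationals: there are C and ε > 0
with h^i_F(y l) ≤ C (x₀ − y)^{i+1} for every rational y with x₀ − ε < y < x₀. (The source states
this for M-regularity of the Q-twisted object F⟨x₀ l⟩, defined by its cohomological support loci
having codimension > i for i ≥ 1, and proves it through the equivalent support condition on the
R^iΦ_P(F₀) stated here; stated for a coherent module, the source allowing objects of the bounded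
derived category.) -/
theorem result (k : Type u) [Field k] [IsAlgClosed k] [CharZero k]
    (A At : Over (Spec (CommRingCat.of k))) [GrpObj A] [IsProper A.hom] [Smooth A.hom] [GeometricallyConnected A.hom]
    [GrpObj At] [IsProper At.hom] [Smooth At.hom] [GeometricallyConnected At.hom]
    (φ : ∀ T : Over (Spec (CommRingCat.of k)), PicF.Cl (PicF.XT A.hom T) → (T ⟶ At))
    (hφ : AbDual.IsDualAV Scheme.fppfPrecoverage A At φ)
    (P : (pullback A.hom At.hom).Modules) (hP : PicF.IsInvertible P)
    (hPξ : AbDual.IsPoincareCl A At φ (PicF.cl P))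
    (g : ℕ) (hg : topologicalKrullDim ↥A.left = g)
    (L L' : A.left.Modules) (hL : CohB1.IsAmple L) (hLL' : Nonempty (CohB1.tensorMod L L' ≅ Coh.structureModule A.left))
    [HasInjectiveResolutions (pullback A.hom At.hom).Modules]
    (F : A.left.Modules) (hF : Coh.IsCoh F) (a : ℤ) (b : ℕ) (hb : 0 < b) :
    (∀ (i : ℕ) (y : ↥At.left), 1 ≤ i →
        y ∈ CohB1.support ((Coh.Rpush (pullback.snd A.hom At.hom) i).obj
          (CohB1.tensorMod ((Scheme.Modules.pullback (pullback.fst A.hom At.hom)).obj
            (W4c5cohrankabvar.twist A F L L' b (a * b))) P)) →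
        ((i + 1 : ℕ) : WithBot ℕ∞) ≤ ringKrullDim ↑(At.left.presheaf.stalk y)) ↔
    (∀ i : ℕ, 1 ≤ i → ∃ (C ε : ℚ), 0 < ε ∧ ∀ (c : ℤ) (d : ℕ), 0 < d →
        (a : ℚ) / (b : ℚ) - ε < (c : ℚ) / (d : ℚ) → (c : ℚ) / (d : ℚ) < (a : ℚ) / (b : ℚ) →
        ((W4c5cohrankabvar.hgen k P (W4c5cohrankabvar.twist A F L L' d (c * d)) i : ℕ) : ℚ) / (d : ℚ) ^ (2 * g) ≤
          C * ((a : ℚ) / (b : ℚ) - (c : ℚ) / (d : ℚ)) ^ (i + 1)) := by
  haveI : GeometricallyIntegral At.hom := AbRigid.geometricallyIntegral_of_smooth At
  haveI : AlgebraicGeometry.IsIntegral At.left := GeometricallyIntegral.isIntegral_of_subsingleton At.hom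
  haveI : IsLocallyNoetherian A.left := LocallyOfFiniteType.isLocallyNoetherian A.hom
  have hG := FMHyp13.isCoh_twist hF hL.1 (FMHyp13.isInvertible_of_ample_inverse hL.1 hLL') b (a * b)
  haveI : GeometricallyIntegral A.hom := AbRigid.geometricallyIntegral_of_smooth A
  obtain ⟨hgt, -⟩ := FMBase13.isPLike_swP hφ hP hPξ hg
  have hgen : VarDim.sdim At.hom (genericPoint At.left) = g := by
    exact_mod_cast (VarDim.dim_eq_sdim_genericPoint At.hom).symm.trans hgt
  have hsupp : ∀ i : ℕ, CohB1.support ((Coh.Rpush (pullback.snd A.hom At.hom) i).obj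
      (CohB1.tensorMod ((Scheme.Modules.pullback (pullback.fst A.hom At.hom)).obj
        (W4c5cohrankabvar.twist A F L L' b (a * b))) P)) =
      CohB1.support (FMHyp13.fmH P (W4c5cohrankabvar.twist A F L L' b (a * b)) i) := fun i => by
    obtain ⟨e⟩ := (FMHyp13.nonempty_fmH_rpush (A := A) (At := At) hP (W4c5cohrankabvar.twist A F L L' b (a * b))).1 i
    exact FMHyp13.support_iso e.symm
  have hiff : ∀ (i : ℕ) (y : At.left), ((i + 1 : ℕ) : WithBot ℕ∞) ≤ ringKrullDim ↑(At.left.presheaf.stalk y) ↔
      VarDim.sdim At.hom y + (i + 1) ≤ g := fun i y => by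
    rw [ringKrullDim_stalk_eq_coheight]
    obtain ⟨c, hc, hsum⟩ := FibRank28.coheight_add_sdim At.hom y
    rw [hc]
    refine ⟨fun h => ?_, fun h => ?_⟩
    · have : i + 1 ≤ c := by exact_mod_cast h
      omega
    · exact_mod_cast (show i + 1 ≤ c by omega)
  constructor
  · intro h i hi
    refine (FMHyp13.growth_iff_support hφ hP hPξ hg hL hLL' hF a b hb i (i + 1)).2 fun y hy => ?_
    exact (hiff i y).1 (h i y hi (by rw [hsupp]; exact hy))
  · intro h i y hi hy
    rw [hsupp] at hy
    exact (hiff i y).2 ((FMHyp13.growth_iff_support hφ hP hPξ hg hL hLL' hF a b hb i (i + 1)).1 (h i hi) y hy)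

end Groth.Agent.S18118
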