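import Groth.Statements.S18119
import Groth.Agent.Lib.FMHyp13.JumpLocus

set_option backward.isDefEq.respectTransparency false
set_option backward.isDefEq.respectTransparency.types false
set_option linter.style.haveILetI false
set_option maxHeartbeats 1600000
-- import your own Groth.Agent.* helpers here

set_option autoImplicit false
universe u
open CategoryTheory CategoryTheory.Limits MonoidalCategory CartesianMonoidalCategory MonObj GrpObj AlgebraicGeometry
open AbVar
open Groth.Agent Groth.Agent.FMHyp13 Groth.Agent.DMon9 Groth.Agent.DBC9 Groth.Agent.TwistBC9 Groth.Agent.FMBase13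
open Groth.Agent.RosTrace22
attribute [local instance] HasDerivedCategory.standard DBC9.hasRpush

namespace Groth.Agent.S18119

/-- Let k be an algebraically closed field of characteristic zero, A an abelian variety over k (a proper
smooth k-group scheme with geometrically connected fibres) of dimension g, (A^t, φ) a given dual
abelian variety of A for the fppf topology with A^t itself an abelian variety, and P an invertible
module on A ×_k A^t whose class is a Poincaré class; for a k-point α of A^t write P_α for the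
restriction of P to A × {α}. Let L be an ample invertible O_A-module with an inverse L' (L ⊗ L' ≅
O_A), negative powers of L meaning powers of L'. For a coherent O_A-module G write h^i_gen(G) for
the generic value of h^i(A, G ⊗ P_α), rendered as the minimum over all k-points α of A^t (the
generic value by semicontinuity), and for b ≥ 1 let b_A : A → A be multiplication by b. The i-th
cohomological rank function of a coherent module G with respect to L is x = c/d ↦ h^i_G(x l) =
d^{-2g} · h^i_gen(d_A^* G ⊗ L^{cd}) on the rationals (d ≥ 1). Let F be a coherent O_A-module, i ≥ 0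
and x₀ = a/b rational, and suppose x₀ is a critical point of index k of h^i_F: there are ε > 0 and
polynomials P⁻, P⁺ of degree at most g with h^i_F = P⁻ on the rationals of (x₀ − ε, x₀] and h^i_F =
P⁺ on the rationals of [x₀, x₀ + ε), and P⁺ − P⁻ = (x − x₀)^{k+1} Q with Q(x₀) ≠ 0 (so h^i_F is of
class C^k but not C^{k+1} at x₀). Then the jump locus of the i-th cohomology of F⟨x₀ l⟩, the set of
k-points α of A^t at which h^i(A, b_A^* F ⊗ L^{ab} ⊗ P_α) exceeds its generic value, has codimension
at most k + 1 in A^t: it is not contained in any closed subset of A^t of dimension less than g − k −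
1. (Stated for a coherent module; the source allows any object of the bounded derived category.) -/
theorem result (k : Type u) [Field k] [IsAlgClosed k] [CharZero k]
    (A At : Over (Spec (CommRingCat.of k))) [GrpObj A] [IsProper A.hom] [Smooth A.hom] [GeometricallyConnected A.hom]
    [GrpObj At] [IsProper At.hom] [Smooth At.hom] [GeometricallyConnected At.hom]
    (φ : ∀ T : Over (Spec (CommRingCat.of k)), PicF.Cl (PicF.XT A.hom T) → (T ⟶ At))
    (hφ : AbDual.IsDualAV Scheme.fppfPrecoverage A At φ)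
    (P : (pullback A.hom At.hom).Modules) (hP : PicF.IsInvertible P)
    (hPξ : AbDual.IsPoincareCl A At φ (PicF.cl P))
    (g : ℕ) (hg : topologicalKrullDim ↥A.left = g)
    (L L' : A.left.Modules) (hL : CohB1.IsAmple L) (hLL' : Nonempty (CohB1.tensorMod L L' ≅ Coh.structureModule A.left))
    (F : A.left.Modules) (hF : Coh.IsCoh F) (i : ℕ) (a : ℤ) (b : ℕ) (hb : 0 < b) (kk : ℕ)
    (ε : ℚ) (hε : 0 < ε) (Pm Pp Q : Polynomial ℚ) (hPm : Pm.natDegree ≤ g) (hPp : Pp.natDegree ≤ g)
    (hleft : ∀ (c : ℤ) (d : ℕ), 0 < d → (a : ℚ) / (b : ℚ) - ε < (c : ℚ) / (d : ℚ) → (c : ℚ) / (d : ℚ) ≤ (a : ℚ) / (b : ℚ) →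
      ((W4c5cohrankabvar.hgen k P (W4c5cohrankabvar.twist A F L L' d (c * d)) i : ℕ) : ℚ) / (d : ℚ) ^ (2 * g) =
        Pm.eval ((c : ℚ) / (d : ℚ)))
    (hright : ∀ (c : ℤ) (d : ℕ), 0 < d → (a : ℚ) / (b : ℚ) ≤ (c : ℚ) / (d : ℚ) → (c : ℚ) / (d : ℚ) < (a : ℚ) / (b : ℚ) + ε →
      ((W4c5cohrankabvar.hgen k P (W4c5cohrankabvar.twist A F L L' d (c * d)) i : ℕ) : ℚ) / (d : ℚ) ^ (2 * g) =
        Pp.eval ((c : ℚ) / (d : ℚ)))
    (hdiff : Pp - Pm = (Polynomial.X - Polynomial.C ((a : ℚ) / (b : ℚ))) ^ (kk + 1) * Q)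
    (hQ : Q.eval ((a : ℚ) / (b : ℚ)) ≠ 0)
    (Z : Set ↥At.left) (hZ : IsClosed Z) (hZdim : topologicalKrullDim ↥Z < ((g - (kk + 1) : ℕ) : WithBot ℕ∞)) :
    ∃ α : 𝟙_ (Over (Spec (CommRingCat.of k))) ⟶ At,
      W4c5cohrankabvar.hgen k P (W4c5cohrankabvar.twist A F L L' b (a * b)) i < W4c5cohrankabvar.hAt k P (W4c5cohrankabvar.twist A F L L' b (a * b)) α i ∧
        ¬ (Set.range α.left.base ⊆ Z) := by
  haveI : GeometricallyIntegral A.hom := AbRigid.geometricallyIntegral_of_smooth A
  haveI : GeometricallyIntegral At.hom := AbRigid.geometricallyIntegral_of_smooth At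
  haveI : IsLocallyNoetherian A.left := LocallyOfFiniteType.isLocallyNoetherian A.hom
  haveI : IsLocallyNoetherian At.left := LocallyOfFiniteType.isLocallyNoetherian At.hom
  haveI : CompactSpace A.left := QuasiCompact.compactSpace_of_compactSpace A.hom
  haveI : CompactSpace At.left := QuasiCompact.compactSpace_of_compactSpace At.hom
  haveI := isCommMonObj_of_isProper_of_geometricallyIntegral A
  letI : PicGrp.Law A.left := M2.law A.left
  letI : A.left.Over (Spec (CommRingCat.of k)) := ⟨A.hom⟩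
  haveI : IsProper (A.left ↘ Spec (CommRingCat.of k)) := inferInstanceAs (IsProper A.hom)
  by_contra hno
  push Not at hno
  let G := W4c5cohrankabvar.twist A F L L' b (a * b)
  have hc : ∀ α : 𝟙_ (Over (Spec (CommRingCat.of k))) ⟶ At, CubeField.rpt α ∉ Z →
      W4c5cohrankabvar.hAt k P G α i = W4c5cohrankabvar.hgen k P G i := fun α hα =>
    le_antisymm (not_lt.1 fun h => hα (hno α h ⟨IsLocalRing.closedPoint k, point_eq α _⟩)) (ciInf_le' _ α)
  have hL' := isInvertible_of_ample_inverse hL.1 hLL'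
  have hG : Coh.IsCoh G := isCoh_twist hF hL.1 hL' b (a * b)
  let f : A ⟶ At := lamOf φ (PicGrp.cls L hL.1)
  let X : DM At.left := (phiK (fst A At).left (snd A At).left P).obj
    ((DerivedCategory.singleFunctor A.left.Modules 0).obj G)
  have hX : DCoh.IsPerfect (X : DCoh.D At.left) := isPerfect_phiK hP (isPerfect_single hG)
  obtain ⟨DX, hDX, ⟨pX⟩⟩ := BC8.exists_pairing_left_perfect X hX
  haveI := pX
  have hdc : Coh.IsCoh (DCoh.HD (DX : DCoh.D At.left) (-(i : ℤ))) :=
    DPerf.isCoh_HD_of_pseudoCoherent (DGen9.isPseudoCoherentD_of_isPerfect hDX _)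
      (DGen9.isQCohD_of_isPerfect hDX _) le_rfl
  have hR : Coh.IsCoh ((Scheme.Modules.pullback f.left).obj (fmH P G i)) := M1.isCoh_pullback _ (isCoh_fmH hP hG (i : ℤ))
  have hR' : Coh.IsCoh ((Scheme.Modules.pullback f.left).obj (DCoh.HD (DX : DCoh.D At.left) (-(i : ℤ)))) :=
    M1.isCoh_pullback _ hdc
  obtain ⟨R, hQR⟩ := Snapper.exists_isHilbPoly k hL.1 hR
  obtain ⟨R', hQR'⟩ := Snapper.exists_isHilbPoly k hL.1 hR'
  have hRd := Snapper.natDegree_isHilbPoly_le hL.1 hR
    ((Topology.IsInducing.subtypeVal (t := CohB1.support _)).topologicalKrullDim_le.trans hg.le) hQR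
  have hRd' := Snapper.natDegree_isHilbPoly_le hL.1 hR'
    ((Topology.IsInducing.subtypeVal (t := CohB1.support _)).topologicalKrullDim_le.trans hg.le) hQR'
  obtain ⟨ε₁, hε₁, hl⟩ := exists_left_expansion hφ hP hPξ hg hL hLL' hF a b hb f rfl
  obtain ⟨ε₂, hε₂, hr⟩ := exists_right_expansion hφ hP hPξ hL hLL' hg hF a b hb f rfl X DX hDX (Iso.refl _)
  let K : ℚ := (b : ℚ) ^ (2 * g) * (Curv2.euler k A.left L : ℚ)
  have hχ : (0 : ℚ) < (Curv2.euler k A.left L : ℚ) := by exact_mod_cast euler_pos hL
  have hbq : (0 : ℚ) < b := by exact_mod_cast hb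
  have hK : K ≠ 0 := by positivity
  set x₀ : ℚ := (a : ℚ) / (b : ℚ) with hx₀
  -- the sided polynomials
  have key : ∀ (s : ℤ) (Pol : Polynomial ℚ) (δ : ℚ), 0 < δ → s ≠ 0 →
      (∀ (c : ℤ) (d : ℕ), 0 < d → (c : ℚ) / d ≠ x₀ → |(c : ℚ) / d - x₀| < δ → 0 < (s : ℚ) * ((c : ℚ) / d - x₀) →
        Pol.eval ((c : ℚ) / d) = 0) → Pol = 0 := fun s Pol δ hδ hs h => by
    obtain ⟨N, hN⟩ := exists_nat_gt (|(s : ℚ)| / δ)
    have hN0 : (0 : ℚ) < N := lt_of_le_of_lt (by positivity) hN
    refine Polynomial.eq_zero_of_infinite_isRoot _ (Set.Infinite.mono ?_ (Set.infinite_range_of_injective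
      (f := fun n : ℕ => x₀ + (s : ℚ) / ((b : ℚ) * (N + n))) fun n n' hnn => ?_))
    · rintro _ ⟨n, rfl⟩
      have hd : 0 < b * (N + n) := Nat.mul_pos hb (Nat.lt_add_right n (by exact_mod_cast hN0))
      have he : ((a * ((N + n : ℕ) : ℤ) + s : ℤ) : ℚ) / ((b * (N + n) : ℕ) : ℚ) =
          x₀ + (s : ℚ) / ((b : ℚ) * (N + n)) := by
        rw [hx₀]; push_cast
        field_simp
      show Pol.eval (x₀ + (s : ℚ) / ((b : ℚ) * (N + n))) = 0
      rw [← he]
      have hpos : (0 : ℚ) < (b : ℚ) * (N + n) := by positivity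
      refine h _ _ hd ?_ ?_ ?_
      · rw [he]; simp [hs, hpos.ne']
      · rw [he, add_sub_cancel_left, abs_div, abs_of_pos hpos, div_lt_iff₀ hpos]
        rw [div_lt_iff₀ hδ] at hN
        calc |(s : ℚ)| < N * δ := hN
          _ ≤ δ * (b * (N + n)) := by
            rw [mul_comm δ]
            refine mul_le_mul_of_nonneg_right ?_ hδ.le
            have h1 : (1 : ℚ) ≤ b := by exact_mod_cast hb
            nlinarith [Nat.cast_nonneg (α := ℚ) n]
      · rw [he, add_sub_cancel_left, mul_div_assoc']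
        exact div_pos (_root_.mul_self_pos.2 (by exact_mod_cast hs)) hpos
    · have hsq : (s : ℚ) ≠ 0 := by exact_mod_cast hs
      have h1 := add_left_cancel hnn
      rw [div_eq_div_iff (by positivity) (by positivity)] at h1
      have := mul_left_cancel₀ hsq h1
      exact_mod_cast (add_left_cancel (mul_left_cancel₀ hbq.ne' this)).symm
  have em : Pm = sidePoly g R K (-((b : ℚ) ^ 2)) ((b : ℚ) ^ 2 * x₀) := sub_eq_zero.1 <|
    key (-1) _ (min ε ε₁) (lt_min hε hε₁) (by norm_num) fun c d hd hne hd1 hd2 => by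
      have h3 : (c : ℚ) / d < x₀ := by push_cast at hd2; linarith
      rw [abs_lt] at hd1
      have := min_le_left ε ε₁
      have := min_le_right ε ε₁
      rw [Polynomial.eval_sub, ← hleft c d hd (by linarith) h3.le, hl i R hQR c d hd (by linarith) h3,
        eval_sidePoly g R hRd _ _ _ _ (by
          have : 0 < (b : ℚ) ^ 2 * (x₀ - (c : ℚ) / d) := mul_pos (by positivity) (sub_pos.2 h3)
          linarith)]
      simp only [K]; ring
  have ep : Pp = sidePoly g R' K ((b : ℚ) ^ 2) (-((b : ℚ) ^ 2 * x₀)) := sub_eq_zero.1 <|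
    key 1 _ (min ε ε₂) (lt_min hε hε₂) (by norm_num) fun c d hd hne hd1 hd2 => by
      have h3 : x₀ < (c : ℚ) / d := by push_cast at hd2; linarith
      rw [abs_lt] at hd1
      have := min_le_left ε ε₂
      have := min_le_right ε ε₂
      rw [Polynomial.eval_sub, ← hright c d hd h3.le (by linarith), hr i R' hQR' c d hd h3 (by linarith),
        eval_sidePoly g R' hRd' _ _ _ _ (by
          have : 0 < (b : ℚ) ^ 2 * ((c : ℚ) / d - x₀) := mul_pos (by positivity) (sub_pos.2 h3)
          linarith)]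
      simp only [K]; ring
  -- the degree
  have hQ0 : Q ≠ 0 := fun h => hQ (by simp [h])
  have hk : kk + 1 ≤ g := by
    have h1 : (Pp - Pm).natDegree ≤ g := (Polynomial.natDegree_sub_le _ _).trans (max_le hPp hPm)
    rw [hdiff, Polynomial.natDegree_mul (pow_ne_zero _ (Polynomial.X_sub_C_ne_zero _)) hQ0,
      Polynomial.natDegree_pow, Polynomial.natDegree_X_sub_C] at h1
    omega
  have hco := coeff_sided_of_jump hφ hP hPξ hg hL hLL' hG i f rfl DX hDX hZ hc (g - (kk + 1)) hZdim R R' hQR hQR'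
  -- coefficients around the point
  let Lin : Polynomial ℚ := Polynomial.C ((b : ℚ) ^ 2)⁻¹ * Polynomial.X + Polynomial.C x₀
  have cp : Pp.comp Lin = Polynomial.C K⁻¹ * R'.reflect g := Polynomial.funext fun u => by
    rw [ep, sidePoly]
    simp only [Lin, Polynomial.eval_comp, Polynomial.eval_mul, Polynomial.eval_add, Polynomial.eval_C,
      Polynomial.eval_X]
    congr 2
    field_simp
    ring
  have cm : Pm.comp Lin = Polynomial.C K⁻¹ * (R.reflect g).comp (Polynomial.C (-1 : ℚ) * Polynomial.X) :=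
    Polynomial.funext fun u => by
      rw [em, sidePoly]
      simp only [Lin, Polynomial.eval_comp, Polynomial.eval_mul, Polynomial.eval_add, Polynomial.eval_C,
        Polynomial.eval_X]
      congr 2
      field_simp
      ring
  have hd0 := congrArg (fun p : Polynomial ℚ => (p.comp Lin).coeff (kk + 1)) hdiff
  simp only [Polynomial.sub_comp, cp, cm, Polynomial.coeff_sub, Polynomial.coeff_C_mul, Polynomial.coeff_reflect,
    Polynomial.comp_C_mul_X_coeff, Polynomial.revAt_le hk, Polynomial.mul_comp, Polynomial.pow_comp] at hd0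
  have e1 : Polynomial.X.comp Lin - (Polynomial.C x₀).comp Lin = Polynomial.C ((b : ℚ) ^ 2)⁻¹ * Polynomial.X := by
    simp [Lin]
  rw [e1, mul_pow, ← map_pow, _root_.mul_assoc, Polynomial.coeff_C_mul,
    Polynomial.coeff_X_pow_mul', if_pos le_rfl, Nat.sub_self, Polynomial.coeff_zero_eq_eval_zero,
    Polynomial.eval_comp] at hd0
  have e2 : Lin.eval 0 = x₀ := by simp [Lin]
  rw [e2, hco] at hd0
  have hsign : (-1 : ℚ) ^ g * (-1 : ℚ) ^ (g - (kk + 1)) = (-1) ^ (kk + 1) := by
    rw [← pow_add, show g + (g - (kk + 1)) = (kk + 1) + 2 * (g - (kk + 1)) by omega, pow_add, pow_mul]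
    norm_num
  rw [hsign] at hd0
  have h0 : ((b : ℚ) ^ 2)⁻¹ ^ (kk + 1) * Q.eval x₀ = 0 := by linear_combination -hd0
  exact hQ ((mul_eq_zero.1 h0).resolve_left (pow_ne_zero _ (inv_ne_zero (by positivity))))

end Groth.Agent.S18119
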