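import Groth.Statements.S18121
import Mathlib.Tactic.LinearCombination
import Mathlib.Tactic.ComputeDegree
import Mathlib.RingTheory.AdjoinRoot

set_option autoImplicit false
universe u
open Pinch

namespace Groth.Agent.S18121

/-- Let B be a commutative ring, b an element of B, B' := B[z]/(z^2 - b) the rank-two B-algebra with z^2
= b, and Ψ : B[u, v] → B'[t] the B-algebra homomorphism with u ↦ z t and v ↦ t. Then the kernel of Ψ
is the principal ideal generated by u^2 - b v^2, and a polynomial of B'[t] lies in the image of Ψ as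
soon as its constant coefficient lies in B. Equivalently, B[u, v]/(u^2 - b v^2) is the fibre product
of B'[t] and B over B' (for t ↦ 0 and the inclusion of B): the pinching of Spec B' × 𝔸¹ along Spec
B' × {0} by the double cover Spec B' → Spec B is the hypersurface u^2 = b v^2 over B; for B = K[w]
and b = w this is the pinch point u^2 = v^2 w. -/
theorem result (B : Type u) [CommRing B] (b : B) :
    letI Ψ : MvPolynomial (Fin 2) B →ₐ[B] Polynomial (AdjoinRoot (Polynomial.X ^ 2 - Polynomial.C b)) :=
      MvPolynomial.aeval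
        ![Polynomial.C (AdjoinRoot.root (Polynomial.X ^ 2 - Polynomial.C b)) * Polynomial.X, Polynomial.X]
    RingHom.ker Ψ.toRingHom =
        Ideal.span {MvPolynomial.X 0 ^ 2 - MvPolynomial.C b * MvPolynomial.X 1 ^ 2} ∧
      ∀ G : Polynomial (AdjoinRoot (Polynomial.X ^ 2 - Polynomial.C b)),
        (∃ c : B, G.coeff 0 = algebraMap B (AdjoinRoot (Polynomial.X ^ 2 - Polynomial.C b)) c) →
          G ∈ Ψ.range := by
  classical
  set g : Polynomial B := Polynomial.X ^ 2 - Polynomial.C b with hg
  set Ψ : MvPolynomial (Fin 2) B →ₐ[B] Polynomial (AdjoinRoot g) :=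
      MvPolynomial.aeval (R := B)
        ![Polynomial.C (AdjoinRoot.root g) * Polynomial.X, Polynomial.X] with hΨdef
  rcases subsingleton_or_nontrivial B with hB | hB
  · have : Subsingleton (MvPolynomial (Fin 2) B) := Module.subsingleton B _
    have : Subsingleton (Polynomial (AdjoinRoot g)) := Module.subsingleton B _
    exact ⟨Subsingleton.elim _ _, fun G _ => ⟨0, Subsingleton.elim _ _⟩⟩
  have hgm : g.Monic := Polynomial.monic_X_pow_sub_C b two_ne_zero
  have hgd : g.natDegree = 2 := by rw [hg]; exact Polynomial.natDegree_X_pow_sub_C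
  set z := AdjoinRoot.root g with hz
  have hzz : z ^ 2 = AdjoinRoot.of g b := by
    have := AdjoinRoot.eval₂_root g
    rw [hg] at this
    simp only [Polynomial.eval₂_sub, Polynomial.eval₂_X_pow, Polynomial.eval₂_C, sub_eq_zero] at this
    exact this
  have hindep : ∀ c d : B, AdjoinRoot.of g c + z * AdjoinRoot.of g d = 0 → c = 0 ∧ d = 0 := by
    intro c d h
    have h' : AdjoinRoot.mk g (Polynomial.C c + Polynomial.X * Polynomial.C d) = 0 := by
      rw [map_add, map_mul, AdjoinRoot.mk_C, AdjoinRoot.mk_X, AdjoinRoot.mk_C]; exact h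
    have hdvd := AdjoinRoot.mk_eq_zero.1 h'
    have hlt : (Polynomial.C c + Polynomial.X * Polynomial.C d).natDegree < g.natDegree := by
      rw [hgd]; apply Nat.lt_succ_of_le; compute_degree
    have h0 : Polynomial.C c + Polynomial.X * Polynomial.C d = 0 := by
      by_contra hne
      exact hgm.not_dvd_of_natDegree_lt hne hlt hdvd
    constructor
    · simpa using congrArg (fun p => Polynomial.coeff p 0) h0
    · simpa [Polynomial.coeff_C] using congrArg (fun p => Polynomial.coeff p 1) h0
  have hbasis : ∀ q : AdjoinRoot g, ∃ c d : B, q = AdjoinRoot.of g c + z * AdjoinRoot.of g d := by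
    intro q
    induction q using AdjoinRoot.induction_on with
    | ih p =>
      have hle : (p %ₘ g).natDegree ≤ 1 := by
        have := Polynomial.natDegree_modByMonic_lt p hgm (fun h => by simp [h] at hgd)
        omega
      obtain ⟨d, c, hdc⟩ := Polynomial.exists_eq_X_add_C_of_natDegree_le_one hle
      refine ⟨c, d, ?_⟩
      have e : AdjoinRoot.mk g p = AdjoinRoot.mk g (p %ₘ g) := by
        conv_lhs => rw [← Polynomial.modByMonic_add_div p g]
        rw [map_add, map_mul, AdjoinRoot.mk_self, zero_mul, add_zero]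
      rw [e, hdc, map_add, map_mul, AdjoinRoot.mk_C, AdjoinRoot.mk_C, AdjoinRoot.mk_X]
      ring
  set ι : Polynomial B →ₐ[B] MvPolynomial (Fin 2) B := Polynomial.aeval (MvPolynomial.X 1) with hι
  have hΨι : ∀ p : Polynomial B, Ψ (ι p) = p.map (AdjoinRoot.of g) := by
    intro p
    induction p using Polynomial.induction_on' with
    | add p q hp hq => rw [map_add, map_add, hp, hq, Polynomial.map_add]
    | monomial n c =>
      rw [hι, Polynomial.aeval_monomial, map_mul, AlgHom.commutes, map_pow, MvPolynomial.aeval_X,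
        Polynomial.map_monomial, ← Polynomial.C_mul_X_pow_eq_monomial]
      simp [AdjoinRoot.algebraMap_eq, Polynomial.algebraMap_apply]
  have hΨu : Ψ (MvPolynomial.X 0) = Polynomial.C z * Polynomial.X := by simp [hΨdef, hz, hg]
  have hΨv : Ψ (MvPolynomial.X 1) = Polynomial.X := by simp [hΨdef]
  set h0 : MvPolynomial (Fin 2) B := MvPolynomial.X 0 ^ 2 - MvPolynomial.C b * MvPolynomial.X 1 ^ 2 with hh0
  have hh : Ψ h0 = 0 := by
    rw [hh0, map_sub, map_pow, map_mul, map_pow, hΨu, hΨv, mul_pow, ← Polynomial.C_pow, hzz]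
    rw [show Ψ (MvPolynomial.C b) = Polynomial.C (AdjoinRoot.of g b) from by simp [hΨdef, hg, Polynomial.algebraMap_apply, AdjoinRoot.algebraMap_eq]]
    exact sub_self _
  have hred : ∀ P : MvPolynomial (Fin 2) B, ∃ (Q : MvPolynomial (Fin 2) B) (p0 p1 : Polynomial B),
      P = h0 * Q + ι p0 + MvPolynomial.X 0 * ι p1 := by
    intro P
    induction P using MvPolynomial.induction_on with
    | C c => exact ⟨0, Polynomial.C c, 0, by simp [hι, MvPolynomial.algebraMap_eq]⟩
    | add P P' h h' =>
      obtain ⟨Q, a, a', rfl⟩ := h; obtain ⟨Q', e, e', rfl⟩ := h'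
      exact ⟨Q + Q', a + e, a' + e', by rw [map_add, map_add]; ring⟩
    | mul_X P i h =>
      obtain ⟨Q, a, a', rfl⟩ := h
      fin_cases i
      · refine ⟨MvPolynomial.X 0 * Q + ι a', Polynomial.C b * Polynomial.X ^ 2 * a', a, ?_⟩
        simp only [Fin.zero_eta, Fin.isValue, map_mul, map_pow, hh0]
        rw [show ι (Polynomial.C b) = MvPolynomial.C b from by simp [hι, MvPolynomial.algebraMap_eq],
          show ι Polynomial.X = MvPolynomial.X 1 from by simp [hι]]
        ring
      · refine ⟨MvPolynomial.X 1 * Q, Polynomial.X * a, Polynomial.X * a', ?_⟩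
        simp only [Fin.mk_one, Fin.isValue, map_mul]
        rw [show ι Polynomial.X = MvPolynomial.X 1 from by simp [hι]]
        ring
  refine ⟨le_antisymm ?_ ?_, ?_⟩
  · intro P hP
    obtain ⟨Q, a, a', rfl⟩ := hred P
    have h1 : Ψ (h0 * Q + ι a + MvPolynomial.X 0 * ι a') = 0 := hP
    rw [map_add, map_add, map_mul, map_mul, hh, zero_mul, zero_add, hΨι, hΨu, hΨι] at h1
    have ha : a = 0 ∧ a' = 0 := by
      have hc : ∀ n, a.coeff n = 0 ∧ (Polynomial.X * a').coeff n = 0 := fun n => by
        apply hindep
        have := congrArg (fun p => Polynomial.coeff p n) h1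
        simp only [Polynomial.coeff_add, Polynomial.coeff_zero, mul_assoc, Polynomial.coeff_C_mul] at this
        rw [show (Polynomial.X : Polynomial (AdjoinRoot g)) * a'.map (AdjoinRoot.of g) =
          (Polynomial.X * a').map (AdjoinRoot.of g) from by rw [Polynomial.map_mul, Polynomial.map_X]] at this
        rwa [Polynomial.coeff_map, Polynomial.coeff_map] at this
      refine ⟨Polynomial.ext fun n => by simpa using (hc n).1, Polynomial.ext fun n => ?_⟩
      simpa [Polynomial.coeff_X_mul] using (hc (n + 1)).2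
    rw [ha.1, ha.2, map_zero, mul_zero, add_zero, add_zero]
    exact Ideal.mem_span_singleton.2 (dvd_mul_right _ _)
  · rw [Ideal.span_le, Set.singleton_subset_iff]; exact hh
  · rintro G ⟨c, hc⟩
    choose c0 c1 hcd using hbasis
    have hfin : ∀ (F : AdjoinRoot g → B) (hF : F 0 = 0), ∃ p : Polynomial B, ∀ n, p.coeff n = F (G.coeff n) := by
      intro F hF
      refine ⟨∑ n ∈ G.support, Polynomial.monomial n (F (G.coeff n)), fun n => ?_⟩
      simp only [Polynomial.finsetSum_coeff, Polynomial.coeff_monomial, Finset.sum_ite_eq']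
      split
      · rfl
      · next h => rw [Polynomial.notMem_support_iff.1 h, hF]
    have hz0 : c0 0 = 0 ∧ c1 0 = 0 := hindep _ _ (hcd 0).symm
    obtain ⟨p0, hp0⟩ := hfin c0 hz0.1
    obtain ⟨p1, hp1⟩ := hfin c1 hz0.2
    refine ⟨ι p0 + MvPolynomial.X 0 * ι p1.divX, ?_⟩
    show Ψ (ι p0 + MvPolynomial.X 0 * ι p1.divX) = G
    rw [map_add, map_mul, hΨι, hΨu, hΨι]
    have hp10 : p1.coeff 0 = 0 := by
      rw [hp1]
      have h := hcd (G.coeff 0)
      conv_lhs at h => rw [hc, AdjoinRoot.algebraMap_eq]
      have h' : AdjoinRoot.of g (c0 (G.coeff 0) - c) + z * AdjoinRoot.of g (c1 (G.coeff 0)) = 0 := by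
        rw [map_sub]; linear_combination -h
      exact (hindep _ _ h').2
    ext n
    rw [Polynomial.coeff_add, mul_assoc, Polynomial.coeff_C_mul, Polynomial.coeff_map, hp0]
    rcases n with _ | n
    · rw [Polynomial.coeff_X_mul_zero, mul_zero, add_zero]
      have h := hcd (G.coeff 0)
      rw [← hp1 0, hp10, map_zero, mul_zero, add_zero] at h
      exact h.symm
    · rw [Polynomial.coeff_X_mul, Polynomial.coeff_map, Polynomial.coeff_divX, hp1]
      exact (hcd _).symm

end Groth.Agent.S18121
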