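import Groth.Statements.S18122
import Mathlib.Tactic.LinearCombination
import Mathlib.Algebra.MvPolynomial.Derivation
import Mathlib.Algebra.MvPolynomial.Division

set_option autoImplicit false
universe u
open Pinch

namespace Groth.Agent.S18122

/-- Let K be a field in which 2 ≠ 0, S = K[x, y], and R ⊆ S the K-subalgebra generated by x^2, x y and
y; R is the coordinate ring of the pinch point u^2 = v^2 w (u = x y, v = y, w = x^2) and S is its
normalization. Then restriction along R ⊆ S is a bijection from the K-derivations S → S onto the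
K-derivations R → S: every K-derivation R → S extends uniquely to S. In sheaf terms, the natural
injective map from the tangent sheaf of the normalization to the dual of the pulled-back sheaf of
differentials of the pinch point is an isomorphism. (The text works over an algebraically closed
field of characteristic different from 2 and for every semi-smooth variety; only this model case is
stated, and the computation uses only 2 ≠ 0.) -/
theorem result
    (K : Type u) [Field K] [NeZero (2 : K)] :
    letI R : Subalgebra K (MvPolynomial (Fin 2) K) :=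
      Algebra.adjoin K {MvPolynomial.X 0 ^ 2, MvPolynomial.X 0 * MvPolynomial.X 1, MvPolynomial.X 1}
    ∀ δ : Derivation K R (MvPolynomial (Fin 2) K),
      ∃! D : Derivation K (MvPolynomial (Fin 2) K) (MvPolynomial (Fin 2) K),
        ∀ r : R, D (r : MvPolynomial (Fin 2) K) = δ r := by
  classical
  set R : Subalgebra K (MvPolynomial (Fin 2) K) :=
      Algebra.adjoin K {MvPolynomial.X 0 ^ 2, MvPolynomial.X 0 * MvPolynomial.X 1, MvPolynomial.X 1} with hR
  intro δ
  set x : MvPolynomial (Fin 2) K := MvPolynomial.X 0 with hxdef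
  set y : MvPolynomial (Fin 2) K := MvPolynomial.X 1 with hydef
  have mA : x ^ 2 ∈ R := Algebra.subset_adjoin (Set.mem_insert _ _)
  have mB : x * y ∈ R := Algebra.subset_adjoin (Set.mem_insert_of_mem _ (Set.mem_insert _ _))
  have mC : y ∈ R := Algebra.subset_adjoin (Set.mem_insert_of_mem _ (Set.mem_insert_of_mem _ rfl))
  set rA : R := ⟨x ^ 2, mA⟩ with hA
  set rB : R := ⟨x * y, mB⟩ with hB
  set rC : R := ⟨y, mC⟩ with hC
  have hrel : rB * rB = rA * (rC * rC) := Subtype.ext (by simp [hA, hB, hC]; ring)
  have h2 : IsUnit (2 : MvPolynomial (Fin 2) K) := by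
    rw [← map_ofNat MvPolynomial.C 2]
    exact (isUnit_iff_ne_zero.2 (NeZero.ne (2 : K))).map _
  have hsm : ∀ (r : R) (s : MvPolynomial (Fin 2) K), r • s = (r : MvPolynomial (Fin 2) K) * s := fun _ _ => rfl
  have hy0 : y ≠ 0 := MvPolynomial.X_ne_zero _
  have hx0 : x ≠ 0 := MvPolynomial.X_ne_zero _
  have key : y * δ rA = 2 * x * (δ rB - x * δ rC) := by
    have h := congrArg δ hrel
    simp only [Derivation.leibniz, hsm, Subalgebra.coe_mul] at h
    simp only [hA, hB, hC] at h ⊢
    apply mul_left_cancel₀ hy0
    linear_combination -h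
  have hdvd : x ∣ δ rA := by
    have hp : Prime x := MvPolynomial.X_prime
    have : x ∣ y * δ rA := ⟨2 * (δ rB - x * δ rC), by rw [key]; ring⟩
    rcases hp.dvd_or_dvd this with h | h
    · exfalso
      have hd : (MvPolynomial.X 0 : MvPolynomial (Fin 2) K) ∣ MvPolynomial.X 1 := h
      obtain ⟨c, hc⟩ := hd
      have := congrArg (MvPolynomial.eval ![(0 : K), 1]) hc
      simp at this
    · exact h
  obtain ⟨a, ha⟩ := hdvd
  obtain ⟨t, ht⟩ := h2.exists_left_inv
  set D : Derivation K (MvPolynomial (Fin 2) K) (MvPolynomial (Fin 2) K) :=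
    MvPolynomial.mkDerivation K ![t * a, δ rC] with hD
  have hDx : D x = t * a := by simp [hD, hxdef]
  have hDy : D y = δ rC := by simp [hD, hydef]
  have hDB : D (x * y) = δ rB := by
    rw [Derivation.leibniz, hDx, hDy, smul_eq_mul, smul_eq_mul]
    apply mul_left_cancel₀ (mul_ne_zero h2.ne_zero hx0)
    linear_combination key - y * ha + x * y * a * ht
  have hDA : D (x ^ 2) = δ rA := by
    rw [Derivation.leibniz_pow, hDx, smul_eq_mul, nsmul_eq_mul]
    simp only [Nat.add_one_sub_one, pow_one, Nat.cast_ofNat]
    linear_combination x * a * ht - ha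
  have hext : ∀ (s : MvPolynomial (Fin 2) K) (hs : s ∈ R), D s = δ ⟨s, hs⟩ := by
    intro s hs
    induction hs using Algebra.adjoin_induction with
    | mem z hz =>
      simp only [Set.mem_insert_iff, Set.mem_singleton_iff] at hz
      rcases hz with rfl | rfl | rfl
      exacts [hDA, hDB, hDy]
    | algebraMap r =>
      rw [Derivation.map_algebraMap]
      exact (δ.map_algebraMap r).symm
    | add p q hp hq h h' =>
      rw [map_add, h, h', ← map_add]; rfl
    | mul p q hp hq h h' =>
      rw [Derivation.leibniz, h, h']
      exact ((δ.leibniz ⟨p, hp⟩ ⟨q, hq⟩)).symm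
  refine ⟨D, fun r => hext r r.2, fun D' hD' => ?_⟩
  apply MvPolynomial.derivation_ext
  intro i
  fin_cases i
  · have h1 : D' (x ^ 2) = δ rA := hD' rA
    rw [← hDA, Derivation.leibniz_pow, Derivation.leibniz_pow, nsmul_eq_mul, nsmul_eq_mul] at h1
    simp only [Nat.add_one_sub_one, pow_one, Nat.cast_ofNat, smul_eq_mul] at h1
    exact mul_left_cancel₀ hx0 (mul_left_cancel₀ h2.ne_zero h1)
  · exact (hD' rC).trans hDy.symm

end Groth.Agent.S18122
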