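import Groth.Statements.S18123
import Mathlib.Tactic.LinearCombination
import Mathlib.Algebra.MvPolynomial.Derivation
import Mathlib.Algebra.Polynomial.Expand

set_option autoImplicit false
universe u
open Pinch

namespace Groth.Agent.S18123

/-- Let K be a field in which 2 ≠ 0, S = K[x, y], and R ⊆ S the K-subalgebra generated by x^2, x y, y,
the coordinate ring of the pinch point with normalization S, obtained by gluing the plane along the
line y = 0 via x ↦ -x. A K-derivation D of S maps R into R if and only if D(y) is a multiple of y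
and D(x) = y s + x p(x^2) for some s in S and some polynomial p in one variable. Every K-derivation
R → S extends uniquely to S, and under this identification the derivations mapping R into R form the
image of the tangent sheaf of the pinch point in that of its normalization; so this image contains y
times all derivations of S, and modulo those it is spanned by the odd multiples x^(2k+1) ∂/∂x, the
part of the tangent sheaf of the line y = 0 invariant under x ↦ -x. (The text works over an
algebraically closed field of characteristic different from 2; the computation uses only 2 ≠ 0.) -/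
theorem result
    (K : Type u) [Field K] [NeZero (2 : K)]
    (D : Derivation K (MvPolynomial (Fin 2) K) (MvPolynomial (Fin 2) K)) :
    letI x : MvPolynomial (Fin 2) K := MvPolynomial.X 0
    letI y : MvPolynomial (Fin 2) K := MvPolynomial.X 1
    letI R : Subalgebra K (MvPolynomial (Fin 2) K) := Algebra.adjoin K {x ^ 2, x * y, y}
    (∀ r ∈ R, D r ∈ R) ↔
      (D y ∈ Ideal.span {y} ∧
        ∃ (s : MvPolynomial (Fin 2) K) (p : Polynomial K), D x = y * s + x * Polynomial.aeval (x ^ 2) p) := by
  classical
  set x : MvPolynomial (Fin 2) K := MvPolynomial.X 0 with hxdef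
  set y : MvPolynomial (Fin 2) K := MvPolynomial.X 1 with hydef
  set R : Subalgebra K (MvPolynomial (Fin 2) K) := Algebra.adjoin K {x ^ 2, x * y, y} with hR
  have mA : x ^ 2 ∈ R := Algebra.subset_adjoin (Set.mem_insert _ _)
  have mB : x * y ∈ R := Algebra.subset_adjoin (Set.mem_insert_of_mem _ (Set.mem_insert _ _))
  have mC : y ∈ R := Algebra.subset_adjoin (Set.mem_insert_of_mem _ (Set.mem_insert_of_mem _ rfl))
  set π : MvPolynomial (Fin 2) K →ₐ[K] Polynomial K := MvPolynomial.aeval (R := K) ![Polynomial.X, 0] with hπ
  have hπx : π x = Polynomial.X := by simp [hπ, hxdef]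
  have hπy : π y = 0 := by simp [hπ, hydef]
  set ex : Polynomial K →ₐ[K] MvPolynomial (Fin 2) K := Polynomial.aeval x with hex
  have hπex : ∀ g : Polynomial K, π (ex g) = g := fun g => by
    rw [hex, ← Polynomial.aeval_algHom_apply, hπx, Polynomial.aeval_X_left_apply]
  have hdec : ∀ f : MvPolynomial (Fin 2) K, ∃ s, f = ex (π f) + y * s := by
    intro f
    induction f using MvPolynomial.induction_on with
    | C c => exact ⟨0, by rw [← MvPolynomial.algebraMap_eq, AlgHom.commutes, AlgHom.commutes, mul_zero, add_zero]⟩
    | add p q hp hq =>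
      obtain ⟨s, hs⟩ := hp; obtain ⟨t, ht⟩ := hq
      exact ⟨s + t, by rw [map_add, map_add]; linear_combination hs + ht⟩
    | mul_X p i hp =>
      obtain ⟨s, hs⟩ := hp
      fin_cases i
      · refine ⟨x * s, ?_⟩
        simp only [Fin.zero_eta, Fin.isValue, map_mul]
        rw [← hxdef, hπx, show ex Polynomial.X = x from Polynomial.aeval_X _]
        linear_combination x * hs
      · refine ⟨p, ?_⟩
        simp only [Fin.mk_one, Fin.isValue, map_mul]
        rw [← hydef, hπy, map_zero, mul_zero, zero_add, mul_comm]
  have hys : ∀ s, y * s ∈ R := by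
    have hxs : ∀ s, y * s ∈ R ∧ y * (x * s) ∈ R := by
      intro s
      induction s using MvPolynomial.induction_on with
      | C c =>
        rw [← MvPolynomial.algebraMap_eq]
        exact ⟨R.mul_mem mC (R.algebraMap_mem c), by
          rw [← mul_assoc, mul_comm y x]; exact R.mul_mem mB (R.algebraMap_mem c)⟩
      | add p q hp hq => rw [mul_add, mul_add, mul_add]; exact ⟨R.add_mem hp.1 hq.1, R.add_mem hp.2 hq.2⟩
      | mul_X p i hp =>
        fin_cases i
        · simp only [Fin.zero_eta, Fin.isValue]
          rw [← hxdef]
          refine ⟨by rw [show y * (p * x) = y * (x * p) by ring]; exact hp.2, ?_⟩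
          rw [show y * (x * (p * x)) = x ^ 2 * (y * p) by ring]; exact R.mul_mem mA hp.1
        · simp only [Fin.mk_one, Fin.isValue]
          rw [← hydef]
          refine ⟨by rw [show y * (p * y) = y * (y * p) by ring]; exact R.mul_mem mC hp.1, ?_⟩
          rw [show y * (x * (p * y)) = y * (y * (x * p)) by ring]; exact R.mul_mem mC hp.2
    exact fun s => (hxs s).1
  have hev : ∀ p : Polynomial K, ex (Polynomial.expand K 2 p) = Polynomial.aeval (x ^ 2) p := fun p => by
    rw [hex, Polynomial.expand_aeval]
  have hchar : ∀ f : MvPolynomial (Fin 2) K, f ∈ R ↔ ∃ p : Polynomial K, π f = Polynomial.expand K 2 p := by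
    intro f
    constructor
    · intro hf
      induction hf using Algebra.adjoin_induction with
      | mem z hz =>
        simp only [Set.mem_insert_iff, Set.mem_singleton_iff] at hz
        rcases hz with rfl | rfl | rfl
        · exact ⟨Polynomial.X, by rw [map_pow, hπx, Polynomial.expand_X]⟩
        · exact ⟨0, by rw [map_mul, hπy, mul_zero, map_zero]⟩
        · exact ⟨0, by rw [hπy, map_zero]⟩
      | algebraMap r => exact ⟨algebraMap K _ r, by rw [AlgHom.commutes, AlgHom.commutes]⟩
      | add p q _ _ hp hq =>
        obtain ⟨a, ha⟩ := hp; obtain ⟨b, hb⟩ := hq; exact ⟨a + b, by rw [map_add, map_add, ha, hb]⟩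
      | mul p q _ _ hp hq =>
        obtain ⟨a, ha⟩ := hp; obtain ⟨b, hb⟩ := hq; exact ⟨a * b, by rw [map_mul, map_mul, ha, hb]⟩
    · rintro ⟨p, hp⟩
      obtain ⟨s, hs⟩ := hdec f
      rw [hs, hp, hev]
      refine R.add_mem ?_ (hys s)
      rw [Polynomial.aeval_eq_sum_range]
      exact R.sum_mem fun i _ => R.smul_mem (R.pow_mem mA i) _
  have hneg : ∀ p : Polynomial K, (Polynomial.expand K 2 p).comp (-Polynomial.X) = Polynomial.expand K 2 p := fun p => by
    rw [Polynomial.expand_eq_comp_X_pow, Polynomial.comp_assoc, Polynomial.X_pow_comp, neg_sq]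
  have h2 : (2 : Polynomial K) ≠ 0 := by
    rw [← map_ofNat Polynomial.C 2, Polynomial.C_ne_zero]
    exact NeZero.ne _
  constructor
  · intro hD
    obtain ⟨q, hq⟩ := (hchar _).1 (hD y mC)
    obtain ⟨r, hr⟩ := (hchar _).1 (hD _ mB)
    rw [Derivation.leibniz, map_add, smul_eq_mul, smul_eq_mul, map_mul, map_mul, hπx, hπy, zero_mul, add_zero, hq] at hr
    have hq0 : Polynomial.expand K 2 q = 0 := by
      have h := congrArg (fun t : Polynomial K => t.comp (-Polynomial.X)) hr
      simp only [Polynomial.mul_comp, Polynomial.X_comp, hneg] at h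
      have : (2 : Polynomial K) * (Polynomial.X * Polynomial.expand K 2 q) = 0 := by linear_combination hr - h
      rcases mul_eq_zero.1 this with h' | h'
      · exact absurd h' h2
      · exact (mul_eq_zero.1 h').resolve_left Polynomial.X_ne_zero
    refine ⟨?_, ?_⟩
    · obtain ⟨s, hs⟩ := hdec (D y)
      rw [hq, hq0, map_zero, zero_add] at hs
      exact Ideal.mem_span_singleton.2 ⟨s, hs⟩
    · obtain ⟨t, ht⟩ := (hchar _).1 (hD _ mA)
      rw [Derivation.leibniz_pow, nsmul_eq_mul, map_mul, map_natCast, smul_eq_mul, Nat.add_one_sub_one, pow_one,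
        map_mul, hπx] at ht
      have ht0 : t.coeff 0 = 0 := by
        have := congrArg (fun z : Polynomial K => z.coeff 0) ht
        simp only [Polynomial.coeff_expand two_pos] at this
        simpa using this.symm
      obtain ⟨s, hs⟩ := hdec (D x)
      obtain ⟨c, hc⟩ : ∃ c : K, c * 2 = 1 := ⟨(2 : K)⁻¹, inv_mul_cancel₀ (NeZero.ne _)⟩
      refine ⟨s, c • t.divX, ?_⟩
      have hg : π (D x) = Polynomial.X * Polynomial.expand K 2 (c • t.divX) := by
        apply mul_left_cancel₀ (mul_ne_zero h2 (Polynomial.X_ne_zero (R := K)))
        have hte : t = Polynomial.X * t.divX := by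
          conv_lhs => rw [← t.X_mul_divX_add, ht0, map_zero, add_zero]
        have hC : Polynomial.C c * (2 : Polynomial K) = 1 := by
          rw [← map_ofNat Polynomial.C 2, ← map_mul, hc, map_one]
        rw [hte, map_mul, Polynomial.expand_X] at ht
        rw [Polynomial.smul_eq_C_mul, map_mul, Polynomial.expand_C]
        push_cast at ht
        linear_combination ht - Polynomial.X ^ 2 * Polynomial.expand K 2 t.divX * hC
      rw [hg, map_mul, hev, hex, Polynomial.aeval_X] at hs
      rw [add_comm]; exact hs
  · rintro ⟨hy, s, p, hDx⟩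
    obtain ⟨c, hc⟩ := Ideal.mem_span_singleton'.1 hy
    intro r hr
    induction hr using Algebra.adjoin_induction with
    | mem z hz =>
      simp only [Set.mem_insert_iff, Set.mem_singleton_iff] at hz
      rcases hz with rfl | rfl | rfl
      · rw [Derivation.leibniz_pow, nsmul_eq_mul, smul_eq_mul, Nat.add_one_sub_one, pow_one, hDx,
          show ((2 : ℕ) : MvPolynomial (Fin 2) K) * (x * (y * s + x * Polynomial.aeval (x ^ 2) p)) =
            y * (2 * x * s) + (2 : ℕ) * x ^ 2 * Polynomial.aeval (x ^ 2) p by push_cast; ring]
        refine R.add_mem (hys _) (R.mul_mem (R.mul_mem (R.natCast_mem _) mA) ?_)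
        rw [Polynomial.aeval_eq_sum_range]
        exact R.sum_mem fun i _ => R.smul_mem (R.pow_mem mA i) _
      · rw [Derivation.leibniz, smul_eq_mul, smul_eq_mul, ← hc,
          show x * (c * y) + y * D x = y * (x * c + D x) by ring]
        exact hys _
      · rw [← hc, mul_comm]; exact hys _
    | algebraMap r => rw [Derivation.map_algebraMap]; exact R.zero_mem
    | add p q _ _ hp hq => rw [map_add]; exact R.add_mem hp hq
    | mul p q hp hq hp' hq' =>
      rw [Derivation.leibniz, smul_eq_mul, smul_eq_mul]
      exact R.add_mem (R.mul_mem hp hq') (R.mul_mem hq hp')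

end Groth.Agent.S18123
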