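import Groth.Statements.S18125
import Mathlib.RingTheory.MvPolynomial.Ideal

set_option autoImplicit false
universe u
open Pinch

namespace Groth.Agent.S18125

/-- Let K be a field in which 2 ≠ 0, n ≥ 0, S = K[u, v, w, t_1, …, t_n] (u, v, w the first three
variables), h = u^2 - v^2 w the equation of the pinch-point model, and Jac the ideal generated by h
and its three partial derivatives 2u, -2vw, -v^2, which cuts out the scheme-theoretic singular locus
of {h = 0}. Then the ideal (u, v) of the double locus is Jac + (v), and the colon ideal of Jac by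
(v) is (u, v, w). Consequently (u, v)/Jac, the ideal of the double locus restricted to the singular
locus, is an invertible sheaf on the pinch locus u = v = w = 0: it is free of rank one over K[t_1,
…, t_n] on the class of v. (The text states this for every semi-smooth variety and reduces to this
model; K algebraically closed is not needed for the model computation.) -/
theorem result
    (K : Type u) [Field K] [NeZero (2 : K)] (n : ℕ) :
    letI u : MvPolynomial (Fin (n + 3)) K := MvPolynomial.X 0
    letI v : MvPolynomial (Fin (n + 3)) K := MvPolynomial.X 1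
    letI w : MvPolynomial (Fin (n + 3)) K := MvPolynomial.X 2
    letI Jac : Ideal (MvPolynomial (Fin (n + 3)) K) :=
      Ideal.span {u ^ 2 - v ^ 2 * w, 2 * u, -(2 * v * w), -(v ^ 2)}
    Ideal.span {u, v} = Jac ⊔ Ideal.span {v} ∧ Jac.colon (Ideal.span {v}) = Ideal.span {u, v, w} := by
  classical
  set u : MvPolynomial (Fin (n + 3)) K := MvPolynomial.X 0 with hu0
  set v : MvPolynomial (Fin (n + 3)) K := MvPolynomial.X 1 with hv0
  set w : MvPolynomial (Fin (n + 3)) K := MvPolynomial.X 2 with hw0
  set Jac : Ideal (MvPolynomial (Fin (n + 3)) K) :=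
      Ideal.span {u ^ 2 - v ^ 2 * w, 2 * u, -(2 * v * w), -(v ^ 2)} with hJac
  have h2 : IsUnit (2 : MvPolynomial (Fin (n + 3)) K) := by
    rw [← map_ofNat MvPolynomial.C 2]
    exact (isUnit_iff_ne_zero.2 (NeZero.ne (2 : K))).map _
  obtain ⟨t, ht⟩ := h2.exists_left_inv
  have hu : u ∈ Jac := by
    have : 2 * u ∈ Jac := Ideal.subset_span (by simp)
    have := Jac.mul_mem_left t this
    rwa [← mul_assoc, ht, one_mul] at this
  have hv2 : v ^ 2 ∈ Jac := by
    have : -(v ^ 2) ∈ Jac := Ideal.subset_span (by simp)
    exact (Ideal.neg_mem_iff _).1 this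
  have hvw : v * w ∈ Jac := by
    have : -(2 * v * w) ∈ Jac := Ideal.subset_span (by simp)
    have := Jac.mul_mem_left t ((Ideal.neg_mem_iff _).1 this)
    rwa [mul_assoc 2 v w, ← mul_assoc, ht, one_mul] at this
  have hJ : Jac = Ideal.span {u, v * w, v ^ 2} := by
    apply le_antisymm
    · rw [Ideal.span_le]
      rintro x hx
      simp only [Set.mem_insert_iff, Set.mem_singleton_iff] at hx
      rw [SetLike.mem_coe]
      simp only [Ideal.mem_span_insert, Ideal.mem_span_singleton']
      rcases hx with rfl | rfl | rfl | rfl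
      · exact ⟨u, _, ⟨-v, _, ⟨0, rfl⟩, rfl⟩, by ring⟩
      · exact ⟨2, _, ⟨0, _, ⟨0, rfl⟩, rfl⟩, by ring⟩
      · exact ⟨0, _, ⟨-2, _, ⟨0, rfl⟩, rfl⟩, by ring⟩
      · exact ⟨0, _, ⟨0, _, ⟨-1, rfl⟩, rfl⟩, by ring⟩
    · rw [Ideal.span_le]
      rintro x hx
      simp only [Set.mem_insert_iff, Set.mem_singleton_iff] at hx
      rcases hx with rfl | rfl | rfl
      exacts [hu, hvw, hv2]
  refine ⟨?_, ?_⟩
  · apply le_antisymm
    · rw [Ideal.span_le]
      rintro x hx
      simp only [Set.mem_insert_iff, Set.mem_singleton_iff] at hx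
      rcases hx with rfl | rfl
      · exact Ideal.mem_sup_left hu
      · exact Ideal.mem_sup_right (Ideal.mem_span_singleton_self _)
    · rw [hJ, sup_le_iff, Ideal.span_le, Ideal.span_le]
      have hv : v ∈ Ideal.span ({u, v} : Set _) := Ideal.subset_span (by simp)
      refine ⟨fun x hx => ?_, fun x hx => ?_⟩
      · simp only [Set.mem_insert_iff, Set.mem_singleton_iff] at hx
        rcases hx with rfl | rfl | rfl
        · exact Ideal.subset_span (by simp)
        · exact Ideal.mul_mem_right _ _ hv
        · rw [pow_two]; exact Ideal.mul_mem_right _ _ hv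
      · rw [Set.mem_singleton_iff] at hx; exact hx ▸ hv
  · apply le_antisymm
    · intro f hf
      rw [Submodule.mem_colon] at hf
      have h := hf v (Ideal.mem_span_singleton_self _)
      rw [smul_eq_mul, hJ] at h
      have e1 : ({u, v * w, v ^ 2} : Set (MvPolynomial (Fin (n + 3)) K)) =
          (fun s => MvPolynomial.monomial s (1 : K)) '' {Finsupp.single 0 1, Finsupp.single 1 1 + Finsupp.single 2 1, Finsupp.single 1 2} := by
        simp only [Set.image_insert_eq, Set.image_singleton]
        simp [hu0, hv0, hw0, MvPolynomial.X, MvPolynomial.monomial_mul, MvPolynomial.monomial_pow, Finsupp.smul_single]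
      have e2 : ({u, v, w} : Set (MvPolynomial (Fin (n + 3)) K)) =
          (fun s => MvPolynomial.monomial s (1 : K)) '' {Finsupp.single 0 1, Finsupp.single 1 1, Finsupp.single 2 1} := by
        simp only [Set.image_insert_eq, Set.image_singleton]
        simp [hu0, hv0, hw0, MvPolynomial.X]
      rw [e1, MvPolynomial.mem_ideal_span_monomial_image] at h
      rw [e2, MvPolynomial.mem_ideal_span_monomial_image]
      intro m hm
      have hm' : m + Finsupp.single 1 1 ∈ (f * v).support := by
        rw [MvPolynomial.support_mul_X]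
        exact Finset.mem_map.2 ⟨m, hm, rfl⟩
      obtain ⟨si, hsi, hle⟩ := h _ hm'
      have h01 : (1 : Fin (n + 3)) ≠ 0 := by simp [Fin.ext_iff]
      have h12 : (2 : Fin (n + 3)) ≠ 1 := by simp [Fin.ext_iff, Nat.mod_eq_of_lt (by omega : 2 < n + 3)]
      simp only [Set.mem_insert_iff, Set.mem_singleton_iff] at hsi
      rcases hsi with rfl | rfl | rfl
      · refine ⟨Finsupp.single 0 1, by simp, Finsupp.single_le_iff.2 ?_⟩
        have := hle 0
        simpa [Finsupp.single_eq_of_ne' h01] using this
      · refine ⟨Finsupp.single 2 1, by simp, Finsupp.single_le_iff.2 ?_⟩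
        have := hle 2
        simpa [Finsupp.single_eq_of_ne' h12.symm] using this
      · refine ⟨Finsupp.single 1 1, by simp, Finsupp.single_le_iff.2 ?_⟩
        have := hle 1
        simpa using this
    · rw [Ideal.span_le]
      intro x hx
      rw [SetLike.mem_coe, Submodule.mem_colon]
      intro y hy
      obtain ⟨c, rfl⟩ := Ideal.mem_span_singleton'.1 hy
      rw [smul_eq_mul, mul_left_comm]
      refine Jac.mul_mem_left _ ?_
      simp only [Set.mem_insert_iff, Set.mem_singleton_iff] at hx
      rcases hx with rfl | rfl | rfl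
      · exact Jac.mul_mem_right _ hu
      · rwa [← pow_two]
      · rwa [mul_comm]

end Groth.Agent.S18125
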