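import Groth.Statements.S18126
import Groth.Agent.Lib.CI2.NLPerf
import Groth.Agent.Lib.CI2.FlatLCI
import Groth.Agent.Lib.CI2.SyntScheme
import Groth.Agent.Lib.CI2.Smooth
import Groth.Agent.Lib.FlatDepth.RkFlat
import Groth.Agent.Lib.FlatDepth.CM
import Groth.Agent.Lib.FibDepth5.Bridge
import Groth.Agent.Lib.Depth.CM

set_option autoImplicit false
universe u
open Deform

namespace Groth.Agent.S18126

open IsLocalRing in
/-- An associated prime of a flat algebra with Cohen–Macaulay fibres is minimal in its fibre. -/
theorem eq_of_le_of_mem_associatedPrimes {A P : Type u} [CommRing A] [IsNoetherianRing A] [CommRing P]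
    [Algebra A P] [IsNoetherianRing P] [Module.Flat A P]
    (hCM : ∀ (p : Ideal A) [p.IsPrime], LocCoh.IsCohenMacaulayRing (p.Fiber P))
    (q : Ideal P) [q.IsPrime] (hq : q ∈ associatedPrimes P P) (q' : Ideal P) [q'.IsPrime] (hle : q' ≤ q)
    (hc : q'.comap (algebraMap A P) = q.comap (algebraMap A P)) : q' = q := by
  let L := Localization.AtPrime q
  haveI := FibDepth5.isLocalRing_fibLocRing (A := A) q
  have h1 : maximalIdeal L ∈ associatedPrimes L L := by
    apply Module.associatedPrimes.mem_associatedPrimes_of_comap_mem_associatedPrimes_of_isLocalizedModule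
      q.primeCompl (Algebra.linearMap P L)
    simpa [L, Localization.AtPrime.under_maximalIdeal] using hq
  have h2 : LocCoh.depth L L = 0 := by
    have h := DepthLib.depth_le_of_mem_associatedPrimes h1
    rw [ringKrullDim_eq_zero_of_isField (Ideal.Quotient.maximal_ideal_iff_isField_quotient _ |>.1 inferInstance)] at h
    exact le_antisymm (by exact_mod_cast h) bot_le
  have h3 : LocCoh.depth (EGA4.FibLocRing A P q) (EGA4.FibLocRing A P q) = 0 :=
    (add_eq_zero.1 ((FlatDepth.ring_invariants (A := A) q).1.symm.trans h2)).2
  have h4 : FlatDepth.SkIneq 1 (EGA4.FibLocRing A P q) :=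
    FlatDepth.skIneq_fibLocRing (fun p _ => by
      haveI := FlatDepth.isNoetherianRing_fiber (B := P) p
      exact (FlatDepth.cohenMacaulayRing_iff _).1 (hCM p) 1) q
  haveI : Ring.KrullDimLE 0 (EGA4.FibLocRing A P q) := by
    rw [Ring.krullDimLE_iff]
    unfold FlatDepth.SkIneq at h4
    rw [h3] at h4
    rcases min_le_iff.1 h4 with h | h
    · exact absurd h (by norm_num)
    · simpa using h
  let Q' : Ideal L := q'.map (algebraMap P L)
  have hd : Disjoint (q.primeCompl : Set P) q' := Set.disjoint_left.2 fun a ha ha' => ha (hle ha')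
  haveI : Q'.IsPrime := IsLocalization.isPrime_of_isPrime_disjoint q.primeCompl L q' inferInstance hd
  have hK : (q.comap (algebraMap A P)).map (algebraMap A L) ≤ Q' := by
    rw [IsScalarTower.algebraMap_eq A P L, ← Ideal.map_map, ← hc]
    exact Ideal.map_mono Ideal.map_comap_le
  haveI : (Q'.map (Ideal.Quotient.mk ((q.comap (algebraMap A P)).map (algebraMap A L)))).IsPrime :=
    Ideal.map_isPrime_of_surjective Ideal.Quotient.mk_surjective (by rwa [Ideal.mk_ker])
  have h5 : Q'.map (Ideal.Quotient.mk ((q.comap (algebraMap A P)).map (algebraMap A L))) =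
      maximalIdeal (EGA4.FibLocRing A P q) := IsLocalRing.eq_maximalIdeal inferInstance
  have h6 : Q' = maximalIdeal L := by
    have := congrArg (Ideal.comap (Ideal.Quotient.mk _)) h5
    rwa [Ideal.comap_map_of_surjective _ Ideal.Quotient.mk_surjective, ← RingHom.ker_eq_comap_bot,
      Ideal.mk_ker, sup_eq_left.2 hK,
      IsLocalRing.eq_maximalIdeal (Ideal.comap_isMaximal_of_surjective _ Ideal.Quotient.mk_surjective
        (K := maximalIdeal (EGA4.FibLocRing A P q)))] at this
  have h7 := congrArg (Ideal.comap (algebraMap P L)) h6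
  exact ((IsLocalization.under_map_of_isPrime_disjoint q.primeCompl L inferInstance hd).symm.trans h7).trans
    Localization.AtPrime.under_maximalIdeal

/-- Let A be a Noetherian ring in which 2 is invertible and P a flat A-algebra which is a local complete
intersection over A (of finite type, with Koszul-regular kernel for some polynomial presentation)
and whose fibres are generically smooth: every prime of P minimal among the primes of its fibre over
A lies in the smooth locus of A → P. Then the first homology of the naive cotangent complex of P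
over A vanishes, H_1(NL_{P/A}) = 0: for every presentation P = S/I by a polynomial A-algebra S the
conormal sequence 0 → I/I^2 → Ω_{S/A} ⊗_S P → Ω_{P/A} → 0 is exact on the left. Since the cotangent
complex of a local complete intersection is this two-term complex, it is quasi-isomorphic to Ω_{P/A}
in degree 0, which is the identification that makes T^1 = Ext^1(Ω_{P/A}, P) the degree-one
cohomology of RHom of the cotangent complex into P. (The text states the latter identification for a
flat local complete intersection morphism of Noetherian schemes with generically smooth fibres; the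
row is its affine content.) -/
theorem result
    (A : Type u) [CommRing A] [IsNoetherianRing A] (h2 : IsUnit (2 : A))
    (P : Type u) [CommRing P] [Algebra A P] [Module.Flat A P] (hlci : LCI.IsLCI A P)
    (hgs : ∀ 𝔓 : PrimeSpectrum P,
      (∀ 𝔔 : PrimeSpectrum P, 𝔔 ≤ 𝔓 →
          𝔔.asIdeal.comap (algebraMap A P) = 𝔓.asIdeal.comap (algebraMap A P) → 𝔔 = 𝔓) →
        𝔓 ∈ Algebra.smoothLocus A P) :
    Subsingleton (Algebra.H1Cotangent A P) := by
  obtain ⟨hft, n, f, hf, hker⟩ := id hlci
  haveI := hft
  haveI : IsNoetherianRing P := Algebra.FiniteType.isNoetherianRing A P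
  have hCM : ∀ (p : Ideal A) [p.IsPrime], LocCoh.IsCohenMacaulayRing (p.Fiber P) := fun p _ =>
    CI2.isCM_of_isLCIOver ((CI2.isSyntomic_of_flat_of_isLCI hlci).2.2 ⟨p, inferInstance⟩)
  let G : Algebra.Generators A P (Fin n) := Algebra.Generators.ofAlgHom f hf
  have hG : G.toExtension.ker = RingHom.ker f.toRingHom := by
    have : MvPolynomial.aeval G.val = f := MvPolynomial.algHom_ext fun i => by
      rw [MvPolynomial.aeval_X]; rfl
    conv_rhs => rw [← this]
    exact G.ker_eq_ker_aeval_val
  haveI : Module.Projective P G.toExtension.Cotangent :=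
    (CI2.finite_projective_extCotangent A P G.toExtension (hG ▸ hker)).2
  suffices ∀ z : G.toExtension.H1Cotangent, z = 0 from
    ⟨fun a b => G.equivH1Cotangent.symm.injective ((this _).trans (this _).symm)⟩
  intro z
  refine Algebra.Extension.h1Cotangentι_ext _ _ ?_
  show z.1 = 0
  obtain ⟨σ, hσ⟩ := Module.projective_def.1 ‹Module.Projective P G.toExtension.Cotangent›
  suffices σ z.1 = 0 by rw [← hσ z.1, this, map_zero]
  ext i
  rw [Finsupp.zero_apply]
  by_contra hne
  obtain ⟨q, hq, hle⟩ := exists_le_isAssociatedPrime_of_isNoetherianRing P (σ z.1 i) hne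
  haveI := hq.isPrime
  have hsm : Algebra.IsSmoothAt A q :=
    hgs ⟨q, inferInstance⟩ fun 𝔔 h𝔔 hc => PrimeSpectrum.ext
      (eq_of_le_of_mem_associatedPrimes hCM q hq 𝔔.asIdeal h𝔔 hc)
  haveI : Algebra.FormallySmooth A (Localization.AtPrime q) := hsm
  haveI : Subsingleton (Algebra.H1Cotangent A (Localization.AtPrime q)) := inferInstance
  obtain ⟨s, hs⟩ := (IsLocalizedModule.eq_zero_iff q.primeCompl
    (Algebra.H1Cotangent.map A A P (Localization.AtPrime q))).1
      (Subsingleton.elim (Algebra.H1Cotangent.map A A P (Localization.AtPrime q) (G.equivH1Cotangent z)) 0)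
  rw [Submonoid.smul_def, ← map_smul, LinearEquiv.map_eq_zero_iff] at hs
  have hs' : (s : P) • z.1 = 0 := congrArg Subtype.val hs
  refine s.2 (hle ?_)
  rw [Submodule.mem_colon_singleton, Submodule.mem_bot, ← Finsupp.smul_apply, ← map_smul, hs', map_zero, Finsupp.zero_apply]

end Groth.Agent.S18126
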