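import Groth.Statements.S18127
import Mathlib
-- import your own Groth.Agent.* helpers here

set_option autoImplicit false
universe u
open LocAlg

namespace Groth.Agent.S18127

/-- Let R be a local ring with maximal ideal m and algebraically closed residue field, and M an n × n
matrix over R whose reduction modulo m has rank at most r. Then the determinant of M lies in m^(n −
r). (The published setting is the local ring of germs of holomorphic functions at a point of a
complex manifold, where this says that the determinant vanishes to order at least n − r at a point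
where the matrix has rank at most r.) -/
theorem result
    {R : Type u} [CommRing R] [IsLocalRing R] [IsAlgClosed (IsLocalRing.ResidueField R)]
    {n : ℕ} (M : Matrix (Fin n) (Fin n) R) (r : ℕ)
    (hr : (M.map (IsLocalRing.residue R)).rank ≤ r) :
    M.det ∈ IsLocalRing.maximalIdeal R ^ (n - r) := by
  obtain ⟨L, L', D, hD⟩ :=
    Matrix.Pivot.exists_list_transvec_mul_mul_list_transvec_eq_diagonal
      (M.map (IsLocalRing.residue R))
  classical
  let P := (L.map Matrix.TransvectionStruct.toMatrix).prod
  let Q := (L'.map Matrix.TransvectionStruct.toMatrix).prod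
  have hP : P.det = 1 := Matrix.TransvectionStruct.det_toMatrix_prod L
  have hQ : Q.det = 1 := Matrix.TransvectionStruct.det_toMatrix_prod L'
  have hcard : n - r ≤ (Finset.univ.filter fun i => D i = 0).card := by
    have h1 : (Matrix.diagonal D).rank ≤ r := by
      rw [← hD]
      exact ((Matrix.rank_mul_le_left _ _).trans (Matrix.rank_mul_le_right _ _)).trans hr
    rw [Matrix.rank_diagonal, Fintype.card_subtype] at h1
    have h2 := Finset.card_filter_add_card_filter_not (s := (Finset.univ : Finset (Fin n)))
      (fun i => D i ≠ 0)
    simp only [not_not, Finset.card_univ, Fintype.card_fin] at h2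
    omega
  obtain ⟨P', hP'⟩ : ∃ P' : Matrix (Fin n) (Fin n) R, P'.map (IsLocalRing.residue R) = P :=
    ⟨P.map (Function.surjInv IsLocalRing.residue_surjective), by
      ext i j; exact Function.surjInv_eq IsLocalRing.residue_surjective _⟩
  obtain ⟨Q', hQ'⟩ : ∃ Q' : Matrix (Fin n) (Fin n) R, Q'.map (IsLocalRing.residue R) = Q :=
    ⟨Q.map (Function.surjInv IsLocalRing.residue_surjective), by
      ext i j; exact Function.surjInv_eq IsLocalRing.residue_surjective _⟩
  have hu : ∀ X : Matrix (Fin n) (Fin n) R, (X.map (IsLocalRing.residue R)).det = 1 →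
      IsUnit X.det := by
    intro X hX
    rw [← IsLocalRing.residue_ne_zero_iff_isUnit, RingHom.map_det]
    exact hX.trans_ne one_ne_zero
  have hmap : (P' * M * Q').map (IsLocalRing.residue R) = Matrix.diagonal D := by
    rw [Matrix.map_mul, Matrix.map_mul, hP', hQ']
    exact hD
  have hmem : (P' * M * Q').det ∈ IsLocalRing.maximalIdeal R ^ (n - r) := by
    rw [Matrix.det_apply]
    refine Ideal.sum_mem _ fun σ _ => ?_
    rw [Units.smul_def, zsmul_eq_mul]
    refine Ideal.mul_mem_left _ _ ?_
    rw [← Finset.prod_filter_mul_prod_filter_not _ (fun i => D (σ i) = 0)]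
    refine Ideal.mul_mem_right _ _ (Ideal.pow_le_pow_right ?_
      (Finset.prod_const (IsLocalRing.maximalIdeal R) ▸ Ideal.prod_mem_prod ?_))
    · refine hcard.trans (Finset.card_le_card_of_injOn σ.symm (fun i hi => ?_)
        (σ.symm.injective.injOn))
      simpa using hi
    · intro i hi
      rw [Finset.mem_filter] at hi
      rw [← IsLocalRing.residue_eq_zero_iff,
        show IsLocalRing.residue R ((P' * M * Q') (σ i) i) = Matrix.diagonal D (σ i) i from
          congrFun (congrFun hmap (σ i)) i]
      rw [Matrix.diagonal_apply]
      split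
      · exact hi.2
      · rfl
  rw [Matrix.det_mul, Matrix.det_mul] at hmem
  exact (Ideal.unit_mul_mem_iff_mem _ (hu P' (hP' ▸ hP))).mp
    ((Ideal.mul_unit_mem_iff_mem _ (hu Q' (hQ' ▸ hQ))).mp hmem)

end Groth.Agent.S18127
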