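import Groth.Statements.S18128
import Groth.Agent.Lib.BE1.Punctured

set_option autoImplicit false
universe u
open CAlg

namespace Groth.Agent.S18128




/-- Local step of Buchsbaum–Eisenbud: let R be a Noetherian local ring with maximal ideal m, and 0 →
R^(n_e) → ⋯ → R^(n_1) → R^(n_0) a complex of finite free modules, the map R^(n_(i+1)) → R^(n_i)
being given by the matrix A i, with 1 ≤ e and e at most the depth of R (there is an R-regular
sequence of length e inside m). If for every prime ideal p ≠ m the complex of matrices over R_p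
obtained by localization is exact at R_p^(n_e), …, R_p^(n_1), then the complex is exact at R^(n_e),
…, R^(n_1). -/
theorem result
    {R : Type u} [CommRing R] [IsLocalRing R] [IsNoetherianRing R]
    (e : ℕ) (he : 1 ≤ e) (n : ℕ → ℕ) (A : (i : ℕ) → Matrix (Fin (n i)) (Fin (n (i + 1))) R)
    (hA : ∀ i, i + 2 ≤ e → A i * A (i + 1) = 0)
    (rs : List R) (hlen : rs.length = e) (hmem : ∀ x ∈ rs, x ∈ IsLocalRing.maximalIdeal R)
    (hreg : RingTheory.Sequence.IsRegular R rs)
    (hloc : ∀ (p : Ideal R) [p.IsPrime], p ≠ IsLocalRing.maximalIdeal R →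
      LinearMap.ker ((A (e - 1)).map (algebraMap R (Localization.AtPrime p))).mulVecLin = ⊥ ∧
        ∀ i, i + 2 ≤ e →
          LinearMap.ker ((A i).map (algebraMap R (Localization.AtPrime p))).mulVecLin =
            LinearMap.range ((A (i + 1)).map (algebraMap R (Localization.AtPrime p))).mulVecLin) :
    LinearMap.ker (A (e - 1)).mulVecLin = ⊥ ∧
      ∀ i, i + 2 ≤ e → LinearMap.ker (A i).mulVecLin = LinearMap.range (A (i + 1)).mulVecLin := by
  open Groth.Agent in
  refine BE1.result_of_ex he hA (BE1.ex_of_punct e R n A hA ?_ rs hlen.ge hmem hreg.toIsWeaklyRegular)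
  intro p _ hp j hj v hv
  obtain ⟨h1, h2⟩ := hloc p hp
  have hv' : algebraMap R (Localization.AtPrime p) ∘ v ∈
      LinearMap.ker ((A j).map (algebraMap R (Localization.AtPrime p))).mulVecLin := by
    rw [LinearMap.mem_ker, Matrix.mulVecLin_apply, Groth.Agent.BE1.map_mulVec, hv]
    funext i
    exact map_zero _
  by_cases h : j + 1 < e
  · rw [h2 j (by omega)] at hv'
    obtain ⟨t, ht, htv⟩ := Groth.Agent.BE1.exists_smul_mem_range_of_map p.primeCompl _ (A (j + 1)) v hv'
    exact ⟨t, ht, by rw [Groth.Agent.BE1.bd, if_pos h]; exact htv⟩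
  · obtain rfl : j = e - 1 := by omega
    rw [h1] at hv'
    obtain ⟨t, ht, htv⟩ := Groth.Agent.BE1.exists_smul_mem_range_of_map p.primeCompl (Localization.AtPrime p)
      (0 : Matrix (Fin (n (e - 1 + 1))) (Fin 0) R) v (by rw [(Submodule.mem_bot _).mp hv']; exact zero_mem _)
    rw [Matrix.mulVecLin_zero, LinearMap.range_zero] at htv
    exact ⟨t, ht, by rw [Groth.Agent.BE1.bd, if_neg h]; exact htv⟩

end Groth.Agent.S18128
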