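import Groth.Statements.S18129
import Groth.Agent.Lib.SurfRR10.Curves

set_option autoImplicit false
set_option linter.style.haveILetI false
set_option maxHeartbeats 2000000
set_option backward.isDefEq.respectTransparency false
set_option backward.isDefEq.respectTransparency.types false
universe u
open CategoryTheory CategoryTheory.Limits AlgebraicGeometry
open Surf

namespace Groth.Agent.S18129

noncomputable local instance instLawS18129 (Y : Scheme.{u}) : PicGrp.Law Y := M2.law Y

/-- Let X be a K3 surface over an algebraically closed field k of characteristic zero — an integral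
scheme, smooth and proper over k, of dimension two, carrying an ample invertible module, whose
structure sheaf is a second exterior power of its sheaf of differentials (trivial canonical sheaf)
and with H^1(X, O_X) = 0. If L is an invertible O_X-module which is numerically trivial — the
intersection number (L·M), the alternating sum χ(O_X) − χ(L) − χ(M) + χ(L ⊗ M) of Euler
characteristics, vanishes for every invertible O_X-module M — then L ≅ O_X. Consequently the natural
surjections from Pic(X) to the Néron–Severi group and to the group of numerical equivalence classes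
are bijective. -/
theorem result (k : Type u) [Field k] [IsAlgClosed k] [CharZero k]
    (X : Scheme.{u}) [X.Over (Spec (CommRingCat.of k))] [IsIntegral X]
    [Smooth (X ↘ Spec (CommRingCat.of k))] (hdim : topologicalKrullDim X = 2)
    [IsProper (X ↘ Spec (CommRingCat.of k))]
    (H : X.Modules) (hHa : CohB1.IsAmple H)
    (hK : Canon.IsTopDiff (X ↘ Spec (CommRingCat.of k)) 2 (Coh.structureModule X))
    (hq : Module.finrank k (Coh.HH X (Coh.structureModule X) 1) = 0)
    (L : X.Modules) (hL : PicF.IsInvertible L)
    (hnum : ∀ M : X.Modules, PicF.IsInvertible M →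
      FGA.intNum k X 2 ![L, M] (Coh.structureModule X) = 0) :
    Nonempty (L ≅ Coh.structureModule X) := by
  have hd := SurfRR10.dim_eq (k := k) hdim
  have hOi := PicLoc.isInvertible_structureModule X
  have hw1 : PicGrp.cls (Coh.structureModule X) hOi = 1 := PicGrp.cls_structureModule_eq_one ..
  haveI : IsNoetherian X := CohFound.isNoetherian_of_isProper (X ↘ Spec (CommRingCat.of k))
  have hnum' : ∀ c : PicLoc.PicSet X, SymSq10.sdot k (PicGrp.cls L hL) c = 0 := fun c => by
    have h := hnum _ (HypSq10.rep_inv c)
    rwa [SymSq10.intNum_eq' hd.le hL (HypSq10.rep_inv c), HypSq10.cls_rep] at h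
  have hdual : ∀ c : PicLoc.PicSet X, HypSq10.hh k 2 c = HypSq10.hh k 0 c⁻¹ := fun c => by
    refine (SurfRR10.finrank_duality hdim hK hOi c le_rfl).trans ?_
    rw [hw1, mul_one]; rfl
  have h00 : HypSq10.hh k 0 (1 : PicLoc.PicSet X) = 1 :=
    (CurveCoh17.hequiv k HypSq10.rep_one.some 0).finrank_eq.trans (SurfRR10.finrank_h0_eq_one (k := k))
  have hq' : HypSq10.hh k 1 (1 : PicLoc.PicSet X) = 0 :=
    (CurveCoh17.hequiv k HypSq10.rep_one.some 1).finrank_eq.trans hq
  have hrr := SurfRR10.rr hdim hK hOi (PicGrp.cls L hL)
  rw [SurfRR10.phi, hnum', hnum', SymSq10.chi_eq_hh2 hd.le, SymSq10.chi_eq_hh2 hd.le, hdual, hdual, inv_one, h00,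
    hq'] at hrr
  have key : ∀ c : PicLoc.PicSet X, 0 < HypSq10.hh k 0 c → SymSq10.sdot k c (PicGrp.cls H hHa.1) = 0 → c = 1 := by
    intro c hc h0
    haveI : Nontrivial (Coh.HH X (HypSq10.rep c) 0) := Module.nontrivial_of_finrank_pos (R := k) hc
    obtain ⟨φ, hφ⟩ := SurfRR10.exists_sec_of_nontrivial (k := k) hdim (HypSq10.rep_inv c) inferInstance
    have h := SurfRR10.eq_one_of_sdot_zero (k := k) hdim hHa (HypSq10.rep_inv c) φ hφ (by rw [HypSq10.cls_rep]; exact h0)
    rwa [HypSq10.cls_rep] at h
  refine (PicGrp.cls_eq_cls_iff hL hOi).1 (hw1.symm ▸ ?_)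
  by_cases h : 0 < HypSq10.hh k 0 (PicGrp.cls L hL)
  · exact key _ h (hnum' _)
  · exact inv_eq_one.1 (key _ (by omega) (by rw [SurfRR10.sdot_inv_left (k := k) hdim, hnum', neg_zero]))

end Groth.Agent.S18129
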