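import Groth.Statements.S18131
import Groth.Agent.Lib.LMEuler8.Main
import Groth.Agent.Lib.VB17.Bound
import Groth.Agent.Lib.LMEuler8.Free

set_option backward.isDefEq.respectTransparency false
set_option backward.isDefEq.respectTransparency.types false

set_option autoImplicit false
universe u
open CategoryTheory CategoryTheory.Limits AlgebraicGeometry
open Surf

namespace Groth.Agent.S18131

noncomputable local instance instLawS18131 (Y : Scheme.{u}) : PicGrp.Law Y := M2.law Y

/-- Let X be a K3 surface over an algebraically closed field k of characteristic zero — an integral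
scheme, smooth and proper over k, of dimension two, carrying an ample invertible module, whose
structure sheaf is a second exterior power of its sheaf of differentials (trivial canonical sheaf)
and with H^1(X, O_X) = 0. Let i : C → X be a closed immersion over k with C integral, smooth over k
and of dimension one, A an invertible O_C-module, and lam : O_X^e → i_*A an epimorphism from the
free module of rank e which induces a bijection H^0(X, O_X^e) → H^0(X, i_*A) (so e = h^0(C, A) and A
is generated by its global sections); let F be the kernel of lam, the Lazarsfeld–Mukai bundle of (C,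
A). Then the Euler characteristic of the sheaf of endomorphisms Hom(F, F) equals 2 − 2ρ(A), where
ρ(A) = g(C) − h^0(C, A) · h^1(C, A) is the Brill–Noether number and g(C) = dim_k H^1(C, O_C). -/
theorem result (k : Type u) [Field k] [IsAlgClosed k] [CharZero k]
    (X : Scheme.{u}) [X.Over (Spec (CommRingCat.of k))] [IsIntegral X]
    [Smooth (X ↘ Spec (CommRingCat.of k))] (hdim : topologicalKrullDim X = 2)
    [IsProper (X ↘ Spec (CommRingCat.of k))]
    (H : X.Modules) (hHa : CohB1.IsAmple H)
    (hK : Canon.IsTopDiff (X ↘ Spec (CommRingCat.of k)) 2 (Coh.structureModule X))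
    (hq : Module.finrank k (Coh.HH X (Coh.structureModule X) 1) = 0)
    (C : Scheme.{u}) [C.Over (Spec (CommRingCat.of k))] [IsIntegral C]
    [Smooth (C ↘ Spec (CommRingCat.of k))] (hC : topologicalKrullDim C = 1)
    (i : C ⟶ X) [IsClosedImmersion i] (hi : i ≫ (X ↘ Spec (CommRingCat.of k)) = C ↘ Spec (CommRingCat.of k))
    (A : C.Modules) (hA : PicF.IsInvertible A) (e : ℕ)
    (lam : FlatMod.freeMod X e ⟶ (Coh.push i).obj A) [Epi lam]
    (hlam : Function.Bijective (Sheaf.H.map ((SheafOfModules.toSheaf _).map lam) 0)) :
    Curv2.euler k X (RefHull.homSh (kernel lam) (kernel lam)) =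
      2 - 2 * ((Curv2.genus k C : ℤ) -
        (Module.finrank k (Coh.HH C A 0) : ℤ) * (Module.finrank k (Coh.HH C A 1) : ℤ)) := by
  have hK2 : ExtPow.IsExtPow 2 (Omega.sheaf (X ↘ Spec (CommRingCat.of k))) (Coh.structureModule X) := hK
  have hd : topologicalKrullDim X ≤ ((2 : ℕ) : WithBot ℕ∞) := by rw [hdim]; rfl
  haveI : SmoothOfRelativeDimension 2 (X ↘ Spec (CommRingCat.of k)) := SurfRR10.smoothRelDim (k := k) hdim
  haveI : IsNoetherian X := CohFound.isNoetherian_of_isProper (X ↘ Spec (CommRingCat.of k))
  haveI : IsProper (C ↘ Spec (CommRingCat.of k)) := by rw [← hi]; infer_instance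
  haveI : IsNoetherian C := CohFound.isNoetherian_of_isProper (C ↘ Spec (CommRingCat.of k))
  have hX : CurveCoh17.CurveLike k C := ⟨inferInstance, VB17.isSeparated_of_over (k := k), hC.le,
    fun M hM n => CohFound.finite_HH_of_isProper _ hM n⟩
  haveI := fun j => CohFound.finite_HH_of_isProper (A := k) _ (M1.isCoh_structureModule X) j
  have hA1 := (hX.adm (Snapper.isCoh_of_isInvertible hA)).euler_eq
  have hC1 := hX.euler_structureModule
  have h00 : Module.finrank k (Coh.HH C (Coh.structureModule C) 0) = 1 := SurfRR10.finrank_h0_eq_one (k := k)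
  have hX0 : Module.finrank k (Coh.HH X (Coh.structureModule X) 0) = 1 := SurfRR10.finrank_h0_eq_one (k := k)
  have hX2 : Module.finrank k (Coh.HH X (Coh.structureModule X) 2) = 1 := by
    rw [SerreDual8.finrank_duality 2 hK2 (PicLoc.isInvertible_structureModule X) (M2.tensorLUnit _) (p := 2) le_rfl,
      (CurveCoh17.hequiv k (M2.tensorLUnit (Coh.structureModule X)) (2 - 2)).finrank_eq]
    exact hX0
  have hχ : Curv2.euler k X (Coh.structureModule X) = 2 := by
    rw [← HypSq10.chi_one, SymSq10.chi_eq_hh2 hd]
    have e0 : ∀ j, HypSq10.hh k j (1 : PicLoc.PicSet X) = Module.finrank k (Coh.HH X (Coh.structureModule X) j) :=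
      fun j => (CurveCoh17.hequiv k HypSq10.rep_one.some j).finrank_eq
    rw [e0, e0, e0, hX0, hX2, hq]
    norm_num
  have he : Module.finrank k (Coh.HH C A 0) = e := by
    have hbij : Function.Bijective (CurveCoh17.hmap k lam 0) := hlam
    obtain ⟨p⟩ := AmpleFin18.nonempty_HH_push (k := k) i hi A (Snapper.isCoh_of_isInvertible hA).1 0
    rw [← p.finrank_eq, ← (LinearEquiv.ofBijective (CurveCoh17.hmap k lam 0) hbij).finrank_eq]
    rw [LMEuler8.finrank_HH_freeMod k e 0, hX0, Nat.mul_one]
  rw [LMEuler8.euler_endSheaf (k := k) hdim i hC hi hK2 hA e lam, hχ, he]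
  rw [hA1, hC1, h00, he]
  push_cast
  ring

end Groth.Agent.S18131
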