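import Groth.Statements.S18132
import Groth.Agent.Lib.LMSimple8.Simple

set_option backward.isDefEq.respectTransparency false
set_option backward.isDefEq.respectTransparency.types false

set_option autoImplicit false
universe u
open CategoryTheory CategoryTheory.Limits AlgebraicGeometry
open Surf

namespace Groth.Agent.S18132

/-- Simplicity of Lazarsfeld–Mukai bundles: let X be a K3 surface over an algebraically closed field k
of characteristic zero — an integral scheme, smooth and proper over k, of dimension two, carrying an
ample invertible module, whose structure sheaf is a second exterior power of its sheaf of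
differentials (trivial canonical sheaf) and with H^1(X, O_X) = 0. Let i : C → X be a closed
immersion over k with C integral, smooth over k and of dimension one, whose ideal sheaf I_C is
invertible with the Picard group of X infinite cyclic generated by its class. Let A be an invertible
O_C-module and lam : O_X^e → i_*A an epimorphism from the free module of rank e inducing a bijection
H^0(X, O_X^e) → H^0(X, i_*A), with kernel F (the Lazarsfeld–Mukai bundle of (C, A)). Then F is
simple: for every endomorphism φ of F there is c ∈ k with φ(s) = c·s for every local section s of F.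
(The published proof passes through the slope-stability of F with respect to O_X(C): a nonzero
endomorphism of a slope-stable torsion-free module is an isomorphism, and subtracting an eigenvalue
of φ at a closed point then forces φ to be a scalar.) -/
theorem result (k : Type u) [Field k] [IsAlgClosed k] [CharZero k]
    (X : Scheme.{u}) [X.Over (Spec (CommRingCat.of k))] [IsIntegral X]
    [Smooth (X ↘ Spec (CommRingCat.of k))] (hdim : topologicalKrullDim X = 2)
    [IsProper (X ↘ Spec (CommRingCat.of k))]
    (H : X.Modules) (hHa : CohB1.IsAmple H)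
    (hK : Canon.IsTopDiff (X ↘ Spec (CommRingCat.of k)) 2 (Coh.structureModule X))
    (hq : Module.finrank k (Coh.HH X (Coh.structureModule X) 1) = 0)
    [PicGrp.Law X]
    (C : Scheme.{u}) [C.Over (Spec (CommRingCat.of k))] [IsIntegral C]
    [Smooth (C ↘ Spec (CommRingCat.of k))] (hC : topologicalKrullDim C = 1)
    (i : C ⟶ X) [IsClosedImmersion i] (hi : i ≫ (X ↘ Spec (CommRingCat.of k)) = C ↘ Spec (CommRingCat.of k))
    (hI : PicF.IsInvertible (ClSub.idealMod i.ker))
    (hgen : ∀ c : PicLoc.PicSet X, ∃ n : ℤ, c = PicGrp.cls (ClSub.idealMod i.ker) hI ^ n)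
    (hfree : ∀ n : ℤ, PicGrp.cls (ClSub.idealMod i.ker) hI ^ n = 1 → n = 0)
    (A : C.Modules) (hA : PicF.IsInvertible A) (e : ℕ)
    (lam : FlatMod.freeMod X e ⟶ (Coh.push i).obj A) [Epi lam]
    (hlam : Function.Bijective (Sheaf.H.map ((SheafOfModules.toSheaf _).map lam) 0))
    (φ : kernel lam ⟶ kernel lam) :
    ∃ c : k, ∀ (V : X.Opens) (s : (kernel lam).val.obj (Opposite.op V)),
        (φ.val.app (Opposite.op V)) s =
          (X.ringCatSheaf.obj.map (homOfLE (le_top : V ≤ ⊤)).op
            (Coh.toGlobal (X ↘ Spec (CommRingCat.of k)) c : X.ringCatSheaf.obj.obj (Opposite.op ⊤))) • s := by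
  haveI : IsNoetherian X := CohFound.isNoetherian_of_isProper (X ↘ Spec (CommRingCat.of k))
  have hX : Pi1.IsNormalScheme X := RH26.isNormalScheme_of_regular fun x => SurfRR10.regular (k := k) x
  have hU : ∀ x : X, UniqueFactorizationMonoid (X.presheaf.stalk x) := fun x => by
    haveI := SurfRR10.regular (k := k) x
    haveI := Groth.Agent.RegLoc.isDomain (X.presheaf.stalk x)
    exact Groth.Agent.RegLoc.ufd_of_isRegularLocalRing (X.presheaf.stalk x)
  have hf : IsField (Γ(X, ⊤) : Type u) := isField_of_universallyClosed (K := k) (X ↘ Spec (CommRingCat.of k))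
  have hη := LMEuler8.genericPoint_notMem hdim i hC
  have hF : FlatMod.IsFinLocFreeOfRank e (kernel lam) := LMEuler8.isFinLocFreeOfRank_kernel (k := k) hdim i hC
    (M2.isFinLocFreeOfRank_freeMod X e) ((M2.isInvertible_iff_isFinLocFreeOfRank_one A).1 hA) lam
  have hbij : Function.Bijective (CurveCoh17.hmap k lam 0) := hlam
  have hno : ∀ s : Γ(kernel lam, ⊤), s = 0 := fun s => by
    have h1 : (kernel.ι lam).app ⊤ s = 0 := by
      refine (AddEquiv.map_eq_zero_iff (CurveCoh17.hh0 (FlatMod.freeMod X e)).symm).1 (hbij.1 ?_)
      rw [map_zero]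
      refine (CurveCoh17.hh0 _).injective ?_
      rw [CurveCoh17.hh0_hmap, AddEquiv.apply_symm_apply, map_zero]
      show ((kernel.ι lam) ≫ lam).app ⊤ s = 0
      rw [kernel.condition]
      rfl
    refine RH26.section_ext' (kernel lam) fun y hy => ?_
    rw [map_zero]
    refine (M1.mono_iff_stalk (kernel.ι lam)).1 inferInstance y ?_
    rw [map_zero]
    rw [M1.germ_naturality, h1, map_zero]
  by_cases he : e = 0
  · subst he
    refine ⟨0, fun V s => ?_⟩
    have hz : φ = 0 := RankTwo11.eq_zero_of_stalk_eq_zero hF hF φ fun a => by
      obtain ⟨j⟩ := CurveCoh17.nonempty_stalk_equiv hF (genericPoint X)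
      rw [show a = 0 from j.injective (Subsingleton.elim _ _), map_zero]
    subst hz
    rw [map_zero, map_zero, zero_smul]
    rfl
  obtain ⟨c, hc⟩ := VB17.exists_scalar_not_isIso (k := k) (Nat.pos_of_ne_zero he) hF φ
  refine ⟨c, fun V s => ?_⟩
  have h0 := LMSimple8.eq_zero_of_not_injective hX hU hf i hη hI hgen hfree hA lam hF hno
    (Formal.smulMod k (kernel lam) c - φ) fun hinj => hc (LMSimple8.isIso_of_injective hX hf i hη lam hF _ hinj)
  rw [← sub_eq_zero.1 h0]
  exact KLin.smulModΓ_app_apply (kernel lam) (Coh.toGlobal (X ↘ Spec (CommRingCat.of k)) c) V s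

end Groth.Agent.S18132
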