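import Groth.Statements.S18130
import Groth.Agent.S18131
import Groth.Agent.S18132
import Groth.Agent.Lib.LMSimple8.GlobGen
import Groth.Agent.Lib.LMSimple8.Euler

set_option backward.isDefEq.respectTransparency false
set_option backward.isDefEq.respectTransparency.types false

set_option autoImplicit false
universe u
open CategoryTheory CategoryTheory.Limits AlgebraicGeometry
open Surf

namespace Groth.Agent.S18130

/-- Let X be a K3 surface over an algebraically closed field k of characteristic zero — an integral
scheme, smooth and proper over k, of dimension two, carrying an ample invertible module, whose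
structure sheaf is a second exterior power of its sheaf of differentials (trivial canonical sheaf)
and with H^1(X, O_X) = 0. Let i : C → X be a closed immersion over k with C integral, smooth over k
and of dimension one, whose ideal sheaf I_C is invertible and such that the Picard group of X is
infinite cyclic, generated by the class of I_C (equivalently of O_X(C)). Then for every invertible
O_C-module A the Brill–Noether number is non-negative: h^0(C, A) · h^1(C, A) ≤ g(C), where g(C) =
dim_k H^1(C, O_C). -/
theorem result (k : Type u) [Field k] [IsAlgClosed k] [CharZero k]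
    (X : Scheme.{u}) [X.Over (Spec (CommRingCat.of k))] [IsIntegral X]
    [Smooth (X ↘ Spec (CommRingCat.of k))] (hdim : topologicalKrullDim X = 2)
    [IsProper (X ↘ Spec (CommRingCat.of k))]
    (H : X.Modules) (hHa : CohB1.IsAmple H)
    (hK : Canon.IsTopDiff (X ↘ Spec (CommRingCat.of k)) 2 (Coh.structureModule X))
    (hq : Module.finrank k (Coh.HH X (Coh.structureModule X) 1) = 0)
    [PicGrp.Law X]
    (C : Scheme.{u}) [C.Over (Spec (CommRingCat.of k))] [IsIntegral C]
    [Smooth (C ↘ Spec (CommRingCat.of k))] (hC : topologicalKrullDim C = 1)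
    (i : C ⟶ X) [IsClosedImmersion i] (hi : i ≫ (X ↘ Spec (CommRingCat.of k)) = C ↘ Spec (CommRingCat.of k))
    (hI : PicF.IsInvertible (ClSub.idealMod i.ker))
    (hgen : ∀ c : PicLoc.PicSet X, ∃ n : ℤ, c = PicGrp.cls (ClSub.idealMod i.ker) hI ^ n)
    (hfree : ∀ n : ℤ, PicGrp.cls (ClSub.idealMod i.ker) hI ^ n = 1 → n = 0)
    (A : C.Modules) (hA : PicF.IsInvertible A) :
    Module.finrank k (Coh.HH C A 0) * Module.finrank k (Coh.HH C A 1) ≤ Curv2.genus k C := by
  haveI : IsProper (C ↘ Spec (CommRingCat.of k)) := by rw [← hi]; infer_instance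
  haveI : IsNoetherian X := CohFound.isNoetherian_of_isProper (X ↘ Spec (CommRingCat.of k))
  have hK2 : ExtPow.IsExtPow 2 (Omega.sheaf (X ↘ Spec (CommRingCat.of k))) (Coh.structureModule X) := hK
  by_cases he0 : Module.finrank k (Coh.HH C A 0) = 0
  · rw [he0, Nat.zero_mul]
    exact Nat.zero_le _
  obtain ⟨B, hB, p, hep, hp, hB0, hB1⟩ := LMSimple8.exists_globGen hC A hA rfl he0
  haveI := hep
  obtain ⟨lam, hlamE, hbij⟩ := LMSimple8.exists_lam hdim i hi hB p hp hB0
  haveI := hlamE
  have hlam : Function.Bijective (Sheaf.H.map ((SheafOfModules.toSheaf _).map lam) 0) := hbij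
  have hs : ∀ φ : kernel lam ⟶ kernel lam, ∃ c : k, φ = Formal.smulMod k (kernel lam) c := fun φ => by
    obtain ⟨c, hc⟩ := S18132.result k X hdim H hHa hK hq C hC i hi hI hgen hfree B hB _ lam hlam φ
    refine ⟨c, Scheme.Modules.hom_ext _ _ fun V => ?_⟩
    refine ConcreteCategory.hom_ext _ _ fun s => ?_
    exact (hc V s).trans (KLin.smulModΓ_app_apply (kernel lam) (Coh.toGlobal (X ↘ Spec (CommRingCat.of k)) c) V s).symm
  have hF := LMEuler8.isFinLocFreeOfRank_kernel (k := k) hdim i hC
    (M2.isFinLocFreeOfRank_freeMod X _) ((M2.isInvertible_iff_isFinLocFreeOfRank_one B).1 hB) lam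
  have h2 := LMSimple8.euler_end_le_two (k := k) hdim hK2 (M2.isFinLocFree_of_ofRank hF) hs
  rw [S18131.result k X hdim H hHa hK hq C hC i hi B hB _ lam hlam, hB0] at h2
  refine (Nat.mul_le_mul_left _ hB1).trans ?_
  have h3 : ((Module.finrank k (Coh.HH C A 0) * Module.finrank k (Coh.HH C B 1) : ℕ) : ℤ) ≤ Curv2.genus k C := by
    push_cast
    linarith
  exact_mod_cast h3

end Groth.Agent.S18130
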