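import Groth.Statements.S18133
import Groth.Agent.Lib.LMSimple8.Slope
import Groth.Agent.Lib.LMSimple8.Hilb
import Groth.Agent.Lib.LMSimple8.Simple
import Groth.Agent.Lib.NumPoly18.Nakai

set_option backward.isDefEq.respectTransparency false
set_option backward.isDefEq.respectTransparency.types false
set_option maxHeartbeats 1600000

set_option autoImplicit false
universe u
open CategoryTheory CategoryTheory.Limits AlgebraicGeometry
open ShStab

namespace Groth.Agent.S18133

/-- Let X be a K3 surface over an algebraically closed field k of characteristic zero — an integral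
scheme, smooth and proper over k, of dimension two, carrying an ample invertible module, whose
structure sheaf is a second exterior power of its sheaf of differentials (trivial canonical sheaf)
and with H^1(X, O_X) = 0. Let i : C → X be a closed immersion over k with C integral, smooth over k
and of dimension one, whose ideal sheaf I_C is invertible with the Picard group of X infinite cyclic
generated by its class, and let H be an ample O_X-module which is a tensor inverse of I_C (the
module O_X(C)). Let A be an invertible O_C-module and lam : O_X^e → i_*A an epimorphism inducing a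
bijection H^0(X, O_X^e) → H^0(X, i_*A), with kernel F (the Lazarsfeld–Mukai bundle). Then F is
coherent with torsion-free stalks and is slope-stable of dimension 2 with respect to H: it has no
coherent submodule with one-dimensional support, and every coherent submodule whose multiplicity
lies strictly between 0 and that of F has strictly smaller slope. -/
theorem result (k : Type u) [Field k] [IsAlgClosed k] [CharZero k]
    (X : Scheme.{u}) [X.Over (Spec (CommRingCat.of k))] [IsIntegral X]
    [Smooth (X ↘ Spec (CommRingCat.of k))] (hdim : topologicalKrullDim X = 2)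
    [IsProper (X ↘ Spec (CommRingCat.of k))]
    (H : X.Modules) (hHa : CohB1.IsAmple H)
    (hK : Canon.IsTopDiff (X ↘ Spec (CommRingCat.of k)) 2 (Coh.structureModule X))
    (hq : Module.finrank k (Coh.HH X (Coh.structureModule X) 1) = 0)
    [PicGrp.Law X]
    (C : Scheme.{u}) [C.Over (Spec (CommRingCat.of k))] [IsIntegral C]
    [Smooth (C ↘ Spec (CommRingCat.of k))] (hC : topologicalKrullDim C = 1)
    (i : C ⟶ X) [IsClosedImmersion i] (hi : i ≫ (X ↘ Spec (CommRingCat.of k)) = C ↘ Spec (CommRingCat.of k))
    (hI : PicF.IsInvertible (ClSub.idealMod i.ker))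
    (hgen : ∀ c : PicLoc.PicSet X, ∃ n : ℤ, c = PicGrp.cls (ClSub.idealMod i.ker) hI ^ n)
    (hfree : ∀ n : ℤ, PicGrp.cls (ClSub.idealMod i.ker) hI ^ n = 1 → n = 0)
    (Hc : X.Modules) (hHc : ClSub.IsInverseOf Hc (ClSub.idealMod i.ker)) (hHca : CohB1.IsAmple Hc)
    (A : C.Modules) (hA : PicF.IsInvertible A) (e : ℕ)
    (lam : FlatMod.freeMod X e ⟶ (Coh.push i).obj A) [Epi lam]
    (hlam : Function.Bijective (Sheaf.H.map ((SheafOfModules.toSheaf _).map lam) 0)) :
    Coh.IsCoh (kernel lam) ∧ TorSh.IsTorsionFree (kernel lam) ∧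
      ShStab.IsMuStable k X Hc (kernel lam) 2 := by
  haveI : IsNoetherian X := CohFound.isNoetherian_of_isProper (X ↘ Spec (CommRingCat.of k))
  haveI : IsProper (C ↘ Spec (CommRingCat.of k)) := by rw [← hi]; infer_instance
  have hX : Pi1.IsNormalScheme X := RH26.isNormalScheme_of_regular fun x => SurfRR10.regular (k := k) x
  have hU : ∀ x : X, UniqueFactorizationMonoid (X.presheaf.stalk x) := fun x => by
    haveI := SurfRR10.regular (k := k) x
    haveI := Groth.Agent.RegLoc.isDomain (X.presheaf.stalk x)
    exact Groth.Agent.RegLoc.ufd_of_isRegularLocalRing (X.presheaf.stalk x)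
  have hη := LMEuler8.genericPoint_notMem hdim i hC
  have hA1 := (M2.isInvertible_iff_isFinLocFreeOfRank_one A).1 hA
  have hF : FlatMod.IsFinLocFreeOfRank e (kernel lam) := LMEuler8.isFinLocFreeOfRank_kernel (k := k) hdim i hC
    (M2.isFinLocFreeOfRank_freeMod X e) hA1 lam
  have hFc : Coh.IsCoh (kernel lam) := CurveCoh17.isCoh_of_ofRank hF
  have htf : TorSh.IsTorsionFree (kernel lam) := fun c => by
    obtain ⟨j⟩ := CurveCoh17.nonempty_stalk_equiv hF c
    haveI := Module.Free.of_equiv j.symm
    show Module.IsTorsionFree (X.presheaf.stalk c) ((kernel lam).presheaf.stalk c)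
    infer_instance
  have hrefl : ∀ y : X, RefHull.IsReflexiveAt (kernel lam) y := fun y => by
    obtain ⟨j⟩ := CurveCoh17.nonempty_stalk_equiv hF y
    haveI : Module.Finite (X.presheaf.stalk y) ((kernel lam).presheaf.stalk y) := Module.Finite.equiv j.symm
    haveI := Module.Free.of_equiv j.symm
    show Module.IsReflexive (X.presheaf.stalk y) ((kernel lam).presheaf.stalk y)
    infer_instance
  have cF : RH26.Closed1 (kernel lam) :=
    (RH26.isReflexive_iff_closed1 hX hFc).1 ((RH26.isReflexive_iff_stalks hFc).2 hrefl)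
  have hbij : Function.Bijective (CurveCoh17.hmap k lam 0) := hlam
  have hno : ∀ s : Coh.structureModule X ⟶ kernel lam, s = 0 := fun s => by
    refine M1.unit_hom_ext ?_
    have h1 : ((s ≫ kernel.ι lam)).app ⊤ (M1.one ⊤) = 0 := by
      refine (AddEquiv.map_eq_zero_iff (CurveCoh17.hh0 (FlatMod.freeMod X e)).symm).1 (hbij.1 ?_)
      rw [map_zero]
      refine (CurveCoh17.hh0 _).injective ?_
      rw [CurveCoh17.hh0_hmap, AddEquiv.apply_symm_apply, map_zero]
      show ((s ≫ kernel.ι lam) ≫ lam).app ⊤ (M1.one ⊤) = 0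
      rw [Category.assoc, kernel.condition, comp_zero]
      rfl
    exact (M1.app_injective (kernel.ι lam) ⊤ (h1.trans (map_zero _).symm)).trans rfl
  -- the invariants
  have hpos := ShStab28.positive k hHca
  let S := ShStab28.sys k X Hc hHca.1 hpos
  have he0 : e ≠ 0 := fun h0 => by
    subst h0
    obtain ⟨g, hg⟩ := Cyc26.exists_gen hA (genericPoint C)
    obtain ⟨b, hb⟩ := CurveCoh17.nonempty_stalk_equiv (M2.isFinLocFreeOfRank_freeMod X 0) (i (genericPoint C)) |>.elim
      fun j => (⟨0, fun a => j.injective (Subsingleton.elim _ _)⟩ :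
        ∃ b : (FlatMod.freeMod X 0).presheaf.stalk (i (genericPoint C)), ∀ a, a = b)
    have hsub : Subsingleton (((Coh.push i).obj A).presheaf.stalk (i (genericPoint C))) := by
      have hs : Function.Surjective (RefHull.stalkMapₗ lam (i (genericPoint C))) :=
        (M1.epi_iff_stalk lam).1 inferInstance _
      exact ⟨fun x y => by obtain ⟨x, rfl⟩ := hs x; obtain ⟨y, rfl⟩ := hs y; rw [hb x, hb y]⟩
    have h1 := Cyc26.length_stalk_push_closedImmersion i A (genericPoint C)
    rw [Module.length_eq_zero_iff.2 hsub] at h1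
    haveI := Module.length_eq_zero_iff.1 h1.symm
    exact RH26.ne_zero_of_gen hg (Subsingleton.elim _ _)
  set R : ℚ := (Curv2.deg k C ((Scheme.Modules.pullback i).obj Hc) 1 : ℚ) with hRdef
  have hR : 0 < R := by
    rw [hRdef]
    exact_mod_cast CurveAmple18.deg_pos_of_isAmple (k := k) hC (Amp.isAmple_pullback_of_isAffineHom i hHca)
  have hpush : ∀ {N : C.Modules}, PicF.IsInvertible N →
      StabCat.alpha 2 (ShStab28.hilb k X Hc ((Coh.push i).obj N)) = 0 ∧
      StabCat.alpha 1 (ShStab28.hilb k X Hc ((Coh.push i).obj N)) = R := fun {N} hN => by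
    rw [LMSimple8.hilb_push hC i hi hHca.1 hN]
    simp only [StabCat.alpha, Polynomial.coeff_add, Polynomial.coeff_C_mul, Polynomial.coeff_C, Polynomial.coeff_X]
    norm_num [hRdef]
  set a := StabCat.alpha 2 (ShStab28.hilb k X Hc (Coh.structureModule X)) with hadef
  set b := StabCat.alpha 1 (ShStab28.hilb k X Hc (Coh.structureModule X)) with hbdef
  have hFsum : ShStab28.hilb k X Hc (FlatMod.freeMod X e) =
      ShStab28.hilb k X Hc (kernel lam) + ShStab28.hilb k X Hc ((Coh.push i).obj A) :=
    ShStab28.hilb_add k hHca.1 (S := ShortComplex.mk (kernel.ι lam) lam (kernel.condition lam))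
      { exact := ShortComplex.exact_kernel lam } hFc (CurveCoh17.isCoh_of_ofRank (M2.isFinLocFreeOfRank_freeMod X e))
      (CohFound.isCoh_push_closedImm i (Snapper.isCoh_of_isInvertible hA))
  rw [LMSimple8.hilb_freeMod hHca.1] at hFsum
  have hF2 : StabCat.alpha 2 (ShStab28.hilb k X Hc (kernel lam)) = e * a := by
    have h := congrArg (StabCat.alpha 2) hFsum
    rw [ShStab28.alpha_smul, ShStab28.alpha_add, (hpush hA).1] at h
    linarith
  have hF1 : StabCat.alpha 1 (ShStab28.hilb k X Hc (kernel lam)) = e * b - R := by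
    have h := congrArg (StabCat.alpha 1) hFsum
    rw [ShStab28.alpha_smul, ShStab28.alpha_add, (hpush hA).2] at h
    linarith
  have hIR : StabCat.alpha 1 (ShStab28.hilb k X Hc (ClSub.idealMod i.ker)) ≤ b - R := by
    obtain ⟨q⟩ := NumPoly18.nonempty_quotMod_ker i
    have hqc : Coh.IsCoh (ClSub.quotMod i.ker) := CohFound.isCoh_of_iso q.symm
      (CohFound.isCoh_push_closedImm i (M1.isCoh_structureModule C))
    have hs : ShStab28.hilb k X Hc (Coh.structureModule X) =
        ShStab28.hilb k X Hc (ClSub.idealMod i.ker) + ShStab28.hilb k X Hc (ClSub.quotMod i.ker) :=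
      ShStab28.hilb_add k hHca.1 (S := ShortComplex.mk (ClSub.idealModι i.ker) (ClSub.toSubscheme i.ker) (kernel.condition _))
        (M2.shortExact_idealMod i.ker) (Snapper.isCoh_of_isInvertible hI)
        (M1.isCoh_structureModule X) hqc
    rw [← ShStab28.hilb_iso k hHca.1 q hqc] at hs
    have h := congrArg (StabCat.alpha 1) hs
    rw [ShStab28.alpha_add, (hpush (PicLoc.isInvertible_structureModule C)).2] at h
    linarith
  have hP := ShStab28.isPure_of_closed1 cF (n := 2) hdim
  have hF0 : ¬ IsZero (kernel lam) := fun hz => by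
    obtain ⟨j⟩ := CurveCoh17.nonempty_stalk_equiv hF (genericPoint X)
    haveI : Subsingleton ((kernel lam).presheaf.stalk (genericPoint X)) :=
      AddCommGrpCat.subsingleton_of_isZero ((M1.stalkAb (genericPoint X)).map_isZero hz)
    haveI : Nonempty (Fin e) := ⟨⟨0, Nat.pos_of_ne_zero he0⟩⟩
    exact zero_ne_one (α := Fin e → X.presheaf.stalk (genericPoint X)) (j.symm.injective (Subsingleton.elim _ _))
  refine ⟨hFc, htf, hFc, hF0, hP _ (𝟙 _) inferInstance hFc hF0, fun G ι hι hG h => ?_, fun G ι hι hG pG pF hpG hpF h0 h1 => ?_⟩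
  · by_cases hz : IsZero G
    · haveI : IsEmpty (CohB1.support G) := Set.isEmpty_coe_sort.mpr (Set.eq_empty_of_forall_notMem fun x hx =>
        hx (AddCommGrpCat.subsingleton_of_isZero ((M1.stalkAb x).map_isZero hz)))
      haveI : IsEmpty (TopologicalSpace.IrreducibleCloseds (CohB1.support G)) :=
        ⟨fun s => IsEmpty.false (α := CohB1.support G) s.isIrreducible'.nonempty.some⟩
      rw [topologicalKrullDim, Order.krullDim_eq_bot] at h
      simp at h
    · rw [hP G ι hι hG hz] at h
      exact absurd h (by decide)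
  · haveI : Mono (ClSub.idealModι i.ker) := inferInstanceAs (Mono (kernel.ι (ClSub.toSubscheme i.ker)))
    haveI := hι
    rw [(ShStab28.isHilbPoly_iff k hHca.1 hG).1 hpG] at h0 h1 ⊢
    rw [(ShStab28.isHilbPoly_iff k hHca.1 hFc).1 hpF] at h1 ⊢
    have hιI : ClSub.idealModι i.ker ≠ 0 := fun h => by
      obtain ⟨v, hv⟩ := (LMSimple8.bijective_idealι i hη).2 (RH26.str (genericPoint X) 1)
      rw [CurveCoh17.stalkLin_apply, h, Functor.map_zero] at hv
      exact RH26.str_one_ne_zero hv.symm
    have hjm : ∀ (T : X.Modules) (t : T ⟶ G), (∀ j, t ≫ (ι ≫ kernel.ι lam ≫ LMSimple8.prj j) = 0) → t = 0 :=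
      fun T t ht => by
      refine (cancel_mono (ι ≫ kernel.ι lam)).1 ?_
      rw [zero_comp, ← Category.comp_id (t ≫ ι ≫ kernel.ι lam), ← LMSimple8.sum_prj, Preadditive.comp_sum]
      refine Finset.sum_eq_zero fun j _ => ?_
      rw [← Category.assoc, show (t ≫ ι ≫ kernel.ι lam) ≫ LMSimple8.prj j = 0 by
        rw [Category.assoc, Category.assoc]; exact ht j, zero_comp]
    have hG0 : ¬ IsZero G := fun hz => by
      rw [show ShStab28.hilb k X Hc G = 0 from ShStab28.Sys.hp_zero S hz, ShStab28.alpha_zero] at h0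
      exact lt_irrefl _ h0
    have hb := (LMSimple8.slope_bound (k := k) hdim hHca hX hU hI (ClSub.idealModι i.ker) hιI hgen hR.le hIR cF hno e G hG
      (fun j => ι ≫ kernel.ι lam ≫ LMSimple8.prj j) hjm).2 hG0 ι hι
    rw [hF2] at h1
    show StabCat.alpha 1 (ShStab28.hilb k X Hc G) / StabCat.alpha 2 (ShStab28.hilb k X Hc G) <
      StabCat.alpha 1 (ShStab28.hilb k X Hc (kernel lam)) / StabCat.alpha 2 (ShStab28.hilb k X Hc (kernel lam))
    rw [hF1, hF2, div_lt_div_iff₀ h0 (h0.trans h1)]
    have he' : (0 : ℚ) ≤ e := Nat.cast_nonneg e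
    nlinarith [mul_le_mul_of_nonneg_left hb he', mul_lt_mul_of_pos_left h1 hR]

end Groth.Agent.S18133
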