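import Groth.Statements.S18134
import Groth.Agent.Lib.LMEuler8.Main
import Groth.Agent.Lib.LMEuler8.Free
import Groth.Agent.Lib.NumPoly18.SecImage
import Groth.Agent.Lib.CohMop.Bidual

set_option backward.isDefEq.respectTransparency false
set_option backward.isDefEq.respectTransparency.types false
set_option maxHeartbeats 1600000

set_option autoImplicit false
universe u
open CategoryTheory CategoryTheory.Limits AlgebraicGeometry
open Surf

namespace Groth.Agent.S18134

open MonoidalCategory
open scoped Groth.Agent.DMon9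

theorem subsingleton_free_tensor {k : Type u} [Field k] {X : Scheme.{u}} [X.Over (Spec (CommRingCat.of k))]
    (D : X.Modules) (r n : ℕ) (h : Subsingleton (Coh.HH X D n)) :
    Subsingleton (Coh.HH X (CohB1.tensorMod (FlatMod.freeMod X r) D) n) := by
  haveI : HasFiniteBiproducts X.Modules := HasFiniteBiproducts.of_hasFiniteProducts
  let G : Fin r → X.Modules := fun _ => Coh.structureModule X
  let T := M2.tensorR D
  haveI : ∀ j, Subsingleton (Coh.HH X (T.obj (G j)) n) := fun j =>
    (CurveCoh17.hequiv k (M2.tensorLUnit D) n).toEquiv.subsingleton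
  haveI : Subsingleton (Coh.HH X (T.obj (⨁ G)) n) := subsingleton_of_forall_eq 0 fun x => by
    rw [← CurveCoh17.hmap_id k (T.obj (⨁ G)) n x, ← CategoryTheory.Functor.map_id, ← biproduct.total,
      Functor.map_sum, LMEuler8.hmap_sum]
    refine Finset.sum_eq_zero fun j _ => ?_
    haveI := this j
    rw [Functor.map_comp, CurveCoh17.hmap_comp,
      Subsingleton.elim (CurveCoh17.hmap k (T.map (biproduct.π G j)) n x) 0, map_zero]
  exact (CurveCoh17.hequiv k (T.mapIso (biproduct.isoCoproduct G)) n).toEquiv.symm.subsingleton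

/-- The step h^1 = 1: let X be a K3 surface over an algebraically closed field k of characteristic zero
— an integral scheme, smooth and proper over k, of dimension two, carrying an ample invertible
module, whose structure sheaf is a second exterior power of its sheaf of differentials (trivial
canonical sheaf) and with H^1(X, O_X) = 0. Let i : C → X be a closed immersion over k with C
integral, smooth over k and of dimension one, A an invertible O_C-module and lam : O_X^e → i_*A an
epimorphism from the free module of rank e inducing a bijection H^0(X, O_X^e) → H^0(X, i_*A), with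
kernel F (the Lazarsfeld–Mukai bundle). If F is simple, in the sense that H^0(X, Hom(F, F)) is
one-dimensional, then H^1(X, F^∨ ⊗ i_*A) is one-dimensional, F^∨ = Hom(F, O_X) being the dual. (The
published lemma, for a K3 surface whose Picard group is generated by the class of C, asserts that
H^1 of the normal-bundle map of C in X × P(V), V = H^0(C, A), is an isomorphism; this row assumes
the simplicity that the Picard hypothesis supplies and states the cohomological equality that
assertion reduces to.) -/
theorem result (k : Type u) [Field k] [IsAlgClosed k] [CharZero k]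
    (X : Scheme.{u}) [X.Over (Spec (CommRingCat.of k))] [IsIntegral X]
    [Smooth (X ↘ Spec (CommRingCat.of k))] (hdim : topologicalKrullDim X = 2)
    [IsProper (X ↘ Spec (CommRingCat.of k))]
    (H : X.Modules) (hHa : CohB1.IsAmple H)
    (hK : Canon.IsTopDiff (X ↘ Spec (CommRingCat.of k)) 2 (Coh.structureModule X))
    (hq : Module.finrank k (Coh.HH X (Coh.structureModule X) 1) = 0)
    (C : Scheme.{u}) [C.Over (Spec (CommRingCat.of k))] [IsIntegral C]
    [Smooth (C ↘ Spec (CommRingCat.of k))] (hC : topologicalKrullDim C = 1)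
    (i : C ⟶ X) [IsClosedImmersion i] (hi : i ≫ (X ↘ Spec (CommRingCat.of k)) = C ↘ Spec (CommRingCat.of k))
    (A : C.Modules) (hA : PicF.IsInvertible A) (e : ℕ)
    (lam : FlatMod.freeMod X e ⟶ (Coh.push i).obj A) [Epi lam]
    (hlam : Function.Bijective (Sheaf.H.map ((SheafOfModules.toSheaf _).map lam) 0))
    (hsimple : Module.finrank k (Coh.HH X (RefHull.homSh (kernel lam) (kernel lam)) 0) = 1) :
    Module.finrank k (Coh.HH X (CohB1.tensorMod (RefHull.dual (kernel lam)) ((Coh.push i).obj A)) 1) = 1 := by
  have hK2 : ExtPow.IsExtPow 2 (Omega.sheaf (X ↘ Spec (CommRingCat.of k))) (Coh.structureModule X) := hK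
  haveI : SmoothOfRelativeDimension 2 (X ↘ Spec (CommRingCat.of k)) := SurfRR10.smoothRelDim (k := k) hdim
  haveI : IsNoetherian X := CohFound.isNoetherian_of_isProper (X ↘ Spec (CommRingCat.of k))
  let F := kernel lam
  have hF : FlatMod.IsFinLocFreeOfRank e F := LMEuler8.isFinLocFreeOfRank_kernel (k := k) hdim i hC
    (M2.isFinLocFreeOfRank_freeMod X e) ((M2.isInvertible_iff_isFinLocFreeOfRank_one _).1 hA) lam
  have hFf := M2.isFinLocFree_of_ofRank hF
  let D := CohMop.dual F
  have hDf : FlatMod.IsFinLocFree D := CohMop.isFinLocFree_dual hFf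
  have hS : (ShortComplex.mk (kernel.ι lam) lam (kernel.condition lam)).ShortExact :=
    { exact := ShortComplex.exact_kernel lam }
  haveI := CohFound.finite_HH_of_isProper (A := k) _ (M1.isCoh_structureModule X) 1
  haveI hO1 : Subsingleton (Coh.HH X (Coh.structureModule X) 1) := (Module.finrank_zero_iff (R := k)).1 hq
  haveI : Subsingleton (Coh.HH X (FlatMod.freeMod X e) 1) := by
    haveI := CohFound.finite_HH_of_isProper (A := k) (X := X) _
      (CurveCoh17.isCoh_of_ofRank (M2.isFinLocFreeOfRank_freeMod X e)) 1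
    refine (Module.finrank_zero_iff (R := k)).1 ?_
    rw [LMEuler8.finrank_HH_freeMod k e 1, hq, mul_zero]
  have hF0 : Subsingleton (Coh.HH X F 0) := subsingleton_of_forall_eq 0 fun x => by
    refine NumPoly18.hmap_injective_of_mono (k := k) (kernel.ι lam) ?_
    rw [map_zero]
    refine hlam.1 ?_
    show CurveCoh17.hmap k lam 0 _ = CurveCoh17.hmap k lam 0 0
    rw [map_zero, ← CurveCoh17.hmap_comp, kernel.condition, CurveCoh17.hmap_zero]
  have hF1 : Subsingleton (Coh.HH X F 1) := subsingleton_of_forall_eq 0 fun x => by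
    obtain ⟨y, rfl⟩ := (CurveCoh17.exact_hdelta_hmap k hS 0 x).1 (Subsingleton.elim _ _)
    obtain ⟨z, rfl⟩ := hlam.2 y
    exact (CurveCoh17.exact_hmap_hdelta k hS 0).apply_apply_eq_zero z
  have hcoh : ∀ {E : X.Modules}, FlatMod.IsFinLocFree E → Coh.IsCoh E := fun {E} hE =>
    ⟨M1.isFP_isQCoh (M1.isFP_of_isFinLocFree hE), M1.isFP_isFT (M1.isFP_of_isFinLocFree hE)⟩
  have hD1 : Subsingleton (Coh.HH X D 1) := by
    haveI := CohFound.finite_HH_of_isProper (A := k) _ (hcoh hDf) 1
    refine (Module.finrank_zero_iff (R := k)).1 ?_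
    have h := SerreDual8.finrank_duality_locFree (k := k) 2 hK2 hFf (p := 1) (by omega)
    rw [Module.finrank_zero_of_subsingleton] at h
    exact h.symm
  have hD2 : Subsingleton (Coh.HH X D 2) := by
    haveI := CohFound.finite_HH_of_isProper (A := k) _ (hcoh hDf) 2
    refine (Module.finrank_zero_iff (R := k)).1 ?_
    have h := SerreDual8.finrank_duality_locFree (k := k) 2 hK2 hFf (p := 0) (by omega)
    rw [Module.finrank_zero_of_subsingleton] at h
    exact h.symm
  have hT := CurveCoh17.shortExact_tensorR hS D (fun x => KFlat.Sch.isFlat_of_isFinLocFree hDf x)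
  haveI : Subsingleton (Coh.HH X (CohB1.tensorMod (FlatMod.freeMod X e) D) 1) := subsingleton_free_tensor (k := k) D e 1 hD1
  haveI : Subsingleton (Coh.HH X (CohB1.tensorMod (FlatMod.freeMod X e) D) (1 + 1)) :=
    subsingleton_free_tensor (k := k) D e 2 hD2
  have hb : Function.Bijective (CurveCoh17.hdelta k hT 1) := by
    refine ⟨(injective_iff_map_eq_zero _).2 fun x hx => ?_, fun x => ?_⟩
    · obtain ⟨y, rfl⟩ := (CurveCoh17.exact_hmap_hdelta k hT 1 x).1 hx
      exact (congrArg _ (Subsingleton.elim (α := Coh.HH X (CohB1.tensorMod (FlatMod.freeMod X e) D) 1) y 0)).trans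
        (map_zero _)
    · exact (CurveCoh17.exact_hdelta_hmap k hT 1 x).1
        (Subsingleton.elim (α := Coh.HH X (CohB1.tensorMod (FlatMod.freeMod X e) D) (1 + 1)) _ _)
  haveI : ModSite.HasSheafHom (O := X.sheaf) F := CohMop.isLeftAdjoint_tenR _
  haveI : ModSite.HasSheafHom (O := X.sheaf) D := CohMop.isLeftAdjoint_tenR _
  haveI := CohMop.isIso_bidual (E := F) hFf
  haveI := LMEuler8.isIso_toIhom F (Coh.structureModule X) (M1.isFP_of_isFinLocFree hFf)
  let d : RefHull.dual F ≅ D := asIso (LMEuler8.toIhom F (Coh.structureModule X))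
  haveI := LMEuler8.isIso_toIhom F F (M1.isFP_of_isFinLocFree hFf)
  let θ : CohMop.ihom (CohB1.tensorMod F D) ≅ CohMop.ihom D ⋙ CohMop.ihom F :=
    (CohMop.ihomAdj (CohB1.tensorMod F D)).rightAdjointUniq
      (((CohMop.ihomAdj F).comp (CohMop.ihomAdj D)).ofNatIsoLeft (MonoidalCategory.tensorRightTensor F D).symm)
  let j : CohMop.dual (CohB1.tensorMod F D) ≅ RefHull.homSh F F :=
    θ.app _ ≪≫ (CohMop.ihom F).mapIso (asIso (CohMop.bidual F)).symm ≪≫ (asIso (LMEuler8.toIhom F F)).symm
  let c := (CurveCoh17.hequiv k (M2.tensorComm (RefHull.dual F) ((Coh.push i).obj A) ≪≫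
    M2.tensorIso (Iso.refl ((Coh.push i).obj A)) d) 1)
  rw [c.finrank_eq]
  refine ((LinearEquiv.ofBijective _ hb).finrank_eq).trans ?_
  refine (SerreDual8.finrank_duality_locFree (k := k) 2 hK2 (M2.isFinLocFree_tensor hFf hDf) (p := 2) le_rfl).trans ?_
  exact (CurveCoh17.hequiv k j 0).finrank_eq.trans hsimple

end Groth.Agent.S18134
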