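import Groth.Statements.S18135
import Groth.Agent.S18129
import Groth.Agent.Lib.FGA3.TorsionLift

set_option backward.isDefEq.respectTransparency false
set_option backward.isDefEq.respectTransparency.types false

set_option autoImplicit false
universe u
open CategoryTheory CategoryTheory.Limits AlgebraicGeometry
open Surf

namespace Groth.Agent.S18135

noncomputable local instance instLawS18135 (Y : Scheme.{u}) : PicGrp.Law Y := M2.law Y

/-- Torsion-freeness of Pic: let X be a K3 surface over an algebraically closed field k of
characteristic zero — an integral scheme, smooth and proper over k, of dimension two, carrying an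
ample invertible module, whose structure sheaf is a second exterior power of its sheaf of
differentials (trivial canonical sheaf) and with H^1(X, O_X) = 0. If L is an invertible O_X-module
some positive tensor power of which is isomorphic to O_X, then L ≅ O_X; that is, the Picard group of
X has no torsion (the published statement adds that it is free of finite rank, by finite generation
of the Néron–Severi group). -/
theorem result (k : Type u) [Field k] [IsAlgClosed k] [CharZero k]
    (X : Scheme.{u}) [X.Over (Spec (CommRingCat.of k))] [IsIntegral X]
    [Smooth (X ↘ Spec (CommRingCat.of k))] (hdim : topologicalKrullDim X = 2)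
    [IsProper (X ↘ Spec (CommRingCat.of k))]
    (H : X.Modules) (hHa : CohB1.IsAmple H)
    (hK : Canon.IsTopDiff (X ↘ Spec (CommRingCat.of k)) 2 (Coh.structureModule X))
    (hq : Module.finrank k (Coh.HH X (Coh.structureModule X) 1) = 0)
    (L : X.Modules) (hL : PicF.IsInvertible L) (n : ℕ) (hn : 1 ≤ n)
    (htors : Nonempty (CohB1.tensorPow L n ≅ Coh.structureModule X)) :
    Nonempty (L ≅ Coh.structureModule X) := by
  refine S18129.result k X hdim H hHa hK hq L hL fun M hM => ?_
  have hd := SurfRR10.dim_eq (k := k) hdim
  have hLn := M2.isInvertible_tensorPow hL n
  have h1 : (PicGrp.cls L hL) ^ n = 1 := by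
    rw [← FGA3.cls_tensorPow hL n]
    exact (PicGrp.cls_eq_cls_iff _ (PicLoc.isInvertible_structureModule X)).2 htors |>.trans
      (PicGrp.cls_structureModule_eq_one ..)
  rw [SymSq10.intNum_eq' hd.le hL hM]
  have key : ∀ m : ℕ, SymSq10.sdot k (PicGrp.cls L hL ^ m) (PicGrp.cls M hM) =
      m * SymSq10.sdot k (PicGrp.cls L hL) (PicGrp.cls M hM) := by
    intro m
    induction m with
    | zero => simp [SymSq10.sdot_one_left]
    | succ m ih => rw [pow_succ, SymSq10.sdot_mul (k := k) hd.le, ih]; push_cast; ring
  have := key n
  rw [h1, SymSq10.sdot_one_left] at this
  rcases mul_eq_zero.1 this.symm with h | h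
  · omega
  · exact h

end Groth.Agent.S18135
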