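import Groth.Statements.S18136
import Groth.Statements.S13156
import Groth.Statements.S13155
import Groth.Statements.S16419
import Groth.Statements.S10933
import Groth.Statements.S12051
import Groth.Agent.Lib.ExtSelfPd1.Basic
import Groth.Agent.Lib.Goren.GorenDual27
import Groth.Agent.Lib.Goren.GorenFinLen27
import Mathlib

set_option autoImplicit false
universe u v
open IsLocalRing
open CAlg

namespace Groth.Agent.S18136

open IsLocalRing

/-- Let A be a regular local ring with maximal ideal m and residue field k, written as a directed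
colimit of regular local rings A_j with local transition maps (compatible maps ψ_j : A_j → A that
are jointly surjective, an element dying in A dying at some later stage). Let f_1, …, f_c, g_1, …,
g_d ∈ m have linearly independent classes in m/m^2 over k, and put I = (f_1, …, f_c) ⊆ I' = (f_1, …,
f_c, g_1, …, g_d) (so I is generated by part of a regular system of parameters of A and I'/I by part
of a regular system of parameters of A/I; for a regular local ring the condition on I ⊆ I' is stated
through such a joint family). Then there are an index j_0 and ideals I_j ⊆ I'_j ⊆ A_j for j ≥ j_0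
such that: each I_j is generated by c elements and I'_j by these together with d further elements of
the maximal ideal m_j, the c + d classes in m_j/m_j^2 being linearly independent over the residue
field of A_j; the transition maps carry I_i, I'_i onto generators of I_j, I'_j for j_0 ≤ i ≤ j; and
I_j, I'_j generate I, I' in A. -/
theorem result
    {A : Type u} [CommRing A] [IsRegularLocalRing A]
    {ι : Type v} [Preorder ι] [Nonempty ι] [IsDirected ι (· ≤ ·)]
    (B : ι → Type u) [∀ j, CommRing (B j)] [∀ j, IsRegularLocalRing (B j)]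
    (φ : ∀ i j, i ≤ j → (B i →+* B j)) (hφloc : ∀ i j (h : i ≤ j), IsLocalHom (φ i j h))
    (hφ : ∀ i j l (hij : i ≤ j) (hjl : j ≤ l), (φ j l hjl).comp (φ i j hij) = φ i l (hij.trans hjl))
    (ψ : ∀ j, B j →+* A) (hψ : ∀ i j (h : i ≤ j), (ψ j).comp (φ i j h) = ψ i)
    (hsurj : ∀ a : A, ∃ j, ∃ x : B j, ψ j x = a)
    (hker : ∀ j (x : B j), ψ j x = 0 → ∃ l, ∃ h : j ≤ l, φ j l h x = 0)
    (c d : ℕ) (f : Fin c → maximalIdeal A) (g : Fin d → maximalIdeal A)
    (hind : LinearIndependent (ResidueField A) (⇑(maximalIdeal A).toCotangent ∘ Sum.elim f g)) :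
    ∃ j₀ : ι, ∃ (P : ∀ j, j₀ ≤ j → Ideal (B j)) (Q : ∀ j, j₀ ≤ j → Ideal (B j)),
      (∀ j (hj : j₀ ≤ j), ∃ (F : Fin c → maximalIdeal (B j)) (E : Fin d → maximalIdeal (B j)),
        LinearIndependent (ResidueField (B j)) (⇑(maximalIdeal (B j)).toCotangent ∘ Sum.elim F E) ∧
        P j hj = Ideal.span (Set.range (fun s => (F s : B j))) ∧
        Q j hj = P j hj ⊔ Ideal.span (Set.range (fun t => (E t : B j)))) ∧
      (∀ i j (hi : j₀ ≤ i) (hij : i ≤ j),
        (P i hi).map (φ i j hij) = P j (le_trans hi hij) ∧ (Q i hi).map (φ i j hij) = Q j (le_trans hi hij)) ∧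
      (∀ j (hj : j₀ ≤ j),
        (P j hj).map (ψ j) = Ideal.span (Set.range (fun s => (f s : A))) ∧
        (Q j hj).map (ψ j) = Ideal.span (Set.range (fun s => (f s : A))) ⊔ Ideal.span (Set.range (fun t => (g t : A)))) := by
  classical
  have hcomp : ∀ {i j : ι} (h : i ≤ j) (x : B i), ψ j (φ i j h x) = ψ i x := fun h x => RingHom.congr_fun (hψ _ _ h) x
  -- the structure maps into the limit are local
  have hloc : ∀ j (x : B j), IsUnit (ψ j x) → IsUnit x := by
    intro j x hx
    obtain ⟨y, hy⟩ := hx.exists_right_inv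
    obtain ⟨l, z, rfl⟩ := hsurj y
    obtain ⟨m, hjm, hlm⟩ := directed_of (α := ι) (· ≤ ·) j l
    obtain ⟨m', hm', h0⟩ := hker m (φ j m hjm x * φ l m hlm z - 1)
      (by rw [map_sub, map_mul, hcomp, hcomp, hy, map_one, sub_self])
    rw [map_sub, map_mul, map_one, sub_eq_zero] at h0
    haveI := hφloc m m' hm'
    haveI := hφloc j m hjm
    exact isUnit_of_map_unit (φ j m hjm) _ (isUnit_of_map_unit (φ m m' hm') _ (IsUnit.of_mul_eq_one _ h0))
  have hmem : ∀ j (x : B j), x ∈ maximalIdeal (B j) ↔ ψ j x ∈ maximalIdeal A := fun j x =>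
    ⟨fun hx hu => hx (hloc j x hu), fun hx hu => hx (hu.map _)⟩
  let t : Fin c ⊕ Fin d → A := fun s => ((Sum.elim f g s : maximalIdeal A) : A)
  choose J X hX using fun s => hsurj (t s)
  obtain ⟨j₀, hj₀⟩ := Finset.exists_le (Finset.univ.image J)
  have hJ : ∀ s, J s ≤ j₀ := fun s => hj₀ _ (Finset.mem_image_of_mem _ (Finset.mem_univ s))
  let G : ∀ j, j₀ ≤ j → Fin c ⊕ Fin d → B j := fun j hj s => φ (J s) j ((hJ s).trans hj) (X s)
  have hGψ : ∀ j hj s, ψ j (G j hj s) = t s := fun j hj s => (hcomp _ _).trans (hX s)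
  have hGφ : ∀ i j hi (hij : i ≤ j) s, φ i j hij (G i hi s) = G j (le_trans hi hij) s := fun i j hi hij s =>
    RingHom.congr_fun (hφ (J s) i j ((hJ s).trans hi) hij) (X s)
  have hGm : ∀ j hj s, G j hj s ∈ maximalIdeal (B j) := fun j hj s =>
    (hmem j _).2 (by rw [hGψ j hj]; exact (Sum.elim f g s).2)
  refine ⟨j₀, fun j hj => Ideal.span (Set.range fun s => G j hj (Sum.inl s)),
    fun j hj => Ideal.span (Set.range fun s => G j hj (Sum.inl s)) ⊔ Ideal.span (Set.range fun s => G j hj (Sum.inr s)),
    fun j hj => ⟨fun s => ⟨_, hGm j hj (Sum.inl s)⟩, fun s => ⟨_, hGm j hj (Sum.inr s)⟩, ?_, rfl, rfl⟩,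
    fun i j hi hij => ?_, fun j hj => ?_⟩
  · rw [Fintype.linearIndependent_iff]
    intro a ha s
    obtain ⟨b, rfl⟩ : ∃ b : Fin c ⊕ Fin d → B j, (fun s => residue (B j) (b s)) = a :=
      ⟨fun s => (residue_surjective (a s)).choose, funext fun s => (residue_surjective (a s)).choose_spec⟩
    have h1 : (maximalIdeal (B j)).toCotangent (∑ s, b s • (⟨G j hj s, hGm j hj s⟩ : maximalIdeal (B j))) = 0 := by
      rw [map_sum]
      refine Eq.trans (Finset.sum_congr rfl fun s _ => ?_) ha
      rcases s with s | s <;>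
        exact (map_smul _ _ _).trans (IsScalarTower.algebraMap_smul (ResidueField (B j)) _ _).symm
    rw [Ideal.toCotangent_eq_zero, Submodule.coe_sum] at h1
    have h2 : ψ j (∑ s, b s * G j hj s) ∈ maximalIdeal A ^ 2 := by
      have hle : (maximalIdeal (B j) ^ 2).map (ψ j) ≤ maximalIdeal A ^ 2 := by
        rw [Ideal.map_pow]
        exact Ideal.pow_right_mono ((Ideal.map_le_iff_le_comap (f := ψ j) (K := maximalIdeal A)).2 fun y hy => (hmem j y).1 hy) 2
      exact hle (Ideal.mem_map_of_mem _ h1)
    rw [map_sum] at h2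
    simp only [map_mul, hGψ] at h2
    have h3 : ∑ s, residue A (ψ j (b s)) • ((maximalIdeal A).toCotangent (Sum.elim f g s)) = 0 := by
      have h4 : (maximalIdeal A).toCotangent (∑ s, ψ j (b s) • Sum.elim f g s) = 0 := by
        rw [Ideal.toCotangent_eq_zero, Submodule.coe_sum]
        exact h2
      rw [map_sum] at h4
      refine Eq.trans (Finset.sum_congr rfl fun s _ => ?_) h4
      rw [map_smul]
      exact IsScalarTower.algebraMap_smul (ResidueField A) _ _
    have h5 := Fintype.linearIndependent_iff.1 hind _ h3 s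
    show residue (B j) (b s) = 0
    rw [residue_eq_zero_iff] at h5 ⊢
    exact (hmem j _).2 h5
  · refine ⟨?_, ?_⟩ <;>
      simp only [Ideal.map_sup, Ideal.map_span, ← Set.range_comp, Function.comp_def, hGφ]
  · refine ⟨?_, ?_⟩ <;>
      simp only [Ideal.map_sup, Ideal.map_span, ← Set.range_comp, Function.comp_def, hGψ] <;> rfl

end Groth.Agent.S18136
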