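import Groth.Statements.S18150
import Groth.Agent.Lib.FrobSplit12.Main
import Groth.Agent.Lib.FrobSplit12.Vanish
-- import your own Groth.Agent.* helpers here

set_option autoImplicit false
set_option backward.isDefEq.respectTransparency false
universe u
open CategoryTheory AlgebraicGeometry Opposite TopologicalSpace
open FrobSch

namespace Groth.Agent.S18150

/-- Let p be a prime, k a perfect field of characteristic p, and X an irreducible smooth proper k-scheme
of dimension n. Let φ be the p-th power map on the sheaf of additive groups underlying O_X and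
suppose X is Frobenius split: φ admits a retraction s, an additive endomorphism of O_X with s ∘ φ
the identity and s(a^p·b) = a·s(b) on every open. Then Kodaira vanishing holds on X: for every ample
invertible module L with tensor inverse L⁻¹ and every i < n, the cohomology group H^i(X, L⁻¹)
vanishes. (The source allows X Gorenstein projective; X is taken smooth, proper with an ample
invertible module, and irreducible so that n is the dimension of every component.) -/
theorem result (p : ℕ) [Fact p.Prime]
    (k : Type u) [Field k] [CharP k p] [PerfectRing k p]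
    (X : Scheme.{u}) [X.Over (Spec (CommRingCat.of k))] [IsProper (X ↘ Spec (CommRingCat.of k))]
    [Smooth (X ↘ Spec (CommRingCat.of k))] [IrreducibleSpace X] (n : ℕ) (hn : topologicalKrullDim X = n)
    (φ : Coh.toAb (Coh.structureModule X) ⟶ Coh.toAb (Coh.structureModule X))
    (hφ : ∀ (U : X.Opens) (t : Γ(X, U)), φ.hom.app (op U) t = t ^ p)
    (s : Coh.toAb (Coh.structureModule X) ⟶ Coh.toAb (Coh.structureModule X))
    (hs : φ ≫ s = 𝟙 _)
    (hlin : ∀ (U : X.Opens) (a b : Γ(X, U)),
      s.hom.app (op U) (a ^ p * b) = a * @id Γ(X, U) (s.hom.app (op U) b))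
    (L Linv : X.Modules) (hL : CohB1.IsAmple L) (hLinv : ClSub.IsInverseOf Linv L)
    (i : ℕ) (hi : i < n) :
    Subsingleton (Coh.HH X Linv i) := by
  obtain ⟨m₀, hm₀⟩ := FrobSplit12.exists_vanish k X n hn L Linv hL hLinv
  have hinv : PicF.IsInvertible Linv := by
    obtain ⟨e⟩ := hLinv
    exact M2.isInvertible_of_tensor_iso_unit Linv L e
  suffices h : ∀ (e : ℕ) (a : ℕ), m₀ ≤ a * p ^ e → Subsingleton (Coh.HH X (CohB1.tensorPow Linv a) i) by
    haveI := h m₀ 1 (by rw [one_mul]; exact (Nat.lt_pow_self (Fact.out : p.Prime).one_lt).le)
    exact (CurveCoh17.hequiv k (M2.tensorPowOne Linv) i).symm.toEquiv.subsingleton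
  intro e
  induction e with
  | zero => exact fun a ha => hm₀ a (by simpa using ha) i hi
  | succ e ih =>
    intro a ha
    haveI := ih (a * p) (by rwa [mul_assoc, ← pow_succ'])
    haveI : Subsingleton (Coh.HH X (CohB1.tensorPow (CohB1.tensorPow Linv a) p) i) :=
      (CurveCoh17.hequiv k (M2.tensorPowPow Linv a p) i).toEquiv.subsingleton
    exact FrobSplit12.subsingleton_of_pow p k φ s hφ hs hlin (M2.isInvertible_tensorPow hinv a) i

end Groth.Agent.S18150
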