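import Groth.Statements.S18153
import Mathlib.Algebra.MvPolynomial.PDeriv
import Mathlib.LinearAlgebra.Matrix.Determinant.Basic
import Mathlib.LinearAlgebra.Multilinear.Basis
import Mathlib.RingTheory.MvPolynomial.Basic
import Mathlib.LinearAlgebra.Matrix.ToLinearEquiv

set_option autoImplicit false
universe u w
open FrobAlg

namespace Groth.Agent.S18153

/-- Let R be a commutative ring of prime characteristic p and f_1, …, f_m (m ≥ 1) polynomials over R in
the variables t_1, …, t_m and a further, possibly empty, family of variables s_a. Then in the m × m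
Jacobian determinant det(∂f_i/∂t_j) with respect to the t-variables, the coefficient of the monomial
t_1^{p-1} ⋯ t_m^{p-1} (all s-exponents zero) vanishes. (In the source this is the claim, for formal
power series in n ≥ m variables over the base field, to which the proof of the proposition reduces;
the coefficient in question only involves truncations of the f_i, so the polynomial form over any
ring of characteristic p is the same assertion.) -/
theorem result
    (p : ℕ) [Fact p.Prime] (R : Type u) [CommRing R] [CharP R p]
    {m : ℕ} (hm : 0 < m) (σ : Type w) (f : Fin m → MvPolynomial (Fin m ⊕ σ) R) :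
    MvPolynomial.coeff
        (Finsupp.sumElim (Finsupp.equivFunOnFinite.symm fun _ : Fin m => p - 1) (0 : σ →₀ ℕ))
        (Matrix.of fun i j : Fin m => MvPolynomial.pderiv (Sum.inl j) (f i)).det = 0 := by
  classical
  let P := MvPolynomial (Fin m ⊕ σ) R
  let M : Fin m ⊕ σ →₀ ℕ := Finsupp.sumElim (Finsupp.equivFunOnFinite.symm fun _ : Fin m => p - 1) (0 : σ →₀ ℕ)
  let T : MultilinearMap R (fun _ : Fin m => P) R :=
    (MvPolynomial.lcoeff R M).compMultilinearMap
      (((Matrix.detRowAlternating (n := Fin m) (R := P)).toMultilinearMap.restrictScalars R).compLinearMap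
        fun _ => LinearMap.pi fun j => (MvPolynomial.pderiv (R := R) (Sum.inl j : Fin m ⊕ σ)).toLinearMap)
  suffices T = 0 from congrArg (fun S : MultilinearMap R (fun _ : Fin m => P) R => S f) this
  refine Module.Basis.ext_multilinear (fun _ => MvPolynomial.basisMonomials (Fin m ⊕ σ) R) fun e => ?_
  show MvPolynomial.coeff M (Matrix.of fun i j : Fin m =>
    MvPolynomial.pderiv (Sum.inl j) (MvPolynomial.basisMonomials (Fin m ⊕ σ) R (e i))).det = 0
  simp only [MvPolynomial.coe_basisMonomials]
  have hdiv : ∀ (e₀ : Fin m ⊕ σ →₀ ℕ) (j : Fin m),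
      MvPolynomial.X (Sum.inl j) * MvPolynomial.pderiv (Sum.inl j) (MvPolynomial.monomial e₀ (1 : R)) =
        MvPolynomial.monomial e₀ ((e₀ (Sum.inl j) : R)) := by
    intro e₀ j
    rw [MvPolynomial.pderiv_monomial, one_mul, MvPolynomial.X, MvPolynomial.monomial_mul, one_mul]
    by_cases h : e₀ (Sum.inl j) = 0
    · rw [h, Nat.cast_zero, MvPolynomial.monomial_zero, MvPolynomial.monomial_zero]
    · congr 1
      rw [add_tsub_cancel_of_le (Finsupp.single_le_iff.2 (Nat.one_le_iff_ne_zero.2 h))]
  let a : Matrix (Fin m) (Fin m) R := Matrix.of fun i j => (e i (Sum.inl j) : R)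
  let u : Fin m ⊕ σ →₀ ℕ := ∑ j : Fin m, Finsupp.single (Sum.inl j) 1
  let S : Fin m ⊕ σ →₀ ℕ := ∑ i, e i
  have key : MvPolynomial.monomial u 1 * (Matrix.of fun i j : Fin m =>
      MvPolynomial.pderiv (Sum.inl j) (MvPolynomial.monomial (e i) (1 : R))).det =
      MvPolynomial.monomial S a.det := by
    rw [show MvPolynomial.monomial u (1 : R) = ∏ j : Fin m, MvPolynomial.X (Sum.inl j) by
        rw [show u = ∑ j : Fin m, Finsupp.single (Sum.inl j) 1 from rfl, MvPolynomial.monomial_sum_one]; rfl,
      ← Matrix.det_mul_row,
      show MvPolynomial.monomial S a.det = (∏ i, MvPolynomial.monomial (e i) (1 : R)) * MvPolynomial.C a.det by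
        rw [← MvPolynomial.monomial_sum_one, mul_comm, MvPolynomial.C_mul_monomial, mul_one],
      RingHom.map_det, RingHom.mapMatrix_apply, ← Matrix.det_mul_column]
    congr 1
    ext i j : 1
    simp only [Matrix.of_apply, Matrix.map_apply, hdiv, a]
    rw [mul_comm, MvPolynomial.C_mul_monomial, mul_one]
  have h := congrArg (MvPolynomial.coeff (u + M)) key
  rw [MvPolynomial.coeff_monomial_mul, one_mul, MvPolynomial.coeff_monomial] at h
  rw [h]
  split_ifs with hS
  · have hsum : ∀ j, Matrix.vecMul (fun _ => (1 : R)) a j = 0 := fun j => by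
      have hj : ∑ i, e i (Sum.inl j) = p := by
        rw [← Finsupp.finsetSum_apply, show (∑ i, e i) = u + M from hS, Finsupp.add_apply]
        have h1 : u (Sum.inl j) = 1 := by
          rw [Finsupp.finsetSum_apply, Finset.sum_eq_single j]
          · simp
          · intro b _ hb; simp [hb]
          · simp
        have h2 : M (Sum.inl j) = p - 1 := by simp [M]
        have := (Fact.out : p.Prime).one_le
        omega
      simp [Matrix.vecMul, dotProduct, a, ← Nat.cast_sum, hj]
    have h0 : Matrix.vecMul (Matrix.vecMul (fun _ => (1 : R)) a) a.adjugate ⟨0, hm⟩ = 0 := by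
      rw [show Matrix.vecMul (fun _ => (1 : R)) a = 0 from funext hsum, Matrix.zero_vecMul]; rfl
    rw [Matrix.vecMul_vecMul, Matrix.mul_adjugate, Matrix.vecMul_smul, Matrix.vecMul_one] at h0
    simpa using h0
  · rfl
end Groth.Agent.S18153
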