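import Groth.Statements.S18154
import Mathlib.RingTheory.Derivation.Lie
import Mathlib.Algebra.CharP.Lemmas
import Mathlib.Data.Nat.Prime.Factorial

set_option autoImplicit false
universe u v
open FrobAlg

namespace Groth.Agent.S18154

section Aux

open Matrix

variable {k A : Type*} [CommRing k] [CommRing A] [Algebra k A] {n : ℕ} (D : Fin n → Derivation k A A)

/-- The operators of a family of derivations. -/
abbrev op (j : Fin n) : Module.End k A := (D j).toLinearMap

/-- The sum of the images of the derivations. -/
abbrev imgs : Submodule k A := ⨆ j, LinearMap.range (op D j)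

theorem leibniz_finset (d : Derivation k A A) {ι : Type*} [DecidableEq ι] (s : Finset ι) (f : ι → A) :
    d (∏ i ∈ s, f i) = ∑ i ∈ s, d (f i) * ∏ l ∈ s.erase i, f l := by
  induction s using Finset.induction_on with
  | empty => simp
  | insert a s ha ih =>
    rw [Finset.prod_insert ha, Derivation.leibniz, ih, Finset.sum_insert ha, Finset.erase_insert ha,
      smul_eq_mul, smul_eq_mul, Finset.mul_sum, add_comm]
    refine congr_arg₂ _ (mul_comm _ _) (Finset.sum_congr rfl fun i hi => ?_)
    rw [Finset.erase_insert_of_ne (fun h => ha (by rw [h]; exact hi)),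
      Finset.prod_insert (fun h => ha (Finset.mem_of_mem_erase h))]
    exact mul_left_comm _ _ _

/-- A determinant with closed rows, one of which is exact, is a sum of derivatives. -/
theorem det_mem_imgs (M : Matrix (Fin n) (Fin n) A) (hcl : ∀ i a b, D a (M i b) = D b (M i a))
    (i₀ : Fin n) (g : A) (hex : ∀ a, M i₀ a = D a g) : M.det ∈ imgs D := by
  classical
  let R : Equiv.Perm (Fin n) → A := fun σ => ∏ i ∈ Finset.univ.erase i₀, M i (σ i)
  have hdet : M.det = ∑ σ : Equiv.Perm (Fin n), (Equiv.Perm.sign σ : ℤ) • (D (σ i₀) g * R σ) := by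
    rw [← det_transpose, det_apply']
    refine Finset.sum_congr rfl fun σ _ => ?_
    rw [zsmul_eq_mul, ← hex]
    exact congrArg _ (Finset.mul_prod_erase Finset.univ (fun i => M i (σ i)) (Finset.mem_univ i₀)).symm
  have hzero : ∑ σ : Equiv.Perm (Fin n), (Equiv.Perm.sign σ : ℤ) • D (σ i₀) (R σ) = 0 := by
    simp only [R, leibniz_finset, Finset.smul_sum]
    rw [Finset.sum_comm]
    refine Finset.sum_eq_zero fun l hl => ?_
    have hne : i₀ ≠ l := (Finset.mem_erase.1 hl).1.symm
    refine Finset.sum_involution (fun σ _ => σ * Equiv.swap i₀ l) (fun σ _ => ?_) (fun σ _ _ => ?_)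
      (fun _ _ => Finset.mem_univ _) (fun σ _ => by simp)
    · have hp : ∏ i ∈ (Finset.univ.erase i₀).erase l, M i ((σ * Equiv.swap i₀ l) i) =
          ∏ i ∈ (Finset.univ.erase i₀).erase l, M i (σ i) := by
        refine Finset.prod_congr rfl fun i hi => ?_
        simp only [Finset.mem_erase] at hi
        rw [Equiv.Perm.mul_apply, Equiv.swap_apply_of_ne_of_ne hi.2.1 hi.1]
      rw [hp, Equiv.Perm.mul_apply, Equiv.Perm.mul_apply, Equiv.swap_apply_left, Equiv.swap_apply_right,
        hcl l (σ l) (σ i₀), Equiv.Perm.sign_mul, Equiv.Perm.sign_swap hne]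
      simp
    · intro h
      exact hne (σ.injective (by simpa using (congrArg (fun τ : Equiv.Perm (Fin n) => τ i₀) h).symm))
  have key : M.det = ∑ σ : Equiv.Perm (Fin n), (Equiv.Perm.sign σ : ℤ) • D (σ i₀) (g * R σ) := by
    have h : ∀ σ : Equiv.Perm (Fin n), (Equiv.Perm.sign σ : ℤ) • D (σ i₀) (g * R σ) =
        g * ((Equiv.Perm.sign σ : ℤ) • D (σ i₀) (R σ)) + (Equiv.Perm.sign σ : ℤ) • (D (σ i₀) g * R σ) := fun σ => by
      rw [Derivation.leibniz, smul_add, smul_eq_mul, smul_eq_mul, mul_smul_comm, mul_comm (R σ)]
    simp only [h, Finset.sum_add_distrib, ← Finset.mul_sum, hzero, mul_zero, zero_add, hdet]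
  rw [key]
  exact Submodule.sum_mem _ fun σ _ => zsmul_mem (Submodule.mem_iSup_of_mem (σ i₀) (LinearMap.mem_range_self (op D (σ i₀)) _)) _

/-- In characteristic `p` the power of a derivation by `p` satisfies the Leibniz rule. -/
theorem pow_char_leibniz (p : ℕ) [Fact p.Prime] [CharP A p] (d : Derivation k A A) (f g : A) :
    ((d.toLinearMap : Module.End k A) ^ p) (f * g) =
      ((d.toLinearMap : Module.End k A) ^ p) f * g + f * ((d.toLinearMap : Module.End k A) ^ p) g := by
  rcases subsingleton_or_nontrivial (Module.End k A) with h | h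
  · haveI : Subsingleton A := ⟨fun a b => sub_eq_zero.1 (by
      simpa using LinearMap.congr_fun (Subsingleton.elim (1 : Module.End k A) 0) (a - b))⟩
    exact Subsingleton.elim _ _
  · haveI : CharP (Module.End k (Module.End k A)) p := by
      refine (CharP.charP_iff_prime_eq_zero Fact.out).2 (LinearMap.ext fun x => LinearMap.ext fun a => ?_)
      rw [← nsmul_one p]
      simp [CharP.cast_eq_zero A p]
    let m : A →ₗ[k] Module.End k A := LinearMap.mul k A
    let L : Module.End k (Module.End k A) := LinearMap.mulLeft k (d.toLinearMap : Module.End k A)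
    let Rr : Module.End k (Module.End k A) := LinearMap.mulRight k (d.toLinearMap : Module.End k A)
    have hstep : ∀ (r : ℕ) (f : A), ((L - Rr) ^ r) (m f) = m (((d.toLinearMap : Module.End k A) ^ r) f) := by
      intro r
      induction r with
      | zero => intro f; rfl
      | succ r ih =>
        intro f
        rw [pow_succ', Module.End.mul_apply, ih, pow_succ', Module.End.mul_apply]
        refine LinearMap.ext fun g => ?_
        simp [L, Rr, m, mul_comm]
    have h := hstep p f
    have hLR : Commute L Rr := LinearMap.commute_mulLeft_right (R := k) _ _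
    have hsp := sub_pow_char_of_commute (R := Module.End k (Module.End k A)) p hLR
    rw [hsp] at h
    simp only [L, Rr, LinearMap.pow_mulLeft, LinearMap.pow_mulRight, LinearMap.sub_apply] at h
    have h' := LinearMap.congr_fun h g
    simp [m] at h'
    exact sub_eq_iff_eq_add.1 h'

theorem iterate_mul_pow (d : Derivation k A A) (t f : A) (ht : d t = 1) (hf : d f = 0) :
    ∀ r : ℕ, ((d.toLinearMap : Module.End k A) ^ r) (f * t ^ r) = (r.factorial : A) * f
  | 0 => by simp
  | r + 1 => by
    have hd : d (f * t ^ (r + 1)) = (((r + 1 : ℕ) : A) * f) * t ^ r := by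
      rw [Derivation.leibniz, hf, Derivation.leibniz_pow, ht]
      simp only [smul_eq_mul, smul_zero, add_zero, nsmul_eq_mul, add_tsub_cancel_right, mul_zero]
      ring
    rw [pow_succ, Module.End.mul_apply, Derivation.coeFn_coe, hd,
      iterate_mul_pow d t _ ht (by rw [Derivation.leibniz, hf, Derivation.map_natCast]; simp) r, ← mul_assoc,
      Nat.factorial_succ, Nat.cast_mul]
    ring

/-- The composite of the `(p-1)`-st powers of the derivations in a list. -/
def bigOp (p : ℕ) : List (Fin n) → Module.End k A
  | [] => 1
  | j :: l => op D j ^ (p - 1) * bigOp p l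

theorem bigOp_commute (p : ℕ) (hc : ∀ a b, Commute (op D a) (op D b)) (j : Fin n) :
    ∀ l : List (Fin n), Commute (op D j) (bigOp D p l)
  | [] => Commute.one_right _
  | a :: l => ((hc j a).pow_right _).mul_right (bigOp_commute p hc j l)

theorem bigOp_mul_eq_zero (p : ℕ) (hp : 0 < p) (hc : ∀ a b, Commute (op D a) (op D b)) (hpow : ∀ a, op D a ^ p = 0)
    (j : Fin n) : ∀ l : List (Fin n), j ∈ l → bigOp D p l * op D j = 0
  | a :: l, h => by
    by_cases e : j = a
    · subst e
      rw [bigOp, mul_assoc, ← (bigOp_commute D p hc j l).eq, ← mul_assoc, ← pow_succ,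
        Nat.sub_add_cancel hp, hpow, zero_mul]
    · rw [bigOp, mul_assoc, bigOp_mul_eq_zero p hp hc hpow j l ((List.mem_cons.1 h).resolve_left e), mul_zero]

theorem bigOp_prod (p : ℕ) (t : Fin n → A) (hD : ∀ a i, D a (t i) = if a = i then 1 else 0) :
    ∀ l : List (Fin n), l.Nodup → bigOp D p l (∏ i, t i ^ (p - 1)) =
      ((p - 1).factorial : A) ^ l.length * ∏ i ∈ Finset.univ \ l.toFinset, t i ^ (p - 1)
  | [], _ => by simp [bigOp]
  | a :: l, h => by
    classical
    obtain ⟨ha, hl⟩ := List.nodup_cons.1 h
    have hs : Finset.univ \ l.toFinset = insert a (Finset.univ \ (a :: l).toFinset) := by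
      ext i; by_cases e : i = a <;> simp [e, ha]
    rw [bigOp, Module.End.mul_apply, bigOp_prod p t hD l hl, hs, Finset.prod_insert (by simp), ← mul_assoc,
      mul_right_comm, iterate_mul_pow (D a) (t a) _ (by simp [hD]) ?_, List.length_cons, pow_succ]
    · ring
    · rw [Derivation.leibniz, Derivation.leibniz_pow, Derivation.map_natCast, leibniz_finset]
      simp only [smul_zero, add_zero]
      rw [Finset.sum_eq_zero fun i hi => ?_, smul_zero]
      have : a ≠ i := by
        rintro rfl
        simp at hi
      rw [Derivation.leibniz_pow, hD, if_neg this]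
      simp

theorem det_ne_zero (p : ℕ) [hp : Fact p.Prime] [CharP A p] [IsDomain A] (t f : Fin n → A)
    (hD : ∀ a i, D a (t i) = if a = i then 1 else 0) (hc : ∀ a b, Commute (op D a) (op D b))
    (hpow : ∀ a, op D a ^ p = 0) :
    (Matrix.of fun i j => (if i = j then t i ^ (p - 1) else 0) + D j (f i)).det ≠ 0 := by
  classical
  let Mx : Finset (Fin n) → Matrix (Fin n) (Fin n) A := fun s => Matrix.of fun i j =>
    (if i = j then t i ^ (p - 1) else 0) + if i ∈ s then D j (f i) else 0
  have hdiag : ∀ i a b, D a (if i = b then t i ^ (p - 1) else 0) = D b (if i = a then t i ^ (p - 1) else 0) := by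
    have h0 : ∀ i a, i ≠ a → D a (t i ^ (p - 1)) = 0 := fun i a h => by
      rw [Derivation.leibniz_pow, hD, if_neg (Ne.symm h)]; simp
    intro i a b
    by_cases ha : i = a <;> by_cases hb : i = b
    · rw [← ha, ← hb]
    · rw [if_neg hb, if_pos ha, map_zero, h0 i b hb]
    · rw [if_pos hb, if_neg ha, map_zero, h0 i a ha]
    · rw [if_neg ha, if_neg hb, map_zero, map_zero]
  have hcl : ∀ (s : Finset (Fin n)) i a b, D a (Mx s i b) = D b (Mx s i a) := by
    intro s i a b
    simp only [Mx, Matrix.of_apply, map_add, hdiag i a b]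
    congr 1
    by_cases hi : i ∈ s
    · simp only [hi, if_true]
      exact LinearMap.congr_fun (hc a b).eq (f i)
    · simp [hi]
  have hmem : ∀ s, (Mx s).det - ∏ i, t i ^ (p - 1) ∈ imgs D := by
    intro s
    induction s using Finset.induction_on with
    | empty =>
      have : Mx ∅ = Matrix.diagonal fun i => t i ^ (p - 1) := by
        ext i j; simp [Mx, Matrix.diagonal_apply]
      rw [this, Matrix.det_diagonal, sub_self]
      exact Submodule.zero_mem _
    | insert i s hi ih =>
      have e : Mx (insert i s) = (Mx s).updateRow i (Mx s i + fun j => D j (f i)) := by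
        ext a j
        by_cases h : a = i
        · subst h; simp [Mx, hi]
        · simp [Mx, h]
      rw [e, Matrix.det_updateRow_add, Matrix.updateRow_eq_self, add_sub_right_comm]
      refine Submodule.add_mem _ ih (det_mem_imgs D _ (fun l a b => ?_) i (f i) (fun a => by simp))
      by_cases h : l = i
      · subst h; simp only [Matrix.updateRow_self]; exact LinearMap.congr_fun (hc a b).eq _
      · simp only [Matrix.updateRow_ne h]; exact hcl s l a b
  intro h0
  have hM : Mx Finset.univ = Matrix.of fun i j => (if i = j then t i ^ (p - 1) else 0) + D j (f i) := by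
    ext i j; simp [Mx]
  have h := hmem Finset.univ
  rw [hM, h0, zero_sub] at h
  have hkill : imgs D ≤ LinearMap.ker (bigOp D p (List.finRange n)) := iSup_le fun j => by
    rintro x ⟨y, rfl⟩
    exact LinearMap.congr_fun (bigOp_mul_eq_zero D p hp.out.pos hc hpow j _ (List.mem_finRange j)) y
  have h1 : bigOp D p (List.finRange n) (∏ i, t i ^ (p - 1)) = 0 := by
    simpa using hkill h
  rw [bigOp_prod D p t hD _ (List.nodup_finRange n)] at h1
  have hf : ((p - 1).factorial : A) ≠ 0 := by
    rw [Ne, CharP.cast_eq_zero_iff A p, Nat.Prime.dvd_factorial hp.out]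
    have := hp.out.pos
    omega
  simp [List.toFinset_finRange, hf] at h1

end Aux

/-- Let k be an algebraically closed field of characteristic p, A a smooth k-algebra that is an integral
domain, and t_1, …, t_n ∈ A such that dt_1, …, dt_n is a basis of the module of Kähler differentials
Ω_{A/k}. Let (B, ι, π, Φ) be a flat lifting of A over W_2(k) together with a lift Φ of Frobenius,
T_i ∈ B lifts of the t_i, and F_i ∈ B with Φ(T_i) = T_i^p + p·F_i; put f_i = π(F_i) ∈ A. Then the n
× n matrix over A with entries δ_{ij} t_i^{p-1} + ∂f_i/∂t_j, the partial derivatives being the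
coordinates of df_i in the basis dt_j, has nonzero determinant. This is the matrix of the A-linear
map F_A^*Ω_{A/k} → Ω_{A/k} obtained from dΦ after dividing by p, which is therefore generically
bijective. (The source states generic bijectivity for a smooth variety and reduces it to this
determinant on an affine open with étale coordinates.) -/
theorem result
    (p : ℕ) [Fact p.Prime] (k : Type u) [Field k] [IsAlgClosed k] [CharP k p]
    (A : Type v) [CommRing A] [IsDomain A] [Algebra k A] [Algebra.Smooth k A]
    {n : ℕ} (t : Fin n → A) (b : Module.Basis (Fin n) A (KaehlerDifferential k A))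
    (hb : ∀ i, b i = KaehlerDifferential.D k A (t i))
    (B : Type v) [CommRing B] (ι : FrobAlg.W2 p k →+* B) (π : B →+* A) (Φ : B →+* B)
    (hΦ : FrobAlg.IsFrobLift p k A B ι π Φ)
    (T F : Fin n → B) (hT : ∀ i, π (T i) = t i) (hF : ∀ i, Φ (T i) = T i ^ p + (p : B) * F i) :
    (Matrix.of fun i j : Fin n =>
        (if i = j then t i ^ (p - 1) else 0) +
          b.coord j (KaehlerDifferential.D k A (π (F i)))).det ≠ 0 := by
  classical
  haveI : CharP A p := charP_of_injective_algebraMap (algebraMap k A).injective p
  let D : Fin n → Derivation k A A := fun j => (b.coord j).compDer (KaehlerDifferential.D k A)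
  have hDe : ∀ a x, D a x = b.coord a (KaehlerDifferential.D k A x) := fun a x => rfl
  have hD : ∀ a i, D a (t i) = if a = i then 1 else 0 := fun a i => by
    rw [hDe, ← hb, Module.Basis.coord_apply, Module.Basis.repr_self, Finsupp.single_apply]
    exact if_congr eq_comm rfl rfl
  have hext : ∀ E : Derivation k A A, (∀ i, E (t i) = 0) → E = 0 := fun E hE => by
    have h : E.liftKaehlerDifferential = 0 := b.ext fun i => by
      rw [hb, Derivation.liftKaehlerDifferential_comp_D, hE]; rfl
    rw [← Derivation.liftKaehlerDifferential_comp E, h]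
    rfl
  have hc : ∀ a c, Commute (op D a) (op D c) := fun a c => by
    have h0 : ⁅D a, D c⁆ = 0 := hext _ fun i => by
      rw [Derivation.commutator_apply, hD, hD]
      split_ifs <;> simp
    refine LinearMap.ext fun x => sub_eq_zero.1 ?_
    have := congrArg (fun E : Derivation k A A => E x) h0
    simpa [Derivation.commutator_apply] using this
  have hpow : ∀ a, op D a ^ p = 0 := fun a => by
    let E : Derivation k A A := Derivation.mk' (op D a ^ p) fun f g => by
      rw [pow_char_leibniz p (D a) f g, smul_eq_mul, smul_eq_mul]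
      ring
    have h0 : E = 0 := hext E fun i => by
      have h2 : 2 ≤ p := (Fact.out : p.Prime).two_le
      obtain ⟨m, rfl⟩ : ∃ m, p = m + 2 := ⟨p - 2, by omega⟩
      show (op D a ^ (m + 2)) (t i) = 0
      rw [pow_succ, Module.End.mul_apply, pow_succ, Module.End.mul_apply]
      simp only [op, Derivation.coeFn_coe, hD]
      split_ifs <;> simp
    exact congrArg Derivation.toLinearMap h0
  exact det_ne_zero D p t (fun i => π (F i)) hD hc hpow

end Groth.Agent.S18154
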