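import Groth.Statements.S18156
import Mathlib

set_option autoImplicit false
universe u v
open CAlg

namespace Groth.Agent.S18156

/-- Let k be a field and A a regular local ring that is a k-algebra, with maximal ideal m and m-adic
completion Â. Then every k-derivation D of A into itself extends to a k-derivation D̂ of Â into
itself along the canonical map ρ : A → Â, in the sense that D̂(ρ(a)) = ρ(D(a)) for every a ∈ A. (The
source works throughout over an algebraically closed field of characteristic p; neither assumption
enters this statement.) -/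
theorem result
    (k : Type u) [Field k] (A : Type v) [CommRing A] [Algebra k A] [IsRegularLocalRing A]
    (D : Derivation k A A) :
    ∃ Dhat : Derivation k (AdicCompletion (IsLocalRing.maximalIdeal A) A)
        (AdicCompletion (IsLocalRing.maximalIdeal A) A),
      ∀ a : A, Dhat (algebraMap A (AdicCompletion (IsLocalRing.maximalIdeal A) A) a) =
        algebraMap A (AdicCompletion (IsLocalRing.maximalIdeal A) A) (D a) := by
  classical
  set I := IsLocalRing.maximalIdeal A
  have hD : ∀ n : ℕ, ∀ a ∈ I ^ (n + 1), D a ∈ I ^ n := by
    intro n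
    induction n with
    | zero => intro a _; simp
    | succ n ih =>
      intro a ha
      rw [pow_succ] at ha
      induction ha using Submodule.mul_induction_on' with
      | mem_mul_mem x hx y hy =>
        rw [Derivation.leibniz, smul_eq_mul, smul_eq_mul, mul_comm y]
        refine Ideal.add_mem _ (Ideal.mul_mem_right _ _ hx) ?_
        rw [pow_succ]
        exact Ideal.mul_mem_mul (ih x hx) hy
      | add x _ y _ hx hy => rw [map_add]; exact Ideal.add_mem _ hx hy
  have htop : ∀ n : ℕ, (I ^ n • ⊤ : Submodule A A) = I ^ n := fun n => by
    rw [smul_eq_mul, Ideal.mul_top]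
  let q : ∀ n, A →ₗ[A] A ⧸ (I ^ n • ⊤ : Submodule A A) := fun n => Submodule.mkQ _
  have hqD : ∀ (n : ℕ) (a b : A), q (n + 1) a = q (n + 1) b → q n (D a) = q n (D b) := by
    intro n a b h
    simp only [q, Submodule.mkQ_apply, Submodule.Quotient.eq, htop] at h ⊢
    rw [← map_sub]; exact hD n _ h
  let s : AdicCompletion I A → ℕ → A := fun x n => (Submodule.Quotient.mk_surjective _ (x.val (n + 1))).choose
  have hs : ∀ x n, q (n + 1) (s x n) = x.val (n + 1) := fun x n =>
    (Submodule.Quotient.mk_surjective _ (x.val (n + 1))).choose_spec
  let Dv : AdicCompletion I A → AdicCompletion I A := fun x =>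
    ⟨fun n => q n (D (s x n)), fun {m n} hmn => by
      show q m (D (s x n)) = q m (D (s x m))
      refine hqD m _ _ ?_
      rw [hs x m, ← x.2 (Nat.succ_le_succ hmn)]
      show q (m + 1) (s x n) = AdicCompletion.transitionMap I A (Nat.succ_le_succ hmn) (x.val (n + 1))
      rw [← hs x n]
      rfl⟩
  have key : ∀ x n a, q (n + 1) a = x.val (n + 1) → (Dv x).val n = q n (D a) := fun x n a h =>
    hqD n _ _ ((hs x n).trans h.symm)
  let L : AdicCompletion I A →ₗ[k] AdicCompletion I A :=
    { toFun := Dv
      map_add' := fun x y => AdicCompletion.ext fun n => by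
        rw [key (x + y) n (s x n + s y n) (by rw [map_add, hs, hs]; rfl), map_add, map_add]; rfl
      map_smul' := fun c x => AdicCompletion.ext fun n => by
        rw [key (c • x) n (c • s x n) (by rw [LinearMap.map_smul_of_tower, hs]; rfl), Derivation.map_smul,
          LinearMap.map_smul_of_tower]; rfl }
  refine ⟨Derivation.mk' L fun x y => AdicCompletion.ext fun n => ?_, fun a => AdicCompletion.ext fun n => ?_⟩
  · have h : (L (x * y)).val n = q n (D (s x n * s y n)) := key (x * y) n (s x n * s y n) (by
      rw [AdicCompletion.val_mul, ← hs x n, ← hs y n]; rfl)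
    rw [h, Derivation.leibniz, map_add]
    have h2 : q n (s x n) = x.val n ∧ q n (s y n) = y.val n := ⟨(congrArg (AdicCompletion.transitionMap I A (Nat.le_succ n)) (hs x n)).trans (x.2 _), (congrArg (AdicCompletion.transitionMap I A (Nat.le_succ n)) (hs y n)).trans (y.2 _)⟩
    show _ = (x * L y + y * L x).val n
    show _ = x.val n * q n (D (s y n)) + y.val n * q n (D (s x n))
    rw [← h2.1, ← h2.2]
    rfl
  · exact key _ n a rfl

end Groth.Agent.S18156
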