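import Groth.Statements.S18158
import Groth.Agent.Lib.TopInv15.Bc
import Groth.Agent.Lib.W2Lift.Basic
import Mathlib.RingTheory.WittVector.Teichmuller

set_option autoImplicit false
universe u
open CategoryTheory CategoryTheory.Limits AlgebraicGeometry
open Lift

namespace Groth.Agent.S18158

set_option backward.isDefEq.respectTransparency.types false

/-- Let k be an algebraically closed field of characteristic p and q : Y → X an étale morphism to a
smooth k-scheme X. Suppose X has a W_2-lifting of its Frobenius: a scheme X~ flat over Spec W_2(k),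
a morphism i : X → X~ making X the base change of X~ along Spec k → Spec W_2(k) (the residue map),
and an endomorphism F~ of X~ with i ∘ F_X = F~ ∘ i, F_X the absolute Frobenius. Then Y has one as
well: there are a scheme Y~ flat over Spec W_2(k), a morphism j : Y → Y~ making Y the base change of
Y~ along the same map, and an endomorphism G~ of Y~ with j ∘ F_Y = G~ ∘ j. (The source speaks of an
étale cover Y → X of smooth varieties; its argument uses only that Y is étale over X and that X
lifts, so X is taken smooth over k and Y étale over X, with no integrality, separatedness or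
quasi-compactness assumed.) -/
theorem result
    (p : ℕ) [Fact p.Prime] (k : Type u) [Field k] [IsAlgClosed k] [CharP k p]
    (X Y : Scheme.{u}) (f : X ⟶ Spec (CommRingCat.of k)) [Smooth f]
    (q : Y ⟶ X) [AlgebraicGeometry.Etale q]
    [FrobSch.IsCharP X p] [FrobSch.IsCharP Y p]
    (Xl : Scheme.{u}) (g : Xl ⟶ Spec (CommRingCat.of (FrobAlg.W2 p k))) [Flat g]
    (i : X ⟶ Xl) (hsq : IsPullback i f g (Spec.map (CommRingCat.ofHom (FrobAlg.res p k))))
    (Fl : Xl ⟶ Xl) (hF : i ≫ Fl = FrobSch.frob X p ≫ i) :
    ∃ (Yl : Scheme.{u}) (gY : Yl ⟶ Spec (CommRingCat.of (FrobAlg.W2 p k))) (j : Y ⟶ Yl) (Gl : Yl ⟶ Yl),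
      Flat gY ∧ IsPullback j (q ≫ f) gY (Spec.map (CommRingCat.ofHom (FrobAlg.res p k))) ∧
        j ≫ Gl = FrobSch.frob Y p ≫ j := by
  have hres : Function.Surjective (FrobAlg.res p k) := fun a => by
    obtain ⟨x, hx⟩ := WittVector.constantCoeff_surjective (p := p) (R := k) a
    exact ⟨WittVector.truncate 2 x, (FrobAlg.res_truncate p k x).trans hx⟩
  haveI : PerfectRing k p := PerfectField.toPerfectRing p
  have hnil : RingHom.ker (FrobAlg.res p k) ≤ nilradical (FrobAlg.W2 p k) := fun x hx => by
    obtain ⟨y, rfl⟩ := Groth.Agent.W2Lift.exists_eq_mul_p hx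
    show IsNilpotent (y * (p : FrobAlg.W2 p k))
    exact ⟨2, by rw [mul_pow, pow_two (p : FrobAlg.W2 p k), Groth.Agent.W2Lift.p_mul_p, mul_zero]⟩
  haveI : IsClosedImmersion (Spec.map (CommRingCat.ofHom (FrobAlg.res p k))) :=
    IsClosedImmersion.spec_of_surjective _ hres
  haveI : Surjective (Spec.map (CommRingCat.ofHom (FrobAlg.res p k))) :=
    ⟨fun x => by
      have hx : RingHom.ker (FrobAlg.res p k) ≤ x.asIdeal :=
        hnil.trans (nilradical_le_prime x.asIdeal)
      have : x ∈ Set.range (PrimeSpectrum.comap (FrobAlg.res p k)) := by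
        rw [range_comap_of_surjective _ _ hres]
        exact hx
      exact this⟩
  haveI : IsClosedImmersion i := MorphismProperty.of_isPullback hsq.flip inferInstance
  haveI : Surjective i := MorphismProperty.of_isPullback hsq.flip inferInstance
  obtain ⟨Yl, a, c, ha, sq⟩ := Groth.Agent.TopInv15.exists_etale_scheme i q
  have sqY : IsPullback c (q ≫ f) (a ≫ g) (Spec.map (CommRingCat.ofHom (FrobAlg.res p k))) :=
    sq.flip.paste_vert hsq
  let A : Over Xl := Over.mk a
  let E : Over Xl := Over.mk (pullback.snd a Fl)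
  haveI : AlgebraicGeometry.Etale E.hom :=
    MorphismProperty.pullback_snd (P := @AlgebraicGeometry.Etale) a Fl ha
  have w : (FrobSch.frob Y p ≫ c) ≫ a = (q ≫ i) ≫ Fl := by
    rw [Category.assoc, ← sq.w, Category.assoc, hF, ← Category.assoc, ← Category.assoc,
      FrobSch.frob_comp]
  let φ : Y ⟶ E.left := pullback.lift (FrobSch.frob Y p ≫ c) (q ≫ i) w
  let ψ₀ : (Over.pullback i).obj A ⟶ (Over.pullback i).obj E :=
    Over.homMk (pullback.lift (sq.flip.isoPullback.inv ≫ φ) (pullback.snd a i) (by
      rw [Category.assoc]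
      simp only [φ, E, Over.mk_hom, pullback.lift_snd]
      rw [← Category.assoc, IsPullback.isoPullback_inv_snd]))
      (by simp only [Over.pullback_obj_hom]; exact pullback.lift_snd _ _ _)
  obtain ⟨ψ, hψ⟩ := (Groth.Agent.EtFin.pullback_map_bijective i E A).2 ψ₀
  have hψ' : pullback.fst a i ≫ ψ.left = sq.flip.isoPullback.inv ≫ φ := by
    have := congr(($hψ).left ≫ pullback.fst E.hom i)
    simp only [Over.pullback_map_left, ψ₀, Over.homMk_left] at this
    erw [pullback.lift_fst, pullback.lift_fst] at this
    exact this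
  have hc : c ≫ ψ.left = φ := by
    have h1 : c = sq.flip.isoPullback.hom ≫ pullback.fst a i :=
      (IsPullback.isoPullback_hom_fst _).symm
    rw [h1, Category.assoc]
    erw [hψ']
    rw [Iso.hom_inv_id_assoc]
  haveI := ha
  refine ⟨Yl, a ≫ g, c, ψ.left ≫ pullback.fst a Fl, inferInstance, sqY, ?_⟩
  rw [← Category.assoc]
  erw [hc]
  exact pullback.lift_fst _ _ _

end Groth.Agent.S18158
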