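import Groth.Statements.S18161
import Mathlib

set_option autoImplicit false
universe u
open BSB

namespace Groth.Agent.S18161

open AlgebraicGeometry CategoryTheory Limits IsLocalRing

private theorem etale_lqf {X Y : Scheme.{u}} (f : X ⟶ Y) [Etale f] : LocallyQuasiFinite f := by
  rw [HasRingHomProperty.iff_appLE (P := @LocallyQuasiFinite)]
  intro U V e
  have h₁ := HasRingHomProperty.appLE (P := @LocallyOfFiniteType) f inferInstance U V e
  have h₂ := HasRingHomProperty.appLE (P := @FormallyUnramified) f inferInstance U V e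
  algebraize [(f.appLE U V e).hom]
  exact RingHom.quasiFinite_algebraMap.2
    ⟨fun p _ => Algebra.FormallyUnramified.finite_of_free p.ResidueField
      (TensorProduct Γ(Y, U.1) p.ResidueField Γ(X, V.1))⟩

/-- A finite étale algebra has `rank`-many points in a separably closed field. -/
private theorem card_algHom_of_etale (k A Ω : Type u) [Field k] [CommRing A] [Algebra k A]
    [Algebra.Etale k A] [Field Ω] [IsSepClosed Ω] [Algebra k Ω] :
    Finite (A →ₐ[k] Ω) ∧ Nat.card (A →ₐ[k] Ω) = Module.finrank k A := by
  have : Module.Finite k A := Algebra.FormallyUnramified.finite_of_free k A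
  refine ⟨inferInstance, le_antisymm (card_algHom_le_finrank k A Ω) ?_⟩
  let e := Algebra.FormallyEtale.equivPiOfIsSepClosed Ω (TensorProduct k Ω A)
  have : Module.Finite Ω (TensorProduct k Ω A) := inferInstance
  have : IsArtinianRing (TensorProduct k Ω A) := isArtinian_of_tower Ω inferInstance
  have hcard : Module.finrank k A = Nat.card (PrimeSpectrum (TensorProduct k Ω A)) := by
    haveI := Fintype.ofFinite (PrimeSpectrum (TensorProduct k Ω A))
    rw [← Module.finrank_baseChange (R := Ω) (S := k) (M' := A), e.toLinearEquiv.finrank_eq,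
      Module.finrank_pi, Nat.card_eq_fintype_card]
  rw [hcard]
  refine Nat.card_le_card_of_injective (fun p => ((Pi.evalAlgHom Ω _ p).comp
    e.toAlgHom).restrictScalars k |>.comp Algebra.TensorProduct.includeRight) ?_
  intro p q h
  have h' : (Pi.evalAlgHom Ω _ p).comp e.toAlgHom = (Pi.evalAlgHom Ω _ q).comp e.toAlgHom :=
    Algebra.TensorProduct.ext (Subsingleton.elim _ _) h
  by_contra hpq
  classical
  have := congrArg (fun φ => φ (e.symm (Pi.single p 1))) h'
  simp [Pi.single_eq_of_ne (Ne.symm hpq)] at this

variable {T S : Scheme.{u}} (f : T ⟶ S)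

set_option backward.isDefEq.respectTransparency false in
/-- The number of geometric points over a geometric point is the rank of the fibre. -/
private theorem card_points [Etale f] [QuasiCompact f] (d : ℕ)
    (hd : ∀ s : S, Module.finrank (S.residueField s) Γ(f.fiber s, ⊤) = d)
    (Ω : Type u) [Field Ω] [IsSepClosed Ω] (q : Spec (CommRingCat.of Ω) ⟶ S) :
    Finite {m : Spec (CommRingCat.of Ω) ⟶ T // m ≫ f = q} ∧
      Nat.card {m : Spec (CommRingCat.of Ω) ⟶ T // m ≫ f = q} = d := by
  obtain ⟨⟨s, φ⟩, rfl⟩ := (Scheme.SpecToEquivOfField Ω S).symm.surjective q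
  simp only [Scheme.SpecToEquivOfField_symm_apply]
  letI : Algebra (S.residueField s) Ω := φ.hom.toAlgebra
  have : LocallyQuasiFinite f := etale_lqf f
  have : IsArtinianScheme (f.fiber s) := inferInstance
  have : IsAffine (f.fiber s) := inferInstance
  have : Etale (f.fiberToSpecResidueField s) := inferInstance
  have : Algebra.Etale (S.residueField s) Γ(f.fiber s, ⊤) := by
    have h := (HasRingHomProperty.iff_of_isAffine (P := @Etale)).mp this
    rw [← RingHom.etale_algebraMap]
    exact RingHom.Etale.respectsIso.2 _ (Scheme.ΓSpecIso (S.residueField s)).symm.commRingCatIsoToRingEquiv h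
  let A := Γ(f.fiber s, ⊤)
  let g := f.fiberToSpecResidueField s
  have hg : (f.fiber s).isoSpec.inv ≫ g =
      Spec.map (CommRingCat.ofHom (algebraMap (S.residueField s) A)) := by
    have h := Scheme.isoSpec_inv_naturality g
    rw [Scheme.isoSpec_Spec_inv, ← Spec.map_comp] at h
    exact h.symm
  let F : (A →ₐ[S.residueField s] Ω) →
      {m : Spec (CommRingCat.of Ω) ⟶ T // m ≫ f = Spec.map φ ≫ S.fromSpecResidueField s} :=
    fun ψ => ⟨Spec.map (CommRingCat.ofHom ψ.toRingHom) ≫ (f.fiber s).isoSpec.inv ≫ f.fiberι s, by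
      simp only [Category.assoc, Scheme.Hom.fiber_fac]
      have h1 : Spec.map (CommRingCat.ofHom ψ.toRingHom) ≫ (f.fiber s).isoSpec.inv ≫ g =
          Spec.map φ := by
        rw [hg, ← Spec.map_comp]
        exact congrArg Spec.map (CommRingCat.hom_ext (RingHom.ext fun x => ψ.commutes x))
      simpa [g] using congrArg (· ≫ S.fromSpecResidueField s) h1⟩
  have hF : Function.Bijective F := by
    constructor
    · intro ψ₁ ψ₂ h
      have h1 : Spec.map (CommRingCat.ofHom ψ₁.toRingHom) ≫ (f.fiber s).isoSpec.inv =
          Spec.map (CommRingCat.ofHom ψ₂.toRingHom) ≫ (f.fiber s).isoSpec.inv := by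
        apply pullback.hom_ext
        · exact (Category.assoc _ _ _).trans ((congrArg Subtype.val h).trans (Category.assoc _ _ _).symm)
        · have : ∀ ψ : A →ₐ[S.residueField s] Ω,
              Spec.map (CommRingCat.ofHom ψ.toRingHom) ≫ (f.fiber s).isoSpec.inv ≫ g =
                Spec.map φ := fun ψ => by
            rw [hg, ← Spec.map_comp]
            exact congrArg Spec.map (CommRingCat.hom_ext (RingHom.ext fun x => ψ.commutes x))
          exact (Category.assoc _ _ _).trans (((this ψ₁).trans (this ψ₂).symm).trans (Category.assoc _ _ _).symm)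
      have h2 := Spec.map_injective ((cancel_mono (f.fiber s).isoSpec.inv).mp h1)
      exact AlgHom.ext fun x => congrArg (fun χ => χ.hom x) h2
    · rintro ⟨m, hm⟩
      let n : Spec (CommRingCat.of Ω) ⟶ f.fiber s := pullback.lift m (Spec.map φ) hm
      obtain ⟨χ, hχ⟩ : ∃ χ, Spec.map χ = n ≫ (f.fiber s).isoSpec.hom := Spec.map_surjective _
      have hχ' : CommRingCat.ofHom (algebraMap (S.residueField s) A) ≫ χ = φ := by
        apply Spec.map_injective
        rw [Spec.map_comp, hχ, ← hg]
        simp [n, g, Scheme.Hom.fiberToSpecResidueField]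
      refine ⟨⟨χ.hom, fun x => congrArg (fun η => η.hom x) hχ'⟩, Subtype.ext ?_⟩
      change Spec.map χ ≫ (f.fiber s).isoSpec.inv ≫ f.fiberι s = m
      rw [hχ]
      simp [n, Scheme.Hom.fiberι]
  obtain ⟨hfin, hc⟩ := card_algHom_of_etale (S.residueField s) A Ω
  exact ⟨Finite.of_equiv _ (Equiv.ofBijective F hF),
    (Nat.card_congr (Equiv.ofBijective F hF)).symm.trans (hc.trans (hd s))⟩

set_option backward.isDefEq.respectTransparency false in
/-- Two lifts from a local scheme which agree on a morphism hitting the closed point agree. -/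
private theorem eq_of_comp_eq [IsOpenImmersion (pullback.diagonal f)] {R : CommRingCat.{u}}
    [IsLocalRing R] {Z : Scheme.{u}} (φ : Z ⟶ Spec R) (hφ : closedPoint R ∈ Set.range φ)
    (g h : Spec R ⟶ T) (w : g ≫ f = h ≫ f) (e : φ ≫ g = φ ≫ h) : g = h := by
  let p := pullback.lift g h w
  let j := pullback.snd (pullback.diagonal f) p
  have : IsOpenImmersion j := inferInstance
  let ℓ : Z ⟶ pullback (pullback.diagonal f) p := pullback.lift (φ ≫ g) φ (by
    apply pullback.hom_ext <;> simp [p, e])
  have hℓ : ℓ ≫ j = φ := pullback.lift_snd _ _ _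
  have htop : j.opensRange = ⊤ := by
    apply closed_point_mem_iff.mp
    obtain ⟨z, hz⟩ := hφ
    exact ⟨ℓ z, by rw [← hz, ← hℓ]; rfl⟩
  have : IsIso j := by
    have : Surjective j := ⟨fun x => by
      have : x ∈ j.opensRange := htop ▸ trivial
      exact this⟩
    exact (isIso_iff_isOpenImmersion_and_surjective _).mpr ⟨inferInstance, inferInstance⟩
  rw [← cancel_epi j]
  have hc := pullback.condition (f := pullback.diagonal f) (g := p)
  have h1 : j ≫ g = pullback.fst _ _ := by
    simpa [p, j] using (congrArg (· ≫ pullback.fst f f) hc).symm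
  have h2 : j ≫ h = pullback.fst _ _ := by
    simpa [p, j] using (congrArg (· ≫ pullback.snd f f) hc).symm
  rw [h1, h2]

/-- Uniqueness of lifts along a valuation ring with separably closed fraction field. -/
private theorem lifts_unique [Etale f] [QuasiCompact f] [UniversallyClosed f] (d : ℕ)
    (hd : ∀ s : S, Module.finrank (S.residueField s) Γ(f.fiber s, ⊤) = d)
    (V K : Type u) [CommRing V] [IsDomain V] [ValuationRing V] [Field K] [IsSepClosed K]
    [Algebra V K] [IsFractionRing V K] (l₁ l₂ : Spec (CommRingCat.of V) ⟶ T)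
    (w : l₁ ≫ f = l₂ ≫ f)
    (e : Spec.map (CommRingCat.ofHom (algebraMap V K)) ≫ l₁ =
      Spec.map (CommRingCat.ofHom (algebraMap V K)) ≫ l₂) : l₁ = l₂ := by
  let q := l₂ ≫ f
  let a := Spec.map (CommRingCat.ofHom (algebraMap V K))
  let Ω := AlgebraicClosure (ResidueField V)
  let r : V →+* Ω := (algebraMap (ResidueField V) Ω).comp (residue V)
  let b := Spec.map (CommRingCat.ofHom r)
  let L := {l : Spec (CommRingCat.of V) ⟶ T // l ≫ f = q}
  obtain ⟨fG, cG⟩ := card_points f d hd K (a ≫ q)
  obtain ⟨fC, cC⟩ := card_points f d hd Ω (b ≫ q)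
  let G : L → {m // m ≫ f = a ≫ q} := fun l => ⟨a ≫ l.1, by rw [Category.assoc, l.2]⟩
  let C : L → {m // m ≫ f = b ≫ q} := fun l => ⟨b ≫ l.1, by rw [Category.assoc, l.2]⟩
  have hb : closedPoint (CommRingCat.of V) ∈ Set.range b := by
    refine ⟨closedPoint Ω, ?_⟩
    haveI : IsLocalHom r := by
      unfold r
      infer_instance
    exact comap_closedPoint r
  have hC : Function.Injective C := fun x y h => Subtype.ext (eq_of_comp_eq f b hb x.1 y.1
    (x.2.trans y.2.symm) (congrArg Subtype.val h))
  have hG : Function.Surjective G := by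
    rintro ⟨m, hm⟩
    have hex : ValuativeCriterion.Existence f := by
      have := ‹UniversallyClosed f›
      rw [UniversallyClosed.eq_valuativeCriterion] at this
      exact this.1
    obtain ⟨⟨l, hl, hl'⟩⟩ := (hex ⟨V, K, m, q, ⟨hm⟩⟩).exists_lift
    exact ⟨⟨l, hl'⟩, Subtype.ext hl⟩
  have : Finite L := Finite.of_injective C hC
  have hbij : Function.Bijective G := by
    refine (Nat.bijective_iff_surjective_and_card G).mpr ⟨hG, le_antisymm ?_ ?_⟩
    · rw [cG, ← cC]; exact Nat.card_le_card_of_injective C hC
    · exact Nat.card_le_card_of_surjective G hG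
  exact congrArg Subtype.val (@hbij.1 ⟨l₁, w⟩ ⟨l₂, rfl⟩ (Subtype.ext e))

/-- Let f : T ⟶ S be an étale, quasi-compact, quasi-separated and universally closed morphism of
schemes, and suppose that for some natural number d the global functions of every scheme-theoretic
fibre of f form a d-dimensional vector space over the residue field of the corresponding point of S.
Then f is finite. (Separatedness of f is not assumed.) -/
theorem result {T S : Scheme.{u}} (f : T ⟶ S)
    [Etale f] [QuasiCompact f] [QuasiSeparated f] [UniversallyClosed f] (d : ℕ)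
    (hd : ∀ s : S, Module.finrank (S.residueField s) Γ(f.fiber s, ⊤) = d) :
    IsFinite f := by
  have : LocallyQuasiFinite f := etale_lqf f
  have : IsSeparated f := by
    refine IsSeparated.of_valuativeCriterion f fun Sq => ⟨?_⟩
    rintro ⟨l₁, h₁, h₁'⟩ ⟨l₂, h₂, h₂'⟩
    ext : 1
    dsimp at *
    let R := Sq.R
    let K := Sq.K
    let Kb := AlgebraicClosure K
    let i : R →+* Kb := (algebraMap K Kb).comp (algebraMap R K)
    obtain ⟨V, hle, hloc⟩ := (LocalSubring.range i).exists_le_valuationSubring
    have hmem : ∀ x, i x ∈ V := fun x => hle ⟨x, rfl⟩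
    let j : R →+* V := i.codRestrict V.toSubring hmem
    have hj : IsLocalHom j := by
      refine ⟨fun x hx => ?_⟩
      have h1 : IsUnit (Subring.inclusion hle ⟨i x, x, rfl⟩) := hx
      have h2 : IsUnit (⟨i x, x, rfl⟩ : (LocalSubring.range i).toSubring) :=
        (isUnit_map_iff (Subring.inclusion hle) _).mp h1
      have hinj : Function.Injective i :=
        (algebraMap K Kb).injective.comp (IsFractionRing.injective R K)
      obtain ⟨⟨_, y, rfl⟩, hy⟩ := h2.exists_right_inv
      exact IsUnit.of_mul_eq_one y (hinj (by rw [map_mul, map_one]; exact congrArg Subtype.val hy))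
    have hclosed : closedPoint (CommRingCat.of R) ∈ Set.range (Spec.map (CommRingCat.ofHom j)) :=
      ⟨closedPoint V, comap_closedPoint j⟩
    have w : l₁ ≫ f = l₂ ≫ f := h₁'.trans h₂'.symm
    refine eq_of_comp_eq f (Spec.map (CommRingCat.ofHom j)) hclosed l₁ l₂ w ?_
    refine lifts_unique f d hd V Kb _ _ (by simp only [Category.assoc, w]) ?_
    have hfac : Spec.map (CommRingCat.ofHom (algebraMap V Kb)) ≫ Spec.map (CommRingCat.ofHom j) =
        Spec.map (CommRingCat.ofHom (algebraMap K Kb)) ≫
          Spec.map (CommRingCat.ofHom (algebraMap R K)) := by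
      rw [← Spec.map_comp, ← Spec.map_comp]
      rfl
    rw [reassoc_of% hfac, reassoc_of% hfac]
    exact congrArg _ (h₁.trans h₂.symm)
  have : IsProper f := ⟨⟩
  exact IsFinite.of_isProper_of_locallyQuasiFinite f

end Groth.Agent.S18161
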