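import Groth.Statements.S18162
import Groth.Agent.Lib.BSBVan1
import Groth.Agent.Lib.RatSingEuler13.Basic
import Groth.Agent.Lib.FlatTwist13.Main

set_option autoImplicit false
universe u
open BSB

namespace Groth.Agent.S18162

open AlgebraicGeometry CategoryTheory CategoryTheory.Limits in
/-- Let S be a Noetherian scheme, π : X ⟶ S a proper morphism, L and M invertible O_X-modules each ample
relative to π, and F a coherent O_X-module. Then there is n such that R^i π_* (F ⊗ L^a ⊗ M^b) = 0
for every i > 0 and all a, b ≥ 0 with max(a, b) ≥ n. (Projectivity of π in the source is rendered as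
properness together with the given relatively ample invertible modules; the instance argument
recording injective resolutions of O_X-modules is true but not yet in Mathlib.) -/
theorem result {X S : Scheme.{u}} (π : X ⟶ S) [IsNoetherian S] [IsProper π]
    [HasInjectiveResolutions X.Modules]
    (L M : X.Modules) (hLi : PicF.IsInvertible L) (hMi : PicF.IsInvertible M)
    (hL : RelAmple.IsRelAmple π L) (hM : RelAmple.IsRelAmple π M)
    (F : X.Modules) (hF : Coh.IsCoh F) :
    ∃ n : ℕ, ∀ (i a b : ℕ), 0 < i → n ≤ max a b →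
      IsZero ((Coh.Rpush π i).obj (CohB1.tensorMod F (CohB1.tensorMod (CohB1.tensorPow L a) (CohB1.tensorPow M b)))) := by
  classical
  choose V hV hxV using fun x : S => exists_isAffineOpen_mem_and_subset (x := x) (U := ⊤) trivial
  obtain ⟨T, hT⟩ := isCompact_univ.elim_finite_subcover (fun x => (V x : Set S)) (fun x => (V x).isOpen)
    fun x _ => Set.mem_iUnion.2 ⟨x, (hxV x).1⟩
  have hloc : ∀ x : T, ∃ n₀ : ℕ, ∀ a b : ℕ, n₀ ≤ max a b → ∀ p : ℕ, 0 < p →
      Subsingleton (Coh.HH (π ⁻¹ᵁ V x.1 : X.Opens).toScheme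
        ((CohB1.tensorMod F (CohB1.tensorMod (CohB1.tensorPow L a) (CohB1.tensorPow M b))).restrict
          (π ⁻¹ᵁ V x.1).ι) p) := fun x => by
    letI := Groth.Agent.CBC10.overU π (hV x.1)
    haveI := Groth.Agent.CBC10.isProper_overU π (hV x.1)
    haveI : IsNoetherianRing Γ(S, V x.1) := IsLocallyNoetherian.component_noetherian ⟨V x.1, hV x.1⟩
    obtain ⟨n, hn⟩ := Groth.Agent.BSBVan1.exists_van_pair Γ(S, V x.1) (hL.2 ⟨V x.1, hV x.1⟩) (hM.2 ⟨V x.1, hV x.1⟩)
      (Groth.Agent.CBC10.isCoh_resU (f := π) (U := V x.1) hF)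
    refine ⟨n, fun a b hab p hp => ?_⟩
    exact Groth.Agent.CMReg18.van_iso Γ(S, V x.1)
      (Groth.Agent.M2.restrictTensorIso _ F _ ≪≫
        Groth.Agent.M2.tensorIso (Iso.refl _) (Groth.Agent.M2.restrictTensorIso _ _ _ ≪≫
          Groth.Agent.M2.tensorIso (Groth.Agent.M2.restrictTensorPowIso _ L a)
            (Groth.Agent.M2.restrictTensorPowIso _ M b))).symm (hn a b hab p hp)
  choose n₀ hn₀ using hloc
  refine ⟨Finset.univ.sup n₀, fun i a b hi hab => ?_⟩
  have hG : Coh.IsQCoh (CohB1.tensorMod F (CohB1.tensorMod (CohB1.tensorPow L a) (CohB1.tensorPow M b))) :=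
    Groth.Agent.M2.isQCoh_tensor hF.1 (Groth.Agent.Twist.isQCoh_of_isInvertible
      (Groth.Agent.M2.isInvertible_tensor (Groth.Agent.M2.isInvertible_tensorPow hLi a)
        (Groth.Agent.M2.isInvertible_tensorPow hMi b)))
  refine Groth.Agent.RatSingEuler13.isZero_rpush_of_rpushAb π _ i
    (Groth.Agent.CohFound.isZero_rpushAb_of_cover π _ hG (fun x : T => V x.1) (fun x => hV x.1) (fun y => ?_) i
      fun x => (Groth.Agent.CohFound.subsingleton_HH_iff _ _).1
        (hn₀ x a b ((Finset.le_sup (Finset.mem_univ x)).trans hab) i hi))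
  obtain ⟨x, hx, hy⟩ := Set.mem_iUnion₂.1 (hT (Set.mem_univ y))
  exact ⟨⟨x, hx⟩, hy⟩

end Groth.Agent.S18162
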