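import Groth.Statements.S18163
import Groth.Agent.Lib.PicPn.TrivialFibres
import Groth.Agent.Lib.RelAmple18.Generation
import Groth.Agent.Lib.RelAmple18.Generated
import Groth.Agent.Lib.Ample18.Sections
import Groth.Agent.Lib.TensorMod.Invertible

set_option autoImplicit false
universe u
open BSB

namespace Groth.Agent.S18163

open AlgebraicGeometry CategoryTheory CategoryTheory.Limits in
/-- Let X and X' be proper over a field k, π : X ⟶ X' a k-morphism such that O_{X'} ⟶ π_* O_X is an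
isomorphism, L an invertible O_X-module, M an ample invertible module on X' whose pullback along π
is isomorphic to L^m for some m > 0, and d > 0 such that for all large n the power L^n is globally
generated exactly when d ∣ n (d is the exponent of the semiample module L, and X' with π is the
contraction L determines). Then for e > 0 the power L^e is isomorphic to the pullback of an
invertible module on X' if and only if d ∣ e. -/
theorem result (k : Type u) [Field k] (X X' : Scheme.{u})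
    [X.Over (Spec (CommRingCat.of k))] [X'.Over (Spec (CommRingCat.of k))]
    [IsProper (X ↘ Spec (CommRingCat.of k))] [IsProper (X' ↘ Spec (CommRingCat.of k))]
    (π : X ⟶ X') (hover : π ≫ (X' ↘ Spec (CommRingCat.of k)) = X ↘ Spec (CommRingCat.of k))
    (hπ : ∀ U : X'.Opens, IsIso (π.app U))
    (L : X.Modules) (hL : PicF.IsInvertible L) (M : X'.Modules) (hM : PicF.IsInvertible M) (hMa : CohB1.IsAmple M)
    (m : ℕ) (hm : 0 < m) (e0 : Nonempty ((Scheme.Modules.pullback π).obj M ≅ CohB1.tensorPow L m))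
    (d : ℕ) (hd : 0 < d)
    (hexp : ∃ m0 : ℕ, ∀ n : ℕ, m0 ≤ n → (Curv2.IsGloballyGenerated (CohB1.tensorPow L n) ↔ d ∣ n)) :
    ∀ e : ℕ, 0 < e →
      ((∃ L' : X'.Modules, PicF.IsInvertible L' ∧ Nonempty ((Scheme.Modules.pullback π).obj L' ≅ CohB1.tensorPow L e)) ↔ d ∣ e) := by
  classical
  intro e he
  obtain ⟨m0, hm0⟩ := hexp
  obtain ⟨e0⟩ := e0
  have hb : ∀ V : X'.Opens, Function.Bijective (π.app V) := fun V =>
    haveI := hπ V; ConcreteCategory.bijective_of_isIso (π.app V)
  haveI : IsProper (π ≫ (X' ↘ Spec (CommRingCat.of k))) := by rw [hover]; infer_instance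
  haveI : IsProper π := MorphismProperty.of_postcomp (W := @IsProper) (W' := @IsSeparated) π
    (X' ↘ Spec (CommRingCat.of k)) inferInstance inferInstance
  have hsurj := Groth.Agent.RigidRel.surjective_of_injective_app π fun U _ => (hb U).1
  have hMn : ∀ n, PicF.IsInvertible (CohB1.tensorPow M n) := Groth.Agent.M2.isInvertible_tensorPow hM
  have hLn : ∀ n, PicF.IsInvertible (CohB1.tensorPow L n) := Groth.Agent.M2.isInvertible_tensorPow hL
  have hpull : ∀ n, Nonempty ((Scheme.Modules.pullback π).obj (CohB1.tensorPow M n) ≅ CohB1.tensorPow L (m * n)) :=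
    fun n => ⟨Groth.Agent.M2.pullTensorPowIso π M n ≪≫ Groth.Agent.M2.tensorPowIso e0 n ≪≫
      Groth.Agent.M2.tensorPowPow L m n⟩
  constructor
  · rintro ⟨L', hL', ⟨eL'⟩⟩
    have hgg : ∀ (N : X'.Modules), PicF.IsInvertible N → Curv2.IsGloballyGenerated N →
        ∀ j, ((Scheme.Modules.pullback π).obj N ≅ CohB1.tensorPow L j) → m0 ≤ j → d ∣ j := by
      intro N hN hg j ej hj
      refine (hm0 j hj).1 ?_
      refine Groth.Agent.RA.isGloballyGenerated_of_gen (hLn j) fun z => ?_
      obtain ⟨t, ht⟩ := Groth.Agent.RA.exists_gen_of_isGloballyGenerated hN hg (π z)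
      refine ⟨((PicLoc.pullbackStructureIso π).symm.hom ≫ (Scheme.Modules.pullback π).map t) ≫ ej.hom, ?_⟩
      rw [Groth.Agent.Twist.genLocus_comp_iso, Groth.Agent.Amp.genLocus_pullback π hN]
      exact ht
    obtain ⟨j1, hj1⟩ := Groth.Agent.RA.exists_globallyGenerated hMa L' (Groth.Agent.Twist.isQCoh_of_isInvertible hL')
      (Groth.Agent.M1.isFP_isFT (Groth.Agent.LimShf14.isFP_of_isInvertible hL'))
    have hO := PicLoc.isInvertible_structureModule X'
    obtain ⟨j2, hj2⟩ := Groth.Agent.RA.exists_globallyGenerated hMa (Coh.structureModule X')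
      (Groth.Agent.Twist.isQCoh_of_isInvertible hO)
      (Groth.Agent.M1.isFP_isFT (Groth.Agent.LimShf14.isFP_of_isInvertible hO))
    let j := j1 + j2 + m0
    have hjm : m0 ≤ m * j := le_trans (Nat.le_add_left _ _) (Nat.le_mul_of_pos_left _ hm)
    obtain ⟨ej⟩ := hpull j
    have h1 : d ∣ e + m * j := hgg _ (Groth.Agent.M2.isInvertible_tensor hL' (hMn j)) (hj1 j (by omega)) _
      (Groth.Agent.M2.pullTensorIso π L' _ ≪≫ Groth.Agent.M2.tensorIso eL' ej ≪≫
        (Groth.Agent.M2.tensorPowAdd L e (m * j)).symm) (by omega)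
    have h2 : d ∣ m * j := hgg _ (Groth.Agent.M2.isInvertible_tensor hO (hMn j)) (hj2 j (by omega)) _
      ((Scheme.Modules.pullback π).mapIso (Groth.Agent.M2.tensorLUnit _) ≪≫ ej) hjm
    exact (Nat.dvd_add_left h2).1 h1
  · intro hde
    have hdesc : ∀ n, d ∣ n → m0 ≤ n →
        ∃ N : X'.Modules, PicF.IsInvertible N ∧ Nonempty ((Scheme.Modules.pullback π).obj N ≅ CohB1.tensorPow L n) := by
      intro n hdn hn
      refine (Groth.Agent.PicPn.exists_of_gens π hb fun y => ?_).1
      obtain ⟨z₀, hz₀⟩ := hsurj.surj y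
      obtain ⟨t, ht⟩ := Groth.Agent.RA.exists_gen_of_isGloballyGenerated (hLn n) ((hm0 n hn).2 hdn) z₀
      obtain ⟨m', rfl⟩ : ∃ m', m = m' + 1 := ⟨m - 1, by omega⟩
      obtain ⟨eP⟩ := hpull n
      let ε : CohB1.tensorPow (CohB1.tensorPow L n) (m' + 1) ≅ (Scheme.Modules.pullback π).obj (CohB1.tensorPow M n) :=
        Groth.Agent.M2.tensorPowPow L n (m' + 1) ≪≫ eqToIso (by rw [Nat.mul_comm]) ≪≫ eP.symm
      let σ := SecTwist.powHom t (m' + 1) ≫ ε.hom
      have hσ : CohB1.genLocus _ σ = CohB1.genLocus _ t := by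
        rw [Groth.Agent.Twist.genLocus_comp_iso, Groth.Agent.Amp.genLocus_powHom (hLn n)]
      obtain ⟨V, g, hyV, -, -, hg⟩ := Groth.Agent.Amp.exists_isGenerator (hMn n) (V := ⊤) (x := y) trivial
      have hge : Groth.Agent.M2.IsGenerator (Groth.Agent.M2.pullSec π (CohB1.tensorPow M n) g) :=
        Groth.Agent.Twist.IsGen.pullback π hg
      obtain ⟨a, ha⟩ := Groth.Agent.Amp.exists_coeff hge
        (Groth.Agent.M2.res _ (le_top : π ⁻¹ᵁ V ≤ ⊤) (Groth.Agent.Amp.gval σ))
      have hloc := Groth.Agent.Amp.genLocus_inf_eq_basicOpen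
        (PicLoc.isInvertible_pullback π (hMn n)) σ hge ha
      obtain ⟨a₀, rfl⟩ := (hb V).2 a
      rw [← Scheme.preimage_basicOpen, hσ] at hloc
      have hle : π ⁻¹ᵁ X'.basicOpen a₀ ≤ CohB1.genLocus _ t := hloc ▸ inf_le_left
      refine ⟨X'.basicOpen a₀, Groth.Agent.M2.res _ le_top (Groth.Agent.Amp.gval t), ?_,
        Groth.Agent.Twist.isGen_of_stalk fun x hx => ?_⟩
      · rw [← hz₀]
        exact hloc.le ⟨ht, show π z₀ ∈ V by rw [hz₀]; exact hyV⟩
      · have h := (Groth.Agent.Amp.mem_genLocus_iff (hLn n) t).1 (hle hx)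
        rw [← Groth.Agent.Amp.gm_res le_top hx] at h
        exact h
    let n1 := d * (m0 + 1)
    have hn1 : m0 ≤ n1 := le_trans (Nat.le_succ m0) (Nat.le_mul_of_pos_left _ hd)
    obtain ⟨N1, hN1, ⟨f1⟩⟩ := hdesc n1 (dvd_mul_right d _) hn1
    obtain ⟨N2, hN2, ⟨f2⟩⟩ := hdesc (e + n1) (Nat.dvd_add hde (dvd_mul_right d _)) (by omega)
    obtain ⟨D, hD, ⟨eD⟩⟩ := Groth.Agent.M2.exists_inverse hN1
    exact ⟨CohB1.tensorMod N2 D, Groth.Agent.M2.isInvertible_tensor hN2 hD,
      ⟨Groth.Agent.M2.pullTensorIso π N2 D ≪≫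
        Groth.Agent.M2.tensorIso (f2 ≪≫ Groth.Agent.M2.tensorPowAdd L e n1) (Iso.refl _) ≪≫
        Groth.Agent.M2.tensorAssoc _ _ _ ≪≫
        Groth.Agent.M2.tensorIso (Iso.refl _) (Groth.Agent.M2.tensorIso f1.symm (Iso.refl _) ≪≫
          (Groth.Agent.M2.pullTensorIso π N1 D).symm ≪≫ (Scheme.Modules.pullback π).mapIso eD ≪≫
          PicLoc.pullbackStructureIso π) ≪≫
        Groth.Agent.M2.tensorRUnit _⟩⟩

end Groth.Agent.S18163
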