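import Groth.Statements.S18165
import Groth.Agent.Lib.HensEquiv24.Section
-- import your own Groth.Agent.* helpers here

set_option autoImplicit false
universe u
open BSB

namespace Groth.Agent.S18165

open AlgebraicGeometry CategoryTheory in
/-- Let A be a Henselian local ring with residue field κ and f : X ⟶ Spec A a smooth morphism. Let a
finite group G, of order invertible in κ, act on A by ring automorphisms inducing the identity on κ,
and on X by morphisms σ_g with σ_1 = 𝟙 and σ_{gh} = σ_g ≫ σ_h, compatibly with f (σ_g ≫ f = f ≫ Spec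
of the action of g on A). If x is a κ-point of X over the closed point that is fixed by every σ_g,
then f has a section a : Spec A ⟶ X through x which is equivariant: Spec of the action of g,
followed by a, equals a followed by σ_g. -/
theorem result (A : Type u) [CommRing A] [HenselianLocalRing A]
    (X : Scheme.{u}) (f : X ⟶ Spec (CommRingCat.of A)) [Smooth f]
    (G : Type u) [Group G] [Finite G] [MulSemiringAction G A]
    (hG : IsUnit ((Nat.card G : ℕ) : IsLocalRing.ResidueField A))
    (htriv : ∀ (g : G) (a : A), g • a - a ∈ IsLocalRing.maximalIdeal A)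
    (σ : G → (X ⟶ X)) (hσ1 : σ 1 = 𝟙 X) (hσmul : ∀ g h : G, σ (g * h) = σ g ≫ σ h)
    (hσf : ∀ g : G, σ g ≫ f = f ≫ Spec.map (CommRingCat.ofHom (MulSemiringAction.toRingHom G A g)))
    (x : Spec (CommRingCat.of (IsLocalRing.ResidueField A)) ⟶ X)
    (hx : x ≫ f = Spec.map (CommRingCat.ofHom (IsLocalRing.residue A)))
    (hfix : ∀ g : G, x ≫ σ g = x) :
    ∃ a : Spec (CommRingCat.of A) ⟶ X, a ≫ f = 𝟙 _ ∧
      Spec.map (CommRingCat.ofHom (IsLocalRing.residue A)) ≫ a = x ∧
      ∀ g : G, Spec.map (CommRingCat.ofHom (MulSemiringAction.toRingHom G A g)) ≫ a = a ≫ σ g := by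
  classical
  haveI := Fintype.ofFinite G
  haveI hiso : ∀ g : G, IsIso (σ g) := fun g =>
    ⟨⟨σ g⁻¹, by rw [← hσmul, mul_inv_cancel, hσ1], by rw [← hσmul, inv_mul_cancel, hσ1]⟩⟩
  let y : X := x (IsLocalRing.closedPoint (IsLocalRing.ResidueField A))
  have hy : ∀ g : G, σ g y = y := fun g =>
    congrArg (fun m : Spec (CommRingCat.of (IsLocalRing.ResidueField A)) ⟶ X => m (IsLocalRing.closedPoint _)) (hfix g)
  obtain ⟨U, hU, hyU, -⟩ := exists_isAffineOpen_mem_and_subset (X := X) (x := y) (U := ⊤) trivial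
  let W : X.Opens := Finset.univ.inf fun g : G => σ g ⁻¹ᵁ U
  have hWle : ∀ g : G, W ≤ σ g ⁻¹ᵁ U := fun g => Finset.inf_le (Finset.mem_univ g)
  have mem_inf : ∀ (z : X) (F : G → X.Opens), z ∈ Finset.univ.inf F ↔ ∀ g, z ∈ F g := fun z F => by
    rw [← SetLike.mem_coe, TopologicalSpace.Opens.coe_finset_inf, Finset.inf_eq_iInf]
    simp
  obtain ⟨h, hhW, hyh⟩ := hU.exists_basicOpen_le
    (V := W) (⟨y, (mem_inf y _).2 fun g => show σ g y ∈ U by rw [hy]; exact hyU⟩ : W) hyU
  let D₀ : X.Opens := X.basicOpen h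
  have hD₀ : IsAffineOpen D₀ := hU.basicOpen h
  let V : X.Opens := Finset.univ.inf fun g : G => σ g ⁻¹ᵁ D₀
  have hstab : ∀ g : G, V ≤ σ g ⁻¹ᵁ V := fun g z hz => (mem_inf _ _).2 fun k => by
    have h1 : σ (g * k) z ∈ D₀ := (mem_inf z _).1 hz (g * k)
    rw [hσmul] at h1
    exact h1
  have hV : IsAffineOpen V := by
    have hres : ∀ g : G, X.basicOpen (X.presheaf.map (homOfLE (hhW.trans (hWle g))).op ((σ g).app U h)) =
        D₀ ⊓ σ g ⁻¹ᵁ D₀ := fun g => by
      rw [Scheme.basicOpen_res, ← Scheme.preimage_basicOpen]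
    let F : G → Γ(X, D₀) := fun g => X.presheaf.map (homOfLE (hhW.trans (hWle g))).op ((σ g).app U h)
    have hprod : ∀ s : Finset G, X.basicOpen (∏ g ∈ s, F g) = D₀ ⊓ s.inf fun g => σ g ⁻¹ᵁ D₀ := fun s => by
      induction s using Finset.induction_on with
      | empty => rw [Finset.prod_empty, Finset.inf_empty, inf_top_eq, Scheme.basicOpen_of_isUnit _ isUnit_one]
      | insert a s ha hs =>
        rw [Finset.prod_insert ha, Scheme.basicOpen_mul, hs, hres, Finset.inf_insert]
        exact le_antisymm (le_inf (inf_le_left.trans inf_le_left) (inf_le_inf inf_le_right inf_le_right))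
          (le_inf (le_inf inf_le_left (inf_le_right.trans inf_le_left)) (inf_le_inf_left _ inf_le_right))
    have hV0 : V ≤ D₀ := fun z hz => by
      have h1 : σ 1 z ∈ D₀ := (mem_inf z _).1 hz 1
      rw [hσ1] at h1
      exact h1
    have : X.basicOpen (∏ g, F g) = V := (hprod Finset.univ).trans (inf_eq_right.2 hV0)
    exact this ▸ hD₀.basicOpen _
  have hyV : y ∈ V := (mem_inf y _).2 fun g => show σ g y ∈ D₀ by rw [hy]; exact hyh
  let τ : G → (Γ(X, V) ⟶ Γ(X, V)) := fun g => (σ g).appLE V V (hstab g)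
  have hτ : ∀ g : G, Spec.map (τ g) ≫ hV.fromSpec = hV.fromSpec ≫ σ g := fun g =>
    IsAffineOpen.SpecMap_appLE_fromSpec (σ g) hV hV (hstab g)
  have hτ1 : τ 1 = 𝟙 _ := by
    apply Spec.map_injective
    rw [← cancel_mono hV.fromSpec, hτ, hσ1, Category.comp_id, Spec.map_id, Category.id_comp]
  have hτmul : ∀ g k : G, τ (g * k) = τ k ≫ τ g := fun g k => by
    apply Spec.map_injective
    rw [← cancel_mono hV.fromSpec, hτ, hσmul, Spec.map_comp, Category.assoc, hτ, reassoc_of% (hτ g)]
  let ψ := Spec.preimage (hV.fromSpec ≫ f)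
  have hψ : Spec.map ψ = hV.fromSpec ≫ f := Spec.map_preimage _
  letI : Algebra A Γ(X, V) := ψ.hom.toAlgebra
  haveI : Algebra.Smooth A Γ(X, V) := RingHom.smooth_algebraMap.1 (HasRingHomProperty.Spec_iff.1
    (show Smooth (Spec.map ψ) by rw [hψ]; infer_instance))
  letI : MulSemiringAction G Γ(X, V) :=
    { smul := fun g b => (τ g).hom b
      one_smul := fun b => by show (τ 1).hom b = b; rw [hτ1]; rfl
      mul_smul := fun g k b => by show (τ (g * k)).hom b = (τ g).hom ((τ k).hom b); rw [hτmul]; rfl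
      smul_zero := fun g => map_zero (τ g).hom
      smul_add := fun g => map_add (τ g).hom
      smul_one := fun g => map_one (τ g).hom
      smul_mul := fun g => map_mul (τ g).hom }
  have hsemi : ∀ (g : G) (a : A), g • algebraMap A Γ(X, V) a = algebraMap A Γ(X, V) (g • a) := fun g a => by
    have e : ψ ≫ τ g = CommRingCat.ofHom (MulSemiringAction.toRingHom G A g) ≫ ψ := Spec.map_injective (by
      rw [Spec.map_comp, Spec.map_comp, hψ, reassoc_of% (hτ g), Category.assoc, hσf])
    exact congrArg (fun m : CommRingCat.of A ⟶ Γ(X, V) => m.hom a) e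
  have hr : Set.range x ⊆ Set.range hV.fromSpec := by
    rw [hV.range_fromSpec]
    rintro _ ⟨z, rfl⟩
    rwa [Subsingleton.elim z (IsLocalRing.closedPoint (IsLocalRing.ResidueField A))]
  let l := IsOpenImmersion.lift hV.fromSpec x hr
  have hl : l ≫ hV.fromSpec = x := IsOpenImmersion.lift_fac _ _ _
  let x₀ := Spec.preimage l
  have hx₀ : ψ ≫ x₀ = CommRingCat.ofHom (IsLocalRing.residue A) := by
    apply Spec.map_injective
    rw [Spec.map_comp, Spec.map_preimage, hψ, reassoc_of% hl, hx]
  let xa : Γ(X, V) →ₐ[A] IsLocalRing.ResidueField A :=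
    { x₀.hom with
      commutes' := fun a =>
        congrArg (fun m : CommRingCat.of A ⟶ CommRingCat.of (IsLocalRing.ResidueField A) => m.hom a) hx₀ }
  have hxfix : ∀ (g : G) (b : Γ(X, V)), xa (g • b) = xa b := fun g b => by
    have e : τ g ≫ x₀ = x₀ := Spec.map_injective (by
      rw [Spec.map_comp, Spec.map_preimage, ← cancel_mono hV.fromSpec, Category.assoc, hτ, reassoc_of% hl, hfix, hl])
    exact congrArg (fun m : Γ(X, V) ⟶ CommRingCat.of (IsLocalRing.ResidueField A) => m.hom b) e
  have hGA : IsUnit ((Nat.card G : ℕ) : A) :=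
    (isUnit_map_iff (IsLocalRing.residue A) _).1 (by rwa [map_natCast])
  obtain ⟨s, hs, hsG⟩ := HensEquiv24.exists_equivariant_section xa hsemi hGA hxfix
  refine ⟨Spec.map (CommRingCat.ofHom s.toRingHom) ≫ hV.fromSpec, ?_, ?_, fun g => ?_⟩
  · rw [Category.assoc, ← hψ, ← Spec.map_comp, ← Spec.map_id]
    exact congrArg Spec.map (CommRingCat.hom_ext (RingHom.ext fun a => s.commutes a))
  · rw [← Category.assoc, ← Spec.map_comp, ← hl]
    refine congrArg (· ≫ hV.fromSpec) ?_
    rw [← Spec.map_preimage l]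
    exact congrArg Spec.map (CommRingCat.hom_ext (RingHom.ext fun b => hs b))
  · rw [Category.assoc, ← hτ, ← Spec.map_comp_assoc, ← Spec.map_comp_assoc]
    refine congrArg (fun m => Spec.map m ≫ hV.fromSpec) (CommRingCat.hom_ext (RingHom.ext fun b => ?_))
    exact (hsG g b).symm

end Groth.Agent.S18165
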