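import Groth.Statements.S18166
import Groth.Agent.Lib.BSBVan1
import Groth.Agent.Lib.BSBVan2
import Groth.Agent.Lib.RatSingEuler13.Basic
import Groth.Agent.Lib.FlatTwist13.Main
import Groth.Agent.Lib.CMReg18.UnifVan
import Groth.Agent.Lib.CohMop.Bidual
import Groth.Agent.Lib.ProperFormalH7.Bc
import Groth.Agent.Lib.RelPCS8.FlatTerms

set_option autoImplicit false
universe u
open BSB

namespace Groth.Agent.S18166

open AlgebraicGeometry CategoryTheory CategoryTheory.Limits in
/-- Let S be a Noetherian scheme, π : X ⟶ S and q : Y ⟶ S proper, ψ : X ⟶ Y a flat S-morphism with O_Y ⟶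
ψ_* O_X an isomorphism, L an invertible O_X-module and N an invertible O_Y-module ample relative to
q with ψ^* N ≅ L^ℓ for some ℓ > 0 (over affine opens of S the module L is then semiample and ψ is
the flat contraction it determines), and M an invertible O_X-module ample relative to π. If c and d
are such that H^i(X_y, (L^r ⊗ M^j) restricted to X_y) = 0 for every point y of Y, all r ≥ 0, all 1 ≤
i ≤ c and all j ≥ d, then there is n with R^i π_* (L^a ⊗ M^b) = 0 for all 1 ≤ i ≤ c and all a, b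
with b ≥ d and max(a, b) ≥ n. (The published statement asks the fibrewise vanishing only for the
powers M^j, that is for r = 0; since L restricted to a fibre of ψ is merely a torsion module of
order dividing ℓ, that is not enough: for a curve of genus two over a field, with ψ = π its
structure morphism, ℓ = 2, L a non-trivial invertible module with L^2 trivial and M the canonical
module twisted by L, the published hypothesis holds with c = d = 1 while H^1(L^a ⊗ M) ≠ 0 for every
odd a. The published proof uses the vanishing of the higher direct images under ψ, in degrees 1 to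
c, of the twists L^e ⊗ M^b with 0 ≤ e < ℓ, which is what the fibrewise hypothesis of this row
supplies through cohomology and base change; as L^ℓ is trivial on the fibres of ψ, asking it for all
r ≥ 0 is the same as asking it for 0 ≤ r < ℓ. The instance argument recording injective resolutions
of O_X-modules is true but not yet in Mathlib.) -/
theorem result {X Y S : Scheme.{u}} [IsNoetherian S]
    (π : X ⟶ S) [IsProper π] (q : Y ⟶ S) [IsProper q] (ψ : X ⟶ Y) [Flat ψ] (hψ : ψ ≫ q = π)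
    (hψO : ∀ U : Y.Opens, IsIso (ψ.app U)) [HasInjectiveResolutions X.Modules]
    (L : X.Modules) (hLi : PicF.IsInvertible L) (N : Y.Modules) (hNi : PicF.IsInvertible N) (hN : RelAmple.IsRelAmple q N)
    (ℓ : ℕ) (hℓ : 0 < ℓ) (eN : Nonempty ((Scheme.Modules.pullback ψ).obj N ≅ CohB1.tensorPow L ℓ))
    (M : X.Modules) (hMi : PicF.IsInvertible M) (hM : RelAmple.IsRelAmple π M)
    (c d : ℕ) (hfib : ∀ (y : Y) (i r j : ℕ), 1 ≤ i → i ≤ c → d ≤ j →
      Subsingleton (CohIII.fiberH ψ (CohB1.tensorMod (CohB1.tensorPow L r) (CohB1.tensorPow M j)) y i)) :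
    ∃ n : ℕ, ∀ (i a b : ℕ), 1 ≤ i → i ≤ c → d ≤ b → n ≤ max a b →
      IsZero ((Coh.Rpush π i).obj (CohB1.tensorMod (CohB1.tensorPow L a) (CohB1.tensorPow M b))) := by
  classical
  subst hψ
  obtain ⟨eN⟩ := eN
  haveI : IsProper ψ := MorphismProperty.of_postcomp (W := @IsProper) (W' := @IsSeparated) ψ q inferInstance inferInstance
  haveI : IsLocallyNoetherian Y := LocallyOfFiniteType.isLocallyNoetherian q
  have hpw : ∀ t, Nonempty ((Scheme.Modules.pullback ψ).obj (CohB1.tensorPow N t) ≅ CohB1.tensorPow L (ℓ * t)) :=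
    fun t => ⟨Groth.Agent.M2.pullTensorPowIso ψ N t ≪≫ Groth.Agent.M2.tensorPowIso eN t ≪≫
      Groth.Agent.M2.tensorPowPow L ℓ t⟩
  have hLn := fun t => Groth.Agent.M2.isInvertible_tensorPow hLi t
  have hMn := fun t => Groth.Agent.M2.isInvertible_tensorPow hMi t
  have hGi : ∀ a b, PicF.IsInvertible (CohB1.tensorMod (CohB1.tensorPow L a) (CohB1.tensorPow M b)) :=
    fun a b => Groth.Agent.M2.isInvertible_tensor (hLn a) (hMn b)
  have hOc : Coh.IsCoh (Coh.structureModule X) := Groth.Agent.M1.isCoh_structureModule X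
  have hOfl : FlatMod.IsFlatOver ψ (Coh.structureModule X) :=
    (Groth.Agent.RelPCS8.flat_iff_isFlatOver_structureModule (f := ψ)).1 inferInstance
  -- uniform vanishing for large `b`
  choose V hV hxV using fun x : S => exists_isAffineOpen_mem_and_subset (x := x) (U := ⊤) trivial
  obtain ⟨T, hT⟩ := isCompact_univ.elim_finite_subcover (fun x => (V x : Set S)) (fun x => (V x).isOpen)
    fun x _ => Set.mem_iUnion.2 ⟨x, (hxV x).1⟩
  have hcov : ∀ y : S, ∃ x : T, y ∈ V x.1 := fun y => by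
    obtain ⟨x, hx, hy⟩ := Set.mem_iUnion₂.1 (hT (Set.mem_univ y))
    exact ⟨⟨x, hx⟩, hy⟩
  have hloc : ∀ x : T, ∃ n₀ : ℕ, ∀ a b : ℕ, n₀ ≤ b → ∀ p : ℕ, 0 < p →
      Subsingleton (Coh.HH ((ψ ≫ q) ⁻¹ᵁ V x.1 : X.Opens).toScheme
        ((CohB1.tensorMod (CohB1.tensorPow L a) (CohB1.tensorPow M b)).restrict ((ψ ≫ q) ⁻¹ᵁ V x.1).ι) p) := fun x => by
    letI := Groth.Agent.CBC10.overU (ψ ≫ q) (hV x.1)
    haveI := Groth.Agent.CBC10.isProper_overU (ψ ≫ q) (hV x.1)
    haveI : IsNoetherianRing Γ(S, V x.1) := IsLocallyNoetherian.component_noetherian ⟨V x.1, hV x.1⟩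
    let U := q ⁻¹ᵁ V x.1
    have hNa : CohB1.IsAmple (N.restrict U.ι) := hN.2 ⟨V x.1, hV x.1⟩
    have hO := PicLoc.isInvertible_structureModule (U : Scheme.{u})
    obtain ⟨k₀, hk₀⟩ := Groth.Agent.RA.exists_globallyGenerated hNa (Coh.structureModule _)
      (Groth.Agent.Twist.isQCoh_of_isInvertible hO)
      (Groth.Agent.M1.isFP_isFT (Groth.Agent.LimShf14.isFP_of_isInvertible hO))
    let K := k₀ + 1
    have hgN := hk₀ K (Nat.le_succ _)
    have hNi' := Groth.Agent.M2.isInvertible_tensor hO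
      (Groth.Agent.M2.isInvertible_tensorPow (Groth.Agent.M2.isInvertible_restrict hNi U.ι) K)
    let Z := (ψ ⁻¹ᵁ U)
    obtain ⟨eK⟩ := hpw K
    let ei : (Scheme.Modules.pullback (ψ ∣_ U)).obj
        (CohB1.tensorMod (Coh.structureModule _) (CohB1.tensorPow (N.restrict U.ι) K)) ≅
        CohB1.tensorPow (L.restrict Z.ι) (ℓ * K) :=
      (Scheme.Modules.pullback (ψ ∣_ U)).mapIso (Groth.Agent.M2.tensorLUnit _ ≪≫
        (Groth.Agent.M2.restrictTensorPowIso U.ι N K).symm) ≪≫
      (Groth.Agent.M2.pullbackRestrictIso ψ (CohB1.tensorPow N K) U).symm ≪≫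
      (Scheme.Modules.restrictFunctor Z.ι).mapIso eK ≪≫ Groth.Agent.M2.restrictTensorPowIso Z.ι L (ℓ * K)
    have hLZ := Groth.Agent.M2.isInvertible_restrict hLi Z.ι
    have hgg : Curv2.IsGloballyGenerated (CohB1.tensorPow (L.restrict Z.ι) (ℓ * K)) := by
      refine Groth.Agent.RA.isGloballyGenerated_of_gen (Groth.Agent.M2.isInvertible_tensorPow hLZ _) fun z => ?_
      obtain ⟨t, ht⟩ := Groth.Agent.RA.exists_gen_of_isGloballyGenerated hNi' hgN ((ψ ∣_ U) z)
      refine ⟨((PicLoc.pullbackStructureIso (ψ ∣_ U)).symm.hom ≫ (Scheme.Modules.pullback (ψ ∣_ U)).map t) ≫ ei.hom, ?_⟩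
      rw [Groth.Agent.Twist.genLocus_comp_iso, Groth.Agent.Amp.genLocus_pullback (ψ ∣_ U) hNi']
      exact ht
    obtain ⟨n, hn⟩ := Groth.Agent.BSBVan2.exists_van_semi Γ(S, V x.1)
      (X := ((ψ ≫ q) ⁻¹ᵁ V x.1 : X.Opens).toScheme) (L := L.restrict ((ψ ≫ q) ⁻¹ᵁ V x.1).ι)
      (M := M.restrict ((ψ ≫ q) ⁻¹ᵁ V x.1).ι)
      (Groth.Agent.M2.isInvertible_restrict hLi _) (d := ℓ * K) (Nat.mul_pos hℓ (Nat.succ_pos _)) hgg
      (hM.2 ⟨V x.1, hV x.1⟩) (Groth.Agent.CBC10.isCoh_resU (f := ψ ≫ q) (U := V x.1) hOc)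
    refine ⟨n, fun a b hb p hp => ?_⟩
    exact Groth.Agent.CMReg18.van_iso Γ(S, V x.1)
      ((Scheme.Modules.restrictFunctor _).mapIso (Groth.Agent.M2.tensorLUnit _).symm ≪≫
        Groth.Agent.M2.restrictTensorIso _ (Coh.structureModule X) _ ≪≫
        Groth.Agent.M2.tensorIso (Iso.refl _) (Groth.Agent.M2.restrictTensorIso _ _ _ ≪≫
          Groth.Agent.M2.tensorIso (Groth.Agent.M2.restrictTensorPowIso _ L a)
            (Groth.Agent.M2.restrictTensorPowIso _ M b))).symm (hn a b hb p hp)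
  choose n₁ hn₁ using hloc
  let B := Finset.univ.sup n₁
  -- twists of the finitely many direct images
  choose n₂ hn₂ using fun z : Fin ℓ × Fin B => Groth.Agent.CohFound.exists_isZero_rpushAb q N hNi
    (fun W hW => hN.2 ⟨W, hW⟩)
    (Groth.Agent.ProperFormalH7.isCoh_pushforward_of_isProper ψ
      (Groth.Agent.CohFound.isCoh_of_isFinLocFree (Groth.Agent.M2.isFinLocFree_of_isInvertible (hGi z.1 z.2))))
  refine ⟨max B (ℓ * (Finset.univ.sup n₂ + 1)), fun i a b hi hic hdb hab => ?_⟩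
  refine Groth.Agent.RatSingEuler13.isZero_rpush_of_rpushAb (ψ ≫ q) _ i ?_
  have hGq : ∀ a b, Coh.IsQCoh (CohB1.tensorMod (CohB1.tensorPow L a) (CohB1.tensorPow M b)) :=
    fun a b => Groth.Agent.Twist.isQCoh_of_isInvertible (hGi a b)
  by_cases hbB : B ≤ b
  · exact Groth.Agent.CohFound.isZero_rpushAb_of_cover (ψ ≫ q) _ (hGq a b) (fun x : T => V x.1) (fun x => hV x.1)
      hcov i fun x => (Groth.Agent.CohFound.subsingleton_HH_iff _ _).1
        (hn₁ x a b ((Finset.le_sup (Finset.mem_univ x)).trans hbB) i hi)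
  · let r : Fin ℓ := ⟨a % ℓ, Nat.mod_lt _ hℓ⟩
    let t := a / ℓ
    let z : Fin ℓ × Fin B := (r, ⟨b, Nat.lt_of_not_le hbB⟩)
    have ha : ℓ * (Finset.univ.sup n₂ + 1) ≤ a := by
      rcases le_max_iff.1 (le_trans (le_max_right _ _) hab) with h | h
      · exact h
      · have := le_trans (le_max_left _ _) hab
        rcases le_max_iff.1 this with h' | h'
        · have := le_max_iff.1 hab
          omega
        · omega
    have ht : n₂ z ≤ t := (Finset.le_sup (Finset.mem_univ z)).trans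
      ((Nat.le_succ _).trans ((Nat.le_div_iff_mul_le hℓ).2 (by rw [mul_comm]; exact ha)))
    obtain ⟨et⟩ := hpw t
    let G := CohB1.tensorMod (CohB1.tensorPow L a) (CohB1.tensorPow M b)
    let G₀ := CohB1.tensorMod (CohB1.tensorPow L (r : ℕ)) (CohB1.tensorPow M b)
    let eG : CohB1.tensorMod G₀ ((Scheme.Modules.pullback ψ).obj (CohB1.tensorPow N t)) ≅ G :=
      Groth.Agent.M2.tensorAssoc _ _ _ ≪≫
        Groth.Agent.M2.tensorIso (Iso.refl _) (Groth.Agent.M2.tensorComm _ _) ≪≫
        (Groth.Agent.M2.tensorAssoc _ _ _).symm ≪≫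
        Groth.Agent.M2.tensorIso (Groth.Agent.M2.tensorIso (Iso.refl _) et ≪≫
          (Groth.Agent.M2.tensorPowAdd L r (ℓ * t)).symm ≪≫
          eqToIso (by rw [show (r : ℕ) + ℓ * t = a from Nat.mod_add_div a ℓ])) (Iso.refl _)
    let eP : CohB1.tensorMod ((Scheme.Modules.pushforward ψ).obj G₀) (CohB1.tensorPow N t) ≅
        (Scheme.Modules.pushforward ψ).obj G :=
      (Groth.Agent.CohMop.pushTenIso ψ (CohB1.tensorPow N t)
        (Groth.Agent.M2.isFinLocFree_of_isInvertible (Groth.Agent.M2.isInvertible_tensorPow hNi t))).app G₀ ≪≫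
        (Scheme.Modules.pushforward ψ).mapIso eG
    have hPq : Coh.IsQCoh ((Scheme.Modules.pushforward ψ).obj G) := Groth.Agent.M1.isQCoh_push ψ (hGq a b)
    have hz : IsZero ((Coh.RpushAb q i).obj (Coh.toAb ((Scheme.Modules.pushforward ψ).obj G))) :=
      (hn₂ z t ht i hi).of_iso ((Coh.RpushAb q i).mapIso ((SheafOfModules.toSheaf _).mapIso eP.symm))
    have hGfl : FlatMod.IsFlatOver ψ G :=
      Groth.Agent.RelPCS8.isFlatOver_of_iso (Groth.Agent.M2.tensorLUnit G)
        (Groth.Agent.FlatTwist13.isFlatOver_tensor ψ hOfl (hGi a b))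
    have hac : Groth.Agent.CohFound.PushAcyclicUpTo
        (ψ.base : Groth.Agent.CohFound.sp X ⟶ Groth.Agent.CohFound.sp Y) Y.affineOpens i
        ((Groth.Agent.CohFound.abF X).obj G) := by
      intro j hj W hW
      have hR := Groth.Agent.CMReg18.isZero_rpushAb_of_fibres (f := ψ) (Groth.Agent.LimShf14.isFP_of_isInvertible (hGi a b))
        hGfl (j + 1) fun y => hfib y (j + 1) a b (by omega) (by omega) hdb
      change IsZero ((CohTop.Rpush (ψ.base : Groth.Agent.CohFound.sp X ⟶ Groth.Agent.CohFound.sp Y) (j + 1)).obj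
        ((Groth.Agent.CohFound.abF X).obj G)) at hR
      obtain ⟨e⟩ := Groth.Agent.CohFound.nonempty_sections_rpushAb ψ (hGq a b) (j + 1) hW
      exact @Equiv.subsingleton _ _ e.toEquiv.symm (AddCommGrpCat.subsingleton_of_isZero
        ((sheafToPresheaf _ _ ⋙ (evaluation _ _).obj (Opposite.op W)).map_isZero hR))
    change IsZero ((CohTop.Rpush ((ψ ≫ q).base : Groth.Agent.CohFound.sp X ⟶ Groth.Agent.CohFound.sp S) i).obj
      ((Groth.Agent.CohFound.abF X).obj G))
    change IsZero ((CohTop.Rpush (q.base : Groth.Agent.CohFound.sp Y ⟶ Groth.Agent.CohFound.sp S) i).obj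
      ((Groth.Agent.CohFound.abF Y).obj ((Scheme.Modules.pushforward ψ).obj G))) at hz
    refine Groth.Agent.CohFound.isZero_of_subsingleton_basis _ (fun W => IsAffineOpen W) (fun W y hy => ?_) fun W hW => ?_
    · obtain ⟨A, hA, hyA, hAW⟩ := exists_isAffineOpen_mem_and_subset (X := S) (x := y) (U := W) hy
      exact ⟨A, hA, hyA, hAW⟩
    · obtain ⟨e1⟩ := Groth.Agent.CohFound.nonempty_sections_rpushAb (ψ ≫ q) (hGq a b) i hW
      obtain ⟨e2⟩ := Groth.Agent.CohFound.nonempty_sections_rpushAb q hPq i hW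
      obtain ⟨ε, -⟩ := Groth.Agent.CohFound.exists_hc_push_commute
        (ψ.base : Groth.Agent.CohFound.sp X ⟶ Groth.Agent.CohFound.sp Y) Y.isBasis_affineOpens i
        ((Groth.Agent.CohFound.abF X).obj G) hac (q ⁻¹ᵁ W)
      let E := (e2.trans ((Groth.Agent.CohFound.mpEquiv (Groth.Agent.CohFound.abFPushIso ψ G) i (q ⁻¹ᵁ W)).trans ε))
      have hsub := AddCommGrpCat.subsingleton_of_isZero
          ((sheafToPresheaf _ _ ⋙ (evaluation _ _).obj (Opposite.op W)).map_isZero hz)
      exact @Equiv.subsingleton _ _ e1.toEquiv (@Equiv.subsingleton _ _ E.toEquiv.symm hsub)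

end Groth.Agent.S18166
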