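import Groth.Statements.S18168
import Groth.Agent.Lib.CMReg18.FlatTwistGen
import Groth.Agent.Lib.FlatTwist13.Main
import Groth.Agent.Lib.RelAmple18.Ops
import Groth.Agent.Lib.PushUnit3.Basic
import Groth.Agent.Lib.RelPCS8.FlatTerms
import Groth.Agent.Lib.Omega12.Unram

set_option autoImplicit false
universe u
open BSB

namespace Groth.Agent.S18168

open AlgebraicGeometry CategoryTheory CategoryTheory.Limits in
/-- Let S be a Noetherian scheme, φ : X ⟶ S proper and flat, L an invertible O_X-module, q : X' ⟶ S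
proper and ψ : X ⟶ X' an S-morphism with O_{X'} ⟶ ψ_* O_X an isomorphism, and N an invertible module
on X', ample relative to q, with ψ^* N ≅ L^m for some m > 0 (L is then relatively semiample and ψ is
the contraction it determines). If for some n > 0 the higher direct images R^i φ_* (L^(jn)) vanish
for all i > 0 and j ≥ 1, then X' is flat over S. (The published statement also asserts that the
direct images φ_* (L^(jn)) are finite locally free and that their formation commutes with base
change; those clauses are not restated. The instance argument recording injective resolutions of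
O_X-modules is true but not yet in Mathlib.) -/
theorem result {X X' S : Scheme.{u}} [IsNoetherian S]
    (φ : X ⟶ S) [IsProper φ] [Flat φ] [HasInjectiveResolutions X.Modules]
    (L : X.Modules) (hLi : PicF.IsInvertible L)
    (q : X' ⟶ S) [IsProper q] (ψ : X ⟶ X') (hψ : ψ ≫ q = φ) (hψO : ∀ U : X'.Opens, IsIso (ψ.app U))
    (N : X'.Modules) (hNi : PicF.IsInvertible N) (hN : RelAmple.IsRelAmple q N)
    (m : ℕ) (hm : 0 < m) (eN : Nonempty ((Scheme.Modules.pullback ψ).obj N ≅ CohB1.tensorPow L m))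
    (n : ℕ) (hn : 0 < n)
    (hvan : ∀ (i j : ℕ), 0 < i → 1 ≤ j → IsZero ((Coh.Rpush φ i).obj (CohB1.tensorPow L (j * n)))) :
    Flat q := by
  classical
  subst hψ
  obtain ⟨eN⟩ := eN
  haveI : IsProper ψ := MorphismProperty.of_postcomp (W := @IsProper) (W' := @IsSeparated) ψ q inferInstance inferInstance
  haveI : HasInjectiveResolutions X'.Modules := Groth.Agent.CohFound.hasInjectiveResolutions_modules _
  haveI := (Groth.Agent.RelPCS8.flat_iff_isFlatOver_structureModule (f := ψ ≫ q)).1 inferInstance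
  have hb : ∀ V : X'.Opens, Function.Bijective (ψ.app V) := fun V =>
    haveI := hψO V; ConcreteCategory.bijective_of_isIso (ψ.app V)
  have hXfl : FlatMod.IsFlatOver (ψ ≫ q) (Coh.structureModule X) :=
    (Groth.Agent.RelPCS8.flat_iff_isFlatOver_structureModule (f := ψ ≫ q)).1 inferInstance
  have hkey : ∀ j, 1 ≤ j → FlatMod.IsFinLocFree ((Coh.push (ψ ≫ q)).obj (CohB1.tensorPow L (j * n))) := by
    intro j hj
    let G := CohB1.tensorPow L (j * n)
    have hGi : PicF.IsInvertible G := Groth.Agent.M2.isInvertible_tensorPow hLi _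
    have hGc : Coh.IsCoh G := Groth.Agent.CohFound.isCoh_of_isFinLocFree (Groth.Agent.M2.isFinLocFree_of_isInvertible hGi)
    have hGfl : FlatMod.IsFlatOver (ψ ≫ q) G := fun x => by
      obtain ⟨e1⟩ : Nonempty (CohB1.tensorMod (Coh.structureModule X) G ≅ G) := ⟨Groth.Agent.M2.tensorLUnit G⟩
      exact Groth.Agent.RelPCS8.isFlatOver_of_iso e1 (Groth.Agent.FlatTwist13.isFlatOver_tensor (ψ ≫ q) hXfl hGi) x
    have hpush : Coh.IsQCoh ((Coh.push (ψ ≫ q)).obj G) := Groth.Agent.M1.isQCoh_push (ψ ≫ q) hGc.1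
    have hfinW : ∀ (V : S.Opens), IsAffineOpen V → Module.Finite Γ(S, V) Γ((Coh.push (ψ ≫ q)).obj G, V) := fun V hV => by
      letI := Groth.Agent.CBC10.overU (ψ ≫ q) hV
      haveI := Groth.Agent.CBC10.isProper_overU (ψ ≫ q) hV
      haveI : IsNoetherianRing Γ(S, V) := IsLocallyNoetherian.component_noetherian ⟨V, hV⟩
      obtain ⟨θ⟩ := Groth.Agent.FlatTwist13.exists_sectionsEquiv (ψ ≫ q) hGc.1 hV
      haveI := Groth.Agent.CohFound.finite_HH_of_isProper (A := Γ(S, V)) _
        (Groth.Agent.CBC10.isCoh_resU (f := ψ ≫ q) (U := V) hGc) 0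
      exact Module.Finite.equiv θ.symm
    refine Groth.Agent.PureClosed13.isFinLocFree_of_flat hpush
      (Groth.Agent.M1.isFT_of_finite_sections hpush hfinW) ?_
      (fun Z hZ hg => Groth.Agent.AlgSpDecent.isOpen_of_isClosed_stableUnderGeneralization hZ hg)
    intro y
    obtain ⟨W, hW, hy, -⟩ := exists_isAffineOpen_mem_and_subset (U := ⊤) (x := y) trivial
    letI := Groth.Agent.CBC10.overU (ψ ≫ q) hW
    haveI := Groth.Agent.CBC10.isProper_overU (ψ ≫ q) hW
    haveI : CompactSpace ((ψ ≫ q) ⁻¹ᵁ W : X.Opens).toScheme :=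
      QuasiCompact.compactSpace_of_compactSpace (((ψ ≫ q) ⁻¹ᵁ W : X.Opens).toScheme ↘ Spec (CommRingCat.of Γ(S, W)))
    haveI : (((ψ ≫ q) ⁻¹ᵁ W : X.Opens).toScheme).IsSeparated := ⟨by
      rw [← terminal.comp_from (((ψ ≫ q) ⁻¹ᵁ W : X.Opens).toScheme ↘ Spec (CommRingCat.of Γ(S, W)))]
      infer_instance⟩
    have hv : ∀ p : ℕ, 0 < p →
        Subsingleton (Coh.HH ((ψ ≫ q) ⁻¹ᵁ W : X.Opens).toScheme (G.restrict ((ψ ≫ q) ⁻¹ᵁ W).ι) p) := fun p hp => by
      obtain ⟨θ⟩ := Groth.Agent.StalkCoh13.nonempty_sectionsEquiv (ψ ≫ q) hGc.1 p hW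
      haveI := Groth.Agent.Omega12.subsingleton_sections_of_isZero (hvan p j hp hj) W
      exact θ.symm.toEquiv.subsingleton
    obtain ⟨θ⟩ := Groth.Agent.FlatTwist13.exists_sectionsEquiv (ψ ≫ q) hGc.1 hW
    haveI := Groth.Agent.FlatTwist13.flat_HH_zero (A := Γ(S, W))
      (Groth.Agent.M1.isQCoh_restrict hGc.1 ((ψ ≫ q) ⁻¹ᵁ W).ι)
      (Groth.Agent.CBC10.isFlatOver_resU (f := ψ ≫ q) (U := W) hGc.1 hGfl hW) hv
    haveI : Module.Flat Γ(S, W) Γ((Coh.push (ψ ≫ q)).obj G, W) := Module.Flat.of_linearEquiv θ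
    exact Groth.Agent.PureClosed13.flat_stalk_of_flat_sections hpush hW hy
  have hNn : RelAmple.IsRelAmple q (CohB1.tensorPow N n) :=
    ⟨hN.1, fun V => (Groth.Agent.RA.ampleOn_tensorPow_iff hNi hn).2 (hN.2 V)⟩
  refine (Groth.Agent.RelPCS8.flat_iff_isFlatOver_structureModule (f := q)).2
    (Groth.Agent.CMReg18.isFlatOver_of_push' q
      (Groth.Agent.Twist.isQCoh_of_isInvertible (PicLoc.isInvertible_structureModule X')) hNn 1 fun a ha => ?_)
  let P := CohB1.tensorMod (Coh.structureModule X') (CohB1.tensorPow (CohB1.tensorPow N n) a)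
  have hP : FlatMod.IsFinLocFree P := Groth.Agent.M2.isFinLocFree_of_isInvertible
    (Groth.Agent.M2.isInvertible_tensor (PicLoc.isInvertible_structureModule X')
      (Groth.Agent.M2.isInvertible_tensorPow (Groth.Agent.M2.isInvertible_tensorPow hNi n) a))
  haveI := Groth.Agent.PushUnit3.isIso_unit ψ hb hP
  refine Groth.Agent.M2.isFinLocFree_of_iso
    ((Scheme.Modules.pushforward q).mapIso
      ((asIso ((Scheme.Modules.pullbackPushforwardAdjunction ψ).unit.app P)) ≪≫
        (Scheme.Modules.pushforward ψ).mapIso ((Scheme.Modules.pullback ψ).mapIso (Groth.Agent.M2.tensorLUnit _) ≪≫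
          Groth.Agent.M2.pullTensorPowIso ψ _ a ≪≫
          Groth.Agent.M2.tensorPowIso (Groth.Agent.M2.pullTensorPowIso ψ N n ≪≫ Groth.Agent.M2.tensorPowIso eN n ≪≫
            Groth.Agent.M2.tensorPowPow L m n) a ≪≫
          Groth.Agent.M2.tensorPowPow L (m * n) a ≪≫
          eqToIso (by rw [show m * n * a = m * a * n by ring] : CohB1.tensorPow L (m * n * a) = CohB1.tensorPow L (m * a * n)))) ≪≫
      (Scheme.Modules.pushforwardComp ψ q).app _).symm
    (hkey (m * a) (Nat.one_le_iff_ne_zero.2 (Nat.mul_ne_zero (by omega) (by omega))))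

end Groth.Agent.S18168
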