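import Groth.Statements.S18175
import Groth.Agent.Lib.FunField.Chain
-- import your own Groth.Agent.* helpers here

set_option autoImplicit false
open FunFld

namespace Groth.Agent.S18175

/-- Let `k` be an algebraically closed field of characteristic zero and `K/k` a function field of one
variable (the function field of a smooth projective curve over `k`). A `g^r_d` is a divisor `D` of
degree `d` with a subspace `V ⊆ L(D)` of dimension `r + 1`; for a place `P` and `n ≥ 0`, `V(-nP) = V
∩ L(D - nP)` is the space of members vanishing to order at least `n` at `P`, so `dim V(-nP)` counts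
the vanishing orders `m_0 < ⋯ < m_r` of `V` at `P` that are at least `n`, and the weight of `V` at
`P` is `∑_{n=1}^{d} dim V(-nP) - r(r+1)/2`. Assume `K` has genus `0` and the `g^r_d` `(D, V)` has at
least a cusp at the place `Q` (`dim V(-2Q) ≥ r`), and let `P, P'` be places other than `Q`. Then up
to a constant factor there is at most one member of `V` vanishing only at `P` and `P'`: if `f, g ∈
V` are nonzero and the divisors `div f + D`, `div g + D` are both supported on `{P, P'}`, then `g =
c f` for some `c ∈ k`. (In the source `Q` is the point where the rational component `Y` meets a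
chain of curves ending in a curve of positive genus, a situation that forces the cusp condition
assumed here.) (The source states this for curves over the complex numbers.) -/
theorem result
    (k : Type*) [Field k] [IsAlgClosed k] [CharZero k]
    (K : Type*) [Field K] [Algebra k K] (hK : FunFld.IsFunctionField k K) (hg0 : FunFld.genus k K = 0)
    (d r : ℕ) (D : FunFld.Divisor k K) (hD : D.deg = d)
    (V : Submodule k K) (hV : V ≤ FunFld.L D) (hVr : Module.finrank k ↥V = r + 1)
    (Q : FunFld.Place k K) (hcusp : r ≤ Module.finrank k ↥(V ⊓ FunFld.L (D - Finsupp.single Q ((2 : ℤ)))))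
    (P P' : FunFld.Place k K) (hP : P ≠ Q) (hP' : P' ≠ Q)
    (f g : K) (hf : f ∈ V) (hg : g ∈ V) (hf0 : f ≠ 0) (hg0' : g ≠ 0)
    (hfs : ∀ R : FunFld.Place k K, R ≠ P → R ≠ P' → (FunFld.div k f + D) R = 0)
    (hgs : ∀ R : FunFld.Place k K, R ≠ P → R ≠ P' → (FunFld.div k g + D) R = 0) :
    ∃ c : k, g = c • f := by
  classical
  by_contra hno
  push Not at hno
  haveI := Groth.Agent.FunField.finiteDimensional_of_le_L hK.1 hV
  let W : Submodule k K := Submodule.span k (Set.range ![f, g])
  have hind : LinearIndependent k ![f, g] := (LinearIndependent.pair_iff' hf0).2 fun a ha => hno a ha.symm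
  have hW2 : Module.finrank k W = 1 + 1 := by
    rw [finrank_span_eq_card hind]; simp
  have hWV : W ≤ V := Submodule.span_le.2 (by simp [Set.insert_subset_iff, hf, hg])
  have hWD : W ≤ FunFld.L D := hWV.trans hV
  haveI := Groth.Agent.FunField.finiteDimensional_of_le_L hK.1 hWD
  have hWQ : 1 ≤ Groth.Agent.FunField.hDim W D Q 2 := by
    have h1 := Submodule.finrank_sup_add_finrank_inf_eq W (V ⊓ FunFld.L (D - Finsupp.single Q 2))
    have h2 : Module.finrank k ↥(W ⊔ V ⊓ FunFld.L (D - Finsupp.single Q 2)) ≤ r + 1 :=
      hVr ▸ Submodule.finrank_mono (sup_le hWV inf_le_left)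
    rw [← inf_assoc, inf_eq_left.2 hWV] at h1
    unfold Groth.Agent.FunField.hDim
    omega
  have hvan : ∀ (z : K) (hz : z ≠ 0) (R : FunFld.Place k K) (a : ℤ),
      a ≤ (FunFld.div k z + D) R → z ∈ FunFld.L D → z ∈ FunFld.L (D - Finsupp.single R a) := by
    intro z hz R a ha hzD
    rw [Groth.Agent.FunField.mem_L_iff_ord hz] at hzD ⊢
    intro S
    rcases eq_or_ne S R with rfl | hS
    · simp [Groth.Agent.FunField.div_apply hK.1] at ha ⊢; omega
    · simpa [Finsupp.single_eq_of_ne hS] using hzD S
  have hprop : ∀ R : FunFld.Place k K, (FunFld.div k f + D) R = (FunFld.div k g + D) R → R = P ∨ R = P' → False := by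
    intro R heq hR
    have hdeg : ∀ z : K, (FunFld.div k z + D).deg = d := fun z => by
      rw [Groth.Agent.FunField.deg_add, Groth.Agent.FunField.deg_div hK.1, hD, zero_add]
    have heqall : ∀ S, (FunFld.div k f + D) S = (FunFld.div k g + D) S := by
      by_contra hh
      push Not at hh
      obtain ⟨S, hS⟩ := hh
      have hSPP : S = P ∨ S = P' := by
        by_contra hc
        push Not at hc
        exact hS ((hfs S hc.1 hc.2).trans (hgs S hc.1 hc.2).symm)
      have hSR : S ≠ R := fun e => hS (e ▸ heq)
      have h1 := Groth.Agent.FunField.deg_eq_sum ((FunFld.div k f + D) - (FunFld.div k g + D)) {S} (fun T hT => by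
        rw [Finsupp.mem_support_iff] at hT
        rw [Finset.mem_singleton]
        by_contra hTS
        apply hT
        rw [Finsupp.sub_apply, sub_eq_zero]
        rcases eq_or_ne T R with e | hTR
        · exact e ▸ heq
        · have hPP : T ≠ P ∧ T ≠ P' := by
            rcases hR with e | e <;> rcases hSPP with e' | e' <;> subst e e' <;> simp_all
          exact (hfs T hPP.1 hPP.2).trans (hgs T hPP.1 hPP.2).symm)
      rw [Groth.Agent.FunField.deg_sub, hdeg, hdeg, sub_self, Finset.sum_singleton, Groth.Agent.FunField.deg_eq_one hK.1,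
        Nat.cast_one, mul_one, Finsupp.sub_apply] at h1
      exact hS (sub_eq_zero.1 h1.symm)
    have hmem : g / f ∈ FunFld.L (0 : FunFld.Divisor k K) := by
      rw [Groth.Agent.FunField.mem_L_iff_ord (div_ne_zero hg0' hf0)]
      intro S
      have := heqall S
      simp [Groth.Agent.FunField.div_apply hK.1] at this
      simp [Groth.Agent.FunField.ord_div S hg0' hf0, this]
    rw [Groth.Agent.FunField.L_zero hK, Submodule.mem_one] at hmem
    obtain ⟨c, hc⟩ := hmem
    exact hno c (by rw [Algebra.smul_def, hc, div_mul_cancel₀ g hf0])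
  have hsupp : ∀ z : K, (∀ R : FunFld.Place k K, R ≠ P → R ≠ P' → (FunFld.div k z + D) R = 0) →
      P ≠ P' → (FunFld.div k z + D) P + (FunFld.div k z + D) P' = d := by
    intro z hz hPP
    have h1 := Groth.Agent.FunField.deg_eq_sum (FunFld.div k z + D) {P, P'} (fun T hT => by
      rw [Finsupp.mem_support_iff] at hT
      simp only [Finset.mem_insert, Finset.mem_singleton]
      by_contra hc; push Not at hc; exact hT (hz T hc.1 hc.2))
    rw [Groth.Agent.FunField.deg_add, Groth.Agent.FunField.deg_div hK.1, hD, zero_add, Finset.sum_pair hPP, Groth.Agent.FunField.deg_eq_one hK.1,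
      Groth.Agent.FunField.deg_eq_one hK.1] at h1
    simpa using h1.symm
  rcases eq_or_ne P P' with rfl | hPP
  · have h1 := Groth.Agent.FunField.deg_eq_sum ((FunFld.div k f + D) - (FunFld.div k g + D)) {P} (fun T hT => by
      rw [Finsupp.mem_support_iff] at hT
      rw [Finset.mem_singleton]
      by_contra hc; exact hT (by rw [Finsupp.sub_apply, hfs T hc hc, hgs T hc hc, sub_self]))
    rw [Groth.Agent.FunField.deg_sub, Groth.Agent.FunField.deg_add, Groth.Agent.FunField.deg_add, Groth.Agent.FunField.deg_div hK.1, Groth.Agent.FunField.deg_div hK.1, sub_self,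
      Finset.sum_singleton, Groth.Agent.FunField.deg_eq_one hK.1, Nat.cast_one, mul_one, Finsupp.sub_apply] at h1
    exact hprop P (sub_eq_zero.1 h1.symm) (Or.inl rfl)
  have hfD := hV hf
  have hgD := hV hg
  have hfW : f ∈ W := Submodule.subset_span ⟨0, rfl⟩
  have hgW : g ∈ W := Submodule.subset_span ⟨1, rfl⟩
  have hWbound : ∀ R : FunFld.Place k K, R = P ∨ R = P' →
      (FunFld.div k f + D) R + (FunFld.div k g + D) R ≤ Groth.Agent.FunField.wSum W D R d := by
    intro R hR
    have hnn : ∀ z : K, z ≠ 0 → z ∈ FunFld.L D → 0 ≤ (FunFld.div k z + D) R := fun z hz hzD => by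
      have := (Groth.Agent.FunField.mem_L_iff_ord hz).1 hzD R
      simp [Groth.Agent.FunField.div_apply hK.1]; omega
    have hled : ∀ z : K, z ≠ 0 → z ∈ FunFld.L D → (FunFld.div k z + D) R ≤ d := fun z hz hzD => by
      have h1 := hvan z hz R _ le_rfl hzD
      by_contra hlt
      rw [Groth.Agent.FunField.L_eq_bot_of_deg_neg hK.1 (by rw [Groth.Agent.FunField.deg_sub_single hK.1, hD]; omega), Submodule.mem_bot] at h1
      exact hz h1
    obtain ⟨a, ha⟩ := Int.eq_ofNat_of_zero_le (hnn f hf0 hfD)
    obtain ⟨b, hb⟩ := Int.eq_ofNat_of_zero_le (hnn g hg0' hgD)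
    have had := hled f hf0 hfD
    have hbd := hled g hg0' hgD
    rw [ha] at had
    rw [hb] at hbd
    rw [ha, hb]
    have key : ∀ n ∈ Finset.range d, ((if n < a then 1 else 0) + (if n < b then 1 else 0)) ≤
        Groth.Agent.FunField.hDim W D R ((n : ℤ) + 1) := by
      intro n hn
      have hone : ∀ z : K, z ≠ 0 → z ∈ FunFld.L D → z ∈ W → ∀ e : ℕ, (FunFld.div k z + D) R = (e : ℤ) → n < e →
          1 ≤ Groth.Agent.FunField.hDim W D R ((n : ℤ) + 1) := fun z hz hzD hzW e he hne => by
        haveI := Submodule.finiteDimensional_inf_left W (FunFld.L (D - Finsupp.single R ((n : ℤ) + 1)))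
        exact Submodule.one_le_finrank_iff.2 ((Submodule.ne_bot_iff _).2
          ⟨z, Submodule.mem_inf.2 ⟨hzW, hvan z hz R _ (by omega) hzD⟩, hz⟩)
      by_cases h1 : n < a <;> by_cases h2 : n < b <;> simp only [h1, h2, if_true, if_false]
      · have : W ≤ FunFld.L (D - Finsupp.single R ((n : ℤ) + 1)) := Submodule.span_le.2 (by
          simp only [Set.range_subset_iff, Fin.forall_fin_two]
          exact ⟨hvan f hf0 R _ (by omega) hfD, hvan g hg0' R _ (by omega) hgD⟩)
        unfold Groth.Agent.FunField.hDim
        rw [inf_eq_left.2 this, hW2]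
      · exact hone f hf0 hfD hfW a ha h1
      · exact hone g hg0' hgD hgW b hb h2
      · exact Nat.zero_le _
    have := Finset.sum_le_sum key
    rw [Finset.sum_add_distrib, Finset.sum_boole, Finset.sum_boole] at this
    have e1 : (Finset.range d).filter (fun n => n < a) = Finset.range a := by ext; simp; omega
    have e2 : (Finset.range d).filter (fun n => n < b) = Finset.range b := by ext; simp; omega
    rw [e1, e2] at this
    simp at this
    unfold Groth.Agent.FunField.wSum
    exact_mod_cast this
  have h1 := hWbound P (Or.inl rfl)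
  have h2 := hWbound P' (Or.inr rfl)
  have h3 := hsupp f hfs hPP
  have h4 := hsupp g hgs hPP
  have h5 := Groth.Agent.FunField.cusp_wSum_ge hK hWD hD hW2 Q hWQ
  have h6 := Groth.Agent.FunField.plucker_three hK hg0 hD hWD hW2 hP hPP hP'.symm
  omega

end Groth.Agent.S18175
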