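import Groth.Statements.S18177
import Groth.Agent.Lib.FunField.Chain
-- import your own Groth.Agent.* helpers here

set_option autoImplicit false
open FunFld

namespace Groth.Agent.S18177

/-- Let `k` be an algebraically closed field of characteristic zero and `K/k` a function field of one
variable (the function field of a smooth projective curve over `k`). A `g^r_d` is a divisor `D` of
degree `d` with a subspace `V ⊆ L(D)` of dimension `r + 1`; for a place `P` and `n ≥ 0`, `V(-nP) = V
∩ L(D - nP)` is the space of members vanishing to order at least `n` at `P`, so `dim V(-nP)` counts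
the vanishing orders `m_0 < ⋯ < m_r` of `V` at `P` that are at least `n`, and the weight of `V` at
`P` is `∑_{n=1}^{d} dim V(-nP) - r(r+1)/2`. Let `(D, V)` be a `g^r_d` with `r ≥ 1` and `P ≠ Q`
places at which the weights are large: `w(V, P) + w(V, Q) ≥ (r+1)(d-r) - (r-1)`, that is `(r+1)d + 1
≤ ∑_{n=1}^{d} dim V(-nP) + ∑_{n=1}^{d} dim V(-nQ) + r`. Then `V` contains members with divisors `m_i
Q + (d - m_i) P` for two different indices `i`, and hence `m(Q - P)` is a principal divisor for some
`1 ≤ m ≤ d`. (In the source `K` is an elliptic tail of a degenerate curve, `P` its node and `Q` the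
limit of the moving ramification point, the weight hypothesis coming from `ρ ≤ 0`; it concludes that
only finitely many `Q` are possible. The torsion assertion holds in any genus and is what is stated
here.) (The source states this for curves over the complex numbers.) -/
theorem result
    (k : Type*) [Field k] [IsAlgClosed k] [CharZero k]
    (K : Type*) [Field K] [Algebra k K] (hK : FunFld.IsFunctionField k K)
    (d r : ℕ) (hr : 1 ≤ r) (D : FunFld.Divisor k K) (hD : D.deg = d)
    (V : Submodule k K) (hV : V ≤ FunFld.L D) (hVr : Module.finrank k ↥V = r + 1)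
    (P Q : FunFld.Place k K) (hPQ : P ≠ Q)
    (hw : (r + 1) * d + 1 ≤
      (∑ n ∈ Finset.range d, Module.finrank k ↥(V ⊓ FunFld.L (D - Finsupp.single P ((n : ℤ) + 1)))) +
        (∑ n ∈ Finset.range d, Module.finrank k ↥(V ⊓ FunFld.L (D - Finsupp.single Q ((n : ℤ) + 1)))) + r) :
    ∃ m : ℕ, 1 ≤ m ∧ m ≤ d ∧ ∃ h : K, h ≠ 0 ∧
      FunFld.div k h = Finsupp.single Q (m : ℤ) - Finsupp.single P (m : ℤ) := by
  classical
  have h := hK.1
  haveI := Groth.Agent.FunField.finiteDimensional_of_le_L h hV
  let p : ℕ → ℕ := fun n => Groth.Agent.FunField.hDim V D P (n : ℤ)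
  let q : ℕ → ℕ := fun n => Groth.Agent.FunField.hDim V D Q ((d : ℤ) - n)
  let δ : ℕ → ℤ := fun n => (r : ℤ) + 1 - p n - Groth.Agent.FunField.hDim V D Q ((d : ℤ) + 1 - n)
  have hδ : ∀ n : ℕ, 0 ≤ δ n := fun n => by
    have := Groth.Agent.FunField.hDim_add_le h hV hPQ (a := (n : ℤ)) (b := (d : ℤ) + 1 - n) (by rw [hD]; omega)
    rw [hVr] at this
    simp only [δ, p]; omega
  have hδ0 : δ 0 = 0 := by
    simp only [δ, p, Nat.cast_zero, sub_zero]
    rw [Groth.Agent.FunField.hDim_zero hV, hVr, Groth.Agent.FunField.hDim_eq_zero h Q (by rw [hD]; omega)]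
    omega
  -- the sum of the defects
  have hsum : ∑ n ∈ Finset.range (d + 1), δ n + 1 ≤ r := by
    rw [Finset.sum_range_succ', hδ0, add_zero]
    have e : ∀ n ∈ Finset.range d, δ (n + 1) = ((r : ℤ) + 1) - Groth.Agent.FunField.hDim V D P ((n : ℤ) + 1)
        - Groth.Agent.FunField.hDim V D Q ((d : ℤ) - n) := fun n _ => by
      simp only [δ, p, Nat.cast_add, Nat.cast_one]
      rw [show (d : ℤ) + 1 - ((n : ℤ) + 1) = (d : ℤ) - n by ring]
    rw [Finset.sum_congr rfl e, Finset.sum_sub_distrib, Finset.sum_sub_distrib, Finset.sum_const,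
      Finset.card_range, nsmul_eq_mul]
    have e2 : ∑ n ∈ Finset.range d, Groth.Agent.FunField.hDim V D Q ((d : ℤ) - n) =
        ∑ n ∈ Finset.range d, Groth.Agent.FunField.hDim V D Q ((n : ℤ) + 1) := by
      rw [← Finset.sum_range_reflect]
      refine Finset.sum_congr rfl fun n hn => ?_
      have := Finset.mem_range.1 hn
      congr 1; omega
    rw [← Nat.cast_sum, ← Nat.cast_sum, e2]
    have hw' : (r + 1) * d + 1 ≤ (∑ n ∈ Finset.range d, Groth.Agent.FunField.hDim V D P ((n : ℤ) + 1)) +
        (∑ n ∈ Finset.range d, Groth.Agent.FunField.hDim V D Q ((n : ℤ) + 1)) + r := hw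
    zify at hw'
    push_cast
    nlinarith
  -- the jumps
  let J := (Finset.range (d + 1)).filter fun n : ℕ =>
    Groth.Agent.FunField.hDim V D Q ((d : ℤ) + 1 - n) < Groth.Agent.FunField.hDim V D Q ((d : ℤ) - n)
  have hJ : r + 1 ≤ J.card := by
    have tele : ∀ N : ℕ, (Groth.Agent.FunField.hDim V D Q ((d : ℤ) + 1 - N) : ℤ) ≤
        ((Finset.range N).filter fun n : ℕ =>
          Groth.Agent.FunField.hDim V D Q ((d : ℤ) + 1 - n) < Groth.Agent.FunField.hDim V D Q ((d : ℤ) - n)).card := by
      intro N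
      induction N with
      | zero => rw [Nat.cast_zero, sub_zero, Groth.Agent.FunField.hDim_eq_zero h Q (by rw [hD]; omega)]; simp
      | succ N ih =>
        have := Groth.Agent.FunField.hDim_le_add_nat h hV Q ((d : ℤ) - N)
        rw [show (d : ℤ) - N + 1 = (d : ℤ) + 1 - N by ring] at this
        rw [Nat.cast_succ, show (d : ℤ) + 1 - ((N : ℤ) + 1) = (d : ℤ) - N by ring,
          Finset.range_add_one, Finset.filter_insert]
        split
        · rw [Finset.card_insert_of_notMem (by simp)]; push_cast; omega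
        · omega
    have := tele (d + 1)
    rw [show (d : ℤ) + 1 - ((d + 1 : ℕ) : ℤ) = 0 by push_cast; ring, Groth.Agent.FunField.hDim_zero hV, hVr] at this
    exact Int.ofNat_le.mp this
  let Z := (Finset.range (d + 1)).filter fun n => δ n ≠ 0
  have hZ : (Z.card : ℤ) ≤ ∑ n ∈ Finset.range (d + 1), δ n := by
    rw [Finset.cast_card]
    refine le_trans (Finset.sum_le_sum fun n hn => ?_)
      (Finset.sum_le_sum_of_subset_of_nonneg (Finset.filter_subset _ _) fun n _ _ => hδ n)
    have := (Finset.mem_filter.1 hn).2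
    have := hδ n
    omega
  have h2 : 1 < (J \ Z).card := by
    have := Finset.le_card_sdiff Z J
    omega
  obtain ⟨a, ha, b, hb, hab⟩ := Finset.one_lt_card.1 h2
  have exact' : ∀ n ∈ J \ Z, n ≤ d ∧ ∃ f : K, f ≠ 0 ∧ ∀ R : FunFld.Place k K,
      FunFld.div k f R + D R = (Finsupp.single P (n : ℤ) + Finsupp.single Q ((d : ℤ) - n) : FunFld.Divisor k K) R := by
    intro n hn
    obtain ⟨hnJ, hnZ⟩ := Finset.mem_sdiff.1 hn
    obtain ⟨hnr, hjump⟩ := Finset.mem_filter.1 hnJ
    have hd0 : δ n = 0 := by
      by_contra hc; exact hnZ (Finset.mem_filter.2 ⟨hnr, hc⟩)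
    have hnd : n ≤ d := by simpa [Nat.lt_succ_iff] using hnr
    refine ⟨hnd, ?_⟩
    haveI := Submodule.finiteDimensional_inf_left V (FunFld.L (D - Finsupp.single P (n : ℤ)))
    haveI := Submodule.finiteDimensional_inf_left V (FunFld.L (D - Finsupp.single Q ((d : ℤ) - n)))
    have hne : (V ⊓ FunFld.L (D - Finsupp.single P (n : ℤ))) ⊓
        (V ⊓ FunFld.L (D - Finsupp.single Q ((d : ℤ) - n))) ≠ ⊥ := by
      intro hbot
      have h1 := Submodule.finrank_sup_add_finrank_inf_eq (V ⊓ FunFld.L (D - Finsupp.single P (n : ℤ)))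
        (V ⊓ FunFld.L (D - Finsupp.single Q ((d : ℤ) - n)))
      rw [hbot, finrank_bot] at h1
      have h3 := Submodule.finrank_mono (sup_le (inf_le_left (a := V) (b := FunFld.L (D - Finsupp.single P (n : ℤ))))
        (inf_le_left (a := V) (b := FunFld.L (D - Finsupp.single Q ((d : ℤ) - n)))))
      rw [hVr] at h3
      simp only [δ, p, Groth.Agent.FunField.hDim] at hd0 hjump
      omega
    obtain ⟨f, hf, hf0⟩ := Submodule.exists_mem_ne_zero_of_ne_bot hne
    refine ⟨f, hf0, ?_⟩
    obtain ⟨⟨-, hfP⟩, -, hfQ⟩ := hf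
    have hle : (Finsupp.single P (n : ℤ) + Finsupp.single Q ((d : ℤ) - n) : FunFld.Divisor k K) ≤
        FunFld.div k f + D := by
      intro R
      have h1 := (Groth.Agent.FunField.mem_L_iff_ord hf0).1 hfP R
      have h2 := (Groth.Agent.FunField.mem_L_iff_ord hf0).1 hfQ R
      rcases eq_or_ne R P with rfl | hR
      · simp [Groth.Agent.FunField.div_apply h, Finsupp.single_eq_of_ne hPQ] at h1 ⊢; omega
      · rcases eq_or_ne R Q with rfl | hR'
        · simp [Groth.Agent.FunField.div_apply h, Finsupp.single_eq_of_ne hR] at h2 ⊢; omega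
        · simp [Groth.Agent.FunField.div_apply h, Finsupp.single_eq_of_ne hR, Finsupp.single_eq_of_ne hR'] at h1 ⊢; omega
    have he := Groth.Agent.FunField.eq_of_le_of_deg h hle (by
      rw [Groth.Agent.FunField.deg_add, Groth.Agent.FunField.deg_div h, hD, Groth.Agent.FunField.deg_add, Groth.Agent.FunField.deg_single, Groth.Agent.FunField.deg_single,
        Groth.Agent.FunField.deg_eq_one h, Groth.Agent.FunField.deg_eq_one h]
      simp)
    intro R
    rw [he]
    rfl
  wlog hlt : a < b generalizing a b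
  · exact this b hb a ha hab.symm (by omega)
  obtain ⟨had, f, hf0, hf⟩ := exact' a ha
  obtain ⟨hbd, g, hg0, hg⟩ := exact' b hb
  refine ⟨b - a, by omega, by omega, f / g, div_ne_zero hf0 hg0, ?_⟩
  ext R
  have h1 := hf R
  have h2 := hg R
  rw [Groth.Agent.FunField.div_apply h] at h1 h2 ⊢
  rw [Groth.Agent.FunField.ord_div R hf0 hg0]
  rcases eq_or_ne R P with rfl | hR
  · simp [Finsupp.single_eq_of_ne hPQ] at h1 h2 ⊢; omega
  · rcases eq_or_ne R Q with rfl | hR'
    · simp [Finsupp.single_eq_of_ne hR] at h1 h2 ⊢; omega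
    · simp [Finsupp.single_eq_of_ne hR, Finsupp.single_eq_of_ne hR'] at h1 h2 ⊢; omega

end Groth.Agent.S18177
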