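import Groth.Statements.S1818
import Groth.Agent.Lib.DualDCpl27.RHom
import Groth.Agent.Lib.DualDCpl27.Hull
-- import your own Groth.Agent.* helpers here

set_option autoImplicit false
universe u
open CategoryTheory
attribute [local instance] HasDerivedCategory.standard
open Dual

namespace Groth.Agent.S1818

/-- Let A be a Noetherian local ring with maximal ideal m, ω a normalized dualizing complex and κ → E an
injective hull of the residue field. Let K be a complex of A-modules and G a complex representing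
RΓ_m(K); assume the derived functors RHom(K, −), RHom(G, −), RΓ_m and derived m-completion exist.
Then the derived m-completion of RHom_A(K, ω) is isomorphic in D(A) to RHom_A(G, E[0]) =
RHom_A(RΓ_m(K), E[0]). -/
theorem result (A : Type u) [CommRing A] [IsLocalRing A] [IsNoetherianRing A] (ω : Dual.D A) (hω : Dual.IsDualizing A ω) (hn : Dual.IsNormalized A ω) (E : Type u) [AddCommGroup E] [Module A E] (f : IsLocalRing.ResidueField A →ₗ[A] E) (hf : InjHull.IsInjectiveHull f) [DRing.HasRgammaI (IsLocalRing.maximalIdeal A)] [DRing.HasDerivedCompletion (IsLocalRing.maximalIdeal A)] (K : DRing.Cx A) [DRing.HasRHomCx K] (G : DRing.Cx A) [DRing.HasRHomCx G] (hG : Nonempty (DRing.toD G ≅ (DRing.RgammaI (IsLocalRing.maximalIdeal A)).obj (DRing.toD K))) : Nonempty (((DRing.derivedCompletion (IsLocalRing.maximalIdeal A)).obj ((DRing.RHomCx K).obj ω)).obj ≅ (DRing.RHomCx G).obj (Dual.inD A E)) := by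
  haveI : DTen.HasLTen A := Groth.Agent.KFlat.DT.hasLTen
  haveI : DTen.HasRHom A := Groth.Agent.KFlat.HomD.hasRHom A
  obtain ⟨eE⟩ := Groth.Agent.DualDCpl27.nonempty_RgammaI_iso hω hn E hf
  obtain ⟨r⟩ := Groth.Agent.KFlat.HomD.nonempty_rHomCx_iso K
  obtain ⟨r'⟩ := Groth.Agent.KFlat.HomD.nonempty_rHomCx_iso G
  obtain ⟨e⟩ := Groth.Agent.DualDCpl27.nonempty_completion_rhom (IsLocalRing.maximalIdeal A)
    (DRing.toD K) (DRing.toD G) ω (Dual.inD A E) hG ⟨eE⟩
  exact ⟨(ObjectProperty.ι _).mapIso ((DRing.derivedCompletion (IsLocalRing.maximalIdeal A)).mapIso (r.app ω)) ≪≫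
    e ≪≫ (r'.app (Dual.inD A E)).symm⟩

end Groth.Agent.S1818
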