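import Groth.Statements.S18183
import Groth.Agent.Lib.FunField.Chain
-- import your own Groth.Agent.* helpers here

set_option autoImplicit false
open FunFld

namespace Groth.Agent.S18183

/-- Let `k` be an algebraically closed field of characteristic zero and `K/k` a function field of one
variable (the function field of a smooth projective curve over `k`). A `g^r_d` is a divisor `D` of
degree `d` with a subspace `V ⊆ L(D)` of dimension `r + 1`; for a place `P` and `n ≥ 0`, `V(-nP) = V
∩ L(D - nP)` is the space of members vanishing to order at least `n` at `P`, so `dim V(-nP)` counts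
the vanishing orders `m_0 < ⋯ < m_r` of `V` at `P` that are at least `n`, and the weight of `V` at
`P` is `∑_{n=1}^{d} dim V(-nP) - r(r+1)/2`. Aspects `(D_Y, V_Y)` on `K_Y` and `(D_Z, V_Z)` on `K_Z`
of a limit `g^r_d` on two components meeting in a node (a place `P` of `K_Y` and a place `Q` of
`K_Z`) are compatible there when `m_i(V_Y, P) + m_{r-i}(V_Z, Q) = d` for every `i`, equivalently
`dim V_Y(-nP) + dim V_Z(-(d+1-n)Q) = r + 1` for `0 ≤ n ≤ d + 1`. A backbone is a chain of rational
components `Z_0, …, Z_N` (function fields `K_i` of genus `0`), `Z_i` meeting `Z_{i+1}` in a node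
given by a place `B_i` of `K_i` and a place `A_{i+1}` of `K_{i+1}`, the two node places `A_i ≠ B_i`
of an inner component being distinct; each `Z_i` carries an aspect `(D_i, V_i)` of a limit `g^r_d`
and consecutive aspects are compatible at the nodes. A set `T` of indices marks the components
carrying a tail: for `i ∈ T` the aspect `V_i` has at least a cusp (`dim V_i(-2Q_i) ≥ r`) at a
further place `Q_i` of `K_i`, distinct from the node places of `Z_i`. (In the source these are the
backbone components of a flag curve to which a chain of rational curves ending in an elliptic tail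
is attached, `T` has `g` elements, and the cusp is forced by that chain.) Let `Q'` be a place of
some `Z_i` other than its node places and other than `Q_i` when `i ∈ T`. Then `w(V_i, Q') ≤
(r+1)(d-r) - r · |T|`, that is `∑_{j=1}^{d} dim V_i(-jQ') + r · |T| + r(r+1) ≤ (r+1)d + r(r+1)/2`.
Hence, when `|T| = g` and the moving-point Brill–Noether number `ρ = 1 + g - (r+1)(g+r-d) - ∑(m_i -
i)` is `≤ 0`, a point with vanishing sequence `(m_i)`, whose weight is then at least `(r+1)(d-r) -
rg + 1`, cannot lie on a backbone component away from the nodes; the source states this as: the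
limit of the ramification point lies on an elliptic tail. (The printed argument bounds such weights
only by `(r+1)(d-r) - r(g-1)`; the sharper bound here also uses that the aspect has weight at least
`r` at a cusp.) (The source states this for curves over the complex numbers.) -/
theorem result
    (k : Type*) [Field k] [IsAlgClosed k] [CharZero k]
    (N : ℕ) (Z : Fin (N + 1) → Type*) [∀ i, Field (Z i)] [∀ i, Algebra k (Z i)]
    (hZ : ∀ i, FunFld.IsFunctionField k (Z i)) (hrat : ∀ i, FunFld.genus k (Z i) = 0)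
    (d r : ℕ) (D : ∀ i, FunFld.Divisor k (Z i)) (hD : ∀ i, (D i).deg = d)
    (V : ∀ i, Submodule k (Z i)) (hV : ∀ i, V i ≤ FunFld.L (D i))
    (hVr : ∀ i, Module.finrank k ↥(V i) = r + 1)
    (A B : ∀ i, FunFld.Place k (Z i))
    (hAB : ∀ i : Fin (N + 1), 0 < (i : ℕ) → (i : ℕ) < N → A i ≠ B i)
    (hcomp : ∀ (l : Fin N) (m : ℕ), m ≤ d + 1 →
      Module.finrank k ↥((V l.castSucc) ⊓ FunFld.L ((D l.castSucc) - Finsupp.single (B l.castSucc) ((m : ℤ)))) +
        Module.finrank k ↥((V l.succ) ⊓ FunFld.L ((D l.succ) - Finsupp.single (A l.succ) ((d : ℤ) + 1 - m))) = r + 1)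
    (T : Finset (Fin (N + 1))) (Q : ∀ i, FunFld.Place k (Z i))
    (hQA : ∀ i ∈ T, 0 < (i : ℕ) → Q i ≠ A i) (hQB : ∀ i ∈ T, (i : ℕ) < N → Q i ≠ B i)
    (hcusp : ∀ i ∈ T, r ≤ Module.finrank k ↥((V i) ⊓ FunFld.L ((D i) - Finsupp.single (Q i) ((2 : ℤ)))))
    (i : Fin (N + 1)) (Q' : FunFld.Place k (Z i)) (hQ'A : 0 < (i : ℕ) → Q' ≠ A i)
    (hQ'B : (i : ℕ) < N → Q' ≠ B i) (hQ'Q : i ∈ T → Q' ≠ Q i) :
    (∑ j ∈ Finset.range d, Module.finrank k ↥((V i) ⊓ FunFld.L ((D i) - Finsupp.single Q' ((j : ℤ) + 1)))) + r * T.card + r * (r + 1) ≤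
      (r + 1) * d + r * (r + 1) / 2 := by
  classical
  have hA := Groth.Agent.FunField.lower_A hZ hD hV hVr hcomp hrat hAB hQA hQB hcusp i
  have hB := Groth.Agent.FunField.lower_B hZ hD hV hVr hcomp hrat hAB hQA hQB hcusp i
  have hsp := Groth.Agent.FunField.card_erase_split (T := T) i
  obtain ⟨t, ht⟩ : Even (r * (r + 1)) := Nat.even_mul_succ_self r
  change Groth.Agent.FunField.wSum (V i) (D i) Q' d + _ + _ ≤ _
  have key : ∀ hiT : i ∈ T, r * (r + 1) + 2 * r ≤ 2 * Groth.Agent.FunField.wSum (V i) (D i) (Q i) d := fun hiT =>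
    Groth.Agent.FunField.cusp_wSum_ge (hZ i) (hV i) (hD i) (hVr i) (Q i) (hcusp i hiT)
  have hl : i.1 = 0 → (T.filter (· < i)).card = 0 := fun h0 => by
    rw [Finset.card_eq_zero, Finset.filter_eq_empty_iff]
    intro x _; rw [Fin.lt_def]; omega
  have hr' : i.1 = N → (T.filter (i < ·)).card = 0 := fun h0 => by
    rw [Finset.card_eq_zero, Finset.filter_eq_empty_iff]
    intro x _; rw [Fin.lt_def]; omega
  have hTc : T.card = (T.erase i).card + if i ∈ T then 1 else 0 := by
    split
    · rename_i h; rw [Finset.card_erase_add_one h]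
    · rename_i h; rw [Finset.erase_eq_of_notMem h, add_zero]
  rw [hTc, ← hsp, ht, show (t + t) / 2 = t by omega]
  have hiN' := Nat.le_of_lt_succ i.2
  by_cases hiT : i ∈ T <;> rcases Nat.eq_zero_or_pos (i : ℕ) with h0 | h0 <;>
    rcases Nat.lt_or_eq_of_le hiN' with hN | hN <;> simp only [hiT, if_true, if_false]
  · have := Groth.Agent.FunField.plucker_three (hZ i) (hrat i) (hD i) (hV i) (hVr i) (hQB i hiT hN) (hQ'Q hiT).symm (hQ'B hN).symm
    have := hB hN; have := key hiT
    rw [hl h0]; nlinarith
  · have := Groth.Agent.FunField.plucker_two (hZ i) (hrat i) (hD i) (hV i) (hVr i) (hQ'Q hiT)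
    have := key hiT
    rw [hl h0, hr' hN]; nlinarith
  · have := Groth.Agent.FunField.plucker_four (hZ i) (hrat i) (hD i) (hV i) (hVr i) (hQA i hiT h0) (hQB i hiT hN)
      (hQ'Q hiT).symm (hAB i h0 hN) (hQ'A h0).symm (hQ'B hN).symm
    have := hA h0; have := hB hN; have := key hiT
    nlinarith
  · have := Groth.Agent.FunField.plucker_three (hZ i) (hrat i) (hD i) (hV i) (hVr i) (hQA i hiT h0) (hQ'Q hiT).symm (hQ'A h0).symm
    have := hA h0; have := key hiT
    rw [hr' hN]; nlinarith
  · have := Groth.Agent.FunField.plucker_two (hZ i) (hrat i) (hD i) (hV i) (hVr i) (hQ'B hN)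
    have := hB hN
    rw [hl h0]; nlinarith
  · have := Groth.Agent.FunField.plucker_one (hZ i) (hrat i) (hD i) (hV i) (hVr i) Q'
    rw [hl h0, hr' hN]; nlinarith
  · have := Groth.Agent.FunField.plucker_three (hZ i) (hrat i) (hD i) (hV i) (hVr i) (hQ'A h0) (hQ'B hN) (hAB i h0 hN)
    have := hA h0; have := hB hN
    nlinarith
  · have := Groth.Agent.FunField.plucker_two (hZ i) (hrat i) (hD i) (hV i) (hVr i) (hQ'A h0)
    have := hA h0
    rw [hr' hN]; nlinarith

end Groth.Agent.S18183
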