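import Groth.Statements.S18188
import Mathlib

set_option autoImplicit false
universe u
open OrbRR

namespace Groth.Agent.S18188

theorem quad_sum {K : Type u} [Field K] (h6 : (6 : K) ≠ 0) (c : K) (n : ℕ) :
    ∑ j ∈ Finset.range n, ((j : K) * ((j : K) - c) / 2 + (c ^ 2 - 1) / 12) =
      ((n : K) * ((n : K) - 1) * (2 * (n : K) - 1)) / 12 - c * ((n : K) * ((n : K) - 1)) / 4 + (n : K) * (c ^ 2 - 1) / 12 := by
  have h2 : (2 : K) ≠ 0 := fun h => h6 (by linear_combination (3 : K) * h)
  have h3 : (3 : K) ≠ 0 := fun h => h6 (by linear_combination (2 : K) * h)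
  have h4 : (4 : K) ≠ 0 := by rw [show (4 : K) = 2 * 2 by norm_num]; exact mul_ne_zero h2 h2
  have h12 : (12 : K) ≠ 0 := by rw [show (12 : K) = 3 * 4 by norm_num]; exact mul_ne_zero h3 h4
  induction n with
  | zero => simp
  | succ n ih =>
    rw [Finset.sum_range_succ, ih]
    push_cast
    field_simp
    ring

/-- Let K be a field in which 6 ≠ 0, let j < N be natural numbers (so N ≥ 1), and let ζ ∈ K be a
primitive N-th root of unity. Then the sum over i = 1, …, N − 1 of ζ^{ij} / (2 − ζ^i − ζ^{−i})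
equals j(j − N)/2 + (N² − 1)/12. (The published setting is characteristic zero; the identity is
stated here over any field of characteristic different from 2 and 3, where the published proof
applies unchanged: a field containing a primitive N-th root of unity has characteristic prime to N,
and each denominator 2 − ζ^i − ζ^{−i} = −(1 − ζ^i)²/ζ^i with 0 < i < N is nonzero. In
characteristics 2 and 3 the right-hand side has no meaning.) -/
theorem result (K : Type u) [Field K] (h6 : (6 : K) ≠ 0)
    (N j : ℕ) (hj : j < N) (ζ : K) (hζ : IsPrimitiveRoot ζ N) :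
    ∑ i ∈ Finset.Ioo 0 N, ζ ^ (i * j) / (2 - ζ ^ i - (ζ ^ i)⁻¹) =
      (j : K) * ((j : K) - (N : K)) / 2 + ((N : K) ^ 2 - 1) / 12 := by
  have h2 : (2 : K) ≠ 0 := fun h => h6 (by linear_combination (3 : K) * h)
  have h3 : (3 : K) ≠ 0 := fun h => h6 (by linear_combination (2 : K) * h)
  have h4 : (4 : K) ≠ 0 := by rw [show (4 : K) = 2 * 2 by norm_num]; exact mul_ne_zero h2 h2
  have h12 : (12 : K) ≠ 0 := by rw [show (12 : K) = 3 * 4 by norm_num]; exact mul_ne_zero h3 h4
  have : NeZero N := ⟨by omega⟩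
  have hNK : (N : K) ≠ 0 := (hζ.neZero').ne
  set den : ℕ → K := fun i => 2 - ζ ^ i - (ζ ^ i)⁻¹
  have hx0 : ∀ i : ℕ, ζ ^ i ≠ 0 := fun i => pow_ne_zero i (hζ.ne_zero (by omega))
  have hne1 : ∀ i ∈ Finset.Ioo 0 N, ζ ^ i ≠ 1 := fun i hi => by
    rw [Finset.mem_Ioo] at hi
    exact hζ.pow_ne_one_of_pos_of_lt (by omega) hi.2
  have hden : ∀ i ∈ Finset.Ioo 0 N, den i ≠ 0 := by
    intro i hi h
    have := hx0 i
    have h' : (ζ ^ i - 1) ^ 2 = 0 := by
      simp only [den] at h
      field_simp at h
      linear_combination -h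
    exact hne1 i hi (sub_eq_zero.1 (pow_eq_zero_iff two_ne_zero |>.1 h'))
  set f : ℕ → K := fun j => ∑ i ∈ Finset.Ioo 0 N, ζ ^ (i * j) / den i with hf
  set g : ℕ → K := fun j => (j : K) * ((j : K) - (N : K)) / 2 + ((N : K) ^ 2 - 1) / 12 with hg
  have hgeom : ∀ j, 0 < j → j < N → ∑ i ∈ Finset.Ioo 0 N, ζ ^ (i * j) = -1 := by
    intro j hj0 hjN
    have hsum : ∑ i ∈ Finset.range N, (ζ ^ j) ^ i = 0 := by
      have h := geom_sum_mul (ζ ^ j) N
      rw [← pow_mul ζ j N, mul_comm j N, pow_mul, hζ.pow_eq_one, one_pow, sub_self] at h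
      exact (mul_eq_zero.1 h).resolve_right (sub_ne_zero.2 (hζ.pow_ne_one_of_pos_of_lt (by omega) hjN))
    rw [Finset.range_eq_Ico, Finset.sum_eq_sum_Ico_succ_bot (by omega : 0 < N), pow_zero] at hsum
    rw [← eq_neg_of_add_eq_zero_right hsum, show Finset.Ico (0 + 1) N = Finset.Ioo 0 N from Finset.Ico_add_one_left_eq_Ioo 0 N]
    exact Finset.sum_congr rfl fun i _ => by rw [← pow_mul, mul_comm]
  have hrec : ∀ j, j + 1 < N → f (j + 2) - 2 * f (j + 1) + f j = 1 := by
    intro j hj
    rw [show (1 : K) = -(-1 : K) by ring, ← hgeom (j + 1) (by omega) hj]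
    simp only [f, Finset.mul_sum, ← Finset.sum_sub_distrib, ← Finset.sum_add_distrib, ← Finset.sum_neg_distrib]
    refine Finset.sum_congr rfl fun i hi => ?_
    have := hden i hi
    have hx := hx0 i
    rw [pow_mul, pow_mul, pow_mul]
    simp only [den] at this ⊢
    generalize ζ ^ i = x at this hx ⊢
    have hD : x * 2 - x * x - 1 ≠ 0 := by
      intro h; apply this; field_simp; linear_combination h
    rw [show 2 - x - x⁻¹ = (x * 2 - x * x - 1) / x by field_simp]
    simp only [div_div_eq_mul_div]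
    rw [mul_div_assoc', ← sub_div, ← add_div, div_eq_iff hD]
    ring
  have hfN : f N = f 0 := Finset.sum_congr rfl fun i _ => by rw [mul_comm, pow_mul, hζ.pow_eq_one, one_pow, mul_zero, pow_zero]
  have hgrec : ∀ j, g (j + 2) - 2 * g (j + 1) + g j = 1 := fun j => by
    simp only [g]; push_cast; field_simp; ring
  have hgN : g N = g 0 := by simp [g]
  have hlin : ∀ j, j ≤ N → f j - g j = f 0 - g 0 + (j : K) * ((f 1 - g 1) - (f 0 - g 0)) := by
    intro j
    induction j using Nat.twoStepInduction with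
    | zero => intro _; simp
    | one => intro _; simp
    | more j ih1 ih2 =>
      intro hj
      have e1 := hrec j (by omega)
      have e2 := hgrec j
      have e3 := ih1 (by omega)
      have e4 := ih2 (by omega)
      push_cast at e4 ⊢
      linear_combination e1 - e2 + 2 * e4 - e3
  have hslope : (f 1 - g 1) - (f 0 - g 0) = 0 := by
    have h := hlin N le_rfl
    rw [hfN, hgN] at h
    exact (mul_eq_zero.1 (show (N : K) * ((f 1 - g 1) - (f 0 - g 0)) = 0 by linear_combination -h)).resolve_left hNK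
  have hsumf : ∑ j ∈ Finset.range N, f j = 0 := by
    simp only [f]
    rw [Finset.sum_comm]
    refine Finset.sum_eq_zero fun i hi => ?_
    rw [← Finset.sum_div]
    have h := geom_sum_mul (ζ ^ i) N
    rw [← pow_mul ζ i N, mul_comm i N, pow_mul, hζ.pow_eq_one, one_pow, sub_self] at h
    simp only [pow_mul]
    rw [(mul_eq_zero.1 h).resolve_right (sub_ne_zero.2 (hne1 i hi)), zero_div]
  have hsumg : ∑ j ∈ Finset.range N, g j = 0 := by
    rw [show ∑ j ∈ Finset.range N, g j = _ from quad_sum h6 (N : K) N]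
    field_simp
    ring
  have hconst : f 0 - g 0 = 0 := by
    have h : ∑ j ∈ Finset.range N, (f j - g j) = (N : K) * (f 0 - g 0) := by
      rw [Finset.sum_congr rfl fun i hi => by rw [hlin i (Finset.mem_range.1 hi).le, hslope, mul_zero, add_zero],
        Finset.sum_const, Finset.card_range, nsmul_eq_mul]
    rw [Finset.sum_sub_distrib, hsumf, hsumg, sub_zero] at h
    exact (mul_eq_zero.1 h.symm).resolve_left hNK
  have := hlin j hj.le
  rw [hslope, hconst, mul_zero, add_zero, sub_eq_zero] at this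
  exact this

end Groth.Agent.S18188
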