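import Groth.Statements.S18189
import Groth.Agent.S18188

set_option autoImplicit false
open OrbRR

namespace Groth.Agent.S18189

/-- Let N ≥ 1 be a natural number, let ζ ∈ ℂ be a primitive N-th root of unity, and put f(i) = i(i −
N)/2 + (N² − 1)/12 for 0 ≤ i < N. For every natural number m the complex number ε_m = (1/N)
∑_{i=0}^{N−1} f(i) ζ^{mi}, an eigenvalue of the symmetric circulant N × N matrix with (i, j) entry
f(j − i)/N, is real and nonnegative. -/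
theorem result (N : ℕ) (hN : 0 < N) (ζ : ℂ)
    (hζ : IsPrimitiveRoot ζ N) (m : ℕ) :
    (∑ i ∈ Finset.range N,
        ((i : ℂ) * ((i : ℂ) - (N : ℂ)) / 2 + ((N : ℂ) ^ 2 - 1) / 12) / (N : ℂ) * ζ ^ (m * i)).im = 0 ∧
    0 ≤ (∑ i ∈ Finset.range N,
        ((i : ℂ) * ((i : ℂ) - (N : ℂ)) / 2 + ((N : ℂ) ^ 2 - 1) / 12) / (N : ℂ) * ζ ^ (m * i)).re := by
  have h6 : (6 : ℂ) ≠ 0 := by norm_num
  have hN0 : (N : ℂ) ≠ 0 := Nat.cast_ne_zero.2 hN.ne'
  have hζ0 : ζ ≠ 0 := hζ.ne_zero hN.ne'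
  have hnorm : ‖ζ‖ = 1 := Complex.norm_eq_one_of_pow_eq_one hζ.pow_eq_one hN.ne'
  have hmain : (∑ i ∈ Finset.range N, ((i : ℂ) * ((i : ℂ) - (N : ℂ)) / 2 + ((N : ℂ) ^ 2 - 1) / 12) / (N : ℂ) * ζ ^ (m * i)) =
      ∑ j ∈ Finset.Ioo 0 N, if ζ ^ (j + m) = 1 then (2 - ζ ^ j - (ζ ^ j)⁻¹)⁻¹ else 0 := by
    rw [Finset.sum_congr rfl fun i hi => by
      rw [← Groth.Agent.S18188.result ℂ h6 N i (Finset.mem_range.1 hi) ζ hζ, Finset.sum_div, Finset.sum_mul], Finset.sum_comm]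
    refine Finset.sum_congr rfl fun j hj => ?_
    rw [Finset.sum_congr rfl (g := fun i => ((2 - ζ ^ j - (ζ ^ j)⁻¹)⁻¹ / N) * (ζ ^ (j + m)) ^ i) fun i _ => by
      rw [← pow_mul, add_mul, pow_add]; ring, ← Finset.mul_sum]
    split_ifs with h
    · simp only [h, one_pow, Finset.sum_const, Finset.card_range, nsmul_eq_mul, mul_one]
      field_simp
    · have hg := geom_sum_mul (ζ ^ (j + m)) N
      rw [← pow_mul ζ (j + m) N, mul_comm (j + m) N, pow_mul, hζ.pow_eq_one, one_pow, sub_self] at hg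
      rw [(mul_eq_zero.1 hg).resolve_right (sub_ne_zero.2 h), mul_zero]
  rw [hmain, Complex.im_sum, Complex.re_sum]
  have hval : ∀ j : ℕ, 2 - ζ ^ j - (ζ ^ j)⁻¹ = ((2 - 2 * (ζ ^ j).re : ℝ) : ℂ) := by
    intro j
    have hn : ‖ζ ^ j‖ = 1 := by rw [norm_pow, hnorm, one_pow]
    have hinv : (ζ ^ j)⁻¹ = (starRingEnd ℂ) (ζ ^ j) := by
      rw [Complex.inv_def, Complex.normSq_eq_norm_sq, hn]; simp
    rw [hinv]
    generalize ζ ^ j = w
    apply Complex.ext <;> simp <;> ring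
  refine ⟨Finset.sum_eq_zero fun j _ => ?_, Finset.sum_nonneg fun j _ => ?_⟩
  · split_ifs
    · rw [hval, ← Complex.ofReal_inv, Complex.ofReal_im]
    · rfl
  · split_ifs
    · rw [hval, ← Complex.ofReal_inv, Complex.ofReal_re]
      refine inv_nonneg.2 ?_
      have := Complex.re_le_norm (ζ ^ j)
      rw [norm_pow, hnorm, one_pow] at this
      linarith
    · exact le_rfl

end Groth.Agent.S18189
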