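import Groth.Statements.S18190
import Mathlib.LinearAlgebra.Matrix.PosDef
import Mathlib.Algebra.Order.Star.Real
import Mathlib.Tactic.Ring
import Mathlib.Tactic.LinearCombination
import Mathlib.Algebra.BigOperators.Field
import Mathlib.Algebra.BigOperators.Ring.Finset
import Mathlib.Algebra.BigOperators.Group.Finset.Basic

set_option autoImplicit false
open OrbRR

namespace Groth.Agent.S18190

theorem val_add_one (N : ℕ) [NeZero N] (x : ZMod N) :
    ((x + 1).val : ℝ) = (x.val : ℝ) + 1 - if x + 1 = 0 then (N : ℝ) else 0 := by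
  by_cases h : x + 1 = 0
  · rw [if_pos h, h, ZMod.val_zero]
    have hx : x = -1 := eq_neg_of_add_eq_zero_left h
    subst hx
    obtain ⟨k, rfl⟩ := Nat.exists_eq_succ_of_ne_zero (NeZero.ne N)
    rw [ZMod.val_neg_one]; push_cast; ring
  · rw [if_neg h, sub_zero]
    rcases Nat.lt_or_ge (x.val + 1) N with h' | h'
    · rw [← Nat.cast_one (R := ℝ), ← Nat.cast_add]
      congr 1
      rw [ZMod.val_add, ZMod.val_one_eq_one_mod, Nat.add_mod_mod, Nat.mod_eq_of_lt h']
    · exfalso
      apply h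
      have hlt := ZMod.val_lt x
      have : ((x.val + 1 : ℕ) : ZMod N) = 0 := by
        rw [show x.val + 1 = N by omega, ZMod.natCast_self]
      simpa using this

theorem autocorr (N : ℕ) [NeZero N] (d : ZMod N) :
    ∑ x : ZMod N, ((x.val : ℝ) - ((N : ℝ) - 1) / 2) * (((x + d).val : ℝ) - ((N : ℝ) - 1) / 2) =
      (N : ℝ) * (((d.val : ℝ) * ((d.val : ℝ) - N)) / 2 + ((N : ℝ) ^ 2 - 1) / 12) := by
  obtain ⟨k, hk, rfl⟩ : ∃ k, k < N ∧ (k : ZMod N) = d := ⟨d.val, ZMod.val_lt d, ZMod.natCast_zmod_val d⟩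
  rw [ZMod.val_natCast, Nat.mod_eq_of_lt hk]
  have hsum : ∀ g : ℕ → ℝ, ∑ x : ZMod N, g x.val = ∑ i ∈ Finset.range N, g i := by
    intro g
    refine Finset.sum_bij (fun x _ => x.val) (fun x _ => Finset.mem_range.2 (ZMod.val_lt x))
      (fun a _ b _ h => ZMod.val_injective N h) (fun i hi => ⟨(i : ZMod N), Finset.mem_univ _,
        by rw [ZMod.val_natCast, Nat.mod_eq_of_lt (Finset.mem_range.1 hi)]⟩) (fun _ _ => rfl)
  have e1 : ∀ M : ℕ, ∑ i ∈ Finset.range M, (i : ℝ) = (M : ℝ) * ((M : ℝ) - 1) / 2 := by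
    intro M
    induction M with
    | zero => simp
    | succ M ih => rw [Finset.sum_range_succ, ih]; push_cast; ring
  have e2 : ∀ M : ℕ, ∑ i ∈ Finset.range M, ((i : ℝ) - ((N : ℝ) - 1) / 2) ^ 2 =
      (M : ℝ) * ((M : ℝ) - 1) * (2 * M - 1) / 6 - ((N : ℝ) - 1) / 2 * ((M : ℝ) * ((M : ℝ) - 1)) +
        (M : ℝ) * (((N : ℝ) - 1) / 2) ^ 2 := by
    intro M
    induction M with
    | zero => simp
    | succ M ih => rw [Finset.sum_range_succ, ih]; push_cast; ring
  induction k with
  | zero =>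
    simp only [Nat.cast_zero, add_zero, zero_mul, zero_div, zero_add, ← pow_two]
    rw [hsum fun i => ((i : ℝ) - ((N : ℝ) - 1) / 2) ^ 2, e2]
    ring
  | succ k ih =>
    have ih := ih (by omega)
    have h : ∀ x : ZMod N, x + ((k + 1 : ℕ) : ZMod N) = x + (k : ZMod N) + 1 := fun x => by
      push_cast; ring
    simp only [h, val_add_one]
    have hs0 : ∑ x : ZMod N, ((x.val : ℝ) - ((N : ℝ) - 1) / 2) = 0 := by
      rw [hsum fun i => (i : ℝ) - ((N : ℝ) - 1) / 2, Finset.sum_sub_distrib, e1, Finset.sum_const,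
        Finset.card_range, nsmul_eq_mul]
      ring
    have hdel : ∑ x : ZMod N, ((x.val : ℝ) - ((N : ℝ) - 1) / 2) *
        (if x + (k : ZMod N) + 1 = 0 then (N : ℝ) else 0) =
        (((N : ℝ) - (k + 1)) - ((N : ℝ) - 1) / 2) * N := by
      rw [Finset.sum_eq_single (((N - (k + 1) : ℕ) : ZMod N))]
      · rw [if_pos, ZMod.val_natCast, Nat.mod_eq_of_lt (show N - (k + 1) < N by omega),
          Nat.cast_sub (by omega)]
        · push_cast; ring
        · rw [Nat.cast_sub (by omega), ZMod.natCast_self]; push_cast; ring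
      · intro x _ hx
        rw [if_neg, mul_zero]
        intro h0
        apply hx
        rw [Nat.cast_sub (by omega), ZMod.natCast_self]
        push_cast
        linear_combination h0
      · simp
    calc ∑ x : ZMod N, ((x.val : ℝ) - ((N : ℝ) - 1) / 2) * (((x + (k : ZMod N)).val : ℝ) + 1 -
          (if x + (k : ZMod N) + 1 = 0 then (N : ℝ) else 0) - ((N : ℝ) - 1) / 2)
        = ∑ x : ZMod N, ((x.val : ℝ) - ((N : ℝ) - 1) / 2) *
            (((x + (k : ZMod N)).val : ℝ) - ((N : ℝ) - 1) / 2) +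
          ∑ x : ZMod N, ((x.val : ℝ) - ((N : ℝ) - 1) / 2) -
          ∑ x : ZMod N, ((x.val : ℝ) - ((N : ℝ) - 1) / 2) *
            (if x + (k : ZMod N) + 1 = 0 then (N : ℝ) else 0) := by
          rw [← Finset.sum_add_distrib, ← Finset.sum_sub_distrib]
          exact Finset.sum_congr rfl fun x _ => by ring
      _ = _ := by rw [ih, hs0, hdel]; push_cast; ring

/-- Let N ≥ 1 and let f : ℤ/Nℤ → ℚ be f(x) = x(x − N)/2 + (N² − 1)/12, where x is read as its
representative with 0 ≤ x < N. The real N × N matrix indexed by ℤ/Nℤ whose (i, j) entry is f(j −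
i)/N, a symmetric circulant matrix, is positive semidefinite. -/
theorem result (N : ℕ) [NeZero N] :
    (Matrix.of fun i j : ZMod N =>
        ((((j - i).val : ℝ) * (((j - i).val : ℝ) - (N : ℝ))) / 2 + ((N : ℝ) ^ 2 - 1) / 12) / (N : ℝ)).PosSemidef := by
  set S : Matrix (ZMod N) (ZMod N) ℝ :=
    Matrix.of fun l i => (((l - i).val : ℝ) - ((N : ℝ) - 1) / 2) / N with hS
  convert Matrix.posSemidef_conjTranspose_mul_self S using 1
  ext i j
  have hN : (N : ℝ) ≠ 0 := by exact_mod_cast NeZero.ne N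
  simp only [hS, Matrix.mul_apply, Matrix.conjTranspose_apply, Matrix.of_apply, star_trivial]
  rw [← Equiv.sum_comp (Equiv.addRight i) (fun l => (((l - i).val : ℝ) - ((N : ℝ) - 1) / 2) / N *
    ((((l - j).val : ℝ) - ((N : ℝ) - 1) / 2) / N))]
  simp only [Equiv.coe_addRight, add_sub_cancel_right, div_mul_div_comm]
  rw [← Finset.sum_div, Finset.sum_congr rfl fun x _ => by rw [add_sub_assoc x i j], autocorr]
  have hsymm : ((i - j).val : ℝ) * (((i - j).val : ℝ) - N) = ((j - i).val : ℝ) * (((j - i).val : ℝ) - N) := by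
    rw [← neg_sub j i, ZMod.neg_val]
    split_ifs with h
    · rw [h, ZMod.val_zero]
    · rw [Nat.cast_sub (ZMod.val_lt _).le]; ring
  rw [hsymm]
  field_simp

end Groth.Agent.S18190
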