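import Groth.Statements.S18196
import Groth.Agent.Lib.LocImm12.Basic
import Mathlib.AlgebraicGeometry.ZariskisMainTheorem

open Groth.Agent.LocImm12

set_option autoImplicit false
universe u
open LocImm

namespace Groth.Agent.S18196

open CategoryTheory AlgebraicGeometry in
/-- Let `f : X ⟶ Y` and `g : Y ⟶ Z` be morphisms of Noetherian schemes with `g` separated and `f ≫ g` a
localizing immersion (localizing and injective on points). If `f` is proper then `f` is a closed
immersion. -/
theorem result {X Y Z : Scheme.{u}} [IsNoetherian X] [IsNoetherian Y] [IsNoetherian Z]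
    (f : X ⟶ Y) (g : Y ⟶ Z) (hfg : LocImm.IsLocImmersion (f ≫ g)) [IsSeparated g] [IsProper f] : IsClosedImmersion f := by
  have := isPreimmersion_of_isLocImmersion hfg
  have : Mono f := mono_of_mono f g
  exact (IsClosedImmersion.iff_isProper_and_mono f).2 ⟨inferInstance, inferInstance⟩

end Groth.Agent.S18196
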