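import Groth.Statements.S18200
import Groth.Agent.Lib.LocImm12.Local
import Groth.Agent.Lib.LocImm12.FactorAll
import Groth.Agent.Lib.LocImm12.Noeth
import Groth.Agent.S0385

set_option autoImplicit false
universe u
open LocImm

namespace Groth.Agent.S18200

open CategoryTheory AlgebraicGeometry in
/-- Let `f : X ⟶ Y` be a separated morphism of Noetherian schemes that is essentially quasi-finite:
essentially of finite type with every fibre the spectrum of a finite algebra over the residue field
(equivalently, `f` locally quasi-finite in the fibrewise sense, which carries no finite-type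
condition). Then `f` factors as a localizing immersion `i : X ⟶ Z` (localizing and injective on
points, `Z` Noetherian) followed by a finite morphism `h : Z ⟶ Y`. -/
theorem result {X Y : Scheme.{u}} [IsNoetherian X] [IsNoetherian Y] (f : X ⟶ Y) [IsSeparated f] [EssFT.EssFiniteType f] [LocallyQuasiFinite f] :
    ∃ (Z : Scheme.{u}) (i : X ⟶ Z) (h : Z ⟶ Y), IsNoetherian Z ∧ LocImm.IsLocImmersion i ∧ IsFinite h ∧ i ≫ h = f := by
  obtain ⟨W, k, h, hW, hk, h1, h2, h3, hkh⟩ := LocImm12.exists_factor f
  have hqf : ∀ x, h.QuasiFiniteAt (k x) := by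
    intro x
    have hx : (k ≫ h).QuasiFiniteAt x := by rw [hkh]; exact f.quasiFiniteAt x
    have := LocImm12.flat_of_isLocalizing hk.1
    have := LocImm12.surjectiveOnStalks_of_isLocalizing hk.1
    have := LocImm12.isIso_stalkMap k x
    have hx : ((k.stalkMap x).hom.comp (h.stalkMap (k x)).hom).QuasiFinite := by
      rw [Scheme.Hom.QuasiFiniteAt, Scheme.Hom.stalkMap_comp] at hx
      exact hx
    exact (RingHom.QuasiFinite.respectsIso.cancel_right_isIso _ _).1 hx
  let U := h.quasiFiniteLocus
  have := LocImm12.isNoetherian_of_isOpenImmersion U.ι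
  have := h1
  have := h2
  have := h3
  have : QuasiCompact (U.ι ≫ h) := inferInstance
  obtain ⟨T, j, π, hj, hjqc, hπ, hjπ⟩ := Groth.Agent.S0385.result (U.ι ≫ h)
  have hr : Set.range k ⊆ Set.range U.ι := by
    rw [Scheme.Opens.range_ι]
    rintro _ ⟨x, rfl⟩
    exact hqf x
  let k' : X ⟶ U.toScheme := IsOpenImmersion.lift U.ι k hr
  have hk' : k' ≫ U.ι = k := IsOpenImmersion.lift_fac _ _ hr
  have : IsNoetherian T := LocImm12.isNoetherian_of_finiteType π
  refine ⟨T, k' ≫ j, π, inferInstance, ?_, hπ, ?_⟩
  · refine LocImm12.isLocImmersion_comp ?_ (LocImm12.isLocImmersion_of_isOpenImmersion j)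
    have hk2 : LocImm.IsLocImmersion (k' ≫ U.ι) := hk'.symm ▸ hk
    have := LocImm12.isPreimmersion_of_isLocImmersion hk2
    exact LocImm12.isLocImmersion_of_comp_openImmersion U.ι hk2
  · rw [Category.assoc, hjπ, ← Category.assoc, hk', hkh]


end Groth.Agent.S18200
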