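import Groth.Statements.S18206
import Groth.Agent.Lib.LocImm12.LocHom
import Groth.Agent.Lib.EffCartier.Comap

open Groth.Agent.LocImm12
set_option backward.isDefEq.respectTransparency.types false

set_option autoImplicit false
universe u
open LocImm

namespace Groth.Agent.S18206

open CategoryTheory AlgebraicGeometry in
/-- Let `f : X ⟶ Y` be a localizing immersion (localizing and injective on points) of Noetherian
schemes. Then every quasi-coherent ideal sheaf `I` on `X` is the inverse image ideal `J·O_X` of some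
quasi-coherent ideal sheaf `J` on `Y` (all such ideals are coherent, the schemes being Noetherian). -/
theorem result {X Y : Scheme.{u}} [IsNoetherian X] [IsNoetherian Y]
    (f : X ⟶ Y) (hf : LocImm.IsLocImmersion f) (I : X.IdealSheafData) : ∃ J : Y.IdealSheafData, J.comap f = I := by
  have := isPreimmersion_of_isLocImmersion hf
  refine ⟨I.map f, le_antisymm (Scheme.IdealSheafData.comap_map_le _ _) ?_⟩
  have hV : ∀ x : X, ∃ V : Y.Opens, f x ∈ V ∧ IsAffineOpen V ∧ IsAffineOpen (f ⁻¹ᵁ V) ∧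
      LocImm.IsLocHom (f.app V).hom := fun x => by
    obtain ⟨V, hx, -, h1, h2, h3⟩ := exists_affine_preimage hf.1 f.isEmbedding x ⊤ trivial
    exact ⟨V, hx, h1, h2, h3⟩
  choose V hxV hV hP hl using hV
  refine Scheme.IdealSheafData.le_of_iSup_eq_top (fun x => ⟨f ⁻¹ᵁ V x, hP x⟩)
    (eq_top_iff.2 fun x _ => TopologicalSpace.Opens.mem_iSup.2 ⟨x, hxV x⟩) fun x => ?_
  rw [EffCartier.comap_ideal (I.map f) f ⟨V x, hV x⟩ ⟨_, hP x⟩ le_rfl,
    Scheme.IdealSheafData.ideal_map I f ⟨V x, hV x⟩ (hP x), ← Scheme.Hom.app_eq_appLE]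
  intro b hb
  obtain ⟨a, s, hs, hbs⟩ := ((isLocHom_iff _).1 (hl x)).1 b
  have hmem : f.app (V x) a ∈ I.ideal ⟨_, hP x⟩ := by
    rw [← hbs]
    exact Ideal.mul_mem_right _ _ hb
  obtain ⟨u, hu⟩ := hs
  have hba : b = f.app (V x) a * ↑u⁻¹ := by rw [← hbs, ← hu, Units.mul_inv_cancel_right]
  rw [hba]
  exact Ideal.mul_mem_right _ _ (Ideal.mem_map_of_mem _ hmem)

end Groth.Agent.S18206
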