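import Groth.Statements.S18208
import Groth.Agent.Lib.LocImm12.LocHom

open Groth.Agent.LocImm12
set_option backward.isDefEq.respectTransparency.types false

set_option autoImplicit false
universe u
open LocImm

namespace Groth.Agent.S18208

open CategoryTheory AlgebraicGeometry in
/-- A morphism `f : X ⟶ Y` of Noetherian schemes is a localizing immersion (localizing and injective on
points) if and only if every point of `f(X)` has an affine open neighbourhood `V` in `Y` whose
preimage `f⁻¹V` is affine with `Γ(Y, V) → Γ(X, f⁻¹V)` a localizing ring map (its target is the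
localization of its source at some submonoid). In particular such an `f` is quasi-affine. -/
theorem result {X Y : Scheme.{u}} [IsNoetherian X] [IsNoetherian Y] (f : X ⟶ Y) :
    LocImm.IsLocImmersion f ↔ ∀ x : X, ∃ V : Y.Opens, f x ∈ V ∧ IsAffineOpen V ∧ IsAffineOpen (f ⁻¹ᵁ V) ∧ LocImm.IsLocHom (f.app V).hom := by
  refine ⟨fun h x => ?_, fun h => ⟨fun x => ?_, fun x₁ x₂ hx => ?_⟩⟩
  · obtain ⟨V, hx, -, hV, hP, hl⟩ := exists_affine_preimage h.1
      (isPreimmersion_of_isLocImmersion h).isEmbedding x ⊤ trivial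
    exact ⟨V, hx, hV, hP, hl⟩
  · obtain ⟨V, hx, hV, hP, hl⟩ := h x
    exact ⟨⟨V, hV⟩, ⟨_, hP⟩, hx, le_rfl, by rwa [← Scheme.Hom.app_eq_appLE]⟩
  · obtain ⟨V, hV1, hV, hP, hl⟩ := h x₁
    have hV2 : f x₂ ∈ V := hx ▸ hV1
    rw [Scheme.Hom.app_eq_appLE] at hl
    have := isPreimmersion_SpecMap hl
    have h1 : IsPreimmersion (hP.fromSpec ≫ f) :=
      IsAffineOpen.SpecMap_appLE_fromSpec f hV hP le_rfl ▸ inferInstance
    obtain ⟨z₁, rfl⟩ := hP.range_fromSpec.ge hV1
    obtain ⟨z₂, rfl⟩ := hP.range_fromSpec.ge hV2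
    exact congrArg _ ((hP.fromSpec ≫ f).isEmbedding.injective hx)

end Groth.Agent.S18208
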