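import Groth.Statements.S18209
import Groth.Agent.Lib.LocImm12.AdmApply
-- import your own Groth.Agent.* helpers here

set_option autoImplicit false
set_option backward.isDefEq.respectTransparency false
universe u
open LocImm Groth.Agent Groth.Agent.LocImm12

namespace Groth.Agent.S18209

open CategoryTheory AlgebraicGeometry Limits in
/-- Let `f : X ⟶ Y` and `g : Y ⟶ Z` be separated morphisms of Noetherian schemes, essentially of finite
type, such that `f` and `f ≫ g` are localizing immersions (localizing and injective on points). Then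
there are blow-ups `b : Ỹ ⟶ Y` and `c : Z̃ ⟶ Z` in quasi-coherent (hence coherent) ideals whose
closed subschemes are disjoint from the image of `X`, and a localizing immersion `g' : Ỹ ⟶ Z̃`
lifting `g`, i.e. `g' ≫ c = b ≫ g`. -/
theorem result {X Y Z : Scheme.{u}} [IsNoetherian X] [IsNoetherian Y] [IsNoetherian Z]
    (f : X ⟶ Y) (g : Y ⟶ Z) [IsSeparated f] [IsSeparated g] [EssFT.EssFiniteType f] [EssFT.EssFiniteType g]
    (hf : LocImm.IsLocImmersion f) (hfg : LocImm.IsLocImmersion (f ≫ g)) :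
    ∃ (𝓘 : Y.IdealSheafData) (𝓙 : Z.IdealSheafData) (Yt Zt : Scheme.{u}) (b : Yt ⟶ Y) (c : Zt ⟶ Z) (g' : Yt ⟶ Zt),
      BlowUp.IsBlowUp b 𝓘 ∧ Disjoint (𝓘.support : Set Y) (Set.range (fun x => f x)) ∧
      BlowUp.IsBlowUp c 𝓙 ∧ Disjoint (𝓙.support : Set Z) (Set.range (fun x => g (f x))) ∧
      LocImm.IsLocImmersion g' ∧ g' ≫ c = b ≫ g := by
  obtain ⟨Yc, k, p, hYc, hk, hp, hkp⟩ := Groth.Agent.S18198.result g
  obtain ⟨P', φ, e, I, J, hP', he, hI, hId, hJ, hJd⟩ := exists_two (f ≫ k) p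
    (isLocImmersion_comp hf hk) (by rw [Category.assoc, hkp]; exact hfg)
  obtain ⟨hb, hg'⟩ := blowUp_pullback k hk hI
  refine ⟨I.comap k, J, _, P', pullback.fst k φ, φ ≫ p, pullback.snd k φ, hb, ?_, hJ, ?_, hg', ?_⟩
  · rw [Scheme.IdealSheafData.support_comap, Set.disjoint_left]
    rintro x hx ⟨u, rfl⟩
    exact Set.disjoint_left.1 hId hx ⟨u, rfl⟩
  · refine hJd.mono_right ?_
    rintro _ ⟨u, rfl⟩
    refine ⟨u, ?_⟩
    show ((f ≫ k) ≫ p) u = (f ≫ g) u
    rw [Category.assoc, hkp]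
  · rw [← hkp, ← Category.assoc, ← pullback.condition, Category.assoc]

end Groth.Agent.S18209
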