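import Groth.Statements.S18210
import Groth.Agent.Lib.LocImm12.AdmApply
-- import your own Groth.Agent.* helpers here

set_option autoImplicit false
set_option backward.isDefEq.respectTransparency false
universe u
open LocImm Groth.Agent Groth.Agent.LocImm12

namespace Groth.Agent.S18210

open CategoryTheory AlgebraicGeometry Limits in
/-- Let `S` be a Noetherian scheme, `U` and `Y_1, …, Y_n` Noetherian schemes separated and essentially
of finite type over `S`, and `f_i : U ⟶ Y_i` localizing immersions over `S` (localizing and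
injective on points). Then there are blow-ups `b_i : Ỹ_i ⟶ Y_i` in quasi-coherent ideals whose
closed subschemes miss `f_i(U)`, a separated `S`-scheme `Z` of finite type, lifts `u_i : U ⟶ Ỹ_i` of
the `f_i`, and localizing immersions `g_i : Ỹ_i ⟶ Z` over `S` with dense image such that all
composites `u_i ≫ g_i` coincide. (The published statement does not require the `Y_i` to be separated
over `S`; its proof factors each `Y_i ⟶ S` through the main factorization result, which needs it,
and without it the line with a doubled point over a field, with `U` the complement of the doubled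
point, is a counterexample, since a scheme admitting a localizing immersion into a separated
`S`-scheme is separated over `S`.) -/
theorem result {S U : Scheme.{u}} [IsNoetherian S] [IsNoetherian U] {n : ℕ}
    (gU : U ⟶ S) (Y : Fin n → Scheme.{u}) [∀ i, IsNoetherian (Y i)] (q : ∀ i, Y i ⟶ S)
    [∀ i, IsSeparated (q i)] [∀ i, EssFT.EssFiniteType (q i)]
    (f : ∀ i, U ⟶ Y i) (hf : ∀ i, LocImm.IsLocImmersion (f i)) (hfq : ∀ i, f i ≫ q i = gU) :
    ∃ (Z : Scheme.{u}) (r : Z ⟶ S) (_ : IsSeparated r) (_ : LocallyOfFiniteType r) (_ : QuasiCompact r)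
      (𝓘 : ∀ i, (Y i).IdealSheafData) (Yt : Fin n → Scheme.{u}) (b : ∀ i, Yt i ⟶ Y i) (u : ∀ i, U ⟶ Yt i) (g : ∀ i, Yt i ⟶ Z),
      (∀ i, BlowUp.IsBlowUp (b i) (𝓘 i) ∧ Disjoint ((𝓘 i).support : Set (Y i)) (Set.range (fun x => f i x)) ∧
        u i ≫ b i = f i ∧ LocImm.IsLocImmersion (g i) ∧ Dense (Set.range (fun x => g i x)) ∧ g i ≫ r = b i ≫ q i) ∧
      (∀ i i', u i ≫ g i = u i' ≫ g i') := by
  choose Yc k p hYc hk hp hkp using fun i => Groth.Agent.S18198.result (q i)
  haveI := AdmBlowUp4.isProper_widePullback_base Yc p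
  haveI : IsNoetherian (widePullback S Yc p) := isNoetherian_of_finiteType (WidePullback.base p)
  haveI : ∀ i, IsProper (WidePullback.π p i) := fun i => by
    haveI : IsProper (WidePullback.π p i ≫ p i) := by rw [WidePullback.π_arrow]; infer_instance
    exact IsProper.of_comp (WidePullback.π p i) (p i)
  have hg : ∀ i, (f i ≫ k i) ≫ p i = gU := fun i => by rw [Category.assoc, hkp, hfq]
  obtain ⟨P, t, ι, hP, hι, ht, htq, htι⟩ := exists_image (WidePullback.lift gU (fun i => f i ≫ k i) hg)
  obtain ⟨P', β, t', I, hP', hβ, ht', hd, -, hI⟩ := exists_family t (fun i => ι ≫ WidePullback.π p i)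
    (fun i => f i ≫ k i) (fun i => isLocImmersion_comp (hf i) (hk i))
    (fun i => by rw [← Category.assoc, htι, WidePullback.lift_π])
  let r := β ≫ ι ≫ WidePullback.base p
  haveI : IsProper r := inferInstance
  let φ : ∀ i, P' ⟶ Yc i := fun i => β ≫ ι ≫ WidePullback.π p i
  have hu : ∀ i, f i ≫ k i = t' ≫ φ i := fun i => by
    simp only [φ]
    rw [reassoc_of% ht', reassoc_of% htι, WidePullback.lift_π]
  refine ⟨P', r, inferInstance, inferInstance, inferInstance, fun i => (I i).comap (k i),
    fun i => pullback (k i) (φ i), fun i => pullback.fst (k i) (φ i),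
    fun i => pullback.lift (f i) t' (hu i), fun i => pullback.snd (k i) (φ i),
    fun i => ⟨(blowUp_pullback (k i) (hk i) (hI i).1).1, ?_, pullback.lift_fst _ _ _,
      (blowUp_pullback (k i) (hk i) (hI i).1).2, ?_, ?_⟩,
    fun i i' => by rw [pullback.lift_snd, pullback.lift_snd]⟩
  · rw [Scheme.IdealSheafData.support_comap, Set.disjoint_left]
    rintro x hx ⟨u, rfl⟩
    exact Set.disjoint_left.1 (hI i).2 hx ⟨u, rfl⟩
  · refine Dense.mono ?_ hd
    rintro _ ⟨u, rfl⟩
    refine ⟨pullback.lift (f i) t' (hu i) u, ?_⟩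
    show (pullback.lift (f i) t' (hu i) ≫ pullback.snd (k i) (φ i)) u = t' u
    rw [pullback.lift_snd]
  · show pullback.snd (k i) (φ i) ≫ r = pullback.fst (k i) (φ i) ≫ q i
    rw [← hkp i, pullback.condition_assoc]
    simp only [φ, r, Category.assoc, WidePullback.π_arrow]

end Groth.Agent.S18210
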