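import Groth.Statements.S18211
import Groth.Agent.Lib.LocImm12.AdmApply
import Groth.Agent.S4418
import Groth.Agent.S9708
import Groth.Agent.S8910
-- import your own Groth.Agent.* helpers here

set_option autoImplicit false
set_option backward.isDefEq.respectTransparency false
universe u
open LocImm Groth.Agent Groth.Agent.LocImm12

namespace Groth.Agent.S18211

open CategoryTheory AlgebraicGeometry Limits in
/-- Let `π : Y ⟶ S` be a separated morphism of Noetherian schemes, essentially of finite type, and `f :
U ⟶ Y` a localizing immersion (localizing and injective on points) with dense image such that `U ⟶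
S` is essentially quasi-projective: it factors as a localizing immersion `j : U ⟶ P` followed by a
projective morphism `P ⟶ S` (in the sense of the relative homogeneous spectrum of a quasi-coherent
graded algebra generated in degree one with degree-one part of finite type). Then there is a blow-up
`Ỹ ⟶ Y` in a quasi-coherent ideal whose closed subscheme misses `f(U)` such that `Ỹ ⟶ S` is
essentially quasi-projective in the same sense. -/
theorem result {U Y S P : Scheme.{u}} [IsNoetherian U] [IsNoetherian Y] [IsNoetherian S] [IsNoetherian P]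
    (π : Y ⟶ S) [IsSeparated π] [EssFT.EssFiniteType π] (f : U ⟶ Y) (hf : LocImm.IsLocImmersion f)
    (hfd : Dense (Set.range (fun x => f x))) (j : U ⟶ P) (p : P ⟶ S) (hj : LocImm.IsLocImmersion j)
    (hp : RelProj.IsProjective p) (hc : j ≫ p = f ≫ π) :
    ∃ (𝓘 : Y.IdealSheafData) (Yt P' : Scheme.{u}) (b : Yt ⟶ Y) (j' : Yt ⟶ P') (p' : P' ⟶ S),
      BlowUp.IsBlowUp b 𝓘 ∧ Disjoint (𝓘.support : Set Y) (Set.range (fun x => f x)) ∧
      LocImm.IsLocImmersion j' ∧ RelProj.IsProjective p' ∧ j' ≫ p' = b ≫ π := by
  obtain ⟨Yc, k, q, hYc, hk, hq, hkq⟩ := Groth.Agent.S18198.result π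
  haveI : IsProper p := (Groth.Agent.S4418.result p hp).2
  haveI : IsNoetherian (pullback p q) := isNoetherian_of_finiteType (pullback.fst p q)
  obtain ⟨P', φ, I, J, hP', hI, -, hJ, hJd⟩ := exists_pair (pullback.lift j (f ≫ k) (by rw [Category.assoc, hkq, hc]))
    (pullback.fst p q) (pullback.snd p q) j (f ≫ k) hj (isLocImmersion_comp hf hk)
    (pullback.lift_fst _ _ _) (pullback.lift_snd _ _ _)
  obtain ⟨hb, hj'⟩ := blowUp_pullback k hk hJ
  refine ⟨J.comap k, _, P', pullback.fst k (φ ≫ pullback.snd p q), pullback.snd k (φ ≫ pullback.snd p q),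
    (φ ≫ pullback.fst p q) ≫ p, hb, ?_, hj', ?_, ?_⟩
  · rw [Scheme.IdealSheafData.support_comap, Set.disjoint_left]
    rintro x hx ⟨u, rfl⟩
    exact Set.disjoint_left.1 hJd hx ⟨u, rfl⟩
  · exact Groth.Agent.S9708.result _ p
      (Groth.Agent.S8910.result I (Nagata4.isFiniteTypeIdeal_of_noetherian I) _ hI) hp
  · rw [← hkq, pullback.condition_assoc]
    simp only [Category.assoc, pullback.condition]

end Groth.Agent.S18211
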