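import Groth.Statements.S18212
import Groth.Agent.Lib.LocImm12.AdmApply
-- import your own Groth.Agent.* helpers here

set_option autoImplicit false
set_option backward.isDefEq.respectTransparency false
universe u
open LocImm Groth.Agent Groth.Agent.LocImm12

namespace Groth.Agent.S18212

open CategoryTheory AlgebraicGeometry Limits in
/-- Let `S` be a Noetherian scheme, `a : X ⟶ S` and `b : Y ⟶ S` separated morphisms essentially of
finite type with `X, Y` Noetherian, `Z` a Noetherian scheme, `j : Z ⟶ X` a localizing immersion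
(localizing and injective on points) and `f : Z ⟶ Y` a morphism over `S`. Then there are a blow-up
`c : X̃ ⟶ X` in a quasi-coherent ideal whose closed subscheme misses `j(Z)`, a localizing immersion
`j' : Z' ⟶ X̃` and a morphism `e : Z ⟶ Z'` with `e ≫ j' ≫ c = j` (so `j'` extends the lift of `j` to
`X̃`), and a morphism `f' : Z' ⟶ Y` over `S` extending `f` (`e ≫ f' = f`), such that the morphism
`Z' ⟶ X̃ ×_S Y` induced by `j'` and `f'` is a closed immersion. -/
theorem result {S X Y Z : Scheme.{u}} [IsNoetherian S] [IsNoetherian X] [IsNoetherian Y] [IsNoetherian Z]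
    (a : X ⟶ S) (b : Y ⟶ S) [IsSeparated a] [IsSeparated b] [EssFT.EssFiniteType a] [EssFT.EssFiniteType b]
    (j : Z ⟶ X) (hj : LocImm.IsLocImmersion j) (f : Z ⟶ Y) (hjf : j ≫ a = f ≫ b) :
    ∃ (𝓘 : X.IdealSheafData) (Xt Z' : Scheme.{u}) (c : Xt ⟶ X) (j' : Z' ⟶ Xt) (e : Z ⟶ Z') (f' : Z' ⟶ Y)
      (h : j' ≫ (c ≫ a) = f' ≫ b),
      BlowUp.IsBlowUp c 𝓘 ∧ Disjoint (𝓘.support : Set X) (Set.range (fun x => j x)) ∧
      LocImm.IsLocImmersion j' ∧ e ≫ j' ≫ c = j ∧ e ≫ f' = f ∧
      IsClosedImmersion (pullback.lift j' f' h) := by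
  obtain ⟨Yc, k, p, hYc, hk, hp, hkp⟩ := Groth.Agent.S18198.result b
  haveI : IsNoetherian (pullback a p) := isNoetherian_of_finiteType (pullback.fst a p)
  obtain ⟨P', φ, t', I, hP', ht', hI, hId⟩ := exists_one
    (pullback.lift j (f ≫ k) (by rw [Category.assoc, hkp, hjf])) (pullback.fst a p) j hj
    (pullback.lift_fst _ _ _)
  let c := φ ≫ pullback.fst a p
  let fb := φ ≫ pullback.snd a p
  have h₁ : fb ≫ p = c ≫ a := by simp only [fb, c, Category.assoc, pullback.condition]
  refine ⟨I, P', pullback k fb, c, pullback.snd k fb,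
    pullback.lift f t' (by simp only [fb]; rw [← Category.assoc, ht', pullback.lift_snd]), pullback.fst k fb,
    by rw [← h₁, ← hkp, pullback.condition_assoc], hI, hId, Groth.Agent.S18202.result k fb hk, ?_,
    pullback.lift_fst _ _ _, ?_⟩
  · rw [pullback.lift_snd_assoc]
    simp only [c]
    rw [← Category.assoc, ht', pullback.lift_fst]
  · have : pullback.lift (pullback.snd k fb) (pullback.fst k fb) (by rw [← h₁, ← hkp, pullback.condition_assoc]) =
        (pullbackSymmetry k fb).hom ≫ pullback.mapDesc fb k p ≫ (pullback.congrHom h₁ hkp).hom := by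
      apply pullback.hom_ext <;> simp
    rw [this]
    infer_instance

end Groth.Agent.S18212
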