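import Groth.Statements.S18213
import Groth.Agent.Lib.LocImm12.Local
import Groth.Agent.Lib.FlatH4.FlatLocusScheme

open Groth.Agent.LocImm12
set_option backward.isDefEq.respectTransparency.types false

set_option autoImplicit false
universe u
open LocImm

namespace Groth.Agent.S18213

open CategoryTheory AlgebraicGeometry in
/-- Let `f : X ⟶ Y` be a separated morphism of Noetherian schemes, essentially of finite type. Then the
set of points `x` for which the composite `Spec O_{X,x} ⟶ X ⟶ Y` is flat is open, and if `f` is flat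
it factors as a localizing immersion `i : X ⟶ Z` (localizing and injective on points, `Z`
Noetherian) followed by a separated flat morphism of finite type `h : Z ⟶ Y`. -/
theorem result {X Y : Scheme.{u}} [IsNoetherian X] [IsNoetherian Y] (f : X ⟶ Y) [IsSeparated f] [EssFT.EssFiniteType f] :
    IsOpen {x : X | Flat (X.fromSpecStalk x ≫ f)} ∧
      (Flat f → ∃ (Z : Scheme.{u}) (i : X ⟶ Z) (h : Z ⟶ Y), IsNoetherian Z ∧ LocImm.IsLocImmersion i ∧ IsSeparated h ∧ LocallyOfFiniteType h ∧ QuasiCompact h ∧ Flat h ∧ i ≫ h = f) := by
  have hiff : ∀ {X Y : Scheme.{u}} (g : X ⟶ Y) (x : X),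
      Flat (X.fromSpecStalk x ≫ g) ↔ (g.stalkMap x).hom.Flat := by
    intro X Y g x
    have : Flat (Y.fromSpecStalk (g x)) :=
      flat_of_isLocalizing (isLocImmersion_fromSpecStalk _).1
    refine ⟨fun h => ?_, fun h => ?_⟩
    · have hc := Flat.stalkMap (X.fromSpecStalk x ≫ g)
        (IsLocalRing.closedPoint (X.presheaf.stalk x))
      rw [Scheme.Hom.stalkMap_comp] at hc
      have := flat_of_isLocalizing (isLocImmersion_fromSpecStalk x).1
      have := surjectiveOnStalks_of_isLocalizing (isLocImmersion_fromSpecStalk x).1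
      have := isIso_stalkMap (X.fromSpecStalk x) (IsLocalRing.closedPoint (X.presheaf.stalk x))
      have key : ∀ y : X, y = x → (g.stalkMap y).hom.Flat → (g.stalkMap x).hom.Flat := by
        rintro y rfl h; exact h
      exact key _ Scheme.fromSpecStalk_closedPoint ((RingHom.Flat.respectsIso.cancel_right_isIso _ _).1 hc)
    · have : Flat (Spec.map (g.stalkMap x)) := Flat.SpecMap_iff.2 h
      rw [← Scheme.SpecMap_stalkMap_fromSpecStalk]
      infer_instance
  obtain ⟨-, h1, h2⟩ := localizable_property @Flat
    (fun {W X Y} _ _ _ i g _ _ hi hg => by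
      have := flat_of_isLocalizing hi.1
      infer_instance)
    (fun {X Y} _ _ g _ _ h => Flat.of_stalkMap g fun x => (hiff g x).1 (h x))
    (fun {X Y} _ _ g _ _ => by
      simp only [hiff]
      have := locallyOfFinitePresentation_of_locallyOfFiniteType g
      exact Groth.Agent.FlatH4.isOpen_flatLocus g) f
  exact ⟨h1, h2⟩

end Groth.Agent.S18213
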