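import Groth.Statements.S18218
import Groth.Agent.Lib.FMHyp13.TwistedIsog

set_option autoImplicit false
set_option backward.isDefEq.respectTransparency false
set_option backward.isDefEq.respectTransparency.types false
universe u
open CategoryTheory CategoryTheory.Limits MonoidalCategory CartesianMonoidalCategory MonObj GrpObj AlgebraicGeometry
open AbVar

namespace Groth.Agent.S18218

/-- Let k be an algebraically closed field (any characteristic), A an abelian variety over k (a proper
smooth k-group scheme with geometrically connected fibres) of dimension g, (A^t, φ) a given dual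
abelian variety of A for the fppf topology with A^t itself an abelian variety, and P an invertible
module on A ×_k A^t whose class is a Poincaré class; for a k-point α of A^t write P_α for the
restriction of P to A × {α}. Let L be an ample invertible O_A-module with an inverse L' (L ⊗ L' ≅
O_A), negative powers of L meaning powers of L', and l its class; for b ≥ 1 let b_A : A → A be
multiplication by b. For a coherent O_A-module F and a rational x = a/b (a an integer, b ≥ 1) the
Q-twisted sheaf F⟨x l⟩ stands for the module b_A^*F ⊗ L^{ab}; it is said to satisfy IT(0) when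
h^i(A, b_A^*F ⊗ L^{ab} ⊗ P_α) = 0 for every i ≥ 1 and every k-point α of A^t, and to be GV when for
every i ≥ 1 the k-points α with h^i(A, b_A^*F ⊗ L^{ab} ⊗ P_α) > 0 lie in a closed subset of A^t of
dimension less than g − i + 1 (the i-th cohomological support locus has codimension at least i). Let
f : B → A be an isogeny of abelian varieties (a homomorphism which is finite and surjective; B then
also has dimension g), B also equipped with a dual abelian variety (B^t, ψ) and an invertible module
Q on B ×_k B^t whose class is a Poincaré class, Q_β its restriction to B × {β}; f^*L is ample on B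
with inverse f^*L', and f^*(F⟨x l⟩) = (f^*F)⟨x f^*l⟩. Then for a coherent O_A-module F and a
rational x = a/b (b ≥ 1), F⟨x l⟩ is GV on A if and only if (f^*F)⟨x f^*l⟩ is GV on B: for every i ≥
1 the k-points β of B^t with h^i(B, b_B^*f^*F ⊗ (f^*L)^{ab} ⊗ Q_β) > 0 lie in a closed subset of B^t
of dimension less than g − i + 1. -/
theorem result (k : Type u) [Field k] [IsAlgClosed k]
    (A At : Over (Spec (CommRingCat.of k))) [GrpObj A] [IsProper A.hom] [Smooth A.hom] [GeometricallyConnected A.hom]
    [GrpObj At] [IsProper At.hom] [Smooth At.hom] [GeometricallyConnected At.hom]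
    (φ : ∀ T : Over (Spec (CommRingCat.of k)), PicF.Cl (PicF.XT A.hom T) → (T ⟶ At))
    (hφ : AbDual.IsDualAV Scheme.fppfPrecoverage A At φ)
    (P : (pullback A.hom At.hom).Modules) (hP : PicF.IsInvertible P)
    (hPξ : AbDual.IsPoincareCl A At φ (PicF.cl P))
    (B Bt : Over (Spec (CommRingCat.of k))) [GrpObj B] [IsProper B.hom] [Smooth B.hom] [GeometricallyConnected B.hom]
    [GrpObj Bt] [IsProper Bt.hom] [Smooth Bt.hom] [GeometricallyConnected Bt.hom]
    (ψ : ∀ T : Over (Spec (CommRingCat.of k)), PicF.Cl (PicF.XT B.hom T) → (T ⟶ Bt))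
    (hψ : AbDual.IsDualAV Scheme.fppfPrecoverage B Bt ψ)
    (Q : (pullback B.hom Bt.hom).Modules) (hQ : PicF.IsInvertible Q)
    (hQξ : AbDual.IsPoincareCl B Bt ψ (PicF.cl Q))
    (g : ℕ) (hg : topologicalKrullDim ↥A.left = g)
    (f : B ⟶ A) [IsMonHom f] [IsFinite f.left] [Surjective f.left]
    (L L' : A.left.Modules) (hL : CohB1.IsAmple L) (hLL' : Nonempty (CohB1.tensorMod L L' ≅ Coh.structureModule A.left))
    (F : A.left.Modules) (hF : Coh.IsCoh F) (a : ℤ) (b : ℕ) (hb : 0 < b) :
    (∀ i : ℕ, 1 ≤ i → ∃ Z : Set ↥At.left, IsClosed Z ∧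
        topologicalKrullDim ↥Z < ((g - i + 1 : ℕ) : WithBot ℕ∞) ∧
        ∀ α : 𝟙_ (Over (Spec (CommRingCat.of k))) ⟶ At, 0 < W4c5cohrankabvar.hAt k P (W4c5cohrankabvar.twist A F L L' b (a * b)) α i → Set.range α.left.base ⊆ Z) ↔
    (∀ i : ℕ, 1 ≤ i → ∃ Z : Set ↥Bt.left, IsClosed Z ∧
        topologicalKrullDim ↥Z < ((g - i + 1 : ℕ) : WithBot ℕ∞) ∧
        ∀ α : 𝟙_ (Over (Spec (CommRingCat.of k))) ⟶ Bt, 0 < W4c5cohrankabvar.hAt k Q (W4c5cohrankabvar.twist B ((Scheme.Modules.pullback f.left).obj F) ((Scheme.Modules.pullback f.left).obj L) ((Scheme.Modules.pullback f.left).obj L') b (a * b)) α i → Set.range α.left.base ⊆ Z) := by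
  have hL' := FMHyp13.isInvertible_of_ample_inverse hL.1 hLL'
  have hG := FMHyp13.isCoh_twist hF hL.1 hL' b (a * b)
  obtain ⟨e⟩ := FMHyp13.nonempty_pull_twist f F L L' b (a * b)
  rw [FMHyp13.gv_pullback_iff hφ hP hPξ hψ hQ hQξ f hG g]
  refine forall₂_congr fun i _ => exists_congr fun Z => and_congr_right fun _ => and_congr_right fun _ =>
    forall_congr' fun β => imp_congr_left ?_
  rw [Nat.pos_iff_ne_zero, Nat.pos_iff_ne_zero]
  exact not_congr (FMHyp13.hAt_eq_zero_congr hQ e (M1.isCoh_pullback _ hG) β i)

end Groth.Agent.S18218
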