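import Groth.Statements.S18219
import Groth.Agent.Lib.FMHyp13.Syzygy

set_option autoImplicit false
set_option backward.isDefEq.respectTransparency false
set_option backward.isDefEq.respectTransparency.types false
universe u
open CategoryTheory CategoryTheory.Limits MonoidalCategory CartesianMonoidalCategory MonObj GrpObj AlgebraicGeometry
open AbVar

namespace Groth.Agent.S18219

/-- Let k be an algebraically closed field (any characteristic), A an abelian variety over k (a proper
smooth k-group scheme with geometrically connected fibres) of dimension g, (A^t, φ) a given dual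
abelian variety of A for the fppf topology with A^t itself an abelian variety, and P an invertible
module on A ×_k A^t whose class is a Poincaré class; for a k-point α of A^t write P_α for the
restriction of P to A × {α}. Let L be an ample invertible O_A-module with an inverse L' (L ⊗ L' ≅
O_A), negative powers of L meaning powers of L', and l its class; for b ≥ 1 let b_A : A → A be
multiplication by b. For a coherent O_A-module F and a rational x = a/b (a an integer, b ≥ 1) the
Q-twisted sheaf F⟨x l⟩ stands for the module b_A^*F ⊗ L^{ab}; it is said to satisfy IT(0) when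
h^i(A, b_A^*F ⊗ L^{ab} ⊗ P_α) = 0 for every i ≥ 1 and every k-point α of A^t, and to be GV when for
every i ≥ 1 the k-points α with h^i(A, b_A^*F ⊗ L^{ab} ⊗ P_α) > 0 lie in a closed subset of A^t of
dimension less than g − i + 1 (the i-th cohomological support locus has codimension at least i).
Assume L globally generated, its evaluation map H^0(A, L) ⊗ O_A → L being given as an epimorphism ev
from a free module inducing a bijection on global sections, and let M_L = ker ev be the kernel
(syzygy) bundle. Let p ≥ 0 and assume that M_L⟨(1/(p+1)) l⟩ satisfies IT(0): h^i(A, (p+1)_A^*M_L ⊗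
L^{p+1} ⊗ P_α) = 0 for every i ≥ 1 and every α. Then for every h ≥ 1 the module M_L^{⊗(p+1)} ⊗
L^{⊗h} satisfies IT(0): h^i(A, M_L^{⊗(p+1)} ⊗ L^{⊗h} ⊗ P_α) = 0 for every i ≥ 1 and every α. (The
published statement assumes instead that the basepoint-freeness threshold ε_1(l) of the
polarization, the infimum of the rationals x at which the generic h^1 of I_e⟨x l⟩ vanishes for the
ideal I_e of a closed point, is less than 1/(p+2); that hypothesis enters the published proof only
through the condition assumed here, obtained from it by the relation κ_1(l) = ε_1(l)/(1 − ε_1(l))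
between the thresholds of I_e and of M_L, which the proof takes from the literature.) -/
theorem result (k : Type u) [Field k] [IsAlgClosed k]
    (A At : Over (Spec (CommRingCat.of k))) [GrpObj A] [IsProper A.hom] [Smooth A.hom] [GeometricallyConnected A.hom]
    [GrpObj At] [IsProper At.hom] [Smooth At.hom] [GeometricallyConnected At.hom]
    (φ : ∀ T : Over (Spec (CommRingCat.of k)), PicF.Cl (PicF.XT A.hom T) → (T ⟶ At))
    (hφ : AbDual.IsDualAV Scheme.fppfPrecoverage A At φ)
    (P : (pullback A.hom At.hom).Modules) (hP : PicF.IsInvertible P)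
    (hPξ : AbDual.IsPoincareCl A At φ (PicF.cl P))
    (L L' : A.left.Modules) (hL : CohB1.IsAmple L) (hLL' : Nonempty (CohB1.tensorMod L L' ≅ Coh.structureModule A.left))
    (J : Type u) (ev : (SheafOfModules.free J : A.left.Modules) ⟶ L) [Epi ev]
    (hev : Function.Bijective (Sheaf.H.map ((SheafOfModules.toSheaf A.left.ringCatSheaf).map ev) 0))
    (p : ℕ)
    (hM : (∀ (i : ℕ) (α : 𝟙_ (Over (Spec (CommRingCat.of k))) ⟶ At), 1 ≤ i → W4c5cohrankabvar.hAt k P (W4c5cohrankabvar.twist A (kernel ev) L L' (p + 1) (((p + 1 : ℕ) : ℤ))) α i = 0))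
    (h : ℕ) (hh : 1 ≤ h) :
    (∀ (i : ℕ) (α : 𝟙_ (Over (Spec (CommRingCat.of k))) ⟶ At), 1 ≤ i → W4c5cohrankabvar.hAt k P (CohB1.tensorMod (CohB1.tensorPow (kernel ev) (p + 1)) (CohB1.tensorPow L h)) α i = 0) := by
  haveI : GeometricallyIntegral A.hom := AbRigid.geometricallyIntegral_of_smooth A
  haveI : AlgebraicGeometry.IsIntegral A.left := GeometricallyIntegral.isIntegral_of_subsingleton A.hom
  obtain ⟨g, hg⟩ : ∃ g : ℕ, topologicalKrullDim A.left = g := ⟨_, VarDim.dim_eq_sdim_genericPoint A.hom⟩
  obtain ⟨j, rfl⟩ := Nat.exists_eq_add_of_le' hh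
  exact FMHyp13.it0_tensorPow_tensor_pow hφ hP hPξ hg hL hLL' (p + 1) p.succ_pos
    (FMHyp13.isFinLocFree_syzygy k hL.1 ev hev.1) hM j

end Groth.Agent.S18219
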