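import Groth.Statements.S18220
import Groth.Agent.Lib.FMHyp13.Syzygy

set_option autoImplicit false
set_option backward.isDefEq.respectTransparency false
set_option backward.isDefEq.respectTransparency.types false
universe u
open CategoryTheory CategoryTheory.Limits MonoidalCategory CartesianMonoidalCategory MonObj GrpObj AlgebraicGeometry
open AbVar

namespace Groth.Agent.S18220

/-- Let k be an algebraically closed field (any characteristic), A an abelian variety over k (a proper
smooth k-group scheme with geometrically connected fibres) of dimension g, (A^t, φ) a given dual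
abelian variety of A for the fppf topology with A^t itself an abelian variety, and P an invertible
module on A ×_k A^t whose class is a Poincaré class; for a k-point α of A^t write P_α for the
restriction of P to A × {α}. Let L be an ample invertible O_A-module with an inverse L' (L ⊗ L' ≅
O_A), negative powers of L meaning powers of L', and l its class; for b ≥ 1 let b_A : A → A be
multiplication by b. For a coherent O_A-module F and a rational x = a/b (a an integer, b ≥ 1) the
Q-twisted sheaf F⟨x l⟩ stands for the module b_A^*F ⊗ L^{ab}; it is said to satisfy IT(0) when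
h^i(A, b_A^*F ⊗ L^{ab} ⊗ P_α) = 0 for every i ≥ 1 and every k-point α of A^t, and to be GV when for
every i ≥ 1 the k-points α with h^i(A, b_A^*F ⊗ L^{ab} ⊗ P_α) > 0 lie in a closed subset of A^t of
dimension less than g − i + 1 (the i-th cohomological support locus has codimension at least i). Let
d ≥ 1 with L^{⊗d} globally generated, its evaluation map given as an epimorphism ev from a free
module onto L^{⊗d} inducing a bijection on global sections, and M_d = ker ev the kernel bundle of
L^{⊗d}. Let F be a coherent O_A-module such that F ⊗ L' is GV (for every i ≥ 1 the k-points α with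
h^i(A, F ⊗ L' ⊗ P_α) > 0 lie in a closed subset of A^t of dimension less than g − i + 1), and t ≥ 1
such that M_d⟨(1/t) l⟩ satisfies IT(0): h^i(A, t_A^*M_d ⊗ L^t ⊗ P_α) = 0 for every i ≥ 1 and every
α, t_A being multiplication by t. Then M_d^{⊗t} ⊗ F satisfies IT(0): h^i(A, M_d^{⊗t} ⊗ F ⊗ P_α) = 0
for every i ≥ 1 and every α. (In the text the hypothesis is that the basepoint-freeness threshold
ε_1(l) is less than 1/t and the conclusion is drawn for all large d; the threshold enters the proof
only through the IT(0) condition on M_d assumed here, which holds for large d by the relation κ_1 =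
ε_1/(1 − ε_1) between the thresholds of the ideal of a point and of the kernel bundle, quoted from
the literature; this row is the statement for a fixed d with that condition.) -/
theorem result (k : Type u) [Field k] [IsAlgClosed k]
    (A At : Over (Spec (CommRingCat.of k))) [GrpObj A] [IsProper A.hom] [Smooth A.hom] [GeometricallyConnected A.hom]
    [GrpObj At] [IsProper At.hom] [Smooth At.hom] [GeometricallyConnected At.hom]
    (φ : ∀ T : Over (Spec (CommRingCat.of k)), PicF.Cl (PicF.XT A.hom T) → (T ⟶ At))
    (hφ : AbDual.IsDualAV Scheme.fppfPrecoverage A At φ)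
    (P : (pullback A.hom At.hom).Modules) (hP : PicF.IsInvertible P)
    (hPξ : AbDual.IsPoincareCl A At φ (PicF.cl P))
    (g : ℕ) (hg : topologicalKrullDim ↥A.left = g)
    (L L' : A.left.Modules) (hL : CohB1.IsAmple L) (hLL' : Nonempty (CohB1.tensorMod L L' ≅ Coh.structureModule A.left))
    (d : ℕ) (hd : 1 ≤ d)
    (J : Type u) (ev : (SheafOfModules.free J : A.left.Modules) ⟶ CohB1.tensorPow L d) [Epi ev]
    (hev : Function.Bijective (Sheaf.H.map ((SheafOfModules.toSheaf A.left.ringCatSheaf).map ev) 0))
    (F : A.left.Modules) (hF : Coh.IsCoh F)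
    (hFgv : (∀ i : ℕ, 1 ≤ i → ∃ Z : Set ↥At.left, IsClosed Z ∧
        topologicalKrullDim ↥Z < ((g - i + 1 : ℕ) : WithBot ℕ∞) ∧
        ∀ α : 𝟙_ (Over (Spec (CommRingCat.of k))) ⟶ At, 0 < W4c5cohrankabvar.hAt k P (CohB1.tensorMod F L') α i → Set.range α.left.base ⊆ Z))
    (t : ℕ) (ht : 1 ≤ t)
    (hM : (∀ (i : ℕ) (α : 𝟙_ (Over (Spec (CommRingCat.of k))) ⟶ At), 1 ≤ i → W4c5cohrankabvar.hAt k P (W4c5cohrankabvar.twist A (kernel ev) L L' t ((t : ℕ) : ℤ)) α i = 0)) :
    (∀ (i : ℕ) (α : 𝟙_ (Over (Spec (CommRingCat.of k))) ⟶ At), 1 ≤ i → W4c5cohrankabvar.hAt k P (CohB1.tensorMod (CohB1.tensorPow (kernel ev) t) F) α i = 0) := by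
  haveI : GeometricallyIntegral A.hom := AbRigid.geometricallyIntegral_of_smooth A
  haveI : AlgebraicGeometry.IsIntegral A.left := GeometricallyIntegral.isIntegral_of_subsingleton A.hom
  haveI : IsLocallyNoetherian A.left := LocallyOfFiniteType.isLocallyNoetherian A.hom
  have hL' := FMHyp13.isInvertible_of_ample_inverse hL.1 hLL'
  have hK := FMHyp13.isFinLocFree_syzygy k (M2.isInvertible_tensorPow hL.1 d) ev hev.1
  have hH := FMHyp13.it0_tensorPow_tensor hφ hP hPξ hg hL hLL' t ht hK hM
  have hFL := CohFound.isCoh_tensor hF (CubeField.isCoh_of_isInvertible hL')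
  have hHf := M2.isFinLocFree_tensor (FMHyp13.isFinLocFree_tensorPow hK t) (M2.isFinLocFree_of_isInvertible hL.1)
  intro i α hi
  obtain ⟨e0⟩ := hLL'
  have h := FMHyp13.it0_tensor_of_gv hφ hP hPξ hg hFL hHf ((FMHyp13.gv_iff hP hFL g).1 hFgv) hH i α hi
  refine (FMHyp13.hAt_eq_zero_congr hP ?_ (CohFound.isCoh_tensor hFL (CohFound.isCoh_of_isFinLocFree hHf)) α i).1 h
  exact M2.tensorComm _ _ ≪≫ M2.tensorAssoc _ _ _ ≪≫
    M2.tensorIso (Iso.refl _) ((M2.tensorAssoc _ _ _).symm ≪≫ M2.tensorIso (M2.tensorComm _ _) (Iso.refl _) ≪≫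
      M2.tensorAssoc _ _ _ ≪≫ M2.tensorIso (Iso.refl _) e0 ≪≫ M2.tensorRUnit _)

end Groth.Agent.S18220
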