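import Groth.Statements.S18226
import Groth.Agent.Lib.FMHyp13.OpenIT0
import Groth.Agent.S18224

set_option backward.isDefEq.respectTransparency false
set_option backward.isDefEq.respectTransparency.types false

set_option autoImplicit false
universe u
open CategoryTheory CategoryTheory.Limits MonoidalCategory CartesianMonoidalCategory MonObj GrpObj AlgebraicGeometry
open AbVar
open Groth.Agent Groth.Agent.FMHyp13

namespace Groth.Agent.S18226

/-- Let k be an algebraically closed field (any characteristic), A an abelian variety over k (a proper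
smooth k-group scheme with geometrically connected fibres) of dimension g, (A^t, φ) a given dual
abelian variety of A for the fppf topology with A^t itself an abelian variety, and P an invertible
module on A ×_k A^t whose class is a Poincaré class; for a k-point α of A^t write P_α for the
restriction of P to A × {α}. Let L be an ample invertible O_A-module with an inverse L' (L ⊗ L' ≅
O_A), negative powers of L meaning powers of L', and l its class; for b ≥ 1 let b_A : A → A be
multiplication by b. For a coherent O_A-module F and a rational x = a/b (a an integer, b ≥ 1) the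
Q-twisted sheaf F⟨x l⟩ stands for the module b_A^*F ⊗ L^{ab}; it is said to satisfy IT(0) when
h^i(A, b_A^*F ⊗ L^{ab} ⊗ P_α) = 0 for every i ≥ 1 and every k-point α of A^t, and to be GV when for
every i ≥ 1 the k-points α with h^i(A, b_A^*F ⊗ L^{ab} ⊗ P_α) > 0 lie in a closed subset of A^t of
dimension less than g − i + 1 (the i-th cohomological support locus has codimension at least i). Let
F be a coherent O_A-module and x = a/b a rational. Then F⟨x l⟩ satisfies IT(0) if and only if F⟨(x −
y) l⟩ satisfies IT(0) for all sufficiently small positive rationals y: there is ε > 0 such that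
h^i(A, d_A^*F ⊗ L^{cd} ⊗ P_α) = 0 for every rational c/d with x − ε < c/d < x (d ≥ 1), every i ≥ 1
and every k-point α. (No assumption on the characteristic of k.) -/
theorem result (k : Type u) [Field k] [IsAlgClosed k]
    (A At : Over (Spec (CommRingCat.of k))) [GrpObj A] [IsProper A.hom] [Smooth A.hom] [GeometricallyConnected A.hom]
    [GrpObj At] [IsProper At.hom] [Smooth At.hom] [GeometricallyConnected At.hom]
    (φ : ∀ T : Over (Spec (CommRingCat.of k)), PicF.Cl (PicF.XT A.hom T) → (T ⟶ At))
    (hφ : AbDual.IsDualAV Scheme.fppfPrecoverage A At φ)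
    (P : (pullback A.hom At.hom).Modules) (hP : PicF.IsInvertible P)
    (hPξ : AbDual.IsPoincareCl A At φ (PicF.cl P))
    (L L' : A.left.Modules) (hL : CohB1.IsAmple L) (hLL' : Nonempty (CohB1.tensorMod L L' ≅ Coh.structureModule A.left))
    (F : A.left.Modules) (hF : Coh.IsCoh F) (a : ℤ) (b : ℕ) (hb : 0 < b) :
    (∀ (i : ℕ) (α : 𝟙_ (Over (Spec (CommRingCat.of k))) ⟶ At), 1 ≤ i → W4c5cohrankabvar.hAt k P (W4c5cohrankabvar.twist A F L L' b (a * b)) α i = 0) ↔
    ∃ ε : ℚ, 0 < ε ∧ ∀ (c : ℤ) (d : ℕ), 0 < d → (a : ℚ) / (b : ℚ) - ε < (c : ℚ) / (d : ℚ) → (c : ℚ) / (d : ℚ) < (a : ℚ) / (b : ℚ) →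
      (∀ (i : ℕ) (α : 𝟙_ (Over (Spec (CommRingCat.of k))) ⟶ At), 1 ≤ i → W4c5cohrankabvar.hAt k P (W4c5cohrankabvar.twist A F L L' d (c * d)) α i = 0) := by
  haveI : GeometricallyIntegral A.hom := AbRigid.geometricallyIntegral_of_smooth A
  haveI : AlgebraicGeometry.IsIntegral A.left := GeometricallyIntegral.isIntegral_of_subsingleton A.hom
  obtain ⟨g, hg⟩ : ∃ g : ℕ, topologicalKrullDim ↥A.left = g := ⟨_, VarDim.dim_eq_sdim_genericPoint A.hom⟩
  constructor
  · intro h0
    obtain ⟨c₀, d₀, hd₀, hlt₀, h₀⟩ := exists_it0_left hφ hP hPξ hg hL hLL' hF a b hb h0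
    refine ⟨(a : ℚ) / b - (c₀ : ℚ) / d₀, sub_pos.2 hlt₀, fun c d hd h1 h2 => ?_⟩
    exact S18224.result k A At φ hφ P hP hPξ g hg L L' hL hLL' F hF c₀ d₀ hd₀ (gv_of_it0 hP h₀ g) c d hd (by linarith)
  · rintro ⟨ε, hε, h⟩
    obtain ⟨q, hq1, hq2⟩ := exists_between (sub_lt_self ((a : ℚ) / b) hε)
    have hqc : ((q.num : ℚ) / (q.den : ℚ)) = q := Rat.num_div_den q
    exact S18224.result k A At φ hφ P hP hPξ g hg L L' hL hLL' F hF q.num q.den q.den_pos
      (gv_of_it0 hP (h q.num q.den q.den_pos (by rw [hqc]; exact hq1) (by rw [hqc]; exact hq2)) g) a b hb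
      (by rw [hqc]; exact hq2)

end Groth.Agent.S18226
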