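import Groth.Statements.S18228
import Groth.Agent.Lib.FMHyp13.HgenMul

set_option autoImplicit false
set_option backward.isDefEq.respectTransparency false
set_option backward.isDefEq.respectTransparency.types false
universe u
open CategoryTheory CategoryTheory.Limits MonoidalCategory CartesianMonoidalCategory MonObj GrpObj AlgebraicGeometry
open AbVar

namespace Groth.Agent.S18228

/-- Let k be an algebraically closed field of arbitrary characteristic, A an abelian variety over k (a
proper smooth k-group scheme with geometrically connected fibres) of dimension g, (A^t, φ) a given
dual abelian variety of A for the fppf topology with A^t itself an abelian variety, and P an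
invertible module on A ×_k A^t whose class is a Poincaré class, P_α its restriction to A × {α}. For
a coherent O_A-module G write h^i_gen(A, G) for the generic value of h^i(A, G ⊗ P_α) over the
k-points α of A^t, rendered as the minimum over all α (the generic value by semicontinuity). Then
for every coherent O_A-module F, every i ≥ 0 and every m ≥ 1 one has h^i_gen(A, m_A^*F) = m^{2g} ·
h^i_gen(A, F), m_A : A → A being multiplication by m (of degree m^{2g}). This multiplicativity, with
no assumption on the characteristic, is what makes the cohomological rank functions x = a/b ↦
b^{−2g} h^i_gen(b_A^*F ⊗ L^{ab}) well defined. The published formula is for objects of the bounded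
derived category (generic hypercohomology dimensions); this row states it for a coherent module. -/
theorem result (k : Type u) [Field k] [IsAlgClosed k]
    (A At : Over (Spec (CommRingCat.of k))) [GrpObj A] [IsProper A.hom] [Smooth A.hom] [GeometricallyConnected A.hom]
    [GrpObj At] [IsProper At.hom] [Smooth At.hom] [GeometricallyConnected At.hom]
    (φ : ∀ T : Over (Spec (CommRingCat.of k)), PicF.Cl (PicF.XT A.hom T) → (T ⟶ At))
    (hφ : AbDual.IsDualAV Scheme.fppfPrecoverage A At φ)
    (P : (pullback A.hom At.hom).Modules) (hP : PicF.IsInvertible P)
    (hPξ : AbDual.IsPoincareCl A At φ (PicF.cl P))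
    (g : ℕ) (hg : topologicalKrullDim ↥A.left = g)
    (F : A.left.Modules) (hF : Coh.IsCoh F) (i m : ℕ) (hm : 1 ≤ m) :
    W4c5cohrankabvar.hgen k P ((Scheme.Modules.pullback ((𝟙 A) ^ m).left).obj F) i =
      m ^ (2 * g) * W4c5cohrankabvar.hgen k P F i := by
  exact FMHyp13.hgen_pullback_pow hφ hP hPξ hg hF i m hm

end Groth.Agent.S18228
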