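import Groth.Statements.S18230
import Groth.Agent.Lib.FMHyp13.GVLimit
import Groth.Agent.Lib.NumPoly18.NefApps

set_option backward.isDefEq.respectTransparency false
set_option backward.isDefEq.respectTransparency.types false
set_option maxHeartbeats 1600000
set_option linter.style.haveILetI false
set_option autoImplicit false
universe u
open CategoryTheory CategoryTheory.Limits MonoidalCategory CartesianMonoidalCategory MonObj GrpObj AlgebraicGeometry
open AbVar

namespace Groth.Agent.S18230

noncomputable local instance instLawS18230 (Y : Scheme.{u}) : PicGrp.Law Y := M2.law Y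

/-- Let k be an algebraically closed field (any characteristic), A an abelian variety over k (a proper
smooth k-group scheme with geometrically connected fibres) of dimension g, (A^t, φ) a given dual
abelian variety of A for the fppf topology with A^t itself an abelian variety, and P an invertible
module on A ×_k A^t whose class is a Poincaré class, P_α its restriction to A × {α} for a k-point α
of A^t. Let N be an invertible O_A-module which is nef: (N · C) = χ(O_C ⊗ N) − χ(O_C) ≥ 0 for every
integral closed subscheme C ⊆ A of dimension one. Then N is a GV sheaf: for every i ≥ 1 the k-points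
α of A^t with h^i(A, N ⊗ P_α) > 0 lie in a closed subset of A^t of dimension less than g − i + 1,
i.e. the i-th cohomological support locus of N has codimension at least i. -/
theorem result (k : Type u) [Field k] [IsAlgClosed k]
    (A At : Over (Spec (CommRingCat.of k))) [GrpObj A] [IsProper A.hom] [Smooth A.hom] [GeometricallyConnected A.hom]
    [GrpObj At] [IsProper At.hom] [Smooth At.hom] [GeometricallyConnected At.hom]
    (φ : ∀ T : Over (Spec (CommRingCat.of k)), PicF.Cl (PicF.XT A.hom T) → (T ⟶ At))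
    (hφ : AbDual.IsDualAV Scheme.fppfPrecoverage A At φ)
    (P : (pullback A.hom At.hom).Modules) (hP : PicF.IsInvertible P)
    (hPξ : AbDual.IsPoincareCl A At φ (PicF.cl P))
    (g : ℕ) (hg : topologicalKrullDim ↥A.left = g)
    (N : A.left.Modules) (hN : PicF.IsInvertible N)
    (hnef : ∀ C : A.left.IdealSheafData, IsIntegral C.subscheme → topologicalKrullDim (C.support : Set ↥A.left) = 1 →
      0 ≤ @Curv2.euler k _ A.left ⟨A.hom⟩ (CohB1.tensorMod (ClSub.quotMod C) N) - @Curv2.euler k _ A.left ⟨A.hom⟩ (ClSub.quotMod C)) :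
    (∀ i : ℕ, 1 ≤ i → ∃ Z : Set ↥At.left, IsClosed Z ∧
        topologicalKrullDim ↥Z < ((g - i + 1 : ℕ) : WithBot ℕ∞) ∧
        ∀ α : 𝟙_ (Over (Spec (CommRingCat.of k))) ⟶ At, 0 < W4c5cohrankabvar.hAt k P (N) α i → Set.range α.left.base ⊆ Z) := by
  letI : A.left.Over (Spec (CommRingCat.of k)) := ⟨A.hom⟩
  haveI : IsProper (A.left ↘ Spec (CommRingCat.of k)) := inferInstanceAs (IsProper A.hom)
  haveI : GeometricallyIntegral A.hom := AbRigid.geometricallyIntegral_of_smooth A
  haveI := isCommMonObj_of_isProper_of_geometricallyIntegral A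
  haveI : IsLocallyNoetherian A.left := LocallyOfFiniteType.isLocallyNoetherian A.hom
  haveI : CompactSpace A.left := QuasiCompact.compactSpace_of_compactSpace A.hom
  have hNef : NumPoly18.Nef k N := fun ξ hξ => by
    rw [NumPoly18.cdeg_eq]
    have h := hnef (NumPoly18.ptIdeal ξ) (NumPoly18.isIntegral_pt ξ).1
      (by rw [Scheme.IdealSheafData.coe_support_vanishingIdeal]; exact hξ)
    exact_mod_cast h
  obtain ⟨L, hL⟩ := CubeField.exists_isAmple A
  obtain ⟨L', -, hLL'⟩ := M2.exists_inverse hL.1
  refine FMHyp13.gv_of_small_twists hφ hP hPξ hL hLL' hg (CubeField.isCoh_of_isInvertible hN) ⟨1, fun n hn => ?_⟩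
  let ν := ((𝟙 A) ^ n : A ⟶ A)
  have hNn := M2.isInvertible_tensorPow hN (n * n)
  have hνN : PicF.IsInvertible ((Scheme.Modules.pullback ν.left).obj N) := PicLoc.isInvertible_pullback _ hN
  have hLn := M2.isInvertible_tensorPow hL.1 n
  have hM : CohB1.IsAmple (CohB1.tensorMod (CohB1.tensorPow L n) (CohB1.tensorPow N (n * n))) :=
    NumPoly18.isAmple_tensor_of_nef (k := k) ((Amp.isAmple_tensorPow_iff hL.1 (show 0 < n by omega)).2 hL) hNn
      (NumPoly18.Nef.pow hN hNef _)
  obtain ⟨N0, hN0, hN0c⟩ := PicGrp.exists_eq_cls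
    (AlgEquiv22.pb ν (PicGrp.cls N hN) * (PicGrp.cls N hN ^ (n * n))⁻¹ : PicLoc.PicSet A.left)
  have hinv : AlgEquiv22.Inv (PicGrp.cls N0 hN0) := hN0c ▸ Index22.inv_pow_div (PicGrp.cls N hN) n
  obtain ⟨e⟩ : Nonempty (CohB1.tensorMod ((Scheme.Modules.pullback ν.left).obj N) (CohB1.tensorPow L n) ≅
      CohB1.tensorMod (CohB1.tensorMod (CohB1.tensorPow L n) (CohB1.tensorPow N (n * n))) N0) := by
    refine FMBase13.nonempty_iso_of_cls (hL := M2.isInvertible_tensor hνN hLn)
      (hM := M2.isInvertible_tensor hM.1 hN0) ?_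
    rw [← AlgEquiv22.cls_tensor hνN hLn, ← AlgEquiv22.cls_tensor hM.1 hN0, ← AlgEquiv22.cls_tensor hLn hNn,
      FGA3.cls_tensorPow hN, ← hN0c, ← RosTrace22.pb_cls ν hN, mul_comm (AlgEquiv22.pb ν (PicGrp.cls N hN)),
      _root_.mul_assoc, mul_comm (AlgEquiv22.pb ν (PicGrp.cls N hN)) (PicGrp.cls N hN ^ (n * n))⁻¹,
      mul_inv_cancel_left]
  intro i α hi
  refine (FMHyp13.hAt_eq_zero_congr hP e (CubeField.isCoh_of_isInvertible (M2.isInvertible_tensor hνN hLn)) α i).2 ?_
  refine (FMHyp13.it0_shift hφ hP hPξ hL (CubeField.isCoh_of_isInvertible hM.1) hN0 hinv).2 (fun j β hj => ?_) i α hi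
  rw [FMHyp13.hAt_eq_zero_iff hP (CubeField.isCoh_of_isInvertible hM.1)]
  exact MumVan22.subsingleton_of_isAmple (AlgEquiv22.isAmple_tensor_of_add hM
    (PicLoc.isInvertible_pullback _ hP) (FMHyp13.add_slice hφ hP hPξ β)) hj

end Groth.Agent.S18230
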