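import Groth.Statements.S18234
import Groth.Agent.S18232

set_option autoImplicit false
universe u
open CategoryTheory MonoidalCategory CartesianMonoidalCategory AlgebraicGeometry Opposite
open Magnet

namespace Groth.Agent.S18234
set_option linter.style.haveILetI false
set_option backward.isDefEq.respectTransparency false
set_option backward.isDefEq.respectTransparency.types false


/-- Let S be a scheme, M a finitely generated abelian group, N a submonoid of M, X and Y schemes over S
with actions of the diagonalizable group scheme D(M)_S, and f : X → Y a formally unramified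
equivariant S-morphism. If the attractors X^N and Y^N are represented by S-schemes Z_X and Z_Y, and
j : Z_X → Z_Y is the S-morphism that corresponds to f^N under the two representing bijections, then
j is formally unramified. (Stated for schemes; the published statement is for algebraic spaces over
S.) -/
theorem result (S : Scheme.{u}) (M : Type) [AddCommGroup M]
    [AddGroup.FG M] (N : AddSubmonoid M) {X Y : Over S} (aX : Magnet.MonAct (Magnet.AMonS S M) X)
    (aY : Magnet.MonAct (Magnet.AMonS S M) Y) (f : X ⟶ Y) (hf : Magnet.MonAct.IsEquivariant aX aY f)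
    [FormallyUnramified f.left] {ZX ZY : Over S} (eX : (Magnet.attr aX N).RepresentableBy ZX) (eY : (Magnet.attr aY N).RepresentableBy ZY)
    (j : ZX ⟶ ZY) (hj : ∀ (T : Over S) (z : T ⟶ ZX),
      eY.homEquiv (z ≫ j) = (Magnet.MonAct.eqvHom.postcomp (Magnet.subAct S M N) f hf).app (op T) (eX.homEquiv z)) :
    FormallyUnramified j.left := by
  refine FormallyUnramified.of_hom_ext _ fun R Q φ hφ hker g₁ g₂ h₁ h₂ => ?_
  let I := RingHom.ker φ.hom
  let str := g₁ ≫ ZX.hom
  have hstr : g₂ ≫ ZX.hom = str := by
    change _ = g₁ ≫ ZX.hom
    rw [← Over.w j, ← Category.assoc, ← h₂, Category.assoc]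
  let z₁ : Over.mk str ⟶ ZX := Over.homMk g₁ rfl
  let z₂ : Over.mk str ⟶ ZX := Over.homMk g₂ hstr
  let t : Over.mk (Spec.map (CommRingCat.ofHom (Ideal.Quotient.mk I)) ≫ str) ⟶ Over.mk str :=
    Over.homMk (Spec.map (CommRingCat.ofHom (Ideal.Quotient.mk I))) rfl
  have ht : t ≫ z₁ = t ≫ z₂ := by
    ext : 1
    change Spec.map _ ≫ g₁ = Spec.map _ ≫ g₂
    have e : φ = CommRingCat.ofHom (Ideal.Quotient.mk I) ≫
        CommRingCat.ofHom (RingHom.quotientKerEquivOfSurjective hφ).toRingHom := by
      ext x; rfl
    haveI : IsIso (CommRingCat.ofHom (RingHom.quotientKerEquivOfSurjective hφ).toRingHom) :=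
      (RingEquiv.toCommRingCatIso (RingHom.quotientKerEquivOfSurjective hφ)).isIso_hom
    rw [e, Spec.map_comp, Category.assoc, Category.assoc, cancel_epi] at h₁
    exact h₁
  have key := S18232.result S M N aX aY f hf R I hker str (eX.homEquiv z₁) (eX.homEquiv z₂)
    (by
      refine (eX.homEquiv_comp t z₁).symm.trans (Eq.trans ?_ (eX.homEquiv_comp t z₂))
      rw [ht])
    (by
      rw [← hj, ← hj]
      congr 1
      ext : 1
      exact h₂)
  exact congrArg CommaMorphism.left (eX.homEquiv.injective key)

end Groth.Agent.S18234
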