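import Groth.Statements.S18237
import Groth.Agent.Lib.MagFace16.Range
import Groth.Agent.Lib.MagFace16.Pure

set_option autoImplicit false
universe u
open CategoryTheory MonoidalCategory CartesianMonoidalCategory AlgebraicGeometry Opposite
open Magnet

namespace Groth.Agent.S18237
set_option linter.style.haveILetI false
set_option backward.isDefEq.respectTransparency.types false


/-- Let S be a quasi-compact scheme, M a finitely generated abelian group, X a scheme which is
quasi-compact, separated and locally of finite presentation over S with an action of the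
diagonalizable group scheme D(M)_S, and N a submonoid of M with subgroup of invertible elements Z =
N*. Assume X admits an S-affine N*-FPR atlas: an equivariant, étale and surjective g : U → X with U
affine over S such that, for the actions restricted along D(M/Z)_S → D(M)_S, the square of
fixed-point subfunctors U^{D(M/Z)} → X^{D(M/Z)} over U → X is cartesian. Then there is a finitely
generated submonoid N_c of N with the same invertible elements as N such that the canonical map of
attractors X^{N_c} → X^N is an isomorphism of functors. (Stated for schemes, the published statement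
being for algebraic spaces. The published statement assumes only M finitely generated and X → S
quasi-compact and separated; it fails without X locally of finite presentation over S or without S
quasi-compact, so this row assumes both, and it assumes an S-affine N*-FPR atlas, which the
published argument obtains from a general existence result.) -/
theorem result (S : Scheme.{u}) [CompactSpace S] (M : Type)
    [AddCommGroup M] [AddGroup.FG M] {X : Over S} [QuasiCompact X.hom] [IsSeparated X.hom]
    [LocallyOfFinitePresentation X.hom] (a : Magnet.MonAct (Magnet.AMonS S M) X) (N : AddSubmonoid M)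
    (Z : AddSubgroup M) (hZ : ∀ m : M, m ∈ Z ↔ (m ∈ N ∧ -m ∈ N)) (U : Over S) [IsAffineHom U.hom]
    (aU : Magnet.MonAct (Magnet.AMonS S M) U) (g : U ⟶ X) (hg : Magnet.MonAct.IsEquivariant aU a g)
    [Etale g.left] [Surjective g.left]
    (hgZ : Magnet.MonAct.IsEquivariant (aU.restrict (Magnet.AMonS.map S (QuotientAddGroup.mk' Z))) (a.restrict (Magnet.AMonS.map S (QuotientAddGroup.mk' Z))) g)
    (hfpr : IsPullback (Magnet.MonAct.fixedPsh.map g hgZ)
      (Magnet.MonAct.fixedPshι (aU.restrict (Magnet.AMonS.map S (QuotientAddGroup.mk' Z))))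
      (Magnet.MonAct.fixedPshι (a.restrict (Magnet.AMonS.map S (QuotientAddGroup.mk' Z)))) (yoneda.map g)) :
    ∃ (Nc : AddSubmonoid M) (h : Nc ≤ N), Nc.FG ∧ (∀ m : M, (m ∈ Nc ∧ -m ∈ Nc) ↔ (m ∈ N ∧ -m ∈ N)) ∧
      IsIso (Magnet.attrMap a h) := by
  classical
  haveI : LocallyOfFinitePresentation U.hom :=
    Over.w g ▸ inferInstanceAs (LocallyOfFinitePresentation (g.left ≫ X.hom))
  obtain ⟨E, hE⟩ := Groth.Agent.MagFace16.exists_supports S M aU
  have hZu : Z.toAddSubmonoid = Magnet.unitFace N := by
    ext m
    show m ∈ Z ↔ m ∈ N ∧ ∃ y ∈ N, m + y = 0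
    rw [hZ m]
    refine and_congr_right fun _ => ⟨fun h => ⟨-m, h, add_neg_cancel m⟩, ?_⟩
    rintro ⟨y, hy, hmy⟩
    rwa [neg_eq_of_add_eq_zero_right hmy]
  have hZfg : Z.toAddSubmonoid.FG := by
    haveI : Module.Finite ℤ M := Module.Finite.iff_addGroup_fg.mpr inferInstance
    rw [← AddSubgroup.fg_iff_addSubmonoid_fg]
    have h1 := (Submodule.fg_iff_addSubgroup_fg (AddSubgroup.toIntSubmodule Z)).1 (IsNoetherian.noetherian _)
    rwa [AddSubgroup.toIntSubmodule_toAddSubgroup] at h1
  let A : AddSubmonoid M := AddSubmonoid.closure ((E.filter (· ∈ N) : Finset M) : Set M)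
  have hle : A ⊔ Z.toAddSubmonoid ≤ N :=
    sup_le (AddSubmonoid.closure_le.2 fun m hm => (Finset.mem_filter.1 hm).2) fun m hm => ((hZ m).1 hm).1
  refine ⟨A ⊔ Z.toAddSubmonoid, hle, AddSubmonoid.FG.sup ⟨E.filter (· ∈ N), rfl⟩ hZfg, fun m => ?_, ?_⟩
  · refine ⟨fun h => ⟨hle h.1, hle h.2⟩, fun h => ?_⟩
    have hm : m ∈ Z := (hZ m).2 h
    exact ⟨(le_sup_right : Z.toAddSubmonoid ≤ A ⊔ _) hm, (le_sup_right : Z.toAddSubmonoid ≤ A ⊔ _) (Z.neg_mem hm)⟩
  · have hev := Groth.Agent.MagFace16.attrToX_attrMap a hle
    have hb : ∀ T : (Over S)ᵒᵖ, IsIso ((Magnet.attrMap a hle).app T) := fun T => by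
      rw [isIso_iff_bijective]
      refine ⟨fun φ ψ h => Groth.Agent.MagFace16.attrToX_injective a _ (unop T) ?_, fun ψ => ?_⟩
      · rw [← hev, ← hev]
        exact congrArg _ h
      · obtain ⟨φ, hφ⟩ := Groth.Agent.MagFace16.exists_of_inAttr a (A ⊔ Z.toAddSubmonoid)
          (Groth.Agent.MagFace16.inAttr_of_atlas₁ a U aU g hg N (A ⊔ Z.toAddSubmonoid) Z hZu hgZ hfpr
            (fun T x hx => hE N _ (fun m hm hmN => (le_sup_left : A ≤ A ⊔ _)
              (AddSubmonoid.subset_closure (Finset.mem_filter.2 ⟨hm, hmN⟩))) x hx) _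
            (Groth.Agent.MagFace16.eval_inAttr a N ψ))
        exact ⟨φ, Groth.Agent.MagFace16.attrToX_injective a N (unop T) ((hev _ φ).trans hφ)⟩
    exact NatIso.isIso_of_isIso_app _

end Groth.Agent.S18237
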