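import Groth.Statements.S18238
import Groth.Agent.Lib.DiagMonH28.Graded
import Groth.Agent.Lib.DiagMonH28.Transport

set_option autoImplicit false
universe u
open DiagMon

namespace Groth.Agent.S18238

/-- Let R be a commutative ring and N a fine and sharp commutative monoid (finitely generated,
cancellative, and 0 its only invertible element). If the diagonalizable monoid scheme A(N)_R = Spec
R[N] is smooth over Spec R, then it is a vector bundle over Spec R: the monoid algebra R[N] is
isomorphic as an R-algebra to the symmetric algebra of a finitely generated projective R-module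
(existence of such a module and isomorphism). (Affine base; the published statement is over an
arbitrary base scheme S.) -/
theorem result (R : Type u) [CommRing R] (N : Type)
    [AddCommMonoid N] [AddMonoid.FG N] [IsCancelAdd N] (hsharp : ∀ n : N, IsAddUnit n → n = 0)
    [Algebra.Smooth R (AddMonoidAlgebra R N)] :
    ∃ (P : Type u) (_ : AddCommGroup P) (_ : Module R P), Module.Finite R P ∧ Module.Projective R P ∧
      Nonempty (AddMonoidAlgebra R N ≃ₐ[R] SymmetricAlgebra R P) := by
  classical
  let 𝒜 : N → Submodule R (AddMonoidAlgebra R N) := AddMonoidAlgebra.grade R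
  obtain ⟨P, iP, iM, hf, hp, ⟨e⟩⟩ := DiagMonH28.exists_algEquiv 𝒜 hsharp
  letI := iP
  letI := iM
  letI : CommRing (𝒜 0) := SetLike.GradeZero.instCommRing 𝒜
  haveI : IsScalarTower R (𝒜 0) (AddMonoidAlgebra R N) := IsScalarTower.of_algebraMap_eq fun _ => rfl
  have hb : Function.Bijective (algebraMap R (𝒜 0)) := by
    constructor
    · intro a b h
      have h' := congrArg (fun z : 𝒜 0 => (z : AddMonoidAlgebra R N)) h
      simpa using h'
    · rintro ⟨x, hx⟩
      obtain ⟨r, rfl⟩ := (AddMonoidAlgebra.mem_grade_iff' R 0 x).mp hx
      exact ⟨r, Subtype.ext (by simp [AddMonoidAlgebra.lsingle])⟩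
  letI : Module R P := Module.compHom P (algebraMap R (𝒜 0))
  haveI : IsScalarTower R (𝒜 0) P := ⟨fun r c p => by
    rw [Algebra.smul_def, mul_smul]; rfl⟩
  exact ⟨P, iP, inferInstance, DiagMonH28.transport hb e⟩

end Groth.Agent.S18238
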