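import Groth.Prelude.Def_W4c5m1nsnscurvesU
import Mathlib.Data.Fin.VecNotation
import Groth.Agent.Lib.Gems6.URing

set_option autoImplicit false
universe u
open W4c5m1nsnscurves
namespace Curves
end Curves
open Curves

namespace Groth.Agent.S18247

/-- Case n = 5: the coordinate ring of U_5 over ℤ (m = 2 indices, standing for the points 4 and 5;
generators a, c, c̄, c_4, c̄_4, c_5, c̄_5, c_{45}, c_{54} with the linear and the two quadratic
relations for the one pair of indices, and no triple) is the polynomial ring on a, c_4, c̄_4, c_5,
c̄_5, c_{45}: the ℤ-algebra map from the polynomial ring in six variables sending the variables to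
these six classes, in this order, is bijective. -/
theorem result :
    Function.Bijective (MvPolynomial.aeval (R := ℤ) (S₁ := URing ℤ 2)
      ![ugen ℤ 2 .a, ugen ℤ 2 (.ci 0), ugen ℤ 2 (.cbi 0), ugen ℤ 2 (.ci 1), ugen ℤ 2 (.cbi 1),
        ugen ℤ 2 (.cij 0 1 Fin.zero_ne_one)]) := by
  exact Groth.Agent.Gems6.URing.five_bijective

end Groth.Agent.S18247
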