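import Groth.Statements.S18250
import Groth.Agent.Lib.KS29.NsPointGen
import Groth.Agent.Lib.RegLoc.Basic
-- import your own Groth.Agent.* helpers here

set_option autoImplicit false
universe u
open AlgebraicGeometry CategoryTheory CategoryTheory.Limits
open Curves

namespace Groth.Agent.S18250

/-- Let k be an algebraically closed field and C a reduced, connected scheme, proper over k and of
dimension one (a reduced connected projective curve), of arithmetic genus 1, i.e. dim_k H^1(C, O_C)
= 1. Let (ω, tr) be a 1-dualizing pair for C over k (ω a dualizing sheaf with its trace on H^1), let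
p be a closed point of C whose local ring is regular (a smooth point), and let L be an invertible
O_C-module inverse to the ideal sheaf of the reduced point p (L = O_C(p)). Then dim_k H^0(C, L) = 1
if and only if H^1(C, L) = 0; and H^1(C, L) = 0 if and only if every nonzero global section s of ω
generates ω near p, i.e. p lies in the open C_s (equivalently, since H^0(C, ω) and the fibre of ω at
p are one-dimensional, the restriction map from H^0(C, ω) to the fibre of ω at p is an isomorphism). -/
theorem result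
    (k : Type u) [Field k] [IsAlgClosed k] (C : Scheme.{u}) [C.Over (Spec (CommRingCat.of k))]
    [IsProper (C ↘ Spec (CommRingCat.of k))] [AlgebraicGeometry.IsReduced C] [ConnectedSpace C]
    (hdim : topologicalKrullDim C = 1) (hg : Curv2.genus k C = 1)
    (ω : C.Modules) (tr : Coh.HH C ω 1 →ₗ[k] k) (hω : Canon.IsRDualOver k C 1 ω tr)
    (p : C) (hp : IsClosed ({p} : Set C)) (hreg : IsRegularLocalRing (C.presheaf.stalk p))
    (L : C.Modules)
    (hL : ClSub.IsInverseOf L (ClSub.idealMod (Scheme.IdealSheafData.vanishingIdeal ⟨{p}, hp⟩))) :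
    (Module.finrank k (Coh.HH C L 0) = 1 ↔ Subsingleton (Coh.HH C L 1)) ∧
      (Subsingleton (Coh.HH C L 1) ↔
        ∀ s : Coh.structureModule C ⟶ ω, s ≠ 0 → p ∈ CohB1.genLocus ω s) := by
  classical
  haveI : JacobsonSpace C := LocallyOfFiniteType.jacobsonSpace (C ↘ Spec (CommRingCat.of k))
  have hX : Groth.Agent.CurveCoh17.CurveLike k C := Groth.Agent.CurveAmple18.curveLike k C hdim.le
  haveI := hX.noetherian
  have h0 := Groth.Agent.KS29.NsPoint.h0_one (k := k) (X := C)
  have hfib : ∀ y : ↥(Spec (CommRingCat.of k)),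
      topologicalKrullDim ↥((C ↘ Spec (CommRingCat.of k)).fiber y) ≤ ((1 : ℕ) : WithBot ℕ∞) := fun y =>
    (((C ↘ Spec (CommRingCat.of k)).fiberι y).isEmbedding.isInducing.topologicalKrullDim_le).trans
      (by exact_mod_cast hdim.le)
  have hcoh := Groth.Agent.KS29.NsPoint.isCoh_of_isRDualOver hdim.le hfib hω
  obtain ⟨Q, f, g, w, hS, hQ, hQ1, hQfin, hQqc⟩ := Groth.Agent.KS29.NsPoint.exists_ptSection hX hp hL
  obtain ⟨eL⟩ := hL
  have hLinv : PicF.IsInvertible L := Groth.Agent.M2.isInvertible_of_tensor_iso_unit _ _ eL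
  have hL1 := (Groth.Agent.M2.isInvertible_iff_isFinLocFreeOfRank_one L).1 hLinv
  obtain ⟨U, e, hpU, -, -, he⟩ := Groth.Agent.Amp.exists_isGenerator hLinv (x := p) (V := ⊤) trivial
  have hgL := Groth.Agent.Amp.gen_of_isGenerator he hpU
  obtain ⟨c, hc, hcm, hc0⟩ := Groth.Agent.KS29.NsPoint.exists_coord hS hQ hQ1 hgL
  haveI := hreg
  haveI := Groth.Agent.RegLoc.isDomain (C.presheaf.stalk p)
  haveI := Groth.Agent.CurveCoh17.pid_stalk_of_regular hdim.le p
  have hLcoh := Groth.Agent.CurveCoh17.isCoh_of_ofRank hL1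
  have hfinL := hX.fin L hLcoh
  refine ⟨?_, ⟨fun h s hs => Groth.Agent.KS29.NsPoint.mem_genLocus_of_subsingleton
    hω hcoh hS hQ hgL hc hcm hc0 hX h0 hg hp eL h s hs, fun h => ?_⟩⟩
  · have hadd := Groth.Agent.CurveCoh17.euler_add hS (hX.adm Groth.Agent.CurveCoh17.isCoh_structureModule)
      (hQ.adm hQfin)
    change Curv2.euler k C L = Curv2.euler k C (Coh.structureModule C) + Curv2.euler k C Q at hadd
    rw [(hX.adm hLcoh).euler_eq, hQ.euler_eq hQfin, hQ1, hX.euler_structureModule, h0, hg] at hadd
    haveI := hfinL 1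
    constructor
    · intro h
      refine (Module.finrank_zero_iff (R := k)).1 ?_
      omega
    · intro h
      rw [Module.finrank_zero_of_subsingleton (R := k) (M := Coh.HH C L 1)] at hadd
      omega
  · haveI := hfinL 1
    haveI : Subsingleton (Module.Dual k (Coh.HH C L 1)) := ⟨fun a b => by
      obtain ⟨x, rfl⟩ := (hω.2 L hLcoh.1).2 a
      obtain ⟨y, rfl⟩ := (hω.2 L hLcoh.1).2 b
      rw [Groth.Agent.KS29.NsPoint.subsingleton_of_genLocus hω hS hQ hQqc hgL hc hcm h x,
        Groth.Agent.KS29.NsPoint.subsingleton_of_genLocus hω hS hQ hQqc hgL hc hcm h y]⟩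
    refine (Module.finrank_zero_iff (R := k)).1 ?_
    rw [← Subspace.dual_finrank_eq]
    exact Module.finrank_zero_of_subsingleton

end Groth.Agent.S18250
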