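import Groth.Statements.S18251
import Mathlib.Algebra.MvPolynomial.CommRing
import Mathlib.Algebra.MvPolynomial.Eval
-- import your own Groth.Agent.* helpers here

set_option autoImplicit false
universe u
open W4c5m1nsnscurves
open Curves

namespace Groth.Agent.S18251

/-- Case n = 3: let R be a commutative ring and a, b, c, d elements of R (a point of U_3, which is
affine 4-space, so no condition is imposed). Then in the R-algebra R[x_2, x_3]/(x_2 x_3² − x_2² x_3
− a x_2 x_3 − b x_2 − c x_3 − d) the classes of the monomials 1, x_2^k x_3, x_2^k and x_3^k (k ≥ 1)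
are linearly independent over R and span, i.e. form an R-basis. -/
theorem result (R : Type u) [CommRing R] (a b c d : R) :
    LinearIndependent R (cmon3 R a b c d) ∧
      Submodule.span R (Set.range (cmon3 R a b c d)) = ⊤ := by
  classical
  let mo : ℕ → ℕ → (Fin 2 →₀ ℕ) := fun i j => Finsupp.single 0 i + Finsupp.single 1 j
  have mo0 : ∀ i j, mo i j 0 = i := fun i j => by simp [mo]
  have mo1 : ∀ i j, mo i j 1 = j := fun i j => by simp [mo]
  have mo_eq : ∀ n : Fin 2 →₀ ℕ, n = mo (n 0) (n 1) := fun n => by
    ext v; fin_cases v <;> simp [mo]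
  let f : MvPolynomial (Fin 2) R := MvPolynomial.monomial (mo 1 2) 1 - MvPolynomial.monomial (mo 2 1) 1 -
    (MvPolynomial.monomial (mo 1 1) a + MvPolynomial.monomial (mo 1 0) b + MvPolynomial.monomial (mo 0 1) c +
      MvPolynomial.monomial (mo 0 0) d)
  let I : Ideal (MvPolynomial (Fin 2) R) := Ideal.span {MvPolynomial.X 0 * MvPolynomial.X 1 ^ 2 -
    MvPolynomial.X 0 ^ 2 * MvPolynomial.X 1 - (MvPolynomial.C a * MvPolynomial.X 0 * MvPolynomial.X 1 +
      MvPolynomial.C b * MvPolynomial.X 0 + MvPolynomial.C c * MvPolynomial.X 1 + MvPolynomial.C d)}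
  have hmo : ∀ i j (r : R), MvPolynomial.monomial (mo i j) r =
      MvPolynomial.C r * MvPolynomial.X 0 ^ i * MvPolynomial.X 1 ^ j := fun i j r => by
    rw [MvPolynomial.X_pow_eq_monomial, MvPolynomial.X_pow_eq_monomial, MvPolynomial.C_mul_monomial,
      MvPolynomial.monomial_mul, mul_one, mul_one]
  have hI : I = Ideal.span {f} := by
    simp only [I, f, hmo]
    congr 2
    simp only [map_one, pow_one, pow_zero, one_mul, mul_one]
  let e : Option (ℕ ⊕ (Fin 2 × ℕ)) → (Fin 2 →₀ ℕ) := fun
    | none => mo 0 0
    | some (Sum.inl n) => mo (n + 1) 1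
    | some (Sum.inr (y, n)) => if y = 0 then mo (n + 1) 0 else mo 0 (n + 1)
  have hcmon : ∀ i, cmon3 R a b c d i = Ideal.Quotient.mk I (MvPolynomial.monomial (e i) 1) := by
    rintro (_ | n | ⟨y, n⟩)
    · simp [cmon3, e, hmo] <;> rfl
    · simp [cmon3, e, hmo] <;> rfl
    · fin_cases y <;> · simp [cmon3, e, hmo] <;> rfl
  have hinj : Function.Injective e := by
    intro i j h
    have h0 := congrArg (fun v : Fin 2 →₀ ℕ => v 0) h
    have h1 := congrArg (fun v : Fin 2 →₀ ℕ => v 1) h
    rcases i with _ | n | ⟨y, n⟩ <;> rcases j with _ | n' | ⟨y', n'⟩ <;>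
      (try fin_cases y) <;> (try fin_cases y') <;> simp [e, mo0, mo1] at h0 h1 ⊢ <;> omega
  refine ⟨linearIndependent_iff.2 fun l hl => ?_, ?_⟩
  · let p : MvPolynomial (Fin 2) R := l.sum fun i r => MvPolynomial.monomial (e i) r
    have hp : p ∈ I := by
      rw [← Ideal.Quotient.eq_zero_iff_mem]
      refine Eq.trans ?_ hl
      rw [Finsupp.linearCombination_apply, map_finsuppSum]
      refine Finsupp.sum_congr fun i _ => ?_
      rw [hcmon]
      show _ = Ideal.Quotient.mk I (l i • MvPolynomial.monomial (e i) (1 : R))
      rw [MvPolynomial.smul_monomial, smul_eq_mul, mul_one]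
    rw [hI, Ideal.mem_span_singleton] at hp
    obtain ⟨g, hg⟩ := hp
    have hcp : ∀ m, MvPolynomial.coeff m p = l.sum fun i r => if e i = m then r else 0 := fun m => by
      simp only [p, Finsupp.sum, MvPolynomial.coeff_sum, MvPolynomial.coeff_monomial]
    by_contra hne
    have hg0 : g ≠ 0 := fun h => by
      obtain ⟨i, hi⟩ := Finsupp.ne_iff.1 hne
      refine hi ?_
      have := hcp (e i)
      rw [hg, h, mul_zero, MvPolynomial.coeff_zero, Finsupp.sum, Finset.sum_eq_single i
        (fun j _ hji => if_neg fun he => hji (hinj he))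
        (fun hnot => by rw [if_pos rfl]; simpa using hnot), if_pos rfl] at this
      simpa using this.symm
    obtain ⟨n, hn, hmax⟩ := g.support.exists_max_image (fun m => m 1) (MvPolynomial.support_nonempty.2 hg0)
    rw [MvPolynomial.mem_support_iff] at hn
    have hzero : ∀ m : Fin 2 →₀ ℕ, n 1 < m 1 → MvPolynomial.coeff m g = 0 := fun m hm => by
      by_contra h
      exact absurd (hmax m (MvPolynomial.mem_support_iff.2 h)) (not_le.2 hm)
    have h2 := congrArg (MvPolynomial.coeff (n + mo 1 2)) hg
    rw [hcp, show f * g = g * f from mul_comm _ _] at h2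
    simp only [f, mul_sub, mul_add, MvPolynomial.coeff_sub, MvPolynomial.coeff_add,
      MvPolynomial.coeff_mul_monomial] at h2
    have hlow : ∀ i j : ℕ, j < 2 → ∀ r : R,
        MvPolynomial.coeff (n + mo 1 2) (g * MvPolynomial.monomial (mo i j) r) = 0 := fun i j hj r => by
      rw [MvPolynomial.coeff_mul_monomial']
      split_ifs with hle
      · rw [hzero _ (by rw [Finsupp.tsub_apply, Finsupp.add_apply, mo1, mo1]; omega), zero_mul]
      · rfl
    rw [hlow 2 1 (by norm_num), hlow 1 1 (by norm_num), hlow 1 0 (by norm_num), hlow 0 1 (by norm_num),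
      hlow 0 0 (by norm_num), Finsupp.sum, Finset.sum_eq_zero fun i _ => if_neg ?_] at h2
    · exact hn (by simpa using h2.symm)
    · intro he
      have h0 := congrArg (fun v : Fin 2 →₀ ℕ => v 0) he
      have h1 := congrArg (fun v : Fin 2 →₀ ℕ => v 1) he
      rcases i with _ | m | ⟨y, m⟩ <;> (try fin_cases y) <;> simp [e, mo0, mo1] at h0 h1 <;> omega
  · have key : ∀ j i, Ideal.Quotient.mk I (MvPolynomial.monomial (mo i j) (1 : R)) ∈
        Submodule.span R (Set.range (cmon3 R a b c d)) := by
      intro j
      induction j using Nat.strong_induction_on with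
      | _ j ih =>
        intro i
        have base : ∀ o, e o = mo i j → Ideal.Quotient.mk I (MvPolynomial.monomial (mo i j) (1 : R)) ∈
            Submodule.span R (Set.range (cmon3 R a b c d)) := fun o ho =>
          Submodule.subset_span ⟨o, by rw [hcmon, ho]⟩
        rcases i with _ | i
        · rcases j with _ | j
          · exact base none rfl
          · exact base (some (Sum.inr (1, j))) (by simp [e])
        rcases j with _ | _ | j
        · exact base (some (Sum.inr (0, i))) (by simp [e])
        · exact base (some (Sum.inl i)) rfl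
        have hrel : Ideal.Quotient.mk I (MvPolynomial.monomial (mo (i + 1) (j + 2)) (1 : R)) =
            Ideal.Quotient.mk I (MvPolynomial.monomial (mo (i + 2) (j + 1)) 1 +
              (a • MvPolynomial.monomial (mo (i + 1) (j + 1)) 1 + b • MvPolynomial.monomial (mo (i + 1) j) 1 +
                c • MvPolynomial.monomial (mo i (j + 1)) 1 + d • MvPolynomial.monomial (mo i j) 1)) := by
          rw [Ideal.Quotient.eq, hI, Ideal.mem_span_singleton]
          refine ⟨MvPolynomial.monomial (mo i j) 1, ?_⟩
          simp only [f, hmo, MvPolynomial.smul_eq_C_mul, map_one]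
          ring
        rw [hrel, map_add, map_add, map_add, map_add]
        have smem : ∀ (r : R) i' j', j' < j + 2 → Ideal.Quotient.mk I (r • MvPolynomial.monomial (mo i' j') (1 : R)) ∈
            Submodule.span R (Set.range (cmon3 R a b c d)) := fun r i' j' h =>
          Submodule.smul_mem _ r (ih j' h i')
        exact add_mem (ih (j + 1) (by omega) (i + 2)) (add_mem (add_mem (add_mem
          (smem a _ _ (by omega)) (smem b _ _ (by omega))) (smem c _ _ (by omega))) (smem d _ _ (by omega)))
    rw [eq_top_iff]
    rintro z -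
    obtain ⟨p, rfl⟩ := Ideal.Quotient.mk_surjective (I := I) z
    induction p using MvPolynomial.induction_on' with
    | monomial u r =>
      rw [mo_eq u, show MvPolynomial.monomial (mo (u 0) (u 1)) r = r • MvPolynomial.monomial (mo (u 0) (u 1)) (1 : R) by
        rw [MvPolynomial.smul_monomial, smul_eq_mul, mul_one]]
      exact Submodule.smul_mem _ r (key _ _)
    | add p q hp hq => rw [map_add]; exact add_mem hp hq


end Groth.Agent.S18251
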