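import Groth.Statements.S18254
import Groth.Agent.Lib.BlowKoszul2.Conormal

set_option autoImplicit false
set_option linter.style.haveILetI false
set_option backward.isDefEq.respectTransparency false
set_option backward.isDefEq.respectTransparency.types false
set_option synthInstance.maxHeartbeats 400000
universe u
open Omega

namespace Groth.Agent.S18254

open Omega Groth.Agent
open AlgebraicGeometry CategoryTheory CategoryTheory.Limits Opposite TopologicalSpace
open Groth.Agent.M1 Groth.Agent.PBundle2 Groth.Agent.BlowKoszul2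
open Groth.Agent.P1Split (IsBas)

theorem koszul_data {Y : Scheme.{u}} (E : Y.Modules) (hE : FlatMod.IsFinLocFree E) (u : E ⟶ Coh.structureModule Y)
    (J : Y.IdealSheafData)
    (hJ : ∀ U : Y.affineOpens, J.ideal U = @Ideal.span Γ(Y, U.1) _
      (Set.range fun s : E.val.obj (op U.1) => ((u.val.app (op U.1)).hom s : Γ(Y, U.1))))
    (hu : ∀ y : Y, y ∈ J.support → ∃ U : Y.affineOpens, y ∈ U.1 ∧
      ∃ (n : ℕ) (b : Module.Basis (Fin n) Γ(Y, U.1) (E.val.obj (op U.1))),
        RegImm.Kind.Seq RegImm.Kind.regular Γ(Y, U.1)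
          (List.ofFn fun k => ((u.val.app (op U.1)).hom (b k) : Γ(Y, U.1)))) (y : Y) :
    ∃ U : Y.affineOpens, y ∈ U.1 ∧
      ∃ (n : ℕ) (b : Module.Basis (Fin n) Γ(Y, U.1) (E.val.obj (op U.1))),
        LCI.IsKoszulRegularSeq Γ(Y, U.1) (List.ofFn fun k => ((u.val.app (op U.1)).hom (b k) : Γ(Y, U.1))) := by
  by_cases hy : y ∈ J.support
  · obtain ⟨U, hyU, n, b, hb⟩ := hu y hy
    exact ⟨U, hyU, n, b, (CI2.isKoszulRegularSeq_iff_ex _).2
      (CI2.ex_of_isWeaklyRegular _ _ (show RingTheory.Sequence.IsRegular Γ(Y, U.1) _ from hb).toIsWeaklyRegular)⟩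
  · obtain ⟨n, D, e, hyD, he⟩ := PushUnit3.exists_isBas_nhd' hE y
    obtain ⟨V, hV, hyV, hVle⟩ := exists_isAffineOpen_mem_and_subset (X := Y) (x := y) (U := D ⊓ J.support.compl)
      ⟨hyD, hy⟩
    obtain ⟨b⟩ := nonempty_basis (fun z hz => (hVle hz).1) he
    refine ⟨⟨V, hV⟩, hyV, n, b, (CI2.isKoszulRegularSeq_iff_ex _).2 (ex_of_top ?_)⟩
    rw [CI2.ofList_ofFn]
    exact (span_fb' u hV b J (hJ ⟨V, hV⟩)).symm.trans (ideal_eq_top J ⟨V, hV⟩ fun z hz => (hVle hz).2)
where
  span_fb' {Y : Scheme.{u}} {E : Y.Modules} (u : E ⟶ Coh.structureModule Y) {U : Y.Opens} (hU : IsAffineOpen U) {n : ℕ}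
      (b : Module.Basis (Fin n) Γ(Y, U) Γ(E, U)) (J : Y.IdealSheafData)
      (hJ : J.ideal ⟨U, hU⟩ = Ideal.span (Set.range (val u (U := U)))) :
      J.ideal ⟨U, hU⟩ = Ideal.span (Set.range fun l => val u (b l)) := by
    refine hJ.trans (le_antisymm (Ideal.span_le.2 ?_) (Ideal.span_mono (by rintro _ ⟨l, rfl⟩; exact ⟨b l, rfl⟩)))
    rintro _ ⟨s, rfl⟩
    show (u.app U s : Γ(Y, U)) ∈ _
    rw [← b.sum_repr s, map_sum]
    refine Ideal.sum_mem _ fun l _ => ?_
    rw [Scheme.Modules.Hom.app_smul]
    exact Ideal.mul_mem_left _ _ (Ideal.subset_span ⟨l, rfl⟩)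

theorem mres_isBas {X : Scheme.{u}} {M : X.Modules} {U V : X.Opens} {n : ℕ} {e : Fin n → Γ(M, U)} (he : IsBas M U e)
    (h : V ≤ U) : IsBas M V fun i => mres M h (e i) := fun V' hV' => by
  simpa only [mres_mres] using he V' (hV'.trans h)

set_option maxHeartbeats 2000000 in

open AlgebraicGeometry CategoryTheory CategoryTheory.Limits Opposite in
/-- Let Y be a locally Noetherian scheme, E a finite locally free O_Y-module and u : E → O_Y a
homomorphism with image ideal sheaf J such that around every point of the support of O_Y/J some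
affine open U carries a basis of E(U) whose images under u form a regular sequence; thus the closed
subscheme X = V(J) is cut out by a regular section of the dual bundle of E and is a complete
intersection in Y whose codimension is the rank of E. Let f : Y' → Y be a blowing up of Y in J with
exceptional ideal J' = J·O_{Y'} (an invertible ideal, the ideal of the exceptional divisor), let (π
: P → Y, O(1), q : π^*E → O(1)) be the projective bundle of E (universal for invertible quotients of
pull-backs of E), and let j : Y' → P be the Y-morphism attached to the invertible quotient f^*E → J'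
induced by f^*u: j ≫ π = f together with an isomorphism j^*O(1) ≅ J' under which j^*q followed by
the inclusion J' ⊆ O_{Y'} is f^*u followed by the canonical map f^*O_Y → O_{Y'}; j is a closed
immersion. Then the conormal sheaf of j is isomorphic to the kernel of the epimorphism j^*q :
j^*π^*E → j^*O(1); equivalently there is an exact sequence 0 → C_{Y'/P} → f^*E → J' → 0, and dually
the normal bundle of Y' in P is the quotient of f^*(E^∨) by the line sub-bundle dual to J'. Only the
existence of an isomorphism is asserted, as in the published statement. (The published statement is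
for separated, pure-dimensional schemes of finite type over a field that embed in a nonsingular
scheme; this row assumes only that Y is locally Noetherian.) -/
theorem result {Y Y' P : Scheme.{u}}
    [IsLocallyNoetherian Y]
    (E : Y.Modules) (hE : FlatMod.IsFinLocFree E) (u : E ⟶ Coh.structureModule Y)
    (J : Y.IdealSheafData)
    (hJ : ∀ U : Y.affineOpens, J.ideal U = @Ideal.span Γ(Y, U.1) _
      (Set.range fun s : E.val.obj (op U.1) => ((u.val.app (op U.1)).hom s : Γ(Y, U.1))))
    (hu : ∀ y : Y, y ∈ J.support → ∃ U : Y.affineOpens, y ∈ U.1 ∧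
      ∃ (n : ℕ) (b : Module.Basis (Fin n) Γ(Y, U.1) (E.val.obj (op U.1))),
        RegImm.Kind.Seq RegImm.Kind.regular Γ(Y, U.1)
          (List.ofFn fun k => ((u.val.app (op U.1)).hom (b k) : Γ(Y, U.1))))
    (π : P ⟶ Y) (O1 : P.Modules) (q : (Scheme.Modules.pullback π).obj E ⟶ O1)
    (hP : KRR.IsProjBundle π E O1 q)
    (f : Y' ⟶ Y) (hf : BlowUp.IsBlowUp f J)
    (j : Y' ⟶ P) (hjπ : j ≫ π = f)
    (e : (Scheme.Modules.pullback j).obj O1 ≅ ClSub.idealMod (BlowUp.exceptional f J))
    (hcomp : (Scheme.Modules.pullbackCongr hjπ).inv.app E ≫ (Scheme.Modules.pullbackComp j π).inv.app E ≫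
        (Scheme.Modules.pullback j).map q ≫ e.hom ≫ ClSub.idealModι (BlowUp.exceptional f J) =
      (Scheme.Modules.pullback f).map u ≫
        ((Scheme.Modules.pullbackPushforwardAdjunction f).homEquiv _ _).symm
          (SheafOfModules.unitToPushforwardObjUnit f.toRingCatSheafHom)) :
    Nonempty (Omega.conormal j ≅ kernel ((Scheme.Modules.pullback j).map q)) := by
  classical
  have hEq := M2.isQCoh_of_isFinLocFree hE
  have hk := koszul_data E hE u J hJ hu
  have hmain := fun p => main E hE u hk J hJ π O1 q hP f hf j hjπ e hcomp p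
  choose W₀ rs₀ hp₀ hcl₀ _ _ _ using hmain
  haveI : IsClosedImmersion j :=
    IsZariskiLocalAtTarget.of_iSup_eq_top (P := @IsClosedImmersion) (fun p : P => (W₀ p).1)
      (eq_top_iff.2 fun p _ => Opens.mem_iSup.2 ⟨p, hp₀ p⟩) hcl₀
  let φ : kernel q ⟶ Coh.structureModule P := kernel.ι q ≫ (Scheme.Modules.pullback π).map u ≫ unitHom π
  let qj := (Scheme.Modules.pullback j).map q
  -- the charts
  have hchart : ∀ p : P, ∃ (W : P.Opens) (m : ℕ) (k : Fin (m + 1)) (eW : Fin (m + 1) → Γ((Scheme.Modules.pullback π).obj E, W))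
      (t r : Fin m → Γ(P, W)) (w : Fin m → Γ(kernel q, W)), p ∈ W ∧ IsAffineOpen W ∧
      IsBas (kernel q) W w ∧ (∀ i, φ.app W (w i) = r i) ∧ CI2.Ex Γ(P, W) Γ(P, W) (List.ofFn r) ∧
      RingHom.ker (j.app W).hom = Ideal.span (Set.range r) ∧
      ∃ w' : Fin m → Γ(kernel qj, j ⁻¹ᵁ W), IsBas (kernel qj) (j ⁻¹ᵁ W) w' ∧
        ∀ i, (kernel.ι qj).app _ (w' i) = M2.pullSec j _ ((kernel.ι q).app W (w i)) := by
    intro p
    obtain ⟨⟨U, hU⟩, hpU, n, b, hb⟩ := hk (π p)
    let b' : Module.Basis (Fin n) Γ(Y, U) Γ(E, U) := b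
    obtain ⟨k, hpk⟩ := exists_mem_gl hP hEq hU b' (y := p) hpU
    obtain ⟨m, rfl⟩ : ∃ m, n = m + 1 := ⟨n - 1, by have := k.pos; omega⟩
    have hex : CI2.Ex Γ(Y, U) Γ(Y, U) (List.ofFn (fb u b')) := (CI2.isKoszulRegularSeq_iff_ex _).1 hb
    obtain ⟨hWa, hρ⟩ := chart hP hEq hU b' k
    obtain ⟨-, -, hker⟩ := chart_preimage u q hjπ (e.hom ≫ ClSub.idealModι _) hU b' k J hcomp hP hEq hf
      (hJ ⟨U, hU⟩) hex
    let W := VA11.gl (sg q (b' k))
    have hle : W ≤ π ⁻¹ᵁ U := VA11.gl_le _
    let eW : Fin (m + 1) → Γ((Scheme.Modules.pullback π).obj E, W) := fun l =>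
      mres _ hle (M2.pullSec π E (b' l))
    have heW : IsBas _ W eW := mres_isBas (AmpleFin18.isBas_pullback π (isBas_of_basis hEq hU b')) hle
    let t : Fin m → Γ(P, W) := fun i => VA11.cf (sg q (b' k)) (sg q (b' (k.succAbove i)))
    have hq : ∀ l, q.app W (eW l) = mres O1 hle (sg q (b' l)) := fun l => app_mres q hle _
    obtain ⟨w, hw, hwb⟩ := exists_isBas_kernel q heW (by rw [hq]; exact VA11.isGen_gl _) t (fun i => by
      rw [hq, hq]; exact (VA11.cf_smul _ _).symm)
    have hv : ∀ l, ((Scheme.Modules.pullback π).map u ≫ unitHom π).app W (eW l) =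
        (show Γ(Coh.structureModule P, W) from π.appLE U W hle (val u (b' l))) := fun l => by
      refine (app_mres _ hle _).trans ?_
      rw [comp_app_apply, VA11.map_pullSec, unitHom_pullSec]
      rfl
    let r : Fin m → Γ(P, W) := fun i => chartHom (q := q) b' k (rel (fb u b') k i)
    have hr : ∀ i, φ.app W (w i) = r i := fun i => by
      show ((kernel.ι q) ≫ (Scheme.Modules.pullback π).map u ≫ unitHom π).app W (w i) = _
      rw [comp_app_apply, hw, map_sub, Scheme.Modules.Hom.app_smul, hv, hv]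
      simp only [r, rel, map_sub, map_mul, chartHom, MvPolynomial.eval₂Hom_C, MvPolynomial.eval₂Hom_X']
      exact congrArg₂ (· - ·) (mul_comm (G := Γ(P, W)) _ _) rfl
    refine ⟨W, m, k, eW, t, r, w, hpk, hWa, hwb, hr, ?_, ?_, ?_⟩
    · have := CI2.ex_map_equiv (RingEquiv.ofBijective (chartHom (q := q) b' k) hρ) (ex_rel_and_ker (fb u b') k hex).1
      rwa [List.map_ofFn] at this
    · rw [hker, Ideal.map_span, ← Set.range_comp]
      rfl
    · have he' := AmpleFin18.isBas_pullback j heW
      have hj : ∀ l, qj.app (j ⁻¹ᵁ W) (M2.pullSec j _ (eW l)) = M2.pullSec j O1 (q.app W (eW l)) := fun l =>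
        VA11.map_pullSec j q (eW l)
      obtain ⟨w', hw', hwb'⟩ := exists_isBas_kernel qj (k := k) he' (by
        rw [hj, hq, ← VA11.mres_pullSec]
        exact VA11.isGen_of_le_gl (VA11.gl_pullSec j (invertible q hP) _).ge) (fun i => j.app W (t i)) (fun i => by
        rw [hj, hj, ← M2.pullSec_smul]
        refine congrArg _ ?_
        rw [hq, hq]
        exact (VA11.cf_smul _ _).symm)
      refine ⟨w', hwb', fun i => ?_⟩
      rw [hw', hw]
      refine Eq.trans ?_ (map_sub (((Scheme.Modules.pullbackPushforwardAdjunction j).unit.app _).app W).hom _ _).symm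
      exact congrArg (· - _) (M2.pullSec_smul j _ (t i) (eW k)).symm
  -- the morphisms
  have hφ : φ ≫ ClSub.toSubscheme j.ker = 0 := hom_ext_bases _ _ fun p => by
    obtain ⟨W, m, k, eW, t, r, w, hpW, hWa, hwb, hr, -, hker, -⟩ := hchart p
    refine ⟨W, m, w, hpW, hwb, fun i => ?_⟩
    rw [comp_app_apply, hr]
    refine Eq.trans ?_ (by simp : (0 : Γ((Scheme.Modules.pushforward j.ker.subschemeι).obj (Coh.structureModule j.ker.subscheme), W)) = _)
    show j.ker.subschemeι.app W (r i) = 0
    rw [← RingHom.mem_ker, ← Scheme.Hom.ker_apply j.ker.subschemeι ⟨W, hWa⟩, Scheme.IdealSheafData.ker_subschemeι,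
      Scheme.Hom.ker_apply, hker]
    exact Ideal.subset_span ⟨i, rfl⟩
  let θ : kernel q ⟶ ClSub.idealMod j.ker := kernel.lift _ φ hφ
  let τ : (Scheme.Modules.pullback j).obj (kernel q) ⟶ Omega.conormal j := (Scheme.Modules.pullback j).map θ
  let κ : (Scheme.Modules.pullback j).obj (kernel q) ⟶ kernel qj :=
    kernel.lift qj ((Scheme.Modules.pullback j).map (kernel.ι q))
      (by rw [← Functor.map_comp, kernel.condition, Functor.map_zero])
  haveI : IsIso τ := isIso_of_local_bases τ fun y => by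
    obtain ⟨W, m, k, eW, t, r, w, hpW, hWa, hwb, hr, hex, hker, -⟩ := hchart (j y)
    refine ⟨j ⁻¹ᵁ W, m, _, hpW, AmpleFin18.isBas_pullback j hwb, ?_⟩
    have := isBas_conormal j hWa r hex hker (fun i => θ.app W (w i)) fun i => by
      refine Eq.trans ?_ (hr i)
      show (θ ≫ ClSub.idealModι j.ker).app W (w i) = _
      rw [show θ ≫ ClSub.idealModι j.ker = φ from kernel.lift_ι _ _ _]
    convert this using 1
    funext i
    exact VA11.map_pullSec j θ (w i)
  haveI : IsIso κ := isIso_of_local_bases κ fun y => by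
    obtain ⟨W, m, k, eW, t, r, w, hpW, hWa, hwb, hr, hex, hker, w', hwb', hw'⟩ := hchart (j y)
    refine ⟨j ⁻¹ᵁ W, m, _, hpW, AmpleFin18.isBas_pullback j hwb, ?_⟩
    convert hwb' using 1
    funext i
    refine M1.app_injective (kernel.ι qj) _ ?_
    rw [hw' i]
    show (κ ≫ kernel.ι qj).app _ (M2.pullSec j _ (w i)) = _
    rw [kernel.lift_ι]
    exact VA11.map_pullSec j (kernel.ι q) (w i)
  exact ⟨(asIso τ).symm ≪≫ asIso κ⟩

end Groth.Agent.S18254
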