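import Groth.Statements.S18256
import Groth.Agent.Lib.ArtFun.Basic
import Mathlib.RingTheory.LocalRing.Module

set_option autoImplicit false
universe u
open ArtFun

namespace Groth.Agent.S18256

open CategoryTheory TensorProduct IsLocalRing in
theorem lTensor_injective_all
    (R : Type u) [CommRing R] [IsArtinianRing R] [IsLocalRing R]
    (k : Type u) [Field k] [Algebra R k] (hk : Function.Surjective (algebraMap R k))
    (M : Type u) [AddCommGroup M] [Module R M]
    (h : ∀ (A' A : ArtFun.Art R k) (p : A' ⟶ A), ArtFun.Art.IsSmallExt p →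
      Function.Injective
        (LinearMap.lTensor M (((RingHom.ker p.toAlgHom).restrictScalars R).subtype)))
    (I : Ideal R) : I ≤ maximalIdeal R → Function.Injective (LinearMap.lTensor M (Submodule.subtype I)) := by
  let A₀ : ArtFun.Art R k := { carrier := R, res := Algebra.ofId R k, res_surjective := hk }
  induction I using IsWellFounded.induction (α := Ideal R) (r := (· < ·)) with
  | _ I ih =>
    intro hI
    rw [← LinearMap.ker_eq_bot, Submodule.eq_bot_iff]
    intro x hx
    rw [LinearMap.mem_ker] at hx
    by_cases hI0 : I = ⊥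
    · subst hI0
      exact Subsingleton.elim _ _
    obtain ⟨J, hJI, hmax⟩ := set_has_maximal_iff_noetherian.2 (inferInstance : IsNoetherian R R)
      {J : Ideal R | J < I} ⟨⊥, bot_lt_iff_ne_bot.2 hI0⟩
    change J < I at hJI
    have hJm : J ≤ maximalIdeal R := hJI.le.trans hI
    obtain ⟨a, haI, haJ⟩ := SetLike.exists_of_lt hJI
    have hspan : I = J ⊔ Ideal.span {a} := by
      have hle : J ⊔ Ideal.span {a} ≤ I := sup_le hJI.le ((Ideal.span_singleton_le_iff_mem _).2 haI)
      refine (hle.eq_or_lt.resolve_right fun hlt => hmax _ hlt (left_lt_sup.2 fun h => haJ ?_)).symm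
      exact h (Ideal.mem_span_singleton_self a)
    have hmI : maximalIdeal R • I ≤ J := by
      by_contra hcon
      have hle : J ⊔ maximalIdeal R • I ≤ I := sup_le hJI.le Submodule.smul_le_right
      have heq : J ⊔ maximalIdeal R • I = I := hle.eq_or_lt.resolve_right fun hlt =>
        hmax _ hlt (left_lt_sup.2 hcon)
      exact hJI.not_ge (Submodule.le_of_le_smul_of_le_jacobson_bot (IsNoetherian.noetherian I)
        (maximalIdeal_le_jacobson _) heq.ge)
    let p : ArtFun.Art.quot A₀ J hJm ⟶ ArtFun.Art.quot A₀ I hI :=
      ArtFun.Art.quotFactor hJm (ArtFun.Art.quotMk A₀ I hI)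
        (by rw [Groth.Agent.ArtFunLib.ker_quotMk]; exact hJI.le)
    have hker : RingHom.ker p.toAlgHom = I.map (Ideal.Quotient.mk J) := by
      rw [Groth.Agent.ArtFunLib.ker_quotFactor, Groth.Agent.ArtFunLib.ker_quotMk]
    have hp : ArtFun.Art.IsSmallExt p := by
      refine ⟨Groth.Agent.ArtFunLib.quotFactor_surjective _ _ _ (ArtFun.Art.quotMk_surjective A₀ I hI), ?_, ?_, ?_⟩
      · rw [hker]
        intro h0
        exact haJ (Ideal.Quotient.eq_zero_iff_mem.1 (Ideal.mem_bot.1 (h0.le (Ideal.mem_map_of_mem _ haI))))
      · rw [hker]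
        refine ⟨⟨Ideal.Quotient.mk J a, ?_⟩⟩
        conv_lhs => rw [hspan]
        rw [Ideal.map_sup, Ideal.map_quotient_self, bot_sup_eq, Ideal.map_span, Set.image_singleton]
        rfl
      · rw [hker, eq_bot_iff, Ideal.mul_le]
        intro r hr s hs
        obtain ⟨r', rfl⟩ := Ideal.Quotient.mk_surjective r
        obtain ⟨s', hs', rfl⟩ := (Ideal.mem_map_iff_of_surjective _ Ideal.Quotient.mk_surjective).1 hs
        have hr' : r' ∈ maximalIdeal R := fun hu => hr (hu.map (Ideal.Quotient.mk J))
        exact Ideal.mem_bot.2 ((map_mul (Ideal.Quotient.mk J) r' s').symm.trans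
          (Ideal.Quotient.eq_zero_iff_mem.2 (hmI (Submodule.smul_mem_smul hr' hs'))))
    let K : Submodule R (R ⧸ J) := (I.map (Ideal.Quotient.mk J)).restrictScalars R
    have hinj : Function.Injective (LinearMap.lTensor M K.subtype) := by
      have h' := h _ _ p hp
      rw [hker] at h'
      exact h'
    let g : I →ₗ[R] K := LinearMap.codRestrict K
      ((Ideal.Quotient.mkₐ R J).toLinearMap.comp I.subtype) fun y => Ideal.mem_map_of_mem _ y.2
    have hexact : Function.Exact (Submodule.inclusion hJI.le) g := by
      intro y
      refine ⟨fun hy => ⟨⟨y.1, Ideal.Quotient.eq_zero_iff_mem.1 (congrArg Subtype.val hy)⟩, rfl⟩, ?_⟩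
      rintro ⟨z, rfl⟩
      exact Subtype.ext (Ideal.Quotient.eq_zero_iff_mem.2 z.2)
    have hgsurj : Function.Surjective g := by
      rintro ⟨y, hy⟩
      obtain ⟨b, hb, rfl⟩ := (Ideal.mem_map_iff_of_surjective _ Ideal.Quotient.mk_surjective).1 hy
      exact ⟨⟨b, hb⟩, rfl⟩
    have hgx : LinearMap.lTensor M g x = 0 := by
      refine hinj ?_
      rw [map_zero, ← LinearMap.lTensor_comp_apply,
        show K.subtype.comp g = (Ideal.Quotient.mkₐ R J).toLinearMap.comp I.subtype from rfl,
        LinearMap.lTensor_comp_apply, hx, map_zero]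
    obtain ⟨y, rfl⟩ := (lTensor_exact M hexact hgsurj x).1 hgx
    rw [← LinearMap.lTensor_comp_apply, Submodule.subtype_comp_inclusion] at hx
    have hy0 : y = 0 := ih J hJI hJm (hx.trans (map_zero _).symm)
    rw [hy0, map_zero]



open CategoryTheory TensorProduct in
/-- Let R be an Artinian local ring with residue field k and M a finitely generated R-module. Suppose
that for every small extension p : A' → A of local Artinian R-algebras with residue field k (p
surjective, its kernel I a nonzero principal ideal killed by the maximal ideal of A'), the map M ⊗_R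
I → M ⊗_R A' induced by the inclusion I ⊆ A' is injective (equivalently, the sequence 0 → M ⊗_R I →
M ⊗_R A' → M ⊗_R A → 0 is exact). Then M is a free R-module. (The printed conclusion reads free over
the residue field; the proof establishes freeness over R, which is what is stated here.) -/
theorem result
    (R : Type u) [CommRing R] [IsArtinianRing R] [IsLocalRing R]
    (k : Type u) [Field k] [Algebra R k] (hk : Function.Surjective (algebraMap R k))
    (M : Type u) [AddCommGroup M] [Module R M] [Module.Finite R M]
    (h : ∀ (A' A : ArtFun.Art R k) (p : A' ⟶ A), ArtFun.Art.IsSmallExt p →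
      Function.Injective
        (LinearMap.lTensor M (((RingHom.ker p.toAlgHom).restrictScalars R).subtype))) :
    Module.Free R M := by
  have := lTensor_injective_all R k hk M h (IsLocalRing.maximalIdeal R) le_rfl
  have hfp := Module.finitePresentation_of_finite R M
  refine Module.free_of_maximalIdeal_rTensor_injective fun x y hxy => ?_
  refine (TensorProduct.comm R _ M).injective (this ?_)
  have key : ∀ z, LinearMap.lTensor M (IsLocalRing.maximalIdeal R).subtype (TensorProduct.comm R _ M z) =
      TensorProduct.comm R R M (LinearMap.rTensor M (IsLocalRing.maximalIdeal R).subtype z) := fun z =>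
    (LinearMap.congr_fun (TensorProduct.map_comp_comm_eq (LinearMap.id : M →ₗ[R] M) (IsLocalRing.maximalIdeal R).subtype) z)
  rw [key, key, hxy]

end Groth.Agent.S18256
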