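import Groth.Statements.S18257
import Groth.Agent.Lib.FGA3.UnitsInduct

set_option autoImplicit false
universe u
open UnitsSh

namespace Groth.Agent.S18257

open CategoryTheory CategoryTheory.Limits AlgebraicGeometry in
/-- In the case of the multiplicative group, for schemes and with Zariski cohomology of the sheaf of
units. Let A be a local ring with maximal ideal m, t a nonzero element of m with m·t = 0, and X' a
scheme flat over Spec A; let i : X ⟶ X' be the closed subscheme cut out by t (base change to A/(t))
and X₀ the closed fibre (base change to the residue field). If H^{q+1}(X₀, O_{X₀}) = 0, then the map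
H^q(X', O_{X'}^×) → H^q(X', i_* O_X^×) induced by the units map of i is surjective. (The published
statement covers any smooth commutative group scheme in place of the multiplicative group, with the
Lie algebra of its closed fibre in place of O_{X₀}, uses étale cohomology, and takes A Artinian;
this row allows any local ring A with t as stated.) -/
theorem result
    (A : Type u) [CommRing A] [IsLocalRing A]
    (t : A) (ht0 : t ≠ 0) (ht : t ∈ IsLocalRing.maximalIdeal A)
    (hmt : ∀ x ∈ IsLocalRing.maximalIdeal A, x * t = 0)
    (X' : Scheme.{u}) [X'.Over (Spec (CommRingCat.of A))] [Flat (X' ↘ Spec (CommRingCat.of A))]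
    (q : ℕ)
    (hvan : Subsingleton (Coh.HH
      (pullback (X' ↘ Spec (CommRingCat.of A)) (Spec.map (CommRingCat.ofHom (IsLocalRing.residue A))))
      (Coh.structureModule _) (q + 1))) :
    Function.Surjective (Sheaf.H.map (UnitsSh.comap
      (pullback.fst (X' ↘ Spec (CommRingCat.of A))
        (Spec.map (CommRingCat.ofHom (Ideal.Quotient.mk (Ideal.span ({t} : Set A))))))) q) := by
  haveI : Subsingleton (Coh.HH (pullback (X' ↘ Spec (CommRingCat.of A))
      (Groth.Agent.FGA3.spQ (IsLocalRing.maximalIdeal A))) (Coh.structureModule _) (q + 1)) := hvan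
  refine Groth.Agent.FGA3.surjective_H_map _ q (Groth.Agent.FGA3.surjective_step (X' ↘ Spec (CommRingCat.of A))
    (J := Ideal.span {t}) (J' := ⊥) (t := t) (m := IsLocalRing.maximalIdeal A) (bot_sup_eq _).symm ?_ ?_ ⟨2, ?_⟩ ?_)
  · exact Ideal.mem_bot.2 (hmt t ht)
  · refine ((IsLocalRing.maximalIdeal.isMaximal A).eq_of_le ?_ fun a ha =>
      Submodule.mem_colon_singleton.2 (Ideal.mem_bot.2 (hmt a ha))).symm
    intro h
    exact ht0 (by simpa using Submodule.mem_colon_singleton.1 (h.ge (Submodule.mem_top (x := (1 : A)))))
  · rw [Ideal.span_singleton_pow, pow_two, hmt t ht]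
    exact Ideal.span_singleton_eq_bot.2 rfl
  · haveI := Groth.Agent.FGA3.isIso_cJ_bot (X' ↘ Spec (CommRingCat.of A))
    exact (Groth.Agent.CohFound.mpEquiv (asIso (Groth.Agent.FGA3.cJ (X' ↘ Spec (CommRingCat.of A)) ⊥)) q ⊤).surjective

end Groth.Agent.S18257
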