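import Groth.Statements.S18258
import Groth.Agent.Lib.EtPic3.DualTarget

set_option autoImplicit false
universe u
open UnitsSh

namespace Groth.Agent.S18258

open CategoryTheory CategoryTheory.Limits AlgebraicGeometry in
/-- In the case of the multiplicative group, for schemes and with Zariski cohomology of the sheaf of
units. Let k be a field, X₀ a k-scheme, X' = X₀ ×_k Spec k[ε] (k[ε] the dual numbers) and i : X ⟶ X'
the closed subscheme ε = 0 (base change of X' along k[ε] → k, a copy of X₀). Then for every q the
kernel of the map H^q(X', O_{X'}^×) → H^q(X', i_* O_X^×) induced by the units map of i — the tangent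
space at the origin of the functor A ↦ H^q(X₀ ⊗_k A, O^×) on local Artinian k-algebras — is
isomorphic, as an additive group, to H^q(X, O_X). (Existence of an isomorphism only. The published
statement covers any smooth commutative group scheme in place of the multiplicative group, with the
Lie algebra of its closed fibre in place of the structure sheaf, and uses étale cohomology.) -/
theorem result
    (k : Type u) [Field k] (X₀ : Scheme.{u}) [X₀.Over (Spec (CommRingCat.of k))] (q : ℕ) :
    Nonempty ((Sheaf.H.map (UnitsSh.comap (pullback.fst (pullback.snd (X₀ ↘ Spec (CommRingCat.of k)) (Spec.map (CommRingCat.ofHom (algebraMap k (DualNumber k))))) (Spec.map (CommRingCat.ofHom (TrivSqZeroExt.fstHom k k k).toRingHom)))) q).ker ≃+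
      Coh.HH (pullback (pullback.snd (X₀ ↘ Spec (CommRingCat.of k)) (Spec.map (CommRingCat.ofHom (algebraMap k (DualNumber k))))) (Spec.map (CommRingCat.ofHom (TrivSqZeroExt.fstHom k k k).toRingHom))) (Coh.structureModule (pullback (pullback.snd (X₀ ↘ Spec (CommRingCat.of k)) (Spec.map (CommRingCat.ofHom (algebraMap k (DualNumber k))))) (Spec.map (CommRingCat.ofHom (TrivSqZeroExt.fstHom k k k).toRingHom)))) q) := by
  let c := X₀ ↘ Spec (CommRingCat.of k)
  let g := pullback.fst (pullback.snd c (Spec.map (CommRingCat.ofHom (algebraMap k (DualNumber k)))))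
    (Spec.map (CommRingCat.ofHom (TrivSqZeroExt.fstHom k k k).toRingHom))
  let i := Groth.Agent.EtPic3.Dual.i k c
  let r := Groth.Agent.EtPic3.Dual.r k c
  have hs : i ≫ pullback.snd c (Spec.map (CommRingCat.ofHom (algebraMap k (DualNumber k)))) =
      c ≫ Spec.map (CommRingCat.ofHom (TrivSqZeroExt.fstHom k k k).toRingHom) := pullback.lift_snd _ _ _
  have hid : Spec.map (CommRingCat.ofHom (TrivSqZeroExt.fstHom k k k).toRingHom) ≫
      Spec.map (CommRingCat.ofHom (algebraMap k (DualNumber k))) = 𝟙 (Spec (CommRingCat.of k)) := by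
    rw [← Spec.map_comp, ← Spec.map_id]; rfl
  have hg : g = (g ≫ r) ≫ i := by
    refine pullback.hom_ext ?_ ?_
    · rw [Category.assoc, Category.assoc, Groth.Agent.EtPic3.Dual.i_r]; exact congrArg (g ≫ ·) (Category.comp_id _).symm
    · have h1 : g ≫ pullback.snd c (Spec.map (CommRingCat.ofHom (algebraMap k (DualNumber k)))) =
          pullback.snd _ _ ≫ Spec.map (CommRingCat.ofHom (TrivSqZeroExt.fstHom k k k).toRingHom) := pullback.condition
      have h2 : (g ≫ pullback.fst c (Spec.map (CommRingCat.ofHom (algebraMap k (DualNumber k))))) ≫ c = pullback.snd _ _ := by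
        rw [Category.assoc, pullback.condition, ← Category.assoc, h1, Category.assoc, hid, Category.comp_id]
      rw [Category.assoc, hs, ← Category.assoc]
      show g ≫ pullback.snd _ _ = ((g ≫ pullback.fst _ _) ≫ c) ≫ _
      rw [h2, h1]
  let v := pullback.lift i c hs
  haveI : Mono (Spec.map (CommRingCat.ofHom (TrivSqZeroExt.fstHom k k k).toRingHom)) := mono_of_mono_fac hid
  have hv : g ≫ r ≫ v = 𝟙 _ := by
    refine (cancel_mono g).1 ?_
    show (g ≫ r ≫ v) ≫ g = _
    rw [Category.assoc, Category.assoc, pullback.lift_fst, ← Category.assoc, ← hg, Category.id_comp]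
  exact Groth.Agent.EtPic3.Dual.nonempty_ker_equiv k c q g
    ⟨g ≫ r, v, by rw [Category.assoc]; exact hv,
      by show v ≫ g ≫ r = _; rw [← Category.assoc, pullback.lift_fst, Groth.Agent.EtPic3.Dual.i_r]⟩ hg

end Groth.Agent.S18258
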