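import Groth.Statements.S18263
import Groth.Agent.Lib.FormSub28.Unstable

set_option autoImplicit false
universe u
open InvQ

namespace Groth.Agent.S18263

/-- Let k be an algebraically closed field in which m! is non-zero, n ≥ 1 and m ≤ n natural numbers, and
p_1, …, p_m non-zero vectors of k^(n+1), an ordered configuration of m points of projective n-space,
encoded by the product π = ∏_i (Σ_j p_i,j x_j) of its linear forms, on which the special linear
group SL(n+1) acts by substitution; let a be the point of the affine space of degree-m forms in n +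
1 variables whose form is π. Then a is not stable for SL(n+1): a configuration of at most n points
of projective n-space is never stable. (The case n = 0 is excluded: there the group is trivial and
the empty configuration is stable. The published statement allows any characteristic; this row
assumes m! non-zero in k, as the space of forms used here requires.) -/
theorem result (k : Type u) [Field k] [IsAlgClosed k] (n m : ℕ) (hn : 1 ≤ n) (hmn : m ≤ n)
    (hm : (Nat.factorial m : k) ≠ 0) (p : Fin m → Fin (n + 1) → k) (hp : ∀ i, p i ≠ 0)
    (a : CoordGrp.FormIdx (n + 1) m → k)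
    (ha : CoordGrp.formPoly a = ∏ i, ∑ j, MvPolynomial.C (p i j) * MvPolynomial.X j) :
    ¬ @GLin.IsStableVec k _ (CoordGrp.SLn (n + 1) k) _ _ (CoordGrp.FormIdx (n + 1) m)
      (GLin.comodAlong ((CoordGrp.SLn.mkHom (n + 1) k).comp (CoordGrp.Mat.toGLn (n + 1) k)) (CoordGrp.formsCoact k (n + 1) m))
      (GLin.isCoactAlg_comodAlong ((CoordGrp.SLn.mkHom (n + 1) k).comp (CoordGrp.Mat.toGLn (n + 1) k)) (CoordGrp.formsCoact k (n + 1) m) (CoordGrp.formsCoact_isCoactAlg k (n + 1) m)) a := by
  intro hst
  classical
  obtain ⟨W, hW, hW', hle⟩ : ∃ W : Submodule k (Fin (n + 1) → k), W ≠ ⊥ ∧ W ≠ ⊤ ∧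
      m * Module.finrank k W ≤ Nat.card {i : Fin m // p i ∈ W} * (n + 1) := by
    rcases Nat.eq_zero_or_pos m with rfl | hm0
    · refine ⟨k ∙ (Pi.single 0 1 : Fin (n + 1) → k), by simp, fun h => ?_, by simp⟩
      have h1 := finrank_span_singleton (K := k) (v := (Pi.single 0 1 : Fin (n + 1) → k)) (by simp)
      rw [h, finrank_top, Module.finrank_fin_fun] at h1
      omega
    · have hfr : Module.finrank k (Submodule.span k (Set.range p)) ≤ m := by
        exact (finrank_range_le_card p).trans (Fintype.card_fin m).le
      refine ⟨Submodule.span k (Set.range p), fun h => hp ⟨0, hm0⟩ ?_, fun h => ?_, ?_⟩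
      · exact (Submodule.eq_bot_iff _).1 h _ (Submodule.subset_span ⟨_, rfl⟩)
      · rw [h, finrank_top, Module.finrank_fin_fun] at hfr
        omega
      · have hc : Nat.card {i : Fin m // p i ∈ Submodule.span k (Set.range p)} = m := by
          rw [Nat.card_congr (Equiv.subtypeUnivEquiv (p := fun i : Fin m => p i ∈ Submodule.span k (Set.range p))
            fun i => Submodule.subset_span ⟨i, rfl⟩)]
          simp
        rw [hc]
        exact Nat.mul_le_mul_left m (hfr.trans (by omega))
  exact Groth.Agent.FormSub28.not_stable_of_le hm ha hst W hW hW' hle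

end Groth.Agent.S18263
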