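import Groth.Statements.S18266
import Groth.Agent.Lib.FlatKer12.Basic
import Mathlib.RingTheory.Flat.TorsionFree
-- import your own Groth.Agent.* helpers here

set_option autoImplicit false
set_option backward.isDefEq.respectTransparency.types false
universe u
open CategoryTheory AlgebraicGeometry
open FDesc

namespace Groth.Agent.S18266

/-- Let A be a discrete valuation ring, η the generic point of Spec A, and f : X → Spec A a morphism
from an arbitrary scheme X. The scheme-theoretic closure of the generic fibre X_η in X (the flat
completion) is flat over Spec A, and it is the largest closed subscheme of X flat over Spec A: for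
every closed immersion i : Z → X with Z flat over Spec A, the ideal sheaf of the flat completion is
contained in the ideal sheaf of i. -/
theorem result (A : Type u) [CommRing A] [IsDomain A]
    [IsDiscreteValuationRing A] {X : Scheme.{u}} (f : X ⟶ Spec (CommRingCat.of A))
    (η : ↥(Spec (CommRingCat.of A))) (hη : η.asIdeal = ⊥) :
    Flat ((f.fiberι η).imageι ≫ f) ∧
      ∀ (Z : Scheme.{u}) (i : Z ⟶ X), IsClosedImmersion i → Flat (i ≫ f) → (f.fiberι η).ker ≤ i.ker := by
  let s := (Spec (CommRingCat.of A)).fromSpecResidueField η
  obtain ⟨ψ, hψ⟩ := Spec.map_surjective s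
  have hinj : Function.Injective ψ.hom := by
    rw [RingHom.injective_iff_ker_eq_bot]
    have h1 : Spec.map ψ (IsLocalRing.closedPoint _) = η := by
      rw [hψ]; exact Scheme.fromSpecResidueField_apply η _
    have h2 : RingHom.ker ψ.hom ≤ η.asIdeal := fun a ha => by
      rw [← h1]
      change ψ.hom a ∈ IsLocalRing.maximalIdeal _
      rw [RingHom.mem_ker] at ha
      rw [ha]; exact zero_mem _
    exact le_bot_iff.1 (hη ▸ h2)
  haveI : QuasiCompact s := inferInstance
  haveI : QuasiCompact (f.fiberι η) := MorphismProperty.pullback_fst _ _ ‹QuasiCompact s›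
  constructor
  · refine (IsZariskiLocalAtSource.iff_of_iSup_eq_top (P := @Flat)
      (fun U : X.affineOpens => (f.fiberι η).imageι ⁻¹ᵁ U.1) ?_).2 fun U => ?_
    · rw [← Scheme.Hom.preimage_iSup, iSup_affineOpens_eq_top]
      rfl
    · let V := (f.fiberι η).imageι ⁻¹ᵁ U.1
      haveI : IsAffine V := U.2.preimage (f.fiberι η).imageι
      let q := V.ι ≫ (f.fiberι η).imageι ≫ f
      change Flat q
      rw [HasRingHomProperty.iff_of_isAffine (P := @Flat)]
      let r := (f.fiberι η).toImage ∣_ V
      have hr : Function.Injective r.appTop.hom := by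
        have key : ∀ V', V' = V → Function.Injective ((f.fiberι η).toImage.app V').hom := by
          rintro V' rfl; exact (f.fiberι η).toImage_app_injective U
        rw [Scheme.Hom.appTop, morphismRestrict_app]
        intro x y h
        exact key (V.ι ''ᵁ ⊤) (by simp) ((ConcreteCategory.bijective_of_isIso
          ((f.fiber η).presheaf.map (eqToHom _).op)).1 h)
      have hrq : r ≫ q = ((f.fiberι η).toImage ⁻¹ᵁ V).ι ≫ f.fiberToSpecResidueField η ≫ Spec.map ψ := by
        rw [hψ]
        calc r ≫ q = ((r ≫ V.ι) ≫ (f.fiberι η).imageι) ≫ f := by simp [q]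
          _ = _ := by
            rw [morphismRestrict_ι, Category.assoc _ (f.fiberι η).toImage,
              Scheme.Hom.toImage_imageι, Category.assoc]
            exact congrArg _ (f.fiber_fac η)
      let φ : A →+* Γ(V, ⊤) := ((Scheme.ΓSpecIso (CommRingCat.of A)).inv ≫ q.appTop).hom
      have hφ : ∀ a : A, a ≠ 0 → ∀ x, φ a * x = 0 → x = 0 := by
        intro a ha x hx
        apply hr
        rw [map_zero]
        have hu : IsUnit (r.appTop.hom (φ a)) := by
          have e : r.appTop.hom (φ a) = (r ≫ q).appTop ((Scheme.ΓSpecIso (CommRingCat.of A)).inv a) := rfl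
          rw [e, hrq, Scheme.Hom.comp_appTop, Scheme.Hom.comp_appTop]
          have e2 : (Spec.map ψ).appTop ((Scheme.ΓSpecIso (CommRingCat.of A)).inv a) =
              (Scheme.ΓSpecIso _).inv (ψ a) :=
            (ConcreteCategory.congr_hom (Scheme.ΓSpecIso_inv_naturality ψ) a).symm
          simp only [CommRingCat.comp_apply]
          rw [e2]
          refine (((IsUnit.mk0 (ψ.hom a) ?_).map _).map _).map _
          exact fun h0 => ha (hinj (h0.trans (map_zero _).symm))
        have h1 := congrArg r.appTop.hom hx
        rw [map_mul, map_zero] at h1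
        exact hu.mul_right_eq_zero.1 h1
      have hflat : φ.Flat := by
        algebraize [φ]
        change Module.Flat A Γ(V, ⊤)
        rw [IsDedekindDomain.flat_iff_torsion_eq_bot, eq_bot_iff]
        intro x hx
        obtain ⟨a, ha⟩ := (Submodule.mem_torsion_iff _).1 hx
        exact (Submodule.mem_bot A).2 (hφ a.1 (nonZeroDivisors.ne_zero a.2) x ha)
      have e : q.appTop = (Scheme.ΓSpecIso (CommRingCat.of A)).hom ≫ CommRingCat.ofHom φ := by
        change q.appTop = (Scheme.ΓSpecIso (CommRingCat.of A)).hom ≫
          (Scheme.ΓSpecIso (CommRingCat.of A)).inv ≫ q.appTop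
        rw [Iso.hom_inv_id_assoc]
      rw [e, CommRingCat.hom_comp]
      exact (RingHom.Flat.of_bijective (ConcreteCategory.bijective_of_isIso _)).comp hflat
  · intro Z i hi hflat
    haveI := hflat
    have hs : s.ker = ⊥ := by
      haveI : IsReduced (Spec (CommRingCat.of A)) := inferInstance
      rw [← hψ, ← Scheme.IdealSheafData.support_eq_top_iff, ← SetLike.coe_set_eq,
        Scheme.Hom.support_ker]
      refine (DenseRange.closure_range ?_ : closure (Set.range (Spec.map ψ)) = _)
      exact (PrimeSpectrum.denseRange_comap_iff_ker_le_nilRadical ψ.hom).2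
        (by rw [(RingHom.injective_iff_ker_eq_bot _).1 hinj]; exact bot_le)
    have hk := Groth.Agent.FlatKer12.ker_pullback_snd s (i ≫ f)
    rw [hs, Scheme.IdealSheafData.comap_bot] at hk
    let q : Limits.pullback s (i ≫ f) ⟶ f.fiber η :=
      Limits.pullback.lift (Limits.pullback.snd s (i ≫ f) ≫ i) (Limits.pullback.fst s (i ≫ f))
        (by rw [Category.assoc]; exact Limits.pullback.condition.symm)
    calc (f.fiberι η).ker ≤ (q ≫ f.fiberι η).ker := Scheme.Hom.le_ker_comp _ _
      _ = (Limits.pullback.snd s (i ≫ f) ≫ i).ker := by rw [show q ≫ f.fiberι η = _ from Limits.pullback.lift_fst _ _ _]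
      _ = i.ker := by rw [Scheme.Hom.ker_comp, hk, Scheme.IdealSheafData.map_bot]

end Groth.Agent.S18266
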