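import Groth.Statements.S18267
import Groth.Agent.S0220
import Groth.Agent.Lib.ProjSpace.Basic
import Groth.Agent.Lib.SmoothReg17.Basic
import Groth.Agent.Lib.Curve17.Basic
import Mathlib.AlgebraicGeometry.ZariskisMainTheorem
-- import your own Groth.Agent.* helpers here

set_option autoImplicit false
set_option backward.isDefEq.respectTransparency.types false
open CategoryTheory CategoryTheory.Limits AlgebraicGeometry
open ZCorr

namespace Groth.Agent.S18267

/-- Over the complex numbers, suppose C is a quasi-projective curve that is smooth and irreducible and X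
is a projective variety that is smooth and irreducible; take Z to be an integral closed subscheme of
C × X of dimension one whose projection to C is surjective (a non-vertical irreducible component of
a correspondence from C to X). Then the projection Z → C is finite and flat. -/
theorem result
    (C X : Scheme.{0}) [C.Over (Spec (CommRingCat.of ℂ))] [X.Over (Spec (CommRingCat.of ℂ))]
    [AlgebraicGeometry.IsIntegral C] [Smooth (C ↘ Spec (CommRingCat.of ℂ))] (hC : RelProj.IsHQuasiProjective (C ↘ Spec (CommRingCat.of ℂ)))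
    (hdimC : topologicalKrullDim C = 1)
    [AlgebraicGeometry.IsIntegral X] [Smooth (X ↘ Spec (CommRingCat.of ℂ))] (hX : RelProj.IsHProjective (X ↘ Spec (CommRingCat.of ℂ)))
    {Z : Scheme.{0}} (i : Z ⟶ pullback (C ↘ Spec (CommRingCat.of ℂ)) (X ↘ Spec (CommRingCat.of ℂ))) [IsClosedImmersion i]
    [AlgebraicGeometry.IsIntegral Z] (hdimZ : topologicalKrullDim Z = 1)
    (hsurj : Function.Surjective ⇑(i ≫ pullback.fst (C ↘ Spec (CommRingCat.of ℂ)) (X ↘ Spec (CommRingCat.of ℂ)))) :
    IsFinite (i ≫ pullback.fst (C ↘ Spec (CommRingCat.of ℂ)) (X ↘ Spec (CommRingCat.of ℂ))) ∧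
      Flat (i ≫ pullback.fst (C ↘ Spec (CommRingCat.of ℂ)) (X ↘ Spec (CommRingCat.of ℂ))) := by
  obtain ⟨n, j, hj, hjg⟩ := hX
  haveI : IsProper (X ↘ Spec (CommRingCat.of ℂ)) := by rw [← hjg]; infer_instance
  obtain ⟨m, a, ha, haqc, haq⟩ := hC
  haveI : IsSeparated (C ↘ Spec (CommRingCat.of ℂ)) := by rw [← haq]; infer_instance
  haveI : QuasiCompact (C ↘ Spec (CommRingCat.of ℂ)) := by rw [← haq]; infer_instance
  haveI : IsProper (pullback.fst (C ↘ Spec (CommRingCat.of ℂ)) (X ↘ Spec (CommRingCat.of ℂ))) := MorphismProperty.pullback_fst _ _ ‹IsProper (X ↘ Spec (CommRingCat.of ℂ))›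
  let f := i ≫ pullback.fst (C ↘ Spec (CommRingCat.of ℂ)) (X ↘ Spec (CommRingCat.of ℂ))
  change IsFinite f ∧ Flat f
  haveI : IsProper f := inferInstance
  haveI : IsLocallyNoetherian C := LocallyOfFiniteType.isLocallyNoetherian (C ↘ Spec (CommRingCat.of ℂ))
  haveI : IsLocallyNoetherian Z := LocallyOfFiniteType.isLocallyNoetherian (f ≫ (C ↘ Spec (CommRingCat.of ℂ)))
  haveI : CompactSpace Z := QuasiCompact.compactSpace_of_compactSpace (f ≫ (C ↘ Spec (CommRingCat.of ℂ)))
  haveI : JacobsonSpace C := LocallyOfFiniteType.jacobsonSpace (C ↘ Spec (CommRingCat.of ℂ))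
  haveI : IsNoetherian Z := ⟨⟩
  have hnc : (Set.range f).Nontrivial := by
    rw [show Set.range f = Set.univ from hsurj.range_eq]
    by_contra hn
    rw [Set.not_nontrivial_iff] at hn
    refine Groth.Agent.Curve17.not_isClosed_genericPoint hdimC ?_
    rw [Set.eq_univ_of_forall fun y => Set.mem_singleton_iff.2 (hn (Set.mem_univ y) (Set.mem_univ (genericPoint C)))]
    exact isClosed_univ
  have hη := Groth.Agent.Curve17.map_genericPoint hdimC.le f hnc
  refine ⟨?_, ?_⟩
  · haveI : LocallyQuasiFinite f := .of_finite_preimage_singleton f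
      (Groth.Agent.Curve17.finite_preimage_singleton hdimZ.le hdimC f hη)
    exact .of_isProper_of_locallyQuasiFinite f
  · exact Groth.Agent.S0220.result ℂ Z C (f ≫ (C ↘ Spec (CommRingCat.of ℂ))) (C ↘ Spec (CommRingCat.of ℂ)) hdimZ hdimC
      (fun y => ⟨Groth.Agent.SmoothReg17.isDomain_stalk (C ↘ Spec (CommRingCat.of ℂ)) y, Groth.Agent.SmoothReg17.isIntegrallyClosed_stalk (C ↘ Spec (CommRingCat.of ℂ)) y⟩)
      f rfl hnc

end Groth.Agent.S18267
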