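import Groth.Statements.S18268
import Groth.Agent.Lib.FibCyc4.Basic
import Groth.Agent.Lib.QuotProj11.Proper
-- import your own Groth.Agent.* helpers here

set_option autoImplicit false
open CategoryTheory CategoryTheory.Limits AlgebraicGeometry
open ZCorr

namespace Groth.Agent.S18268

/-- Over the complex numbers let W be a smooth irreducible quasi-projective variety of dimension n, X a
smooth irreducible projective variety and Γ an n-cycle on X × W, viewed as a correspondence from W
to X, with no vertical component (every point of the support of Γ maps to the generic point of W).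
If there is a nonempty open U ⊂ W over whose points the closures of the support points of Γ have
finite fibres, and such that for every complex point u of U the fibre cycle Γ_u on X vanishes, then
Γ = 0. Here Γ_u is the sum, over the support points ξ of Γ with coefficient Γ(ξ), of the fundamental
cycles of the scheme-theoretic fibres over u of the closures of ξ, read on X (the cycle-level fibre
of the family at u; it agrees with the refined intersection of Γ with X × {u} where the components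
are flat over u and has the same support wherever they are finite over u). -/
theorem result
    (W X : Scheme.{0}) [W.Over (Spec (CommRingCat.of ℂ))] [X.Over (Spec (CommRingCat.of ℂ))]
    [AlgebraicGeometry.IsIntegral W] [Smooth (W ↘ Spec (CommRingCat.of ℂ))] (hW : RelProj.IsHQuasiProjective (W ↘ Spec (CommRingCat.of ℂ)))
    (n : ℕ) (hdimW : topologicalKrullDim W = n)
    [AlgebraicGeometry.IsIntegral X] [Smooth (X ↘ Spec (CommRingCat.of ℂ))] (hX : RelProj.IsHProjective (X ↘ Spec (CommRingCat.of ℂ)))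
    (δ : ↥(pullback (X ↘ Spec (CommRingCat.of ℂ)) (W ↘ Spec (CommRingCat.of ℂ))) → ℤ)
    (hδ : Cyc.DeltaCompat (pullback.fst (X ↘ Spec (CommRingCat.of ℂ)) (W ↘ Spec (CommRingCat.of ℂ)) ≫ (X ↘ Spec (CommRingCat.of ℂ))) δ (fun _ => 0))
    (Γ : AlgebraicCycle (pullback (X ↘ Spec (CommRingCat.of ℂ)) (W ↘ Spec (CommRingCat.of ℂ))) ℤ)
    (hΓ : Γ ∈ Cyc.Zk (pullback (X ↘ Spec (CommRingCat.of ℂ)) (W ↘ Spec (CommRingCat.of ℂ))) δ n)
    (hvert : ∀ ξ, Γ ξ ≠ 0 → pullback.snd (X ↘ Spec (CommRingCat.of ℂ)) (W ↘ Spec (CommRingCat.of ℂ)) ξ = genericPoint W)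
    (U : W.Opens) (hU : (U : Set W).Nonempty)
    (hfin : ∀ ξ, Γ ξ ≠ 0 → ∀ w ∈ U,
      (closure {ξ} ∩ pullback.snd (X ↘ Spec (CommRingCat.of ℂ)) (W ↘ Spec (CommRingCat.of ℂ)) ⁻¹' {w}).Finite)
    (hzero : ∀ (u : Spec (CommRingCat.of ℂ) ⟶ W) (hu : u ≫ (W ↘ Spec (CommRingCat.of ℂ)) = 𝟙 _),
      u (IsLocalRing.closedPoint ℂ) ∈ U →
        ∀ x : X, AlgEqCyc.fibreFun (X ↘ Spec (CommRingCat.of ℂ)) (W ↘ Spec (CommRingCat.of ℂ)) Γ u hu x = 0) :
    Γ = 0 := by
  let p := X ↘ Spec (CommRingCat.of ℂ)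
  let qW := W ↘ Spec (CommRingCat.of ℂ)
  let π := pullback.snd p qW
  haveI hXp : IsProper p := Groth.Agent.QuotProj11.isProper_of_isHProjective hX
  haveI : IsProper π := inferInstance
  haveI : CompactSpace W := by
    obtain ⟨m, i, hi, hqi, he⟩ := hW
    haveI : QuasiCompact qW := by
      rw [show qW = i ≫ CohB1.ProjSpaceOver.toBase m _ from he.symm]
      infer_instance
    exact (quasiCompact_iff_compactSpace qW).mp inferInstance
  haveI : IsLocallyNoetherian W := LocallyOfFiniteType.isLocallyNoetherian qW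
  haveI : IsLocallyNoetherian (pullback p qW) := LocallyOfFiniteType.isLocallyNoetherian π
  haveI : CompactSpace ↥(pullback p qW) := QuasiCompact.compactSpace_of_compactSpace π
  have hS : (Function.support (⇑Γ)).Finite := by
    simpa using LocallyFiniteSupport.finite_inter_support_of_isCompact (Γ.locallyFiniteSupport) CompactSpace.isCompact_univ
  by_contra hne
  have hSne : (Function.support (⇑Γ)).Nonempty := by
    by_contra hempty
    apply hne
    ext z
    by_contra hz
    exact hempty ⟨z, hz⟩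
  obtain ⟨ξ, hξm⟩ := hS.toFinset.exists_maximal (hS.toFinset_nonempty.mpr hSne)
  have hξ : Γ ξ ≠ 0 := hS.mem_toFinset.mp hξm.1
  have hmax : ∀ w, Γ w ≠ 0 → w ⤳ ξ → w = ξ := fun w hw hwξ =>
    (hwξ.antisymm (hξm.2 (hS.mem_toFinset.mpr hw) hwξ)).eq
  let D : Set ↥(pullback p qW) :=
    closure {ξ} ∩ ⋃ w ∈ (Function.support (⇑Γ) \ {ξ}), closure {w}
  have hDc : IsClosed D :=
    isClosed_closure.inter ((hS.subset Set.sdiff_subset).isClosed_biUnion fun _ _ => isClosed_closure)
  have hηU : genericPoint W ∈ U := (genericPoint_spec W).mem_open_set_iff U.isOpen |>.mpr (by simpa using hU)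
  have hπD : genericPoint W ∉ π '' D := by
    rintro ⟨z, ⟨hzξ, hz⟩, hπz⟩
    have hzeq : ξ = z := FibCyc4.eq_of_specializes π isClosed_closure (genericPoint W)
      (hfin ξ hξ _ hηU) (subset_closure rfl) (hvert ξ hξ) hπz (specializes_iff_mem_closure.mpr hzξ)
    simp only [Set.mem_iUnion, exists_prop] at hz
    obtain ⟨w, ⟨hw, hwne⟩, hzw⟩ := hz
    exact hwne (hmax w hw (hzeq ▸ specializes_iff_mem_closure.mpr hzw))
  have hπc : IsClosedMap π.base := π.isClosedMap
  haveI : JacobsonSpace W := LocallyOfFiniteType.jacobsonSpace qW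
  obtain ⟨u₀, hu₀, hu₀c⟩ := nonempty_inter_closedPoints (X := W) (Z := (U : Set W) \ π '' D)
    ⟨_, hηU, hπD⟩ ((U.isOpen.sdiff (hπc _ hDc)).isLocallyClosed)
  have hu : pointOfClosedPoint qW u₀ hu₀c ≫ qW = 𝟙 _ := pointOfClosedPoint_comp _ _ _
  set u := pointOfClosedPoint qW u₀ hu₀c with hudef
  have huc : u (IsLocalRing.closedPoint ℂ) = u₀ := pointOfClosedPoint_apply _ _ _ _
  obtain ⟨v, hv, hπv⟩ : u₀ ∈ π '' closure {ξ} := by
    have hgen : genericPoint W ∈ π '' closure {ξ} := ⟨ξ, subset_closure rfl, hvert ξ hξ⟩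
    exact (genericPoint_specializes u₀).mem_closed (hπc _ isClosed_closure) hgen
  obtain ⟨x, hx⟩ : v ∈ Set.range (AlgEqCyc.slice p qW u hu) := by
    let t := pullback.fst π u
    have htv : v ∈ Set.range t := by
      rw [Scheme.Pullback.range_fst]
      exact ⟨IsLocalRing.closedPoint ℂ, by rw [huc, ← hπv]⟩
    obtain ⟨z, hz⟩ := htv
    refine ⟨(t ≫ pullback.fst p qW) z, ?_⟩
    have ht : t = (t ≫ pullback.fst p qW) ≫ AlgEqCyc.slice p qW u hu := by
      have hsnd : t ≫ π = pullback.snd π u ≫ u := pullback.condition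
      have h2 : (t ≫ pullback.fst p qW) ≫ p = pullback.snd π u := by
        rw [Category.assoc, pullback.condition, ← Category.assoc, hsnd, Category.assoc, hu, Category.comp_id]
      refine pullback.hom_ext ?_ ?_
      · simp only [AlgEqCyc.slice, Category.assoc]; erw [pullback.lift_fst]; rw [Category.comp_id]
      · simp only [AlgEqCyc.slice, Category.assoc, pullback.lift_snd]
        exact hsnd.trans (congrArg (fun r => r ≫ u) h2).symm |>.trans (by simp [Category.assoc])
    rw [← hz]
    conv_rhs => rw [ht]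
    rfl
  have hz0 := hzero u hu (huc ▸ hu₀.1) x
  have hξv : ξ ⤳ AlgEqCyc.slice p qW u hu x := by rw [hx]; exact specializes_iff_mem_closure.mpr hv
  have hsum : AlgEqCyc.fibreFun p qW Γ u hu x =
      Γ ξ * (AlgEqCyc.fibreMult π (AlgEqCyc.slice p qW u hu x) ξ hξv : ℤ) := by
    refine finsum_eq_single _ (⟨ξ, hξ, hξv⟩ : {w // Γ w ≠ 0 ∧ w ⤳ AlgEqCyc.slice p qW u hu x}) ?_
    rintro ⟨w, hw, hwv⟩ hne'
    exfalso
    have hwξ : w ≠ ξ := fun e => hne' (Subtype.ext e)
    refine hu₀.2 ⟨v, ⟨hv, ?_⟩, hπv⟩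
    exact Set.mem_biUnion (show w ∈ Function.support (⇑Γ) \ {ξ} from ⟨hw, hwξ⟩)
      (specializes_iff_mem_closure.mp (hx ▸ hwv))
  have hfin' : (closure {ξ} ∩ π ⁻¹' {π (AlgEqCyc.slice p qW u hu x)}).Finite := by
    rw [hx, hπv]; exact hfin ξ hξ u₀ hu₀.1
  have hpos := FibCyc4.fibreMult_pos π hξv hfin'
  rw [hsum] at hz0
  rcases mul_eq_zero.mp hz0 with h | h
  · exact hξ h
  · exact hpos.ne' (by exact_mod_cast h)

end Groth.Agent.S18268
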