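import Groth.Statements.S18271
import Groth.Agent.Lib.BlowZero26.Main

set_option autoImplicit false
set_option backward.isDefEq.respectTransparency false
open CategoryTheory CategoryTheory.Limits AlgebraicGeometry
open ZCorr

namespace Groth.Agent.S18271

/-- Over the complex numbers let X be a smooth irreducible projective variety, x a closed point of X and
π : X' → X a blow-up of X at x (universal property of blowing up in the ideal sheaf of the reduced
closed point x). Then, with the dimension functions induced from the base, π_* : CH_0(X') → CH_0(X)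
is bijective: a 0-cycle on X' whose push-forward is rationally equivalent to zero on X is rationally
equivalent to zero on X', and every 0-cycle on X is rationally equivalent to the push-forward of a
0-cycle on X'. (The variety is taken of dimension at least one: for X a single point the blow-up at
that point is empty and the assertion fails.) -/
theorem result
    (X : Scheme.{0}) [X.Over (Spec (CommRingCat.of ℂ))]
    [AlgebraicGeometry.IsIntegral X] [Smooth (X ↘ Spec (CommRingCat.of ℂ))] (hX : RelProj.IsHProjective (X ↘ Spec (CommRingCat.of ℂ)))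
    (hdim : 1 ≤ topologicalKrullDim X)
    (x : X) (hx : IsClosed ({x} : Set X))
    {X' : Scheme.{0}} (π : X' ⟶ X) [QuasiCompact π]
    (hπ : BlowUp.IsBlowUp π (Scheme.IdealSheafData.vanishingIdeal ⟨{x}, hx⟩))
    (δ : X → ℤ) (hδ : Cyc.DeltaCompat (X ↘ Spec (CommRingCat.of ℂ)) δ (fun _ => 0))
    (δ' : X' → ℤ) (hδ' : Cyc.DeltaCompat (π ≫ (X ↘ Spec (CommRingCat.of ℂ))) δ' (fun _ => 0)) :
    (∀ z : AlgebraicCycle X' ℤ, z ∈ Cyc.Zk X' δ' 0 →
        Cyc.RatEquivZero δ 0 (AlgebraicCycle.map π δ' δ z) → Cyc.RatEquivZero δ' 0 z) ∧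
      ∀ α : AlgebraicCycle X ℤ, α ∈ Cyc.Zk X δ 0 →
        ∃ z : AlgebraicCycle X' ℤ, z ∈ Cyc.Zk X' δ' 0 ∧ Cyc.RatEquiv δ 0 (AlgebraicCycle.map π δ' δ z) α := by
  haveI : IsLocallyNoetherian X := LocallyOfFiniteType.isLocallyNoetherian (X ↘ Spec (CommRingCat.of ℂ))
  exact Groth.Agent.BlowZero26.bijective hX hdim x hx hπ δ hδ δ' hδ'

end Groth.Agent.S18271
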