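import Groth.Statements.S18272
import Groth.Agent.Lib.CubeField.Simple
import Groth.Agent.Lib.VarDim.Irred
import Groth.Agent.Lib.AbRigid.Geometric
import Mathlib.Analysis.Complex.Polynomial.Basic

set_option autoImplicit false
open CategoryTheory MonoidalCategory CartesianMonoidalCategory MonObj GrpObj AlgebraicGeometry
open AbVar

namespace Groth.Agent.S18272

/-- Let A be an abelian variety over the complex numbers (a proper integral group scheme over Spec of
the complex numbers), G an abstract group and f : A(ℂ) → G a homomorphism from the group of complex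
points. If V ⊂ A is an irreducible closed subset containing the neutral element and every complex
point lying in V is in the kernel of f, then there is an abelian subvariety A' ⊂ A (an integral
closed subgroup scheme) containing V and with all its complex points in the kernel of f. -/
theorem result
    (A : Over (Spec (CommRingCat.of ℂ))) [GrpObj A] [IsProper A.hom] [AlgebraicGeometry.IsIntegral A.left]
    (G : Type) [Group G] (f : (𝟙_ (Over (Spec (CommRingCat.of ℂ))) ⟶ A) →* G)
    (V : Set ↥A.left) (hVcl : IsClosed V) (hVirr : IsIrreducible V)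
    (hV1 : Set.range ⇑(η[A]).left ⊆ V)
    (hVker : ∀ a : 𝟙_ (Over (Spec (CommRingCat.of ℂ))) ⟶ A, Set.range ⇑a.left ⊆ V → f a = 1) :
    ∃ (B : Over (Spec (CommRingCat.of ℂ))) (_ : GrpObj B) (incl : B ⟶ A), IsMonHom incl ∧ IsClosedImmersion incl.left ∧
      AlgebraicGeometry.IsIntegral B.left ∧ V ⊆ Set.range ⇑incl.left ∧
      ∀ b : 𝟙_ (Over (Spec (CommRingCat.of ℂ))) ⟶ B, f (b ≫ incl) = 1 := by
  classical
  haveI : GeometricallyIntegral A.hom := CubeField.geometricallyIntegral_of_isIntegral (X := A.left) A.hom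
  haveI : JacobsonSpace A.left := LocallyOfFiniteType.jacobsonSpace A.hom
  haveI : CompactSpace A.left := QuasiCompact.compactSpace_of_compactSpace A.hom
  let pt : Spec (CommRingCat.of ℂ) := IsLocalRing.closedPoint ℂ
  have hr : ∀ (x : 𝟙_ (Over (Spec (CommRingCat.of ℂ))) ⟶ A) (S : Set A.left),
      Set.range x.left.base ⊆ S ↔ CubeField.rpt x ∈ S := fun x S =>
    ⟨fun h => h ⟨pt, rfl⟩, fun h => by
      rintro _ ⟨s, rfl⟩
      rw [Subsingleton.elim (α := Spec (CommRingCat.of ℂ)) s pt]; exact h⟩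
  have hone : (1 : 𝟙_ (Over (Spec (CommRingCat.of ℂ))) ⟶ A) = η[A] := by
    rw [MonObj.one_eq_one]
  have h1V : CubeField.rpt (1 : 𝟙_ _ ⟶ A) ∈ V := by rw [hone]; exact hV1 ⟨pt, rfl⟩
  let Adm : Set A.left → Prop := fun T => IsClosed T ∧ IsIrreducible T ∧ CubeField.rpt (1 : 𝟙_ _ ⟶ A) ∈ T ∧
    ∀ a, CubeField.rpt a ∈ T → f a = 1
  have hAV : Adm V := ⟨hVcl, hVirr, h1V, fun a ha => hVker a ((hr a V).2 ha)⟩
  have key : ∀ T, Adm T → ∃ S, Adm S ∧ T ⊆ S ∧
      ∀ a b, CubeField.rpt a ∈ T → CubeField.rpt b ∈ T → CubeField.rpt (a * b⁻¹) ∈ S := by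
    intro T hT
    obtain ⟨B, _, _, _, i, hc, r, -⟩ := CubeField.exists_subvariety (A := A) hT.1 hT.2.1
    haveI := hc
    haveI : IsLocallyNoetherian B.left := LocallyOfFiniteType.isLocallyNoetherian B.hom
    haveI : IrreducibleSpace (B ⊗ B).left := inferInstanceAs (IrreducibleSpace ↥(Limits.pullback B.hom B.hom))
    haveI : IsProper (B ⊗ B).hom := inferInstanceAs (IsProper (Limits.pullback.fst B.hom B.hom ≫ B.hom))
    haveI : LocallyOfFiniteType (B ⊗ B).hom := IsProper.toLocallyOfFiniteType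
    haveI : JacobsonSpace (B ⊗ B).left := LocallyOfFiniteType.jacobsonSpace (B ⊗ B).hom
    let φ : B ⊗ B ⟶ A := (fst _ _ ≫ i) * (snd _ _ ≫ i)⁻¹
    haveI : IsProper (φ.left ≫ A.hom) := by rw [Over.w]; infer_instance
    haveI : IsProper φ.left := .of_comp _ A.hom
    obtain ⟨o, ho⟩ := CubeField.exists_point_lift i 1 (r.ge hT.2.2.1)
    have hsub : T ⊆ Set.range φ.left := fun v hv => by
      obtain ⟨z, rfl⟩ := r.ge hv
      refine ⟨(lift (𝟙 B) (toUnit B ≫ o)).left z, ?_⟩
      rw [← AbRigid.left_comp_apply]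
      simp [φ, MonObj.comp_mul, GrpObj.comp_inv, ho]
    refine ⟨Set.range φ.left, ⟨φ.left.isClosedMap.isClosed_range, ?_, hsub hT.2.2.1, fun a ha => ?_⟩, hsub,
      fun a b ha hb => ?_⟩
    · rw [← Set.image_univ]
      exact (IrreducibleSpace.isIrreducible_univ _).image _ φ.left.continuous.continuousOn
    · obtain ⟨z, hz⟩ := ha
      obtain ⟨y, hy, hyc⟩ := nonempty_inter_closedPoints (Z := φ.left ⁻¹' {CubeField.rpt a}) ⟨z, hz⟩
        ((AbRigid.isClosed_image_point a).preimage φ.left.continuous).isLocallyClosed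
      obtain ⟨p, rfl⟩ := CubeField.exists_rpt (X := B ⊗ B) hyc
      have e : p ≫ φ = a := CubeField.rpt_injective (X := A) (by rw [CubeField.rpt_comp]; exact hy)
      rw [← e]
      simp only [φ, MonObj.comp_mul, GrpObj.comp_inv, map_mul, map_inv]
      rw [hT.2.2.2 _ (by rw [← r, CubeField.rpt_comp, AbRigid.left_comp_apply]; exact ⟨_, rfl⟩),
        hT.2.2.2 _ (by rw [← r, CubeField.rpt_comp, AbRigid.left_comp_apply]; exact ⟨_, rfl⟩), _root_.inv_one, _root_.mul_one]
    · obtain ⟨a', rfl⟩ := CubeField.exists_point_lift i a (r.ge ha)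
      obtain ⟨b', rfl⟩ := CubeField.exists_point_lift i b (r.ge hb)
      refine ⟨CubeField.rpt (lift a' b'), ?_⟩
      rw [← CubeField.rpt_comp]
      simp [φ, MonObj.comp_mul, GrpObj.comp_inv]
  let P : A.left → Prop := fun g => Adm (closure {g}) ∧ V ⊆ closure {g}
  have hVg := hVirr.closure_genericPoint hVcl
  have hP : P hVirr.genericPoint := ⟨by rw [hVg]; exact hAV, hVg.ge⟩
  haveI : Nonempty A.left := ⟨CubeField.rpt (1 : 𝟙_ _ ⟶ A)⟩
  obtain ⟨x₀, -, hx₀⟩ := VarDim.exists_dim_eq A.hom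
  have hN : ∀ g, VarDim.sdim A.hom g ≤ VarDim.sdim A.hom x₀ := hx₀
  let m := Nat.findGreatest (fun m => ∃ g, P g ∧ VarDim.sdim A.hom g = m) (VarDim.sdim A.hom x₀)
  obtain ⟨g, ⟨hgA, hgV⟩, hgm⟩ : ∃ g, P g ∧ VarDim.sdim A.hom g = m :=
    Nat.findGreatest_spec (P := fun m => ∃ g, P g ∧ VarDim.sdim A.hom g = m) (hN _) ⟨_, hP, rfl⟩
  have hmax : ∀ S, Adm S → closure {g} ⊆ S → S ⊆ closure {g} := by
    intro S hS hle
    have hc := hS.2.1.closure_genericPoint hS.1
    have hsp : hS.2.1.genericPoint ⤳ g := specializes_iff_mem_closure.2 (hc.ge (hle (subset_closure rfl)))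
    by_cases heq : hS.2.1.genericPoint = g
    · rw [← heq, hc]
    · exfalso
      have hlt := VarDim.sdim_lt_of_specializes A.hom hsp heq
      have hP' : P hS.2.1.genericPoint := ⟨by rw [hc]; exact hS, by rw [hc]; exact hgV.trans hle⟩
      have := Nat.le_findGreatest (P := fun m => ∃ g, P g ∧ VarDim.sdim A.hom g = m) (hN _) ⟨_, hP', rfl⟩
      omega
  obtain ⟨B, hBg, hBGI, i, hi, hci, hrange⟩ := CubeField.exists_subgroup_of_isClosed (A := A) hgA.1 hgA.2.1 hgA.2.2.1
    fun a b ha hb => by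
      obtain ⟨S, hS, hle, hm⟩ := key _ hgA
      exact hmax S hS hle (hm a b ha hb)
  haveI := hBGI
  refine ⟨B, hBg, i, hi, hci, GeometricallyIntegral.isIntegral_of_subsingleton B.hom, hrange ▸ hgV, fun b => ?_⟩
  refine hgA.2.2.2 _ ?_
  rw [← hrange, CubeField.rpt_comp]
  exact ⟨_, rfl⟩

end Groth.Agent.S18272
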