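import Groth.Statements.S18281
import Groth.Agent.Lib.QuotProj11.Proper
import Groth.Agent.Lib.DimClosed12.Basic
import Groth.Agent.Lib.FlatH4.FlatLocusScheme
import Groth.Agent.Lib.RefHull26.Ord
-- import your own Groth.Agent.* helpers here

set_option autoImplicit false
set_option backward.isDefEq.respectTransparency false
open CategoryTheory CategoryTheory.Limits AlgebraicGeometry
open ZCorr

namespace Groth.Agent.S18281

/-- Over the complex numbers let W be a smooth irreducible quasi-projective variety of dimension n, X a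
smooth irreducible projective variety, and Z an integral closed subscheme of X × W of dimension n
(an irreducible component of a correspondence from W to X), with projection π : Z → W. (a) The set
of points of W over which π is flat (flat at every point of the fibre) is open and nonempty. (b) The
set U of points of W with finite fibre is open and nonempty, and π restricted over U is finite. -/
theorem result
    (W X : Scheme.{0}) [W.Over (Spec (CommRingCat.of ℂ))] [X.Over (Spec (CommRingCat.of ℂ))]
    [AlgebraicGeometry.IsIntegral W] [Smooth (W ↘ Spec (CommRingCat.of ℂ))] (hW : RelProj.IsHQuasiProjective (W ↘ Spec (CommRingCat.of ℂ)))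
    (n : ℕ) (hdimW : topologicalKrullDim W = n)
    [AlgebraicGeometry.IsIntegral X] [Smooth (X ↘ Spec (CommRingCat.of ℂ))] (hX : RelProj.IsHProjective (X ↘ Spec (CommRingCat.of ℂ)))
    {Z : Scheme.{0}} (i : Z ⟶ pullback (X ↘ Spec (CommRingCat.of ℂ)) (W ↘ Spec (CommRingCat.of ℂ))) [IsClosedImmersion i]
    [AlgebraicGeometry.IsIntegral Z] (hdimZ : topologicalKrullDim Z = n) :
    (IsOpen {w : W | ∀ z : Z, (i ≫ pullback.snd (X ↘ Spec (CommRingCat.of ℂ)) (W ↘ Spec (CommRingCat.of ℂ))) z = w →
        ((i ≫ pullback.snd (X ↘ Spec (CommRingCat.of ℂ)) (W ↘ Spec (CommRingCat.of ℂ))).stalkMap z).hom.Flat} ∧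
      {w : W | ∀ z : Z, (i ≫ pullback.snd (X ↘ Spec (CommRingCat.of ℂ)) (W ↘ Spec (CommRingCat.of ℂ))) z = w →
        ((i ≫ pullback.snd (X ↘ Spec (CommRingCat.of ℂ)) (W ↘ Spec (CommRingCat.of ℂ))).stalkMap z).hom.Flat}.Nonempty) ∧
    ∃ U : W.Opens, (U : Set W) = {w : W | ((i ≫ pullback.snd (X ↘ Spec (CommRingCat.of ℂ)) (W ↘ Spec (CommRingCat.of ℂ))) ⁻¹' {w}).Finite} ∧
      (U : Set W).Nonempty ∧ IsFinite ((i ≫ pullback.snd (X ↘ Spec (CommRingCat.of ℂ)) (W ↘ Spec (CommRingCat.of ℂ))) ∣_ U) := by
  classical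
  haveI hXp : IsProper (X ↘ Spec (CommRingCat.of ℂ)) := Groth.Agent.QuotProj11.isProper_of_isHProjective hX
  haveI : IsLocallyNoetherian W := LocallyOfFiniteType.isLocallyNoetherian (W ↘ Spec (CommRingCat.of ℂ))
  set f := i ≫ pullback.snd (X ↘ Spec (CommRingCat.of ℂ)) (W ↘ Spec (CommRingCat.of ℂ)) with hf
  haveI : IsProper f := inferInstance
  haveI : LocallyOfFinitePresentation f := inferInstance
  have hset : {w : W | ∀ z : Z, f z = w → (f.stalkMap z).hom.Flat} = (f '' {z | (f.stalkMap z).hom.Flat}ᶜ)ᶜ := by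
    ext w
    simp only [Set.mem_setOf_eq, Set.mem_compl_iff, Set.mem_image, not_exists, not_and]
    exact ⟨fun h z hz e => hz (h z e), fun h z e => not_not.1 fun hz => h z hz e⟩
  refine ⟨⟨hset ▸ (f.isClosedMap _ (Groth.Agent.FlatH4.isOpen_flatLocus f).isClosed_compl).isOpen_compl,
    ⟨genericPoint W, fun z hz => ?_⟩⟩, ?_⟩
  · have hfield : IsField (W.presheaf.stalk (f z)) := by
      rw [hz]
      exact Groth.Agent.RH26.isField_η
    letI := hfield.toField
    algebraize [(f.stalkMap z).hom]
    exact (inferInstance : Module.Flat (W.presheaf.stalk (f z)) (Z.presheaf.stalk z))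
  · have hnbhd : ∀ w : W, (f ⁻¹' {w}).Finite → ∃ V : W.Opens, w ∈ V ∧ IsFinite (f ∣_ V) :=
      fun w hw => exists_isFinite_morphismRestrict_of_finite_preimage_singleton f w hw
    have hfib : ∀ (V : W.Opens), IsFinite (f ∣_ V) → ∀ w ∈ V, (f ⁻¹' {w}).Finite := by
      intro V hV w hw
      refine ((Scheme.Hom.finite_preimage_singleton (f ∣_ V) ⟨w, hw⟩).image (f ⁻¹ᵁ V).ι).subset fun x hx => ?_
      have hx' : f x = w := hx
      exact ⟨⟨x, show f x ∈ V from hx'.symm ▸ hw⟩, Subtype.ext ((morphismRestrict_base_coe f V _).trans hx'), rfl⟩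
    refine ⟨⟨{w : W | (f ⁻¹' {w}).Finite}, isOpen_iff_forall_mem_open.2 fun w hw => ?_⟩, rfl, ⟨genericPoint W, ?_⟩, ?_⟩
    · obtain ⟨V, hwV, hV⟩ := hnbhd w hw
      exact ⟨V, fun v hv => hfib V hV v hv, V.isOpen, hwV⟩
    · show (f ⁻¹' {genericPoint W}).Finite
      refine (Set.finite_singleton (genericPoint Z)).subset fun z hz => ?_
      have hz' : f z = genericPoint W := hz
      by_contra hne
      have hWh : Order.height (genericPoint W) = (n : ℕ∞) := by
        rw [Groth.Agent.VarDim.topologicalKrullDim_eq_height_genericPoint] at hdimW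
        exact WithBot.coe_injective hdimW
      have hZh : Order.height (genericPoint Z) = (n : ℕ∞) := by
        rw [Groth.Agent.VarDim.topologicalKrullDim_eq_height_genericPoint] at hdimZ
        exact WithBot.coe_injective hdimZ
      obtain ⟨l, hl, hlen⟩ := Order.exists_series_of_height_eq_coe (genericPoint W) hWh
      have h1 := Groth.Agent.DimClosed12.length_add_rd_le_height f f.isClosedMap n l hlen z (hz'.trans hl.symm)
      have h2 := Order.height_add_one_le (Groth.Agent.VarDim.lt_iff_specializes_and_ne.2 ⟨genericPoint_specializes z, hne⟩)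
      rw [hZh] at h2
      have h3 : (n : ℕ∞) + 1 ≤ (n : ℕ∞) := (add_le_add_left (le_trans (by exact_mod_cast Nat.le_add_right n _) h1) 1).trans h2
      exact absurd (ENat.coe_le_coe.1 (by exact_mod_cast h3 : ((n + 1 : ℕ) : ℕ∞) ≤ (n : ℕ∞))) (by omega)
    · generalize hU : (TopologicalSpace.Opens.mk {w : W | (f ⁻¹' {w}).Finite} _ : W.Opens) = U
      have hUmem : ∀ w : W, w ∈ U → (f ⁻¹' {w}).Finite := fun w hw => by rw [← hU] at hw; exact hw
      haveI : IsProper (f ∣_ U) := inferInstance
      haveI : LocallyQuasiFinite (f ∣_ U) := by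
        refine LocallyQuasiFinite.of_finite_preimage_singleton _ fun w => ?_
        refine Set.Finite.of_finite_image (f := (f ⁻¹ᵁ U).ι) (Set.Finite.subset (hUmem w.1 w.2) ?_)
          ((f ⁻¹ᵁ U).ι.isOpenEmbedding.injective.injOn)
        rintro _ ⟨x, hx, rfl⟩
        show f x.1 = w.1
        exact (morphismRestrict_base_coe f U x).symm.trans (congrArg Subtype.val hx)
      exact IsFinite.of_isProper_of_locallyQuasiFinite _

end Groth.Agent.S18281
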