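import Groth.Statements.S18283
import Mathlib

set_option autoImplicit false
universe u v
open CAlgX

namespace Groth.Agent.S18283

/-- Let A be a commutative ring, ι a finite index type, H a finite set of indices (the head indices) and
c : ι → ι → A a table of coefficients; for j ∈ H put f_j = e_j − Σ_{i ∉ H} c_{ji} e_i in the free
module A^ι, so that each f_j has head e_j with coefficient 1 and tail supported outside H. If a
submodule M of A^ι contains every f_j with j ∈ H, then M is the A-span of these f_j if and only if
every wedge product of |H|+1 elements of M vanishes in the (|H|+1)-st exterior power of A^ι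
(equivalently, every (|H|+1)-minor of every matrix whose rows lie in M vanishes). The published
statement is the case where A is a Noetherian algebra over a field of characteristic zero, A^ι is
the degree-(m+1) part of the polynomial ring over A with its basis of terms, H is the set of
degree-(m+1) terms of a strongly stable monomial ideal generated in degree m, and M is the
degree-(m+1) part of an ideal generated by a marked set on that monomial ideal; this row allows any
commutative ring and any submodule containing the marked polynomials. -/
theorem result
    {A : Type u} [CommRing A] {ι : Type v} [Fintype ι] [DecidableEq ι]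
    (H : Finset ι) (c : ι → ι → A) (M : Submodule A (ι → A))
    (hf : ∀ j ∈ H, (Pi.single j (1 : A) - ∑ i ∈ Hᶜ, c j i • Pi.single i (1 : A)) ∈ M) :
    M = Submodule.span A ((fun j => Pi.single j (1 : A) - ∑ i ∈ Hᶜ, c j i • Pi.single i (1 : A)) '' ↑H)
      ↔ ∀ v : Fin (H.card + 1) → ι → A, (∀ k, v k ∈ M) →
          exteriorPower.ιMulti A (H.card + 1) v = 0 := by
  classical
  set f : ι → ι → A := fun j => Pi.single j (1 : A) - ∑ i ∈ Hᶜ, c j i • Pi.single i (1 : A) with hfdef
  have hfH : ∀ j ∈ H, ∀ i ∈ H, f j i = if i = j then 1 else 0 := fun j _ i hi => by
    rw [hfdef]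
    simp only [Pi.sub_apply, Finset.sum_apply, Pi.smul_apply, Pi.single_apply, smul_eq_mul, mul_ite, mul_one, mul_zero]
    rw [Finset.sum_eq_zero (fun l hl => if_neg fun h => Finset.mem_compl.1 hl (h ▸ hi)), sub_zero]
  constructor
  · intro hM v hv
    have hmem : ∀ k, ∃ g : H → A, v k = ∑ j, g j • f j := fun k => by
      have := hM ▸ hv k
      rw [show (f '' (H : Set ι)) = Set.range fun j : H => f j by ext x; simp, Submodule.mem_span_range_iff_exists_fun] at this
      obtain ⟨g, hg⟩ := this
      exact ⟨g, hg.symm⟩
    choose g hg using hmem
    rw [funext hg, ← AlternatingMap.coe_multilinearMap, MultilinearMap.map_sum]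
    refine Finset.sum_eq_zero fun s _ => ?_
    rw [MultilinearMap.map_smul_univ, AlternatingMap.coe_multilinearMap]
    obtain ⟨a, b, hab, hs⟩ := Fintype.exists_ne_map_eq_of_card_lt s (by simp)
    rw [AlternatingMap.map_eq_zero_of_eq _ (fun k => f (s k)) (show f (s a) = f (s b) by rw [hs]) hab, smul_zero]
  · intro hw
    refine le_antisymm (fun v hv => ?_) (Submodule.span_le.2 (by rintro _ ⟨j, hj, rfl⟩; exact hf j hj))
    have hspan : ∀ j ∈ H, f j ∈ Submodule.span A (f '' ↑H) := fun j hj => Submodule.subset_span ⟨j, hj, rfl⟩
    let w : ι → A := v - ∑ j ∈ H, v j • f j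
    have hwM : w ∈ M := sub_mem hv (sum_mem fun j hj => M.smul_mem _ (hf j hj))
    have hwH : ∀ i ∈ H, w i = 0 := fun i hi => by
      simp only [w, Pi.sub_apply, Finset.sum_apply, Pi.smul_apply, smul_eq_mul]
      rw [Finset.sum_congr rfl fun j hj => by rw [hfH j hj i hi]]
      simp [hi]
    have hw0 : w = 0 := funext fun i => by
      by_cases hi : i ∈ H
      · exact hwH i hi
      let e : Fin H.card → ι := fun a => (H.equivFin.symm a : ι)
      let D : (ι → A) [⋀^Fin (H.card + 1)]→ₗ[A] A :=
        (Matrix.detRowAlternating : (Fin (H.card + 1) → A) [⋀^Fin (H.card + 1)]→ₗ[A] A).compLinearMap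
          (LinearMap.funLeft A A (Fin.cons i e : Fin (H.card + 1) → ι))
      have h0 := congrArg (exteriorPower.alternatingMapLinearEquiv D) (hw (Fin.cons w fun a => f (e a)) (Fin.cases hwM fun a => by
        rw [Fin.cons_succ]; exact hf _ (H.equivFin.symm a).2))
      rw [exteriorPower.alternatingMapLinearEquiv_apply_ιMulti, map_zero] at h0
      have h1 : D (Fin.cons w fun a => f (e a)) = w i := by
        change Matrix.det (Matrix.of fun a b => (Fin.cons w (fun a => f (e a)) : Fin (H.card + 1) → ι → A) a
          ((Fin.cons i e : Fin (H.card + 1) → ι) b)) = _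
        rw [Matrix.det_of_lowerTriangular]
        · rw [Fin.prod_univ_succ, Finset.prod_eq_one]
          · simp
          · intro a _
            simp only [Matrix.of_apply, Fin.cons_succ]
            rw [hfH _ (H.equivFin.symm a).2 _ (H.equivFin.symm a).2, if_pos rfl]
        · intro a b hab
          simp only [OrderDual.toDual_lt_toDual] at hab
          induction b using Fin.cases with
          | zero => exact absurd hab (by simp)
          | succ b =>
            induction a using Fin.cases with
            | zero => simp only [Matrix.of_apply, Fin.cons_zero, Fin.cons_succ]; exact hwH _ (H.equivFin.symm b).2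
            | succ a =>
              simp only [Matrix.of_apply, Fin.cons_succ]
              rw [hfH _ (H.equivFin.symm a).2 _ (H.equivFin.symm b).2, if_neg]
              intro h
              have : b = a := H.equivFin.symm.injective (Subtype.ext h)
              subst this; exact lt_irrefl _ hab
      rw [h1] at h0
      exact h0
    have : v = ∑ j ∈ H, v j • f j := sub_eq_zero.1 hw0
    rw [this]
    exact sum_mem fun j hj => Submodule.smul_mem _ _ (hspan j hj)

end Groth.Agent.S18283
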