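import Groth.Statements.S18287
import Groth.Agent.Lib.MagFace16.Orbit

set_option autoImplicit false
universe u
open CategoryTheory MonoidalCategory CartesianMonoidalCategory MonObj AlgebraicGeometry Opposite
open Magnet

namespace Groth.Agent.S18287

open Groth.Agent.MagFace16 in
theorem rho_restrict {S : Scheme.{u}} {R : Type u} [CommRing R] (str : Spec (CommRingCat.of R) ⟶ S) {M Z : Type}
    [AddCommMonoid M] [AddCommMonoid Z] (f : M →+ Z) {X : Over S} (D : Model str X)
    (a : Magnet.MonAct (Magnet.AMonS S M) X) :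
    rho str D (a.restrict (Magnet.AMonS.map S f)) =
      ((MonoidAlgebra.mapDomainAlgHom D.B D.B (AddMonoidHom.toMultiplicative f)).restrictScalars R).comp (rho str D a) := by
  apply D.pt_inj
  rw [← D.spHom_pt, pt_rho, pt_rho, comp_lift_assoc, Magnet.MonAct.lift_restrict_act]
  congr 2
  · refine Magnet16.chS_inj fun n => ?_
    obtain ⟨n, rfl⟩ : ∃ m, Multiplicative.ofAdd m = n := ⟨n.toAdd, rfl⟩
    rw [Magnet16.chS_map, chS_bpt, Magnet16.chS_nat, chS_bpt, appTop_gl]
    refine congrArg gl ?_
    simp
  · rw [← Category.assoc (spHom str _), spHom_comp]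
    congr 1
    exact congrArg (spHom str) (AlgHom.ext fun c => by simp [MonoidAlgebra.coe_algebraMap])


/-- Let f : M → Z be a homomorphism of commutative monoids, Y a submonoid of Z and N its preimage in M,
and let X be an S-scheme affine over S with an action of the diagonalizable monoid scheme A(M)_S.
Regard X as an A(Z)_S-scheme through A(Z)_S → A(M)_S. Then the canonical map of attractors X^{N ⊂ M}
→ X^{Y ⊂ Z} (precomposition with A(Y)_S → A(N)_S) is an isomorphism. -/
theorem result (S : Scheme.{u}) (M Z : Type) [AddCommMonoid M] [AddCommMonoid Z]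
    (f : M →+ Z) (Y : AddSubmonoid Z) (X : Over S) [IsAffineHom X.hom] (a : Magnet.MonAct (Magnet.AMonS S M) X) :
    IsIso (Magnet.attrComap a f Y) := by
  rw [NatTrans.isIso_iff_isIso_app]
  rintro ⟨T⟩
  rw [isIso_iff_bijective]
  let N := Y.comap f
  let a' := a.restrict (Magnet.AMonS.map S f)
  let ψ := Magnet.AMonS.map S ((f.comp N.subtype).codRestrict Y (fun x => x.2))
  have hev : ∀ φ, (Magnet.attrToX a' Y).app (op T) ((Magnet.attrComap a f Y).app (op T) φ) =
      (Magnet.attrToX a N).app (op T) φ := by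
    intro φ
    show lift (toUnit T ≫ η) (𝟙 T) ≫ (ψ ▷ T) ≫ φ.1 = lift (toUnit T ≫ η) (𝟙 T) ≫ φ.1
    rw [← Category.assoc, lift_whiskerRight, Category.assoc, IsMonHom.one_hom]
  refine ⟨fun p q h => MagFace16.attrToX_injective a N T (by rw [← hev p, ← hev q, h]), fun φ' => ?_⟩
  let x := (Magnet.attrToX a' Y).app (op T) φ'
  have hx : MagFace16.InAttr a' Y x := MagFace16.eval_inAttr a' Y φ'
  obtain ⟨φ, hφ⟩ := MagFace16.exists_of_inAttr a N (x := x) (by
    refine MagFace16.inAttr_of_cover a N (MagFace16.affSieve_mem T) x fun W g hg => ?_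
    obtain ⟨R, str, p, t, rfl⟩ := MagFace16.affSieve_factor hg
    rw [Category.assoc]
    refine MagFace16.inAttr_comp a N t ?_
    let D := MagFace16.model str X
    obtain ⟨c, hc⟩ := D.pt_surj (p ≫ x)
    rw [← hc, MagFace16.inAttr_pt_iff str N D a c]
    intro b m hm
    have h1 := MagFace16.inAttr_comp a' Y p hx
    rw [← hc, MagFace16.inAttr_pt_iff str Y D a' c] at h1
    have h2 := h1 ((MagFace16.rho str D a b).coeff (Multiplicative.ofAdd m)) (f m) hm
    rw [rho_restrict, AlgHom.comp_apply, MagFace16.rho_coeff_self] at h2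
    simpa using h2)
  exact ⟨φ, MagFace16.attrToX_injective a' Y T ((hev φ).trans hφ)⟩

end Groth.Agent.S18287
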