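import Groth.Statements.S18288
import Groth.Agent.Lib.Magnet16.Dense
import Mathlib.CategoryTheory.NatIso

set_option autoImplicit false
universe u
open CategoryTheory MonoidalCategory CartesianMonoidalCategory MonObj AlgebraicGeometry Opposite
open Magnet

namespace Groth.Agent.S18288
set_option linter.style.haveILetI false
set_option backward.isDefEq.respectTransparency false
set_option backward.isDefEq.respectTransparency.types false


/-- Let M be a commutative monoid with an injective homomorphism f : M → Z into a commutative group Z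
(so M is cancellative; the published statement takes Z to be the group completion of M, and the same
argument applies to any such Z), let Y be a submonoid of Z contained in the image of M, and let X be
an S-scheme separated over S with an action of the diagonalizable monoid scheme A(M)_S. Regard X as
a D(Z)_S-scheme through D(Z)_S → A(M)_S. Then the canonical map of attractors X^{f⁻¹Y ⊂ M} → X^{Y ⊂
Z} is an isomorphism: a D(Z)_S-equivariant family out of A(Y)_S is automatically A(M)_S-equivariant.
(The published statement allows X to be an algebraic space; here X is a scheme.) -/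
theorem result (S : Scheme.{u}) (M Z : Type) [AddCommMonoid M]
    [AddCommGroup Z] (f : M →+ Z) (hf : Function.Injective f) (Y : AddSubmonoid Z)
    (hY : Y ≤ AddMonoidHom.mrange f) (X : Over S) [IsSeparated X.hom]
    (a : Magnet.MonAct (Magnet.AMonS S M) X) :
    IsIso (Magnet.attrComap a f Y) := by
  let g₀ : ↥(Y.comap f) →+ ↥Y := (f.comp (Y.comap f).subtype).codRestrict Y (fun x => x.2)
  have hbij : Function.Bijective g₀ := by
    refine ⟨fun x y h => Subtype.ext (hf (congrArg Subtype.val h)), fun y => ?_⟩
    obtain ⟨m, hm⟩ := hY y.2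
    exact ⟨⟨m, show f m ∈ Y from hm.symm ▸ y.2⟩, Subtype.ext hm⟩
  let e := AddEquiv.ofBijective g₀ hbij
  let h₀ : ↥Y →+ ↥(Y.comap f) := e.symm.toAddMonoidHom
  let u := Magnet.AMonS.map S g₀
  let v := Magnet.AMonS.map S h₀
  have hid : ∀ (P : Type) [AddCommMonoid P], Magnet.AMonS.map S (AddMonoidHom.id P) = 𝟙 _ := by
    intro P _
    unfold Magnet.AMonS.map
    rw [show Magnet.AMon.map (ULift.{u} ℤ) (AddMonoidHom.id P) = 𝟙 _ by
      ext : 1
      rw [Magnet.AMon.map_left, Over.id_left]
      refine Eq.trans ?_ (Spec.map_id _)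
      refine congrArg Spec.map (CommRingCat.hom_ext ?_)
      ext x <;> simp, CategoryTheory.Functor.map_id]
  have huv : u ≫ v = 𝟙 _ := by
    rw [← Magnet.AMonS.map_comp, show g₀.comp h₀ = AddMonoidHom.id _ from AddMonoidHom.ext e.apply_symm_apply, hid]
  have hvu : v ≫ u = 𝟙 _ := by
    rw [← Magnet.AMonS.map_comp, show h₀.comp g₀ = AddMonoidHom.id _ from AddMonoidHom.ext e.symm_apply_apply, hid]
  haveI : ∀ T : Over S, IsIso (u ▷ T) := fun T =>
    ⟨⟨v ▷ T, by rw [← comp_whiskerRight, huv, id_whiskerRight], by rw [← comp_whiskerRight, hvu, id_whiskerRight]⟩⟩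
  refine @NatIso.isIso_of_isIso_app _ _ _ _ _ _ _ fun T => (isIso_iff_bijective _).2 ⟨fun φ φ' h => ?_, fun χ => ?_⟩
  · exact Subtype.ext ((cancel_epi (u ▷ T.unop)).1 (congrArg Subtype.val h))
  · refine ⟨⟨inv (u ▷ T.unop) ≫ χ.1, ?_⟩, Subtype.ext (IsIso.hom_inv_id_assoc (u ▷ T.unop) χ.1)⟩
    refine Magnet16.hom_ext_of_injective f hf _ X _ _ ?_
    have hχ : Magnet.MonAct.IsEquivariant _ _ χ.1 := χ.2
    apply Magnet.hom_ext_lift₂
    intro T' z w
    rw [← lift_comp_fst_snd w, lift_whiskerRight_assoc, lift_whiskerRight_assoc]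
    rw [Magnet.MonAct.lift_prod_act_assoc, Magnet.MonAct.lift_trivial_act,
      lift_whiskerLeft_assoc]
    have h := (Magnet.MonAct.mem_eqvHom_iff χ.1).1 χ.2 T' z (w ≫ fst _ _ ≫ v) (w ≫ snd _ _)
    have hinv : inv (u ▷ T.unop) = v ▷ T.unop := by
      apply IsIso.inv_eq_of_hom_inv_id
      rw [← comp_whiskerRight, huv, id_whiskerRight]
    rw [hinv, lift_whiskerRight_assoc, lift_whiskerRight_assoc]
    have hS : ∀ {M' : Type} [AddCommMonoid M'] (P : AddSubmonoid M') {U : Over S} (g : U ⟶ Magnet.AMonS S M')
        (b : U ⟶ Magnet.AMonS S P),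
        lift g b ≫ (Magnet.subAct S M' P).act = (g ≫ Magnet.AMonS.map S P.subtype) * b :=
      fun {M'} [AddCommMonoid M'] P {U} g b => (Magnet.MonAct.lift_restrict_act _ _ _ _).trans (Magnet.MonAct.lift_regular_act _ _)
    rw [hS, MonObj.mul_comp, Category.assoc, Category.assoc, Category.assoc, ← Magnet.AMonS.map_comp,
      ← Magnet.AMonS.map_comp, ← comp_lift_assoc]
    rw [hS, Magnet.MonAct.lift_restrict_act] at h
    have hh : f.comp ((Y.comap f).subtype.comp h₀) = Y.subtype :=
      AddMonoidHom.ext fun y => congrArg Subtype.val (e.apply_symm_apply y)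
    rw [hh, ← comp_lift_assoc] at *
    exact h

end Groth.Agent.S18288
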