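import Groth.Statements.S18289
import Groth.Agent.Lib.MagFace16.Sub

set_option autoImplicit false
universe u
open CategoryTheory MonoidalCategory CartesianMonoidalCategory MonObj AlgebraicGeometry Opposite
open Magnet

namespace Groth.Agent.S18289

/-- Let M be a finitely generated commutative group, Z a subgroup of M and X an S-scheme with an action
of the diagonalizable group scheme D(M)_S. Then the attractor X^Z, for Z regarded as a magnet of M,
is identified with the fixed-point functor of X under the subgroup D(M/Z)_S (acting through D(M/Z)_S
→ D(M)_S): there is an isomorphism of functors on S-schemes from X^Z to the fixed points whose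
composite with the inclusion of the fixed points into X is the canonical map X^Z → X. (The published
statement allows X to be an algebraic space; here X is a scheme.) -/
theorem result (S : Scheme.{u}) (M : Type) [AddCommGroup M] [AddGroup.FG M]
    (Z : AddSubgroup M) (X : Over S) (a : AlgGrp.Action (Red.DS S M) X) :
    ∃ e : Magnet.attr (Magnet.MonAct.ofAction a) Z.toAddSubmonoid ≅
        Magnet.MonAct.fixedPsh ((Magnet.MonAct.ofAction a).restrict (Magnet.AMonS.map S (QuotientAddGroup.mk' Z))),
      e.hom ≫ Magnet.MonAct.fixedPshι _ = Magnet.attrToX (Magnet.MonAct.ofAction a) Z.toAddSubmonoid := by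
  let act := Magnet.MonAct.ofAction a
  let N := Z.toAddSubmonoid
  let η' : Magnet.attr act N ⟶ Magnet.MonAct.fixedPsh (act.restrict (Magnet.AMonS.map S (QuotientAddGroup.mk' Z))) :=
    { app := fun T => TypeCat.ofHom fun φ => ⟨(Magnet.attrToX act N).app T φ,
        MagFace16.isFix_of_inAttr Z N rfl act (MagFace16.eval_inAttr act N (T := T.unop) φ)⟩
      naturality := fun T T' t => ConcreteCategory.hom_ext _ _ fun φ => Subtype.ext
        (NatTrans.naturality_apply (Magnet.attrToX act N) t φ) }
  have hdet := MagFace16.det_subgroup (S := S) Z N rfl X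
  have : ∀ T, IsIso (η'.app T) := fun T => by
    rw [isIso_iff_bijective]
    refine ⟨fun φ ψ h => MagFace16.attrToX_injective' act N hdet T.unop (congrArg Subtype.val h), fun x => ?_⟩
    obtain ⟨φ, hφ⟩ := MagFace16.exists_of_inAttr' act N hdet (MagFace16.inAttr_of_isFix Z N rfl act x.2)
    exact ⟨φ, Subtype.ext hφ⟩
  have := NatIso.isIso_of_isIso_app η'
  exact ⟨asIso η', rfl⟩

end Groth.Agent.S18289
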