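import Groth.Statements.S18293

set_option autoImplicit false
universe v₁ u₁
open CategoryTheory MonoidalCategory CartesianMonoidalCategory MonObj Opposite
open Magnet Magnet.MonAct

namespace Groth.Agent.S18293
set_option linter.style.haveILetI false


/-- Let A be a monoid object of a cartesian monoidal category acting on X₁, X₂ and X₃, let f₁ : X₁ → X₂
and f₃ : X₃ → X₂ be equivariant, and let p₁ : P → X₁, p₃ : P → X₃ make P the fibre product X₁ ×_{X₂}
X₃ (in the source A = A(M)_S acts on S-spaces). Then P carries exactly one action of A for which p₁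
and p₃ are equivariant (the canonical action g • (x₁, x₃) = (g • x₁, g • x₃)); with it the square is
cartesian among objects with A-action. -/
theorem result {C : Type u₁} [Category.{v₁} C] [CartesianMonoidalCategory C]
    {A X₁ X₂ X₃ P : C} [MonObj A] (a₁ : Magnet.MonAct A X₁) (a₂ : Magnet.MonAct A X₂) (a₃ : Magnet.MonAct A X₃)
    (f₁ : X₁ ⟶ X₂) (f₃ : X₃ ⟶ X₂) (p₁ : P ⟶ X₁) (p₃ : P ⟶ X₃) (hsq : IsPullback p₁ p₃ f₁ f₃)
    (hf₁ : Magnet.MonAct.IsEquivariant a₁ a₂ f₁) (hf₃ : Magnet.MonAct.IsEquivariant a₃ a₂ f₃) :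
    ∃! aP : Magnet.MonAct A P, Magnet.MonAct.IsEquivariant aP a₁ p₁ ∧ Magnet.MonAct.IsEquivariant aP a₃ p₃ := by
  have w : ((A ◁ p₁) ≫ a₁.act) ≫ f₁ = ((A ◁ p₃) ≫ a₃.act) ≫ f₃ := by
    rw [Category.assoc, Category.assoc, hf₁, hf₃, ← MonoidalCategory.whiskerLeft_comp_assoc, hsq.w,
      MonoidalCategory.whiskerLeft_comp_assoc]
  let m : A ⊗ P ⟶ P := hsq.lift _ _ w
  have h₁ : ∀ (T : C) (g : T ⟶ A) (x : T ⟶ P), (lift g x ≫ m) ≫ p₁ = lift g (x ≫ p₁) ≫ a₁.act := fun T g x => by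
    simp only [m, Category.assoc, hsq.lift_fst, lift_whiskerLeft_assoc]
  have h₃ : ∀ (T : C) (g : T ⟶ A) (x : T ⟶ P), (lift g x ≫ m) ≫ p₃ = lift g (x ≫ p₃) ≫ a₃.act := fun T g x => by
    simp only [m, Category.assoc, hsq.lift_snd, lift_whiskerLeft_assoc]
  refine ⟨Magnet.MonAct.mk' m (fun T x => hsq.hom_ext ?_ ?_) (fun T g h x => hsq.hom_ext ?_ ?_), ⟨?_, ?_⟩, ?_⟩
  · rw [h₁, a₁.lift_one_act]
  · rw [h₃, a₃.lift_one_act]
  · rw [h₁, a₁.lift_mul_act, h₁, h₁]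
  · rw [h₃, a₃.lift_mul_act, h₃, h₃]
  · exact hsq.lift_fst _ _ _
  · exact hsq.lift_snd _ _ _
  · intro b hb
    refine Magnet.MonAct.ext' (hsq.hom_ext ?_ ?_)
    · exact hb.1.trans (hsq.lift_fst _ _ w).symm
    · exact hb.2.trans (hsq.lift_snd _ _ w).symm

end Groth.Agent.S18293
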