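import Groth.Statements.S18308
import Groth.Agent.Lib.SymPt15.Hens
-- import your own Groth.Agent.* helpers here

set_option autoImplicit false
universe u
open CategoryTheory CategoryTheory.Limits AlgebraicGeometry
open AlgSp

namespace Groth.Agent.S18308

/-- Let S be a scheme, X an algebraic space over S (an fppf sheaf on schemes over S with representable
diagonal and an étale atlas; no quasi-separatedness is assumed), R a Henselian local ring with a
structure morphism Spec R → S, and z : h_{Spec R} → X an R-point of X over S. Then there are an
affine scheme Z over S, a representable étale morphism p : h_Z → X and an S-morphism g : Spec R → Z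
with h_g followed by p equal to z. The source states this for algebraic stacks whose diagonal has a
separated S-fibre over the image of the closed point, giving a smooth chart in general and, by a
clause of the same statement, an étale chart when the stack is an algebraic space (no
quasi-separatedness assumed: the proof builds the chart from the algebraic space of n-element finite
étale multisections of a separated scheme atlas, which is étale over X, and a second such step
yields a scheme); only the algebraic-space case is stated here. -/
theorem result {S : Scheme.{u}} (X : AlgSp.Space S)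
    (R : Type u) [CommRing R] [HenselianLocalRing R] (str : Spec (CommRingCat.of R) ⟶ S)
    (z : (AlgSp.yon S).obj (Over.mk str) ⟶ X.obj) :
    ∃ (Z : Over S) (p : (AlgSp.yon S).obj Z ⟶ X.obj) (g : Over.mk str ⟶ Z),
      IsAffine Z.left ∧ AlgSp.RepWith @Etale p ∧ (AlgSp.yon S).map g ≫ p = z := by
  open Groth.Agent.AlgSpace Groth.Agent.AlgSpDecent Groth.Agent.SymPt15 in
  haveI := henselianRing_ker_residue R
  obtain ⟨Z, p, g₀, hZ, hp, hg₀⟩ := exists_affine_lift X.property (IsLocalRing.ResidueField R)
    (Spec.map (CommRingCat.ofHom (IsLocalRing.residue R)) ≫ str)
    ((AlgSp.yon S).map (Over.homMk (Spec.map (CommRingCat.ofHom (IsLocalRing.residue R))) rfl :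
      Over.mk (Spec.map (CommRingCat.ofHom (IsLocalRing.residue R)) ≫ str) ⟶ Over.mk str) ≫ z)
  obtain ⟨g, hg, -⟩ := exists_lift_of_henselian (IsLocalRing.residue R) IsLocalRing.residue_surjective str
    (repWith_mono AlgSpDescent.etale_le_smooth hp) z (Iso.refl _) _ (Category.id_comp _).symm g₀ hg₀
  exact ⟨Z, p, g, hZ, hp, hg⟩


end Groth.Agent.S18308
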