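import Groth.Statements.S18309
import Groth.Agent.Lib.SymPt15.Hens
-- import your own Groth.Agent.* helpers here

set_option autoImplicit false
universe u
open CategoryTheory CategoryTheory.Limits AlgebraicGeometry
open AlgSp

namespace Groth.Agent.S18309

/-- Let S be a scheme, f : Z → X a morphism of algebraic spaces over S which is smooth (étale locally on
source and target), R a Henselian local ring with residue field k = R/m and structure morphism Spec
R → S, z : h_{Spec R} → X an R-point of X, and z₀' : h_{Spec k} → Z a k-point of Z whose composite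
with f is the restriction of z to Spec k. Then there is an R-point z' : h_{Spec R} → Z with z'
followed by f equal to z and whose restriction to Spec k is z₀'. The source states this for X an
algebraic stack (lifting up to isomorphism); the algebraic-space case is stated here. -/
theorem result {S : Scheme.{u}} {Z X : AlgSp.Space S}
    (f : Z ⟶ X) (hf : AlgSp.LocP @Smooth f.hom)
    (R : Type u) [CommRing R] [HenselianLocalRing R] (str : Spec (CommRingCat.of R) ⟶ S)
    (z : (AlgSp.yon S).obj (Over.mk str) ⟶ X.obj)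
    (z₀ : (AlgSp.yon S).obj (Over.mk (Spec.map (CommRingCat.ofHom (IsLocalRing.residue R)) ≫ str)) ⟶ Z.obj)
    (w : z₀ ≫ f.hom = (AlgSp.yon S).map (Over.homMk (Spec.map (CommRingCat.ofHom (IsLocalRing.residue R))) rfl :
        Over.mk (Spec.map (CommRingCat.ofHom (IsLocalRing.residue R)) ≫ str) ⟶ Over.mk str) ≫ z) :
    ∃ z' : (AlgSp.yon S).obj (Over.mk str) ⟶ Z.obj, z' ≫ f.hom = z ∧
      (AlgSp.yon S).map (Over.homMk (Spec.map (CommRingCat.ofHom (IsLocalRing.residue R))) rfl :
        Over.mk (Spec.map (CommRingCat.ofHom (IsLocalRing.residue R)) ≫ str) ⟶ Over.mk str) ≫ z' = z₀ := by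
  open Groth.Agent.AlgSpace Groth.Agent.AlgSpDecent Groth.Agent.SymPt15 in
  haveI := henselianRing_ker_residue R
  let i : Over.mk (Spec.map (CommRingCat.ofHom (IsLocalRing.residue R)) ≫ str) ⟶ Over.mk str :=
    Over.homMk (Spec.map (CommRingCat.ofHom (IsLocalRing.residue R))) rfl
  have sq := IsPullback.of_hasPullback f.hom z
  have hP := isAlgSpace_pullback X.property Z.property (IsAlgSpace.yon_obj _) sq
  have hsm : AlgSp.LocP @Smooth (pullback.snd f.hom z) :=
    locP_of_isPullback Z.property X.property (IsAlgSpace.yon_obj _) sq hf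
  obtain ⟨W, φ, g₀, -, hφ, hg₀⟩ := exists_affine_lift hP (IsLocalRing.ResidueField R)
    (Spec.map (CommRingCat.ofHom (IsLocalRing.residue R)) ≫ str) (sq.lift z₀ ((AlgSp.yon S).map i) w)
  obtain ⟨h, hh⟩ := (AlgSp.yon S).map_surjective (φ ≫ pullback.snd f.hom z)
  have hhs : AlgSp.RepWith @Smooth ((AlgSp.yon S).map h) := (repWith_yon_map_iff _ _).2
    (hsm φ (𝟙 _) h hφ (AlgSp.repWith_id _ _) (by rw [Category.comp_id, hh]))
  obtain ⟨g, hg, hgi⟩ := exists_lift_of_henselian (IsLocalRing.residue R) IsLocalRing.residue_surjective str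
    hhs (𝟙 _) (Iso.refl _) i (Category.id_comp _).symm g₀ (by
      rw [hh, ← Category.assoc, hg₀, sq.lift_snd, Category.comp_id])
  refine ⟨(AlgSp.yon S).map g ≫ φ ≫ pullback.fst f.hom z, ?_, ?_⟩
  · rw [Category.assoc, Category.assoc, pullback.condition, ← Category.assoc φ, ← hh, ← Category.assoc,
      hg, Category.id_comp]
  · change (AlgSp.yon S).map i ≫ _ = z₀
    rw [← Functor.map_comp_assoc, hgi, ← Category.assoc, hg₀, sq.lift_fst]


end Groth.Agent.S18309
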