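import Groth.Statements.S18312
import Groth.Agent.Lib.SymPt15.Hens
-- import your own Groth.Agent.* helpers here

set_option autoImplicit false
universe u
open CategoryTheory CategoryTheory.Limits AlgebraicGeometry
open AlgSp

namespace Groth.Agent.S18312

/-- Let S be a scheme, X an algebraic space over S, and R a Henselian local ring with residue field k =
R/m and a structure morphism Spec R → S, and suppose that the set of k-points h_{Spec k} → X over S
is finite. Then there are an affine scheme Z over S and a representable étale morphism p : h_Z → X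
such that, for every ideal a of R, every point h_{Spec (R/a)} → X over S is h_g followed by p for
some S-morphism g : Spec (R/a) → Z. The source states this for algebraic stacks whose diagonal has a
separated S-fibre over the image of the closed point, with Z smooth over the stack in general, Z
étale over it when the stack is an algebraic space (a clause of the same statement; no
quasi-separatedness assumed), finitely many isomorphism classes over k, and essential surjectivity;
only the algebraic-space case is stated here. -/
theorem result {S : Scheme.{u}} (X : AlgSp.Space S)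
    (R : Type u) [CommRing R] [HenselianLocalRing R] (str : Spec (CommRingCat.of R) ⟶ S)
    (hfin : Finite ((AlgSp.yon S).obj (Over.mk (Spec.map (CommRingCat.ofHom (IsLocalRing.residue R)) ≫ str)) ⟶ X.obj)) :
    ∃ (Z : Over S) (p : (AlgSp.yon S).obj Z ⟶ X.obj), IsAffine Z.left ∧ AlgSp.RepWith @Etale p ∧
      ∀ (a : Ideal R) (x : (AlgSp.yon S).obj (Over.mk (Spec.map (CommRingCat.ofHom (Ideal.Quotient.mk a)) ≫ str)) ⟶ X.obj),
        ∃ g : Over.mk (Spec.map (CommRingCat.ofHom (Ideal.Quotient.mk a)) ≫ str) ⟶ Z, (AlgSp.yon S).map g ≫ p = x := by
  open Groth.Agent.AlgSpace Groth.Agent.AlgSpDecent Groth.Agent.SymPt15 in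
  haveI := henselianRing_ker_residue R
  obtain ⟨n, ⟨e⟩⟩ := Finite.exists_equiv_fin
    ((AlgSp.yon S).obj (Over.mk (Spec.map (CommRingCat.ofHom (IsLocalRing.residue R)) ≫ str)) ⟶ X.obj)
  choose V v g hV hv hg using fun i : ULift.{u} (Fin n) =>
    exists_affine_lift X.property (IsLocalRing.ResidueField R)
      (Spec.map (CommRingCat.ofHom (IsLocalRing.residue R)) ≫ str) (e.symm i.down)
  obtain ⟨Z, j, p, hj, -, haff, hp⟩ := exists_scheme_sigma_chart V v hv X.property
  refine ⟨Z, p, haff inferInstance hV, hp, fun a x => exists_lift_quotient str hp (fun x₀ => ?_) a x⟩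
  refine ⟨g ⟨e x₀⟩ ≫ j ⟨e x₀⟩, ?_⟩
  rw [Functor.map_comp, Category.assoc, hj, hg, Equiv.symm_apply_apply]


end Groth.Agent.S18312
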