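import Groth.Statements.S18313
import Groth.Agent.Lib.SymPt15.Hens
-- import your own Groth.Agent.* helpers here

set_option autoImplicit false
universe u
open CategoryTheory CategoryTheory.Limits AlgebraicGeometry
open AlgSp

namespace Groth.Agent.S18313

/-- Let R be a Henselian local ring, S = Spec R, and X an algebraic space over S which is smooth over S,
in the sense that there are a scheme U over S with smooth structure morphism U → S and a
representable étale, representable surjective morphism h_U → X. Then for every ideal a ≠ R, every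
point h_{Spec (R/a)} → X over S is the composite of h_q with a point h_S → X over S, where q : Spec
(R/a) → S is the closed immersion. The source states this for smooth algebraic stacks over R whose
diagonal has a separated fibre over the closed point (essential surjectivity on R/a-points); the
algebraic-space case is stated here. -/
theorem result (R : Type u) [CommRing R] [HenselianLocalRing R]
    (X : AlgSp.Space (Spec (CommRingCat.of R)))
    (hX : ∃ (U : Over (Spec (CommRingCat.of R))) (c : (AlgSp.yon (Spec (CommRingCat.of R))).obj U ⟶ X.obj),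
      Smooth U.hom ∧ AlgSp.RepWith @Etale c ∧ AlgSp.RepWith @Surjective c)
    (a : Ideal R) (ha : a ≠ ⊤)
    (x₀ : (AlgSp.yon (Spec (CommRingCat.of R))).obj (Over.mk (Spec.map (CommRingCat.ofHom (Ideal.Quotient.mk a)))) ⟶ X.obj) :
    ∃ x : (AlgSp.yon (Spec (CommRingCat.of R))).obj (Over.mk (𝟙 (Spec (CommRingCat.of R)))) ⟶ X.obj,
      (AlgSp.yon (Spec (CommRingCat.of R))).map (Over.homMk (Spec.map (CommRingCat.ofHom (Ideal.Quotient.mk a)))
        (Category.comp_id _) : Over.mk (Spec.map (CommRingCat.ofHom (Ideal.Quotient.mk a))) ⟶ Over.mk (𝟙 _)) ≫ x = x₀ := by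
  open Groth.Agent.AlgSpace Groth.Agent.AlgSpDecent Groth.Agent.SymPt15 in
  obtain ⟨U, c, hUs, hce, hcs⟩ := hX
  haveI : Nontrivial (R ⧸ a) := Ideal.Quotient.nontrivial_iff.2 ha
  haveI : IsLocalRing (R ⧸ a) := IsLocalRing.of_surjective' _ Ideal.Quotient.mk_surjective
  haveI : HenselianLocalRing (R ⧸ a) := Hens.henselianLocalRing_of_isIntegral R (R ⧸ a)
  haveI := henselianRing_ker_residue (R ⧸ a)
  let str : Spec (CommRingCat.of (R ⧸ a)) ⟶ Spec (CommRingCat.of R) :=
    Spec.map (CommRingCat.ofHom (Ideal.Quotient.mk a))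
  let i : Over.mk (Spec.map (CommRingCat.ofHom (IsLocalRing.residue (R ⧸ a))) ≫ str) ⟶ Over.mk str :=
    Over.homMk (Spec.map (CommRingCat.ofHom (IsLocalRing.residue (R ⧸ a)))) rfl
  obtain ⟨Z, φ, g₀, -, hφ, hg₀⟩ := exists_affine_lift X.property (IsLocalRing.ResidueField (R ⧸ a))
    (Spec.map (CommRingCat.ofHom (IsLocalRing.residue (R ⧸ a))) ≫ str) ((AlgSp.yon _).map i ≫ x₀)
  obtain ⟨g₁, hg₁, -⟩ := exists_lift_of_henselian (IsLocalRing.residue (R ⧸ a))
    IsLocalRing.residue_surjective str (repWith_mono AlgSpDescent.etale_le_smooth hφ) x₀ (Iso.refl _) i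
    (Category.id_comp _).symm g₀ hg₀
  haveI : Smooth Z.hom := by
    obtain ⟨W, s, k, sq⟩ := hce.1 φ
    obtain ⟨k, rfl⟩ := (AlgSp.yon _).map_surjective k
    have h1 : Etale s.left := hce.2 φ _ _ sq
    have h2 : Surjective s.left := hcs.2 φ _ _ sq
    have h3 : Etale k.left := hφ.2 c _ _ sq.flip
    refine EtaleLocal.descends (P := @Smooth) s.left Z.hom h1 h2 ?_
    rw [Over.w s, ← Over.w k]
    infer_instance
  haveI : HenselianRing R (RingHom.ker (Ideal.Quotient.mk a)) := by
    rw [Ideal.mk_ker]
    exact Hens.henselianRing_of_le (Hens.henselianRing_maximalIdeal R) (IsLocalRing.le_maximalIdeal ha)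
  obtain ⟨h, h1, h2⟩ := exists_section_of_smooth (Ideal.Quotient.mk a) Ideal.Quotient.mk_surjective
    Z.hom g₁.left (Over.w g₁)
  refine ⟨(AlgSp.yon _).map (Over.homMk h h1 : Over.mk (𝟙 _) ⟶ Z) ≫ φ, ?_⟩
  rw [← Functor.map_comp_assoc, ← hg₁]
  exact congrArg (fun m => (AlgSp.yon _).map m ≫ φ) (Over.OverMorphism.ext h2)


end Groth.Agent.S18313
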