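import Groth.Statements.S18317
import Groth.Agent.Lib.TorsorSch25.Field
import Mathlib.RingTheory.Unramified.Field

set_option autoImplicit false
universe u
open CategoryTheory AlgebraicGeometry
open NonAbH1

namespace Groth.Agent.S18317

theorem etale_le_fpqc (S : Scheme.{u}) : Scheme.etalePrecoverage.coverings S ≤ Scheme.fpqcPrecoverage.coverings S :=
  le_trans (Scheme.precoverage_mono (fun _ _ f (hf : Etale f) => ⟨inferInstance, inferInstance⟩) S)
    (Scheme.fppfPrecoverage_le_fpqcPrecoverage S)

/-- Let K be a field and G a finite connected K-group scheme (G → Spec K finite, G connected as a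
topological space). Then every G-torsor X over Spec K for the étale topology (a K-scheme with an
action of G whose shear map G ×_K X → X ×_K X is an isomorphism and which acquires a section over
the members of some étale covering of Spec K) is trivial: X has a K-point. -/
theorem result (K : Type u) [Field K]
    (G X : Over (Spec (CommRingCat.of K))) [GrpObj G] [IsFinite G.hom] [ConnectedSpace G.left]
    (a : AlgGrp.Action G X) (h : NonAbH1.IsTorsorFor Scheme.etalePrecoverage a) :
    NonAbH1.HasSectionOver X (𝟙 (Spec (CommRingCat.of K))) := by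
  have h' : NonAbH1.IsTorsorFor Scheme.fpqcPrecoverage a :=
    ⟨h.1, h.2.choose, (fun S => etale_le_fpqc S) _ h.2.choose_spec.1, h.2.choose_spec.2⟩
  obtain ⟨L, _, _, π, hπ, _, _, hdeg, hfac⟩ := TorsorSch25.exists_residue h'
  haveI : Algebra.IsSeparable K L := by
    obtain ⟨R, hR, hsec⟩ := h.2
    change R ∈ Scheme.precoverage @Etale _ at hR
    obtain ⟨ι, Y, f, rfl⟩ := R.exists_eq_ofArrows
    obtain ⟨hcov, hf⟩ := (Scheme.ofArrows_mem_precoverage_iff @Etale).1 hR
    obtain ⟨i, y, -⟩ := hcov (IsLocalRing.closedPoint K)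
    obtain ⟨U, hU, hyU, -⟩ := exists_isAffineOpen_mem_and_subset (X := Y i) (x := y) (U := ⊤) trivial
    haveI := hf i
    obtain ⟨θ, hθ⟩ := Spec.map_surjective (hU.fromSpec ≫ f i)
    have het : Etale (Spec.map θ) := by rw [hθ]; infer_instance
    let C : Type u := Γ(Y i, U)
    letI : Algebra K C := θ.hom.toAlgebra
    haveI : Algebra.Etale K C := ((HasRingHomProperty.Spec_iff (P := @Etale)).1 het).toAlgebra
    haveI : Nontrivial C := by
      haveI : Nonempty (PrimeSpectrum C) := ⟨hU.isoSpec.hom ⟨y, hyU⟩⟩
      exact PrimeSpectrum.nonempty_iff_nontrivial.1 ‹_›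
    obtain ⟨q, hq⟩ := Ideal.exists_maximal C
    letI : Field (C ⧸ q) := Ideal.Quotient.field q
    obtain ⟨s, hs⟩ := hsec (f i) (Presieve.ofArrows.mk i)
    let p : Spec (CommRingCat.of (C ⧸ q)) ⟶ X.left :=
      Spec.map (CommRingCat.ofHom (Ideal.Quotient.mk q)) ≫ hU.fromSpec ≫ s
    obtain ⟨ψ, hψ⟩ := hfac (C ⧸ q) p
    have hψK : ψ.comp (algebraMap K L) = algebraMap K (C ⧸ q) := by
      have h1 : p ≫ X.hom = Spec.map (CommRingCat.ofHom (algebraMap K (C ⧸ q))) := by
        simp only [p, Category.assoc, hs, ← hθ, ← Spec.map_comp]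
        rfl
      rw [hψ, Category.assoc, hπ, ← Spec.map_comp, ← CommRingCat.ofHom_comp] at h1
      exact congrArg CommRingCat.Hom.hom (Spec.map_injective h1)
    let ψ' : L →ₐ[K] C ⧸ q := { ψ with commutes' := fun r => RingHom.congr_fun hψK r }
    haveI : Algebra.IsSeparable K (C ⧸ q) := by
      haveI : Algebra.FormallyUnramified K (C ⧸ q) :=
        Algebra.FormallyUnramified.of_surjective (Ideal.Quotient.mkₐ K q) Ideal.Quotient.mk_surjective
      exact Algebra.FormallyUnramified.isSeparable _ _
    exact Algebra.IsSeparable.of_algHom K (C ⧸ q) ψ'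
  have hbij : Function.Bijective (algebraMap K L) :=
    ⟨(algebraMap K L).injective, IsPurelyInseparable.surjective_algebraMap_of_isSeparable K L⟩
  let e := RingEquiv.ofBijective _ hbij
  refine ⟨Spec.map (CommRingCat.ofHom e.symm.toRingHom) ≫ π, ?_⟩
  rw [Category.assoc, hπ, ← Spec.map_comp, ← CommRingCat.ofHom_comp, show e.symm.toRingHom.comp (algebraMap K L) = RingHom.id K from
    RingHom.ext fun x => e.symm_apply_apply x, CommRingCat.ofHom_id, Spec.map_id]

end Groth.Agent.S18317
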