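import Groth.Statements.S18318
import Groth.Agent.Lib.TorsorSch25.Field

set_option autoImplicit false
universe u
open CategoryTheory AlgebraicGeometry
open NonAbH1

namespace Groth.Agent.S18318

/-- Let K be a field of exponential characteristic p and G a finite connected K-group scheme. Then there
is an integer n ≥ 0 such that every G-torsor X over Spec K for the fppf topology (simply transitive
action, a section over the members of some fppf covering) becomes trivial over the purely
inseparable extension K^{1/p^n} of K: equivalently, X admits a K-morphism from Spec K regarded as a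
K-scheme through the n-th iterate x ↦ x^(p^n) of the Frobenius endomorphism of K. The source
moreover bounds n by p^n ≤ (#G)!; only the existence of a uniform n is stated here. In particular (p
= 1, characteristic zero) every such torsor is trivial. -/
theorem result (K : Type u) [Field K]
    (p : ℕ) [ExpChar K p] (G : Over (Spec (CommRingCat.of K))) [GrpObj G] [IsFinite G.hom] [ConnectedSpace G.left] :
    ∃ n : ℕ, ∀ (X : Over (Spec (CommRingCat.of K))) (a : AlgGrp.Action G X), NonAbH1.IsTorsorFor Scheme.fppfPrecoverage a →
      NonAbH1.HasSectionOver X (Spec.map (CommRingCat.ofHom (iterateFrobenius K p n))) := by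
  refine ⟨G.hom.finrank (IsLocalRing.closedPoint K), fun X a h => ?_⟩
  set N := G.hom.finrank (IsLocalRing.closedPoint K)
  have h' : NonAbH1.IsTorsorFor Scheme.fpqcPrecoverage a :=
    ⟨h.1, h.2.choose, Scheme.fppfPrecoverage_le_fpqcPrecoverage _ h.2.choose_spec.1, h.2.choose_spec.2⟩
  obtain ⟨L, _, _, π, hπ, _, _, hdeg, hfac⟩ := TorsorSch25.exists_residue h'
  have hexp : IsPurelyInseparable.exponent K L ≤ N := by
    by_contra hc
    obtain ⟨x, hx⟩ := IsPurelyInseparable.exponent_min' (K := K) (L := L) p (not_le.1 hc)
    refine hx ?_
    have h1 : p ^ IsPurelyInseparable.elemExponent K x ≤ N :=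
      le_trans ((IsPurelyInseparable.minpoly_natDegree_eq' K p x).symm.le.trans (minpoly.natDegree_le x)) hdeg
    rcases (expChar_is_prime_or_one K p) with hp | hp
    · have h2 : IsPurelyInseparable.elemExponent K x ≤ N := ((Nat.lt_pow_self hp.one_lt).le).trans h1
      obtain ⟨d, hd⟩ := Nat.exists_eq_add_of_le h2
      rw [hd, pow_add, pow_mul]
      exact pow_mem (IsPurelyInseparable.elemExponent_def' K p x) _
    · subst hp
      simpa using IsPurelyInseparable.elemExponent_def' K 1 x
  let F := IsPurelyInseparable.iterateFrobenius K L p hexp
  refine ⟨Spec.map (CommRingCat.ofHom F) ≫ π, ?_⟩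
  rw [Category.assoc, hπ, ← Spec.map_comp, ← CommRingCat.ofHom_comp,
    show F.comp (algebraMap K L) = iterateFrobenius K p N from
      RingHom.ext fun x => (IsPurelyInseparable.iterateFrobenius_algebraMap L p hexp x).trans (iterateFrobenius_def ..).symm]

end Groth.Agent.S18318
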