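import Groth.Statements.S18329
import Groth.Agent.Lib.SepTensor20.Main
import Mathlib.RingTheory.HopfAlgebra.Basic

set_option autoImplicit false
universe u
open TensorProduct
open SGA3

namespace Groth.Agent.S18329

/-- Let k be an algebraically closed field of prime characteristic p and A a commutative Hopf algebra
over k, the coordinate ring of an affine k-group G, quotient groups of G being read as
sub-Hopf-algebras of A (subalgebras stable under comultiplication and antipode). Let B₀ be the
subalgebra of elements of A that are separable over k (its spectrum is the group of connected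
components π₀(G)) and let C be the largest cocommutative sub-Hopf-algebra of A (its spectrum is the
largest commutative quotient group G_ab). Then B₀ ⊓ C, whose spectrum is π₀(G_ab), is the largest
cocommutative sub-Hopf-algebra of A contained in B₀, whose spectrum is the largest commutative
quotient of π₀(G): the canonical homomorphism from π₀(G_ab) to (π₀(G))_ab is an isomorphism. (The
abelianization is rendered through its universal property among affine quotient groups, as the
largest cocommutative sub-Hopf-algebra, rather than as the quotient by the derived subgroup.) -/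
theorem result (k A : Type u) [Field k] [IsAlgClosed k]
    (p : ℕ) [Fact p.Prime] [CharP k p] [CommRing A] [HopfAlgebra k A]
    (B₀ : Subalgebra k A) (hB₀ : ∀ a : A, a ∈ B₀ ↔ IsSeparable k a)
    (C : Subalgebra k A) (hC : SGA3.IsHopfSubalgebra k A C)
    (hCc : ∀ c ∈ C, TensorProduct.comm k A A (Coalgebra.comul c) = Coalgebra.comul c)
    (hCmax : ∀ D : Subalgebra k A, SGA3.IsHopfSubalgebra k A D →
      (∀ d ∈ D, TensorProduct.comm k A A (Coalgebra.comul d) = Coalgebra.comul d) → D ≤ C) :
    IsGreatest {D : Subalgebra k A | SGA3.IsHopfSubalgebra k A D ∧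
      (∀ d ∈ D, TensorProduct.comm k A A (Coalgebra.comul d) = Coalgebra.comul d) ∧ D ≤ B₀}
      (B₀ ⊓ C) := by
  refine ⟨⟨⟨fun b hb => ?_, fun b hb => ?_⟩, fun d hd => hCc d hd.2, inf_le_left⟩, fun D hD => ?_⟩
  · obtain ⟨hbB, hbC⟩ := hb
    obtain ⟨c, hc⟩ := hC.1 b hbC
    let ι2 := Algebra.TensorProduct.map C.val C.val
    have hι : Function.Injective ι2 :=
      TensorProduct.map_injective_of_flat_flat C.val.toLinearMap C.val.toLinearMap Subtype.val_injective
        Subtype.val_injective
    have hbs := (hB₀ b).1 hbB
    have hcs : IsSeparable k c := by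
      have h1 : IsSeparable k (ι2 c) := by
        show IsSeparable k (TensorProduct.map C.val.toLinearMap C.val.toLinearMap c)
        rw [hc]
        refine hbs.of_dvd (minpoly.dvd k _ ?_)
        have := congrArg (Bialgebra.comulAlgHom k A) (minpoly.aeval k b)
        rw [← Polynomial.aeval_algHom_apply, map_zero] at this
        exact this
      show (minpoly k c).Separable
      rw [← minpoly.algHom_eq ι2 hι c]
      exact h1
    have hspan := Submodule.apply_mem_span_image_of_mem_span ι2.toLinearMap (SepTensor20.mem_span_tmul_idempotent hcs)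
    refine SetLike.le_def.1 (Submodule.span_le.2 ?_) (show CoalgebraStruct.comul b ∈ _ from hc ▸ hspan)
    rintro _ ⟨_, ⟨f, g, hf, hg, rfl⟩, rfl⟩
    have hmem : ∀ e : C, IsIdempotentElem e → (e : A) ∈ B₀ ⊓ C := fun e he =>
      ⟨(hB₀ _).2 (SepTensor20.isSeparable_of_isIdempotentElem (he.map C.val)), e.2⟩
    exact ⟨(⟨f, hmem f hf⟩ : ↥(B₀ ⊓ C)) ⊗ₜ (⟨g, hmem g hg⟩ : ↥(B₀ ⊓ C)), rfl⟩
  · refine ⟨(hB₀ _).2 ?_, hC.2 b hb.2⟩
    refine ((hB₀ b).1 hb.1).of_dvd (minpoly.dvd k _ ?_)
    have := congrArg (HopfAlgebra.antipodeAlgHom k A) (minpoly.aeval k b)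
    rw [← Polynomial.aeval_algHom_apply, map_zero] at this
    exact this
  · exact le_inf hD.2.2 (hCmax D hD.1 hD.2.1)


end Groth.Agent.S18329
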