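import Groth.Statements.S18332
import Groth.Agent.Lib.AlgGerbe16.InertiaComp
import Groth.Agent.Lib.QDM14.Basic
import Groth.Agent.Lib.FiniteMor15.Basic
import Groth.Agent.Lib.StAlg16.QSBase

set_option autoImplicit false
universe u
open AlgSt

namespace Groth.Agent.S18332
open CategoryTheory AlgebraicGeometry Groth.Agent.FC16 Groth.Agent.StAlg Groth.Agent.StAlg16 Groth.Agent.AlgGerbe16 in
set_option backward.isDefEq.respectTransparency false in
set_option backward.isDefEq.respectTransparency.types false in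
theorem aux (S : Scheme.{u}) (𝒳 : AlgSt.Cat S) (h𝒳 : AlgSt.IsAlgStack Scheme.fppfPrecoverage 𝒳) (hqf : AlgSt.IsQuasiDMOver 𝒳) (M : AlgSp.Sp S) (hM : AlgSp.IsAlgSpace M) (π : 𝒳 ⥤ᵇ AlgSt.ofSp M) (hsep : AlgSt.IsSeparatedMor π) :
    AlgSt.RepByAlgSpWith AlgSp.IsFiniteMor (FibCat.inertiaToBase (FibCat.toSelf 𝒳)) := by
  have gX := h𝒳.isStack.1
  have hM' := isAlgStack_ofSp hM
  have h1 : AlgSt.RepByAlgSpWith AlgSp.IsProperMor (FibCat.inertiaToBase (FibCat.toSelf 𝒳)) :=
    (with_congr (f := FibCat.inertiaToBase (FibCat.toSelf 𝒳)) (f' := FibCat.inertiaToBase π)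
      (a := inertiaCast π) (b := BasedFunctor.id _) (inertiaCast_isEquivOver π) isEquivOver_id (Iso.refl _)).2
      (with_inertiaToBase gX hM'.isStack.1 hsep)
  have h2 := (Groth.Agent.QDM14.lqf_inertia_iff h𝒳 isAlgStack_selfOver (FibCat.toSelf 𝒳)).2 hqf
  have gI := inertia_isFibGrpd gX (presCart_of_isFibGrpd (isAlgStack_selfOver (S := S)).isStack.1 (FibCat.toSelf 𝒳))
  exact repByAlgSpWith_mono (fun _ hF U _ ha => Groth.Agent.FiniteMor15.isFiniteMor_of_proper_lqf hF (AlgSp.IsAlgSpace.yon_obj U) ha.1 ha.2)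
    (Groth.Agent.StAlg16.with_inf goodP_isProperMor.preIso (preIso_of_pullback pbP_locP) gI gX h1 h2)


open CategoryTheory AlgebraicGeometry in
/-- Let 𝒳 be an algebraic stack over a scheme S which is locally of finite presentation over S and whose
diagonal over S is quasi-compact, separated and locally quasi-finite. If 𝒳 has a coarse moduli space
π : 𝒳 → M (universal for morphisms to algebraic spaces and bijective on isomorphism classes of
points with values in algebraically closed fields) such that π is separated, then the inertia of 𝒳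
over S is finite over 𝒳. (The converse implication is the Keel–Mori existence result. The diagonal
conditions are taken relative to S; with the absolute conditions, over the integers, the assertion
is the same Zariski-locally on S.) -/
theorem result (S : Scheme.{u}) (𝒳 : AlgSt.Cat S)
    (h𝒳 : AlgSt.IsAlgStack Scheme.fppfPrecoverage 𝒳)
    (hΔ : AlgSt.RepByAlgSpWith (AlgSp.IsSeparatedMor ⊓ AlgSp.IsQuasiCompactMor) (FibCat.diag (FibCat.toSelf 𝒳)))
    (hqf : AlgSt.IsQuasiDMOver 𝒳)
    (hfp : AlgSt.LocQ (AlgSp.LocP @LocallyOfFinitePresentation) (FibCat.toSelf 𝒳))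
    (M : AlgSp.Sp S) (π : 𝒳 ⥤ᵇ AlgSt.ofSp M) (hπ : AlgSt.IsCoarseModuli π)
    (hsep : AlgSt.IsSeparatedMor π) :
    AlgSt.RepByAlgSpWith AlgSp.IsFiniteMor (FibCat.inertiaToBase (FibCat.toSelf 𝒳)) := by
  exact aux S 𝒳 h𝒳 hqf M hπ.1.1 π hsep

end Groth.Agent.S18332
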