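import Groth.Statements.S18333
import Groth.Agent.Lib.QdmSlice16.Sigma

set_option autoImplicit false
universe u
open AlgSt

namespace Groth.Agent.S18333

open CategoryTheory AlgebraicGeometry in
/-- Let 𝒳 be an algebraic stack over a scheme S which is locally of finite presentation over S and whose
diagonal over S is quasi-compact, separated and locally quasi-finite. Then there are a scheme W over
S and a morphism W → 𝒳 (a functor from (Sch/W) over (Sch/S)) which is representable by algebraic
spaces, flat, locally of finite presentation, locally quasi-finite and surjective. (The source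
phrases this as a covering of 𝒳 by open substacks each admitting a quasi-finite, flat, finitely
presented scheme covering; the disjoint union of those coverings is the W here.) -/
theorem result (S : Scheme.{u}) (𝒳 : AlgSt.Cat S)
    (h𝒳 : AlgSt.IsAlgStack Scheme.fppfPrecoverage 𝒳)
    (hΔ : AlgSt.RepByAlgSpWith (AlgSp.IsSeparatedMor ⊓ AlgSp.IsQuasiCompactMor) (FibCat.diag (FibCat.toSelf 𝒳)))
    (hqf : AlgSt.IsQuasiDMOver 𝒳)
    (hfp : AlgSt.LocQ (AlgSp.LocP @LocallyOfFinitePresentation) (FibCat.toSelf 𝒳)) :
    ∃ (W : Over S) (w : FibCat.overCat W ⥤ᵇ 𝒳),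
      AlgSt.RepByAlgSpWith
        (AlgSp.LocP (@Flat ⊓ @LocallyOfFinitePresentation ⊓ @LocallyQuasiFinite) ⊓ AlgSp.IsSurjectiveMor) w := by
  exact Groth.Agent.QdmSlice16.exists_lqf_cover h𝒳 hqf

end Groth.Agent.S18333
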