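import Groth.Statements.S18334
import Groth.Agent.Lib.Coarse16.Ext
import Groth.Agent.Lib.AlgSpDecent.RedInduced
import Groth.Agent.Lib.AlgSpDescent.MonoLft
import Groth.Agent.Lib.AlgSpace.DVRSeparated
-- import your own Groth.Agent.* helpers here

set_option autoImplicit false
universe u
open AlgSt

namespace Groth.Agent.S18334

open CategoryTheory CategoryTheory.Functor CategoryTheory.Limits AlgebraicGeometry Opposite

set_option linter.style.haveILetI false
set_option backward.isDefEq.respectTransparency false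
set_option backward.isDefEq.respectTransparency.types false

open Groth.Agent.FC16 hiding overMap
open Groth.Agent.StAlg Groth.Agent.StAlg16 AlgSt

theorem app_injective {S : Scheme.{u}} {Z M : AlgSp.Sp S} (i : Z ⟶ M) [Mono i] (T : (Over S)ᵒᵖ) :
    Function.Injective (i.hom.app T) := by
  haveI : Mono i.hom := inferInstanceAs (Mono ((sheafToPresheaf (AlgSp.J S) _).map i))
  haveI := (NatTrans.mono_iff_mono_app i.hom).1 ‹_› T
  exact (mono_iff_injective _).1 ‹_›

theorem exists_sec_of_reduced {S : Scheme.{u}} {Z M : AlgSp.Sp S} (i : Z ⟶ M)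
    (hi : AlgSp.RepWith @IsClosedImmersion i) (hs : Set.range (AlgSp.Points.map i) = Set.univ)
    (U : Over S) [IsReduced U.left] (u : M.obj.obj (op U)) :
    ∃ z : Z.obj.obj (op U), i.hom.app _ z = u := by
  let g : (AlgSp.yon S).obj U ⟶ M := ObjectProperty.homMk (uliftYonedaEquiv.symm u)
  obtain ⟨R, r, fst, sq⟩ := hi.1 g
  haveI : IsClosedImmersion r.left := hi.2 g _ _ sq
  haveI : Surjective r.left := ⟨fun t => by
    obtain ⟨p, hp⟩ : AlgSp.Points.ofPt g t ∈ Set.range (AlgSp.Points.map i) := hs.symm ▸ Set.mem_univ _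
    obtain ⟨v, -, hv⟩ := Groth.Agent.AlgSpace.exists_pt_of_isPullback sq hp
    exact ⟨v, hv⟩⟩
  haveI : IsIso r.left := isIso_of_isClosedImmersion_of_surjective r.left
  haveI : IsIso ((Over.forget S).map r) := ‹_›
  haveI : IsIso r := isIso_of_reflects_iso r (Over.forget S)
  have h1 : i.hom.app _ (fst.hom.app (op R) ⟨𝟙 R⟩) = M.obj.map r.op u := by
    have e := congrArg (fun q : (AlgSp.yon S).obj R ⟶ M => q.hom.app (op R) ⟨𝟙 R⟩) sq.w
    have he : (((AlgSp.yon S).map r).hom.app (op R) ⟨𝟙 R⟩).down = r := Category.id_comp r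
    simp [g, uliftYonedaEquiv] at e
    rw [he] at e
    exact e
  refine ⟨Z.obj.map (inv r).op (fst.hom.app (op R) ⟨𝟙 R⟩), ?_⟩
  rw [NatTrans.naturality_apply, h1, Quot16.map_map]
  simp

theorem exists_sec {S : Scheme.{u}} {𝒳 : AlgSt.Cat S} (gX : FibCat.IsFibGrpd 𝒳.p) {U : Over S}
    {x : FibCat.overCat U ⥤ᵇ 𝒳} (hsm : AlgSt.RepByAlgSpWith (AlgSp.LocP @Smooth) x)
    (hsu : AlgSt.RepByAlgSpWith AlgSp.IsSurjectiveMor x) [IsReduced U.left] {Z M : AlgSp.Sp S} (i : Z ⟶ M) [Mono i]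
    (hi : AlgSp.RepWith @IsClosedImmersion i) (hs : Set.range (AlgSp.Points.map i) = Set.univ)
    (π : 𝒳 ⥤ᵇ AlgSt.ofSp M) (a : 𝒳.obj) :
    ∃ z : Z.obj.obj (op (𝒳.p.obj a)), i.hom.app _ z = pval π a := by
  haveI := FC16.isFibered gX
  let y := ofObj (𝒳 := 𝒳) (x := a) (U := 𝒳.p.obj a) rfl
  obtain ⟨T', k, m, _, _, _, ⟨j⟩⟩ :=
    GerbAbs.Chart.exists_lift_cover gX (overCat_isFibGrpd U) hsm hsu y
  let w : (FibCat.overCat U).obj := m.obj (Over.mk (𝟙 T'))
  let top : (FibCat.overCat U).obj := Over.mk (𝟙 U)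
  obtain ⟨z₀, hz₀⟩ := exists_sec_of_reduced i hi hs U (pval (BasedFunctor.comp x π) top)
  let wt : w ⟶ top := Over.homMk w.hom (by simp [top])
  have hw : i.hom.app _ (Z.obj.map wt.left.op z₀) = pval (BasedFunctor.comp x π) w := by
    rw [NatTrans.naturality_apply]
    exact (congrArg (fun t => M.obj.map wt.left.op t) hz₀).trans (pval_nat (BasedFunctor.comp x π) wt)
  let n : (AlgSt.overMap k).obj (Over.mk (𝟙 T')) ⟶ Over.mk (𝟙 (𝒳.p.obj a)) :=
    Over.homMk k (by show k ≫ 𝟙 _ = 𝟙 T' ≫ k; simp)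
  haveI := ofObjIso_lift (𝒳 := 𝒳) (x := a) (U := 𝒳.p.obj a) rfl
  haveI l1 := isHomLift_appIso_hom j (Over.mk (𝟙 T')) (U := T') rfl
  haveI : (FibCat.overCat (𝒳.p.obj a)).p.IsHomLift k n := IsHomLift.map (FibCat.overCat (𝒳.p.obj a)).p n
  haveI : 𝒳.p.IsHomLift k (y.map n) := BasedFunctor.preserves_isHomLift y k n
  let α : x.obj w ⟶ a := (appIso j (Over.mk (𝟙 T'))).inv ≫ y.map n ≫ (ofObjIso (𝒳 := 𝒳) (x := a) rfl).hom
  haveI l : 𝒳.p.IsHomLift k α := by
    have := (inferInstance : 𝒳.p.IsHomLift (𝟙 T' ≫ k ≫ 𝟙 _)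
      ((appIso j (Over.mk (𝟙 T'))).inv ≫ y.map n ≫ (ofObjIso (𝒳 := 𝒳) (x := a) rfl).hom))
    simpa using this
  have hT : 𝒳.p.obj (x.obj w) = T' := IsHomLift.domain_eq 𝒳.p k α
  have key : ∃ z' : Z.obj.obj (op T'), i.hom.app _ z' = M.obj.map k.op (pval π a) := by
    have hxw : (FibCat.overCat U).p.obj w = T' := (x.w_obj w).symm.trans hT
    refine ⟨Z.obj.map (eqToHom hxw.symm).op (Z.obj.map wt.left.op z₀), ?_⟩
    rw [NatTrans.naturality_apply]
    refine (congrArg (fun t => M.obj.map (eqToHom hxw.symm).op t) hw).trans ?_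
    rw [Coarse16.pval_pre, ← pval_nat π α, IsHomLift.fac' 𝒳.p k α, Quot16.map_map, Quot16.map_map]
    congr 2
    simp
  obtain ⟨z', hz'⟩ := key
  have hmem : ∀ (N : AlgSp.Sp S), Presieve.IsSheafFor N.obj (Presieve.singleton k) := fun N => by
    rw [Presieve.isSheafFor_iff_generate]
    exact ((isSheaf_iff_isSheaf_of_type _ _).1 N.property) _
      (GerbAbs.Chart.mem_of_cover k (Sieve.le_generate _ _ _ (Presieve.singleton_self k)))
  obtain ⟨z, hz, -⟩ := Presieve.isSheafFor_singleton.1 (hmem Z) z' (fun {V} p₁ p₂ hp => by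
    apply app_injective i
    rw [NatTrans.naturality_apply, NatTrans.naturality_apply, hz', Quot16.map_map, Quot16.map_map, hp])
  refine ⟨z, (hmem M).isSeparatedFor.ext fun V l hl => ?_⟩
  obtain ⟨⟩ := hl
  rw [← NatTrans.naturality_apply, hz, hz']

theorem isIso_of_isCatModuli {S : Scheme.{u}} {𝒳 : AlgSt.Cat S} (h𝒳 : AlgSt.IsAlgStack Scheme.fppfPrecoverage 𝒳)
    (hred : AlgSt.SmoothLocally (fun X => AlgebraicGeometry.IsReduced X) 𝒳)
    {Z M : AlgSp.Sp S} (hZ : AlgSp.IsAlgSpace Z) (i : Z ⟶ M)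
    (hi : AlgSp.RepWith @IsClosedImmersion i) (hs : Set.range (AlgSp.Points.map i) = Set.univ)
    (π : 𝒳 ⥤ᵇ AlgSt.ofSp M) (hπ : AlgSt.IsCatModuli π) : IsIso i := by
  haveI := AlgSpDescent.mono_of_repWith_closedImmersion hi
  obtain ⟨U, x, hsm, hsu⟩ := h𝒳.atlas
  haveI : IsReduced U.left := hred U x hsm
  choose z hz using exists_sec h𝒳.isStack.1 hsm hsu i hi hs π
  let φ : 𝒳 ⥤ᵇ AlgSt.ofSp Z :=
    { toFunctor :=
        { obj := fun a => ⟨𝒳.p.obj a, z a⟩
          map := fun {a b} f => ⟨𝒳.p.map f, app_injective i _ (by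
            rw [NatTrans.naturality_apply, hz, hz, pval_nat])⟩
          map_id := fun a => Stk.EltObj.hom_ext (𝒳.p.map_id a)
          map_comp := fun f g => Stk.EltObj.hom_ext (𝒳.p.map_comp f g) }
      w := rfl }
  have hφ : ∀ a, pval φ a = z a := fun a => by
    unfold pval
    show Z.obj.map (eqToHom rfl).op (z a) = z a
    simp
  obtain ⟨g, ⟨eg⟩, -⟩ := hπ.2 Z hZ φ
  obtain ⟨g₁, -, huniq⟩ := hπ.2 M hπ.1 π
  have e : g ≫ i = 𝟙 M := by
    refine (huniq _ ⟨isoOfPval fun a => ?_⟩).trans (huniq _ ⟨isoOfPval fun a => ?_⟩).symm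
    · refine (pval_ofPshMap π _ a).trans ?_
      show i.hom.app _ (g.hom.app _ (pval π a)) = pval π a
      rw [← pval_ofPshMap π g.hom a]
      exact (congrArg (i.hom.app _) ((pval_hom eg.hom a).trans (hφ a))).trans (hz a)
    · exact pval_ofPshMap π _ a
  exact ⟨g, (cancel_mono i).1 (by rw [Category.assoc, e, Category.comp_id, Category.id_comp]), e⟩

end Groth.Agent.S18334

namespace Groth.Agent.S18334

open CategoryTheory AlgebraicGeometry in
/-- Let S be a locally Noetherian scheme and 𝒳 an algebraic stack of finite type over S with finite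
diagonal over S, and let π : 𝒳 → M be its coarse moduli space (here: a categorical moduli space in
algebraic spaces, which for finite inertia is the Keel–Mori one). If 𝒳 is reduced then the algebraic
space M is reduced. -/
theorem result (S : Scheme.{u}) [IsLocallyNoetherian S]
    (𝒳 : AlgSt.Cat S) (h𝒳 : AlgSt.IsAlgStack Scheme.fppfPrecoverage 𝒳)
    (hft : AlgSt.LocQ (AlgSp.LocP @LocallyOfFiniteType) (FibCat.toSelf 𝒳)) (hqc : AlgSt.IsQuasiCompact 𝒳)
    (hΔ : AlgSt.RepByAlgSpWith AlgSp.IsFiniteMor (FibCat.diag (FibCat.toSelf 𝒳)))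
    (hI : AlgSt.RepByAlgSpWith AlgSp.IsFiniteMor (FibCat.inertiaToBase (FibCat.toSelf 𝒳)))
    (hred : AlgSt.SmoothLocally (fun X => AlgebraicGeometry.IsReduced X) 𝒳)
    (M : AlgSp.Sp S) (π : 𝒳 ⥤ᵇ AlgSt.ofSp M) (hπ : AlgSt.IsCatModuli π) :
    AlgSp.EtaleLocally (fun U => AlgebraicGeometry.IsReduced U) M := by
  obtain ⟨Z, i, hi, hs, hZred⟩ := Groth.Agent.AlgSpDecent.RedInduced.exists_isRedInduced ⟨M, hπ.1⟩ Set.univ isClosed_univ
  haveI : IsIso i.hom := isIso_of_isCatModuli h𝒳 hred Z.property i.hom hi hs π hπ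
  obtain ⟨V, p, hpe, hps, hV⟩ := hZred
  haveI hm₁ : MorphismProperty.IsMultiplicative (@Etale : MorphismProperty Scheme.{u}) := inferInstance
  haveI hm₂ : MorphismProperty.IsMultiplicative (@Surjective : MorphismProperty Scheme.{u}) := inferInstance
  haveI := hm₁.toContainsIdentities; haveI := hm₂.toContainsIdentities
  haveI : MorphismProperty.RespectsIso (@Etale : MorphismProperty Scheme.{u}) :=
    (inferInstance : MorphismProperty.IsStableUnderBaseChange (@Etale : MorphismProperty Scheme.{u})).respectsIso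
  haveI := hm₁.toIsStableUnderComposition; haveI := hm₂.toIsStableUnderComposition
  exact ⟨V, p ≫ i.hom, Groth.Agent.AlgSpace.repWith_comp hpe (Groth.Agent.AlgSpace.repWith_of_isIso _ i.hom), Groth.Agent.AlgSpace.repWith_comp hps (Groth.Agent.AlgSpace.repWith_of_isIso _ i.hom), hV⟩

end Groth.Agent.S18334
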