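import Groth.Statements.S18340
import Groth.Agent.Lib.ArtinApproxH7.Functor
import Groth.Agent.Lib.ArtinApproxH7.Core
import Groth.Agent.S0598
import Groth.Agent.S0599

set_option autoImplicit false
universe u
open ArtinApx

namespace Groth.Agent.S18340

open CategoryTheory in
/-- Let k be an algebraically closed field, A a finitely generated k-algebra with a maximal ideal m (a
k-point of Spec A), F a functor from commutative A-algebras to sets which preserves filtered
colimits, and ξ an element of F(Â), Â the m-adic completion of A. Then for every natural number N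
there are an étale A-algebra A′, a surjective A-algebra homomorphism ψ : A′ → A/m^(N+1) and an
element ξ′ of F(A′) whose image under F(ψ) is the image of ξ under F of the canonical map Â →
A/m^(N+1). (Affine form of the statement for limit-preserving functors on schemes over a finite-type
k-scheme S with a k-point s: Spec A′ is the étale neighbourhood of s, the kernel of ψ is the
(N+1)-st power of the maximal ideal of the point above s, and the equation says that ξ′ and ξ agree
to order N.) -/
theorem result (k : Type u) [Field k] [IsAlgClosed k]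
    (A : Type u) [CommRing A] [Algebra k A] [Algebra.FiniteType k A] (m : Ideal A) [m.IsMaximal]
    (F : CommAlgCat.{u} A ⥤ Type u) [Limits.PreservesFilteredColimits F]
    (ξ : F.obj (CommAlgCat.of A (AdicCompletion m A))) (N : ℕ) :
    ∃ (A' : Type u) (_ : CommRing A') (_ : Algebra A A') (_ : Algebra.Etale A A')
      (ψ : A' →ₐ[A] (A ⧸ m ^ (N + 1))) (_ : Function.Surjective ψ) (ξ' : F.obj (CommAlgCat.of A A')),
      F.map (CommAlgCat.ofHom ψ) ξ' =
        F.map (CommAlgCat.ofHom (AdicCompletion.evalₐ m (N + 1))) ξ := by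
  haveI : IsAdicComplete (IsLocalRing.maximalIdeal k) k :=
    Groth.Agent.EmbDef.isAdicComplete_of_isNilpotent ⟨1, by rw [pow_one]; exact IsLocalRing.maximalIdeal_eq_bot⟩
  have hG : CAlg.IsGRing A := Groth.Agent.S0599.result k (Groth.Agent.S0598.result k) A
  haveI := hG.1
  have hI : m.FG := IsNoetherian.noetherian m
  let T := AdicCompletion m A
  haveI : IsNoetherianRing T := Compl.isNoetherianRing_adicCompletion m hI
  let J : Ideal T := (m ^ (N + 1)).map (algebraMap A T)
  haveI : HenselianRing T J := Groth.Agent.ArtinApproxH7.henselianRing_pow m hI (N + 1) (Nat.succ_pos N)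
  let R : CommRingCat.{u} := CommRingCat.of A
  let G : Under R ⥤ Type u := (commAlgCatEquivUnder R).inverse ⋙ F
  have hF : ∀ (J : Type u) [SmallCategory J] [IsFiltered J], Limits.PreservesColimitsOfShape J G := fun J _ _ => inferInstance
  let ξ' : G.obj (R.mkUnder T) := F.map ((commAlgCatEquivUnder R).unitIso.hom.app (CommAlgCat.of A T)) ξ
  obtain ⟨n, s, f, ξ₀, hξ₀⟩ := Groth.Agent.ArtinApproxH7.exists_fp_factor (R := R) G hF T ξ'
  let P := MvPolynomial (Fin n) A
  let mk : P →ₐ[A] P ⧸ Ideal.span (s : Set P) := Ideal.Quotient.mkₐ A _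
  let x : Fin n → T := fun i => f (mk (MvPolynomial.X i))
  have hf : f.comp mk = MvPolynomial.aeval x := MvPolynomial.aeval_unique _
  have hx : ∀ q ∈ s, MvPolynomial.aeval x q = 0 := fun q hq => by
    rw [← hf, AlgHom.comp_apply, show mk q = 0 from Ideal.Quotient.eq_zero_iff_mem.2 (Ideal.subset_span hq), map_zero]
  obtain ⟨A', _, _, het, ψ, b, hb, hcong⟩ := Groth.Agent.ArtinApproxH7.exists_etale_solution
    (Groth.Agent.GRing6.isRegularHom_adicCompletion A hG m) J (fun z => by
      obtain ⟨r, hr⟩ := Groth.Agent.ArtinApproxH7.exists_approx m hI (N + 1) z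
      exact ⟨1, r, by rw [map_one]; exact isUnit_one, by rwa [map_one, one_mul]⟩)
    (fun i : Fin s.card => (s.equivFin.symm i).1) x (fun i => hx _ (s.equivFin.symm i).2)
  let g : (P ⧸ Ideal.span (s : Set P)) →ₐ[A] A' := Ideal.Quotient.liftₐ _ (MvPolynomial.aeval b) fun q hq =>
    (Ideal.span_le (I := RingHom.ker (MvPolynomial.aeval b : P →ₐ[A] A'))).2 (fun q' hq' => by
      have h1 := hb (s.equivFin ⟨q', hq'⟩)
      rw [Equiv.symm_apply_apply] at h1
      exact h1) hq
  let p : T →ₐ[A] A ⧸ m ^ (N + 1) := AdicCompletion.evalₐ m (N + 1)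
  let uQ := (commAlgCatEquivUnder R).unitIso.inv.app (CommAlgCat.of A (P ⧸ Ideal.span (s : Set P)))
  let uT := (commAlgCatEquivUnder R).unitIso.inv.app (CommAlgCat.of A T)
  let ζ : F.obj (CommAlgCat.of A (P ⧸ Ideal.span (s : Set P))) := F.map uQ ξ₀
  have h1 : F.map (CommAlgCat.ofHom f) ζ = ξ := by
    have e : uQ ≫ CommAlgCat.ofHom f =
        (commAlgCatEquivUnder R).inverse.map (AlgHom.toUnder (R := R) f) ≫ uT := by
      ext z
      rfl
    refine (FunctorToTypes.map_comp_apply F _ _ _).symm.trans ((congrArg (fun h => F.map h ξ₀) e).trans ?_)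
    refine (FunctorToTypes.map_comp_apply F _ _ _).trans ?_
    change F.map uT (G.map (AlgHom.toUnder (R := R) f) ξ₀) = ξ
    rw [hξ₀]
    refine (FunctorToTypes.map_comp_apply F _ _ _).symm.trans ?_
    have e2 : (commAlgCatEquivUnder R).unitIso.hom.app (CommAlgCat.of A T) ≫ uT = 𝟙 (CommAlgCat.of A T) := by
      ext z
      rfl
    exact (congrArg (fun h => F.map h ξ) e2).trans (FunctorToTypes.map_id_apply F ξ)
  refine ⟨A', inferInstance, inferInstance, het, p.comp ψ, fun z => ?_, F.map (CommAlgCat.ofHom g) ζ, ?_⟩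
  · obtain ⟨z, rfl⟩ := Ideal.Quotient.mk_surjective z
    exact ⟨algebraMap A A' z, AlgHom.commutes _ z⟩
  have hcomp : (p.comp ψ).comp g = p.comp f := Ideal.Quotient.algHom_ext _ (MvPolynomial.algHom_ext fun i => by
    show p (ψ (MvPolynomial.aeval b (MvPolynomial.X i))) = p (x i)
    rw [MvPolynomial.aeval_X, eq_comm, ← sub_eq_zero, ← map_sub]
    exact (Groth.Agent.ArtinApproxH7.mem_map_pow_iff m hI (N + 1) _).1 (hcong i))
  have key : CommAlgCat.ofHom g ≫ CommAlgCat.ofHom (p.comp ψ) = CommAlgCat.ofHom f ≫ CommAlgCat.ofHom p := by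
    ext z
    exact AlgHom.congr_fun hcomp z
  refine (FunctorToTypes.map_comp_apply F _ _ _).symm.trans ((congrArg (fun h => F.map h ζ) key).trans ?_)
  rw [FunctorToTypes.map_comp_apply, h1]

end Groth.Agent.S18340
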