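import Groth.Statements.S18342
import Groth.Agent.Lib.SlopeDual17.HomDeg

set_option autoImplicit false
universe u
open CategoryTheory CategoryTheory.Limits AlgebraicGeometry
open VBCurve

namespace Groth.Agent.S18342

/-- Let k be an algebraically closed field of characteristic zero and X a smooth proper geometrically
connected curve over k (topological dimension one) of genus g ≥ 2. Let E be a finite locally free
O_X-module of rank r ≥ 1 and degree 0, and F a finite locally free O_X-module of rank n ≥ 1 and
degree n(g − 1), degrees being χ − rank · χ(O_X). If every morphism E → F is zero, then E is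
slope-semistable: deg G · r ≤ 0 for every finite locally free submodule G of E of positive rank. The
published statement concerns quasi-parabolic bundles of rank r with trivial determinant and flags at
a finite set of points, and says that for n ≥ ⌈r²/4⌉ the closed substack of bundles that are not
semistable for a given system of weights is the base locus of the parabolic theta functions of order
n, these being attached to semistable F; this row is one inclusion of it (a bundle at which the
theta function of some F does not vanish is semistable) for a single bundle with no parabolic
points, for every n ≥ 1 and every F of the stated rank and degree, with degree 0 in place of trivial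
determinant, and with the vanishing of Hom(E, F) in place of the vanishing of both Hom(E, F) and
Ext^1(E, F). -/
theorem result (k : Type u) [Field k] [IsAlgClosed k] [CharZero k]
    (X : Scheme.{u}) [X.Over (Spec (CommRingCat.of k))]
    [IsProper (X ↘ Spec (CommRingCat.of k))] [Smooth (X ↘ Spec (CommRingCat.of k))]
    [GeometricallyConnected (X ↘ Spec (CommRingCat.of k))] (hdim : topologicalKrullDim ↥X = 1)
    (g : ℕ) (hg : Curv2.genus k X = g) (hg2 : 2 ≤ g)
    (E : X.Modules) (r : ℕ) (hr : 0 < r) (hE : FlatMod.IsFinLocFreeOfRank r E)
    (hEdeg : Curv2.deg k X E r = 0)
    (F : X.Modules) (n : ℕ) (hn : 0 < n) (hF : FlatMod.IsFinLocFreeOfRank n F)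
    (hFdeg : Curv2.deg k X F n = (n : ℤ) * ((g : ℤ) - 1))
    (hhom : ∀ φ : E ⟶ F, φ = 0) :
    ModFun.IsSlopeSemistable k X E r := by
  haveI := VB17.isIntegral_of_smooth (k := k) (X := X)
  have hX := VB17.regCurve (k := k) (X := X) hdim
  haveI := hX.like.noetherian
  intro G r' i hi _ hG
  haveI := hi
  have h0 : Module.finrank k (Coh.HH X (Coh.structureModule X) 0) = 1 := by
    haveI := VB17.connectedSpace_of_geometricallyConnected (k := k) (X := X)
    exact VB17.h0_one_of_smooth
  have hχ : Curv2.euler k X (Coh.structureModule X) = 1 - (g : ℤ) := by
    rw [hX.like.euler_structureModule, h0, hg]; simp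
  have h := SlopeDual17.deg_sub_nonpos hX hdim hn hE hEdeg hF (by rw [hFdeg, hχ]; ring) hhom i hG
  rw [hEdeg, zero_mul]
  exact mul_nonpos_of_nonpos_of_nonneg h (by positivity)


end Groth.Agent.S18342
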