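import Groth.Statements.S18343
import Groth.Agent.Lib.CenterCoh13.Basic
import Groth.Agent.Lib.EffCartier.Comap

set_option autoImplicit false
universe u
open CategoryTheory CategoryTheory.Limits AlgebraicGeometry
open MultCurve

namespace Groth.Agent.S18343

set_option backward.isDefEq.respectTransparency false
set_option backward.isDefEq.respectTransparency.types false

open AlgebraicGeometry CategoryTheory TopologicalSpace Opposite in
theorem mul_eq_zero_stalk {D C : Scheme.{u}} (i : D ⟶ C) [IsClosedImmersion i] (hsq : i.ker ^ 2 = ⊥) (z : D)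
    (a b : C.presheaf.stalk (i z)) (ha : i.stalkMap z a = 0) (hb : i.stalkMap z b = 0) : a * b = 0 := by
  have hbK : ∀ (U : C.affineOpens) (hxU : i z ∈ U.1) (s : Γ(C, U.1)), s ∈ i.ker.ideal U →
      C.presheaf.germ U.1 (i z) hxU s * b = 0 := by
    intro U hxU s hs
    refine CenterCoh13.ker_stalkMap_le i z (LinearMap.ker (LinearMap.mulLeft (C.presheaf.stalk (i z)) (C.presheaf.germ U.1 (i z) hxU s)))
      (fun U' hxU' s' hs' => ?_) b hb
    obtain ⟨c, d, hcd, hzc⟩ := exists_basicOpen_le_affine_inter U.2 U'.2 (i z) ⟨hxU, hxU'⟩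
    let V : C.affineOpens := ⟨C.basicOpen c, U.2.basicOpen c⟩
    have h1 := i.ker.ideal_le_comap_ideal (show V ≤ U from C.basicOpen_le c) hs
    have h2 := i.ker.ideal_le_comap_ideal (show V ≤ U' from hcd.le.trans (C.basicOpen_le d)) hs'
    rw [Ideal.mem_comap] at h1 h2
    have h3 : (C.presheaf.map (homOfLE (show V.1 ≤ U.1 from C.basicOpen_le c)).op s) *
        (C.presheaf.map (homOfLE (show V.1 ≤ U'.1 from hcd.le.trans (C.basicOpen_le d))).op s') ∈ (i.ker ^ 2).ideal V := by
      rw [Scheme.IdealSheafData.ideal_pow, Pi.pow_apply, pow_two]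
      exact Ideal.mul_mem_mul h1 h2
    rw [hsq, Scheme.IdealSheafData.ideal_bot, Pi.bot_apply, Ideal.mem_bot] at h3
    have h4 := congrArg (C.presheaf.germ V.1 (i z) hzc) h3
    rw [map_mul, map_zero] at h4
    erw [TopCat.Presheaf.germ_res_apply, TopCat.Presheaf.germ_res_apply] at h4
    exact h4
  exact CenterCoh13.ker_stalkMap_le i z (LinearMap.ker (LinearMap.mulRight (C.presheaf.stalk (i z)) b)) (fun U hxU s hs => hbK U hxU s hs) a ha

open AlgebraicGeometry CategoryTheory TopologicalSpace Opposite in
theorem stalk_surjective {D C X : Scheme.{u}} (i : D ⟶ C) [IsClosedImmersion i] (hsq : i.ker ^ 2 = ⊥) (f : C ⟶ X)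
    [IsClosedImmersion (i ≫ f)] (hker : (i ≫ f).ker.comap f = i.ker) (z : D) :
    Function.Surjective (f.stalkMap (i z)) := by
  have hcomp : ∀ c, (i ≫ f).stalkMap z c = i.stalkMap z (f.stalkMap (i z) c) := fun c => by
    rw [Scheme.Hom.stalkMap_comp]; rfl
  let KX : Ideal (X.presheaf.stalk ((i ≫ f) z)) := RingHom.ker ((i ≫ f).stalkMap z).hom
  have hJ : ∀ j, i.stalkMap z j = 0 → j ∈ Ideal.map (f.stalkMap (i z)).hom KX := by
    intro j hj
    refine CenterCoh13.ker_stalkMap_le i z _ (fun U' hxU' a ha => ?_) j hj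
    obtain ⟨U, hU, hxU, -⟩ := exists_isAffineOpen_mem_and_subset (x := f (i z)) (U := ⊤) trivial
    obtain ⟨c, hc, hzc⟩ := U'.2.exists_basicOpen_le (V := f ⁻¹ᵁ U) ⟨i z, hxU⟩ hxU'
    let V : C.affineOpens := ⟨C.basicOpen c, U'.2.basicOpen c⟩
    have h1 := i.ker.ideal_le_comap_ideal (show V ≤ U' from C.basicOpen_le c) ha
    rw [Ideal.mem_comap, ← hker, Groth.Agent.EffCartier.comap_ideal _ f ⟨U, hU⟩ V hc] at h1
    have h2 := Ideal.mem_map_of_mem (C.presheaf.germ V.1 (i z) hzc).hom h1
    erw [TopCat.Presheaf.germ_res_apply] at h2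
    rw [Ideal.map_map] at h2
    refine (Ideal.map_le_iff_le_comap.2 fun s hs => ?_) h2
    rw [Ideal.mem_comap]
    have he : ((C.presheaf.germ V.1 (i z) hzc).hom.comp (f.appLE U V.1 hc).hom) s =
        f.stalkMap (i z) (X.presheaf.germ U (f (i z)) hxU s) := by
      rw [Scheme.Hom.germ_stalkMap_apply]
      show C.presheaf.germ V.1 (i z) hzc (f.appLE U V.1 hc s) = _
      rw [Scheme.Hom.appLE, CommRingCat.comp_apply]
      exact TopCat.Presheaf.germ_res_apply _ _ _ _ _
    rw [he]
    refine Ideal.mem_map_of_mem _ (RingHom.mem_ker.2 ?_)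
    have hs0 : (i ≫ f).app U s = 0 := by
      rw [Scheme.Hom.ker_apply] at hs
      exact RingHom.mem_ker.1 hs
    refine (Scheme.Hom.germ_stalkMap_apply (i ≫ f) U z hxU s).trans ?_
    rw [hs0, map_zero]
  have hlift : ∀ c, ∃ b : X.presheaf.stalk (f (i z)), i.stalkMap z (f.stalkMap (i z) b) = i.stalkMap z c := fun c => by
    obtain ⟨w, hw⟩ := (i ≫ f).stalkMap_surjective z (i.stalkMap z c)
    exact ⟨w, (hcomp w).symm.trans hw⟩
  have hmap : ∀ j ∈ Ideal.map (f.stalkMap (i z)).hom KX, ∃ b, f.stalkMap (i z) b = j := by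
    intro j hj
    induction hj using Submodule.span_induction with
    | mem x hx => obtain ⟨k, -, rfl⟩ := hx; exact ⟨k, rfl⟩
    | zero => exact ⟨0, map_zero _⟩
    | add x y _ _ hx hy =>
      obtain ⟨b, rfl⟩ := hx; obtain ⟨b', rfl⟩ := hy
      exact ⟨b + b', map_add _ _ _⟩
    | smul c x hx' hx =>
      obtain ⟨b, rfl⟩ := hx
      obtain ⟨b', hb'⟩ := hlift c
      refine ⟨b' * b, ?_⟩
      have hker0 : i.stalkMap z (f.stalkMap (i z) b) = 0 := by
        refine (Ideal.map_le_iff_le_comap.2 fun k hk => ?_ : Ideal.map (f.stalkMap (i z)).hom KX ≤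
          RingHom.ker (i.stalkMap z).hom) hx'
        exact RingHom.mem_ker.2 ((hcomp k).symm.trans (RingHom.mem_ker.1 hk))
      have hd : i.stalkMap z (c - f.stalkMap (i z) b') = 0 := by rw [map_sub, hb', sub_self]
      have h0 := mul_eq_zero_stalk i hsq z _ _ hd hker0
      rw [sub_mul, sub_eq_zero] at h0
      erw [map_mul, smul_eq_mul, h0]
  intro a
  obtain ⟨b, hb⟩ := hlift a
  obtain ⟨b', hb'⟩ := hmap (a - f.stalkMap (i z) b) (hJ _ (by rw [map_sub, hb, sub_self]))
  exact ⟨b + b', by erw [map_add, hb', add_sub_cancel]⟩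


/-- Suppose C is a ribbon on the reduced scheme D via the closed immersion i : D ⟶ C (meaning the ideal
of D squares to zero and is locally generated by a single section z whose annihilator lies in (z)),
and consider an arbitrary morphism of schemes f : C ⟶ X. The morphism f is a closed immersion
exactly when two things hold: the composite i ≫ f, i.e. f restricted to D, is a closed immersion,
and pulling back along f the ideal of the scheme-theoretic image of D in X yields the entire ideal
of D in C. This second requirement amounts to surjectivity of the map α_f that sends the pullback of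
the conormal sheaf of the image of D in X onto the conormal bundle of D in C. (The statement is
given for arbitrary schemes and any morphism f; the published version assumes all schemes are of
finite type over a field and D is connected, but the proof relies on neither assumption.) -/
theorem result (D C X : Scheme.{u}) (i : D ⟶ C)
    (hR : MultCurve.IsRibbon i) (f : C ⟶ X) :
    IsClosedImmersion f ↔ (IsClosedImmersion (i ≫ f) ∧ (i ≫ f).ker.comap f = i.ker) := by

  obtain ⟨⟨hi, hsq, -⟩, -⟩ := hR
  refine ⟨fun hf => ⟨inferInstance, ?_⟩, fun ⟨hcl, hker⟩ => ?_⟩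
  · refine Scheme.IdealSheafData.ext_of_iSup_eq_top (fun U : X.affineOpens => (⟨f ⁻¹ᵁ U.1, U.2.preimage f⟩ : C.affineOpens))
      (by rw [← Scheme.Hom.preimage_iSup, iSup_affineOpens_eq_top, Scheme.Hom.preimage_top]) fun U => ?_
    rw [Groth.Agent.EffCartier.comap_ideal _ f U ⟨f ⁻¹ᵁ U.1, U.2.preimage f⟩ le_rfl, Scheme.Hom.ker_apply,
      Scheme.Hom.ker_apply, Scheme.Hom.appLE_eq_app, Scheme.Hom.comp_app, CommRingCat.hom_comp, ← RingHom.comap_ker]
    exact Ideal.map_comap_of_surjective _ (f.app_surjective U.1 U.2) _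
  · have hsurj : Function.Surjective i := by
      rw [← Set.range_eq_univ]
      have h : i.ker.support = (⊥ : C.IdealSheafData).support := by
        rw [← hsq, Scheme.IdealSheafData.support_pow_succ]
      have h' := congrArg (fun K : TopologicalSpace.Closeds C => (K : Set C)) h
      simp only [Scheme.Hom.support_ker, Scheme.IdealSheafData.support_bot, TopologicalSpace.Closeds.coe_top] at h'
      simpa [i.isClosedEmbedding.isClosed_range.closure_eq] using h'
    let e := (Equiv.ofBijective i ⟨i.isClosedEmbedding.injective, hsurj⟩).toHomeomorphOfIsInducing i.isClosedEmbedding.isInducing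
    haveI : SurjectiveOnStalks f := ⟨fun x => by
      obtain ⟨z, rfl⟩ := hsurj x
      exact stalk_surjective i hsq f hker z⟩
    refine ⟨?_⟩
    have h := (i ≫ f).isClosedEmbedding.comp e.symm.isClosedEmbedding
    convert h using 1
    funext x
    exact congrArg f (e.apply_symm_apply x).symm

end Groth.Agent.S18343
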