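import Groth.Prelude.Def_MultCurve
import Groth.Prelude.Def_Omega3
import Mathlib.Algebra.Homology.DerivedCategory.Ext.ExtClass
import Mathlib.AlgebraicGeometry.Morphisms.FiniteType
import Groth.Agent.Lib.GrMap12.Split
import Groth.Agent.Lib.ExtThick23.Basic
import Groth.Agent.Lib.ConormalBC19.Basic
import Mathlib.Algebra.Homology.DerivedCategory.Ext.ExactSequences
-- import your own Groth.Agent.* helpers here

namespace MultCurve
end MultCurve

set_option autoImplicit false
set_option linter.style.haveILetI false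
set_option backward.isDefEq.respectTransparency false
set_option backward.isDefEq.respectTransparency.types false
universe w u
open CategoryTheory CategoryTheory.Limits AlgebraicGeometry
open MultCurve

namespace Groth.Agent.S18345

/-- The endomorphism of a square-zero thickening which kills the ideal, from a retraction of the conormal map. -/
theorem exists_endo {k : Type u} [Field k] {D C : Scheme.{u}} (i : D ⟶ C) [IsClosedImmersion i]
    (hi : i.ker * i.ker = ⊥) (pC : C ⟶ Spec (CommRingCat.of k))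
    (Ω₁ : C.Modules) (d₁ : OmegaSh.Der pC Ω₁)
    (φ : Omega.conormal i ⟶ (Scheme.Modules.pullback i).obj Ω₁) (hφ : OmegaSh.IsConormalDiff i d₁ φ)
    (ρ : (Scheme.Modules.pullback i).obj Ω₁ ⟶ Omega.conormal i) (hρ : φ ≫ ρ = 𝟙 _) :
    ∃ r : C ⟶ D, i ≫ r = 𝟙 D ∧ r ≫ i ≫ pC = pC := by
  let cs := fun (V : C.Opens) => OmegaSh.conormalSect i V
  have hcs : ∀ V, Function.Bijective (cs V) := fun V => ExtThick23.bijective_conormalSect i hi V
  let δ : ∀ V : C.Opens, Γ(C, V) → Γ(Omega.conormal i, i ⁻¹ᵁ V) := fun V a =>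
    ρ.app (i ⁻¹ᵁ V) (OmegaSh.pullSect i Ω₁ V (d₁.app V a))
  choose σ hσ using fun (V : C.Opens) (a : Γ(C, V)) => (hcs V).2 (δ V a)
  let ι := fun {V : C.Opens} (s : Γ(ClSub.idealMod i.ker, V)) => M2.idealIncl i.ker s
  have hker : ∀ {V : C.Opens} (s : Γ(ClSub.idealMod i.ker, V)), i.app V (ι s) = 0 := fun {V} s => by
    refine ConormalBC19.app_eq_zero_of_eq (Scheme.Hom.toImage_imageι i) ?_
    rw [Scheme.Hom.comp_app, CommRingCat.comp_apply]
    show i.toImage.app _ (i.ker.subschemeι.app V (M2.idealIncl i.ker s)) = 0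
    rw [M2.subschemeι_app_idealIncl, map_zero]
  have hmul0 : ∀ {V : C.Opens} (s t : Γ(ClSub.idealMod i.ker, V)), ι s * ι t = 0 :=
    fun s t => PicH1_21.idealIncl_mul_idealIncl hi s t
  have hιadd : ∀ {V : C.Opens} (s t : Γ(ClSub.idealMod i.ker, V)), ι (s + t) = ι s + ι t :=
    fun s t => M2.idealIncl_add i.ker s t
  have δadd : ∀ V a b, δ V (a + b) = δ V a + δ V b := fun V a b => by
    show ρ.app _ (OmegaSh.pullSect i Ω₁ V (d₁.app V (a + b))) = _
    rw [map_add]
    exact (congrArg _ (map_add (OmegaSh.pullSect i Ω₁ V).hom _ _)).trans (map_add _ _ _)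
  have σadd : ∀ V a b, σ V (a + b) = σ V a + σ V b := fun V a b => (hcs V).1 (by
    rw [hσ, δadd, ← hσ, ← hσ]
    exact (map_add (OmegaSh.conormalSect i V).hom _ _).symm)
  have δmul : ∀ V a b, δ V (a * b) = i.app V a • δ V b + i.app V b • δ V a := fun V a b => by
    show ρ.app _ (OmegaSh.pullSect i Ω₁ V (d₁.app V (a * b))) = _
    rw [show d₁.app V (a * b) = a • d₁.app V b + b • d₁.app V a from d₁.d_mul _ _]
    refine (congrArg _ (map_add (OmegaSh.pullSect i Ω₁ V).hom _ _)).trans ((map_add _ _ _).trans ?_)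
    refine congrArg₂ (· + ·) ?_ ?_
    all_goals
      refine (congrArg _ (M2.pullSec_smul i Ω₁ _ _)).trans ?_
      exact Scheme.Modules.Hom.app_smul ρ _ _
  have cssmul : ∀ V (a : Γ(C, V)) (s : Γ(ClSub.idealMod i.ker, V)), cs V (a • s) = i.app V a • cs V s :=
    fun V a s => M2.pullSec_smul i (ClSub.idealMod i.ker) a s
  have σmul : ∀ V a b, σ V (a * b) = a • σ V b + b • σ V a := fun V a b => (hcs V).1 (by
    rw [hσ, δmul, ← hσ, ← hσ, ← cssmul, ← cssmul]
    exact (map_add (OmegaSh.conormalSect i V).hom _ _).symm)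
  have σid : ∀ {V : C.Opens} (s : Γ(ClSub.idealMod i.ker, V)), σ V (ι s) = s := fun {V} s => (hcs V).1 (by
    rw [hσ]
    show ρ.app _ (OmegaSh.pullSect i Ω₁ V (d₁.app V (OmegaSh.idealSect i.ker V s))) = _
    rw [← hφ V s]
    exact congrArg (fun m : Omega.conormal i ⟶ Omega.conormal i => m.app (i ⁻¹ᵁ V) (OmegaSh.conormalSect i V s)) hρ)
  have σres : ∀ {V W : C.Opens} (h : W ≤ V) a,
      σ W (C.presheaf.map (homOfLE h).op a) = M1.mres _ h (σ V a) := fun {V W} h a => (hcs W).1 (by
    rw [hσ]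
    refine Eq.trans ?_ (M1.app_mres ((Scheme.Modules.pullbackPushforwardAdjunction i).unit.app
      (ClSub.idealMod i.ker)) h (σ V a)).symm
    show ρ.app _ (OmegaSh.pullSect i Ω₁ W (d₁.app W (C.presheaf.map (homOfLE h).op a))) =
      M1.mres (Omega.conormal i) (i.preimage_mono h) (cs V (σ V a))
    rw [hσ, show d₁.app W (C.presheaf.map (homOfLE h).op a) = M1.mres Ω₁ h (d₁.app V a) from d₁.d_map _ _,
      show OmegaSh.pullSect i Ω₁ W (M1.mres Ω₁ h (d₁.app V a)) =
        M1.mres _ (i.preimage_mono h) (OmegaSh.pullSect i Ω₁ V (d₁.app V a)) from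
          M1.app_mres ((Scheme.Modules.pullbackPushforwardAdjunction i).unit.app Ω₁) h _]
    exact M1.app_mres ρ _ _)
  let e : ∀ V : C.Opens, Γ(C, V) →+* Γ(C, V) := fun V =>
    RingHom.mk' { toFun := fun a => a - ι (σ V a)
                  map_one' := by
                    have h1 : σ V 1 = 0 := by
                      have := σmul V 1 1
                      rw [mul_one, one_smul] at this
                      exact left_eq_add.1 this
                    show (1 : Γ(C, V)) - ι (σ V 1) = 1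
                    rw [h1, show ι (0 : Γ(ClSub.idealMod i.ker, V)) = 0 from PicH1_21.idealIncl_zero _, sub_zero]
                  map_mul' := fun a b => by
                    show a * b - ι (σ V (a * b)) = (a - ι (σ V a)) * (b - ι (σ V b))
                    rw [σmul, hιadd, show ι (a • σ V b) = a * ι (σ V b) from M2.idealIncl_smul _ _ _,
                      show ι (b • σ V a) = b * ι (σ V a) from M2.idealIncl_smul _ _ _]
                    linear_combination -(hmul0 (σ V a) (σ V b)) }
      fun a b => by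
        show a + b - ι (σ V (a + b)) = (a - ι (σ V a)) + (b - ι (σ V b))
        rw [σadd, hιadd]; ring
  have eres : ∀ {V W : C.Opens} (h : W ≤ V) a,
      e W (C.presheaf.map (homOfLE h).op a) = C.presheaf.map (homOfLE h).op (e V a) := fun {V W} h a => by
    show _ - ι (σ W _) = C.presheaf.map _ (a - ι (σ V a))
    rw [map_sub, σres h]
    exact congrArg _ (M2.idealIncl_res i.ker h _)
  let cE : C.presheaf ⟶ (TopCat.Presheaf.pushforward CommRingCat (𝟙 C.toTopCat)).obj C.presheaf :=
    { app := fun U => CommRingCat.ofHom (e U.unop)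
      naturality := fun U V g => CommRingCat.hom_ext (RingHom.ext fun a => eres g.unop.le a) }
  let P : C.toPresheafedSpace ⟶ C.toPresheafedSpace := { base := 𝟙 C.toTopCat, c := cE }
  have hloc : ∀ x : C, IsLocalHom (P.stalkMap x).hom := fun x => ⟨fun t ht => by
    obtain ⟨U, hxU, a, rfl⟩ := C.presheaf.exists_germ_eq t
    have h1 : P.stalkMap x (C.presheaf.germ U x hxU a) = C.presheaf.germ U x hxU (e U a) :=
      PresheafedSpace.stalkMap_germ_apply P U x hxU a
    replace ht : IsUnit (C.presheaf.germ U x hxU (e U a)) := by rw [← h1]; exact ht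
    obtain ⟨W, iW, hxW, hu⟩ := RingedSpace.isUnit_res_of_isUnit_germ C.toRingedSpace U (e U a) x hxU ht
    have hn : IsNilpotent (C.presheaf.map iW.op (ι (σ U a))) := by
      refine ⟨2, ?_⟩
      rw [← map_pow, pow_two, hmul0, map_zero]
    have hua : IsUnit (C.presheaf.map iW.op a) := by
      have h2 : a = e U a + ι (σ U a) := by show a = a - ι (σ U a) + ι (σ U a); ring
      rw [h2, map_add]
      exact hn.isUnit_add_left_of_commute hu (Commute.all _ _)
    have := hua.map (C.presheaf.germ W x hxW).hom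
    rwa [TopCat.Presheaf.germ_res_apply] at this⟩
  let E : C ⟶ C := ⟨⟨P, hloc⟩⟩
  have hEapp : ∀ (V : C.Opens) (a : Γ(C, V)), E.app V a = e V a := fun V a => rfl
  haveI : QuasiCompact E := ⟨fun _ _ hc => hc⟩
  have hle : i.ker ≤ E.ker := by
    intro V a ha
    rw [Scheme.Hom.ker_apply, RingHom.mem_ker] at ha ⊢
    obtain ⟨s, rfl⟩ := GrMap12.exists_idealSect_of_app_eq_zero i a ha
    show ι s - ι (σ V.1 (ι s)) = 0
    rw [σid, sub_self]
  haveI : QuasiCompact E := ⟨fun _ _ hc => hc⟩
  refine ⟨IsClosedImmersion.lift i E hle, ?_, ?_⟩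
  · rw [← cancel_mono i, Category.assoc, IsClosedImmersion.lift_fac, Category.id_comp]
    refine Scheme.Hom.ext (Category.comp_id i.base) fun V => ?_
    refine CommRingCat.hom_ext (RingHom.ext fun a => ?_)
    have h3 : i.app V (E.app V a) = i.app V a := by
      show i.app V (a - ι (σ V a)) = _
      rw [map_sub, hker, sub_zero]
    refine Eq.trans ?_ h3
    exact ConcreteCategory.congr_hom (D.presheaf.map_id _) _
  · rw [← Category.assoc, IsClosedImmersion.lift_fac]
    refine Scheme.Hom.ext (Category.id_comp pC.base) fun U => ?_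
    refine CommRingCat.hom_ext (RingHom.ext fun a => ?_)
    have hd : δ (pC ⁻¹ᵁ U) (pC.app U a) = 0 := by
      show ρ.app _ (OmegaSh.pullSect i Ω₁ _ (d₁.app _ (pC.app U a))) = 0
      rw [show d₁.app (pC ⁻¹ᵁ U) (pC.app U a) = 0 from d₁.d_app (X := Opposite.op U) a]
      exact (congrArg _ (map_zero (OmegaSh.pullSect i Ω₁ _).hom)).trans (map_zero _)
    have h0 : σ (pC ⁻¹ᵁ U) (pC.app U a) = 0 := (hcs _).1 (by
      rw [hσ, hd]; exact (map_zero (OmegaSh.conormalSect i _).hom).symm)
    have h3 : E.app (pC ⁻¹ᵁ U) (pC.app U a) = pC.app U a := by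
      show _ - ι (σ _ _) = _
      rw [h0, show ι (0 : Γ(ClSub.idealMod i.ker, pC ⁻¹ᵁ U)) = 0 from PicH1_21.idealIncl_zero _, sub_zero]
    refine Eq.trans ?_ h3
    exact ConcreteCategory.congr_hom (C.presheaf.map_id _) _

/-- Let k be a field and C a ribbon, locally of finite type over k, on the reduced connected scheme D
along i : D ⟶ C, with its restricted cotangent sequence 0 → L → Ω_C|_D → Ω_D → 0 presented by a
universal k-derivation d₁ : O_C → Ω₁, a universal k-derivation d₂ : O_D → Ω₂, the map φ from the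
conormal bundle L of D in C to i^*Ω₁ induced by d₁ and the map c : i^*Ω₁ → Ω₂ compatible with d₁ and
d₂, assumed short exact, that is, with φ injective; let e_C ∈ Ext¹(Ω_D, L) be the class of that
sequence. Then the ribbon is split — i admits a retraction C ⟶ D that is a morphism over k — if and
only if e_C = 0. (The published text treats the restricted cotangent sequence as short exact for
every ribbon and puts the retractions in bijection with the splittings of e_C. Short exactness holds
over a perfect field but not in general: for k of characteristic p and a ∈ k not a p-th power, the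
ribbon Spec k[x]/((x^p − a)²) on D = Spec k(a^{1/p}) has φ = 0 and admits no retraction, although
Ext¹(Ω_D, L) = 0 there. So short exactness is assumed here, and this row states the existence part
of the bijection.) -/
theorem result (k : Type u) [Field k] (D C : Scheme.{u}) (i : D ⟶ C)
    (pC : C ⟶ Spec (CommRingCat.of k)) [LocallyOfFiniteType pC] [ConnectedSpace D] (hR : MultCurve.IsRibbon i)
    (Ω₁ : C.Modules) (d₁ : OmegaSh.Der pC Ω₁) (hd₁ : OmegaSh.IsUniversal d₁)
    (Ω₂ : D.Modules) (d₂ : OmegaSh.Der (i ≫ pC) Ω₂) (hd₂ : OmegaSh.IsUniversal d₂)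
    (φ : Omega.conormal i ⟶ (Scheme.Modules.pullback i).obj Ω₁) (hφ : OmegaSh.IsConormalDiff i d₁ φ)
    (c : (Scheme.Modules.pullback i).obj Ω₁ ⟶ Ω₂) (hc : OmegaSh.IsDiffCompat i d₁ d₂ c)
    (hw : φ ≫ c = 0) (hS : (ShortComplex.mk φ c hw).ShortExact) [HasExt.{w} D.Modules] :
    (∃ r : C ⟶ D, i ≫ r = 𝟙 D ∧ r ≫ i ≫ pC = pC) ↔ hS.extClass = 0 := by
  obtain ⟨hci, hsq, -⟩ := hR.1
  haveI := hci
  have hi : i.ker * i.ker = ⊥ := by rw [← pow_two]; exact hsq
  constructor
  · rintro ⟨r, hr1, hr2⟩
    obtain ⟨_, -, ⟨ρ, hρ⟩, -⟩ := GrMap12.split_seq i r hr1 pC hr2 Ω₁ d₁ hd₁ Ω₂ d₂ hd₂ φ hφ c hc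
    have h0 : hS.extClass.comp (Abelian.Ext.mk₀ φ) (add_zero 1) = 0 := hS.extClass_comp
    calc hS.extClass = hS.extClass.comp (Abelian.Ext.mk₀ (φ ≫ ρ)) (add_zero 1) := by
          rw [hρ, Abelian.Ext.comp_mk₀_id]
      _ = 0 := by
          rw [← Abelian.Ext.mk₀_comp_mk₀, ← Abelian.Ext.comp_assoc_of_third_deg_zero, h0, Abelian.Ext.zero_comp]
  · intro h
    obtain ⟨x, hx⟩ := Abelian.Ext.contravariant_sequence_exact₁ hS (Omega.conormal i)
      (Abelian.Ext.mk₀ (𝟙 (Omega.conormal i))) (n₁ := 1) rfl (by rw [h, Abelian.Ext.zero_comp])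
    obtain ⟨ρ, rfl⟩ := (Abelian.Ext.mk₀_bijective _ _).2 x
    rw [Abelian.Ext.mk₀_comp_mk₀] at hx
    exact exists_endo i hi pC Ω₁ d₁ φ hφ ρ ((Abelian.Ext.mk₀_bijective _ _).1 hx)

end Groth.Agent.S18345
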