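import Groth.Prelude.Def_MultCurve
import Groth.Prelude.Def_Omega3
import Mathlib.Algebra.Homology.DerivedCategory.Ext.ExtClass
import Mathlib.AlgebraicGeometry.Morphisms.FiniteType
import Groth.Agent.Lib.RibbonExt3.Basic
import Mathlib.Algebra.Homology.DerivedCategory.Ext.ExactSequences
-- import your own Groth.Agent.* helpers here

namespace MultCurve
end MultCurve

set_option autoImplicit false
set_option linter.style.haveILetI false
set_option backward.isDefEq.respectTransparency false
set_option backward.isDefEq.respectTransparency.types false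
universe w u
open CategoryTheory CategoryTheory.Limits AlgebraicGeometry
open MultCurve

namespace Groth.Agent.S18348

/-- Let k be a field and D a reduced connected scheme locally of finite type over k, with structure
morphism pD and a universal k-derivation d₂ : O_D → Ω₂. Let C and C′ be ribbons on D over k
(k-schemes locally of finite type with closed immersions i, i′ of D over k making them ribbons),
each with its restricted cotangent sequence 0 → L → Ω_C|_D → Ω_D → 0 presented by a universal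
k-derivation d₁ : O_C → Ω₁, the fixed universal k-derivation d₂ of D, the map φ from the conormal
bundle L of D in C to i^*Ω₁ induced by d₁ and the map c : i^*Ω₁ → Ω₂ compatible with d₁ and d₂,
assumed short exact, that is, with φ and φ′ injective, with classes e ∈ Ext¹(Ω₂, L) and e′ ∈
Ext¹(Ω₂, L′). Then C and C′ are isomorphic over D (by an isomorphism under D that is a k-morphism)
if and only if there is an isomorphism of O_D-modules α : L ≅ L′ carrying e to e′. In particular a
ribbon with short exact restricted cotangent sequence is determined up to isomorphism over D by its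
conormal bundle together with its class. (The published statement asserts the uniqueness for all
ribbons, treating the restricted cotangent sequence as short exact for every ribbon; it is so over a
perfect field but not in general: for k of characteristic p and a ∈ k not a p-th power, D = Spec
k(a^{1/p}) has Ext¹(Ω_D, L) = 0 for every L, yet the split ribbon with conormal bundle O_D and Spec
k[x]/((x^p − a)²) are ribbons on D with conormal bundle O_D that are not isomorphic over D, the
second having φ = 0; so short exactness is assumed here for both ribbons. The published statement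
also, for D proper over k, phrases the criterion as e = a·e′ with a a nonzero scalar, identifying
the automorphisms of the line bundle L with the nonzero constants; that identification needs Γ(D,
O_D) = k and fails, for example, for the projective line over a quadratic extension of k regarded as
a k-scheme, so the criterion is stated here with an arbitrary automorphism of the conormal bundle,
in which form it holds for every reduced connected D.) -/
theorem result (k : Type u) [Field k] (D : Scheme.{u})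
    (pD : D ⟶ Spec (CommRingCat.of k)) [LocallyOfFiniteType pD] [ConnectedSpace D]
    (Ω₂ : D.Modules) (d₂ : OmegaSh.Der pD Ω₂) (hd₂ : OmegaSh.IsUniversal d₂) [HasExt.{w} D.Modules]
    (C : Scheme.{u}) (i : D ⟶ C) (pC : C ⟶ Spec (CommRingCat.of k)) [LocallyOfFiniteType pC]
    (hp : i ≫ pC = pD) (hR : MultCurve.IsRibbon i)
    (Ω₁ : C.Modules) (d₁ : OmegaSh.Der pC Ω₁) (hd₁ : OmegaSh.IsUniversal d₁)
    (φ : Omega.conormal i ⟶ (Scheme.Modules.pullback i).obj Ω₁) (hφ : OmegaSh.IsConormalDiff i d₁ φ)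
    (c : (Scheme.Modules.pullback i).obj Ω₁ ⟶ Ω₂) (hc : OmegaSh.IsDiffCompat i d₁ d₂ c)
    (hw : φ ≫ c = 0) (hS : (ShortComplex.mk φ c hw).ShortExact)
    (C' : Scheme.{u}) (i' : D ⟶ C') (pC' : C' ⟶ Spec (CommRingCat.of k)) [LocallyOfFiniteType pC']
    (hp' : i' ≫ pC' = pD) (hR' : MultCurve.IsRibbon i')
    (Ω₁' : C'.Modules) (d₁' : OmegaSh.Der pC' Ω₁') (hd₁' : OmegaSh.IsUniversal d₁')
    (φ' : Omega.conormal i' ⟶ (Scheme.Modules.pullback i').obj Ω₁') (hφ' : OmegaSh.IsConormalDiff i' d₁' φ')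
    (c' : (Scheme.Modules.pullback i').obj Ω₁' ⟶ Ω₂) (hc' : OmegaSh.IsDiffCompat i' d₁' d₂ c')
    (hw' : φ' ≫ c' = 0) (hS' : (ShortComplex.mk φ' c' hw').ShortExact) :
    (∃ ψ : C ≅ C', i ≫ ψ.hom = i' ∧ ψ.hom ≫ pC' = pC) ↔
      ∃ α : Omega.conormal i ≅ Omega.conormal i',
        hS.extClass.comp (Abelian.Ext.mk₀ α.hom) (add_zero 1) = hS'.extClass := by
  subst hp
  obtain ⟨hci, hsq, -⟩ := hR.1
  obtain ⟨hci', hsq', -⟩ := hR'.1
  haveI := hci
  haveI := hci'
  haveI : Mono φ := hS.mono_f
  haveI : Mono φ' := hS'.mono_f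
  have hi : i.ker * i.ker = ⊥ := by rw [← pow_two]; exact hsq
  have hi' : i'.ker * i'.ker = ⊥ := by rw [← pow_two]; exact hsq'
  constructor
  · rintro ⟨ψ, hψ, hψk⟩
    have hψ' : i' ≫ ψ.inv = i := by rw [← hψ, Category.assoc, ψ.hom_inv_id, Category.comp_id]
    have hψk' : ψ.inv ≫ pC = pC' := by rw [← hψk, ψ.inv_hom_id_assoc]
    obtain ⟨a, ha⟩ := RibbonExt3.exists_diff (d₁ := d₁) (d₂ := d₁') hψ hψk hd₁'
    obtain ⟨a', ha'⟩ := RibbonExt3.exists_diff (d₁ := d₁') (d₂ := d₁) hψ' hψk' hd₁
    have h1 : a ≫ a' = 𝟙 _ := RibbonExt3.IsDiff.unique (g := ψ.inv ≫ ψ.hom) (by rw [ψ.inv_hom_id, Category.comp_id]) hd₁'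
      (ha'.comp hψ' hψ ha) (by rw [ψ.inv_hom_id]; exact RibbonExt3.IsDiff.id i' d₁')
    have h2 : a' ≫ a = 𝟙 _ := RibbonExt3.IsDiff.unique (g := ψ.hom ≫ ψ.inv) (by rw [ψ.hom_inv_id, Category.comp_id]) hd₁
      (ha.comp hψ hψ' ha') (by rw [ψ.hom_inv_id]; exact RibbonExt3.IsDiff.id i d₁)
    have hac : a ≫ c = c' := by
      subst hψ
      let adj := Scheme.Modules.pullbackPushforwardAdjunction (i ≫ ψ.hom)
      have eadj : ∀ (x : (Scheme.Modules.pullback (i ≫ ψ.hom)).obj Ω₁' ⟶ Ω₂) (U : C'.Opens) (s : Γ(C', U)),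
          (adj.homEquiv _ _ x).app U (d₁'.app U s) =
            x.app ((i ≫ ψ.hom) ⁻¹ᵁ U) (OmegaSh.pullSect (i ≫ ψ.hom) Ω₁' U (d₁'.app U s)) :=
        fun x U s => by rw [Adjunction.homEquiv_unit]; rfl
      refine (adj.homEquiv _ _).injective (Omega12.hom_ext_der _ hd₁' fun U s => ?_)
      refine (eadj _ U _).trans (Eq.trans ?_ ((eadj _ U _).trans (hc' U s)).symm)
      show c.app _ (a.app _ _) = _
      have e1 := ha U s le_rfl
      refine (congrArg (c.app _) ((ConcreteCategory.congr_hom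
        (((Scheme.Modules.pullback i).obj Ω₁).presheaf.map_id _) _).symm.trans e1)).trans ?_
      exact hc (ψ.hom ⁻¹ᵁ U) (ψ.hom.app U s)
    have hac' : a' ≫ c' = c := by rw [← hac, ← Category.assoc, h2, Category.id_comp]
    obtain ⟨t, ht⟩ := Limits.KernelFork.IsLimit.lift' hS'.fIsKernel (φ ≫ a') (by
      show (φ ≫ a') ≫ c' = 0
      rw [Category.assoc, hac', hw])
    obtain ⟨t', ht'⟩ := Limits.KernelFork.IsLimit.lift' hS.fIsKernel (φ' ≫ a) (by
      show (φ' ≫ a) ≫ c = 0
      rw [Category.assoc, hac, hw'])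
    change t ≫ φ' = φ ≫ a' at ht
    change t' ≫ φ = φ' ≫ a at ht'
    refine ⟨⟨t, t', ?_, ?_⟩, ?_⟩
    · rw [← cancel_mono φ, Category.assoc, ht', ← Category.assoc, ht, Category.assoc, h2, Category.comp_id, Category.id_comp]
    · rw [← cancel_mono φ', Category.assoc, ht, ← Category.assoc, ht', Category.assoc, h1, Category.comp_id, Category.id_comp]
    · let f : ShortComplex.mk φ c hw ⟶ ShortComplex.mk φ' c' hw' :=
        { τ₁ := t, τ₂ := a', τ₃ := 𝟙 _, comm₁₂ := ht, comm₂₃ := hac'.trans (Category.comp_id _).symm }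
      refine (ShortComplex.ShortExact.extClass_naturality hS hS' f).trans ?_
      exact Abelian.Ext.mk₀_id_comp _
  · rintro ⟨α, hα⟩
    obtain ⟨x, hx⟩ := Abelian.Ext.covariant_sequence_exact₃ ((Scheme.Modules.pullback i).obj Ω₁) hS'
      (Abelian.Ext.mk₀ c) (n₁ := 1) rfl (by
        rw [← hα]
        exact hS.comp_extClass_assoc _ _)
    obtain ⟨a₀, rfl⟩ := (Abelian.Ext.mk₀_bijective _ _).2 x
    rw [Abelian.Ext.mk₀_comp_mk₀] at hx
    have ha₀ : a₀ ≫ c' = c := (Abelian.Ext.mk₀_bijective _ _).1 hx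
    obtain ⟨β, hβ⟩ : ∃ β : Omega.conormal i ⟶ Omega.conormal i', β ≫ φ' = φ ≫ a₀ := by
      obtain ⟨β, hβ⟩ := Limits.KernelFork.IsLimit.lift' hS'.fIsKernel (φ ≫ a₀) (by
        show (φ ≫ a₀) ≫ c' = 0
        rw [Category.assoc, ha₀, hw])
      exact ⟨β, hβ⟩
    let f₀ : ShortComplex.mk φ c hw ⟶ ShortComplex.mk φ' c' hw' :=
      { τ₁ := β, τ₂ := a₀, τ₃ := 𝟙 _, comm₁₂ := hβ, comm₂₃ := ha₀.trans (Category.comp_id _).symm }
    have hnat : hS.extClass.comp (Abelian.Ext.mk₀ β) (add_zero 1) = hS'.extClass :=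
      (ShortComplex.ShortExact.extClass_naturality hS hS' f₀).trans (Abelian.Ext.mk₀_id_comp _)
    obtain ⟨y, hy⟩ := Abelian.Ext.contravariant_sequence_exact₁ hS (Omega.conormal i')
      (Abelian.Ext.mk₀ (α.hom - β)) (n₁ := 1) rfl (by
        rw [sub_eq_add_neg, Abelian.Ext.mk₀_add, Abelian.Ext.mk₀_neg, Abelian.Ext.comp_add, Abelian.Ext.comp_neg, hα, hnat, add_neg_cancel])
    obtain ⟨h, rfl⟩ := (Abelian.Ext.mk₀_bijective _ _).2 y
    rw [Abelian.Ext.mk₀_comp_mk₀] at hy
    have hh : φ ≫ h = α.hom - β := (Abelian.Ext.mk₀_bijective _ _).1 hy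
    let a := a₀ + h ≫ φ'
    have hac : a ≫ c' = c := by rw [Preadditive.add_comp, Category.assoc, hw', Limits.comp_zero, add_zero, ha₀]
    let f : ShortComplex.mk φ c hw ⟶ ShortComplex.mk φ' c' hw' :=
      { τ₁ := α.hom, τ₂ := a, τ₃ := 𝟙 _
        comm₁₂ := by
          show α.hom ≫ φ' = φ ≫ (a₀ + h ≫ φ')
          rw [Preadditive.comp_add, ← Category.assoc, hh, Preadditive.sub_comp, hβ, add_sub_cancel]
        comm₂₃ := hac.trans (Category.comp_id _).symm }
    haveI : IsIso a := ShortComplex.isIso₂_of_shortExact_of_isIso₁₃' f hS hS'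
      (show IsIso α.hom from inferInstance) (show IsIso (𝟙 Ω₂) from inferInstance)
    obtain ⟨g, hg1, hg2, hg3⟩ := RibbonExt3.exists_extension i hi pC Ω₁ d₁ Ω₂ d₂ φ hφ c hc hw hS C' pC' i'
      hp' Ω₁' d₁' c' hc' (inv a) (by rw [IsIso.inv_comp_eq, hac])
    obtain ⟨g', hg1', hg2', hg3'⟩ : ∃ g' : C' ⟶ C, i' ≫ g' = i ∧ g' ≫ pC = pC' ∧
        RibbonExt3.IsDiff i' d₁' i d₁ g' a := by
      have e : i ≫ pC = i' ≫ pC' := hp'.symm
      let d₂' : OmegaSh.Der (i' ≫ pC') Ω₂ := cast (by rw [e]) d₂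
      have hd : ∀ (U : D.Opens) (s : Γ(D, U)), d₂'.app U s = d₂.app U s := by
        have key : ∀ (p q : D ⟶ Spec (CommRingCat.of k)) (e : p = q) (d : OmegaSh.Der p Ω₂) (U : D.Opens)
            (s : Γ(D, U)), (cast (by rw [e]) d : OmegaSh.Der q Ω₂).app U s = d.app U s := by
          rintro p q rfl d U s; rfl
        exact fun U s => key _ _ e d₂ U s
      exact RibbonExt3.exists_extension i' hi' pC' Ω₁' d₁' Ω₂ d₂' φ' hφ' c' (fun U s => (hc' U s).trans (hd _ _).symm)
        hw' hS' C pC i e Ω₁ d₁ c (fun U s => (hc U s).trans (hd _ _).symm) a hac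
    refine ⟨⟨g, g', ?_, ?_⟩, hg1, hg2⟩
    · exact RibbonExt3.hom_eq_of_isDiff i hi pC Ω₁ d₁ φ hφ (f := i) (by rw [← Category.assoc, hg1, hg1'])
        (Category.comp_id _) (hg3.comp hg1 hg1' hg3') (by rw [IsIso.hom_inv_id]; exact RibbonExt3.IsDiff.id i d₁)
    · exact RibbonExt3.hom_eq_of_isDiff i' hi' pC' Ω₁' d₁' φ' hφ' (f := i') (by rw [← Category.assoc, hg1', hg1])
        (Category.comp_id _) (hg3'.comp hg1' hg1 hg3) (by rw [IsIso.inv_hom_id]; exact RibbonExt3.IsDiff.id i' d₁')

end Groth.Agent.S18348
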