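import Groth.Statements.S18350
-- import your own Groth.Agent.* helpers here
import Groth.Agent.Lib.DlzCurve17.GorDual

set_option autoImplicit false
universe u
open CategoryTheory CategoryTheory.Limits AlgebraicGeometry
attribute [local instance] HasDerivedCategory.standard
open MultCurve

namespace Groth.Agent.S18350

/-- Let k be a field and X a projective primitive multiple curve of multiplicity n ≥ 1 over k: a proper
k-scheme with a closed immersion i : C ⟶ X of a smooth integral curve C whose ideal I satisfies Iⁿ =
0 and is locally generated by one section z with the annihilator of z^(n-1) contained in (z). Let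
ω_X be the dualizing module of X over k (the cohomology sheaf in degree -1 of f^! O for the
structure morphism f, with the existence of Rf_* on D_QCoh and of its right adjoint carried as
hypotheses), assumed invertible, and let F be a coherent reflexive O_X-module (the canonical map
from F to its double dual is an isomorphism). Then dim_k H⁰(X, F) = dim_k H¹(X, F^∨ ⊗ ω_X) and dim_k
H¹(X, F) = dim_k H⁰(X, F^∨ ⊗ ω_X), where F^∨ = Hom(F, O_X) is the dual sheaf. (The published
statement gives functorial isomorphisms H^i(X, F) ≅ H^(1-i)(X, F^∨ ⊗ ω_X)^* for i = 0, 1; this row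
records the equality of dimensions. Invertibility of ω_X, asserted in the published text because X
is a local complete intersection, is carried as a hypothesis. Stated over an arbitrary field; the
published setting is the complex numbers.) -/
theorem result (k : Type u) [Field k] (C X : Scheme.{u})
    [X.Over (Spec (CommRingCat.of k))] [IsProper (X ↘ (Spec (CommRingCat.of k)))] (i : C ⟶ X)
    (n : ℕ) (hn : 1 ≤ n) (h : MultCurve.IsPrimitive k i (X ↘ (Spec (CommRingCat.of k))) n)
    [DCoh.HasRpush (X ↘ (Spec (CommRingCat.of k)))] (hq : DCoh.RpushPreservesQCoh (X ↘ (Spec (CommRingCat.of k))))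
    [DCoh.HasShriek (X ↘ (Spec (CommRingCat.of k))) hq]
    (OY : DCoh.DQCoh (Spec (CommRingCat.of k)))
    (hOY : Nonempty (OY.obj ≅ DCoh.inD (Spec (CommRingCat.of k)) (Coh.structureModule (Spec (CommRingCat.of k)))))
    (hω : PicF.IsInvertible (DCoh.dualizingMod (X ↘ (Spec (CommRingCat.of k))) hq OY 1))
    (F : X.Modules) (hF : Coh.IsCoh F) (hFr : RefHull.IsReflexive F) :
    Module.finrank k (Coh.HH X F 0) =
        Module.finrank k (Coh.HH X (CohB1.tensorMod (RefHull.dual F) (DCoh.dualizingMod (X ↘ (Spec (CommRingCat.of k))) hq OY 1)) 1) ∧
      Module.finrank k (Coh.HH X F 1) =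
        Module.finrank k (Coh.HH X (CohB1.tensorMod (RefHull.dual F) (DCoh.dualizingMod (X ↘ (Spec (CommRingCat.of k))) hq OY 1)) 0) := by
  obtain ⟨⟨hc, hpow, -⟩, -, -, hdimC⟩ := h
  haveI := hc
  have hrange : Set.range i = Set.univ := by
    have h1 : (i.ker.support : Set X) = Set.univ := by
      rw [← Scheme.IdealSheafData.support_pow i.ker n (by omega), hpow, Scheme.IdealSheafData.support_bot]
      rfl
    rw [Scheme.Hom.support_ker, i.isClosedEmbedding.isClosed_range.closure_eq] at h1
    exact h1
  have hdim : topologicalKrullDim X = 1 := by
    rw [← hdimC]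
    exact ((i.isClosedEmbedding.isEmbedding.toHomeomorph.trans
      ((Homeomorph.setCongr hrange).trans (Homeomorph.Set.univ _))).isHomeomorph.topologicalKrullDim_eq).symm
  exact Groth.Agent.DlzCurve17.duality_of_reflexive k hq OY hOY hdim hω hF hFr

end Groth.Agent.S18350
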