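import Groth.Statements.S18351
import Groth.Agent.Lib.Omega12.Transitive
import Groth.Agent.Lib.GrMap12.Basic
import Mathlib.Algebra.Homology.DerivedCategory.Ext.ExtClass

set_option autoImplicit false
set_option backward.isDefEq.respectTransparency false
set_option backward.isDefEq.respectTransparency.types false
universe w u
open CategoryTheory CategoryTheory.Limits AlgebraicGeometry
open MultCurve

namespace Groth.Agent.S18351

/-- Let k be a field and D a reduced connected scheme locally of finite type over k with a universal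
k-derivation d₂ : O_D → Ω₂. Let C and C′ be ribbons on D over k (k-schemes locally of finite type
with closed immersions i, i′ of D over k making them ribbons), each with its restricted cotangent
sequence presented by a universal k-derivation (d₁, resp. d₁′), the map from the conormal bundle (𝓛,
resp. 𝓛′) induced by it and the map to Ω₂ compatible with d₂, assumed short exact, with classes e_C
∈ Ext¹(Ω₂, 𝓛) and e_{C′} ∈ Ext¹(Ω₂, 𝓛′). Let g : C ⟶ C′ be a morphism over D and over k, and let α :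
𝓛′ → 𝓛 be the map of conormal bundles induced by g (pulled back along the identity of D). Then
e_{C′} composed with α equals e_C: together with the restriction to D of the differential of g, α is
a morphism from the restricted cotangent sequence of C′ to that of C. (This is the form in which the
blow-up morphism X ⟶ C of a ribbon C along an effective Cartier divisor of D relates the two
classes; that such a blow-up X is again a ribbon on D, with conormal bundle 𝓛(δ), is a separate
statement, and the identification of α with multiplication by the section of δ is not asserted here.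
Valid for every morphism of ribbons over D.) -/
theorem result (k : Type u) [Field k] (D : Scheme.{u})
    (pD : D ⟶ Spec (CommRingCat.of k)) [LocallyOfFiniteType pD] [ConnectedSpace D]
    (Ω₂ : D.Modules) (d₂ : OmegaSh.Der pD Ω₂) (hd₂ : OmegaSh.IsUniversal d₂) [HasExt.{w} D.Modules]
    (C : Scheme.{u}) (i : D ⟶ C) (pC : C ⟶ Spec (CommRingCat.of k)) [LocallyOfFiniteType pC]
    (hp : i ≫ pC = pD) (hR : MultCurve.IsRibbon i)
    (Ω₁ : C.Modules) (d₁ : OmegaSh.Der pC Ω₁) (hd₁ : OmegaSh.IsUniversal d₁)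
    (φ : Omega.conormal i ⟶ (Scheme.Modules.pullback i).obj Ω₁) (hφ : OmegaSh.IsConormalDiff i d₁ φ)
    (c : (Scheme.Modules.pullback i).obj Ω₁ ⟶ Ω₂) (hc : OmegaSh.IsDiffCompat i d₁ d₂ c)
    (hw : φ ≫ c = 0) (hS : (ShortComplex.mk φ c hw).ShortExact)
    (C' : Scheme.{u}) (i' : D ⟶ C') (pC' : C' ⟶ Spec (CommRingCat.of k)) [LocallyOfFiniteType pC']
    (hp' : i' ≫ pC' = pD) (hR' : MultCurve.IsRibbon i')
    (Ω₁' : C'.Modules) (d₁' : OmegaSh.Der pC' Ω₁') (hd₁' : OmegaSh.IsUniversal d₁')
    (φ' : Omega.conormal i' ⟶ (Scheme.Modules.pullback i').obj Ω₁') (hφ' : OmegaSh.IsConormalDiff i' d₁' φ')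
    (c' : (Scheme.Modules.pullback i').obj Ω₁' ⟶ Ω₂) (hc' : OmegaSh.IsDiffCompat i' d₁' d₂ c')
    (hw' : φ' ≫ c' = 0) (hS' : (ShortComplex.mk φ' c' hw').ShortExact)
    (g : C ⟶ C') (hgi : i ≫ g = i') (hgk : g ≫ pC' = pC)
    (α : (Scheme.Modules.pullback (𝟙 D)).obj (Omega.conormal i') ⟶ Omega.conormal i)
    (hα : OmegaSh.IsConormalMap i i' g (𝟙 D) α) :
    hS'.extClass.comp (Abelian.Ext.mk₀ ((Scheme.Modules.pullbackId D).inv.app (Omega.conormal i') ≫ α)) (add_zero 1) =
      hS.extClass := by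
  subst hgi
  have hsq : pC ≫ 𝟙 _ = g ≫ pC' := by rw [hgk, Category.comp_id]
  let adj := Scheme.Modules.pullbackPushforwardAdjunction (i ≫ g)
  let ν : (Scheme.Modules.pushforward g).obj Ω₁ ⟶
      (Scheme.Modules.pushforward (i ≫ g)).obj ((Scheme.Modules.pullback i).obj Ω₁) :=
    (Scheme.Modules.pushforward g).map ((Scheme.Modules.pullbackPushforwardAdjunction i).unit.app Ω₁) ≫
      (Scheme.Modules.pushforwardComp i g).hom.app _
  obtain ⟨β, hβ, -⟩ := hd₁' _ ((Omega12.pushDer hsq d₁).postcomp ν.val)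
  let a : (Scheme.Modules.pullback (i ≫ g)).obj Ω₁' ⟶ (Scheme.Modules.pullback i).obj Ω₁ :=
    (adj.homEquiv _ _).symm β
  have eadj : ∀ {M : C'.Modules} {N : D.Modules} (x : (Scheme.Modules.pullback (i ≫ g)).obj M ⟶ N)
      (U : C'.Opens) (s : Γ(M, U)),
      (adj.homEquiv _ _ x).app U s = x.app ((i ≫ g) ⁻¹ᵁ U) (OmegaSh.pullSect (i ≫ g) M U s) :=
    fun x U s => by rw [Adjunction.homEquiv_unit]; rfl
  have ha : ∀ (U : C'.Opens) (s : Γ(C', U)),
      a.app ((i ≫ g) ⁻¹ᵁ U) (OmegaSh.pullSect (i ≫ g) Ω₁' U (d₁'.app U s)) =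
        OmegaSh.pullSect i Ω₁ (g ⁻¹ᵁ U) (d₁.app (g ⁻¹ᵁ U) (g.app U s)) := fun U s => by
    rw [← eadj, Equiv.apply_symm_apply]
    exact congrArg (fun E => OmegaSh.Der.app E U s) hβ
  have h1 : ((Scheme.Modules.pullbackId D).inv.app (Omega.conormal (i ≫ g)) ≫ α) ≫ φ = φ' ≫ a := by
    refine (adj.homEquiv _ _).injective (Scheme.Modules.hom_ext _ _ fun U => ?_)
    ext s
    refine (eadj _ U s).trans (Eq.trans ?_ (eadj _ U s).symm)
    have hle : (i ≫ g).ker ≤ i.ker.map g := (Scheme.IdealSheafData.map_ker i g).ge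
    let t : Γ(ClSub.idealMod i.ker, g ⁻¹ᵁ U) :=
      (ConormalBC19.psi g (i ≫ g).ker i.ker hle).app (g ⁻¹ᵁ U) (M2.pullSec g _ s)
    have ht : OmegaSh.idealSect i.ker (g ⁻¹ᵁ U) t = g.app U (OmegaSh.idealSect (i ≫ g).ker U s) :=
      GrMap12.idealIncl_psi g _ _ hle s
    have h2 := hα.2 U s t ht ((i ≫ g) ⁻¹ᵁ U) le_rfl le_rfl
    change ((Omega.conormal i).presheaf.map (𝟙 _)) (α.app _ _) =
      ((Omega.conormal i).presheaf.map (𝟙 _)) (OmegaSh.conormalSect i (g ⁻¹ᵁ U) t) at h2
    erw [CategoryTheory.Functor.map_id] at h2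
    show φ.app _ (α.app _ (((Scheme.Modules.pullbackId D).inv.app _).app ((i ≫ g) ⁻¹ᵁ U)
        (OmegaSh.conormalSect (i ≫ g) U s))) =
      a.app _ (φ'.app _ (OmegaSh.conormalSect (i ≫ g) U s))
    rw [Omega12.pullbackId_inv_app, hφ' U s, ha]
    refine (congrArg (φ.app _) h2).trans ?_
    refine (hφ (g ⁻¹ᵁ U) t).trans ?_
    rw [ht]
  have h3 : a ≫ c = c' := by
    refine (adj.homEquiv _ _).injective (Omega12.hom_ext_der _ hd₁' fun U s => ?_)
    refine (eadj _ U _).trans (Eq.trans ?_ ((eadj _ U _).trans (hc' U s)).symm)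
    show c.app _ (a.app _ _) = _
    rw [ha]
    exact hc (g ⁻¹ᵁ U) (g.app U s)
  let f : ShortComplex.mk φ' c' hw' ⟶ ShortComplex.mk φ c hw :=
    { τ₁ := (Scheme.Modules.pullbackId D).inv.app (Omega.conormal (i ≫ g)) ≫ α
      τ₂ := a
      τ₃ := 𝟙 _
      comm₁₂ := h1
      comm₂₃ := h3.trans (Category.comp_id _).symm }
  refine (ShortComplex.ShortExact.extClass_naturality hS' hS f).trans ?_
  exact Abelian.Ext.mk₀_id_comp _

end Groth.Agent.S18351
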