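import Groth.Statements.S18352
import Groth.Agent.Lib.FlatNormal19.Basic
-- import your own Groth.Agent.* helpers here

set_option autoImplicit false
universe u
open Curv2

namespace Groth.Agent.S18352

set_option linter.style.haveILetI false
set_option backward.isDefEq.respectTransparency.types false

set_option linter.style.haveILetI false
set_option backward.isDefEq.respectTransparency.types false


open CategoryTheory AlgebraicGeometry in
/-- Let S be an integral Noetherian scheme all of whose local rings are integrally closed domains, and
let f : C → S be a flat, proper, locally finitely presented morphism of schemes whose fibres are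
geometrically reduced and geometrically connected, all of Krull dimension one, and whose fibre over
the generic point of S is smooth over the residue field there. Then every local ring of C is an
integrally closed domain. The total space C is a scheme here; the source also allows an algebraic
space. -/
theorem result (S C : Scheme.{u}) [IsIntegral S] [IsNoetherian S]
    (hS : Pi1.IsNormalScheme S) (f : C ⟶ S) [Flat f] [IsProper f] [LocallyOfFinitePresentation f]
    [GeometricallyReduced f] [GeometricallyConnected f]
    (hdim : ∀ s : ↥S, topologicalKrullDim ↥(f.fiber s) = 1)
    (hsm : Smooth (f.fiberToSpecResidueField (genericPoint ↥S))) :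
    Pi1.IsNormalScheme C := by
  haveI : IsLocallyNoetherian C := LocallyOfFiniteType.isLocallyNoetherian f
  refine FlatNormal19.isNormalScheme_of_reduced_fibres hS f (fun s => inferInstance) ?_
  haveI := hsm
  refine NormalExt19.isNormalScheme_of_smooth (f.fiberToSpecResidueField (genericPoint ↥S)) fun z => ?_
  let K := S.residueField (genericPoint ↥S)
  have hbot : z.asIdeal = ⊥ := (Ideal.eq_bot_or_top (z.asIdeal : Ideal K)).resolve_right z.2.ne_top
  haveI : IsDomain (Localization.AtPrime z.asIdeal) :=
    IsLocalization.isDomain_of_le_nonZeroDivisors _ z.asIdeal.primeCompl_le_nonZeroDivisors
  haveI : IsIntegrallyClosed (Localization.AtPrime z.asIdeal) :=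
    isIntegrallyClosed_of_isLocalization _ z.asIdeal.primeCompl z.asIdeal.primeCompl_le_nonZeroDivisors
  exact NormalSmooth12.normalDomain_of_ringEquiv (StructureSheaf.stalkIso K z).toRingEquiv ⟨inferInstance, inferInstance⟩

end Groth.Agent.S18352
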