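import Groth.Statements.S18353
import Groth.Agent.Lib.FlatNormal19.Basic
import Groth.Agent.Lib.Fibration13.Basic
import Groth.Agent.Lib.VB17.Setup
import Groth.Agent.Lib.SmoothReg17.Basic

set_option autoImplicit false
set_option linter.style.haveILetI false
universe u
open Curv2

namespace Groth.Agent.S18353

open CategoryTheory AlgebraicGeometry in
/-- A curve family with smooth generic fibre over a normal base is normal and integral. -/
theorem normal_integral (S C : Scheme.{u}) [IsIntegral S] [IsNoetherian S] (hS : Pi1.IsNormalScheme S) (f : C ⟶ S)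
    [Flat f] [IsProper f] [LocallyOfFinitePresentation f] [GeometricallyReduced f] [GeometricallyConnected f]
    (hsm : Smooth (f.fiberToSpecResidueField (genericPoint ↥S))) :
    Pi1.IsNormalScheme C ∧ IsIntegral C := by
  haveI := hsm
  haveI : IsLocallyNoetherian C := LocallyOfFiniteType.isLocallyNoetherian f
  haveI : CompactSpace C := QuasiCompact.compactSpace_of_compactSpace f
  haveI : IsNoetherian C := ⟨⟩
  have hn : Pi1.IsNormalScheme C := FlatNormal19.isNormalScheme_of_reduced_fibres hS f
    (fun s => GeometricallyReduced.geometrically_isReduced (f := f) (S.fromSpecResidueField s) _ _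
      (IsPullback.of_hasPullback _ _))
    (fun z => ⟨@SmoothReg17.isDomain_stalk _ _ _ (f.fiberToSpecResidueField (genericPoint ↥S)) hsm z,
      @SmoothReg17.isIntegrallyClosed_stalk _ _ _ (f.fiberToSpecResidueField (genericPoint ↥S)) hsm z⟩)
  haveI : ConnectedSpace C := GeometricallyConnected.connectedSpace f f.isOpenMap
  exact ⟨hn, VB17.isIntegral_of_connected fun x => (hn x).1⟩

open CategoryTheory AlgebraicGeometry in
/-- Let S be an integral Noetherian scheme all of whose local rings are integrally closed domains, and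
let f₁ : C₁ → S and f₂ : C₂ → S be flat, proper, locally finitely presented morphisms of schemes
whose fibres are geometrically reduced and geometrically connected, all of Krull dimension one, and
whose fibres over the generic point of S are smooth. Let φ : C₁ → C₂ be a morphism over S which is
birational, in the sense that it restricts to an isomorphism over some dense open subset of C₂. Then
the canonical map O_{C₂} → φ_* O_{C₁} is an isomorphism: for every open V of C₂ the pull-back map
from sections over V to sections over φ⁻¹(V) is an isomorphism of rings. The total spaces are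
schemes here; the source also allows algebraic spaces. -/
theorem result (S C₁ C₂ : Scheme.{u}) [IsIntegral S]
    [IsNoetherian S] (hS : Pi1.IsNormalScheme S) (f₁ : C₁ ⟶ S) (f₂ : C₂ ⟶ S)
    [Flat f₁] [IsProper f₁] [LocallyOfFinitePresentation f₁] [GeometricallyReduced f₁] [GeometricallyConnected f₁]
    [Flat f₂] [IsProper f₂] [LocallyOfFinitePresentation f₂] [GeometricallyReduced f₂] [GeometricallyConnected f₂]
    (hdim₁ : ∀ s : ↥S, topologicalKrullDim ↥(f₁.fiber s) = 1) (hdim₂ : ∀ s : ↥S, topologicalKrullDim ↥(f₂.fiber s) = 1)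
    (hsm₁ : Smooth (f₁.fiberToSpecResidueField (genericPoint ↥S)))
    (hsm₂ : Smooth (f₂.fiberToSpecResidueField (genericPoint ↥S)))
    (φ : C₁ ⟶ C₂) (hφ : φ ≫ f₂ = f₁) (hbir : ∃ U : C₂.Opens, Dense (U : Set ↥C₂) ∧ IsIso (φ ∣_ U)) :
    ∀ V : C₂.Opens, IsIso (φ.app V) := by
  obtain ⟨-, hi₁⟩ := normal_integral S C₁ hS f₁ hsm₁
  obtain ⟨hn₂, hi₂⟩ := normal_integral S C₂ hS f₂ hsm₂
  haveI := hi₁
  haveI := hi₂
  haveI : IsProper (φ ≫ f₂) := hφ ▸ inferInstance
  haveI : IsProper φ := IsProper.of_comp φ f₂
  obtain ⟨U, hU, hiso⟩ := hbir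
  haveI := hiso
  have hne : (U : Set ↥C₂).Nonempty := hU.nonempty
  have hη : genericPoint C₂ ∈ U := ((genericPoint_spec C₂).mem_open_set_iff U.2).2 (by simpa using hne)
  obtain ⟨x, hx⟩ := (φ ∣_ U).surjective ⟨_, hη⟩
  have hx' : φ x.1 = genericPoint C₂ := (morphismRestrict_base_coe φ U x).symm.trans (congrArg Subtype.val hx)
  have h : φ.base (genericPoint C₁) ⤳ genericPoint C₂ := by
    rw [← hx']
    exact (genericPoint_specializes x.1).map φ.continuous
  have hξ : genericPoint C₁ ∈ φ ⁻¹ᵁ U := (genericPoint_specializes x.1).mem_open (φ ⁻¹ᵁ U).2 x.2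
  haveI : IsIso (φ.stalkMap (genericPoint C₁)) :=
    ((MorphismProperty.isomorphisms CommRingCat).arrow_mk_iso_iff
      (morphismRestrictStalkMap φ U ⟨_, hξ⟩)).1 (inferInstanceAs (IsIso ((φ ∣_ U).stalkMap _)))
  have key : ∀ (y : C₂) (e : genericPoint C₂ = y) (h' : y ⤳ genericPoint C₂),
      Function.Bijective (C₂.presheaf.stalkSpecializes h') := by
    rintro y rfl h'
    rw [TopCat.Presheaf.stalkSpecializes_refl]
    exact Function.bijective_id
  have hb : Function.Bijective (CohIII.stalkToFunctionField φ (genericPoint C₂) h) :=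
    (ConcreteCategory.bijective_of_isIso (φ.stalkMap (genericPoint C₁))).comp
      (key _ (Fibration13.fgen φ h).symm h)
  exact fun V => (ConcreteCategory.isIso_iff_bijective _).2 (Fibration13.bijective_app_of_birational φ hn₂ h hb V)

end Groth.Agent.S18353
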