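import Groth.Statements.S18359
import Groth.Agent.Lib.SmoothExt9.Main
-- import your own Groth.Agent.* helpers here

set_option autoImplicit false
open CategoryTheory AlgebraicGeometry
universe u
open BlochOgus

namespace Groth.Agent.S18359

/-- Let i₁ : Z₁ → X₁ and i₂ : Z₂ → X₂ be closed immersions, f : X₂ → X₁ smooth of relative dimension n
and g : Z₂ → Z₁ smooth of relative dimension e with i₂ ≫ f = g ≫ i₁, and let T be a finite set of
points of X₂ contained in one affine open of X₂; assume that e < n or that T lies in the image of
i₂. Then there are an open U ⊇ T of X₂ and a closed subscheme W of U through which Z₂ ∩ U factors,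
such that W → X₁ is smooth and Z₂ ∩ U is the fibre product of W and Z₁ over X₁. (The published
statement concerns schemes separated and of finite type over a field or an excellent Dedekind
domain; this row assumes no base. The published statement also lets the finite set lie anywhere in
X₂ and asks only that f and g be smooth; both relaxations fail over the family xy = t on the plane
with the origin removed, whose fibre over t = 0 is two disjoint punctured lines: with Z₂ one of
these lines and T one point on each line (so e = n = 1 and T leaves Z₂), or with Z₂ one line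
together with a single point of the other line and T those two points (so g has relative dimension 1
on one part of Z₂ and 0 on the other), any such W would have to be the whole irreducible
neighbourhood U. The relative dimensions are therefore taken constant, and the finite set is taken
inside Z₂ unless e < n, in which case the first local equation cutting out W can also be chosen
non-vanishing at the points of T off Z₂.) -/
theorem result
    (X₁ X₂ Z₁ Z₂ : Scheme.{u}) (i₁ : Z₁ ⟶ X₁) (i₂ : Z₂ ⟶ X₂)
    [IsClosedImmersion i₁] [IsClosedImmersion i₂]
    (f : X₂ ⟶ X₁) (g : Z₂ ⟶ Z₁) (n e : ℕ)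
    [SmoothOfRelativeDimension n f] [SmoothOfRelativeDimension e g]
    (hsq : i₂ ≫ f = g ≫ i₁)
    (T : Set X₂) (hT : T.Finite) (hcase : e < n ∨ T ⊆ Set.range i₂.base)
    (V : X₂.Opens) (hV : IsAffineOpen V) (hTV : T ⊆ (V : Set X₂)) :
    ∃ U : X₂.Opens, T ⊆ (U : Set X₂) ∧
      ∃ (W : Scheme.{u}) (k : W ⟶ (U : Scheme.{u}))
        (m : ((i₂ ⁻¹ᵁ U : Z₂.Opens) : Scheme.{u}) ⟶ W),
        IsClosedImmersion k ∧ m ≫ k = i₂ ∣_ U ∧ AlgebraicGeometry.Smooth (k ≫ U.ι ≫ f) ∧
          IsPullback m ((i₂ ⁻¹ᵁ U).ι ≫ g) (k ≫ U.ι ≫ f) i₁ := by
  exact Groth.Agent.SmoothExt9.exists_nhd_closedSubscheme i₁ i₂ f g n e hsq T hT hcase V hV hTV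

end Groth.Agent.S18359
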