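import Groth.Statements.S18362
import Groth.Agent.Lib.PthRoot25.Main

set_option autoImplicit false
universe u
open SGA1t

namespace Groth.Agent.S18362

/-- Let A be a regular local ring which is henselian with separably closed residue field of
characteristic p > 0, and let f be an element of A such that A/(f) is a regular local ring in which
p is nonzero. Write A₁ = A[t]/(t^p - f) and let B be a finite étale algebra over A[1/f]. If there is
a finite étale A₁-algebra C₁ with C₁[1/f] isomorphic to A₁ ⊗_A B as A₁-algebras, then there is a
finite étale A-algebra C with C[1/f] isomorphic to B as A-algebras. The published statement also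
assumes the cover connected and tamely ramified along f = 0; this row assumes neither, tameness
being automatic here because the generic point of the divisor f = 0 has residue characteristic zero. -/
theorem result {A : Type u} [CommRing A]
    [IsRegularLocalRing A] [HenselianLocalRing A] [IsSepClosed (IsLocalRing.ResidueField A)]
    (p : ℕ) [Fact p.Prime] [CharP (IsLocalRing.ResidueField A) p] (f : A)
    (hreg : IsRegularLocalRing (A ⧸ Ideal.span {f})) (hp : (p : A) ∉ Ideal.span {f})
    (B : Type u) [CommRing B] [Algebra A B] [Algebra (Localization.Away f) B]
    [IsScalarTower A (Localization.Away f) B] [Module.Finite (Localization.Away f) B]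
    [Algebra.Etale (Localization.Away f) B]
    (h : ∃ (C₁ : Type u) (_ : CommRing C₁) (_ : Algebra (AdjoinRoot (Polynomial.X ^ p - Polynomial.C f)) C₁),
      Module.Finite (AdjoinRoot (Polynomial.X ^ p - Polynomial.C f)) C₁ ∧
      Algebra.Etale (AdjoinRoot (Polynomial.X ^ p - Polynomial.C f)) C₁ ∧
      Nonempty (Localization.Away (algebraMap (AdjoinRoot (Polynomial.X ^ p - Polynomial.C f)) C₁
          (AdjoinRoot.of (Polynomial.X ^ p - Polynomial.C f) f))
        ≃ₐ[AdjoinRoot (Polynomial.X ^ p - Polynomial.C f)]
          TensorProduct A (AdjoinRoot (Polynomial.X ^ p - Polynomial.C f)) B)) :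
    ∃ (C : Type u) (_ : CommRing C) (_ : Algebra A C), Module.Finite A C ∧ Algebra.Etale A C ∧
      Nonempty (Localization.Away (algebraMap A C f) ≃ₐ[A] B) := by
  obtain ⟨C₁, _, _, hfin, het, ⟨e⟩⟩ := h
  haveI := hfin
  haveI := het
  exact Groth.Agent.PthRoot25.exists_extension p f hreg hp B C₁ e

end Groth.Agent.S18362
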