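import Groth.Statements.S18363
import Mathlib

set_option autoImplicit false
universe u
open CategoryTheory
open CAlg

namespace Groth.Agent.S18363
open CategoryTheory IsLocalRing
open scoped Pointwise

/-- Let R be a Noetherian local ring with maximal ideal m, and P, Q ideals of R such that P + Q contains
a power of m while R/P and R/Q are both reduced of Krull dimension one. Let I and J be nonzero
finitely generated R-modules with P·I = 0 and Q·J = 0, such that every element of R whose class in
R/P is a non-zero-divisor acts injectively on I, and every element whose class in R/Q is a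
non-zero-divisor acts injectively on J. Then the group Ext¹_R(I, J) is nonzero. (This is the stalk
statement behind the existence of a non-split extension of a torsion-free rank-one sheaf on a
subcurve Y by one on a subcurve Z of a reduced projective curve, at a point where Y and Z meet
without sharing a component; in that situation the modules moreover have rank one at the generic
points of their supports and P ∩ Q = 0, two assumptions the argument does not use.) -/
theorem result
    (R : Type u) [CommRing R] [IsNoetherianRing R] [IsLocalRing R]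
    (P Q : Ideal R) (hPQ : ∃ n : ℕ, IsLocalRing.maximalIdeal R ^ n ≤ P ⊔ Q)
    [IsReduced (R ⧸ P)] [IsReduced (R ⧸ Q)]
    (hPdim : ringKrullDim (R ⧸ P) = 1) (hQdim : ringKrullDim (R ⧸ Q) = 1)
    (I J : Type u) [AddCommGroup I] [Module R I] [Module.Finite R I] [Nontrivial I]
    [AddCommGroup J] [Module R J] [Module.Finite R J] [Nontrivial J]
    (hPI : ∀ p ∈ P, ∀ x : I, p • x = 0) (hQJ : ∀ q ∈ Q, ∀ y : J, q • y = 0)
    (hItf : ∀ r : R, Ideal.Quotient.mk P r ∈ nonZeroDivisors (R ⧸ P) → ∀ x : I, r • x = 0 → x = 0)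
    (hJtf : ∀ r : R, Ideal.Quotient.mk Q r ∈ nonZeroDivisors (R ⧸ Q) → ∀ y : J, r • y = 0 → y = 0) :
    Nontrivial (Abelian.Ext (ModuleCat.of R I) (ModuleCat.of R J) 1) := by
  classical
  obtain ⟨n, hn⟩ := hPQ
  have hQr : Q.radical = Q := Ideal.IsRadical.radical ((Ideal.isRadical_iff_quotient_reduced Q).mpr inferInstance)
  have hne : ∀ p : Ideal R, p.IsPrime → Q ≤ p → P ≤ p → p = maximalIdeal R := fun p hp h1 h2 =>
    le_antisymm (le_maximalIdeal hp.ne_top) (hp.le_of_pow_le (hn.trans (sup_le h2 h1)))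
  have hnot : ∀ p ∈ Q.minimalPrimes, ¬ P ≤ p := by
    intro p hp hPp
    have hpm := hne p hp.1.1 hp.1.2 hPp
    have : Ring.KrullDimLE 0 (R ⧸ Q) := by
      rw [Ring.krullDimLE_zero_iff]
      intro K hK
      have h3 : K.comap (Ideal.Quotient.mk Q) = maximalIdeal R := by
        refine le_antisymm (le_maximalIdeal (Ideal.IsPrime.comap _).ne_top) ?_
        rw [← hpm]
        refine hp.2 ⟨inferInstance, fun q hq => ?_⟩ (hpm ▸ le_maximalIdeal (Ideal.IsPrime.comap _).ne_top)
        show Ideal.Quotient.mk Q q ∈ K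
        rw [Ideal.Quotient.eq_zero_iff_mem.mpr hq]; exact zero_mem _
      rw [← Ideal.map_comap_of_surjective _ Ideal.Quotient.mk_surjective K, h3]
      refine (Ideal.map_eq_top_or_isMaximal_of_surjective _ Ideal.Quotient.mk_surjective inferInstance).resolve_left ?_
      rw [← h3, Ideal.map_comap_of_surjective _ Ideal.Quotient.mk_surjective K]
      exact hK.ne_top
    haveI : Nontrivial (R ⧸ Q) := Ideal.Quotient.nontrivial_iff.mpr fun h => hp.1.1.ne_top (top_le_iff.mp (h ▸ hp.1.2))
    have h0 := ringKrullDimZero_iff_ringKrullDim_eq_zero.mp ‹Ring.KrullDimLE 0 (R ⧸ Q)›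
    rw [hQdim] at h0
    exact one_ne_zero h0
  have hfin : Q.minimalPrimes.Finite := Ideal.finite_minimalPrimes_of_isNoetherianRing R Q
  obtain ⟨r, hrP, hr⟩ : ∃ r ∈ P, ∀ p ∈ Q.minimalPrimes, r ∉ p := by
    by_contra hc
    push Not at hc
    have hsub : (P : Set R) ⊆ ⋃ p ∈ (↑hfin.toFinset : Set (Ideal R)), (p : Set R) := fun r hr => by
      obtain ⟨p, hp, hrp⟩ := hc r hr
      simp only [Set.mem_iUnion, Finset.mem_coe]
      exact ⟨p, hfin.mem_toFinset.mpr hp, hrp⟩
    obtain ⟨p, hp, hle⟩ := (Ideal.subset_union_prime ⊥ ⊥ (fun p hp _ _ => (hfin.mem_toFinset.mp hp).1.1)).mp hsub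
    exact hnot p (hfin.mem_toFinset.mp hp) hle
  have hreg : IsSMulRegular J r := by
    refine isSMulRegular_iff_right_eq_zero_of_smul.mpr fun y hy => hJtf r ?_ y hy
    rw [mem_nonZeroDivisors_iff_right]
    intro s hs
    obtain ⟨s, rfl⟩ := Ideal.Quotient.mk_surjective s
    rw [← map_mul, Ideal.Quotient.eq_zero_iff_mem] at hs
    rw [Ideal.Quotient.eq_zero_iff_mem, ← hQr, ← Ideal.sInf_minimalPrimes]
    refine Submodule.mem_sInf.mpr fun p hp => ?_
    exact (hp.1.1.mem_or_mem (hp.1.2 hs)).resolve_right (hr p hp)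
  let S := (ModuleCat.of R J).smulShortComplex r
  have hS : S.ShortExact := hreg.smulShortComplex_shortExact (M := ModuleCat.of R J)
  haveI : Nontrivial (J ⧸ r • (⊤ : Submodule R J)) := by
    rw [Submodule.Quotient.nontrivial_iff, ← Submodule.ideal_span_singleton_smul]
    intro h
    have hrm : Ideal.span {r} ≤ maximalIdeal R := by
      rw [Ideal.span_singleton_le_iff_mem]
      exact le_maximalIdeal (fun h => by
        haveI := Ideal.Quotient.subsingleton_iff.mpr h
        rw [ringKrullDim_eq_bot_of_subsingleton] at hPdim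
        exact WithBot.bot_ne_coe hPdim) hrP
    have := Submodule.eq_bot_of_le_smul_of_le_jacobson_bot (Ideal.span {r}) (⊤ : Submodule R J)
      Module.Finite.fg_top h.ge (hrm.trans (maximalIdeal_le_jacobson _))
    exact not_subsingleton J (subsingleton_of_forall_eq 0 fun y =>
      (Submodule.mem_bot R).mp (this.le (Submodule.mem_top (x := y))))
  obtain ⟨p, hp⟩ := associatedPrimes.nonempty R (J ⧸ r • (⊤ : Submodule R J))
  obtain ⟨hpp, z, hz⟩ := (isAssociatedPrime_iff_exists_injective_linearMap p _).mp hp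
  have hpm : p = maximalIdeal R := by
    have hQp : Q ≤ p := fun q hq => by
      rw [← Ideal.Quotient.eq_zero_iff_mem]
      refine hz ?_
      rw [map_zero, show Ideal.Quotient.mk p q = q • (1 : R ⧸ p) by rw [Algebra.smul_def, mul_one]; rfl, map_smul]
      obtain ⟨y, hy⟩ := Submodule.mkQ_surjective _ (z 1)
      rw [← hy, ← map_smul, hQJ q hq, map_zero]
    have hrp : r ∈ p := by
      rw [← Ideal.Quotient.eq_zero_iff_mem]
      refine hz ?_
      rw [map_zero, show Ideal.Quotient.mk p r = r • (1 : R ⧸ p) by rw [Algebra.smul_def, mul_one]; rfl, map_smul]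
      obtain ⟨y, hy⟩ := Submodule.mkQ_surjective _ (z 1)
      rw [← hy, ← map_smul, Submodule.mkQ_apply, Submodule.Quotient.mk_eq_zero]
      exact Submodule.smul_mem_pointwise_smul y r _ Submodule.mem_top
    by_contra hpne
    obtain ⟨q, hq, hqp⟩ := Ideal.exists_minimalPrimes_le hQp
    have hlt : q < p := lt_of_le_of_ne hqp fun h => hr q hq (h ▸ hrp)
    have hlt2 : p < maximalIdeal R := lt_of_le_of_ne (le_maximalIdeal hpp.ne_top) hpne
    haveI := hq.1.1
    let sq : PrimeSpectrum.zeroLocus (R := R) Q := ⟨⟨q, hq.1.1⟩, hq.1.2⟩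
    let sp : PrimeSpectrum.zeroLocus (R := R) Q := ⟨⟨p, hpp⟩, hQp⟩
    let sm : PrimeSpectrum.zeroLocus (R := R) Q := ⟨⟨maximalIdeal R, inferInstance⟩, hQp.trans hlt2.le⟩
    let c : LTSeries (PrimeSpectrum.zeroLocus (R := R) Q) :=
      ((RelSeries.singleton _ sq).snoc sp (show sq < sp from hlt)).snoc sm
        (by simp only [RelSeries.last_snoc]; exact hlt2)
    have hc := Order.LTSeries.length_le_krullDim c
    rw [← ringKrullDim_quotient, hQdim] at hc
    have hc2 : c.length = 2 := rfl
    rw [hc2] at hc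
    exact absurd (WithBot.coe_le_coe.mp hc) (by decide)
  subst hpm
  obtain ⟨π, hπ⟩ : ∃ π : I →ₗ[R] (R ⧸ maximalIdeal R), π ≠ 0 := by
    haveI : Nontrivial (I ⧸ maximalIdeal R • (⊤ : Submodule R I)) := by
      rw [Submodule.Quotient.nontrivial_iff]
      intro h
      have := Submodule.eq_bot_of_le_smul_of_le_jacobson_bot (maximalIdeal R) (⊤ : Submodule R I)
        Module.Finite.fg_top h.ge (maximalIdeal_le_jacobson _)
      exact not_subsingleton I (subsingleton_of_forall_eq 0 fun y =>
        (Submodule.mem_bot R).mp (this.le (Submodule.mem_top (x := y))))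
    obtain ⟨v, hv⟩ := exists_ne (0 : I ⧸ maximalIdeal R • (⊤ : Submodule R I))
    letI : Field (R ⧸ maximalIdeal R) := Ideal.Quotient.field _
    obtain ⟨φ, hφ⟩ := Module.Projective.exists_dual_ne_zero (R ⧸ maximalIdeal R) hv
    refine ⟨(φ.restrictScalars R) ∘ₗ (maximalIdeal R • (⊤ : Submodule R I)).mkQ, fun h => hφ ?_⟩
    obtain ⟨w, rfl⟩ := Submodule.mkQ_surjective _ v
    exact LinearMap.congr_fun h w
  let g : ModuleCat.of R I ⟶ S.X₃ := ModuleCat.ofHom (z ∘ₗ π)
  refine nontrivial_of_ne ((Abelian.Ext.mk₀ g).comp hS.extClass (zero_add 1)) 0 fun h0 => ?_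
  obtain ⟨x2, hx2⟩ := Abelian.Ext.covariant_sequence_exact₃ _ hS (Abelian.Ext.mk₀ g) (zero_add 1) h0
  obtain ⟨l, rfl⟩ := (Abelian.Ext.mk₀_bijective _ _).2 x2
  rw [Abelian.Ext.mk₀_comp_mk₀] at hx2
  have hl : l = 0 := by
    ext x
    refine isSMulRegular_iff_right_eq_zero_of_smul.mp hreg _ ?_
    show r • l.hom x = 0
    rw [← map_smul, hPI r hrP, map_zero]
  have hg := (Abelian.Ext.mk₀_bijective _ _).1 hx2
  rw [hl, Limits.zero_comp] at hg
  refine hπ (LinearMap.ext fun x => hz ?_)
  have := congrArg (fun f => f.hom x) hg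
  rw [LinearMap.zero_apply, map_zero]
  exact this.symm

end Groth.Agent.S18363
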