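import Groth.Statements.S18364
import Groth.Statements.S18365
import Mathlib

set_option autoImplicit false
universe u
open CAlg

namespace Groth.Agent.S18364

theorem minimal_pow {A : Type u} [CommRing A] {J P : Ideal A} (hP : P ∈ J.minimalPrimes) {s : A}
    (hs : s ∈ P) : ∃ (k : ℕ) (t : A), t ∉ P ∧ s ^ k * t ∈ J := by
  haveI := hP.1.1
  by_contra hcon
  simp only [not_exists, not_and] at hcon
  let S : Submonoid A :=
    { carrier := {x | ∃ (k : ℕ) (t : A), t ∉ P ∧ x = s ^ k * t}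
      one_mem' := ⟨0, 1, P.ne_top_iff_one.1 hP.1.1.ne_top, by simp⟩
      mul_mem' := by
        rintro _ _ ⟨k, t, ht, rfl⟩ ⟨l, u, hu, rfl⟩
        exact ⟨k + l, t * u, fun h => (hP.1.1.mem_or_mem h).elim ht hu, by ring⟩ }
  obtain ⟨Q, hQ, hJQ, hQS⟩ := Ideal.exists_le_prime_disjoint J S (Set.disjoint_left.2 fun x hx => by
    rintro ⟨k, t, ht, rfl⟩
    exact hcon k t ht hx)
  have hQP : Q ≤ P := fun x hx => by
    by_contra hxP
    exact Set.disjoint_left.1 hQS hx ⟨0, x, hxP, by simp⟩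
  exact Set.disjoint_left.1 hQS ((hP.2 ⟨hQ, hJQ⟩ hQP) hs) ⟨1, 1, P.ne_top_iff_one.1 hP.1.1.ne_top, by simp⟩

/-- Let A be a Noetherian ring, π an element of A, and (𝔓_i)_{i ∈ ι} an injective finite family listing
exactly the minimal prime ideals over (π). Let M be a finitely generated A-module and M̄ = M/πM. For
a subset T of ι let K(T) ⊆ M̄ be the submodule of elements whose image in the localisation of M̄ at
𝔓_i is zero for every i ∈ T, and N(T) ⊆ M its preimage in M. Assume K(ι) = 0, i.e. no nonzero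
element of M̄ vanishes at all the minimal primes (every associated prime of M̄ is one of the 𝔓_i).
Then for every subset Y of ι with complement Z one has N(Y) ∩ N(Z) = πM, and the same construction
applied to the module N(Y) instead of M — the preimage in N(Y) of the elements of N(Y)/πN(Y)
vanishing at every 𝔓_i with i ∈ Z — is, as a submodule of M, equal to N(Y) ∩ N(Z). (Geometric
meaning: A is the local ring of a flat family of curves over a discrete valuation ring with
uniformizer π at a point of the reduced special fibre, M the stalk of a torsion-free rank-one sheaf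
I, Y a set of components of the special fibre through the point, and N(Y) the stalk of the kernel
I^Y of I → I(s)_Y; the statement is (I^Y)^Z = I^Y ∩ I^Z = πI. Reducedness of A/πA, flatness and rank
one are not used.) -/
theorem result
    (A : Type u) [CommRing A] [IsNoetherianRing A] (π : A)
    (ι : Type) [Finite ι] (𝔓 : ι → Ideal A) [∀ i, (𝔓 i).IsPrime]
    (h𝔓 : ∀ i, 𝔓 i ∈ (Ideal.span {π}).minimalPrimes) (h𝔓inj : Function.Injective 𝔓)
    (h𝔓surj : ∀ 𝔔 ∈ (Ideal.span {π}).minimalPrimes, ∃ i, 𝔓 i = 𝔔)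
    (M : Type u) [AddCommGroup M] [Module A M] [Module.Finite A M]
    (K : Set ι → Submodule A (M ⧸ Ideal.span {π} • (⊤ : Submodule A M)))
    (hK : ∀ T : Set ι, K T = ⨅ i ∈ T, LinearMap.ker
      (LocalizedModule.mkLinearMap (𝔓 i).primeCompl (M ⧸ Ideal.span {π} • (⊤ : Submodule A M))))
    (htf : K Set.univ = ⊥)
    (N : Set ι → Submodule A M)
    (hN : ∀ T : Set ι, N T = (K T).comap (Submodule.mkQ (Ideal.span {π} • (⊤ : Submodule A M))))
    (Y : Set ι) :
    N Y ⊓ N Yᶜ = Ideal.span {π} • (⊤ : Submodule A M) ∧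
    Submodule.map (N Y).subtype
      ((⨅ i ∈ Yᶜ, LinearMap.ker (LocalizedModule.mkLinearMap (𝔓 i).primeCompl
          (↥(N Y) ⧸ Ideal.span {π} • (⊤ : Submodule A ↥(N Y))))).comap
        (Submodule.mkQ (Ideal.span {π} • (⊤ : Submodule A ↥(N Y)))))
      = N Y ⊓ N Yᶜ := by
  classical
  have hfirst : N Y ⊓ N Yᶜ = Ideal.span {π} • (⊤ : Submodule A M) := by
    rw [hN, hN, ← Submodule.comap_inf]
    have : K Y ⊓ K Yᶜ = ⊥ := by
      rw [eq_bot_iff, ← htf, hK Set.univ]
      refine le_iInf₂ fun i _ => ?_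
      by_cases hi : i ∈ Y
      · exact inf_le_left.trans (hK Y ▸ iInf₂_le i hi)
      · exact inf_le_right.trans (hK Yᶜ ▸ iInf₂_le (α := Submodule A _) i (show i ∈ Yᶜ from hi))
    rw [this, Submodule.comap_bot, Submodule.ker_mkQ]
  refine ⟨hfirst, ?_⟩
  have hmem : ∀ (T : Set ι) (x : M), x ∈ N T ↔
      ∀ i ∈ T, ∃ s, s ∉ 𝔓 i ∧ s • x ∈ Ideal.span {π} • (⊤ : Submodule A M) := fun T x => by
    rw [hN, hK, Submodule.mem_comap, Submodule.mem_iInf]
    refine forall_congr' fun i => ?_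
    rw [Submodule.mem_iInf]
    refine forall_congr' fun _ => ?_
    rw [LocalizedModule.mem_ker_mkLinearMap_iff]
    simp only [Submodule.mkQ_apply, ← Submodule.Quotient.mk_smul, Submodule.Quotient.mk_eq_zero, Ideal.mem_primeCompl_iff]
  ext x
  constructor
  · rintro ⟨⟨z, hz⟩, hzmem, rfl⟩
    refine ⟨hz, (hmem _ _).2 fun i hi => ?_⟩
    simp only [SetLike.mem_coe, Submodule.mem_comap, Submodule.mem_iInf] at hzmem
    obtain ⟨s, hs, hs'⟩ := LocalizedModule.mem_ker_mkLinearMap_iff.1 (hzmem i hi)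
    rw [Submodule.mkQ_apply, ← Submodule.Quotient.mk_smul, Submodule.Quotient.mk_eq_zero] at hs'
    refine ⟨s, hs, ?_⟩
    rw [Submodule.mem_smul_top_iff] at hs'
    exact Submodule.smul_mono le_rfl le_top hs'
  · intro hx
    refine ⟨⟨x, hx.1⟩, ?_, rfl⟩
    rw [hfirst, Submodule.ideal_span_singleton_smul, Submodule.mem_smul_pointwise_iff_exists] at hx
    obtain ⟨m, -, rfl⟩ := hx
    simp only [SetLike.mem_coe, Submodule.mem_comap, Submodule.mem_iInf]
    intro j hj
    have : ∀ i, ∃ s, s ∉ 𝔓 j ∧ (i ∈ Y → s ∈ 𝔓 i) := fun i => by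
      by_cases hi : i ∈ Y
      · have hne : ¬ 𝔓 i ≤ 𝔓 j := fun hle => hj ((h𝔓inj (le_antisymm hle ((h𝔓 j).2 (h𝔓 i).1 hle))) ▸ hi)
        obtain ⟨s, hs, hs'⟩ := SetLike.not_le_iff_exists.1 hne
        exact ⟨s, hs', fun _ => hs⟩
      · exact ⟨1, (𝔓 j).ne_top_iff_one.1 (Ideal.IsPrime.ne_top'), fun h => absurd h hi⟩
    choose s hs hsY using this
    cases nonempty_fintype ι
    have hkt : ∀ i, ∃ k : ℕ, i ∈ Y → ∃ t, t ∉ 𝔓 i ∧ s i ^ k * t ∈ Ideal.span {π} := fun i => by
      by_cases hi : i ∈ Y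
      · obtain ⟨k, t, h1, h2⟩ := minimal_pow (h𝔓 i) (hsY i hi)
        exact ⟨k, fun _ => ⟨t, h1, h2⟩⟩
      · exact ⟨0, fun h => absurd h hi⟩
    choose k hk using hkt
    set S := ∏ i, s i ^ k i
    have hS : S ∉ 𝔓 j := fun h => by
      obtain ⟨i, -, hi⟩ := (Ideal.IsPrime.prod_mem_iff).1 h
      exact hs i (Ideal.IsPrime.mem_of_pow_mem inferInstance _ hi)
    have hSm : S • m ∈ N Y := (hmem _ _).2 fun i hi => by
      obtain ⟨t, ht, ht'⟩ := hk i hi
      refine ⟨t, ht, ?_⟩
      rw [← mul_smul]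
      refine Submodule.smul_mem_smul ?_ trivial
      rw [show t * S = (s i ^ k i * t) * ∏ l ∈ Finset.univ.erase i, s l ^ k l by
        simp only [S]; rw [← Finset.mul_prod_erase _ _ (Finset.mem_univ i)]; ring]
      exact Ideal.mul_mem_right _ _ ht'
    rw [LocalizedModule.mem_ker_mkLinearMap_iff]
    refine ⟨S, hS, ?_⟩
    rw [Submodule.mkQ_apply, ← Submodule.Quotient.mk_smul, Submodule.Quotient.mk_eq_zero,
      Submodule.ideal_span_singleton_smul, Submodule.mem_smul_pointwise_iff_exists]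
    exact ⟨⟨S • m, hSm⟩, trivial, Subtype.ext (smul_comm π S m)⟩

end Groth.Agent.S18364
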