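import Groth.Statements.S18365
import Groth.Statements.S18364
import Mathlib

set_option autoImplicit false
universe u
open CAlg

namespace Groth.Agent.S18365

/-- Let A be a Noetherian ring, π an element of A, (𝔓_i)_{i ∈ ι} an injective finite family listing
exactly the minimal prime ideals over (π), and M a finitely generated A-module on which π acts
injectively; put M̄ = M/πM. For T ⊆ ι let K(T) ⊆ M̄ be the submodule of elements whose image in the
localisation of M̄ at 𝔓_i vanishes for every i ∈ T, and N(T) ⊆ M its preimage; assume K(ι) = 0.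
Suppose that M̄ decomposes at Y, i.e. K(Y) + K(Yᶜ) = M̄, and that for a subset Z the module
N(Y)/πN(Y) decomposes at Z, i.e. its submodule of elements vanishing at every 𝔓_i (i ∈ Z) and its
submodule of elements vanishing at every 𝔓_i (i ∉ Z) together span it. Then M̄ decomposes at Z: K(Z)
+ K(Zᶜ) = M̄. (Geometric meaning: for a flat family of curves over a discrete valuation ring with
uniformizer π, I a torsion-free rank-one sheaf flat over the base, Y a subcurve of the special fibre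
X(s) at which I(s) decomposes and I^Y = ker(I → I(s)_Y): if I^Y(s) decomposes at a subcurve Z then
so does I(s); decomposition of a sheaf at Z is the surjectivity of I(s) → I(s)_Z ⊕ I(s)_{Z^c},
checked on stalks. Reducedness of the special fibre and rank one are not used.) -/
theorem result
    (A : Type u) [CommRing A] [IsNoetherianRing A] (π : A)
    (ι : Type) [Finite ι] (𝔓 : ι → Ideal A) [∀ i, (𝔓 i).IsPrime]
    (h𝔓 : ∀ i, 𝔓 i ∈ (Ideal.span {π}).minimalPrimes) (h𝔓inj : Function.Injective 𝔓)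
    (h𝔓surj : ∀ 𝔔 ∈ (Ideal.span {π}).minimalPrimes, ∃ i, 𝔓 i = 𝔔)
    (M : Type u) [AddCommGroup M] [Module A M] [Module.Finite A M]
    (hπ : ∀ m : M, π • m = 0 → m = 0)
    (K : Set ι → Submodule A (M ⧸ Ideal.span {π} • (⊤ : Submodule A M)))
    (hK : ∀ T : Set ι, K T = ⨅ i ∈ T, LinearMap.ker
      (LocalizedModule.mkLinearMap (𝔓 i).primeCompl (M ⧸ Ideal.span {π} • (⊤ : Submodule A M))))
    (htf : K Set.univ = ⊥)
    (N : Set ι → Submodule A M)
    (hN : ∀ T : Set ι, N T = (K T).comap (Submodule.mkQ (Ideal.span {π} • (⊤ : Submodule A M))))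
    (Y Z : Set ι) (hY : K Y ⊔ K Yᶜ = ⊤)
    (K' : Set ι → Submodule A (↥(N Y) ⧸ Ideal.span {π} • (⊤ : Submodule A ↥(N Y))))
    (hK' : ∀ T : Set ι, K' T = ⨅ i ∈ T, LinearMap.ker
      (LocalizedModule.mkLinearMap (𝔓 i).primeCompl (↥(N Y) ⧸ Ideal.span {π} • (⊤ : Submodule A ↥(N Y)))))
    (hZ : K' Z ⊔ K' Zᶜ = ⊤) :
    K Z ⊔ K Zᶜ = ⊤ := by
  classical
  let q := (Ideal.span {π} • (⊤ : Submodule A M)).mkQ
  set q' := (Ideal.span {π} • (⊤ : Submodule A ↥(N Y))).mkQ
  have hcap : ∀ T, K T ⊓ K Tᶜ = ⊥ := by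
    intro T
    rw [eq_bot_iff, ← htf, hK Set.univ]
    refine le_iInf₂ fun i _ => ?_
    by_cases hi : i ∈ T
    · exact inf_le_left.trans (hK T ▸ iInf₂_le i hi)
    · exact inf_le_right.trans (hK Tᶜ ▸ iInf₂_le (α := Submodule A _) i (show i ∈ Tᶜ from hi))
  have hK'mem : ∀ (T : Set ι) (y : N Y), q' y ∈ K' T → ∀ i ∈ T, ∃ s, s ∉ 𝔓 i ∧ ∃ y' : M, y' ∈ N Y ∧ π • y' = s • (y : M) := by
    intro T y hy i hi
    rw [hK'] at hy
    simp only [Submodule.mem_iInf] at hy
    obtain ⟨s, hs, hs'⟩ := LocalizedModule.mem_ker_mkLinearMap_iff.1 (hy i hi)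
    rw [Submodule.mkQ_apply, ← Submodule.Quotient.mk_smul, Submodule.Quotient.mk_eq_zero,
      Submodule.ideal_span_singleton_smul, Submodule.mem_smul_pointwise_iff_exists] at hs'
    obtain ⟨y', -, hy'⟩ := hs'
    exact ⟨s, hs, y', y'.2, congrArg Subtype.val hy'⟩
  -- `K' T` maps into `K T`
  have himg : ∀ (T : Set ι) (y : N Y), q' y ∈ K' T → q y ∈ K T := by
    intro T y hy
    rw [hK]
    simp only [Submodule.mem_iInf]
    intro i hi
    obtain ⟨s, hs, y', -, hy'⟩ := hK'mem T y hy i hi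
    rw [LocalizedModule.mem_ker_mkLinearMap_iff]
    refine ⟨s, hs, ?_⟩
    rw [Submodule.mkQ_apply, ← Submodule.Quotient.mk_smul, ← hy', Submodule.Quotient.mk_eq_zero]
    exact Submodule.smul_mem_smul (Ideal.mem_span_singleton_self π) trivial
  have hsplit : ∀ y : N Y, ∃ a b : N Y, q' a ∈ K' Z ∧ q' b ∈ K' Zᶜ ∧ a + b = y := by
    intro y
    obtain ⟨u, hu, v, hv, huv⟩ := Submodule.mem_sup.1 (show q' y ∈ K' Z ⊔ K' Zᶜ by rw [hZ]; trivial)
    obtain ⟨a, rfl⟩ := Submodule.mkQ_surjective _ u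
    refine ⟨a, y - a, hu, ?_, by abel⟩
    rw [map_sub, ← huv, add_sub_cancel_left]
    exact hv
  have hYle : K Y ≤ K Z ⊔ K Zᶜ := by
    intro c hc
    obtain ⟨m, rfl⟩ := Submodule.mkQ_surjective _ c
    obtain ⟨a, b, ha, hb, hab⟩ := hsplit ⟨m, by rw [hN]; exact hc⟩
    rw [show m = (a : M) + b from congrArg Subtype.val hab.symm, map_add]
    exact Submodule.add_mem_sup (himg Z a ha) (himg Zᶜ b hb)
  refine eq_top_iff.2 (hY ▸ sup_le hYle ?_)
  intro c hc
  obtain ⟨m, rfl⟩ := Submodule.mkQ_surjective _ c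
  have hπm : π • m ∈ N Y := by
    rw [hN, Submodule.mem_comap]
    convert zero_mem (K Y)
    exact (Submodule.Quotient.mk_eq_zero _).2 (Submodule.smul_mem_smul (Ideal.mem_span_singleton_self π) trivial)
  obtain ⟨a, b, ha, hb, hab⟩ := hsplit ⟨_, hπm⟩
  have hab' : (a : M) + b = π • m := congrArg Subtype.val hab
  have hqa : q a = 0 := by
    have h1 : q a + q b = 0 := by
      rw [← map_add, hab']
      exact (Submodule.Quotient.mk_eq_zero _).2 (Submodule.smul_mem_smul (Ideal.mem_span_singleton_self π) trivial)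
    have : q a ∈ K Z ⊓ K Zᶜ := ⟨himg Z a ha, by rw [eq_neg_of_add_eq_zero_left h1]; exact neg_mem (himg Zᶜ b hb)⟩
    rwa [hcap, Submodule.mem_bot] at this
  rw [Submodule.mkQ_apply, Submodule.Quotient.mk_eq_zero, Submodule.ideal_span_singleton_smul,
    Submodule.mem_smul_pointwise_iff_exists] at hqa
  obtain ⟨a', -, ha'⟩ := hqa
  have hb' : π • (m - a') = (b : M) := by rw [smul_sub, ← hab', ha', add_sub_cancel_left]
  -- the `K Yᶜ`-component of a part
  have key : ∀ (T : Set ι) (x : N Y) (x' : M), q' x ∈ K' T → π • x' = (x : M) →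
      ∀ u ∈ K Y, ∀ v ∈ K Yᶜ, u + v = q x' → v ∈ K T := by
    intro T x x' hx hx' u hu v hv huv
    rw [hK T]
    simp only [Submodule.mem_iInf]
    intro i hi
    obtain ⟨s, hs, y', hy', hy''⟩ := hK'mem T x hx i hi
    have hy : y' = s • x' := sub_eq_zero.1 (hπ _ (by rw [smul_sub, hy'', smul_comm, hx', sub_self]))
    have hsx : s • q x' ∈ K Y := by
      rw [← map_smul, ← hy]
      rw [hN] at hy'
      exact hy'
    have hsv : s • v ∈ K Y := by
      rw [show v = q x' - u by rw [← huv, add_sub_cancel_left], smul_sub]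
      exact sub_mem hsx (Submodule.smul_mem _ s hu)
    have : s • v ∈ K Y ⊓ K Yᶜ := ⟨hsv, Submodule.smul_mem _ s hv⟩
    rw [hcap, Submodule.mem_bot] at this
    rw [LocalizedModule.mem_ker_mkLinearMap_iff]
    exact ⟨s, hs, this⟩
  obtain ⟨u1, hu1, v1, hv1, huv1⟩ := Submodule.mem_sup.1 (show q a' ∈ K Y ⊔ K Yᶜ by rw [hY]; trivial)
  obtain ⟨u2, hu2, v2, hv2, huv2⟩ := Submodule.mem_sup.1 (show q (m - a') ∈ K Y ⊔ K Yᶜ by rw [hY]; trivial)
  have : q m - (v1 + v2) ∈ K Y ⊓ K Yᶜ := by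
    refine ⟨?_, sub_mem hc (add_mem hv1 hv2)⟩
    rw [show q m = q a' + q (m - a') by rw [← map_add, add_sub_cancel], ← huv1, ← huv2,
      show u1 + v1 + (u2 + v2) - (v1 + v2) = u1 + u2 by abel]
    exact add_mem hu1 hu2
  rw [hcap, Submodule.mem_bot, sub_eq_zero] at this
  rw [this]
  exact Submodule.add_mem_sup (key Z a a' ha ha' u1 hu1 v1 hv1 huv1) (key Zᶜ b (m - a') hb hb' u2 hu2 v2 hv2 huv2)

end Groth.Agent.S18365
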