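import Groth.Statements.S18367
import Mathlib
import Groth.Agent.Lib.Depth.SkOps
import Groth.Agent.Lib.Depth.Devissage
import Groth.Agent.Lib.HilbSam.Poly
-- import your own Groth.Agent.* helpers here

set_option autoImplicit false
universe u
open CategoryTheory CategoryTheory.Limits
open LocAlg

namespace Groth.Agent.S18367

/-- Let R be a Cohen–Macaulay local ring of Krull dimension g and K = (K^0 → K^1 → ⋯) a bounded cochain
complex of finitely generated free R-modules (K^i = 0 for i > N) such that every cohomology module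
H^i(K) has finite length. Then H^i(K) = 0 for all i < g. -/
theorem result (R : Type u) [CommRing R]
    [LocCoh.IsCohenMacaulayLocalRing R] (g : ℕ) (hg : ringKrullDim R = g) (K : CochainComplex (ModuleCat.{u} R) ℕ)
    (N : ℕ) (hbd : ∀ i, N < i → IsZero (K.X i)) (hfree : ∀ i, Module.Free R (K.X i) ∧ Module.Finite R (K.X i))
    (hfl : ∀ i, IsFiniteLength R (K.homology i)) (i : ℕ) (hi : i < g) :
    IsZero (K.homology i) := by
  let Q : ℕ → Type u := fun j => K.X j ⧸ LinearMap.range (K.d (j - 1) j).hom
  have hfin : ∀ j, Module.Finite R (K.X j) := fun j => (hfree j).2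
  have hprev : ∀ j, (ComplexShape.up ℕ).prev j = j - 1 := fun j => by cases j <;> simp
  have hR : LocCoh.depth R R = (g : ℕ∞) := by
    have h1 : Module.supportDim R R = ((LocCoh.depth R R : ℕ∞) : WithBot ℕ∞) :=
      LocCoh.IsCohenMacaulayLocalRing.supportDim_eq_depth
    rw [Module.supportDim_self_eq_ringKrullDim, hg] at h1
    exact (WithBot.coe_injective h1).symm
  have hX : ∀ j, (g : ℕ∞) ≤ LocCoh.depth R (K.X j) := fun j => by
    have := (hfree j).1
    obtain ⟨b⟩ : Nonempty (K.X j ≃ₗ[R] (Fin (Fintype.card (Module.Free.ChooseBasisIndex R (K.X j))) → R)) :=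
      ⟨((Module.Free.chooseBasis R (K.X j)).reindex (Fintype.equivFin _)).equivFun⟩
    rw [LocCoh.depth, DepthLib.idealDepth_congr b]
    exact hR.ge.trans (DepthLib.idealDepth_le_pi _ _)
  suffices h : ∀ j < g, IsZero (K.homology j) ∧ ((g - j : ℕ) : ℕ∞) ≤ LocCoh.depth R (Q j) from
    (h i hi).1
  intro j
  induction j using Nat.strong_induction_on with
  | _ j ih =>
    intro hj
    have hQ : ((g - j : ℕ) : ℕ∞) ≤ LocCoh.depth R (Q j) := by
      rcases j with _ | j
      · have h0 : LinearMap.range (K.d (0 - 1) 0).hom = ⊥ := by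
          rw [K.shape _ _ (by simp), ModuleCat.hom_zero, LinearMap.range_zero]
        rw [LocCoh.depth, DepthLib.idealDepth_congr (Submodule.quotEquivOfEqBot _ h0)]
        exact (hX 0).trans' (by simp)
      · obtain ⟨hz, hd⟩ := ih j (Nat.lt_succ_self j) (Nat.lt_of_succ_lt hj)
        have hex : LinearMap.range (K.d (j - 1) j).hom = LinearMap.ker (K.d j (j + 1)).hom := by
          have := ((K.exactAt_iff' (j - 1) j (j + 1) (hprev j) (by simp)).1
            ((K.exactAt_iff_isZero_homology j).2 hz))
          exact (ShortComplex.moduleCat_exact_iff_range_eq_ker _).1 this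
        let f : Q j →ₗ[R] K.X (j + 1) :=
          (LinearMap.range (K.d (j - 1) j).hom).liftQ (K.d j (j + 1)).hom hex.le
        have hf : Function.Injective f := by
          rw [← LinearMap.ker_eq_bot]
          exact Submodule.ker_liftQ_eq_bot _ _ _ hex.ge
        let π : K.X (j + 1) →ₗ[R] Q (j + 1) := (LinearMap.range (K.d (j + 1 - 1) (j + 1)).hom).mkQ
        have hfπ : Function.Exact f π := by
          rw [LinearMap.exact_iff, Submodule.ker_mkQ, Submodule.range_liftQ]
          rfl
        have hS := DepthLib.shortExact_of_linearMap hf (Submodule.mkQ_surjective _) hfπ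
        have h2 := (DepthLib.idealDepth_shortExact (I := IsLocalRing.maximalIdeal R) hS).2.1
        refine (le_min ((hX (j + 1)).trans' (by exact_mod_cast Nat.sub_le g (j + 1))) ?_).trans h2
        refine (tsub_le_tsub_right hd 1).trans' ?_
        norm_cast
    refine ⟨?_, hQ⟩
    let S := K.sc' (j - 1) j (j + 1)
    have e : K.homology j ≅ S.moduleCatLeftHomologyData.H :=
      K.homologyIsoSc' (j - 1) j (j + 1) (hprev j) (by simp) ≪≫ S.moduleCatHomologyIso
    have hflH : IsFiniteLength R (LinearMap.ker (K.d j (j + 1)).hom ⧸ LinearMap.range S.moduleCatToCycles) :=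
      e.toLinearEquiv.isFiniteLength (hfl j)
    let H : Submodule R (Q j) :=
      Submodule.map (LinearMap.range (K.d (j - 1) j).hom).mkQ (LinearMap.ker (K.d j (j + 1)).hom)
    have hsurj : ∃ φ : (LinearMap.ker (K.d j (j + 1)).hom ⧸ LinearMap.range S.moduleCatToCycles) →ₗ[R] H,
        Function.Surjective φ := by
      let ψ : LinearMap.ker (K.d j (j + 1)).hom →ₗ[R] H :=
        (LinearMap.range (K.d (j - 1) j).hom).mkQ.submoduleMap _
      refine ⟨(LinearMap.range S.moduleCatToCycles).liftQ ψ ?_, ?_⟩
      · rintro _ ⟨x, rfl⟩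
        exact LinearMap.mem_ker.2 (Subtype.ext ((Submodule.Quotient.mk_eq_zero _).2 ⟨x, rfl⟩))
      · intro y
        obtain ⟨x, hx⟩ := (LinearMap.range (K.d (j - 1) j).hom).mkQ.submoduleMap_surjective _ y
        exact ⟨Submodule.Quotient.mk x, hx⟩
    obtain ⟨φ, hφ⟩ := hsurj
    have hHfl : IsFiniteLength R H := by
      rw [isFiniteLength_iff_isNoetherian_isArtinian] at hflH ⊢
      obtain ⟨_, _⟩ := hflH
      exact ⟨isNoetherian_of_surjective φ (LinearMap.range_eq_top.2 hφ),
        isArtinian_of_surjective _ φ hφ⟩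
    have hsupp : Module.support R (ModuleCat.of R H) ⊆
        PrimeSpectrum.zeroLocus (IsLocalRing.maximalIdeal R) := fun p hp =>
      (IsLocalRing.eq_maximalIdeal (Groth.Agent.HilbSam.isMaximal_of_mem_support hHfl hp)).ge
    have hsub := DepthLib.subsingleton_ext_of_le_idealDepth (M := Q j) (n := 1)
      (le_trans (by exact_mod_cast (show 1 ≤ g - j by omega)) hQ) (ModuleCat.of R H) hsupp Nat.one_pos
    have h00 : ModuleCat.ofHom H.subtype = 0 :=
      (CategoryTheory.Abelian.Ext.mk₀_bijective _ _).1 (@Subsingleton.elim _ hsub _ _)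
    refine (K.exactAt_iff_isZero_homology j).1 ?_
    rw [K.exactAt_iff' (j - 1) j (j + 1) (hprev j) (by simp), ShortComplex.moduleCat_exact_iff]
    intro x hx
    have hxH : Submodule.Quotient.mk (p := LinearMap.range (K.d (j - 1) j).hom) x ∈ H :=
      Submodule.mem_map_of_mem (LinearMap.mem_ker.2 hx)
    obtain ⟨y, hy⟩ := (Submodule.Quotient.mk_eq_zero _).1 (congr(($h00).hom ⟨_, hxH⟩))
    exact ⟨y, hy⟩

end Groth.Agent.S18367
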