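import Groth.Statements.S18369
import Groth.Agent.Lib.AlgEquiv22.Ample
import Groth.Agent.Lib.AbRigid.SmoothGI

set_option autoImplicit false
universe u
open CategoryTheory CategoryTheory.Limits MonoidalCategory CartesianMonoidalCategory MonObj GrpObj AlgebraicGeometry
open AbVar

namespace Groth.Agent.S18369

/-- Let k be a field, A an abelian variety over k (a proper smooth k-group scheme with geometrically
connected fibres) with group law m : A × A → A and projections p₁, p₂, L an ample invertible
O_A-module, and N an invertible O_A-module whose class lies in the dual abelian variety, expressed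
as m^*N ≅ p₁^*N ⊗ p₂^*N. Then L ⊗ N is again ample; so ampleness of an invertible module on A
depends only on its class modulo Pic⁰. -/
theorem result (k : Type u) [Field k]
    (A : Over (Spec (CommRingCat.of k))) [GrpObj A] [IsProper A.hom] [Smooth A.hom] [GeometricallyConnected A.hom]
    (L N : A.left.Modules) (hL : CohB1.IsAmple L) (hN : PicF.IsInvertible N)
    (hN0 : Nonempty ((Scheme.Modules.pullback μ[A].left).obj N ≅
      CohB1.tensorMod ((Scheme.Modules.pullback (fst A A).left).obj N) ((Scheme.Modules.pullback (snd A A).left).obj N))) :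
    CohB1.IsAmple (CohB1.tensorMod L N) := by
  letI : PicGrp.Law A.left := M2.law _
  letI : PicGrp.Law (A ⊗ A).left := M2.law _
  haveI := AbRigid.geometricallyIntegral_of_smooth A
  refine AlgEquiv22.isAmple_tensor_of_add hL hN fun V f g => ?_
  letI : PicGrp.Law V.left := M2.law _
  have hp : ∀ h : A ⊗ A ⟶ A, AlgEquiv22.pb h (PicGrp.cls N hN) =
      PicGrp.cls ((Scheme.Modules.pullback h.left).obj N) (PicLoc.isInvertible_pullback _ hN) :=
    fun h => PicGrp.pullHom_cls _ _ _ _
  have h0 : AlgEquiv22.pb μ[A] (PicGrp.cls N hN) =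
      AlgEquiv22.pb (fst A A) (PicGrp.cls N hN) * AlgEquiv22.pb (snd A A) (PicGrp.cls N hN) := by
    rw [hp, hp, hp, AlgEquiv22.cls_tensor]
    exact (PicGrp.cls_eq_cls_iff _ _).2 hN0
  have h1 := congrArg (AlgEquiv22.pb (lift f g)) h0
  rw [map_mul, AlgEquiv22.pb_pb, AlgEquiv22.pb_pb, AlgEquiv22.pb_pb, lift_fst, lift_snd, ← Hom.mul_def] at h1
  exact h1

end Groth.Agent.S18369
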