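import Groth.Statements.S18370
import Mathlib.RingTheory.Int.Basic
import Mathlib.Algebra.Group.Basic

set_option autoImplicit false
universe u
open CategoryTheory CategoryTheory.Limits MonoidalCategory CartesianMonoidalCategory MonObj GrpObj AlgebraicGeometry
open GrpSch

namespace Groth.Agent.S18370

/-- Let S be a scheme and G a commutative S-group scheme which is killed by a natural number n, i.e. the
n-th power map of G is the trivial homomorphism, and let n = a·b with a and b coprime. If i_a : G_a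
→ G and i_b : G_b → G are scheme-theoretic kernels of the a-th and b-th power maps of G, then the
morphism G_a ×_S G_b → G sending (x, y) to i_a(x)·i_b(y) is an isomorphism of S-schemes. (The
published statement assumes n ≠ 0; the case n = 0, where {a, b} = {0, 1} and one kernel is all of G
while the other is trivial, is included here.) -/
theorem result {S : Scheme.{u}} (G Ga Gb : Over S)
    [GrpObj G] [IsCommMonObj G] (n a b : ℕ) (hn : n = a * b) (hab : Nat.Coprime a b)
    (hG : (𝟙 G) ^ n = 1)
    (ia : Ga ⟶ G) (hia : AlgGrp.IsKernel ia ((𝟙 G) ^ a))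
    (ib : Gb ⟶ G) (hib : AlgGrp.IsKernel ib ((𝟙 G) ^ b)) :
    IsIso ((fst Ga Gb ≫ ia) * (snd Ga Gb ≫ ib)) := by
  letI : ∀ T : Over S, CommGroup (T ⟶ G) := fun T => Hom.commGroup
  obtain ⟨u, v, huv⟩ : ∃ u v : ℤ, u * a + v * b = 1 := (Nat.isCoprime_iff_coprime.2 hab)
  have hpow : ∀ {T : Over S} (x : T ⟶ G) (m : ℕ), x ≫ (𝟙 G) ^ m = x ^ m := fun x m => by
    rw [comp_pow, Category.comp_id]
  have hGn : ∀ {T : Over S} (x : T ⟶ G), x ^ n = 1 := fun x => by rw [← hpow, hG, comp_one]
  have kera : ∀ {T : Over S} (x : T ⟶ Ga), (x ≫ ia) ^ a = 1 := fun x => by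
    rw [← hpow, Category.assoc, hia.w, ← Category.assoc, Hom.one_def]
    congr 1
    exact toUnit_unique _ _
  have kerb : ∀ {T : Over S} (x : T ⟶ Gb), (x ≫ ib) ^ b = 1 := fun x => by
    rw [← hpow, Category.assoc, hib.w, ← Category.assoc, Hom.one_def]
    congr 1
    exact toUnit_unique _ _
  have h1 : (𝟙 G ^ (v * b : ℤ)) ≫ (𝟙 G) ^ a = toUnit G ≫ η[G] := by
    rw [hpow, ← zpow_natCast, ← zpow_mul, ← Hom.one_def,
      show (v * b : ℤ) * (a : ℤ) = (n : ℕ) * v by rw [hn]; push_cast; ring, zpow_mul, zpow_natCast, hGn, one_zpow]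
  have h2 : (𝟙 G ^ (u * a : ℤ)) ≫ (𝟙 G) ^ b = toUnit G ≫ η[G] := by
    rw [hpow, ← zpow_natCast, ← zpow_mul, ← Hom.one_def,
      show (u * a : ℤ) * (b : ℤ) = (n : ℕ) * u by rw [hn]; push_cast; ring, zpow_mul, zpow_natCast, hGn, one_zpow]
  refine ⟨lift (hia.lift _ _ h1) (hib.lift _ _ h2), ?_, ?_⟩
  · rw [comp_lift]
    apply CartesianMonoidalCategory.hom_ext
    · rw [lift_fst, Category.id_comp]
      apply hia.hom_ext
      · rw [Category.assoc, IsPullback.lift_fst, GrpObj.comp_zpow, Category.comp_id]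
        set p := fst Ga Gb ≫ ia with hp
        set q := snd Ga Gb ≫ ib with hq
        have e1 : q ^ (v * b : ℤ) = 1 := by
          rw [mul_comm, zpow_mul, zpow_natCast, hq, kerb, one_zpow]
        have e2 : p ^ (u * a : ℤ) = 1 := by
          rw [mul_comm, zpow_mul, zpow_natCast, hp, kera, one_zpow]
        calc (p * q) ^ (v * b : ℤ) = p ^ (v * b : ℤ) := by rw [mul_zpow, e1, _root_.mul_one]
          _ = p ^ (u * a + v * b : ℤ) := by rw [zpow_add, e2, _root_.one_mul]
          _ = p := by rw [huv, zpow_one]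
      · exact toUnit_unique _ _
    · rw [lift_snd, Category.id_comp]
      apply hib.hom_ext
      · rw [Category.assoc, IsPullback.lift_fst, GrpObj.comp_zpow, Category.comp_id]
        set p := fst Ga Gb ≫ ia with hp
        set q := snd Ga Gb ≫ ib with hq
        have e1 : q ^ (v * b : ℤ) = 1 := by
          rw [mul_comm, zpow_mul, zpow_natCast, hq, kerb, one_zpow]
        have e2 : p ^ (u * a : ℤ) = 1 := by
          rw [mul_comm, zpow_mul, zpow_natCast, hp, kera, one_zpow]
        calc (p * q) ^ (u * a : ℤ) = q ^ (u * a : ℤ) := by rw [mul_zpow, e2, _root_.one_mul]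
          _ = q ^ (u * a + v * b : ℤ) := by rw [zpow_add, e1, _root_.mul_one]
          _ = q := by rw [huv, zpow_one]
      · exact toUnit_unique _ _
  · rw [MonObj.comp_mul, lift_fst_assoc, lift_snd_assoc, IsPullback.lift_fst, IsPullback.lift_fst, ← zpow_add,
      add_comm, huv, zpow_one]

end Groth.Agent.S18370
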