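import Groth.Statements.S18372
import Groth.Agent.Lib.CubeField.Contract
import Groth.Agent.Lib.AbRigid.SmoothGI
import Groth.Agent.Lib.RedSep.Basic

set_option autoImplicit false
universe u
open CategoryTheory CategoryTheory.Limits MonoidalCategory CartesianMonoidalCategory MonObj GrpObj AlgebraicGeometry
open AbVar

namespace Groth.Agent.S18372

/-- Let k be an algebraically closed field, A an abelian variety over k (a proper smooth k-group scheme
with geometrically connected fibres), U an affine open subset of A containing the unit point and D =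
A ∖ U. Then only finitely many k-rational points x of A have a translation t_x : z ↦ z + x (the
product of the identity and the constant map x in the group Hom(A, A)) with t_x⁻¹(D) = D as sets. -/
theorem result (k : Type u) [Field k] [IsAlgClosed k]
    (A : Over (Spec (CommRingCat.of k))) [GrpObj A] [IsProper A.hom] [Smooth A.hom] [GeometricallyConnected A.hom]
    (U : A.left.Opens) (hU : IsAffineOpen U) (he : Set.range η[A].left.base ⊆ (U : Set A.left)) :
    Set.Finite {x : 𝟙_ (Over (Spec (CommRingCat.of k))) ⟶ A |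
      (𝟙 A * (toUnit A ≫ x)).left.base ⁻¹' ((U : Set A.left)ᶜ) = (U : Set A.left)ᶜ} := by
  haveI : ConnectedSpace A.left := GeometricallyConnected.connectedSpace_of_subsingleton A.hom
  haveI := Groth.Agent.AbRigid.geometricallyIntegral_of_smooth A
  haveI := isCommMonObj_of_isProper_of_geometricallyIntegral A
  haveI : JacobsonSpace A.left := LocallyOfFiniteType.jacobsonSpace A.hom
  set H := {x : 𝟙_ (Over (Spec (CommRingCat.of k))) ⟶ A |
      (𝟙 A * (toUnit A ≫ x)).left.base ⁻¹' ((U : Set A.left)ᶜ) = (U : Set A.left)ᶜ} with hH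
  let D : Set A.left := (U : Set A.left)ᶜ
  have hD : IsClosed D := U.isOpen.isClosed_compl
  -- the stabiliser as a closed set
  let S : Set A.left :=
    (⋂ v ∈ {v : 𝟙_ (Over (Spec (CommRingCat.of k))) ⟶ A | Groth.Agent.CubeField.rpt v ∈ D},
      (Groth.Agent.CubeField.trans₁ v).left ⁻¹' D) ∩
    ⋂ v ∈ {v : 𝟙_ (Over (Spec (CommRingCat.of k))) ⟶ A | Groth.Agent.CubeField.rpt v ∈ D},
      ((Groth.Agent.CubeField.trans₁ v⁻¹).left ≫ ((𝟙 A)⁻¹ : A ⟶ A).left) ⁻¹' D
  have hSc : IsClosed S := (isClosed_biInter fun v _ => hD.preimage (Scheme.Hom.continuous _)).inter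
    (isClosed_biInter fun v _ => hD.preimage (Scheme.Hom.continuous _))
  have hmem : ∀ x, Groth.Agent.CubeField.rpt x ∈ S → x ∈ H := fun x hx => by
    obtain ⟨h1, h2⟩ := hx
    simp only [Set.mem_iInter, Set.mem_preimage, Set.mem_ofPred_eq] at h1 h2
    have e : (⟨(U : Set A.left), U.isOpen⟩ : TopologicalSpace.Opens A.left) =
        (Groth.Agent.CubeField.trans₁ x).left ⁻¹ᵁ U := Groth.Agent.CubeField.opens_eq_of_closedPoints fun z hz => by
      obtain ⟨w, rfl⟩ := Groth.Agent.CubeField.exists_rpt hz
      show Groth.Agent.CubeField.rpt w ∈ U ↔ (Groth.Agent.CubeField.trans₁ x).left (Groth.Agent.CubeField.rpt w) ∈ U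
      rw [Groth.Agent.CubeField.trans₁_rpt]
      constructor
      · intro hw
        by_contra hc
        have := h2 (w * x) hc
        rw [Scheme.Hom.comp_apply, Groth.Agent.CubeField.trans₁_rpt, ← Groth.Agent.CubeField.rpt_comp, GrpObj.comp_inv,
          Category.comp_id, _root_.mul_inv_rev, _root_.inv_inv, mul_inv_cancel_right] at this
        exact this hw
      · intro hw
        by_contra hc
        have := h1 w hc
        rw [Groth.Agent.CubeField.trans₁_rpt, mul_comm] at this
        exact this hw
    show (𝟙 A * (toUnit A ≫ x)).left.base ⁻¹' D = D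
    have e2 : ((U : Set A.left)) = (Groth.Agent.CubeField.trans₁ x).left ⁻¹' (U : Set A.left) :=
      congrArg (fun o : TopologicalSpace.Opens A.left => (o : Set A.left)) e
    show _ = (U : Set A.left)ᶜ
    conv_rhs => rw [e2]
    rfl
  have hrev : ∀ x ∈ H, Groth.Agent.CubeField.rpt x ∈ S := fun x hx => by
    have hx' : (Groth.Agent.CubeField.trans₁ x).left ⁻¹' D = D := hx
    refine ⟨Set.mem_iInter₂.2 fun v hv => ?_, Set.mem_iInter₂.2 fun v hv => ?_⟩
    · rw [Set.mem_preimage, Groth.Agent.CubeField.trans₁_rpt, mul_comm, ← Groth.Agent.CubeField.trans₁_rpt]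
      exact hx'.ge hv
    · rw [Set.mem_preimage, Scheme.Hom.comp_apply, Groth.Agent.CubeField.trans₁_rpt,
        ← Groth.Agent.CubeField.rpt_comp, GrpObj.comp_inv, Category.comp_id, _root_.mul_inv_rev, _root_.inv_inv]
      refine hx'.le ?_
      rw [Set.mem_preimage, Groth.Agent.CubeField.trans₁_rpt, inv_mul_cancel_right]
      exact hv
  have hSU : S ⊆ (U : Set A.left) := by
    intro z hz
    by_contra hzU
    obtain ⟨w, ⟨hwS, hwU⟩, hwc⟩ := nonempty_inter_closedPoints (Z := S ∩ D) ⟨z, hz, hzU⟩
      (hSc.inter hD).isLocallyClosed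
    obtain ⟨x, rfl⟩ := Groth.Agent.CubeField.exists_rpt hwc
    have hx := hmem x hwS
    have h1 : Groth.Agent.CubeField.rpt (1 : 𝟙_ (Over (Spec (CommRingCat.of k))) ⟶ A) ∈
        (Groth.Agent.CubeField.trans₁ x).left ⁻¹' D := by
      rw [Set.mem_preimage, Groth.Agent.CubeField.trans₁_rpt, _root_.one_mul]; exact hwU
    exact (show (Groth.Agent.CubeField.trans₁ x).left ⁻¹' D = D from hx).le h1
      (he ⟨IsLocalRing.closedPoint k, by rw [Hom.one_def, toUnit_unit, Category.id_comp]⟩)
  -- closed in a proper scheme and affine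
  let I := Scheme.IdealSheafData.vanishingIdeal ⟨S, hSc⟩
  have hrange : Set.range I.subschemeι = S := by
    rw [Scheme.IdealSheafData.range_subschemeι]; simp [I]
  let g : I.subscheme ⟶ (U : Scheme) := IsOpenImmersion.lift U.ι I.subschemeι
    (by rw [hrange, Scheme.Opens.range_ι]; exact hSU)
  haveI : IsClosedImmersion (g ≫ U.ι) := by rw [IsOpenImmersion.lift_fac]; infer_instance
  haveI : IsClosedImmersion g := IsClosedImmersion.of_comp g U.ι
  haveI : IsAffine (U : Scheme) := hU
  haveI : IsAffine I.subscheme := isAffine_of_isAffineHom g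
  haveI : IsFinite (I.subschemeι ≫ A.hom) :=
    IsFinite.iff_isProper_and_isAffineHom.2 ⟨inferInstance, inferInstance⟩
  have hfinI : Finite I.subscheme := by
    refine Set.finite_univ_iff.1 ?_
    rw [show (Set.univ : Set I.subscheme) = (I.subschemeι ≫ A.hom) ⁻¹' {IsLocalRing.closedPoint k} from
      Set.ext fun y => ⟨fun _ => Subsingleton.elim (α := Spec (CommRingCat.of k)) _ _, fun _ => trivial⟩]
    exact (I.subschemeι ≫ A.hom).finite_preimage_singleton _
  exact Set.Finite.of_finite_image (((Set.finite_range I.subschemeι).subset hrange.ge).subset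
    (Set.image_subset_iff.2 hrev)) Groth.Agent.CubeField.rpt_injective.injOn

end Groth.Agent.S18372
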