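import Groth.Statements.S18373
import Groth.Agent.Lib.CubeField.EffAmple
import Groth.Agent.Lib.CubeField.DivisorLocus
import Groth.Agent.Lib.CubeField.FinInst
import Groth.Agent.Lib.AbRigid.SmoothGI
import Groth.Agent.Lib.SmoothReg17.Basic
import Groth.Agent.Lib.RegLoc.UFD

set_option autoImplicit false
universe u
open CategoryTheory CategoryTheory.Limits MonoidalCategory CartesianMonoidalCategory MonObj GrpObj AlgebraicGeometry
open AbVar

namespace Groth.Agent.S18373

/-- Let k be an algebraically closed field and A an abelian variety over k (a proper smooth k-group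
scheme with geometrically connected fibres). Let Δ ⊆ A be an irreducible closed subset of
codimension one, with generic point ξ whose local ring O_{A,ξ} has Krull dimension 1 (an irreducible
effective divisor), and let C ⊆ A be an irreducible closed subset of dimension one (a curve)
disjoint from Δ. Then for all k-rational points x, y of A lying on C, translation by x − y (the map
z ↦ z + x − y, written with the group Hom(A, A)) carries Δ onto itself: t_{x−y}⁻¹(Δ) = Δ. -/
theorem result (k : Type u) [Field k] [IsAlgClosed k]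
    (A : Over (Spec (CommRingCat.of k))) [GrpObj A] [IsProper A.hom] [Smooth A.hom] [GeometricallyConnected A.hom]
    (Δ : Set A.left) (hΔ : IsClosed Δ) (ξ : A.left) (hξ : closure {ξ} = Δ)
    (hcodim : ringKrullDim (A.left.presheaf.stalk ξ) = 1)
    (C : Set A.left) (hC : IsClosed C) (hCirr : IsIrreducible C) (hCdim : topologicalKrullDim C = 1)
    (hdisj : Disjoint C Δ)
    (x y : 𝟙_ (Over (Spec (CommRingCat.of k))) ⟶ A)
    (hx : Set.range x.left.base ⊆ C) (hy : Set.range y.left.base ⊆ C) :
    (𝟙 A * (toUnit A ≫ (x * y⁻¹))).left.base ⁻¹' Δ = Δ := by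
  haveI := Groth.Agent.AbRigid.geometricallyIntegral_of_smooth A
  haveI : IsIntegral A.left := GeometricallyIntegral.isIntegral_of_subsingleton A.hom
  haveI : IsLocallyNoetherian A.left := LocallyOfFiniteType.isLocallyNoetherian A.hom
  haveI : CompactSpace A.left := QuasiCompact.compactSpace_of_compactSpace A.hom
  haveI : AlgebraicGeometry.IsNoetherian A.left := {}
  have hξΔ : ξ ∈ Δ := hξ ▸ subset_closure rfl
  obtain ⟨I, hI, hsupp⟩ := Groth.Agent.CubeField.exists_effCartier_of_closed (X := A.left) ⟨Δ, hΔ⟩
    (fun z hz hgen => by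
      obtain rfl := hgen ξ hξΔ (specializes_iff_mem_closure.2 (hξ ▸ hz))
      exact hcodim)
    (fun x _ => by
      haveI := Groth.Agent.SmoothReg17.isRegularLocalRing_stalk A.hom x
      haveI := Groth.Agent.RegLoc.isDomain (A.left.presheaf.stalk x)
      exact ⟨inferInstance, Groth.Agent.RegLoc.ufd_of_isRegularLocalRing _⟩)
  obtain ⟨N, hN, ⟨e⟩, -⟩ := Groth.Agent.CubeField.exists_inverse_section_of_effCartier hI
  obtain ⟨s, hs, hne⟩ := Groth.Agent.CubeField.exists_section_of_inverse (L := N) hI
    ⟨Groth.Agent.M2.tensorComm _ _ ≪≫ e⟩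
  have hU : (CohB1.genLocus N s : Set A.left) = Δᶜ := by rw [hs, hsupp]; rfl
  let Zc : TopologicalSpace.Closeds A.left := ⟨C, hC⟩
  let J := Scheme.IdealSheafData.vanishingIdeal Zc
  haveI : AlgebraicGeometry.IsReduced J.subscheme := Groth.Agent.RedSepLib.isReduced_vanishingIdeal_subscheme Zc
  have hrange : Set.range J.subschemeι = C := by
    rw [Scheme.IdealSheafData.range_subschemeι]; simp [J, Zc]
  haveI : IrreducibleSpace J.subscheme := by
    have hgen := hCirr.closure_genericPoint hC
    obtain ⟨x', hx'⟩ := hrange.ge (hgen.le (subset_closure (Set.mem_singleton hCirr.genericPoint)))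
    refine irreducibleSpace_def _ |>.2 ?_
    have h1 : IsGenericPoint x' (Set.univ : Set J.subscheme) := by
      refine Set.eq_univ_of_forall fun y => ?_
      rw [← specializes_iff_mem_closure, ← J.subschemeι.isEmbedding.isInducing.specializes_iff, hx',
        specializes_iff_mem_closure, hgen, ← hrange]
      exact ⟨y, rfl⟩
    exact h1.isIrreducible
  haveI : IsIntegral J.subscheme := isIntegral_of_irreducibleSpace_of_isReduced _
  let B : Over (Spec (CommRingCat.of k)) := Over.mk (J.subschemeι ≫ A.hom)
  let j : B ⟶ A := Over.homMk J.subschemeι rfl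
  haveI : IsProper B.hom := inferInstanceAs (IsProper (J.subschemeι ≫ A.hom))
  haveI : IsIntegral B.left := ‹IsIntegral J.subscheme›
  have hj := Groth.Agent.CubeField.P_eq_one_of_range_subset hN s j fun y => by
    show J.subschemeι y ∈ (CohB1.genLocus N s : Set A.left)
    rw [hU]
    exact Set.disjoint_left.1 hdisj (hrange ▸ ⟨y, rfl⟩)
  have hlift : ∀ p : (𝟙_ (Over (Spec (CommRingCat.of k)))) ⟶ A, Set.range p.left.base ⊆ C →
      ∃ p' : (𝟙_ (Over (Spec (CommRingCat.of k)))) ⟶ B, p' ≫ j = p := fun p hp => by
    obtain ⟨z, hz⟩ := hrange.ge (hp ⟨IsLocalRing.closedPoint k, rfl⟩)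
    haveI := AlgebraicGeometry.isClosedImmersion_of_comp_eq_id (Y := Spec (CommRingCat.of k)) A.hom p.left (by simp)
    have hzc : IsClosed ({z} : Set B.left) := by
      have h := p.left.isClosedEmbedding.isClosed_range.preimage J.subschemeι.continuous
      rwa [show J.subschemeι ⁻¹' Set.range p.left = {z} from Set.ext fun w => by
        constructor
        · rintro ⟨q, hq⟩
          rw [Subsingleton.elim (α := Spec (CommRingCat.of k)) q (IsLocalRing.closedPoint k)] at hq
          exact J.subschemeι.isEmbedding.injective (hq.symm.trans hz.symm)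
        · rintro rfl; exact ⟨_, hz.symm⟩] at h
    obtain ⟨p', hp'⟩ := Groth.Agent.CubeField.exists_rpt (X := B) hzc
    exact ⟨p', Groth.Agent.CubeField.rpt_injective ((Groth.Agent.CubeField.rpt_comp p' j).trans (hp' ▸ hz))⟩
  obtain ⟨x', rfl⟩ := hlift x hx
  obtain ⟨y', rfl⟩ := hlift y hy
  have key := Groth.Agent.CubeField.preimage_trans₁_eq Groth.Agent.CubeField.finH1 s hne j one_pos hj y' x'
  have h2 := congrArg (fun V : A.left.Opens => (V : Set A.left)ᶜ) key
  simp only [Scheme.Hom.coe_preimage, ← Set.preimage_compl, hU, compl_compl] at h2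
  exact h2

end Groth.Agent.S18373
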