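import Groth.Statements.S18374
import Groth.Agent.Lib.PhiStab20.Stab

set_option autoImplicit false
universe u
open PhiStab

namespace Groth.Agent.S18374

open PhiStab in
/-- Let (V, E, ends) be a connected finite multigraph, φ a real weighting of its vertices and (m, N) a
sheaf datum on it (an integer multidegree m and a set N of edges, the non-free nodes) whose total
degree Σ_v m v + #N equals Σ_v φ v. Then (m, N) is φ-semistable, i.e. Σ_{v ∈ S} φ v - cut S / 2 ≤
deg_S(m, N) for every nonempty proper vertex set S, if and only if this inequality holds for every
elementary S (one for which S and its complement both induce connected subgraphs); and likewise for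
φ-stability with strict inequalities. This is the statement for a rank-1 torsion-free sheaf of
degree g - 1 on a stable pointed curve with this dual graph, written for the sheaf's combinatorial
datum, on which alone the stability inequalities depend and which takes all values. -/
theorem result {V E : Type u} [Fintype V] [Fintype E] [DecidableEq V] [DecidableEq E]
    (ends : E → V × V) (hconn : LabGraph.Connected ends)
    (φ : V → ℝ) (m : V → ℤ) (N : Finset E) (hdeg : (∑ v : V, φ v) = (totDeg m N : ℝ)) :
    (IsSemistable ends φ m N ↔
      ∀ S : Finset V, IsElementary ends S →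
        (∑ v ∈ S, φ v) - (LabGraph.cut ends S : ℝ) / 2 ≤ (degOn ends m N S : ℝ)) ∧
    (IsStable ends φ m N ↔
      ∀ S : Finset V, IsElementary ends S →
        (∑ v ∈ S, φ v) - (LabGraph.cut ends S : ℝ) / 2 < (degOn ends m N S : ℝ)) := by
  refine ⟨⟨fun h S hS => h S (Groth.Agent.PhiStab20.proper_of_elementary hS).1
      (Groth.Agent.PhiStab20.proper_of_elementary hS).2, fun h => ?_⟩,
    ⟨fun h S hS => h S (Groth.Agent.PhiStab20.proper_of_elementary hS).1
      (Groth.Agent.PhiStab20.proper_of_elementary hS).2, fun h => ?_⟩⟩
  · rw [Groth.Agent.PhiStab20.isSemistable_iff]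
    refine Groth.Agent.PhiStab20.forall_of_elementary hconn hdeg (fun x => 0 ≤ x)
      (fun a b => add_nonneg) fun S hS => ?_
    have := h S hS
    simp only [Groth.Agent.PhiStab20.slack]
    linarith
  · rw [Groth.Agent.PhiStab20.isStable_iff]
    refine Groth.Agent.PhiStab20.forall_of_elementary hconn hdeg (fun x => 0 < x)
      (fun a b => add_pos) fun S hS => ?_
    have := h S hS
    simp only [Groth.Agent.PhiStab20.slack]
    linarith

end Groth.Agent.S18374
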