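import Groth.Statements.S18376
import Groth.Agent.Lib.PhiStab20.Stab

set_option autoImplicit false
universe u
open PhiStab

namespace Groth.Agent.S18376

open PhiStab in
/-- Let (V, E, ends) be a connected finite multigraph, b an integer, and φ₁, φ₂ real weightings of the
vertices with Σ_v φ₁ v = Σ_v φ₂ v = b, φ₁ nondegenerate. Then every φ₁-stable sheaf datum (m, N) of
total degree b is φ₂-semistable if and only if φ₂ lies in the closed stability polytope of φ₁, that
is, for every elementary vertex set S and every integer d with d - Σ_{v ∈ S} φ₁ v + cut S / 2 > 0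
one has d - Σ_{v ∈ S} φ₂ v + cut S / 2 ≥ 0. Membership in the closure of the polytope is expressed
by this half-space condition, the form in which the source's proof uses it; the sheaves of degree g
- 1 = b on stable pointed curves with this dual graph enter through their combinatorial data. -/
theorem result {V E : Type u} [Fintype V] [Fintype E] [DecidableEq V] [DecidableEq E]
    (ends : E → V × V)
    (hconn : LabGraph.Connected ends) (b : ℤ) (φ₁ φ₂ : V → ℝ) (h₁ : (∑ v : V, φ₁ v) = (b : ℝ))
    (h₂ : (∑ v : V, φ₂ v) = (b : ℝ)) (hnd : Nondegenerate ends φ₁) :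
    (∀ (m : V → ℤ) (N : Finset E), totDeg m N = b → IsStable ends φ₁ m N → IsSemistable ends φ₂ m N) ↔
      InClosedPolytope ends φ₁ φ₂ := by
  constructor
  · intro h S hS d hd
    obtain ⟨T, hT, hcr⟩ := Groth.Agent.PhiStab20.exists_tree_cross hconn hS
    obtain ⟨m, ⟨hm, hst⟩, -⟩ :=
      Groth.Agent.PhiStab20.existsUnique_isStable ends T hT b φ₁ h₁ hnd
    obtain ⟨hne, hu⟩ := Groth.Agent.PhiStab20.proper_of_elementary hS
    have hdeg : (∑ v : V, φ₁ v) = (totDeg m Tᶜ : ℝ) := by rw [hm, h₁]
    have hne' := (Groth.Agent.PhiStab20.ne_univ_iff S).1 hu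
    have hu' : Sᶜ ≠ Finset.univ := (Groth.Agent.PhiStab20.ne_univ_iff _).2 (by rwa [compl_compl])
    have a := (Groth.Agent.PhiStab20.isStable_iff ends φ₁ m _).1 hst Sᶜ hne' hu'
    rw [Groth.Agent.PhiStab20.slack_compl hdeg, compl_compl, hcr] at a
    have e := Groth.Agent.PhiStab20.slack_eq ends φ₁ m Tᶜ S
    rw [compl_compl, hcr] at e
    simp only [Groth.Agent.PhiStab20.slack] at e
    have s := (Groth.Agent.PhiStab20.isSemistable_iff ends φ₂ m _).1 (h m _ hm hst) S hne hu
    simp only [Groth.Agent.PhiStab20.slack] at s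
    simp only [ell] at hd ⊢
    have hlt : degOn ends m Tᶜ S < d + 1 := by
      have : (degOn ends m Tᶜ S : ℝ) < (d : ℝ) + 1 := by linarith
      exact_mod_cast this
    have hle : (degOn ends m Tᶜ S : ℝ) ≤ (d : ℝ) := by exact_mod_cast Int.le_of_lt_add_one hlt
    linarith
  · intro h m N hm hst
    rw [Groth.Agent.PhiStab20.isSemistable_iff]
    refine Groth.Agent.PhiStab20.forall_of_elementary hconn (by rw [hm, h₂]) (fun x => 0 ≤ x)
      (fun a b => add_nonneg) fun S hS => ?_
    obtain ⟨hne, hu⟩ := Groth.Agent.PhiStab20.proper_of_elementary hS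
    have a := hst S hne hu
    have := h S hS (degOn ends m N S) (by simp only [ell]; linarith)
    simp only [ell] at this
    simp only [Groth.Agent.PhiStab20.slack]
    linarith

end Groth.Agent.S18376
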