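import Groth.Statements.S18377
import Groth.Agent.Lib.VerlindeH28.Basic

set_option autoImplicit false
open Complex
open VerlindeComb

namespace Groth.Agent.S18377
open Groth.Agent.VerlindeH28

/-- Let r, k ≥ 1 be integers and v_1 > v_2 > ⋯ > v_r ≥ 0 integers below r + k; put z_j = exp(2πi v_j /
(r + k)) and, for μ = (μ_1, …, μ_r), let S_μ(z) = det(z_j^{μ_i + r - i}) / det(z_j^{r - i}) be the
value of the Schur polynomial (the z_j are distinct, so the Vandermonde denominator is nonzero).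
Then, summing over all μ with k > μ_1 ≥ ⋯ ≥ μ_r ≥ 0 and writing μ* = (k - μ_r, …, k - μ_1), one has
Σ_μ S_μ(z) S_{μ*}(z) = exp(2πi k (v_1 + ⋯ + v_r) / (r + k)) · k (r + k)^{r-1} / ∏_{i<j} (2 sin(π
(v_i - v_j) / (r + k)))². Indices are 0-based below: μ i stands for μ_{i+1}. -/
theorem result (r k : ℕ) (hr : 1 ≤ r) (hk : 1 ≤ k)
    (v : Fin r → ℕ) (hv : StrictAnti v) (hvlt : ∀ i, v i < r + k)
    (z : Fin r → ℂ) (hz : ∀ j, z j = Complex.exp (2 * Real.pi * Complex.I * (v j : ℂ) / ((r : ℂ) + k)))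
    (S : (Fin r → ℕ) → ℂ)
    (hS : ∀ μ : Fin r → ℕ, S μ =
      (Matrix.of fun i j : Fin r => z j ^ (μ i + (r - 1 - (i : ℕ)))).det /
        (Matrix.of fun i j : Fin r => z j ^ (r - 1 - (i : ℕ))).det) :
    (∑ μ ∈ (Finset.univ : Finset (Fin r → Fin k)).filter (fun μ : Fin r → Fin k => Antitone μ),
        S (fun i => (μ i : ℕ)) * S (fun i => k - (μ (Fin.rev i) : ℕ))) =
      Complex.exp (2 * Real.pi * Complex.I * (k : ℂ) * ((∑ j, v j : ℕ) : ℂ) / ((r : ℂ) + k)) *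
        ((k : ℂ) * ((r : ℂ) + k) ^ (r - 1)) /
        (∏ p ∈ (Finset.univ : Finset (Fin r × Fin r)).filter (fun p => p.1 < p.2),
          (((2 : ℝ) * Real.sin (Real.pi * ((v p.1 : ℝ) - (v p.2 : ℝ)) / ((r : ℝ) + k))) ^ 2 : ℝ) : ℂ) := by
  classical
  set n := r + k with hn
  have : NeZero n := ⟨by omega⟩
  set ζ : ℂ := Complex.exp (2 * Real.pi * Complex.I / n) with hζdef
  have hζ : IsPrimitiveRoot ζ n := Complex.isPrimitiveRoot_exp n (NeZero.ne n)
  have hζ0 : ζ ≠ 0 := Complex.exp_ne_zero _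
  have hn0 : (n : ℂ) ≠ 0 := by exact_mod_cast NeZero.ne n
  have hzζ : ∀ j, z j = ζ ^ v j := fun j => by
    rw [hz, hζdef, ← Complex.exp_nat_mul]; congr 1; rw [hn]; push_cast; ring
  -- Cauchy–Binet
  have h := cauchy_binet (m := n - 1) (fun i (t : Fin (n - 1)) => (ζ ^ v i) ^ ((t : ℕ) : ℤ))
    (fun i (t : Fin (n - 1)) => (ζ ^ v i) ^ (-((t : ℕ) : ℤ)))
  have hG : ∀ i l, ∑ t : Fin (n - 1), (ζ ^ v i) ^ ((t : ℕ) : ℤ) * (ζ ^ v l) ^ (-((t : ℕ) : ℤ))
      = (if i = l then (n : ℂ) else 0) - (ζ ^ v i)⁻¹ * ζ ^ v l := by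
    intro i l
    have h1 := sum_root_pow hζ ((v i : ℤ) - v l)
    rw [Fin.sum_univ_eq_sum_range (fun x => (ζ ^ ((v i : ℤ) - v l)) ^ x) n,
      show n = (n - 1) + 1 by omega, Finset.sum_range_succ, ← show n = (n - 1) + 1 by omega] at h1
    rw [Fin.sum_univ_eq_sum_range (fun x => (ζ ^ v i) ^ ((x : ℕ) : ℤ) * (ζ ^ v l) ^ (-((x : ℕ) : ℤ))) (n - 1)]
    have hlast : (ζ ^ ((v i : ℤ) - v l)) ^ (n - 1) = (ζ ^ v i)⁻¹ * ζ ^ v l := by
      have hp : (ζ ^ ((v i : ℤ) - v l)) ^ n = 1 := by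
        rw [← zpow_natCast (ζ ^ _), ← zpow_mul, mul_comm, zpow_mul, zpow_natCast, hζ.pow_eq_one, one_zpow]
      rw [show n = (n - 1) + 1 by omega, pow_succ] at hp
      rw [eq_inv_of_mul_eq_one_left hp, zpow_sub₀ hζ0, zpow_natCast, zpow_natCast, inv_div, div_eq_mul_inv, mul_comm]
    have hdvd : ((n : ℤ) ∣ (v i : ℤ) - v l) ↔ i = l := by
      refine ⟨fun hd => hv.injective ?_, fun e => by subst e; simp⟩
      have := hvlt i; have := hvlt l
      have := Int.eq_zero_of_abs_lt_dvd hd (by rw [abs_lt]; omega)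
      omega
    rw [hlast] at h1
    simp only [hdvd] at h1
    rw [← h1]
    simp only [add_sub_cancel_right]
    refine Finset.sum_congr rfl fun x _ => ?_
    rw [zpow_sub₀ hζ0, zpow_natCast, zpow_natCast, zpow_natCast, div_pow, zpow_neg, zpow_natCast, div_eq_mul_inv]
  simp only [hG] at h
  rw [det_const_sub_rankOne (n : ℂ) hn0 hr] at h
  have hu : ∑ i, ζ ^ v i * (ζ ^ v i)⁻¹ = (r : ℂ) := by simp [pow_ne_zero _ hζ0]
  rw [hu] at h
  -- the summands
  set Zp : ℂ := ∏ j, ζ ^ v j with hZp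
  have hZp0 : Zp ≠ 0 := Finset.prod_ne_zero_iff.2 fun j _ => pow_ne_zero _ hζ0
  set Δ : ℂ := (Matrix.of fun i j : Fin r => (ζ ^ v j) ^ (rho r i : ℤ)).det with hΔ
  set Δ' : ℂ := (Matrix.of fun i j : Fin r => (ζ ^ v j) ^ (-(rho r i : ℤ))).det with hΔ'
  have hPP : Δ * Δ' = ((P r n v : ℝ) : ℂ) := delta_mul_conj hζdef v
  have hP0 : ((P r n v : ℝ) : ℂ) ≠ 0 := by exact_mod_cast P_ne_zero hv hvlt
  have hPden : (∏ p ∈ (Finset.univ : Finset (Fin r × Fin r)).filter (fun p => p.1 < p.2),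
      (((2 : ℝ) * Real.sin (Real.pi * ((v p.1 : ℝ) - (v p.2 : ℝ)) / ((r : ℝ) + k))) ^ 2 : ℝ) : ℂ)
      = ((P r n v : ℝ) : ℂ) := by
    simp [P, hn]
  have hden : (Matrix.of fun i j : Fin r => z j ^ (r - 1 - (i : ℕ))).det = Δ := by
    rw [hΔ]; congr 1; ext i j; simp [hzζ, rho]
  have hexp : Complex.exp (2 * Real.pi * Complex.I * (k : ℂ) * ((∑ j, v j : ℕ) : ℂ) / ((r : ℂ) + k))
      = (Zp ^ r)⁻¹ := by
    refine eq_inv_of_mul_eq_one_left ?_
    rw [hZp, Finset.prod_pow_eq_pow_sum, ← pow_mul, hζdef, ← Complex.exp_nat_mul, ← Complex.exp_add,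
      Complex.exp_eq_one_iff]
    refine ⟨((∑ j, v j : ℕ) : ℤ), ?_⟩
    have hne : (r : ℂ) + k ≠ 0 := by rw [hn] at hn0; push_cast at hn0; exact hn0
    rw [hn]; push_cast
    field_simp
    ring
  set sg : ℂ := ((Equiv.Perm.sign (Fin.revPerm : Equiv.Perm (Fin r)) : ℤ) : ℂ) with hsg
  have hsg2 : sg * sg = 1 := by
    rcases Int.units_eq_one_or (Equiv.Perm.sign (Fin.revPerm : Equiv.Perm (Fin r))) with h | h <;> simp [hsg, h]
  have hterm : ∀ μ : Fin r → ℕ, (∀ i, μ i ≤ k) → S μ * S (fun i => k - μ (Fin.rev i))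
      = (Zp ^ r)⁻¹ / ((P r n v : ℝ) : ℂ) *
        ((Matrix.of fun i j : Fin r => (ζ ^ v j) ^ ((μ i + rho r i : ℕ) : ℤ)).det *
         (Matrix.of fun i j : Fin r => (ζ ^ v j) ^ (-((μ i + rho r i : ℕ) : ℤ))).det) := by
    intro μ hμ
    have hd : Δ = sg * Zp ^ (r - 1) * Δ' := delta_eq hζ0 v
    rw [hS, hS, hden]
    simp only [hzζ]
    rw [det_compl r k (by omega) hζ0 hζ.pow_eq_one v μ hμ, ← hsg, ← hZp]
    have e1 : (Matrix.of fun i j : Fin r => (ζ ^ v j) ^ (μ i + (r - 1 - (i : ℕ))))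
        = Matrix.of fun i j : Fin r => (ζ ^ v j) ^ ((μ i + rho r i : ℕ) : ℤ) := by
      ext i j; simp only [Matrix.of_apply, zpow_natCast, rho]
    rw [e1, ← hPP]
    have hsg0 : sg ≠ 0 := fun e => by simp [e] at hsg2
    have hp : Zp ^ r = Zp ^ (r - 1) * Zp := by rw [← pow_succ]; congr 1; omega
    have hΔ'0 : Δ' ≠ 0 := fun e => hP0 (by rw [← hPP, e, mul_zero])
    rw [hd, hp]
    field_simp
  have hsum : (∑ μ ∈ (Finset.univ : Finset (Fin r → Fin k)).filter (fun μ : Fin r → Fin k => Antitone μ),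
      S (fun i => (μ i : ℕ)) * S (fun i => k - (μ (Fin.rev i) : ℕ)))
      = (Zp ^ r)⁻¹ / ((P r n v : ℝ) : ℂ) * ((n : ℂ) ^ (r - 1) * ((n : ℂ) - r)) := by
    rw [← h, Finset.mul_sum]
    refine Finset.sum_bij (fun μ _ i => (⟨(μ i : ℕ) + rho r i, by
      have := (μ i).isLt; simp only [rho]; omega⟩ : Fin (n - 1))) ?_ ?_ ?_ ?_
    · intro μ hμ
      rw [Finset.mem_filter] at hμ ⊢
      refine ⟨Finset.mem_univ _, fun i j hij => ?_⟩
      show (μ j : ℕ) + rho r j < (μ i : ℕ) + rho r i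
      have h1 : (μ j : ℕ) ≤ μ i := hμ.2 hij.le
      have h2 : (i : ℕ) < j := hij
      have := j.isLt
      simp only [rho]; omega
    · intro μ hμ μ' hμ' e
      funext i
      exact Fin.ext (by simpa using congrArg (fun a : Fin r → Fin (n - 1) => (a i : ℕ)) e)
    · intro a ha
      rw [Finset.mem_filter] at ha
      have hstep : ∀ i j : Fin r, i ≤ j → (a j : ℕ) + ((j : ℕ) - i) ≤ a i := by
        intro i j hij
        have hij' : (i : ℕ) ≤ j := hij
        obtain ⟨d, hd⟩ : ∃ d, (j : ℕ) = i + d := ⟨(j : ℕ) - i, by omega⟩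
        induction d generalizing j with
        | zero => rw [show j = i from Fin.ext (by omega)]; omega
        | succ d ih =>
          have hlt : (i : ℕ) + d < r := by have := j.isLt; omega
          have h3 := ih ⟨i + d, hlt⟩ (show (i : ℕ) ≤ i + d by omega) (show (i : ℕ) ≤ i + d by omega) rfl
          have h4 : (a j : ℕ) < a ⟨i + d, hlt⟩ := ha.2 (show (i : ℕ) + d < j by omega)
          simp only at h3
          omega
      have hlo : ∀ i, rho r i ≤ (a i : ℕ) ∧ (a i : ℕ) - rho r i < k := by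
        intro i
        have := i.isLt
        have h1 := hstep i ⟨r - 1, by omega⟩ (show (i : ℕ) ≤ r - 1 by omega)
        have h2 := hstep ⟨0, by omega⟩ i (Nat.zero_le _)
        have := (a ⟨0, by omega⟩).isLt
        simp only [rho] at *; omega
      refine ⟨fun i => ⟨(a i : ℕ) - rho r i, (hlo i).2⟩, ?_, ?_⟩
      · rw [Finset.mem_filter]
        refine ⟨Finset.mem_univ _, fun i j hij => ?_⟩
        show (a j : ℕ) - rho r j ≤ (a i : ℕ) - rho r i
        have h1 := hstep i j hij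
        have h2 := (hlo j).1
        have h3 : (i : ℕ) ≤ j := hij
        have := j.isLt
        simp only [rho] at *; omega
      · funext i
        exact Fin.ext (Nat.sub_add_cancel (hlo i).1)
    · intro μ hμ
      rw [hterm _ (fun i => (μ i).isLt.le)]
      congr 1
      rw [← Matrix.det_transpose, ← Matrix.det_transpose (Matrix.of fun i j : Fin r => (ζ ^ v j) ^ (-_))]
      rfl
  rw [hsum, hexp, hPden, hn]
  push_cast
  ring

end Groth.Agent.S18377
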