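import Groth.Statements.S18378
import Groth.Agent.Lib.VerlindeH28.Basic

set_option autoImplicit false
open Complex
open VerlindeComb

namespace Groth.Agent.S18378
open Groth.Agent.VerlindeH28

/-- Let r, k ≥ 1 be integers and v, v' two integer vectors with r + k > v_1 > ⋯ > v_r ≥ 0 and r + k >
v'_1 > ⋯ > v'_r ≥ 0 whose difference v - v' is not a constant vector (a, …, a). Put z_j = exp(2πi
v_j / (r + k)), z'_j = exp(2πi v'_j / (r + k)), let S_μ(w) = det(w_j^{μ_i + r - i}) / det(w_j^{r -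
i}) be the Schur value at w = z or z', and write |x| for the sum of the coordinates of a vector and
μ* = (k - μ_r, …, k - μ_1). Then the sum over all μ with k ≥ μ_1 ≥ ⋯ ≥ μ_{r-1} ≥ μ_r = 0 of exp(-2πi
|μ| |v| / (r (r + k))) · exp(-2πi |μ*| |v'| / (r (r + k))) · S_μ(z) · S_{μ*}(z') is zero. The
vanishing is the orthogonality of distinct characters and holds exactly for non-equivalent v, v';
for v - v' constant the sum is nonzero. Indices are 0-based below: μ i stands for μ_{i+1}. -/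
theorem result (r k : ℕ) (hr : 1 ≤ r)
    (hk : 1 ≤ k) (v v' : Fin r → ℕ) (hv : StrictAnti v) (hvlt : ∀ i, v i < r + k) (hv' : StrictAnti v')
    (hv'lt : ∀ i, v' i < r + k) (hne : ¬ ∃ a : ℤ, ∀ i, (v i : ℤ) - (v' i : ℤ) = a)
    (z z' : Fin r → ℂ) (hz : ∀ j, z j = Complex.exp (2 * Real.pi * Complex.I * (v j : ℂ) / ((r : ℂ) + k)))
    (hz' : ∀ j, z' j = Complex.exp (2 * Real.pi * Complex.I * (v' j : ℂ) / ((r : ℂ) + k)))
    (S S' : (Fin r → ℕ) → ℂ)
    (hS : ∀ μ : Fin r → ℕ, S μ =
      (Matrix.of fun i j : Fin r => z j ^ (μ i + (r - 1 - (i : ℕ)))).det /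
        (Matrix.of fun i j : Fin r => z j ^ (r - 1 - (i : ℕ))).det)
    (hS' : ∀ μ : Fin r → ℕ, S' μ =
      (Matrix.of fun i j : Fin r => z' j ^ (μ i + (r - 1 - (i : ℕ)))).det /
        (Matrix.of fun i j : Fin r => z' j ^ (r - 1 - (i : ℕ))).det) :
    (∑ μ ∈ (Finset.univ : Finset (Fin r → Fin (k + 1))).filter
        (fun μ : Fin r → Fin (k + 1) => Antitone μ ∧ ∀ i : Fin r, (i : ℕ) = r - 1 → (μ i : ℕ) = 0),
      Complex.exp (-(2 * Real.pi * Complex.I * ((∑ i, (μ i : ℕ) : ℕ) : ℂ) * ((∑ j, v j : ℕ) : ℂ) /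
          ((r : ℂ) * ((r : ℂ) + k)))) *
      Complex.exp (-(2 * Real.pi * Complex.I * ((∑ i, (k - (μ (Fin.rev i) : ℕ)) : ℕ) : ℂ) *
          ((∑ j, v' j : ℕ) : ℂ) / ((r : ℂ) * ((r : ℂ) + k)))) *
      S (fun i => (μ i : ℕ)) * S' (fun i => k - (μ (Fin.rev i) : ℕ))) = 0 := by
  classical
  set n := r + k with hn
  have : NeZero n := ⟨by omega⟩
  set ζ : ℂ := Complex.exp (2 * Real.pi * Complex.I / n) with hζdef
  have hζ : IsPrimitiveRoot ζ n := Complex.isPrimitiveRoot_exp n (NeZero.ne n)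
  have hζ0 : ζ ≠ 0 := Complex.exp_ne_zero _
  have hncast : (n : ℂ) = (r : ℂ) + k := by rw [hn]; push_cast; ring
  have hzζ : ∀ j, z j = ζ ^ v j := fun j => by
    rw [hz, hζdef, ← Complex.exp_nat_mul]; congr 1; rw [hn]; push_cast; ring
  have hz'ζ : ∀ j, z' j = ζ ^ v' j := fun j => by
    rw [hz', hζdef, ← Complex.exp_nat_mul]; congr 1; rw [hn]; push_cast; ring
  set D : ℤ := ((∑ j, v j : ℕ) : ℤ) - ((∑ j, v' j : ℕ) : ℤ) with hD
  let x : Fin r → ℤ := fun i => v i
  let y : Fin r → ℤ := fun i => -(v' i : ℤ)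
  -- the twisted orthogonality
  have hcore : ∑ a ∈ (Finset.univ : Finset (Fin r → Fin n)).filter
      (fun a : Fin r → Fin n => StrictAnti a ∧ ∀ i : Fin r, (i : ℕ) = r - 1 → (a i : ℕ) = 0),
      Complex.exp (-(2 * Real.pi * Complex.I * (D : ℂ) * ((∑ j, (a j : ℕ) : ℕ) : ℂ) / ((r : ℂ) * n))) *
      ((Matrix.of fun i j => (ζ ^ (a j : ℕ)) ^ x i).det * (Matrix.of fun i j => (ζ ^ (a j : ℕ)) ^ y i).det) = 0 := by
    have hxy : (∑ i, x i) + ∑ i, y i = D := by
      simp only [x, y, hD, Finset.sum_neg_distrib]; push_cast; ring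
    by_cases hdvd : (r : ℤ) ∣ D
    · obtain ⟨M, hM⟩ := hdvd
      have hphase : ∀ a : Fin r → Fin n,
          Complex.exp (-(2 * Real.pi * Complex.I * (D : ℂ) * ((∑ j, (a j : ℕ) : ℕ) : ℂ) / ((r : ℂ) * n)))
            = ∏ j, (ζ ^ (a j : ℕ)) ^ (-M) := by
        intro a
        rw [Finset.prod_zpow, Finset.prod_pow_eq_pow_sum, hζdef, ← Complex.exp_nat_mul, ← Complex.exp_int_mul]
        congr 1
        have hr0 : (r : ℂ) ≠ 0 := by exact_mod_cast (show r ≠ 0 by omega)
        rw [hM]; push_cast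
        field_simp
      have hz0 := pinned_eq_zero hζ hr (fun i => x i - M) y (fun i j h => ?_) (fun i j h => ?_) ?_ ?_
      · rw [← hz0]
        refine Finset.sum_congr rfl fun a _ => ?_
        rw [hphase]
        have : (Matrix.of fun i j => (ζ ^ (a j : ℕ)) ^ (x i - M))
            = Matrix.of fun i j => ((ζ ^ (a j : ℕ)) ^ (-M)) * (Matrix.of fun i j => (ζ ^ (a j : ℕ)) ^ x i) i j := by
          ext i j
          simp only [Matrix.of_apply]
          rw [← zpow_add₀ (pow_ne_zero _ hζ0)]; congr 1; ring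
        rw [this, Matrix.det_mul_row]
        ring
      · have := hvlt i; have := hvlt j
        have := Int.eq_zero_of_abs_lt_dvd h (by rw [abs_lt]; simp only [x]; omega)
        exact hv.injective (by simp only [x] at this; omega)
      · have := hv'lt i; have := hv'lt j
        have := Int.eq_zero_of_abs_lt_dvd h (by rw [abs_lt]; simp only [y]; omega)
        exact hv'.injective (by simp only [y] at this; omega)
      · rw [Finset.sum_sub_distrib, Finset.sum_const, Finset.card_univ, Fintype.card_fin, nsmul_eq_mul]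
        linarith
      · rintro ⟨π, hπ⟩
        have hex := matching_exact (n := n) (fun i => (v i : ℤ)) (fun i => (v' i : ℤ))
          (fun i => ⟨Int.natCast_nonneg _, by exact_mod_cast hvlt i⟩)
          (fun i => ⟨Int.natCast_nonneg _, by exact_mod_cast hv'lt i⟩) M π
          (fun i => by
            have h1 := hπ i
            simp only [x, y] at h1
            rwa [show (v i : ℤ) - v' (π i) - M = (v i : ℤ) - M + -(v' (π i) : ℤ) by ring])
          (by rw [← hM, hD]; push_cast; ring)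
        have hid : π = 1 := by
          refine perm_eq_one_of_strictMono π fun i j hij => ?_
          have h1 := hv hij; have h2 := hex i; have h3 := hex j
          exact hv'.lt_iff_gt.1 (by omega)
        exact hne ⟨M, fun i => by have := hex i; rw [hid] at this; simpa using this⟩
    · exact rotation_eq_zero hr D hdvd x y hxy
  -- reduce the sum
  set Zq : ℂ := ∏ j, ζ ^ v' j with hZp'
  set sg : ℂ := ((Equiv.Perm.sign (Fin.revPerm : Equiv.Perm (Fin r)) : ℤ) : ℂ) with hsg
  set Δ := (Matrix.of fun i j : Fin r => z j ^ (r - 1 - (i : ℕ))).det with hΔ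
  set Δ' := (Matrix.of fun i j : Fin r => z' j ^ (r - 1 - (i : ℕ))).det with hΔ'
  set SR : ℕ := ∑ i, rho r i with hSR
  set c : ℂ := Complex.exp (2 * Real.pi * Complex.I * ((D : ℂ) * SR - ((r * k : ℕ) : ℂ) * ((∑ j, v' j : ℕ) : ℂ))
    / ((r : ℂ) * n)) * sg * Zq⁻¹ / (Δ * Δ') with hc
  rw [← mul_zero c, ← hcore, Finset.mul_sum]
  have hbd : ∀ (μ : Fin r → Fin (k + 1)) (i : Fin r), (μ i : ℕ) + rho r i < n := fun μ i => by
    have := (μ i).isLt; simp only [rho]; omega
  refine Finset.sum_bij (fun μ _ i => (⟨(μ i : ℕ) + rho r i, hbd μ i⟩ : Fin n)) ?_ ?_ ?_ ?_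
  · intro μ hμ
    rw [Finset.mem_filter] at hμ ⊢
    refine ⟨Finset.mem_univ _, fun i j hij => ?_, fun i hi => ?_⟩
    · show (μ j : ℕ) + rho r j < (μ i : ℕ) + rho r i
      have h1 : (μ j : ℕ) ≤ μ i := hμ.2.1 hij.le
      have h2 : (i : ℕ) < j := hij
      have := j.isLt
      simp only [rho]; omega
    · have := hμ.2.2 i hi
      simp only [rho, hi, this]; omega
  · intro μ hμ μ' hμ' e
    funext i
    exact Fin.ext (by simpa using congrArg (fun a : Fin r → Fin n => (a i : ℕ)) e)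
  · intro a ha
    rw [Finset.mem_filter] at ha
    have hstep : ∀ i j : Fin r, i ≤ j → (a j : ℕ) + ((j : ℕ) - i) ≤ a i := by
      intro i j hij
      have hij' : (i : ℕ) ≤ j := hij
      obtain ⟨d, hd⟩ : ∃ d, (j : ℕ) = i + d := ⟨(j : ℕ) - i, by omega⟩
      induction d generalizing j with
      | zero => rw [show j = i from Fin.ext (by omega)]; omega
      | succ d ih =>
        have hlt : (i : ℕ) + d < r := by have := j.isLt; omega
        have h3 := ih ⟨i + d, hlt⟩ (show (i : ℕ) ≤ i + d by omega) (show (i : ℕ) ≤ i + d by omega) rfl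
        have h4 : (a j : ℕ) < a ⟨i + d, hlt⟩ := ha.2.1 (show (i : ℕ) + d < j by omega)
        simp only at h3
        omega
    have hlo : ∀ i, rho r i ≤ (a i : ℕ) ∧ (a i : ℕ) - rho r i < k + 1 := by
      intro i
      have := i.isLt
      have h1 := hstep i ⟨r - 1, by omega⟩ (show (i : ℕ) ≤ r - 1 by omega)
      have h2 := hstep ⟨0, by omega⟩ i (Nat.zero_le _)
      have := (a ⟨0, by omega⟩).isLt
      simp only [rho] at *; omega
    refine ⟨fun i => ⟨(a i : ℕ) - rho r i, (hlo i).2⟩, ?_, ?_⟩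
    · rw [Finset.mem_filter]
      refine ⟨Finset.mem_univ _, fun i j hij => ?_, fun i hi => ?_⟩
      · show (a j : ℕ) - rho r j ≤ (a i : ℕ) - rho r i
        have h1 := hstep i j hij
        have h2 := (hlo j).1
        have h3 : (i : ℕ) ≤ j := hij
        have := j.isLt
        simp only [rho] at *; omega
      · simp [ha.2.2 i hi]
    · funext i
      exact Fin.ext (Nat.sub_add_cancel (hlo i).1)
  · intro μ hμ
    set m : Fin r → ℕ := fun i => (μ i : ℕ) with hm
    have hmk : ∀ i, m i ≤ k := fun i => Nat.le_of_lt_succ (μ i).isLt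
    have hA : (Matrix.of fun i j : Fin r => (ζ ^ v j) ^ (m i + (r - 1 - (i : ℕ)))).det
        = (Matrix.of fun i j => (ζ ^ ((m j + rho r j : ℕ))) ^ x i).det := by
      rw [← Matrix.det_transpose]
      congr 1
      ext i j
      simp only [Matrix.transpose_apply, Matrix.of_apply, x, zpow_natCast, rho, ← pow_mul, mul_comm]
    have hB : (Matrix.of fun i j : Fin r => (ζ ^ v' j) ^ (-((m i + rho r i : ℕ) : ℤ))).det
        = (Matrix.of fun i j => (ζ ^ ((m j + rho r j : ℕ))) ^ y i).det := by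
      rw [← Matrix.det_transpose]
      congr 1
      ext i j
      simp only [Matrix.transpose_apply, Matrix.of_apply, y, zpow_neg, zpow_natCast, ← pow_mul, mul_comm]
    rw [hS, hS']
    simp only [hzζ, hz'ζ]
    rw [det_compl r k (by omega) hζ0 hζ.pow_eq_one v' m hmk, ← hsg, ← hZp', hA, hB]
    have hsum : (∑ i, (k - m (Fin.rev i))) + (∑ i, m i) = r * k := by
      rw [← Equiv.sum_comp Fin.revPerm m, ← Finset.sum_add_distrib]
      simp only [Fin.revPerm_apply]
      rw [Finset.sum_congr rfl fun i _ => Nat.sub_add_cancel (hmk (Fin.rev i))]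
      simp
    have hph : Complex.exp (-(2 * Real.pi * Complex.I * ((∑ i, m i : ℕ) : ℂ) * ((∑ j, v j : ℕ) : ℂ) /
          ((r : ℂ) * ((r : ℂ) + k)))) *
        Complex.exp (-(2 * Real.pi * Complex.I * ((∑ i, (k - m (Fin.rev i)) : ℕ) : ℂ) *
          ((∑ j, v' j : ℕ) : ℂ) / ((r : ℂ) * ((r : ℂ) + k))))
        = Complex.exp (2 * Real.pi * Complex.I * ((D : ℂ) * SR - ((r * k : ℕ) : ℂ) * ((∑ j, v' j : ℕ) : ℂ))
            / ((r : ℂ) * n)) *
          Complex.exp (-(2 * Real.pi * Complex.I * (D : ℂ) * ((∑ j, (m j + rho r j) : ℕ) : ℂ) / ((r : ℂ) * n))) := by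
      rw [← Complex.exp_add, ← Complex.exp_add]
      congr 1
      have e1 : ((∑ i, (k - m (Fin.rev i)) : ℕ) : ℂ) = ((r * k : ℕ) : ℂ) - ((∑ i, m i : ℕ) : ℂ) := by
        rw [← hsum, Nat.cast_add, add_sub_cancel_right]
      rw [e1, Finset.sum_add_distrib, ← hSR, hncast, hD]
      simp only [Int.cast_sub, Int.cast_natCast, Nat.cast_add, Nat.cast_mul]
      field_simp
      ring
    simp only [hm] at hph
    rw [hph, hc]
    ring

end Groth.Agent.S18378
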