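import Groth.Statements.S18379
import Groth.Agent.Lib.VerlindeH28.Basic

set_option autoImplicit false
open VerlindeComb

namespace Groth.Agent.S18379
open Groth.Agent.VerlindeH28

/-- Let r, k ≥ 1 be integers. Summing over all integer vectors v with r + k > v_1 > v_2 > ⋯ > v_{r-1} >
v_r = 0, one has Σ_v ∏_{i<j} (2 sin(π (v_i - v_j) / (r + k)))² = r (r + k)^{r-1}; that is, the
genus-zero Verlinde number of rank r and level k with no parabolic points, defined as (r (r +
k)^{r-1})⁻¹ times this sum, equals 1. Indices are 0-based below: v i stands for v_{i+1}. -/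
theorem result (r k : ℕ) (hr : 1 ≤ r) (hk : 1 ≤ k) :
    (∑ v ∈ (Finset.univ : Finset (Fin r → Fin (r + k))).filter
        (fun v : Fin r → Fin (r + k) => StrictAnti v ∧ ∀ i : Fin r, (i : ℕ) = r - 1 → (v i : ℕ) = 0),
      ∏ p ∈ (Finset.univ : Finset (Fin r × Fin r)).filter (fun p => p.1 < p.2),
        ((2 : ℝ) * Real.sin (Real.pi * ((v p.1 : ℕ) - (v p.2 : ℕ) : ℝ) / ((r : ℝ) + k))) ^ 2) =
      (r : ℝ) * ((r : ℝ) + k) ^ (r - 1) := by
  classical
  set n := r + k with hn
  have : NeZero n := ⟨by omega⟩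
  set ζ : ℂ := Complex.exp (2 * Real.pi * Complex.I / n) with hζdef
  have hζ : IsPrimitiveRoot ζ n := Complex.isPrimitiveRoot_exp n (NeZero.ne n)
  have h := cauchy_binet_zero (m := n) hr (fun i (t : Fin n) => (ζ ^ (t : ℕ)) ^ (rho r i : ℤ))
    (fun i (t : Fin n) => (ζ ^ (t : ℕ)) ^ (-(rho r i : ℤ)))
  simp only [sum_mul hζ, Fin.val_zero, pow_zero, one_zpow, mul_one] at h
  have hrho : ∀ i l : Fin r, ((n : ℤ) ∣ (rho r i : ℤ) + -(rho r l : ℤ)) ↔ i = l := by
    intro i l
    refine ⟨fun hd => ?_, fun e => by subst e; simp⟩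
    have := Int.eq_zero_of_abs_lt_dvd hd (by
      have := i.isLt; have := l.isLt
      simp only [rho, hn]; rw [abs_lt]; omega)
    have := i.isLt; have := l.isLt
    simp only [rho] at *
    exact Fin.ext (by omega)
  simp only [hrho] at h
  have e0 : (Matrix.of fun i l : Fin r => if i = l then (n : ℂ) else 0).det = (n : ℂ) ^ r := by
    rw [show (Matrix.of fun i l : Fin r => if i = l then (n : ℂ) else 0) = Matrix.diagonal fun _ => (n : ℂ) by
      ext i l; simp [Matrix.diagonal_apply], Matrix.det_diagonal]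
    simp
  have hn0 : (n : ℂ) ≠ 0 := by exact_mod_cast NeZero.ne n
  have e1 := det_const_sub_rankOne (n : ℂ) hn0 hr (fun _ => 1) (fun _ => 1)
  simp only [mul_one, Finset.sum_const, Finset.card_univ, Fintype.card_fin, nsmul_eq_mul] at e1
  rw [e0, e1] at h
  apply Complex.ofReal_injective
  rw [Complex.ofReal_sum]
  refine Eq.trans (Finset.sum_congr rfl fun v _ => ?_) (h.trans ?_)
  · rw [delta_mul_conj hζdef, P]
    congr 1
    refine Finset.prod_congr rfl fun p _ => ?_
    simp [hn]
  · rw [show (n : ℂ) ^ r = (n : ℂ) ^ (r - 1) * n by rw [← pow_succ]; congr 1; omega, hn]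
    push_cast
    ring

end Groth.Agent.S18379
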