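import Groth.Statements.S18380
import Groth.Agent.Lib.KS29.HomFin
import Groth.Agent.Lib.TensorMod.IdealMod
import Groth.Agent.Lib.Snapper.Main

set_option autoImplicit false
universe u
open Divisors

namespace Groth.Agent.S18380

open CategoryTheory AlgebraicGeometry in
/-- Let k be an algebraically closed field of characteristic 0 and M a scheme, smooth and projective
over k. Let D₁ and D₂ be effective Cartier divisors on M, given by invertible ideal sheaves with
I_{D₂} ⊆ I_{D₁} (so D₁ is a closed subscheme of D₂). If I_{D₁} and I_{D₂} are isomorphic as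
O_M-modules, that is D₁ and D₂ are linearly equivalent, then D₁ = D₂. The published statement is an
equivalence, for effective divisors on a smooth proper Deligne–Mumford stack with equal divisor
classes; its proof reduces to a smooth projective scheme, the case stated here, and the other
direction is immediate. -/
theorem result (k : Type u) [Field k] [IsAlgClosed k] [CharZero k]
    (M : Scheme.{u}) (f : M ⟶ Spec (CommRingCat.of k)) [Smooth f]
    (hproj : Neron.IsProjectiveOver k (Over.mk f))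
    (D₁ D₂ : M.IdealSheafData) (h₁ : BlowUp.IsEffCartierIdeal D₁) (h₂ : BlowUp.IsEffCartierIdeal D₂)
    (hle : D₂ ≤ D₁) (hiso : Nonempty (ClSub.idealMod D₁ ≅ ClSub.idealMod D₂)) :
    D₁ = D₂ := by
  letI : M.Over (Spec (CommRingCat.of k)) := ⟨f⟩
  haveI : IsProper f := by
    obtain ⟨n, i, hi, e⟩ := hproj
    haveI := hi
    change i ≫ CohB1.ProjSpaceOver.toBase n _ = f at e
    rw [← e]
    infer_instance
  haveI : IsProper (M ↘ Spec (CommRingCat.of k)) := inferInstanceAs (IsProper f)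
  have hsec : ∀ (U : M.Opens) (a : Γ(ClSub.idealMod D₂, U)),
      ((ClSub.idealModι D₂ ≫ ClSub.toSubscheme D₁).app U).hom a = 0 := fun U a => by
    refine Groth.Agent.M1.section_ext _ _ fun x hx => ?_
    obtain ⟨W, hW, hxW, hWU'⟩ := exists_isAffineOpen_mem_and_subset (U := U) (x := x) hx
    have hWU : W ≤ U := hWU'
    have h0 : (ClSub.idealModι D₂ ≫ ClSub.toSubscheme D₁).app W (Groth.Agent.M2.res _ hWU a) = 0 := by
      obtain ⟨b, hb⟩ := (Groth.Agent.M2.range_idealIncl D₁ ⟨W, hW⟩).ge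
        (hle ⟨W, hW⟩ ((Groth.Agent.M2.range_idealIncl D₂ ⟨W, hW⟩).le ⟨Groth.Agent.M2.res _ hWU a, rfl⟩))
      show D₁.subschemeι.app W (Groth.Agent.M2.idealIncl D₂ (Groth.Agent.M2.res _ hWU a)) = 0
      rw [← hb]
      exact Groth.Agent.M2.subschemeι_app_idealIncl D₁ b
    rw [← Groth.Agent.M1.germ_mres _ hWU hxW, ← Groth.Agent.M1.germ_mres _ hWU hxW 0,
      map_zero (Groth.Agent.M1.mres _ hWU).hom]
    exact congrArg _ ((Groth.Agent.M1.map_app_eq _ hWU a).symm.trans h0)
  have hz : ClSub.idealModι D₂ ≫ ClSub.toSubscheme D₁ = 0 := by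
    refine Scheme.Modules.hom_ext _ _ fun U => ?_
    ext a
    exact hsec U a
  let c : ClSub.idealMod D₂ ⟶ ClSub.idealMod D₁ := Limits.kernel.lift _ (ClSub.idealModι D₂) hz
  have hc : c ≫ ClSub.idealModι D₁ = ClSub.idealModι D₂ := Limits.kernel.lift_ι _ _ _
  haveI : Mono (ClSub.idealModι D₂) := inferInstanceAs (Mono (Limits.kernel.ι (ClSub.toSubscheme D₂)))
  haveI : Mono c := mono_of_mono_fac hc
  obtain ⟨φ⟩ := hiso
  let ψ : ClSub.idealMod D₁ ⟶ ClSub.idealMod D₁ := φ.hom ≫ c
  haveI : Mono ψ := mono_comp _ _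
  have hcoh := Groth.Agent.Snapper.isCoh_of_isInvertible (Groth.Agent.M2.isInvertible_idealMod D₁ h₁)
  haveI := Groth.Agent.KS29.finite_hom (k := k) hcoh hcoh
  have hinj : Function.Injective (CategoryTheory.Linear.rightComp k (ClSub.idealMod D₁) ψ) := fun a b h =>
    (cancel_mono ψ).1 h
  obtain ⟨χ, hχ⟩ := (LinearMap.injective_iff_surjective).1 hinj (𝟙 _)
  have hχ' : χ ≫ φ.hom ≫ c = 𝟙 _ := hχ
  refine le_antisymm ?_ hle
  intro U s hs
  obtain ⟨a, rfl⟩ := (Groth.Agent.M2.range_idealIncl D₁ U).ge hs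
  refine (Groth.Agent.M2.range_idealIncl D₂ U).le ⟨(χ ≫ φ.hom).app U.1 a, ?_⟩
  show ((χ ≫ φ.hom) ≫ ClSub.idealModι D₂).app U.1 a = (ClSub.idealModι D₁).app U.1 a
  rw [← hc, ← Category.assoc, Category.assoc χ, hχ', Category.id_comp]

end Groth.Agent.S18380
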