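import Groth.Statements.S18383
import Groth.Agent.Lib.AbRigid.Shear
import Mathlib.CategoryTheory.Limits.Constructions.Over.Connected
import Mathlib.CategoryTheory.Monoidal.Cartesian.Over

set_option autoImplicit false
universe u
open CategoryTheory CategoryTheory.Limits MonoidalCategory CartesianMonoidalCategory MonObj GrpObj AlgebraicGeometry
open GrpSch

namespace Groth.Agent.S18383

/-- Let S be a scheme, H an S-group scheme and i : G → H a homomorphism of S-group schemes which is a
closed immersion (G a closed subgroup scheme of H). Then the left-translation action of G on H is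
strictly free: the S-morphism G ×_S H → H ×_S H, (g, h) ↦ (i(g)·h, h), is a closed immersion. -/
theorem result {S : Scheme.{u}} (G H : Over S)
    [GrpObj G] [GrpObj H] (i : G ⟶ H) [IsMonHom i] [IsClosedImmersion i.left] :
    IsClosedImmersion (CartesianMonoidalCategory.lift ((i ▷ H) ≫ μ[H]) (snd G H)).left := by
  haveI : IsIso (AbRigid.shearR H).hom.left := inferInstanceAs (IsIso ((Over.forget _).map (AbRigid.shearR H).hom))
  haveI : IsClosedImmersion (i ▷ H).left :=
    MorphismProperty.of_isPullback ((AbRigid.isPullback_whiskerRight i H).map (Over.forget S)) ‹IsClosedImmersion i.left›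
  have e : CartesianMonoidalCategory.lift ((i ▷ H) ≫ μ[H]) (snd G H) = (i ▷ H) ≫ (AbRigid.shearR H).hom := by
    rw [AbRigid.shearR]
    apply CartesianMonoidalCategory.hom_ext
    · simp [Hom.mul_def]
    · simp
  rw [e, Over.comp_left]
  infer_instance

end Groth.Agent.S18383
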