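import Groth.Statements.S18384
import Mathlib.RingTheory.Filtration

set_option autoImplicit false
set_option maxHeartbeats 1000000
set_option linter.style.haveILetI false
set_option backward.isDefEq.respectTransparency false
set_option backward.isDefEq.respectTransparency.types false
universe u
open CategoryTheory CategoryTheory.Limits AlgebraicGeometry
open Coherent

namespace Groth.Agent.S18384

open TopologicalSpace Opposite

theorem app_eq_zero_of_mem {Z X : Scheme.{u}} (q : Z ⟶ X) (I : X.IdealSheafData)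
    (g : Z ⟶ I.subscheme) (hg : g ≫ I.subschemeι = q) (W : X.affineOpens) {a : Γ(X, W.1)} (ha : a ∈ I.ideal W) :
    q.app W.1 a = 0 := by
  have h : I ≤ q.ker := by
    rw [← hg]
    exact (Scheme.IdealSheafData.ker_subschemeι I).ge.trans (Scheme.Hom.le_ker_comp _ _)
  exact Scheme.IdealSheafData.ideal_ofIdeals_le (fun U => RingHom.ker (q.app U.1).hom) W (h W ha)

theorem germ_eq_zero {X S : Scheme.{u}} [IsLocallyNoetherian X] (p : X ⟶ S) (x : X) (I : X.IdealSheafData)
    (h : ∀ n : ℕ, ∃ g : pullback p (Spec.map (CommRingCat.ofHom (Ideal.Quotient.mk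
        (IsLocalRing.maximalIdeal ↑(S.presheaf.stalk (p x)) ^ (n + 1)))) ≫ S.fromSpecStalk (p x)) ⟶ I.subscheme,
        g ≫ I.subschemeι = pullback.fst p _)
    (W : X.affineOpens) (hx : x ∈ W.1) {a : Γ(X, W.1)} (ha : a ∈ I.ideal W) :
    X.presheaf.germ W.1 x hx a = 0 := by
  let φ := (p.stalkMap x).hom
  haveI : IsNoetherianRing (X.presheaf.stalk x) := inferInstance
  have hkr := Ideal.iInf_pow_eq_bot_of_isLocalRing (IsLocalRing.maximalIdeal (X.presheaf.stalk x))
    (IsLocalRing.maximalIdeal.isMaximal _).ne_top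
  rw [← Ideal.mem_bot, ← hkr, Ideal.mem_iInf]
  intro i
  obtain ⟨g, hg⟩ := h i
  let J := (IsLocalRing.maximalIdeal ↑(S.presheaf.stalk (p x)) ^ (i + 1)).map φ
  let π : X.presheaf.stalk x ⟶ CommRingCat.of (X.presheaf.stalk x ⧸ J) := CommRingCat.ofHom (Ideal.Quotient.mk J)
  let ψ : CommRingCat.of (↑(S.presheaf.stalk (p x)) ⧸ IsLocalRing.maximalIdeal ↑(S.presheaf.stalk (p x)) ^ (i + 1)) ⟶
      CommRingCat.of (X.presheaf.stalk x ⧸ J) :=
    CommRingCat.ofHom (Ideal.quotientMap J φ Ideal.le_comap_map)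
  have hsq : p.stalkMap x ≫ π = CommRingCat.ofHom (Ideal.Quotient.mk _) ≫ ψ := by
    ext r
    rfl
  let l := pullback.lift (f := p) (g := Spec.map (CommRingCat.ofHom (Ideal.Quotient.mk
      (IsLocalRing.maximalIdeal ↑(S.presheaf.stalk (p x)) ^ (i + 1)))) ≫ S.fromSpecStalk (p x))
    (Spec.map π ≫ X.fromSpecStalk x) (Spec.map ψ) (by
      rw [Category.assoc, ← Scheme.SpecMap_stalkMap_fromSpecStalk, ← Spec.map_comp_assoc, hsq, Spec.map_comp_assoc])
  have hq : (Spec.map π ≫ X.fromSpecStalk x).app W.1 a = 0 := by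
    refine app_eq_zero_of_mem _ I (l ≫ g) ?_ W ha
    rw [Category.assoc, hg, pullback.lift_fst]
  rw [Scheme.Hom.comp_app, CommRingCat.comp_apply, Scheme.fromSpecStalk_app hx, CommRingCat.comp_apply,
    CommRingCat.comp_apply] at hq
  have htop : X.fromSpecStalk x ⁻¹ᵁ W.1 = ⊤ := top_le_iff.1 fun z _ => by
    have hz : X.fromSpecStalk x z ∈ Set.range (X.fromSpecStalk x) := ⟨z, rfl⟩
    rw [Scheme.range_fromSpecStalk] at hz
    exact (hz : X.fromSpecStalk x z ⤳ x).mem_open W.1.2 hx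
  have h3 : (Spec.map π).appTop ((Scheme.ΓSpecIso (X.presheaf.stalk x)).inv (X.presheaf.germ W.1 x hx a)) = 0 := by
    have e := ConcreteCategory.congr_hom ((Spec.map π).naturality
      (homOfLE (le_top : X.fromSpecStalk x ⁻¹ᵁ W.1 ≤ ⊤)).op)
      ((Scheme.ΓSpecIso (X.presheaf.stalk x)).inv (X.presheaf.germ W.1 x hx a))
    have hres := e.symm.trans hq
    have hinj : Function.Injective ((Spec (CommRingCat.of (X.presheaf.stalk x ⧸ J))).presheaf.map
        ((TopologicalSpace.Opens.map (Spec.map π).base).op.map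
          (homOfLE (le_top : X.fromSpecStalk x ⁻¹ᵁ W.1 ≤ ⊤)).op)) := by
      haveI : IsIso (homOfLE (le_top : X.fromSpecStalk x ⁻¹ᵁ W.1 ≤ ⊤)).op :=
        ⟨(homOfLE htop.ge).op, Subsingleton.elim _ _, Subsingleton.elim _ _⟩
      exact (ConcreteCategory.bijective_of_isIso _).1
    exact hinj (hres.trans (map_zero _).symm)
  rw [← CommRingCat.comp_apply, ← Scheme.ΓSpecIso_inv_naturality, CommRingCat.comp_apply] at h3
  have h4 : π (X.presheaf.germ W.1 x hx a) = 0 :=
    (Scheme.ΓSpecIso _).symm.commRingCatIsoToRingEquiv.injective (h3.trans (map_zero _).symm)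
  have h5 : X.presheaf.germ W.1 x hx a ∈ J := Ideal.Quotient.eq_zero_iff_mem.1 h4
  refine Ideal.pow_le_pow_right (Nat.le_succ i) ?_
  have h6 : J ≤ IsLocalRing.maximalIdeal (X.presheaf.stalk x) ^ (i + 1) := by
    show Ideal.map φ _ ≤ _
    rw [Ideal.map_pow]
    refine Ideal.pow_right_mono ?_ _
    exact Ideal.map_le_iff_le_comap.2 fun r hr hu => hr (isUnit_of_map_unit φ r hu)
  exact h6 h5

theorem exists_small {X : Scheme.{u}} (W : X.affineOpens) (I : X.IdealSheafData) (V : X.affineOpens) (hV : I.ideal V = ⊥)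
    (w : X) (hwV : w ∈ V.1) (hwW : w ∈ W.1) {a : Γ(X, W.1)} (ha : a ∈ I.ideal W) :
    X.presheaf.germ W.1 w hwW a = 0 := by
  obtain ⟨D, hD, hwD, hDle⟩ := exists_isAffineOpen_mem_and_subset (X := X) (x := w) (U := V.1 ⊓ W.1) ⟨hwV, hwW⟩
  have hW' : D ≤ W.1 := fun z hz => (hDle hz).2
  have hV' : D ≤ V.1 := fun z hz => (hDle hz).1
  have h1 := I.map_ideal (U := ⟨D, hD⟩) (V := W) hW'
  have h2 := I.map_ideal (U := ⟨D, hD⟩) (V := V) hV'
  rw [hV, Ideal.map_bot] at h2
  have h3 : X.presheaf.map (homOfLE hW').op a ∈ I.ideal ⟨D, hD⟩ := h1.le (Ideal.mem_map_of_mem _ ha)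
  rw [← h2, Ideal.mem_bot] at h3
  rw [← TopCat.Presheaf.germ_res_apply X.presheaf (homOfLE hW') w hwD a]
  exact (congrArg _ h3).trans (map_zero _)

/-- Let p : X → S be a morphism of locally Noetherian schemes, t a point of S, m the maximal ideal of
the local ring O_{S,t}, and Z the closed subscheme of X defined by a quasi-coherent ideal I. Suppose
that for every n ≥ 1 the projection X ×_S Spec(O_{S,t}/m^n) → X factors through Z. Then there is an
open subscheme U of X containing every point of the fibre p⁻¹(t) such that the inclusion U → X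
factors through Z. -/
theorem result {X S : Scheme.{u}}
    [IsLocallyNoetherian X] [IsLocallyNoetherian S] (p : X ⟶ S) (t : S) (I : X.IdealSheafData)
    (h : ∀ n : ℕ, ∃ g : pullback p (Spec.map (CommRingCat.ofHom (Ideal.Quotient.mk
        (IsLocalRing.maximalIdeal ↑(S.presheaf.stalk t) ^ (n + 1)))) ≫ S.fromSpecStalk t) ⟶ I.subscheme,
        g ≫ I.subschemeι = pullback.fst p _) :
    ∃ U : X.Opens, (∀ x : X, p.base x = t → x ∈ U) ∧
      ∃ g : (U : Scheme.{u}) ⟶ I.subscheme, g ≫ I.subschemeι = U.ι := by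
  classical
  have key : ∀ x : X, p x = t → ∃ V : X.affineOpens, x ∈ V.1 ∧ I.ideal V = ⊥ := by
    rintro x rfl
    obtain ⟨W, hW, hxW, -⟩ := exists_isAffineOpen_mem_and_subset (X := X) (x := x) (U := ⊤) trivial
    haveI := IsLocallyNoetherian.component_noetherian (X := X) ⟨W, hW⟩
    obtain ⟨s, hs⟩ := (IsNoetherian.noetherian (I.ideal ⟨W, hW⟩) : (I.ideal ⟨W, hW⟩).FG)
    letI := TopCat.Presheaf.algebra_section_stalk X.presheaf (⟨x, hxW⟩ : W)
    haveI := hW.isLocalization_stalk ⟨x, hxW⟩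
    have hz : ∀ a ∈ s, ∃ f : (hW.primeIdealOf ⟨x, hxW⟩).asIdeal.primeCompl, (f : Γ(X, W)) * a = 0 := fun a ha =>
      (IsLocalization.map_eq_zero_iff (hW.primeIdealOf ⟨x, hxW⟩).asIdeal.primeCompl (X.presheaf.stalk x) a).1
        (germ_eq_zero p x I h ⟨W, hW⟩ hxW (hs ▸ Submodule.subset_span ha : a ∈ I.ideal ⟨W, hW⟩))
    choose f hf using hz
    let F : (hW.primeIdealOf ⟨x, hxW⟩).asIdeal.primeCompl := ∏ a ∈ s.attach, f a.1 a.2
    refine ⟨X.affineBasicOpen (U := ⟨W, hW⟩) (F : Γ(X, W)), ?_, ?_⟩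
    · show x ∈ X.basicOpen (F : Γ(X, W))
      rw [Scheme.mem_basicOpen X _ x hxW]
      exact IsLocalization.map_units (X.presheaf.stalk x) F
    · rw [← I.map_ideal_basicOpen ⟨W, hW⟩ (F : Γ(X, W)), ← hs, Ideal.map_span, Ideal.span_eq_bot]
      rintro _ ⟨a, ha, rfl⟩
      have h0 : (F : Γ(X, W)) * a = 0 := by
        obtain ⟨c, hc⟩ := Finset.dvd_prod_of_mem (fun a : {a // a ∈ s} => (f a.1 a.2 : Γ(X, W))) (Finset.mem_attach s ⟨a, ha⟩)
        rw [show (F : Γ(X, W)) = ∏ a ∈ s.attach, (f a.1 a.2 : Γ(X, W)) from Submonoid.coe_finsetProd .., hc, mul_right_comm,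
          hf a ha, zero_mul]
      have h1 := congrArg (X.presheaf.map (homOfLE (X.basicOpen_le (F : Γ(X, W)))).op) h0
      rw [map_mul, map_zero] at h1
      exact ((RingedSpace.isUnit_res_basicOpen _ _).mul_right_eq_zero).1 h1
  let U : X.Opens := ⨆ V : {V : X.affineOpens // I.ideal V = ⊥}, V.1.1
  refine ⟨U, fun x hx => ?_, ?_⟩
  · obtain ⟨V, hxV, hV⟩ := key x hx
    exact TopologicalSpace.Opens.mem_iSup.2 ⟨⟨V, hV⟩, hxV⟩
  · have hle : I ≤ U.ι.ker := Scheme.IdealSheafData.le_ofIdeals_iff.2 fun W a ha => by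
      show U.ι.app W.1 a = 0
      rw [Scheme.Opens.ι_app]
      refine TopCat.Presheaf.section_ext X.sheaf _ _ _ fun z hz => ?_
      rw [map_zero]
      have hz' : z ∈ U ∧ z ∈ W.1 := by
        change z ∈ U.ι ''ᵁ (U.ι ⁻¹ᵁ W.1) at hz
        rw [Scheme.Hom.image_preimage_eq_opensRange_inf, Scheme.Opens.opensRange_ι] at hz
        exact hz
      obtain ⟨V, hzV⟩ := TopologicalSpace.Opens.mem_iSup.1 hz'.1
      exact (TopCat.Presheaf.germ_res_apply X.presheaf _ z hz a).trans (exists_small W I V.1 V.2 z hzV hz'.2 ha)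
    exact ⟨IsClosedImmersion.lift I.subschemeι U.ι ((Scheme.IdealSheafData.ker_subschemeι I).le.trans hle),
      IsClosedImmersion.lift_fac _ _ _⟩

end Groth.Agent.S18384
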