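import Groth.Statements.S18385
import Groth.Agent.Lib.AbRigid.Isogeny
import Groth.Agent.Lib.AbRigid.SmoothGI

set_option autoImplicit false
universe u
open CategoryTheory CategoryTheory.Limits MonoidalCategory CartesianMonoidalCategory MonObj GrpObj AlgebraicGeometry
open AbSch

namespace Groth.Agent.S18385

open Groth.Agent.AbRigid

theorem lqf_iff_surjective {K : Type u} [Field K] (A B : Over (Spec (CommRingCat.of K))) [GrpObj A] [GrpObj B]
    [IsProper A.hom] [IsProper B.hom] [Smooth A.hom] [Smooth B.hom] [GeometricallyConnected A.hom]
    [GeometricallyConnected B.hom] (f : A ⟶ B) [IsMonHom f]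
    (hd : topologicalKrullDim A.left = topologicalKrullDim B.left) :
    LocallyQuasiFinite f.left ↔ Surjective f.left := by
  haveI := geometricallyIntegral_of_smooth A
  haveI := geometricallyIntegral_of_smooth B
  haveI : IsIntegral A.left := GeometricallyIntegral.isIntegral_of_subsingleton A.hom
  haveI : IsIntegral B.left := GeometricallyIntegral.isIntegral_of_subsingleton B.hom
  refine ⟨fun h => ?_, fun h => ?_⟩
  · haveI : IsProper (f.left ≫ B.hom) := by rw [Over.w]; infer_instance
    haveI : IsProper f.left := .of_comp _ B.hom
    haveI : IsFinite f.left := IsFinite.of_isProper_of_locallyQuasiFinite _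
    exact surjective_of_isFinite A B f hd
  · haveI : IsFinite f.left := isFinite_of_surjective A B f hd
    infer_instance


/-- (2) ⇔ (3): let S be a scheme, A and B abelian schemes over S (S-group schemes, smooth and proper
over S with geometrically connected fibres) whose fibres A_s and B_s have the same dimension for
every point s of S, and f : A → B a homomorphism of S-group schemes. Then f is locally quasi-finite
if and only if f is surjective (and then f is an isogeny). -/
theorem result {S : Scheme.{u}} (A B : Over S)
    [GrpObj A] [Smooth A.hom] [IsProper A.hom] [GeometricallyConnected A.hom]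
    [GrpObj B] [Smooth B.hom] [IsProper B.hom] [GeometricallyConnected B.hom]
    (f : A ⟶ B) [IsMonHom f]
    (hdim : ∀ s : S, topologicalKrullDim ↥(A.hom.fiber s) = topologicalKrullDim ↥(B.hom.fiber s)) :
    LocallyQuasiFinite f.left ↔ Surjective f.left := by
  haveI : IsProper (f.left ≫ B.hom) := by rw [Over.w]; infer_instance
  haveI : IsProper f.left := .of_comp _ B.hom
  let φ : ∀ s : S, Spec (S.residueField s) ⟶ S := fun s => S.fromSpecResidueField s
  let A' := fun s => (Over.pullback (φ s)).obj A
  let B' := fun s => (Over.pullback (φ s)).obj B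
  let f' : ∀ s, A' s ⟶ B' s := fun s => (Over.pullback (φ s)).map f
  letI : ∀ s, GrpObj (A' s) := fun s => Functor.grpObjObj
  letI : ∀ s, GrpObj (B' s) := fun s => Functor.grpObjObj
  have hsq : ∀ s, Limits.pullback.fst A.hom (φ s) ≫ f.left = (f' s).left ≫ Limits.pullback.fst B.hom (φ s) :=
    fun s => (Limits.pullback.lift_fst _ _ _).symm
  have hP : ∀ s, IsPullback (Limits.pullback.fst A.hom (φ s)) (f' s).left f.left (Limits.pullback.fst B.hom (φ s)) :=
    fun s => by
      refine IsPullback.of_bot ?_ (hsq s) (IsPullback.of_hasPullback B.hom (φ s))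
      rw [Over.w f, show (f' s).left ≫ Limits.pullback.snd B.hom (φ s) = Limits.pullback.snd A.hom (φ s) from Over.w (f' s)]
      exact IsPullback.of_hasPullback A.hom (φ s)
  have key : ∀ s, LocallyQuasiFinite (f' s).left ↔ Surjective (f' s).left := fun s => by
    haveI : IsProper (A' s).hom := by dsimp [A']; infer_instance
    haveI : IsProper (B' s).hom := by dsimp [B']; infer_instance
    haveI : Smooth (A' s).hom := by dsimp [A']; infer_instance
    haveI : Smooth (B' s).hom := by dsimp [B']; infer_instance
    haveI : GeometricallyConnected (A' s).hom := by dsimp [A']; infer_instance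
    haveI : GeometricallyConnected (B' s).hom := by dsimp [B']; infer_instance
    haveI : IsMonHom (f' s) := by dsimp [f']; infer_instance
    exact lqf_iff_surjective (K := S.residueField s) (A' s) (B' s) (f' s) (hdim s)
  refine ⟨fun h => ⟨fun y => ?_⟩, fun h => ?_⟩
  · have hy : y ∈ Set.range (B.hom.fiberι (B.hom y)) := by rw [Scheme.Hom.range_fiberι]; rfl
    obtain ⟨y', hy'⟩ := hy
    haveI := (key (B.hom y)).1 (MorphismProperty.of_isPullback (P := @LocallyQuasiFinite) (hP (B.hom y)) h)
    obtain ⟨x', hx'⟩ := (f' (B.hom y)).left.surjective y'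
    refine ⟨Limits.pullback.fst A.hom (φ (B.hom y)) x', ?_⟩
    rw [← Scheme.Hom.comp_apply, hsq, Scheme.Hom.comp_apply, hx']
    exact hy'
  · refine LocallyQuasiFinite.of_finite_preimage_singleton _ fun y => ?_
    have hy : y ∈ Set.range (B.hom.fiberι (B.hom y)) := by rw [Scheme.Hom.range_fiberι]; rfl
    obtain ⟨y', hy'⟩ := hy
    haveI := (key (B.hom y)).2 (MorphismProperty.of_isPullback (P := @Surjective) (hP (B.hom y)) h)
    haveI : QuasiCompact (f' (B.hom y)).left := MorphismProperty.of_isPullback (P := @QuasiCompact) (hP (B.hom y)) inferInstance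
    refine (((f' (B.hom y)).left.finite_preimage_singleton y').image
      (Limits.pullback.fst A.hom (φ (B.hom y)))).subset fun x hx => ?_
    obtain ⟨x', hx1, hx2⟩ := Scheme.exists_preimage_of_isPullback (hP (B.hom y)) x y'
      ((hx : f.left x = y).trans hy'.symm)
    exact ⟨x', hx2, hx1⟩

end Groth.Agent.S18385
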