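import Groth.Statements.S18386
import Mathlib.RingTheory.Ideal.IdempotentFG

set_option autoImplicit false
universe u
open LVCorr

namespace Groth.Agent.S18386

open AlgebraicGeometry in
/-- Let X be a connected Noetherian scheme and I a quasi-coherent sheaf of ideals on X, different from
the structure sheaf, such that I^k = I^(k+1) for some natural number k. Then I^k = 0. -/
theorem result (X : Scheme.{u}) [AlgebraicGeometry.IsNoetherian X]
    [ConnectedSpace X] (I : X.IdealSheafData) (hI : I ≠ ⊤) (k : ℕ)
    (h : I ^ k = I ^ (k + 1)) : I ^ k = ⊥ := by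
  have hk : k ≠ 0 := by
    rintro rfl
    apply hI
    have : (⊤ : X.IdealSheafData) = I := by
      apply Scheme.IdealSheafData.ext
      have := congrArg Scheme.IdealSheafData.ideal h
      simpa using this
    exact this.symm
  have hd : ∀ U : X.affineOpens, ∃ e : Γ(X, U.1), IsIdempotentElem e ∧ (I ^ k).ideal U = Ideal.span {e} := by
    intro U
    have hJ : I.ideal U ^ k = I.ideal U ^ (k + 1) := congrFun (congrArg Scheme.IdealSheafData.ideal h) U
    have hid : IsIdempotentElem (I.ideal U ^ k) := by
      have : ∀ m, I.ideal U ^ (k + m) = I.ideal U ^ k := by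
        intro m
        induction m with
        | zero => rfl
        | succ m ih => rw [← add_assoc, pow_succ, ih, ← pow_succ, ← hJ]
      show _ * _ = _
      rw [← pow_add, this k]
    have : IsNoetherianRing Γ(X, U.1) := IsLocallyNoetherian.component_noetherian U
    exact (Ideal.isIdempotentElem_iff_of_fg _ (IsNoetherian.noetherian _)).1 hid
  have hsupp : ((I ^ k).support : Set X) = (I.support : Set X) := by rw [Scheme.IdealSheafData.support_pow _ _ hk]
  have hopen : IsOpen ((I ^ k).support : Set X) := by
    rw [isOpen_iff_forall_mem_open]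
    intro x hx
    obtain ⟨U, hU, hxU, -⟩ := exists_isAffineOpen_mem_and_subset (U := (⊤ : X.Opens)) (x := x) trivial
    obtain ⟨e, he, hspan⟩ := hd ⟨U, hU⟩
    refine ⟨U ⊓ X.basicOpen (1 - e), ?_, (U ⊓ X.basicOpen (1 - e)).isOpen, hxU, ?_⟩
    · intro y hy
      rw [SetLike.mem_coe, Scheme.IdealSheafData.mem_support_iff_of_mem (U := ⟨U, hU⟩) hy.1, hspan,
        Scheme.zeroLocus_span, Scheme.mem_zeroLocus_iff]
      rintro f hf hye; rw [Set.mem_singleton_iff.1 hf] at hye
      have : y ∈ X.basicOpen ((1 - e) * e) := by rw [Scheme.basicOpen_mul]; exact ⟨hy.2, hye⟩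
      rw [sub_mul, one_mul, he.eq, sub_self, Scheme.basicOpen_zero] at this
      exact this
    · rw [SetLike.mem_coe, Scheme.IdealSheafData.mem_support_iff_of_mem (U := ⟨U, hU⟩) hxU, hspan,
        Scheme.zeroLocus_span, Scheme.mem_zeroLocus_iff] at hx
      have hx' := hx e rfl
      rw [SetLike.mem_coe, X.mem_basicOpen _ _ hxU] at *
      rw [map_sub, map_one]
      exact (IsLocalRing.isUnit_or_isUnit_one_sub_self _).resolve_left hx'
  rcases isClopen_iff.1 ⟨(I ^ k).support.isClosed, hopen⟩ with h0 | h1
  · exfalso; apply hI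
    rw [← Scheme.IdealSheafData.support_eq_bot_iff]
    exact SetLike.coe_injective (hsupp.symm.trans h0)
  · apply Scheme.IdealSheafData.ext
    funext U
    obtain ⟨e, he, hspan⟩ := hd U
    rw [hspan, Scheme.IdealSheafData.ideal_bot]
    show Ideal.span {e} = ⊥
    rw [Ideal.span_singleton_eq_bot]
    have hb : X.basicOpen e = ⊥ := by
      rw [eq_bot_iff]
      intro y hy
      have hyU : y ∈ U.1 := X.basicOpen_le e hy
      have hys : y ∈ ((I ^ k).support : Set X) := h1 ▸ Set.mem_univ y
      rw [SetLike.mem_coe, Scheme.IdealSheafData.mem_support_iff_of_mem hyU, hspan,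
        Scheme.zeroLocus_span, Scheme.mem_zeroLocus_iff] at hys
      exact absurd hy (hys e rfl)
    obtain ⟨m, hm⟩ := (Scheme.isNilpotent_iff_basicOpen_eq_bot_of_isCompact U.2.isCompact e).2 hb
    rcases m with _ | m
    · rw [pow_zero] at hm; rw [← mul_one e, hm, mul_zero]
    · rwa [he.pow_succ_eq] at hm

end Groth.Agent.S18386
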