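import Groth.Statements.S18387
import Mathlib.RingTheory.Artinian.Ring
import Mathlib.LinearAlgebra.FiniteDimensional.Lemmas

set_option autoImplicit false
universe u
open LVCorr

namespace Groth.Agent.S18387

/-- In the affine form which its proof establishes. Let A be a commutative algebra over a field F which
is finite-dimensional of dimension d over F. Then the d-th power of the nilradical of A vanishes.
(Applied to the fibre algebra A = B/mB of a quasi-finite morphism over a closed point with maximal
ideal m, this says that the d-th power of the radical of mB lies in mB, i.e. the ramification of the
morphism at that point is at most the degree d of the fibre.) -/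
theorem result (F A : Type u) [Field F] [CommRing A] [Algebra F A]
    [FiniteDimensional F A] : nilradical A ^ Module.finrank F A = ⊥ := by
  haveI : IsArtinianRing A := IsArtinianRing.of_finite F A
  obtain ⟨M, hM⟩ : IsNilpotent (nilradical A) := IsArtinianRing.isNilpotent_nilradical
  have key : ∀ k, nilradical A ^ k = ⊥ ∨
      Module.finrank F ((nilradical A ^ k : Ideal A).restrictScalars F) + k ≤ Module.finrank F A := by
    intro k
    induction k with
    | zero =>
      right
      simpa using Submodule.finrank_le _
    | succ k ih =>
      rcases ih with ih | ih
      · left
        rw [pow_succ, ih, Submodule.bot_mul]
      · by_cases heq : nilradical A ^ (k + 1) = nilradical A ^ k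
        · left
          have : ∀ m, nilradical A ^ (k + m) = nilradical A ^ k := by
            intro m
            induction m with
            | zero => rfl
            | succ m ihm => rw [← add_assoc, pow_succ, ihm, ← pow_succ, heq]
          rw [heq, ← this M, pow_add, hM, mul_zero]
          rfl
        · right
          have hlt : ((nilradical A ^ (k + 1) : Ideal A).restrictScalars F) <
              ((nilradical A ^ k : Ideal A).restrictScalars F) :=
            lt_of_le_of_ne (Ideal.pow_le_pow_right k.le_succ) fun h =>
              heq (Submodule.restrictScalars_injective F A A h)
          have := Submodule.finrank_lt_finrank_of_lt hlt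
          omega
  rcases key (Module.finrank F A) with h | h
  · exact h
  · have h0 : Module.finrank F ((nilradical A ^ Module.finrank F A : Ideal A).restrictScalars F) = 0 := by
      omega
    exact Submodule.restrictScalars_injective F A A
      ((Submodule.finrank_eq_zero.1 h0).trans (Submodule.restrictScalars_bot F A A).symm)

end Groth.Agent.S18387
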