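import Groth.Statements.S18389


set_option autoImplicit false
universe u
open LVCorr

namespace Groth.Agent.S18389

open AlgebraicGeometry CategoryTheory in
/-- Let j : C → C̄ be an open immersion with dense image and jX : X → X̄ an open immersion, and let c₁ :
C → X and c̄₁ : C̄ → X̄ satisfy j followed by c̄₁ equals c₁ followed by jX, with c̄₁ separated. Let
U be an open subset of X such that c₁⁻¹(U) is dense in C and the restriction c₁⁻¹(U) → U of c₁ is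
proper. Then c̄₁⁻¹(jX(U)) = j(c₁⁻¹(U)) as open subsets of C̄. (In the source all schemes are
separated of finite type over a field, C̄ and X̄ are compactifications of a correspondence and of X,
so that c̄₁ is automatically separated.) -/
theorem result {C Cb X Xb : Scheme.{u}}
    (j : C ⟶ Cb) [IsOpenImmersion j] (hj : DenseRange j.base)
    (jX : X ⟶ Xb) [IsOpenImmersion jX] (c₁ : C ⟶ X) (cb₁ : Cb ⟶ Xb) [IsSeparated cb₁]
    (h : j ≫ cb₁ = c₁ ≫ jX) (U : X.Opens) (hU : Dense ((c₁ ⁻¹ᵁ U : C.Opens) : Set C))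
    [IsProper (c₁ ∣_ U)] :
    cb₁ ⁻¹ᵁ (jX ''ᵁ U) = j ''ᵁ (c₁ ⁻¹ᵁ U) := by
  have hbase : ∀ x, cb₁ (j x) = jX (c₁ x) := fun x => by
    rw [← Scheme.Hom.comp_apply, h, Scheme.Hom.comp_apply]
  have hle : j ''ᵁ (c₁ ⁻¹ᵁ U) ≤ cb₁ ⁻¹ᵁ (jX ''ᵁ U) := by
    rintro _ ⟨x, hx, rfl⟩
    exact ⟨c₁ x, hx, (hbase x).symm⟩
  refine le_antisymm ?_ hle
  set V := jX ''ᵁ U
  let a : ((c₁ ⁻¹ᵁ U : C.Opens) : Scheme.{u}) ⟶ ((cb₁ ⁻¹ᵁ V : Cb.Opens) : Scheme.{u}) :=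
    j.resLE (cb₁ ⁻¹ᵁ V) (c₁ ⁻¹ᵁ U) (fun x hx => hle ⟨x, hx, rfl⟩)
  have hcomp : a ≫ (cb₁ ∣_ V) = (c₁ ∣_ U) ≫ (jX.isoImage U).hom := by
    rw [← cancel_mono V.ι, Category.assoc, Category.assoc, morphismRestrict_ι, Scheme.Hom.resLE_comp_ι_assoc,
      Scheme.Hom.isoImage_hom_ι, morphismRestrict_ι_assoc, h]
  have : IsProper (a ≫ (cb₁ ∣_ V)) := by rw [hcomp]; infer_instance
  have : IsProper a := IsProper.of_comp a (cb₁ ∣_ V)
  have hcl : IsClosed (Set.range a) := a.isClosedMap.isClosed_range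
  intro y hy
  have hd : Dense (j '' (c₁ ⁻¹ᵁ U : Set C)) := hj.dense_image j.continuous hU
  have hin : (⟨y, hy⟩ : ↥(cb₁ ⁻¹ᵁ V)) ∈ Set.range a := by
    rw [← hcl.closure_eq]; refine mem_closure_iff.2 ?_
    intro O hO hyO
    obtain ⟨O', hO', rfl⟩ := isOpen_induced_iff.1 hO
    obtain ⟨_, ⟨x, hx, rfl⟩, hzO⟩ := hd.exists_mem_open (hO'.inter (cb₁ ⁻¹ᵁ V).isOpen) ⟨y, hyO, hy⟩
    have hax : ((cb₁ ⁻¹ᵁ V).ι (a ⟨x, hx⟩)) = j x := by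
      rw [← Scheme.Hom.comp_apply, Scheme.Hom.resLE_comp_ι]; rfl
    refine ⟨a ⟨x, hx⟩, ?_, ⟨x, hx⟩, rfl⟩
    show (cb₁ ⁻¹ᵁ V).ι (a ⟨x, hx⟩) ∈ O'
    exact hax ▸ hzO.1
  obtain ⟨x, hx⟩ := hin
  refine ⟨x.1, x.2, ?_⟩
  have := congrArg (cb₁ ⁻¹ᵁ V).ι hx
  rw [← Scheme.Hom.comp_apply, Scheme.Hom.resLE_comp_ι] at this
  exact this

end Groth.Agent.S18389
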