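import Groth.Statements.S18390
import Mathlib.RingTheory.Finiteness.Ideal
import Mathlib.RingTheory.Ideal.Maps

set_option autoImplicit false
universe u
open LVCorr

namespace Groth.Agent.S18390

/-- In the affine, ring-theoretic form which its proof establishes. Let φ : A' → A be a ring
homomorphism, I' a finitely generated ideal of A' and I an ideal of A containing the image of I'.
Then some power I'^k is mapped into I^(k+1) if and only if for every n ≥ 1 and every a ∈ I'^n there
is a k with φ(a)^k ∈ I^(nk+1). (Geometrically, for a morphism f : (X, Z) → (X', Z') of pairs with Z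
a closed subscheme of the preimage of Z', the normal cone of Z in X is the spectrum of the
associated graded algebra of I, and the second condition says that the induced map of normal cones
sends the normal cone of Z set-theoretically into the zero section Z'; the source states the
equivalence in that language.) -/
theorem result (A' A : Type u) [CommRing A'] [CommRing A]
    (φ : A' →+* A) (I' : Ideal A') (hI' : I'.FG) (I : Ideal A) (hle : I'.map φ ≤ I) :
    (∃ k : ℕ, (I' ^ k).map φ ≤ I ^ (k + 1)) ↔
      ∀ n : ℕ, 1 ≤ n → ∀ a ∈ I' ^ n, ∃ k : ℕ, 1 ≤ k ∧ φ a ^ k ∈ I ^ (n * k + 1) := by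
  constructor
  · rintro ⟨k, hk⟩ n hn a ha
    refine ⟨k + 1, by omega, ?_⟩
    have h1 : (I' ^ (k + 1)).map φ ≤ I ^ (k + 1 + 1) := by
      rw [pow_succ, Ideal.map_mul, pow_succ I (k + 1)]
      exact Ideal.mul_mono hk hle
    have h2 : φ a ^ (k + 1) ∈ (I ^ (k + 1 + 1)) ^ n := by
      refine Ideal.pow_right_mono h1 n ?_
      rw [← Ideal.map_pow, ← map_pow, ← pow_mul, mul_comm, pow_mul]
      exact Ideal.mem_map_of_mem φ (Ideal.pow_mem_pow ha _)
    refine Ideal.pow_le_pow_right ?_ (by rwa [← pow_mul] at h2)
    nlinarith
  · intro h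
    have key : ∀ J : Ideal A', J.FG → J ≤ I' → ∃ k, (J ^ k).map φ ≤ I ^ (k + 1) := by
      intro J hJ
      induction J, hJ using Submodule.fg_induction with
      | singleton a =>
        intro ha
        obtain ⟨k, -, hk⟩ := h 1 le_rfl a (by rw [pow_one]; exact ha (Ideal.mem_span_singleton_self a))
        refine ⟨k, ?_⟩
        change ((Ideal.span {a}) ^ k).map φ ≤ _
        rw [Ideal.span_singleton_pow, Ideal.map_span, Set.image_singleton, Ideal.span_le,
          Set.singleton_subset_iff, map_pow, SetLike.mem_coe]
        rwa [one_mul] at hk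
      | sup J₁ J₂ _ _ ih₁ ih₂ =>
        intro hJ
        obtain ⟨a, ha⟩ := ih₁ (le_sup_left.trans hJ)
        obtain ⟨b, hb⟩ := ih₂ (le_sup_right.trans hJ)
        refine ⟨a + b, ?_⟩
        have hm : ∀ (J : Ideal A'), J ≤ I' → ∀ i, (J ^ i).map φ ≤ I ^ i := fun J hJ i => by
          rw [Ideal.map_pow]; exact Ideal.pow_right_mono ((Ideal.map_mono hJ).trans hle) i
        rw [← Submodule.add_eq_sup, add_pow, Ideal.map_le_iff_le_comap]
        refine Finset.sum_induction _ (· ≤ _) (fun x y hx hy => by rw [Submodule.add_eq_sup]; exact sup_le hx hy) bot_le fun i hi => ?_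
        refine Ideal.mul_le_left.trans ?_
        rw [← Ideal.map_le_iff_le_comap, Ideal.map_mul]
        obtain hia | hia := le_or_gt a i
        · have e : J₁ ^ i = J₁ ^ a * J₁ ^ (i - a) := by rw [← pow_add, Nat.add_sub_cancel' hia]
          rw [e, Ideal.map_mul]
          refine (Ideal.mul_mono (Ideal.mul_mono ha (hm J₁ (le_sup_left.trans hJ) _)) (hm J₂ (le_sup_right.trans hJ) _)).trans ?_
          rw [← pow_add, ← pow_add]
          refine Ideal.pow_le_pow_right ?_
          simp only [Finset.mem_range] at hi
          omega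
        · have e : J₂ ^ (a + b - i) = J₂ ^ b * J₂ ^ (a - i) := by rw [← pow_add]; congr 1; omega
          rw [e, Ideal.map_mul]
          refine (Ideal.mul_mono (hm J₁ (le_sup_left.trans hJ) _) (Ideal.mul_mono hb (hm J₂ (le_sup_right.trans hJ) _))).trans ?_
          rw [← pow_add, ← pow_add]
          refine Ideal.pow_le_pow_right ?_
          omega
    exact key I' hI' le_rfl

end Groth.Agent.S18390
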