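import Groth.Statements.S18391
import Mathlib.RingTheory.DiscreteValuationRing.TFAE
import Mathlib.RingTheory.Ideal.KrullsHeightTheorem
import Mathlib.RingTheory.Ideal.Height

set_option autoImplicit false
universe u
open LVCorr

namespace Groth.Agent.S18391

/-- Let A be a normal (integrally closed) Noetherian domain and z an element of A such that the radical
of the principal ideal (z) is prime. Then there exist elements w, t of A and a natural number r,
with w not in the radical of (z), such that in the localization A[1/w] the ideal generated by z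
equals the ideal generated by t^r and the ideal generated by t is prime. (The condition on w is the
one the printed proof produces and the later use of the lemma needs.) -/
theorem result (A : Type u) [CommRing A] [IsDomain A]
    [IsNoetherianRing A] [IsIntegrallyClosed A] (z : A) (hz : (Ideal.span {z}).radical.IsPrime) :
    ∃ (w t : A) (r : ℕ), w ∉ (Ideal.span {z}).radical ∧
      Ideal.span {algebraMap A (Localization.Away w) z} =
        Ideal.span {algebraMap A (Localization.Away w) t ^ r} ∧
      (Ideal.span {algebraMap A (Localization.Away w) t}).IsPrime := by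
  classical
  set p := (Ideal.span {z}).radical with hp
  haveI : p.IsPrime := hz
  by_cases hz0 : z = 0
  · refine ⟨1, 0, 1, p.one_notMem, by simp [hz0], ?_⟩
    haveI : IsDomain (Localization.Away (1 : A)) :=
      IsLocalization.isDomain_localization (Submonoid.powers_le.mpr (by simp : (1 : A) ∈ nonZeroDivisors A))
    rw [map_zero, Ideal.span_singleton_zero]
    exact Ideal.isPrime_bot
  have hzp : z ∈ p := Ideal.le_radical (Ideal.mem_span_singleton_self z)
  have hmin : p ∈ (Ideal.span {z}).minimalPrimes :=
    ⟨⟨hz, Ideal.le_radical⟩, fun q hq _ => hq.1.radical_le_iff.mpr hq.2⟩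
  have hht : p.height ≤ 1 := Ideal.height_le_one_of_isPrincipal_of_mem_minimalPrimes _ _ hmin
  let S := Localization.AtPrime p
  haveI : IsDomain S := IsLocalization.isDomain_localization p.primeCompl_le_nonZeroDivisors
  haveI : IsIntegrallyClosed S := isIntegrallyClosed_of_isLocalization S _ p.primeCompl_le_nonZeroDivisors
  have hinj : Function.Injective (algebraMap A S) :=
    IsLocalization.injective S p.primeCompl_le_nonZeroDivisors
  have hzm : algebraMap A S z ∈ IsLocalRing.maximalIdeal S :=
    (IsLocalization.AtPrime.to_map_mem_maximal_iff S p z).mpr hzp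
  have hfield : ¬ IsField S := fun h => by
    rw [IsLocalRing.isField_iff_maximalIdeal_eq] at h
    rw [h, Ideal.mem_bot] at hzm
    exact hz0 (hinj (hzm.trans (map_zero _).symm))
  haveI : IsDiscreteValuationRing S := by
    refine ((IsDiscreteValuationRing.TFAE S hfield).out 0 3 (b := IsIntegrallyClosed S ∧ ∃! P : Ideal S, P ≠ ⊥ ∧ P.IsPrime)).mpr ⟨‹_›, IsLocalRing.maximalIdeal S,
      ⟨IsLocalRing.isField_iff_maximalIdeal_eq.not.mp hfield, inferInstance⟩, fun P ⟨hP0, hP⟩ => ?_⟩
    haveI := hP
    refine le_antisymm (IsLocalRing.le_maximalIdeal hP.ne_top) ?_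
    have hle : P.under A ≤ p := by
      intro x hx
      rw [← IsLocalization.AtPrime.to_map_mem_maximal_iff S p x]
      exact IsLocalRing.le_maximalIdeal hP.ne_top hx
    have hne : P.under A ≠ ⊥ := fun h => hP0 <| by
      rw [← IsLocalization.map_comap p.primeCompl S P, h, Ideal.map_bot]
    have : P.under A = p := by
      by_contra h
      have := lt_of_lt_of_le (Ideal.height_strict_mono_of_isPrime (lt_of_le_of_ne hle h)) hht
      exact hne (Ideal.height_eq_zero_iff_eq_bot.mp (ENat.lt_one_iff_eq_zero.mp this))
    rw [← IsLocalization.map_comap p.primeCompl S P, this,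
      IsLocalization.AtPrime.map_eq_maximalIdeal p S]
  obtain ⟨ϖ, hϖ⟩ := IsDiscreteValuationRing.exists_irreducible S
  obtain ⟨⟨t, s⟩, hts⟩ := IsLocalization.surj p.primeCompl ϖ
  have hts' : algebraMap A S t = ϖ * algebraMap A S s := hts.symm
  have hsu : IsUnit (algebraMap A S (s : A)) := IsLocalization.map_units S s
  have htm : Ideal.span {algebraMap A S t} = IsLocalRing.maximalIdeal S := by
    rw [hts', Ideal.span_singleton_mul_right_unit hsu, hϖ.maximalIdeal_eq]
  have htp : t ∈ p := by
    rw [← IsLocalization.AtPrime.to_map_mem_maximal_iff S p t, ← htm]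
    exact Ideal.mem_span_singleton_self _
  have htirr : Irreducible (algebraMap A S t) :=
    (IsDiscreteValuationRing.irreducible_iff_uniformizer _).mpr htm.symm
  obtain ⟨r, u, hu⟩ := IsDiscreteValuationRing.eq_unit_mul_pow_irreducible
    (x := algebraMap A S z) (fun h => hz0 (hinj (h.trans (map_zero _).symm))) htirr
  obtain ⟨⟨a, s₁⟩, ha⟩ := IsLocalization.surj p.primeCompl (u : S)
  have ha' : (u : S) * algebraMap A S (s₁ : A) = algebraMap A S a := ha
  have heq : (s₁ : A) * z = a * t ^ r := hinj <| by
    rw [map_mul, map_mul, map_pow, ← ha', hu]; ring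
  have hanp : a ∉ p := by
    rw [← IsLocalization.AtPrime.to_map_mem_maximal_iff S p a, ← ha']
    exact fun h => (IsLocalRing.notMem_maximalIdeal.mpr (u.isUnit.mul (IsLocalization.map_units S s₁))) h
  have hgen : ∀ x ∈ p, ∃ (c : A) (w : A), w ∉ p ∧ w * x = c * t := by
    intro x hx
    have h1 : algebraMap A S x ∈ Ideal.span {algebraMap A S t} :=
      htm ▸ (IsLocalization.AtPrime.to_map_mem_maximal_iff S p x).mpr hx
    obtain ⟨y, hy⟩ := Ideal.mem_span_singleton'.mp h1
    obtain ⟨⟨c, w⟩, hc⟩ := IsLocalization.surj p.primeCompl y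
    refine ⟨c, w, w.2, hinj ?_⟩
    rw [map_mul, map_mul, ← (hc : y * algebraMap A S (w : A) = _), ← hy]
    ring
  choose c w hw hwx using hgen
  obtain ⟨G, hG⟩ := IsNoetherian.noetherian p
  have hGp : ∀ g ∈ G, g ∈ p := fun g hg => hG ▸ Ideal.subset_span hg
  let W : A := (∏ g : G, w g.1 (hGp _ g.2)) * ((s₁ : A) * a)
  have hW : W ∉ p := by
    have : W ∈ p.primeCompl := mul_mem (prod_mem fun g _ => hw _ _) (mul_mem s₁.2 hanp)
    exact this
  refine ⟨W, t, r, hW, ?_, ?_⟩
  · have hunit : ∀ x, x ∣ W → IsUnit (algebraMap A (Localization.Away W) x) := fun x hx =>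
      isUnit_of_dvd_unit (map_dvd _ hx) (IsLocalization.Away.algebraMap_isUnit W)
    have h1 := congrArg (algebraMap A (Localization.Away W)) heq
    simp only [map_mul, map_pow] at h1
    have hs1 := hunit s₁ (dvd_mul_of_dvd_right (dvd_mul_right _ _) _)
    have ha1 := hunit a (dvd_mul_of_dvd_right (dvd_mul_left _ _) _)
    rw [← Ideal.span_singleton_mul_left_unit hs1, h1, Ideal.span_singleton_mul_left_unit ha1]
  · have hd : Disjoint (Submonoid.powers W : Set A) (p : Set A) := by
      rw [Set.disjoint_left]
      rintro _ ⟨n, rfl⟩ h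
      exact hW (hz.mem_of_pow_mem n h)
    have hmap : p.map (algebraMap A (Localization.Away W)) =
        Ideal.span {algebraMap A (Localization.Away W) t} := by
      refine le_antisymm ?_ ?_
      · conv_lhs => rw [← hG]
        rw [Ideal.map_span, Ideal.span_le]
        rintro _ ⟨g, hg, rfl⟩
        have h1 := congrArg (algebraMap A (Localization.Away W)) (hwx g (hGp g hg))
        rw [map_mul, map_mul] at h1
        have hu' : IsUnit (algebraMap A (Localization.Away W) (w g (hGp g hg))) :=
          isUnit_of_dvd_unit (map_dvd _ (dvd_mul_of_dvd_left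
            (Finset.dvd_prod_of_mem (fun x : G => w x.1 (hGp _ x.2)) (Finset.mem_univ ⟨g, hg⟩)) _))
            (IsLocalization.Away.algebraMap_isUnit W)
        refine Ideal.mem_span_singleton.mpr ?_
        rw [← IsUnit.dvd_mul_left hu', h1]
        exact dvd_mul_left _ _
      · rw [Ideal.span_le, Set.singleton_subset_iff]
        exact Ideal.mem_map_of_mem _ htp
    rw [← hmap]
    exact IsLocalization.isPrime_of_isPrime_disjoint (Submonoid.powers W) _ p hz hd

end Groth.Agent.S18391
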