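import Groth.Statements.S18392
import Mathlib.RingTheory.Ideal.KrullsHeightTheorem
import Mathlib.RingTheory.Ideal.MinimalPrime.Noetherian
import Mathlib.RingTheory.Spectrum.Prime.Topology

set_option autoImplicit false
universe u
open LVCorr

namespace Groth.Agent.S18392

/-- Let A be a normal (integrally closed) Noetherian domain and z an element of A such that the radical
of (z) is prime. Then for every non-empty open subset V of Spec A contained in the basic open set
D(z) (that is, every non-empty open subset of Spec A[1/z]) there is an element x of A, not in the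
radical of (z), such that the basic open set D(xz) = Spec A[1/xz] is contained in V. -/
theorem result (A : Type u) [CommRing A]
    [IsDomain A] [IsNoetherianRing A] [IsIntegrallyClosed A] (z : A)
    (hz : (Ideal.span {z}).radical.IsPrime) (V : Set (PrimeSpectrum A)) (hV : IsOpen V)
    (hVz : V ⊆ (PrimeSpectrum.basicOpen z : Set (PrimeSpectrum A))) (hne : V.Nonempty) :
    ∃ x : A, x ∉ (Ideal.span {z}).radical ∧
      ((PrimeSpectrum.basicOpen (x * z) : TopologicalSpace.Opens (PrimeSpectrum A)) :
        Set (PrimeSpectrum A)) ⊆ V := by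
  classical
  set P := (Ideal.span {z}).radical with hP
  set J := PrimeSpectrum.vanishingIdeal Vᶜ with hJ
  have hPh : P.height ≤ 1 := Ideal.height_le_one_of_isPrincipal_of_mem_minimalPrimes (Ideal.span {z}) P
    ⟨⟨hz, Ideal.le_radical⟩, fun Q hQ _ => hQ.1.radical_le_iff.mpr hQ.2⟩
  have hzP : z ∈ P := Ideal.le_radical (Ideal.mem_span_singleton_self z)
  have hfin := Ideal.finite_minimalPrimes_of_isNoetherianRing A J
  have hmem : ∀ p : PrimeSpectrum A, p ∉ V ↔ J ≤ p.asIdeal := by
    intro p
    have e := PrimeSpectrum.zeroLocus_vanishingIdeal_eq_closure (Vᶜ)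
    rw [hV.isClosed_compl.closure_eq] at e
    exact (Set.ext_iff.mp e p).symm
  have hq : ∀ q ∈ J.minimalPrimes, z ∉ q → ∃ a ∈ q, a ∉ P := by
    intro q hq hzq
    by_contra! hh
    haveI := hq.1.1
    have hlt : q < P := lt_of_le_of_ne hh (fun e => hzq (e ▸ hzP))
    have := Ideal.height_add_one_le_of_lt_of_isPrime hlt
    have hq0 : q.height = 0 := by
      have h1 := this.trans hPh
      exact le_zero_iff.mp ((ENat.add_le_add_iff_right (ENat.one_ne_top)).mp (h1.trans_eq (zero_add 1).symm))
    rw [Ideal.height_eq_zero_iff_eq_bot] at hq0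
    subst hq0
    obtain ⟨p, hp⟩ := hne
    have hbot : (⟨⊥, Ideal.isPrime_bot⟩ : PrimeSpectrum A) ∈ V :=
      ((PrimeSpectrum.le_iff_specializes ⟨⊥, Ideal.isPrime_bot⟩ p).mp bot_le).mem_open hV hp
    exact (hmem _).mpr hq.1.2 hbot
  choose! a haq haP using hq
  let s := hfin.toFinset.filter (fun q => z ∉ q)
  refine ⟨∏ q ∈ s, a q, ?_, ?_⟩
  · rw [hz.prod_mem_iff]
    rintro ⟨q, hq', hqP⟩
    obtain ⟨h1, h2⟩ := Finset.mem_filter.mp hq'
    exact haP q (hfin.mem_toFinset.mp h1) h2 hqP
  · intro p hp
    by_contra hpV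
    have hp' : (∏ q ∈ s, a q) * z ∉ p.asIdeal := hp
    obtain ⟨q, hq, hqp⟩ := Ideal.exists_minimalPrimes_le ((hmem p).mp hpV)
    have hzq : z ∉ q := fun h => hp' (p.asIdeal.mul_mem_left _ (hqp h))
    refine hp' (p.asIdeal.mul_mem_right _ (hqp ?_))
    exact Ideal.prod_mem _ (Finset.mem_filter.mpr ⟨hfin.mem_toFinset.mpr hq, hzq⟩) (haq q hq hzq)

end Groth.Agent.S18392
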