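import Groth.Statements.S18393
import Mathlib.Topology.NoetherianSpace

set_option autoImplicit false
universe u v
open LVCorr

namespace Groth.Agent.S18393

/-- Stated for the underlying continuous maps. Let c₁, c₂ : C → X be continuous maps with C a Noetherian
topological space, let Z be a closed subset of X and B the closure in C of c₂⁻¹(Z) ∖ c₁⁻¹(Z). Call Z
locally invariant when every point x of Z has an open neighbourhood U such that every y in C with
c₂(y) ∈ Z ∩ U and c₁(y) ∈ U satisfies c₁(y) ∈ Z. Then Z is locally invariant if and only if for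
every irreducible subset T of B the closures of c₁(T) and of c₂(T) in X are disjoint. (The source
states this for a correspondence c = (c₁, c₂) : C → X × X of separated schemes of finite type over
an algebraically closed field and for the irreducible components of B; the condition for all
irreducible subsets of B is the same condition.) -/
theorem result {C : Type u} {X : Type v}
    [TopologicalSpace C] [TopologicalSpace X] [TopologicalSpace.NoetherianSpace C]
    (c₁ c₂ : C → X) (hc₁ : Continuous c₁) (hc₂ : Continuous c₂) (Z : Set X) (hZ : IsClosed Z) :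
    (∀ x ∈ Z, ∃ U : Set X, IsOpen U ∧ x ∈ U ∧
        ∀ y : C, c₂ y ∈ Z → c₂ y ∈ U → c₁ y ∈ U → c₁ y ∈ Z) ↔
      ∀ T : Set C, T ⊆ closure (c₂ ⁻¹' Z \ c₁ ⁻¹' Z) → IsIrreducible T →
        closure (c₁ '' T) ∩ closure (c₂ '' T) = ∅ := by
  constructor
  · intro h T hT hirr
    by_contra hne
    obtain ⟨x, hx1, hx2⟩ := Set.nonempty_iff_ne_empty.mpr hne
    have hTZ : c₂ '' T ⊆ Z := by
      rintro _ ⟨t, ht, rfl⟩
      exact closure_minimal Set.sdiff_subset (hZ.preimage hc₂) (hT ht)
    obtain ⟨U, hU, hxU, hinv⟩ := h x (closure_minimal hTZ hZ hx2)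
    obtain ⟨_, ha, a, haT, rfl⟩ := mem_closure_iff.mp hx1 U hU hxU
    obtain ⟨_, hb, b, hbT, rfl⟩ := mem_closure_iff.mp hx2 U hU hxU
    obtain ⟨t, htT, ht1, ht2⟩ := hirr.isPreirreducible (c₁ ⁻¹' U) (c₂ ⁻¹' U) (hU.preimage hc₁) (hU.preimage hc₂)
      ⟨a, haT, ha⟩ ⟨b, hbT, hb⟩
    obtain ⟨y, ⟨hy1, hy2⟩, hyD, hyD'⟩ := mem_closure_iff.mp (hT htT) _ ((hU.preimage hc₁).inter (hU.preimage hc₂)) ⟨ht1, ht2⟩
    exact hyD' (hinv y hyD hy2 hy1)
  · intro h x hx
    classical
    obtain ⟨S, hS, hSU⟩ := TopologicalSpace.NoetherianSpace.exists_finset_irreducible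
      (⟨closure (c₂ ⁻¹' Z \ c₁ ⁻¹' Z), isClosed_closure⟩ : TopologicalSpace.Closeds C)
    let W : TopologicalSpace.Closeds C → Set X := fun T =>
      if x ∈ closure (c₁ '' (T : Set C)) then (closure (c₂ '' (T : Set C)))ᶜ else (closure (c₁ '' (T : Set C)))ᶜ
    refine ⟨⋂ T ∈ S, W T, isOpen_biInter_finset fun T _ => ?_, Set.mem_iInter₂.mpr fun T hT => ?_, ?_⟩
    · simp only [W]; split_ifs <;> exact isClosed_closure.isOpen_compl
    · simp only [W]
      split_ifs with hx1
      · intro hx2
        have hsub : (T : Set C) ⊆ closure (c₂ ⁻¹' Z \ c₁ ⁻¹' Z) := by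
          intro t ht
          have : T ≤ S.sup id := Finset.le_sup (f := id) hT
          rw [← hSU] at this
          exact this ht
        exact Set.notMem_empty x (h _ hsub (hS ⟨T, hT⟩) ▸ ⟨hx1, hx2⟩)
      · exact hx1
    · intro y hyZ hy2 hy1
      by_contra hy
      have hyD : y ∈ closure (c₂ ⁻¹' Z \ c₁ ⁻¹' Z) := subset_closure ⟨hyZ, hy⟩
      have hyS : y ∈ ((S.sup id : TopologicalSpace.Closeds C) : Set C) := hSU ▸ hyD
      rw [TopologicalSpace.Closeds.coe_finset_sup, Finset.sup_set_eq_biUnion] at hyS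
      obtain ⟨T, hT, hyT⟩ := Set.mem_iUnion₂.mp hyS
      have e1 := Set.mem_iInter₂.mp hy1 T hT
      have e2 := Set.mem_iInter₂.mp hy2 T hT
      simp only [W] at e1 e2
      split_ifs at e1 e2 with hx1
      · exact e2 (subset_closure ⟨y, hyT, rfl⟩)
      · exact e1 (subset_closure ⟨y, hyT, rfl⟩)

end Groth.Agent.S18393
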