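import Groth.Statements.S18399
import Groth.Statements.S13158
import Mathlib

set_option autoImplicit false
universe u
open CAlg

namespace Groth.Agent.S18399

open IsLocalRing

/-- Let k be a field and A a regular local k-algebra with residue field k (the structure map from k onto
the residue field of A is surjective), let σ be a k-algebra endomorphism of A of finite order n with
n invertible in k, and let I_σ be the ideal of A generated by the elements f - σ f. Then I_σ is
generated by finitely many elements of the maximal ideal whose classes in the cotangent space m/m^2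
are linearly independent over the residue field. (Such elements are part of a regular system of
parameters of A, hence part of a regular sequence, which is the printed conclusion; the generators
with independent classes are what the argument produces.) -/
theorem result {k : Type u} [Field k] {A : Type u} [CommRing A] [Algebra k A] [IsRegularLocalRing A] (hres : Function.Surjective ⇑(algebraMap k (IsLocalRing.ResidueField A))) (σ : A →ₐ[k] A) (n : ℕ) (hσ : ∀ a : A, (⇑σ)^[n] a = a) (hn : (n : k) ≠ 0) : ∃ (m : ℕ) (f : Fin m → ↥(IsLocalRing.maximalIdeal A)), Ideal.span (Set.range fun i : Fin m => (f i : A)) = Ideal.span (Set.range fun a : A => a - σ a) ∧ LinearIndependent (IsLocalRing.ResidueField A) (fun i : Fin m => (IsLocalRing.maximalIdeal A).toCotangent (f i)) := by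
  classical
  set 𝔪 := maximalIdeal A
  set I : Ideal A := Ideal.span (Set.range fun a : A => a - σ a) with hI
  let S : A →ₗ[k] A := ∑ i ∈ Finset.range n, σ.toLinearMap ^ i
  have hS : ∀ a, S a = ∑ i ∈ Finset.range n, (⇑σ)^[i] a := fun a => by
    simp [S, LinearMap.sum_apply, Module.End.pow_apply]
  have hSI : ∀ a, S a - n • a ∈ I := by
    intro a
    have hi : ∀ i : ℕ, (⇑σ)^[i] a - a ∈ I := by
      intro i
      induction i with
      | zero => simp
      | succ i ih =>
        rw [Function.iterate_succ_apply', show σ ((⇑σ)^[i] a) - a =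
          ((⇑σ)^[i] a - a) - ((⇑σ)^[i] a - σ ((⇑σ)^[i] a)) by ring]
        exact I.sub_mem ih (Ideal.subset_span ⟨_, rfl⟩)
    rw [hS, ← Finset.card_range n, ← Finset.sum_const, Finset.card_range, ← Finset.sum_sub_distrib]
    exact I.sum_mem fun i _ => hi i
  have hunit : IsUnit (n : A) := by
    simpa using (isUnit_iff_ne_zero.2 hn).map (algebraMap k A)
  have hS0 : ∀ a, S (a - σ a) = 0 := by
    intro a
    have hn' : (⇑σ)^[n] a = a := hσ a
    rw [hS]
    have : ∀ i, (⇑σ)^[i] (a - σ a) = (⇑σ)^[i] a - (⇑σ)^[i + 1] a := fun i => by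
      rw [iterate_map_sub, Function.iterate_succ_apply]
    simp only [this]
    rw [Finset.sum_range_sub' (fun i => (⇑σ)^[i] a), hn', Function.iterate_zero_apply, sub_self]
  have hsurj : Function.Surjective σ := by
    intro a
    cases n with
    | zero => exact absurd Nat.cast_zero hn
    | succ n => exact ⟨(⇑σ)^[n] a, by rw [← Function.iterate_succ_apply' (⇑σ), hσ]⟩
  have hinj : Function.Injective σ := by
    intro a b h
    cases n with
    | zero => exact absurd Nat.cast_zero hn
    | succ n => rw [← hσ a, ← hσ b, Function.iterate_succ_apply, Function.iterate_succ_apply, h]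
  let e : A ≃+* A := RingEquiv.ofBijective σ ⟨hinj, hsurj⟩
  have hm : ∀ a ∈ 𝔪, σ a ∈ 𝔪 := fun a ha hu => ha (by
    have h1 : IsUnit (e.symm (e a)) := IsUnit.map e.symm (show IsUnit (e a) from hu)
    rwa [e.symm_apply_apply] at h1)
  have hIm : I ≤ 𝔪 := by
    rw [hI, Ideal.span_le]
    rintro _ ⟨a, rfl⟩
    obtain ⟨c, hc⟩ := hres (residue A a)
    have hac : a - algebraMap k A c ∈ 𝔪 := by
      rw [← residue_eq_zero_iff, map_sub, ← hc, IsScalarTower.algebraMap_apply k A (ResidueField A) c]
      exact sub_eq_zero.2 rfl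
    have := 𝔪.sub_mem hac (hm _ hac)
    rwa [map_sub, AlgHom.commutes, sub_sub_sub_cancel_right] at this
  -- σ-anti-invariant elements
  let K : Submodule k A := LinearMap.ker S
  have hKI : ∀ r ∈ K, r ∈ I := by
    intro r hr
    have := hSI r
    rw [LinearMap.mem_ker.1 hr, zero_sub, nsmul_eq_mul, neg_mem_iff] at this
    exact (I.unit_mul_mem_iff_mem hunit).1 this
  have hKm : ∀ r ∈ K, r ∈ 𝔪 := fun r hr => hIm (hKI r hr)
  -- an element of `K` in `𝔪 ^ 2` lies in `𝔪 * I`
  have hK2 : ∀ r ∈ K, r ∈ 𝔪 ^ 2 → r ∈ 𝔪 * I := by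
    intro r hr hr2
    have key : r ∈ 𝔪 ^ 2 ∧ ∀ i : ℕ, (⇑σ)^[i] r - r ∈ 𝔪 * I := by
      rw [pow_two] at hr2 ⊢
      refine ⟨hr2, ?_⟩
      refine Submodule.mul_induction_on hr2 ?_ ?_
      · intro a ha b hb i
        induction i with
        | zero => simp
        | succ i ih =>
          have hmi : ∀ c ∈ 𝔪, (⇑σ)^[i] c ∈ 𝔪 := fun c hc =>
            Set.MapsTo.iterate (fun x hx => hm x hx) i hc
          rw [Function.iterate_succ_apply', show σ ((⇑σ)^[i] (a * b)) - a * b =
            ((⇑σ)^[i] (a * b) - a * b) - ((⇑σ)^[i] (a * b) - σ ((⇑σ)^[i] (a * b))) by ring]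
          refine (𝔪 * I).sub_mem ih ?_
          rw [iterate_map_mul, map_mul, show (⇑σ)^[i] a * (⇑σ)^[i] b - σ ((⇑σ)^[i] a) * σ ((⇑σ)^[i] b) =
            (⇑σ)^[i] a * ((⇑σ)^[i] b - σ ((⇑σ)^[i] b)) + σ ((⇑σ)^[i] b) * ((⇑σ)^[i] a - σ ((⇑σ)^[i] a)) by ring]
          exact (𝔪 * I).add_mem (Ideal.mul_mem_mul (hmi a ha) (Ideal.subset_span ⟨_, rfl⟩))
            (Ideal.mul_mem_mul (hm _ (hmi b hb)) (Ideal.subset_span ⟨_, rfl⟩))
      · intro x y hx hy i
        rw [iterate_map_add, add_sub_add_comm]
        exact (𝔪 * I).add_mem (hx i) (hy i)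
    have h : S r - n • r ∈ 𝔪 * I := by
      rw [hS, ← Finset.card_range n, ← Finset.sum_const, Finset.card_range, ← Finset.sum_sub_distrib]
      exact (𝔪 * I).sum_mem fun i _ => key.2 i
    rw [LinearMap.mem_ker.1 hr, zero_sub, nsmul_eq_mul, neg_mem_iff] at h
    exact ((𝔪 * I).unit_mul_mem_iff_mem hunit).1 h
  let φ : K → 𝔪.Cotangent := fun r => 𝔪.toCotangent ⟨r.1, hKm _ r.2⟩
  obtain ⟨b, hb, hspan, hli⟩ := exists_linearIndependent (ResidueField A) (Set.range φ)
  have hfin : b.Finite := Set.finite_coe_iff.1 hli.finite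
  haveI := hfin.fintype
  let eb := (Fintype.equivFin b).symm
  choose g hg using fun x : b => hb x.2
  refine ⟨Fintype.card b, fun i => ⟨(g (eb i)).1, hKm _ (g (eb i)).2⟩, ?_, ?_⟩
  swap
  · have : (fun i => 𝔪.toCotangent ⟨(g (eb i)).1, hKm _ (g (eb i)).2⟩) = (Subtype.val : b → _) ∘ eb :=
      funext fun i => hg (eb i)
    rw [this]
    exact hli.comp eb eb.injective
  · set J := Ideal.span (Set.range fun i => (g (eb i)).1) with hJ
    have hJI : J ≤ I := by
      rw [hJ, Ideal.span_le]
      rintro _ ⟨i, rfl⟩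
      exact hKI _ (g (eb i)).2
    refine le_antisymm hJI ?_
    have hI' : I ≤ J ⊔ 𝔪 • I := by
      rw [hI, Ideal.span_le]
      rintro _ ⟨a, rfl⟩
      have haK : a - σ a ∈ K := hS0 a
      have hmem : φ ⟨_, haK⟩ ∈ Submodule.span (ResidueField A) (Set.range (Subtype.val : b → _)) := by
        rw [Subtype.range_coe, hspan]
        exact Submodule.subset_span ⟨_, rfl⟩
      obtain ⟨c, hc⟩ := (Submodule.mem_span_range_iff_exists_fun _).1 hmem
      choose c' hc' using fun x : b => hres (c x)
      let r : A := (a - σ a) - ∑ x : b, c' x • (g x).1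
      have hrK : r ∈ K := K.sub_mem haK (K.sum_mem fun x _ => K.smul_mem _ (g x).2)
      have hr2 : r ∈ 𝔪 ^ 2 := by
        rw [← Ideal.toCotangent_eq_zero _ ⟨r, hKm _ hrK⟩]
        have : (⟨r, hKm _ hrK⟩ : 𝔪) = ⟨_, hKm _ haK⟩ - ∑ x : b, algebraMap k A (c' x) • ⟨(g x).1, hKm _ (g x).2⟩ := by
          ext
          simp [r, Algebra.smul_def]
        rw [this, map_sub, map_sum, sub_eq_zero]
        refine hc.symm.trans (Finset.sum_congr rfl fun x _ => ?_)
        rw [map_smul, ← hc' x, IsScalarTower.algebraMap_apply k A (ResidueField A), algebraMap_smul]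
        congr 1
        exact (hg x).symm
      have hdec : a - σ a = ∑ x : b, c' x • (g x).1 + r := by simp [r]
      show a - σ a ∈ J ⊔ 𝔪 • I
      rw [hdec]
      refine Submodule.add_mem_sup (J.sum_mem fun x _ => ?_) (hK2 r hrK hr2)
      rw [Algebra.smul_def]
      exact J.mul_mem_left _ (Ideal.subset_span ⟨eb.symm x, by simp⟩)
    exact Submodule.le_of_le_smul_of_le_jacobson_bot (IsNoetherian.noetherian I)
      (IsLocalRing.maximalIdeal_le_jacobson _) hI'

end Groth.Agent.S18399
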