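import Groth.Statements.S18402
import Mathlib.AlgebraicGeometry.Morphisms.UniversallyOpen
import Mathlib.AlgebraicGeometry.Morphisms.QuasiFinite
import Mathlib.AlgebraicGeometry.Geometrically.Irreducible

set_option autoImplicit false
universe u
open Pi1

namespace Groth.Agent.S18402

open AlgebraicGeometry CategoryTheory CategoryTheory.Limits in
/-- Let X be an irreducible scheme and π : W ⟶ X a flat morphism whose fibre over every field-valued
point of X is irreducible (so every fibre is geometrically irreducible and π is surjective). Then
for every finite étale cover Z of X with Z connected, the base change of Z along π is connected.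
Ranging over all finite étale covers of X, this says that the monodromy group of each cover (the
image of the fundamental group in the permutations of a geometric fibre) is unchanged by pullback
along π. The published statement asserts that equality of monodromy groups, for generically finite,
generically étale covers between irreducible algebraic stacks. -/
theorem result {X W : Scheme.{u}}
    [IrreducibleSpace X] (π : W ⟶ X) [Flat π] [GeometricallyIrreducible π]
    (Z : FEt.Cat X) [ConnectedSpace Z.left] :
    ConnectedSpace ↥(pullback Z.hom π) := by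
  suffices key : ∀ {Z : Scheme.{u}} (h : Z ⟶ X) [IsFinite h] [Etale h] [ConnectedSpace Z],
      ConnectedSpace ↥(pullback h π) by
    have : IsFinite Z.hom := Z.prop.1
    have : Etale Z.hom := Z.prop.2
    have : ConnectedSpace ↥((𝟭 Scheme.{u}).obj Z.left) := ‹ConnectedSpace ↥Z.left›
    exact key Z.hom
  intro Z h _ _ _
  let p := pullback.fst h π
  have hp : Surjective p := inferInstance
  obtain ⟨z₀⟩ : Nonempty Z := inferInstance
  have : Nonempty ↥(pullback h π) := ⟨(p.surjective z₀).choose⟩
  -- maximal points lie over the generic point
  have hmax : ∀ ξ : Z, (∀ y, y ⤳ ξ → y = ξ) → h ξ = genericPoint X := fun ξ hξ => by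
    obtain ⟨y, hy, hgy⟩ := Flat.generalizingMap h (genericPoint_specializes (h ξ))
    rw [← hξ y hy, hgy]
  have hgen : ∀ z : Z, ∃ ξ, ξ ⤳ z ∧ h ξ = genericPoint X := fun z => by
    have hirr := isIrreducible_irreducibleComponent (x := z)
    have hg := hirr.isGenericPoint_genericPoint isClosed_irreducibleComponent
    refine ⟨_, hg.specializes mem_irreducibleComponent, hmax _ fun y hy => ?_⟩
    have hsub : irreducibleComponent z ⊆ closure {y} := by
      rw [← hg]
      exact closure_minimal (Set.singleton_subset_iff.2 hy.mem_closure) isClosed_closure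
    have heq : closure {y} = irreducibleComponent z :=
      eq_irreducibleComponent isPreirreducible_singleton.closure hsub
    exact IsGenericPoint.eq (heq ▸ isGenericPoint_closure) hg
  have : PreconnectedSpace ↥(pullback h π) := by
    rw [preconnectedSpace_iff_clopen]
    intro C hC
    -- fibres of `p` are connected
    have hfib : ∀ a b, p a = p b → a ∈ C → b ∈ C := fun a b hab ha =>
      ((show _root_.IsPreconnected (p ⁻¹' {p a}) by
        rw [← p.range_fiberι, ← Set.image_univ]
        exact (IrreducibleSpace.isIrreducible_univ _).isConnected.isPreconnected.image _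
          (p.fiberι _).continuous.continuousOn).subset_isClopen hC ⟨a, rfl, ha⟩) hab.symm
    let D : Set Z := p '' C
    have hDC : p ⁻¹' D = C := Set.Subset.antisymm (fun b ⟨a, ha, hab⟩ => hfib a b hab ha)
      (Set.subset_preimage_image _ _)
    have hgD : ∀ {y z : Z}, y ⤳ z → (y ∈ D ↔ z ∈ D) := by
      intro y z hyz
      obtain ⟨b, rfl⟩ := p.surjective z
      obtain ⟨a, hab, rfl⟩ := Flat.generalizingMap p hyz
      show a ∈ p ⁻¹' D ↔ b ∈ p ⁻¹' D
      rw [hDC]
      exact ⟨fun ha => hab.mem_closed hC.1 ha, fun hb => hab.mem_open hC.2 hb⟩
    have hcl : ∀ E : Set Z, (∀ {y z : Z}, y ⤳ z → (y ∈ E ↔ z ∈ E)) → IsClosed E := by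
      intro E hE
      have : E = ⋃ ξ ∈ E ∩ h ⁻¹' {genericPoint X}, closure {ξ} := by
        ext z
        simp only [Set.mem_iUnion, exists_prop]
        constructor
        · intro hz
          obtain ⟨ξ, hξz, hξ⟩ := hgen z
          exact ⟨ξ, ⟨(hE hξz).2 hz, hξ⟩, hξz.mem_closure⟩
        · rintro ⟨ξ, ⟨hξE, -⟩, hz⟩
          exact (hE (specializes_iff_mem_closure.2 hz)).1 hξE
      rw [this]
      exact ((h.finite_preimage_singleton _).subset Set.inter_subset_right).isClosed_biUnion
        fun _ _ => isClosed_closure
    have hDclop : IsClopen D := ⟨hcl D hgD, by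
      rw [← isClosed_compl_iff]
      exact hcl _ fun hyz => not_congr (hgD hyz)⟩
    rcases isClopen_iff.1 hDclop with hD | hD <;> rw [← hDC, hD] <;> simp
  exact ⟨inferInstance⟩
end Groth.Agent.S18402
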