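import Groth.Statements.S1841
import Groth.Agent.Lib.GrpAmple15.Descend
-- import your own Groth.Agent.* helpers here

set_option autoImplicit false
universe u v
open CategoryTheory MonoidalCategory CartesianMonoidalCategory MonObj GrpObj AlgebraicGeometry
open GrpSch

namespace Groth.Agent.S1841

/-- A group scheme of finite type over a field is quasi-projective over the field; stated as the
existence of an ample invertible module on the underlying scheme (for schemes of finite type over a
field this is the same thing). -/
theorem result (K : Type u) [Field K] (G : Over (Spec (CommRingCat.of K))) [GrpObj G] [LocallyOfFiniteType G.hom] [QuasiCompact G.hom] : ∃ L : G.left.Modules, CohB1.IsAmple L := by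
  exact Groth.Agent.GrpAmple15.exists_isAmple_field G

end Groth.Agent.S1841
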