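import Groth.Statements.S18413
import Groth.Agent.Lib.DGen9.FibEuler
import Groth.Agent.Lib.CBC10.GenRows
import Groth.Agent.Lib.CartExt13.Divisor
import Groth.Agent.Lib.CurveR1_10.Basic
import Groth.Agent.Lib.BlanchardNS19
import Groth.Agent.Lib.AlgClosedExt25.Geometry
import Groth.Agent.Lib.GeomIrr18.Scheme
import Groth.Agent.Lib.PicWittH7.Global
import Groth.Agent.Lib.Kleiman14.Dim
import Groth.Agent.Lib.Twist.Pullback
import Groth.Agent.Lib.CurveCoh17.Twist
import Groth.Agent.Lib.VarDim.Top
import Groth.Agent.S1536
import Mathlib.AlgebraicGeometry.AlgClosed.Basic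

set_option autoImplicit false
universe u
open CategoryTheory AlgebraicGeometry
open Curves

namespace Groth.Agent.S18413


section
set_option backward.isDefEq.respectTransparency false

open Groth.Agent

private theorem dim_closedFibre {X S : Scheme.{u}} (π : X ⟶ S) [Flat π] [IrreducibleSpace S] {s : S}
    (hne : s ≠ genericPoint S) (hX : topologicalKrullDim X ≤ ((2 : ℕ) : WithBot ℕ∞)) :
    topologicalKrullDim ↥(π.fiber s) ≤ ((1 : ℕ) : WithBot ℕ∞) := by
  rw [VarDim.scheme_dim_eq_iSup_height]
  refine iSup_le fun z => WithBot.coe_le_coe.2 ?_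
  have hz : π (π.fiberι s z) = s := by
    have := Set.mem_range_self (f := (π.fiberι s).base) z
    rw [π.range_fiberι s] at this
    exact this
  obtain ⟨y, hy, hπy⟩ := Flat.generalizingMap π (show genericPoint S ⤳ π (π.fiberι s z) from genericPoint_specializes _)
  have hlt : π.fiberι s z < y := VarDim.lt_of_specializes_ne hy fun e => hne (by rw [← hz, e]; exact hπy)
  have h1 : Order.height z ≤ Order.height (π.fiberι s z) := by
    refine Order.height_le_height_apply_of_strictMono _ (fun a b hab => ?_) z
    exact VarDim.lt_of_specializes_ne ((VarDim.le_iff_specializes'.1 hab.le).map (π.fiberι s).continuous)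
      fun e => hab.ne ((π.fiberι s).isEmbedding.injective e)
  have h2 : Order.height (π.fiberι s z) + 1 ≤ 2 := by
    refine (Order.height_add_one_le hlt).trans ?_
    have h3 := (le_iSup (fun x : X => ((Order.height x : ℕ∞) : WithBot ℕ∞)) y).trans
      ((VarDim.scheme_dim_eq_iSup_height (X := X)).ge.trans hX)
    exact WithBot.coe_le_coe.1 h3
  refine h1.trans ?_
  revert h2
  generalize Order.height (π.fiberι s z) = a
  intro h2
  cases a with
  | top => simp at h2
  | coe n => norm_cast at h2 ⊢; omega

private theorem nonempty_fibre {X S : Scheme.{u}} (π : X ⟶ S) [IsProper π]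
    (hO : ∀ U : S.Opens, Function.Bijective (π.app U)) (s : S) : Nonempty ↥(π.fiber s) := by
  by_contra h
  have hs : s ∉ Set.range π.base := fun ⟨x, hx⟩ => h ⟨(π.fiberHomeo s).symm ⟨x, hx⟩⟩
  let U : S.Opens := ⟨(Set.range π.base)ᶜ, π.isClosedMap.isClosed_range.isOpen_compl⟩
  have he : π ⁻¹ᵁ U = ⊥ := TopologicalSpace.Opens.ext (Set.eq_empty_of_forall_notMem fun x hx => hx ⟨x, rfl⟩)
  haveI : Subsingleton Γ(X, π ⁻¹ᵁ U) := by rw [he]; infer_instance
  haveI : Nonempty (U : S.Opens) := ⟨⟨s, hs⟩⟩
  haveI : Subsingleton Γ(S, U) := (hO U).1.subsingleton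
  exact not_nontrivial Γ(S, U) inferInstance

private theorem finsum_two {a : ℕ → ℤ} (h : ∀ i, 2 ≤ i → a i = 0) : finsum a = a 0 + a 1 := by
  rw [finsum_eq_finsetSum_of_support_subset a (s := Finset.range 2), Finset.sum_range_succ, Finset.sum_range_one]
  intro i hi
  by_contra hn
  rw [Finset.coe_range, Set.mem_Iio, not_lt] at hn
  exact hi (h i hn)
end


/-- Let k be an algebraically closed field, X a k-scheme that is smooth of relative dimension 2 and
proper over k (a smooth proper surface), S an irreducible k-scheme smooth of relative dimension 1 (a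
smooth curve), and π : X → S a proper flat k-morphism with O_S → π_* O_X bijective on every open
subset of S. For a closed point s of S whose scheme-theoretic fibre X_s is reduced: (a) H^0(X_s,
O_{X_s}) is one-dimensional over κ(s), and (b) the arithmetic genus dim H^1(X_s, O_{X_s}) equals
that of the generic fibre X_η over κ(η). -/
theorem result
    {k : Type u} [Field k] [IsAlgClosed k] {X S : Scheme.{u}}
    (π : X ⟶ S) (g : S ⟶ Spec (CommRingCat.of k))
    [SmoothOfRelativeDimension 1 g] [IrreducibleSpace S]
    [SmoothOfRelativeDimension 2 (π ≫ g)] [IsProper (π ≫ g)]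
    [IsProper π] [Flat π]
    (hO : ∀ U : S.Opens, Function.Bijective (π.app U))
    (s : S) (hs : IsClosed ({s} : Set S)) [AlgebraicGeometry.IsReduced (π.fiber s)] :
    PerfAux.betti π (Coh.structureModule X) s 0 = 1 ∧
      PerfAux.betti π (Coh.structureModule X) s 1 =
        PerfAux.betti π (Coh.structureModule X) (genericPoint S) 1 := by
  haveI : Smooth g := SmoothOfRelativeDimension.smooth 1 g
  haveI : LocallyOfFiniteType g := inferInstance
  haveI : IsLocallyNoetherian S := LocallyOfFiniteType.isLocallyNoetherian g
  haveI : LocallyOfFinitePresentation π := inferInstance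
  have hfp : CohB1.IsFP (Coh.structureModule X) := CurveR1_10.isFP_structure
  haveI : Coh.IsQCoh (Coh.structureModule X) := M1.isQCoh_structureModule X
  have hflat : FlatMod.IsFlatOver π (Coh.structureModule X) := CartExt13.isFlatOver_structureModule π
  have hη : s ≠ genericPoint S := by
    intro e
    haveI : Nonempty ↥S := ⟨s⟩
    have hd := Kleiman14.dim_eq g 1
    have hcl : closure ({genericPoint S} : Set S) = Set.univ := genericPoint_spec S
    rw [← e, hs.closure_eq] at hcl
    haveI : Subsingleton ↥S := ⟨fun a b => (hcl.ge (Set.mem_univ a)).trans (hcl.ge (Set.mem_univ b)).symm⟩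
    have h0 : topologicalKrullDim ↥S ≤ 0 := by
      rw [VarDim.scheme_dim_eq_iSup_height]
      exact iSup_le fun x => by rw [Order.height_eq_zero.2 fun y _ => (Subsingleton.elim x y).le]; rfl
    rw [hd] at h0
    exact absurd h0 (by norm_num)
  have hX := PicWittH7.topologicalKrullDim_le_of_smooth (π ≫ g) 2
  have hds := dim_closedFibre π hη hX
  have hvs : ∀ i, 2 ≤ i → PerfAux.betti π (Coh.structureModule X) s i = 0 := fun i hi => by
    haveI : Subsingleton (CohIII.fiberH π (Coh.structureModule X) s i) :=
      CBC10.subsingleton_fiberH_of_dim (d := 1) s hds hi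
    exact Module.finrank_zero_of_subsingleton
  letI : (π.fiber s).Over (Spec (CommRingCat.of (S.residueField s))) := ⟨π.fiberToSpecResidueField s⟩
  haveI : IsProper ((π.fiber s) ↘ Spec (CommRingCat.of (S.residueField s))) := MorphismProperty.pullback_snd _ _ inferInstance
  haveI : IsAlgClosed (S.residueField s) :=
    IsAlgClosed.of_ringEquiv k _ ((residueFieldIsoBase g s hs).commRingCatIsoToRingEquiv).symm
  haveI : ConnectedSpace ↥(π.fiber s) := by
    haveI := nonempty_fibre π hO s
    have hp : _root_.IsPreconnected (π.base ⁻¹' {s}) := BlanchardNS19.isPreconnected_fibre π (fun U _ => hO U) s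
    haveI : PreconnectedSpace ↥(π.base ⁻¹' {s}) := isPreconnected_iff_preconnectedSpace.1 hp
    haveI : PreconnectedSpace ↥(π.fiber s) :=
      ⟨by simpa using isPreconnected_univ.image _ (π.fiberHomeo s).symm.continuous.continuousOn⟩
    exact ⟨inferInstance⟩
  haveI : GeometricallyReduced ((π.fiber s) ↘ Spec (CommRingCat.of (S.residueField s))) :=
    AlgClosedExt25.geometricallyReduced_of_isReduced _
  haveI : GeometricallyConnected ((π.fiber s) ↘ Spec (CommRingCat.of (S.residueField s))) :=
    GeomIrr.geometricallyConnected_of_isSepClosed _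
  have h0 : PerfAux.betti π (Coh.structureModule X) s 0 = 1 :=
    (CurveCoh17.hequiv (S.residueField s) (Twist.pullbackUnitIso (π.fiberι s)) 0).finrank_eq.trans
      (S1536.result (S.residueField s) (π.fiber s))
  have hle : ∀ i, PerfAux.betti π (Coh.structureModule X) (genericPoint S) i ≤ PerfAux.betti π (Coh.structureModule X) s i := fun i => by
    by_contra hlt
    obtain ⟨W, hWsub, hW, hsW⟩ := mem_nhds_iff.1
      (FibEuler9.upperSemicontinuous_betti π (Coh.structureModule X) hfp hflat i s _ (not_le.1 hlt))
    exact (lt_irrefl (PerfAux.betti π (Coh.structureModule X) (genericPoint S) i)) (show PerfAux.betti π (Coh.structureModule X) (genericPoint S) i < _ from hWsub ((genericPoint_specializes s).mem_open hW hsW))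
  have hpos : 0 < PerfAux.betti π (Coh.structureModule X) (genericPoint S) 0 := by
    letI : (π.fiber (genericPoint S)).Over (Spec (CommRingCat.of (S.residueField (genericPoint S)))) :=
      ⟨π.fiberToSpecResidueField (genericPoint S)⟩
    haveI : IsProper ((π.fiber (genericPoint S)) ↘ Spec (CommRingCat.of (S.residueField (genericPoint S)))) :=
      MorphismProperty.pullback_snd _ _ inferInstance
    haveI := nonempty_fibre π hO (genericPoint S)
    haveI : AlgebraicGeometry.IsNoetherian (π.fiber (genericPoint S)) :=
      CohFound.isNoetherian_of_isProper ((π.fiber (genericPoint S)) ↘ Spec (CommRingCat.of (S.residueField (genericPoint S))))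
    refine lt_of_lt_of_eq ?_ (CurveCoh17.hequiv (S.residueField (genericPoint S)) (Twist.pullbackUnitIso (π.fiberι (genericPoint S))) 0).finrank_eq.symm
    haveI := CohFound.finite_HH_of_isProper (A := S.residueField (genericPoint S)) _
      (M1.isCoh_structureModule (π.fiber (genericPoint S))) 0
    haveI : Nontrivial (Coh.HH (π.fiber (genericPoint S)) (Coh.structureModule (π.fiber (genericPoint S))) 0) := by
      haveI : Nonempty ↥(⊤ : (π.fiber (genericPoint S)).Opens) :=
        ⟨⟨Classical.arbitrary _, trivial⟩⟩
      haveI : Nontrivial Γ(π.fiber (genericPoint S), ⊤) := inferInstance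
      haveI : Nontrivial Γ(Coh.structureModule (π.fiber (genericPoint S)), ⊤) := ‹Nontrivial Γ(π.fiber (genericPoint S), ⊤)›
      exact (CurveCoh17.hh0 (Coh.structureModule (π.fiber (genericPoint S)))).toEquiv.nontrivial
    exact Module.finrank_pos
  have hchi := (FibEuler9.isLocallyConstant_eulerChar π (Coh.structureModule X) hfp hflat).apply_eq_of_preconnectedSpace s (genericPoint S)
  have hvη : ∀ i, 2 ≤ i → PerfAux.betti π (Coh.structureModule X) (genericPoint S) i = 0 := fun i hi => by
    have := hle i; rw [hvs i hi] at this; omega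
  have h1 := hle 0
  refine ⟨h0, ?_⟩
  simp only [PerfAux.eulerChar] at hchi
  rw [finsum_two (fun i hi => by rw [hvs i hi]; simp), finsum_two (fun i hi => by rw [hvη i hi]; simp)] at hchi
  simp only [pow_zero, one_mul, pow_one] at hchi
  omega

end Groth.Agent.S18413
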