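import Groth.Statements.S18416


set_option autoImplicit false
universe u v w
open CAlg

namespace Groth.Agent.S18416

open TensorProduct KaehlerDifferential in
theorem isLoc_pi {B : Type w} [CommRing B] (S : Submonoid B) (T : Type w) [CommRing T] [Algebra B T]
    [IsLocalization S T] (κ : Type w) [Finite κ] :
    IsLocalizedModule S ((Algebra.linearMap B T).compLeft κ) :=
  (isLocalizedModule_iff_isBaseChange S T _).mpr (IsBaseChange.finitePow κ (IsBaseChange.linearMap B T))

open TensorProduct KaehlerDifferential in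
theorem etale_quotient {C : Type v} {P : Type w} [CommRing C] [CommRing P] [Algebra C P]
    [Algebra.FormallySmooth C P] [Algebra.FinitePresentation C P] {κ : Type w} [Fintype κ] [DecidableEq κ] (z : κ → P)
    (e : (κ → P) ≃ₗ[P] Ω[P⁄C]) (he : ∀ i, e (Pi.single i 1) = D C P (z i)) :
    Algebra.Etale C (P ⧸ Ideal.span (Set.range z)) := by
  classical
  set J₀ := Ideal.span (Set.range z) with hJ₀
  have hker : RingHom.ker (algebraMap P (P ⧸ J₀)) = J₀ := Ideal.mk_ker
  have hsurj : Function.Surjective (algebraMap P (P ⧸ J₀)) := Ideal.Quotient.mk_surjective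
  haveI : Algebra.FinitePresentation C (P ⧸ J₀) :=
    Algebra.FinitePresentation.quotient ⟨Finset.univ.image z, by simp [hJ₀]⟩
  have hz : ∀ i, z i ∈ RingHom.ker (algebraMap P (P ⧸ J₀)) := fun i => by
    rw [hker]; exact Ideal.subset_span ⟨i, rfl⟩
  let Q := (RingHom.ker (algebraMap P (P ⧸ J₀))).Cotangent
  let l0 : Ω[P⁄C] →ₗ[P] Q := ((Pi.basisFun P κ).map e).constr P
    fun i => (RingHom.ker (algebraMap P (P ⧸ J₀))).toCotangent ⟨z i, hz i⟩
  have hkill : ∀ a ∈ J₀, ∀ y : Q, a • y = 0 := by
    intro a ha y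
    obtain ⟨y, rfl⟩ := Ideal.toCotangent_surjective _ y
    rw [← map_smul, Ideal.toCotangent_eq_zero, pow_two]
    exact Ideal.mul_mem_mul (by rw [hker]; exact ha) y.2
  let m : (P ⧸ J₀) →ₗ[P] Ω[P⁄C] →ₗ[P] Q := Submodule.liftQ J₀ (LinearMap.toSpanSingleton P _ l0)
    fun a ha => LinearMap.ext fun w => hkill a ha (l0 w)
  let l := TensorProduct.lift m
  have hl : ∀ w, l ((1 : P ⧸ J₀) ⊗ₜ w) = l0 w := fun w => by
    show m (Ideal.Quotient.mk J₀ 1) w = l0 w
    show (1 : P) • l0 w = l0 w
    rw [one_smul]
  have hsp : ∀ i, D C P (z i) = ((Pi.basisFun P κ).map e) i := fun i => by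
    rw [Module.Basis.map_apply, Pi.basisFun_apply, he]
  have hgen : ∀ i, l (kerCotangentToTensor C P (P ⧸ J₀)
      ((RingHom.ker (algebraMap P (P ⧸ J₀))).toCotangent ⟨z i, hz i⟩)) =
      (RingHom.ker (algebraMap P (P ⧸ J₀))).toCotangent ⟨z i, hz i⟩ := fun i => by
    rw [kerCotangentToTensor_toCotangent, hl, hsp, Module.Basis.constr_basis]
  haveI : Algebra.FormallySmooth C (P ⧸ J₀) := by
    refine (Algebra.FormallySmooth.iff_split_injection hsurj).2 ⟨l, LinearMap.ext fun y => ?_⟩
    obtain ⟨⟨y, hy⟩, rfl⟩ := Ideal.toCotangent_surjective _ y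
    have hy' : y ∈ J₀ := by rw [← hker]; exact hy
    revert hy
    induction hy' using Submodule.span_induction with
    | mem y hy => obtain ⟨i, rfl⟩ := hy; intro _; exact hgen i
    | zero => intro hy; rw [show (⟨0, hy⟩ : RingHom.ker (algebraMap P (P ⧸ J₀))) = 0 from rfl]; simp
    | add a b ha hb iha ihb =>
      intro hy
      have ha' : a ∈ RingHom.ker (algebraMap P (P ⧸ J₀)) := by rw [hker]; exact ha
      have hb' : b ∈ RingHom.ker (algebraMap P (P ⧸ J₀)) := by rw [hker]; exact hb
      rw [show (⟨a + b, hy⟩ : RingHom.ker (algebraMap P (P ⧸ J₀))) = ⟨a, ha'⟩ + ⟨b, hb'⟩ from rfl,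
        map_add, map_add, map_add, iha ha', ihb hb']
    | smul c a ha iha =>
      intro hy
      have ha' : a ∈ RingHom.ker (algebraMap P (P ⧸ J₀)) := by rw [hker]; exact ha
      rw [show (⟨c • a, hy⟩ : RingHom.ker (algebraMap P (P ⧸ J₀))) = c • ⟨a, ha'⟩ from rfl,
        map_smul, map_smul, map_smul, iha ha']
  haveI : Algebra.FormallyUnramified C (P ⧸ J₀) := by
    refine ⟨?_⟩
    have h0 : ∀ y : (P ⧸ J₀) ⊗[P] Ω[P⁄C], y ∈ LinearMap.range (kerCotangentToTensor C P (P ⧸ J₀)) := by
      intro y
      induction y using TensorProduct.induction_on with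
      | zero => exact zero_mem _
      | add a b ha hb => exact add_mem ha hb
      | tmul t w =>
        obtain ⟨t, rfl⟩ := Ideal.Quotient.mk_surjective t
        have hw : w ∈ Submodule.span P (Set.range ((Pi.basisFun P κ).map e)) := by
          rw [Module.Basis.span_eq]; trivial
        rw [show (Ideal.Quotient.mk J₀ t) ⊗ₜ[P] w = t • ((1 : P ⧸ J₀) ⊗ₜ[P] w) by
          rw [smul_tmul', Algebra.smul_def, mul_one]; rfl]
        refine Submodule.smul_mem _ _ ?_
        induction hw using Submodule.span_induction with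
        | mem w hw =>
          obtain ⟨i, rfl⟩ := hw
          exact ⟨(RingHom.ker (algebraMap P (P ⧸ J₀))).toCotangent ⟨z i, hz i⟩, by
            rw [kerCotangentToTensor_toCotangent, hsp]⟩
        | zero => rw [tmul_zero]; exact zero_mem _
        | add a b _ _ ha hb => rw [tmul_add]; exact add_mem ha hb
        | smul c a _ ha => rw [tmul_smul]; exact Submodule.smul_mem _ _ ha
    refine subsingleton_of_forall_eq 0 fun y => ?_
    obtain ⟨u, rfl⟩ := mapBaseChange_surjective C P (P ⧸ J₀) hsurj y
    obtain ⟨v', rfl⟩ := h0 u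
    exact (exact_kerCotangentToTensor_mapBaseChange C P (P ⧸ J₀) hsurj).apply_apply_eq_zero v'
  exact ⟨Algebra.FormallyEtale.iff_formallyUnramified_and_formallySmooth.2 ⟨‹_›, ‹_›⟩, ‹_›⟩

open TensorProduct KaehlerDifferential in
theorem main {C : Type v} {B : Type w} [CommRing C] [CommRing B] [Algebra C B] [Algebra.Smooth C B] (J : Ideal B)
    (hsurj : Function.Surjective (algebraMap C (B ⧸ J))) (q : Ideal B) [q.IsPrime] (hJq : J ≤ q) :
    ∃ f : B, f ∉ q ∧
      ∃ J₀ : Ideal (Localization.Away f), J₀ ≤ J.map (algebraMap B (Localization.Away f)) ∧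
        Algebra.Etale C (Localization.Away f ⧸ J₀) := by
  classical
  have hgen : ∀ ω : Ω[B⁄C], ∃ j : J, ω - D C B (j : B) ∈ J • (⊤ : Submodule B Ω[B⁄C]) := by
    intro ω
    haveI : Subsingleton Ω[(B ⧸ J)⁄C] := KaehlerDifferential.subsingleton_of_surjective C _ hsurj
    obtain ⟨y, hy⟩ := (exact_kerCotangentToTensor_mapBaseChange C B (B ⧸ J) Ideal.Quotient.mk_surjective
      ((1 : B ⧸ J) ⊗ₜ ω)).1 (Subsingleton.elim _ _)
    obtain ⟨⟨j, hj⟩, rfl⟩ := Ideal.toCotangent_surjective _ y
    rw [kerCotangentToTensor_toCotangent] at hy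
    refine ⟨⟨j, by rwa [RingHom.mem_ker, Ideal.Quotient.algebraMap_eq, Ideal.Quotient.eq_zero_iff_mem] at hj⟩, ?_⟩
    have h1 : (Ideal.Quotient.mk J 1) ⊗ₜ[B] (ω - D C B j) = 0 := by
      rw [tmul_sub, sub_eq_zero]; exact hy.symm
    have h2 := congrArg (quotTensorEquivQuotSMul Ω[B⁄C] J) h1
    rw [map_zero, quotTensorEquivQuotSMul_mk_tmul, one_smul] at h2
    exact (Submodule.Quotient.mk_eq_zero _).1 h2
  let Bq := Localization.AtPrime q
  let Mq := LocalizedModule q.primeCompl Ω[B⁄C]
  let mk := LocalizedModule.mkLinearMap q.primeCompl Ω[B⁄C]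
  haveI : Module.FinitePresentation Bq Mq := inferInstance
  haveI : Module.Flat Bq Mq := Module.Flat.isBaseChange B Bq _ _
    ((isLocalizedModule_iff_isBaseChange q.primeCompl Bq mk).1 inferInstance)
  let v : J → Mq := fun j => mk (D C B (j : B))
  have hmspan : ∀ ω, mk ω ∈ Submodule.span Bq (Set.range v) ⊔
      IsLocalRing.maximalIdeal Bq • (⊤ : Submodule Bq Mq) := by
    intro ω
    obtain ⟨j, hj⟩ := hgen ω
    rw [show ω = D C B (j : B) + (ω - D C B (j : B)) by abel, map_add]
    refine add_mem (Submodule.mem_sup_left (Submodule.subset_span ⟨j, rfl⟩)) (Submodule.mem_sup_right ?_)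
    refine Submodule.smul_induction_on hj (fun a ha m _ => ?_) (fun a b ha hb => by rw [map_add]; exact add_mem ha hb)
    rw [map_smul, ← IsScalarTower.algebraMap_smul Bq a]
    exact Submodule.smul_mem_smul ((IsLocalization.AtPrime.to_map_mem_maximal_iff Bq q a).2 (hJq ha)) trivial
  have hspan : Submodule.span Bq (Set.range v) = ⊤ := by
    refine top_le_iff.1 (Submodule.le_of_le_smul_of_le_jacobson_bot Module.Finite.fg_top
      (IsLocalRing.maximalIdeal_le_jacobson _) ?_)
    intro y _
    obtain ⟨⟨ω, s⟩, rfl⟩ := IsLocalizedModule.mk'_surjective q.primeCompl mk y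
    rw [Function.uncurry_apply_pair]
    have hs : IsUnit (algebraMap B Bq s) := IsLocalization.map_units Bq s
    rw [← Submodule.smul_mem_iff_of_isUnit _ hs, IsScalarTower.algebraMap_smul, ← Submonoid.smul_def,
      IsLocalizedModule.mk'_cancel' mk ω s]
    exact hmspan ω
  obtain ⟨κ, a, b, hb⟩ := Module.exists_basis_of_span_of_flat v hspan
  haveI : Finite κ := Module.Finite.finite_basis b
  haveI := Fintype.ofFinite κ
  let φ : (κ → B) →ₗ[B] Ω[B⁄C] := Fintype.linearCombination B fun i => D C B ((a i : J) : B)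
  haveI := isLoc_pi q.primeCompl Bq κ
  have hmap : IsLocalizedModule.map q.primeCompl ((Algebra.linearMap B Bq).compLeft κ) mk φ =
      b.equivFun.symm.toLinearMap.restrictScalars B := by
    refine IsLocalizedModule.ext q.primeCompl ((Algebra.linearMap B Bq).compLeft κ) (IsLocalizedModule.map_units mk) ?_
    refine LinearMap.ext fun c => ?_
    rw [LinearMap.comp_apply, LinearMap.comp_apply, IsLocalizedModule.map_apply,
      LinearMap.restrictScalars_apply, LinearEquiv.coe_coe, Module.Basis.equivFun_symm_apply,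
      Fintype.linearCombination_apply, map_sum]
    refine Finset.sum_congr rfl fun i _ => ?_
    rw [map_smul, hb i]
    show c i • mk (D C B ((a i : J) : B)) = algebraMap B Bq (c i) • mk (D C B ((a i : J) : B))
    rw [IsScalarTower.algebraMap_smul]
  obtain ⟨g, hg, hbij⟩ := Module.FinitePresentation.exists_notMem_bijective φ q
    ((Algebra.linearMap B Bq).compLeft κ) mk (by rw [hmap]; exact b.equivFun.symm.bijective)
  refine ⟨g, hg, Ideal.span (Set.range fun i => algebraMap B (Localization.Away g) ((a i : J) : B)), ?_, ?_⟩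
  · rw [Ideal.span_le]
    rintro _ ⟨i, rfl⟩
    exact Ideal.mem_map_of_mem _ (a i).2
  let Bg := Localization.Away g
  haveI : Algebra.FormallySmooth B Bg := Algebra.FormallySmooth.of_isLocalization (Submonoid.powers g)
  haveI : Algebra.FormallySmooth C Bg := Algebra.FormallySmooth.comp C B Bg
  haveI : Algebra.FinitePresentation B Bg := IsLocalization.Away.finitePresentation g
  haveI : Algebra.FinitePresentation C Bg := Algebra.FinitePresentation.trans C B Bg
  haveI := isLoc_pi (Submonoid.powers g) Bg κ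
  let fN := KaehlerDifferential.map C C B Bg
  have hbij' := (IsLocalizedModule.map_bijective_iff_localizedModuleMap_bijective
    (g₁ := (Algebra.linearMap B Bg).compLeft κ) (g₂ := fN) (l := φ) (S := Submonoid.powers g)).2 hbij
  let ψ : (κ → Bg) →ₗ[Bg] Ω[Bg⁄C] := Fintype.linearCombination Bg
    fun i => D C Bg (algebraMap B Bg ((a i : J) : B))
  have hψ : IsLocalizedModule.map (Submonoid.powers g) ((Algebra.linearMap B Bg).compLeft κ) fN φ =
      ψ.restrictScalars B := by
    refine IsLocalizedModule.ext (Submonoid.powers g) ((Algebra.linearMap B Bg).compLeft κ)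
      (IsLocalizedModule.map_units fN) ?_
    refine LinearMap.ext fun c => ?_
    rw [LinearMap.comp_apply, LinearMap.comp_apply, IsLocalizedModule.map_apply,
      LinearMap.restrictScalars_apply, Fintype.linearCombination_apply, Fintype.linearCombination_apply, map_sum]
    refine Finset.sum_congr rfl fun i _ => ?_
    show fN (c i • _) = algebraMap B Bg (c i) • _
    rw [map_smul, IsScalarTower.algebraMap_smul, KaehlerDifferential.map_D]
  rw [hψ] at hbij'
  exact etale_quotient _ (LinearEquiv.ofBijective ψ hbij') fun i => by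
    rw [LinearEquiv.ofBijective_apply, Fintype.linearCombination_apply_single, one_smul]



/-- Let R → C and C → B be smooth ring homomorphisms, J an ideal of B and K the preimage of J in C, and
suppose that C surjects onto A = B/J (so that C/K = B/J = A). Then for every prime x of A there
exist f ∈ B whose image in A does not lie in x and an ideal J₀ of B_f contained in J B_f such that
the composite C → B_f → B_f/J₀ is étale. -/
theorem result (R : Type u) (C : Type v) (B : Type w)
    [CommRing R] [CommRing C] [CommRing B] [Algebra R C] [Algebra C B] [Algebra R B] [IsScalarTower R C B]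
    [Algebra.Smooth R C] [Algebra.Smooth C B] (J : Ideal B)
    (hsurj : Function.Surjective ((Ideal.Quotient.mk J).comp (algebraMap C B)))
    (x : PrimeSpectrum (B ⧸ J)) :
    ∃ f : B, Ideal.Quotient.mk J f ∉ x.asIdeal ∧
      ∃ J₀ : Ideal (Localization.Away f), J₀ ≤ J.map (algebraMap B (Localization.Away f)) ∧
        ((Ideal.Quotient.mk J₀).comp ((algebraMap B (Localization.Away f)).comp (algebraMap C B))).Etale := by
  obtain ⟨f, hf, J₀, hJ₀, hE⟩ := main (C := C) J hsurj (x.asIdeal.comap (Ideal.Quotient.mk J))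
    (fun a ha => by rw [Ideal.mem_comap, Ideal.Quotient.eq_zero_iff_mem.2 ha]; exact zero_mem _)
  refine ⟨f, hf, J₀, hJ₀, ?_⟩
  have h := RingHom.etale_algebraMap.2 hE
  exact h

end Groth.Agent.S18416
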