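import Groth.Statements.S18417
import Groth.Agent.Lib.QReg.Basic
import Mathlib.RingTheory.Smooth.Basic
import Mathlib.RingTheory.MvPolynomial.Ideal

set_option autoImplicit false
universe u v
open CAlg

namespace Groth.Agent.S18417

/-- Let R → A be a ring homomorphism and x_1, …, x_d a weakly regular sequence in A generating an ideal
J such that B = A/J is formally smooth over R. Then for every N ≥ 1 there is an isomorphism of
R-algebras e : A/J^N ≅ B[T_1, …, T_d]/(T_1, …, T_d)^N which sends the class of x_i to the class of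
T_i and which is compatible with the projections to B: for every a ∈ A, e(a mod J^N) is congruent to
the constant a mod J modulo the ideal generated by the variables. (The source also assumes R → A
smooth, which its argument does not use, and a regular sequence; weak regularity is what the
argument uses.) -/
theorem result
    (R : Type u) (A : Type v) [CommRing R] [CommRing A] [Algebra R A] (d : ℕ) (x : Fin d → A)
    (hreg : RingTheory.Sequence.IsWeaklyRegular A (List.ofFn x))
    [Algebra.FormallySmooth R (A ⧸ Ideal.span (Set.range x))] (N : ℕ) (hN : 1 ≤ N) :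
    ∃ e : (A ⧸ Ideal.span (Set.range x) ^ N) ≃ₐ[R]
        (MvPolynomial (Fin d) (A ⧸ Ideal.span (Set.range x)) ⧸
          Ideal.span (Set.range (MvPolynomial.X : Fin d → MvPolynomial (Fin d) (A ⧸ Ideal.span (Set.range x)))) ^ N),
      (∀ i : Fin d, e (Ideal.Quotient.mk _ (x i)) = Ideal.Quotient.mk _ (MvPolynomial.X i)) ∧
      ∀ a : A, e (Ideal.Quotient.mk _ a) - Ideal.Quotient.mk _ (MvPolynomial.C (Ideal.Quotient.mk _ a)) ∈
        (Ideal.span (Set.range (MvPolynomial.X : Fin d → MvPolynomial (Fin d) (A ⧸ Ideal.span (Set.range x))))).map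
          (Ideal.Quotient.mk _) := by
  set J : Ideal A := Ideal.span (Set.range x) with hJ
  set K : Ideal (A ⧸ J ^ N) := J.map (Ideal.Quotient.mk (J ^ N)) with hKdef
  have hle : J ^ N ≤ J := Ideal.pow_le_self (by omega)
  let π : (A ⧸ J ^ N) →ₐ[R] A ⧸ J := Ideal.Quotient.factorₐ R hle
  have hπ : ∀ a, π (Ideal.Quotient.mk _ a) = Ideal.Quotient.mk J a := fun a => rfl
  have hπs : Function.Surjective π := fun b => by
    obtain ⟨a, rfl⟩ := Ideal.Quotient.mk_surjective b
    exact ⟨_, hπ a⟩
  have hker : ∀ q, π q = 0 → q ∈ K := by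
    intro q hq
    obtain ⟨a, rfl⟩ := Ideal.Quotient.mk_surjective q
    exact Ideal.mem_map_of_mem _ (Ideal.Quotient.eq_zero_iff_mem.1 hq)
  have hKN : K ^ N = ⊥ := by rw [hKdef, ← Ideal.map_pow, Ideal.map_quotient_self]
  have hnil : IsNilpotent (RingHom.ker (π : (A ⧸ J ^ N) →+* A ⧸ J)) := by
    refine ⟨N, le_bot_iff.1 (le_trans (Ideal.pow_right_mono (fun q hq => hker q hq) N) hKN.le)⟩
  let σ : (A ⧸ J) →ₐ[R] A ⧸ J ^ N := Algebra.FormallySmooth.liftOfSurjective (AlgHom.id R _) π hπs hnil
  have hσ : ∀ b, π (σ b) = b := fun b =>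
    Algebra.FormallySmooth.liftOfSurjective_apply (AlgHom.id R _) π hπs hnil b
  let φ : MvPolynomial (Fin d) (A ⧸ J) →ₐ[R] A ⧸ J ^ N :=
    MvPolynomial.aevalTower σ fun i => Ideal.Quotient.mk _ (x i)
  let g1 : MvPolynomial (Fin d) A →+* A ⧸ J ^ N :=
    (φ : MvPolynomial (Fin d) (A ⧸ J) →+* A ⧸ J ^ N).comp (MvPolynomial.map (Ideal.Quotient.mk J))
  let g2 : MvPolynomial (Fin d) A →+* A ⧸ J ^ N :=
    (Ideal.Quotient.mk (J ^ N)).comp (MvPolynomial.eval x)
  have hK : ∀ i, Ideal.Quotient.mk (J ^ N) (x i) ∈ K := fun i =>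
    Ideal.mem_map_of_mem _ (Ideal.subset_span ⟨i, rfl⟩)
  have hπφ : ∀ P, π (φ P) = MvPolynomial.constantCoeff P := by
    intro P
    refine RingHom.congr_fun (MvPolynomial.ringHom_ext (f := (π : (A ⧸ J ^ N) →+* A ⧸ J).comp
      (φ : MvPolynomial (Fin d) (A ⧸ J) →+* A ⧸ J ^ N)) (g := MvPolynomial.constantCoeff)
      (fun b => ?_) fun i => ?_) P
    · simp [φ, hσ]
    · simp only [φ, RingHom.comp_apply, AlgHom.coe_toRingHom, MvPolynomial.aevalTower_X, hπ,
        MvPolynomial.constantCoeff_X, Ideal.Quotient.eq_zero_iff_mem]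
      exact Ideal.subset_span ⟨i, rfl⟩
  have hd0 : ∀ P, g1 P - g2 P ∈ K := by
    intro P
    refine hker _ ?_
    rw [map_sub, sub_eq_zero]
    show π (φ _) = Ideal.Quotient.mk J (MvPolynomial.eval x P)
    rw [hπφ, MvPolynomial.constantCoeff_map]
    refine RingHom.congr_fun (MvPolynomial.ringHom_ext
      (f := (Ideal.Quotient.mk J).comp MvPolynomial.constantCoeff)
      (g := (Ideal.Quotient.mk J).comp (MvPolynomial.eval x)) (fun b => ?_) fun i => ?_) P
    · simp
    · simp only [RingHom.comp_apply, MvPolynomial.constantCoeff_X, map_zero, MvPolynomial.eval_X]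
      exact ((Ideal.Quotient.eq_zero_iff_mem (I := J)).2 (Ideal.subset_span ⟨i, rfl⟩)).symm
  have hspanX : ∀ (S : Type v) [CommRing S], MvPolynomial.idealOfVars (Fin d) S =
      Ideal.span (Set.range MvPolynomial.X) := fun S _ => rfl
  have hg1X : ∀ i, g1 (MvPolynomial.X i) = Ideal.Quotient.mk _ (x i) := fun i => by simp [g1, φ]
  have hg2X : ∀ i, g2 (MvPolynomial.X i) = Ideal.Quotient.mk _ (x i) := fun i => by simp [g2]
  have hg2mem : ∀ t, ∀ P ∈ MvPolynomial.idealOfVars (Fin d) A ^ t, g2 P ∈ K ^ t := by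
    intro t P hP
    have h := Ideal.mem_map_of_mem g2 hP
    rw [Ideal.map_pow] at h
    refine Ideal.pow_right_mono ?_ t h
    rw [hspanX, Ideal.map_span, Ideal.span_le]
    rintro _ ⟨_, ⟨i, rfl⟩, rfl⟩
    rw [hg2X]; exact hK i
  -- the two evaluations agree to one order more
  have hd1 : ∀ t, ∀ P ∈ MvPolynomial.idealOfVars (Fin d) A ^ t, g1 P - g2 P ∈ K ^ (t + 1) := by
    intro t
    induction t with
    | zero => intro P _; rw [zero_add, pow_one]; exact hd0 P
    | succ t ih =>
      intro P hP
      rw [pow_succ] at hP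
      refine Submodule.mul_induction_on hP (fun a ha b hb => ?_) fun a b ha hb => ?_
      · rw [map_mul, map_mul, show g1 a * g1 b - g2 a * g2 b =
          (g1 a - g2 a) * g1 b + g2 a * (g1 b - g2 b) by ring]
        rw [hspanX, Ideal.mem_span_range_iff_exists_fun] at hb
        obtain ⟨c, rfl⟩ := hb
        refine add_mem ?_ ?_
        · rw [pow_succ]
          refine Ideal.mul_mem_mul (ih a ha) ?_
          simp only [map_sum, map_mul, hg1X]
          exact sum_mem fun i _ => Ideal.mul_mem_left _ _ (hK i)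
        · have h2 : g1 (∑ i, c i * MvPolynomial.X i) - g2 (∑ i, c i * MvPolynomial.X i) ∈ K ^ 2 := by
            simp only [map_sum, map_mul, hg1X, hg2X, ← Finset.sum_sub_distrib, ← sub_mul]
            rw [pow_two]
            exact sum_mem fun i _ => Ideal.mul_mem_mul (hd0 _) (hK i)
          have h3 := Ideal.mul_mem_mul (hg2mem t a ha) h2
          rwa [← pow_add] at h3
      · rw [map_add, map_add, show g1 a + g1 b - (g2 a + g2 b) = (g1 a - g2 a) + (g1 b - g2 b) by ring]
        exact add_mem ha hb
  have hcomap : ∀ t ≤ N, ∀ a, Ideal.Quotient.mk (J ^ N) a ∈ K ^ t → a ∈ J ^ t := by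
    intro t ht a ha
    rw [hKdef, ← Ideal.map_pow] at ha
    rwa [← Ideal.mem_comap, Ideal.comap_map_of_surjective _ Ideal.Quotient.mk_surjective,
      ← RingHom.ker_eq_comap_bot, Ideal.mk_ker, sup_eq_left.2 (Ideal.pow_le_pow_right ht)] at ha
  have hg1mem : ∀ t, ∀ P ∈ MvPolynomial.idealOfVars (Fin d) (A ⧸ J) ^ t, φ P ∈ K ^ t := by
    intro t P hP
    have h := Ideal.mem_map_of_mem φ hP
    rw [Ideal.map_pow] at h
    refine Ideal.pow_right_mono ?_ t h
    rw [hspanX, Ideal.map_span, Ideal.span_le]
    rintro _ ⟨_, ⟨i, rfl⟩, rfl⟩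
    simp only [φ, MvPolynomial.aevalTower_X]; exact hK i
  -- surjectivity
  have hsurj : Function.Surjective φ := by
    have key : ∀ j t, t + j = N → ∀ q ∈ K ^ t, ∃ P, φ P = q := by
      intro j
      induction j with
      | zero =>
        intro t ht q hq
        rw [show t = N by omega, hKN] at hq
        exact ⟨0, by rw [map_zero]; exact hq.symm⟩
      | succ j ih =>
        intro t ht q hq
        obtain ⟨a, rfl⟩ := Ideal.Quotient.mk_surjective q
        obtain ⟨Q0, hQ0, rfl⟩ := QReg.exists_homogeneous_of_mem_pow (hcomap t (by omega) a hq)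
        have hQm : Q0 ∈ MvPolynomial.idealOfVars (Fin d) A ^ t := by
          rw [MvPolynomial.mem_pow_idealOfVars_iff']
          exact fun e he => hQ0.coeff_eq_zero (by omega)
        obtain ⟨P, hP⟩ := ih (t + 1) (by omega) (g2 Q0 - g1 Q0) (by
          rw [← neg_sub]; exact neg_mem (hd1 t Q0 hQm))
        exact ⟨MvPolynomial.map (Ideal.Quotient.mk J) Q0 + P, by rw [map_add, hP]; exact add_sub_cancel _ _⟩
    exact fun q => key N 0 (zero_add N) q (by rw [pow_zero, Ideal.one_eq_top]; trivial)
  -- injectivity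
  have hqr : CAlgX.IsQuasiRegular x :=
    QReg.isQuasiRegular_of_isH1Regular (QReg.isH1Regular_of_isWeaklyRegular x hreg)
  have hkerφ : RingHom.ker φ = MvPolynomial.idealOfVars (Fin d) (A ⧸ J) ^ N := by
    refine le_antisymm ?_ fun P hP => ?_
    · suffices ∀ t ≤ N, RingHom.ker φ ≤ MvPolynomial.idealOfVars (Fin d) (A ⧸ J) ^ t from this N le_rfl
      intro t
      induction t with
      | zero => intro _; simp
      | succ t ih =>
        intro ht P hP
        have hPt := ih (by omega) hP
        rw [MvPolynomial.mem_pow_idealOfVars_iff'] at hPt ⊢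
        intro e he
        by_cases he' : e.degree < t
        · exact hPt e he'
        obtain ⟨P', hP'⟩ := MvPolynomial.map_surjective (Ideal.Quotient.mk J) Ideal.Quotient.mk_surjective P
        set P0 := MvPolynomial.homogeneousComponent t P' with hP0
        have hmapP0 : MvPolynomial.map (Ideal.Quotient.mk J) P0 = MvPolynomial.homogeneousComponent t P := by
          ext e'
          rw [MvPolynomial.coeff_map, hP0, MvPolynomial.coeff_homogeneousComponent,
            MvPolynomial.coeff_homogeneousComponent, ← hP', MvPolynomial.coeff_map]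
          split_ifs <;> simp
        have hrest : P - MvPolynomial.homogeneousComponent t P ∈
            MvPolynomial.idealOfVars (Fin d) (A ⧸ J) ^ (t + 1) := by
          rw [MvPolynomial.mem_pow_idealOfVars_iff']
          intro e' he'
          rw [MvPolynomial.coeff_sub, MvPolynomial.coeff_homogeneousComponent]
          by_cases h : e'.degree = t
          · rw [if_pos h, sub_self]
          · rw [if_neg h, sub_zero, hPt e' (by omega)]
        have h1 : g1 P0 ∈ K ^ (t + 1) := by
          have h := neg_mem (hg1mem _ _ hrest)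
          rw [map_sub, RingHom.mem_ker.1 hP, zero_sub, neg_neg, ← hmapP0] at h
          exact h
        have h2 : g2 P0 ∈ K ^ (t + 1) := by
          have hP0m : P0 ∈ MvPolynomial.idealOfVars (Fin d) A ^ t := by
            rw [MvPolynomial.mem_pow_idealOfVars_iff']
            exact fun e' he' => (MvPolynomial.homogeneousComponent_isHomogeneous t P').coeff_eq_zero
              (by omega)
          have h := sub_mem h1 (hd1 t P0 hP0m)
          rwa [sub_sub_cancel] at h
        have h3 := hqr t P0 (MvPolynomial.homogeneousComponent_isHomogeneous t P')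
          (hcomap (t + 1) ht _ h2) e
        rw [hP0, MvPolynomial.coeff_homogeneousComponent, if_pos (by omega : e.degree = t)] at h3
        rw [← hP', MvPolynomial.coeff_map, Ideal.Quotient.eq_zero_iff_mem]
        exact h3
    · rw [RingHom.mem_ker, ← Ideal.mem_bot, ← hKN]
      exact hg1mem N P hP
  let e : (A ⧸ J ^ N) ≃ₐ[R] (MvPolynomial (Fin d) (A ⧸ J) ⧸
      Ideal.span (Set.range (MvPolynomial.X : Fin d → MvPolynomial (Fin d) (A ⧸ J))) ^ N) :=
    (Ideal.quotientKerAlgEquivOfSurjective hsurj).symm.trans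
      (Ideal.quotientEquivAlgOfEq R (by rw [hkerφ, hspanX]))
  have he : ∀ P, e (φ P) = Ideal.Quotient.mk _ P := by
    intro P
    have h : (Ideal.quotientKerAlgEquivOfSurjective hsurj).symm (φ P) = Ideal.Quotient.mk _ P := by
      rw [AlgEquiv.symm_apply_eq]
      rfl
    simp only [e, AlgEquiv.trans_apply, h]
    rfl
  refine ⟨e, fun i => ?_, fun a => ?_⟩
  · rw [show Ideal.Quotient.mk (J ^ N) (x i) = φ (MvPolynomial.X i) by simp [φ], he]
  · obtain ⟨P, hP⟩ := hsurj (Ideal.Quotient.mk _ a)
    rw [← hP, he, ← map_sub]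
    refine Ideal.mem_map_of_mem _ ?_
    rw [← hspanX, ← pow_one (MvPolynomial.idealOfVars _ _), MvPolynomial.mem_pow_idealOfVars_iff']
    intro e' he'
    obtain rfl : e' = 0 := (Finsupp.degree_eq_zero_iff e').1 (by omega)
    rw [MvPolynomial.coeff_sub, MvPolynomial.coeff_zero_C, ← MvPolynomial.constantCoeff_eq,
      ← hπφ, hP, hπ, sub_self]

end Groth.Agent.S18417
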