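import Groth.Statements.S18418
import Mathlib.RingTheory.Length
import Mathlib.RingTheory.Nakayama
import Mathlib.Algebra.Module.PID
import Mathlib.RingTheory.WittVector.DiscreteValuationRing
-- import your own Groth.Agent.* helpers here

set_option autoImplicit false
universe u v w
open FonLaf

namespace Groth.Agent.S18418


/-- A pure submodule with finitely generated torsion quotient over a DVR is a direct summand. -/
theorem exists_isCompl_of_pure {R : Type u} [CommRing R] [IsDomain R] [IsDiscreteValuationRing R]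
    {π : R} (hπ : Irreducible π) {M : Type v} [AddCommGroup M] [Module R M] (L : Submodule R M)
    [Module.Finite R (M ⧸ L)] (htor : Module.IsTorsion R (M ⧸ L))
    (pure : ∀ (n : ℕ) (m : M), π ^ n • m ∈ L → ∃ l ∈ L, π ^ n • m = π ^ n • l) :
    ∃ Q : Submodule R M, IsCompl L Q := by
  classical
  obtain ⟨ι, _, q, hq, e, ⟨E⟩⟩ := Module.equiv_directSum_of_isTorsion htor
  have hsp : ∀ i, Submodule.span R {q i ^ e i} = Submodule.span R {π ^ e i} := fun i =>
    Ideal.span_singleton_eq_span_singleton.2 ((IsDiscreteValuationRing.associated_of_irreducible R (hq i) hπ).pow_pow)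
  have hlift : ∀ i, ∃ y : M, q i ^ e i • y = 0 ∧ L.mkQ y = E.symm (DirectSum.of (fun i => R ⧸ R ∙ q i ^ e i) i (Submodule.Quotient.mk 1)) := by
    intro i
    obtain ⟨y, hy⟩ := L.mkQ_surjective (E.symm (DirectSum.of (fun i => R ⧸ R ∙ q i ^ e i) i (Submodule.Quotient.mk 1)))
    obtain ⟨c, hc⟩ := Submodule.mem_span_singleton.1 (hsp i ▸ Submodule.mem_span_singleton_self (π ^ e i) : π ^ e i ∈ Submodule.span R {q i ^ e i})
    obtain ⟨d, hd⟩ := Submodule.mem_span_singleton.1 ((hsp i).symm ▸ Submodule.mem_span_singleton_self (q i ^ e i) : q i ^ e i ∈ Submodule.span R {π ^ e i})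
    have hyL : π ^ e i • y ∈ L := by
      rw [← Submodule.Quotient.mk_eq_zero L, ← L.mkQ_apply, map_smul, hy, ← map_smul, ← DirectSum.of_smul,
        ← Submodule.Quotient.mk_smul, (Submodule.Quotient.mk_eq_zero _).2, map_zero, map_zero]
      rw [hsp i]
      exact Submodule.mem_span_singleton.2 ⟨1, by simp⟩
    obtain ⟨l, hl, hle⟩ := pure _ _ hyL
    refine ⟨y - l, ?_, ?_⟩
    · rw [← hd, smul_assoc, smul_sub, hle, sub_self, smul_zero]
    · rw [map_sub, hy, L.mkQ_apply l, (Submodule.Quotient.mk_eq_zero L).2 hl, sub_zero]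
  choose y hy0 hy using hlift
  let g : (DirectSum ι fun i => R ⧸ R ∙ q i ^ e i) →ₗ[R] M := DirectSum.toModule R ι M fun i =>
    Submodule.liftQSpanSingleton _ (LinearMap.toSpanSingleton R M (y i)) (by simpa using hy0 i)
  let s : M ⧸ L →ₗ[R] M := g.comp E.toLinearMap
  have hs : ∀ z, L.mkQ (s z) = z := by
    have hE : L.mkQ.comp g = E.symm.toLinearMap := by
      refine DirectSum.linearMap_ext R fun i => Submodule.linearMap_qext _ (LinearMap.ext_ring ?_)
      simp only [LinearMap.comp_apply, Submodule.mkQ_apply, LinearEquiv.coe_coe]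
      rw [DirectSum.lof_eq_of]
      rw [← hy i, ← DirectSum.lof_eq_of R]
      simp only [g, DirectSum.toModule_lof]
      rw [Submodule.liftQSpanSingleton_apply, LinearMap.toSpanSingleton_apply, one_smul]; rfl
    intro z
    show (L.mkQ.comp g) (E z) = z
    rw [hE]; exact E.symm_apply_apply z
  refine ⟨LinearMap.range s, Submodule.disjoint_def.2 ?_, codisjoint_iff.2 (eq_top_iff.2 ?_)⟩
  · rintro _ hx ⟨z, rfl⟩
    have : z = 0 := by rw [← hs z, L.mkQ_apply, (Submodule.Quotient.mk_eq_zero L).2 hx]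
    rw [this, map_zero]
  · intro m _
    refine Submodule.mem_sup.2 ⟨m - s (L.mkQ m), ?_, s (L.mkQ m), LinearMap.mem_range_self _ _, sub_add_cancel _ _⟩
    rw [← Submodule.Quotient.mk_eq_zero L, ← L.mkQ_apply, map_sub, hs, sub_self]

/-- Monotonicity of the length under injective semilinear maps with surjective scalar map. -/
theorem length_le_of_semilinear_injective {R : Type u} [CommRing R] {σ : R →+* R} [RingHomSurjective σ]
    {M : Type v} {N : Type w} [AddCommGroup M] [Module R M] [AddCommGroup N] [Module R N]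
    (f : M →ₛₗ[σ] N) (hf : Function.Injective f) : Module.length R M ≤ Module.length R N := by
  rw [← WithBot.coe_le_coe, Module.coe_length, Module.coe_length]
  exact Order.krullDim_le_of_strictMono _ (Monotone.strictMono_of_injective (fun _ _ h => Submodule.map_mono h)
    (Submodule.map_injective_of_injective hf))

theorem length_map_le_add {R : Type u} [CommRing R] {σ : R →+* R} [RingHomSurjective σ]
    {B A C : Type v} [AddCommGroup B] [Module R B] [AddCommGroup A] [Module R A] [AddCommGroup C] [Module R C]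
    (ι : B →ₗ[R] A) (Φ : A →ₛₗ[σ] C) (hex : LinearMap.ker Φ ≤ LinearMap.range ι)
    (hlen : Module.length R A = Module.length R C + Module.length R B)
    (hB : Module.length R B ≠ ⊤) (hC : Module.length R C ≠ ⊤) : Function.Injective ι := by
  have h1 : Module.length R A ≤ Module.length R (LinearMap.range ι) + Module.length R C := by
    rw [Module.length_eq_add_of_exact (Submodule.subtype (LinearMap.ker Φ)) (Submodule.mkQ _) (Submodule.subtype_injective _)
      (Submodule.mkQ_surjective _) (LinearMap.exact_subtype_mkQ _)]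
    refine add_le_add (Module.length_le_of_injective (Submodule.inclusion hex) (Submodule.inclusion_injective hex)) ?_
    exact length_le_of_semilinear_injective (Submodule.liftQ _ Φ le_rfl) (LinearMap.ker_eq_bot.1 (Submodule.ker_liftQ_eq_bot _ _ _ le_rfl))
  have h2 := Module.length_eq_add_of_exact (Submodule.subtype (LinearMap.ker ι)) ι.rangeRestrict (Submodule.subtype_injective _)
      ι.surjective_rangeRestrict (by rw [LinearMap.exact_iff, Submodule.range_subtype, LinearMap.ker_rangeRestrict])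
  rw [hlen, h2] at h1
  rw [h2] at hB
  obtain ⟨hK, hI⟩ : Module.length R (LinearMap.ker ι) ≠ ⊤ ∧ Module.length R (LinearMap.range ι) ≠ ⊤ :=
    ⟨fun h => hB (by simp [h]), fun h => hB (by simp [h])⟩
  lift Module.length R (LinearMap.ker ι) to ℕ using hK with a ha
  lift Module.length R (LinearMap.range ι) to ℕ using hI with b hb
  lift Module.length R C to ℕ using hC with c hc
  have : a = 0 := by norm_cast at h1; omega
  subst this
  have := (Module.length_eq_zero_iff (R := R) (M := LinearMap.ker ι)).1 ha.symm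
  exact LinearMap.ker_eq_bot.1 Submodule.eq_bot_of_subsingleton


/-- Let k be a perfect field of characteristic p and W = W(k) its ring of Witt vectors with Frobenius σ.
Fix r and W-modules of finite length N_0 = M, N_1, N_2, … with W-linear maps α_i : N_{i+1} → N_i and
σ-semilinear maps φ_i : N_i → M such that φ_i ∘ α_i = p φ_{i+1} for all i < r. Let ι be the map
sending (x_1, …, x_r) ∈ N_1 ⊕ ⋯ ⊕ N_r to (α_0 x_1, α_1 x_2 − p x_1, …, α_{r−1} x_r − p x_{r−1}, −p
x_r) ∈ N_0 ⊕ ⋯ ⊕ N_r, and Φ the map N_0 ⊕ ⋯ ⊕ N_r → M, (y_i) ↦ Σ_i φ_i(y_i). Suppose that Φ is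
surjective and that its kernel is contained in the image of ι (with the displayed relation this says
that Φ induces a σ-semilinear bijection from the cokernel of ι onto M). Then for every i < r the map
α_i is injective and its image is a direct summand of N_i (so the N_i form a filtration of M by
direct summands, the data of a Fontaine–Laffaille module). Families are indexed by all natural
numbers; only the indices ≤ r enter. -/
theorem result (p : ℕ) [Fact p.Prime]
    (k : Type u) [Field k] [CharP k p] [PerfectRing k p] (r : ℕ)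
    (N : ℕ → Type v) [∀ i, AddCommGroup (N i)] [∀ i, Module (WittVector p k) (N i)]
    (hfl : ∀ i, IsFiniteLength (WittVector p k) (N i))
    (α : ∀ i, N (i + 1) →ₗ[WittVector p k] N i)
    (φ : ∀ i, N i →ₛₗ[(WittVector.frobenius : WittVector p k →+* WittVector p k)] N 0)
    (hφ : ∀ i, i < r → ∀ y : N (i + 1), φ i (α i y) = (p : WittVector p k) • φ (i + 1) y)
    (hsurj : ∀ m : N 0, ∃ y : (i : ℕ) → N i, (∀ i, r < i → y i = 0) ∧
      (Finset.range (r + 1)).sum (fun i => φ i (y i)) = m)
    (hker : ∀ y : (i : ℕ) → N i, (∀ i, r < i → y i = 0) →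
      (Finset.range (r + 1)).sum (fun i => φ i (y i)) = 0 →
        ∃ z : (i : ℕ) → N (i + 1), (∀ i, r ≤ i → z i = 0) ∧
          y 0 = α 0 (z 0) ∧ ∀ i, y (i + 1) = α (i + 1) (z (i + 1)) - (p : WittVector p k) • z i)
    (i : ℕ) (hi : i < r) :
    Function.Injective (α i) ∧
      ∃ Q : Submodule (WittVector p k) (N i), IsCompl (LinearMap.range (α i)) Q := by
  classical
  let W := WittVector p k
  let σ : W →+* W := WittVector.frobenius
  haveI : RingHomSurjective σ := ⟨(WittVector.frobenius_bijective p k).2⟩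
  haveI : ∀ j, IsNoetherian W (N j) := fun j => (isFiniteLength_iff_isNoetherian_isArtinian.1 (hfl j)).1
  haveI : ∀ j, IsArtinian W (N j) := fun j => (isFiniteLength_iff_isNoetherian_isArtinian.1 (hfl j)).2
  let π : W := p
  have hπ : Irreducible π := WittVector.irreducible p
  have hσπ : ∀ n : ℕ, σ (π ^ n) = π ^ n := fun n => by rw [map_pow, map_natCast]
  let P : ℕ → ∀ j, Submodule W (N j) := fun n j => LinearMap.range (π ^ n • LinearMap.id : N j →ₗ[W] N j)
  have memP : ∀ n j (m : N j), m ∈ P n j ↔ ∃ z, π ^ n • z = m := fun n j m => Iff.rfl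
  have main : ∀ (n i : ℕ), i < r → ∀ x : N (i + 1), α i x ∈ P n i → (p : W) • x ∈ P n (i + 1) → x ∈ P n (i + 1) := by
    intro n i hi x hx hpx
    let αb : ∀ j, (N (j + 1) ⧸ P n (j + 1)) →ₗ[W] N j ⧸ P n j := fun j => Submodule.mapQ _ _ (α j) (by
      rintro _ ⟨z, rfl⟩; exact ⟨α j z, by simp⟩)
    let φb : ∀ j, (N j ⧸ P n j) →ₛₗ[σ] N 0 ⧸ P n 0 := fun j => Submodule.mapQ _ _ (φ j) (by
      rintro _ ⟨z, rfl⟩
      exact ⟨φ j z, by simp only [LinearMap.smul_apply, LinearMap.id_apply, map_smulₛₗ]; rw [show WittVector.frobenius (π ^ n) = π ^ n from hσπ n]⟩)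
    let Φ : (∀ j : Fin (r + 1), N j ⧸ P n j) →ₛₗ[σ] N 0 ⧸ P n 0 :=
      ∑ j : Fin (r + 1), (φb j).comp (LinearMap.proj j)
    let ext : ∀ j : ℕ, (∀ l : Fin r, N (l + 1) ⧸ P n (l + 1)) →ₗ[W] N (j + 1) ⧸ P n (j + 1) := fun j =>
      if h : j < r then (LinearMap.proj (⟨j, h⟩ : Fin r) : (∀ l : Fin r, N (l + 1) ⧸ P n (l + 1)) →ₗ[W] _) else 0
    let comp' : ∀ j : ℕ, (∀ l : Fin r, N (l + 1) ⧸ P n (l + 1)) →ₗ[W] N j ⧸ P n j := fun j => match j with
      | 0 => (αb 0).comp (ext 0)
      | j + 1 => (αb (j + 1)).comp (ext (j + 1)) - π • ext j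
    let ι : (∀ l : Fin r, N (l + 1) ⧸ P n (l + 1)) →ₗ[W] ∀ j : Fin (r + 1), N j ⧸ P n j :=
      LinearMap.pi fun j => comp' j
    have hext : ∀ (z : ∀ j : ℕ, N (j + 1)), (∀ j, r ≤ j → z j = 0) → ∀ j,
        ext j (fun l => Submodule.Quotient.mk (z l)) = Submodule.Quotient.mk (z j) := fun z hz j => by
      by_cases h : j < r
      · simp [ext, h]
      · simp [ext, h, hz j (Nat.le_of_not_lt h)]
    have hex : LinearMap.ker Φ ≤ LinearMap.range ι := by
      intro Y hY
      have hrep : ∀ j : ℕ, ∃ y : N j, (r < j → y = 0) ∧ ∀ h : j < r + 1, Submodule.Quotient.mk y = Y ⟨j, h⟩ := fun j => by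
        by_cases h : j < r + 1
        · obtain ⟨y, hy⟩ := Submodule.Quotient.mk_surjective _ (Y ⟨j, h⟩)
          exact ⟨y, fun h' => absurd h (by omega), fun _ => hy⟩
        · exact ⟨0, fun _ => rfl, fun h' => absurd h' h⟩
      choose y hy0 hy using hrep
      have hm : (Finset.range (r + 1)).sum (fun j => φ j (y j)) ∈ P n 0 := by
        rw [← Submodule.Quotient.mk_eq_zero, ← Submodule.mkQ_apply, map_sum, ← LinearMap.mem_ker.1 hY,
          ← Fin.sum_univ_eq_sum_range (fun j => (P n 0).mkQ (φ j (y j)))]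
        simp [Φ, φb, ← hy _ (Fin.is_lt _)]
      obtain ⟨m, hm⟩ := (memP _ _ _).1 hm
      obtain ⟨y', hy'0, hy'⟩ := hsurj m
      obtain ⟨z, hz0, hz, hz'⟩ := hker (fun j => y j - π ^ n • y' j) (fun j hj => by simp [hy0 j hj, hy'0 j hj]) (by
        simp only [map_sub, map_smulₛₗ, Finset.sum_sub_distrib]
        rw [show WittVector.frobenius (π ^ n) = π ^ n from hσπ n, ← Finset.smul_sum, hy', hm, sub_self])
      refine ⟨fun l => Submodule.Quotient.mk (z l), funext fun ⟨j, hj⟩ => ?_⟩
      rw [← hy j hj]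
      show comp' j _ = _
      rcases j with _ | j
      · simp only [comp', LinearMap.comp_apply, hext z hz0, αb, Submodule.mapQ_apply, ← hz]
        rw [Submodule.Quotient.eq]
        exact ⟨-y' 0, by simp⟩
      · simp only [comp', LinearMap.sub_apply, LinearMap.smul_apply, LinearMap.comp_apply, hext z hz0, αb,
          Submodule.mapQ_apply, ← Submodule.Quotient.mk_smul, ← Submodule.Quotient.mk_sub]
        rw [show α (j + 1) (z (j + 1)) - π • z j = _ from (hz' j).symm, Submodule.Quotient.eq]
        exact ⟨-y' (j + 1), by simp⟩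
    have hfin : ∀ j, Module.length W (N j ⧸ P n j) ≠ ⊤ := fun j => Module.length_ne_top
    have hinj : Function.Injective ι := length_map_le_add ι Φ hex (by
        rw [Module.length_pi_of_fintype, Module.length_pi_of_fintype, Fin.sum_univ_succ]
        rfl) Module.length_ne_top (hfin 0)
    have hb : (Pi.single (⟨i, hi⟩ : Fin r) (Submodule.Quotient.mk x) : ∀ l : Fin r, N (l + 1) ⧸ P n (l + 1)) = 0 := by
      refine hinj ?_
      rw [map_zero]
      funext ⟨j, hj⟩
      show comp' j _ = 0
      have hE : ∀ l, ext l (Pi.single (⟨i, hi⟩ : Fin r) (Submodule.Quotient.mk x)) =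
          if h : l = i then (h ▸ Submodule.Quotient.mk x) else 0 := fun l => by
        by_cases h : l = i
        · subst h; simp [ext, hi]
        · by_cases h' : l < r
          · simp [ext, h, h', Pi.single_eq_of_ne (show (⟨l, h'⟩ : Fin r) ≠ ⟨i, hi⟩ from fun e => h (Fin.val_eq_of_eq e))]
          · simp [ext, h, h']
      rcases j with _ | j
      · simp only [comp', LinearMap.comp_apply, hE]
        split_ifs with h
        · subst h; simpa [αb, Submodule.Quotient.mk_eq_zero] using hx
        · simp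
      · simp only [comp', LinearMap.sub_apply, LinearMap.smul_apply, LinearMap.comp_apply, hE]
        split_ifs with h h' h'
        · omega
        · subst h; simpa [αb, Submodule.Quotient.mk_eq_zero] using hx
        · subst h'
          simp only [map_zero, zero_sub, neg_eq_zero, ← Submodule.Quotient.mk_smul, Submodule.Quotient.mk_eq_zero]
          exact hpx
        · simp
    simpa [Submodule.Quotient.mk_eq_zero] using congrFun hb ⟨i, hi⟩
  have pur : ∀ n (x : N (i + 1)), α i x ∈ P n i → x ∈ P n (i + 1) := by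
    intro n
    induction n with
    | zero => exact fun x _ => ⟨x, by simp⟩
    | succ n ih =>
      intro x hx
      have hx' : α i x ∈ P n i := by
        obtain ⟨m, hm⟩ := (memP _ _ _).1 hx
        exact ⟨π • m, by rw [LinearMap.smul_apply, LinearMap.id_apply, ← hm, pow_succ, mul_smul]⟩
      obtain ⟨z, hz⟩ := (memP _ _ _).1 (ih x hx')
      exact main (n + 1) i hi x hx ⟨z, by simp [← hz, smul_smul, pow_succ', π]⟩
  have hbot : ∀ j, ∃ n, ∀ m : N j, π ^ n • m = 0 := fun j => by
    obtain ⟨n, hn⟩ := IsArtinian.monotone_stabilizes (R := W) (M := N j)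
      ⟨fun n => OrderDual.toDual (P n j), monotone_nat_of_le_succ fun n => by
        rintro _ ⟨m, rfl⟩
        exact ⟨π • m, by simp only [LinearMap.smul_apply, LinearMap.id_apply]; rw [pow_succ, mul_smul]⟩⟩
    have hn : P n j = P (n + 1) j := OrderDual.toDual.injective (hn (n + 1) n.le_succ)
    have h0 : P n j = ⊥ := by
      refine Submodule.eq_bot_of_le_smul_of_le_jacobson_bot (IsLocalRing.maximalIdeal W) _ (IsNoetherian.noetherian _) ?_
        (IsLocalRing.maximalIdeal_le_jacobson _)
      intro m hm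
      obtain ⟨z, rfl⟩ := (memP _ _ _).1 (hn ▸ hm : m ∈ P (n + 1) j)
      rw [pow_succ', mul_smul]
      exact Submodule.smul_mem_smul (hπ.maximalIdeal_eq ▸ Ideal.mem_span_singleton_self π) ⟨z, rfl⟩
    exact ⟨n, fun m => (Submodule.eq_bot_iff _).1 h0 _ ⟨m, rfl⟩⟩
  obtain ⟨n0, hn0⟩ := hbot (i + 1)
  have hinj : Function.Injective (α i) := by
    rw [← LinearMap.ker_eq_bot, LinearMap.ker_eq_bot']
    intro x hx
    obtain ⟨z, hz⟩ := (memP _ _ _).1 (pur n0 x (by rw [hx]; exact zero_mem _))
    rw [← hz, hn0]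
  refine ⟨hinj, exists_isCompl_of_pure hπ _ ?_ ?_⟩
  · obtain ⟨n1, hn1⟩ := hbot i
    intro m
    obtain ⟨m, rfl⟩ := Submodule.Quotient.mk_surjective _ m
    exact ⟨⟨π ^ n1, mem_nonZeroDivisors_of_ne_zero (pow_ne_zero _ hπ.ne_zero)⟩,
      by rw [Submonoid.smul_def, ← Submodule.Quotient.mk_smul, hn1]; rfl⟩
  · rintro n m ⟨x, hx⟩
    obtain ⟨z, hz⟩ := (memP _ _ _).1 (pur n x ⟨m, by simp [hx]⟩)
    exact ⟨α i z, ⟨z, rfl⟩, by rw [← map_smul, hz, hx]⟩

end Groth.Agent.S18418
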