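import Groth.Statements.S18421
import Groth.Agent.Lib.DPowH7.Basis
import Mathlib.LinearAlgebra.FreeModule.Basic
import Mathlib.RingTheory.Flat.Basic

set_option autoImplicit false
universe u v w
open DPow

namespace Groth.Agent.S18421

/-- Let (R, I, γ) be a divided power ring, Λ a set and P = R⟨X_λ : λ ∈ Λ⟩ the divided power polynomial
algebra, presented concretely as an R-algebra P with elements x l n = X_λ^[n] such that X_λ^[0] = 1,
X_λ^[n] · X_λ^[m] = C(n+m, n) X_λ^[n+m], and the monomials ∏_λ X_λ^[e_λ] form an R-basis of P; let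
P_+ be the ideal generated by the X_λ^[n] with n ≥ 1 and δ_+ a divided power structure on P_+ with
δ_+,n(X_λ^[1]) = X_λ^[n]. Put J = IP + P_+. Then there is exactly one divided power structure δ on J
which is compatible with γ (the structure map R → P is a divided power morphism from (I, γ) to (J,
δ)) and with δ_+ (δ_n(y) = δ_+,n(y) for all y ∈ P_+ and all n). -/
theorem result (R : Type u) [CommRing R] {I : Ideal R}
    (γ : DividedPowers I) (Λ : Type w)
    (P : Type v) [CommRing P] [Algebra R P] (x : Λ → ℕ → P)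
    (hx0 : ∀ l, x l 0 = 1)
    (hxmul : ∀ l n m, x l n * x l m = ((n + m).choose n : P) * x l (n + m))
    (b : Module.Basis (Λ →₀ ℕ) R P) (hb : ∀ e : Λ →₀ ℕ, b e = e.prod (fun l k => x l k))
    (δplus : DividedPowers (Ideal.span {y : P | ∃ (l : Λ) (n : ℕ), 1 ≤ n ∧ y = x l n}))
    (hδplus : ∀ (l : Λ) (n : ℕ), δplus.dpow n (x l 1) = x l n) :
    ∃! δ : DividedPowers (I.map (algebraMap R P) ⊔ Ideal.span {y : P | ∃ (l : Λ) (n : ℕ), 1 ≤ n ∧ y = x l n}),
      γ.IsDPMorphism δ (algebraMap R P) ∧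
        ∀ (n : ℕ) (y : P), y ∈ Ideal.span {y : P | ∃ (l : Λ) (n : ℕ), 1 ≤ n ∧ y = x l n} →
          δ.dpow n y = δplus.dpow n y := by
  classical
  have H : Groth.Agent.DPowH7.IsDPBasis x b := ⟨hx0, hxmul, hb⟩
  haveI : Module.Free R P := Module.Free.of_basis b
  obtain ⟨δI, hδI⟩ := Groth.Agent.DPowH7.exists_extension_of_flat (B := P) γ
  have hcoef : ∀ z ∈ I.map (algebraMap R P), ∀ e, b.repr z e ∈ I := by
    intro z hz
    replace hz : z ∈ I • (⊤ : Submodule R P) := by rw [Ideal.smul_top_eq_map]; exact hz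
    refine Submodule.smul_induction_on hz (fun r hr u _ e => ?_) (fun u v hu hv e => ?_)
    · rw [map_smul, Finsupp.smul_apply, smul_eq_mul]; exact I.mul_mem_right _ hr
    · rw [map_add, Finsupp.add_apply]; exact I.add_mem (hu e) (hv e)
  have hzero : ∀ z ∈ Groth.Agent.DPowH7.augIdeal x, b.repr z 0 = 0 := by
    intro z hz
    have hz' := Groth.Agent.DPowH7.mem_aug_span H hz
    clear hz
    induction hz' using Submodule.span_induction with
    | zero => simp
    | add u v _ _ hu hv => rw [map_add, Finsupp.add_apply, hu, hv, add_zero]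
    | smul c u _ hu => rw [map_smul, Finsupp.smul_apply, hu, smul_zero]
    | mem v hv =>
      obtain ⟨e, he, rfl⟩ := hv
      rw [b.repr_self, Finsupp.single_eq_of_ne' he]
  have hagree : ∀ (n : ℕ) (z : P), z ∈ I.map (algebraMap R P) ⊓ Groth.Agent.DPowH7.augIdeal x →
      δI.dpow n z = δplus.dpow n z := by
    intro n z hz
    have hrep := b.linearCombination_repr z
    rw [Finsupp.linearCombination_apply, Finsupp.sum] at hrep
    let T : P → Prop := fun w => w ∈ I.map (algebraMap R P) ∧ w ∈ Groth.Agent.DPowH7.augIdeal x ∧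
      ∀ m, δI.dpow m w = δplus.dpow m w
    suffices T z from this.2.2 n
    rw [← hrep]
    refine Finset.sum_induction _ T (fun u v hu hv => ⟨Ideal.add_mem _ hu.1 hv.1, Ideal.add_mem _ hu.2.1 hv.2.1, fun m => ?_⟩)
      ⟨Ideal.zero_mem _, Ideal.zero_mem _, fun m => ?_⟩ fun e he => ?_
    · rw [δI.dpow_add hu.1 hv.1, δplus.dpow_add hu.2.1 hv.2.1]
      exact Finset.sum_congr rfl fun k _ => by rw [hu.2.2, hv.2.2]
    · rcases eq_or_ne m 0 with rfl | hm
      · rw [δI.dpow_zero (Ideal.zero_mem _), δplus.dpow_zero (Ideal.zero_mem _)]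
      · rw [δI.dpow_eval_zero hm, δplus.dpow_eval_zero hm]
    · have hr : b.repr z e ∈ I := hcoef z hz.1 e
      have he0 : e ≠ 0 := fun h => Finsupp.mem_support_iff.mp he (by rw [h]; exact hzero z hz.2)
      have hbe := Groth.Agent.DPowH7.basis_mem_aug H e he0
      rw [Algebra.smul_def]
      refine ⟨Ideal.mul_mem_right _ _ (Ideal.mem_map_of_mem _ hr), Ideal.mul_mem_left _ _ hbe, fun m => ?_⟩
      rw [δplus.dpow_mul hbe, mul_comm (algebraMap R P _) (b e), δI.dpow_mul (Ideal.mem_map_of_mem _ hr), hδI.2 _ hr,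
        ← map_pow (algebraMap R P), ← γ.factorial_mul_dpow_eq_pow hr, ← δplus.factorial_mul_dpow_eq_pow (n := m) hbe, map_mul, map_natCast]
      ring
  obtain ⟨δ, ⟨hl, hr⟩, huniq⟩ := Groth.Agent.DPowH7.existsUnique_sup δI δplus hagree
  refine ⟨δ, ⟨⟨le_sup_left, fun {n} a ha => ?_⟩, hr⟩, fun δ' hδ' => huniq δ' ⟨?_, hδ'.2⟩⟩
  · rw [hl _ _ (Ideal.mem_map_of_mem _ ha)]
    exact hδI.2 a ha
  · intro n y hy
    revert n
    induction hy using Submodule.span_induction with
    | mem w hw =>
      obtain ⟨a, ha, rfl⟩ := hw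
      intro n
      exact (hδ'.1.2 a ha).trans (hδI.2 a ha).symm
    | zero =>
      intro n
      rcases eq_or_ne n 0 with rfl | hn
      · rw [δI.dpow_zero (Ideal.zero_mem _), δ'.dpow_zero (Ideal.zero_mem _)]
      · rw [δI.dpow_eval_zero hn, δ'.dpow_eval_zero hn]
    | add u v hu hv ihu ihv =>
      intro n
      rw [δI.dpow_add hu hv, δ'.dpow_add (Submodule.mem_sup_left hu) (Submodule.mem_sup_left hv)]
      exact Finset.sum_congr rfl fun k _ => by rw [ihu, ihv]
    | smul c u hu ih =>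
      intro n
      rw [smul_eq_mul, δI.dpow_mul hu, δ'.dpow_mul (Submodule.mem_sup_left hu), ih]

end Groth.Agent.S18421
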