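import Groth.Statements.S18422
import Mathlib.Topology.Algebra.ClopenNhdofOne
import Mathlib.GroupTheory.Index
import Mathlib.Data.Nat.Prime.Basic

set_option autoImplicit false
universe u v
open Pi1

namespace Groth.Agent.S18422

/-- Let p and l be distinct primes, G a profinite group (a compact totally disconnected topological
group) which is pro-p, meaning that every open normal subgroup of G has index a power of p, and H a
profinite group which is pro-l in the same sense. Then every continuous group homomorphism from G to
H is trivial. -/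
theorem result {p l : ℕ} (hp : p.Prime) (hl : l.Prime) (hpl : p ≠ l)
    (G : Type u) [Group G] [TopologicalSpace G] [IsTopologicalGroup G] [CompactSpace G]
    [TotallyDisconnectedSpace G]
    (H : Type v) [Group H] [TopologicalSpace H] [IsTopologicalGroup H] [CompactSpace H]
    [TotallyDisconnectedSpace H]
    (hG : ∀ U : OpenNormalSubgroup G, ∃ n : ℕ, U.toSubgroup.index = p ^ n)
    (hH : ∀ V : OpenNormalSubgroup H, ∃ n : ℕ, V.toSubgroup.index = l ^ n)
    (f : G →* H) (hf : Continuous f) (g : G) : f g = 1 := by
  by_contra hne
  haveI : T1Space H := inferInstance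
  obtain ⟨V, hV⟩ := ProfiniteGrp.exist_openNormalSubgroup_sub_open_nhds_of_one
    (U := {f g}ᶜ) isClosed_singleton.isOpen_compl (by simpa using fun h => hne h.symm)
  haveI : V.toSubgroup.Normal := V.isNormal'
  let U : OpenNormalSubgroup G :=
    { toOpenSubgroup := V.toOpenSubgroup.comap f hf
      isNormal' := Subgroup.Normal.comap (H := V.toSubgroup) inferInstance f }
  obtain ⟨m, hm⟩ := hG U
  obtain ⟨n, hn⟩ := hH V
  have hdvd : U.toSubgroup.index ∣ V.toSubgroup.index := by
    show (V.toSubgroup.comap f).index ∣ _
    rw [Subgroup.index_comap]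
    exact Subgroup.relIndex_dvd_index_of_normal _ _
  rw [hm, hn] at hdvd
  have h1 : p ^ m = 1 := by
    have hc : Nat.Coprime (p ^ m) (l ^ n) := Nat.Coprime.pow _ _ ((Nat.coprime_primes hp hl).mpr hpl)
    exact hc.eq_one_of_dvd hdvd
  rw [h1, Subgroup.index_eq_one] at hm
  have : g ∈ U.toSubgroup := hm ▸ Subgroup.mem_top g
  exact hV this rfl

end Groth.Agent.S18422
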