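import Groth.Statements.S18424
import Groth.Agent.Lib.PurityExt25.Birational
import Groth.Agent.S0244
import Groth.Agent.S0238
-- import your own Groth.Agent.* helpers here

set_option autoImplicit false
universe u
open Pi1

namespace Groth.Agent.S18424

open AlgebraicGeometry CategoryTheory CategoryTheory.Limits in
/-- Let k be a field, X and Y integral schemes separated and of finite type over k with X normal and Y
nonsingular (every local ring of Y regular), and f : X → Y a proper k-morphism which is birational,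
i.e. an isomorphism over some nonempty open subset V of Y. Then pulling back finite etale covers
along f is an equivalence between the categories of finite etale covers of Y and of X; in particular
f induces an isomorphism of etale fundamental groups. -/
theorem result (k : Type u) [Field k]
    {X Y : Scheme.{u}} (f : X ⟶ Y) (g : Y ⟶ Spec (CommRingCat.of k))
    [IsSeparated g] [LocallyOfFiniteType g] [QuasiCompact g]
    [IsSeparated (f ≫ g)] [LocallyOfFiniteType (f ≫ g)] [QuasiCompact (f ≫ g)]
    [IsIntegral X] [IsIntegral Y] (hX : Pi1.IsNormalScheme X)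
    (hY : ∀ y : Y, IsRegularLocalRing (Y.presheaf.stalk y)) [IsProper f]
    (V : Y.Opens) (hV : (V : Set Y).Nonempty) (hf : IsIso (f ∣_ V)) :
    (FEt.restrict f).IsEquivalence := by
  haveI : IsLocallyNoetherian Y := LocallyOfFiniteType.isLocallyNoetherian g
  let U : X.Opens := f ⁻¹ᵁ V
  haveI := hf
  obtain ⟨y, hy⟩ := hV
  have hU : (U : Set X).Nonempty := ⟨U.ι ((inv (f ∣_ V)) ⟨y, hy⟩), ((inv (f ∣_ V)) ⟨y, hy⟩).2⟩
  obtain ⟨hGf, hGa⟩ := Groth.Agent.S0244.result (Groth.Agent.RH26.isNormalScheme_of_regular hY) V ⟨y, hy⟩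
  obtain ⟨hHf, hHa⟩ := Groth.Agent.S0244.result hX U hU
  haveI := hGf; haveI := hGa; haveI := hHf; haveI := hHa
  let iVU : (U : Scheme.{u}) ≅ (V : Scheme.{u}) := asIso (f ∣_ V)
  haveI : (FEt.restrict iVU.hom).IsEquivalence := Groth.Agent.S0238.result iVU.hom
  have hw : U.ι ≫ f = iVU.hom ≫ V.ι := (morphismRestrict_ι f V).symm
  let sq : FEt.restrict f ⋙ FEt.restrict U.ι ≅ FEt.restrict V.ι ⋙ FEt.restrict iVU.hom :=
    Groth.Agent.Pur25.restrictSquare f U.ι V.ι iVU.hom hw.symm
  have hFF : (FEt.restrict f ⋙ FEt.restrict U.ι).FullyFaithful :=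
    ((Functor.FullyFaithful.ofFullyFaithful (FEt.restrict V.ι)).comp
      (Functor.FullyFaithful.ofFullyFaithful (FEt.restrict iVU.hom))).ofIso sq.symm
  haveI : (FEt.restrict f ⋙ FEt.restrict U.ι).Full := hFF.full
  haveI : (FEt.restrict f ⋙ FEt.restrict U.ι).Faithful := hFF.faithful
  haveI : (FEt.restrict f).Faithful := Functor.Faithful.of_comp _ (FEt.restrict U.ι)
  haveI : (FEt.restrict f).Full := Functor.Full.of_comp_faithful (FEt.restrict f) (FEt.restrict U.ι)
  haveI : (FEt.restrict f).EssSurj := by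
    refine ⟨fun W => ?_⟩
    let e : (V : Scheme.{u}) ⟶ X := iVU.inv ≫ U.ι
    have he : e ≫ f = V.ι ≫ 𝟙 Y := by
      rw [Category.assoc, hw, Iso.inv_hom_id_assoc, Category.comp_id]
    have hd : Dense (V : Set Y) := V.2.dense ⟨y, hy⟩
    obtain ⟨W', ⟨a⟩⟩ := Groth.Agent.PurityExt25.exists_extension_along_rational_map f (𝟙 Y) hY V hd e he W
    have hu : iVU.hom ≫ e = U.ι := Iso.hom_inv_id_assoc _ _
    exact ⟨W', ⟨(Functor.FullyFaithful.ofFullyFaithful (FEt.restrict U.ι)).preimageIso
      (sq.app W' ≪≫ (FEt.restrict iVU.hom).mapIso a ≪≫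
        (Groth.Agent.Pur25.restrictComp iVU.hom e).symm.app W ≪≫
        (MorphismProperty.Over.pullbackCongr hu).app W)⟩⟩
  exact { }

end Groth.Agent.S18424
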