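import Groth.Statements.S18425
import Groth.Agent.Lib.Pi1Cat.FiniteSets

set_option autoImplicit false
universe u
open Pi1

namespace Groth.Agent.S18425

open CategoryTheory in
/-- In the case of a discrete group G, let F be the forgetful functor from the category of finite G-sets
to finite sets. Then the canonical homomorphism from G to Aut(F), letting g act on every finite
G-set, extends to an isomorphism of topological groups from the profinite completion of G (the limit
of the finite quotients G/U over normal subgroups U of finite index) onto Aut(F) with its profinite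
topology. (The published statement is for an arbitrary topological group G, with finite G-sets
carrying a continuous action and the completion taken over open normal subgroups of finite index;
this row is the case of a discrete group.) -/
theorem result (G : Type u) [Group G] :
    ∃ φ : (ProfiniteGrp.ProfiniteCompletion.completion (GrpCat.of G)) ≃ₜ* Aut (Action.forget FintypeCat.{u} G),
      ∀ (g : G) (X : Action FintypeCat.{u} G) (x : X.V),
        (φ (ProfiniteGrp.ProfiniteCompletion.etaFn (GrpCat.of G) g)).hom.app X x = (X.ρ g).hom x := by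
  classical
  open PreGaloisCategory in
  let F := Action.forget FintypeCat.{u} G
  let act : ∀ (g : G) (X : Action FintypeCat.{u} G), F.obj X ≅ F.obj X := fun g X =>
    { hom := X.ρ g
      inv := X.ρ g⁻¹
      hom_inv_id := ConcreteCategory.hom_ext _ _ fun x => by
        show (X.ρ g⁻¹).hom ((X.ρ g).hom x) = x
        rw [← Groth.Agent.Pi1Cat.FiniteSets.rho_mul, inv_mul_cancel, Groth.Agent.Pi1Cat.FiniteSets.rho_one]
      inv_hom_id := ConcreteCategory.hom_ext _ _ fun x => by
        show (X.ρ g).hom ((X.ρ g⁻¹).hom x) = x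
        rw [← Groth.Agent.Pi1Cat.FiniteSets.rho_mul, mul_inv_cancel, Groth.Agent.Pi1Cat.FiniteSets.rho_one] }
  let ι : G → Aut F := fun g => NatIso.ofComponents (act g) (fun f => (f.comm g).symm)
  let C := ProfiniteGrp.ProfiniteCompletion.completion (GrpCat.of G)
  let Q : FiniteIndexNormalSubgroup G → Action FintypeCat.{u} G :=
    fun H => Groth.Agent.Pi1Cat.FiniteSets.objQ (QuotientGroup.mk' H.toSubgroup)
  let pt : ∀ (σ : Aut F) (H : FiniteIndexNormalSubgroup G), G ⧸ H.toSubgroup :=
    fun σ H => show G ⧸ H.toSubgroup from σ.hom.app (Q H) (1 : G ⧸ H.toSubgroup)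
  have hmulr : ∀ (σ : Aut F) (H : FiniteIndexNormalSubgroup G) (q : G ⧸ H.toSubgroup),
      (show G ⧸ H.toSubgroup from σ.hom.app (Q H) q) = pt σ H * q := by
    intro σ H q
    have h2 := ConcreteCategory.congr_hom
      (σ.hom.naturality (Groth.Agent.Pi1Cat.FiniteSets.rmul (QuotientGroup.mk' H.toSubgroup) q)) (1 : G ⧸ H.toSubgroup)
    change σ.hom.app (Q H) ((1 : G ⧸ H.toSubgroup) * q) = pt σ H * q at h2
    rwa [one_mul] at h2
  let α : Aut F → C := fun σ => ⟨fun H => pt σ H, fun H K g => by
    have h2 := ConcreteCategory.congr_hom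
      (σ.hom.naturality (Groth.Agent.Pi1Cat.FiniteSets.projQ (QuotientGroup.mk' H.toSubgroup) (QuotientGroup.mk' K.toSubgroup)
        (QuotientGroup.map _ _ (MonoidHom.id G) g.le) (fun a => rfl))) (1 : G ⧸ H.toSubgroup)
    change σ.hom.app (Q K) (QuotientGroup.map _ _ (MonoidHom.id G) g.le (1 : G ⧸ H.toSubgroup)) =
      QuotientGroup.map _ _ (MonoidHom.id G) g.le (pt σ H) at h2
    rw [map_one] at h2
    exact h2.symm⟩
  have hαι : ∀ g, α (ι g) = ProfiniteGrp.ProfiniteCompletion.etaFn (GrpCat.of G) g := fun g =>
    Subtype.ext (funext fun H => mul_one ((QuotientGroup.mk' H.toSubgroup) g))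
  have hcont : Continuous α := by
    refine Continuous.subtype_mk (continuous_pi fun H => ?_) _
    have hc : Continuous fun σ : Aut F => autEmbedding F σ (Q H) :=
      (continuous_apply (Q H)).comp continuous_induced_dom
    exact Continuous.comp (g := fun a : Aut (F.obj (Q H)) => a.hom (1 : G ⧸ H.toSubgroup))
      continuous_of_discreteTopology hc
  have hinj : Function.Injective α := by
    intro σ τ h
    refine Iso.ext (NatTrans.ext (funext fun X => ConcreteCategory.hom_ext _ _ fun x => ?_))
    haveI := Groth.Agent.Pi1Cat.FiniteSets.actKer_finiteIndex X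
    let H : FiniteIndexNormalSubgroup G := FiniteIndexNormalSubgroup.ofSubgroup (Groth.Agent.Pi1Cat.FiniteSets.actKer X)
    let f := Groth.Agent.Pi1Cat.FiniteSets.orbitMap H.toSubgroup X le_rfl x
    have h1 := ConcreteCategory.congr_hom (σ.hom.naturality f) (1 : G ⧸ H.toSubgroup)
    have h2 := ConcreteCategory.congr_hom (τ.hom.naturality f) (1 : G ⧸ H.toSubgroup)
    change σ.hom.app X ((X.ρ 1).hom x) = F.map f (pt σ H) at h1
    change τ.hom.app X ((X.ρ 1).hom x) = F.map f (pt τ H) at h2
    rw [Groth.Agent.Pi1Cat.FiniteSets.rho_one] at h1 h2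
    rw [h1, h2, show pt σ H = pt τ H from congrFun (congrArg Subtype.val h) H]
  have hsurj : Function.Surjective α := by
    intro c
    have hcl : IsClosed (Set.range α) := (isCompact_range hcont).isClosed
    have hsub : Set.range (ProfiniteGrp.ProfiniteCompletion.etaFn (GrpCat.of G)) ⊆ Set.range α :=
      fun _ ⟨g, hg⟩ => ⟨ι g, (hαι g).trans hg⟩
    exact (hcl.closure_subset_iff.2 hsub)
      (ProfiniteGrp.ProfiniteCompletion.denseRange (GrpCat.of G) c)
  have hmul : ∀ σ τ, α (σ * τ) = α σ * α τ := fun σ τ =>
    Subtype.ext (funext fun H => hmulr σ H (pt τ H))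
  let e : Aut F ≃* C := MulEquiv.ofBijective (MonoidHom.mk' α hmul) ⟨hinj, hsurj⟩
  refine ⟨({ e with
    continuous_toFun := hcont
    continuous_invFun := Continuous.continuous_symm_of_equiv_compact_to_t2 (f := e.toEquiv) hcont } :
      Aut F ≃ₜ* C).symm, fun g X x => ?_⟩
  have : e.symm (ProfiniteGrp.ProfiniteCompletion.etaFn (GrpCat.of G) g) = ι g :=
    e.symm_apply_eq.2 (hαι g).symm
  exact congrArg (fun σ : Aut F => σ.hom.app X x) this
end Groth.Agent.S18425
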