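import Groth.Statements.S18426
import Groth.Agent.Lib.NormFin18.Generic
import Groth.Agent.Lib.VarDim.Normal

set_option autoImplicit false
universe u
open Pi1

namespace Groth.Agent.S18426

open AlgebraicGeometry CategoryTheory CategoryTheory.Limits in
/-- Suppose X is an integral scheme that is Noetherian and normal, write K for its function field, and
take L to be a finite separable extension of K. Then the normalization of X in L, namely the
relative normalization of the morphism Spec L → Spec K → X, is finite over X. (That this
normalization is a normal integral scheme with function field L is not restated.) -/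
theorem result {X : Scheme.{u}} [IsIntegral X] [IsNoetherian X]
    (hX : Pi1.IsNormalScheme X) (L : Type u) [Field L] [Algebra X.functionField L] [FiniteDimensional X.functionField L]
    [Algebra.IsSeparable X.functionField L]
    [QuasiCompact (Spec.map (CommRingCat.ofHom (algebraMap X.functionField L)) ≫ X.fromSpecStalk (genericPoint X))]
    [QuasiSeparated (Spec.map (CommRingCat.ofHom (algebraMap X.functionField L)) ≫ X.fromSpecStalk (genericPoint X))] :
    IsFinite (Spec.map (CommRingCat.ofHom (algebraMap X.functionField L)) ≫ X.fromSpecStalk (genericPoint X)).fromNormalization := by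
  refine Groth.Agent.NormFin18.isFinite_fromNormalization_of_finite (φ := algebraMap X.functionField L) rfl
    fun V hV hA => ?_
  haveI : Nonempty V := ⟨⟨_, Groth.Agent.CurveNF.generic_mem hV⟩⟩
  haveI := functionField_isFractionRing_of_isAffineOpen X V hA
  letI : Algebra Γ(X, V) L := ((algebraMap X.functionField L).comp
    (X.presheaf.germ V (genericPoint X) (Groth.Agent.CurveNF.generic_mem hV)).hom).toAlgebra
  haveI : IsScalarTower Γ(X, V) X.functionField L := IsScalarTower.of_algebraMap_eq fun _ => rfl
  haveI : IsIntegrallyClosed Γ(X, V) :=
    Groth.Agent.VarDim.isIntegrallyClosed_sections (fun x => (hX x).2) V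
  haveI : IsNoetherianRing Γ(X, V) := IsLocallyNoetherian.component_noetherian ⟨V, hA⟩
  exact IsIntegralClosure.finite Γ(X, V) X.functionField L (integralClosure Γ(X, V) L)

end Groth.Agent.S18426
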