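import Groth.Statements.S18428
import Groth.Agent.Lib.Pi1Cat.FiniteSets

set_option autoImplicit false
universe u
open scoped FintypeCatDiscrete
open Pi1

namespace Groth.Agent.S18428

open CategoryTheory in
/-- Let G be a topological group, consider the category of finite sets (with the discrete topology)
equipped with a continuous action of G, and let F be the forgetful functor to finite sets, so that
Aut(F) is a profinite group. Then the homomorphism ι : G → Aut(F) letting g act on every finite
continuous G-set exists and is continuous, has dense image, and every continuous homomorphism from G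
to a finite discrete group factors uniquely through ι by a continuous homomorphism on Aut(F). As
Aut(F) is profinite, these properties say that ι induces an isomorphism of topological groups from
the profinite completion of G (the limit of the quotients G/U by open normal subgroups of finite
index) onto Aut(F). -/
theorem result (G : Type u) [Group G]
    [TopologicalSpace G] [IsTopologicalGroup G] :
    ∃ ι : G →* Aut (forget₂ (ContAction FintypeCat.{u} G) FintypeCat.{u}),
      Continuous ι ∧
      (∀ (g : G) (X : ContAction FintypeCat.{u} G) (x : X.obj.V), (ι g).hom.app X x = (X.obj.ρ g).hom x) ∧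
      DenseRange ι ∧
      ∀ (Q : Type u) [Group Q] [Finite Q] [TopologicalSpace Q] [DiscreteTopology Q] (π : G →* Q),
        Continuous π → ∃! ψ : Aut (forget₂ (ContAction FintypeCat.{u} G) FintypeCat.{u}) →* Q,
          Continuous ψ ∧ ψ.comp ι = π := by
  classical
  open PreGaloisCategory in
  let F := forget₂ (ContAction FintypeCat.{u} G) FintypeCat.{u}
  let act : ∀ (g : G) (X : ContAction FintypeCat.{u} G), F.obj X ≅ F.obj X := fun g X =>
    { hom := X.obj.ρ g
      inv := X.obj.ρ g⁻¹
      hom_inv_id := ConcreteCategory.hom_ext _ _ fun x => by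
        show (X.obj.ρ g⁻¹).hom ((X.obj.ρ g).hom x) = x
        rw [← Groth.Agent.Pi1Cat.FiniteSets.rho_mul, inv_mul_cancel, Groth.Agent.Pi1Cat.FiniteSets.rho_one]
      inv_hom_id := ConcreteCategory.hom_ext _ _ fun x => by
        show (X.obj.ρ g).hom ((X.obj.ρ g⁻¹).hom x) = x
        rw [← Groth.Agent.Pi1Cat.FiniteSets.rho_mul, mul_inv_cancel, Groth.Agent.Pi1Cat.FiniteSets.rho_one] }
  let ι : G →* Aut F := MonoidHom.mk'
    (fun g => NatIso.ofComponents (act g) (fun f => (f.hom.comm g).symm))
    (fun g h => Iso.ext (NatTrans.ext (funext fun X => map_mul X.obj.ρ g h)))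
  have happ : ∀ (g : G) (X : ContAction FintypeCat.{u} G) (x : X.obj.V),
      (ι g).hom.app X x = (X.obj.ρ g).hom x := fun _ _ _ => rfl
  have hι : Continuous ι := by
    rw [(autEmbedding_isClosedEmbedding F).isInducing.continuous_iff, continuous_pi_iff]
    intro X
    refine continuous_discrete_rng.2 fun a => ?_
    refine isOpen_iff_forall_mem_open.2 fun g hg =>
      ⟨(fun h => g⁻¹ * h) ⁻¹' (Groth.Agent.Pi1Cat.FiniteSets.actKer X.obj : Set G), ?_,
        (Groth.Agent.Pi1Cat.FiniteSets.isOpen_actKer X.obj X.property).preimage (continuous_const.mul continuous_id),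
        by simp [Subgroup.one_mem]⟩
    intro h hh
    rw [← hg.out]
    refine Iso.ext (ConcreteCategory.hom_ext _ _ fun x => ?_)
    show (X.obj.ρ h).hom x = (X.obj.ρ g).hom x
    conv_lhs => rw [← mul_inv_cancel_left g h, Groth.Agent.Pi1Cat.FiniteSets.rho_mul, hh x]
  have hdense : DenseRange ι := by
    refine dense_iff_inter_open.2 fun U hU ⟨σ, hσ⟩ => ?_
    obtain ⟨V, hV, rfl⟩ := isOpen_induced_iff.1 hU
    obtain ⟨I, v, hv, hsub⟩ := isOpen_pi_iff.1 hV _ hσ
    obtain ⟨hn, hf⟩ := Groth.Agent.Pi1Cat.FiniteSets.finiteIndex_iInf_actKer (fun X : I => (X : ContAction FintypeCat.{u} G).obj)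
    have hopen : IsOpen ((⨅ X : I, Groth.Agent.Pi1Cat.FiniteSets.actKer (X : ContAction FintypeCat.{u} G).obj : Subgroup G) : Set G) := by
      rw [Subgroup.coe_iInf]
      exact isOpen_iInter_of_finite fun X =>
        Groth.Agent.Pi1Cat.FiniteSets.isOpen_actKer (X : ContAction FintypeCat.{u} G).obj (X : ContAction FintypeCat.{u} G).property
    let K := ⨅ X : I, Groth.Agent.Pi1Cat.FiniteSets.actKer (X : ContAction FintypeCat.{u} G).obj
    let Q : ContAction FintypeCat.{u} G := ⟨Groth.Agent.Pi1Cat.FiniteSets.objQ (QuotientGroup.mk' K),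
      Groth.Agent.Pi1Cat.FiniteSets.isContinuous_of_isOpen _ (by rw [Groth.Agent.Pi1Cat.FiniteSets.actKer_objQ, QuotientGroup.ker_mk']; exact hopen)⟩
    obtain ⟨g, hg⟩ := QuotientGroup.mk'_surjective K (σ.hom.app Q (1 : G ⧸ K))
    refine ⟨ι g, hsub ?_, g, rfl⟩
    intro X hX
    suffices (autEmbedding F (ι g)) X = (autEmbedding F σ) X by rw [this]; exact (hv X hX).2
    refine Iso.ext (ConcreteCategory.hom_ext _ _ fun x => ?_)
    let f : Q ⟶ X := ObjectProperty.homMk (Groth.Agent.Pi1Cat.FiniteSets.orbitMap K X.obj (iInf_le (fun X : I => Groth.Agent.Pi1Cat.FiniteSets.actKer (X : ContAction FintypeCat.{u} G).obj) ⟨X, hX⟩) x)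
    have h2 := ConcreteCategory.congr_hom (σ.hom.naturality f) (1 : G ⧸ K)
    change σ.hom.app X ((X.obj.ρ 1).hom x) = F.map f (σ.hom.app Q (1 : G ⧸ K)) at h2
    rw [Groth.Agent.Pi1Cat.FiniteSets.rho_one, ← hg] at h2
    exact h2.symm
  refine ⟨ι, hι, happ, hdense, fun Q _ _ _ _ π hπ => ?_⟩
  have hopen : IsOpen (π.ker : Set G) := (isOpen_discrete {1}).preimage hπ
  let X : ContAction FintypeCat.{u} G :=
    ⟨Groth.Agent.Pi1Cat.FiniteSets.objQ π, Groth.Agent.Pi1Cat.FiniteSets.isContinuous_of_isOpen _ (by rw [Groth.Agent.Pi1Cat.FiniteSets.actKer_objQ]; exact hopen)⟩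
  let ψ : Aut F →* Q := MonoidHom.mk' (fun σ => show Q from σ.hom.app X (1 : Q)) (fun σ τ => by
    have h2 := ConcreteCategory.congr_hom
      (σ.hom.naturality (ObjectProperty.homMk (Groth.Agent.Pi1Cat.FiniteSets.rmul π (τ.hom.app X (1 : Q))) : X ⟶ X)) (1 : Q)
    change σ.hom.app X ((1 : Q) * (show Q from τ.hom.app X (1 : Q))) = (show Q from σ.hom.app X (1 : Q)) * (show Q from τ.hom.app X (1 : Q)) at h2
    rw [one_mul] at h2
    exact h2)
  have hψ : Continuous ψ := by
    have hc : Continuous fun σ : Aut F => autEmbedding F σ X :=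
      (continuous_apply X).comp continuous_induced_dom
    exact (continuous_of_discreteTopology (f := fun a : Aut (F.obj X) => (show Q from a.hom (1 : Q)))).comp hc
  have hψι : ψ.comp ι = π := MonoidHom.ext fun g => mul_one (π g)
  refine ⟨ψ, ⟨hψ, hψι⟩, fun ψ' hψ' => ?_⟩
  refine DFunLike.coe_injective (hdense.equalizer hψ'.1 hψ (funext fun g => ?_))
  exact (DFunLike.congr_fun (hψ'.2.trans hψι.symm) g)
end Groth.Agent.S18428
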