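import Groth.Statements.S18429
import Mathlib

set_option autoImplicit false
universe u
open SpinCurv

namespace Groth.Agent.S18429

/-- Let n ≥ 1 and r ≥ 2 be integers and let e_0, …, e_{nr} be integers with e_0 = e_{nr} = 0 (the
coefficients of a chain of nr - 1 exceptional curves joining two non-exceptional components with
coefficient zero) such that at every interior index 1 ≤ j ≤ nr - 1 the second difference e_{j-1} - 2
e_j + e_{j+1} (the degree of the divisor Σ e_i E_i on the j-th curve of the chain) is divisible by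
r. Then there are integers e'_0, …, e'_{nr}, with e'_j ≡ e_j modulo r for every interior j, with
e'_0 = e'_{nr} = 0 and every e'_j ≤ 0, whose second differences at the interior indices are each 0
or r, and are nonzero at no two distinct interior indices. -/
theorem result (n r : ℕ) (hn : 1 ≤ n) (hr : 2 ≤ r)
    (e : ℕ → ℤ) (he0 : e 0 = 0) (henr : e (n * r) = 0)
    (hdiv : ∀ j : ℕ, 1 ≤ j → j < n * r → (r : ℤ) ∣ e (j - 1) - 2 * e j + e (j + 1)) :
    ∃ e' : ℕ → ℤ, e' 0 = 0 ∧ e' (n * r) = 0 ∧
      (∀ j : ℕ, 1 ≤ j → j < n * r → (r : ℤ) ∣ e' j - e j) ∧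
      (∀ j : ℕ, j ≤ n * r → e' j ≤ 0) ∧
      (∀ j : ℕ, 1 ≤ j → j < n * r →
        (e' (j - 1) - 2 * e' j + e' (j + 1) = 0 ∨ e' (j - 1) - 2 * e' j + e' (j + 1) = r)) ∧
      (∀ j j' : ℕ, 1 ≤ j → j < n * r → 1 ≤ j' → j' < n * r →
        e' (j - 1) - 2 * e' j + e' (j + 1) ≠ 0 → e' (j' - 1) - 2 * e' j' + e' (j' + 1) ≠ 0 → j = j') := by
  set N : ℕ := n * r
  set s : ℤ := e 1 % r with hs
  have hr0 : (0 : ℤ) < r := by omega
  have hs0 : 0 ≤ s := Int.emod_nonneg _ (by omega)
  have hsr : s < r := Int.emod_lt_of_pos _ hr0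
  have hcongr : ∀ j, j ≤ N → (r : ℤ) ∣ e j - (j : ℤ) * s := by
    intro j
    induction j using Nat.twoStepInduction with
    | zero => intro _; simp [he0]
    | one =>
      intro _
      rw [Nat.cast_one, one_mul, hs]
      exact Int.dvd_self_sub_emod
    | more j ih1 ih2 =>
      intro hj
      have h1 := hdiv (j + 1) (by omega) (by omega)
      rw [show j + 1 - 1 = j by omega, show j + 1 + 1 = j + 2 by omega] at h1
      have h2 := dvd_add (dvd_sub h1 (ih1 (by omega))) ((ih2 (by omega)).mul_left 2)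
      exact h2.trans (dvd_of_eq (by push_cast; ring))
  have hrn : (r : ℤ) * n = (N : ℤ) := by simp [N, mul_comm]
  have hnN : (n : ℤ) * s ≤ N := by rw [← hrn]; nlinarith
  refine ⟨fun j => if (j : ℤ) ≤ n * s then (j : ℤ) * (s - r) else ((j : ℤ) - N) * s, ?_, ?_, ?_, ?_, ?_, ?_⟩
  · simp only [CharP.cast_eq_zero, zero_mul, ite_self]
    rw [if_pos (by positivity)]
  · show (if (N : ℤ) ≤ n * s then (N : ℤ) * (s - r) else ((N : ℤ) - N) * s) = 0
    rw [if_neg]
    · ring
    · rw [← hrn]; nlinarith
  · intro j _ hj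
    have h := hcongr j hj.le
    simp only
    split_ifs
    · have := dvd_add h (dvd_mul_left (r : ℤ) (j : ℤ))
      rw [← dvd_neg] at this
      exact this.trans (dvd_of_eq (by ring))
    · have h2 : (r : ℤ) ∣ (N : ℤ) * s := ⟨(n : ℤ) * s, by rw [← hrn]; ring⟩
      have := dvd_add h h2
      rw [← dvd_neg] at this
      exact this.trans (dvd_of_eq (by ring))
  · intro j hj
    simp only
    split_ifs
    · exact mul_nonpos_of_nonneg_of_nonpos (by positivity) (by omega)
    · exact mul_nonpos_of_nonpos_of_nonneg (by omega) hs0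
  · intro j h1 h2
    simp only [show ((j - 1 : ℕ) : ℤ) = (j : ℤ) - 1 by omega, Nat.cast_add, Nat.cast_one]
    rcases lt_trichotomy (j : ℤ) (n * s) with h | h | h
    · rw [if_pos (by omega), if_pos (by omega), if_pos (by omega)]; left; ring
    · rw [if_pos (by omega), if_pos (by omega), if_neg (by omega)]
      right
      linear_combination (r : ℤ) * h + s * hrn
    · rcases eq_or_lt_of_le (show (n * s : ℤ) + 1 ≤ j by omega) with h' | h'
      · rw [if_pos (by omega), if_neg (by omega), if_neg (by omega)]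
        left
        linear_combination (r : ℤ) * h' - s * hrn
      · rw [if_neg (by omega), if_neg (by omega), if_neg (by omega)]; left; ring
  · intro j j' h1 h2 h1' h2' hne hne'
    have key : ∀ j : ℕ, 1 ≤ j → (j : ℤ) ≠ n * s →
        (if ((j - 1 : ℕ) : ℤ) ≤ n * s then ((j - 1 : ℕ) : ℤ) * (s - r) else (((j - 1 : ℕ) : ℤ) - N) * s) - 2 * (if (j : ℤ) ≤ n * s then (j : ℤ) * (s - r) else ((j : ℤ) - N) * s) + (if ((j + 1 : ℕ) : ℤ) ≤ n * s then ((j + 1 : ℕ) : ℤ) * (s - r) else (((j + 1 : ℕ) : ℤ) - N) * s) = 0 := by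
      intro j h1 hj
      simp only [show ((j - 1 : ℕ) : ℤ) = (j : ℤ) - 1 by omega, Nat.cast_add, Nat.cast_one]
      rcases lt_or_gt_of_ne hj with h | h
      · rw [if_pos (by omega), if_pos (by omega), if_pos (by omega)]; ring
      · rcases eq_or_lt_of_le (show (n * s : ℤ) + 1 ≤ j by omega) with h' | h'
        · rw [if_pos (by omega), if_neg (by omega), if_neg (by omega)]
          linear_combination (r : ℤ) * h' - s * hrn
        · rw [if_neg (by omega), if_neg (by omega), if_neg (by omega)]; ring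
    have e1 : (j : ℤ) = n * s := by_contra fun h => hne (key j h1 h)
    have e2 : (j' : ℤ) = n * s := by_contra fun h => hne' (key j' h1' h)
    omega

end Groth.Agent.S18429
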