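import Groth.Statements.S18431
import Mathlib.RingTheory.LocalRing.ResidueField.Basic
import Mathlib.Algebra.Ring.GeomSum

set_option autoImplicit false
universe u
open SpinCurv

namespace Groth.Agent.S18431

/-- Let R be a Noetherian local ring in which the natural number r is invertible and let ξ, ζ ∈ R
satisfy ξ^r = 1 and ζ^r = 1. Then either ξ = ζ, or ξ - ζ is a unit of R. (Consequently an element of
R annihilated by ξ - ζ is zero unless ξ = ζ. In the published setting R is moreover complete; the
step does not use completeness.) -/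
theorem result (R : Type u) [CommRing R] [IsNoetherianRing R] [IsLocalRing R]
    (r : ℕ) (hr : IsUnit (r : R)) (ξ ζ : R) (hξ : ξ ^ r = 1) (hζ : ζ ^ r = 1) :
    ξ = ζ ∨ IsUnit (ξ - ζ) := by
  by_cases h : IsUnit (ξ - ζ)
  · exact Or.inr h
  left
  rcases Nat.eq_zero_or_pos r with h0 | h0
  · subst h0
    simp at hr
  have hm : IsLocalRing.residue R ξ = IsLocalRing.residue R ζ := by
    rw [← sub_eq_zero, ← map_sub, IsLocalRing.residue_eq_zero_iff]
    exact h
  have hu : IsUnit (∑ i ∈ Finset.range r, ξ ^ i * ζ ^ (r - 1 - i)) := by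
    rw [← IsLocalRing.residue_ne_zero_iff_isUnit, map_sum]
    simp only [map_mul, map_pow, hm]
    have : ∀ i ∈ Finset.range r, IsLocalRing.residue R ζ ^ i * IsLocalRing.residue R ζ ^ (r - 1 - i) = IsLocalRing.residue R ζ ^ (r - 1) := by
      intro i hi
      rw [← pow_add]
      congr 1
      rw [Finset.mem_range] at hi
      omega
    rw [Finset.sum_congr rfl this, Finset.sum_const, Finset.card_range, nsmul_eq_mul, ← map_natCast (IsLocalRing.residue R), ← map_pow, ← map_mul, IsLocalRing.residue_ne_zero_iff_isUnit]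
    refine hr.mul (IsUnit.pow _ ?_)
    exact IsUnit.of_pow_eq_one hζ h0.ne'
  have := geom_sum₂_mul ξ ζ r
  rw [hξ, hζ, sub_self] at this
  exact sub_eq_zero.1 (hu.mul_right_eq_zero.1 this)

end Groth.Agent.S18431
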