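import Groth.Statements.S18432
import Groth.Agent.Lib.NodeNF29.Basic

set_option autoImplicit false
universe u
open SpinCurv

namespace Groth.Agent.S18432

/-- Let R be a complete Noetherian local ring, p, q elements of its maximal ideal, A = R[[x, y]]/(xy -
pq), and α(p, q) the A-linear endomorphism of A² with matrix (x p; q y), sending a column (a, b) to
(x a + p b, q a + y b). Then the kernel of α(p, q) is the submodule of A² generated by the columns
(p, -x) and (y, -q); equivalently the image of α(p, q) (the standard rank-one torsion-free module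
E(p, q)) is presented by two generators ξ, v with the relations p ξ = x v and y ξ = q v. -/
theorem result (R : Type u) [CommRing R] [IsNoetherianRing R] [IsLocalRing R]
    [IsAdicComplete (IsLocalRing.maximalIdeal R) R]
    (p q : R) (hp : p ∈ IsLocalRing.maximalIdeal R) (hq : q ∈ IsLocalRing.maximalIdeal R) :
    LinearMap.ker (Matrix.mulVecLin (SpinCurv.nodeAlpha R p q)) =
      Submodule.span (SpinCurv.NodeRing R (p * q))
        {![algebraMap R (SpinCurv.NodeRing R (p * q)) p, -SpinCurv.NodeRing.x R (p * q)],
         ![SpinCurv.NodeRing.y R (p * q), -algebraMap R (SpinCurv.NodeRing R (p * q)) q]} := by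
  have hpq : p * q ∈ IsLocalRing.maximalIdeal R := Ideal.mul_mem_right _ _ hp
  refine le_antisymm (fun v hv => ?_) (Submodule.span_le.2 ?_)
  · obtain ⟨a1, a2, ha⟩ := NodeNF29.exists_normalForm hpq (v 0)
    obtain ⟨b1, b2, hb⟩ := NodeNF29.exists_normalForm' hpq (v 1)
    rw [show v = ![v 0, v 1] from funext fun i => by fin_cases i <;> rfl, ha, hb, NodeNF29.reduce] at hv ⊢
    rw [LinearMap.mem_ker, Matrix.mulVecLin_apply, Matrix.mulVec_add, Matrix.mulVec_add, Matrix.mulVec_smul,
      Matrix.mulVec_smul, (NodeNF29.alpha_gen).1, (NodeNF29.alpha_gen).2, smul_zero, smul_zero, add_zero, add_zero,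
      NodeNF29.nodeAlpha_mulVec] at hv
    have h0 := congrFun hv 0
    have h1 := congrFun hv 1
    simp only [Matrix.cons_val_zero, Matrix.cons_val_one, Matrix.cons_val_fin_one, Pi.zero_apply] at h0 h1
    obtain ⟨hf, hg⟩ := NodeNF29.inj_pair hpq h0 h1
    rw [hf, hg]
    refine add_mem (add_mem ?_ (Submodule.smul_mem _ _ (Submodule.subset_span (Set.mem_insert_of_mem _ rfl))))
      (Submodule.smul_mem _ _ (Submodule.subset_span (Set.mem_insert _ _)))
    convert zero_mem (Submodule.span (SpinCurv.NodeRing R (p * q)) _) using 1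
    ext i
    fin_cases i <;> simp [SpinCurv.NodeRing.ofX, SpinCurv.NodeRing.ofY]
  · rintro _ (rfl | rfl)
    · exact (NodeNF29.alpha_gen).1
    · exact (NodeNF29.alpha_gen).2

end Groth.Agent.S18432
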