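import Groth.Statements.S18433
import Groth.Agent.Lib.NodeNF29.Basic

set_option autoImplicit false
universe u
open SpinCurv

namespace Groth.Agent.S18433

/-- Let R be a complete Noetherian local ring, p, q elements of its maximal ideal, A = R[[x, y]]/(xy -
pq), and α(p, q) the endomorphism (a, b) ↦ (x a + p b, q a + y b) of A². Restrict α(p, q) to pairs
(f, g) with f a power series in x alone and g a power series in y alone: the resulting map R[[x]] ×
R[[y]] → A², (f, g) ↦ (x f + p g, q f + y g), is injective and has the same image as α(p, q). Thus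
the image E(p, q) of α(p, q) is identified, R-linearly, with R[[x]] ⊕ R[[y]]. -/
theorem result (R : Type u) [CommRing R] [IsNoetherianRing R] [IsLocalRing R]
    [IsAdicComplete (IsLocalRing.maximalIdeal R) R]
    (p q : R) (hp : p ∈ IsLocalRing.maximalIdeal R) (hq : q ∈ IsLocalRing.maximalIdeal R) :
    Function.Injective (fun fg : PowerSeries R × PowerSeries R =>
        Matrix.mulVec (SpinCurv.nodeAlpha R p q)
          ![SpinCurv.NodeRing.ofX R (p * q) fg.1, SpinCurv.NodeRing.ofY R (p * q) fg.2]) ∧
    Set.range (fun fg : PowerSeries R × PowerSeries R =>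
        Matrix.mulVec (SpinCurv.nodeAlpha R p q)
          ![SpinCurv.NodeRing.ofX R (p * q) fg.1, SpinCurv.NodeRing.ofY R (p * q) fg.2]) =
      Set.range (Matrix.mulVec (SpinCurv.nodeAlpha R p q)) := by
  have hpq : p * q ∈ IsLocalRing.maximalIdeal R := Ideal.mul_mem_right _ _ hp
  refine ⟨fun u v huv => ?_, Set.Subset.antisymm (Set.range_subset_iff.2 fun fg => ⟨_, rfl⟩) ?_⟩
  · simp only [NodeNF29.nodeAlpha_mulVec] at huv
    have h0 := congrFun huv 0
    have h1 := congrFun huv 1
    simp only [Matrix.cons_val_zero, Matrix.cons_val_one, Matrix.cons_val_fin_one] at h0 h1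
    obtain ⟨hf, hg⟩ := NodeNF29.inj_pair hpq (f := u.1 - v.1) (g := u.2 - v.2)
      (by
        simp only [SpinCurv.NodeRing.ofX, SpinCurv.NodeRing.ofY, map_sub] at h0 ⊢
        linear_combination h0)
      (by
        simp only [SpinCurv.NodeRing.ofX, SpinCurv.NodeRing.ofY, map_sub] at h1 ⊢
        linear_combination h1)
    exact Prod.ext (sub_eq_zero.1 hf) (sub_eq_zero.1 hg)
  · rintro _ ⟨v, rfl⟩
    obtain ⟨a1, a2, ha⟩ := NodeNF29.exists_normalForm hpq (v 0)
    obtain ⟨b1, b2, hb⟩ := NodeNF29.exists_normalForm' hpq (v 1)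
    refine ⟨(a1 + PowerSeries.C p * b2, b1 + PowerSeries.C q * a2), ?_⟩
    show _ = Matrix.mulVec _ v
    rw [show v = ![v 0, v 1] from funext fun i => by fin_cases i <;> rfl, ha, hb, NodeNF29.reduce,
      Matrix.mulVec_add, Matrix.mulVec_add, Matrix.mulVec_smul, Matrix.mulVec_smul, (NodeNF29.alpha_gen).1,
      (NodeNF29.alpha_gen).2, smul_zero, smul_zero, add_zero, add_zero]

end Groth.Agent.S18433
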