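import Groth.Statements.S18435
import Mathlib.Algebra.Polynomial.Laurent
import Mathlib.RingTheory.Ideal.Quotient.Operations

set_option autoImplicit false
universe u
open SpinCurv

namespace Groth.Agent.S18435

/-- Let k be a field and A = k[x, y]/(xy) the node, with the two affine charts U = Spec k[s, y]/(sy) and
V = Spec k[t, x]/(tx) of the curve obtained by the (p, q)-construction with p = q = 0, glued along
k[s, s⁻¹] by t = s⁻¹ (y ↦ 0 from U, x ↦ 0 from V), and with A → O(U) given by x ↦ 0, y ↦ y and A →
O(V) by x ↦ x, y ↦ 0. A global section of O(1) is a pair (g, f) with g = s f on U ∩ V. If such a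
pair is annihilated by both x and y (acting through the two restriction maps), then g = 0 and f = 0;
so the module of global sections of O(1) has no nonzero element killed by the maximal ideal (x, y),
i.e. its direct image on the node is torsion-free there. All three coordinate rings are written as
the quotient of the polynomial ring in two variables by the product of the variables, and the four
restriction homomorphisms are k-algebra maps pinned by their values on generators. (The published
proof reduces the torsion-freeness of the direct image of O(1), for general R, p, q, to exactly this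
case of a field with p = q = 0.) -/
theorem result (k : Type u) [Field k]
    (rU : SpinCurv.PolyNodeRing k 0 →ₐ[k] SpinCurv.PolyNodeRing k 0)
    (hrUx : rU (SpinCurv.PolyNodeRing.x k 0) = 0)
    (hrUy : rU (SpinCurv.PolyNodeRing.y k 0) = SpinCurv.PolyNodeRing.y k 0)
    (rV : SpinCurv.PolyNodeRing k 0 →ₐ[k] SpinCurv.PolyNodeRing k 0)
    (hrVx : rV (SpinCurv.PolyNodeRing.x k 0) = SpinCurv.PolyNodeRing.y k 0)
    (hrVy : rV (SpinCurv.PolyNodeRing.y k 0) = 0)
    (gU : SpinCurv.PolyNodeRing k 0 →ₐ[k] LaurentPolynomial k)
    (hgUs : gU (SpinCurv.PolyNodeRing.x k 0) = LaurentPolynomial.T 1)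
    (hgUy : gU (SpinCurv.PolyNodeRing.y k 0) = 0)
    (gV : SpinCurv.PolyNodeRing k 0 →ₐ[k] LaurentPolynomial k)
    (hgVt : gV (SpinCurv.PolyNodeRing.x k 0) = LaurentPolynomial.T (-1))
    (hgVx : gV (SpinCurv.PolyNodeRing.y k 0) = 0)
    (g f : SpinCurv.PolyNodeRing k 0) (hsec : gU g = LaurentPolynomial.T 1 * gV f)
    (hx : rU (SpinCurv.PolyNodeRing.x k 0) * g = 0 ∧ rV (SpinCurv.PolyNodeRing.x k 0) * f = 0)
    (hy : rU (SpinCurv.PolyNodeRing.y k 0) * g = 0 ∧ rV (SpinCurv.PolyNodeRing.y k 0) * f = 0) :
    g = 0 ∧ f = 0 := by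
  classical
  let X0 := SpinCurv.PolyNodeRing.x k 0
  let Y0 := SpinCurv.PolyNodeRing.y k 0
  have hxy : X0 * Y0 = 0 := by
    show Ideal.Quotient.mk _ (MvPolynomial.X 0) * Ideal.Quotient.mk _ (MvPolynomial.X 1) = 0
    rw [← map_mul, Ideal.Quotient.eq_zero_iff_mem]
    exact Ideal.subset_span (by simp)
  have hlift : ∀ v : Fin 2 → Polynomial k, v 0 * v 1 = 0 → ∀ a ∈ Ideal.span
      {(MvPolynomial.X 0 * MvPolynomial.X 1 - MvPolynomial.C 0 : MvPolynomial (Fin 2) k)},
      MvPolynomial.aeval v a = 0 := fun v hv a ha => by
    obtain ⟨b, rfl⟩ := Ideal.mem_span_singleton'.1 ha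
    simp [hv]
  let α : SpinCurv.PolyNodeRing k 0 →ₐ[k] Polynomial k :=
    Ideal.Quotient.liftₐ _ (MvPolynomial.aeval ![Polynomial.X, 0]) (hlift _ (by simp))
  let β : SpinCurv.PolyNodeRing k 0 →ₐ[k] Polynomial k :=
    Ideal.Quotient.liftₐ _ (MvPolynomial.aeval ![0, Polynomial.X]) (hlift _ (by simp))
  have hαx : α X0 = Polynomial.X := by show MvPolynomial.aeval _ (MvPolynomial.X 0) = _; simp
  have hαy : α Y0 = 0 := by show MvPolynomial.aeval _ (MvPolynomial.X 1) = _; simp
  have hβx : β X0 = 0 := by show MvPolynomial.aeval _ (MvPolynomial.X 0) = _; simp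
  have hβy : β Y0 = Polynomial.X := by show MvPolynomial.aeval _ (MvPolynomial.X 1) = _; simp
  have hdec : ∀ a : SpinCurv.PolyNodeRing k 0, a + algebraMap k _ ((α a).coeff 0) =
      Polynomial.aeval X0 (α a) + Polynomial.aeval Y0 (β a) ∧ (α a).coeff 0 = (β a).coeff 0 := by
    intro a
    obtain ⟨a, rfl⟩ := Ideal.Quotient.mk_surjective a
    induction a using MvPolynomial.induction_on with
    | C r =>
      rw [show (Ideal.Quotient.mk _ (MvPolynomial.C r) : SpinCurv.PolyNodeRing k 0) = algebraMap k _ r from rfl]
      simp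
    | add p q hp hq =>
      simp only [map_add, Polynomial.coeff_add] at hp hq ⊢
      exact ⟨by linear_combination hp.1 + hq.1, by rw [hp.2, hq.2]⟩
    | mul_X p i hp =>
      have hα0 : ∀ b : Polynomial k, (b * (0 : Polynomial k)).coeff 0 = 0 := fun b => by simp
      obtain rfl | rfl : i = 0 ∨ i = 1 := by omega
      · rw [map_mul, show (Ideal.Quotient.mk _ (MvPolynomial.X (0 : Fin 2)) : SpinCurv.PolyNodeRing k 0) = X0 from rfl]
        simp only [map_mul, hαx, hβx, mul_zero, map_zero, add_zero, Polynomial.aeval_X, Polynomial.coeff_mul_X_zero,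
          Polynomial.coeff_zero, and_true]
        have h := congrArg (· * X0) hp.1
        simp only [add_mul] at h
        have hy0 : Polynomial.aeval Y0 (β (Ideal.Quotient.mk _ p)) * X0 =
            algebraMap k _ ((β (Ideal.Quotient.mk _ p)).coeff 0) * X0 := by
          induction β (Ideal.Quotient.mk _ p) using Polynomial.induction_on' with
          | add u v hu hv => simp only [map_add, add_mul, Polynomial.coeff_add, hu, hv]
          | monomial n r =>
            rcases n with _ | n
            · simp
            · rw [Polynomial.aeval_monomial, pow_succ, mul_assoc, mul_assoc, mul_comm Y0 X0, hxy, mul_zero, mul_zero,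
                Polynomial.coeff_monomial, if_neg (by omega), map_zero (algebraMap k (SpinCurv.PolyNodeRing k 0)), zero_mul]
        rw [hy0, ← hp.2] at h
        exact add_right_cancel h
      · rw [map_mul, show (Ideal.Quotient.mk _ (MvPolynomial.X (1 : Fin 2)) : SpinCurv.PolyNodeRing k 0) = Y0 from rfl]
        simp only [map_mul, hαy, hβy, mul_zero, map_zero, add_zero, zero_add, Polynomial.aeval_X, Polynomial.coeff_mul_X_zero,
          Polynomial.coeff_zero, and_true]
        have h := congrArg (· * Y0) hp.1
        simp only [add_mul] at h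
        have hx0 : Polynomial.aeval X0 (α (Ideal.Quotient.mk _ p)) * Y0 =
            algebraMap k _ ((α (Ideal.Quotient.mk _ p)).coeff 0) * Y0 := by
          induction α (Ideal.Quotient.mk _ p) using Polynomial.induction_on' with
          | add u v hu hv => simp only [map_add, add_mul, Polynomial.coeff_add, hu, hv]
          | monomial n r =>
            rcases n with _ | n
            · simp
            · rw [Polynomial.aeval_monomial, pow_succ, mul_assoc, mul_assoc, hxy, mul_zero, mul_zero,
                Polynomial.coeff_monomial, if_neg (by omega), map_zero (algebraMap k (SpinCurv.PolyNodeRing k 0)), zero_mul]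
        rw [hx0] at h
        exact add_right_cancel (h.trans (add_comm _ _))
  have hker : ∀ a : SpinCurv.PolyNodeRing k 0, Y0 * a = 0 →
      (α a).coeff 0 = 0 ∧ a = Polynomial.aeval X0 (α a) := by
    intro a ha
    have hb : β a = 0 := by
      have h := congrArg β ha
      rw [map_mul, hβy, map_zero β] at h
      exact (mul_eq_zero.1 h).resolve_left Polynomial.X_ne_zero
    obtain ⟨h1, h2⟩ := hdec a
    rw [hb, Polynomial.coeff_zero] at h2
    rw [hb, map_zero (Polynomial.aeval Y0), add_zero, h2, map_zero (algebraMap k (SpinCurv.PolyNodeRing k 0)), add_zero] at h1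
    exact ⟨h2, h1⟩
  have hg := hker g (by have h := hy.1; rwa [hrUy] at h)
  have hf := hker f (by have h := hx.2; rwa [hrVx] at h)
  have key : ∀ {γ : SpinCurv.PolyNodeRing k 0 →ₐ[k] LaurentPolynomial k} (P : Polynomial k),
      γ X0 = LaurentPolynomial.T 1 → γ (Polynomial.aeval X0 P) = Polynomial.toLaurent P := fun P h => by
    rw [← Polynomial.aeval_algHom_apply, h, ← Polynomial.toLaurent_X]
    exact (Polynomial.aeval_algHom_apply (Polynomial.toLaurentAlg (R := k)) Polynomial.X P).trans (by simp)
  have e1 : gU g = Polynomial.toLaurent (α g) :=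
    (congrArg gU hg.2).trans (key (γ := gU) (α g) hgUs)
  have e2 : gV f = LaurentPolynomial.invert (Polynomial.toLaurent (α f)) := by
    refine (congrArg gV hf.2).trans ?_
    rw [← Polynomial.aeval_algHom_apply, hgVt,
      show (LaurentPolynomial.T (-1) : LaurentPolynomial k) = LaurentPolynomial.invert (Polynomial.toLaurentAlg Polynomial.X) by
        simp, Polynomial.aeval_algHom_apply, Polynomial.aeval_algHom_apply]
    simp
  rw [e1, e2] at hsec
  have hneg : ∀ (P : Polynomial k) (n : ℤ), n < 0 → (Polynomial.toLaurent P).coeff n = 0 := fun P n hn => by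
    refine Finsupp.notMem_support_iff.1 fun h => ?_
    rw [LaurentPolynomial.support_coeff_toLaurent] at h
    obtain ⟨m, -, rfl⟩ := Finset.mem_map.1 h
    simp at hn
    omega
  have hnat : ∀ (P : Polynomial k) (m : ℕ), (Polynomial.toLaurent P).coeff (m : ℤ) = P.coeff m := fun P m => by
    rw [LaurentPolynomial.coeff_toLaurent]
    exact Finsupp.mapDomain_apply Nat.castEmbedding.injective _ _
  have hshift : ∀ (L : LaurentPolynomial k) (n : ℤ), (LaurentPolynomial.T 1 * L).coeff n = L.coeff (n - 1) := fun L n => by
    rw [LaurentPolynomial.T, AddMonoidAlgebra.coeff_single_mul_apply, one_mul]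
    congr 1
    abel
  have hP : α g = 0 := by
    refine Polynomial.ext fun m => ?_
    rw [Polynomial.coeff_zero]
    rcases m with _ | m
    · exact hg.1
    · rw [← hnat, hsec, hshift, LaurentPolynomial.invert_apply]
      rcases m with _ | m
      · rw [show (-(((0 + 1 : ℕ) : ℤ) - 1)) = ((0 : ℕ) : ℤ) by simp, hnat]
        exact hf.1
      · exact hneg _ _ (by push_cast; omega)
  rw [hP, map_zero, eq_comm, (LaurentPolynomial.isUnit_T 1).mul_right_eq_zero, map_eq_zero_iff _
    LaurentPolynomial.invert.injective, Polynomial.toLaurent_eq_zero] at hsec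
  exact ⟨by rw [hg.2, hP, map_zero], by rw [hf.2, hsec, map_zero]⟩

end Groth.Agent.S18435
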