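import Groth.Statements.S18436
import Mathlib

set_option autoImplicit false
universe u
open SpinCurv

namespace Groth.Agent.S18436

section
variable {R : Type u} [CommRing R]

/-- value of a monomial in the basis indexed by `ℤ` -/
noncomputable def mc (q : R) (d : Fin 2 →₀ ℕ) : ℤ →₀ R :=
  Finsupp.single ((d 0 : ℤ) - (d 1 : ℤ)) (q ^ min (d 0) (d 1))

noncomputable def coordPre (q : R) : MvPolynomial (Fin 2) R →ₗ[R] (ℤ →₀ R) :=
  (MvPolynomial.basisMonomials (Fin 2) R).constr R (mc q)

theorem coordPre_monomial (q : R) (d : Fin 2 →₀ ℕ) : coordPre q (MvPolynomial.monomial d 1) = mc q d := by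
  have h : MvPolynomial.monomial d (1 : R) = MvPolynomial.basisMonomials (Fin 2) R d := by simp
  rw [h, coordPre, Module.Basis.constr_basis]

noncomputable def coord (q : R) : SpinCurv.PolyNodeRing R q →ₗ[R] (ℤ →₀ R) :=
  ((Ideal.span {(MvPolynomial.X 0 * MvPolynomial.X 1 - MvPolynomial.C q : MvPolynomial (Fin 2) R)}).restrictScalars R).liftQ
    (coordPre q) (by
      intro a ha
      obtain ⟨b, rfl⟩ := Ideal.mem_span_singleton'.1 ha
      rw [LinearMap.mem_ker]
      induction b using MvPolynomial.induction_on' with
      | add u v hu hv => rw [add_mul, map_add, hu (Ideal.mul_mem_left _ _ (Ideal.mem_span_singleton_self _)),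
          hv (Ideal.mul_mem_left _ _ (Ideal.mem_span_singleton_self _)), add_zero]
      | monomial d c =>
        have e : MvPolynomial.monomial d c * (MvPolynomial.X 0 * MvPolynomial.X 1 - MvPolynomial.C q) =
            c • MvPolynomial.monomial (d + Finsupp.single 0 1 + Finsupp.single 1 1) 1 - (c * q) • MvPolynomial.monomial d 1 := by
          simp only [MvPolynomial.X, mul_sub, MvPolynomial.monomial_mul, MvPolynomial.smul_monomial, smul_eq_mul,
            mul_one, MvPolynomial.C_apply, add_zero, add_assoc]
        rw [e, map_sub, map_smul, map_smul, coordPre_monomial, coordPre_monomial]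
        simp only [mc, Finsupp.add_apply, Finsupp.single_apply, Finsupp.smul_single, smul_eq_mul, reduceIte, Fin.reduceEq,
          add_zero, Nat.add_min_add_right, pow_succ]
        rw [show (((d 0 + 1 : ℕ) : ℤ) - ((d 1 + 1 : ℕ) : ℤ)) = (d 0 : ℤ) - (d 1 : ℤ) by push_cast; ring, sub_eq_zero]
        congr 1
        ring)

theorem coord_mk (q : R) (d : Fin 2 →₀ ℕ) : coord q (Ideal.Quotient.mk _ (MvPolynomial.monomial d 1)) = mc q d :=
  coordPre_monomial q d

/-- the basis element -/
noncomputable def bas (q : R) (m : ℤ) : SpinCurv.PolyNodeRing R q :=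
  if 0 ≤ m then SpinCurv.PolyNodeRing.x R q ^ m.toNat else SpinCurv.PolyNodeRing.y R q ^ (-m).toNat

theorem mk_monomial (q : R) (d : Fin 2 →₀ ℕ) : (Ideal.Quotient.mk _ (MvPolynomial.monomial d (1 : R)) : SpinCurv.PolyNodeRing R q) =
    SpinCurv.PolyNodeRing.x R q ^ d 0 * SpinCurv.PolyNodeRing.y R q ^ d 1 := by
  rw [MvPolynomial.monomial_eq, map_one, one_mul, Finsupp.prod_fintype _ _ (fun _ => pow_zero _), Fin.prod_univ_two,
    map_mul, map_pow, map_pow]

theorem xy_eq (q : R) : SpinCurv.PolyNodeRing.x R q * SpinCurv.PolyNodeRing.y R q = algebraMap R _ q := by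
  rw [SpinCurv.PolyNodeRing.x, SpinCurv.PolyNodeRing.y, ← map_mul]
  exact Ideal.Quotient.eq.2 (Ideal.mem_span_singleton_self _)

theorem coord_bas (q : R) (m : ℤ) : coord q (bas q m) = Finsupp.single m 1 := by
  rw [bas]
  split_ifs with h
  · have e : SpinCurv.PolyNodeRing.x R q ^ m.toNat =
        Ideal.Quotient.mk _ (MvPolynomial.monomial (Finsupp.single 0 m.toNat) (1 : R)) := by
      rw [mk_monomial]; simp
    rw [e, coord_mk, mc]
    simp [h]
  · have e : SpinCurv.PolyNodeRing.y R q ^ (-m).toNat =
        Ideal.Quotient.mk _ (MvPolynomial.monomial (Finsupp.single 1 (-m).toNat) (1 : R)) := by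
      rw [mk_monomial]; simp
    rw [e, coord_mk, mc]
    simp
    rw [Int.max_eq_left (by omega), neg_neg]

noncomputable def comb (q : R) : (ℤ →₀ R) →ₗ[R] SpinCurv.PolyNodeRing R q := Finsupp.linearCombination R (bas q)

theorem comb_coord (q : R) (z : SpinCurv.PolyNodeRing R q) : comb q (coord q z) = z := by
  obtain ⟨z, rfl⟩ := Ideal.Quotient.mk_surjective z
  induction z using MvPolynomial.induction_on' with
  | add u v hu hv => rw [map_add, map_add, map_add, hu, hv]
  | monomial d c =>
    have e : (Ideal.Quotient.mk _ (MvPolynomial.monomial d c) : SpinCurv.PolyNodeRing R q) =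
        c • Ideal.Quotient.mk _ (MvPolynomial.monomial d (1 : R)) := by
      rw [show MvPolynomial.monomial d c = c • MvPolynomial.monomial d (1 : R) by
        rw [MvPolynomial.smul_monomial, smul_eq_mul, mul_one]]
      rfl
    rw [e, map_smul, map_smul, coord_mk, mc, comb, Finsupp.linearCombination_single, mk_monomial, bas]
    congr 1
    refine (Algebra.smul_def (R := R) (A := SpinCurv.PolyNodeRing R q) _ _).trans ?_
    rw [map_pow, ← xy_eq, mul_pow]
    split_ifs with h
    · rw [min_eq_right (by omega), show ((d 0 : ℤ) - d 1).toNat = d 0 - d 1 by omega, mul_right_comm, ← pow_add,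
        show d 1 + (d 0 - d 1) = d 0 by omega]
    · rw [min_eq_left (by omega), show (-((d 0 : ℤ) - d 1)).toNat = d 1 - d 0 by omega, mul_assoc, ← pow_add,
        show d 0 + (d 1 - d 0) = d 1 by omega]

theorem hom_ext (q : R) {M : Type u} [AddCommGroup M] [Module R M] (f g : SpinCurv.PolyNodeRing R q →ₗ[R] M)
    (h : ∀ m, f (bas q m) = g (bas q m)) : f = g := by
  have : f ∘ₗ comb q = g ∘ₗ comb q := Finsupp.lhom_ext' fun m => LinearMap.ext_ring (by simp [comb, h])
  exact LinearMap.ext fun z => by rw [← comb_coord q z]; exact LinearMap.congr_fun this _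

end

/-- Let R be a commutative ring and p, q ∈ R, and consider the two affine charts U = Spec R[s, y]/(sy -
q) and V = Spec R[t, x]/(xt - p) of the curve obtained from the node xy = pq by the (p,
q)-construction, glued along R[s, s⁻¹] by t = s⁻¹ (so y = q s⁻¹ on U and x = p s on V). For an
integer n ≥ -1 the global sections of the twisting sheaf O(n) (equal to vⁿ O on U and to ξⁿ O on V,
ξ = s v) are the pairs (g, f) of functions on U and V with g = sⁿ f on U ∩ V. This R-module, written
as the kernel of the R-linear map (g, f) ↦ g|_{U ∩ V} - sⁿ · f|_{U ∩ V} into R[s, s⁻¹], is free over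
R (hence the direct image of O(n) on the node is flat over R). Both chart rings are written as the
quotient of the polynomial ring in two variables by (first variable)·(second variable) - constant,
and the two restriction homomorphisms to R[s, s⁻¹] are R-algebra maps pinned by their values on
generators. (The published setting has R complete local and p, q in the maximal ideal; the printed
computation uses neither.) -/
theorem result (R : Type u) [CommRing R] (p q : R)
    (gU : SpinCurv.PolyNodeRing R q →ₐ[R] LaurentPolynomial R)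
    (hgUs : gU (SpinCurv.PolyNodeRing.x R q) = LaurentPolynomial.T 1)
    (hgUy : gU (SpinCurv.PolyNodeRing.y R q) = LaurentPolynomial.C q * LaurentPolynomial.T (-1))
    (gV : SpinCurv.PolyNodeRing R p →ₐ[R] LaurentPolynomial R)
    (hgVt : gV (SpinCurv.PolyNodeRing.x R p) = LaurentPolynomial.T (-1))
    (hgVx : gV (SpinCurv.PolyNodeRing.y R p) = LaurentPolynomial.C p * LaurentPolynomial.T 1)
    (n : ℤ) (hn : -1 ≤ n) :
    Module.Free R (LinearMap.ker
      (gU.toLinearMap.comp (LinearMap.fst R (SpinCurv.PolyNodeRing R q) (SpinCurv.PolyNodeRing R p)) -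
        (LinearMap.mulLeft R (LaurentPolynomial.T n)).comp
          (gV.toLinearMap.comp (LinearMap.snd R (SpinCurv.PolyNodeRing R q) (SpinCurv.PolyNodeRing R p))))) := by
  classical
  let φ := gU.toLinearMap.comp (LinearMap.fst R (SpinCurv.PolyNodeRing R q) (SpinCurv.PolyNodeRing R p)) -
    (LinearMap.mulLeft R (LaurentPolynomial.T n)).comp
      (gV.toLinearMap.comp (LinearMap.snd R (SpinCurv.PolyNodeRing R q) (SpinCurv.PolyNodeRing R p)))
  let α : ℤ → R := fun m => q ^ (-m).toNat
  let β : ℤ → R := fun m => p ^ (m - n).toNat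
  have hTp : ∀ (a : ℤ) (j : ℕ), (LaurentPolynomial.T a : LaurentPolynomial R) ^ j = LaurentPolynomial.T (j * a) :=
    fun a j => LaurentPolynomial.T_pow a j
  have hU : ∀ m, gU (bas q m) = AddMonoidAlgebra.single m (α m) := by
    intro m
    rw [LaurentPolynomial.single_eq_C_mul_T, bas]
    split_ifs with h
    · rw [map_pow, hgUs, hTp]
      have : (-m).toNat = 0 := by omega
      simp [α, h, this]
    · rw [map_pow, hgUy, mul_pow, hTp, ← map_pow]
      congr 2
      omega
  have hV : ∀ l, LaurentPolynomial.T n * gV (bas p l) = AddMonoidAlgebra.single (n - l) (β (n - l)) := by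
    intro l
    rw [LaurentPolynomial.single_eq_C_mul_T, bas]
    split_ifs with h
    · rw [map_pow, hgVt, hTp, ← LaurentPolynomial.T_add]
      have : (n - l - n).toNat = 0 := by omega
      simp only [β, this, pow_zero, map_one, one_mul]
      congr 1
      omega
    · rw [map_pow, hgVx, mul_pow, hTp, ← map_pow, mul_left_comm, ← LaurentPolynomial.T_add]
      congr 2
      · simp only [β]; congr 2; omega
      · omega
  have hcU : ∀ (z : SpinCurv.PolyNodeRing R q) (m : ℤ), (gU z).coeff m = α m * coord q z m := by
    intro z m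
    conv_lhs => rw [← comb_coord q z, comb, Finsupp.linearCombination_apply, map_finsuppSum]
    simp only [map_smul, hU, AddMonoidAlgebra.smul_single', AddMonoidAlgebra.coeff_finsuppSum, AddMonoidAlgebra.coeff_single]
    rw [Finsupp.sum_apply]
    simp only [Finsupp.single_apply]
    rw [Finsupp.sum_ite_eq']
    split_ifs with h
    · rw [mul_comm]
    · rw [Finsupp.notMem_support_iff.1 h, mul_zero]
  have hcV : ∀ (z : SpinCurv.PolyNodeRing R p) (m : ℤ), (LaurentPolynomial.T n * gV z).coeff m = β m * coord p z (n - m) := by
    intro z m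
    conv_lhs => rw [← comb_coord p z, comb, Finsupp.linearCombination_apply, map_finsuppSum, Finsupp.mul_sum]
    simp only [map_smul, mul_smul_comm, hV, AddMonoidAlgebra.smul_single', AddMonoidAlgebra.coeff_finsuppSum, AddMonoidAlgebra.coeff_single]
    rw [Finsupp.sum_apply]
    simp only [Finsupp.single_apply]
    have hc : ∀ l, (n - l = m) ↔ (l = n - m) := fun l => by omega
    simp only [hc]
    rw [Finsupp.sum_ite_eq']
    split_ifs with h
    · rw [mul_comm, show n - (n - m) = m by omega]
    · rw [Finsupp.notMem_support_iff.1 h, mul_zero]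
  have hker : ∀ z, z ∈ LinearMap.ker φ ↔ ∀ m, α m * coord q z.1 m = β m * coord p z.2 (n - m) := by
    intro z
    rw [LinearMap.mem_ker]
    constructor
    · intro hz m
      rw [← hcU, ← hcV]
      have : gU z.1 = LaurentPolynomial.T n * gV z.2 := sub_eq_zero.1 hz
      rw [this]
    · intro hz
      refine sub_eq_zero.2 (AddMonoidAlgebra.coeff_injective (Finsupp.ext fun m => ?_))
      show (gU z.1).coeff m = (LaurentPolynomial.T n * gV z.2).coeff m
      rw [hcU, hcV, hz]
  let v : ℤ → SpinCurv.PolyNodeRing R q × SpinCurv.PolyNodeRing R p := fun m =>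
    if 0 ≤ m then (β m • bas q m, bas p (n - m)) else (bas q m, α m • bas p (n - m))
  let T : (ℤ →₀ R) →ₗ[R] SpinCurv.PolyNodeRing R q × SpinCurv.PolyNodeRing R p := Finsupp.linearCombination R v
  have hT1 : ∀ (t : ℤ →₀ R) (m : ℤ), coord q (T t).1 m = (if 0 ≤ m then β m else 1) * t m := by
    intro t m
    induction t using Finsupp.induction_linear with
    | zero => simp
    | add a b ha hb => simp [map_add, ha, hb, mul_add]
    | single j r =>
      simp only [T, Finsupp.linearCombination_single, v]
      split_ifs <;> simp [coord_bas, Finsupp.single_apply] <;> split_ifs <;> simp_all <;> first | ring | omega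
  have hT2 : ∀ (t : ℤ →₀ R) (m : ℤ), coord p (T t).2 (n - m) = (if 0 ≤ m then 1 else α m) * t m := by
    intro t m
    induction t using Finsupp.induction_linear with
    | zero => simp
    | add a b ha hb => simp [map_add, ha, hb, mul_add]
    | single j r =>
      simp only [T, Finsupp.linearCombination_single, v]
      split_ifs <;> simp [coord_bas, Finsupp.single_apply] <;> split_ifs <;> simp_all <;> first | ring | omega
  have hmem : ∀ t, T t ∈ LinearMap.ker φ := fun t => (hker _).2 fun m => by
    rw [hT1, hT2]
    split_ifs with h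
    · have : (-m).toNat = 0 := by omega
      simp [α, this]
    · have : (m - n).toNat = 0 := by omega
      simp [β, this]
  let ψ : SpinCurv.PolyNodeRing R q × SpinCurv.PolyNodeRing R p →ₗ[R] (ℤ →₀ R) :=
    (Finsupp.linearCombination R (fun m => if 0 ≤ m then 0 else Finsupp.single m 1)).comp ((coord q).comp (LinearMap.fst R _ _)) +
      (Finsupp.linearCombination R (fun l => if 0 ≤ n - l then Finsupp.single (n - l) 1 else 0)).comp ((coord p).comp (LinearMap.snd R _ _))
  have hψ : ∀ z m, ψ z m = if 0 ≤ m then coord p z.2 (n - m) else coord q z.1 m := by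
    intro z m
    have h1 : ∀ A : ℤ →₀ R, Finsupp.linearCombination R (fun m : ℤ => if 0 ≤ m then 0 else Finsupp.single m (1 : R)) A m =
        if 0 ≤ m then 0 else A m := by
      intro A
      induction A using Finsupp.induction_linear with
      | zero => simp
      | add a b ha hb => rw [map_add, Finsupp.add_apply, ha, hb]; split_ifs <;> simp
      | single j r => simp only [Finsupp.linearCombination_single]; split_ifs <;> simp [Finsupp.single_apply] <;> omega
    have h2 : ∀ A : ℤ →₀ R, Finsupp.linearCombination R (fun l : ℤ => if 0 ≤ n - l then Finsupp.single (n - l) (1 : R) else 0) A m =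
        if 0 ≤ m then A (n - m) else 0 := by
      intro A
      induction A using Finsupp.induction_linear with
      | zero => simp
      | add a b ha hb => rw [map_add, Finsupp.add_apply, ha, hb]; split_ifs <;> simp
      | single j r =>
        simp only [Finsupp.linearCombination_single]
        split_ifs <;> simp [Finsupp.single_apply] <;> (first | omega | (split_ifs <;> first | rfl | omega))
    simp only [ψ, LinearMap.add_apply, LinearMap.comp_apply, Finsupp.add_apply, LinearMap.fst_apply, LinearMap.snd_apply, h1, h2]
    split_ifs <;> simp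
  refine Module.Free.of_equiv (LinearEquiv.ofLinear (LinearMap.codRestrict (LinearMap.ker φ) T hmem) (ψ.comp (LinearMap.ker φ).subtype) ?_ ?_)
  · refine LinearMap.ext fun z => Subtype.ext ?_
    have hz := (hker z.1).1 z.2
    show T (ψ z.1) = z.1
    refine Prod.ext ?_ ?_
    · rw [← comb_coord q (T (ψ z.1)).1, ← comb_coord q z.1.1]
      congr 1
      ext m
      rw [hT1, hψ]
      split_ifs with h
      · rw [← hz m, show α m = 1 by simp [α, show (-m).toNat = 0 by omega], one_mul]
      · rw [one_mul]
    · rw [← comb_coord p (T (ψ z.1)).2, ← comb_coord p z.1.2]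
      congr 1
      ext l
      obtain ⟨m, rfl⟩ : ∃ m, n - m = l := ⟨n - l, by omega⟩
      rw [hT2, hψ]
      split_ifs with h
      · rw [one_mul]
      · rw [hz m, show β m = 1 by simp only [β, show (m - n).toNat = 0 by omega, pow_zero], one_mul]
  · refine LinearMap.ext fun t => Finsupp.ext fun m => ?_
    show ψ (T t) m = t m
    rw [hψ, hT1, hT2]
    split_ifs <;> simp

end Groth.Agent.S18436
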