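import Groth.Statements.S18438
import Groth.Agent.Lib.SurfRR10.Curves

set_option autoImplicit false
set_option linter.style.haveILetI false
set_option maxHeartbeats 2000000
set_option backward.isDefEq.respectTransparency false
set_option backward.isDefEq.respectTransparency.types false
universe u
open CategoryTheory CategoryTheory.Limits AlgebraicGeometry TopologicalSpace
open Surf

namespace Groth.Agent.S18438

noncomputable local instance instLawS18438 (Y : Scheme.{u}) : PicGrp.Law Y := M2.law Y

/-- Let k be an algebraically closed field and X a smooth projective surface over k whose anticanonical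
module is ample: X is an integral scheme, proper and smooth over k of dimension 2, W is a canonical
module (a second exterior power of Ω_{X/k}) and D a tensor inverse of W which is ample. Intersection
numbers of invertible modules are (L·M) = χ(O_X) − χ(L) − χ(M) + χ(L ⊗ M), so that for a closed
subscheme C with ideal I_C one has C·C = (I_C·I_C) and K·C = −(I_C·W). If C ⊆ X is an integral
closed one-dimensional subscheme with C·C < 0, then C is an exceptional curve of the first kind: C·C
= −1, K·C = −1 and H¹(C, O_C) = 0. (The published statement concerns del Pezzo surfaces of degree d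
embedded in projective d-space; its argument uses only the ampleness of the anticanonical module,
which is the hypothesis taken here.) -/
theorem result (k : Type u) [Field k] [IsAlgClosed k] (X : Scheme.{u})
    [X.Over (Spec (CommRingCat.of k))] [IsIntegral X] [IsProper (X ↘ (Spec (CommRingCat.of k)))] [Smooth (X ↘ (Spec (CommRingCat.of k)))]
    (hdim : topologicalKrullDim X = 2)
    (W : X.Modules) (hW : ExtPow.IsExtPow 2 (Omega.sheaf (X ↘ (Spec (CommRingCat.of k)))) W)
    (D : X.Modules) (hD : ClSub.IsInverseOf D W) (hample : CohB1.IsAmple D)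
    (C : X.IdealSheafData) (hC : IsIntegral C.subscheme) (hC1 : topologicalKrullDim (C.support : Set X) = 1)
    (hneg : FGA.intNum k X 2 ![ClSub.idealMod C, ClSub.idealMod C] (Coh.structureModule X) < 0) :
    FGA.intNum k X 2 ![ClSub.idealMod C, ClSub.idealMod C] (Coh.structureModule X) = -1 ∧
      FGA.intNum k X 2 ![ClSub.idealMod C, W] (Coh.structureModule X) = 1 ∧
      Subsingleton (Coh.HH C.subscheme (Coh.structureModule C.subscheme) 1) := by
  have hWi : PicF.IsInvertible W := SurfRR10.isInvertible_canonical hdim hW
  have hd := SurfRR10.dim_eq (k := k) hdim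
  obtain ⟨ξ, rfl, hξ⟩ := SurfR.exists_eq_ptIdeal C hC hC1
  have hIi := M2.isInvertible_idealMod _ (Goodman10.isEffCartier_pt (k := k) (SurfRR10.regular (k := k)) hd hξ)
  obtain ⟨g, hadj, -, hg0⟩ := SurfRR10.exists_genus hdim hW hWi hξ
  rw [SymSq10.intNum_eq' hd.le hIi hIi, SurfRR10.cls_ideal_pt (k := k) hdim hξ, SurfRR10.sdot_inv_left (k := k) hdim,
    SurfRR10.sdot_inv_right (k := k) hdim, neg_neg] at hneg ⊢
  rw [SymSq10.intNum_eq' hd.le hIi hWi, SurfRR10.cls_ideal_pt (k := k) hdim hξ, SurfRR10.sdot_inv_left (k := k) hdim]
  have hpos := SurfRR10.pos_of_isAmple (k := k) hdim hξ hample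
  rw [show PicGrp.cls D hample.1 = (PicGrp.cls W hWi)⁻¹ from
    eq_inv_of_mul_eq_one_left ((PicGrp.cls_mul_cls_eq_one_iff hample.1 hWi).2 hD),
    SurfRR10.sdot_inv_right (k := k) hdim] at hpos
  exact ⟨by omega, by omega, hg0.1 (by omega)⟩

end Groth.Agent.S18438
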