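import Groth.Statements.S18440
import Groth.Agent.Lib.SurfRR10.Curves

set_option autoImplicit false
set_option linter.style.haveILetI false
set_option maxHeartbeats 2000000
set_option backward.isDefEq.respectTransparency false
set_option backward.isDefEq.respectTransparency.types false
universe u
open CategoryTheory CategoryTheory.Limits AlgebraicGeometry TopologicalSpace
open Surf

namespace Groth.Agent.S18440

noncomputable local instance instLawS18440 (Y : Scheme.{u}) : PicGrp.Law Y := M2.law Y

/-- Let k be an algebraically closed field and X a smooth projective surface over k (an integral scheme,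
proper and smooth over k of dimension 2) with H¹(X, O_X) = 0, and W a canonical module of X (a
second exterior power of Ω_{X/k}). Let C ⊆ X be an integral closed one-dimensional subscheme, smooth
over k, of arithmetic genus one, written χ(O_C) = 0 with the Euler characteristic of O_C computed on
X through the closed immersion (k being algebraically closed and C integral, H⁰(C, O_C) = k, so this
says dim_k H¹(C, O_C) = 1), whose module O_X(C) — a tensor inverse N of the ideal I_C — is ample.
Then W ≅ I_C, that is ω_X ≅ O_X(−C) (existence of an isomorphism of invertible modules). (The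
published statement is that a smooth del Pezzo surface of degree d embedded in projective d-space
has canonical module O_X(−1); its argument takes C a general hyperplane section and uses about the
embedding only that C is a smooth curve of genus one and that H¹(X, O_X) vanishes, facts it draws
from results quoted without proof; those two properties are the hypotheses here.) -/
theorem result (k : Type u) [Field k] [IsAlgClosed k] (X : Scheme.{u})
    [X.Over (Spec (CommRingCat.of k))] [IsIntegral X] [IsProper (X ↘ (Spec (CommRingCat.of k)))] [Smooth (X ↘ (Spec (CommRingCat.of k)))]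
    (hdim : topologicalKrullDim X = 2)
    (W : X.Modules) (hW : ExtPow.IsExtPow 2 (Omega.sheaf (X ↘ (Spec (CommRingCat.of k)))) W)
    (hq : Subsingleton (Coh.HH X (Coh.structureModule X) 1))
    (C : X.IdealSheafData) (hC : IsIntegral C.subscheme) (hC1 : topologicalKrullDim (C.support : Set X) = 1)
    (hCs : Smooth (C.subschemeι ≫ (X ↘ (Spec (CommRingCat.of k)))))
    (hg : Curv2.euler k X (ClSub.quotMod C) = 0)
    (N : X.Modules) (hN : ClSub.IsInverseOf N (ClSub.idealMod C)) (hNample : CohB1.IsAmple N) :
    Nonempty (W ≅ ClSub.idealMod C) := by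
  have hd := SurfRR10.dim_eq (k := k) hdim
  have hWi : PicF.IsInvertible W := SurfRR10.isInvertible_canonical hdim hW
  obtain ⟨ξ, rfl, hξ⟩ := SurfR.exists_eq_ptIdeal C hC hC1
  have hIi := M2.isInvertible_idealMod _ (Goodman10.isEffCartier_pt (k := k) (SurfRR10.regular (k := k)) hd hξ)
  obtain ⟨g, hadj, hge, -⟩ := SurfRR10.exists_genus hdim hW hWi hξ
  obtain rfl : g = 1 := by rw [hg] at hge; omega
  obtain ⟨hNi, hc⟩ := SurfRR10.cls_of_isInverse (k := k) hdim hξ hN
  have hpos := SurfRR10.pos_of_isAmple (k := k) hdim hξ hNample
  rw [show PicGrp.cls N hNample.1 = SurfRR10.ncl (k := k) hdim hξ from hc] at hpos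
  set n := SurfRR10.ncl (k := k) hdim hξ
  set w := PicGrp.cls W hWi
  have h2 : HypSq10.hh k 2 (n * w) = 0 := by
    refine (SurfRR10.finrank_duality hdim hW hWi (n * w) (p := 2) le_rfl).trans ?_
    refine SurfRR10.subsingleton_h0_of_neg (k := k) hdim hNample _ ?_
    rw [show PicGrp.cls N hNample.1 = n from hc, show (n * w)⁻¹ * w = n⁻¹ by
      rw [mul_inv, mul_assoc, inv_mul_cancel, mul_one], SurfRR10.sdot_inv_left (k := k) hdim]
    omega
  have hq' : HypSq10.hh k 1 (1 : PicLoc.PicSet X) = 0 := by
    haveI : Subsingleton (Coh.HH X (HypSq10.rep (1 : PicLoc.PicSet X)) 1) :=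
      (CurveCoh17.hequiv k HypSq10.rep_one.some 1).toEquiv.subsingleton
    exact Module.finrank_zero_of_subsingleton
  have h00 : HypSq10.hh k 0 (1 : PicLoc.PicSet X) = 1 :=
    (CurveCoh17.hequiv k HypSq10.rep_one.some 0).finrank_eq.trans (SurfRR10.finrank_h0_eq_one (k := k))
  have hrr := SurfRR10.rr hdim hW hWi (n * w)
  rw [SurfRR10.phi, SymSq10.chi_eq_hh2 hd.le, SymSq10.chi_eq_hh2 hd.le, h2, hq', h00, SymSq10.sdot_mul hd.le,
    SurfRR10.sdot_mul_right (k := k) hdim, SurfRR10.sdot_mul_right (k := k) hdim, SymSq10.sdot_comm w n, SymSq10.sdot_mul hd.le] at hrr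
  haveI : Nontrivial (Coh.HH X (HypSq10.rep (n * w)) 0) := by
    refine Module.nontrivial_of_finrank_pos (R := k) ?_
    show 0 < HypSq10.hh k 0 (n * w)
    have : SymSq10.sdot k n n + SymSq10.sdot k n w = 0 := by simpa using hadj
    rw [show PicGrp.cls W hWi = w from rfl] at hrr
    omega
  obtain ⟨φ, hφ⟩ := SurfRR10.exists_sec_of_nontrivial (k := k) hdim (HypSq10.rep_inv (n * w)) inferInstance
  have h1 := SurfRR10.eq_one_of_sdot_zero (k := k) hdim hNample (HypSq10.rep_inv (n * w)) φ hφ (by
    rw [HypSq10.cls_rep, show PicGrp.cls N hNample.1 = n from hc, SymSq10.sdot_mul hd.le, SymSq10.sdot_comm w n]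
    simpa using hadj)
  rw [HypSq10.cls_rep] at h1
  exact (PicGrp.cls_eq_cls_iff hWi hIi).1 (by
    rw [SurfRR10.cls_ideal_pt (k := k) hdim hξ]; exact eq_inv_of_mul_eq_one_right h1)

end Groth.Agent.S18440
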