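import Groth.Statements.S18449
import Groth.Agent.Lib.NumConn10.Main
import Groth.Agent.Lib.Wedge2.Exists
import Groth.Agent.Lib.SymSq10.Canon

set_option autoImplicit false
set_option maxHeartbeats 1000000
set_option linter.style.haveILetI false
set_option backward.isDefEq.respectTransparency false
set_option backward.isDefEq.respectTransparency.types false
universe u
open CategoryTheory CategoryTheory.Limits AlgebraicGeometry TopologicalSpace
open Surf

namespace Groth.Agent.S18449

open Groth.Agent.NumPoly18 (ptIdeal isIntegral_pt)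
open Groth.Agent.SymSq10 (sdot)
open Groth.Agent.SurfRR10 (ncl)
open Groth.Agent.NumConn10 (icl tw)

noncomputable local instance instLawS18449 (Y : Scheme.{u}) : PicGrp.Law Y := M2.law Y

variable {k : Type u} [Field k] [IsAlgClosed k] {X : Scheme.{u}} [X.Over (Spec (CommRingCat.of k))]
  [IsProper (X ↘ Spec (CommRingCat.of k))] [Smooth (X ↘ Spec (CommRingCat.of k))] [IsIntegral X]
  (hdim : topologicalKrullDim X = 2)
include k hdim

theorem exists_canonical : ∃ W : X.Modules, ExtPow.IsExtPow 2 (Omega.sheaf (X ↘ Spec (CommRingCat.of k))) W := by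
  haveI := SurfRR10.smoothRelDim (k := k) hdim
  haveI : Coh.IsQCoh (Omega.sheaf (X ↘ Spec (CommRingCat.of k))) :=
    (CurveCoh17.isCoh_of_ofRank (SymSq10.isFinLocFreeOfRank_omega 2 (X ↘ Spec (CommRingCat.of k)))).1
  exact ⟨_, Wedge2.isExtPow_extMod 2 _⟩

/-- `H¹(O_C ⊗ M) = 0` on a curve with `χ(O_C) ≥ 1` for degree at least `-1`. -/
theorem subsingleton_h1_tw {ξ : X} (hξ : topologicalKrullDim (closure ({ξ} : Set X)) = 1)
    (hχ : 1 ≤ Curv2.euler k X (ClSub.quotMod (ptIdeal ξ))) {M : X.Modules} (hM : PicF.IsInvertible M)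
    (hd : -1 ≤ sdot k (ncl (k := k) hdim hξ) (PicGrp.cls M hM)) :
    Subsingleton (Coh.HH X (tw (ptIdeal ξ) M) 1) := by
  haveI : IsNoetherian X := CohFound.isNoetherian_of_isProper (X ↘ Spec (CommRingCat.of k))
  let ι := (ptIdeal ξ).subschemeι
  letI : (ptIdeal ξ).subscheme.Over (Spec (CommRingCat.of k)) := ⟨ι ≫ (X ↘ Spec (CommRingCat.of k))⟩
  haveI : IsProper ((ptIdeal ξ).subscheme ↘ Spec (CommRingCat.of k)) :=
    inferInstanceAs (IsProper (ι ≫ (X ↘ Spec (CommRingCat.of k))))
  haveI := (isIntegral_pt ξ).1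
  haveI : IsNoetherian (ptIdeal ξ).subscheme :=
    CohFound.isNoetherian_of_isProper ((ptIdeal ξ).subscheme ↘ Spec (CommRingCat.of k))
  have hd1 : topologicalKrullDim (ptIdeal ξ).subscheme ≤ 1 :=
    ((AmpleFin18.dim_subscheme _ (Scheme.IdealSheafData.coe_support_vanishingIdeal _)).trans hξ).le
  obtain ⟨M', hM', ⟨eM⟩⟩ := M2.exists_inverse hM
  let N := (Scheme.Modules.pullback ι).obj M
  have hN : PicF.IsInvertible N := PicLoc.isInvertible_pullback ι hM
  have hNc := CurveCoh17.isCoh_of_ofRank ((M2.isInvertible_iff_isFinLocFreeOfRank_one N).1 hN)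
  let j : tw (ptIdeal ξ) M ≅ (Scheme.Modules.pushforward ι).obj N :=
    (Kunneth22.projIso ι eM).app (Coh.structureModule _) ≪≫ (Scheme.Modules.pushforward ι).mapIso (M2.tensorLUnit _)
  obtain ⟨e⟩ := AmpleFin18.nonempty_HH_push (k := k) ι rfl N hNc.1 1
  have hdeg : sdot k (ncl (k := k) hdim hξ) (PicGrp.cls M hM) = Curv2.deg k (ptIdeal ξ).subscheme N 1 := by
    rw [← SurfRR10.cdeg_quot (k := k) hdim hξ hM, Curv2.deg, Nat.cast_one, one_mul,
      CurveCoh17.euler_iso (show CohB1.tensorMod (ClSub.quotMod (ptIdeal ξ)) M ≅ _ from j),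
      AmpleFin18.euler_push ι rfl _ (M1.isCoh_structureModule _).1, AmpleFin18.euler_push ι rfl _ hNc.1]
  have hX := CurveAmple18.curveLike k (ptIdeal ξ).subscheme hd1
  have h0 := SurfRR10.finrank_h0_eq_one (k := k) (X := (ptIdeal ξ).subscheme)
  have hg : (Curv2.genus k (ptIdeal ξ).subscheme : ℤ) ≤ 0 := by
    rw [AmpleFin18.euler_push ι rfl _ (M1.isCoh_structureModule _).1, hX.euler_structureModule, h0] at hχ
    omega
  haveI := hX.h1_subsingleton_of_deg (CurveCoh17.rkOne_of_invertible hd1 hN) h0 (by omega)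
  exact ((CurveCoh17.hequiv k j 1).trans e).toEquiv.subsingleton

theorem subsingleton_h1_of_forall (Z : X.IdealSheafData) (hZ : BlowUp.IsEffCartierIdeal Z) (hne : Z ≠ ⊤)
    (hall : ∀ D J : X.IdealSheafData, BlowUp.IsEffCartierIdeal D → BlowUp.IsEffCartierIdeal J → D ≠ ⊤ → Z = D * J →
      1 ≤ Curv2.euler k X (ClSub.quotMod D)) : Subsingleton (Coh.HH X (ClSub.quotMod Z) 1) := by
  haveI : IsNoetherian X := CohFound.isNoetherian_of_isProper (X ↘ Spec (CommRingCat.of k))
  haveI := SecDiv.wellFoundedGT (X := X)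
  induction Z using (wellFounded_gt (α := X.IdealSheafData)).induction with
  | _ Z ih =>
    obtain ⟨W, hW⟩ := exists_canonical (k := k) hdim
    have hWi := SurfRR10.isInvertible_canonical hdim hW
    have htop : BlowUp.IsEffCartierIdeal (⊤ : X.IdealSheafData) :=
      EffCartier.isEffCartierIdeal_of_mul_right (show BlowUp.IsEffCartierIdeal (Z * ⊤) by rwa [SecDiv.mul_top'])
    have hχZ := hall Z ⊤ hZ htop hne (SecDiv.mul_top' Z).symm
    have hadj := SurfRR10.adjunction hdim hW hWi hZ
    obtain ⟨ξ, hξ, hle, hneg⟩ : ∃ (ξ : X) (hξ : topologicalKrullDim (closure ({ξ} : Set X)) = 1), Z ≤ ptIdeal ξ ∧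
        sdot k (ncl (k := k) hdim hξ) ((icl hZ)⁻¹ * PicGrp.cls W hWi) < 0 := by
      by_contra hcon
      push Not at hcon
      have h := NumConn10.sdot_icl_nonpos (k := k) hdim ((icl hZ)⁻¹ * PicGrp.cls W hWi) Z hZ fun ξ hξ hl => hcon ξ hξ hl
      rw [SymSq10.sdot_mul (k := k) (SurfRR10.dim_eq (k := k) hdim).le, SurfRR10.sdot_inv_left (k := k) hdim,
        SymSq10.sdot_comm (PicGrp.cls W hWi)] at h
      have he : sdot k (icl hZ) (icl hZ) - sdot k (icl hZ) (PicGrp.cls W hWi) = -2 * Curv2.euler k X (ClSub.quotMod Z) := hadj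
      omega
    have hC := NumConn10.cartier_pt (k := k) hdim hξ
    obtain ⟨K, r, hK, hmul, hZK, -, -⟩ := NumConn10.exists_split hZ hC hle
    have hCne : ptIdeal ξ ≠ ⊤ := fun e => by
      have hm : ξ ∈ ((ptIdeal ξ).support : Set X) := by
        rw [Scheme.IdealSheafData.coe_support_vanishingIdeal]
        exact subset_closure rfl
      rw [e] at hm
      simp at hm
    have hχC := hall (ptIdeal ξ) K hC hK hCne (by rw [← hmul, mul_comm])
    have hX₁ : Subsingleton (Coh.HH X (tw (ptIdeal ξ) (ClSub.idealMod K)) 1) := by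
      refine subsingleton_h1_tw (k := k) hdim hξ hχC (M2.isInvertible_idealMod K hK) ?_
      obtain ⟨g, hg, hgχ, -⟩ := SurfRR10.exists_genus hdim hW hWi hξ
      have hmulc := NumConn10.icl_mul hK hC (by rw [hmul]; exact hZ)
      rw [NumConn10.icl_congr (by rw [hmul]; exact hZ) hZ hmul, NumConn10.icl_pt (k := k) hdim hξ] at hmulc
      rw [hmulc, mul_inv, inv_inv, SurfRR10.sdot_mul_right (k := k) hdim, SurfRR10.sdot_mul_right (k := k) hdim,
        SurfRR10.sdot_inv_right (k := k) hdim] at hneg
      show -1 ≤ sdot k (ncl (k := k) hdim hξ) (icl hK)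
      omega
    by_cases hKt : K = ⊤
    · subst hKt
      have hq : Z = ptIdeal ξ := by rw [← hmul, mul_comm]; exact SecDiv.mul_top' _
      subst hq
      have hO := PicLoc.isInvertible_structureModule X
      haveI := subsingleton_h1_tw (k := k) hdim hξ hχC hO (by
        rw [show PicGrp.cls (Coh.structureModule X) hO = (1 : PicLoc.PicSet X) from PicGrp.cls_structureModule_eq_one ..,
          SymSq10.sdot_comm, SymSq10.sdot_one_left]
        norm_num)
      exact (CurveCoh17.hequiv k (show tw (ptIdeal ξ) (Coh.structureModule X) ≅ ClSub.quotMod (ptIdeal ξ) from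
        M2.tensorRUnit (ClSub.quotMod (ptIdeal ξ))) 1).symm.toEquiv.subsingleton
    · have hX₃ : Subsingleton (Coh.HH X (ClSub.quotMod K) 1) :=
        ih K (NumConn10.lt_of_split (k := k) hdim hξ hZ hK hmul hZK) hK hKt fun D J hD hJ hDne hKD =>
          hall D (J * ptIdeal ξ) hD (EffCartier.isEffCartierIdeal_mul hJ hC) hDne (by rw [← hmul, hKD, mul_assoc])
      obtain ⟨S, hS, ⟨e₁⟩, e₂, e₃, π, -, -, -⟩ := ArInter.exists_quot_ses hC hK
      haveI : Subsingleton (Coh.HH X S.X₁ 1) :=
        (CurveCoh17.hequiv k (e₁ ≪≫ M2.tensorComm _ _) 1).toEquiv.subsingleton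
      haveI : Subsingleton (Coh.HH X S.X₃ 1) := (CurveCoh17.hequiv k e₃ 1).toEquiv.subsingleton
      haveI : Subsingleton (Coh.HH X S.X₂ 1) := subsingleton_of_forall_eq 0 fun x => by
        obtain ⟨y, rfl⟩ := (CurveCoh17.exact_hmap_hmap k hS 1 x).1 (Subsingleton.elim _ _)
        rw [Subsingleton.elim y 0, map_zero]
      exact (CurveCoh17.hequiv k (e₂ ≪≫ eqToIso (by rw [mul_comm, hmul])) 1).symm.toEquiv.subsingleton


/-- Let k be an algebraically closed field of characteristic zero and X a smooth projective surface over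
k (an integral scheme, proper and smooth over k, of dimension 2). Let Z be a nonzero effective
Cartier divisor on X, given by its ideal sheaf I_Z ≠ O_X, and consider the nonzero effective Cartier
divisors Z' ≤ Z, i.e. those with I_Z = I_{Z'} · J for some effective Cartier ideal J. Then H¹(Z',
O_{Z'}) = 0 for every such Z' if and only if χ(O_{Z'}) ≥ 1, i.e. the arithmetic genus 1 − χ(O_{Z'})
is at most 0, for every such Z'; here cohomology and Euler characteristics are computed on X through
the direct image of O_{Z'}. The published statement is about the cycles supported on the exceptional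
curves of a resolution of a normal surface singularity over the complex numbers, where the first
condition is rationality of the singularity; this row states the equivalence, which the printed
induction proves using only adjunction and the sub-divisors of the given cycle, for the sub-divisors
of one effective divisor. -/
theorem result (k : Type u) [Field k] [IsAlgClosed k] [CharZero k]
    (X : Scheme.{u}) [X.Over (Spec (CommRingCat.of k))] [IsProper (X ↘ (Spec (CommRingCat.of k)))]
    [Smooth (X ↘ (Spec (CommRingCat.of k)))] [IsIntegral X] (hdim : topologicalKrullDim X = 2)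
    (Z : X.IdealSheafData) (hZ : FGA.IsEffCartier Z) (hZ0 : Z ≠ ⊤) :
    (∀ Z' J : X.IdealSheafData, FGA.IsEffCartier Z' → FGA.IsEffCartier J → Z' ≠ ⊤ → Z = Z' * J →
        Subsingleton (Coh.HH X (ClSub.quotMod Z') 1)) ↔
      (∀ Z' J : X.IdealSheafData, FGA.IsEffCartier Z' → FGA.IsEffCartier J → Z' ≠ ⊤ → Z = Z' * J →
        1 ≤ Curv2.euler k X (ClSub.quotMod Z')) := by
  haveI : IsNoetherian X := CohFound.isNoetherian_of_isProper (X ↘ Spec (CommRingCat.of k))
  have hd2 := SurfRR10.dim_eq (k := k) hdim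
  refine ⟨fun h Z' J hZ' hJ hne hmul => ?_, fun h Z' J hZ' hJ hne hmul => ?_⟩
  · haveI := h Z' J hZ' hJ hne hmul
    haveI : Module.Finite k (Coh.HH X (ClSub.quotMod Z') 0) :=
      CohFound.finite_HH_of_isProper _ (CurveCoh17.isCoh_quotMod Z') 0
    have hdimS : topologicalKrullDim (CohB1.support (ClSub.quotMod Z')) ≤ ((2 : ℕ) : WithBot ℕ∞) :=
      NumPoly18.dim_support_le hd2.le _
    have hpos : 0 < Module.finrank k (Coh.HH X (ClSub.quotMod Z') 0) := by
      rw [Module.finrank_pos_iff]
      by_contra hnt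
      rw [not_nontrivial_iff_subsingleton] at hnt
      have h2 : (ClSub.toSubscheme Z').app ⊤ (M1.one ⊤) = 0 :=
        (CurveCoh17.hh0 (ClSub.quotMod Z')).symm.injective (Subsingleton.elim _ _)
      refine hne ((Scheme.IdealSheafData.support_eq_bot_iff Z').1 (SetLike.coe_injective
        (Set.eq_empty_of_forall_notMem fun x hx => ?_)))
      have h3 : CurveCoh17.stalkLin (ClSub.toSubscheme Z') x (NumConn10.oneAt x) = 0 := by
        show (M1.stalkAb x).map (ClSub.toSubscheme Z') ((Coh.structureModule X).presheaf.germ ⊤ x trivial (M1.one ⊤)) = 0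
        rw [M1.germ_naturality, h2, map_zero]
      rw [← NumPoly18.support_quotMod] at hx
      refine hx (subsingleton_of_forall_eq 0 fun y => ?_)
      obtain ⟨b, rfl⟩ := NumConn10.surjective_toSubscheme Z' x y
      obtain ⟨c, rfl⟩ := NumConn10.exists_smul_one x b
      rw [map_smul, h3, smul_zero]
    have he : Curv2.euler k X (ClSub.quotMod Z') = (Module.finrank k (Coh.HH X (ClSub.quotMod Z') 0) : ℤ)
        + Module.finrank k (Coh.HH X (ClSub.quotMod Z') 2) := by
      rw [Curv2.euler, finsum_eq_finsetSum_of_support_subset (s := Finset.range 3)]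
      · rw [Finset.sum_range_succ, Finset.sum_range_succ, Finset.sum_range_one,
          Module.finrank_zero_of_subsingleton (R := k) (M := Coh.HH X (ClSub.quotMod Z') 1)]
        ring
      · intro i hi
        simp only [Finset.coe_range, Set.mem_Iio]
        by_contra hlt
        haveI := NumPoly18.subsingleton_HH_of_support (k := k) (CurveCoh17.isCoh_quotMod Z') hdimS (show 2 < i by omega)
        exact hi (by simp [Module.finrank_zero_of_subsingleton])
    omega
  · exact subsingleton_h1_of_forall (k := k) hdim Z' hZ' hne fun D J' hD hJ' hDne hm =>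
      h D (J' * J) hD (EffCartier.isEffCartierIdeal_mul hJ' hJ) hDne (by rw [hmul, hm, mul_assoc])

end Groth.Agent.S18449
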