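import Groth.Statements.S18454
import Groth.Agent.Lib.NumConn10.Rational
import Groth.Agent.Lib.NumPoly18.SurfCones

set_option autoImplicit false
set_option maxHeartbeats 1000000
set_option linter.style.haveILetI false
set_option backward.isDefEq.respectTransparency false
set_option backward.isDefEq.respectTransparency.types false
universe u
open CategoryTheory CategoryTheory.Limits AlgebraicGeometry TopologicalSpace
open Surf

namespace Groth.Agent.S18454

open Groth.Agent.SymSq10 (sdot)
open Groth.Agent.SurfRR10 (ncl)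

noncomputable local instance instLawS18454 (Y : Scheme.{u}) : PicGrp.Law Y := M2.law Y


/-- Let k be an algebraically closed field of characteristic zero and X a smooth projective surface over
k (integral, proper and smooth over k, of dimension 2). Let C_1, …, C_r (r ≥ 1) be pairwise distinct
integral curves on X, with ideal sheaves I_i, forming a connected configuration whose intersection
matrix is negative definite: writing (A·B) = χ(O_X) − χ(A) − χ(B) + χ(A ⊗ B), there is no partition
of the indices into two nonempty sets with (I_i·I_j) = 0 for all i, j on opposite sides, and Σ_{i,j}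
a_i a_j (I_i·I_j) < 0 for every nonzero integer vector a. Let Z₀ be a fundamental cycle of the
configuration: a nonzero effective Cartier divisor supported on ⋃ C_i such that Z₀·C_i ≤ 0 for every
i, stated as deg(I_{Z₀}|_{C_i}) = χ(O_{C_i} ⊗ I_{Z₀}) − χ(O_{C_i}) ≥ 0, and such that every nonzero
effective Cartier divisor Z supported on ⋃ C_i with the same property satisfies Z ≥ Z₀ (I_Z ⊆
I_{Z₀}). Then H¹(Z, O_Z) = 0 for every nonzero effective Cartier divisor Z supported on ⋃ C_i if and
only if χ(O_{Z₀}) = 1, i.e. the arithmetic genus of Z₀ is 0; cohomology and Euler characteristics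
are computed on X through direct images. The published statement characterises rationality of the
normal surface singularity obtained by contracting the configuration over the complex numbers; this
row uses the equivalent condition that H¹(O_Z) = 0 for every nonzero effective divisor Z supported
on the configuration, which is what the printed algebraic argument establishes. -/
theorem result (k : Type u) [Field k] [IsAlgClosed k] [CharZero k]
    (X : Scheme.{u}) [X.Over (Spec (CommRingCat.of k))] [IsProper (X ↘ (Spec (CommRingCat.of k)))]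
    [Smooth (X ↘ (Spec (CommRingCat.of k)))] [IsIntegral X] (hdim : topologicalKrullDim X = 2)
    (r : ℕ) (hr : 0 < r) (C : Fin r → X.IdealSheafData) (hC : Function.Injective C)
    (hCi : ∀ i, IsIntegral (C i).subscheme) (hCd : ∀ i, topologicalKrullDim ((C i).support : Set X) = 1)
    (hconn : ∀ S : Finset (Fin r), S.Nonempty → Sᶜ.Nonempty →
      ∃ i ∈ S, ∃ j ∈ Sᶜ, FGA.intNum k X 2 ![(ClSub.idealMod (C i)), (ClSub.idealMod (C j))] (Coh.structureModule X) ≠ 0)
    (hneg : ∀ a : Fin r → ℤ, a ≠ 0 →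
      ∑ i, ∑ j, a i * a j * FGA.intNum k X 2 ![(ClSub.idealMod (C i)), (ClSub.idealMod (C j))] (Coh.structureModule X) < 0)
    (Z₀ : X.IdealSheafData) (hZ₀ : FGA.IsEffCartier Z₀) (hZ₀0 : Z₀ ≠ ⊤)
    (hZ₀s : (Z₀.support : Set X) ⊆ ⋃ i, ((C i).support : Set X))
    (hZ₀C : ∀ i, 0 ≤ Curv2.euler k X (CohB1.tensorMod (ClSub.quotMod (C i)) (ClSub.idealMod Z₀)) -
      Curv2.euler k X (ClSub.quotMod (C i)))
    (hZ₀min : ∀ Z : X.IdealSheafData, FGA.IsEffCartier Z → Z ≠ ⊤ → (Z.support : Set X) ⊆ ⋃ i, ((C i).support : Set X) →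
      (∀ i, 0 ≤ Curv2.euler k X (CohB1.tensorMod (ClSub.quotMod (C i)) (ClSub.idealMod Z)) -
        Curv2.euler k X (ClSub.quotMod (C i))) → Z ≤ Z₀) :
    (∀ Z : X.IdealSheafData, FGA.IsEffCartier Z → Z ≠ ⊤ → (Z.support : Set X) ⊆ ⋃ i, ((C i).support : Set X) →
        Subsingleton (Coh.HH X (ClSub.quotMod Z) 1)) ↔
      Curv2.euler k X (ClSub.quotMod Z₀) = 1 := by
  haveI : IsNoetherian X := CohFound.isNoetherian_of_isProper (X ↘ Spec (CommRingCat.of k))
  have hd2 := (SurfRR10.dim_eq (k := k) hdim).le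
  choose η hCη hη using fun i => SurfR.exists_eq_ptIdeal (C i) (hCi i) (hCd i)
  have hinj : Function.Injective η := fun i j h => hC (by rw [hCη i, hCη j, h])
  have hint : ∀ i j, FGA.intNum k X 2 ![(ClSub.idealMod (C i)), (ClSub.idealMod (C j))] (Coh.structureModule X) =
      sdot k (ncl (k := k) hdim (hη i)) (ncl (k := k) hdim (hη j)) := fun i j => by
    rw [hCη i, hCη j, SymSq10.intNum_eq' hd2 (M2.isInvertible_idealMod _ (NumConn10.cartier_pt (k := k) hdim (hη i)))
      (M2.isInvertible_idealMod _ (NumConn10.cartier_pt (k := k) hdim (hη j))),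
      SurfRR10.cls_ideal_pt (k := k) hdim (hη i), SurfRR10.cls_ideal_pt (k := k) hdim (hη j),
      SurfRR10.sdot_inv_left (k := k) hdim, SurfRR10.sdot_inv_right (k := k) hdim, neg_neg]
  have hdc : ∀ (Z : X.IdealSheafData) (hZ : BlowUp.IsEffCartierIdeal Z) (i : Fin r),
      Curv2.euler k X (CohB1.tensorMod (ClSub.quotMod (C i)) (ClSub.idealMod Z)) - Curv2.euler k X (ClSub.quotMod (C i)) =
        sdot k (ncl (k := k) hdim (hη i)) (NumConn10.icl hZ) := fun Z hZ i => by
    rw [hCη i]
    exact SurfRR10.cdeg_quot (k := k) hdim (hη i) (M2.isInvertible_idealMod Z hZ)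
  have hpos : ∀ i, 0 ≤ sdot k (ncl (k := k) hdim (hη i)) (NumConn10.icl (show BlowUp.IsEffCartierIdeal Z₀ from hZ₀)) :=
    fun i => hdc Z₀ hZ₀ i ▸ hZ₀C i
  have hmin : ∀ (J : X.IdealSheafData) (hJ : BlowUp.IsEffCartierIdeal J), J ≠ ⊤ →
      (J.support : Set X) ⊆ ⋃ i, ((C i).support : Set X) →
      (∀ i, 0 ≤ sdot k (ncl (k := k) hdim (hη i)) (NumConn10.icl hJ)) → J ≤ Z₀ :=
    fun J hJ hJt hJs h => hZ₀min J hJ hJt hJs fun i => (hdc J hJ i).symm ▸ h i
  have hconn' : ∀ S : Finset (Fin r), S.Nonempty → Sᶜ.Nonempty →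
      ∃ i ∈ S, ∃ j ∈ Sᶜ, sdot k (ncl (k := k) hdim (hη i)) (ncl (k := k) hdim (hη j)) ≠ 0 := fun S h1 h2 => by
    obtain ⟨i, hi, j, hj, hij⟩ := hconn S h1 h2
    exact ⟨i, hi, j, hj, hint i j ▸ hij⟩
  refine ⟨fun h => ?_, fun hχ Z hZ hZne hZs => ?_⟩
  · have h0 := NumConn10.finrank_h0_fundamental (k := k) hdim hη hCη hZ₀ hZ₀0 hZ₀s hpos hmin
    obtain ⟨h1, h2⟩ := NumConn10.one_le_euler_of_h1 (k := k) hdim hZ₀ hZ₀0 (h Z₀ hZ₀ hZ₀0 hZ₀s)
    omega
  · exact NumConn10.h1_of_support (k := k) hdim hη hCη hZ₀ hZ₀0 hZ₀s hpos hmin hconn' hinj hχ hZ hZs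

end Groth.Agent.S18454
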