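import Groth.Statements.S18455
import Groth.Agent.S14520

set_option autoImplicit false
set_option maxHeartbeats 1000000
set_option linter.style.haveILetI false
set_option backward.isDefEq.respectTransparency false
set_option backward.isDefEq.respectTransparency.types false
universe u
open CategoryTheory CategoryTheory.Limits AlgebraicGeometry TopologicalSpace
open Surf

namespace Groth.Agent.S18455

open TopologicalSpace
open Groth.Agent Groth.Agent.NumConn10
open Groth.Agent.SymSq10 (sdot)
open Groth.Agent.HypSq10 (chi rep rep_inv cls_rep)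
open Groth.Agent.NumPoly18 (ptIdeal)
open Groth.Agent.DivDesc12 (stI)

noncomputable local instance instLawMult (Y : Scheme.{u}) : PicGrp.Law Y := M2.law Y


/-- Let k be an algebraically closed field of characteristic zero and X a smooth projective surface over
k (integral, proper and smooth over k, of dimension 2) with canonical module W, a second exterior
power of Ω_{X/k}. Let x be a closed point of X and π : X' → X a blowing up of X in the ideal of x
(characterised by its universal property), with X' again an integral scheme of dimension 2, proper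
and smooth over k through π, W' a canonical module of X' and I_E the exceptional ideal (the inverse
image of the ideal of x). Let C be an integral curve on X with ideal I_C and C' an integral curve on
X' with ideal I_{C'}, such that the inverse image ideal of C on X' equals I_{C'} · I_E^m for some
natural number m; thus C' is the proper transform of C and m the multiplicity of C at x. Writing
(A·B) = χ(O) − χ(A) − χ(B) + χ(A ⊗ B) for intersection numbers on X and on X', one has
(I_{C'}·I_{C'}) − (I_{C'}·W') = (I_C·I_C) − (I_C·W) − m(m − 1); in terms of arithmetic genera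
2p_a(C') − 2 = K'·C' + C'² = K·C + C² − m(m−1) = 2p_a(C) − 2 − m(m−1), so p_a drops by m(m−1)/2. -/
theorem result (k : Type u) [Field k] [IsAlgClosed k] [CharZero k]
    (X : Scheme.{u}) [X.Over (Spec (CommRingCat.of k))] [IsProper (X ↘ (Spec (CommRingCat.of k)))]
    [Smooth (X ↘ (Spec (CommRingCat.of k)))] [IsIntegral X] (hdim : topologicalKrullDim X = 2)
    (W : X.Modules) (hW : ExtPow.IsExtPow 2 (Omega.sheaf (X ↘ (Spec (CommRingCat.of k)))) W)
    (x : X) (hx : IsClosed ({x} : Set X))
    (X' : Scheme.{u}) (π : X' ⟶ X) (hπ : BlowUp.IsBlowUp π (Scheme.IdealSheafData.vanishingIdeal ⟨{x}, hx⟩))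
    [IsIntegral X'] (hdim' : topologicalKrullDim X' = 2)
    [IsProper (π ≫ (X ↘ (Spec (CommRingCat.of k))))] [Smooth (π ≫ (X ↘ (Spec (CommRingCat.of k))))]
    (W' : X'.Modules) (hW' : ExtPow.IsExtPow 2 (Omega.sheaf (π ≫ (X ↘ (Spec (CommRingCat.of k))))) W')
    (C : X.IdealSheafData) (hCi : IsIntegral C.subscheme) (hCd : topologicalKrullDim (C.support : Set X) = 1)
    (C' : X'.IdealSheafData) (hC'i : IsIntegral C'.subscheme) (hC'd : topologicalKrullDim (C'.support : Set X') = 1)
    (m : ℕ) (hm : C.comap π = C' * (BlowUp.exceptional π (Scheme.IdealSheafData.vanishingIdeal ⟨{x}, hx⟩)) ^ m) :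
    letI : X'.Over (Spec (CommRingCat.of k)) := ⟨π ≫ (X ↘ (Spec (CommRingCat.of k)))⟩
    FGA.intNum k X' 2 ![(ClSub.idealMod C'), (ClSub.idealMod C')] (Coh.structureModule X') -
        FGA.intNum k X' 2 ![(ClSub.idealMod C'), W'] (Coh.structureModule X') =
      FGA.intNum k X 2 ![(ClSub.idealMod C), (ClSub.idealMod C)] (Coh.structureModule X) -
        FGA.intNum k X 2 ![(ClSub.idealMod C), W] (Coh.structureModule X) - (m : ℤ) * ((m : ℤ) - 1) := by
  classical
  letI : X'.Over (Spec (CommRingCat.of k)) := ⟨π ≫ (X ↘ (Spec (CommRingCat.of k)))⟩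
  haveI : IsProper (X' ↘ Spec (CommRingCat.of k)) := inferInstanceAs (IsProper (π ≫ (X ↘ Spec (CommRingCat.of k))))
  haveI : Smooth (X' ↘ Spec (CommRingCat.of k)) := inferInstanceAs (Smooth (π ≫ (X ↘ Spec (CommRingCat.of k))))
  haveI : IsNoetherian X := CohFound.isNoetherian_of_isProper (X ↘ Spec (CommRingCat.of k))
  haveI : IsNoetherian X' := CohFound.isNoetherian_of_isProper (X' ↘ Spec (CommRingCat.of k))
  obtain ⟨hX'i, hgenX, hgP⟩ := BlowUpFib6.isIntegral_of_isBlowUp hπ
  let f := π
  let J := PointBlowUp.ptIdeal hx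
  let U : X.Opens := ⟨{x}ᶜ, hx.isOpen_compl⟩
  have hU : IsIso (π ∣_ U) := PointBlowUp.isIso_restrict hx hπ
  have hUne : (U : Set X).Nonempty := ⟨_, fun (h : genericPoint X = x) => hgP (by
    rw [← SetLike.mem_coe, Scheme.IdealSheafData.coe_support_vanishingIdeal]; exact h)⟩
  have hd := SurfRR10.dim_eq (k := k) (X := X) hdim
  have hd' := SurfRR10.dim_eq (k := k) (X := X') hdim'
  have hregX : ∀ z : X, IsRegularLocalRing (X.presheaf.stalk z) := SurfRR10.regular (k := k)
  haveI := hregX x
  have hirr : ∀ Z ∈ irreducibleComponents (X : Type u), topologicalKrullDim Z = 2 := by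
    intro Z hZ
    rw [irreducibleComponents_eq_singleton] at hZ
    rw [Set.mem_singleton_iff.1 hZ, (Homeomorph.Set.univ X).isHomeomorph.topologicalKrullDim_eq, hdim]
  have hst := BlowInt10.ringKrullDim_stalk_of_components (k := k) hirr hx
  have hjI : ∀ {A B : Scheme.{u}} (i : A ⟶ B) [IsClosedImmersion i] [IsIntegral A],
      i.ker = ptIdeal (i (genericPoint A)) ∧ Set.range i = closure {i (genericPoint A)} ∧
        topologicalKrullDim (closure ({i (genericPoint A)} : Set B)) = topologicalKrullDim A := fun {A B} i _ _ => by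
    have hr : Set.range i = closure {i (genericPoint A)} := by
      have h := ((genericPoint_spec A).image i.continuous).def
      rw [Set.image_univ, i.isClosedEmbedding.isClosed_range.closure_eq] at h
      exact h.symm
    refine ⟨?_, hr, ?_⟩
    · rw [SchImage.ker_eq_vanishingIdeal i]
      congr 1
      refine Closeds.ext ?_
      show closure (Set.range i) = closure {i (genericPoint A)}
      rw [hr, closure_closure]
    · rw [← hr, ← i.isClosedEmbedding.isEmbedding.toHomeomorph.isHomeomorph.topologicalKrullDim_eq]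
  haveI := hCi
  obtain ⟨hkC, hrC, hξ⟩ := hjI C.subschemeι
  rw [Scheme.IdealSheafData.ker_subschemeι] at hkC
  rw [Scheme.IdealSheafData.range_subschemeι] at hrC
  rw [← hrC] at hξ
  have hξ1 : topologicalKrullDim (closure ({C.subschemeι (genericPoint C.subscheme)} : Set X)) = 1 := by
    rw [← hrC]; exact hCd
  have hKc : BlowUp.IsEffCartierIdeal C := by rw [hkC]; exact cartier_pt (k := k) hdim hξ1
  have hgenK : π (genericPoint X') ∉ (C.support : Set X) := by
    rw [hgenX]
    intro h
    have hall : (C.support : Set X) = Set.univ := Set.eq_univ_of_univ_subset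
      ((genericPoint_spec X).def.ge.trans (C.support.isClosed.closure_subset_iff.2 (Set.singleton_subset_iff.2 h)))
    rw [hall, (Homeomorph.Set.univ X).isHomeomorph.topologicalKrullDim_eq, hdim] at hCd
    exact absurd hCd (by decide)
  have hDc := ArInter.isEffCartier_comap π hKc hgenK
  have hC'c : BlowUp.IsEffCartierIdeal C' := EffCartier.isEffCartierIdeal_of_mul_left (hm ▸ hDc)
  let E := BlowUp.exceptional π J
  obtain ⟨e, he, -⟩ := PointBlowUp.exceptional_point hx hst π hπ
  haveI := RegExt.isIntegral_projSpace 1 (X.residueField x)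
  haveI : Nonempty E.subscheme := ⟨e.hom (genericPoint _)⟩
  haveI : IsIntegral E.subscheme := isIntegral_of_isOpenImmersion e.inv
  have hdE : topologicalKrullDim E.subscheme = 1 := by
    rw [← e.hom.homeomorph.isHomeomorph.topologicalKrullDim_eq, Groth.Agent.S10829.result]
    rfl
  have hEc : BlowUp.IsEffCartierIdeal E := hπ.1
  have hEm := BlowUpExist.isEffCartierIdeal_pow hEc m
  obtain ⟨eK⟩ := ArInter.nonempty_pullback_idealMod π hKc hDc
  have hKi := M2.isInvertible_idealMod _ hKc
  have hpc : Abel10.pc π (icl hKc) = icl hC'c * icl hEc ^ m := by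
    have h1 : Abel10.pc π (icl hKc) = icl hDc :=
      (PicGrp.pullHom_cls π _ _ hKi).trans ((PicGrp.cls_eq_cls_iff _ _).2 ⟨eK⟩)
    rw [h1, icl_congr hDc (by rw [← hm]; exact hDc) hm,
      icl_mul hC'c hEm (by rw [← hm]; exact hDc), icl_pow (k := k) hdim' hEc m hEm]
  obtain ⟨-, hce, hee⟩ := Groth.Agent.S7868.result k X hirr hregX x hx X' π hπ _ _ hKi hKi
  rw [CurveCoh17.finrank_residueField (k := k) hx] at hee
  rw [SymSq10.intNum_eq' hd'.le (M2.isInvertible_idealMod _ hEc) (M2.isInvertible_idealMod _ hEc)] at hee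
  rw [SymSq10.intNum_eq' hd'.le (Twist.isInvertible_pullback π hKi) (M2.isInvertible_idealMod _ hEc)] at hce
  change sdot k (icl hEc) (icl hEc) = _ at hee
  have hce' : sdot k (Abel10.pc π (icl hKc)) (icl hEc) = 0 := by
    rw [show Abel10.pc π (icl hKc) = PicGrp.cls _ (Twist.isInvertible_pullback π hKi) from PicGrp.pullHom_cls π _ _ hKi]
    exact hce
  have hq : ∀ {Z : Scheme.{u}} [Z.Over (Spec (CommRingCat.of k))] [IsProper (Z ↘ Spec (CommRingCat.of k))]
      {D : Scheme.{u}} [D.Over (Spec (CommRingCat.of k))] (i : D ⟶ Z) [IsClosedImmersion i]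
      (hi : i ≫ (Z ↘ Spec (CommRingCat.of k)) = D ↘ Spec (CommRingCat.of k)) (I : Z.IdealSheafData)
      (hI : BlowUp.IsEffCartierIdeal I), i.ker = I →
      Curv2.euler k D (Coh.structureModule D) = chi k (1 : PicLoc.PicSet Z) - chi k (icl hI) := by
    intro Z _ _ D _ i _ hi I hI hk
    subst hk
    haveI : IsNoetherian Z := CohFound.isNoetherian_of_isProper (Z ↘ Spec (CommRingCat.of k))
    obtain ⟨eQ⟩ := NumPoly18.nonempty_quotMod_ker i
    rw [← AmpleFin18.euler_push i hi _ (M1.isQCoh_structureModule D), ← CurveCoh17.euler_iso eQ]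
    exact NormalRR10.defect.chi_quot i.ker hI
  -- the exceptional curve is rational
  have hgE : chi k (1 : PicLoc.PicSet X') - chi k (icl hEc) = 1 := by
    letI : E.subscheme.Over (Spec (CommRingCat.of k)) := ⟨E.subschemeι ≫ (X' ↘ Spec (CommRingCat.of k))⟩
    haveI : IsProper (E.subscheme ↘ Spec (CommRingCat.of k)) :=
      inferInstanceAs (IsProper (E.subschemeι ≫ (X' ↘ Spec (CommRingCat.of k))))
    rw [← hq E.subschemeι rfl E hEc (Scheme.IdealSheafData.ker_subschemeι _), Groth.Agent.S14520.euler_curve k E.subscheme hdE.le]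
    suffices hg : Curv2.genus k E.subscheme = 0 by rw [hg]; simp
    let K := X.residueField x
    letI : (CohB1.ProjSpace 1 K).Over (Spec (CommRingCat.of k)) :=
      ⟨e.hom ≫ E.subschemeι ≫ (X' ↘ Spec (CommRingCat.of k))⟩
    rw [← CurveCoh17.genus_eq_of_iso (k := k) e.hom rfl]
    let a : CohB1.ProjSpace 1 K ⟶ Spec (CommRingCat.of k) := e.hom ≫ E.subschemeι ≫ (X' ↘ Spec (CommRingCat.of k))
    let b : CohB1.ProjSpace 1 K ⟶ Spec (CommRingCat.of K) := CohB1.ProjSpace.toSpec 1 K
    haveI : IsProper a := inferInstance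
    haveI : IsProper b := ProjSpace.isProper_toSpec 1 K
    have hb : Function.Bijective (Coh.toGlobal b : K →+* Γ(CohB1.ProjSpace 1 K, ⊤)) :=
      Groth.Agent.S14520.bijective_toGlobal_P1 K
    have hF : IsField Γ(CohB1.ProjSpace 1 K, ⊤) :=
      (RingEquiv.ofBijective (Coh.toGlobal b : K →+* Γ(CohB1.ProjSpace 1 K, ⊤)) hb).symm.toMulEquiv.isField
        (Field.toIsField K)
    obtain ⟨w, -, -, hM⟩ := ArInter.finrank_HH_compare k K a b hF (HensProper6.finite_toGlobal a) hb
    refine (hM _ 1).trans ?_
    exact (congrArg (fun n => w * n) (CurveCoh17.genus_P1 (k := K))).trans (mul_zero w)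
  obtain ⟨H, hH⟩ := SurfRR10.exists_ample (k := k) (X := X) hdim
  have hdef := NormalRR10.defect (k := k) π rfl hd hd' U hU
    (show ((U : Set X)ᶜ).Finite by
      show ({x}ᶜᶜ : Set X).Finite
      rw [compl_compl]; exact Set.finite_singleton x) hUne hH (icl hKc)
  have hpow : ∀ t : ℕ, sdot k (icl hEc ^ t) (icl hEc) = -(t : ℤ) ∧
      2 * (chi k (1 : PicLoc.PicSet X') - chi k (icl hEc ^ t)) = (t : ℤ) * (t + 1) := by
    intro t
    induction t with
    | zero => rw [pow_zero, SymSq10.sdot_one_left]; simp
    | succ t ih =>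
      rw [pow_succ, SymSq10.sdot_mul (k := k) hd'.le, SymSq10.chi_mul', hee]
      push_cast
      exact ⟨by linarith [ih.1], by linear_combination ih.2 + 2 * hgE - 2 * ih.1⟩
  have hc'e : sdot k (icl hC'c) (icl hEc) = (m : ℤ) := by
    have h := hce'
    rw [hpc, SymSq10.sdot_mul (k := k) hd'.le, (hpow m).1] at h
    linarith
  have hc'p : ∀ t : ℕ, sdot k (icl hC'c) (icl hEc ^ t) = (t : ℤ) * m := by
    intro t
    induction t with
    | zero => rw [pow_zero, SymSq10.sdot_comm, SymSq10.sdot_one_left]; simp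
    | succ t ih =>
      rw [pow_succ, SymSq10.sdot_comm, SymSq10.sdot_mul (k := k) hd'.le, SymSq10.sdot_comm, ih,
        SymSq10.sdot_comm, hc'e]
      push_cast
      ring
  rw [hpc, SymSq10.chi_mul', hc'p m] at hdef
  have hWi := SurfRR10.isInvertible_canonical (k := k) hdim hW
  have hW'i := SurfRR10.isInvertible_canonical (k := k) (X := X') hdim' hW'
  have hr := SurfRR10.rr (k := k) hdim hW hWi (icl hKc)
  have hr' := SurfRR10.rr (k := k) (X := X') hdim' hW' hW'i (icl hC'c)
  rw [SurfRR10.phi] at hr hr'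
  rw [SymSq10.intNum_eq' hd'.le (M2.isInvertible_idealMod _ hC'c) (M2.isInvertible_idealMod _ hC'c),
    SymSq10.intNum_eq' hd'.le (M2.isInvertible_idealMod _ hC'c) hW'i,
    SymSq10.intNum_eq' hd.le hKi hKi, SymSq10.intNum_eq' hd.le hKi hWi]
  show sdot k (icl hC'c) (icl hC'c) - sdot k (icl hC'c) (PicGrp.cls W' hW'i) =
    sdot k (icl hKc) (icl hKc) - sdot k (icl hKc) (PicGrp.cls W hWi) - (m : ℤ) * ((m : ℤ) - 1)
  have hp := (hpow m).2
  linear_combination hr - hr' + 2 * hdef + hp

end Groth.Agent.S18455
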