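import Groth.Statements.S18456
import Groth.Agent.Lib.NumConn10.Rational
import Groth.Agent.S18449
-- import your own Groth.Agent.* helpers here

set_option autoImplicit false
set_option linter.style.haveILetI false
set_option maxHeartbeats 1000000
set_option backward.isDefEq.respectTransparency false
set_option backward.isDefEq.respectTransparency.types false
universe u
open CategoryTheory CategoryTheory.Limits AlgebraicGeometry TopologicalSpace
open Surf

namespace Groth.Agent.S18456

open Groth.Agent.SymSq10 (sdot)
open Groth.Agent.SurfRR10 (ncl)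
open Groth.Agent.NumPoly18 (ptIdeal)

noncomputable local instance instLawS18456 (Y : Scheme.{u}) : PicGrp.Law Y := M2.law Y

theorem exists_mult (k : Type u) [Field k] [IsAlgClosed k] {X : Scheme.{u}} [X.Over (Spec (CommRingCat.of k))]
    [IsProper (X ↘ (Spec (CommRingCat.of k)))] [Smooth (X ↘ (Spec (CommRingCat.of k)))] [IsIntegral X]
    (hdim : topologicalKrullDim X = 2) {r : ℕ} {C : Fin r → X.IdealSheafData} {η : Fin r → X}
    (hη : ∀ i, topologicalKrullDim (closure ({η i} : Set X)) = 1) (hC : ∀ i, C i = ptIdeal (η i)) :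
    ∀ (D : X.IdealSheafData) (hD : BlowUp.IsEffCartierIdeal D), (D.support : Set X) ⊆ ⋃ i, ((C i).support : Set X) →
      ∃ a : Fin r → ℤ, (D ≠ ⊤ → a ≠ 0) ∧ (∀ i, 0 ≤ a i) ∧
        ∀ c, sdot k c (NumConn10.icl hD) = - ∑ i, a i * sdot k c (ncl (k := k) hdim (hη i)) := by
  classical
  haveI : IsNoetherian X := CohFound.isNoetherian_of_isProper (X ↘ Spec (CommRingCat.of k))
  haveI := SecDiv.wellFoundedGT (X := X)
  intro D
  induction D using (wellFounded_gt (α := X.IdealSheafData)).induction with
  | _ D ih =>
    intro hD hDs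
    by_cases hne : D = ⊤
    · exact ⟨0, fun h => absurd hne h, fun i => le_rfl, fun c => by
        rw [NumConn10.icl_top hD hne, SymSq10.sdot_comm, SymSq10.sdot_one_left]; simp⟩
    · obtain ⟨ξ, hξ, hle⟩ := NumConn10.exists_curve_le (k := k) hdim hD hne
      obtain ⟨i, rfl⟩ := NumConn10.curve_mem (k := k) hdim hη hC hξ hDs hle
      obtain ⟨K', r', hK', hmul, hDK', -, -⟩ := NumConn10.exists_split hD (NumConn10.cartier_pt (k := k) hdim (hη i)) hle
      obtain ⟨a, -, ha0, ha⟩ := ih K' (NumConn10.lt_of_split (k := k) hdim (hη i) hD hK' hmul hDK') hK'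
        (Set.Subset.trans (fun x hx => Scheme.IdealSheafData.support_antitone hDK' hx) hDs)
      have h2 := NumConn10.icl_mul hK' (NumConn10.cartier_pt (k := k) hdim (hη i)) (by rw [hmul]; exact hD)
      rw [NumConn10.icl_congr (by rw [hmul]; exact hD) hD hmul, NumConn10.icl_pt (k := k) hdim (hη i)] at h2
      refine ⟨fun j => a j + if j = i then 1 else 0, fun _ h => ?_, fun j => ?_, fun c => ?_⟩
      · have := congrFun h i
        simp only [Pi.zero_apply, if_true] at this
        linarith [ha0 i]
      · have := ha0 j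
        show 0 ≤ a j + (if j = i then 1 else 0 : ℤ)
        split <;> omega
      · rw [h2, SurfRR10.sdot_mul_right (k := k) hdim, SurfRR10.sdot_inv_right (k := k) hdim, ha c]
        simp only [add_mul, ite_mul, one_mul, zero_mul, Finset.sum_add_distrib, Finset.sum_ite_eq', Finset.mem_univ,
          if_true]
        ring

/-- Let k be an algebraically closed field of characteristic zero and X a smooth projective surface over
k (integral, proper and smooth over k, of dimension 2). Let C_1, …, C_r be pairwise distinct
integral curves on X with ideal sheaves I_i, each with H¹(C_i, O_{C_i}) = 0 (so C_i ≅ P¹) and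
self-intersection (I_i·I_i) = −2, and with negative definite intersection matrix: Σ_{i,j} a_i a_j
(I_i·I_j) < 0 for every nonzero integer vector a, where (A·B) = χ(O_X) − χ(A) − χ(B) + χ(A ⊗ B).
Then H¹(Z, O_Z) = 0 for every nonzero effective Cartier divisor Z on X supported on ⋃ C_i,
cohomology computed on X through the direct image of O_Z. The published statement concludes that the
singularity obtained by contracting the configuration over the complex numbers is rational; the
vanishing for all supported nonzero effective divisors is the form of rationality the printed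
argument establishes, and this row states that form. -/
theorem result (k : Type u) [Field k] [IsAlgClosed k] [CharZero k]
    (X : Scheme.{u}) [X.Over (Spec (CommRingCat.of k))] [IsProper (X ↘ (Spec (CommRingCat.of k)))]
    [Smooth (X ↘ (Spec (CommRingCat.of k)))] [IsIntegral X] (hdim : topologicalKrullDim X = 2)
    (r : ℕ) (C : Fin r → X.IdealSheafData) (hC : Function.Injective C)
    (hCi : ∀ i, IsIntegral (C i).subscheme) (hCd : ∀ i, topologicalKrullDim ((C i).support : Set X) = 1)
    (hCrat : ∀ i, Subsingleton (Coh.HH X (ClSub.quotMod (C i)) 1))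
    (hC2 : ∀ i, FGA.intNum k X 2 ![(ClSub.idealMod (C i)), (ClSub.idealMod (C i))] (Coh.structureModule X) = -2)
    (hneg : ∀ a : Fin r → ℤ, a ≠ 0 →
      ∑ i, ∑ j, a i * a j * FGA.intNum k X 2 ![(ClSub.idealMod (C i)), (ClSub.idealMod (C j))] (Coh.structureModule X) < 0)
    (Z : X.IdealSheafData) (hZ : FGA.IsEffCartier Z) (hZ0 : Z ≠ ⊤)
    (hZs : (Z.support : Set X) ⊆ ⋃ i, ((C i).support : Set X)) :
    Subsingleton (Coh.HH X (ClSub.quotMod Z) 1) := by
  haveI : IsNoetherian X := CohFound.isNoetherian_of_isProper (X ↘ Spec (CommRingCat.of k))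
  have hd2 := (SurfRR10.dim_eq (k := k) hdim).le
  choose η hCη hη using fun i => SurfR.exists_eq_ptIdeal (C i) (hCi i) (hCd i)
  have hint : ∀ i j, FGA.intNum k X 2 ![(ClSub.idealMod (C i)), (ClSub.idealMod (C j))] (Coh.structureModule X) =
      sdot k (ncl (k := k) hdim (hη i)) (ncl (k := k) hdim (hη j)) := fun i j => by
    rw [hCη i, hCη j, SymSq10.intNum_eq' hd2 (M2.isInvertible_idealMod _ (NumConn10.cartier_pt (k := k) hdim (hη i)))
      (M2.isInvertible_idealMod _ (NumConn10.cartier_pt (k := k) hdim (hη j))),
      SurfRR10.cls_ideal_pt (k := k) hdim (hη i), SurfRR10.cls_ideal_pt (k := k) hdim (hη j),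
      SurfRR10.sdot_inv_left (k := k) hdim, SurfRR10.sdot_inv_right (k := k) hdim, neg_neg]
  obtain ⟨W, hW⟩ := NumConn10.exists_canonical (k := k) hdim
  have hWi := SurfRR10.isInvertible_canonical hdim hW
  have hK : ∀ i, sdot k (ncl (k := k) hdim (hη i)) (PicGrp.cls W hWi) = 0 := by
    intro i
    obtain ⟨g, hg, -, hg0⟩ := SurfRR10.exists_genus hdim hW hWi (hη i)
    have h1 : g = 0 := hg0.2 (by
      letI : (ptIdeal (η i)).subscheme.Over (Spec (CommRingCat.of k)) :=
        ⟨(ptIdeal (η i)).subschemeι ≫ (X ↘ Spec (CommRingCat.of k))⟩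
      obtain ⟨e⟩ := AmpleFin18.nonempty_HH_push (k := k) (ptIdeal (η i)).subschemeι rfl _
        (M1.isQCoh_structureModule (ptIdeal (η i)).subscheme) 1
      haveI h := hCrat i
      rw [hCη i] at h
      exact e.toEquiv.subsingleton_congr.1 h)
    have h2 := hC2 i
    rw [hint i i] at h2
    rw [h2, h1] at hg
    simpa using hg
  refine S18449.subsingleton_h1_of_forall (k := k) hdim Z hZ hZ0 fun D J hD hJ hDne hmul => ?_
  have hDs : (D.support : Set X) ⊆ ⋃ i, ((C i).support : Set X) := fun x hx => hZs (by
    rw [hmul, Scheme.IdealSheafData.support_mul]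
    exact Set.mem_union_left _ hx)
  obtain ⟨a, ha, -, hac⟩ := exists_mult k hdim hη hCη D hD hDs
  have hDD : sdot k (NumConn10.icl hD) (NumConn10.icl hD) < 0 := by
    have h1 := hneg a (ha hDne)
    simp only [hint] at h1
    rw [hac, ← Finset.sum_neg_distrib]
    refine lt_of_le_of_lt (le_of_eq (Finset.sum_congr rfl fun i _ => ?_)) h1
    rw [SymSq10.sdot_comm, hac, mul_neg, neg_neg, Finset.mul_sum]
    exact Finset.sum_congr rfl fun j _ => by ring
  have hDW : sdot k (NumConn10.icl hD) (PicGrp.cls W hWi) = 0 := by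
    rw [SymSq10.sdot_comm, hac, Finset.sum_eq_zero fun i _ => by rw [SymSq10.sdot_comm, hK i, mul_zero]]
    rfl
  have he : sdot k (NumConn10.icl hD) (NumConn10.icl hD) - sdot k (NumConn10.icl hD) (PicGrp.cls W hWi) =
      -2 * Curv2.euler k X (ClSub.quotMod D) := SurfRR10.adjunction hdim hW hWi hD
  omega

end Groth.Agent.S18456
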