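import Groth.Statements.S18457
import Mathlib.Algebra.Order.Chebyshev
import Mathlib.Algebra.Order.BigOperators.Group.Finset
import Mathlib.Tactic.Linarith
import Mathlib.Tactic.Ring
import Mathlib.Tactic.Positivity
import Mathlib.Tactic.IntervalCases

set_option autoImplicit false
open Finset
open Surf

namespace Groth.Agent.S18457

/-- In the Picard lattice of the plane blown up at n ≤ 8 points, with basis h, e_1, …, e_n, form h² = 1,
e_i² = −1, all other products 0, and anticanonical class D = 3h − Σ e_i, let d·h − Σ a_i e_i be a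
class with all a_i ≥ 0 (the class of the strict transform of a degree-d plane curve having
multiplicity a_i at the i-th point) which is a (−2)-class orthogonal to D, that is d² − Σ a_i² = −2
and 3d = Σ a_i. Then one of the following holds: d = 1 and every a_i is 0 or 1 with exactly three
equal to 1; d = 2 and every a_i is 0 or 1 with exactly six equal to 1; d = 3, n = 8, and one a_i
equals 2 while the remaining seven equal 1. The published statement is geometric: under the
general-position hypotheses on the points, no smooth rational curve on the blown-up plane is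
orthogonal to D; this row is the lattice enumeration its proof carries out (a line through three of
the points, a conic through six, a cubic through all eight and singular at one). -/
theorem result (n : ℕ) (hn : n ≤ 8)
    (d : ℤ) (a : Fin n → ℤ) (ha : ∀ i, 0 ≤ a i)
    (hsq : d ^ 2 - ∑ i, (a i) ^ 2 = -2) (hK : 3 * d = ∑ i, a i) :
    (d = 1 ∧ (∀ i, a i = 0 ∨ a i = 1) ∧ (Finset.univ.filter (fun i => a i = 1)).card = 3) ∨
      (d = 2 ∧ (∀ i, a i = 0 ∨ a i = 1) ∧ (Finset.univ.filter (fun i => a i = 1)).card = 6) ∨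
      (d = 3 ∧ n = 8 ∧ ∃ j, a j = 2 ∧ ∀ i, i ≠ j → a i = 1) := by
  classical
  have hn' : (n : ℤ) ≤ 8 := by exact_mod_cast hn
  have hCS : (∑ i, a i) ^ 2 ≤ (n : ℤ) * ∑ i, a i ^ 2 := by
    have := sq_sum_le_card_mul_sum_sq (s := (Finset.univ : Finset (Fin n))) (f := a)
    simpa using this
  have hS2 : ∑ i, a i ^ 2 = d ^ 2 + 2 := by omega
  have hd0 : 0 ≤ d := by
    have := Finset.sum_nonneg fun i (_ : i ∈ (Finset.univ : Finset (Fin n))) => ha i
    omega
  have hd4 : d ≤ 4 := by
    rw [← hK, hS2] at hCS
    have : (n : ℤ) * (d ^ 2 + 2) ≤ 8 * (d ^ 2 + 2) := mul_le_mul_of_nonneg_right hn' (by positivity)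
    nlinarith
  have key : ∑ i, a i * (a i - 1) = d ^ 2 + 2 - 3 * d := by
    simp only [mul_sub, mul_one, ← sq, Finset.sum_sub_distrib]; omega
  have hnn : ∀ i ∈ (Finset.univ : Finset (Fin n)), 0 ≤ a i * (a i - 1) := fun i _ => by
    rcases le_or_gt 1 (a i) with h | h
    · exact mul_nonneg (ha i) (by omega)
    · have : a i = 0 := by have := ha i; omega
      simp [this]
  have h01 : ∑ i, a i * (a i - 1) = 0 →
      (∀ i, a i = 0 ∨ a i = 1) ∧ (((Finset.univ.filter fun i => a i = 1).card : ℕ) : ℤ) = ∑ i, a i := by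
    intro hz
    have h : ∀ i, a i = 0 ∨ a i = 1 := fun i => by
      rcases mul_eq_zero.mp ((Finset.sum_eq_zero_iff_of_nonneg hnn).mp hz i (Finset.mem_univ i)) with h | h <;> omega
    refine ⟨h, ?_⟩
    rw [Finset.card_filter, Nat.cast_sum]
    refine Finset.sum_congr rfl fun i _ => ?_
    rcases h i with h' | h' <;> simp [h']
  interval_cases d
  · exfalso
    have hz : ∀ i ∈ (Finset.univ : Finset (Fin n)), a i = 0 :=
      (Finset.sum_eq_zero_iff_of_nonneg fun i _ => ha i).mp (by omega)
    have : ∑ i, a i ^ 2 = 0 := Finset.sum_eq_zero fun i hi => by simp [hz i hi]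
    omega
  · obtain ⟨h, hc⟩ := h01 (by rw [key]; norm_num)
    exact Or.inl ⟨rfl, h, by omega⟩
  · obtain ⟨h, hc⟩ := h01 (by rw [key]; norm_num)
    exact Or.inr (Or.inl ⟨rfl, h, by omega⟩)
  · obtain ⟨j, hj⟩ : ∃ j, 2 ≤ a j := by
      by_contra! hcon
      have : ∑ i, a i * (a i - 1) = 0 := Finset.sum_eq_zero fun i _ => by
        have := ha i; have := hcon i
        rcases (by omega : a i = 0 ∨ a i = 1) with h | h <;> simp [h]
      omega
    rw [← Finset.add_sum_erase _ _ (Finset.mem_univ j)] at key
    have hnn' : ∀ i ∈ Finset.univ.erase j, 0 ≤ a i * (a i - 1) := fun i _ => hnn i (Finset.mem_univ i)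
    have hge := Finset.sum_nonneg hnn'
    have hj2 : a j = 2 := by nlinarith
    have hrest : ∑ i ∈ Finset.univ.erase j, a i * (a i - 1) = 0 := by rw [hj2] at key; omega
    have hle : ∀ i, i ≠ j → a i ≤ 1 := fun i hi => by
      rcases mul_eq_zero.mp ((Finset.sum_eq_zero_iff_of_nonneg hnn').mp hrest i (by simp [hi])) with h | h <;> omega
    have hsum : ∑ i ∈ Finset.univ.erase j, a i = 7 := by
      rw [← Finset.add_sum_erase _ _ (Finset.mem_univ j)] at hK; omega
    have hcard : (Finset.univ.erase j : Finset (Fin n)).card = n - 1 := by simp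
    have hbound := Finset.sum_le_card_nsmul (Finset.univ.erase j) a 1 (fun i hi => hle i (Finset.mem_erase.mp hi).1)
    rw [hsum, hcard, nsmul_one] at hbound
    have hn8 : n = 8 := by omega
    refine Or.inr (Or.inr ⟨rfl, hn8, j, hj2, fun i hi => ?_⟩)
    have hz : ∑ l ∈ Finset.univ.erase j, (1 - a l) = 0 := by
      rw [Finset.sum_sub_distrib, hsum, Finset.sum_const, hcard, nsmul_one]; omega
    have := (Finset.sum_eq_zero_iff_of_nonneg fun l hl => sub_nonneg.mpr (hle l (Finset.mem_erase.mp hl).1)).mp hz i (by simp [hi])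
    omega
  · exfalso
    have h2 : ∑ i, (2 * a i - 3) ^ 2 = 9 * (n : ℤ) - 72 := by
      have hpt : ∀ i, (2 * a i - 3) ^ 2 = 4 * a i ^ 2 - 12 * a i + 9 := fun i => by ring
      simp only [hpt, Finset.sum_add_distrib, Finset.sum_sub_distrib, ← Finset.mul_sum, Finset.sum_const,
        Finset.card_univ, Fintype.card_fin, nsmul_eq_mul]
      rw [hS2, ← hK]; ring
    have h1 : ∀ i ∈ (Finset.univ : Finset (Fin n)), (1 : ℤ) ≤ (2 * a i - 3) ^ 2 := fun i _ => by
      have : (2 * a i - 3) ≠ 0 := by omega
      have := sq_pos_of_ne_zero this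
      omega
    have hsumge := Finset.card_nsmul_le_sum Finset.univ (fun i => (2 * a i - 3) ^ 2) 1 h1
    simp only [Finset.card_univ, Fintype.card_fin, nsmul_one] at hsumge
    omega

end Groth.Agent.S18457
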