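import Groth.Statements.S18458
import Groth.Agent.Lib.NumPoly18.SurfCurves
import Groth.Agent.Lib.NumPoly18.BigNef

set_option autoImplicit false
universe u
open CategoryTheory CategoryTheory.Limits AlgebraicGeometry TopologicalSpace
open Surf

open Groth.Agent Groth.Agent.NumPoly18
namespace Groth.Agent.S18458

/-- Let k be an algebraically closed field of characteristic zero and X a smooth projective surface over
k (integral, proper and smooth over k, of dimension 2, carrying an ample invertible module). Let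
C_1, …, C_r be pairwise distinct integral curves on X with ideal sheaves I_i whose intersection
matrix is negative definite: Σ_{i,j} a_i a_j (I_i·I_j) < 0 for every nonzero integer vector a, where
(A·B) = χ(O_X) − χ(A) − χ(B) + χ(A ⊗ B). Then there is an invertible O_X-module L (the sheaf of a
divisor H) which is nef and big and is orthogonal to exactly the curves C_i: writing (L·C) = χ(O_C ⊗
L) − χ(O_C) for the degree of L on an integral curve C, one has (L·C) ≥ 0 for every integral curve
C, (L·L) > 0, and (L·C) = 0 if and only if C is one of the C_i. -/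
theorem result (k : Type u) [Field k] [IsAlgClosed k] [CharZero k]
    (X : Scheme.{u}) [X.Over (Spec (CommRingCat.of k))] [IsProper (X ↘ (Spec (CommRingCat.of k)))]
    [Smooth (X ↘ (Spec (CommRingCat.of k)))] [IsIntegral X] (hdim : topologicalKrullDim X = 2)
    (hproj : ∃ H : X.Modules, CohB1.IsAmple H)
    (r : ℕ) (C : Fin r → X.IdealSheafData) (hC : Function.Injective C)
    (hCi : ∀ i, IsIntegral (C i).subscheme) (hCd : ∀ i, topologicalKrullDim ((C i).support : Set X) = 1)
    (hneg : ∀ a : Fin r → ℤ, a ≠ 0 →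
      ∑ i, ∑ j, a i * a j * FGA.intNum k X 2 ![(ClSub.idealMod (C i)), (ClSub.idealMod (C j))] (Coh.structureModule X) < 0) :
    ∃ L : X.Modules, PicF.IsInvertible L ∧
      (∀ D : X.IdealSheafData, IsIntegral D.subscheme → topologicalKrullDim (D.support : Set X) = 1 →
        0 ≤ Curv2.euler k X (CohB1.tensorMod (ClSub.quotMod D) L) - Curv2.euler k X (ClSub.quotMod D)) ∧
      0 < FGA.intNum k X 2 ![L, L] (Coh.structureModule X) ∧
      (∀ D : X.IdealSheafData, IsIntegral D.subscheme → topologicalKrullDim (D.support : Set X) = 1 →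
        (Curv2.euler k X (CohB1.tensorMod (ClSub.quotMod D) L) - Curv2.euler k X (ClSub.quotMod D) = 0 ↔
          ∃ i, D = C i)) := by
  classical
  obtain ⟨A, hA⟩ := hproj
  have hd : topologicalKrullDim X = ((2 : ℕ) : WithBot ℕ∞) := by simpa using hdim
  haveI : IsNoetherian X := CohFound.isNoetherian_of_isProper (X ↘ Spec (CommRingCat.of k))
  obtain ⟨M, hM, hI, e, hdot, -, hint, hoff, hAM⟩ := SurfR.exists_conf_modules (k := k) hd C hC hCi hCd
  let G : Fin r → Fin r → ℚ := fun i j => dot k (M i) (M j)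
  have hnegQ : ∀ b : Fin r → ℚ, b ≠ 0 → SurfR.Conf.pair G b b < 0 := fun b hb => by
    let D : ℕ := ∏ i, (b i).den
    have hD : (0 : ℚ) < (D : ℚ) := Nat.cast_pos.2 (Finset.prod_pos fun i _ => (b i).den_pos)
    let a : Fin r → ℤ := fun i => (b i).num * (D / (b i).den : ℕ)
    have ha : ∀ i, (a i : ℚ) = b i * D := fun i => by
      have hdv : (b i).den ∣ D := Finset.dvd_prod_of_mem (fun i => (b i).den) (Finset.mem_univ i)
      simp only [a]
      obtain ⟨q, hq⟩ := hdv
      rw [hq, Nat.mul_div_cancel_left _ (b i).den_pos]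
      push_cast
      rw [← mul_assoc, Rat.mul_den_eq_num]
    have ha0 : a ≠ 0 := fun h => hb (funext fun i => by
      have := ha i
      rw [congrFun h i] at this
      simpa [hD.ne'] using this.symm)
    have h := (Int.cast_lt (R := ℚ)).2 (hneg a ha0)
    push_cast at h
    have hh : SurfR.Conf.pair G b b * ((D : ℚ) * D) < 0 := by
      refine lt_of_eq_of_lt ?_ h
      rw [SurfR.Conf.pair, Finset.sum_mul]
      refine Finset.sum_congr rfl fun i _ => ?_
      rw [Finset.sum_mul]
      exact Finset.sum_congr rfl fun j _ => by rw [hint, ha, ha]; ring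
    exact neg_of_mul_neg_left hh (mul_pos hD hD).le
  let T : (Fin r → ℚ) →ₗ[ℚ] (Fin r → ℚ) :=
    { toFun := fun s j => ∑ i, s i * G i j
      map_add' := fun s t => funext fun j => by simp [add_mul, Finset.sum_add_distrib]
      map_smul' := fun c s => funext fun j => by simp [Finset.mul_sum, mul_assoc] }
  have hTinj : Function.Injective T := (injective_iff_map_eq_zero T).2 fun s hs => by
    by_contra hne
    have := hnegQ s hne
    rw [SurfR.Conf.pair_eq] at this
    refine this.ne (Finset.sum_eq_zero fun j _ => ?_)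
    rw [show (∑ i, s i * G i j) = 0 from congrFun hs j, mul_zero]
  obtain ⟨s, hs⟩ := LinearMap.injective_iff_surjective.1 hTinj (fun j => - dot k (M j) A)
  have hs' : ∀ j, ∑ i, s i * G i j = - dot k (M j) A := fun j => congrFun hs j
  have hs0 : ∀ i, 0 ≤ s i := SurfR.Conf.nonneg_of_pair_nonpos hoff hnegQ fun j => by
    rw [hs' j]; exact neg_nonpos.2 (hAM hA j).le
  let d : ℕ := ∏ i, (s i).den
  have hd0 : (0 : ℚ) < (d : ℚ) := Nat.cast_pos.2 (Finset.prod_pos fun i _ => (s i).den_pos)
  let m : Fin r → ℤ := fun i => (s i).num * (d / (s i).den : ℕ)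
  have hm : ∀ i, (m i : ℚ) = d * s i := fun i => by
    have hdv : (s i).den ∣ d := Finset.dvd_prod_of_mem (fun i => (s i).den) (Finset.mem_univ i)
    simp only [m]
    obtain ⟨q, hq⟩ := hdv
    rw [hq, Nat.mul_div_cancel_left _ (s i).den_pos]
    push_cast
    rw [mul_comm _ (s i), ← mul_assoc, Rat.mul_den_eq_num]
  have hcomb : ∀ U : Finset (Fin r), ∃ L : X.Modules, PicF.IsInvertible L ∧ ∀ Z, PicF.IsInvertible Z →
      dot k L Z = d * dot k A Z + ∑ i ∈ U, (m i : ℚ) * dot k (M i) Z := fun U => by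
    induction U using Finset.induction_on with
    | empty =>
      obtain ⟨L, hL, hLe⟩ := exists_smul (k := k) hd.le hA.1 (d : ℤ)
      exact ⟨L, hL, fun Z hZ => by rw [hLe Z hZ]; simp⟩
    | insert a U ha ih =>
      obtain ⟨L, hL, hLe⟩ := ih
      obtain ⟨P, hP, hPe⟩ := exists_smul (k := k) hd.le (hM a) (m a)
      exact ⟨CohB1.tensorMod L P, M2.isInvertible_tensor hL hP, fun Z hZ => by
        rw [dot_tensor hd.le hL hP hZ, hLe Z hZ, hPe Z hZ, Finset.sum_insert ha]; ring⟩
  obtain ⟨L, hL, hLe⟩ := hcomb Finset.univ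
  have hLC : ∀ j, dot k L (M j) = 0 := fun j => by
    rw [hLe _ (hM j)]
    simp only [hm, mul_assoc, ← Finset.mul_sum]
    rw [← mul_add, show (∑ i, s i * dot k (M i) (M j)) = - dot k (M j) A from hs' j, dot_comm A, add_neg_cancel,
      mul_zero]
  have hcdeg : ∀ D : X.IdealSheafData, IsIntegral D.subscheme → topologicalKrullDim (D.support : Set X) = 1 →
      0 ≤ cdeg k L (ClSub.quotMod D) ∧ (cdeg k L (ClSub.quotMod D) = 0 ↔ ∃ i, D = C i) := by
    intro D hDi hD1
    have hiff : (∀ i, D ≠ C i) → 0 < cdeg k L (ClSub.quotMod D) := fun hne => by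
      obtain ⟨N, hN, -, -, hNdot, -, -, -, hNA⟩ := SurfR.exists_conf_modules (k := k) hd (fun _ : Fin 1 => D)
        (fun a b _ => Subsingleton.elim a b) (fun _ => hDi) (fun _ => hD1)
      rw [← hNdot 0 L hL, dot_comm, hLe _ (hN 0)]
      refine add_pos_of_pos_of_nonneg (mul_pos hd0 ?_) (Finset.sum_nonneg fun i _ => mul_nonneg ?_ ?_)
      · rw [dot_comm]; exact hNA hA 0
      · rw [hm]; exact mul_nonneg hd0.le (hs0 i)
      · obtain ⟨η, rfl, hη⟩ := SurfR.exists_eq_ptIdeal D hDi hD1
        obtain ⟨ξ, hξi, hξ⟩ := SurfR.exists_eq_ptIdeal (C i) (hCi i) (hCd i)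
        rw [dot_comm, hNdot 0 _ (hM i)]
        refine SurfR.cdeg_pt_nonneg_of_divisor (k := k) (SecDiv.isEffCartierIdeal_of_isInvertible _ (hI i)) (hM i)
          (e i).some hη fun hm' => hne i ?_
        rw [hξi, show ((ptIdeal ξ).support : Set X) = closure {ξ} from
          Scheme.IdealSheafData.coe_support_vanishingIdeal _] at hm'
        rw [hξi]
        refine congrArg ptIdeal ?_
        have hsp : ξ ⤳ η := specializes_iff_mem_closure.2 hm'
        by_contra hne'
        have := VarDim.sdim_lt_of_specializes (X ↘ Spec (CommRingCat.of k)) hsp (Ne.symm hne')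
        rw [sdim_eq_one (k := k) hξ, sdim_eq_one (k := k) hη] at this
        exact lt_irrefl _ this
    by_cases h : ∃ i, D = C i
    · obtain ⟨i, rfl⟩ := h
      have h0 : cdeg k L (ClSub.quotMod (C i)) = 0 := by rw [← hdot i L hL, dot_comm, hLC]
      exact ⟨h0.ge, ⟨fun _ => ⟨i, rfl⟩, fun _ => h0⟩⟩
    · push Not at h
      have h0 := hiff h
      exact ⟨h0.le, ⟨fun h' => absurd h' h0.ne', fun ⟨i, hi⟩ => absurd hi (h i)⟩⟩
  refine ⟨L, hL, fun D hDi hD1 => ?_, ?_, fun D hDi hD1 => ?_⟩
  · have := (hcdeg D hDi hD1).1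
    rw [cdeg_quotMod] at this
    exact_mod_cast this
  · rw [← Int.cast_pos (R := ℚ), intNum2 hd.le hL hL, hLe L hL]
    have hAA : 0 < dot k A A := by rw [dot_self]; exact (asymptotic_rr k hd hA).1
    have h1 : dot k A L = d * dot k A A + ∑ i, (m i : ℚ) * dot k (M i) A := by
      rw [dot_comm, hLe A hA.1]
    rw [Finset.sum_eq_zero (fun i _ => by rw [dot_comm (M i), hLC, mul_zero]), add_zero, h1]
    exact mul_pos hd0 (add_pos_of_pos_of_nonneg (mul_pos hd0 hAA)
      (Finset.sum_nonneg fun i _ => mul_nonneg (by rw [hm]; exact mul_nonneg hd0.le (hs0 i)) (hAM hA i).le))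
  · rw [← (hcdeg D hDi hD1).2, cdeg_quotMod]
    norm_cast

end Groth.Agent.S18458
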