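import Groth.Statements.S18459
import Groth.Agent.Lib.Ruled10.Trivial
import Groth.Agent.Lib.ExcTwist10.Basic
import Groth.Agent.Lib.DefAmp1.Tensor
import Groth.Agent.Lib.GenStage2.Main
import Groth.Agent.Lib.CMReg18.EulerBinom
import Groth.Agent.Lib.CurveCoh17.Twist
import Groth.Agent.S0844

set_option autoImplicit false
set_option maxHeartbeats 1000000
set_option linter.style.haveILetI false
set_option backward.isDefEq.respectTransparency false
set_option backward.isDefEq.respectTransparency.types false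
universe u
open CategoryTheory CategoryTheory.Limits AlgebraicGeometry TopologicalSpace
open Surf

namespace Groth.Agent.S18459

open TopologicalSpace Opposite
open Groth.Agent Groth.Agent.NumConn10
open Groth.Agent.NumPoly18 (ptIdeal isIntegral_pt)
open Groth.Agent.SymSq10 (sdot)
open Groth.Agent.SurfRR10 (ncl)
open Groth.Agent.HypSq10 (rep rep_inv cls_rep hh)

noncomputable local instance instLawHz (Y : Scheme.{u}) : PicGrp.Law Y := M2.law Y

variable {k : Type u} [Field k]

theorem cls_twist (a : ℤ) :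
    PicGrp.cls _ ((CMReg18.projData k 1).inv a) = PicGrp.cls _ ((CMReg18.projData k 1).inv 1) ^ a := by
  let D := CMReg18.projData k 1
  let φ : Multiplicative ℤ →* PicLoc.PicSet (CohB1.ProjSpace 1 k) :=
    { toFun := fun n => PicGrp.cls _ (D.inv n.toAdd)
      map_one' := by
        show PicGrp.cls _ (D.inv 0) = 1
        rw [(PicGrp.cls_eq_cls_iff (D.inv 0) (PicLoc.isInvertible_structureModule _)).2 ⟨D.zero⟩,
          PicGrp.cls_structureModule_eq_one]
      map_mul' := fun i j => by
        show PicGrp.cls _ (D.inv (i.toAdd + j.toAdd)) = PicGrp.cls _ (D.inv i.toAdd) * PicGrp.cls _ (D.inv j.toAdd)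
        rw [AlgEquiv22.cls_tensor]
        exact (PicGrp.cls_eq_cls_iff (D.inv _) (M2.isInvertible_tensor (D.inv i.toAdd) (D.inv j.toAdd))).2
          ⟨(D.add _ _).symm⟩ }
  have h := map_zpow φ (Multiplicative.ofAdd 1) a
  rw [show (Multiplicative.ofAdd (1 : ℤ)) ^ a = Multiplicative.ofAdd a from by rw [← ofAdd_zsmul, smul_eq_mul, mul_one]] at h
  exact h

/-- Nonnegative twists on the line are globally generated. -/
theorem gg_twist (b : ℤ) (hb : 0 ≤ b) :
    Curv2.IsGloballyGenerated (_root_.Twist.twistProjSpace 1 k b) := by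
  refine GenStage2.gg_of_iso (M2.tensorLUnit _) (CMReg18.isGloballyGenerated_of_isReg
    (F := Coh.structureModule (CohB1.ProjSpace 1 k)) (M1.isCoh_structureModule _) (m := b) fun i hi => ?_)
  haveI := S0844.result k 1 (b - i) i (fun h => by omega) (fun h => by omega)
  exact (CurveCoh17.hequiv k (M2.tensorLUnit (_root_.Twist.twistProjSpace 1 k (b - i))) i).toEquiv.subsingleton

variable [IsAlgClosed k] {X : Scheme.{u}} [X.Over (Spec (CommRingCat.of k))]
  [IsProper (X ↘ Spec (CommRingCat.of k))] [Smooth (X ↘ Spec (CommRingCat.of k))] [IsIntegral X]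
  (π : X ⟶ CohB1.ProjSpace 1 k)

/-- The class of a fibre. -/
noncomputable def fcl : PicLoc.PicSet X :=
  PicGrp.cls _ (Twist.isInvertible_pullback π ((CMReg18.projData k 1).inv 1))

theorem cls_pull (b : ℤ) :
    PicGrp.cls _ (Twist.isInvertible_pullback π ((CMReg18.projData k 1).inv b)) = fcl π ^ b := by
  have h := congrArg (PicGrp.pullHom π (M2.pullMul π)) (cls_twist (k := k) b)
  rw [map_zpow] at h
  exact ((PicGrp.pullHom_cls _ _ _ _).symm.trans h).trans (congrArg (· ^ b) (PicGrp.pullHom_cls _ _ _ _))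

theorem nonempty_iso_pull (b : ℤ) :
    Nonempty (rep (fcl π ^ b) ≅ (Scheme.Modules.pullback π).obj (_root_.Twist.twistProjSpace 1 k b)) :=
  (PicGrp.cls_eq_cls_iff (rep_inv _) (Twist.isInvertible_pullback π ((CMReg18.projData k 1).inv b))).1
    ((cls_rep _).trans (cls_pull π b).symm)

theorem gg_unit : Curv2.IsGloballyGenerated (Coh.structureModule X) :=
  CMReg18.isGloballyGenerated_of_forall_kills fun N q hq =>
    M1.unit_hom_ext ((hq _).trans rfl)

theorem gg_pull (b : ℤ) (hb : 0 ≤ b) :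
    Curv2.IsGloballyGenerated ((Scheme.Modules.pullback π).obj (_root_.Twist.twistProjSpace 1 k b)) := by
  have hL := (CMReg18.projData k 1).inv b
  have h0 : Curv2.IsGloballyGenerated ((Scheme.Modules.pullback (𝟙 (CohB1.ProjSpace 1 k))).obj
      (_root_.Twist.twistProjSpace 1 k b)) :=
    GenStage2.gg_of_iso ((Scheme.Modules.pullbackId _).app _).symm (gg_twist b hb)
  exact GenStage2.GenAt.isGloballyGenerated hL
    (GenStage2.GenAt.comp hL (GenStage2.genAt_of_isGloballyGenerated hL _ h0) π (Category.comp_id π))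

/-- The cohomology of pullbacks of twists. -/
theorem nonempty_hh_pull (hdim : topologicalKrullDim X = 2)
    (hπ : π ≫ CohB1.ProjSpace.toSpec 1 k = (X ↘ Spec (CommRingCat.of k))) (hsurj : Function.Surjective π)
    (hfib : ∀ y : CohB1.ProjSpace 1 k, IsClosed ({y} : Set (CohB1.ProjSpace 1 k)) →
      Nonempty (pullback π ((CohB1.ProjSpace 1 k).fromSpecResidueField y) ≅ CohB1.ProjSpace 1 k))
    (b : ℤ) (i : ℕ) :
    letI : (CohB1.ProjSpace 1 k).Over (Spec (CommRingCat.of k)) := ⟨CohB1.ProjSpace.toSpec 1 k⟩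
    Nonempty (Coh.HH (CohB1.ProjSpace 1 k) (_root_.Twist.twistProjSpace 1 k b) i ≃ₗ[k]
      Coh.HH X ((Scheme.Modules.pullback π).obj (_root_.Twist.twistProjSpace 1 k b)) i) := by
  letI : (CohB1.ProjSpace 1 k).Over (Spec (CommRingCat.of k)) := ⟨CohB1.ProjSpace.toSpec 1 k⟩
  haveI : IsProper (CohB1.ProjSpace 1 k ↘ Spec (CommRingCat.of k)) := ProjSpace.isProper_toSpec 1 k
  haveI := RegExt.isIntegral_projSpace 1 k
  haveI : SmoothOfRelativeDimension 1 (CohB1.ProjSpace 1 k ↘ Spec (CommRingCat.of k)) :=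
    ProjSpace.smoothOfRelativeDimension_toSpec 1 k
  haveI : Smooth (CohB1.ProjSpace 1 k ↘ Spec (CommRingCat.of k)) :=
    SmoothOfRelativeDimension.smooth (n := 1) _
  have hdimC : topologicalKrullDim (CohB1.ProjSpace 1 k) = 1 := by rw [Groth.Agent.S10829.result k 1]; rfl
  have hF : Ruled10.Fam k X (CohB1.ProjSpace 1 k) π := ⟨hdim, hπ, hfib⟩
  haveI : Flat π := Ruled10.flat_of_surj hdimC (SurfRR10.regular (k := k)) π hsurj
  have hN := (CMReg18.projData k 1).inv b
  haveI : IsProper π := Ruled10.isProper_of_over π hF.ov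
  haveI : IsIso ((Scheme.Modules.pullbackPushforwardAdjunction π).unit.app (_root_.Twist.twistProjSpace 1 k b)) :=
    PushUnit3.isIso_unit π (fun V => Ruled10.bijective_app hF V) (M2.isFinLocFree_of_isInvertible hN)
  obtain ⟨e⟩ := Ruled10.nonempty_HH_push hF (Twist.isInvertible_pullback π hN)
    (Ruled10.zeroFib_pullback hF hN).nonneg i
  exact ⟨(CurveCoh17.hequiv k
    (asIso ((Scheme.Modules.pullbackPushforwardAdjunction π).unit.app (_root_.Twist.twistProjSpace 1 k b))) i).trans e⟩

variable (hdim : topologicalKrullDim X = 2) {ξ : X} (hξ : topologicalKrullDim (closure ({ξ} : Set X)) = 1)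

omit π in
include hdim in
theorem sdot_zpow_right (x y : PicLoc.PicSet X) : ∀ b : ℤ, sdot k x (y ^ b) = b * sdot k x y
  | Int.ofNat m => by
    rw [Int.ofNat_eq_natCast, zpow_natCast, SymSq10.sdot_comm x, SurfRR10.sdot_pow_left (k := k) hdim,
      SymSq10.sdot_comm y]
  | Int.negSucc m => by
    rw [zpow_negSucc, SurfRR10.sdot_inv_right (k := k) hdim, SymSq10.sdot_comm x,
      SurfRR10.sdot_pow_left (k := k) hdim, SymSq10.sdot_comm y, Int.negSucc_eq]
    push_cast; ring

/-- The class `aσ + bf`. -/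
noncomputable def cl (a : ℕ) (b : ℤ) : PicLoc.PicSet X := ncl (k := k) hdim hξ ^ a * fcl π ^ b

theorem sdot_cl {n : ℕ} (hs : sdot k (ncl (k := k) hdim hξ) (ncl (k := k) hdim hξ) = -(n : ℤ))
    (hf : sdot k (ncl (k := k) hdim hξ) (fcl π) = 1) (a : ℕ) (b : ℤ) :
    sdot k (ncl (k := k) hdim hξ) (cl π hdim hξ a b) = b - n * a := by
  rw [cl, SurfRR10.sdot_mul_right (k := k) hdim, sdot_zpow_right (k := k) hdim, hf,
    SymSq10.sdot_comm (ncl (k := k) hdim hξ) (ncl (k := k) hdim hξ ^ a), SurfRR10.sdot_pow_left (k := k) hdim, hs]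
  ring

omit π in
/-- A curve meeting `O(1)` once is a line; classes of degree zero are trivial on it. -/
theorem trivial_on_curve (hχ : Curv2.euler k X (ClSub.quotMod (ptIdeal ξ)) = 1) {M : X.Modules}
    (hM : PicF.IsInvertible M) (hd : sdot k (ncl (k := k) hdim hξ) (PicGrp.cls M hM) = 0) :
    Nonempty (tw (ptIdeal ξ) M ≅ ClSub.quotMod (ptIdeal ξ)) := by
  haveI : IsNoetherian X := CohFound.isNoetherian_of_isProper (X ↘ Spec (CommRingCat.of k))
  let ι := (ptIdeal ξ).subschemeι
  letI : (ptIdeal ξ).subscheme.Over (Spec (CommRingCat.of k)) := ⟨ι ≫ (X ↘ Spec (CommRingCat.of k))⟩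
  haveI : IsProper ((ptIdeal ξ).subscheme ↘ Spec (CommRingCat.of k)) :=
    inferInstanceAs (IsProper (ι ≫ (X ↘ Spec (CommRingCat.of k))))
  haveI := (isIntegral_pt ξ).1
  haveI : IsNoetherian (ptIdeal ξ).subscheme :=
    CohFound.isNoetherian_of_isProper ((ptIdeal ξ).subscheme ↘ Spec (CommRingCat.of k))
  have hd1 : topologicalKrullDim (ptIdeal ξ).subscheme ≤ 1 :=
    ((AmpleFin18.dim_subscheme _ (Scheme.IdealSheafData.coe_support_vanishingIdeal _)).trans hξ).le
  obtain ⟨M', hM', ⟨eM⟩⟩ := M2.exists_inverse hM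
  let N := (Scheme.Modules.pullback ι).obj M
  have hN : PicF.IsInvertible N := PicLoc.isInvertible_pullback ι hM
  have hNc := CurveCoh17.isCoh_of_ofRank ((M2.isInvertible_iff_isFinLocFreeOfRank_one N).1 hN)
  let j : tw (ptIdeal ξ) M ≅ (Scheme.Modules.pushforward ι).obj N :=
    (Kunneth22.projIso ι eM).app (Coh.structureModule _) ≪≫ (Scheme.Modules.pushforward ι).mapIso (M2.tensorLUnit _)
  have hdeg : sdot k (ncl (k := k) hdim hξ) (PicGrp.cls M hM) = Curv2.deg k (ptIdeal ξ).subscheme N 1 := by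
    rw [← SurfRR10.cdeg_quot (k := k) hdim hξ hM, Curv2.deg, Nat.cast_one, one_mul,
      CurveCoh17.euler_iso (show CohB1.tensorMod (ClSub.quotMod (ptIdeal ξ)) M ≅ _ from j),
      AmpleFin18.euler_push ι rfl _ (M1.isCoh_structureModule _).1, AmpleFin18.euler_push ι rfl _ hNc.1]
  have hX := CurveAmple18.curveLike k (ptIdeal ξ).subscheme hd1
  have h0 := SurfRR10.finrank_h0_eq_one (k := k) (X := (ptIdeal ξ).subscheme)
  rw [AmpleFin18.euler_push ι rfl _ (M1.isCoh_structureModule _).1, hX.euler_structureModule, h0] at hχ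
  have hn : Nontrivial (Coh.HH (ptIdeal ξ).subscheme N 0) := by
    by_contra h
    rw [not_nontrivial_iff_subsingleton] at h
    haveI := hX.h1_subsingleton_of_deg (CurveCoh17.rkOne_of_invertible hd1 hN) h0 (by omega)
    have := hX.rr hNc
    rw [h0, Module.finrank_zero_of_subsingleton (M := Coh.HH _ N 1),
      Module.finrank_zero_of_subsingleton (M := Coh.HH _ N 0)] at this
    omega
  obtain ⟨t⟩ := (hX.deg_nonneg (CurveCoh17.rkOne_of_invertible hd1 hN) hn).2 (by omega)
  exact ⟨j ≪≫ (Scheme.Modules.pushforward ι).mapIso t⟩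

/-- The section is a line. -/
theorem euler_quot_eq_one (hπ : π ≫ CohB1.ProjSpace.toSpec 1 k = (X ↘ Spec (CommRingCat.of k)))
    (hf : sdot k (ncl (k := k) hdim hξ) (fcl π) = 1) :
    Curv2.euler k X (ClSub.quotMod (ptIdeal ξ)) = 1 := by
  haveI : IsNoetherian X := CohFound.isNoetherian_of_isProper (X ↘ Spec (CommRingCat.of k))
  let ι := (ptIdeal ξ).subschemeι
  letI : (ptIdeal ξ).subscheme.Over (Spec (CommRingCat.of k)) := ⟨ι ≫ (X ↘ Spec (CommRingCat.of k))⟩
  haveI : IsProper ((ptIdeal ξ).subscheme ↘ Spec (CommRingCat.of k)) :=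
    inferInstanceAs (IsProper (ι ≫ (X ↘ Spec (CommRingCat.of k))))
  haveI := (isIntegral_pt ξ).1
  haveI : IsNoetherian (ptIdeal ξ).subscheme :=
    CohFound.isNoetherian_of_isProper ((ptIdeal ξ).subscheme ↘ Spec (CommRingCat.of k))
  have hd1 : topologicalKrullDim (ptIdeal ξ).subscheme = 1 :=
    (AmpleFin18.dim_subscheme _ (Scheme.IdealSheafData.coe_support_vanishingIdeal _)).trans hξ
  let M := (Scheme.Modules.pullback π).obj (_root_.Twist.twistProjSpace 1 k 1)
  have hM : PicF.IsInvertible M := Twist.isInvertible_pullback π ((CMReg18.projData k 1).inv 1)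
  obtain ⟨M', hM', ⟨eM⟩⟩ := M2.exists_inverse hM
  let N := (Scheme.Modules.pullback ι).obj M
  have hN : PicF.IsInvertible N := PicLoc.isInvertible_pullback ι hM
  have hNc := CurveCoh17.isCoh_of_ofRank ((M2.isInvertible_iff_isFinLocFreeOfRank_one N).1 hN)
  let j : tw (ptIdeal ξ) M ≅ (Scheme.Modules.pushforward ι).obj N :=
    (Kunneth22.projIso ι eM).app (Coh.structureModule _) ≪≫ (Scheme.Modules.pushforward ι).mapIso (M2.tensorLUnit _)
  have hdeg : sdot k (ncl (k := k) hdim hξ) (PicGrp.cls M hM) = Curv2.deg k (ptIdeal ξ).subscheme N 1 := by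
    rw [← SurfRR10.cdeg_quot (k := k) hdim hξ hM, Curv2.deg, Nat.cast_one, one_mul,
      CurveCoh17.euler_iso (show CohB1.tensorMod (ClSub.quotMod (ptIdeal ξ)) M ≅ _ from j),
      AmpleFin18.euler_push ι rfl _ (M1.isCoh_structureModule _).1, AmpleFin18.euler_push ι rfl _ hNc.1]
  haveI : IsIso (ι ≫ π) := P1Bun1.isIso_of_deg_one (k := k) hd1 (ι ≫ π) (by rw [Category.assoc, hπ]; rfl)
    (((Scheme.Modules.pullbackComp ι π).app _).symm) (hdeg.symm.trans hf)
  have hX := CurveAmple18.curveLike k (ptIdeal ξ).subscheme hd1.le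
  haveI := CIPic27.subsingleton_HH_structure_of_iso (ι ≫ π) 1 (Ruled10.subsingleton_H1_P1 (k := k))
  have hg : Curv2.genus k (ptIdeal ξ).subscheme = 0 := Module.finrank_zero_of_subsingleton
  rw [AmpleFin18.euler_push ι rfl _ (M1.isCoh_structureModule _).1, hX.euler_structureModule,
    SurfRR10.finrank_h0_eq_one (k := k) (X := (ptIdeal ξ).subscheme), hg]
  rfl

omit π in
theorem gg_rep_mul [IsNoetherian X] {c d : PicLoc.PicSet X} (hc : Curv2.IsGloballyGenerated (rep c))
    (hd : Curv2.IsGloballyGenerated (rep d)) : Curv2.IsGloballyGenerated (rep (c * d)) := by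
  obtain ⟨e⟩ := (PicGrp.cls_eq_cls_iff (M2.isInvertible_tensor (rep_inv c) (rep_inv d)) (rep_inv (c * d))).1
    (by rw [← AlgEquiv22.cls_tensor (rep_inv c) (rep_inv d), cls_rep, cls_rep, cls_rep])
  exact GenStage2.gg_of_iso e (DefAmp1.gg_tensor (Snapper.isCoh_of_isInvertible (rep_inv c)) hc hd)

omit π in
theorem gg_rep_pow [IsNoetherian X] {c : PicLoc.PicSet X} (hc : Curv2.IsGloballyGenerated (rep c)) :
    ∀ m : ℕ, Curv2.IsGloballyGenerated (rep (c ^ m))
  | 0 => by
    obtain ⟨e⟩ := (PicGrp.cls_eq_cls_iff (PicLoc.isInvertible_structureModule X) (rep_inv (1 : PicLoc.PicSet X))).1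
      (by rw [cls_rep, PicGrp.cls_structureModule_eq_one])
    rw [pow_zero]
    exact GenStage2.gg_of_iso e gg_unit
  | m + 1 => by
    rw [pow_succ]
    exact gg_rep_mul (gg_rep_pow hc m) hc


/-- Fix an algebraically closed field k of characteristic zero, and suppose X is a smooth projective
surface over k (integral, proper and smooth over k, of dimension 2). Assume given a surjective
k-morphism π : X → P¹_k each of whose fibres over a closed point is isomorphic to P¹_k, together
with an integral curve σ ⊂ X having ideal sheaf I_σ, such that π^*O(1) restricts to a degree-1 sheaf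
on σ (σ·f = 1 for the fibre class f, so σ is a section) and (I_σ·I_σ) = −n for some natural number n
(σ² = −n); in other words X is the rational ruled surface F_n and σ its negative section. Take N to
be a tensor inverse of I_σ (the sheaf O_X(σ)), fix integers a ≥ 0 and b, and set L = N^{⊗a} ⊗
π^*O_{P¹}(b), the sheaf attached to aσ + bf. The conclusions: (i) L is nef, meaning χ(O_C ⊗ L) −
χ(O_C) ≥ 0 for each integral curve C ⊂ X, exactly when na ≤ b; (ii) L is globally generated exactly
when na ≤ b; (iii) L admits a nonzero global section (equivalently, some effective divisor lies in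
the linear class of aσ + bf) exactly when 0 ≤ b. Intersection numbers are computed as (A·B) = χ(O_X)
− χ(A) − χ(B) + χ(A ⊗ B). In the published version a may be any integer, with a ≥ 0 included in the
numerical condition; when a < 0 none of the three properties holds, and here a ≥ 0 is imposed.
Neither the published second condition (|aσ + bf| non-empty with no fixed curve) nor the ampleness
criterion a > 0, b > na is restated. -/
theorem result (k : Type u) [Field k] [IsAlgClosed k] [CharZero k]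
    (X : Scheme.{u}) [X.Over (Spec (CommRingCat.of k))] [IsProper (X ↘ (Spec (CommRingCat.of k)))]
    [Smooth (X ↘ (Spec (CommRingCat.of k)))] [IsIntegral X] (hdim : topologicalKrullDim X = 2)
    (π : X ⟶ CohB1.ProjSpace 1 k) (hπ : π ≫ CohB1.ProjSpace.toSpec 1 k = (X ↘ (Spec (CommRingCat.of k))))
    (hsurj : Function.Surjective π)
    (hfib : ∀ y : CohB1.ProjSpace 1 k, IsClosed ({y} : Set (CohB1.ProjSpace 1 k)) →
      Nonempty (pullback π ((CohB1.ProjSpace 1 k).fromSpecResidueField y) ≅ CohB1.ProjSpace 1 k))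
    (σ : X.IdealSheafData) (hσi : IsIntegral σ.subscheme) (hσd : topologicalKrullDim (σ.support : Set X) = 1)
    (hσf : Curv2.euler k X (CohB1.tensorMod (ClSub.quotMod σ) ((Scheme.Modules.pullback π).obj (Twist.twistProjSpace 1 k 1))) -
      Curv2.euler k X (ClSub.quotMod σ) = 1)
    (n : ℕ) (hσσ : FGA.intNum k X 2 ![(ClSub.idealMod σ), (ClSub.idealMod σ)] (Coh.structureModule X) = -(n : ℤ))
    (N : X.Modules) (hN : ClSub.IsInverseOf N (ClSub.idealMod σ)) (a : ℕ) (b : ℤ) :
    ((∀ C : X.IdealSheafData, IsIntegral C.subscheme → topologicalKrullDim (C.support : Set X) = 1 →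
        0 ≤ Curv2.euler k X (CohB1.tensorMod (ClSub.quotMod C)
          (CohB1.tensorMod (CohB1.tensorPow N a) ((Scheme.Modules.pullback π).obj (Twist.twistProjSpace 1 k b)))) -
          Curv2.euler k X (ClSub.quotMod C)) ↔ (n : ℤ) * a ≤ b) ∧
      (Curv2.IsGloballyGenerated (CohB1.tensorMod (CohB1.tensorPow N a) ((Scheme.Modules.pullback π).obj (Twist.twistProjSpace 1 k b))) ↔
        (n : ℤ) * a ≤ b) ∧
      (Nontrivial (Coh.HH X (CohB1.tensorMod (CohB1.tensorPow N a) ((Scheme.Modules.pullback π).obj (Twist.twistProjSpace 1 k b))) 0) ↔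
        0 ≤ b) := by
  classical
  haveI : IsNoetherian X := CohFound.isNoetherian_of_isProper (X ↘ Spec (CommRingCat.of k))
  obtain ⟨ξ, hξ, rfl⟩ := ExcTwist10.exists_eq_ptIdeal σ hσi hσd
  obtain ⟨hNi, hNc⟩ := SurfRR10.cls_of_isInverse (k := k) hdim hξ hN
  have hM1 := Twist.isInvertible_pullback π ((CMReg18.projData k 1).inv 1)
  have hf : sdot k (ncl (k := k) hdim hξ) (fcl π) = 1 := by
    show sdot k (ncl (k := k) hdim hξ) (PicGrp.cls _ hM1) = 1
    rw [← SurfRR10.cdeg_quot (k := k) hdim hξ hM1]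
    exact hσf
  have hs : sdot k (ncl (k := k) hdim hξ) (ncl (k := k) hdim hξ) = -(n : ℤ) := by
    rw [← ExcTwist10.intNum_ideal (k := k) hdim hξ]
    exact hσσ
  have hχ := euler_quot_eq_one π hdim hξ hπ hf
  -- the sheaf `L`
  have hPi : PicF.IsInvertible ((Scheme.Modules.pullback π).obj (_root_.Twist.twistProjSpace 1 k b)) :=
    Twist.isInvertible_pullback π ((CMReg18.projData k 1).inv b)
  set L := CohB1.tensorMod (CohB1.tensorPow N a) ((Scheme.Modules.pullback π).obj (_root_.Twist.twistProjSpace 1 k b)) with hLdef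
  have hLi : PicF.IsInvertible L := M2.isInvertible_tensor (M2.isInvertible_tensorPow hNi a) hPi
  have hLc : PicGrp.cls L hLi = cl π hdim hξ a b := by
    refine (AlgEquiv22.cls_tensor (M2.isInvertible_tensorPow hNi a) hPi).symm.trans ?_
    rw [HypSq10.cls_pow_eq hNi, hNc]
    exact congrArg _ (cls_pull π b)
  have hrep : ∀ {c : PicLoc.PicSet X} {M : X.Modules} (hM : PicF.IsInvertible M), PicGrp.cls M hM = c →
      Nonempty (rep c ≅ M) := fun {c M} hM hc => (PicGrp.cls_eq_cls_iff (rep_inv c) hM).1 ((cls_rep c).trans hc.symm)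
  obtain ⟨eL⟩ := hrep hLi hLc
  have hLs := sdot_cl π hdim hξ hs hf a b
  -- the degree on the section of a nef class
  have nef_ineq : (∀ C : X.IdealSheafData, IsIntegral C.subscheme → topologicalKrullDim (C.support : Set X) = 1 →
        0 ≤ Curv2.euler k X (CohB1.tensorMod (ClSub.quotMod C) L) - Curv2.euler k X (ClSub.quotMod C)) →
      (n : ℤ) * a ≤ b := fun h => by
    have h1 := h (ptIdeal ξ) hσi hσd
    rw [ExcTwist10.euler_sub_eq (k := k) hdim hξ hLi, hLc, hLs] at h1
    linarith
  -- global generation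
  have gg_ineq : (n : ℤ) * a ≤ b → Curv2.IsGloballyGenerated L := fun hb => by
    obtain ⟨eP⟩ := nonempty_iso_pull π (n : ℤ)
    have g1 : Curv2.IsGloballyGenerated (rep (fcl π ^ (n : ℤ))) :=
      GenStage2.gg_of_iso eP.symm (gg_pull π n (Int.natCast_nonneg n))
    have v1 : Subsingleton (Coh.HH X (rep (fcl π ^ (n : ℤ))) 1) := by
      letI : (CohB1.ProjSpace 1 k).Over (Spec (CommRingCat.of k)) := ⟨CohB1.ProjSpace.toSpec 1 k⟩
      obtain ⟨e⟩ := nonempty_hh_pull π hdim hπ hsurj hfib (n : ℤ) 1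
      haveI := S0844.result k 1 (n : ℤ) 1 (fun h => by omega) (fun h => by omega)
      exact ((CurveCoh17.hequiv k eP 1).trans e.symm).toEquiv.subsingleton
    set c := cl π hdim hξ 1 (n : ℤ) with hc
    have hM := rep_inv c
    obtain ⟨eq⟩ := trivial_on_curve (k := k) hdim hξ hχ hM (by
      rw [cls_rep, hc, sdot_cl π hdim hξ hs hf]; push_cast; ring)
    have hIi := M2.isInvertible_idealMod _ (cartier_pt (k := k) hdim hξ)
    obtain ⟨e1⟩ := (PicGrp.cls_eq_cls_iff (rep_inv (fcl π ^ (n : ℤ))) (M2.isInvertible_tensor hIi hM)).1 (by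
      rw [← AlgEquiv22.cls_tensor hIi hM, cls_rep, cls_rep, SurfRR10.cls_ideal_pt (k := k) hdim hξ, hc, cl, pow_one,
        inv_mul_cancel_left])
    have gM : Curv2.IsGloballyGenerated (rep c) := by
      refine GenStage2.gg_of_iso (M2.tensorLUnit (rep c)) (DefAmp1.gg_of_shortExact (k := k)
        (CurveCoh17.twistSES hM (ptIdeal ξ)) (GenStage2.gg_of_iso e1 g1) ?_ ?_)
      · exact GenStage2.gg_of_iso eq.symm
          (haveI : Epi (ClSub.toSubscheme (ptIdeal ξ)) := (M2.shortExact_idealMod (ptIdeal ξ)).epi_g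
           DefAmp1.gg_of_epi (ClSub.toSubscheme (ptIdeal ξ)) gg_unit)
      · exact ((CurveCoh17.hequiv k e1 1).symm).toEquiv.subsingleton
    obtain ⟨m, hm⟩ := Int.eq_ofNat_of_zero_le (sub_nonneg.2 hb)
    obtain ⟨eQ⟩ := nonempty_iso_pull π (1 : ℤ)
    have gf : Curv2.IsGloballyGenerated (rep (fcl π)) := by
      rw [← zpow_one (fcl π)]
      exact GenStage2.gg_of_iso eQ.symm (gg_pull π 1 zero_le_one)
    have hg := gg_rep_mul (gg_rep_pow gM a) (gg_rep_pow gf m)
    have hcl : c ^ a * fcl π ^ m = cl π hdim hξ a b := by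
      rw [hc, cl, cl, pow_one, mul_pow, ← zpow_natCast (fcl π ^ (n : ℤ)) a, ← zpow_mul, ← zpow_natCast (fcl π) m,
        mul_assoc, ← zpow_add, ← hm, add_sub_cancel]
    rw [hcl] at hg
    exact GenStage2.gg_of_iso eL hg
  have gg_nef : Curv2.IsGloballyGenerated L → ∀ C : X.IdealSheafData, IsIntegral C.subscheme →
      topologicalKrullDim (C.support : Set X) = 1 →
        0 ≤ Curv2.euler k X (CohB1.tensorMod (ClSub.quotMod C) L) - Curv2.euler k X (ClSub.quotMod C) := by
    intro hg C hC hC1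
    obtain ⟨η, hη, rfl⟩ := ExcTwist10.exists_eq_ptIdeal C hC hC1
    obtain ⟨t, ht⟩ := RA.exists_gen_of_isGloballyGenerated hLi hg η
    rw [ExcTwist10.euler_sub_eq (k := k) hdim hη hLi]
    exact (Goodman10.sdot_of_section (k := k) (SurfRR10.regular (k := k)) (SurfRR10.dim_eq (k := k) hdim) hη hLi t ht).1
  refine ⟨⟨nef_ineq, fun h => gg_nef (gg_ineq h)⟩, ⟨fun h => nef_ineq (gg_nef h), gg_ineq⟩, ?_⟩
  -- sections
  letI : (CohB1.ProjSpace 1 k).Over (Spec (CommRingCat.of k)) := ⟨CohB1.ProjSpace.toSpec 1 k⟩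
  obtain ⟨eb⟩ := nonempty_hh_pull π hdim hπ hsurj hfib b 0
  obtain ⟨eP⟩ := nonempty_iso_pull π b
  have hc0 : cl π hdim hξ 0 b = fcl π ^ b := by rw [cl, pow_zero, one_mul]
  refine ⟨fun hn => ?_, fun hb => ?_⟩
  · by_contra hb
    rw [not_le] at hb
    have hz : ∀ m : ℕ, hh k 0 (cl π hdim hξ m b) = 0 := fun m => by
      induction m with
      | zero =>
        haveI := S0844.result k 1 b 0 (fun h => by omega) (fun h => by omega)
        rw [hc0]
        show Module.finrank k (Coh.HH X (rep (fcl π ^ b)) 0) = 0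
        rw [(CurveCoh17.hequiv k eP 0).finrank_eq, ← eb.finrank_eq]
        exact Module.finrank_zero_of_subsingleton
      | succ m ih =>
        have h := ExcTwist10.hh0_mul_icl (k := k) hdim hξ (cl π hdim hξ (m + 1) b) (by
          rw [sdot_cl π hdim hξ hs hf]
          have : (0 : ℤ) ≤ (n : ℤ) * ((m + 1 : ℕ) : ℤ) := mul_nonneg (Int.natCast_nonneg n) (Int.natCast_nonneg _)
          linarith)
        rw [← h, show cl π hdim hξ (m + 1) b * (ncl (k := k) hdim hξ)⁻¹ = cl π hdim hξ m b by
          rw [cl, cl, pow_succ, mul_right_comm, mul_inv_cancel_right]]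
        exact ih
    haveI := CohFound.finite_HH_of_isProper (A := k) L (Snapper.isCoh_of_isInvertible hLi) 0
    have h0 : Module.finrank k (Coh.HH X L 0) = 0 :=
      (CurveCoh17.hequiv k eL 0).finrank_eq.symm.trans (hz a)
    exact (not_nontrivial_iff_subsingleton.2 (Module.finrank_zero_iff.1 h0)) hn
  · have hp : ∀ m : ℕ, Nontrivial (Coh.HH X (rep (cl π hdim hξ m b)) 0) := fun m => by
      induction m with
      | zero =>
        obtain ⟨d, rfl⟩ := Int.eq_ofNat_of_zero_le hb
        have h1 := CMReg18.finrank_h0_twist (k := k) (n := 1) d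
        have h2 : Nontrivial (Coh.HH (CohB1.ProjSpace 1 k) (_root_.Twist.twistProjSpace 1 k (d : ℤ)) 0) :=
          Module.nontrivial_of_finrank_pos (R := k) (by
            refine lt_of_lt_of_le (Nat.choose_pos (n := 1 + d) (k := 1) (Nat.le_add_right 1 d)) h1.ge)
        rw [hc0]
        haveI := h2
        exact ((CurveCoh17.hequiv k eP 0).trans eb.symm).toEquiv.nontrivial
      | succ m ih =>
        have hM := rep_inv (cl π hdim hξ (m + 1) b)
        have hIi := M2.isInvertible_idealMod _ (cartier_pt (k := k) hdim hξ)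
        obtain ⟨e1⟩ := (PicGrp.cls_eq_cls_iff (M2.isInvertible_tensor hIi hM) (rep_inv (cl π hdim hξ m b))).1 (by
          rw [← AlgEquiv22.cls_tensor hIi hM, cls_rep, cls_rep, SurfRR10.cls_ideal_pt (k := k) hdim hξ, cl, cl,
            pow_succ', mul_assoc, inv_mul_cancel_left])
        haveI := ih
        have h1 : Nontrivial (Coh.HH X
            (CohB1.tensorMod (ClSub.idealMod (ptIdeal ξ)) (rep (cl π hdim hξ (m + 1) b))) 0) :=
          @Equiv.nontrivial _ _ (CurveCoh17.hequiv k e1 0).toEquiv ih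
        have h2 : Nontrivial (Coh.HH X
            (CohB1.tensorMod (Coh.structureModule X) (rep (cl π hdim hξ (m + 1) b))) 0) :=
          @Function.Injective.nontrivial _ _ h1 _ (CurveCoh17.hmap_f_injective k (CurveCoh17.twistSES hM (ptIdeal ξ)))
        exact @Equiv.nontrivial _ _ (CurveCoh17.hequiv k (M2.tensorLUnit (rep (cl π hdim hξ (m + 1) b))) 0).symm.toEquiv h2
    haveI := hp a
    exact (CurveCoh17.hequiv k eL 0).symm.toEquiv.nontrivial

end Groth.Agent.S18459
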