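import Groth.Statements.S1846
import Mathlib.RingTheory.HopfAlgebra.Convolution
import Mathlib.LinearAlgebra.TensorProduct.Tower
import Mathlib.LinearAlgebra.Dimension.Constructions
import Mathlib.RingTheory.TensorProduct.Maps

set_option autoImplicit false
universe u v
open GrpSch

namespace Groth.Agent.S1846

open scoped TensorProduct


/-- Affine case of the last sentence: for a group scheme over a field the module of differentials is a
free module; stated for an affine group scheme Spec B, i.e. for a commutative Hopf algebra B over a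
field K: Ω_{B/K} is a free B-module. -/
theorem result (K : Type u) [Field K] (B : Type v) [CommRing B] [HopfAlgebra K B] : Module.Free B (Ω[B⁄K]) := by
  classical
  let ε : B →ₐ[K] K := Bialgebra.counitAlgHom K B
  let S : B →ₗ[K] B := HopfAlgebra.antipode K
  let Δ : B →ₗ[K] B ⊗[K] B := CoalgebraStruct.comul
  let W : Submodule K B := Submodule.span K
    ({1} ∪ Set.range fun p : B × B => (p.1 - algebraMap K B (ε p.1)) * (p.2 - algebraMap K B (ε p.2)))
  let q : B →ₗ[K] B ⧸ W := W.mkQ
  have hq1 : q 1 = 0 := (Submodule.Quotient.mk_eq_zero W).2 (Submodule.subset_span (Or.inl rfl))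
  have hq : ∀ x y, q (x * y) = ε x • q y + ε y • q x := fun x y => by
    have h : q ((x - algebraMap K B (ε x)) * (y - algebraMap K B (ε y))) = 0 :=
      (Submodule.Quotient.mk_eq_zero W).2 (Submodule.subset_span (Or.inr ⟨(x, y), rfl⟩))
    have h' : (x - algebraMap K B (ε x)) * (y - algebraMap K B (ε y)) =
        x * y - ε y • x - ε x • y + (ε x * ε y) • (1 : B) := by
      simp only [Algebra.smul_def, map_mul]; ring
    rw [h', map_add, map_sub, map_sub, map_smul, map_smul, map_smul, hq1, smul_zero, add_zero] at h
    rw [← sub_eq_zero, ← h]; abel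
  -- the universal derivation towards `B ⊗ V`
  let P : B ⊗[K] B →ₗ[K] B ⊗[K] (B ⧸ W) := q.lTensor B
  let E : B ⊗[K] B →ₐ[K] B := (Algebra.TensorProduct.rid K K B).toAlgHom.comp (Algebra.TensorProduct.map (AlgHom.id K B) ε)
  have hE : ∀ a b, E (a ⊗ₜ b) = ε b • a := fun a b => rfl
  have hP : ∀ s t, P (s * t) = E s • P t + E t • P s := by
    intro s t
    induction s using TensorProduct.induction_on with
    | zero => simp
    | add s₁ s₂ h₁ h₂ => simp only [add_mul, map_add, h₁, h₂, add_smul, smul_add]; abel
    | tmul a b =>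
      induction t using TensorProduct.induction_on with
      | zero => simp
      | add t₁ t₂ h₁ h₂ => simp only [mul_add, map_add, h₁, h₂, add_smul, smul_add]; abel
      | tmul c d =>
        simp only [P, Algebra.TensorProduct.tmul_mul_tmul, LinearMap.lTensor_tmul, hE, hq,
          TensorProduct.tmul_add, TensorProduct.tmul_smul, TensorProduct.smul_tmul', smul_eq_mul,
          Algebra.smul_mul_assoc, mul_comm a c]
  have hEΔ : ∀ x, E (Δ x) = x := fun x => by
    have h : ∀ s, E s = TensorProduct.rid K B (CoalgebraStruct.counit.lTensor B s) := by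
      intro s
      induction s using TensorProduct.induction_on with
      | zero => simp
      | tmul a b => rw [hE, LinearMap.lTensor_tmul, TensorProduct.rid_tmul]; rfl
      | add a b ha hb => simp only [map_add, ha, hb]
    rw [h, Coalgebra.lTensor_counit_comul, TensorProduct.rid_tmul, one_smul]
  have hΔmul : ∀ x y, Δ (x * y) = Δ x * Δ y := fun x y => Bialgebra.comul_mul x y
  let D : Derivation K B (B ⊗[K] (B ⧸ W)) := Derivation.mk' (P ∘ₗ Δ) fun x y => by
    simp only [LinearMap.comp_apply, hΔmul, hP, hEΔ]
  -- the inverse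
  let L : B ⊗[K] B →ₗ[K] Ω[B⁄K] := TensorProduct.lift
    (((LinearMap.lsmul B Ω[B⁄K]).restrictScalars₁₂ K K).comp S |>.compl₂ (KaehlerDifferential.D K B).toLinearMap)
  have hL : ∀ a b, L (a ⊗ₜ b) = S a • KaehlerDifferential.D K B b := fun a b => rfl
  let m : B ⊗[K] B →ₗ[K] B := LinearMap.mul' K B ∘ₗ S.rTensor B
  have hm : ∀ a b, m (a ⊗ₜ b) = S a * b := fun a b => rfl
  have hS : ∀ a b, S (a * b) = S a * S b := fun a b => by
    rw [HopfAlgebra.antipode_mul_antidistrib, mul_comm]
  have hLmul : ∀ s t, L (s * t) = m s • L t + m t • L s := by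
    intro s t
    induction s using TensorProduct.induction_on with
    | zero => simp
    | add s₁ s₂ h₁ h₂ => simp only [add_mul, map_add, h₁, h₂, add_smul, smul_add]; abel
    | tmul a b =>
      induction t using TensorProduct.induction_on with
      | zero => simp
      | add t₁ t₂ h₁ h₂ => simp only [mul_add, map_add, h₁, h₂, add_smul, smul_add]; abel
      | tmul c d =>
        simp only [Algebra.TensorProduct.tmul_mul_tmul, hL, hm, hS, Derivation.leibniz, smul_add, smul_smul]
        congr 2 <;> ring
  have hmΔ : ∀ x, m (Δ x) = algebraMap K B (ε x) := fun x => HopfAlgebra.mul_antipode_rTensor_comul_apply x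
  let e : B →ₗ[K] Ω[B⁄K] := L ∘ₗ Δ
  have he : ∀ x y, e (x * y) = algebraMap K B (ε x) • e y + algebraMap K B (ε y) • e x := fun x y => by
    simp only [e, LinearMap.comp_apply, hΔmul, hLmul, hmΔ]
  have heW : W ≤ LinearMap.ker e := by
    refine Submodule.span_le.2 ?_
    rintro z (rfl | ⟨⟨x, y⟩, rfl⟩)
    · show L (Δ 1) = 0
      rw [show Δ 1 = (1 : B) ⊗ₜ (1 : B) from Bialgebra.comul_one, hL, Derivation.map_one_eq_zero, smul_zero]
    · show e _ = 0
      rw [he]; simp
  let ψ : B ⊗[K] (B ⧸ W) →ₗ[B] Ω[B⁄K] := (W.liftQ e heW).liftBaseChange B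
  have hψ : ∀ b x, ψ (b ⊗ₜ q x) = b • e x := fun b x => by simp [ψ, q]
  let φ : Ω[B⁄K] →ₗ[B] B ⊗[K] (B ⧸ W) := D.liftKaehlerDifferential
  have hφ : ∀ x, φ (KaehlerDifferential.D K B x) = P (Δ x) := fun x => D.liftKaehlerDifferential_comp_D x
  have coassoc : ∀ x, Δ.lTensor B (Δ x) = TensorProduct.assoc K B B B (Δ.rTensor B (Δ x)) := fun x =>
    (Coalgebra.coassoc_apply x).symm
  -- first composite
  have h1 : ∀ x, φ (e x) = (1 : B) ⊗ₜ q x := by
    intro x
    let G : B ⊗[K] (B ⊗[K] B) →ₗ[K] B ⊗[K] (B ⧸ W) :=
      TensorProduct.map m q ∘ₗ (TensorProduct.assoc K B B B).symm.toLinearMap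
    have hG : ∀ s, φ (L s) = G (Δ.lTensor B s) := by
      intro s
      induction s using TensorProduct.induction_on with
      | zero => simp
      | add a b ha hb => simp only [map_add, ha, hb]
      | tmul a b =>
        rw [hL, map_smul, hφ, LinearMap.lTensor_tmul]
        induction Δ b using TensorProduct.induction_on with
        | zero => simp
        | add u v hu hv => simp only [map_add, smul_add, TensorProduct.tmul_add, hu, hv]
        | tmul u v => simp [G, P, hm, TensorProduct.smul_tmul']
    show φ (L (Δ x)) = _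
    rw [hG, coassoc]
    simp only [G, LinearMap.comp_apply, LinearEquiv.coe_coe, LinearEquiv.symm_apply_apply]
    have h2 : ∀ s, TensorProduct.map m q (Δ.rTensor B s) =
        (1 : B) ⊗ₜ q (TensorProduct.lid K B (CoalgebraStruct.counit.rTensor B s)) := by
      intro s
      induction s using TensorProduct.induction_on with
      | zero => simp
      | add a b ha hb => simp only [map_add, TensorProduct.tmul_add, ha, hb]
      | tmul a b =>
        rw [LinearMap.rTensor_tmul, TensorProduct.map_tmul, hmΔ, LinearMap.rTensor_tmul, TensorProduct.lid_tmul,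
          map_smul, TensorProduct.tmul_smul, Algebra.algebraMap_eq_smul_one, TensorProduct.smul_tmul']
        rfl
    rw [h2, Coalgebra.rTensor_counit_comul, TensorProduct.lid_tmul, one_smul]
  -- second composite
  have h2 : ∀ x, ψ (φ (KaehlerDifferential.D K B x)) = KaehlerDifferential.D K B x := by
    intro x
    let m' : B ⊗[K] B →ₗ[K] B := LinearMap.mul' K B ∘ₗ S.lTensor B
    let H : (B ⊗[K] B) ⊗[K] B →ₗ[K] Ω[B⁄K] := TensorProduct.lift
      (((LinearMap.lsmul B Ω[B⁄K]).restrictScalars₁₂ K K).comp m' |>.compl₂ (KaehlerDifferential.D K B).toLinearMap)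
    have hH : ∀ s, ψ (P s) = H ((TensorProduct.assoc K B B B).symm (Δ.lTensor B s)) := by
      intro s
      induction s using TensorProduct.induction_on with
      | zero => simp
      | add a b ha hb => simp only [map_add, ha, hb]
      | tmul a b =>
        rw [show P (a ⊗ₜ b) = a ⊗ₜ q b from rfl, hψ, LinearMap.lTensor_tmul]
        show a • L (Δ b) = _
        induction Δ b using TensorProduct.induction_on with
        | zero => simp
        | add u v hu hv => simp only [map_add, smul_add, TensorProduct.tmul_add, hu, hv]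
        | tmul u v => simp [H, m', hL, smul_smul]
    rw [hφ, hH, coassoc, LinearEquiv.symm_apply_apply]
    have h3 : ∀ s, H (Δ.rTensor B s) =
        KaehlerDifferential.D K B (TensorProduct.lid K B (CoalgebraStruct.counit.rTensor B s)) := by
      intro s
      induction s using TensorProduct.induction_on with
      | zero => simp
      | add a b ha hb => simp only [map_add, ha, hb]
      | tmul a b =>
        rw [LinearMap.rTensor_tmul, LinearMap.rTensor_tmul, TensorProduct.lid_tmul, Derivation.map_smul]
        show m' (Δ a) • KaehlerDifferential.D K B b = _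
        rw [show m' (Δ a) = algebraMap K B (ε a) from HopfAlgebra.mul_antipode_lTensor_comul_apply a,
          algebraMap_smul]
        rfl
    rw [h3, Coalgebra.rTensor_counit_comul, TensorProduct.lid_tmul, one_smul]
  refine Module.Free.of_equiv (R := B) (M := B ⊗[K] (B ⧸ W))
    (LinearEquiv.ofLinearMap ψ φ ?_ ?_)
  · refine LinearMap.ext fun w => ?_
    have hw : w ∈ Submodule.span B (Set.range (KaehlerDifferential.D K B)) := by
      rw [KaehlerDifferential.span_range_derivation]; trivial
    induction hw using Submodule.span_induction with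
    | mem z hz => obtain ⟨x, rfl⟩ := hz; exact h2 x
    | zero => simp
    | add _ _ _ _ ha hb => simp only [map_add, ha, hb]
    | smul c _ _ ha => simp only [map_smul, ha]
  · refine TensorProduct.AlgebraTensorModule.ext fun b z => ?_
    obtain ⟨x, rfl⟩ := W.mkQ_surjective z
    show φ (ψ (b ⊗ₜ q x)) = b ⊗ₜ q x
    rw [hψ, map_smul, h1, TensorProduct.smul_tmul', smul_eq_mul, mul_one]

end Groth.Agent.S1846
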