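import Groth.Statements.S18460
import Groth.Agent.Lib.NumConn10.Contraction
import Groth.Agent.Lib.SurfRR10.Proj
import Groth.Agent.Lib.NumPoly18.SurfCurves

set_option autoImplicit false
set_option maxHeartbeats 1000000
set_option linter.style.haveILetI false
set_option backward.isDefEq.respectTransparency false
set_option backward.isDefEq.respectTransparency.types false
universe u
open CategoryTheory CategoryTheory.Limits AlgebraicGeometry TopologicalSpace
open Surf

namespace Groth.Agent.S18460

open TopologicalSpace Opposite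
open Groth.Agent

noncomputable local instance instLawNegDef (Y : Scheme.{u}) : PicGrp.Law Y := M2.law Y

/-- Let k be an algebraically closed field of characteristic zero and X a smooth projective surface over
k (integral, proper and smooth over k, of dimension 2). Let Y be an integral normal scheme of
dimension 2, locally of finite type over k, y a closed point of Y, and π : X → Y a proper k-morphism
which restricts to an isomorphism over Y ∖ {y} and whose fibre over y is, as a set, the union of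
pairwise distinct integral curves C_1, …, C_r on X (r ≥ 1, ideal sheaves I_i), this union being
connected; so π contracts the connected curve C = ⋃ C_i to the normal point y. Then the intersection
matrix of the C_i is negative definite: Σ_{i,j} a_i a_j (I_i·I_j) < 0 for every nonzero integer
vector a, where (A·B) = χ(O_X) − χ(A) − χ(B) + χ(A ⊗ B). The published statement is about a
holomorphic contraction of a compact connected curve in a complex surface to a point of a normal
analytic surface; this row is the algebraic case, with Y locally of finite type so that the local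
ring at y is a two-dimensional Noetherian normal domain and a nonzero function vanishing at y cuts
out a curve through y, which is what the printed argument (pull back such a function and apply the
formal negativity lemma proved there) uses. -/
theorem result (k : Type u) [Field k] [IsAlgClosed k] [CharZero k]
    (X : Scheme.{u}) [X.Over (Spec (CommRingCat.of k))] [IsProper (X ↘ (Spec (CommRingCat.of k)))]
    [Smooth (X ↘ (Spec (CommRingCat.of k)))] [IsIntegral X] (hdim : topologicalKrullDim X = 2)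
    (Y : Scheme.{u}) [Y.Over (Spec (CommRingCat.of k))] [IsIntegral Y] (hYn : Pi1.IsNormalScheme Y)
    (hYd : topologicalKrullDim Y = 2)
    [LocallyOfFiniteType (Y ↘ (Spec (CommRingCat.of k)))]
    (π : X ⟶ Y) (hπk : π ≫ (Y ↘ (Spec (CommRingCat.of k))) = (X ↘ (Spec (CommRingCat.of k)))) [IsProper π]
    (y : Y) (hy : IsClosed ({y} : Set Y)) (hiso : IsIso (π ∣_ (⟨({y} : Set Y)ᶜ, hy.isOpen_compl⟩ : Y.Opens)))
    (r : ℕ) (hr : 0 < r) (C : Fin r → X.IdealSheafData) (hC : Function.Injective C)
    (hCi : ∀ i, IsIntegral (C i).subscheme) (hCd : ∀ i, topologicalKrullDim ((C i).support : Set X) = 1)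
    (hfib : (π.base : X → Y) ⁻¹' {y} = ⋃ i, ((C i).support : Set X))
    (hconn : _root_.IsConnected (⋃ i, ((C i).support : Set X))) :
    ∀ a : Fin r → ℤ, a ≠ 0 →
      ∑ i, ∑ j, a i * a j * FGA.intNum k X 2 ![(ClSub.idealMod (C i)), (ClSub.idealMod (C j))] (Coh.structureModule X) < 0 := by
  classical
  have hd := SurfRR10.dim_eq (k := k) hdim
  have hreg := SurfRR10.regular (k := k) (X := X)
  obtain ⟨H, hH⟩ := SurfRR10.exists_ample (k := k) hdim
  obtain ⟨ξ, hξinj, hCξ⟩ := SurfR.exists_conf C hC hCi hCd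
  have hsupp : ∀ i, ((C i).support : Set X) = closure {ξ i} := fun i => by
    rw [(hCξ i).1]; exact Scheme.IdealSheafData.coe_support_vanishingIdeal _
  simp only [hsupp] at hfib hconn
  have hpos : ∀ η : X, topologicalKrullDim (closure ({η} : Set X)) = 1 →
      0 < SymSq10.sdot k (Goodman10.cl' (k := k) hreg hd η) (PicGrp.cls H hH.1) := fun η hη => by
    rw [Goodman10.cl'_eq (k := k) hreg hd hη]
    exact SurfRR10.pos_of_isAmple (k := k) hdim hη hH
  have hnn : ∀ (c : PicLoc.PicSet X) (A : X → Prop), Goodman10.Good c A → A (genericPoint X) →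
      0 ≤ SymSq10.sdot k c (PicGrp.cls H hH.1) := by
    rintro c A ⟨L, hL, φ, rfl, hφ⟩ hgen
    exact SurfRR10.sdot_nonneg_of_sec (k := k) hdim hH hL (SurfRR10.hasMonoSec_of_gen (k := k) hdim hL φ ((hφ _).2 hgen))
  -- a function vanishing at the point and a further zero of it
  haveI : IsLocallyNoetherian Y := LocallyOfFiniteType.isLocallyNoetherian (Y ↘ Spec (CommRingCat.of k))
  obtain ⟨V, hV, hyV, -⟩ := exists_isAffineOpen_mem_and_subset (x := y) (U := (⊤ : Y.Opens)) trivial
  haveI : IsNoetherianRing Γ(Y, V) := IsLocallyNoetherian.component_noetherian (X := Y) ⟨V, hV⟩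
  haveI : Nonempty V := ⟨⟨y, hyV⟩⟩
  let P := (hV.primeIdealOf ⟨y, hyV⟩).asIdeal
  have hP2 : (P.height : WithBot ℕ∞) = (2 : ℕ) := by
    letI := TopCat.Presheaf.algebra_section_stalk Y.presheaf (⟨y, hyV⟩ : V)
    haveI := hV.isLocalization_stalk ⟨y, hyV⟩
    rw [← IsLocalization.AtPrime.ringKrullDim_eq_height P (Y.presheaf.stalk y)]
    have h := NumPoly18.ringKrullDim_stalk_of_sdim (k := k) (X := Y) (d := 2) (by rw [hYd]; rfl) y
    rwa [(VarDim.sdim_eq_zero_iff_isClosed (Y ↘ Spec (CommRingCat.of k)) y).2 hy, Nat.cast_zero, add_zero] at h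
  have hP0 : P ≠ ⊥ := fun h0 => by
    rw [h0, Ideal.height_bot] at hP2
    norm_num at hP2
  obtain ⟨f, hfP, hf0⟩ := Submodule.exists_mem_ne_zero_of_ne_bot hP0
  obtain ⟨q, hq, hqP⟩ := Ideal.exists_minimalPrimes_le ((Ideal.span_singleton_le_iff_mem P).2 hfP)
  have hq1 : q.height ≤ 1 := Ideal.height_le_one_of_isPrincipal_of_mem_minimalPrimes (Ideal.span {f}) q hq
  have hfq : f ∈ q := hq.1.2 (Ideal.mem_span_singleton_self f)
  let η : Y := hV.fromSpec ⟨q, hq.1.1⟩
  have hηy : η ⤳ y := by
    have hy' := hV.fromSpec_primeIdealOf ⟨y, hyV⟩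
    have h := ((PrimeSpectrum.le_iff_specializes (⟨q, hq.1.1⟩ : Spec Γ(Y, V)) (hV.primeIdealOf ⟨y, hyV⟩)).1 hqP).map
      hV.fromSpec.continuous
    rw [hy'] at h
    exact h
  have hηne : η ≠ y := fun he => by
    have h := hV.fromSpec.isOpenEmbedding.injective (he.trans (hV.fromSpec_primeIdealOf ⟨y, hyV⟩).symm)
    have h' : q = P := congrArg PrimeSpectrum.asIdeal h
    rw [← h'] at hP2
    have h2 : q.height = (2 : ℕ) := WithBot.coe_injective hP2
    rw [h2] at hq1
    norm_num at hq1
  have hfη : η ∉ Y.basicOpen f := fun h => by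
    have h' : (⟨q, hq.1.1⟩ : Spec Γ(Y, V)) ∈ hV.fromSpec ⁻¹ᵁ Y.basicOpen f := h
    rw [hV.fromSpec_preimage_basicOpen] at h'
    exact h' hfq
  have hfy : y ∉ Y.basicOpen f := fun h => hfη (hηy.mem_open (Y.basicOpen f).isOpen h)
  -- points off the closed point lift
  let O : Y.Opens := ⟨({y} : Set Y)ᶜ, hy.isOpen_compl⟩
  have hsurj : ∀ w : Y, w ≠ y → ∃ v : X, π v = w := fun w hw => by
    haveI := hiso
    let u := inv (π ∣_ O) ⟨w, hw⟩
    refine ⟨(π ⁻¹ᵁ O).ι u, ?_⟩
    have h := congrArg (fun φ => φ u) (morphismRestrict_ι π O)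
    refine h.symm.trans ?_
    show O.ι ((π ∣_ O) (inv (π ∣_ O) ⟨w, hw⟩)) = w
    rw [← Scheme.Hom.comp_apply (inv (π ∣_ O)) (π ∣_ O), IsIso.inv_hom_id]
    rfl
  obtain ⟨ξ', hξ'⟩ := hsurj η hηne
  have hE : ∀ v, π v = y ↔ ∃ i, ξ i ⤳ v := fun v => by
    show v ∈ (π.base : X → Y) ⁻¹' {y} ↔ _
    rw [hfib, Set.mem_iUnion]
    simp only [specializes_iff_mem_closure]
  have hξ'E : ∀ i, ¬ ξ i ⤳ ξ' := fun i h => hηne (hξ'.symm.trans ((hE ξ').2 ⟨i, h⟩))
  obtain ⟨z, hz, hzy⟩ : y ∈ (π.base : X → Y) '' closure {ξ'} := by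
    refine closure_minimal (Set.singleton_subset_iff.2 (show η ∈ (π.base : X → Y) '' closure {ξ'} from ⟨ξ', subset_closure rfl, hξ'⟩))
      (π.isClosedMap _ isClosed_closure) (specializes_iff_mem_closure.1 hηy)
  obtain ⟨i₀, hi₀⟩ := (hE z).1 hzy
  -- the pulled back function
  have hpre : π ⁻¹ᵁ Y.basicOpen f = X.basicOpen (π.app V f) := Scheme.preimage_basicOpen π f
  have hg0 : π.app V f ≠ 0 := fun h0 => by
    obtain ⟨w, hw⟩ : ((Y.basicOpen f : Y.Opens) : Set Y).Nonempty := by
      rw [Set.nonempty_iff_ne_empty]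
      intro h
      exact hf0 ((basicOpen_eq_bot_iff f).1 (Opens.ext h))
    obtain ⟨v, hv⟩ := hsurj w fun e => hfy (e ▸ hw)
    have h : v ∈ X.basicOpen (π.app V f) := hpre ▸ (show π v ∈ Y.basicOpen f from hv.symm ▸ hw)
    rw [h0, Scheme.basicOpen_zero] at h
    exact h
  have hgE : ∀ i, ξ i ∉ X.basicOpen (π.app V f) := fun i h => by
    rw [← hpre] at h
    exact hfy ((hE (ξ i)).2 ⟨i, specializes_rfl⟩ ▸ h)
  have hgη : ξ' ∉ X.basicOpen (π.app V f) := fun h => by
    rw [← hpre] at h
    exact hfη (hξ' ▸ h)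
  intro a ha
  have key := NumConn10.negDef_of_function (k := k) hreg hd hH hpos hnn ξ (fun i => (hCξ i).2) hξinj hconn (π ⁻¹ᵁ V)
    (fun v hv => by
      rw [← hfib] at hv
      show π v ∈ V
      exact (show π v = y from hv) ▸ hyV) (π.app V f) hg0 hgE i₀ z ξ' hi₀ (specializes_iff_mem_closure.2 hz) hξ'E hgη a ha
  refine lt_of_eq_of_lt (Finset.sum_congr rfl fun i _ => Finset.sum_congr rfl fun j _ => ?_) key
  congr 1
  have hI := fun i => M2.isInvertible_idealMod (C i) (by
    rw [(hCξ i).1]; exact Goodman10.isEffCartier_pt (k := k) hreg hd (hCξ i).2)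
  have hcls : ∀ i, PicGrp.cls (ClSub.idealMod (C i)) (hI i) = (Goodman10.cl' (k := k) hreg hd (ξ i))⁻¹ := fun i => by
    rw [Goodman10.cl'_eq (k := k) hreg hd (hCξ i).2, Goodman10.ncl, inv_inv]
    congr 1
    rw [(hCξ i).1]
  rw [SymSq10.intNum_eq' hd.le (hI i) (hI j), hcls, hcls, SurfRR10.sdot_inv_left (k := k) hdim,
    SurfRR10.sdot_inv_right (k := k) hdim, neg_neg]

end Groth.Agent.S18460
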