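import Groth.Statements.S18461
import Groth.Agent.Lib.NumConn10.Rational
import Groth.Agent.Lib.NumPoly18.SurfCones

set_option autoImplicit false
set_option maxHeartbeats 1000000
set_option linter.style.haveILetI false
set_option backward.isDefEq.respectTransparency false
set_option backward.isDefEq.respectTransparency.types false
universe u
open CategoryTheory CategoryTheory.Limits AlgebraicGeometry TopologicalSpace
open Surf

namespace Groth.Agent.S18461

open Groth.Agent.SymSq10 (sdot)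
open Groth.Agent.SurfRR10 (ncl)

noncomputable local instance instLawS18461 (Y : Scheme.{u}) : PicGrp.Law Y := M2.law Y


/-- Let k be an algebraically closed field of characteristic zero and X a smooth projective surface over
k (integral, proper and smooth over k, of dimension 2). Let C_1, …, C_r (r ≥ 1) be pairwise distinct
integral curves on X, with ideal sheaves I_i, forming a connected configuration with negative
definite intersection matrix (no partition of the indices into two nonempty sets with (I_i·I_j) = 0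
across; Σ a_i a_j (I_i·I_j) < 0 for every nonzero integer vector a; (A·B) = χ(O_X) − χ(A) − χ(B) +
χ(A ⊗ B)), and let Z₀ be a fundamental cycle: a nonzero effective Cartier divisor supported on ⋃ C_i
with deg(I_{Z₀}|_{C_i}) = χ(O_{C_i} ⊗ I_{Z₀}) − χ(O_{C_i}) ≥ 0 for all i, every other such divisor Z
satisfying Z ≥ Z₀ (I_Z ⊆ I_{Z₀}). Suppose the configuration is rational in the sense that H¹(Z, O_Z)
= 0 for every nonzero effective Cartier divisor Z supported on ⋃ C_i. Then for every natural number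
N, writing O_{Z₀}(−NZ₀) = O_{Z₀} ⊗ I_{Z₀}^{⊗N}: H¹(Z₀, O_{Z₀}(−NZ₀)) = 0 and dim_k H⁰(Z₀,
O_{Z₀}(−NZ₀)) = −N·(I_{Z₀}·I_{Z₀}) + 1, that is −N·Z₀² + 1; cohomology is computed on X through the
direct image of O_{Z₀}. The published statement assumes the singularity obtained by contracting the
configuration over the complex numbers rational, which is equivalent to the vanishing assumed here,
and also asserts R¹π_*O_X(−NZ₀) = 0 for the contraction π and two facts on the maximal ideal of that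
singularity; those are not restated. -/
theorem result (k : Type u) [Field k] [IsAlgClosed k] [CharZero k]
    (X : Scheme.{u}) [X.Over (Spec (CommRingCat.of k))] [IsProper (X ↘ (Spec (CommRingCat.of k)))]
    [Smooth (X ↘ (Spec (CommRingCat.of k)))] [IsIntegral X] (hdim : topologicalKrullDim X = 2)
    (r : ℕ) (hr : 0 < r) (C : Fin r → X.IdealSheafData) (hC : Function.Injective C)
    (hCi : ∀ i, IsIntegral (C i).subscheme) (hCd : ∀ i, topologicalKrullDim ((C i).support : Set X) = 1)
    (hconn : ∀ S : Finset (Fin r), S.Nonempty → Sᶜ.Nonempty →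
      ∃ i ∈ S, ∃ j ∈ Sᶜ, FGA.intNum k X 2 ![(ClSub.idealMod (C i)), (ClSub.idealMod (C j))] (Coh.structureModule X) ≠ 0)
    (hneg : ∀ a : Fin r → ℤ, a ≠ 0 →
      ∑ i, ∑ j, a i * a j * FGA.intNum k X 2 ![(ClSub.idealMod (C i)), (ClSub.idealMod (C j))] (Coh.structureModule X) < 0)
    (Z₀ : X.IdealSheafData) (hZ₀ : FGA.IsEffCartier Z₀) (hZ₀0 : Z₀ ≠ ⊤)
    (hZ₀s : (Z₀.support : Set X) ⊆ ⋃ i, ((C i).support : Set X))
    (hZ₀C : ∀ i, 0 ≤ Curv2.euler k X (CohB1.tensorMod (ClSub.quotMod (C i)) (ClSub.idealMod Z₀)) -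
      Curv2.euler k X (ClSub.quotMod (C i)))
    (hZ₀min : ∀ Z : X.IdealSheafData, FGA.IsEffCartier Z → Z ≠ ⊤ → (Z.support : Set X) ⊆ ⋃ i, ((C i).support : Set X) →
      (∀ i, 0 ≤ Curv2.euler k X (CohB1.tensorMod (ClSub.quotMod (C i)) (ClSub.idealMod Z)) -
        Curv2.euler k X (ClSub.quotMod (C i))) → Z ≤ Z₀)
    (hrat : ∀ Z : X.IdealSheafData, FGA.IsEffCartier Z → Z ≠ ⊤ → (Z.support : Set X) ⊆ ⋃ i, ((C i).support : Set X) →
      Subsingleton (Coh.HH X (ClSub.quotMod Z) 1))
    (N : ℕ) :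
    Subsingleton (Coh.HH X (CohB1.tensorMod (ClSub.quotMod Z₀) (CohB1.tensorPow (ClSub.idealMod Z₀) N)) 1) ∧
      (Module.finrank k (Coh.HH X (CohB1.tensorMod (ClSub.quotMod Z₀) (CohB1.tensorPow (ClSub.idealMod Z₀) N)) 0) : ℤ) =
        -(N : ℤ) * FGA.intNum k X 2 ![(ClSub.idealMod Z₀), (ClSub.idealMod Z₀)] (Coh.structureModule X) + 1 := by
  haveI : IsNoetherian X := CohFound.isNoetherian_of_isProper (X ↘ Spec (CommRingCat.of k))
  have hd2 := (SurfRR10.dim_eq (k := k) hdim).le
  choose η hCη hη using fun i => SurfR.exists_eq_ptIdeal (C i) (hCi i) (hCd i)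
  have hinj : Function.Injective η := fun i j h => hC (by rw [hCη i, hCη j, h])
  have hint : ∀ i j, FGA.intNum k X 2 ![(ClSub.idealMod (C i)), (ClSub.idealMod (C j))] (Coh.structureModule X) =
      sdot k (ncl (k := k) hdim (hη i)) (ncl (k := k) hdim (hη j)) := fun i j => by
    rw [hCη i, hCη j, SymSq10.intNum_eq' hd2 (M2.isInvertible_idealMod _ (NumConn10.cartier_pt (k := k) hdim (hη i)))
      (M2.isInvertible_idealMod _ (NumConn10.cartier_pt (k := k) hdim (hη j))),
      SurfRR10.cls_ideal_pt (k := k) hdim (hη i), SurfRR10.cls_ideal_pt (k := k) hdim (hη j),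
      SurfRR10.sdot_inv_left (k := k) hdim, SurfRR10.sdot_inv_right (k := k) hdim, neg_neg]
  have hdc : ∀ (Z : X.IdealSheafData) (hZ : BlowUp.IsEffCartierIdeal Z) (i : Fin r),
      Curv2.euler k X (CohB1.tensorMod (ClSub.quotMod (C i)) (ClSub.idealMod Z)) - Curv2.euler k X (ClSub.quotMod (C i)) =
        sdot k (ncl (k := k) hdim (hη i)) (NumConn10.icl hZ) := fun Z hZ i => by
    rw [hCη i]
    exact SurfRR10.cdeg_quot (k := k) hdim (hη i) (M2.isInvertible_idealMod Z hZ)
  have hpos : ∀ i, 0 ≤ sdot k (ncl (k := k) hdim (hη i)) (NumConn10.icl (show BlowUp.IsEffCartierIdeal Z₀ from hZ₀)) :=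
    fun i => hdc Z₀ hZ₀ i ▸ hZ₀C i
  have hmin : ∀ (J : X.IdealSheafData) (hJ : BlowUp.IsEffCartierIdeal J), J ≠ ⊤ →
      (J.support : Set X) ⊆ ⋃ i, ((C i).support : Set X) →
      (∀ i, 0 ≤ sdot k (ncl (k := k) hdim (hη i)) (NumConn10.icl hJ)) → J ≤ Z₀ :=
    fun J hJ hJt hJs h => hZ₀min J hJ hJt hJs fun i => (hdc J hJ i).symm ▸ h i
  have hconn' : ∀ S : Finset (Fin r), S.Nonempty → Sᶜ.Nonempty →
      ∃ i ∈ S, ∃ j ∈ Sᶜ, sdot k (ncl (k := k) hdim (hη i)) (ncl (k := k) hdim (hη j)) ≠ 0 := fun S h1 h2 => by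
    obtain ⟨i, hi, j, hj, hij⟩ := hconn S h1 h2
    exact ⟨i, hi, j, hj, hint i j ▸ hij⟩
  have hh := hrat Z₀ hZ₀ hZ₀0 hZ₀s
  have hI := M2.isInvertible_idealMod Z₀ hZ₀
  have hM := M2.isInvertible_tensorPow hI N
  have hMc : PicGrp.cls (CohB1.tensorPow (ClSub.idealMod Z₀) N) hM =
      NumConn10.icl (show BlowUp.IsEffCartierIdeal Z₀ from hZ₀) ^ N := by
    have key : ∀ (n : ℕ) (h : PicF.IsInvertible (CohB1.tensorPow (ClSub.idealMod Z₀) n)),
        PicGrp.cls (CohB1.tensorPow (ClSub.idealMod Z₀) n) h =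
          NumConn10.icl (show BlowUp.IsEffCartierIdeal Z₀ from hZ₀) ^ n := by
      intro n
      induction n with
      | zero => exact fun h => (NumConn10.cls_unit_eq_one (k := k) hdim h).trans (pow_zero _).symm
      | succ n ih =>
        intro h
        rw [pow_succ, ← ih (M2.isInvertible_tensorPow hI n)]
        exact (AlgEquiv22.cls_tensor (M2.isInvertible_tensorPow hI n) hI).symm
    exact key N hM
  have h1 := NumConn10.h1_twist (k := k) hdim hη hCη hZ₀ hZ₀0 hZ₀s hpos hmin hh hM hMc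
  refine ⟨h1, ?_⟩
  have h0 := NumConn10.finrank_h0_fundamental (k := k) hdim hη hCη hZ₀ hZ₀0 hZ₀s hpos hmin
  obtain ⟨he1, he2⟩ := NumConn10.one_le_euler_of_h1 (k := k) hdim hZ₀ hZ₀0 hh
  have htw := NumConn10.euler_tw (k := k) hdim hZ₀ hM
  rw [hMc, SymSq10.sdot_comm, SurfRR10.sdot_pow_left (k := k) hdim] at htw
  have hd1 := NumConn10.dim_support_tw (k := k) hdim hZ₀ hM
  have he : Curv2.euler k X (NumConn10.tw Z₀ (CohB1.tensorPow (ClSub.idealMod Z₀) N)) =
      Module.finrank k (Coh.HH X (NumConn10.tw Z₀ (CohB1.tensorPow (ClSub.idealMod Z₀) N)) 0) := by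
    haveI := h1
    rw [Curv2.euler, finsum_eq_finsetSum_of_support_subset (s := Finset.range 2)]
    · rw [Finset.sum_range_succ, Finset.sum_range_one, Module.finrank_zero_of_subsingleton (R := k)
        (M := Coh.HH X (NumConn10.tw Z₀ (CohB1.tensorPow (ClSub.idealMod Z₀) N)) 1)]
      ring
    · intro i hi
      simp only [Finset.coe_range, Set.mem_Iio]
      by_contra hlt
      haveI := NumPoly18.subsingleton_HH_of_support (k := k) (NumConn10.isCoh_tw (k := k) hdim Z₀ hM) hd1 (show 1 < i by omega)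
      exact hi (by simp [Module.finrank_zero_of_subsingleton])
  rw [SymSq10.intNum_eq' hd2 hI hI]
  have hq : Curv2.euler k X (ClSub.quotMod Z₀) = 1 := by omega
  rw [hq, he] at htw
  rw [show PicGrp.cls (ClSub.idealMod Z₀) hI = NumConn10.icl (show BlowUp.IsEffCartierIdeal Z₀ from hZ₀) from rfl]
  show (Module.finrank k (Coh.HH X (NumConn10.tw Z₀ (CohB1.tensorPow (ClSub.idealMod Z₀) N)) 0) : ℤ) = _
  linarith

end Groth.Agent.S18461
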