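import Groth.Statements.S18462
import Groth.Agent.Lib.NumPoly18.SurfCurves

set_option autoImplicit false
universe u
open CategoryTheory CategoryTheory.Limits AlgebraicGeometry TopologicalSpace
open Surf

open Groth.Agent Groth.Agent.NumPoly18 Groth.Agent.SurfR
namespace Groth.Agent.S18462

/-- Let k be an algebraically closed field of characteristic zero and X a smooth projective surface over
k (integral, proper and smooth over k, of dimension 2, carrying an ample invertible module). Let
C_1, …, C_r be pairwise distinct integral curves on X with ideal sheaves I_i and negative definite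
intersection matrix (Σ_{i,j} a_i a_j (I_i·I_j) < 0 for every nonzero integer vector a, where (A·B) =
χ(O_X) − χ(A) − χ(B) + χ(A ⊗ B)), let F be an effective Cartier divisor on X, with ideal I_F, none
of whose components is a C_i, and let s_1, …, s_r be integers such that the divisor class F + Σ_i
s_i C_i is orthogonal to every C_j, that is (F·C_j) + Σ_i s_i (C_i·C_j) = 0, written here as
deg(I_F|_{C_j}) = χ(O_{C_j} ⊗ I_F) − χ(O_{C_j}) = Σ_i s_i (I_i·I_j) for every j. Then all the s_i
are nonnegative. The published statement allows real coefficients s_i; this row takes integer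
coefficients. Its second assertion, that s_i > 0 on every connected group of the C_i one of which
meets F positively, is not restated. -/
theorem result (k : Type u) [Field k] [IsAlgClosed k] [CharZero k]
    (X : Scheme.{u}) [X.Over (Spec (CommRingCat.of k))] [IsProper (X ↘ (Spec (CommRingCat.of k)))]
    [Smooth (X ↘ (Spec (CommRingCat.of k)))] [IsIntegral X] (hdim : topologicalKrullDim X = 2)
    (hproj : ∃ H : X.Modules, CohB1.IsAmple H)
    (r : ℕ) (C : Fin r → X.IdealSheafData) (hC : Function.Injective C)
    (hCi : ∀ i, IsIntegral (C i).subscheme) (hCd : ∀ i, topologicalKrullDim ((C i).support : Set X) = 1)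
    (hneg : ∀ a : Fin r → ℤ, a ≠ 0 →
      ∑ i, ∑ j, a i * a j * FGA.intNum k X 2 ![(ClSub.idealMod (C i)), (ClSub.idealMod (C j))] (Coh.structureModule X) < 0)
    (F : X.IdealSheafData) (hF : FGA.IsEffCartier F) (hFC : ∀ i, ¬ ((C i).support : Set X) ⊆ (F.support : Set X))
    (s : Fin r → ℤ)
    (horth : ∀ j, Curv2.euler k X (CohB1.tensorMod (ClSub.quotMod (C j)) (ClSub.idealMod F)) - Curv2.euler k X (ClSub.quotMod (C j)) =
      ∑ i, s i * FGA.intNum k X 2 ![(ClSub.idealMod (C i)), (ClSub.idealMod (C j))] (Coh.structureModule X)) :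
    ∀ i, 0 ≤ s i := by
  obtain ⟨H, hH⟩ := hproj
  have hd : topologicalKrullDim X = ((2 : ℕ) : WithBot ℕ∞) := by simpa using hdim
  obtain ⟨M, hM, hI, e, hdot, hsign, hij, hoff, hpos⟩ := exists_conf_modules (k := k) hd C hC hCi hCd
  obtain ⟨ξ, -, hCξ⟩ := exists_conf C hC hCi hCd
  have hFI : PicF.IsInvertible (ClSub.idealMod F) := M2.isInvertible_idealMod F hF
  obtain ⟨N, hN, ⟨eN⟩⟩ := M2.exists_inverse hFI
  set G : Fin r → Fin r → ℤ := fun i j =>
    FGA.intNum k X 2 ![ClSub.idealMod (C i), ClSub.idealMod (C j)] (Coh.structureModule X) with hG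
  refine Conf.nonneg_of_pair_nonpos (G := G)
    (fun i j hne => (Int.cast_nonneg_iff (R := ℚ)).1 (by rw [hG, hij]; exact hoff i j hne)) hneg fun j => ?_
  rw [← horth j, ← Int.cast_nonpos (R := ℚ), Int.cast_sub, ← cdeg_eq, ← hdot j _ hFI, dot_comm,
    dot_inverse hd.le hN hFI (M2.tensorComm _ _ ≪≫ eN) (hM j), neg_nonpos, dot_comm, hdot j N hN, (hCξ j).1]
  refine cdeg_pt_nonneg_of_divisor hF hN eN (hCξ j).2 fun hm => hFC j ?_
  rw [(hCξ j).1, show ((ptIdeal (ξ j)).support : Set X) = closure {ξ j} from
    Scheme.IdealSheafData.coe_support_vanishingIdeal _]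
  exact closure_minimal (Set.singleton_subset_iff.2 hm) F.support.isClosed'

end Groth.Agent.S18462
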