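import Groth.Statements.S18463
import Groth.Agent.Lib.NumPoly18.SurfCurves
import Groth.Agent.S18462

set_option autoImplicit false
universe u
open CategoryTheory CategoryTheory.Limits AlgebraicGeometry TopologicalSpace
open Surf

open Groth.Agent Groth.Agent.NumPoly18 Groth.Agent.SurfR
namespace Groth.Agent.S18463

/-- Let k be an algebraically closed field of characteristic zero and X a smooth projective surface over
k (integral, proper and smooth over k, of dimension 2, carrying an ample invertible module). Let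
C_1, …, C_r be pairwise distinct integral curves on X with ideal sheaves I_i and negative definite
intersection matrix (Σ_{i,j} a_i a_j (I_i·I_j) < 0 for every nonzero integer vector a, where (A·B) =
χ(O_X) − χ(A) − χ(B) + χ(A ⊗ B)), let F be an effective Cartier divisor on X, with ideal I_F, none
of whose components is a C_i, and let s_1, …, s_r be integers such that F is numerically equivalent
to Σ_i s_i C_i: (I_F·M) = Σ_i s_i (I_i·M) for every invertible O_X-module M (equivalently (F·D) = Σ
s_i (C_i·D) for every divisor D). Then F = 0, i.e. I_F = O_X, and every s_i is 0. The published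
statement writes the hypothesis as [F] + Σ s_i[C_i] = 0 with real s_i; this row writes F ≡ Σ s_i C_i
with integer s_i, which is the same after changing the signs of the s_i. -/
theorem result (k : Type u) [Field k] [IsAlgClosed k] [CharZero k]
    (X : Scheme.{u}) [X.Over (Spec (CommRingCat.of k))] [IsProper (X ↘ (Spec (CommRingCat.of k)))]
    [Smooth (X ↘ (Spec (CommRingCat.of k)))] [IsIntegral X] (hdim : topologicalKrullDim X = 2)
    (hproj : ∃ H : X.Modules, CohB1.IsAmple H)
    (r : ℕ) (C : Fin r → X.IdealSheafData) (hC : Function.Injective C)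
    (hCi : ∀ i, IsIntegral (C i).subscheme) (hCd : ∀ i, topologicalKrullDim ((C i).support : Set X) = 1)
    (hneg : ∀ a : Fin r → ℤ, a ≠ 0 →
      ∑ i, ∑ j, a i * a j * FGA.intNum k X 2 ![(ClSub.idealMod (C i)), (ClSub.idealMod (C j))] (Coh.structureModule X) < 0)
    (F : X.IdealSheafData) (hF : FGA.IsEffCartier F) (hFC : ∀ i, ¬ ((C i).support : Set X) ⊆ (F.support : Set X))
    (s : Fin r → ℤ)
    (hnum : ∀ M : X.Modules, PicF.IsInvertible M →
      FGA.intNum k X 2 ![(ClSub.idealMod F), M] (Coh.structureModule X) =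
        ∑ i, s i * FGA.intNum k X 2 ![(ClSub.idealMod (C i)), M] (Coh.structureModule X)) :
    F = ⊤ ∧ ∀ i, s i = 0 := by
  have hd : topologicalKrullDim X = ((2 : ℕ) : WithBot ℕ∞) := by simpa using hdim
  obtain ⟨M, hM, hI, e, hdot, hsign, hij, hoff, hpos⟩ := exists_conf_modules (k := k) hd C hC hCi hCd
  have hFI : PicF.IsInvertible (ClSub.idealMod F) := M2.isInvertible_idealMod F hF
  obtain ⟨N, hN, ⟨eN⟩⟩ := M2.exists_inverse hFI
  have eN' := M2.tensorComm _ _ ≪≫ eN
  have hs := S18462.result k X hdim hproj r C hC hCi hCd hneg F hF hFC (fun i => - s i) (fun j => by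
    have h := congrArg (fun z : ℤ => (z : ℚ)) (hnum _ (hI j))
    simp only [neg_mul, Finset.sum_neg_distrib]
    rw [eq_neg_iff_add_eq_zero, ← Int.cast_inj (α := ℚ), Int.cast_add, Int.cast_sub, ← h, ← cdeg_eq,
      ← hdot j _ hFI, intNum2 hd.le hFI (hI j), dot_inverse hd.le hN hFI eN' (hI j), dot_comm N (ClSub.idealMod (C j)),
      dot_inverse hd.le (hM j) (hI j) (M2.tensorComm _ _ ≪≫ (e j).some) hN, dot_comm (M j) (ClSub.idealMod F),
      dot_inverse hd.le hN hFI eN' (hM j), dot_comm N (M j)]
    simp)
  obtain ⟨H, hH⟩ := hproj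
  have h0 : dot k N H = ∑ i, (s i : ℚ) * dot k (M i) H := by
    have h := congrArg (fun z : ℤ => (z : ℚ)) (hnum H hH.1)
    simp only [Int.cast_sum, Int.cast_mul, hsign _ H hH.1, intNum2 hd.le hFI hH.1, dot_inverse hd.le hN hFI eN' hH.1,
      mul_neg, Finset.sum_neg_distrib, neg_inj] at h
    exact h
  have hle : ∀ i, (s i : ℚ) * dot k (M i) H ≤ 0 := fun i =>
    mul_nonpos_of_nonpos_of_nonneg (Int.cast_nonpos.2 (neg_nonneg.1 (hs i))) (hpos hH i).le
  have htop : F = ⊤ := by
    by_contra htop
    have hne : ((F.support : Set X)).Nonempty := by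
      rw [Set.nonempty_iff_ne_empty]
      intro he
      exact htop ((Scheme.IdealSheafData.support_eq_bot_iff _).1 (TopologicalSpace.Closeds.ext (by simpa using he)))
    have h := cdeg_quot_pos (k := k) hd hH hF hne
    rw [← dot_eq_cdeg_quot hd.le hF (Iso.refl _) hN eN' hH.1, h0] at h
    exact h.not_ge (Finset.sum_nonpos fun i _ => hle i)
  refine ⟨htop, fun i => ?_⟩
  have hempty : CohB1.support (ClSub.quotMod F) = ∅ := by
    rw [NumPoly18.support_quotMod, htop, Scheme.IdealSheafData.support_top]; rfl
  have hN0 : dot k N H = 0 := by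
    rw [dot_eq_cdeg_quot hd.le hF (Iso.refl _) hN eN' hH.1, cdeg]
    haveI : AlgebraicGeometry.IsNoetherian X := CohFound.isNoetherian_of_isProper (X ↘ (Spec (CommRingCat.of k)))
    refine md_eq_zero (fun _ : Fin 1 => hH.1) (CurveCoh17.isCoh_quotMod F) (e := 0) ?_ one_pos
    rw [hempty]
    haveI : IsEmpty (TopologicalSpace.IrreducibleCloseds (∅ : Set X)) := ⟨fun Z => by
      obtain ⟨⟨z, hz⟩, -⟩ := Z.isIrreducible.nonempty
      exact hz⟩
    exact (Order.krullDim_eq_bot (α := TopologicalSpace.IrreducibleCloseds (∅ : Set X))).le.trans bot_le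
  have := (Finset.sum_eq_zero_iff_of_nonpos fun i _ => hle i).1 (h0.symm.trans hN0) i (Finset.mem_univ i)
  exact_mod_cast (mul_eq_zero.1 this).resolve_right (hpos hH i).ne'

end Groth.Agent.S18463
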