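import Groth.Statements.S18464
import Groth.Agent.Lib.LefPen22.FormsGeneric

set_option autoImplicit false
universe u
open CategoryTheory CategoryTheory.Limits AlgebraicGeometry
open LefPen

namespace Groth.Agent.S18464

/-- Let k be an infinite field, r a natural number, d ≥ 1 an integer, and m ≥ C(r+d, d), the number of
monomials of degree d in r+1 variables. In the space of m-tuples of vectors of k^(r+1) (homogeneous
coordinate vectors of m points of projective r-space; a zero vector is allowed and imposes no
condition), the tuples such that the only form of degree d vanishing at all of them is the zero form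
make up a Zariski-open subset which contains the non-vanishing locus of a not identically zero
polynomial function, so a dense open subset. (The published statement is the openness and density of
the corresponding locus in the m-fold product of projective r-space over the ground field; here the
ground field is any infinite field and the statement is made on coordinate vectors.) -/
theorem result (k : Type u) [Field k] [Infinite k]
    (r d m : ℕ) (hd : 1 ≤ d) (hm : Nat.choose (r + d) d ≤ m) :
    LefPen.IsZOpen k {x : Fin m → (Fin (r + 1) → k) |
      ∀ G : LefPen.Form r k d, (∀ i : Fin m, MvPolynomial.aeval (x i) G.1 = 0) → G = 0} ∧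
    LefPen.IsGeneric k {x : Fin m → (Fin (r + 1) → k) |
      ∀ G : LefPen.Form r k d, (∀ i : Fin m, MvPolynomial.aeval (x i) G.1 = 0) → G = 0} := by
  haveI := (LefPen22.finrank_form k r d).2
  refine ⟨fun x hx => LefPen22.exists_polyFun_of_injective k x hx, ?_⟩
  obtain ⟨x, hx⟩ := LefPen22.exists_injective k hm
  obtain ⟨f, hf, hfx, hfS⟩ := LefPen22.exists_polyFun_of_injective k x hx
  exact ⟨f, hf, ⟨x, hfx⟩, hfS⟩

end Groth.Agent.S18464
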