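import Groth.Statements.S18465
import Mathlib.Tactic
import Mathlib.LinearAlgebra.FreeModule.PID
import Mathlib.LinearAlgebra.Dimension.Finrank
import Mathlib.Algebra.MonoidAlgebra.MapDomain
import Mathlib.Algebra.MonoidAlgebra.Basic
import Mathlib.RingTheory.GradedAlgebra.Basic
import Mathlib.RingTheory.FiniteType
import Mathlib.Analysis.Seminorm
import Mathlib.Algebra.Module.CharacterModule
import Mathlib.Topology.Algebra.Group.Basic
import Mathlib.GroupTheory.FiniteAbelian.Basic
import Mathlib.NumberTheory.Padics.PadicVal.Basic
import Mathlib.Data.Nat.Factorial.BigOperators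
import Mathlib.Algebra.CharP.Basic
import Mathlib.Data.Nat.Choose.Sum

set_option autoImplicit false
universe u v w x
open WildLef

namespace Groth.Agent.S18465

/-- Let f : G₁ → G₂ be a homomorphism of groups, ρ : G₂ → Γ a homomorphism with finite image G, and A a
nontrivial commutative ring. Let G₂ act on the group algebra A[G] through ρ followed by the left
regular representation, and G₁ through f. If the elements of A[G] fixed by G₁ coincide with those
fixed by G₂, then ρ ∘ f and ρ have the same image. (The published statement has Γ a general linear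
group GL_r(A); over the zero ring that group is trivial, so requiring A nontrivial and allowing any
target group loses nothing.) -/
theorem result
    {G₁ : Type u} {G₂ : Type v} {Γ : Type w} [Group G₁] [Group G₂] [Group Γ]
    (f : G₁ →* G₂) (ρ : G₂ →* Γ) [Finite ρ.range] (A : Type x) [CommRing A] [Nontrivial A]
    (h : {x : MonoidAlgebra A ρ.range | ∀ g : G₁, MonoidAlgebra.of A ρ.range (ρ.rangeRestrict (f g)) * x = x} =
      {x : MonoidAlgebra A ρ.range | ∀ g : G₂, MonoidAlgebra.of A ρ.range (ρ.rangeRestrict g) * x = x}) :
    (ρ.comp f).range = ρ.range := by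
  classical
  refine le_antisymm (fun x ⟨g, hg⟩ => ⟨f g, hg⟩) ?_
  rintro _ ⟨g₂, rfl⟩
  let H : Subgroup ρ.range := (ρ.rangeRestrict.comp f).range
  have := Fintype.ofFinite H
  let N : MonoidAlgebra A ρ.range := ∑ s : H, MonoidAlgebra.single (s : ρ.range) 1
  have hN : N ∈ {x : MonoidAlgebra A ρ.range | ∀ g : G₁, MonoidAlgebra.of A ρ.range (ρ.rangeRestrict (f g)) * x = x} := by
    intro g
    simp only [N, Finset.mul_sum, MonoidAlgebra.of_apply, MonoidAlgebra.single_mul_single, one_mul]
    exact Fintype.sum_equiv (Equiv.mulLeft (⟨_, g, rfl⟩ : H)) _ _ (fun s => rfl)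
  rw [h] at hN
  have hcoef : ∀ x : ρ.range, N.coeff x = if x ∈ H then 1 else 0 := by
    intro x
    simp only [N, MonoidAlgebra.coeff_sum, MonoidAlgebra.coeff_single, Finsupp.finsetSum_apply, Finsupp.single_apply]
    split_ifs with hx
    · rw [Finset.sum_eq_single ⟨x, hx⟩]
      · simp
      · exact fun b _ hb => if_neg fun e => hb (Subtype.ext e)
      · simp
    · exact Finset.sum_eq_zero fun b _ => if_neg fun (e : (b : ρ.range) = x) => hx (by rw [← e]; exact b.2)
  have := congrArg (fun z => MonoidAlgebra.coeff z (ρ.rangeRestrict g₂)) (hN g₂)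
  simp only [MonoidAlgebra.of_apply, MonoidAlgebra.coeff_single_mul_apply, one_mul, inv_mul_cancel, hcoef, H.one_mem, if_true] at this
  split_ifs at this with hx
  · obtain ⟨g, hg⟩ := hx
    exact ⟨g, congrArg Subtype.val hg⟩
  · exact absurd this one_ne_zero

end Groth.Agent.S18465
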