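import Groth.Statements.S18466
import Groth.Agent.Lib.CartDual23.Basic
import Mathlib.LinearAlgebra.FiniteDimensional.Basic
import Mathlib.RingTheory.RootsOfUnity.PrimitiveRoots

set_option autoImplicit false
universe u
open Hopf

namespace Groth.Agent.S18466

open scoped TensorProduct

/-- Let k be a field and n ≥ 1. The constant group scheme ℤ/n over k is self-dual, that is, isomorphic
to its Cartier dual μ_n — equivalently the Hopf algebra of k-valued functions on the cyclic group of
order n and the group algebra of that group over k (group elements group-like) are isomorphic as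
bialgebras — precisely when the field k has a primitive n-th root of unity, i.e. k contains n
distinct n-th roots of unity in k. (The published statement assumes that the characteristic of k
does not divide n; both directions hold without that assumption by the same argument, since a
primitive n-th root of unity forces n to be nonzero in k, so it is omitted here.) -/
theorem result
    (k : Type u) [Field k] (n : ℕ) [NeZero n] :
    Nonempty (ConstGrp.F k (Multiplicative (ZMod n)) ≃ₐc[k] MonoidAlgebra k (Multiplicative (ZMod n))) ↔
      ∃ ζ : k, IsPrimitiveRoot ζ n := by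

  have hcard : orderOf (Multiplicative.ofAdd (1 : ZMod n)) = n := by
    rw [orderOf_ofAdd_eq_addOrderOf, ZMod.addOrderOf_one]
  constructor
  · rintro ⟨e⟩
    set g := Multiplicative.ofAdd (1 : ZMod n) with hg
    set χ : ConstGrp.F k (Multiplicative (ZMod n)) := e.symm (MonoidAlgebra.single g 1) with hχ
    have hcm : Coalgebra.comul (R := k) χ = χ ⊗ₜ[k] χ := by
      rw [hχ, ← CoalgHomClass.map_comp_comul_apply e.symm,
        Groth.Agent.CartDual23.comul_single_one g, TensorProduct.map_tmul]
      rfl
    have hmul : ∀ a b, χ (a * b) = χ a * χ b := by
      intro a b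
      rw [← ConstGrp.pair_comul k _ χ a b, hcm, ConstGrp.pair_tmul]
    have h1 : χ 1 = 1 := by
      rw [← ConstGrp.counit_apply k (Multiplicative (ZMod n)) χ, hχ,
        CoalgHomClass.counit_comp_apply e.symm]
      simp
    let F : Multiplicative (ZMod n) →* k := { toFun := χ, map_one' := h1, map_mul' := hmul }
    refine ⟨F g, IsPrimitiveRoot.mk_of_lt _ (NeZero.pos n) ?_ fun d hd0 hdn hd => ?_⟩
    · rw [← map_pow]
      have : g ^ n = 1 := orderOf_dvd_iff_pow_eq_one.mp (dvd_of_eq hcard)
      rw [this, map_one]
    · have hchid : χ ^ d = 1 := by
        ext a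
        have hp : (χ ^ d) a = χ a ^ d := map_pow (ConstGrp.ev k a) χ d
        obtain ⟨t, rfl⟩ : ∃ t : ℕ, g ^ t = a :=
          ⟨(Multiplicative.toAdd a).val, by
            apply Multiplicative.toAdd.injective
            simp [hg]⟩
        rw [hp, ConstGrp.one_apply]
        show F (g ^ t) ^ d = 1
        rw [map_pow, ← pow_mul, mul_comm, pow_mul, hd, one_pow]
      have hgd : MonoidAlgebra.single (g ^ d) (1 : k) = 1 := by
        have h2 := congrArg e hchid
        rw [map_pow, hχ, BialgEquiv.apply_symm_apply, map_one, MonoidAlgebra.single_pow, one_pow] at h2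
        exact h2
      have hgd' : g ^ d = 1 := by
        rw [MonoidAlgebra.one_def] at hgd
        exact (MonoidAlgebra.single_left_inj (one_ne_zero)).mp hgd
      exact absurd (orderOf_le_of_pow_eq_one hd0 hgd') (by omega)
  · rintro ⟨ζ, hζ⟩
    let G := Multiplicative (ZMod n)
    let χ : G → (Multiplicative (ZMod n) →* k) := fun g =>
      { toFun := fun h => ζ ^ ((Multiplicative.toAdd g) * (Multiplicative.toAdd h)).val
        map_one' := by simp
        map_mul' := fun a b => by
          rw [toAdd_mul, mul_add, ZMod.val_add, ← pow_eq_pow_mod _ hζ.pow_eq_one, pow_add] }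
    have hχapp : ∀ g h, χ g h = ζ ^ ((Multiplicative.toAdd g) * (Multiplicative.toAdd h)).val :=
      fun _ _ => rfl
    let ψ : MonoidAlgebra k G →ₐ[k] ConstGrp.F k G := MonoidAlgebra.lift k _ G
      { toFun := fun g => (χ g : G → k)
        map_one' := by
          ext h
          show χ 1 h = 1
          simp [hχapp]
        map_mul' := fun a b => by
          ext h
          show χ (a * b) h = χ a h * χ b h
          rw [hχapp, hχapp, hχapp, toAdd_mul, add_mul, ZMod.val_add, ← pow_eq_pow_mod _ hζ.pow_eq_one, pow_add] }
    have hψ : ∀ (g : G) (r : k) (h : G), ψ (MonoidAlgebra.single g r) h = r * χ g h := by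
      intro g r h
      simp [ψ, MonoidAlgebra.lift_single]
    have hχinj : Function.Injective χ := by
      intro a b hab
      have h : χ a (Multiplicative.ofAdd 1) = χ b (Multiplicative.ofAdd 1) := by rw [hab]
      rw [hχapp, hχapp, toAdd_ofAdd, mul_one, mul_one] at h
      exact Multiplicative.toAdd.injective (ZMod.val_injective n
        (hζ.pow_inj (ZMod.val_lt _) (ZMod.val_lt _) h))
    have hinj : Function.Injective ψ := by
      rw [injective_iff_map_eq_zero]
      intro z hz
      have hli := (linearIndependent_monoidHom (Multiplicative (ZMod n)) k).comp χ hχinj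
      rw [Fintype.linearIndependent_iff] at hli
      have hzero : ∀ g, z.coeff g = 0 := by
        refine hli (fun g => z.coeff g) ?_
        funext h
        have hz' : (∑ g : G, ψ (MonoidAlgebra.single g (z.coeff g))) h = 0 := by
          have hzs : (∑ g : G, MonoidAlgebra.single g (z.coeff g)) = z := by
            ext g
            simp [MonoidAlgebra.coeff_sum, Finset.sum_apply', Finsupp.single_apply]
          rw [← map_sum, hzs, hz]; rfl
        rw [ConstGrp.sum_apply] at hz'
        simpa [hψ, Finset.sum_apply] using hz'
      ext g
      simp [hzero g]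
    have hbij : Function.Bijective ψ := by
      refine ⟨hinj, ?_⟩
      haveI : Module.Finite k (MonoidAlgebra k G) := Module.Finite.of_basis (MonoidAlgebra.basis G k)
      have hfr : Module.finrank k (MonoidAlgebra k G) = Module.finrank k (ConstGrp.F k G) :=
        (Module.finrank_eq_card_basis (MonoidAlgebra.basis G k)).trans
          (Module.finrank_eq_card_basis (ConstGrp.basis k (Multiplicative (ZMod n)))).symm
      exact (LinearMap.injective_iff_surjective_of_finrank_eq_finrank
        (f := ψ.toLinearMap) hfr).mp hinj
    refine ⟨(Groth.Agent.CartDual23.mkEquiv (AlgEquiv.ofBijective ψ hbij) (fun a => ?_) (fun a => ?_)).symm⟩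
    · show Coalgebra.counit (R := k) (ψ a) = _
      induction a using MonoidAlgebra.induction_linear with
      | zero => simp
      | add a b ha hb => simp [map_add, ha, hb]
      | single g r =>
        rw [ConstGrp.counit_apply, hψ, map_one]
        simp
    · show TensorProduct.map ψ.toLinearMap ψ.toLinearMap (Coalgebra.comul a) =
        Coalgebra.comul (R := k) (ψ a)
      induction a using MonoidAlgebra.induction_linear with
      | zero => simp
      | add a b ha hb => simp [map_add, ha, hb]
      | single g r =>
        simp only [MonoidAlgebra.comul_single, CommSemiring.comul_apply, TensorProduct.map_tmul,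
          MonoidAlgebra.lsingle_apply, AlgHom.toLinearMap_apply]
        rw [ConstGrp.comul_eq_sum]
        conv_lhs =>
          rw [ConstGrp.eq_sum_smul_e (ψ (MonoidAlgebra.single g r)),
            ConstGrp.eq_sum_smul_e (ψ (MonoidAlgebra.single g (1 : k)))]
        rw [TensorProduct.sum_tmul]
        refine Finset.sum_congr rfl fun a _ => ?_
        rw [TensorProduct.tmul_sum]
        refine Finset.sum_congr rfl fun b _ => ?_
        rw [TensorProduct.smul_tmul', TensorProduct.tmul_smul, TensorProduct.smul_tmul', smul_smul,
          hψ, hψ, hψ, map_mul]
        congr 2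
        first
          | rfl
          | ring


end Groth.Agent.S18466
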