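import Groth.Statements.S18470
import Groth.Agent.Lib.OT.Dual

set_option autoImplicit false
universe u v
open OortTate

namespace Groth.Agent.S18470

/-- Let R be a commutative ring and A a commutative Hopf algebra over R which is finitely generated and
projective as an R-module (a finite locally free group scheme G = Spec A, not assumed commutative),
and let A^D = Hom_R(A, R) be the dual algebra with its Hopf structure (the Cartier dual when A is
cocommutative), whose counit is evaluation at 1. Then restriction of linear forms to the
augmentation ideal I = ker ε_A of A is a bijection from the augmentation ideal of A^D onto the dual
module Hom_R(I, R): the dual of the augmentation ideal of G is the augmentation ideal of the dual.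
The published statement is for a group scheme of order p over a Λ_p-algebra; the argument uses only
the splitting A = R·1 ⊕ ker ε. -/
theorem result
    (R : Type u) [CommRing R] (A : Type v) [CommRing A] [HopfAlgebra R A]
    [Module.Finite R A] [Module.Projective R A] :
    Function.Bijective (fun f : LinearMap.ker (Bialgebra.counitAlgHom R (CartDual.D R A)).toLinearMap =>
      ((CartDual.toDual R A) (f : CartDual.D R A)).comp
        (LinearMap.ker (Bialgebra.counitAlgHom R A).toLinearMap).subtype) := by
  exact Groth.Agent.OT.dual_restrict_ker_bijective

end Groth.Agent.S18470
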