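import Groth.Statements.S18474
import Groth.Agent.Lib.OT.Lift

set_option autoImplicit false
universe u
open OortTate

namespace Groth.Agent.S18474

/-- Let p be a prime, R a commutative ring containing u with u(p − 1) = 1, and χ a homomorphism from the
units of ℤ/p to the units of R such that χ(m) − 1 is a unit for every m ≠ 1 (the situation of an
algebra over the subring Λ_p of the p-adic integers generated by the Teichmüller values and 1/(p(p −
1)), with χ the Teichmüller character, which is the published setting); assume moreover χ(m) ≡ m
modulo pR for every m. Let A be a commutative Hopf algebra over R which is finitely generated and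
projective as an R-module, of rank p at every prime of R (a group scheme of order p over Spec R; it
is commutative and killed by p, so that the power map [m] of A depends only on the unit m of ℤ/p),
and let I_1 ⊆ A be the submodule of those f with ε(f) = 0 and [m]f = χ(m)f for every unit m of ℤ/p
(an invertible R-module, with I_1^p ⊆ I_1). Then the R-algebra homomorphism from the tensor algebra
of I_1 to A extending the inclusion I_1 ⊆ A is surjective, and its kernel is the ideal generated by
the elements ι(x_1)⋯ι(x_p) − ι(g) with x_1, …, x_p, g ∈ I_1 and g = x_1⋯x_p in A. (The source states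
this for the symmetric algebra of I_1; for an invertible module the tensor algebra is commutative
and is its symmetric algebra.) The published argument obtains commutativity and p-torsion of G over
a locally Noetherian base; this row allows any commutative ring R, over which both still hold. -/
theorem result
    (p : ℕ) [Fact p.Prime] (R : Type u) [CommRing R] (u : R) (hu : u * ((p - 1 : ℕ) : R) = 1)
    (χ : (ZMod p)ˣ →* Rˣ) (hχ : ∀ m : (ZMod p)ˣ, m ≠ 1 → IsUnit ((χ m : R) - 1))
    (hχp : ∀ m : (ZMod p)ˣ, ((χ m : Rˣ) : R) - (((m : ZMod p).val : ℕ) : R) ∈ Ideal.span ({(p : R)} : Set R))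
    (A : Type u) [CommRing A] [HopfAlgebra R A] [Module.Finite R A] [Module.Projective R A]
    (hrk : ∀ q : PrimeSpectrum R, Module.rankAtStalk A q = p) :
    Function.Surjective (TensorAlgebra.lift R (OortTate.eigenAug R A p χ 1).subtype) ∧
      RingHom.ker (TensorAlgebra.lift R (OortTate.eigenAug R A p χ 1).subtype) =
        Ideal.span {x : TensorAlgebra R (OortTate.eigenAug R A p χ 1) |
          ∃ (f : Fin p → OortTate.eigenAug R A p χ 1) (g : OortTate.eigenAug R A p χ 1),
            (g : A) = ∏ i, (f i : A) ∧
            x = (List.ofFn fun i => TensorAlgebra.ι R (f i)).prod - TensorAlgebra.ι R g} := by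
  have := Groth.Agent.OT.isCocomm_of_rankAtStalk_eq_prime hrk
  obtain ⟨w, -, hw⟩ := Groth.Agent.OT.exists_w hχ hu hχp
  set L := OortTate.eigenAug R A p χ 1 with hL
  set Φ := TensorAlgebra.lift R L.subtype with hΦ
  have hp1 : 1 < p := (Fact.out : p.Prime).one_lt
  -- words
  have hword : ∀ l : List L, Φ (l.map (TensorAlgebra.ι R)).prod = (l.map (fun a : L => (a : A))).prod := by
    intro l
    rw [map_list_prod, List.map_map]
    congr 1
    exact List.map_congr_left fun a _ => TensorAlgebra.lift_ι_apply _ a
  let π' : A →ₗ[R] L := LinearMap.codRestrict L (Groth.Agent.OT.pr (p := p) u χ 1)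
    (Groth.Agent.OT.pr_mem (Groth.Agent.OT.killed_of_rank hrk) 1)
  have hπ : ∀ a : L, π' a = a := fun a => Subtype.ext (by
    show Groth.Agent.OT.pr (p := p) u χ 1 (a : A) = a
    rw [Groth.Agent.OT.pr_of_mem hχ hu a.2, if_pos rfl, one_smul])
  let σ : A →ₗ[R] TensorAlgebra R L :=
    Groth.Agent.OT.liftI (p := p) u w χ ((TensorAlgebra.ι R).comp π')
  have hσ : ∀ l : List L, l.length ≤ p - 1 →
      σ (l.map (fun a : L => (a : A))).prod = (l.map (TensorAlgebra.ι R)).prod := by
    intro l hl
    rw [show σ _ = _ from Groth.Agent.OT.liftI_prod hrk hχ hu hχp _ hw _ (by rintro a ha; obtain ⟨b, -, rfl⟩ := List.mem_map.1 ha; exact b.2) (by simpa using hl),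
      List.map_map]
    congr 1
    exact List.map_congr_left fun a _ => congrArg (TensorAlgebra.ι R) (hπ a)
  constructor
  · intro a
    have hle : Submodule.span R {x : A | ∃ as : List A, (∀ a ∈ as, a ∈ OortTate.eigenAug R A p χ 1) ∧
        as.length ≤ p - 1 ∧ as.prod = x} ≤ LinearMap.range Φ.toLinearMap := by
      rw [Submodule.span_le]
      rintro _ ⟨as, has, -, rfl⟩
      refine ⟨((as.attach.map fun a => (⟨a.1, has a.1 a.2⟩ : L)).map (TensorAlgebra.ι R)).prod, ?_⟩
      show Φ _ = _
      rw [hword, List.map_map]
      exact congrArg List.prod as.attach_map_subtype_val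
    exact hle ((Groth.Agent.OT.span_prods hrk hχ hu hχp).ge Submodule.mem_top)
  set J := Ideal.span {x : TensorAlgebra R L |
          ∃ (f : Fin p → L) (g : L),
            (g : A) = ∏ i, (f i : A) ∧
            x = (List.ofFn fun i => TensorAlgebra.ι R (f i)).prod - TensorAlgebra.ι R g} with hJ
  have hJker : J ≤ RingHom.ker Φ := by
    rw [hJ, Ideal.span_le]
    rintro _ ⟨f, g, hfg, rfl⟩
    rw [SetLike.mem_coe, RingHom.mem_ker, map_sub, sub_eq_zero, hΦ, TensorAlgebra.lift_ι_apply,
      map_list_prod, List.map_ofFn, Submodule.subtype_apply, hfg, List.prod_ofFn]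
    exact Finset.prod_congr rfl fun i _ => TensorAlgebra.lift_ι_apply _ _
  refine le_antisymm (fun x hx => ?_) hJker
  have key : ∀ (n : ℕ) (l : List L), l.length = n →
      (l.map (TensorAlgebra.ι R)).prod - σ (Φ (l.map (TensorAlgebra.ι R)).prod) ∈ J := by
    intro n
    induction n using Nat.strong_induction_on with
    | _ n ih =>
      intro l hl
      rcases Nat.lt_or_ge n p with hn | hn
      · rw [hword, hσ l (by omega), sub_self]
        exact J.zero_mem
      · set pre := l.take (n - p)
        set suf := l.drop (n - p) with hsuf
        have hlsuf : suf.length = p := by rw [hsuf, List.length_drop]; omega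
        have hmem : (suf.map (fun a : L => (a : A))).prod ∈ L :=
          Groth.Agent.OT.prod_prime_mem hrk hχ hu hχp _ (by rintro a ha; obtain ⟨b, -, rfl⟩ := List.mem_map.1 ha; exact b.2) (by simpa using hlsuf)
        let g : L := ⟨_, hmem⟩
        have hrel : (suf.map (TensorAlgebra.ι R)).prod - TensorAlgebra.ι R g ∈ J := by
          refine Ideal.subset_span ⟨fun i => suf.get (Fin.cast hlsuf.symm i), g, ?_, ?_⟩
          · show (suf.map (fun a : L => (a : A))).prod = _
            rw [← List.prod_ofFn]
            congr 1
            apply List.ext_getElem <;> simp [hlsuf]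
          · congr 2
            apply List.ext_getElem <;> simp [hlsuf]
        have hlpre : (pre ++ [g]).length = n - p + 1 := by simp [pre]; omega
        have h2 := ih (n - p + 1) (by omega) (pre ++ [g]) hlpre
        have h3 : (l.map (TensorAlgebra.ι R)).prod -
            ((pre ++ [g]).map (TensorAlgebra.ι R)).prod ∈ J := by
          have : (l.map (TensorAlgebra.ι R)).prod = (pre.map (TensorAlgebra.ι R)).prod *
              (suf.map (TensorAlgebra.ι R)).prod := by
            rw [← List.prod_append, ← List.map_append, List.take_append_drop]
          rw [this, List.map_append, List.prod_append, List.map_cons, List.map_nil, List.prod_singleton,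
            ← mul_sub]
          exact J.mul_mem_left _ hrel
        have h4 : Φ (l.map (TensorAlgebra.ι R)).prod = Φ ((pre ++ [g]).map (TensorAlgebra.ι R)).prod :=
          sub_eq_zero.1 (by rw [← map_sub]; exact hJker h3)
        rw [h4]
        have := J.add_mem h3 h2
        rwa [sub_add_sub_cancel] at this
  have hall : ∀ y : TensorAlgebra R L, y - σ (Φ y) ∈ J := by
    intro y
    have hy : y ∈ Submodule.span R (Set.range fun l : List L => (l.map (TensorAlgebra.ι R)).prod) := by
      induction y using TensorAlgebra.induction with
      | algebraMap r =>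
        rw [Algebra.algebraMap_eq_smul_one]
        exact Submodule.smul_mem _ _ (Submodule.subset_span ⟨[], by simp⟩)
      | ι a => exact Submodule.subset_span ⟨[a], by simp⟩
      | mul a b ha hb =>
        have := Submodule.mul_mem_mul ha hb
        rw [Submodule.span_mul_span] at this
        refine Submodule.span_mono ?_ this
        rintro _ ⟨_, ⟨l, rfl⟩, _, ⟨l', rfl⟩, rfl⟩
        exact ⟨l ++ l', by simp⟩
      | add a b ha hb => exact add_mem ha hb
    induction hy using Submodule.span_induction with
    | mem z hz => obtain ⟨l, rfl⟩ := hz; exact key _ l rfl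
    | zero => simp
    | add z z' _ _ hz hz' =>
      rw [map_add, map_add, add_sub_add_comm]; exact J.add_mem hz hz'
    | smul r z _ hz =>
      rw [map_smul, map_smul, ← smul_sub, Algebra.smul_def]
      exact J.mul_mem_left _ hz
  have := hall x
  rwa [show Φ x = 0 from hx, map_zero, sub_zero] at this

end Groth.Agent.S18474
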