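import Groth.Statements.S18475
import Groth.Agent.Lib.OT.Iso

set_option autoImplicit false
universe u
open OortTate

namespace Groth.Agent.S18475

/-- Let p be a prime, R a commutative ring containing u with u(p − 1) = 1, and χ a homomorphism from the
units of ℤ/p to the units of R such that χ(m) − 1 is a unit for every m ≠ 1 (the situation of an
algebra over the subring Λ_p of the p-adic integers generated by the Teichmüller values and 1/(p(p −
1)), with χ the Teichmüller character, which is the published setting); assume moreover χ(m) ≡ m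
modulo pR for every m. Let A and A' be commutative and cocommutative Hopf algebras over R, finitely
generated and projective as R-modules of rank p at every prime (group schemes G, G' of order p over
Spec R), with dual Hopf algebras A^D = Hom_R(A, R) and A'^D (the Cartier duals; for a unit m of ℤ/p
the power map [m] acts on all four algebras). Suppose the χ-eigenspaces of the augmentation ideals
are free of rank one with chosen generators: I_1(A) = R·x and I_1(A^D) = R·ξ with ξ(x) = 1, and
similarly I_1(A') = R·x', I_1(A'^D) = R·ξ' with ξ'(x') = 1 (this is the case of a local base R);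
write x^p = α x, ξ^p = β ξ, x'^p = α' x', ξ'^p = β' ξ' with α, β, α', β' ∈ R. If there is a unit v
of R with α' = v^{p−1} α and β' = v^{−(p−1)} β, then A and A' are isomorphic as bialgebras over R,
i.e. G ≅ G'. (This is the injectivity of the classification map G ↦ (I_1, a, b) in the case where
the invertible module I_1 is free, the case the copy spells out; the general statement compares
triples consisting of an invertible module with two maps.) The published argument obtains
commutativity and p-torsion of G over a locally Noetherian base; this row allows any commutative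
ring R, over which both still hold. -/
theorem result
    (p : ℕ) [Fact p.Prime] (R : Type u) [CommRing R] (u : R) (hu : u * ((p - 1 : ℕ) : R) = 1)
    (χ : (ZMod p)ˣ →* Rˣ) (hχ : ∀ m : (ZMod p)ˣ, m ≠ 1 → IsUnit ((χ m : R) - 1))
    (hχp : ∀ m : (ZMod p)ˣ, ((χ m : Rˣ) : R) - (((m : ZMod p).val : ℕ) : R) ∈ Ideal.span ({(p : R)} : Set R))
    (A : Type u) [CommRing A] [HopfAlgebra R A] [Coalgebra.IsCocomm R A] [Module.Finite R A]
    [Module.Projective R A] (hrk : ∀ q : PrimeSpectrum R, Module.rankAtStalk A q = p)
    (A' : Type u) [CommRing A'] [HopfAlgebra R A'] [Coalgebra.IsCocomm R A'] [Module.Finite R A']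
    [Module.Projective R A'] (hrk' : ∀ q : PrimeSpectrum R, Module.rankAtStalk A' q = p)
    (x : A) (hx : Submodule.span R {x} = OortTate.eigenAug R A p χ 1)
    (ξ : CartDual.D R A) (hξ : Submodule.span R {ξ} = OortTate.eigenAug R (CartDual.D R A) p χ 1)
    (hxξ : CartDual.toDual R A ξ x = 1)
    (x' : A') (hx' : Submodule.span R {x'} = OortTate.eigenAug R A' p χ 1)
    (ξ' : CartDual.D R A') (hξ' : Submodule.span R {ξ'} = OortTate.eigenAug R (CartDual.D R A') p χ 1)
    (hxξ' : CartDual.toDual R A' ξ' x' = 1)
    (α β α' β' : R) (hα : x ^ p = α • x) (hβ : ξ ^ p = β • ξ) (hα' : x' ^ p = α' • x')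
    (hβ' : ξ' ^ p = β' • ξ')
    (v : Rˣ) (hαv : α' = ((v ^ (p - 1) : Rˣ) : R) * α) (hβv : β' = ((v⁻¹ ^ (p - 1) : Rˣ) : R) * β) :
    Nonempty (A ≃ₐc[R] A') := by
  set q := p - 1 with hq
  have hp1 : 1 < p := (Fact.out : p.Prime).one_lt
  have hqp : q + 1 = p := by omega
  have htor : ∀ r : R, r • x = 0 → r = 0 := fun r hr =>
    Groth.Agent.OT.smul_pow_eq_zero hrk hχ hu hχp hx (t := 1) le_rfl (by omega) (by rw [pow_one]; exact hr)
  have htor' : ∀ r : R, r • x' = 0 → r = 0 := fun r hr =>
    Groth.Agent.OT.smul_pow_eq_zero hrk' hχ hu hχp hx' (t := 1) le_rfl (by omega) (by rw [pow_one]; exact hr)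
  set c : R := ((v⁻¹ : Rˣ) : R) with hc
  let θ : OortTate.eigenAug R A p χ 1 ≃ₗ[R] OortTate.eigenAug R A' p χ 1 :=
    ((LinearEquiv.ofInjective (LinearMap.toSpanSingleton R A x)
        ((injective_iff_map_eq_zero _).2 htor)).trans
      (LinearEquiv.ofEq _ _ ((LinearMap.range_toSpanSingleton _).trans hx))).symm.trans
    ((LinearEquiv.smulOfUnit v⁻¹).trans
      ((LinearEquiv.ofInjective (LinearMap.toSpanSingleton R A' x')
        ((injective_iff_map_eq_zero _).2 htor')).trans
      (LinearEquiv.ofEq _ _ ((LinearMap.range_toSpanSingleton _).trans hx'))))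
  have hθ : ∀ (a : OortTate.eigenAug R A p χ 1) (r : R), (a : A) = r • x →
      ((θ a : OortTate.eigenAug R A' p χ 1) : A') = (c * r) • x' := by
    intro a r har
    have : a = ((LinearEquiv.ofInjective (LinearMap.toSpanSingleton R A x)
        ((injective_iff_map_eq_zero _).2 htor)).trans
      (LinearEquiv.ofEq _ _ ((LinearMap.range_toSpanSingleton _).trans hx))) r := Subtype.ext har
    rw [this]
    simp only [θ, LinearEquiv.trans_symm, LinearEquiv.trans_apply, LinearEquiv.symm_apply_apply]
    rfl
  have hcoef : ∀ a : OortTate.eigenAug R A p χ 1, ∃ r : R, (a : A) = r • x := fun a => by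
    obtain ⟨r, hr⟩ := Submodule.mem_span_singleton.1 (hx.ge a.2)
    exact ⟨r, hr.symm⟩
  have hv : c ^ q * α' = α := by
    rw [hαv, ← mul_assoc, hc, Units.val_pow_eq_pow_val, ← mul_pow, ← Units.val_mul, inv_mul_cancel,
      Units.val_one, one_pow, one_mul]
  have hv' : β' = c ^ q * β := by
    rw [hβv, hc, Units.val_pow_eq_pow_val]
  have hcp : c ^ p = c ^ q * c := by rw [← pow_succ, hqp]
  refine Groth.Agent.OT.nonempty_bialgEquiv hχ hu hχp hrk hrk' θ (fun f g hfg => ?_)
    (fun φ φ' ψ ψ' hφ hψ hψ' a => ?_)
  · choose r hr using fun i => hcoef (f i)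
    have hg : (g : A) = ((∏ i, r i) * α) • x := by
      simp only [hfg, hr, Algebra.smul_def, Finset.prod_mul_distrib, map_mul, map_prod, Finset.prod_const,
        Finset.card_fin, hα]
      ring
    have hR : ∏ i, ((θ (f i) : OortTate.eigenAug R A' p χ 1) : A') = ((∏ i, r i) * (c ^ p * α')) • x' := by
      simp only [hθ _ _ (hr _), Algebra.smul_def, Finset.prod_mul_distrib, map_mul, map_prod, Finset.prod_const,
        Finset.card_fin, hα', map_pow]
      ring
    rw [hθ g _ hg, hR, ← hv, hcp]
    congr 1
    ring
  · obtain ⟨r, hr⟩ := hcoef a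
    have hxmem : x ∈ OortTate.eigenAug R A p χ 1 := hx ▸ Submodule.mem_span_singleton_self x
    have hd : ∀ z : OortTate.eigenAug R (CartDual.D R A) p χ 1, ∃ s : R, (z : CartDual.D R A) = s • ξ :=
      fun z => by
        obtain ⟨s, hs⟩ := Submodule.mem_span_singleton.1 (hξ.ge z.2)
        exact ⟨s, hs.symm⟩
    have hd' : ∀ z : OortTate.eigenAug R (CartDual.D R A') p χ 1, ∃ s : R, (z : CartDual.D R A') = s • ξ' :=
      fun z => by
        obtain ⟨s, hs⟩ := Submodule.mem_span_singleton.1 (hξ'.ge z.2)
        exact ⟨s, hs.symm⟩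
    choose s hs using fun i => hd (φ i)
    choose s' hs' using fun i => hd' (φ' i)
    have hss : ∀ i, s i = c * s' i := by
      intro i
      have h := hφ i ⟨x, hxmem⟩
      rw [hθ ⟨x, hxmem⟩ 1 (one_smul _ _).symm, hs, hs', mul_one] at h
      simp only [map_smul, LinearMap.smul_apply, hxξ, hxξ', smul_eq_mul, mul_one] at h
      rw [h, mul_comm]
    have hP : (ψ : CartDual.D R A) = ((∏ i, s i) * β) • ξ := by
      rw [hψ]
      simp only [hs, Algebra.smul_def, Finset.prod_mul_distrib, map_mul, map_prod, Finset.prod_const,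
        Finset.card_fin, hβ]
      ring
    have hP' : (ψ' : CartDual.D R A') = ((∏ i, s' i) * β') • ξ' := by
      rw [hψ']
      simp only [hs', Algebra.smul_def, Finset.prod_mul_distrib, map_mul, map_prod, Finset.prod_const,
        Finset.card_fin, hβ']
      ring
    rw [hθ a r hr, hr, hP, hP']
    simp only [map_smul, LinearMap.smul_apply, hxξ, hxξ', hv', smul_eq_mul, mul_one]
    simp only [hss, Finset.prod_mul_distrib, Finset.prod_const, Finset.card_fin, smul_eq_mul, hcp]
    ring

end Groth.Agent.S18475
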