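import Groth.Statements.S18476
import Mathlib.RingTheory.PowerSeries.WeierstrassPreparation
import Mathlib.LinearAlgebra.Dimension.Constructions
import Mathlib.LinearAlgebra.Dimension.StrongRankCondition
import Mathlib.LinearAlgebra.Dimension.Finite

set_option autoImplicit false
universe u
open FmlGrp

namespace Groth.Agent.S18476

open PowerSeries

variable {O : Type u} [CommRing O] [IsDomain O] [IsDiscreteValuationRing O]
  [IsAdicComplete (IsLocalRing.maximalIdeal O) O]

/-- The shift of a power series. -/
noncomputable def sh (c : O⟦X⟧) : O⟦X⟧ := mk fun p => coeff (p + 1) c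

theorem subst_rec {f : O⟦X⟧} (hf : HasSubst f) (c : O⟦X⟧) :
    subst f c = C (constantCoeff c) + f * subst f (sh c) := by
  conv_lhs => rw [eq_X_mul_shift_add_const c]
  rw [subst_add hf, subst_mul hf, subst_X hf, subst_C, add_comm]
  rfl

theorem eq_zero_of_forall_eq_mul {f : O⟦X⟧} (hf : constantCoeff f = 0) (D : ℕ → O⟦X⟧)
    (h : ∀ k, D k = f * D (k + 1)) : D 0 = 0 := by
  have h' : ∀ K, D 0 = f ^ K * D K := by
    intro K
    induction K with
    | zero => simp
    | succ K ih => rw [ih, h K, pow_succ, mul_assoc]
  ext m
  rw [h' (m + 1), map_zero]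
  exact (X_pow_dvd_iff.1 (dvd_mul_of_dvd_left (pow_dvd_pow_of_dvd (X_dvd_iff.2 hf) _) _)) m (Nat.lt_succ_self m)

theorem free_iff (f : O⟦X⟧) (hf0 : constantCoeff f = 0) (hf : HasSubst f) :
    (∃ n : ℕ, coeff n f ∉ IsLocalRing.maximalIdeal O) ↔
      ∃ (n : ℕ) (b : Fin n → O⟦X⟧), ∀ g : O⟦X⟧, ∃! c : Fin n → O⟦X⟧, g = ∑ i, subst f (c i) * b i := by
  classical
  constructor
  · rintro ⟨m, hm⟩
    have H : f.IsWeierstrassDivisor := IsWeierstrassDivisor.of_map_ne_zero fun h => hm (by
      rw [← IsLocalRing.residue_eq_zero_iff, ← coeff_map, h, map_zero])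
    set n := (f.map (Ideal.Quotient.mk (IsLocalRing.maximalIdeal O))).order.toNat with hn
    refine ⟨n, fun i => X ^ (i : ℕ), fun g => ?_⟩
    -- a polynomial of degree < n from constants
    have hpoly : ∀ c : Fin n → O, (∑ i, Polynomial.C (c i) * Polynomial.X ^ (i : ℕ)).degree < (n : WithBot ℕ) := fun c =>
      (Polynomial.degree_sum_le _ _).trans_lt ((Finset.sup_lt_iff (WithBot.bot_lt_coe n)).2 fun i _ =>
        (Polynomial.degree_C_mul_X_pow_le _ _).trans_lt (WithBot.coe_lt_coe.2 i.2))
    have hsplit : ∀ c : Fin n → O⟦X⟧, ∑ i, subst f (c i) * X ^ (i : ℕ) =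
        f * (∑ i, subst f (sh (c i)) * X ^ (i : ℕ)) +
          ((∑ i, Polynomial.C (constantCoeff (c i)) * Polynomial.X ^ (i : ℕ) : Polynomial O) : O⟦X⟧) := by
      intro c
      rw [← Polynomial.coeToPowerSeries.ringHom_apply, map_sum, Finset.mul_sum, ← Finset.sum_add_distrib]
      refine Finset.sum_congr rfl fun i _ => ?_
      rw [map_mul, map_pow, Polynomial.coeToPowerSeries.ringHom_apply, Polynomial.coeToPowerSeries.ringHom_apply,
        Polynomial.coe_C, Polynomial.coe_X, subst_rec hf (c i)]
      ring
    let q : ℕ → O⟦X⟧ := fun k => Nat.rec g (fun _ q => H.div q) k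
    let r : ℕ → Polynomial O := fun k => H.mod (q k)
    let c : ℕ → Fin n → O⟦X⟧ := fun k i => mk fun j => (r (k + j)).coeff i
    let T : ℕ → O⟦X⟧ := fun k => ∑ i, subst f (c k i) * X ^ (i : ℕ)
    have hqs : ∀ k, q k = f * q (k + 1) + r k := fun k => (H.isWeierstrassDivisionAt_div_mod (q k)).eq_mul_add
    have hTs : ∀ k, T k = f * T (k + 1) + r k := by
      intro k
      show ∑ i, subst f (c k i) * X ^ (i : ℕ) = _
      rw [hsplit]
      congr 1
      · congr 1
        refine Finset.sum_congr rfl fun i _ => ?_
        congr 2
        ext j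
        simp only [sh, c, coeff_mk]
        rw [show k + (j + 1) = k + 1 + j by omega]
      · congr 1
        have hd : (r k).degree < (n : WithBot ℕ) := (H.isWeierstrassDivisionAt_div_mod (q k)).degree_lt
        ext e
        rw [Polynomial.finsetSum_coeff]
        by_cases he : e < n
        · rw [Finset.sum_eq_single (⟨e, he⟩ : Fin n) (fun i _ hi => by
              rw [Polynomial.coeff_C_mul_X_pow, if_neg fun h => hi (Fin.ext h.symm)]) (by simp)]
          rw [Polynomial.coeff_C_mul_X_pow, if_pos rfl]
          simp [c]
        · rw [Polynomial.coeff_eq_zero_of_degree_lt (hd.trans_le (WithBot.coe_le_coe.2 (not_lt.1 he)))]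
          exact Finset.sum_eq_zero fun i _ => by
            rw [Polynomial.coeff_C_mul_X_pow, if_neg]; intro h; exact he (h ▸ i.2)
    have hD := eq_zero_of_forall_eq_mul hf0 (fun k => q k - T k) fun k => by
      show q k - T k = f * (q (k + 1) - T (k + 1))
      rw [hqs k, hTs k]; ring
    refine ⟨c 0, sub_eq_zero.1 hD, fun d hd => ?_⟩
    have hzero : ∀ (j : ℕ) (e : Fin n → O⟦X⟧), (∑ i, subst f (e i) * X ^ (i : ℕ)) = 0 → ∀ i, coeff j (e i) = 0 := by
      intro j
      induction j with
      | zero =>
        intro e he i
        rw [hsplit] at he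
        have h := (H.eq_of_mul_add_eq_mul_add (q' := 0) (r' := 0) (hpoly _)
          (by rw [Polynomial.degree_zero]; exact WithBot.bot_lt_coe n) (he.trans (by simp))).2
        have h' := congrArg (fun p => Polynomial.coeff p (i : ℕ)) h
        simp only [Polynomial.finsetSum_coeff, Polynomial.coeff_zero] at h'
        rw [Finset.sum_eq_single i (fun l _ hl => by
          rw [Polynomial.coeff_C_mul_X_pow, if_neg fun h => hl (Fin.ext h.symm)]) (by simp),
          Polynomial.coeff_C_mul_X_pow, if_pos rfl] at h'
        rw [coeff_zero_eq_constantCoeff]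
        exact h'
      | succ j ih =>
        intro e he i
        rw [hsplit] at he
        have h := (H.eq_of_mul_add_eq_mul_add (q' := 0) (r' := 0) (hpoly _)
          (by rw [Polynomial.degree_zero]; exact WithBot.bot_lt_coe n) (he.trans (by simp))).1
        have := ih (fun i => sh (e i)) h i
        rwa [sh, coeff_mk] at this
    have hg : ∑ i, subst f (d i - c 0 i) * X ^ (i : ℕ) = 0 := by
      simp only [← coe_substAlgHom hf, map_sub, sub_mul, Finset.sum_sub_distrib]
      simp only [coe_substAlgHom hf]
      rw [sub_eq_zero, ← hd]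
      exact sub_eq_zero.1 hD
    funext i
    ext j
    exact sub_eq_zero.1 ((map_sub _ _ _).symm.trans (hzero j _ hg i))
  · rintro ⟨n, b, hb⟩
    by_contra hne
    push Not at hne
    let κ := IsLocalRing.ResidueField O
    let ρ := PowerSeries.map (IsLocalRing.residue O)
    have hρf : ρ f = 0 := by
      ext m
      rw [coeff_map, map_zero, IsLocalRing.residue_eq_zero_iff]
      exact hne m
    have hspan : Submodule.span κ (Set.range fun i => ρ (b i)) = ⊤ := by
      refine eq_top_iff.2 fun g _ => ?_
      obtain ⟨g, rfl⟩ := PowerSeries.map_surjective (IsLocalRing.residue O) IsLocalRing.residue_surjective g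
      obtain ⟨c, hc, -⟩ := hb g
      rw [hc, map_sum]
      refine Submodule.sum_mem _ fun i _ => ?_
      rw [map_mul, subst_rec hf, map_add, map_mul, show ρ f = 0 from hρf, zero_mul, add_zero, map_C,
        ← PowerSeries.smul_eq_C_mul]
      exact Submodule.smul_mem _ _ (Submodule.subset_span ⟨i, rfl⟩)
    haveI : Module.Finite κ κ⟦X⟧ := ⟨by rw [← hspan]; exact Submodule.fg_span (Set.finite_range _)⟩
    have hli : LinearIndependent κ (fun i : Fin (n + 1) => (X : κ⟦X⟧) ^ (i : ℕ)) := by
      refine Fintype.linearIndependent_iff.2 fun a ha i => ?_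
      have h := congrArg (coeff (i : ℕ)) ha
      simp only [map_sum, coeff_smul, coeff_X_pow, map_zero] at h
      rw [Finset.sum_eq_single i (fun l _ hl => by
        rw [if_neg fun h => hl (Fin.ext h.symm)]; simp) (by simp), if_pos rfl] at h
      simpa using h
    have h1 := hli.fintype_card_le_finrank
    have h2 := finrank_range_le_card (R := κ) (fun i => ρ (b i))
    rw [Set.finrank, hspan, finrank_top] at h2
    simp only [Fintype.card_fin] at h1 h2
    exact absurd (h1.trans h2) (by omega)


/-- Let O be a complete discrete valuation ring whose maximal ideal m contains the prime number p, and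
let F be a one-dimensional formal group law over O, with multiplication-by-p series f = [p]_F(X) = X
+_F ⋯ +_F X ∈ O[[X]]. Then f has a coefficient outside m (f is not ≡ 0 mod m) if and only if F is
p-divisible in the sense that O[[X]] is free of finite rank over itself through the substitution
endomorphism X ↦ f: there are finitely many power series b_1, …, b_n such that every power series g
can be written uniquely as Σ_i c_i(f(X))·b_i. (The published statement asserts instead that F is
p-divisible iff F does not reduce to X + Y modulo m; that is false — over the p-adic integers the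
law φ⁻¹(φ(X) + φ(Y)) with φ = X + X^{p+1} is not congruent to X + Y modulo p, yet its
multiplication-by-p series φ⁻¹(pφ(X)) vanishes modulo p — and the printed proof establishes exactly
the criterion on f stated here.) The published setting is the valuation ring of a finite extension
of ℚ_p; the argument uses only that O is a complete discrete valuation ring with p in its maximal
ideal. -/
theorem result
    (O : Type u) [CommRing O] [IsDomain O] [IsDiscreteValuationRing O]
    [IsAdicComplete (IsLocalRing.maximalIdeal O) O]
    (p : ℕ) [Fact p.Prime] (hp : (p : O) ∈ IsLocalRing.maximalIdeal O)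
    (F : FormalGroup O) :
    (∃ n : ℕ, PowerSeries.coeff n
        ((p • (show F.Point Unit from ⟨PowerSeries.X, PowerSeries.HasSubst.X'⟩)).val) ∉
          IsLocalRing.maximalIdeal O) ↔
      ∃ (n : ℕ) (b : Fin n → PowerSeries O), ∀ g : PowerSeries O, ∃! c : Fin n → PowerSeries O,
        g = ∑ i, PowerSeries.subst
          ((p • (show F.Point Unit from ⟨PowerSeries.X, PowerSeries.HasSubst.X'⟩)).val) (c i) * b i := by
  have hS := ((p • (show F.Point Unit from ⟨PowerSeries.X, PowerSeries.HasSubst.X'⟩))).2
  exact free_iff _ (IsNilpotent.eq_zero hS) hS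
end Groth.Agent.S18476
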