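import Groth.Statements.S18477
import Groth.Agent.Lib.OT.Lift

set_option autoImplicit false
universe u
open scoped TensorProduct
open OortTate

namespace Groth.Agent.S18477

/-- Let p be a prime, R a commutative ring containing u with u(p − 1) = 1, and χ a homomorphism from the
units of ℤ/p to the units of R such that χ(m) − 1 is a unit for every m ≠ 1 (the situation of an
algebra over the subring Λ_p of the p-adic integers generated by the Teichmüller values and 1/(p(p −
1)), with χ the Teichmüller character, which is the published setting); assume moreover χ(m) ≡ m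
modulo pR for every m. Let A be a commutative and cocommutative Hopf algebra over R, finitely
generated and projective as an R-module of rank p at every prime (a group scheme G of order p), A^D
= Hom_R(A, R) its dual Hopf algebra (Cartier dual), δ ∈ A ⊗ A^D the canonical element — the one with
(id ⊗ ev_a)(δ) = a for every a ∈ A, corresponding to the identity of A — and ϕ the R-algebra map
from the group algebra of ℤ/p (the Hopf algebra R[T]/(T^p − 1) of μ_p, T group-like) to A ⊗ A^D with
ϕ(T) = δ; ϕ is the comorphism of the Cartier pairing G × G^D → μ_p. Let I_1(A) ⊆ A and I_1(A^D) ⊆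
A^D be the χ-eigenspaces of the augmentation ideals under the power maps [m], and y_1 = u Σ_m
χ(m)^{−1}(T^m − 1). Then ϕ(y_1) generates the image of I_1(A) ⊗ I_1(A^D) in A ⊗ A^D as an R-module,
and r·ϕ(y_1) = 0 only for r = 0 (so that image is free of rank one on ϕ(y_1)). The published
argument obtains commutativity and p-torsion of G over a locally Noetherian base; this row allows
any commutative ring R, over which both still hold. -/
theorem result
    (p : ℕ) [Fact p.Prime] (R : Type u) [CommRing R] (u : R) (hu : u * ((p - 1 : ℕ) : R) = 1)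
    (χ : (ZMod p)ˣ →* Rˣ) (hχ : ∀ m : (ZMod p)ˣ, m ≠ 1 → IsUnit ((χ m : R) - 1))
    (hχp : ∀ m : (ZMod p)ˣ, ((χ m : Rˣ) : R) - (((m : ZMod p).val : ℕ) : R) ∈ Ideal.span ({(p : R)} : Set R))
    (A : Type u) [CommRing A] [HopfAlgebra R A] [Coalgebra.IsCocomm R A] [Module.Finite R A]
    [Module.Projective R A] (hrk : ∀ q : PrimeSpectrum R, Module.rankAtStalk A q = p)
    (δ : A ⊗[R] CartDual.D R A)
    (hδ : ∀ a : A, TensorProduct.rid R A
      (LinearMap.lTensor A ((Module.Dual.eval R A a) ∘ₗ (CartDual.toDual R A).toLinearMap) δ) = a)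
    (ϕ : MonoidAlgebra R (Multiplicative (ZMod p)) →ₐ[R] A ⊗[R] CartDual.D R A)
    (hϕ : ϕ (OortTate.muT R p) = δ) :
    Submodule.span R {ϕ (OortTate.ygen R p u χ 1)} =
        LinearMap.range (TensorProduct.map (OortTate.eigenAug R A p χ 1).subtype
          (OortTate.eigenAug R (CartDual.D R A) p χ 1).subtype) ∧
      ∀ r : R, r • ϕ (OortTate.ygen R p u χ 1) = 0 → r = 0 := by
  have hp := Groth.Agent.OT.killed_of_rank hrk
  obtain ⟨n, e, G, he, hG, hsum⟩ := Groth.Agent.OT.exists_dualBasis hrk hχ hu hχp
  -- a dual basis of A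
  obtain ⟨N, f0, hf0⟩ := Module.Finite.exists_fin' R A
  obtain ⟨s0, hs0⟩ := Module.projective_lifting_property f0 LinearMap.id hf0
  -- the algebra map A ⊗ D → End A
  let iA : A →ₐ[R] WithConv (A →ₗ[R] A) :=
    { toRingHom := algebraMap A (WithConv (A →ₗ[R] A))
      commutes' := fun r => by ext b; simp [Algebra.algebraMap_eq_smul_one, mul_comm] }
  let iD : CartDual.D R A →ₐ[R] WithConv (A →ₗ[R] A) :=
    { toRingHom := Groth.Agent.OT.postHom (Algebra.ofId R A)
      commutes' := fun r => by ext b; simp [Algebra.algebraMap_eq_smul_one, Algebra.ofId_apply, smul_smul] }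
  let Φ : A ⊗[R] CartDual.D R A →ₐ[R] WithConv (A →ₗ[R] A) :=
    Algebra.TensorProduct.lift iA iD fun _ _ => Commute.all _ _
  have hΦ : ∀ (a : A) (g : CartDual.D R A) (b : A), (Φ (a ⊗ₜ g)).ofConv b = g.ofConv b • a := by
    intro a g b
    show (algebraMap A (WithConv (A →ₗ[R] A)) a * iD g).ofConv b = _
    rw [← Algebra.smul_def, WithConv.ofConv_smul, LinearMap.smul_apply, smul_eq_mul]
    show a * algebraMap R A (g.ofConv b) = _
    rw [mul_comm, ← Algebra.smul_def]
  let back : WithConv (A →ₗ[R] A) → A ⊗[R] CartDual.D R A := fun F =>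
    ∑ k, F.ofConv (f0 (Pi.single k 1)) ⊗ₜ[R] WithConv.toConv (LinearMap.proj k ∘ₗ s0)
  have hback : ∀ z, back (Φ z) = z := by
    intro z
    induction z using TensorProduct.induction_on with
    | zero => simp [back]
    | add z z' hz hz' =>
      simp only [back, map_add, WithConv.ofConv_add, LinearMap.add_apply, TensorProduct.add_tmul,
        Finset.sum_add_distrib] at hz hz' ⊢
      rw [hz, hz']
    | tmul a g =>
      simp only [back, hΦ, TensorProduct.smul_tmul, ← TensorProduct.tmul_sum]
      congr 1
      ext b
      have h := congrArg g.ofConv (LinearMap.congr_fun hs0 b)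
      rw [LinearMap.comp_apply, pi_eq_sum_univ' (s0 b), map_sum, map_sum, LinearMap.id_apply] at h
      simp only [map_smul] at h
      simp only [WithConv.ofConv_sum, WithConv.ofConv_smul, LinearMap.sum_apply, LinearMap.smul_apply,
        WithConv.ofConv_toConv, LinearMap.comp_apply, LinearMap.proj_apply]
      rw [← h]
      exact Finset.sum_congr rfl fun k _ => mul_comm _ _
  have hΦinj : Function.Injective Φ := Function.LeftInverse.injective hback
  have hδ' : ∀ a, (Φ δ).ofConv a = a := by
    intro a
    have hz : ∀ z : A ⊗[R] CartDual.D R A, (Φ z).ofConv a = TensorProduct.rid R A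
        (LinearMap.lTensor A ((Module.Dual.eval R A a) ∘ₗ (CartDual.toDual R A).toLinearMap) z) := by
      intro z
      induction z using TensorProduct.induction_on with
      | zero => simp
      | add z z' hz hz' => simp only [map_add, WithConv.ofConv_add, LinearMap.add_apply, hz, hz']
      | tmul b g => rw [hΦ, LinearMap.lTensor_tmul, TensorProduct.rid_tmul]; rfl
    rw [hz, hδ]
  have hψ : ∀ y, Φ (ϕ y) = Groth.Agent.OT.psi hp y := by
    intro y
    induction y using MonoidAlgebra.induction_on with
    | of g =>
      have hg : MonoidAlgebra.of R _ g = OortTate.muT R p ^ (Multiplicative.toAdd g).val := by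
        rw [Groth.Agent.OT.muT_pow, ZMod.natCast_zmod_val, ofAdd_toAdd]
      show (Φ.comp ϕ) _ = _
      rw [hg, map_pow, map_pow, AlgHom.comp_apply, hϕ]
      congr 1
      have := Groth.Agent.OT.psi_muT_pow (p := p) hp 1
      rw [pow_one] at this
      rw [this]
      apply WithConv.ofConv_injective
      refine LinearMap.ext fun a => ?_
      rw [hδ', WithConv.ofConv_toConv, AlgHom.toLinearMap_apply, Groth.Agent.OT.powConv_one']
      rfl
    | add y y' hy hy' => simp only [map_add, hy, hy']
    | smul r y hy => simp only [map_smul, hy]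
  have hy1 : Φ (ϕ (OortTate.ygen R p u χ 1)) = WithConv.toConv (Groth.Agent.OT.pr (p := p) u χ 1) := by
    rw [hψ, Groth.Agent.OT.psi_ygen]
  refine ⟨le_antisymm ?_ ?_, fun r hr => ?_⟩
  · rw [Submodule.span_le, Set.singleton_subset_iff]
    refine ⟨∑ k, (⟨e k, he k⟩ : OortTate.eigenAug R A p χ 1) ⊗ₜ[R]
      (⟨G k, hG k⟩ : OortTate.eigenAug R (CartDual.D R A) p χ 1), hΦinj ?_⟩
    rw [map_sum, map_sum, hy1]
    ext b
    simp only [TensorProduct.map_tmul, Submodule.subtype_apply, WithConv.ofConv_sum, LinearMap.sum_apply,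
      hΦ, WithConv.ofConv_toConv, hsum]
  · rintro _ ⟨z, rfl⟩
    induction z using TensorProduct.induction_on with
    | zero => simp
    | add z z' hz hz' => rw [map_add]; exact add_mem hz hz'
    | tmul a g =>
      refine Submodule.mem_span_singleton.2 ⟨(g : CartDual.D R A).ofConv (a : A), hΦinj ?_⟩
      rw [map_smul, hy1]
      ext b
      rw [WithConv.ofConv_smul, LinearMap.smul_apply, WithConv.ofConv_toConv, TensorProduct.map_tmul, hΦ,
        Submodule.subtype_apply, Submodule.subtype_apply,
        Groth.Agent.OT.apply_eq_apply_pr (u' := u) hχ hu g.2 b,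
        Groth.Agent.OT.swap_eigen hrk hχ hu hχp g.2 a.2 (Groth.Agent.OT.pr_mem hp 1 b)]
  · refine Groth.Agent.OT.smul_eigen_eq_zero hrk hχ hu hχp fun a ha => ?_
    have h := congrArg (fun F : WithConv (A →ₗ[R] A) => F.ofConv a) (congrArg Φ hr)
    simp only [map_smul, hy1, map_zero, WithConv.ofConv_smul, LinearMap.smul_apply, WithConv.ofConv_toConv,
      WithConv.ofConv_zero, LinearMap.zero_apply] at h
    rwa [Groth.Agent.OT.pr_of_mem hχ hu ha, if_pos rfl, one_smul] at h

end Groth.Agent.S18477
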