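import Groth.Statements.S18483
import Groth.Agent.Lib.WeilExt.Generic
import Groth.Agent.Lib.NeronElem.Basic

set_option autoImplicit false
universe u
open CategoryTheory CategoryTheory.Limits AlgebraicGeometry MonObj
open Neron

namespace Groth.Agent.S18483

/-- Let R be a Dedekind domain with fraction field K and N a proper smooth group scheme over Spec R,
with no connectedness condition on its fibres. Then N is a Néron model of its generic fibre N_K: N
is smooth, separated and of finite type over Spec R, and for every smooth Spec R-scheme Y
restriction to generic fibres is a bijection from R-morphisms Y → N onto K-morphisms Y_K → N_K. (The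
source allows any connected Dedekind scheme as base; the affine case is stated.) -/
theorem result (R : Type u) [CommRing R] [IsDedekindDomain R]
    (N : Over (Spec (CommRingCat.of R))) [GrpObj N] [IsProper N.hom] [Smooth N.hom] :
    Neron.IsNeronModelOf R N ((Neron.genericFibre R).obj N) (Iso.refl _) := by
  refine ⟨inferInstance, inferInstance, inferInstance, inferInstance, fun Y hY => ?_⟩
  haveI := hY
  refine ⟨fun a b hab => ?_, fun u => ?_⟩
  · simp only [Iso.refl_hom, Category.comp_id] at hab
    exact Groth.Agent.NeronElem.eq_of_map_eq R Y N a b hab
  · obtain ⟨g, ⟨hg, hgu⟩, -⟩ := Groth.Agent.WeilExt.exists_extension_genericFibre Y N u.left (Over.w u)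
    refine ⟨Over.homMk g hg, ?_⟩
    simp only [Iso.refl_hom, Category.comp_id]
    apply Groth.Agent.NeronElem.genericFibre_hom_ext
    rw [Groth.Agent.NeronElem.fst_comp_left]
    exact hgu

end Groth.Agent.S18483
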