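import Groth.Statements.S18484
import Groth.Agent.Lib.NeronElem.Basic

set_option autoImplicit false
universe u
open CategoryTheory CategoryTheory.Limits AlgebraicGeometry MonObj
open Neron

namespace Groth.Agent.S18484

open Groth.Agent


/-- Let R be a Dedekind domain with fraction field K, X a Spec R-scheme which is a Néron model of its
generic fibre X_K, and i : G → X a closed immersion with G smooth over Spec R. Then G is a Néron
model of its generic fibre G_K: smooth, separated, of finite type, and for every smooth Spec
R-scheme Y restriction to generic fibres is a bijection from R-morphisms Y → G onto K-morphisms Y_K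
→ G_K. (The source states this for a closed subgroup scheme of a Néron model; the group laws play no
part and are not assumed. The converse direction of the source, that a Néron model is a closed
subgroup of a Néron model, is immediate and not stated.) -/
theorem result (R : Type u) [CommRing R] [IsDedekindDomain R]
    (X G : Over (Spec (CommRingCat.of R))) (hX : Neron.IsNeronModelOf R X ((Neron.genericFibre R).obj X) (Iso.refl _))
    (i : G ⟶ X) [IsClosedImmersion i.left] [Smooth G.hom] :
    Neron.IsNeronModelOf R G ((Neron.genericFibre R).obj G) (Iso.refl _) := by
  obtain ⟨hXs, hXsep, hXft, hXqc, hXn⟩ := hX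
  haveI : IsSeparated G.hom := by rw [← Over.w i]; infer_instance
  haveI : LocallyOfFiniteType G.hom := inferInstance
  haveI : QuasiCompact G.hom := by rw [← Over.w i]; infer_instance
  refine ⟨inferInstance, inferInstance, inferInstance, inferInstance, fun Y hY => ⟨fun f g hfg => ?_, fun a => ?_⟩⟩
  · haveI := hY
    simp only [Iso.refl_hom, Category.comp_id] at hfg
    exact NeronElem.eq_of_map_eq R Y G f g hfg
  · haveI := hY
    obtain ⟨g, hg⟩ := (hXn Y hY).2 (a ≫ (Neron.genericFibre R).map i)
    simp only [Iso.refl_hom, Category.comp_id] at hg ⊢
    exact NeronElem.exists_lift_closed R X G Y i a g hg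

end Groth.Agent.S18484
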