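import Groth.Statements.S18485
import Mathlib.AlgebraicGeometry.Morphisms.QuasiFinite
import Mathlib.RingTheory.Flat.TorsionFree
import Mathlib.RingTheory.DedekindDomain.Dvr
import Mathlib.LinearAlgebra.Dimension.Localization

set_option autoImplicit false
universe u
open CategoryTheory CategoryTheory.Limits AlgebraicGeometry MonObj
open Neron

namespace Groth.Agent.S18485

open TensorProduct nonZeroDivisors

attribute [local instance] Algebra.TensorProduct.rightAlgebra

theorem exists_dvd_all {A J : Type*} [CommRing A] [IsDomain A] [ValuationRing A] [Finite J] [Nonempty J]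
    (c : J → A) : ∃ j, ∀ i, c j ∣ c i := by
  classical
  cases nonempty_fintype J
  have key : ∀ s : Finset J, s.Nonempty → ∃ j ∈ s, ∀ i ∈ s, c j ∣ c i := by
    intro s hs
    induction hs using Finset.Nonempty.cons_induction with
    | singleton a => exact ⟨a, Finset.mem_singleton_self _, fun i hi => by rw [Finset.mem_singleton.1 hi]⟩
    | cons a s ha hs ih =>
      obtain ⟨j, hj, hji⟩ := ih
      rcases ValuationRing.dvd_total (c j) (c a) with h | h
      · refine ⟨j, Finset.mem_cons_of_mem hj, fun i hi => ?_⟩
        rcases Finset.mem_cons.1 hi with rfl | hi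
        · exact h
        · exact hji i hi
      · refine ⟨a, Finset.mem_cons_self _ _, fun i hi => ?_⟩
        rcases Finset.mem_cons.1 hi with rfl | hi
        · exact dvd_rfl
        · exact h.trans (hji i hi)
  obtain ⟨j, -, hj⟩ := key Finset.univ Finset.univ_nonempty
  exact ⟨j, fun i => hj i (Finset.mem_univ i)⟩

theorem finite_fiber_of_isMaximal (R B : Type u) [CommRing R] [IsDedekindDomain R] [CommRing B] [Algebra R B]
    [Module.Flat R B] [Module.Finite (FractionRing R) (FractionRing R ⊗[R] B)] (p : Ideal R) [p.IsMaximal]
    (hp0 : p ≠ ⊥) : Module.Finite p.ResidueField (p.ResidueField ⊗[R] B) := by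
  haveI : IsDiscreteValuationRing (Localization.AtPrime p) :=
    IsLocalization.AtPrime.isDiscreteValuationRing_of_dedekind_domain R hp0 _
  have hsurjκ : Function.Surjective (algebraMap R p.ResidueField) := Ideal.algebraMap_residueField_surjective p
  have hsurj : Function.Surjective (fun b : B => (1 : p.ResidueField) ⊗ₜ[R] b) := by
    intro z
    induction z with
    | zero => exact ⟨0, by simp⟩
    | tmul a b =>
      obtain ⟨r, rfl⟩ := hsurjκ a
      exact ⟨r • b, by show (1 : p.ResidueField) ⊗ₜ[R] (r • b) = _; rw [← TensorProduct.smul_tmul, ← Algebra.algebraMap_eq_smul_one]⟩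
    | add x y hx hy =>
      obtain ⟨a, rfl⟩ := hx
      obtain ⟨b, rfl⟩ := hy
      exact ⟨a + b, TensorProduct.tmul_add _ _ _⟩
  set n := Module.finrank (FractionRing R) (FractionRing R ⊗[R] B)
  refine Module.rank_lt_aleph0_iff.1 (lt_of_le_of_lt (rank_le (n := n) fun s hs => ?_) Cardinal.natCast_lt_aleph0)
  choose t ht using fun z : s => hsurj (z : p.ResidueField ⊗[R] B)
  have hti : LinearIndependent R t := by
    rw [Fintype.linearIndependent_iff]
    intro c hc
    by_contra hne
    push Not at hne
    obtain ⟨i₀, hi₀⟩ := hne
    haveI : Nonempty s := ⟨i₀⟩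
    obtain ⟨j, hj⟩ := exists_dvd_all fun i => algebraMap R (Localization.AtPrime p) (c i)
    have hcj : c j ≠ 0 := by
      intro h
      obtain ⟨d, hd⟩ := hj i₀
      rw [h, map_zero, zero_mul] at hd
      exact hi₀ (FaithfulSMul.algebraMap_injective R (Localization.AtPrime p) (hd.trans (map_zero _).symm))
    choose d hd using hj
    obtain ⟨u, hu⟩ := IsLocalization.exist_integer_multiples_of_finite p.primeCompl d
    choose a ha using hu
    have hrel : ∀ i, (u : R) * c i = c j * a i := fun i => by
      apply FaithfulSMul.algebraMap_injective R (Localization.AtPrime p)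
      rw [map_mul, map_mul, ha i, hd i, Algebra.smul_def]
      ring
    have h0 : c j • (∑ i, a i • t i) = c j • (0 : B) := by
      rw [smul_zero, Finset.smul_sum]
      simp only [smul_smul, ← hrel]
      simp only [← smul_smul, ← Finset.smul_sum, hc, smul_zero]
    have h1 : ∑ i, a i • t i = 0 := Module.Flat.isSMulRegular_of_isRegular (isRegular_of_ne_zero hcj) h0
    have h2 : ∑ i, algebraMap R p.ResidueField (a i) • (i : p.ResidueField ⊗[R] B) = 0 := by
      have := congrArg (TensorProduct.mk R p.ResidueField B 1) h1
      simp only [map_sum, map_smul, TensorProduct.mk_apply, map_zero] at this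
      simpa only [algebraMap_smul, ht] using this
    have h3 : algebraMap R p.ResidueField (a j) = 0 := Fintype.linearIndependent_iff.1 hs _ h2 j
    have h4 : (a j) ∈ p := by rwa [Ideal.algebraMap_residueField_eq_zero] at h3
    have h5 : (u : R) ∈ p := by
      have : ((u : R) - a j) * c j = 0 := by rw [sub_mul, hrel, mul_comm (a j), sub_self]
      rcases mul_eq_zero.1 this with h | h
      · rw [sub_eq_zero.1 h]; exact h4
      · exact absurd h hcj
    exact u.2 h5
  have hK : LinearIndependent (FractionRing R) (TensorProduct.mk R (FractionRing R) B 1 ∘ t) :=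
    hti.of_isLocalizedModule (FractionRing R) R⁰ _
  simpa using hK.fintype_card_le_finrank

theorem quasiFinite_of_flat (R B : Type u) [CommRing R] [IsDedekindDomain R] [CommRing B] [Algebra R B]
    [Module.Flat R B] [Module.Finite (FractionRing R) (FractionRing R ⊗[R] B)] : Algebra.QuasiFinite R B := by
  refine ⟨fun p _ => ?_⟩
  by_cases hp : p = ⊥
  · have hinj : Function.Injective (algebraMap R p.ResidueField) := by
      rw [injective_iff_map_eq_zero]
      intro r hr
      rw [Ideal.algebraMap_residueField_eq_zero, hp] at hr
      exact hr
    letI : Algebra (FractionRing R) p.ResidueField := (IsFractionRing.lift hinj).toAlgebra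
    haveI : IsScalarTower R (FractionRing R) p.ResidueField :=
      IsScalarTower.of_algebraMap_eq fun x => (IsFractionRing.lift_algebraMap hinj x).symm
    exact Module.Finite.equiv (TensorProduct.AlgebraTensorModule.cancelBaseChange R (FractionRing R) p.ResidueField p.ResidueField B)
  · haveI : p.IsMaximal := Ring.DimensionLEOne.maximalOfPrime hp inferInstance
    exact finite_fiber_of_isMaximal R B p hp

theorem lqf_affine (R : Type u) [CommRing R] [IsDedekindDomain R] (B : CommRingCat.{u})
    (g : Spec B ⟶ Spec (CommRingCat.of R)) [Flat g]
    [LocallyQuasiFinite (pullback.snd g (Neron.genPt R))] : LocallyQuasiFinite g := by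
  obtain ⟨φ, rfl⟩ := Spec.map_surjective g
  letI := φ.hom.toAlgebra
  have hflat : φ.hom.Flat := (HasRingHomProperty.Spec_iff (P := @Flat)).1 inferInstance
  haveI : Module.Flat R B := hflat
  haveI : Module.Finite (FractionRing R) (FractionRing R ⊗[R] B) := by
    let e := pullbackSymmetry _ _ ≪≫ pullbackSpecIso R (FractionRing R) B
    have h : LocallyQuasiFinite (Spec.map (CommRingCat.ofHom (algebraMap (FractionRing R) (FractionRing R ⊗[R] B)))) := by
      have he : Spec.map (CommRingCat.ofHom (algebraMap (FractionRing R) (FractionRing R ⊗[R] B))) =
          e.inv ≫ pullback.snd (Spec.map φ) (Neron.genPt R) := by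
        have := pullbackSpecIso_inv_fst R (FractionRing R) B
        simp only [e, Iso.trans_inv, Category.assoc]
        erw [pullbackSymmetry_inv_comp_snd]
        exact this.symm
      rw [he]
      infer_instance
    haveI : Algebra.QuasiFinite (FractionRing R) (FractionRing R ⊗[R] B) :=
      RingHom.quasiFinite_algebraMap.1 ((HasRingHomProperty.Spec_iff (P := @LocallyQuasiFinite)).1 h)
    exact Module.Finite.of_quasiFinite
  exact (HasRingHomProperty.Spec_iff (P := @LocallyQuasiFinite)).2 (quasiFinite_of_flat R B)


/-- Let R be a Dedekind domain with fraction field K and H a Spec R-scheme which is flat and locally of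
finite type over Spec R. If the generic fibre H_K is locally quasi-finite over K, then H is locally
quasi-finite over Spec R. (The published statement is about the schematic closure, in an S-group
algebraic space of finite type over a connected Dedekind scheme S, of a finite subgroup of the
generic fibre, which it asserts to be a quasi-finite S-group; this row is the statement about flat
schemes locally of finite type over an affine Dedekind base on which that rests. Locally
quasi-finite is meant here without a finite type clause, which is assumed separately.) -/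
theorem result (R : Type u) [CommRing R]
    [IsDedekindDomain R] (H : Over (Spec (CommRingCat.of R))) [Flat H.hom] [LocallyOfFiniteType H.hom]
    [LocallyQuasiFinite ((Neron.genericFibre R).obj H).hom] : LocallyQuasiFinite H.hom := by
  rw [IsZariskiLocalAtSource.iff_of_openCover (P := @LocallyQuasiFinite) H.left.affineCover]
  intro i
  set j := H.left.affineCover.f i
  haveI : IsOpenImmersion j := H.left.affineCover.map_prop i
  have hF : Flat (j ≫ H.hom) := MorphismProperty.comp_mem @Flat j H.hom inferInstance inferInstance
  haveI : LocallyQuasiFinite (pullback.snd H.hom (Neron.genPt R)) :=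
    ‹LocallyQuasiFinite ((Neron.genericFibre R).obj H).hom›
  have hL : LocallyQuasiFinite (pullback.snd (j ≫ H.hom) (Neron.genPt R)) := by
    have := pullbackRightPullbackFstIso_inv_snd_snd H.hom (Neron.genPt R) j
    rw [← this]
    infer_instance
  exact @lqf_affine R _ _ _ (j ≫ H.hom) hF hL

end Groth.Agent.S18485
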