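import Groth.Statements.S18486
import Groth.Agent.Lib.TorsorSch25.Transfer
import Groth.Agent.Lib.NeronGlue19.Descent
import Groth.Agent.Lib.FpqcDesc.Basic

set_option autoImplicit false
universe u
open CategoryTheory CategoryTheory.Limits AlgebraicGeometry MonObj
open Neron

namespace Groth.Agent.S18486

open CartesianMonoidalCategory MonoidalCategory
open Groth.Agent.NeronGlue19

set_option linter.style.haveILetI false
set_option backward.isDefEq.respectTransparency.types false

/-- Let R be a Dedekind domain with fraction field K, X a group scheme over Spec R which is a Néron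
model of its generic fibre, and P a Spec R-scheme with an action of X making it an X-torsor for the
fppf topology (a pseudo-torsor which acquires sections on the members of some fppf covering family
of Spec R). Then P is smooth, separated and of finite type over Spec R and has the Néron mapping
property: for every smooth Spec R-scheme Y restriction to generic fibres is a bijection from
R-morphisms Y → P onto K-morphisms Y_K → P_K; that is, P is a Néron model of P_K. (The source treats
Néron lft models, torsors that are algebraic spaces and the mapping property towards smooth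
algebraic spaces; the case of a Néron model of finite type and a torsor which is a scheme is
stated.) -/
theorem result (R : Type u) [CommRing R] [IsDedekindDomain R]
    (X : Over (Spec (CommRingCat.of R))) [GrpObj X] (hX : Neron.IsNeronModelOf R X ((Neron.genericFibre R).obj X) (Iso.refl _))
    (P : NonAbH1.TorsorSch X Scheme.fppfPrecoverage) :
    Neron.IsNeronModelOf R P.X ((Neron.genericFibre R).obj P.X) (Iso.refl _) := by
  obtain ⟨hs, hsep, hlft, hqc, hN⟩ := hX
  have hT : NonAbH1.IsTorsorFor Scheme.fpqcPrecoverage P.act := by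
    obtain ⟨R', hR', hsec⟩ := P.isTorsor.2
    exact ⟨P.isTorsor.1, R', Scheme.fppfPrecoverage_le_fpqcPrecoverage _ hR', hsec⟩
  haveI := FpqcDesc.descendsAlong_isSeparated.{u}
  haveI := FpqcDesc.descendsAlong_quasiCompact.{u}
  haveI : Surjective X.hom := ⟨fun s => ⟨η[X].left s, by
    rw [← Scheme.Hom.comp_apply, Over.w η[X]]; rfl⟩⟩
  haveI : Smooth P.X.hom := TorsorSch25.prop_of_isTorsorFor @Smooth hT hs
  haveI : Surjective P.X.hom := TorsorSch25.prop_of_isTorsorFor @Surjective hT inferInstance
  refine ⟨inferInstance, TorsorSch25.prop_of_isTorsorFor @IsSeparated hT hsep,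
    TorsorSch25.prop_of_isTorsorFor @LocallyOfFiniteType hT hlft,
    TorsorSch25.prop_of_isTorsorFor @QuasiCompact hT hqc, ?_⟩
  simp only [Iso.refl_hom, Category.comp_id, bijective_iff] at hN ⊢
  set j := genPt R
  have hinj : ∀ W : Over _, Smooth W.hom → Function.Injective (fun g : W ⟶ P.X => NeronGlue19.ι j W ≫ g) := by
    intro W hW g₁ g₂ h
    simp only at h
    obtain ⟨x, hx, -⟩ := TorsorSch25.existsUnique_smul P.isTorsor.1 g₁ g₂
    have h1 : NeronGlue19.ι j W ≫ x = NeronGlue19.ι j W ≫ 1 := by
      refine TorsorSch25.smul_cancel P.isTorsor.1 (x := NeronGlue19.ι j W ≫ g₁) ?_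
      rw [← comp_lift_assoc, hx, MonObj.comp_one, AlgGrp.Action.lift_one_act, h]
    rw [← hx, (hN W hW).1 h1, AlgGrp.Action.lift_one_act]
  intro Y hY
  haveI := hY
  refine ⟨hinj Y hY, fun h => ?_⟩
  let Y' : Over _ := Y ⊗ P.X
  haveI : Smooth (fst Y P.X).left := MorphismProperty.pullback_fst Y.hom P.X.hom ‹Smooth P.X.hom›
  haveI : Surjective (fst Y P.X).left := MorphismProperty.pullback_fst Y.hom P.X.hom ‹Surjective P.X.hom›
  haveI : Smooth Y'.hom := by rw [← Over.w (fst Y P.X)]; infer_instance
  obtain ⟨x, hx, -⟩ := TorsorSch25.existsUnique_smul P.isTorsor.1 (NeronGlue19.ι j Y' ≫ snd Y P.X)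
    (resMap j (fst Y P.X) ≫ h)
  obtain ⟨x₁, hx₁⟩ := (hN Y' inferInstance).2 x
  simp only at hx₁
  refine exists_of_cover j (fst Y P.X) hinj h (lift x₁ (snd Y P.X) ≫ P.act.act) ?_
  rw [comp_lift_assoc, hx₁, hx]

end Groth.Agent.S18486
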