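import Groth.Statements.S18487
import Groth.Agent.Lib.DVRVal.Extend
import Groth.Agent.Lib.TorsorSch25.Transfer
import Groth.Agent.Lib.FpqcDesc.Basic

set_option autoImplicit false
universe u
open CategoryTheory CategoryTheory.Limits AlgebraicGeometry MonObj
open NonAbH1

namespace Groth.Agent.S18487

theorem valuationRing_stalk (R : Type u) [CommRing R] [IsDedekindDomain R] (y : Spec (CommRingCat.of R)) :
    IsDomain ((Spec (CommRingCat.of R)).presheaf.stalk y) ∧
      ∀ [IsDomain ((Spec (CommRingCat.of R)).presheaf.stalk y)],
        ValuationRing ((Spec (CommRingCat.of R)).presheaf.stalk y) := by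
  let L := (Spec.structureSheaf R).presheaf.stalk y
  haveI : IsLocalization.AtPrime L y.asIdeal := StructureSheaf.IsLocalization.to_stalk _ y
  haveI hd : IsDomain L := IsLocalization.isDomain_of_atPrime L y.asIdeal
  haveI : IsDedekindDomain L :=
    IsLocalization.isDedekindDomain R y.asIdeal.primeCompl_le_nonZeroDivisors L
  haveI : IsLocalRing L := IsLocalization.AtPrime.isLocalRing L y.asIdeal
  refine ⟨hd, ?_⟩
  intro _
  haveI : IsNoetherianRing L := IsLocalization.isNoetherianRing y.asIdeal.primeCompl L inferInstance
  exact ((tfae_of_isNoetherianRing_of_isLocalRing_of_isDomain L).out 2 1).1 ‹_›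

/-- Let R be a Dedekind domain with fraction field K, G a proper flat group scheme over Spec R, and P a
Spec R-scheme with an action of G making it a G-torsor for the fppf topology (a pseudo-torsor
acquiring sections on the members of an fppf covering family). If P acquires a section over the
generic point Spec K → Spec R, then P has a section over Spec R: a generically trivial torsor is
trivial. (The source allows any connected Dedekind scheme as base and torsors that are fppf sheaves,
shown there to be schemes; the affine base and scheme torsors are stated.) -/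
theorem result (R : Type u) [CommRing R] [IsDedekindDomain R]
    (G : Over (Spec (CommRingCat.of R))) [GrpObj G] [IsProper G.hom] [Flat G.hom]
    (P : NonAbH1.TorsorSch G Scheme.fppfPrecoverage) (h : NonAbH1.HasSectionOver P.X (Neron.genPt R)) :
    NonAbH1.HasSectionOver P.X (𝟙 (Spec (CommRingCat.of R))) := by
  obtain ⟨x, hx⟩ := h
  haveI := FpqcDesc.descendsAlong_isProper.{u}
  haveI : IsProper P.X.hom := TorsorSch25.prop_of_isTorsorFor @IsProper
    ⟨P.isTorsor.1, P.isTorsor.2.choose,
      Scheme.fppfPrecoverage_le_fpqcPrecoverage _ P.isTorsor.2.choose_spec.1, P.isTorsor.2.choose_spec.2⟩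
    inferInstance
  let Y := Spec (CommRingCat.of R)
  haveI : IsDomain (CommRingCat.of R) := inferInstanceAs (IsDomain R)
  haveI : IsIntegral Y := inferInstanceAs (IsIntegral (Spec (CommRingCat.of R)))
  let gp := genericPoint Y
  letI : Algebra R Y.functionField := (StructureSheaf.toStalk (CommRingCat.of R) gp).hom.toAlgebra
  haveI : IsFractionRing R Y.functionField := functionField_isFractionRing_of_affine (CommRingCat.of R)
  let e := IsLocalization.algEquiv (nonZeroDivisors R) (FractionRing R) Y.functionField
  let φ : Spec (Y.presheaf.stalk gp) ⟶ P.X.left := Spec.map (CommRingCat.ofHom e.toRingHom) ≫ x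
  have hφ : φ ≫ P.X.hom = Y.fromSpecStalk gp ≫ 𝟙 Y := by
    rw [Category.comp_id, Category.assoc, hx, Neron.genPt, ← Spec.map_comp]
    refine (congrArg Spec.map ?_).trans (Spec.fromSpecStalk_eq _ _).symm
    exact CommRingCat.hom_ext (RingHom.ext fun r => (e.commutes r).trans rfl)
  obtain ⟨V, hV, s, -, hs⟩ := spread_out_of_isGermInjective' (𝟙 Y) P.X.hom φ (x := gp) hφ
  rw [Category.comp_id] at hs
  obtain ⟨U, hVU, s', hs', -, hU⟩ := DVRVal.exists_extend_section P.X.hom
    P.X.hom.isClosedMap (fun _ => True)
    (fun y _ => valuationRing_stalk R y) V (V.2.dense ⟨gp, hV⟩) s hs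
  have hUtop : U = ⊤ := top_le_iff.1 fun y _ => hU y trivial
  subst hUtop
  exact ⟨(Scheme.topIso _).inv ≫ s', by rw [Category.assoc, hs']; exact (Scheme.topIso _).inv_hom_id⟩

end Groth.Agent.S18487
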