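import Groth.Statements.S18488
import Groth.Agent.Lib.TorsorSch25.Extend
import Groth.Agent.Lib.TorsorSch25.AbsInt
import Groth.Agent.Lib.TorsorSch25.Transfer
import Groth.Agent.Lib.FpqcDesc.Basic
import Mathlib.AlgebraicGeometry.AlgClosed.Basic

set_option autoImplicit false
universe u
open CategoryTheory CategoryTheory.Limits AlgebraicGeometry MonObj
open NonAbH1

namespace Groth.Agent.S18488

theorem surjective_of_isTorsorFor {S : Scheme.{u}} [IsAffine S] {G X : Over S} [GrpObj G] {a : AlgGrp.Action G X}
    (h : NonAbH1.IsTorsorFor Scheme.fpqcPrecoverage a) : Surjective X.hom := by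
  obtain ⟨R, hR, hsec⟩ := h.2
  obtain ⟨W, w, -, -, hw, -, hW⟩ := TorsorSch25.exists_affine_test hR (isAffineOpen_top S)
  obtain ⟨s, hs⟩ := hW X hsec
  haveI : Surjective (s ≫ X.hom) := by
    haveI := hw
    haveI : IsIso (⊤ : S.Opens).ι := (Scheme.topIso S).isIso_hom
    rw [hs]; infer_instance
  exact Surjective.of_comp s X.hom

/-- Let R be a Dedekind domain with fraction field K and G a proper flat group scheme over Spec R. Then
restriction to the generic fibre, from the set of classes of G-torsors for the fppf topology (Spec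
R-schemes with a G-action, pseudo-torsors trivialised on an fppf covering family, up to equivariant
isomorphism) to the set of classes of G_K-torsors, is injective. (The source allows any connected
Dedekind scheme as base and all fppf torsors, which it shows to be schemes; the affine base and
torsors representable by schemes are stated.) -/
theorem result (R : Type u) [CommRing R] [IsDedekindDomain R]
    (G : Over (Spec (CommRingCat.of R))) [GrpObj G] [IsProper G.hom] [Flat G.hom] :
    Function.Injective (NonAbH1.H1Sch.bcMap (Neron.genPt R) G Scheme.fppfPrecoverage) := by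
  intro c d hcd
  induction c using Quot.ind with | mk P => ?_
  induction d using Quot.ind with | mk Q => ?_
  haveI := FpqcDesc.descendsAlong_isProper.{u}
  have hP : NonAbH1.IsTorsorFor Scheme.fpqcPrecoverage P.act := ⟨P.isTorsor.1, P.isTorsor.2.choose,
    Scheme.fppfPrecoverage_le_fpqcPrecoverage _ P.isTorsor.2.choose_spec.1, P.isTorsor.2.choose_spec.2⟩
  have hQ : NonAbH1.IsTorsorFor Scheme.fpqcPrecoverage Q.act := ⟨Q.isTorsor.1, Q.isTorsor.2.choose,
    Scheme.fppfPrecoverage_le_fpqcPrecoverage _ Q.isTorsor.2.choose_spec.1, Q.isTorsor.2.choose_spec.2⟩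
  haveI : IsProper P.X.hom := TorsorSch25.prop_of_isTorsorFor @IsProper hP inferInstance
  haveI : IsProper Q.X.hom := TorsorSch25.prop_of_isTorsorFor @IsProper hQ inferInstance
  haveI := surjective_of_isTorsorFor hP
  obtain ⟨e⟩ := TorsorSch25.nonempty_equivIso_of_cl_eq (P := P.bc (Neron.genPt R)) (Q := Q.bc (Neron.genPt R)) hcd
  let K := FractionRing R
  let L := AlgebraicClosure K
  haveI : FaithfulSMul R L := (faithfulSMul_iff_algebraMap_injective R L).2
    (by rw [IsScalarTower.algebraMap_eq R K L]; exact (algebraMap K L).injective.comp (IsFractionRing.injective R K))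
  haveI : Algebra.IsAlgebraic R L := (IsFractionRing.comap_isAlgebraic_iff (A := R) (K := K) (C := L)).2 inferInstance
  let A := integralClosure R L
  haveI : IsFractionRing A L := integralClosure.isFractionRing_of_algebraic
    (fun x hx => FaithfulSMul.algebraMap_injective R L (by rw [hx, map_zero]))
  let T : Over (Spec (CommRingCat.of R)) := Over.mk (Spec.map (CommRingCat.ofHom (algebraMap R A)))
  let B : Over (Spec (CommRingCat.of K)) := Over.mk (Spec.map (CommRingCat.ofHom (algebraMap K L)))
  haveI : Module.IsTorsionFree R A := inferInstance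
  haveI : Module.Flat R A := inferInstance
  haveI : Module.Flat R L := inferInstance
  haveI : Flat T.hom := HasRingHomProperty.Spec_iff.2 ((RingHom.flat_algebraMap_iff (R := R) (S := A)).2 inferInstance)
  haveI : Surjective T.hom := ⟨Algebra.IsIntegral.comap_surjective R A⟩
  haveI : QuasiCompact T.hom := inferInstanceAs (QuasiCompact (Spec.map _))
  have hBg : B.hom ≫ Neron.genPt R = Spec.map (CommRingCat.ofHom (algebraMap R L)) := by
    show Spec.map _ ≫ Spec.map _ = _
    rw [← Spec.map_comp, ← CommRingCat.ofHom_comp, ← IsScalarTower.algebraMap_eq]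
  let t : (Over.map (Neron.genPt R)).obj B ⟶ T := Over.homMk (Spec.map (CommRingCat.ofHom (algebraMap A L))) (by
    show Spec.map _ ≫ Spec.map _ = B.hom ≫ Neron.genPt R
    rw [hBg, ← Spec.map_comp, ← CommRingCat.ofHom_comp, ← IsScalarTower.algebraMap_eq])
  haveI : IsDomain (CommRingCat.of A) := inferInstanceAs (IsDomain A)
  haveI : IsIntegral (Spec (CommRingCat.of A)) := inferInstance
  haveI : IsIntegral T.left := inferInstanceAs (IsIntegral (Spec (CommRingCat.of A)))
  haveI : IsDominant (Spec.map (CommRingCat.ofHom (algebraMap A L))) := ⟨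
    (PrimeSpectrum.denseRange_comap_iff_ker_le_nilRadical _).2
      (by rw [CommRingCat.hom_ofHom, (RingHom.injective_iff_ker_eq_bot _).1 (IsFractionRing.injective A L)]; exact bot_le)⟩
  haveI : IsSchemeTheoreticallyDominant t.left :=
    IsSchemeTheoreticallyDominant.of_isDominant (Spec.map (CommRingCat.ofHom (algebraMap A L)))
  haveI : QuasiCompact t.left := inferInstanceAs (QuasiCompact (Spec.map _))
  haveI : Flat ((Over.map (Neron.genPt R)).obj B).hom := by
    show Flat (B.hom ≫ Neron.genPt R)
    rw [hBg]
    exact HasRingHomProperty.Spec_iff.2 ((RingHom.flat_algebraMap_iff (R := R) (S := L)).2 inferInstance)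
  haveI : Mono (Neron.genPt R) := by
    haveI : Epi (CommRingCat.ofHom (algebraMap R K)) := IsLocalization.epi (nonZeroDivisors R) K
    exact inferInstanceAs (Mono (Scheme.Spec.map (CommRingCat.ofHom (algebraMap R K)).op))
  have hA : ∀ y : T.left, ValuationRing (T.left.presheaf.stalk y) := by
    intro (y : PrimeSpectrum A)
    haveI := TorsorSch25.valuationRing_atPrime_integralClosure (R := R) (L := L)
      (fun p _ => TorsorSch25.valuationRing_atPrime_dedekind p) y.asIdeal
    haveI : IsLocalization.AtPrime ((Spec.structureSheaf A).presheaf.stalk y) y.asIdeal :=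
      StructureSheaf.IsLocalization.to_stalk _ y
    let ψ := IsLocalization.algEquiv y.asIdeal.primeCompl (Localization.AtPrime y.asIdeal)
      ((Spec.structureSheaf A).presheaf.stalk y)
    haveI : IsDomain ((Spec.structureSheaf A).presheaf.stalk y) := IsLocalization.isDomain_of_atPrime _ y.asIdeal
    exact Function.Surjective.valuationRing ψ.toRingEquiv.toRingHom ψ.surjective
  have hext : ∀ (X : Over (Spec (CommRingCat.of R))) [IsProper X.hom]
      (x : (Over.map (Neron.genPt R)).obj B ⟶ X), ∃ s : T ⟶ X, t ≫ s = x := by
    intro X _ x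
    let Y := T.left
    letI : Algebra A Y.functionField := (StructureSheaf.toStalk (CommRingCat.of A) (genericPoint Y)).hom.toAlgebra
    haveI : IsFractionRing A Y.functionField := functionField_isFractionRing_of_affine (CommRingCat.of A)
    let ε := IsLocalization.algEquiv (nonZeroDivisors A) L Y.functionField
    let E : CommRingCat.of L ≅ Y.functionField := ε.toRingEquiv.toCommRingCatIso
    have hE : Spec.map E.hom ≫ t.left = Y.fromSpecStalk (genericPoint Y) := by
      show Spec.map _ ≫ Spec.map _ = _
      rw [← Spec.map_comp]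
      refine (congrArg Spec.map ?_).trans (Spec.fromSpecStalk_eq (CommRingCat.of A) _).symm
      exact CommRingCat.hom_ext (RingHom.ext fun r => (ε.commutes r).trans rfl)
    obtain ⟨σ, hσ, hσx⟩ := TorsorSch25.exists_section_of_valuationRing hA (pullback.snd X.hom T.hom)
      (pullback.lift (Spec.map E.hom ≫ x.left) (Y.fromSpecStalk (genericPoint Y)) (by
        rw [← hE, Category.assoc, Category.assoc, Over.w x, Over.w t])) (pullback.lift_snd _ _ _)
    refine ⟨Over.homMk (σ ≫ pullback.fst X.hom T.hom) (by
      rw [Category.assoc, pullback.condition, reassoc_of% hσ]), Over.OverMorphism.ext ?_⟩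
    rw [← cancel_epi (Spec.map E.hom), Over.comp_left, reassoc_of% hE]
    exact (congrArg (fun v => v ≫ pullback.fst X.hom T.hom) hσx).trans (pullback.lift_fst _ _ _) |> (by simpa using ·)
  obtain ⟨p₀⟩ : Nonempty ((Over.map (Neron.genPt R)).obj B ⟶ P.X) := by
    let b := B.hom ≫ Neron.genPt R
    let π : pullback P.X.hom b ⟶ Spec (CommRingCat.of L) := pullback.snd P.X.hom b
    haveI : Surjective π := inferInstanceAs (Surjective (pullback.snd _ _))
    haveI : LocallyOfFiniteType π := inferInstanceAs (LocallyOfFiniteType (pullback.snd _ _))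
    haveI : JacobsonSpace ↥(pullback P.X.hom b) := LocallyOfFiniteType.jacobsonSpace π
    obtain ⟨x₀, -⟩ := π.surjective (IsLocalRing.closedPoint L)
    obtain ⟨x, -, hx⟩ := nonempty_inter_closedPoints (Z := (Set.univ : Set ↥(pullback P.X.hom b)))
      ⟨x₀, trivial⟩ isOpen_univ.isLocallyClosed
    exact ⟨Over.homMk (pointOfClosedPoint π x hx ≫ pullback.fst P.X.hom b) (by
      rw [Category.assoc, pullback.condition]
      exact (congrArg (fun v => v ≫ b) (pointOfClosedPoint_comp π x hx)).trans (Category.id_comp _))⟩
  obtain ⟨p, hp⟩ := hext P.X p₀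
  obtain ⟨q, hq⟩ := hext Q.X (TorsorSch25.pointMap (Neron.genPt R) e.iso.hom p₀)
  exact (TorsorSch25.exists_equivIso_extend hP hQ.1 (Neron.genPt R) e p q t (by rw [hp, hq])).elim
    (fun e => Quot.sound ⟨e⟩)

end Groth.Agent.S18488
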