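import Groth.Statements.S18490
import Groth.Agent.Lib.Thick4
import Mathlib.AlgebraicGeometry.Morphisms.Flat
import Mathlib.AlgebraicGeometry.Morphisms.FiniteType

set_option autoImplicit false
universe u
open CategoryTheory CategoryTheory.Limits AlgebraicGeometry
open FlatMor

set_option backward.isDefEq.respectTransparency.types false

namespace Groth.Agent.S18490


theorem flat_of_retract {A B C : Type u} [CommRing A] [CommRing B] [CommRing C] (φ : A →+* B)
    (a : B →+* C) (s : C →+* B) (hsa : s.comp a = RingHom.id B) (h : (a.comp φ).Flat) : φ.Flat := by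
  letI := φ.toAlgebra
  letI := (a.comp φ).toAlgebra
  haveI : Module.Flat A C := h
  let i : B →ₗ[A] C := 
    { a.toAddMonoidHom with map_smul' := fun r x => map_mul a (φ r) x }
  let r : C →ₗ[A] B := 
    { s.toAddMonoidHom with
      map_smul' := fun q x => (map_mul s (a (φ q)) x).trans
        (congrArg (· * s x) (RingHom.congr_fun hsa (φ q))) }
  exact Module.Flat.of_retract i r (LinearMap.ext fun x => RingHom.congr_fun hsa x)

open AlgebraicGeometry CategoryTheory Limits in
theorem flat_of_section {X P S : Scheme.{u}} (a : P ⟶ X) (f : X ⟶ S) (s : X ⟶ P) (hs : s ≫ a = 𝟙 X)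
    [Flat (a ≫ f)] : Flat f := by
  refine Flat.of_stalkMap f fun x => ?_
  have hy : a (s x) = x := by rw [← Scheme.Hom.comp_apply, hs]; rfl
  let u : X.presheaf.stalk (a (s x)) ⟶ X.presheaf.stalk x := (X.presheaf.stalkCongr (.of_eq hy)).hom
  have hflat : ((a.stalkMap (s x)).hom.comp (f.stalkMap (a (s x))).hom).Flat := by
    have h0 : ((a ≫ f).stalkMap (s x)).hom.Flat := Flat.stalkMap _ _
    have e := Scheme.Hom.stalkMap_comp a f (s x)
    rw [e] at h0
    exact h0
  have hcomp : a.stalkMap (s x) ≫ s.stalkMap x = u := by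
    rw [← Scheme.Hom.stalkMap_comp, Scheme.Hom.stalkMap_congr_hom _ _ hs]
    simp [u]
  have hf : (f.stalkMap (a (s x))).hom.Flat := by
    refine flat_of_retract _ (a.stalkMap (s x)).hom ((inv u).hom.comp (s.stalkMap x).hom) ?_ hflat
    rw [RingHom.comp_assoc, ← CommRingCat.hom_comp, hcomp, ← CommRingCat.hom_comp, IsIso.hom_inv_id]
    rfl
  exact hy ▸ hf


/-- Let f : X → S and g : Y → S be morphisms of schemes and suppose that g has a section y : S → Y. If
the structure morphism X ×_S Y → S (first projection followed by f) is quasi-compact, then so is f;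
likewise for locally of finite type, for separated, and for flat. (Finite type, also listed in the
source, is the conjunction of the first two.) -/
theorem result {X Y S : Scheme.{u}} (f : X ⟶ S) (g : Y ⟶ S)
    (y : S ⟶ Y) (hy : y ≫ g = 𝟙 S) :
    (QuasiCompact (pullback.fst f g ≫ f) → QuasiCompact f) ∧
    (LocallyOfFiniteType (pullback.fst f g ≫ f) → LocallyOfFiniteType f) ∧
    (IsSeparated (pullback.fst f g ≫ f) → IsSeparated f) ∧
    (Flat (pullback.fst f g ≫ f) → Flat f) := by
  let s : X ⟶ pullback f g := pullback.lift (𝟙 X) (f ≫ y) (by rw [Category.assoc, hy]; simp)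
  have hs : s ≫ pullback.fst f g = 𝟙 X := pullback.lift_fst _ _ _
  haveI : Mono s := mono_of_mono_fac hs
  haveI : Surjective (pullback.fst f g) := ⟨fun x => ⟨s x, by rw [← Scheme.Hom.comp_apply, hs]; rfl⟩⟩
  refine ⟨fun h => ?_, fun h => ?_, fun h => ?_, fun h => ?_⟩
  · exact Groth.Agent.Thick4.quasiCompact_of_comp_surjective (pullback.fst f g) f
  · haveI : LocallyOfFiniteType (s ≫ pullback.fst f g) := by rw [hs]; infer_instance
    haveI : LocallyOfFiniteType s := locallyOfFiniteType_of_comp s (pullback.fst f g)
    haveI : LocallyOfFiniteType (s ≫ pullback.fst f g ≫ f) := inferInstance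
    rwa [← Category.assoc, hs, Category.id_comp] at this
  · haveI : IsSeparated (s ≫ pullback.fst f g ≫ f) := inferInstance
    rwa [← Category.assoc, hs, Category.id_comp] at this
  · exact flat_of_section (pullback.fst f g) f s hs

end Groth.Agent.S18490
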