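import Groth.Statements.S18491
import Groth.Agent.Lib.TraceEtale22.Scheme

set_option autoImplicit false
universe u
open CategoryTheory CategoryTheory.Limits AlgebraicGeometry MonObj
open GrpSch

namespace Groth.Agent.S18491

/-- Let S be a scheme and G an S-group scheme whose structure morphism is locally quasi-finite, of
finite type, flat and locally of finite presentation (a quasi-finite fppf group scheme). Suppose
that for every point s of S the fibre G_s, a finite group scheme over the residue field k(s), has
order non-zero in k(s): the rank of G_s → Spec k(s) at the point of Spec k(s) is not divisible by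
the characteristic. Then G → S is étale. -/
theorem result {S : Scheme.{u}} (G : Over S) [GrpObj G]
    [LocallyQuasiFinite G.hom] [QuasiCompact G.hom] [Flat G.hom] [LocallyOfFinitePresentation G.hom]
    (h : ∀ (s : S) (x : ↥(Spec (S.residueField s))),
      ((pullback.snd G.hom (S.fromSpecResidueField s)).finrank x : S.residueField s) ≠ 0) :
    Etale G.hom := by
  have hcast : ∀ (L : Type u) [Field L] (a : Spec (CommRingCat.of L) ⟶ S) (n : ℕ),
      (n : S.residueField (a (IsLocalRing.closedPoint L))) ≠ 0 → (n : L) ≠ 0 := by
    intro L _ a n hn
    rw [← map_natCast (Scheme.descResidueField (Scheme.stalkClosedPointTo a)).hom n]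
    exact (_root_.map_ne_zero _).2 hn
  have hres : ∀ s : S, IsFinite (pullback.snd G.hom (S.fromSpecResidueField s)) := fun s =>
    IsFinite.of_locallyQuasiFinite _
  have key : ∀ (L : Type u) [Field L] (a : Spec (CommRingCat.of L) ⟶ S),
      IsFinite (pullback.snd G.hom a) ∧
        ((pullback.snd G.hom a).finrank (IsLocalRing.closedPoint L) : L) ≠ 0 := by
    intro L _ a
    haveI := hres (a (IsLocalRing.closedPoint L))
    obtain ⟨h1, h2⟩ := TraceEtale22.finrank_pullback_field G L a _
      (fun x => congrArg _ (Subsingleton.elim x (IsLocalRing.closedPoint _)))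
    refine ⟨h1, ?_⟩
    rw [h2]
    exact hcast L a _ (h _ _)
  exact TraceEtale22.etale_of_fibres G (fun L _ a => (key L a).1) fun L _ a => (key L a).2

end Groth.Agent.S18491
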