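import Groth.Statements.S18493
import Groth.Agent.Lib.NeronIsog19.Neron
import Groth.Agent.Lib.NeronIsog19.Affine
-- import your own Groth.Agent.* helpers here

set_option autoImplicit false
universe u
open CategoryTheory CategoryTheory.Limits AlgebraicGeometry MonObj
open Neron

namespace Groth.Agent.S18493

set_option linter.style.haveILetI false
set_option backward.isDefEq.respectTransparency.types false


/-- Let R be a Dedekind domain with fraction field K, let A and B be group schemes over Spec R which are
Néron models of their generic fibres, both abelian varieties over K (proper and geometrically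
integral), let φ : A → B be a homomorphism whose generic fibre is an isogeny (surjective with finite
kernel), and let i : N → A be a kernel of φ (cartesian square against the unit section of B). If φ
is flat, then N → Spec R is locally quasi-finite, of finite type, flat and affine; if moreover A is
proper over Spec R then N → Spec R is finite. -/
theorem result (R : Type u) [CommRing R]
    [IsDedekindDomain R] (A B : Over (Spec (CommRingCat.of R))) [GrpObj A] [GrpObj B]
    (hA : Neron.IsNeronModelOf R A ((Neron.genericFibre R).obj A) (Iso.refl _))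
    (hB : Neron.IsNeronModelOf R B ((Neron.genericFibre R).obj B) (Iso.refl _))
    [IsProper ((Neron.genericFibre R).obj A).hom] [GeometricallyIntegral ((Neron.genericFibre R).obj A).hom]
    [IsProper ((Neron.genericFibre R).obj B).hom] [GeometricallyIntegral ((Neron.genericFibre R).obj B).hom]
    (φ : A ⟶ B) [IsMonHom φ] (hφ : SGA7.IsIsogenyOver ((Neron.genericFibre R).map φ)) [Flat φ.left]
    (N : Over (Spec (CommRingCat.of R))) (i : N ⟶ A) (hN : AlgGrp.IsKernel i φ) :
    (LocallyQuasiFinite N.hom ∧ QuasiCompact N.hom ∧ Flat N.hom ∧ IsAffineHom N.hom) ∧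
    (IsProper A.hom → IsFinite N.hom) := by
  obtain ⟨hAs, hAsep, hAlft, hAqc, -⟩ := hA
  obtain ⟨hBs, hBsep, hBlft, hBqc, -⟩ := hB
  have hlqf : LocallyQuasiFinite φ.left :=
    (NeronIsog19.locallyQuasiFinite_iff_flat A B φ (NeronIsog19.dim_fibre_eq_of_isogeny R A B φ hφ)).2 ‹Flat φ.left›
  haveI : QuasiCompact (φ.left ≫ B.hom) := by rw [Over.w]; infer_instance
  haveI : QuasiCompact φ.left := QuasiCompact.of_comp φ.left B.hom
  haveI : LocallyOfFiniteType (φ.left ≫ B.hom) := by rw [Over.w]; infer_instance
  haveI : LocallyOfFiniteType φ.left := locallyOfFiniteType_of_comp φ.left B.hom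
  haveI : IsSeparated (φ.left ≫ B.hom) := by rw [Over.w]; infer_instance
  haveI : IsSeparated φ.left := IsSeparated.of_comp φ.left B.hom
  haveI : LocallyQuasiFinite N.hom := GrpUnr20.kernel_hom φ i hN (P := @LocallyQuasiFinite) hlqf
  haveI : QuasiCompact N.hom := GrpUnr20.kernel_hom φ i hN (P := @QuasiCompact) inferInstance
  haveI : LocallyOfFiniteType N.hom := GrpUnr20.kernel_hom φ i hN (P := @LocallyOfFiniteType) inferInstance
  haveI : IsSeparated N.hom := GrpUnr20.kernel_hom φ i hN (P := @IsSeparated) inferInstance
  haveI : Flat N.hom := GrpUnr20.kernel_hom φ i hN (P := @Flat) inferInstance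
  refine ⟨⟨inferInstance, inferInstance, inferInstance, NeronIsog19.isAffineHom_of_locallyQuasiFinite
    ((Ring.krullDimLE_iff (n := 1)).1 inferInstance) N.hom⟩, fun hAp => ?_⟩
  haveI : IsProper (φ.left ≫ B.hom) := by rw [Over.w]; exact hAp
  haveI : IsProper φ.left := IsProper.of_comp φ.left B.hom
  haveI : IsProper N.hom := GrpUnr20.kernel_hom φ i hN (P := @IsProper) inferInstance
  exact IsFinite.of_isProper_of_locallyQuasiFinite N.hom

end Groth.Agent.S18493
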