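import Groth.Statements.S18495
import Groth.Agent.Lib.SemiNhd19.DvrApps
-- import your own Groth.Agent.* helpers here

set_option autoImplicit false
universe u
open CategoryTheory CategoryTheory.Limits AlgebraicGeometry MonObj
open Neron

namespace Groth.Agent.S18495

set_option linter.style.haveILetI false
set_option backward.isDefEq.respectTransparency.types false


/-- The case of multiplication by n over a discrete valuation ring. Let R be a discrete valuation ring
with fraction field K and residue field of characteristic p (p = 0 allowed), let A be a commutative
group scheme over Spec R which is a Néron model of its generic fibre A_K, an abelian variety over K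
(proper and geometrically integral), and let n ≥ 1. Then the n-th power endomorphism of A is flat if
and only if: whenever p divides n, A_K has semistable reduction over R (A_K extends to a smooth
separated group scheme of finite type over Spec R all of whose geometric fibres contain no closed
subgroup isomorphic to the additive group). (The published lemma is over a connected Dedekind
scheme, with the reduction condition at every nongeneric point whose residue characteristic divides
n; the case of a discrete valuation ring is stated.) -/
theorem result (R : Type u) [CommRing R] [IsDomain R]
    [IsDiscreteValuationRing R] (A : Over (Spec (CommRingCat.of R))) [GrpObj A] [IsCommMonObj A]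
    (hA : Neron.IsNeronModelOf R A ((Neron.genericFibre R).obj A) (Iso.refl _))
    [IsProper ((Neron.genericFibre R).obj A).hom] [GeometricallyIntegral ((Neron.genericFibre R).obj A).hom]
    (n : ℕ) (hn : 1 ≤ n) :
    Flat (((𝟙 A) ^ n : A ⟶ A)).left ↔
      (ringChar (IsLocalRing.ResidueField R) ∣ n →
        SGA7.HasSemistableReduction R (FractionRing R) ((Neron.genericFibre R).obj A)) := by
  haveI := hA.1
  haveI := hA.2.1
  haveI := hA.2.2.2.1
  haveI := Groth.Agent.TorsLift22.isMonHom_zpow A n
  constructor
  · intro hf hdvd
    have h := Groth.Agent.SemiNhd19.hasSemistableReduction_of_flat_pow hdvd hf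
    exact ⟨A, inferInstance, Iso.refl _, (inferInstance : IsMonHom (𝟙 ((Neron.genericFibre R).obj A))),
      hA.1, hA.2.1, hA.2.2.2.1, h⟩
  · intro h
    by_cases hdvd : ringChar (IsLocalRing.ResidueField R) ∣ n
    · have hN := Groth.Agent.SemiNhd19.isNeron_of_isNeronModelOf hA
      have hz := (Groth.Agent.S4077.result R (FractionRing R) A hN).1 (h hdvd)
      obtain ⟨hf, hs⟩ := Groth.Agent.SemiNhd19.finite_surjective_pow_gen (A := A) n hn
      exact Groth.Agent.SemiNhd19.flat_of_semistable (K := FractionRing R) A A (𝟙 A ^ n)
        (hz (IsLocalRing.closedPoint R)) hf hs
    · have hu := (Groth.Agent.SemiNhd19.isUnit_of_not_dvd hdvd).map (Scheme.ΓSpecIso (CommRingCat.of R)).inv.hom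
      rw [map_natCast] at hu
      haveI := Groth.Agent.SemiNhd19.etale_pow_flat A hu
      infer_instance

end Groth.Agent.S18495
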