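import Groth.Statements.S18497
import Groth.Agent.Lib.NeronEt19.Dedekind
import Groth.Agent.Lib.EtDense19.Basic
import Groth.Agent.Lib.EtStalk.FiniteSplit
import Groth.Agent.Lib.NeronMap.Basic
import Groth.Agent.Lib.Descend.BaseChangeAt
import Mathlib.RingTheory.DedekindDomain.IntegralClosure
import Mathlib.RingTheory.Etale.Field
import Mathlib.RingTheory.Etale.Kaehler
import Mathlib.RingTheory.Kaehler.Basic
import Mathlib.AlgebraicGeometry.Noetherian

set_option autoImplicit false
universe u
open CategoryTheory CategoryTheory.Limits AlgebraicGeometry MonObj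
open Neron

namespace Groth.Agent.S18497

open Limits TopologicalSpace
open scoped nonZeroDivisors

set_option linter.style.haveILetI false
set_option backward.isDefEq.respectTransparency.types false

theorem isIntegral_pi {R : Type u} [CommRing R] {I : Type u} [Finite I] {A : I → Type u} [∀ i, CommRing (A i)]
    [∀ i, Algebra R (A i)] {x : Π i, A i} (h : ∀ i, IsIntegral R (x i)) : IsIntegral R x := by
  haveI := Fintype.ofFinite I
  choose p hp hpx using h
  refine ⟨∏ i, p i, Polynomial.monic_prod_of_monic _ _ fun i _ => hp i, funext fun j => ?_⟩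
  show Pi.evalRingHom A j (Polynomial.eval₂ (algebraMap R (Π i, A i)) x (∏ i, p i)) = 0
  rw [Polynomial.hom_eval₂, Polynomial.eval₂_finsetProd]
  exact Finset.prod_eq_zero (Finset.mem_univ j) (hpx j)

/-- The spectrum of a finite product of normal domains is normal. -/
theorem isNormalScheme_spec_pi {B : Type u} [CommRing B] {I : Type u} [Finite I] (C : I → Type u) [∀ i, CommRing (C i)]
    [∀ i, IsDomain (C i)] [∀ i, IsIntegrallyClosed (C i)] (e : B ≃+* Π i, C i) :
    Pi1.IsNormalScheme (Spec (CommRingCat.of B)) := by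
  let R' : I → CommRingCat.{u} := fun i => CommRingCat.of (C i)
  let E : CommRingCat.of B ≅ CommRingCat.of (Π i, R' i) := e.toCommRingCatIso
  intro t
  obtain ⟨s, hs⟩ := (sigmaSpec R' ≫ Spec.map E.hom).surjective t
  obtain ⟨i, w, rfl⟩ := (sigmaOpenCover fun i => Spec (R' i)).exists_eq s
  let f : Spec (R' i) ⟶ Spec (CommRingCat.of B) :=
    Spec.map (CommRingCat.ofHom (Pi.evalRingHom (fun j => C j) i)) ≫ Spec.map E.hom
  have hf : f w = t := by
    rw [← hs]
    show _ = (Sigma.ι (fun i => Spec (R' i)) i ≫ sigmaSpec R' ≫ Spec.map E.hom) w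
    rw [ι_sigmaSpec_assoc]
  subst hf
  haveI : IsOpenImmersion f := inferInstance
  refine NormalSmooth12.normalDomain_of_ringEquiv (asIso (f.stalkMap w)).commRingCatIsoToRingEquiv.symm ?_
  haveI : IsIntegral (Spec (R' i)) := inferInstance
  let := (Spec (R' i)).presheaf.algebra_section_stalk (U := ⊤) ⟨w, trivial⟩
  haveI := (isAffineOpen_top (Spec (R' i))).isLocalization_stalk ⟨w, trivial⟩
  haveI : IsIntegrallyClosed Γ(Spec (R' i), ⊤) :=
    IsIntegrallyClosed.of_equiv (Scheme.ΓSpecIso (R' i)).symm.commRingCatIsoToRingEquiv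
  haveI : Nonempty (⊤ : (Spec (R' i)).Opens) := ⟨⟨w, trivial⟩⟩
  exact ⟨inferInstance, isIntegrallyClosed_of_isLocalization _
    ((isAffineOpen_top (Spec (R' i))).primeIdealOf ⟨w, trivial⟩).asIdeal.primeCompl
    (Ideal.primeCompl_le_nonZeroDivisors _)⟩

/-- Let R be a Dedekind domain with fraction field K and G a finite étale group scheme over K. Then G
has a Néron model over Spec R which is separated, quasi-finite and étale: there are a Spec R-scheme
N and an isomorphism e of its generic fibre N_K with G such that N is smooth, separated and of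
finite type over Spec R with the Néron mapping property (for every smooth Spec R-scheme Y, g ↦ e ∘
g_K is a bijection from R-morphisms Y → N onto K-morphisms Y_K → G), and N → Spec R is étale and
locally quasi-finite. -/
theorem result (R : Type u) [CommRing R] [IsDedekindDomain R]
    (G : Over (Spec (CommRingCat.of (FractionRing R)))) [GrpObj G] [IsFinite G.hom] [Etale G.hom] :
    ∃ (N : Over (Spec (CommRingCat.of R))) (e : (Neron.genericFibre R).obj N ≅ G),
      Neron.IsNeronModelOf R N G e ∧ Etale N.hom ∧ LocallyQuasiFinite N.hom := by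
  haveI : IsAffine G.left := isAffine_of_isAffineHom G.hom
  let K := FractionRing R
  let L := Γ(G.left, ⊤)
  let φ : CommRingCat.of K ⟶ L := Spec.preimage (G.left.isoSpec.inv ≫ G.hom)
  have hφ : Spec.map φ = G.left.isoSpec.inv ≫ G.hom := Spec.map_preimage _
  letI : Algebra K L := φ.hom.toAlgebra
  haveI : Algebra.Etale K L :=
    RingHom.etale_algebraMap.1 ((HasRingHomProperty.Spec_iff (P := @Etale)).1
      (show Etale (Spec.map φ) by rw [hφ]; infer_instance))
  haveI : Module.Finite K L :=
    RingHom.finite_algebraMap.1 ((IsFinite.SpecMap_iff φ).1 (show IsFinite (Spec.map φ) by rw [hφ]; infer_instance))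
  letI : Algebra R L := ((algebraMap K L).comp (algebraMap R K)).toAlgebra
  haveI : IsScalarTower R K L := IsScalarTower.of_algebraMap_eq fun _ => rfl
  obtain ⟨I, _, A, _, _, eA, hA⟩ := (Algebra.FormallyEtale.iff_exists_algEquiv_prod K L).1 inferInstance
  haveI : ∀ i, FiniteDimensional K (A i) := fun i =>
    Module.Finite.of_surjective ((Pi.evalAlgHom K A i).comp eA.toAlgHom).toLinearMap fun a => by
      classical
      exact ⟨eA.symm (Pi.single i a), by simp⟩
  letI algRA : ∀ i, Algebra R (A i) := fun i => ((algebraMap K (A i)).comp (algebraMap R K)).toAlgebra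
  haveI : ∀ i, IsScalarTower R K (A i) := fun i => IsScalarTower.of_algebraMap_eq fun _ => rfl
  haveI := hA
  let B := integralClosure R L
  let C : I → Type u := fun i => integralClosure R (A i)
  let ev : ∀ i, L →ₐ[R] A i := fun i => ((Pi.evalAlgHom K A i).comp eA.toAlgHom).restrictScalars R
  let ψ : B →ₐ[R] Π i, C i := AlgHom.pi fun i => ((ev i).comp B.val).codRestrict _ fun y => y.2.map (ev i)
  have hψ : Function.Bijective ψ := by
    refine ⟨fun a b h => Subtype.ext (eA.injective (funext fun i => congrArg Subtype.val (congrFun h i))), fun c => ?_⟩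
    have hint : IsIntegral R (eA.symm fun i => ((c i : A i))) :=
      (isIntegral_pi (x := fun i => ((c i : A i))) fun i => (c i).2).map (eA.symm.toAlgHom.restrictScalars R)
    refine ⟨⟨_, hint⟩, funext fun i => Subtype.ext ?_⟩
    show eA (eA.symm fun j => ((c j : A j))) i = _
    rw [AlgEquiv.apply_symm_apply]
  haveI : ∀ i, Module.Finite R (C i) := fun i => IsIntegralClosure.finite R K (A i) _
  haveI : Module.Finite R B :=
    Module.Finite.equiv (AlgEquiv.ofBijective ψ hψ).symm.toLinearEquiv
  haveI : ∀ i, IsIntegrallyClosed (C i) := fun i => integralClosure.isIntegrallyClosedOfFiniteExtension K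
  have hT : Pi1.IsNormalScheme (Spec (CommRingCat.of B)) :=
    isNormalScheme_spec_pi C (AlgEquiv.ofBijective ψ hψ).toRingEquiv
  -- the generic fibre
  let M := Algebra.algebraMapSubmonoid B R⁰
  have hunit : ∀ r ∈ R⁰, IsUnit (algebraMap R L r) := fun r hr =>
    ((IsLocalization.map_units K (⟨r, hr⟩ : R⁰)).map (algebraMap K L))
  haveI : IsLocalization M L := by
    refine (isLocalization_iff _ _).2 ⟨?_, fun z => ?_, fun {x y} h => ⟨1, by rw [Subtype.ext h]⟩⟩
    · rintro ⟨_, r, hr, rfl⟩
      exact hunit r hr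
    · obtain ⟨m, hm⟩ := IsIntegral.exists_multiple_integral_of_isLocalization R⁰ z
        (Algebra.IsIntegral.isIntegral (R := K) z)
      refine ⟨(⟨_, hm⟩, ⟨algebraMap R B m, m, m.2, rfl⟩), ?_⟩
      show z * algebraMap R L m = (m : R) • z
      rw [Algebra.smul_def, mul_comm]
  haveI : IsLocalization (R⁰.map (algebraMap R B)) L := ‹IsLocalization M L›
  let π : Spec (CommRingCat.of B) ⟶ Spec (CommRingCat.of R) := Spec.map (CommRingCat.ofHom (algebraMap R B))
  let b : Spec L ⟶ Spec (CommRingCat.of B) := Spec.map (CommRingCat.ofHom (algebraMap B L))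
  have hpull : IsPullback b (Spec.map φ) π (Neron.genPt R) :=
    isPullback_SpecMap_of_isPushout _ _ _ _
      (CommRingCat.isPushout_of_isLocalization (algebraMap R B) (algebraMap K L) rfl R⁰)
  haveI : IsFinite π := (IsFinite.SpecMap_iff _).2 (RingHom.finite_algebraMap.2 ‹_›)
  haveI : IsLocallyNoetherian (Spec (CommRingCat.of R)) := inferInstance
  haveI : LocallyOfFinitePresentation π := inferInstance
  haveI : IsLocallyNoetherian (Spec (CommRingCat.of B)) := LocallyOfFiniteType.isLocallyNoetherian π
  let Ts := π.smoothLocus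
  haveI : Flat (Neron.genPt R) := (HasRingHomProperty.Spec_iff (P := @Flat)).2
    ((RingHom.flat_algebraMap_iff (R := R) (S := K)).2 (IsLocalization.flat K R⁰))
  haveI : Etale (Spec.map φ) := by rw [hφ]; infer_instance
  have hb : Set.range b ⊆ Set.range Ts.ι := by
    rw [Scheme.Opens.range_ι]
    rintro _ ⟨x, rfl⟩
    exact Descend.mem_smoothLocus_of_flat_baseChange hpull x (by rw [Scheme.Hom.smoothLocus_eq_top]; trivial)
  haveI hTsS : Smooth (Ts.ι ≫ π) := by
    haveI : LocallyOfFinitePresentation (Ts.ι ≫ π) := inferInstance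
    rw [← Scheme.Hom.smoothLocus_eq_top_iff, ← Scheme.Hom.preimage_smoothLocus_eq, eq_top_iff]
    exact fun x _ => x.2
  -- étale
  obtain ⟨m, hmM, hm⟩ : ∃ m ∈ M, ∀ x : Ω[B⁄R], m • x = 0 := by
    haveI : Algebra.FormallyUnramified R K := Algebra.FormallyUnramified.of_isLocalization R⁰
    haveI : Algebra.FormallyUnramified R L := Algebra.FormallyUnramified.comp R K L
    haveI : IsLocalizedModule M (KaehlerDifferential.map R R B L) :=
      KaehlerDifferential.isLocalizedModule_map R B L M
    obtain ⟨s, hs⟩ := Module.Finite.fg_top (R := B) (M := Ω[B⁄R])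
    have hk : ∀ x : Ω[B⁄R], ∃ m : M, m • x = 0 := fun x =>
      (IsLocalizedModule.eq_zero_iff M (KaehlerDifferential.map R R B L)).1 (Subsingleton.elim _ _)
    choose k hk using hk
    refine ⟨((∏ x ∈ s, k x : M) : B), (∏ x ∈ s, k x).2, fun x => ?_⟩
    have hx : x ∈ Submodule.span B (s : Set Ω[B⁄R]) := hs ▸ Submodule.mem_top
    induction hx using Submodule.span_induction with
    | mem y hy =>
      classical
      rw [← Finset.prod_erase_mul s k hy, Submonoid.coe_mul, mul_smul]
      rw [show ((k y : M) : B) • y = 0 from hk y, smul_zero]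
    | zero => exact smul_zero _
    | add a c _ _ ha hc => rw [smul_add, ha, hc, add_zero]
    | smul c a _ ha => rw [smul_comm, ha, smul_zero]
  haveI hun : Algebra.FormallyUnramified R (Localization.Away m) := by
    haveI : IsLocalizedModule (Submonoid.powers m) (KaehlerDifferential.map R R B (Localization.Away m)) :=
      KaehlerDifferential.isLocalizedModule_map R B _ (Submonoid.powers m)
    refine ⟨subsingleton_of_forall_eq 0 fun y => ?_⟩
    obtain ⟨⟨x, s⟩, hxs⟩ := IsLocalizedModule.surj (Submonoid.powers m)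
      (KaehlerDifferential.map R R B (Localization.Away m)) y
    dsimp only at hxs
    have h0 : m • ((s : B) • y) = 0 := by
      rw [show (s : B) • y = _ from hxs, ← map_smul, hm, map_zero]
    rw [← algebraMap_smul (Localization.Away m), ← algebraMap_smul (Localization.Away m) (s : B), smul_smul] at h0
    have hu : IsUnit (algebraMap B (Localization.Away m) m * algebraMap B (Localization.Away m) (s : B)) :=
      (IsLocalization.map_units _ (⟨m, Submonoid.mem_powers m⟩ : Submonoid.powers m)).mul (IsLocalization.map_units _ s)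
    exact hu.smul_eq_zero.1 h0
  haveI : Etale (Ts.ι ≫ π) := by
    let c := Spec.map (CommRingCat.ofHom (algebraMap B (Localization.Away m)))
    haveI : IsOpenImmersion c := IsOpenImmersion.of_isLocalization m
    let D : Ts.toScheme.Opens := Ts.ι ⁻¹ᵁ c.opensRange
    have hdc : Dense (Set.range c) := (PrimeSpectrum.denseRange_comap_iff_ker_le_nilRadical _).2 (by
      intro x hx
      obtain ⟨⟨_, n, rfl⟩, hn⟩ := (IsLocalization.map_eq_zero_iff (Submonoid.powers m) (Localization.Away m) x).1 hx
      have hu : IsUnit (algebraMap B L (m ^ n)) := IsLocalization.map_units L (⟨_, pow_mem hmM n⟩ : M)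
      have h0 : algebraMap B L x = 0 := hu.mul_right_eq_zero.1 (by rw [← map_mul, show m ^ n * x = 0 from hn, map_zero])
      rw [show x = 0 from Subtype.ext h0]
      exact zero_mem _)
    have hD : Dense (D : Set Ts.toScheme) := hdc.preimage Ts.ι.isOpenEmbedding.isOpenMap
    let l := IsOpenImmersion.lift c (D.ι ≫ Ts.ι) (by rintro _ ⟨w, rfl⟩; exact w.2)
    have hl : l ≫ c = D.ι ≫ Ts.ι := IsOpenImmersion.lift_fac _ _ _
    haveI : IsOpenImmersion (l ≫ c) := by rw [hl]; infer_instance
    haveI : IsOpenImmersion l := IsOpenImmersion.of_comp l c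
    haveI : FormallyUnramified (D.ι ≫ Ts.ι ≫ π) := by
      rw [← reassoc_of% hl]
      have h1 : c ≫ π = Spec.map (CommRingCat.ofHom (algebraMap R (Localization.Away m))) := by
        rw [← Spec.map_comp, ← CommRingCat.ofHom_comp, ← IsScalarTower.algebraMap_eq]
      rw [h1]
      exact MorphismProperty.comp_mem _ _ _ inferInstance ((HasRingHomProperty.Spec_iff (P := @FormallyUnramified)).2
        (RingHom.formallyUnramified_algebraMap.2 hun))
    haveI : Etale (D.ι ≫ Ts.ι ≫ π) := EtDense19.etale_of_smooth_unramified _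
    exact EtDense19.etale_of_smooth_of_dense (Ts.ι ≫ π) D hD
  haveI := FiniteSplit.locallyQuasiFinite_of_etale (Ts.ι ≫ π)
  -- the identification of the generic fibre
  let j₀ := IsOpenImmersion.lift Ts.ι b hb
  have hj₀ : j₀ ≫ Ts.ι = b := IsOpenImmersion.lift_fac _ _ _
  let N : Over (Spec (CommRingCat.of R)) := Over.mk (Ts.ι ≫ π)
  let eK : pullback (Ts.ι ≫ π) (Neron.genPt R) ≅ Spec L :=
    { hom := hpull.lift (pullback.fst _ _ ≫ Ts.ι) (pullback.snd _ _) (by rw [Category.assoc]; exact pullback.condition)
      inv := pullback.lift j₀ (Spec.map φ) (by rw [reassoc_of% hj₀]; exact hpull.w)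
      hom_inv_id := by
        apply pullback.hom_ext
        · rw [← cancel_mono Ts.ι]
          simp only [Category.assoc, pullback.lift_fst_assoc, hj₀, hpull.lift_fst, Category.id_comp]
        · rw [Category.assoc, pullback.lift_snd, hpull.lift_snd, Category.id_comp]
      inv_hom_id := by
        apply hpull.hom_ext
        · rw [Category.assoc, hpull.lift_fst, pullback.lift_fst_assoc, hj₀, Category.id_comp]
        · rw [Category.assoc, hpull.lift_snd, pullback.lift_snd, Category.id_comp] }
  let e : (Neron.genericFibre R).obj N ≅ G := Over.isoMk (eK ≪≫ G.left.isoSpec.symm) (by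
    show (eK.hom ≫ G.left.isoSpec.inv) ≫ G.hom = pullback.snd (Ts.ι ≫ π) (Neron.genPt R)
    rw [Category.assoc, ← hφ]
    exact hpull.lift_snd _ _ _)
  refine ⟨N, e, ⟨hTsS, inferInstanceAs (IsSeparated (Ts.ι ≫ π)), inferInstanceAs (LocallyOfFiniteType (Ts.ι ≫ π)),
    inferInstanceAs (QuasiCompact (Ts.ι ≫ π)), fun Z hZs => ?_⟩, ‹Etale (Ts.ι ≫ π)›, ‹LocallyQuasiFinite (Ts.ι ≫ π)›⟩
  haveI := hZs
  suffices NeronMap.Ext (Neron.genPt R) N Z by
    exact Function.Bijective.comp (f := fun g => (Neron.genericFibre R).map g)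
      (g := fun g => g ≫ e.hom) ⟨fun a c h => (cancel_mono e.hom).1 h, fun a => ⟨a ≫ e.inv, by simp⟩⟩ this
  refine (NeronMap.ext_iff (Neron.genPt R) (N := N)).2 fun h w => ?_
  change pullback Z.hom (Neron.genPt R) ⟶ (Ts : Scheme.{u}) at h
  change h ≫ Ts.ι ≫ π = pullback.fst Z.hom (Neron.genPt R) ≫ Z.hom at w
  have hS : Pi1.IsNormalScheme (Spec (CommRingCat.of R)) := fun x => by
    let := (Spec (CommRingCat.of R)).presheaf.algebra_section_stalk (U := ⊤) ⟨x, trivial⟩
    haveI := (isAffineOpen_top (Spec (CommRingCat.of R))).isLocalization_stalk ⟨x, trivial⟩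
    haveI : IsIntegrallyClosed Γ(Spec (CommRingCat.of R), ⊤) :=
      IsIntegrallyClosed.of_equiv (Scheme.ΓSpecIso (CommRingCat.of R)).symm.commRingCatIsoToRingEquiv
    haveI : Nonempty (⊤ : (Spec (CommRingCat.of R)).Opens) := ⟨⟨x, trivial⟩⟩
    exact ⟨inferInstance, isIntegrallyClosed_of_isLocalization _
      ((isAffineOpen_top (Spec (CommRingCat.of R))).primeIdealOf ⟨x, trivial⟩).asIdeal.primeCompl
      (Ideal.primeCompl_le_nonZeroDivisors _)⟩
  have hZn : Pi1.IsNormalScheme Z.left := NormalExt19.isNormalScheme_of_smooth Z.hom hS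
  obtain ⟨g, hg, hdg⟩ := NeronEt19.exists_extend_affine (B := B) Z.hom hZn (h ≫ Ts.ι) (by rw [Category.assoc]; exact w)
  have hmem : Set.range g ⊆ Set.range Ts.ι := by
    rw [Scheme.Opens.range_ι]
    rintro _ ⟨z, rfl⟩
    haveI : IsFinite (pullback.snd π Z.hom) := MorphismProperty.pullback_snd _ _ ‹_›
    haveI : LocallyOfFinitePresentation (pullback.snd π Z.hom) := MorphismProperty.pullback_snd _ _ ‹_›
    haveI : Smooth (pullback.fst π Z.hom) := MorphismProperty.pullback_fst _ _ hZs
    let s : Z.left ⟶ pullback π Z.hom := pullback.lift g (𝟙 _) (by rw [Category.id_comp]; exact hg)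
    have hs := NormalExt19.section_mem_smoothLocus (pullback.snd π Z.hom)
      (NormalExt19.isNormalScheme_of_smooth (pullback.fst π Z.hom) hT) hZn s (pullback.lift_snd _ _ _) z
    have := Descend.mem_smoothLocus_of_flat_baseChange (IsPullback.of_hasPullback π Z.hom) (s z) hs
    rwa [← Scheme.Hom.comp_apply, pullback.lift_fst] at this
  let g₀ := IsOpenImmersion.lift Ts.ι g hmem
  have hg₀ : g₀ ≫ Ts.ι = g := IsOpenImmersion.lift_fac _ _ _
  refine ⟨Over.homMk g₀ (by show g₀ ≫ Ts.ι ≫ π = Z.hom; rw [reassoc_of% hg₀]; exact hg), ?_, fun g' hg' => ?_⟩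
  · show pullback.fst Z.hom (Neron.genPt R) ≫ g₀ = h
    rw [← cancel_mono Ts.ι, Category.assoc, hg₀, hdg]
  · haveI : IsReduced Z.left := by
      haveI : ∀ z : Z.left, _root_.IsReduced (Z.left.presheaf.stalk z) := fun z => by
        haveI := (hZn z).1
        infer_instance
      exact isReduced_of_isReduced_stalk Z.left
    haveI : IsSeparated N.hom := inferInstanceAs (IsSeparated (Ts.ι ≫ π))
    haveI : IsSchemeTheoreticallyDominant (pullback.fst Z.hom (Neron.genPt R)) := NeronElem.dominant_fst R Z
    refine Over.OverMorphism.ext (ext_of_isDominant_of_isSeparated N.hom ((Over.w g').trans ?_)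
      (pullback.fst Z.hom (Neron.genPt R)) (hg'.trans ?_))
    · show Z.hom = g₀ ≫ Ts.ι ≫ π
      rw [reassoc_of% hg₀, hg]
    · show h = pullback.fst Z.hom (Neron.genPt R) ≫ g₀
      rw [← cancel_mono Ts.ι, Category.assoc, hg₀, hdg]

end Groth.Agent.S18497
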