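import Groth.Statements.S18499
import Groth.Agent.Lib.SemiNhd19.DvrApps
import Groth.Agent.S18494
import Groth.Agent.S18489
-- import your own Groth.Agent.* helpers here

set_option autoImplicit false
universe u
open CategoryTheory CategoryTheory.Limits AlgebraicGeometry MonObj
open Neron

namespace Groth.Agent.S18499

set_option linter.style.haveILetI false
set_option backward.isDefEq.respectTransparency.types false


/-- Let R be a discrete valuation ring with fraction field K and residue field of characteristic p (p =
0 allowed), let A and B be group schemes over Spec R which are Néron models of their generic fibres,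
both abelian varieties over K (proper and geometrically integral), let φ : A → B be a homomorphism
whose generic fibre φ_K is an isogeny (surjective with finite kernel), and let i : N → A be a kernel
of φ, so that N_K is a finite K-group scheme whose order (rank over Spec K) is the degree of φ_K.
If, whenever p divides that degree, A_K has semistable reduction over R (it extends to a smooth
separated group scheme of finite type over Spec R whose geometric fibres contain no closed subgroup
isomorphic to the additive group), then φ is flat. (The converse fails in general. The published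
lemma is over a connected Dedekind scheme, with the reduction condition at every nongeneric point
whose residue characteristic divides the degree; the case of a discrete valuation ring is stated.) -/
theorem result (R : Type u) [CommRing R]
    [IsDomain R] [IsDiscreteValuationRing R] (A B : Over (Spec (CommRingCat.of R))) [GrpObj A] [GrpObj B]
    (hA : Neron.IsNeronModelOf R A ((Neron.genericFibre R).obj A) (Iso.refl _))
    (hB : Neron.IsNeronModelOf R B ((Neron.genericFibre R).obj B) (Iso.refl _))
    [IsProper ((Neron.genericFibre R).obj A).hom] [GeometricallyIntegral ((Neron.genericFibre R).obj A).hom]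
    [IsProper ((Neron.genericFibre R).obj B).hom] [GeometricallyIntegral ((Neron.genericFibre R).obj B).hom]
    (φ : A ⟶ B) [IsMonHom φ] (hφ : SGA7.IsIsogenyOver ((Neron.genericFibre R).map φ))
    (N : Over (Spec (CommRingCat.of R))) (i : N ⟶ A) (hN : AlgGrp.IsKernel i φ)
    (h : ∀ x : ↥(Spec (CommRingCat.of (FractionRing R))),
      ringChar (IsLocalRing.ResidueField R) ∣ ((Neron.genericFibre R).obj N).hom.finrank x →
        SGA7.HasSemistableReduction R (FractionRing R) ((Neron.genericFibre R).obj A)) :
    Flat φ.left := by
  haveI := hA.1
  haveI := hA.2.1
  haveI := hA.2.2.2.1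
  haveI := hB.1
  haveI := hB.2.1
  haveI := hB.2.2.1
  let x₀ : Spec (CommRingCat.of (FractionRing R)) := IsLocalRing.closedPoint (FractionRing R)
  let F := Neron.genericFibre R
  by_cases hdvd : ringChar (IsLocalRing.ResidueField R) ∣ (F.obj N).hom.finrank x₀
  · haveI : IsCommMonObj (F.obj A) :=
      AlgebraicGeometry.isCommMonObj_of_isProper_of_geometricallyIntegral _
    haveI := Groth.Agent.NeronIsog19.isCommMonObj_of_genericFibre R A
    have hz := (Groth.Agent.S4077.result R (FractionRing R) A
      (Groth.Agent.SemiNhd19.isNeron_of_isNeronModelOf hA)).1 (h x₀ hdvd)
    haveI : Surjective (F.map φ).left := hφ.1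
    haveI : IsProper ((F.map φ).left ≫ (F.obj B).hom) := by rw [Over.w]; infer_instance
    haveI : IsProper (F.map φ).left := IsProper.of_comp (F.map φ).left (F.obj B).hom
    let iK := pullback.fst (F.map φ) η[F.obj B]
    have hK : AlgGrp.IsKernel iK (F.map φ) := by
      show IsPullback iK (CartesianMonoidalCategory.toUnit _) (F.map φ) η[F.obj B]
      rw [CartesianMonoidalCategory.toUnit_unique (CartesianMonoidalCategory.toUnit _) (pullback.snd (F.map φ) η[F.obj B])]
      exact IsPullback.of_hasPullback (F.map φ) η[F.obj B]
    haveI : IsFinite (pullback (F.map φ) η[F.obj B]).hom := hφ.2 _ iK hK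
    haveI : LocallyQuasiFinite (F.map φ).left :=
      Groth.Agent.GrpUnr20.locallyQuasiFinite_of_kernel (F.map φ) iK hK inferInstance
    exact Groth.Agent.SemiNhd19.flat_of_semistable (K := FractionRing R) A B φ
      (hz (IsLocalRing.closedPoint R)) (IsFinite.of_isProper_of_locallyQuasiFinite (F.map φ).left) hφ.1
  · obtain ⟨-, hNe⟩ := Groth.Agent.S18494.result R A B hA hB φ hφ N i hN fun x => by
      rw [show x = x₀ from Subsingleton.elim (α := PrimeSpectrum (FractionRing R)) _ _]
      exact Groth.Agent.SemiNhd19.isUnit_of_not_dvd hdvd
    haveI := hNe
    haveI : LocallyOfFiniteType (φ.left ≫ B.hom) := by rw [Over.w]; infer_instance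
    haveI : LocallyOfFiniteType φ.left := locallyOfFiniteType_of_comp φ.left B.hom
    exact (Groth.Agent.S18489.result R A B hA hB φ hφ).1
      (Groth.Agent.GrpUnr20.locallyQuasiFinite_of_kernel φ i hN
        (Groth.Agent.MulEtale.locallyQuasiFinite_of_unramified N.hom))

end Groth.Agent.S18499
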