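import Groth.Statements.S18501
import Groth.Agent.Lib.GrpNeutral20.FlatHom
import Groth.Agent.Lib.NeronElem.Basic
import Groth.Agent.Lib.AbDual22.Biduality
import Groth.Agent.Lib.AbRigid.SmoothGI
-- import your own Groth.Agent.* helpers here

set_option autoImplicit false
universe u
open CategoryTheory CategoryTheory.Limits AlgebraicGeometry MonObj
open Neron

namespace Groth.Agent.S18501

set_option linter.style.haveILetI false
set_option backward.isDefEq.respectTransparency.types false


/-- Let R be a discrete valuation ring with fraction field K and residue field k, let A and B be group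
schemes over Spec R which are Néron models of their generic fibres, both abelian varieties over K
(proper and geometrically integral), and let φ : A → B be a homomorphism whose generic fibre is an
isogeny (surjective with finite kernel). Then φ is flat if and only if the special fibre φ_k : A_k →
B_k maps the connected component of the identity point of A_k onto the connected component of the
identity point of B_k, i.e. the image of the former subset is the latter (φ induces a surjection of
identity components; on the generic fibre this is automatic). (The published lemma is over a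
connected Dedekind scheme, with this condition at every point, and includes a further equivalent
condition, quasi-finiteness of φ; the case of a discrete valuation ring is stated here, where only
the closed point matters.) -/
theorem result (R : Type u) [CommRing R]
    [IsDomain R] [IsDiscreteValuationRing R] (A B : Over (Spec (CommRingCat.of R))) [GrpObj A] [GrpObj B]
    (hA : Neron.IsNeronModelOf R A ((Neron.genericFibre R).obj A) (Iso.refl _))
    (hB : Neron.IsNeronModelOf R B ((Neron.genericFibre R).obj B) (Iso.refl _))
    [IsProper ((Neron.genericFibre R).obj A).hom] [GeometricallyIntegral ((Neron.genericFibre R).obj A).hom]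
    [IsProper ((Neron.genericFibre R).obj B).hom] [GeometricallyIntegral ((Neron.genericFibre R).obj B).hom]
    (φ : A ⟶ B) [IsMonHom φ] (hφ : SGA7.IsIsogenyOver ((Neron.genericFibre R).map φ)) :
    Flat φ.left ↔
      ((Over.pullback (Spec.map (CommRingCat.ofHom (IsLocalRing.residue R)))).map φ).left.base ''
          connectedComponent ((η[Red.bc (Spec.map (CommRingCat.ofHom (IsLocalRing.residue R))) A]).left.base (IsLocalRing.closedPoint (IsLocalRing.ResidueField R))) =
        connectedComponent ((η[Red.bc (Spec.map (CommRingCat.ofHom (IsLocalRing.residue R))) B]).left.base (IsLocalRing.closedPoint (IsLocalRing.ResidueField R))) := by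
  obtain ⟨hAs, hAsep, hAlft, hAqc, -⟩ := hA
  obtain ⟨hBs, hBsep, hBlft, hBqc, -⟩ := hB
  let i : Spec (CommRingCat.of (IsLocalRing.ResidueField R)) ⟶ Spec (CommRingCat.of R) :=
    Spec.map (CommRingCat.ofHom (IsLocalRing.residue R))
  haveI : IsClosedImmersion i := IsClosedImmersion.spec_of_surjective _ IsLocalRing.residue_surjective
  let pt := IsLocalRing.closedPoint (IsLocalRing.ResidueField R)
  have hi : ∀ z, i z = IsLocalRing.closedPoint R := fun z => by
    refine PrimeSpectrum.ext ?_
    show Ideal.comap (IsLocalRing.residue R) z.asIdeal = IsLocalRing.maximalIdeal R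
    rw [(Ideal.eq_bot_or_top z.asIdeal).resolve_right z.isPrime.ne_top]
    exact IsLocalRing.ker_residue
  have hunit : ∀ (G : Over (Spec (CommRingCat.of R))) [GrpObj G],
      (pullback.fst G.hom i) ⁻¹' SGA3x.neutralSet G =
        connectedComponent ((η[Red.bc i G]).left.base pt) := fun G _ => by
    refine Groth.Agent.GrpNeutral20.preimage_neutralSet G (IsPullback.of_hasPullback G.hom i)
      (η[Red.bc i G]).left ?_ (Over.w η[Red.bc i G])
    exact Groth.Agent.AbDual22.η_bc_fst i G
  have hq : ∀ a, pullback.fst B.hom i (((Over.pullback i).map φ).left a) = φ.left (pullback.fst A.hom i a) :=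
    fun a => by
      rw [← Scheme.Hom.comp_apply, ← Scheme.Hom.comp_apply]
      exact congrArg (fun m : ((Over.pullback i).obj A).left ⟶ B.left => m a) (pullback.lift_fst _ _ _)
  have hover : ∀ a, B.hom (φ.left a) = A.hom a := fun a => by rw [← Scheme.Hom.comp_apply, Over.w φ]
  haveI : LocallyOfFiniteType (φ.left ≫ B.hom) := by rw [Over.w]; infer_instance
  haveI : LocallyOfFiniteType φ.left := locallyOfFiniteType_of_comp φ.left B.hom
  haveI : IsLocallyNoetherian B.left := LocallyOfFiniteType.isLocallyNoetherian B.hom
  haveI : LocallyOfFinitePresentation φ.left :=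
    Groth.Agent.VarDim.locallyOfFinitePresentation_of_locallyNoetherian φ.left
  constructor
  · intro hflat
    have h := Groth.Agent.GrpNeutral20.image_neutralSet_of_isOpenMap φ φ.left.isOpenMap
    show ((Over.pullback i).map φ).left.base '' connectedComponent _ = connectedComponent _
    rw [← hunit A, ← hunit B]
    refine Set.Subset.antisymm ?_ fun y hy => ?_
    · rintro _ ⟨a, ha, rfl⟩
      show pullback.fst B.hom i _ ∈ SGA3x.neutralSet B
      rw [hq]
      exact h.le ⟨_, ha, rfl⟩
    · obtain ⟨x, hx, hxy⟩ := h.ge (show pullback.fst B.hom i y ∈ SGA3x.neutralSet B from hy)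
      obtain ⟨a, rfl⟩ : x ∈ Set.range (pullback.fst A.hom i) := by
        rw [Scheme.Pullback.range_fst]
        refine ⟨pt, ?_⟩
        rw [← hover x, hxy, ← Scheme.Hom.comp_apply, pullback.condition, Scheme.Hom.comp_apply, hi, hi]
      refine ⟨a, hx, (pullback.fst B.hom i).isEmbedding.injective ?_⟩
      rw [hq]
      exact hxy
  · intro himg
    refine Groth.Agent.GrpNeutral20.flat_of_image_neutralSet φ (fun s => ?_) ?_
    · haveI : Smooth (B.hom.fiberToSpecResidueField s) := MorphismProperty.pullback_snd _ _ hBs
      exact @Groth.Agent.AbRigid.isReduced_of_smooth_over_field ((Spec (CommRingCat.of R)).residueField s) _ _ (B.hom.fiberToSpecResidueField s) this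
    refine Set.Subset.antisymm (by rintro _ ⟨x, hx, rfl⟩; exact Groth.Agent.GrpNeutral20.hom_mem φ hx) fun y hy => ?_
    by_cases hy0 : B.hom y = IsLocalRing.closedPoint R
    · obtain ⟨y', rfl⟩ : y ∈ Set.range (pullback.fst B.hom i) := by
        rw [Scheme.Pullback.range_fst]
        exact ⟨pt, (hi pt).trans hy0.symm⟩
      have hy' : y' ∈ connectedComponent ((η[Red.bc i B]).left.base pt) := (hunit B).le hy
      obtain ⟨a, ha, rfl⟩ := himg.ge hy'
      exact ⟨pullback.fst A.hom i a, (hunit A).ge ha, (hq a).symm⟩
    · let g := Neron.genPt R
      have hgen : (B.hom y : PrimeSpectrum R).asIdeal = ⊥ := by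
        by_contra hne
        exact hy0 (PrimeSpectrum.ext (IsLocalRing.eq_maximalIdeal (Ideal.IsPrime.isMaximal inferInstance hne)))
      have hg : ∀ z, g z = B.hom y := fun z => by
        refine PrimeSpectrum.ext ?_
        show Ideal.comap (algebraMap R (FractionRing R)) z.asIdeal = _
        rw [hgen, (Ideal.eq_bot_or_top z.asIdeal).resolve_right z.isPrime.ne_top, ← RingHom.ker_eq_comap_bot,
          (RingHom.injective_iff_ker_eq_bot _).1 (IsFractionRing.injective R (FractionRing R))]
      let ptK := IsLocalRing.closedPoint (FractionRing R)
      obtain ⟨y', rfl⟩ : y ∈ Set.range (pullback.fst B.hom g) := by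
        rw [Scheme.Pullback.range_fst]
        exact ⟨ptK, hg ptK⟩
      obtain ⟨a, ha⟩ := hφ.1.surj y'
      have hqK : pullback.fst B.hom g (((Neron.genericFibre R).map φ).left a) = φ.left (pullback.fst A.hom g a) := by
        rw [← Scheme.Hom.comp_apply, ← Scheme.Hom.comp_apply, Groth.Agent.NeronElem.fst_comp_left]
      refine ⟨pullback.fst A.hom g a, ?_, by rw [← hqK, ha]⟩
      haveI : GeometricallyIntegral ((Neron.genericFibre R).obj A).hom := inferInstance
      haveI : IsIntegral ((Neron.genericFibre R).obj A).left :=
        GeometricallyIntegral.isIntegral_of_subsingleton ((Neron.genericFibre R).obj A).hom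
      haveI : PreconnectedSpace ↥((Neron.genericFibre R).obj A).left := inferInstance
      haveI : PreconnectedSpace ↥(pullback A.hom g) := inferInstanceAs (PreconnectedSpace ↥((Neron.genericFibre R).obj A).left)
      have h0 := Groth.Agent.GrpNeutral20.preimage_neutralSet A (IsPullback.of_hasPullback A.hom g)
        (η[Red.bc g A]).left (by
          exact Groth.Agent.AbDual22.η_bc_fst g A) (Over.w η[Red.bc g A])
      exact h0.ge (by
        rw [PreconnectedSpace.connectedComponent_eq_univ]
        exact Set.mem_univ _)

end Groth.Agent.S18501
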