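import Groth.Statements.S18503
import Groth.Agent.Lib.AlgGrpBasic19.FibreIso
import Groth.Agent.Lib.AlgGrpBasic19.Basic
import Mathlib.AlgebraicGeometry.ZariskisMainTheorem

set_option autoImplicit false
universe u
open CategoryTheory MonoidalCategory CartesianMonoidalCategory MonObj GrpObj AlgebraicGeometry Topology
open EqInt

namespace Groth.Agent.S18503

/-- Over a field k, let an affine group scheme G of finite type act on a quasi-separated scheme X of
finite type over k. If the action is proper (the morphism (σ, p₂) : G × X → X × X is proper) and the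
stabilizer of every point is trivial (for each point x of X the fibre over x of the stabilizer group
scheme (G × X) ×_{X × X} X → X, the pullback of (σ, p₂) along the diagonal, is Spec κ(x) through its
structure map), then the action is free: (σ, p₂) is a closed immersion. (Stated for X a scheme; the
source allows an algebraic space.) -/
theorem result (k : Type u) [Field k]
    (G X : Over (Spec (CommRingCat.of k))) [GrpObj G] [IsAffine G.left] [LocallyOfFiniteType G.hom]
    [LocallyOfFiniteType X.hom] [QuasiCompact X.hom] [QuasiSeparated X.hom]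
    (a : AlgGrp.Action G X) (hp : IsProper (GIT.psi a (𝟙 X)).left)
    (htriv : ∀ x : ↥X.left, IsIso ((Limits.pullback.snd (GIT.psi a (𝟙 X)).left
      (CartesianMonoidalCategory.lift (𝟙 X) (𝟙 X)).left).fiberToSpecResidueField x)) :
    IsClosedImmersion (GIT.psi a (𝟙 X)).left := by
  haveI := hp
  set Ψ := GIT.psi a (𝟙 X) with hΨ
  set d := CartesianMonoidalCategory.lift (𝟙 X) (𝟙 X) with hd
  have hval : ∀ {T : Over (Spec (CommRingCat.of k))} (g : T ⟶ G) (x : T ⟶ X),
      lift g x ≫ Ψ = lift (lift g x ≫ a.act) x := by
    intro T g x
    simp only [hΨ, GIT.psi, whiskerLeft_id, Category.id_comp, comp_lift, lift_snd]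
  let e : X ⟶ G ⊗ X := lift 1 (𝟙 X)
  have he : e ≫ Ψ = d := by rw [hval, AlgGrpBasic19.act_one, hd]
  have hew : e.left ≫ Ψ.left = 𝟙 X.left ≫ d.left := by rw [← Over.comp_left, he, Category.id_comp]
  let s : X.left ⟶ Limits.pullback Ψ.left d.left := Limits.pullback.lift e.left (𝟙 _) hew
  haveI : IsIso (Limits.pullback.snd Ψ.left d.left) :=
    AlgGrpBasic19.isIso_of_fibres _ s (Limits.pullback.lift_snd _ _ _) htriv
  haveI : Mono Ψ := by
    constructor
    intro T p q h
    rw [← lift_comp_fst_snd p, ← lift_comp_fst_snd q, hval, hval] at h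
    set g := p ≫ fst G X
    set x := p ≫ snd G X
    set g' := q ≫ fst G X
    set x' := q ≫ snd G X
    have hx : x = x' := by simpa using congrArg (· ≫ snd X X) h
    have hg : lift g x ≫ a.act = lift g' x ≫ a.act := by
      have := congrArg (· ≫ fst X X) h
      simp only [lift_fst] at this
      rw [this, hx]
    let t : T ⟶ G ⊗ X := lift (g'⁻¹ * g) x
    have ht : t ≫ Ψ = x ≫ d := by
      rw [hval, AlgGrpBasic19.act_mul, hg, ← AlgGrpBasic19.act_mul, inv_mul_cancel, AlgGrpBasic19.act_one, hd,
        comp_lift, Category.comp_id]
    have htw : t.left ≫ Ψ.left = x.left ≫ d.left := by rw [← Over.comp_left, ht, Over.comp_left]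
    have h2 : Limits.pullback.lift t.left x.left htw = x.left ≫ s := by
      rw [← cancel_mono (Limits.pullback.snd Ψ.left d.left), Limits.pullback.lift_snd, Category.assoc,
        Limits.pullback.lift_snd, Category.comp_id]
    have h3 : t = x ≫ e := by
      apply Over.OverMorphism.ext
      have := congrArg (· ≫ Limits.pullback.fst Ψ.left d.left) h2
      simpa only [Category.assoc, Limits.pullback.lift_fst, s, Over.comp_left] using this
    have h4 := congrArg (· ≫ fst G X) h3
    simp only [t, e, Category.assoc, lift_fst, MonObj.comp_one] at h4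
    apply CartesianMonoidalCategory.hom_ext
    · exact (inv_mul_eq_one.mp h4).symm
    · exact hx
  haveI : Mono Ψ.left := inferInstance
  exact (IsClosedImmersion.iff_isProper_and_mono Ψ.left).2 ⟨inferInstance, inferInstance⟩

end Groth.Agent.S18503
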