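import Groth.Statements.S18505
import Groth.Agent.Lib.VarDim.Normal
import Mathlib.RingTheory.Flat.Basic

set_option autoImplicit false
universe u
open CategoryTheory MonoidalCategory CartesianMonoidalCategory MonObj GrpObj AlgebraicGeometry Topology
open EqInt

namespace Groth.Agent.S18505

/-- A section killed by a non-zero section of an integral scheme, pulled back along a flat morphism, is zero. -/
theorem eq_zero_of_flat_mul {P X : Scheme.{u}} (f : P ⟶ X) [Flat f] [IsIntegral X] (W : X.Opens)
    (b : Γ(X, W)) (hb : b ≠ 0) (O : P.Opens) (hO : O ≤ f ⁻¹ᵁ W) (t : Γ(P, O))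
    (h : f.appLE W O hO b * t = 0) : t = 0 := by
  refine P.IsSheaf.section_ext fun z hz => ?_
  obtain ⟨W', hW', hfz, hW'W⟩ := exists_isAffineOpen_mem_and_subset (X := X) (x := f z) (U := W) (hO hz)
  obtain ⟨A, hA, hzA, hAO⟩ := exists_isAffineOpen_mem_and_subset (X := P) (x := z) (U := O ⊓ f ⁻¹ᵁ W') ⟨hz, hfz⟩
  have hAW : A ≤ f ⁻¹ᵁ W' := fun _ hy => (hAO hy).2
  refine ⟨A, fun _ hy => (hAO hy).1, hzA, ?_⟩
  rw [map_zero]
  haveI : Nonempty W' := ⟨⟨_, hfz⟩⟩
  haveI : Nonempty W := ⟨⟨_, hW'W hfz⟩⟩
  have hflat : (f.appLE W' A hAW).hom.Flat :=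
    HasRingHomProperty.appLE @Flat f inferInstance ⟨W', hW'⟩ ⟨A, hA⟩ hAW
  have hb' : X.presheaf.map (homOfLE hW'W).op b ≠ 0 := fun h0 => hb
    (map_injective_of_isIntegral X (homOfLE hW'W) (h0.trans (map_zero _).symm))
  letI := (f.appLE W' A hAW).hom.toAlgebra
  haveI : Module.Flat Γ(X, W') Γ(P, A) := hflat
  have hreg : IsSMulRegular Γ(P, A) (algebraMap Γ(X, W') Γ(P, A) (X.presheaf.map (homOfLE hW'W).op b)) :=
    IsSMulRegular.of_flat (IsRegular.of_ne_zero hb').left
  have e := congrArg (P.presheaf.map (homOfLE (fun _ hy => (hAO hy).1)).op) h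
  rw [map_mul, map_zero, ← CommRingCat.comp_apply, Scheme.Hom.appLE_map,
    ← Scheme.Hom.map_appLE f hAW (homOfLE hW'W).op, CommRingCat.comp_apply] at e
  refine hreg ?_
  simp only [smul_zero]
  exact e

/-- Over an algebraically closed field k of characteristic zero, let an affine group scheme G of finite
type act on a normal variety X (integral, separated, of finite type over k, with integrally closed
local rings) and let (Y, φ) be a geometric quotient of X by G with Y separated of finite type over
k. Then Y is normal. (The other two conditions of the published criterion are immediate from the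
definition of a geometric quotient, and its converse rests on a result quoted there without proof;
only this implication is stated. A geometric quotient is taken here with φ universally submersive.) -/
theorem result (k : Type u) [Field k] [IsAlgClosed k] [CharZero k]
    (G X Y : Over (Spec (CommRingCat.of k))) [GrpObj G] [IsAffine G.left] [LocallyOfFiniteType G.hom]
    [LocallyOfFiniteType X.hom] [QuasiCompact X.hom] [IsSeparated X.hom] [IsIntegral X.left]
    (hX : Pi1.IsNormalScheme X.left)
    [LocallyOfFiniteType Y.hom] [QuasiCompact Y.hom] [IsSeparated Y.hom]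
    (a : AlgGrp.Action G X) (φ : X ⟶ Y) (h : GIT.IsGeomQuot a φ) :
    Pi1.IsNormalScheme Y.left := by
  haveI : IrreducibleSpace X.left := inferInstance
  haveI hYirr : IrreducibleSpace Y.left :=
    { isPreirreducible_univ := by
        rw [← Set.range_eq_univ.2 h.surj, ← Set.image_univ]
        exact (PreirreducibleSpace.isPreirreducible_univ (X := X.left)).image _ φ.left.continuous.continuousOn
      toNonempty := ⟨φ.left.base (Classical.arbitrary X.left)⟩ }
  haveI : IsReduced Y.left := ⟨fun U => isReduced_of_injective (φ.left.app U).hom (h.sections U).1⟩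
  haveI : IsIntegral Y.left := isIntegral_of_irreducibleSpace_of_isReduced Y.left
  intro y
  refine ⟨inferInstance, ?_⟩
  obtain ⟨V, hV, hyV, -⟩ := exists_isAffineOpen_mem_and_subset (X := Y.left) (x := y) (U := ⊤) trivial
  haveI : Nonempty V := ⟨⟨y, hyV⟩⟩
  obtain ⟨x₀, hx₀⟩ := h.surj y
  let W := φ.left ⁻¹ᵁ V
  haveI : Nonempty W := ⟨⟨x₀, show φ.left x₀ ∈ V by rw [show φ.left x₀ = y from hx₀]; exact hyV⟩⟩
  haveI : Flat G.hom := inferInstance
  haveI : Flat (snd G X).left := MorphismProperty.pullback_snd (P := @Flat) G.hom X.hom inferInstance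
  suffices IsIntegrallyClosed Γ(Y.left, V) by
    letI : Algebra Γ(Y.left, V) (Y.left.presheaf.stalk y) := (Y.left.presheaf.germ V y hyV).hom.toAlgebra
    haveI := hV.isLocalization_stalk ⟨y, hyV⟩
    exact isIntegrallyClosed_of_isLocalization _ (hV.primeIdealOf ⟨y, hyV⟩).asIdeal.primeCompl
      (Ideal.primeCompl_le_nonZeroDivisors _)
  let ψ : Γ(Y.left, V) →+* X.left.functionField := (X.left.germToFunctionField W).hom.comp (φ.left.app V).hom
  have hψ : Function.Injective ψ := (X.left.germToFunctionField_injective W).comp (h.sections V).1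
  refine (isIntegrallyClosed_iff (FractionRing Γ(Y.left, V))).mpr fun {z} hz => ?_
  obtain ⟨a₀, b₀, hb₀, rfl⟩ := IsFractionRing.div_surjective Γ(Y.left, V) z
  let F : FractionRing Γ(Y.left, V) →+* X.left.functionField := IsFractionRing.lift (g := ψ) hψ
  have hF : F.comp (algebraMap Γ(Y.left, V) (FractionRing Γ(Y.left, V))) = ψ :=
    RingHom.ext fun c => IsFractionRing.lift_algebraMap hψ c
  obtain ⟨p, hp, hp0⟩ := hz
  obtain ⟨g, hg⟩ := VarDim.exists_section_of_integral (fun x => (hX x).2) W
    (F (algebraMap _ _ a₀ / algebraMap _ _ b₀))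
    ⟨p.map (φ.left.app V).hom, hp.map _, by
      rw [Polynomial.eval₂_map, show (X.left.germToFunctionField W).hom.comp (φ.left.app V).hom =
        F.comp (algebraMap Γ(Y.left, V) _) from hF.symm, ← Polynomial.hom_eval₂, hp0, map_zero]⟩
  have hb0 : b₀ ≠ 0 := nonZeroDivisors.ne_zero hb₀
  have hbF : ψ b₀ ≠ 0 := fun h0 => hb0 (hψ (h0.trans (map_zero ψ).symm))
  have hmul : φ.left.app V b₀ * g = φ.left.app V a₀ := by
    refine X.left.germToFunctionField_injective W ?_
    rw [map_mul, hg, map_div₀]
    show ψ b₀ * (F (algebraMap _ _ a₀) / F (algebraMap _ _ b₀)) = ψ a₀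
    rw [show F (algebraMap _ _ a₀) = ψ a₀ from RingHom.congr_fun hF a₀,
      show F (algebraMap _ _ b₀) = ψ b₀ from RingHom.congr_fun hF b₀]
    exact mul_div_cancel₀ _ hbF
  have hinv : GIT.IsInvSection a φ V g := by
    have hpre : ∀ c : Γ(Y.left, V), GIT.IsInvSection a φ V (φ.left.app V c) := fun c =>
      ((h.sections V).2.le ⟨c, rfl⟩ : _)
    unfold GIT.IsInvSection at hpre ⊢
    have ea := hpre a₀
    have eb := hpre b₀
    rw [← hmul, map_mul, map_mul, eb] at ea
    rw [← sub_eq_zero]
    refine eq_zero_of_flat_mul (snd G X).left W (φ.left.app V b₀)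
      (fun h0 => hb0 ((h.sections V).1 (h0.trans (map_zero _).symm))) _ inf_le_right _ ?_
    rw [mul_sub, ea, sub_self]
  obtain ⟨c, hc⟩ := (h.sections V).2.ge hinv
  refine ⟨c, F.injective ?_⟩
  rw [← hg, ← RingHom.comp_apply, hF, ← hc]
  rfl

end Groth.Agent.S18505
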