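import Groth.Statements.S18508
import Groth.Agent.Lib.Stab19.Basic

set_option autoImplicit false
universe u
open CategoryTheory MonoidalCategory CartesianMonoidalCategory MonObj GrpObj AlgebraicGeometry Topology
open EqInt

namespace Groth.Agent.S18508

open Groth.Agent
set_option backward.isDefEq.respectTransparency.types false


/-- Over a field k, let an affine group scheme G of finite type act on a separated scheme X of finite
type over k, with stabilizer group scheme S = (G × X) ×_{X × X} X → X (the pullback of (σ, p₂) along
the diagonal). Assume that k has characteristic zero or that G is finite étale over k. Then the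
action is set-theoretically free (S → X is universally injective: the stabilizer of every geometric
point inside the group of geometric points is trivial) if and only if it is geometrically free (for
every point x of X the fibre of S over x is Spec κ(x) through its structure map). (The source takes
X integral and tests geometric points with values in an algebraic closure of k; the statement here
is over all points, which is what the argument gives pointwise.) -/
theorem result (k : Type u) [Field k]
    (G X : Over (Spec (CommRingCat.of k))) [GrpObj G] [IsAffine G.left] [LocallyOfFiniteType G.hom]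
    [LocallyOfFiniteType X.hom] [QuasiCompact X.hom] [IsSeparated X.hom]
    (hG : CharZero k ∨ (IsFinite G.hom ∧ Etale G.hom)) (a : AlgGrp.Action G X) :
    UniversallyInjective (Limits.pullback.snd (GIT.psi a (𝟙 X)).left (CartesianMonoidalCategory.lift (𝟙 X) (𝟙 X)).left) ↔
      ∀ x : ↥X.left, IsIso ((Limits.pullback.snd (GIT.psi a (𝟙 X)).left (CartesianMonoidalCategory.lift (𝟙 X) (𝟙 X)).left).fiberToSpecResidueField x) := by
  set Ψ := GIT.psi a (𝟙 X) with hΨ
  set d := CartesianMonoidalCategory.lift (𝟙 X) (𝟙 X) with hd
  haveI : LocallyOfFiniteType (G ⊗ X).hom :=
    inferInstanceAs (LocallyOfFiniteType (Limits.pullback.fst G.hom X.hom ≫ G.hom))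
  haveI : LocallyOfFiniteType Ψ.left := AlgGrpBasic19.lft_left _
  let e : X.left ⟶ Limits.pullback Ψ.left d.left :=
    Limits.pullback.lift (lift (1 : X ⟶ G) (𝟙 X)).left (𝟙 X.left) (by
      rw [← Over.comp_left, show lift (1 : X ⟶ G) (𝟙 X) ≫ Ψ = 𝟙 X ≫ d by
        simp [Ψ, d, GIT.psi, comp_lift, AlgGrpBasic19.act_one]]
      simp)
  have he : e ≫ Limits.pullback.snd Ψ.left d.left = 𝟙 _ := Limits.pullback.lift_snd _ _ _
  refine ⟨fun hinj x => ?_, fun h => ?_⟩
  · rcases hG with hk | ⟨_, hGe⟩
    · exact Stab19.isIso_fiber a hinj x
    · haveI : IsClosedImmersion d.left := by
        have h : d.left = Limits.pullback.diagonal X.hom := by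
          refine Limits.pullback.hom_ext (f := X.hom) (g := X.hom) ?_ ?_
          · show (d ≫ fst X X).left = _
            simp [d, Limits.pullback.diagonal]
            exact (Limits.pullback.lift_fst _ _ _).symm
          · show (d ≫ snd X X).left = _
            simp [d, Limits.pullback.diagonal]
            exact (Limits.pullback.lift_snd _ _ _).symm
        rw [h]; infer_instance
      haveI : Etale (snd G X).left := inferInstanceAs (Etale (Limits.pullback.snd G.hom X.hom))
      have hP : Limits.pullback.snd Ψ.left d.left = Limits.pullback.fst Ψ.left d.left ≫ (snd G X).left := by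
        have h := congrArg (· ≫ (snd X X).left) (Limits.pullback.condition (f := Ψ.left) (g := d.left))
        simp only [Category.assoc, ← Over.comp_left] at h
        simpa [Ψ, d, GIT.psi] using h.symm
      haveI : IsClosedImmersion (Limits.pullback.fst Ψ.left d.left) :=
        MorphismProperty.pullback_fst _ _ ‹IsClosedImmersion d.left›
      haveI : FormallyUnramified (Limits.pullback.fst Ψ.left d.left) := inferInstance
      haveI : FormallyUnramified (snd G X).left := inferInstance
      haveI : FormallyUnramified (Limits.pullback.snd Ψ.left d.left) := by
        rw [hP]; exact MorphismProperty.comp_mem _ _ _ ‹_› ‹FormallyUnramified (snd G X).left›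
      haveI := hinj
      haveI : IsIso (Limits.pullback.snd Ψ.left d.left) :=
        Stab19.isIso_of_section _ (Limits.pullback.snd Ψ.left d.left).injective e he
      exact inferInstanceAs (IsIso (Limits.pullback.snd _ _))
  · haveI : IsIso (Limits.pullback.snd Ψ.left d.left) := AlgGrpBasic19.isIso_of_fibres _ e he h
    infer_instance

end Groth.Agent.S18508
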