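import Groth.Statements.S18510
import Groth.Agent.Lib.AssocBundle19.Basic
import Groth.Agent.Lib.FpqcDesc.Basic
import Groth.Agent.Lib.AlgSpDescent.Instances

set_option autoImplicit false
universe u
open CategoryTheory MonoidalCategory CartesianMonoidalCategory MonObj GrpObj AlgebraicGeometry Topology
open EqInt

namespace Groth.Agent.S18510

open Groth.Agent.AlgGrpBasic19 MorphismProperty

theorem eq_one_of_fixed {S : Scheme.{u}} {G P Q T : Over S} [GrpObj G] {b : AlgGrp.Action G P} {q : P ⟶ Q}
    {hinv : GIT.IsInvariant b q} (hiso : IsIso (GIT.PsiY b q hinv)) {h : T ⟶ G} {p : T ⟶ P}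
    (e : lift h p ≫ b.act = p) : h = 1 := by
  have h1 : (lift h p).left ≫ GIT.PsiY b q hinv = (lift (1 : T ⟶ G) p).left ≫ GIT.PsiY b q hinv := by
    apply Limits.pullback.hom_ext
    · simp only [GIT.PsiY, Category.assoc]
      erw [Limits.pullback.lift_fst]
      rw [← Over.comp_left, ← Over.comp_left, e, act_one]
    · simp only [GIT.PsiY, Category.assoc]
      erw [Limits.pullback.lift_snd]
      rw [← Over.comp_left, ← Over.comp_left, lift_snd, lift_snd]
  rw [cancel_mono] at h1
  simpa using congrArg (fun m => m ≫ fst G P) (Over.OverMorphism.ext h1)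

theorem isPullback_whisker {S : Scheme.{u}} {X Y : Over S} (f : X ⟶ Y) (U : Over S) :
    IsPullback (fst X U) (f ▷ U) f (fst Y U) :=
  AssocBundle19.isPullback_of_local _ _ _ _ (whiskerRight_fst _ _).symm
    (fun T a b h1 h2 => CartesianMonoidalCategory.hom_ext _ _ h1
      (by simpa using congrArg (fun m => m ≫ snd Y U) h2))
    (fun T v u e => ⟨T, 𝟙 T, lift v (u ≫ snd Y U), by rw [Over.id_left]; infer_instance,
      by rw [Over.id_left]; infer_instance, by rw [Over.id_left]; infer_instance, by simp,
      CartesianMonoidalCategory.hom_ext _ _ (by simp [e]) (by simp)⟩)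

/-- Over a field k, let an affine group scheme G of finite type act on X, on Y and on U (quasi-separated
schemes of finite type over k), let f : X → Y be G-equivariant, and let q_X : X × U → X_G and q_Y :
Y × U → Y_G be principal bundle quotients for the diagonal actions (each is invariant, flat and
surjective, and (σ, p₂) into the fibre square over the quotient is an isomorphism), X_G and Y_G
being quasi-separated of finite type over k. Let f_G : X_G → Y_G satisfy f_G ∘ q_X = q_Y ∘ (f ×
id_U) as maps X × U → Y_G. If f is proper, resp. flat, resp. smooth, then so is f_G. (Stated for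
schemes; the source allows algebraic spaces and also treats regular embeddings and local complete
intersection morphisms, which are not stated here.) -/
theorem result (k : Type u) [Field k]
    (G X Y U XG YG : Over (Spec (CommRingCat.of k))) [GrpObj G] [IsAffine G.left] [LocallyOfFiniteType G.hom]
    [LocallyOfFiniteType X.hom] [QuasiCompact X.hom] [QuasiSeparated X.hom]
    [LocallyOfFiniteType Y.hom] [QuasiCompact Y.hom] [QuasiSeparated Y.hom]
    [LocallyOfFiniteType U.hom] [QuasiCompact U.hom] [QuasiSeparated U.hom]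
    [LocallyOfFiniteType XG.hom] [QuasiCompact XG.hom] [QuasiSeparated XG.hom]
    [LocallyOfFiniteType YG.hom] [QuasiCompact YG.hom] [QuasiSeparated YG.hom]
    (a : AlgGrp.Action G X) (aY : AlgGrp.Action G Y) (b : AlgGrp.Action G U)
    (f : X ⟶ Y) (hf : AlgGrp.Action.IsEquivariant a aY f)
    (qX : X ⊗ U ⟶ XG) (hqX : GIT.IsInvariant (a.prod b) qX) [Flat qX.left] [Surjective qX.left]
    (hcX : IsIso (GIT.PsiY (a.prod b) qX hqX))
    (qY : Y ⊗ U ⟶ YG) (hqY : GIT.IsInvariant (aY.prod b) qY) [Flat qY.left] [Surjective qY.left]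
    (hcY : IsIso (GIT.PsiY (aY.prod b) qY hqY))
    (fG : XG ⟶ YG) (hfG : qX ≫ fG = (f ▷ U) ≫ qY) :
    (IsProper f.left → IsProper fG.left) ∧ (Flat f.left → Flat fG.left) ∧
      (Smooth f.left → Smooth fG.left) := by
  have hequiv : (f ▷ U) = lift (fst X U ≫ f) (snd X U) := by
    apply CartesianMonoidalCategory.hom_ext <;> simp
  have key : ∀ (T : Over (Spec (CommRingCat.of k))) (h : T ⟶ G) (x : T ⟶ X ⊗ U),
      lift h x ≫ (a.prod b).act ≫ (f ▷ U) = lift h (x ≫ (f ▷ U)) ≫ (aY.prod b).act := by
    intro T h x
    have hf' : a.act ≫ f = (G ◁ f) ≫ aY.act := hf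
    apply CartesianMonoidalCategory.hom_ext <;>
      simp [AlgGrp.Action.prod, hf', lift_whiskerLeft_assoc, comp_lift_assoc]
  haveI : QuasiCompact (Y ⊗ U).hom := by rw [Over.tensorObj_hom]; infer_instance
  haveI : QuasiCompact (X ⊗ U).hom := by rw [Over.tensorObj_hom]; infer_instance
  haveI : QuasiCompact qX.left := quasiCompact_left qX
  haveI : QuasiCompact qY.left := quasiCompact_left qY
  have hpb : IsPullback (f ▷ U) qX qY fG := by
    refine AssocBundle19.isPullback_of_local _ _ _ _ hfG.symm (fun T p p' h1 h2 => ?_) fun T v u e => ?_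
    · obtain ⟨h, hh⟩ := AssocBundle19.exists_smul hcX p p' h2
      have : lift h (p ≫ (f ▷ U)) ≫ (aY.prod b).act = p ≫ (f ▷ U) := by
        rw [← key, reassoc_of% hh, h1]
      rw [eq_one_of_fixed hcY this, act_one] at hh
      exact hh
    · obtain ⟨T', c, x₀, hc1, hc2, hc3, hx₀⟩ := FppfDesc19.exists_cover_lift qX u
      obtain ⟨h, hh⟩ := AssocBundle19.exists_smul hcY (x₀ ≫ (f ▷ U)) (c ≫ v) (by
        rw [Category.assoc, ← hfG, reassoc_of% hx₀, Category.assoc, e])
      refine ⟨T', c, lift h x₀ ≫ (a.prod b).act, hc1, hc2, hc3, ?_, ?_⟩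
      · rw [Category.assoc, key, hh]
      · rw [AssocBundle19.comp_invariant hqX, hx₀]
  have hl := hpb.map (Over.forget _)
  have hw := (isPullback_whisker f U).map (Over.forget _)
  have hq : (@Surjective ⊓ @Flat ⊓ @QuasiCompact : MorphismProperty Scheme.{u}) qY.left :=
    ⟨⟨inferInstance, inferInstance⟩, inferInstance⟩
  refine ⟨fun hP => ?_, fun hP => ?_, fun hP => ?_⟩
  · have := FpqcDesc.descendsAlong_isProper.{u}
    exact MorphismProperty.of_isPullback_of_descendsAlong (P := @IsProper) hl hq
      (MorphismProperty.of_isPullback hw hP)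
  · exact MorphismProperty.of_isPullback_of_descendsAlong (P := @Flat) hl hq
      (MorphismProperty.of_isPullback hw hP)
  · exact MorphismProperty.of_isPullback_of_descendsAlong (P := @Smooth) hl hq
      (MorphismProperty.of_isPullback hw hP)

end Groth.Agent.S18510
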