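import Groth.Statements.S18515
import Mathlib.AlgebraicGeometry.ValuativeCriterion
-- import your own Groth.Agent.* helpers here

set_option autoImplicit false
open CategoryTheory CategoryTheory.Limits MonoidalCategory CartesianMonoidalCategory MonObj GrpObj AlgebraicGeometry
universe u
open NonAbH1

namespace Groth.Agent.S18515

theorem whisker_triple {C : Type*} [Category* C] [MonoidalCategory C] {G₁ G₂ G₃ G₄ X Y Z : C} (p : G₁ ⟶ G₂)
    (q : G₂ ⟶ G₃) (r : G₃ ⟶ G₄) (f : X ⟶ Y) (h : G₄ ⊗ Y ⟶ Z) :
    p ▷ X ≫ q ▷ X ≫ G₃ ◁ f ≫ r ▷ Y ≫ h = G₁ ◁ f ≫ (p ≫ q ≫ r) ▷ Y ≫ h := by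
  rw [← whisker_exchange_assoc, ← whisker_exchange_assoc, comp_whiskerRight, comp_whiskerRight]
  simp only [Category.assoc]

/-- A class represented by a torsor over a complete variety is unramified at every discrete valuation
ring of the function field. The published lemma assumes G finite, k algebraically closed of
characteristic zero and K finitely generated over k; this row allows any field k, any field K and
any affine k-group scheme of finite type: let k be a field, X a proper k-scheme, G an affine k-group
scheme of finite type and P a torsor over X, locally trivial for the etale topology, under the base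
change of G. For every field K with a k-morphism e : Spec K ⟶ X (for instance the generic point of
an integral X) and every discrete valuation ring R with fraction field K containing k compatibly,
there is a torsor Q over Spec R under the base change of G whose restriction to Spec K is
equivariantly isomorphic to the pullback of P along e, both regarded as actions of the base change
of G to Spec K through the canonical identifications of iterated base changes. -/
theorem result
    (k K R : Type u) [Field k] [Field K] [Algebra k K]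
    [CommRing R] [IsDomain R] [IsDiscreteValuationRing R] [Algebra k R] [Algebra R K] [IsFractionRing R K]
    (hc : Spec.map (CommRingCat.ofHom (algebraMap R K)) ≫ Spec.map (CommRingCat.ofHom (algebraMap k R)) =
      Spec.map (CommRingCat.ofHom (algebraMap k K)))
    (X : Scheme.{u}) (x : X ⟶ Spec (CommRingCat.of k)) [IsProper x]
    (G : Over (Spec (CommRingCat.of k))) [GrpObj G] [IsAffine G.left] [LocallyOfFiniteType G.hom]
    (P : NonAbH1.TorsorSch (Red.bc x G) Scheme.etalePrecoverage)
    (e : Spec (CommRingCat.of K) ⟶ X) (he : e ≫ x = Spec.map (CommRingCat.ofHom (algebraMap k K))) :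
    ∃ Q : NonAbH1.TorsorSch (Red.bc (Spec.map (CommRingCat.ofHom (algebraMap k R))) G) Scheme.etalePrecoverage,
      Nonempty (NonAbH1.EquivIso
        ((Q.act.bc (Spec.map (CommRingCat.ofHom (algebraMap R K)))).restrict
          (ActBC.bcCompIso (Spec.map (CommRingCat.ofHom (algebraMap R K)))
            (Spec.map (CommRingCat.ofHom (algebraMap k R))) G hc).inv)
        ((P.act.bc e).restrict (ActBC.bcCompIso e x G he).inv)) := by
  let a := algebraMap R K
  let ηR : Spec (CommRingCat.of K) ⟶ Spec (CommRingCat.of R) := Spec.map (CommRingCat.ofHom a)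
  let hR : Spec (CommRingCat.of R) ⟶ Spec (CommRingCat.of k) := Spec.map (CommRingCat.ofHom (algebraMap k R))
  have hsq : CommSq e ηR x hR := ⟨he.trans hc.symm⟩
  haveI : hsq.HasLift :=
    ((IsProper.eq_valuativeCriterion ▸ ‹IsProper x› :
      (ValuativeCriterion ⊓ @QuasiCompact ⊓ @QuasiSeparated ⊓ @LocallyOfFiniteType) x).1.1.1).existence
      { R := R, K := K, i₁ := e, i₂ := hR, commSq := hsq }
  let eR := hsq.lift
  have h1 : ηR ≫ eR = e := hsq.fac_left
  have h2 : eR ≫ x = hR := hsq.fac_right
  let C₀ := ActBC.bcCompIso eR x G h2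
  let P' := P.bc eR
  have hQ : NonAbH1.IsTorsorFor Scheme.etalePrecoverage (P'.act.restrict C₀.inv) := by
    refine ⟨?_, P'.isTorsor.2⟩
    have hs : IsIso (CartesianMonoidalCategory.lift P'.act.act (CartesianMonoidalCategory.snd _ P'.X)) := P'.isTorsor.1
    have hw : IsIso (C₀.inv ▷ P'.X) :=
      ⟨⟨C₀.hom ▷ P'.X, by rw [← comp_whiskerRight, Iso.inv_hom_id, id_whiskerRight],
        by rw [← comp_whiskerRight, Iso.hom_inv_id, id_whiskerRight]⟩⟩
    show IsIso (CartesianMonoidalCategory.lift (P'.act.restrict C₀.inv).act (CartesianMonoidalCategory.snd _ P'.X))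
    have : CartesianMonoidalCategory.lift (P'.act.restrict C₀.inv).act (CartesianMonoidalCategory.snd _ P'.X) =
        (C₀.inv ▷ P'.X) ≫ CartesianMonoidalCategory.lift P'.act.act (CartesianMonoidalCategory.snd _ P'.X) := by
      rw [CartesianMonoidalCategory.comp_lift, CartesianMonoidalCategory.whiskerRight_snd,
        AlgGrp.Action.restrict_act]
    rw [this]
    infer_instance
  refine ⟨⟨P'.X, P'.act.restrict C₀.inv, hQ⟩, ⟨?_⟩⟩
  let A := ActBC.bcCompIso ηR hR G hc
  let B := ActBC.bcCompIso e x G he
  let C := ActBC.bcCompIso ηR eR (Red.bc x G) h1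
  have key : A.inv ≫ (Over.pullback ηR).map C₀.inv ≫ C.hom = B.inv := by
    rw [Iso.inv_comp_eq, ← cancel_epi ((Over.pullback ηR).map C₀.hom), ← Functor.map_comp_assoc,
      Iso.hom_inv_id, CategoryTheory.Functor.map_id, Category.id_comp, ← cancel_mono B.hom]
    simp only [Category.assoc, Iso.inv_hom_id, Category.comp_id]
    ext
    apply pullback.hom_ext
    · simp [A, B, C, C₀, ActBC.pullback_map_left_fst, ActBC.pullback_map_left_fst_assoc]
      erw [pullback.lift_fst_assoc]
      simp
      erw [ActBC.bcCompIso_hom_left_fst_assoc]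
      rfl
    · exact (Over.w _).trans (Over.w _).symm
  let E := ActBC.equivIsoBcComp ηR eR h1 P.act
  refine ⟨E.iso, ?_⟩
  have hb : (P'.act.restrict C₀.inv).bc ηR = (P'.act.bc ηR).restrict ((Over.pullback ηR).map C₀.inv) :=
    AlgGrp.Action.bc_restrict ηR C₀.inv P'.act
  show (((P'.act.restrict C₀.inv).bc ηR).restrict A.inv).act ≫ E.iso.hom =
    (_ ◁ E.iso.hom) ≫ ((P.act.bc e).restrict B.inv).act
  have hE : (P'.act.bc ηR).act ≫ E.iso.hom = (_ ◁ E.iso.hom) ≫ (C.hom ▷ _) ≫ (P.act.bc e).act := E.comm
  rw [hb, AlgGrp.Action.restrict_act, AlgGrp.Action.restrict_act, AlgGrp.Action.restrict_act]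
  simp only [Category.assoc]
  erw [hE]
  rw [← key]
  exact whisker_triple _ _ _ _ _

end Groth.Agent.S18515
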