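import Groth.Statements.S18519
import Groth.Agent.Lib.CSAlg.Split
import Mathlib

set_option autoImplicit false
universe u
open scoped TensorProduct
open Brauer

namespace Groth.Agent.S18519

/-- For a field K with maximal abelian extension K_ab, cd(K_ab) ≤ 1 if and only if for every etale
K-algebra E the restriction map Br(E) ⟶ Br(E ⊗_K K_ab) is trivial; the same holds with the maximal
solvable extension. Stated here for an arbitrary separable algebraic extension F of K in place of
K_ab (the published lemma takes for F the maximal abelian or the maximal solvable extension of K;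
this row allows any separable algebraic extension), with cd(F) ≤ 1 unfolded by the Brauer-group
criterion (every finite separable extension of F has trivial Brauer group) and with etale algebras
replaced by their field factors: (a) every finite-dimensional central division algebra over a finite
separable extension F′ of F is F′ itself; if and only if (b) for every finite separable extension E
of K, every finite-dimensional central division algebra D over E and every field M containing E and
F compatibly over K, the base change M ⊗_E D is isomorphic over M to a matrix algebra over M. -/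
theorem result
    (K F : Type u) [Field K] [Field F] [Algebra K F] [Algebra.IsSeparable K F] :
    (∀ (F' : Type u) [Field F'] [Algebra F F'] [FiniteDimensional F F'] [Algebra.IsSeparable F F']
        (D : Type u) [DivisionRing D] [Algebra F' D] [Algebra.IsCentral F' D] [FiniteDimensional F' D],
        Module.finrank F' D = 1) ↔
    (∀ (E : Type u) [Field E] [Algebra K E] [FiniteDimensional K E] [Algebra.IsSeparable K E]
        (D : Type u) [DivisionRing D] [Algebra E D] [Algebra.IsCentral E D] [FiniteDimensional E D]
        (M : Type u) [Field M] [Algebra K M] [Algebra E M] [Algebra F M] [IsScalarTower K E M]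
        [IsScalarTower K F M],
        ∃ n : ℕ, Nonempty ((M ⊗[E] D) ≃ₐ[M] Matrix (Fin n) (Fin n) M)) := by
  constructor
  · intro hF E _ _ _ _ D _ _ _ _ M _ _ _ _ _ _
    classical
    let b := Module.finBasis K E
    let S : Set M := Set.range fun i => algebraMap E M (b i)
    have hint : ∀ x ∈ S, IsSeparable F x := by
      rintro _ ⟨i, rfl⟩
      have h1 : IsSeparable K (b i) := Algebra.IsSeparable.isSeparable K _
      have h2 : IsSeparable K (algebraMap E M (b i)) := by
        unfold IsSeparable
        rw [minpoly.algebraMap_eq (algebraMap E M).injective]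
        exact h1
      exact h2.tower_top F
    let F' : IntermediateField F M := IntermediateField.adjoin F S
    haveI : FiniteDimensional F F' :=
      IntermediateField.finiteDimensional_adjoin fun x hx => (hint x hx).isIntegral
    haveI : Algebra.IsSeparable F F' :=
      (IntermediateField.isSeparable_adjoin_iff_isSeparable (F := F) (E := M)).2 hint
    have hE : ∀ e : E, algebraMap E M e ∈ F' := by
      intro e
      rw [← b.sum_repr e, map_sum]
      refine sum_mem fun i _ => ?_
      rw [Algebra.smul_def, map_mul, ← IsScalarTower.algebraMap_apply, IsScalarTower.algebraMap_apply K F M]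
      exact mul_mem (F'.algebraMap_mem _) (IntermediateField.subset_adjoin F S ⟨i, rfl⟩)
    letI : Algebra E F' := ((algebraMap E M).codRestrict F'.toSubring hE).toAlgebra
    haveI : IsScalarTower E F' M := IsScalarTower.of_algebraMap_eq fun e => rfl
    haveI := Groth.Agent.CSAlg.isSimpleRing_baseChange (k := E) (F' : Type u) D
    haveI := Groth.Agent.CSAlg.isCentral_baseChange (k := E) (F' : Type u) D
    obtain ⟨n, hn, D', _, _, _, _, ⟨g⟩⟩ :=
      Groth.Agent.CSAlg.exists_algEquiv_matrix_central_divisionRing (k := F') (F' ⊗[E] D)
    have h1 := hF F' D'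
    have hbij : Function.Bijective (Algebra.ofId F' D') := by
      refine ⟨(algebraMap F' D').injective, fun x => ?_⟩
      obtain ⟨c, hc⟩ := exists_smul_eq_of_finrank_eq_one h1 (one_ne_zero : (1 : D') ≠ 0) x
      exact ⟨c, by rw [← hc, Algebra.ofId_apply, Algebra.algebraMap_eq_smul_one]⟩
    have hs : Curves.Splits E D F' :=
      ⟨n, hn.out, ⟨g.trans (AlgEquiv.ofBijective _ hbij).symm.mapMatrix⟩⟩
    obtain ⟨m, -, hm⟩ := Groth.Agent.CSAlg.splits_tower M hs
    exact ⟨m, hm⟩
  · intro h F' _ _ _ _ D' _ _ _ _
    classical
    letI : Algebra K F' := ((algebraMap F F').comp (algebraMap K F)).toAlgebra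
    haveI : IsScalarTower K F F' := IsScalarTower.of_algebraMap_eq fun x => rfl
    haveI : Algebra.IsSeparable K F' := Algebra.IsSeparable.trans K F F'
    let b := Module.finBasis F' D'
    let n := Module.finrank F' D'
    let T : Set F' := Set.range (fun x : Fin n × Fin n × Fin n => b.repr (b x.1 * b x.2.1) x.2.2) ∪
      Set.range (fun i => b.repr 1 i)
    haveI : Finite T := ((Set.finite_range _).union (Set.finite_range _)).to_subtype
    let E : IntermediateField K F' := IntermediateField.adjoin K T
    haveI : FiniteDimensional K E := IntermediateField.finiteDimensional_adjoin fun x _ =>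
      (Algebra.IsSeparable.isSeparable K x).isIntegral
    haveI : Algebra.IsSeparable K E := Algebra.isSeparable_tower_bot_of_isSeparable K E F'
    have hsc : ∀ (c : F') (hc : c ∈ E) (x : D'), c • x = (⟨c, hc⟩ : E) • x := fun c hc x =>
      algebraMap_smul F' (⟨c, hc⟩ : E) x
    let V : Submodule E D' := Submodule.span E (Set.range b)
    have hmem : ∀ x : D', (∀ i, b.repr x i ∈ E) → x ∈ V := by
      intro x hx
      rw [← b.sum_repr x]
      refine sum_mem fun i _ => ?_
      rw [hsc _ (hx i)]
      exact V.smul_mem _ (Submodule.subset_span ⟨i, rfl⟩)
    have hrepr : ∀ x ∈ V, ∀ i, b.repr x i ∈ E := fun x hx => by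
      induction hx using Submodule.span_induction with
      | mem x hx =>
        obtain ⟨j, rfl⟩ := hx
        intro i
        rw [b.repr_self, Finsupp.single_apply]
        split <;> simp [one_mem, zero_mem]
      | zero => intro i; simp [zero_mem]
      | add x y _ _ hx hy => intro i; rw [map_add, Finsupp.add_apply]; exact add_mem (hx i) (hy i)
      | smul c x _ hx =>
        intro i
        rw [← algebraMap_smul F' c x, map_smul, Finsupp.smul_apply, smul_eq_mul]
        exact mul_mem c.2 (hx i)
    have hone : (1 : D') ∈ V := hmem _ fun i => IntermediateField.subset_adjoin K T (Or.inr ⟨i, rfl⟩)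
    have hbb : ∀ i j, b i * b j ∈ V := fun i j => hmem _ fun l =>
      IntermediateField.subset_adjoin K T (Or.inl ⟨(i, j, l), rfl⟩)
    have hmul : ∀ x y, x ∈ V → y ∈ V → x * y ∈ V := by
      intro x y hx hy
      induction hx using Submodule.span_induction with
      | mem x hx =>
        obtain ⟨i, rfl⟩ := hx
        induction hy using Submodule.span_induction with
        | mem y hy => obtain ⟨j, rfl⟩ := hy; exact hbb i j
        | zero => simp
        | add u v _ _ hu hv => rw [mul_add]; exact V.add_mem hu hv
        | smul c u _ hu => rw [mul_smul_comm]; exact V.smul_mem _ hu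
      | zero => simp
      | add u v _ _ hu hv => rw [add_mul]; exact V.add_mem hu hv
      | smul c u _ hu => rw [smul_mul_assoc]; exact V.smul_mem _ hu
    let D0 : Subalgebra E D' := V.toSubalgebra hone hmul
    haveI : Module.Finite E D0 := by
      haveI : Module.Finite E V := Module.Finite.span_of_finite E (Set.finite_range b)
      exact Module.Finite.equiv (LinearEquiv.ofEq V (Subalgebra.toSubmodule D0) (by rw [Submodule.toSubalgebra_toSubmodule]))
    letI : DivisionRing D0 := divisionRingOfFiniteDimensional E D0
    haveI : Algebra.IsCentral E D0 := ⟨fun z hz => by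
      rw [Subalgebra.mem_center_iff] at hz
      have hzc : (z : D') ∈ Subalgebra.center F' D' := by
        rw [Subalgebra.mem_center_iff]
        intro x
        rw [← b.sum_repr x, Finset.sum_mul, Finset.mul_sum]
        refine Finset.sum_congr rfl fun i _ => ?_
        rw [smul_mul_assoc, mul_smul_comm]
        congr 1
        exact congrArg Subtype.val (hz ⟨b i, Submodule.subset_span ⟨i, rfl⟩⟩)
      obtain ⟨c, hc⟩ := (Algebra.IsCentral.mem_center_iff F').1 hzc
      obtain ⟨i, hi⟩ : ∃ i, b.repr (1 : D') i ≠ 0 := by
        by_contra! h0
        exact one_ne_zero (b.repr.injective (Finsupp.ext fun i => by simp [h0 i]) : (1 : D') = 0)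
      have hcE : c ∈ E := by
        have hzi := hrepr _ z.2 i
        rw [hc, Algebra.algebraMap_eq_smul_one, map_smul, Finsupp.smul_apply, smul_eq_mul] at hzi
        have := div_mem hzi (hrepr _ hone i)
        rwa [mul_div_assoc, div_self hi, mul_one] at this
      exact ⟨⟨c, hcE⟩, Subtype.ext hc.symm⟩⟩
    obtain ⟨m, ⟨f⟩⟩ := h E D0 F'
    let μ : (F' ⊗[E] D0) →ₐ[F'] D' := Algebra.TensorProduct.lift (Algebra.ofId F' D') D0.val
      (fun c x => Algebra.commutes c _)
    have hsurj : Function.Surjective μ := by
      intro x
      refine ⟨∑ i, b.repr x i ⊗ₜ[E] ⟨b i, Submodule.subset_span ⟨i, rfl⟩⟩, ?_⟩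
      conv_rhs => rw [← b.sum_repr x]
      rw [map_sum]
      refine Finset.sum_congr rfl fun i _ => ?_
      show algebraMap F' D' (b.repr x i) * b i = _
      rw [Algebra.smul_def]
    let g : Matrix (Fin m) (Fin m) F' →ₐ[F'] D' := μ.comp f.symm.toAlgHom
    have hg : Function.Surjective g := hsurj.comp f.symm.surjective
    rcases Nat.lt_or_ge m 2 with hm | hm
    · have hle := LinearMap.finrank_le_finrank_of_surjective (f := g.toLinearMap) hg
      rw [Module.finrank_matrix, Module.finrank_self, Fintype.card_fin] at hle
      have hpos : 0 < Module.finrank F' D' := Module.finrank_pos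
      interval_cases m <;> omega
    · exfalso
      haveI : NeZero m := ⟨by omega⟩
      have hinj : Function.Injective g := RingHom.injective g.toRingHom
      let i0 : Fin m := ⟨0, by omega⟩
      let i1 : Fin m := ⟨1, by omega⟩
      let e01 : Matrix (Fin m) (Fin m) F' := Matrix.single i0 i1 1
      have hz : g e01 * g e01 = 0 := by
        rw [← map_mul, Matrix.single_mul_single_of_ne _ _ _ _ (by simp [i0, i1]), map_zero]
      have h0 : g e01 = g 0 := by rw [map_zero]; exact mul_self_eq_zero.1 hz
      have := congrFun (congrFun (hinj h0) i0) i1
      simp [e01] at this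
end Groth.Agent.S18519
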