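import Groth.Statements.S18523
import Groth.Agent.Lib.GPStab28.ParExt
-- import your own Groth.Agent.* helpers here

set_option autoImplicit false
universe u
open CategoryTheory CategoryTheory.Limits AlgebraicGeometry
open ParSh

namespace Groth.Agent.S18523

/-- Let k be an algebraically closed field of characteristic zero, X a smooth proper geometrically
connected curve over k (topological dimension one) of genus g ≥ 2, and I the ideal of a reduced
effective Cartier divisor on X. Let F be a finite locally free O_X-module of rank r with a parabolic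
structure 𝓕 along I which is parabolic stable: for every finite locally free sub-module F₁ → F of
rank r₁ with 0 < r₁ < r, the structure induced on F₁ has r·par-deg(F₁) < r₁·par-deg(F). Let 0 → F' →
F → F'' → 0 be a parabolic extension (a short exact sequence in which F' carries the structure
induced from 𝓕 as a sub-module and F'' the structure induced as a quotient) with F' and F'' finite
locally free. Then every parabolic homomorphism F'' → F' is zero. The published statement tests
stability on quotient bundles; on a smooth proper curve this singles out the same parabolic bundles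
as the test on sub-modules used here. -/
theorem result (k : Type u) [Field k] [IsAlgClosed k] [CharZero k]
    (X : Scheme.{u}) [X.Over (Spec (CommRingCat.of k))]
    [IsProper (X ↘ Spec (CommRingCat.of k))] [Smooth (X ↘ Spec (CommRingCat.of k))]
    [GeometricallyConnected (X ↘ Spec (CommRingCat.of k))] (hdim : topologicalKrullDim ↥X = 1)
    (g : ℕ) (hg : Curv2.genus k X = g) (hg2 : 2 ≤ g)
    (I : X.IdealSheafData) (hD : FGA.IsEffCartier I) [AlgebraicGeometry.IsReduced I.subscheme]
    {F F' F'' : X.Modules} (r : ℕ) (hF : FlatMod.IsFinLocFreeOfRank r F)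
    (𝓕 : ParSh.Str F) (h𝓕 : 𝓕.Along I) (hst : ParSh.IsParStable k X 𝓕 r)
    (i : F' ⟶ F) (p : F ⟶ F'') [Epi p] (𝓕' : ParSh.Str F') (𝓕'' : ParSh.Str F'')
    (hext : ParSh.IsParExt i p 𝓕' 𝓕 𝓕'') (hF' : FlatMod.IsFinLocFree F') (hF'' : FlatMod.IsFinLocFree F'')
    (φ : F'' ⟶ F') (hφ : ParSh.IsParHom 𝓕'' 𝓕' φ) : φ = 0 := by
  haveI : AlgebraicGeometry.IsIntegral X := Groth.Agent.VB17.isIntegral_of_smooth (k := k) (X := X)
  obtain ⟨w, hS, rfl, rfl⟩ := hext
  obtain ⟨a, ha⟩ := Groth.Agent.VB17.exists_rank_of_isFinLocFree hF'
  obtain ⟨b, hb⟩ := Groth.Agent.VB17.exists_rank_of_isFinLocFree hF''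
  exact Groth.Agent.GPStab28.hom_eq_zero_of_stable (Groth.Agent.VB17.regCurve' (k := k) hdim) hD hF 𝓕 h𝓕 hst i p
    w hS ha hb φ hφ

end Groth.Agent.S18523
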