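import Groth.Statements.S18524
import Groth.Agent.Lib.EulerAdd18.Basic
import Groth.Agent.Lib.VB17.Line
import Groth.Agent.Lib.CubeField.Fin
-- import your own Groth.Agent.* helpers here

set_option autoImplicit false
set_option backward.isDefEq.respectTransparency.types false
universe u
open CategoryTheory CategoryTheory.Limits AlgebraicGeometry
open ParSh

namespace Groth.Agent.S18524

open Groth.Agent Groth.Agent.M1 Groth.Agent.M2 Groth.Agent.CurveCoh17 Groth.Agent.EulerAdd18

section
variable (k : Type u) [Field k] (X : Scheme.{u}) [X.Over (Spec (CommRingCat.of k))]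
    [IsProper (X ↘ Spec (CommRingCat.of k))]

/-- Twisted Euler characteristics are additive on short exact sequences of coherent modules. -/
theorem twist_euler_add {L : X.Modules} (hL : PicF.IsInvertible L) (m : ℕ) {S : ShortComplex X.Modules}
    (hS : S.ShortExact) (h₁ : Coh.IsCoh S.X₁) (h₂ : Coh.IsCoh S.X₂) (h₃ : Coh.IsCoh S.X₃) :
    Curv2.euler k X (ShStab.twist X L S.X₂ m) =
      Curv2.euler k X (ShStab.twist X L S.X₁ m) + Curv2.euler k X (ShStab.twist X L S.X₃ m) := by
  have hT := Groth.Agent.M2.isInvertible_tensorPow hL m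
  have hTc := Groth.Agent.CubeField.isCoh_of_isInvertible hT
  obtain ⟨N, hN⟩ := EulerAdd18.exists_bdd k X
  unfold ShStab.twist
  generalize CohB1.tensorPow L m = T at hT hTc ⊢
  have hS' : (S.map (tensorR T)).ShortExact := shortExact_tensorR hS T (VB17.flat_stalk hT)
  exact EulerAdd18.euler_add (S := S.map (tensorR T)) (N := N) hS'
    (hN (CohB1.tensorMod S.X₁ T) (CurveCoh17.isCoh_tensor h₁ hTc))
    (hN (CohB1.tensorMod S.X₂ T) (CurveCoh17.isCoh_tensor h₂ hTc))
    (hN (CohB1.tensorMod S.X₃ T) (CurveCoh17.isCoh_tensor h₃ hTc))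

/-- The twisted Euler characteristic of a coherent subobject splits along an extension. -/
theorem twist_euler_pieces {L : X.Modules} (hL : PicF.IsInvertible L) (m : ℕ) {F E G : X.Modules}
    (hG : Coh.IsCoh G) (i : F ⟶ E) (p : E ⟶ G) (w : i ≫ p = 0)
    (hS : (ShortComplex.mk i p w).ShortExact) (P : Subobject E) (hP : Coh.IsCoh (P : X.Modules)) :
    Curv2.euler k X (ShStab.twist X L ((Subobject.pullback i).obj P : X.Modules) m) +
      Curv2.euler k X (ShStab.twist X L (imageSubobject (P.arrow ≫ p) : X.Modules) m) =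
    Curv2.euler k X (ShStab.twist X L (P : X.Modules) m) := by
  haveI : IsNoetherian X := CohFound.isNoetherian_of_isProper (X ↘ (Spec (CommRingCat.of k)))
  haveI : Mono i := hS.mono_f
  have hpb := Subobject.isPullback i P
  let a := Subobject.pullbackπ i P
  haveI : Mono a := ⟨fun u v huv => hpb.hom_ext huv (by
    rw [← cancel_mono i, Category.assoc, Category.assoc, ← hpb.w, ← Category.assoc, ← Category.assoc]
    exact congrArg (· ≫ P.arrow) huv)⟩
  have za : a ≫ P.arrow ≫ p = 0 := by
    rw [← Category.assoc, hpb.w, Category.assoc, w, comp_zero]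
  let g := factorThruImageSubobject (P.arrow ≫ p)
  have zg : a ≫ g = 0 := by
    rw [← cancel_mono (imageSubobject (P.arrow ≫ p)).arrow]
    simp [g, za]
  let K : ShortComplex X.Modules := ShortComplex.mk a g zg
  have hker : IsLimit (KernelFork.ofι a za) := by
    refine KernelFork.IsLimit.ofι _ _ (fun {W} φ hφ => hpb.lift φ
      (hS.exact.lift (φ ≫ P.arrow) (by simpa using hφ)) (hS.exact.lift_f _ _).symm)
      (fun {W} φ hφ => hpb.lift_fst _ _ _) (fun {W} φ hφ b hb => ?_)
    rw [← cancel_mono a]
    exact hb.trans (hpb.lift_fst _ _ _).symm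
  have hK : K.ShortExact :=
    { exact := ShortComplex.exact_of_f_is_kernel K (KernelFork.IsLimit.ofι _ _
        (fun {W} φ hφ => hker.lift (KernelFork.ofι φ (by
          rw [← imageSubobject_arrow_comp (P.arrow ≫ p), ← Category.assoc]
          exact (congrArg (· ≫ (imageSubobject (P.arrow ≫ p)).arrow) hφ).trans zero_comp)))
        (fun {W} φ hφ => hker.fac _ WalkingParallelPair.zero)
        (fun {W} φ hφ b hb => by
          refine Fork.IsLimit.hom_ext hker (hb.trans ?_)
          exact (hker.fac (KernelFork.ofι φ _) WalkingParallelPair.zero).symm))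
      mono_f := inferInstanceAs (Mono a)
      epi_g := inferInstanceAs (Epi g) }
  have h₁ : Coh.IsCoh K.X₁ := CohFound.isCoh_of_iso
    (hker.conePointUniqueUpToIso (kernelIsKernel (P.arrow ≫ p))).symm
    (M1.isCoh_kernel hP hG.1 (P.arrow ≫ p))
  have h₃ : Coh.IsCoh K.X₃ := by
    haveI := hK.mono_f
    haveI := hK.epi_g
    exact CohFound.isCoh_of_iso
      ((cokernelIsCokernel K.f).coconePointUniqueUpToIso hK.gIsCokernel)
      (M1.isCoh_cokernel h₁.1 hP K.f)
  exact (twist_euler_add k X hL m hK h₁ hP h₃).symm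

theorem pieceX_coh {E : X.Modules} (𝓔 : Str E) (hcoh : ∀ j, Coh.IsCoh ((𝓔.piece j : Subobject E) : X.Modules))
    (hbot : Coh.IsCoh ((𝓔.bot : Subobject E) : X.Modules)) (j : Fin (𝓔.l + 2)) :
    Coh.IsCoh ((𝓔.pieceX j : Subobject E) : X.Modules) := by
  induction j using Fin.lastCases with
  | last => rw [Str.pieceX_last]; exact hbot
  | cast j => rw [Str.pieceX_castSucc]; exact hcoh j

theorem pieceX_induced {F E : X.Modules} (i : F ⟶ E) (𝓔 : Str E) (j : Fin (𝓔.l + 2)) :
    (𝓔.induced i).pieceX j = (Subobject.pullback i).obj (𝓔.pieceX j) := by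
  induction j using Fin.lastCases with
  | last => rw [Str.pieceX_last]; exact (𝓔.induced i).pieceX_last
  | cast j => rw [Str.pieceX_castSucc]; exact (𝓔.induced i).pieceX_castSucc j

theorem pieceX_coinduced {E G : X.Modules} (p : E ⟶ G) [Epi p] (𝓔 : Str E) (j : Fin (𝓔.l + 2)) :
    (𝓔.coinduced p).pieceX j = imageSubobject ((𝓔.pieceX j).arrow ≫ p) := by
  induction j using Fin.lastCases with
  | last => rw [Str.pieceX_last]; exact (𝓔.coinduced p).pieceX_last
  | cast j => rw [Str.pieceX_castSucc]; exact (𝓔.coinduced p).pieceX_castSucc j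

end

/-- Let X be a scheme proper over a field k with an ample invertible sheaf L, and 0 → F → E → G → 0 a
short exact sequence of coherent O_X-modules. Let 𝓔 be a finite weighted filtration of E by coherent
sub-modules E = E₀ ⊇ E₁ ⊇ ⋯ ⊇ E_l ⊇ B with B coherent and weights 0 ≤ w₀ < ⋯ < w_l < 1, and give F
the filtration pulled back along F → E and G the image filtration along E → G, so that the sequence
is a parabolic extension. Then for every natural number m the parabolic Hilbert functions are
additive: par-χ(F, m) + par-χ(G, m) = par-χ(E, m), where par-χ(E, m) = χ(B ⊗ L^m) + Σ_j w_j (χ(E_j ⊗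
L^m) − χ(E_{j+1} ⊗ L^m)) with E_{l+1} = B. The published statement is for parabolic sheaves along
effective Cartier divisors D on a projective scheme over an algebraically closed field, with B =
E(−D) and the functions averaged over several divisors; the identity holds for each weighted
filtration separately, over any field and for any coherent bottom piece. -/
theorem result (k : Type u) [Field k] (X : Scheme.{u})
    [X.Over (Spec (CommRingCat.of k))] [IsProper (X ↘ Spec (CommRingCat.of k))]
    (L : X.Modules) (hL : CohB1.IsAmple L) {F E G : X.Modules}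
    (hF : Coh.IsCoh F) (hE : Coh.IsCoh E) (hG : Coh.IsCoh G)
    (i : F ⟶ E) (p : E ⟶ G) [Epi p] (𝓕 : ParSh.Str F) (𝓔 : ParSh.Str E) (𝓖 : ParSh.Str G)
    (hext : ParSh.IsParExt i p 𝓕 𝓔 𝓖)
    (hcoh : ∀ j, Coh.IsCoh ((𝓔.piece j : Subobject E) : X.Modules))
    (hbot : Coh.IsCoh ((𝓔.bot : Subobject E) : X.Modules)) (m : ℕ) :
    𝓕.parHilb k X L m + 𝓖.parHilb k X L m = 𝓔.parHilb k X L m := by
  obtain ⟨w, hS, rfl, rfl⟩ := hext
  have key : ∀ P : Subobject E, Coh.IsCoh (P : X.Modules) →
      (Curv2.euler k X (ShStab.twist X L ((Subobject.pullback i).obj P : X.Modules) m) : ℝ) +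
      (Curv2.euler k X (ShStab.twist X L (imageSubobject (P.arrow ≫ p) : X.Modules) m) : ℝ) =
      (Curv2.euler k X (ShStab.twist X L (P : X.Modules) m) : ℝ) := fun P hP => by
    exact_mod_cast twist_euler_pieces k X hL.1 m hG i p w hS P hP
  unfold ParSh.Str.parHilb ParSh.Str.parSum
  beta_reduce
  rw [← key _ hbot]
  have hj : ∀ j : Fin (𝓔.l + 1), 𝓔.wt j *
      ((Curv2.euler k X (ShStab.twist X L (𝓔.piece j : X.Modules) m) : ℝ) -
        Curv2.euler k X (ShStab.twist X L (𝓔.pieceX j.succ : X.Modules) m)) =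
      𝓔.wt j * ((Curv2.euler k X (ShStab.twist X L ((𝓔.induced i).piece j : X.Modules) m) : ℝ) -
        Curv2.euler k X (ShStab.twist X L ((𝓔.induced i).pieceX j.succ : X.Modules) m)) +
      𝓔.wt j * ((Curv2.euler k X (ShStab.twist X L ((𝓔.coinduced p).piece j : X.Modules) m) : ℝ) -
        Curv2.euler k X (ShStab.twist X L ((𝓔.coinduced p).pieceX j.succ : X.Modules) m)) := fun j => by
    rw [pieceX_induced, pieceX_coinduced, ← key _ (hcoh j),
      ← key _ (pieceX_coh X 𝓔 hcoh hbot j.succ)]
    show _ = 𝓔.wt j * (_ - _) + 𝓔.wt j * (_ - _)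
    rw [← mul_add]
    congr 1
    simp only [Str.induced, Str.coinduced]
    ring
  rw [Finset.sum_congr rfl (fun j _ => hj j), Finset.sum_add_distrib]
  exact add_add_add_comm _ _ _ _

end Groth.Agent.S18524
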