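import Groth.Statements.S18527
import Groth.Agent.Lib.ParHilb12.Induced
-- import your own Groth.Agent.* helpers here

set_option autoImplicit false
set_option backward.isDefEq.respectTransparency false
universe u
open CategoryTheory CategoryTheory.Limits AlgebraicGeometry Polynomial
open ParSh

namespace Groth.Agent.S18527

/-- An upper and a lower bound for the second coefficient of the parabolic Hilbert polynomial. Let X be
a scheme proper over a field k with an ample invertible sheaf L, I the ideal of an effective Cartier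
divisor D on X, and E a coherent O_X-module with a finite weighted filtration 𝓔 along I by coherent
pieces E = E₀ ⊇ ⋯ ⊇ E_l ⊇ E_{l+1} = I·E, weights 0 ≤ w₀ < ⋯ < w_l < 1. Let d ≥ 1 be a natural number
with Supp E ∩ Supp D of topological Krull dimension less than d, P the Hilbert polynomial of E with
respect to L and P_j that of E_j (0 ≤ j ≤ l+1). Then the coefficient of degree d − 1 of the
parabolic Hilbert polynomial P_{l+1} + Σ_{j ≤ l} w_j (P_j − P_{j+1}) is at least the coefficient of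
degree d − 1 of P_{l+1} and at most that of P. For E pure of dimension d this says that the
parabolic slope lies between the slope of E(−D) and the slope of E; the published statement also
gives a lower bound μ(E) − b with b depending only on a bound for the multiplicity of E, on d, D and
L, which is not part of this row. -/
theorem result (k : Type u) [Field k] (X : Scheme.{u})
    [X.Over (Spec (CommRingCat.of k))] [IsProper (X ↘ Spec (CommRingCat.of k))]
    (L : X.Modules) (hL : CohB1.IsAmple L) (I : X.IdealSheafData) (hD : FGA.IsEffCartier I)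
    (E : X.Modules) (hE : Coh.IsCoh E) (𝓔 : ParSh.Str E) (h𝓔 : 𝓔.Along I)
    (hcoh : ∀ j, Coh.IsCoh ((𝓔.pieceX j : Subobject E) : X.Modules)) (d : ℕ) (hd : 1 ≤ d)
    (hsupp : topologicalKrullDim ↥(CohB1.support E ∩ (I.support : Set X)) < (d : WithBot ℕ∞))
    (P : ℚ[X]) (hP : ShStab.IsHilbPoly k X L E P) (PX : Fin (𝓔.l + 2) → ℚ[X])
    (hPX : ∀ j, ShStab.IsHilbPoly k X L ((𝓔.pieceX j : Subobject E) : X.Modules) (PX j)) :
    (W4swparbununimod.rpoly (PX (Fin.last (𝓔.l + 1)))).coeff (d - 1) ≤ (W4swparbununimod.parPoly 𝓔 PX).coeff (d - 1) ∧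
      (W4swparbununimod.parPoly 𝓔 PX).coeff (d - 1) ≤ (W4swparbununimod.rpoly P).coeff (d - 1) := by
  have hdeg : ∀ j, (ShStab28.hilb k X L (cokernel (𝓔.pieceX j).arrow)).natDegree ≤ d - 1 := fun j =>
    ParHilb12.natDegree_le_of_small hL (ParHilb12.ok_cokernel (k := k) _ (hcoh j) hE)
      (ParHilb12.quot_small (k := k) hE 𝓔 hcoh h𝓔 hsupp j)
  set c : Fin (𝓔.l + 2) → ℝ := fun j =>
    ((ShStab28.hilb k X L (cokernel (𝓔.pieceX j).arrow)).coeff (d - 1) : ℝ) with hc
  have hc0 : ∀ j, 0 ≤ c j := fun j => Rat.cast_nonneg.2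
    (ParHilb12.coeff_nonneg hL (ParHilb12.ok_cokernel (k := k) _ (hcoh j) hE) (hdeg j))
  have hmax : ∀ j, c j ≤ c (Fin.last (𝓔.l + 1)) := fun j => by
    obtain ⟨p, hp⟩ := ParHilb12.exists_epi_cokernel
      (show 𝓔.pieceX (Fin.last (𝓔.l + 1)) ≤ 𝓔.pieceX j by rw [𝓔.pieceX_last]; exact 𝓔.bot_le_pieceX j)
    exact Rat.cast_le.2 (ParHilb12.hilb_quot hL p (ParHilb12.ok_cokernel (k := k) _ (hcoh _) hE)
      (ParHilb12.ok_cokernel (k := k) _ (hcoh j) hE) (hdeg _))
  have hP' := ShStab28.hilb_eq k hP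
  have hlast : (ShStab28.hilb k X L (𝓔.pieceX (Fin.last (𝓔.l + 1)) : X.Modules)).coeff (d - 1) =
      P.coeff (d - 1) - (ShStab28.hilb k X L (cokernel (𝓔.pieceX (Fin.last (𝓔.l + 1))).arrow)).coeff (d - 1) := by
    rw [← hP', ← ParHilb12.hilb_piece_add hL hE 𝓔 hcoh (Fin.last (𝓔.l + 1)), Polynomial.coeff_add]
    ring
  rw [ParHilb12.hilb_of 𝓔 hPX, ParHilb12.coeff_parPoly_hilb hL hE 𝓔 hcoh, hP', W4swparbununimod.rpoly,
    W4swparbununimod.rpoly, Polynomial.coeff_map, Polynomial.coeff_map]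
  simp only [eq_ratCast]
  rw [hlast, Rat.cast_sub]
  have hsum : ∑ j : Fin (𝓔.l + 1), (𝓔.wtX j.succ - 𝓔.wtX j.castSucc) * c j.succ ≤ c (Fin.last (𝓔.l + 1)) := by
    refine (Finset.sum_le_sum fun j _ => mul_le_mul_of_nonneg_left (hmax j.succ) (ParHilb12.dw_nonneg 𝓔 j)).trans ?_
    rw [← Finset.sum_mul, ParHilb12.sum_dw, 𝓔.wtX_last, ParHilb12.wtX_zero]
    nlinarith [𝓔.wt_nonneg, hc0 (Fin.last (𝓔.l + 1))]
  have hsum0 : 0 ≤ ∑ j : Fin (𝓔.l + 1), (𝓔.wtX j.succ - 𝓔.wtX j.castSucc) * c j.succ :=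
    Finset.sum_nonneg fun j _ => mul_nonneg (ParHilb12.dw_nonneg 𝓔 j) (hc0 _)
  simp only [hc] at hsum hsum0
  constructor <;> linarith

end Groth.Agent.S18527
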