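import Groth.Statements.S18528
import Groth.Agent.Lib.ParHilb12.Induced
import Groth.Agent.Lib.ShStab28.Stab
-- import your own Groth.Agent.* helpers here

set_option autoImplicit false
set_option backward.isDefEq.respectTransparency false
universe u
open CategoryTheory CategoryTheory.Limits AlgebraicGeometry Polynomial
open ParSh

namespace Groth.Agent.S18528

/-- Reduced parabolic Hilbert polynomials versus parabolic slopes, for one test subsheaf. Let X be a
scheme proper over a field k with an ample invertible sheaf L, I the ideal of an effective Cartier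
divisor D on X, and E a nonzero coherent O_X-module, pure of dimension d ≥ 1, with Supp E ∩ Supp D
of topological Krull dimension less than d, carrying a finite weighted filtration 𝓔 along I by
coherent pieces E = E₀ ⊇ ⋯ ⊇ E_{l+1} = I·E with weights 0 ≤ w₀ < ⋯ < w_l < 1. Let P be the Hilbert
polynomial of E and P_j that of E_j. Let ι : W → E be a monomorphism from a coherent module W, give
W the induced filtration (pieces the preimages of the E_j, same weights) with Hilbert polynomials Q
of W and Q_j of its pieces, and write Par_E = P_{l+1} + Σ_j w_j (P_j − P_{j+1}), Par_W = Q_{l+1} +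
Σ_j w_j (Q_j − Q_{j+1}), α_d for d! times the coefficient of degree d. Then: (i) if Par_W(m)·α_d(P)
≤ Par_E(m)·α_d(Q) for all large natural numbers m, the coefficients of degree d − 1 satisfy
coeff(Par_W)·α_d(P) ≤ coeff(Par_E)·α_d(Q); (ii) if this coefficient inequality is strict, then
Par_W(m)·α_d(P) < Par_E(m)·α_d(Q) for all large m. With W running over the saturated nonzero proper
subsheaves this is the published implication: parabolic semistability for the reduced parabolic
Hilbert polynomial implies parabolic slope-semistability, and parabolic slope-stability implies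
stability for the reduced parabolic Hilbert polynomial. -/
theorem result (k : Type u) [Field k] (X : Scheme.{u})
    [X.Over (Spec (CommRingCat.of k))] [IsProper (X ↘ Spec (CommRingCat.of k))]
    (L : X.Modules) (hL : CohB1.IsAmple L) (I : X.IdealSheafData) (hD : FGA.IsEffCartier I)
    (E : X.Modules) (hE : Coh.IsCoh E) (h0 : ¬ IsZero E) (d : ℕ) (hd : 1 ≤ d)
    (hpure : ShStab.IsPure X E d) (𝓔 : ParSh.Str E) (h𝓔 : 𝓔.Along I)
    (hcoh : ∀ j, Coh.IsCoh ((𝓔.pieceX j : Subobject E) : X.Modules))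
    (hsupp : topologicalKrullDim ↥(CohB1.support E ∩ (I.support : Set X)) < (d : WithBot ℕ∞))
    (P : ℚ[X]) (hP : ShStab.IsHilbPoly k X L E P) (PX : Fin (𝓔.l + 2) → ℚ[X])
    (hPX : ∀ j, ShStab.IsHilbPoly k X L ((𝓔.pieceX j : Subobject E) : X.Modules) (PX j))
    {W : X.Modules} (ι : W ⟶ E) [Mono ι] (hW : Coh.IsCoh W)
    (Q : ℚ[X]) (hQ : ShStab.IsHilbPoly k X L W Q) (QX : Fin (𝓔.l + 2) → ℚ[X])
    (hQX : ∀ j, ShStab.IsHilbPoly k X L (((𝓔.induced ι).pieceX j : Subobject W) : X.Modules) (QX j)) :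
    ((∃ M : ℕ, ∀ m : ℕ, M ≤ m →
        (W4swparbununimod.parPoly (𝓔.induced ι) QX).eval (m : ℝ) * (StabCat.alpha d P : ℝ) ≤
          (W4swparbununimod.parPoly 𝓔 PX).eval (m : ℝ) * (StabCat.alpha d Q : ℝ)) →
      (W4swparbununimod.parPoly (𝓔.induced ι) QX).coeff (d - 1) * (StabCat.alpha d P : ℝ) ≤
        (W4swparbununimod.parPoly 𝓔 PX).coeff (d - 1) * (StabCat.alpha d Q : ℝ)) ∧
    ((W4swparbununimod.parPoly (𝓔.induced ι) QX).coeff (d - 1) * (StabCat.alpha d P : ℝ) <
        (W4swparbununimod.parPoly 𝓔 PX).coeff (d - 1) * (StabCat.alpha d Q : ℝ) →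
      ∃ M : ℕ, ∀ m : ℕ, M ≤ m →
        (W4swparbununimod.parPoly (𝓔.induced ι) QX).eval (m : ℝ) * (StabCat.alpha d P : ℝ) <
          (W4swparbununimod.parPoly 𝓔 PX).eval (m : ℝ) * (StabCat.alpha d Q : ℝ)) := by
  have hsm := ParHilb12.quot_small (k := k) hE 𝓔 hcoh h𝓔 hsupp
  obtain rfl := ParHilb12.hilb_of (𝓔.induced ι) hQX
  obtain rfl := ParHilb12.hilb_of 𝓔 hPX
  obtain rfl := (ShStab28.hilb_eq k hQ).symm
  obtain rfl := (ShStab28.hilb_eq k hP).symm
  have hci := ParHilb12.coh_induced (k := k) hE hW 𝓔 ι hcoh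
  have hEd : (ShStab28.hilb k X L E).natDegree ≤ d :=
    (ShStab28.pure_of_isPure hL.1 (ShStab28.positive k hL) hE hpure).2.1
  have hWd := (ParHilb12.hilb_sub hL ι hW hE hEd).1
  have hd1 : (W4swparbununimod.parPoly (𝓔.induced ι)
      fun j => ShStab28.hilb k X L ((𝓔.induced ι).pieceX j : X.Modules)).natDegree ≤ d :=
    ParHilb12.natDegree_parPoly_le _ fun j =>
      (ParHilb12.hilb_sub hL ((𝓔.induced ι).pieceX j).arrow (hci j) hW hWd).1
  have hd2 : (W4swparbununimod.parPoly 𝓔 fun j => ShStab28.hilb k X L (𝓔.pieceX j : X.Modules)).natDegree ≤ d :=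
    ParHilb12.natDegree_parPoly_le _ fun j => (ParHilb12.hilb_sub hL (𝓔.pieceX j).arrow (hcoh j) hE hEd).1
  have ht1 : (W4swparbununimod.parPoly (𝓔.induced ι)
      fun j => ShStab28.hilb k X L ((𝓔.induced ι).pieceX j : X.Modules)).coeff d =
      ((ShStab28.hilb k X L W).coeff d : ℝ) := by
    rw [ParHilb12.coeff_parPoly_hilb (k := k) hL hW (𝓔.induced ι) hci]
    rw [Finset.sum_eq_zero fun j _ => ?_, sub_zero]
    rw [ParHilb12.coeff_eq_zero_of_small hL (ParHilb12.ok_cokernel (k := k) _ (hci j.succ) hW)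
      (ParHilb12.quot_induced_small (k := k) hE hW 𝓔 ι hcoh (hsm j.succ)) le_rfl, Rat.cast_zero, mul_zero]
  have ht2 : (W4swparbununimod.parPoly 𝓔 fun j => ShStab28.hilb k X L (𝓔.pieceX j : X.Modules)).coeff d =
      ((ShStab28.hilb k X L E).coeff d : ℝ) := by
    rw [ParHilb12.coeff_parPoly_hilb (k := k) hL hE 𝓔 hcoh]
    rw [Finset.sum_eq_zero fun j _ => ?_, sub_zero]
    rw [ParHilb12.coeff_eq_zero_of_small hL (ParHilb12.ok_cokernel (k := k) _ (hcoh j.succ) hE) (hsm j.succ) le_rfl,
      Rat.cast_zero, mul_zero]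
  generalize W4swparbununimod.parPoly (𝓔.induced ι) _ = p at hd1 ht1 ⊢
  generalize W4swparbununimod.parPoly 𝓔 _ = q at hd2 ht2 ⊢
  generalize hα : (StabCat.alpha d (ShStab28.hilb k X L E) : ℝ) = a
  generalize hβ : (StabCat.alpha d (ShStab28.hilb k X L W) : ℝ) = b
  have he : (p * Polynomial.C a).coeff d = (q * Polynomial.C b).coeff d := by
    rw [Polynomial.coeff_mul_C, Polynomial.coeff_mul_C, ht1, ht2, ← hα, ← hβ]
    simp only [StabCat.alpha, Rat.cast_mul, Rat.cast_natCast]
    ring
  have h1 := (Polynomial.natDegree_mul_C_le p a).trans hd1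
  have h2 := (Polynomial.natDegree_mul_C_le q b).trans hd2
  have e1 : ∀ m : ℕ, p.eval (m : ℝ) * a = (p * Polynomial.C a).eval (m : ℝ) := fun m => by simp
  have e2 : ∀ m : ℕ, q.eval (m : ℝ) * b = (q * Polynomial.C b).eval (m : ℝ) := fun m => by simp
  rw [← Polynomial.coeff_mul_C, ← Polynomial.coeff_mul_C]
  simp only [e1, e2]
  exact ⟨ParHilb12.coeff_pred_le h1 h2 he, ParHilb12.eventually_lt_of_coeff_pred h1 h2 he⟩

end Groth.Agent.S18528
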