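import Groth.Statements.S18529
import Groth.Agent.Lib.ParHilb12.KerImage
-- import your own Groth.Agent.* helpers here

set_option autoImplicit false
set_option maxHeartbeats 1600000
set_option backward.isDefEq.respectTransparency false
universe u
open CategoryTheory CategoryTheory.Limits AlgebraicGeometry Polynomial
open ParSh

namespace Groth.Agent.S18529

/-- Kernel and image of a parabolic homomorphism between semistable parabolic sheaves with the same
reduced parabolic Hilbert polynomial, for one divisor. Let X be a scheme proper over a field k with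
an ample invertible sheaf L, I the ideal of an effective Cartier divisor D on X, and d ≥ 1. Let E
and F be nonzero coherent O_X-modules, pure of dimension d, with Supp E ∩ Supp D and Supp F ∩ Supp D
of topological Krull dimension less than d, carrying finite weighted filtrations 𝓔 and 𝓕 along I by
coherent pieces, with the same set of weights and with smallest weight positive. Let P and R be the
Hilbert polynomials of E and F, P_j and R_j those of the pieces, and Par_E = P_{l+1} + Σ_j w_j (P_j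
− P_{j+1}), Par_F likewise; α_d denotes d! times the coefficient of degree d. Assume both filtered
sheaves are semistable for the reduced parabolic Hilbert polynomial: for every nonzero coherent
sub-module W → E whose cokernel is pure of dimension d or zero, with its induced filtration and any
Hilbert polynomials Q of W and Q_j of its pieces, Par_W(m)·α_d(P) ≤ Par_E(m)·α_d(Q) for all large
natural m (and the same for F); and assume Par_E·α_d(R) = Par_F·α_d(P). Let f : E → F be a parabolic
homomorphism, j : K → E a monomorphism with 0 → K → E → F exact at E, and f = q ≫ u with q : E → V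
an epimorphism and u : V → F a monomorphism. Then: (1) for all Hilbert polynomials Q_K of K and
Q_{K,j} of the pieces of the filtration induced on K, Par_K·α_d(P) = Par_E·α_d(Q_K) (the kernel has
the same reduced parabolic Hilbert polynomial); (2) the cokernel of u is pure of dimension d or zero
(the image of f is saturated in F); (3) for every real a with 0 ≤ a ≤ 1, the a-th piece of the
filtration induced on V as a quotient of E equals the a-th piece of the filtration induced on V as a
sub-module of F. The published statement is phrased for parabolic sheaves along several divisors on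
the fibres of a projective X → S over an algebraically closed field and concludes that such sheaves
form an abelian category; this row is the absolute one-divisor case of the kernel and image steps of
its proof, with semistability tested on saturated sub-modules carrying the induced filtration. -/
theorem result (k : Type u) [Field k] (X : Scheme.{u})
    [X.Over (Spec (CommRingCat.of k))] [IsProper (X ↘ Spec (CommRingCat.of k))]
    (L : X.Modules) (hL : CohB1.IsAmple L) (I : X.IdealSheafData) (hD : FGA.IsEffCartier I) (d : ℕ) (hd : 1 ≤ d)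
    {E F : X.Modules} (hE : Coh.IsCoh E) (hF : Coh.IsCoh F) (hE0 : ¬ IsZero E) (hF0 : ¬ IsZero F)
    (hEp : ShStab.IsPure X E d) (hFp : ShStab.IsPure X F d)
    (hEs : topologicalKrullDim ↥(CohB1.support E ∩ (I.support : Set X)) < (d : WithBot ℕ∞))
    (hFs : topologicalKrullDim ↥(CohB1.support F ∩ (I.support : Set X)) < (d : WithBot ℕ∞))
    (𝓔 : ParSh.Str E) (h𝓔 : 𝓔.Along I) (𝓕 : ParSh.Str F) (h𝓕 : 𝓕.Along I)
    (hcE : ∀ j, Coh.IsCoh ((𝓔.pieceX j : Subobject E) : X.Modules))
    (hcF : ∀ j, Coh.IsCoh ((𝓕.pieceX j : Subobject F) : X.Modules))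
    (hw : Set.range 𝓕.wt = Set.range 𝓔.wt) (hw0 : 0 < 𝓔.wt 0)
    (P R : ℚ[X]) (hP : ShStab.IsHilbPoly k X L E P) (hR : ShStab.IsHilbPoly k X L F R)
    (PX : Fin (𝓔.l + 2) → ℚ[X]) (hPX : ∀ j, ShStab.IsHilbPoly k X L ((𝓔.pieceX j : Subobject E) : X.Modules) (PX j))
    (RX : Fin (𝓕.l + 2) → ℚ[X]) (hRX : ∀ j, ShStab.IsHilbPoly k X L ((𝓕.pieceX j : Subobject F) : X.Modules) (RX j))
    (hssE : (∀ (W : X.Modules) (ι : W ⟶ E), Mono ι → Coh.IsCoh W → ¬ IsZero W → ShStab.IsPure X (cokernel ι) d →
        ∀ (Q : ℚ[X]) (QX : Fin (𝓔.l + 2) → ℚ[X]), ShStab.IsHilbPoly k X L W Q →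
          (∀ j, ShStab.IsHilbPoly k X L (((𝓔.induced ι).pieceX j : Subobject W) : X.Modules) (QX j)) →
          ∃ M : ℕ, ∀ m : ℕ, M ≤ m →
            (W4swparbununimod.parPoly (𝓔.induced ι) QX).eval (m : ℝ) * (StabCat.alpha d P : ℝ) ≤
              (W4swparbununimod.parPoly 𝓔 PX).eval (m : ℝ) * (StabCat.alpha d Q : ℝ)))
    (hssF : (∀ (W : X.Modules) (ι : W ⟶ F), Mono ι → Coh.IsCoh W → ¬ IsZero W → ShStab.IsPure X (cokernel ι) d →
        ∀ (Q : ℚ[X]) (QX : Fin (𝓕.l + 2) → ℚ[X]), ShStab.IsHilbPoly k X L W Q →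
          (∀ j, ShStab.IsHilbPoly k X L (((𝓕.induced ι).pieceX j : Subobject W) : X.Modules) (QX j)) →
          ∃ M : ℕ, ∀ m : ℕ, M ≤ m →
            (W4swparbununimod.parPoly (𝓕.induced ι) QX).eval (m : ℝ) * (StabCat.alpha d R : ℝ) ≤
              (W4swparbununimod.parPoly 𝓕 RX).eval (m : ℝ) * (StabCat.alpha d Q : ℝ)))
    (hred : W4swparbununimod.parPoly 𝓔 PX * Polynomial.C (StabCat.alpha d R : ℝ) =
      W4swparbununimod.parPoly 𝓕 RX * Polynomial.C (StabCat.alpha d P : ℝ))
    (f : E ⟶ F) (hf : ParSh.IsParHom 𝓔 𝓕 f)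
    {K V : X.Modules} (j : K ⟶ E) [Mono j] (w : j ≫ f = 0) (hex : (ShortComplex.mk j f w).Exact)
    (q : E ⟶ V) [Epi q] (u : V ⟶ F) [Mono u] (hqu : q ≫ u = f) :
    (∀ (QK : ℚ[X]) (QKX : Fin (𝓔.l + 2) → ℚ[X]), ShStab.IsHilbPoly k X L K QK →
        (∀ j', ShStab.IsHilbPoly k X L (((𝓔.induced j).pieceX j' : Subobject K) : X.Modules) (QKX j')) →
        W4swparbununimod.parPoly (𝓔.induced j) QKX * Polynomial.C (StabCat.alpha d P : ℝ) =
          W4swparbununimod.parPoly 𝓔 PX * Polynomial.C (StabCat.alpha d QK : ℝ)) ∧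
    ShStab.IsPure X (cokernel u) d ∧
    (∀ a : ℝ, 0 ≤ a → a ≤ 1 → (𝓔.coinduced q).at a = (𝓕.induced u).at a) := by
  obtain ⟨pc, b, h0, ha, hb, rfl⟩ := ParHilb12.exists_shape 𝓔 𝓕 hw
  obtain rfl := ParHilb12.hilb_of 𝓔 hPX
  obtain rfl := ParHilb12.hilb_of (ParHilb12.shape 𝓔 pc b h0 ha hb) hRX
  obtain rfl := (ShStab28.hilb_eq k hP).symm
  obtain rfl := (ShStab28.hilb_eq k hR).symm
  subst hqu
  have hpos := ShStab28.positive k hL
  have hspec : ∀ {G : AlgebraicGeometry.Scheme.Modules X}, Coh.IsCoh G →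
      ShStab.IsHilbPoly k X L G (ShStab28.hilb k X L G) := fun hG => ShStab28.hilb_spec k hL.1 hG
  have hSE := ShStab28.pure_of_isPure hL.1 hpos hE hEp
  have hSF := ShStab28.pure_of_isPure hL.1 hpos hF hFp
  have wq : j ≫ q = 0 := by rw [← cancel_mono u, Category.assoc, w, Limits.zero_comp]
  have hexq : (ShortComplex.mk j q wq).Exact := by
    let φ : ShortComplex.mk j q wq ⟶ ShortComplex.mk j (q ≫ u) w := { τ₁ := 𝟙 _, τ₂ := 𝟙 _, τ₃ := u }
    haveI : Epi φ.τ₁ := inferInstanceAs (Epi (𝟙 _))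
    haveI : IsIso φ.τ₂ := inferInstanceAs (IsIso (𝟙 _))
    haveI : Mono φ.τ₃ := inferInstanceAs (Mono u)
    exact (ShortComplex.exact_iff_of_epi_of_isIso_of_mono φ).2 hex
  have hS : (ShortComplex.mk j q wq).ShortExact :=
    { exact := hexq, mono_f := inferInstance, epi_g := inferInstance }
  haveI : Mono (ShortComplex.mk j (q ≫ u) w).f := inferInstanceAs (Mono j)
  have hK : Coh.IsCoh K := CohFound.isCoh_of_iso
    (IsLimit.conePointUniqueUpToIso hex.fIsKernel (kernelIsKernel (q ≫ u))).symm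
    (ParHilb12.ok_kernel (k := k) _ hE hF)
  let eV : cokernel j ≅ V := IsColimit.coconePointUniqueUpToIso (cokernelIsCokernel j) hS.gIsCokernel
  have hV : Coh.IsCoh V := CohFound.isCoh_of_iso eV (ParHilb12.ok_cokernel (k := k) j hK hE)
  have hSV := hSF.sub u hV
  have hcK := ParHilb12.coh_induced (k := k) hE hK 𝓔 j hcE
  have hsplit := fun i => ParHilb12.hilb_split (k := k) hL j q wq hexq (𝓔.pieceX i) (hcE i) hV
  have hcI := ParHilb12.coh_induced (k := k) hF hV (ParHilb12.shape 𝓔 pc b h0 ha hb) u hcF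
  set Kf : Fin (𝓔.l + 2) → Polynomial ℚ := fun i =>
    ShStab28.hilb k X L ((𝓔.induced j).pieceX i : AlgebraicGeometry.Scheme.Modules X) with hKf
  set Cf : Fin (𝓔.l + 2) → Polynomial ℚ := fun i =>
    ShStab28.hilb k X L ((imageSubobject ((𝓔.pieceX i).arrow ≫ q) : Subobject V) : AlgebraicGeometry.Scheme.Modules X)
    with hCf
  set If : Fin (𝓔.l + 2) → Polynomial ℚ := fun i =>
    ShStab28.hilb k X L (((ParHilb12.shape 𝓔 pc b h0 ha hb).induced u).pieceX i : AlgebraicGeometry.Scheme.Modules X)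
    with hIf
  have hci : ∀ i, imageSubobject ((𝓔.pieceX i).arrow ≫ q) ≤
      ((ParHilb12.shape 𝓔 pc b h0 ha hb).induced u).pieceX i := fun i => by
    rw [ParHilb12.pieceX_induced]
    have h := ParHilb12.factors_pieceX 𝓔 pc b h0 ha hb (q ≫ u) hf i
    exact imageSubobject_le _ ((Subobject.isPullback u _).lift
      (Subobject.factorThru _ _ h) ((𝓔.pieceX i).arrow ≫ q)
      ((Subobject.factorThru_arrow _ _ h).trans (Category.assoc _ _ _).symm))
      ((Subobject.isPullback u _).lift_snd _ _ _)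
  obtain ⟨V', u', hu', hV', ⟨φ, hφ⟩, hαV, -, hsat⟩ := ShStab28.Sys.exists_saturation _ hSF u hV
  haveI := hu'
  haveI : Mono φ := mono_of_mono_fac hφ
  have hcI' := ParHilb12.coh_induced (k := k) hF hV' (ParHilb12.shape 𝓔 pc b h0 ha hb) u' hcF
  set If' : Fin (𝓔.l + 2) → Polynomial ℚ := fun i =>
    ShStab28.hilb k X L (((ParHilb12.shape 𝓔 pc b h0 ha hb).induced u').pieceX i : AlgebraicGeometry.Scheme.Modules X)
    with hIf'
  have l1 : ∀ i, StabCat.PolyLE (Cf i) (If i) := fun i =>
    ParHilb12.polyLE_of_le (k := k) hL (hci i) (hsplit i).1 (hcI i)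
  have l2 : ∀ i, StabCat.PolyLE (If i) (If' i) := fun i => by
    have e := ParHilb12.pieceX_induced_induced (ParHilb12.shape 𝓔 pc b h0 ha hb) u φ u' hφ i
    let a := eqToHom (congrArg (fun A : Subobject V => (A : AlgebraicGeometry.Scheme.Modules X)) e) ≫
      Subobject.pullbackπ φ _
    haveI : Mono (Subobject.pullbackπ φ (((ParHilb12.shape 𝓔 pc b h0 ha hb).induced u').pieceX i)) :=
      ⟨fun x y hxy => (Subobject.isPullback φ _).hom_ext hxy ((cancel_mono φ).1 (by
        rw [Category.assoc, Category.assoc, ← (Subobject.isPullback φ _).w, ← Category.assoc, hxy,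
          Category.assoc]))⟩
    exact ParHilb12.eval_hilb_sub (k := k) hL a (hcI i) (hcI' i)
  set αP : ℝ := (StabCat.alpha d (ShStab28.hilb k X L E) : ℝ) with hαP
  set αR : ℝ := (StabCat.alpha d (ShStab28.hilb k X L F) : ℝ) with hαR
  set αK : ℝ := (StabCat.alpha d (ShStab28.hilb k X L K) : ℝ) with hαK
  set αW : ℝ := (StabCat.alpha d (ShStab28.hilb k X L V) : ℝ) with hαW
  have hP0 : 0 < αP := Rat.cast_pos.2 (hSE.alpha_pos hE0)
  have hR0 : 0 < αR := Rat.cast_pos.2 (hSF.alpha_pos hF0)
  have hαsum : αP = αK + αW := by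
    rw [hαP, hαK, hαW, ← Rat.cast_add, ← ShStab28.alpha_add]
    have h : ShStab28.hilb k X L E = ShStab28.hilb k X L K + ShStab28.hilb k X L V :=
      ShStab28.hilb_add (S := ShortComplex.mk j q wq) k hL.1 hS hK hE hV
    rw [h]
  set pE := W4swparbununimod.parPoly 𝓔 fun i => ShStab28.hilb k X L (𝓔.pieceX i : AlgebraicGeometry.Scheme.Modules X)
    with hpE
  set pF := W4swparbununimod.parPoly 𝓔 fun i => ShStab28.hilb k X L
    ((ParHilb12.shape 𝓔 pc b h0 ha hb).pieceX i : AlgebraicGeometry.Scheme.Modules X) with hpF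
  have hred' : pE * Polynomial.C αR = pF * Polynomial.C αP := hred
  have hadd : pE = W4swparbununimod.parPoly 𝓔 Kf + W4swparbununimod.parPoly 𝓔 Cf := by
    have he : (fun i => ShStab28.hilb k X L (𝓔.pieceX i : AlgebraicGeometry.Scheme.Modules X)) =
        fun i => Kf i + Cf i := funext fun i => (hsplit i).2.trans (by simp only [hKf, hCf, ParHilb12.pieceX_induced])
    simp only [hpE, he, ParHilb12.parPoly_eq_pieces, W4swparbununimod.rpoly, Polynomial.map_add, mul_add,
      Finset.sum_add_distrib]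
    abel
  have zero_par : ∀ {G : AlgebraicGeometry.Scheme.Modules X} (A : Fin (𝓔.l + 2) → Subobject G), IsZero G →
      W4swparbununimod.parPoly 𝓔 (fun i => ShStab28.hilb k X L (A i : AlgebraicGeometry.Scheme.Modules X)) = 0 ∧
        ShStab28.hilb k X L G = 0 := fun {G} A hG => by
    have hz : ∀ i, ShStab28.hilb k X L (A i : AlgebraicGeometry.Scheme.Modules X) = 0 := fun i =>
      (ParHilb12.S₀ (k := k) hL).hp_zero (IsZero.of_mono (A i).arrow hG)
    refine ⟨?_, (ParHilb12.S₀ (k := k) hL).hp_zero hG⟩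
    simp [ParHilb12.parPoly_eq_pieces, hz, W4swparbununimod.rpoly]
  have h1 : ParHilb12.EvLE (W4swparbununimod.parPoly 𝓔 Kf * Polynomial.C αP) (pE * Polynomial.C αK) := by
    by_cases hK0 : IsZero K
    · obtain ⟨z1, z2⟩ := zero_par (fun i => (𝓔.induced j).pieceX i) hK0
      refine ⟨0, fun m _ => ?_⟩
      have z1' : W4swparbununimod.parPoly 𝓔 Kf = 0 := z1
      have z2' : αK = 0 := by rw [hαK, z2]; simp [StabCat.alpha]
      simp [z1', z2']
    have hcp : ShStab.IsPure X (cokernel j) d := fun G g hg hG hG0 =>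
      ShStab28.isPure_of_pure hL.1 hpos hSV G (g ≫ eV.hom) (mono_comp g eV.hom) hG hG0
    obtain ⟨M, hM⟩ := hssE K j inferInstance hK hK0 hcp _ Kf (hspec hK) (fun i => hspec (hcK i))
    exact ⟨M, fun m hm => by rw [Polynomial.eval_mul, Polynomial.eval_C, Polynomial.eval_mul, Polynomial.eval_C]; exact hM m hm⟩
  have h2 : ParHilb12.EvLE (W4swparbununimod.parPoly 𝓔 If' * Polynomial.C αR) (pF * Polynomial.C αW) := by
    have hαW' : αW = (StabCat.alpha d (ShStab28.hilb k X L V') : ℝ) := by
      rw [hαW]; exact congrArg _ hαV.symm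
    by_cases hV0 : IsZero V'
    · obtain ⟨z1, z2⟩ := zero_par (fun i => ((ParHilb12.shape 𝓔 pc b h0 ha hb).induced u').pieceX i) hV0
      refine ⟨0, fun m _ => ?_⟩
      have z1' : W4swparbununimod.parPoly 𝓔 If' = 0 := z1
      have z2' : αW = 0 := by rw [hαW', z2]; simp [StabCat.alpha]
      simp [z1', z2']
    obtain ⟨M, hM⟩ := hssF V' u' hu' hV' hV0 (ShStab28.isPure_of_pure hL.1 hpos hsat) _ If' (hspec hV')
      (fun i => hspec (hcI' i))
    refine ⟨M, fun m hm => ?_⟩
    rw [hαW']
    exact le_of_eq_of_le (by rw [Polynomial.eval_mul, Polynomial.eval_C]; rfl)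
      ((hM m hm).trans (le_of_eq (by rw [Polynomial.eval_mul, Polynomial.eval_C]; rfl)))
  have a3 := ParHilb12.parPoly_mono 𝓔 l1
  have a4 := ParHilb12.parPoly_mono 𝓔 l2
  have h5 : ParHilb12.EvLE (W4swparbununimod.parPoly 𝓔 If') (W4swparbununimod.parPoly 𝓔 Cf) := by
    refine ParHilb12.EvLE.of_mul_C (mul_pos hR0 hP0) ?_
    obtain ⟨M₁, g1⟩ := h1
    obtain ⟨M₂, g2⟩ := h2
    refine ⟨max M₁ M₂, fun m hm => ?_⟩
    have e1 := g1 m (le_of_max_le_left hm)
    have e2 := g2 m (le_of_max_le_right hm)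
    have e3 := congrArg (Polynomial.eval (m : ℝ)) hred'
    have e4 := congrArg (Polynomial.eval (m : ℝ)) hadd
    simp only [Polynomial.eval_mul, Polynomial.eval_C, Polynomial.eval_add] at e1 e2 e3 e4 ⊢
    have e2' := mul_le_mul_of_nonneg_right e2 hP0.le
    have e1' := mul_le_mul_of_nonneg_right e1 hR0.le
    linear_combination e2' + e1' - αW * e3 + αR * αP * e4 - Polynomial.eval (m : ℝ) pE * αR * hαsum
  have eCI : W4swparbununimod.parPoly 𝓔 Cf = W4swparbununimod.parPoly 𝓔 If :=
    a3.antisymm (a4.trans h5)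
  have eII : W4swparbununimod.parPoly 𝓔 If = W4swparbununimod.parPoly 𝓔 If' :=
    a4.antisymm (h5.trans a3)
  have fCI := ParHilb12.parPoly_rigid 𝓔 hw0 l1 eCI
  have fII := ParHilb12.parPoly_rigid 𝓔 hw0 l2 eII
  have hKeq : W4swparbununimod.parPoly 𝓔 Kf * Polynomial.C αP = pE * Polynomial.C αK := by
    refine h1.antisymm ?_
    obtain ⟨M₂, g2⟩ := h2
    refine ⟨M₂, fun m hm => le_of_mul_le_mul_right ?_ hR0⟩
    have e2 := g2 m hm
    have e3 := congrArg (Polynomial.eval (m : ℝ)) hred'
    have e4 := congrArg (Polynomial.eval (m : ℝ)) hadd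
    rw [← eII, ← eCI] at e2
    simp only [Polynomial.eval_mul, Polynomial.eval_C, Polynomial.eval_add] at e2 e3 e4 ⊢
    have e2' := mul_le_mul_of_nonneg_right e2 hP0.le
    linear_combination e2' - αW * e3 + αR * αP * e4 - Polynomial.eval (m : ℝ) pE * αR * hαsum
  refine ⟨fun QK QKX hQK hQKX => ?_, ?_, ?_⟩
  · obtain rfl := ParHilb12.hilb_of (𝓔.induced j) hQKX
    obtain rfl := (ShStab28.hilb_eq k hQK).symm
    exact hKeq
  · have hz : ((ParHilb12.shape 𝓔 pc b h0 ha hb).induced u).pieceX 0 = ⊤ :=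
      ParHilb12.pieceX_zero _
    have hz' : ((ParHilb12.shape 𝓔 pc b h0 ha hb).induced u').pieceX 0 = ⊤ :=
      ParHilb12.pieceX_zero _
    have e0 : ShStab28.hilb k X L V = ShStab28.hilb k X L V' := by
      have := congrFun fII 0
      simp only [hIf, hIf', hz, hz'] at this
      rw [← show ShStab28.hilb k X L ((⊤ : Subobject V) : AlgebraicGeometry.Scheme.Modules X) =
        ShStab28.hilb k X L V from (ParHilb12.S₀ (k := k) hL).hp_top_sub hV,
        ← show ShStab28.hilb k X L ((⊤ : Subobject V') : AlgebraicGeometry.Scheme.Modules X) =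
        ShStab28.hilb k X L V' from (ParHilb12.S₀ (k := k) hL).hp_top_sub hV']
      exact this
    haveI := (ParHilb12.S₀ (k := k) hL).isIso_of_hp φ hV hV' e0
    let ec : cokernel u ≅ cokernel u' := cokernel.mapIso _ _ (asIso φ) (Iso.refl _) (by simp [hφ])
    exact fun G g hg hG hG0 =>
      ShStab28.isPure_of_pure hL.1 hpos hsat G (g ≫ ec.hom) (mono_comp g ec.hom) hG hG0
  · intro a _ _
    have he : ∀ i, imageSubobject ((𝓔.pieceX i).arrow ≫ q) =
        ((ParHilb12.shape 𝓔 pc b h0 ha hb).induced u).pieceX i := fun i =>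
      ParHilb12.eq_of_hilb (k := k) hL (hci i) (hsplit i).1 (hcI i) (congrFun fCI i)
    refine ParHilb12.at_congr ((ParHilb12.shape 𝓔 pc b h0 ha hb).induced u) (𝓔.coinduced q) rfl
      (fun i => ⟨rfl, ?_⟩) ?_ a
    · have h := he i.castSucc
      rw [𝓔.pieceX_castSucc] at h
      exact h.trans (((ParHilb12.shape 𝓔 pc b h0 ha hb).induced u).pieceX_castSucc i)
    · have h := he (Fin.last (𝓔.l + 1))
      rw [𝓔.pieceX_last] at h
      exact h.trans ((ParHilb12.shape 𝓔 pc b h0 ha hb).induced u).pieceX_last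

end Groth.Agent.S18529
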