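import Groth.Statements.S18530
import Groth.Agent.Lib.ParHilb12.Induced
-- import your own Groth.Agent.* helpers here

set_option autoImplicit false
set_option backward.isDefEq.respectTransparency false
universe u
open CategoryTheory CategoryTheory.Limits AlgebraicGeometry Polynomial
open ParSh

namespace Groth.Agent.S18530

/-- The two leading coefficients of the first modified parabolic Hilbert polynomial. Let X be a scheme
proper over a field k with an ample invertible sheaf L, I the ideal of an effective Cartier divisor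
D on X, and E a coherent O_X-module with a finite weighted filtration 𝓔 along I by coherent pieces E
= E₀ ⊇ ⋯ ⊇ E_{l+1} = I·E, weights 0 ≤ w₀ < ⋯ < w_l < 1 and w_{l+1} := 1. Let d ≥ 1 with Supp E ∩
Supp D of topological Krull dimension less than d, and let H_j be the Hilbert polynomial of E/E_j,
with α_{d−1}(H_j) ≠ 0 for 1 ≤ j ≤ l+1 (α_i(H) = i!·coefficient of degree i), the numerical type of
𝓔. Let ι : W → E be a monomorphism from a coherent module W, with induced filtration W_j = W ∩ E_j,
Q the Hilbert polynomial of W, Q_j that of W_j and K_j that of W/W_j. Then the first modified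
parabolic polynomial par-P₁(W ⊂ E) := Q − Σ_{j=1}^{l+1} (w_j −
w_{j−1})·(α_{d−1}(K_j)/α_{d−1}(H_j))·H_j and the parabolic polynomial par-P₀(W) := Q_{l+1} + Σ_{j ≤
l} w_j (Q_j − Q_{j+1}) have the same coefficient in degree d and the same coefficient in degree d −
1. The published statement adds the consequences that p₁-semistability implies parabolic
slope-semistability and parabolic slope-stability implies p₁-stability, which are not part of this
row. -/
theorem result (k : Type u) [Field k] (X : Scheme.{u})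
    [X.Over (Spec (CommRingCat.of k))] [IsProper (X ↘ Spec (CommRingCat.of k))]
    (L : X.Modules) (hL : CohB1.IsAmple L) (I : X.IdealSheafData) (hD : FGA.IsEffCartier I)
    (E : X.Modules) (hE : Coh.IsCoh E) (𝓔 : ParSh.Str E) (h𝓔 : 𝓔.Along I)
    (hcoh : ∀ j, Coh.IsCoh ((𝓔.pieceX j : Subobject E) : X.Modules)) (d : ℕ) (hd : 1 ≤ d)
    (hsupp : topologicalKrullDim ↥(CohB1.support E ∩ (I.support : Set X)) < (d : WithBot ℕ∞))
    (H : Fin (𝓔.l + 2) → ℚ[X]) (hH : ∀ j, ShStab.IsHilbPoly k X L (cokernel (𝓔.pieceX j).arrow) (H j))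
    (hHa : ∀ j : Fin (𝓔.l + 1), StabCat.alpha (d - 1) (H j.succ) ≠ 0)
    {W : X.Modules} (ι : W ⟶ E) [Mono ι] (hW : Coh.IsCoh W)
    (Q : ℚ[X]) (hQ : ShStab.IsHilbPoly k X L W Q) (QX : Fin (𝓔.l + 2) → ℚ[X])
    (hQX : ∀ j, ShStab.IsHilbPoly k X L (((𝓔.induced ι).pieceX j : Subobject W) : X.Modules) (QX j))
    (QH : Fin (𝓔.l + 2) → ℚ[X])
    (hQH : ∀ j, ShStab.IsHilbPoly k X L (cokernel ((𝓔.induced ι).pieceX j).arrow) (QH j)) :
    (W4swparbununimod.parPolyOne 𝓔 d Q QH H).coeff d = (W4swparbununimod.parPoly (𝓔.induced ι) QX).coeff d ∧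
      (W4swparbununimod.parPolyOne 𝓔 d Q QH H).coeff (d - 1) =
        (W4swparbununimod.parPoly (𝓔.induced ι) QX).coeff (d - 1) := by
  have hsm := ParHilb12.quot_small (k := k) hE 𝓔 hcoh h𝓔 hsupp
  obtain rfl := ParHilb12.hilb_of_quot 𝓔 hH
  obtain rfl := ParHilb12.hilb_of_quot (𝓔.induced ι) hQH
  obtain rfl := ParHilb12.hilb_of (𝓔.induced ι) hQX
  obtain rfl := (ShStab28.hilb_eq k hQ).symm
  have hci := ParHilb12.coh_induced (k := k) hE hW 𝓔 ι hcoh
  have e := ParHilb12.coeff_parPoly_hilb (k := k) hL hW (𝓔.induced ι) hci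
  refine ⟨?_, ?_⟩ <;> rw [e, W4swparbununimod.parPolyOne, Polynomial.coeff_sub, Polynomial.finset_sum_coeff,
      W4swparbununimod.rpoly, Polynomial.coeff_map] <;>
    refine congrArg₂ (· - ·) rfl (Finset.sum_congr rfl fun j _ => ?_) <;>
    simp only [ParHilb12.wtX_induced, W4swparbununimod.rpoly, Polynomial.coeff_C_mul, Polynomial.coeff_map, eq_ratCast]
  · rw [ParHilb12.coeff_eq_zero_of_small hL (ParHilb12.ok_cokernel (k := k) _ (hcoh j.succ) hE) (hsm j.succ) le_rfl,
      Rat.cast_zero, mul_zero]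
    symm
    refine mul_eq_zero_of_right _ (Rat.cast_eq_zero.2 ?_)
    exact ParHilb12.coeff_eq_zero_of_small hL
      (ParHilb12.ok_cokernel (k := k) _ (hci j.succ) hW)
      (ParHilb12.quot_induced_small (k := k) hE hW 𝓔 ι hcoh (hsm j.succ)) le_rfl
  · rw [mul_assoc, ← Rat.cast_mul]
    congr 2
    have h := hHa j
    simp only [StabCat.alpha] at h ⊢
    obtain ⟨hf, hc⟩ := mul_ne_zero_iff.1 h
    rw [mul_div_mul_left _ _ hf, div_mul_cancel₀ _ hc]

end Groth.Agent.S18530
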