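import Groth.Statements.S18532
import Groth.Agent.Lib.ParHilb12.Induced
import Groth.Agent.Lib.ShStab28.Stab
-- import your own Groth.Agent.* helpers here

set_option autoImplicit false
set_option backward.isDefEq.respectTransparency false
universe u
open CategoryTheory CategoryTheory.Limits AlgebraicGeometry Polynomial
open ParSh

namespace Groth.Agent.S18532

/-- The comparison of the second and first modified parabolic Hilbert polynomials for one test subsheaf.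
Let X be a scheme proper over a field k with an ample invertible sheaf L, I the ideal of an
effective Cartier divisor D on X, d ≥ 1, and E a nonzero coherent O_X-module, pure of dimension d,
with Supp E ∩ Supp D of topological Krull dimension less than d, carrying a finite weighted
filtration 𝓔 along I by coherent pieces E = E₀ ⊇ ⋯ ⊇ E_{l+1} = I·E, weights 0 ≤ w₀ < ⋯ < w_l < 1,
w_{l+1} := 1. Let P be the Hilbert polynomial of E, P_j of E_j, H_j of E/E_j with α_{d−1}(H_j) ≠ 0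
for 1 ≤ j ≤ l+1, and Par_E = P_{l+1} + Σ_j w_j (P_j − P_{j+1}). Let ι : W → E be a monomorphism from
a coherent module W with induced filtration W_j = W ∩ E_j, Q the Hilbert polynomial of W and K_j
that of W/W_j; put par-P₁(W ⊂ E) = Q − Σ_{j=1}^{l+1} (w_j − w_{j−1})·(α_{d−1}(K_j)/α_{d−1}(H_j))·H_j
and par-P₂(W ⊂ E)(x, y) = Q(x) − Σ_{j=1}^{l+1} (w_j − w_{j−1})·(K_j(y)/H_j(y))·H_j(x). Then: (i) if
there is M such that for every m ≥ M there is N with par-P₂(W ⊂ E)(m, n)·P(n) ≤ Par_E(m)·Q(n) for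
all n ≥ N, then par-P₁(W ⊂ E)(m)·α_d(P) ≤ Par_E(m)·α_d(Q) for all large m; (ii) if par-P₁(W ⊂
E)(m)·α_d(P) < Par_E(m)·α_d(Q) for all large m, then there is M such that for every m ≥ M there is N
with par-P₂(W ⊂ E)(m, n)·P(n) < Par_E(m)·Q(n) for all n ≥ N. With W running over the nonzero
saturated (proper) sub-modules this is the published implication p₂-semistable ⇒ p₁-semistable,
p₁-stable ⇒ p₂-stable; the further implications to and from parabolic slope-(semi)stability in the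
published statement are not part of this row. -/
theorem result (k : Type u) [Field k] (X : Scheme.{u})
    [X.Over (Spec (CommRingCat.of k))] [IsProper (X ↘ Spec (CommRingCat.of k))]
    (L : X.Modules) (hL : CohB1.IsAmple L) (I : X.IdealSheafData) (hD : FGA.IsEffCartier I)
    (E : X.Modules) (hE : Coh.IsCoh E) (𝓔 : ParSh.Str E) (h𝓔 : 𝓔.Along I)
    (hcoh : ∀ j, Coh.IsCoh ((𝓔.pieceX j : Subobject E) : X.Modules)) (d : ℕ) (hd : 1 ≤ d)
    (hsupp : topologicalKrullDim ↥(CohB1.support E ∩ (I.support : Set X)) < (d : WithBot ℕ∞))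
    (h0 : ¬ IsZero E) (hpure : ShStab.IsPure X E d)
    (P : ℚ[X]) (hP : ShStab.IsHilbPoly k X L E P) (PX : Fin (𝓔.l + 2) → ℚ[X])
    (hPX : ∀ j, ShStab.IsHilbPoly k X L ((𝓔.pieceX j : Subobject E) : X.Modules) (PX j))
    (H : Fin (𝓔.l + 2) → ℚ[X]) (hH : ∀ j, ShStab.IsHilbPoly k X L (cokernel (𝓔.pieceX j).arrow) (H j))
    (hHa : ∀ j : Fin (𝓔.l + 1), StabCat.alpha (d - 1) (H j.succ) ≠ 0)
    {W : X.Modules} (ι : W ⟶ E) [Mono ι] (hW : Coh.IsCoh W)
    (Q : ℚ[X]) (hQ : ShStab.IsHilbPoly k X L W Q) (QH : Fin (𝓔.l + 2) → ℚ[X])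
    (hQH : ∀ j, ShStab.IsHilbPoly k X L (cokernel ((𝓔.induced ι).pieceX j).arrow) (QH j)) :
    ((∃ M : ℕ, ∀ m : ℕ, M ≤ m → ∃ N : ℕ, ∀ n : ℕ, N ≤ n →
        (((Q.eval (m : ℚ) : ℚ) : ℝ) -
            ∑ j : Fin (𝓔.l + 1), (𝓔.wtX j.succ - 𝓔.wtX j.castSucc) *
              ((((QH j.succ).eval (n : ℚ) / (H j.succ).eval (n : ℚ) : ℚ) : ℝ) * (((H j.succ).eval (m : ℚ) : ℚ) : ℝ))) *
          ((P.eval (n : ℚ) : ℚ) : ℝ) ≤
        (W4swparbununimod.parPoly 𝓔 PX).eval (m : ℝ) * ((Q.eval (n : ℚ) : ℚ) : ℝ)) →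
      ∃ M : ℕ, ∀ m : ℕ, M ≤ m →
        (W4swparbununimod.parPolyOne 𝓔 d Q QH H).eval (m : ℝ) * (StabCat.alpha d P : ℝ) ≤
          (W4swparbununimod.parPoly 𝓔 PX).eval (m : ℝ) * (StabCat.alpha d Q : ℝ)) ∧
    ((∃ M : ℕ, ∀ m : ℕ, M ≤ m →
        (W4swparbununimod.parPolyOne 𝓔 d Q QH H).eval (m : ℝ) * (StabCat.alpha d P : ℝ) <
          (W4swparbununimod.parPoly 𝓔 PX).eval (m : ℝ) * (StabCat.alpha d Q : ℝ)) →
      ∃ M : ℕ, ∀ m : ℕ, M ≤ m → ∃ N : ℕ, ∀ n : ℕ, N ≤ n →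
        (((Q.eval (m : ℚ) : ℚ) : ℝ) -
            ∑ j : Fin (𝓔.l + 1), (𝓔.wtX j.succ - 𝓔.wtX j.castSucc) *
              ((((QH j.succ).eval (n : ℚ) / (H j.succ).eval (n : ℚ) : ℚ) : ℝ) * (((H j.succ).eval (m : ℚ) : ℚ) : ℝ))) *
          ((P.eval (n : ℚ) : ℚ) : ℝ) <
        (W4swparbununimod.parPoly 𝓔 PX).eval (m : ℝ) * ((Q.eval (n : ℚ) : ℚ) : ℝ)) := by
  have hsm := ParHilb12.quot_small (k := k) hE 𝓔 hcoh h𝓔 hsupp
  obtain rfl := (ShStab28.hilb_eq k hQ).symm
  obtain rfl := (ShStab28.hilb_eq k hP).symm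
  obtain rfl := ParHilb12.hilb_of 𝓔 hPX
  have hEd : (ShStab28.hilb k X L E).natDegree ≤ d :=
    (ShStab28.pure_of_isPure hL.1 (ShStab28.positive k hL) hE hpure).2.1
  have hWd := (ParHilb12.hilb_sub hL ι hW hE hEd).1
  have hHd' : ∀ j, (ShStab28.hilb k X L (cokernel (𝓔.pieceX j).arrow)).natDegree ≤ d - 1 := fun j =>
    ParHilb12.natDegree_le_of_small hL (ParHilb12.ok_cokernel (k := k) _ (hcoh j) hE) (hsm j)
  have hHd : ∀ j, (H j).natDegree ≤ d - 1 := fun j => (ShStab28.hilb_eq k (hH j)) ▸ hHd' j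
  have hQHd : ∀ j, (QH j).natDegree ≤ d - 1 := fun j =>
    (ShStab28.hilb_eq k (hQH j)) ▸ (ParHilb12.quot_induced hL hE hW 𝓔 ι hcoh (hHd' j)).1
  set qP := W4swparbununimod.parPoly 𝓔 fun j => ShStab28.hilb k X L (𝓔.pieceX j : X.Modules) with hqP
  set P := ShStab28.hilb k X L E
  set Q := ShStab28.hilb k X L W
  let Lh : ℕ → ℕ → ℝ := fun m n => (((Q.eval (m : ℚ) : ℚ) : ℝ) -
      ∑ j : Fin (𝓔.l + 1), (𝓔.wtX j.succ - 𝓔.wtX j.castSucc) *
        ((((QH j.succ).eval (n : ℚ) / (H j.succ).eval (n : ℚ) : ℚ) : ℝ) * (((H j.succ).eval (m : ℚ) : ℚ) : ℝ))) *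
    ((P.eval (n : ℚ) : ℚ) : ℝ)
  let Rh : ℕ → ℕ → ℝ := fun m n => qP.eval (m : ℝ) * ((Q.eval (n : ℚ) : ℚ) : ℝ)
  have htP : ∀ (p : Polynomial ℚ) (D : ℕ), p.natDegree ≤ D →
      Filter.Tendsto (fun n : ℕ => ((p.eval (n : ℚ) : ℚ) : ℝ) / (n : ℝ) ^ D) Filter.atTop
        (nhds (p.coeff D : ℝ)) := fun p D hD => by
    have h := ParHilb12.tendsto_eval_div_pow (ParHilb12.natDegree_rpoly_le hD)
    simp only [W4swparbununimod.rpoly, Polynomial.coeff_map, eq_ratCast] at h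
    refine h.congr fun n => ?_
    rw [← ParHilb12.eval_rpoly]
  have hr : ∀ j : Fin (𝓔.l + 1), Filter.Tendsto
      (fun n : ℕ => (((QH j.succ).eval (n : ℚ) / (H j.succ).eval (n : ℚ) : ℚ) : ℝ)) Filter.atTop
      (nhds ((StabCat.alpha (d - 1) (QH j.succ) / StabCat.alpha (d - 1) (H j.succ) : ℚ) : ℝ)) := fun j => by
    have h := hHa j
    simp only [StabCat.alpha] at h
    obtain ⟨hf, hc⟩ := mul_ne_zero_iff.1 h
    have := (htP _ _ (hQHd j.succ)).div (htP _ _ (hHd j.succ)) (Rat.cast_ne_zero.2 hc)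
    simp only [StabCat.alpha]
    rw [mul_div_mul_left _ _ hf, Rat.cast_div]
    refine this.congr' ?_
    filter_upwards [Filter.eventually_gt_atTop 0] with n hn
    rw [Pi.div_apply, Rat.cast_div, div_div_div_cancel_right₀ (pow_ne_zero _ (by exact_mod_cast hn.ne'))]
  have hl : ∀ m : ℕ, Filter.Tendsto (fun n : ℕ => Lh m n / (n : ℝ) ^ d) Filter.atTop
      (nhds ((W4swparbununimod.parPolyOne 𝓔 d Q QH H).eval (m : ℝ) * (P.coeff d : ℝ))) := fun m => by
    have := ((tendsto_const_nhds (x := ((Q.eval (m : ℚ) : ℚ) : ℝ))).sub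
      (tendsto_finsetSum Finset.univ fun j _ => ((hr j).mul_const (((H j.succ).eval (m : ℚ) : ℚ) : ℝ)).const_mul
        (𝓔.wtX j.succ - 𝓔.wtX j.castSucc))).mul (htP P d hEd)
    convert this using 1
    · funext n
      exact mul_div_assoc _ _ _
    · simp only [W4swparbununimod.parPolyOne, Polynomial.eval_sub, Polynomial.eval_finsetSum, Polynomial.eval_mul,
        Polynomial.eval_C, ParHilb12.eval_rpoly, mul_assoc]
  have hrh : ∀ m : ℕ, Filter.Tendsto (fun n : ℕ => Rh m n / (n : ℝ) ^ d) Filter.atTop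
      (nhds (qP.eval (m : ℝ) * (Q.coeff d : ℝ))) := fun m => by
    refine ((htP Q d hWd).const_mul _).congr fun n => ?_
    exact (mul_div_assoc _ _ _).symm
  have hfac : (0 : ℝ) < (d.factorial : ℝ) := Nat.cast_pos.2 d.factorial_pos
  simp only [StabCat.alpha, Rat.cast_mul, Rat.cast_natCast]
  constructor
  · rintro ⟨M, hM⟩
    refine ⟨M, fun m hm => ?_⟩
    obtain ⟨N, hN⟩ := hM m hm
    have := le_of_tendsto_of_tendsto (hl m) (hrh m) (by
      filter_upwards [Filter.eventually_ge_atTop N] with n hn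
      exact div_le_div_of_nonneg_right (hN n hn) (pow_nonneg (Nat.cast_nonneg n) _))
    have := mul_le_mul_of_nonneg_left this hfac.le
    linarith
  · rintro ⟨M, hM⟩
    refine ⟨M, fun m hm => ?_⟩
    have hlt : (W4swparbununimod.parPolyOne 𝓔 d Q QH H).eval (m : ℝ) * (P.coeff d : ℝ) <
        qP.eval (m : ℝ) * (Q.coeff d : ℝ) := by
      have := hM m hm
      refine lt_of_mul_lt_mul_left ?_ hfac.le
      linarith
    obtain ⟨N, hN⟩ := Filter.eventually_atTop.1 (((hrh m).sub (hl m)).eventually_const_lt (sub_pos.2 hlt))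
    refine ⟨max N 1, fun n hn => ?_⟩
    have hn' := hN n (le_of_max_le_left hn)
    rw [← sub_div] at hn'
    have := (div_pos_iff_of_pos_right (pow_pos (by exact_mod_cast le_of_max_le_right hn : (0 : ℝ) < n) d)).1 hn'
    exact sub_pos.1 this

end Groth.Agent.S18532
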