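import Groth.Statements.S18534
import Groth.Agent.Lib.DecompCplH7.Basic

set_option autoImplicit false
universe u
open scoped Pointwise
open EtAlg

namespace Groth.Agent.S18534

/-- Let R be a normal domain which is excellent and S a normal domain containing R on which a finite
group G acts by R-algebra automorphisms, faithfully and with ring of invariants exactly R (so S is
the integral closure of R in a finite Galois extension of Frac R with group G), Q a prime of S lying
over the prime P of R, and D the decomposition group of Q (the stabilizer of Q in G). Equip the
completion of the local ring S_Q with an action of D by ring automorphisms extending the action of D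
on S, and with an algebra structure over the completion of R_P compatible with R → S (both exist and
are unique, by density and continuity). Then D is a Galois group for the completed extension: it
acts faithfully, linearly over the completion of R_P, and its ring of invariants is exactly the
image of the completion of R_P; equivalently the extension of fraction fields of the completed local
rings is Galois with group D. (Only the completions of the local rings R_P and S_Q are treated. For
the P-adic completion of R itself and the Q-adic completion of S the analogous finiteness fails:
with R = k[x,y], S = k[y,t], t² = x + y², char k ≠ 2 and Q = (t − y) over P = (x), the Q-adic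
completion k[y][[t − y]] is not finite over the (x)-adic completion k[y][[x]] and their fraction
fields form an extension of infinite degree.) -/
theorem result
    (R S G : Type u) [CommRing R] [CommRing S] [IsDomain R] [IsDomain S]
    [IsIntegrallyClosed R] [IsIntegrallyClosed S] (hR : EGA4.IsExcellent R)
    [Algebra R S] [FaithfulSMul R S]
    [Group G] [Finite G] [MulSemiringAction G S] [SMulCommClass G R S] [IsGaloisGroup G R S]
    (P : Ideal R) [P.IsPrime] (Q : Ideal S) [Q.IsPrime] [Q.LiesOver P]
    [MulSemiringAction (MulAction.stabilizer G Q) (EGA4.Cpl (Localization.AtPrime Q))]
    (hact : ∀ (g : MulAction.stabilizer G Q) (s : S),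
      g • algebraMap (Localization.AtPrime Q) (EGA4.Cpl (Localization.AtPrime Q)) (algebraMap S (Localization.AtPrime Q) s) =
        algebraMap (Localization.AtPrime Q) (EGA4.Cpl (Localization.AtPrime Q)) (algebraMap S (Localization.AtPrime Q) (g • s)))
    [Algebra (EGA4.Cpl (Localization.AtPrime P)) (EGA4.Cpl (Localization.AtPrime Q))]
    (halg : ∀ r : R,
      algebraMap (EGA4.Cpl (Localization.AtPrime P)) (EGA4.Cpl (Localization.AtPrime Q)) (algebraMap (Localization.AtPrime P) (EGA4.Cpl (Localization.AtPrime P)) (algebraMap R (Localization.AtPrime P) r)) =
        algebraMap (Localization.AtPrime Q) (EGA4.Cpl (Localization.AtPrime Q)) (algebraMap S (Localization.AtPrime Q) (algebraMap R S r))) :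
    IsGaloisGroup (MulAction.stabilizer G Q) (EGA4.Cpl (Localization.AtPrime P)) (EGA4.Cpl (Localization.AtPrime Q)) := by
  haveI : IsNoetherianRing R := hR.1
  haveI := DecompCplH7.finite_base R S G
  haveI : IsNoetherianRing S := isNoetherian_of_tower R (inferInstance : IsNoetherian R S)
  exact DecompCplH7.isGaloisGroup_cpl R S G P Q hact halg (Ideal.LiesOver.over (P := Q) (p := P)).symm

end Groth.Agent.S18534
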