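import Groth.Statements.S18535
import Groth.Agent.Lib.Hens.Pair
import Mathlib.RingTheory.Invariant.Basic
import Mathlib.FieldTheory.Galois.IsGaloisGroup
import Mathlib.RingTheory.Henselian
import Mathlib.FieldTheory.PrimitiveElement
import Mathlib.FieldTheory.Separable
import Mathlib.RingTheory.Idempotents
import Mathlib.LinearAlgebra.LinearIndependent.Basic

set_option autoImplicit false
universe u
open EtAlg

namespace Groth.Agent.S18535

/-- Let R be a complete Noetherian local normal domain with maximal ideal m, let S be a normal domain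
containing R on which a finite group G acts by R-algebra automorphisms, faithfully and with ring of
invariants exactly R (so that S is the integral closure of R in some finite Galois extension, with
group G, of Frac R), and let n be a maximal ideal of S over m. Then the inertia subgroup of n in G
(the elements g with g s - s ∈ n for all s ∈ S) is trivial if and only if mS = n and the residue
field S/n is finite and separable over R/m. -/
theorem result
    (R S G : Type u) [CommRing R] [CommRing S] [IsDomain R] [IsDomain S]
    [IsNoetherianRing R] [IsLocalRing R] [IsIntegrallyClosed R]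
    [IsAdicComplete (IsLocalRing.maximalIdeal R) R]
    [Algebra R S] [FaithfulSMul R S] [IsIntegrallyClosed S]
    [Group G] [Finite G] [MulSemiringAction G S] [SMulCommClass G R S] [IsGaloisGroup G R S]
    (n : Ideal S) [n.IsMaximal] [n.LiesOver (IsLocalRing.maximalIdeal R)] :
    n.toAddSubgroup.inertia G = ⊥ ↔
      ((IsLocalRing.maximalIdeal R).map (algebraMap R S) = n ∧
        Module.Finite (R ⧸ IsLocalRing.maximalIdeal R) (S ⧸ n) ∧
        Algebra.IsSeparable (R ⧸ IsLocalRing.maximalIdeal R) (S ⧸ n)) := by
  classical
  cases nonempty_fintype G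
  haveI : Algebra.IsInvariant R S G := IsGaloisGroup.isInvariant
  haveI hfaith : FaithfulSMul G S := IsGaloisGroup.faithful R
  haveI : Algebra.IsIntegral R S := Algebra.IsInvariant.isIntegral R S G
  let m := IsLocalRing.maximalIdeal R
  letI : Field (S ⧸ n) := Ideal.Quotient.field n
  letI : Field (R ⧸ m) := Ideal.Quotient.field m
  have hsmulR : ∀ (σ : G) (r : R), σ • algebraMap R S r = algebraMap R S r := fun σ r => by
    rw [← mul_one (algebraMap R S r), ← Algebra.smul_def, smul_comm σ r (1 : S), smul_one]
  have hfixed : ∀ x : S, (∀ σ : G, σ • x = x) → ∃ r : R, algebraMap R S r = x :=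
    fun x h => Algebra.IsInvariant.isInvariant (G := G) x h
  let tr : S → S := fun x => ∑ σ : G, σ • x
  have htr : ∀ x, ∃ r : R, algebraMap R S r = tr x := fun x => hfixed _ fun τ => by
    show τ • ∑ σ : G, σ • x = _
    rw [Finset.smul_sum]
    exact Fintype.sum_equiv (Equiv.mulLeft τ) _ _ fun σ => by simp [mul_smul]
  -- the only maximal ideal
  have huniq : ∀ n' : Ideal S, n'.IsMaximal → n' = n := by
    have hover : ∀ n' : Ideal S, n'.IsMaximal → n'.under R = m := fun n' hn' => by
      haveI := hn'
      exact IsLocalRing.eq_maximalIdeal (Ideal.isMaximal_comap_of_isIntegral_of_isMaximal n')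
    have hfinite : {n' : Ideal S | n'.IsMaximal ∧ n' ≠ n}.Finite := by
      refine (Set.finite_range fun g : G => n.map (MulSemiringAction.toRingHom G S g)).subset fun n' ⟨hn', _⟩ => ?_
      haveI := hn'
      obtain ⟨g, hg⟩ := Algebra.IsInvariant.exists_smul_of_under_eq R S G n n' ((hover n ‹_›).trans (hover n' hn').symm)
      exact ⟨g, hg.symm⟩
    let T := hfinite.toFinset
    obtain ⟨b, hbn, hbT⟩ : ∃ b, b - 1 ∈ n ∧ ∀ n' ∈ T, b ∈ n' := by
      have htop : n ⊔ T.inf id = ⊤ := by
        refine Ideal.sup_iInf_eq_top ?_ |> fun h => by simpa [Finset.inf_eq_iInf] using h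
        intro n' hn'
        obtain ⟨h1, h2⟩ := hfinite.mem_toFinset.1 hn'
        exact ‹n.IsMaximal›.coprime_of_ne h1 (Ne.symm h2)
      obtain ⟨x, hx, y, hy, hxy⟩ := Submodule.mem_sup.1 ((Ideal.eq_top_iff_one _).1 htop)
      exact ⟨y, by rw [← hxy, sub_add_cancel_right]; exact neg_mem hx, fun n' hn' => (Submodule.mem_finsetInf.1 hy) n' hn'⟩
    intro n' hn'
    by_contra hne
    have hb' : b ∈ n' := hbT n' (hfinite.mem_toFinset.2 ⟨hn', hne⟩)
    let J := m.map (algebraMap R S)
    have hrad : b * b - b ∈ J.radical := by
      rw [Ideal.radical_eq_sInf]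
      refine Ideal.mem_sInf.2 fun {p} ⟨hJp, hp⟩ => ?_
      haveI := hp
      haveI : (p.comap (algebraMap R S)).IsMaximal := by
        have : p.comap (algebraMap R S) = m := ((IsLocalRing.maximalIdeal.isMaximal R).eq_of_le
          (hp.comap _).ne_top (Ideal.map_le_iff_le_comap.1 hJp)).symm
        exact this ▸ IsLocalRing.maximalIdeal.isMaximal R
      have hpm : p.IsMaximal := Ideal.isMaximal_of_isIntegral_of_isMaximal_comap (R := R) p inferInstance
      by_cases hpn : p = n
      · subst hpn
        rw [show b * b - b = b * (b - 1) by ring]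
        exact p.mul_mem_left b hbn
      · exact p.sub_mem (p.mul_mem_left b (hbT p (hfinite.mem_toFinset.2 ⟨hpm, hpn⟩))) (hbT p (hfinite.mem_toFinset.2 ⟨hpm, hpn⟩))
    have hJn : ∀ q : Ideal S, q.IsMaximal → J ≤ q := fun q hq => Ideal.map_le_iff_le_comap.2 (hover q hq).ge
    obtain ⟨ε, hε, hεb⟩ := exists_isIdempotentElem_eq_of_ker_isNilpotent (Ideal.Quotient.factor (J.le_radical))
      (fun x hx => by
        obtain ⟨x, rfl⟩ := Ideal.Quotient.mk_surjective x
        rw [RingHom.mem_ker, Ideal.Quotient.factor_mk, Ideal.Quotient.eq_zero_iff_mem] at hx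
        obtain ⟨k, hk⟩ := hx
        exact ⟨k, by rw [← map_pow, Ideal.Quotient.eq_zero_iff_mem.2 hk]⟩)
      (Ideal.Quotient.mk J.radical b) ⟨Ideal.Quotient.mk J b, by rw [Ideal.Quotient.factor_mk]⟩
      (by rw [IsIdempotentElem, ← map_mul, Ideal.Quotient.eq]; exact hrad)
    obtain ⟨c, rfl⟩ := Ideal.Quotient.mk_surjective ε
    obtain ⟨e, he, hec⟩ := Groth.Agent.Hens.exists_idempotent_lift (IsAdicComplete.henselianRing R m) c
      (Ideal.Quotient.eq.1 ((map_mul _ _ _).trans hε))
    have hcb : c - b ∈ J.radical := by
      rw [← Ideal.Quotient.eq, ← hεb, Ideal.Quotient.factor_mk]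
    have heq : ∀ q : Ideal S, q.IsMaximal → e - b ∈ q := fun q hq => by
      have h1 : c - b ∈ q := (hq.isPrime.radical_le_iff.2 (hJn q hq)) hcb
      have := q.add_mem (hJn q hq hec) h1
      rwa [sub_add_sub_cancel] at this
    rcases IsIdempotentElem.iff_eq_zero_or_one.1 he with h0 | h0
    · have := n.add_mem (heq n ‹_›) hbn
      rw [h0, zero_sub, neg_add_eq_sub, sub_sub_cancel_left] at this
      exact ‹n.IsMaximal›.ne_top ((Ideal.eq_top_iff_one n).2 (by simpa using this))
    · have := n'.add_mem (heq n' hn') hb'
      rw [h0, sub_add_cancel] at this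
      exact hn'.ne_top ((Ideal.eq_top_iff_one n').2 this)
  have hloc : ∀ x : S, x ∉ n → IsUnit x := fun x hx => by
    by_contra hu
    obtain ⟨q, hq, hxq⟩ := exists_max_ideal_of_mem_nonunits hu
    exact hx (huniq q hq ▸ hxq)
  have hσn : ∀ σ : G, ∀ x ∈ n, σ • x ∈ n := fun σ x hx => by
    by_contra h
    obtain ⟨u, hu⟩ := hloc _ h
    refine ‹n.IsMaximal›.ne_top (Ideal.eq_top_of_isUnit_mem _ hx ?_)
    exact ⟨Units.map (MulSemiringAction.toRingHom G S σ⁻¹).toMonoidHom u, by simp [hu]⟩
  have hnR : ∀ r : R, algebraMap R S r ∈ n ↔ r ∈ m := fun r => (Ideal.mem_of_liesOver n m r).symm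
  constructor
  · intro hI
    have hmove : ∀ σ : G, σ ≠ 1 → ∃ a : S, σ • a - a ∉ n := fun σ hσ => by
      by_contra hcon
      simp only [not_exists, not_not] at hcon
      exact hσ ((Subgroup.eq_bot_iff_forall _).1 hI σ fun x => hcon x)
    have key : ∀ T : Finset G, (1 : G) ∉ T → ∃ l : List (S × S),
        (l.map fun p => p.1 * p.2).sum = 1 ∧ ∀ σ ∈ T, (l.map fun p => p.1 * σ • p.2).sum = 0 := by
      intro T
      induction T using Finset.induction_on with
      | empty => exact fun _ => ⟨[(1, 1)], by simp, by simp⟩
      | insert σ T hσT ih =>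
        intro h1
        obtain ⟨l, hl1, hl0⟩ := ih fun h => h1 (Finset.mem_insert_of_mem h)
        obtain ⟨a, ha⟩ := hmove σ fun h => h1 (h ▸ Finset.mem_insert_self _ _)
        obtain ⟨v, hv⟩ := (hloc _ ha).exists_left_inv
        -- multiply by a pair killing `σ`
        refine ⟨l.map (fun p => (p.1 * (v * (σ • a)), p.2)) ++ l.map (fun p => (-(p.1 * v), p.2 * a)), ?_, fun τ hτ => ?_⟩
        · have e1 : ∀ (c d : S), (l.map fun p => p.1 * c * (p.2 * d)).sum = c * d * (l.map fun p => p.1 * p.2).sum := fun c d => by
            rw [← List.sum_map_mul_left]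
            exact congrArg List.sum (List.map_congr_left fun p _ => by ring)
          simp only [List.map_append, List.map_map, Function.comp_def, List.sum_append]
          have e2 := e1 (v * σ • a) 1
          have e3 := e1 (-v) a
          simp only [mul_one, hl1] at e2 e3
          rw [show (fun p : S × S => -(p.1 * v) * (p.2 * a)) = fun p => p.1 * -v * (p.2 * a) from funext fun p => by ring,
            e2, e3]
          linear_combination hv
        · have e1 : ∀ (c d : S), (l.map fun p => p.1 * c * (τ • p.2 * d)).sum = c * d * (l.map fun p => p.1 * τ • p.2).sum := fun c d => by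
            rw [← List.sum_map_mul_left]
            exact congrArg List.sum (List.map_congr_left fun p _ => by ring)
          simp only [List.map_append, List.map_map, Function.comp_def, List.sum_append, smul_mul']
          have e2 := e1 (v * σ • a) 1
          have e3 := e1 (-v) (τ • a)
          simp only [mul_one] at e2
          rw [show (fun p : S × S => -(p.1 * v) * (τ • p.2 * τ • a)) = fun p => p.1 * -v * (τ • p.2 * τ • a) from funext fun p => by ring,
            e2, e3]
          rcases Finset.mem_insert.1 hτ with rfl | hτ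
          · ring
          · rw [hl0 τ hτ]; ring
    obtain ⟨l, hl1, hl0⟩ := key (Finset.univ.erase 1) (by simp)
    have hrec : ∀ z, z = (l.map fun p => p.1 * tr (z * p.2)).sum := by
      intro z
      have hswap : ∀ (L : List (S × S)), (L.map fun p => p.1 * tr (z * p.2)).sum = ∑ σ : G, σ • z * (L.map fun p => p.1 * σ • p.2).sum := by
        intro L
        induction L with
        | nil => simp
        | cons p L ihL =>
          rw [List.map_cons, List.sum_cons, ihL]
          simp only [List.map_cons, List.sum_cons, tr, mul_add, Finset.sum_add_distrib, Finset.mul_sum, smul_mul']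
          congr 1
          exact Finset.sum_congr rfl fun σ _ => by ring
      rw [hswap, Finset.sum_eq_single 1 (fun σ _ hσ => by rw [hl0 σ (Finset.mem_erase.2 ⟨hσ, Finset.mem_univ σ⟩), mul_zero])
        (fun h => absurd (Finset.mem_univ _) h)]
      simp [hl1]
    refine ⟨le_antisymm (Ideal.map_le_iff_le_comap.2 fun r hr => (hnR r).2 hr) fun z hz => ?_, ?_, ?_⟩
    · rw [hrec z]
      refine list_sum_mem fun y hy => ?_
      obtain ⟨p, -, rfl⟩ := List.mem_map.1 hy
      obtain ⟨r, hr⟩ := htr (z * p.2)
      rw [← hr]
      refine Ideal.mul_mem_left _ _ (Ideal.mem_map_of_mem _ ((hnR r).1 ?_))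
      rw [hr]
      exact sum_mem fun σ _ => hσn σ _ (n.mul_mem_right _ hz)
    · let gens : Finset (S ⧸ n) := (l.map fun p => Ideal.Quotient.mk n p.1).toFinset
      refine ⟨⟨gens, eq_top_iff.2 fun q _ => ?_⟩⟩
      obtain ⟨z, rfl⟩ := Ideal.Quotient.mk_surjective q
      rw [hrec z, map_list_sum, List.map_map]
      refine list_sum_mem fun y hy => ?_
      obtain ⟨p, hp, rfl⟩ := List.mem_map.1 hy
      obtain ⟨r, hr⟩ := htr (z * p.2)
      have hmem : Ideal.Quotient.mk n p.1 ∈ (gens : Set (S ⧸ n)) :=
        List.mem_toFinset.2 (List.mem_map.2 ⟨p, hp, rfl⟩)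
      have := Submodule.smul_mem _ (Ideal.Quotient.mk m r) (Submodule.subset_span (R := R ⧸ m) hmem)
      rw [Algebra.smul_def, Ideal.Quotient.algebraMap_mk_of_liesOver, hr, ← map_mul, mul_comm] at this
      exact this
    · obtain ⟨c, hc⟩ : ∃ c, tr c ∉ n := by
        by_contra hcon
        simp only [not_exists, not_not] at hcon
        refine ‹n.IsMaximal›.ne_top ((Ideal.eq_top_iff_one n).2 ?_)
        rw [hrec 1]
        refine list_sum_mem fun y hy => ?_
        obtain ⟨p, -, rfl⟩ := List.mem_map.1 hy
        exact n.mul_mem_left _ (hcon _)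
      let τ : G → (S ⧸ n) →+* (S ⧸ n) := fun σ =>
        Ideal.quotientMap n (MulSemiringAction.toRingHom G S σ) fun x hx => hσn σ x hx
      have hτ : ∀ σ x, τ σ (Ideal.Quotient.mk n x) = Ideal.Quotient.mk n (σ • x) := fun σ x => Ideal.quotientMap_mk
      have hfix : ∀ q : S ⧸ n, (∀ σ, τ σ q = q) → q ∈ (algebraMap (R ⧸ m) (S ⧸ n)).range := by
        intro q hq
        obtain ⟨a, rfl⟩ := Ideal.Quotient.mk_surjective q
        obtain ⟨r₁, h₁⟩ := htr (a * c)
        obtain ⟨r₂, h₂⟩ := htr c
        have h2 : Ideal.Quotient.mk n (tr c) ≠ 0 := fun h => hc (Ideal.Quotient.eq_zero_iff_mem.1 h)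
        refine ⟨Ideal.Quotient.mk m r₁ / Ideal.Quotient.mk m r₂, ?_⟩
        rw [map_div₀, Ideal.Quotient.algebraMap_mk_of_liesOver, Ideal.Quotient.algebraMap_mk_of_liesOver, h₁, h₂,
          div_eq_iff h2]
        simp only [tr, map_sum, Finset.mul_sum]
        exact Finset.sum_congr rfl fun σ _ => by rw [smul_mul', map_mul, ← hτ, hq σ]
      refine ⟨fun q => ?_⟩
      obtain ⟨a, rfl⟩ := Ideal.Quotient.mk_surjective q
      let orb : Finset (S ⧸ n) := Finset.univ.image fun σ : G => Ideal.Quotient.mk n (σ • a)
      let Q : Polynomial (S ⧸ n) := ∏ c ∈ orb, (Polynomial.X - Polynomial.C c)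
      have horb : ∀ σ, orb.image (τ σ) = orb := fun σ => by
        simp only [orb, Finset.image_image]
        ext y
        simp only [Finset.mem_image, Finset.mem_univ, true_and, Function.comp_apply, hτ, ← mul_smul]
        exact ⟨fun ⟨g, hg⟩ => ⟨σ * g, hg⟩, fun ⟨g, hg⟩ => ⟨σ⁻¹ * g, by rw [mul_inv_cancel_left]; exact hg⟩⟩
      have hQσ : ∀ σ, Q.map (τ σ) = Q := fun σ => by
        simp only [Q, Polynomial.map_prod, Polynomial.map_sub, Polynomial.map_X, Polynomial.map_C]
        conv_rhs => rw [← horb σ, Finset.prod_image fun x _ y _ h => (τ σ).injective h]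
      have hQlift : Q ∈ Polynomial.lifts (algebraMap (R ⧸ m) (S ⧸ n)) := by
        refine (Polynomial.lifts_iff_coeff_lifts Q).2 fun i => hfix _ fun σ => ?_
        conv_rhs => rw [← hQσ σ]
        rw [Polynomial.coeff_map]
      obtain ⟨Q₀, hQ₀⟩ := hQlift
      have hQsep : Q.Separable := by
        simp only [Q]
        rw [← Finset.prod_coe_sort]
        exact Polynomial.separable_prod_X_sub_C_iff.2 Subtype.val_injective
      have hroot : Polynomial.aeval (Ideal.Quotient.mk n a) Q₀ = 0 := by
        rw [Polynomial.aeval_def, Polynomial.eval₂_eq_eval_map, ← Polynomial.coe_mapRingHom, hQ₀, Polynomial.eval_prod]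
        exact Finset.prod_eq_zero (Finset.mem_image.2 ⟨1, Finset.mem_univ _, by rw [one_smul]⟩) (by simp)
      refine Polynomial.Separable.of_dvd ((Polynomial.separable_map (algebraMap (R ⧸ m) (S ⧸ n))).1 ?_) (minpoly.dvd _ _ hroot)
      rw [← Polynomial.coe_mapRingHom, hQ₀]
      exact hQsep
  · rintro ⟨hmap, hfin, hsep⟩
    haveI := hfin
    haveI := hsep
    rw [Subgroup.eq_bot_iff_forall]
    intro σ hσ
    replace hσ : ∀ x : S, σ • x - x ∈ n := hσ
    obtain ⟨θ, hθ⟩ := Field.exists_primitive_element (R ⧸ m) (S ⧸ n)
    obtain ⟨θ, rfl⟩ := Ideal.Quotient.mk_surjective θ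
    have hint : IsIntegral (R ⧸ m) (Ideal.Quotient.mk n θ) := IsIntegral.of_finite _ _
    have hcompat : (algebraMap (R ⧸ m) (S ⧸ n)).comp (Ideal.Quotient.mk m) = (Ideal.Quotient.mk n).comp (algebraMap R S) :=
      RingHom.ext fun r => Ideal.Quotient.algebraMap_mk_of_liesOver n m r
    have heval : ∀ P : Polynomial R, Polynomial.aeval (Ideal.Quotient.mk n θ) (P.map (Ideal.Quotient.mk m)) =
        Ideal.Quotient.mk n (Polynomial.aeval θ P) := fun P => by
      rw [Polynomial.aeval_def, Polynomial.eval₂_map, hcompat, Polynomial.aeval_def, Polynomial.hom_eval₂]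
    obtain ⟨P, hP⟩ := Polynomial.map_surjective _ Ideal.Quotient.mk_surjective (minpoly (R ⧸ m) (Ideal.Quotient.mk n θ))
    have hPθ : Polynomial.aeval θ P ∈ n := by
      rw [← Ideal.Quotient.eq_zero_iff_mem, ← heval, hP, minpoly.aeval]
    have hP' : Polynomial.aeval θ (Polynomial.derivative P) ∉ n := by
      intro h
      have h2 : Polynomial.aeval (Ideal.Quotient.mk n θ) (Polynomial.derivative (minpoly (R ⧸ m) (Ideal.Quotient.mk n θ))) = 0 := by
        rw [← hP, Polynomial.derivative_map, heval, Ideal.Quotient.eq_zero_iff_mem.2 h]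
      exact (Algebra.IsSeparable.isSeparable (R ⧸ m) (Ideal.Quotient.mk n θ)).aeval_derivative_ne_zero (minpoly.aeval _ _) h2
    have hgen : ∀ x : S, ∃ q : Polynomial R, x - Polynomial.aeval θ q ∈ n := by
      intro x
      have hx : Ideal.Quotient.mk n x ∈ Algebra.adjoin (R ⧸ m) {Ideal.Quotient.mk n θ} := by
        rw [← IntermediateField.adjoin_simple_toSubalgebra_of_isAlgebraic hint.isAlgebraic, hθ]
        exact Algebra.mem_top
      rw [Algebra.adjoin_singleton_eq_range_aeval] at hx
      obtain ⟨q, hq⟩ := hx
      obtain ⟨q, rfl⟩ := Polynomial.map_surjective _ Ideal.Quotient.mk_surjective q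
      exact ⟨q, Ideal.Quotient.eq.1 (hq.symm.trans (heval q))⟩
    let D : S → S := fun x => σ • x - x
    have hstep : ∀ k : ℕ, ∀ x, D x ∈ (m.map (algebraMap R S)) ^ (k + 1) := by
      intro k
      induction k with
      | zero => intro x; rw [zero_add, pow_one, hmap]; exact hσ x
      | succ k ih =>
        let J := m.map (algebraMap R S)
        have hn : ∀ z ∈ n, D z ∈ J ^ (k + 1 + 1) := by
          intro z hz
          rw [← hmap] at hz
          induction hz using Submodule.span_induction with
          | mem y hy =>
            obtain ⟨r, -, rfl⟩ := hy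
            simp [D, hsmulR]
          | zero => simp [D]
          | add y z _ _ hy hz =>
            rw [show D (y + z) = D y + D z by simp only [D, smul_add]; ring]
            exact add_mem hy hz
          | smul c y hy' hy =>
            rw [show D (c • y) = D c * y + σ • c * D y by simp only [D, smul_eq_mul, smul_mul']; ring]
            refine add_mem ?_ (Ideal.mul_mem_left _ _ hy)
            rw [pow_succ]
            exact Ideal.mul_mem_mul (ih c) hy'
        have hDθ : D θ ∈ J ^ (k + 1 + 1) := by
          obtain ⟨w, hw⟩ := Polynomial.binomExpansion (P.map (algebraMap R S)) θ (D θ)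
          rw [Polynomial.derivative_map, Polynomial.eval_map_algebraMap, Polynomial.eval_map_algebraMap, Polynomial.eval_map_algebraMap] at hw
          have h1 : Polynomial.aeval (σ • θ) P = σ • Polynomial.aeval θ P :=
            Polynomial.aeval_algHom_apply (MulSemiringAction.toAlgHom R S σ) θ P
          rw [show θ + D θ = σ • θ by simp [D], h1] at hw
          have hunit : IsUnit (Polynomial.aeval θ (Polynomial.derivative P) + w * D θ) := by
            refine hloc _ fun h => hP' ?_
            have := n.sub_mem h (n.mul_mem_left w (hσ θ))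
            rwa [add_sub_cancel_right] at this
          obtain ⟨v, hv⟩ := hunit.exists_left_inv
          have h2 : D θ = v * D (Polynomial.aeval θ P) := by
            simp only [D] at hw hv ⊢
            linear_combination (-v) * hw - (σ • θ - θ) * hv
          rw [h2]
          exact Ideal.mul_mem_left _ v (hn _ hPθ)
        intro x
        obtain ⟨q, hq⟩ := hgen x
        have hDq : D (Polynomial.aeval θ q) ∈ J ^ (k + 1 + 1) := by
          obtain ⟨w, hw⟩ := Polynomial.sub_dvd_eval_sub (σ • θ) θ (q.map (algebraMap R S))
          rw [Polynomial.eval_map_algebraMap, Polynomial.eval_map_algebraMap] at hw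
          have h1 : Polynomial.aeval (σ • θ) q = σ • Polynomial.aeval θ q :=
            Polynomial.aeval_algHom_apply (MulSemiringAction.toAlgHom R S σ) θ q
          show σ • _ - _ ∈ _
          rw [← h1, hw]
          exact Ideal.mul_mem_right _ _ hDθ
        have := add_mem hDq (hn _ hq)
        rwa [show D (Polynomial.aeval θ q) + D (x - Polynomial.aeval θ q) = D x by simp only [D, smul_sub]; ring] at this
    have htrzero : ∀ x z, tr (z * D x) = 0 := by
      intro x z
      obtain ⟨r, hr⟩ := htr (z * D x)
      suffices r = 0 by rw [← hr, this, map_zero]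
      refine IsHausdorff.haus (inferInstance : IsHausdorff m R) r fun k => ?_
      rw [SModEq.zero, smul_eq_mul, Ideal.mul_top]
      have hmem : ∀ y ∈ (m.map (algebraMap R S)) ^ k, ∀ r, algebraMap R S r = tr y → r ∈ m ^ k := by
        intro y hy
        rw [← Ideal.map_pow] at hy
        induction hy using Submodule.span_induction with
        | mem y hy =>
          obtain ⟨s, hs, rfl⟩ := hy
          intro r hr
          have : r = s * (Fintype.card G : R) := FaithfulSMul.algebraMap_injective R S (by
            rw [hr, map_mul, map_natCast]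
            simp [tr, hsmulR, mul_comm])
          rw [this]
          exact Ideal.mul_mem_right _ _ hs
        | zero =>
          intro r hr
          rw [show r = 0 from FaithfulSMul.algebraMap_injective R S (by rw [hr, map_zero]; simp [tr])]
          exact zero_mem _
        | add y z _ _ hy hz =>
          intro r hr
          obtain ⟨ry, hry⟩ := htr y
          obtain ⟨rz, hrz⟩ := htr z
          rw [show r = ry + rz from FaithfulSMul.algebraMap_injective R S (by
            rw [hr, map_add, hry, hrz]; simp [tr, smul_add, Finset.sum_add_distrib])]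
          exact add_mem (hy _ hry) (hz _ hrz)
        | smul c y hy' hy =>
          clear hy
          induction hy' using Submodule.span_induction generalizing c with
          | mem y hy =>
            obtain ⟨s, hs, rfl⟩ := hy
            intro r hr
            obtain ⟨rc, hrc⟩ := htr c
            rw [show r = s * rc from FaithfulSMul.algebraMap_injective R S (by
              rw [hr, map_mul, hrc]; simp [tr, hsmulR, Finset.mul_sum, mul_comm])]
            exact Ideal.mul_mem_right _ _ hs
          | zero =>
            intro r hr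
            rw [show r = 0 from FaithfulSMul.algebraMap_injective R S (by rw [hr, map_zero]; simp [tr])]
            exact zero_mem _
          | add y z _ _ hy hz =>
            intro r hr
            obtain ⟨ry, hry⟩ := htr (c • y)
            obtain ⟨rz, hrz⟩ := htr (c • z)
            rw [show r = ry + rz from FaithfulSMul.algebraMap_injective R S (by
              rw [hr, map_add, hry, hrz]; simp [tr, mul_add, smul_add, Finset.sum_add_distrib])]
            exact add_mem (hy _ _ hry) (hz _ _ hrz)
          | smul d y _ hy =>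
            intro r hr
            exact hy (c * d) r (by rw [hr, smul_smul])
      exact hmem _ (Ideal.mul_mem_left _ z (Ideal.pow_le_pow_right (Nat.le_succ k) (hstep k x))) r hr
    have hD0 : ∀ x, D x = 0 := by
      intro x
      let φ : G → (S →* S) := fun g => (MulSemiringAction.toRingHom G S g).toMonoidHom
      have hφ : Function.Injective φ := fun g g' h => eq_of_smul_eq_smul fun y => DFunLike.congr_fun h y
      have hli := (linearIndependent_monoidHom S S).comp φ hφ
      have h0 := Fintype.linearIndependent_iff.1 hli (fun g => g • D x) (funext fun z => by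
        have := htrzero x z
        simp only [tr, smul_mul'] at this
        simpa [φ, Finset.sum_apply, mul_comm] using this) 1
      simpa using h0
    exact eq_of_smul_eq_smul fun x => by rw [one_smul]; exact sub_eq_zero.1 (hD0 x)

end Groth.Agent.S18535
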