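import Groth.Statements.S18539
import Mathlib
import Groth.Agent.Lib.H2Alg.WeakAss

set_option autoImplicit false
universe u v w
open CAlg

namespace Groth.Agent.S18539
open TensorProduct

/-- For a commutative ring R, R-modules M and N and elements r₁, r₂ of R such that r₁ is a
non-zero-divisor on N and r₂ is a non-zero-divisor on N/r₁N, the element r₁ is a non-zero-divisor on
the module Hom_R(M, N) and r₂ is a non-zero-divisor on Hom_R(M, N)/r₁Hom_R(M, N). (Weak regularity
on both sides: no condition that the quotient by (r₁, r₂) is nonzero, which would fail for M = 0.) -/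
theorem result
    (R : Type u) [CommRing R] (M : Type v) (N : Type w)
    [AddCommGroup M] [Module R M] [AddCommGroup N] [Module R N]
    (r₁ r₂ : R) (h : RingTheory.Sequence.IsWeaklyRegular N [r₁, r₂]) :
    RingTheory.Sequence.IsWeaklyRegular (M →ₗ[R] N) [r₁, r₂] := by
  rw [RingTheory.Sequence.isWeaklyRegular_cons_iff, RingTheory.Sequence.isWeaklyRegular_singleton_iff] at h ⊢
  obtain ⟨h1, h2⟩ := h
  refine ⟨fun f g hfg => LinearMap.ext fun x => h1 (LinearMap.congr_fun hfg x), ?_⟩
  rw [isSMulRegular_quotient_iff_mem_of_smul_mem] at h2 ⊢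
  intro f hf
  rw [Submodule.mem_smul_pointwise_iff_exists] at hf
  obtain ⟨g, -, hg⟩ := hf
  have : ∀ x, ∃ y, r₁ • y = f x := fun x => by
    have := h2 (f x) (by rw [← LinearMap.smul_apply, ← hg]; exact Submodule.smul_mem_pointwise_smul _ _ _ Submodule.mem_top)
    obtain ⟨y, -, hy⟩ := (Submodule.mem_smul_pointwise_iff_exists _ _ _).1 this
    exact ⟨y, hy⟩
  choose y hy using this
  let h : M →ₗ[R] N :=
    { toFun := y
      map_add' := fun a b => h1 (by simp only [smul_add, hy, map_add])
      map_smul' := fun c a => h1 (by simp only [RingHom.id_apply, smul_comm r₁ c, hy, map_smul]) }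
  rw [Submodule.mem_smul_pointwise_iff_exists]
  exact ⟨h, Submodule.mem_top, LinearMap.ext hy⟩

end Groth.Agent.S18539
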