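import Groth.Statements.S18544
import Mathlib
import Groth.Statements.S18889
import Groth.Statements.S17721

set_option autoImplicit false
universe u
open CAlg

namespace Groth.Agent.S18544

open Matrix in

/-- Let F be an algebraically closed field of characteristic zero, n a natural number, and N a nonzero
polynomial over F in the n² matrix entries whose evaluation on n × n matrices is multiplicative,
N(xy) = N(x)·N(y) for all x, y (a norm form on the matrix algebra M_n(F) over F). Then N is a
natural power of the determinant: for some m, N(x) = det(x)^m for every matrix x. The published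
statement concerns norm forms of any central simple algebra over a subfield; this row is the case of
the full matrix algebra over an algebraically closed field, which is the case its proof treats. -/
theorem result (F : Type u) [Field F] [IsAlgClosed F]
    [CharZero F] (n : ℕ) (N : MvPolynomial (Fin n × Fin n) F) (hN : N ≠ 0)
    (hmul : ∀ x y : Matrix (Fin n) (Fin n) F,
      MvPolynomial.eval (fun ij : Fin n × Fin n => (x * y) ij.1 ij.2) N =
        MvPolynomial.eval (fun ij : Fin n × Fin n => x ij.1 ij.2) N * MvPolynomial.eval (fun ij : Fin n × Fin n => y ij.1 ij.2) N) :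
    ∃ m : ℕ, ∀ x : Matrix (Fin n) (Fin n) F,
      MvPolynomial.eval (fun ij : Fin n × Fin n => x ij.1 ij.2) N = x.det ^ m := by
  classical
  let ν : Matrix (Fin n) (Fin n) F → F := fun x => MvPolynomial.eval (fun ij => x ij.1 ij.2) N
  have h1 : ν 1 = 1 := by
    by_contra h
    apply hN
    apply MvPolynomial.funext
    intro z
    have e := hmul 1 (Matrix.of fun i j => z (i, j))
    have e1 := hmul 1 1
    rw [mul_one] at e1
    have h0 : ν 1 = 0 := (mul_eq_zero.1 (show ν 1 * (ν 1 - 1) = 0 by rw [mul_sub, mul_one, sub_eq_zero]; exact e1.symm)).resolve_right (sub_ne_zero.2 h)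
    rw [one_mul] at e
    simp only [ν] at h0
    rw [h0, zero_mul] at e
    simpa using e
  let φ : Matrix (Fin n) (Fin n) F →* F := { toFun := ν, map_one' := h1, map_mul' := hmul }
  -- restriction to a polynomial one-parameter family
  have hpoly : ∀ (A B : Matrix (Fin n) (Fin n) F), ∃ p : Polynomial F, ∀ t : F, p.eval t = φ (A + t • B) := by
    intro A B
    refine ⟨MvPolynomial.aeval (fun ij : Fin n × Fin n => Polynomial.C (A ij.1 ij.2) + Polynomial.X * Polynomial.C (B ij.1 ij.2)) N, fun t => ?_⟩
    rw [← Polynomial.coe_evalRingHom, MvPolynomial.map_aeval]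
    have hid : (Polynomial.evalRingHom t).comp (algebraMap F (Polynomial F)) = RingHom.id F := by
      ext a; simp
    rw [hid]
    show MvPolynomial.eval₂Hom (RingHom.id F) _ N = _
    show MvPolynomial.eval _ N = ν _
    simp only [ν]
    refine congrArg (fun g : Fin n × Fin n → F => MvPolynomial.eval g N) (funext fun ij => ?_)
    simp
    exact mul_comm _ _
  -- transvections map to one
  have htr : ∀ t : Matrix.TransvectionStruct (Fin n) F, φ t.toMatrix = 1 := by
    rintro ⟨i, j, hij, c⟩
    obtain ⟨p, hp⟩ := hpoly 1 (Matrix.single i j (1 : F))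
    have hp' : ∀ s : F, p.eval s = φ (Matrix.transvection i j s) := fun s => by
      rw [hp]; simp [Matrix.transvection, Matrix.smul_single]
    have hinv : p * p.comp (-Polynomial.X) = 1 := by
      refine Polynomial.funext fun s => ?_
      rw [Polynomial.eval_mul, Polynomial.eval_comp, hp', hp', ← map_mul,
        Matrix.transvection_mul_transvection_same _ _ hij]
      simp
    have hu : IsUnit p := IsUnit.of_mul_eq_one _ hinv
    obtain ⟨a, -, ha⟩ := Polynomial.isUnit_iff.1 hu
    have h0 := hp' 0
    simp only [← ha, Polynomial.eval_C, Matrix.transvection_zero, map_one] at h0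
    show φ (Matrix.transvection i j c) = 1
    rw [← hp', ← ha, Polynomial.eval_C, h0]
  -- one diagonal parameter
  have hdiag : ∀ i : Fin n, ∃ m : ℕ, ∀ t : F, φ (Matrix.diagonal (Pi.mulSingle i t)) = t ^ m := by
    intro i
    obtain ⟨p, hp⟩ := hpoly (Matrix.diagonal (Pi.mulSingle i (0 : F))) (Matrix.single i i (1 : F))
    have hp' : ∀ t : F, p.eval t = φ (Matrix.diagonal (Pi.mulSingle i t)) := fun t => by
      rw [hp]; congr 1
      ext a b
      by_cases hab : a = b
      · subst hab
        by_cases hai : a = i
        · subst hai; simp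
        · simp [hai, Ne.symm hai]
      · simp [hab]
        rw [Matrix.single_apply, if_neg]
        exact fun h' => hab (h'.1.symm.trans h'.2)
    have hm : ∀ s t : F, p.eval (s * t) = p.eval s * p.eval t := fun s t => by
      rw [hp', hp', hp', ← map_mul, Matrix.diagonal_mul_diagonal, Pi.mulSingle_mul]
      rfl
    have hp1 : p.eval 1 = 1 := by rw [hp', Pi.mulSingle_one]; simp
    have hp0 : p ≠ 0 := fun h => by simp [h] at hp1
    have h2 : p.comp (Polynomial.C 2 * Polynomial.X) = Polynomial.C (p.eval 2) * p :=
      Polynomial.funext fun t => by simp [hm]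
    have hc := fun k => congrArg (fun q : Polynomial F => q.coeff k) h2
    simp only [Polynomial.comp_C_mul_X_coeff, Polynomial.coeff_C_mul] at hc
    have huniq : ∀ k ∈ p.support, k = p.natDegree := by
      intro k hk
      have hk' : p.coeff k ≠ 0 := Polynomial.mem_support_iff.1 hk
      have e1 : (2 : F) ^ k = p.eval 2 := mul_left_cancel₀ hk' ((hc k).trans (mul_comm _ _))
      have e2 : (2 : F) ^ p.natDegree = p.eval 2 :=
        mul_left_cancel₀ (Polynomial.leadingCoeff_ne_zero.2 hp0) ((hc p.natDegree).trans (mul_comm _ _))
      have e3 : ((2 ^ k : ℕ) : F) = ((2 ^ p.natDegree : ℕ) : F) := by push_cast; rw [e1, e2]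
      exact Nat.pow_right_injective le_rfl (Nat.cast_injective e3)
    refine ⟨p.natDegree, fun t => ?_⟩
    have hev : ∀ t : F, p.eval t = p.leadingCoeff * t ^ p.natDegree := fun t => by
      rw [Polynomial.eval_eq_sum, Polynomial.sum_def, Finset.sum_eq_single p.natDegree]
      · rfl
      · intro k hk hne; exact absurd (huniq k hk) hne
      · intro h; simp [Polynomial.notMem_support_iff.1 h]
    have h11 := hev 1
    rw [hp1, one_pow, mul_one] at h11
    rw [← hp', hev, ← h11, one_mul]
  choose m hm using hdiag
  have heqm : ∀ i j, m i = m j := by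
    intro i j
    let σ := Equiv.swap i j
    let P : Matrix (Fin n) (Fin n) F := σ.toPEquiv.toMatrix
    let Q : Matrix (Fin n) (Fin n) F := σ.symm.toPEquiv.toMatrix
    have hPQ : P * Q = 1 := by
      simp [P, Q, ← PEquiv.toMatrix_trans, ← Equiv.toPEquiv_trans, Equiv.toPEquiv_refl]
    have e : ∀ t : F, P * Matrix.diagonal (Pi.mulSingle j t : Fin n → F) * Q = Matrix.diagonal (Pi.mulSingle i t : Fin n → F) := fun t => by
      simp only [P, Q, PEquiv.toMatrix_toPEquiv_mul, PEquiv.mul_toMatrix_toPEquiv, Equiv.symm_symm,
        Matrix.submatrix_submatrix, Function.comp_id, Function.id_comp]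
      rw [Matrix.submatrix_diagonal_equiv]
      congr 1
      ext a
      show (Pi.mulSingle j t : Fin n → F) (σ a) = _
      by_cases ha : a = i
      · subst ha; simp [σ]
      · rw [Pi.mulSingle_eq_of_ne ha, Pi.mulSingle_eq_of_ne]
        intro h
        exact ha (σ.injective (h.trans (Equiv.swap_apply_left i j).symm))
    have h2 := congrArg φ (e 2)
    rw [map_mul, map_mul, hm, hm, mul_right_comm, ← map_mul, hPQ, map_one, one_mul] at h2
    have e3 : ((2 ^ m j : ℕ) : F) = ((2 ^ m i : ℕ) : F) := by push_cast; exact h2
    exact (Nat.pow_right_injective le_rfl (Nat.cast_injective e3)).symm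
  let M := if h : 0 < n then m ⟨0, h⟩ else 0
  have hM : ∀ i, m i = M := fun i => by
    have : 0 < n := i.pos
    simp only [M, dif_pos this]
    exact heqm _ _
  have hd : ∀ d : Fin n → F, φ (Matrix.diagonal d) = (∏ i, d i) ^ M := by
    intro d
    have key := map_prod (φ.comp (Matrix.diagonalRingHom (Fin n) F).toMonoidHom) (fun i => Pi.mulSingle i (d i)) Finset.univ
    rw [Finset.univ_prod_mulSingle] at key
    simp only [MonoidHom.coe_comp, Function.comp_apply, RingHom.toMonoidHom_eq_coe, MonoidHom.coe_coe, Matrix.diagonalRingHom_apply] at key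
    rw [key, ← Finset.prod_pow]
    exact Finset.prod_congr rfl fun i _ => by rw [hm, hM]
  refine ⟨M, fun x => ?_⟩
  obtain ⟨L, L', d, hx⟩ := Matrix.Pivot.exists_list_transvec_mul_diagonal_mul_list_transvec x
  have hL : ∀ L : List (Matrix.TransvectionStruct (Fin n) F),
      φ (L.map Matrix.TransvectionStruct.toMatrix).prod = 1 ∧ (L.map Matrix.TransvectionStruct.toMatrix).prod.det = 1 := by
    intro L
    refine ⟨?_, Matrix.TransvectionStruct.det_toMatrix_prod L⟩
    rw [map_list_prod, List.map_map]
    exact List.prod_eq_one (by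
      intro a ha
      obtain ⟨t, -, rfl⟩ := List.mem_map.1 ha
      exact htr t)
  show φ x = x.det ^ M
  rw [hx, map_mul, map_mul, (hL L).1, (hL L').1, Matrix.det_mul, Matrix.det_mul, (hL L).2, (hL L').2, one_mul, mul_one,
    one_mul, mul_one, Matrix.det_diagonal, hd]

end Groth.Agent.S18544
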