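import Groth.Statements.S18545
import Mathlib.LinearAlgebra.BilinearForm.Orthogonal
import Mathlib.LinearAlgebra.Dimension.Constructions
import Mathlib.Algebra.BigOperators.Pi

set_option autoImplicit false
universe u
open AbVar

namespace Groth.Agent.S18545

/-- A step in the proof of Tate's isogeny result over finite fields, in linear-algebra form. Let K be a
field and V a K-vector space of finite dimension 2g carrying a nondegenerate alternating bilinear
form e. Let F be a K-subalgebra of End(V) which is isomorphic as a K-algebra to a finite product K ×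
⋯ × K and which is spanned over K by a set S of similitudes of e (for each s in S there is a nonzero
scalar c with e(s x, s y) = c·e(x, y) for all x, y). Let D be a set of endomorphisms of V such that
every F-stable isotropic subspace W of dimension g (a maximal isotropic subspace) is D-stable. Then
every F-stable isotropic subspace of V is D-stable. (In the application V is the rational ℓ-adic
Tate module of an abelian variety over a finite field with the Riemann form of a polarisation, F the
algebra generated by the Galois group, split for the chosen ℓ, and D the commutant of the image of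
the endomorphism algebra; the hypothesis on maximal isotropic subspaces is the step obtained from
the finiteness of isomorphism classes.) -/
theorem result (K : Type u) [Field K]
    (V : Type u) [AddCommGroup V] [Module K V] [FiniteDimensional K V] (g : ℕ) (hV : Module.finrank K V = 2 * g)
    (e : LinearMap.BilinForm K V) (he : e.IsAlt) (hnd : e.Nondegenerate)
    (F : Subalgebra K (Module.End K V)) (r : ℕ) (hF : Nonempty (F ≃ₐ[K] (Fin r → K)))
    (S : Set (Module.End K V)) (hS : Submodule.span K S = Subalgebra.toSubmodule F)
    (hsim : ∀ s ∈ S, ∃ c : K, c ≠ 0 ∧ ∀ x y : V, e (s x) (s y) = c * e x y)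
    (D : Set (Module.End K V))
    (hmax : ∀ W : Submodule K V, (∀ f ∈ F, ∀ w ∈ W, f w ∈ W) → (∀ x ∈ W, ∀ y ∈ W, e x y = 0) →
      Module.finrank K W = g → ∀ d ∈ D, ∀ w ∈ W, d w ∈ W)
    (W : Submodule K V) (hWF : ∀ f ∈ F, ∀ w ∈ W, f w ∈ W) (hWiso : ∀ x ∈ W, ∀ y ∈ W, e x y = 0) :
    ∀ d ∈ D, ∀ w ∈ W, d w ∈ W := by
  classical
  obtain ⟨E⟩ := hF
  set ε : Fin r → Module.End K V := fun i => ((E.symm (Pi.single i 1) : F) : Module.End K V) with hε
  have hεF : ∀ i, ε i ∈ F := fun i => (E.symm (Pi.single i 1)).2
  have hεsum : ∑ i, ε i = 1 := by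
    have : ∑ i, E.symm (Pi.single i 1) = (1 : F) := by
      rw [← map_sum, ← map_one E.symm]; congr 1; exact Finset.univ_sum_single 1
    simpa [hε] using congrArg Subtype.val this
  have hεmul : ∀ (f : Module.End K V) (hf : f ∈ F) (i : Fin r), f * ε i = (E ⟨f, hf⟩ i) • ε i := by
    intro f hf i
    have : (⟨f, hf⟩ : F) * E.symm (Pi.single i 1) = (E ⟨f, hf⟩ i) • E.symm (Pi.single i 1) := by
      apply E.injective
      rw [map_mul, map_smul, E.apply_symm_apply]
      funext j
      by_cases hj : j = i <;> simp [hj]
    exact congrArg Subtype.val this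
  have hrefl : e.IsRefl := he.isRefl
  suffices main : ∀ (m : ℕ) (W : Submodule K V), (∀ f ∈ F, ∀ w ∈ W, f w ∈ W) → (∀ x ∈ W, ∀ y ∈ W, e x y = 0) →
      g - Module.finrank K W ≤ m → ∀ d ∈ D, ∀ w ∈ W, d w ∈ W from
    main _ W hWF hWiso le_rfl
  intro m
  induction m with
  | zero =>
    intro W hF' hiso hle
    refine hmax W hF' hiso (le_antisymm ?_ (by omega))
    have h1 := LinearMap.BilinForm.finrank_orthogonal hnd W
    have h2 : Module.finrank K W ≤ Module.finrank K (e.orthogonal W) :=
      Submodule.finrank_mono fun x hx => LinearMap.BilinForm.mem_orthogonal_iff.2 fun y hy => hiso y hy x hx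
    omega
  | succ m ih =>
    intro W hF' hiso hle d hd w hw
    by_cases hdone : g - Module.finrank K W ≤ m
    · exact ih W hF' hiso hdone d hd w hw
    set O := e.orthogonal W with hO
    have hOmem : ∀ y, y ∈ O ↔ ∀ x ∈ W, e x y = 0 := fun y => LinearMap.BilinForm.mem_orthogonal_iff
    have hWO : W ≤ O := fun x hx => (hOmem x).2 fun y hy => hiso y hy x hx
    have hOF : ∀ f ∈ F, ∀ y ∈ O, f y ∈ O := by
      have hS' : ∀ s ∈ S, ∀ y ∈ O, s y ∈ O := by
        intro s hs y hy
        rw [hOmem] at hy ⊢
        intro x hx
        obtain ⟨c, hc, hce⟩ := hsim s hs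
        have hsF : s ∈ F := by
          rw [← Subalgebra.mem_toSubmodule, ← hS]; exact Submodule.subset_span hs
        have hinj : Function.Injective (s.restrict (hF' s hsF)) := by
          intro a b hab
          have hab' : s a = s b := congrArg Subtype.val hab
          apply Subtype.ext
          refine sub_eq_zero.1 (hnd.1 _ fun z => ?_)
          have := hce ((a : V) - b) z
          rw [map_sub, hab', sub_self, map_zero, LinearMap.zero_apply, eq_comm] at this
          exact (mul_eq_zero.1 this).resolve_left hc
        obtain ⟨⟨x', hx'⟩, hxe⟩ := LinearMap.surjective_of_injective hinj ⟨x, hx⟩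
        rw [show x = s x' from (congrArg Subtype.val hxe).symm, hce, hy x' hx', mul_zero]
      intro f hf y hy
      have hf' : f ∈ Submodule.span K S := by rw [hS]; exact hf
      refine Submodule.span_induction (p := fun f _ => f y ∈ O) (fun s hs => hS' s hs y hy)
        (by simp) (fun a b _ _ ha hb => by rw [LinearMap.add_apply]; exact add_mem ha hb)
        (fun c a _ ha => by rw [LinearMap.smul_apply]; exact Submodule.smul_mem _ c ha) hf'
    -- adding a homogeneous isotropic vector
    have ext1 : ∀ (i : Fin r) (y : V), y ∈ O → ε i y ∉ W → d w ∈ W ⊔ Submodule.span K {ε i y} := by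
      intro i y hy hyW
      set W' := W ⊔ Submodule.span K {ε i y}
      have hz : ε i y ∈ O := hOF _ (hεF i) y hy
      have hW'F : ∀ f ∈ F, ∀ v ∈ W', f v ∈ W' := by
        intro f hf v hv
        obtain ⟨a, ha, b, hb, rfl⟩ := Submodule.mem_sup.1 hv
        obtain ⟨c, rfl⟩ := Submodule.mem_span_singleton.1 hb
        rw [map_add, map_smul, ← Module.End.mul_apply f (ε i), hεmul f hf i, LinearMap.smul_apply, smul_smul]
        exact Submodule.add_mem_sup (hF' f hf a ha) (Submodule.smul_mem _ _ (Submodule.mem_span_singleton_self _))
      have hW'iso : ∀ x ∈ W', ∀ v ∈ W', e x v = 0 := by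
        intro x hx v hv
        obtain ⟨a, ha, b, hb, rfl⟩ := Submodule.mem_sup.1 hx
        obtain ⟨c, rfl⟩ := Submodule.mem_span_singleton.1 hb
        obtain ⟨a', ha', b', hb', rfl⟩ := Submodule.mem_sup.1 hv
        obtain ⟨c', rfl⟩ := Submodule.mem_span_singleton.1 hb'
        have h1 := (hOmem _).1 hz a ha
        have h2 := hrefl _ _ ((hOmem _).1 hz a' ha')
        simp [hiso a ha a' ha', h1, h2, he (ε i y)]
      refine ih W' hW'F hW'iso ?_ d hd w (Submodule.mem_sup_left hw)
      have : W < W' := lt_of_le_of_ne le_sup_left fun h => hyW (h ▸ Submodule.mem_sup_right (Submodule.mem_span_singleton_self _))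
      have := Submodule.finrank_lt_finrank_of_lt this
      omega
    have hdimO : Module.finrank K W + 2 ≤ Module.finrank K O := by
      have h1 := LinearMap.BilinForm.finrank_orthogonal hnd W
      rw [hO, h1]; omega
    -- two independent homogeneous directions
    have hyex : ∀ W₀ : Submodule K V, W ≤ W₀ → Module.finrank K W₀ < Module.finrank K O →
        ∃ i, ∃ y ∈ O, ε i y ∉ W₀ := by
      intro W₀ _ hlt
      by_contra hall
      push Not at hall
      refine absurd (Submodule.finrank_mono (show O ≤ W₀ from fun y hy => ?_)) (not_le.2 hlt)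
      have hsum : ∑ i, ε i y = y := by rw [← LinearMap.sum_apply, hεsum, Module.End.one_apply]
      rw [← hsum]
      exact Submodule.sum_mem _ fun i _ => hall i y hy
    obtain ⟨i, y, hy, hyW⟩ := hyex W le_rfl (by omega)
    have hcard : Module.finrank K ↥(W ⊔ Submodule.span K {ε i y}) ≤ Module.finrank K W + 1 := by
      refine (Submodule.finrank_add_le_finrank_add_finrank _ _).trans ?_
      have : Module.finrank K ↥(Submodule.span K {ε i y}) ≤ 1 := by
        refine (finrank_span_le_card _).trans ?_
        simp
      omega
    obtain ⟨j, z, hz, hzW⟩ := hyex (W ⊔ Submodule.span K {ε i y}) le_sup_left (by omega)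
    have h1 := ext1 i y hy hyW
    have h2 := ext1 j z hz (fun h => hzW (Submodule.mem_sup_left h))
    obtain ⟨a, ha, b, hb, hab⟩ := Submodule.mem_sup.1 h2
    obtain ⟨c, rfl⟩ := Submodule.mem_span_singleton.1 hb
    by_cases hc : c = 0
    · rw [← hab, hc, zero_smul, add_zero]; exact ha
    · refine absurd ?_ hzW
      have : c • ε j z ∈ W ⊔ Submodule.span K {ε i y} := by
        rw [show c • ε j z = d w - a by rw [← hab]; abel]
        exact sub_mem h1 (Submodule.mem_sup_left ha)
      have := Submodule.smul_mem _ c⁻¹ this
      rwa [inv_smul_smul₀ hc] at this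

end Groth.Agent.S18545
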