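import Groth.Statements.S18547
import Groth.Agent.Lib.SymSq25.Small

set_option autoImplicit false
open scoped TensorProduct
universe u v
open GalCoh

namespace Groth.Agent.S18547

/-- Let G be a group acting linearly on a vector space V of dimension 3 over the field 𝔽₂ with two
elements. Then the connecting map (Λ²V)^G → H¹(G, V) of the short exact sequence of G-modules 0 → V
→ S²V → Λ²V → 0 (v ↦ v·v, x·y ↦ x ∧ y) is zero; equivalently, every G-invariant element of Λ²V is
the image of a G-invariant element of S²V. Here N_a ⊆ V ⊗ V is the span of the tensors v ⊗ v and N_s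
⊆ N_a the span of the tensors x ⊗ y + y ⊗ x, so that S²V = (V ⊗ V)/N_s and Λ²V = (V ⊗ V)/N_a with
the diagonal action of G, and the statement reads: a tensor t whose class modulo N_a is G-invariant
is congruent modulo N_a to a tensor whose class modulo N_s is G-invariant. (The source writes the
rank hypothesis on the lattice M with V = M/2M, which has the same rank, and has the absolute Galois
group of a field acting; any group is allowed here.) -/
theorem result (G : Type u) [Group G] (V : Type v)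
    [AddCommGroup V] [Module (ZMod 2) V] (hV : Module.finrank (ZMod 2) V = 3)
    (ρ : Representation (ZMod 2) G V) (t : V ⊗[ZMod 2] V)
    (ht : ∀ g : G, ρ.tprod ρ g t - t ∈ Submodule.span (ZMod 2) (Set.range fun v : V => v ⊗ₜ[ZMod 2] v)) :
    ∃ t' : V ⊗[ZMod 2] V, t' - t ∈ Submodule.span (ZMod 2) (Set.range fun v : V => v ⊗ₜ[ZMod 2] v) ∧
      ∀ g : G, ρ.tprod ρ g t' - t' ∈
        Submodule.span (ZMod 2) (Set.range fun p : V × V => p.1 ⊗ₜ[ZMod 2] p.2 + p.2 ⊗ₜ[ZMod 2] p.1) := by
  classical
  haveI : Module.Finite (ZMod 2) V := Module.finite_of_finrank_eq_succ (n := 2) hV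
  let b := Module.finBasisOfFinrankEq (ZMod 2) V hV
  obtain ⟨x, y, hxy⟩ := SymSq25.exists_tmul_sub_mem_three b t
  change ∀ g : G, ρ.tprod ρ g t - t ∈ SymSq25.sq V at ht
  change ∃ t' : V ⊗[ZMod 2] V, t' - t ∈ SymSq25.sq V ∧
    ∀ g : G, ρ.tprod ρ g t' - t' ∈ SymSq25.sym V
  by_cases hne : x ⊗ₜ[ZMod 2] y ∈ SymSq25.sq V
  · refine ⟨0, ?_, fun g => by simp⟩
    simpa using sub_mem hxy hne
  refine ⟨SymSq25.phi x y, ?_, fun g => ?_⟩
  · simpa using add_mem (SymSq25.phi_sub_tmul_mem x y) hxy
  rw [SymSq25.tprod_phi]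
  refine SymSq25.phi_congr hne ?_ b
  have e : ρ g x ⊗ₜ[ZMod 2] ρ g y = ρ.tprod ρ g (x ⊗ₜ[ZMod 2] y) := by
    simp [Representation.tprod_apply]
  rw [e]
  have h1 := SymSq25.tprod_mem_sq ρ g hxy
  rw [map_sub] at h1
  simpa using sub_mem (add_mem h1 (ht g)) hxy

end Groth.Agent.S18547
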