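import Groth.Statements.S18555
import Groth.Agent.S14381
import Groth.Agent.S16853
import Groth.Agent.S0002
import Groth.Agent.Lib.GaCoh3.ASGlobal
import Groth.Agent.Lib.LocConst24.Const
import Groth.Agent.Lib.PBC24.FieldInv
import Groth.Prelude.Def_FinFr

set_option autoImplicit false
set_option linter.style.haveILetI false
set_option backward.isDefEq.respectTransparency false
set_option backward.isDefEq.respectTransparency.types false
universe u
open CategoryTheory CategoryTheory.Limits AlgebraicGeometry Opposite CategoryTheory.Abelian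

namespace Groth.Agent.S18555

open Groth.Agent

/-- degree one cohomology with constant coefficients vanishes when every cover splits -/
theorem subsingleton_H_one {X : Scheme.{u}} [CompactSpace X] [QuasiSeparatedSpace X] [ConnectedSpace X]
    (hπ : ∀ Y : FEt.Cat X, Pi1.IsSplit Y) (M : Type) [AddCommGroup M] [Finite M] (n : ℕ) (hn : 0 < n)
    (hnM : ∀ m : M, n • m = 0) : Subsingleton (EtCoh.H X (EtCoh.const X M) 1) := by
  refine subsingleton_of_forall_eq 0 fun ζ => ?_
  have hk : EtCoh.KilledBy n (EtCoh.const X M) := by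
    have h0 : (n • 𝟙 (EtCoh.const X M)) = 0 := by
      rw [← (constantSheaf X.smallEtaleTopology AddCommGrpCat.{u + 1}).map_id, ← Functor.map_nsmul,
        show n • 𝟙 (AddCommGrpCat.of (ULift.{u + 1} M)) = 0 from ?_, Functor.map_zero]
      refine AddCommGrpCat.ext fun x => ULift.ext _ _ ?_
      exact hnM x.down
    intro U s
    have h := congrArg (fun φ : EtCoh.const X M ⟶ EtCoh.const X M => φ.hom.app (op U) s) h0
    have hj : ∀ j : ℕ, (j • 𝟙 (EtCoh.const X M)).hom.app (op U) s = j • s := fun j => by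
      induction j with
      | zero => simp
      | succ j ih =>
        rw [succ_nsmul, succ_nsmul, ← ih]
        rfl
    refine (hj n).symm.trans (h.trans ?_)
    rfl
  haveI : Finite (_root_.ConnectedComponents ↥X) := by
    haveI : Subsingleton (_root_.ConnectedComponents ↥X) := inferInstance
    infer_instance
  obtain ⟨Y', g, hgf, hge, hgs, hg⟩ := S14381.result X inferInstance (EtCoh.const X M) (LocConst24.flc_const X M)
    ⟨n, hn, hk⟩ ζ
  obtain ⟨ι, _, e, he⟩ := hπ (MorphismProperty.Over.mk ⊤ g ⟨hgf, hge⟩)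
  haveI : Nonempty ι := by
    by_contra hι
    rw [not_nonempty_iff] at hι
    obtain ⟨x⟩ := (inferInstance : Nonempty ↥X)
    obtain ⟨y, -⟩ := g.surjective x
    obtain ⟨j, -, -⟩ := (sigmaOpenCover (fun _ : ι => X)).exists_eq (e.hom y)
    exact hι.false j
  obtain ⟨i⟩ := ‹Nonempty ι›
  haveI := EtStalk.preservesFiniteLimits_pull g
  exact PBC24.eq_zero_of_Hpull_id (Sigma.ι (fun _ : ι => X) i ≫ e.inv) g (by
    rw [Category.assoc]; exact he i) _ ζ hg

/-- a Frobenius semilinear map without fixed vectors is nilpotent -/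
theorem exists_iterate_eq_zero {k : Type u} [Field k] [IsAlgClosed k] (p : ℕ) [Fact p.Prime] [CharP k p]
    {V : Type u} [AddCommGroup V] [Module k V] [FiniteDimensional k V] (F : V →+ V)
    (hF : ∀ (c : k) (v : V), F (c • v) = c ^ p • F v) (hfix : ∀ v, F v = v → v = 0) :
    ∃ m, ∀ v, (F^[m]) v = 0 := by
  classical
  haveI : PerfectRing k p := inferInstance
  let W : ℕ → Submodule k V := fun m =>
    { carrier := Set.range (F^[m])
      add_mem' := by
        rintro _ _ ⟨a, rfl⟩ ⟨b, rfl⟩
        exact ⟨a + b, iterate_map_add F m a b⟩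
      zero_mem' := ⟨0, iterate_map_zero F m⟩
      smul_mem' := by
        rintro c _ ⟨a, rfl⟩
        have hit : ∀ (j : ℕ) (d : k) (v : V), (F^[j]) (d • v) = d ^ p ^ j • (F^[j]) v := by
          intro j
          induction j with
          | zero => intro d v; simp
          | succ j ih =>
            intro d v
            rw [Function.iterate_succ_apply', Function.iterate_succ_apply', ih, hF, ← pow_mul, ← pow_succ]
        obtain ⟨d, hd⟩ := IsAlgClosed.exists_pow_nat_eq c (pow_pos (Fact.out : p.Prime).pos m)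
        exact ⟨d • a, by rw [hit, hd]⟩ }
  have hW : ∀ m, W (m + 1) ≤ W m := fun m => by
    rintro _ ⟨a, rfl⟩
    exact ⟨F a, rfl⟩
  obtain ⟨m, hm⟩ : ∃ m, ∀ j, Module.finrank k (W m) ≤ Module.finrank k (W j) :=
    ⟨_, fun j => Function.argmin_le (fun j => Module.finrank k (W j)) j⟩
  have heq : W (m + 1) = W m := Submodule.eq_of_le_of_finrank_le (hW m) (hm _)
  let G : W m →+ W m :=
    { toFun := fun v => ⟨F v.1, by
        obtain ⟨a, ha⟩ := v.2
        exact hW m ⟨a, by rw [Function.iterate_succ_apply', ha]⟩⟩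
      map_zero' := Subtype.ext (map_zero F)
      map_add' := fun a b => Subtype.ext (map_add F a.1 b.1) }
  have hG : ∀ (c : k) (v : W m), G (c • v) = c ^ p • G v := fun c v => Subtype.ext (hF c v.1)
  have hsurj : Function.Surjective G := fun v => by
    have hv : v.1 ∈ W (m + 1) := by rw [heq]; exact v.2
    obtain ⟨a, ha⟩ := hv
    exact ⟨⟨(F^[m]) a, a, rfl⟩, Subtype.ext ((Function.iterate_succ_apply' F m a).symm.trans ha)⟩
  let b := Module.finBasis k (W m)
  choose c hc using fun i => hsurj (b i)
  have hGsum : ∀ a : Fin (Module.finrank k (W m)) → k, G (∑ i, a i • c i) = ∑ i, a i ^ p • b i := fun a => by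
    simp [map_sum, hG, hc]
  have hzero : ∀ a : Fin (Module.finrank k (W m)) → k, G (∑ i, a i • c i) = 0 → ∀ i, a i = 0 := fun a ha i =>
    (pow_eq_zero_iff (Fact.out : p.Prime).ne_zero).1
      (Fintype.linearIndependent_iff.1 b.linearIndependent _ ((hGsum a).symm.trans ha) i)
  have hli : LinearIndependent k c := Fintype.linearIndependent_iff.2 fun a ha => hzero a (by rw [ha, map_zero])
  let cb := basisOfLinearIndependentOfCardEqFinrank' c hli (by simp)
  have hbij : Function.Bijective G := ⟨(injective_iff_map_eq_zero G).2 fun v hv => by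
    have hr : v = ∑ i, cb.repr v i • c i := by
      conv_lhs => rw [← cb.sum_repr v]
      simp [cb]
    have hz := hzero _ ((congrArg G hr.symm).trans hv)
    rw [hr]
    simp [hz], hsurj⟩
  obtain ⟨κ, B, hB⟩ := S16853.result k p 1 le_rfl (W m) G (fun a v => by rw [pow_one]; exact hG a v) hbij
  refine ⟨m, fun v => ?_⟩
  have hbot : (⟨(F^[m]) v, v, rfl⟩ : W m) = 0 := by
    rw [← B.repr.injective.eq_iff, map_zero]
    ext i
    exfalso
    exact B.ne_zero i (Subtype.ext (hfix _ (congrArg Subtype.val (hB i))))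
  exact congrArg Subtype.val hbot

/-- Let k be an algebraically closed field of characteristic p > 0 and X a connected proper k-scheme
with trivial étale fundamental group. Then the pull-back by the absolute Frobenius on H^1(X, O_X) is
nilpotent. -/
theorem result
    (p : ℕ) [Fact p.Prime] (k : Type u) [Field k] [IsAlgClosed k] [CharP k p]
    (X : Scheme.{u}) [X.Over (Spec (CommRingCat.of k))] [IsProper (X ↘ Spec (CommRingCat.of k))]
    [ConnectedSpace X] [FrobSch.IsCharP X p]
    (hπ : ∀ Y : FEt.Cat X, Pi1.IsSplit Y) :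
    ∃ b : ℕ, 0 < b ∧ ∀ x : Coh.HH X (Coh.structureModule X) 1,
      (W4c5isocrystsimpconn.frobH X p 1)^[b] x = 0 := by
  have h0 : (p : Γ(X, ⊤)) = 0 := FrobSch.IsCharP.natCast_eq_zero
  let f := X ↘ Spec (CommRingCat.of k)
  haveI : CompactSpace X := QuasiCompact.compactSpace_of_compactSpace f
  haveI : QuasiSeparatedSpace X := quasiSeparatedSpace_of_quasiSeparated f
  haveI : IsLocallyNoetherian X := LocallyOfFiniteType.isLocallyNoetherian f
  haveI : Module.Finite k (Coh.HH X (Coh.structureModule X) 1) :=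
    S0002.result k X _ (M1.isCoh_structureModule X) 1
  haveI : NeZero p := ⟨(Fact.out : p.Prime).ne_zero⟩
  haveI hH1 := subsingleton_H_one hπ (ZMod p) p (Fact.out : p.Prime).pos fun m => by simp
  have hfr : W4c5isocrystsimpconn.frobAb X p = GaCoh3.frobAb p h0 :=
    Sheaf.hom_ext (NatTrans.ext (funext fun U => AddCommGrpCat.ext fun _ => rfl))
  let F : Coh.HH X (Coh.structureModule X) 1 →+ Coh.HH X (Coh.structureModule X) 1 :=
    Sheaf.H.map (GaCoh3.frobAb p h0) 1
  have hF : ∀ (c : k) x, F (c • x) = c ^ p • F x := fun c x => by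
    show Sheaf.H.map (GaCoh3.frobAb p h0) 1 (Coh.toGlobal f c • x) =
      Coh.toGlobal f (c ^ p) • Sheaf.H.map (GaCoh3.frobAb p h0) 1 x
    rw [GaCoh3.H_map_frobAb_smul, map_pow]
  obtain ⟨e, he⟩ := GaCoh3.exists_H_Ga_equiv X 1
  have hfix : ∀ v, F v = v → v = 0 := fun v hv => by
    have h1 : Sheaf.H.map (W4c5etcohweilstudent.artinSchreierEndo X p Fact.out h0) 1 (e.symm v) = 0 := by
      refine e.injective ?_
      rw [he _ _ (GaCoh3.resZar_artinSchreier p h0), e.apply_symm_apply, GaCoh3.H_map_asAb, map_zero, sub_eq_zero]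
      exact hv
    obtain ⟨y, hy⟩ := Ext.covariant_sequence_exact₂ _ (GaCoh3.asSeq_shortExact p h0) (e.symm v) h1
    have hy0 : y = 0 := hH1.elim _ _
    subst hy0
    rw [Ext.zero_comp] at hy
    rw [← e.apply_symm_apply v, ← hy, map_zero]
  obtain ⟨m, hm⟩ := exists_iterate_eq_zero p F hF hfix
  refine ⟨m + 1, m.succ_pos, fun x => ?_⟩
  rw [show (W4c5isocrystsimpconn.frobH X p 1) = F from congrArg (fun φ => Sheaf.H.map φ 1) hfr,
    Function.iterate_succ_apply', hm, map_zero]

end Groth.Agent.S18555
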