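import Groth.Statements.S18556
import Groth.Agent.S18555
import Groth.Agent.Lib.CMReg18.PullVb
import Groth.Agent.Lib.TensorMod.Invertible
import Groth.Agent.Lib.DPerf.Free

set_option autoImplicit false
set_option linter.style.haveILetI false
set_option backward.isDefEq.respectTransparency false
set_option backward.isDefEq.respectTransparency.types false
universe u
open CategoryTheory CategoryTheory.Limits AlgebraicGeometry Opposite CategoryTheory.Abelian

namespace Groth.Agent.S18556

open Groth.Agent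

noncomputable section

variable (X : Scheme.{u}) (p : ℕ) [Fact p.Prime] [FrobSch.IsCharP X p]

/-- pullback along the absolute Frobenius -/
abbrev P : X.Modules ⥤ X.Modules := Scheme.Modules.pullback (FrobSch.frob X p)

/-- its powers -/
def Pn : ℕ → (X.Modules ⥤ X.Modules)
  | 0 => 𝟭 _
  | b + 1 => Pn b ⋙ P X p

theorem Pn_obj (b : ℕ) (M : X.Modules) : (Pn X p b).obj M = (P X p).obj^[b] M := by
  induction b with
  | zero => rfl
  | succ b ih => rw [Function.iterate_succ_apply', ← ih]; rfl

/-- the semilinear unit, on abelian sheaves -/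
def u₁ (M : X.Modules) : Coh.toAb M ⟶ Coh.toAb ((P X p).obj M) :=
  ((SheafOfModules.toSheaf X.ringCatSheaf).map
    ((Scheme.Modules.pullbackPushforwardAdjunction (FrobSch.frob X p)).unit.app M) :
    Coh.toAb M ⟶ Coh.toAb ((Scheme.Modules.pushforward (FrobSch.frob X p)).obj ((P X p).obj M)))

theorem u₁_nat {M N : X.Modules} (φ : M ⟶ N) :
    u₁ X p M ≫ (SheafOfModules.toSheaf X.ringCatSheaf).map ((P X p).map φ) =
      (SheafOfModules.toSheaf X.ringCatSheaf).map φ ≫ u₁ X p N := by
  have h := congrArg (SheafOfModules.toSheaf X.ringCatSheaf).map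
    ((Scheme.Modules.pullbackPushforwardAdjunction (FrobSch.frob X p)).unit.naturality φ).symm
  rw [Functor.map_comp, Functor.map_comp] at h
  exact h

/-- iterated unit -/
def U : ∀ (b : ℕ) (M : X.Modules), Coh.toAb M ⟶ Coh.toAb ((Pn X p b).obj M)
  | 0, _ => 𝟙 _
  | b + 1, M => U b M ≫ u₁ X p ((Pn X p b).obj M)

theorem U_nat (b : ℕ) {M N : X.Modules} (φ : M ⟶ N) :
    U X p b M ≫ (SheafOfModules.toSheaf X.ringCatSheaf).map ((Pn X p b).map φ) =
      (SheafOfModules.toSheaf X.ringCatSheaf).map φ ≫ U X p b N := by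
  induction b with
  | zero => exact (Category.id_comp _).trans (Category.comp_id _).symm
  | succ b ih =>
    show (U X p b M ≫ u₁ X p _) ≫ (SheafOfModules.toSheaf X.ringCatSheaf).map ((P X p).map ((Pn X p b).map φ)) =
      _ ≫ U X p b N ≫ u₁ X p _
    rw [Category.assoc, u₁_nat, reassoc_of% ih]

/-- the identification for the structure sheaf -/
def c : ∀ b : ℕ, (Pn X p b).obj (Coh.structureModule X) ≅ Coh.structureModule X
  | 0 => Iso.refl _
  | b + 1 => (P X p).mapIso (c b) ≪≫ PicLoc.pullbackStructureIso (FrobSch.frob X p)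

theorem u₁_unit :
    u₁ X p (Coh.structureModule X) ≫
        (SheafOfModules.toSheaf X.ringCatSheaf).map (PicLoc.pullbackStructureIso (FrobSch.frob X p)).hom =
      W4c5isocrystsimpconn.frobAb X p := by
  have h := SheafOfModules.pullbackPushforwardAdjunction_homEquiv_pullbackObjUnitToUnit
    (FrobSch.frob X p).toRingCatSheafHom
  rw [Adjunction.homEquiv_unit] at h
  have h' := congrArg (SheafOfModules.toSheaf X.ringCatSheaf).map h
  rw [Functor.map_comp] at h'
  refine Eq.trans ?_ (h'.trans (Sheaf.hom_ext (NatTrans.ext (funext fun U => AddCommGrpCat.ext fun _ => rfl))))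
  rfl

/-- the iterated action on cohomology -/
theorem H_U_structure (b n : ℕ) (x : Coh.HH X (Coh.structureModule X) n) :
    Sheaf.H.map ((SheafOfModules.toSheaf X.ringCatSheaf).map (c X p b).hom) n (Sheaf.H.map (U X p b _) n x) =
      (W4c5isocrystsimpconn.frobH X p n)^[b] x := by
  induction b with
  | zero =>
    show Sheaf.H.map ((SheafOfModules.toSheaf X.ringCatSheaf).map (𝟙 _)) n (Sheaf.H.map (𝟙 _) n x) = x
    rw [CategoryTheory.Functor.map_id, Sheaf.H.map_id_apply, Sheaf.H.map_id_apply]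
  | succ b ih =>
    rw [Function.iterate_succ_apply', ← ih, W4c5isocrystsimpconn.frobH, ← u₁_unit, ← Sheaf.H.map_comp_apply,
      ← Sheaf.H.map_comp_apply, ← Sheaf.H.map_comp_apply]
    refine congrArg (fun t => Sheaf.H.map t n x) ?_
    show (U X p b _ ≫ u₁ X p _) ≫ (SheafOfModules.toSheaf X.ringCatSheaf).map
      ((P X p).map (c X p b).hom ≫ (PicLoc.pullbackStructureIso _).hom) = _
    rw [Functor.map_comp, Category.assoc, reassoc_of% (u₁_nat X p (c X p b).hom)]

theorem kill_structure {b : ℕ} (hb : ∀ x : Coh.HH X (Coh.structureModule X) 1,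
      (W4c5isocrystsimpconn.frobH X p 1)^[b] x = 0) (x : Coh.HH X (Coh.structureModule X) 1) :
    Sheaf.H.map (U X p b (Coh.structureModule X)) 1 x = 0 := by
  have h := congrArg (Sheaf.H.map ((SheafOfModules.toSheaf X.ringCatSheaf).map (c X p b).inv) 1)
    ((H_U_structure X p b 1 x).trans (hb x))
  rw [← Sheaf.H.map_comp_apply, ← Functor.map_comp, Iso.hom_inv_id, CategoryTheory.Functor.map_id,
    Sheaf.H.map_id_apply, map_zero] at h
  exact h

theorem kill_free {b : ℕ} (hb : ∀ x : Coh.HH X (Coh.structureModule X) 1,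
      (W4c5isocrystsimpconn.frobH X p 1)^[b] x = 0) {m : ℕ} {K : X.Modules} (e : K ≅ FlatMod.freeMod X m)
    (x : Coh.HH X K 1) : Sheaf.H.map (U X p b K) 1 x = 0 := by
  classical
  let S := SheafOfModules.toSheaf X.ringCatSheaf
  let π : Fin m → (FlatMod.freeMod X m ⟶ Coh.structureModule X) := fun i =>
    Sigma.desc fun j => if j = i then 𝟙 _ else 0
  have hid : (∑ i, (e.hom ≫ π i) ≫ Sigma.ι (fun _ : Fin m => Coh.structureModule X) i ≫ e.inv) = 𝟙 K := by
    have h : (∑ i, π i ≫ Sigma.ι (fun _ : Fin m => Coh.structureModule X) i) = 𝟙 _ := by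
      refine Sigma.hom_ext _ _ fun j => ?_
      rw [Preadditive.comp_sum, Category.comp_id, Finset.sum_eq_single j]
      · simp [π]
      · intro i _ hi
        simp [π, Ne.symm hi]
      · simp
    calc (∑ i, (e.hom ≫ π i) ≫ Sigma.ι (fun _ : Fin m => Coh.structureModule X) i ≫ e.inv)
        = e.hom ≫ (∑ i, π i ≫ Sigma.ι (fun _ : Fin m => Coh.structureModule X) i) ≫ e.inv := by
          simp only [Preadditive.sum_comp, Preadditive.comp_sum, Category.assoc]
      _ = 𝟙 K := by rw [h, Category.id_comp, e.hom_inv_id]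
  have hx : x = ∑ i, Sheaf.H.map (S.map ((e.hom ≫ π i) ≫ Sigma.ι (fun _ : Fin m => Coh.structureModule X) i ≫ e.inv)) 1 x := by
    let T : (K ⟶ K) →+ Coh.HH X K 1 :=
      AddMonoidHom.mk' (fun f => Sheaf.H.map (S.map f) 1 x) fun f g => by
        rw [Functor.map_add, Sheaf.H.map_add_apply]
    refine Eq.trans ?_ (map_sum T _ _)
    rw [hid]
    show x = Sheaf.H.map (S.map (𝟙 K)) 1 x
    rw [CategoryTheory.Functor.map_id, Sheaf.H.map_id_apply]
  rw [hx, map_sum]
  refine Finset.sum_eq_zero fun i _ => ?_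
  rw [Functor.map_comp, Sheaf.H.map_comp_apply, ← Sheaf.H.map_comp_apply, ← U_nat, Sheaf.H.map_comp_apply,
    kill_structure X p hb, map_zero]

instance (n : ℕ) : (Pn X p n).Additive := by
  induction n with
  | zero => exact inferInstanceAs (𝟭 X.Modules).Additive
  | succ n ih =>
    haveI := (Scheme.Modules.pullbackPushforwardAdjunction (FrobSch.frob X p)).left_adjoint_additive
    exact inferInstanceAs (Pn X p n ⋙ P X p).Additive

theorem Pn_shortExact (b : ℕ) {S : ShortComplex X.Modules} (hS : S.ShortExact)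
    (e : S.X₃ ≅ Coh.structureModule X) : (S.map (Pn X p b)).ShortExact := by
  induction b with
  | zero => exact hS
  | succ b ih =>
    refine CMReg18.shortExact_pullback (FrobSch.frob X p) (S.map (Pn X p b)) ih
      (KFlat.Sch.isFlat_of_isFinLocFree (M2.isFinLocFree_of_ofRank ?_ (n := 1)))
    refine M2.isFinLocFreeOfRank_of_iso ?_ (M2.isFinLocFreeOfRank_freeMod X 1)
    exact (coproductUniqueIso _) ≪≫ (c X p b).symm ≪≫ (Pn X p b).mapIso e.symm

/-- splitting after killing the class -/
theorem exists_section {b : ℕ} (hb : ∀ x : Coh.HH X (Coh.structureModule X) 1,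
      (W4c5isocrystsimpconn.frobH X p 1)^[b] x = 0) {m : ℕ} {S : ShortComplex X.Modules} (hS : S.ShortExact)
    (hK : S.X₁ ≅ FlatMod.freeMod X m) (e : S.X₃ ≅ Coh.structureModule X) :
    ∃ t : Coh.structureModule X ⟶ (Pn X p b).obj S.X₂,
      t ≫ (Pn X p b).map S.g ≫ (Pn X p b).map e.hom ≫ (c X p b).hom = 𝟙 _ := by
  let F : X.Modules ⥤ Sheaf (Opens.grothendieckTopology X) AddCommGrpCat.{u} := SheafOfModules.toSheaf X.ringCatSheaf
  haveI : F.Additive := inferInstanceAs (SheafOfModules.toSheaf X.ringCatSheaf).Additive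
  haveI : PreservesFiniteLimits F := inferInstanceAs (PreservesFiniteLimits (SheafOfModules.toSheaf X.ringCatSheaf))
  haveI : PreservesFiniteColimits F :=
    haveI : PreservesColimitsOfSize.{u, u} (SheafOfModules.toSheaf X.ringCatSheaf) := ⟨inferInstance⟩
    PreservesColimitsOfSize.preservesFiniteColimits (SheafOfModules.toSheaf X.ringCatSheaf)
  have hA : (S.map F).ShortExact := hS.map_of_exact F
  have hA' : ((S.map (Pn X p b)).map F).ShortExact := (Pn_shortExact X p b hS e).map_of_exact F
  let φ : S.map F ⟶ (S.map (Pn X p b)).map F :=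
    { τ₁ := U X p b S.X₁
      τ₂ := U X p b S.X₂
      τ₃ := U X p b S.X₃
      comm₁₂ := U_nat X p b S.f
      comm₂₃ := U_nat X p b S.g }
  let hT : IsTerminal (⊤ : TopologicalSpace.Opens X) := isTerminalTop
  let one' : (Coh.toAb (Coh.structureModule X)).obj.obj (op ⊤) := (1 : Γ(X, ⊤))
  let h₀ : Sheaf.H (F.obj S.X₃) 0 := Sheaf.H.map (F.map e.inv) 0 ((Sheaf.H.equiv₀ _ hT).symm one')
  have hz := kill_free X p hb hK (h₀.comp hA.extClass (zero_add 1))
  rw [Sheaf.H.map_apply, Ext.comp_assoc_of_third_deg_zero] at hz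
  erw [ShortComplex.ShortExact.extClass_naturality hA hA' φ] at hz
  rw [← Ext.comp_assoc_of_second_deg_zero] at hz
  obtain ⟨l, hl⟩ := Ext.covariant_sequence_exact₃ _ hA' (h₀.comp (Ext.mk₀ φ.τ₃) (add_zero 0)) (zero_add 1) hz
  let m₂ : ((Pn X p b).obj S.X₂).val.presheaf.obj (op ⊤) := Sheaf.H.equiv₀ _ hT l
  let s : ((Pn X p b).obj S.X₂).sections :=
    PresheafOfModules.sectionsMk (fun V => ((Pn X p b).obj S.X₂).val.presheaf.map (homOfLE le_top).op m₂)
      fun {V W} f => by
        refine (Functor.map_comp_apply ((Pn X p b).obj S.X₂).val.presheaf _ _ _).symm.trans ?_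
        exact DFunLike.congr_fun (congrArg (fun g => ConcreteCategory.hom
          (((Pn X p b).obj S.X₂).val.presheaf.map g)) (Subsingleton.elim _ _)) m₂
  refine ⟨((Pn X p b).obj S.X₂).unitHomEquiv.symm s, ?_⟩
  let q := (Pn X p b).map S.g ≫ (Pn X p b).map e.hom ≫ (c X p b).hom
  have htop : q.val.app (op ⊤) m₂ = (1 : Γ(X, ⊤)) := by
    show (F.map q).hom.app (op ⊤) m₂ = _
    refine (Sheaf.H.equiv₀_naturality (hT := hT) (F.map q) l).trans ?_
    have hl' : Sheaf.H.map (F.map ((Pn X p b).map S.g)) 0 l = Sheaf.H.map (U X p b S.X₃) 0 h₀ := hl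
    simp only [q, Functor.map_comp, Sheaf.H.map_comp_apply, hl', h₀]
    rw [← Sheaf.H.map_comp_apply (U X p b S.X₃), U_nat, Sheaf.H.map_comp_apply,
      ← Sheaf.H.map_comp_apply (F.map e.inv), ← Functor.map_comp, e.inv_hom_id,
      CategoryTheory.Functor.map_id, Sheaf.H.map_id_apply, H_U_structure]
    have : ∀ j, (W4c5isocrystsimpconn.frobH X p 0)^[j] ((Sheaf.H.equiv₀ _ hT).symm one') =
        (Sheaf.H.equiv₀ _ hT).symm one' := fun j => by
      induction j with
      | zero => rfl
      | succ j ih =>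
        rw [Function.iterate_succ_apply', ih, W4c5isocrystsimpconn.frobH, Sheaf.H.equiv₀_symm_naturality]
        exact congrArg _ (one_pow (M := Γ(X, ⊤)) p)
    rw [this, AddEquiv.apply_symm_apply]
  apply (Coh.structureModule X).unitHomEquiv.injective
  rw [SheafOfModules.unitHomEquiv_comp_apply, Equiv.apply_symm_apply]
  refine Subtype.ext (funext fun V => ?_)
  show q.val.app V (((Pn X p b).obj S.X₂).val.presheaf.map (homOfLE le_top).op m₂) = (1 : Γ(X, V.unop))
  rw [show q.val.app V (((Pn X p b).obj S.X₂).val.presheaf.map (homOfLE le_top).op m₂) =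
    (Coh.structureModule X).val.presheaf.map (homOfLE le_top).op (q.val.app (op ⊤) m₂) from
      NatTrans.naturality_apply (F.map q).hom (homOfLE le_top).op m₂, htop]
  exact map_one (X.presheaf.map (homOfLE le_top).op).hom

theorem Pn_add (a b : ℕ) (M : X.Modules) : (Pn X p (a + b)).obj M = (Pn X p a).obj ((Pn X p b).obj M) := by
  rw [Pn_obj, Pn_obj, Pn_obj, Function.iterate_add_apply]

theorem nonempty_free {b : ℕ} (hb : ∀ x : Coh.HH X (Coh.structureModule X) 1,
      (W4c5isocrystsimpconn.frobH X p 1)^[b] x = 0) :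
    ∀ (r : ℕ) (E : X.Modules), W4c5isocrystsimpconn.IsIterExt X r E →
      Nonempty ((Pn X p (b * (r - 1))).obj E ≅ FlatMod.freeMod X r) := by
  intro r
  induction r with
  | zero =>
    intro E hE
    exact ⟨IsZero.iso (Functor.map_isZero _ hE) (DPerf.isZero_freeMod_zero X)⟩
  | succ j ih =>
    rintro E ⟨E', i, q, w, hE', hS⟩
    obtain ⟨f'⟩ := ih E' hE'
    cases j with
    | zero =>
      haveI : IsIso q := (hS.isIso_g_iff).2 hE'
      rw [show b * (0 + 1 - 1) = 0 by simp]
      exact ⟨asIso q ≪≫ (coproductUniqueIso (fun _ : Fin 1 => Coh.structureModule X)).symm⟩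
    | succ j =>
      have hN : b * (j + 1 + 1 - 1) = b + b * (j + 1 - 1) := by
        simp only [Nat.add_sub_cancel]; ring
      rw [hN, Pn_add]
      let N := b * (j + 1 - 1)
      let S := (ShortComplex.mk i q w).map (Pn X p N)
      have hS₁ : S.ShortExact := Pn_shortExact X p N hS (Iso.refl _)
      obtain ⟨t, ht⟩ := exists_section X p hb hS₁ f' (c X p N)
      let S' := S.map (Pn X p b)
      have hS' : S'.ShortExact := Pn_shortExact X p b hS₁ (c X p N)
      let e₃ : S'.X₃ ≅ Coh.structureModule X := (Pn X p b).mapIso (c X p N) ≪≫ c X p b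
      let spl := ShortComplex.Splitting.ofExactOfSection S' hS'.exact (e₃.hom ≫ t) (by
        rw [← cancel_mono e₃.hom, Category.id_comp, Category.assoc, Category.assoc]
        refine Eq.trans ?_ (Category.comp_id e₃.hom)
        exact congrArg (e₃.hom ≫ ·) ht) hS'.mono_f
      obtain ⟨e₁⟩ : Nonempty (S'.X₁ ≅ FlatMod.freeMod X (j + 1)) := ⟨(Pn X p b).mapIso f' ≪≫ by
        exact (freeIso b (j + 1))⟩
      refine ⟨spl.isoBinaryBiproduct ≪≫ biprod.mapIso e₁ e₃ ≪≫ ?_⟩
      exact
        { hom := biprod.desc (Sigma.desc fun k => Sigma.ι (fun _ : Fin (j + 1 + 1) => Coh.structureModule X) k.castSucc)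
            (Sigma.ι (fun _ : Fin (j + 1 + 1) => Coh.structureModule X) (Fin.last _))
          inv := Sigma.desc fun k => Fin.lastCases biprod.inr
            (fun k => Sigma.ι (fun _ : Fin (j + 1) => Coh.structureModule X) k ≫ biprod.inl) k
          hom_inv_id := by refine biprod.hom_ext' _ _ (Sigma.hom_ext _ _ fun k => ?_) ?_ <;> simp
          inv_hom_id := by
            refine Sigma.hom_ext _ _ fun k => ?_
            induction k using Fin.lastCases <;> simp }
where
  freeIso (b m : ℕ) : (Pn X p b).obj (FlatMod.freeMod X m) ≅ FlatMod.freeMod X m :=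
    match b with
    | 0 => Iso.refl _
    | b + 1 => (P X p).mapIso (freeIso b m) ≪≫ M2.freeModPullbackIso (FrobSch.frob X p) m

end

/-- Iterated extensions of the structure sheaf are trivialised by iterated Frobenius pull-back. -/
theorem result
    (p : ℕ) [Fact p.Prime] (k : Type u) [Field k] [IsAlgClosed k] [CharP k p]
    (X : Scheme.{u}) [X.Over (Spec (CommRingCat.of k))] [IsProper (X ↘ Spec (CommRingCat.of k))]
    [ConnectedSpace X] [FrobSch.IsCharP X p]
    (hπ : ∀ Y : FEt.Cat X, Pi1.IsSplit Y) :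
    ∃ b : ℕ, 0 < b ∧ ∀ (r : ℕ) (E : X.Modules), FlatMod.IsFinLocFreeOfRank r E →
      W4c5isocrystsimpconn.IsIterExt X r E →
        Nonempty (((Scheme.Modules.pullback (FrobSch.frob X p)).obj)^[b * (r - 1)] E ≅ FlatMod.freeMod X r) := by
  obtain ⟨b, hb0, hb⟩ := S18555.result p k X hπ
  refine ⟨b, hb0, fun r E _ hE => ?_⟩
  have h := nonempty_free X p hb r E hE
  rwa [Pn_obj] at h

end Groth.Agent.S18556
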