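import Groth.Statements.S18560
import Mathlib
import Groth.Prelude.Def_W4c6brauerbgmalleOrbPic
import Groth.Prelude.Def_W4c5quivmodgenus0Quiv

set_option autoImplicit false
universe u v
open PtQuiv

namespace Groth.Agent.S18560

/-- Let K be a field and s i ∈ K² (i in a finite index type) nonzero vectors, regarded as a
representation of the quiver with a central vertex carrying the plane and one vertex per i carrying
a line that maps to the plane by 1 ↦ s i. For a weight θ in the hypersimplex (0 ≤ θ i ≤ 1, Σ θ i =
2, central weight -1) the representation is θ-semistable if and only if, for every vector v, the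
indices i with s i on the line K ∙ v have total weight at most 1. (The published statement is over
an algebraically closed field, assumes semistability for some interior weight instead of s i ≠ 0,
and phrases the bound through the classes of pairwise proportional s i; any field is allowed here.
Its further assertion that the bounding walls, where the total weight of one proportionality class
equals 1, do not meet in the interior of the hypersimplex is not part of this row.) -/
theorem result (K : Type u) [Field K] (ι : Type v) [Fintype ι]
    (s : ι → (Fin 2 → K)) (hs : ∀ i, s i ≠ 0) (θ : ι → ℚ) (h0 : ∀ i, 0 ≤ θ i)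
    (h1 : ∀ i, θ i ≤ 1) (h2 : ∑ i, θ i = 2) :
    PtQuiv.QSemistable (-1) θ s ↔
      ∀ (J : Finset ι) (v : Fin 2 → K), (∀ i ∈ J, s i ∈ K ∙ v) → ∑ i ∈ J, θ i ≤ 1 := by
  constructor
  · rintro ⟨-, h⟩ J v hJ
    have := h (K ∙ v) J hJ
    simp only [QWt] at this
    have hd : (Module.finrank K (K ∙ v : Submodule K (Fin 2 → K)) : ℚ) ≤ 1 := by
      by_cases hv : v = 0
      · subst hv; rw [Submodule.span_zero_singleton, finrank_bot]; simp
      · rw [finrank_span_singleton hv]; simp
    linarith
  · refine fun h => ⟨by rw [h2]; norm_num, fun L I hI => ?_⟩
    have hle : Module.finrank K L ≤ 2 := (Submodule.finrank_le L).trans (by simp)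
    unfold QWt
    interval_cases hd : Module.finrank K L
    · rw [Submodule.finrank_eq_zero.1 hd] at hI
      have : I = ∅ := Finset.eq_empty_of_forall_notMem fun i hi => hs i (by simpa using hI i hi)
      simp [this]
    · obtain ⟨v, hv⟩ := Submodule.nonzero_mem_of_bot_lt (bot_lt_iff_ne_bot.2 (fun e : L = ⊥ => by rw [e, finrank_bot] at hd; omega))
      have : (K ∙ (v : Fin 2 → K)) = L := Submodule.eq_of_le_of_finrank_eq
        ((Submodule.span_singleton_le_iff_mem _ _).2 v.2)
        (by rw [finrank_span_singleton (fun e => hv (Subtype.ext e)), hd])
      have := h I v (fun i hi => by rw [this]; exact hI i hi)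
      push_cast; linarith
    · have := Finset.sum_le_sum_of_subset_of_nonneg (Finset.subset_univ I) (f := θ) (fun i _ _ => h0 i)
      push_cast; linarith

end Groth.Agent.S18560
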