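import Groth.Statements.S18561
import Mathlib
import Groth.Prelude.Def_W4c6brauerbgmalleOrbPic
import Groth.Prelude.Def_W4c5quivmodgenus0Quiv

set_option autoImplicit false
universe u v
open PtQuiv

namespace Groth.Agent.S18561

/-- Let K be a field and s i ∈ K² (i in a finite index type) nonzero vectors, regarded as a
representation of the quiver with a central vertex carrying the plane and one vertex per i carrying
a line mapping to the plane by 1 ↦ s i. Then the representation is stable for some weight of the
hypersimplex (0 ≤ θ i ≤ 1, Σ θ i = 2, central weight -1) if and only if the s i fall into at least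
three proportionality classes, i.e. three of them are pairwise non-proportional. (The published
statement is over an algebraically closed field and assumes semistability for some interior weight
instead of s i ≠ 0; any field is allowed here. Its further assertions, that the set of semistability
weights is full-dimensional exactly in this case and is a wall otherwise, are not part of this row.) -/
theorem result (K : Type u) [Field K] (ι : Type v)
    [Fintype ι] (s : ι → (Fin 2 → K)) (hs : ∀ i, s i ≠ 0) :
    (∃ θ : ι → ℚ, (∀ i, 0 ≤ θ i) ∧ (∀ i, θ i ≤ 1) ∧ ∑ i, θ i = 2 ∧ PtQuiv.QStable (-1) θ s) ↔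
      ∃ i j k : ι, s i ∉ K ∙ s j ∧ s j ∉ K ∙ s k ∧ s i ∉ K ∙ s k := by
  classical
  have swap : ∀ i j, s i ∈ K ∙ s j → s j ∈ K ∙ s i := fun i j h => by
    obtain ⟨c, hc⟩ := Submodule.mem_span_singleton.1 h
    refine Submodule.mem_span_singleton.2 ⟨c⁻¹, ?_⟩
    rw [← hc, inv_smul_smul₀]
    rintro rfl; exact hs i (by simpa using hc.symm)
  constructor
  · rintro ⟨θ, h0, h1, h2, ⟨-, hss⟩, hst⟩
    by_contra hno; push Not at hno
    have hne : Nonempty ι := by by_contra he; rw [not_nonempty_iff] at he; simp at h2
    have line : ∀ i, ∑ k ∈ Finset.univ.filter (fun k => s k ∈ K ∙ s i), θ k < 1 := by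
      intro i
      have hsub : QSubrep s (K ∙ s i) (Finset.univ.filter fun k => s k ∈ K ∙ s i) := fun k hk => (Finset.mem_filter.1 hk).2
      have hw := hss _ _ hsub
      simp only [QWt, finrank_span_singleton (hs i)] at hw
      refine lt_of_le_of_ne (by push_cast at hw; linarith) fun he => ?_
      rcases hst _ _ hsub (by simp only [QWt, finrank_span_singleton (hs i), he]; norm_num) with ⟨hb, -⟩ | ⟨ht, -⟩
      · exact hs i ((Submodule.mem_bot K).1 (hb ▸ Submodule.mem_span_singleton_self _))
      · have := congrArg (fun L : Submodule K (Fin 2 → K) => Module.finrank K L) ht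
        simp [finrank_span_singleton (hs i)] at this
    obtain ⟨i⟩ := hne
    by_cases hall : ∀ k, s k ∈ K ∙ s i
    · have := line i
      rw [Finset.filter_true_of_mem (fun k _ => hall k), h2] at this
      norm_num at this
    · push Not at hall
      obtain ⟨j, hj⟩ := hall
      have hcov : ∀ k, s k ∈ K ∙ s i ∨ s k ∈ K ∙ s j := fun k => by
        by_contra hk; push Not at hk
        exact hj (swap _ _ (by
          by_contra hij
          exact hk.2 (hno k i j hk.1 hij)))
      have hsum : (2 : ℚ) ≤ ∑ k ∈ Finset.univ.filter (fun k => s k ∈ K ∙ s i), θ k + ∑ k ∈ Finset.univ.filter (fun k => s k ∈ K ∙ s j), θ k := by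
        rw [← h2, ← Finset.sum_union_inter]
        refine le_add_of_le_of_nonneg (le_of_eq (Finset.sum_congr ?_ fun _ _ => rfl)) (Finset.sum_nonneg fun k _ => h0 k)
        ext k; simpa using hcov k
      have := line i; have := line j
      linarith
  · rintro ⟨i, j, k, hij, hjk, hik⟩
    set N := Fintype.card ι
    let ε : ℚ := 1 / (4 * (N + 1))
    let S : Finset ι := {i, j, k}
    have hS : S.card = 3 := by
      have a : i ≠ j := fun e => hij (e ▸ Submodule.mem_span_singleton_self _)
      have b : j ≠ k := fun e => hjk (e ▸ Submodule.mem_span_singleton_self _)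
      have c : i ≠ k := fun e => hik (e ▸ Submodule.mem_span_singleton_self _)
      simp [S, a, b, c]
    let m : ℕ := Sᶜ.card
    let a : ℚ := (2 - m * ε) / 3
    let θ : ι → ℚ := fun x => if x ∈ S then a else ε
    have hN : (m : ℚ) ≤ N := by exact_mod_cast Finset.card_le_univ _
    have hε : 0 < ε := by positivity
    have hmε : (m : ℚ) * ε < 1 / 4 := by
      have : (4 * ((N : ℚ) + 1)) * ε = 1 := by simp only [ε]; field_simp
      nlinarith
    have hε1 : ε ≤ 1 := by
      simp only [ε]; rw [div_le_one (by positivity)]; linarith [(Nat.cast_nonneg N : (0 : ℚ) ≤ N)]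
    have hpos : ∀ x, 0 < θ x := fun x => by
      simp only [θ, a]; split_ifs <;> linarith
    have hsum : ∑ x, θ x = 2 := by
      rw [← Finset.sum_add_sum_compl S, Finset.sum_congr rfl (fun x hx => if_pos hx),
        Finset.sum_congr rfl (fun x hx => if_neg (Finset.mem_compl.1 hx))]
      simp only [Finset.sum_const, hS, nsmul_eq_mul, a]
      push_cast; ring
    have hmε0 : 0 ≤ (m : ℚ) * ε := by positivity
    have key : ∀ (v : Fin 2 → K) (I : Finset ι), (∀ x ∈ I, s x ∈ K ∙ v) → ∑ x ∈ I, θ x < 1 := by
      intro v I hI
      have hc : (I.filter (· ∈ S)).card ≤ 1 := by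
        refine Finset.card_le_one.2 fun x hx y hy => ?_
        rw [Finset.mem_filter] at hx hy
        obtain ⟨p, hp⟩ := Submodule.mem_span_singleton.1 (hI x hx.1)
        obtain ⟨q, hq⟩ := Submodule.mem_span_singleton.1 (hI y hy.1)
        have hp0 : p ≠ 0 := by rintro rfl; exact hs x (by simpa using hp.symm)
        have hq0 : q ≠ 0 := by rintro rfl; exact hs y (by simpa using hq.symm)
        have hxy : s x ∈ K ∙ s y := Submodule.mem_span_singleton.2 ⟨p * q⁻¹, by
          rw [← hp, ← hq, smul_smul, inv_mul_cancel_right₀ hq0]⟩
        have hyx := swap _ _ hxy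
        simp only [S, Finset.mem_insert, Finset.mem_singleton] at hx hy
        rcases hx.2 with rfl | rfl | rfl <;> rcases hy.2 with rfl | rfl | rfl <;> first | rfl | contradiction
      rw [← Finset.sum_filter_add_sum_filter_not I (· ∈ S),
        Finset.sum_congr rfl (fun x hx => if_pos (Finset.mem_filter.1 hx).2),
        Finset.sum_congr rfl (fun x hx => if_neg (Finset.mem_filter.1 hx).2)]
      simp only [Finset.sum_const, nsmul_eq_mul]
      have h3 : ((I.filter (· ∈ S)).card : ℚ) ≤ 1 := by exact_mod_cast hc
      have h4 : ((I.filter (fun x => x ∉ S)).card : ℚ) ≤ m := by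
        exact_mod_cast Finset.card_le_card (fun x hx => Finset.mem_compl.2 (Finset.mem_filter.1 hx).2)
      have ha : 0 ≤ a := by simp only [a]; linarith
      calc _ ≤ a + m * ε := add_le_add (mul_le_of_le_one_left ha h3) (mul_le_mul_of_nonneg_right h4 hε.le)
        _ < 1 := by simp only [a]; linarith
    refine ⟨θ, fun x => (hpos x).le, fun x => ?_, hsum, ⟨by rw [hsum]; norm_num, fun L I hI => ?_⟩, fun L I hI hw => ?_⟩
    · simp only [θ, a]; split_ifs <;> linarith
    all_goals
      have hle : Module.finrank K L ≤ 2 := (Submodule.finrank_le L).trans (by simp)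
      have e0 : Module.finrank K L = 0 → I = ∅ := fun hd => by
        rw [Submodule.finrank_eq_zero.1 hd] at hI
        exact Finset.eq_empty_of_forall_notMem fun i hi => hs i (by simpa using hI i hi)
      have e1 : Module.finrank K L = 1 → ∑ x ∈ I, θ x < 1 := fun hd => by
        obtain ⟨v, hv⟩ := Submodule.nonzero_mem_of_bot_lt (bot_lt_iff_ne_bot.2 (fun e : L = ⊥ => by rw [e, finrank_bot] at hd; omega))
        have : (K ∙ (v : Fin 2 → K)) = L := Submodule.eq_of_le_of_finrank_eq
          ((Submodule.span_singleton_le_iff_mem _ _).2 v.2)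
          (by rw [finrank_span_singleton (fun e => hv (Subtype.ext e)), hd])
        exact key v I (fun i hi => by rw [this]; exact hI i hi)
    · unfold QWt
      interval_cases hd : Module.finrank K L
      · simp [e0 rfl]
      · have := e1 rfl; push_cast; linarith
      · have := Finset.sum_le_sum_of_subset_of_nonneg (Finset.subset_univ I) (f := θ) (fun i _ _ => (hpos i).le)
        push_cast; linarith
    · unfold QWt at hw
      interval_cases hd : Module.finrank K L
      · exact Or.inl ⟨Submodule.finrank_eq_zero.1 hd, e0 rfl⟩
      · have := e1 rfl; push_cast at hw; linarith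
      · refine Or.inr ⟨Submodule.eq_top_of_finrank_eq (by simp [hd]), ?_⟩
        by_contra hI'
        obtain ⟨x, hx⟩ : ∃ x, x ∉ I := by by_contra h; push Not at h; exact hI' (Finset.eq_univ_iff_forall.2 h)
        have := Finset.sum_lt_sum_of_subset (Finset.subset_univ I) (Finset.mem_univ x) hx (hpos x) (f := θ) (fun j _ _ => (hpos j).le)
        push_cast at hw; linarith

end Groth.Agent.S18561
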