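import Groth.Statements.S18562
import Groth.Agent.Lib.PtQuiv28.Basic

set_option autoImplicit false
universe u v
open PtQuiv

namespace Groth.Agent.S18562

/-- Let K be a field, κ a finite index type with a ≠ b, and s i ∈ K² a representation of the quiver with
a central vertex carrying the plane and one vertex per i : κ carrying a line mapping to the plane by
1 ↦ s i. Let θ be a weight of the hypersimplex (0 ≤ θ i ≤ 1, Σ θ i = 2, central weight -1) with 1 <
θ a + θ b < 2, and put c = 1 / (2 - θ a - θ b). Then s is θ-semistable if and only if s a, s b are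
linearly independent and, writing every other s i = t i 0 • s a + t i 1 • s b, the representation t
of the quiver with two one-dimensional sinks p₀, p₁ and one one-dimensional source per i ≠ a, b
(arrow to p_j given by t i j) is semistable for the weight c (θ a - 1) at p₀, c (θ b - 1) at p₁ and
c θ i at the sources. (The published statement is about representations over a base scheme, with
(semi)stability tested on geometric fibres, that is over algebraically closed fields; this row
states the fibrewise content over an arbitrary field.) -/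
theorem result (K : Type u) [Field K]
    (κ : Type v) [Fintype κ] [DecidableEq κ] (a b : κ) (hab : a ≠ b) (s : κ → (Fin 2 → K))
    (θ : κ → ℚ) (h0 : ∀ i, 0 ≤ θ i) (h1 : ∀ i, θ i ≤ 1) (h2 : ∑ i, θ i = 2)
    (hθ : 1 < θ a + θ b) (hθ' : θ a + θ b < 2) :
    PtQuiv.QSemistable (-1) θ s ↔
      (LinearIndependent K ![s a, s b] ∧
        ∀ t : {i : κ // i ≠ a ∧ i ≠ b} → (Fin 2 → K),
          (∀ i, s i.1 = t i 0 • s a + t i 1 • s b) →
            PtQuiv.PSemistable ![(2 - θ a - θ b)⁻¹ * (θ a - 1), (2 - θ a - θ b)⁻¹ * (θ b - 1)]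
              (fun i : {i : κ // i ≠ a ∧ i ≠ b} => (2 - θ a - θ b)⁻¹ * θ i.1) t) := by
  have hc : (0 : ℚ) < 2 - θ a - θ b := by linarith
  have htot : (∑ j, PtQuiv28.pη a b θ j) + ∑ i, PtQuiv28.pθ a b θ i = 0 := by
    have := PtQuiv28.sum_rest hab θ
    rw [h2] at this
    simp only [PtQuiv28.pη, PtQuiv28.pθ, Fin.sum_univ_two, Matrix.cons_val_zero, Matrix.cons_val_one, ← Finset.mul_sum, ← mul_add]
    rw [show θ a - 1 + (θ b - 1) + ∑ i : PtQuiv28.Rest a b, θ i.1 = 0 by linarith, mul_zero]
  refine ⟨fun h => ?_, fun ⟨hli, hP⟩ => ?_⟩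
  · have hli := PtQuiv28.indep_of_semistable hab h0 h1 hθ h
    refine ⟨hli, fun t ht => ⟨htot, fun U J hU => ?_⟩⟩
    obtain ⟨L, I, hLI, hw, -, -⟩ := PtQuiv28.toQ hab hli hθ' ht U J hU
    have := h.2 L I hLI
    rw [hw] at this
    exact nonpos_of_mul_nonpos_right this hc |> fun e => e
  · have hspan := hli.span_eq_top_of_card_eq_finrank (by simp)
    have hex : ∀ v : Fin 2 → K, ∃ t : Fin 2 → K, v = t 0 • s a + t 1 • s b := fun v => by
      have : v ∈ Submodule.span K (Set.range ![s a, s b]) := hspan ▸ trivial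
      obtain ⟨t, ht⟩ := (Submodule.mem_span_range_iff_exists_fun K).mp this
      exact ⟨t, by rw [← ht, Fin.sum_univ_two]; rfl⟩
    choose t ht using fun i : PtQuiv28.Rest a b => hex (s i.1)
    have hPt := hP t ht
    refine ⟨by rw [h2]; norm_num, fun L I hLI => ?_⟩
    rcases PtQuiv28.toP hab hli h0 h2 hθ hθ' ht hPt.2 L I hLI with ⟨-, h⟩ | h | ⟨U, J, hU, hle, -, -⟩
    · exact h
    · exact h.le
    · exact hle.trans (mul_nonpos_of_nonneg_of_nonpos hc.le (hPt.2 U J hU))

end Groth.Agent.S18562
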