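import Groth.Statements.S18572
import Groth.Agent.Lib.REq15.AffineLine
-- import your own Groth.Agent.* helpers here

set_option autoImplicit false
universe u
open CategoryTheory AlgebraicGeometry
open REq

namespace Groth.Agent.S18572

/-- Let k be an infinite field and X an integral separated scheme of finite type over k which is retract
rational over k. Then X is almost R-trivial over k: there is a dense open subscheme U of X such
that, for every field K containing k (in the universe of k), U has a K-point and any two K-points of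
X lying in U are R-equivalent on X. -/
theorem result (k : Type u) [Field k] [Infinite k] (X : Scheme.{u})
    (f : X ⟶ Spec (CommRingCat.of k)) [IsIntegral X] [LocallyOfFiniteType f] [QuasiCompact f]
    [IsSeparated f] (hX : REq.IsRetractRational f) :
    REq.IsAlmostRTrivial f := by
  obtain ⟨U, n, V, a, b, hU, hab, haf, hbf⟩ := hX
  refine ⟨U, U.2.dense hU, fun K _ _ => ?_⟩
  have hV : (V : Set ↥(Spec (CommRingCat.of (MvPolynomial (Fin n) k)))).Nonempty := by
    obtain ⟨x, hx⟩ := hU
    exact ⟨_, (a ⟨x, hx⟩).2⟩
  obtain ⟨P, hP⟩ := Groth.Agent.REq15.exists_point_of_nonempty V hV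
  refine ⟨⟨⟨REq.specMap k K ≫ P ≫ b ≫ U.ι, ?_⟩, ?_⟩, fun A B hA hB => ?_⟩
  · simp only [Category.assoc, hbf]
    rw [hP, Category.comp_id]
  · rintro _ ⟨q, rfl⟩
    exact (b (P (REq.specMap k K q))).2
  · let A' := IsOpenImmersion.lift U.ι A.1 (by rw [Scheme.Opens.range_ι]; exact hA)
    let B' := IsOpenImmersion.lift U.ι B.1 (by rw [Scheme.Opens.range_ι]; exact hB)
    have eA : A' ≫ U.ι = A.1 := IsOpenImmersion.lift_fac _ _ _
    have eB : B' ≫ U.ι = B.1 := IsOpenImmersion.lift_fac _ _ _
    refine Relation.EqvGen.rel _ _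
      (Groth.Agent.REq15.exists_line_link f V (b ≫ U.ι) ?_ K (A' ≫ a) (B' ≫ a) ?_ ?_ A B ?_ ?_)
    · rw [Category.assoc]; exact hbf
    · rw [Category.assoc, haf, reassoc_of% eA]; exact A.2
    · rw [Category.assoc, haf, reassoc_of% eB]; exact B.2
    · rw [Category.assoc, reassoc_of% hab, eA]
    · rw [Category.assoc, reassoc_of% hab, eB]

end Groth.Agent.S18572
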