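import Groth.Statements.S18573
import Groth.Agent.Lib.RegExt.P1
-- import your own Groth.Agent.* helpers here

set_option autoImplicit false
universe u
open CategoryTheory AlgebraicGeometry
open REq

namespace Groth.Agent.S18573

/-- Let Y be a scheme over a field k and K a field containing k. Let V and W be closed subsets of Y with
V ∪ W = Y such that no K-point of Y has its image in V ∩ W. If p is a K-point of Y lying in V and q
a K-point of Y lying in W, then p and q are not R-equivalent on Y. (The published step concerns
k-points of the special fibre of a proper flat scheme over a discrete valuation ring, that is K = k;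
this row is stated for any scheme Y over k and K-points for any field K containing k.) -/
theorem result (k : Type u) [Field k] (Y : Scheme.{u})
    (g : Y ⟶ Spec (CommRingCat.of k)) (K : Type u) [Field K] [Algebra k K]
    (V W : Set Y) (hV : IsClosed V) (hW : IsClosed W) (hVW : V ∪ W = Set.univ)
    (hT : ∀ z : REq.Pts g K, ¬ (Set.range z.1.base ⊆ V ∩ W))
    (p q : REq.Pts g K) (hp : Set.range p.1.base ⊆ V) (hq : Set.range q.1.base ⊆ W) :
    ¬ REq.REquiv g K p q := by
  suffices key : ∀ A B : REq.Pts g K, REq.REquiv g K A B →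
      (Set.range A.1.base ⊆ V ↔ Set.range B.1.base ⊆ V) by
    intro h
    exact hT q fun z hz => ⟨(key p q h).1 hp hz, hq hz⟩
  intro A B h
  refine Relation.EqvGen.rec ?_ (fun _ => Iff.rfl) (fun _ _ _ e => e.symm) (fun _ _ _ _ _ e e' => e.trans e') h
  rintro A B ⟨U, φ, a, b, -, -, -, ha, hb⟩
  have : IsIntegral (CohB1.ProjSpace 1 K) := Groth.Agent.RegExt.isIntegral_projSpace 1 K
  let e := Groth.Agent.ProjSpace.overSpecIso 1 K
  have : IrreducibleSpace (REq.P1K K) := by
    have hirr : IsIrreducible (Set.univ : Set (REq.P1K K)) := by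
      have := (IrreducibleSpace.isIrreducible_univ (CohB1.ProjSpace 1 K)).image e.hom e.hom.continuous.continuousOn
      rwa [Set.image_univ, Set.range_eq_univ.2 (show Function.Surjective e.hom from e.hom.homeomorph.surjective)] at this
    haveI : PreirreducibleSpace (REq.P1K K) := ⟨hirr.2⟩
    exact { toNonempty := hirr.1.to_type }
  let x₀ : ↥(U : Scheme) := a.base (IsLocalRing.closedPoint K)
  have : PreirreducibleSpace ↥(U : Scheme) :=
    ⟨(PreirreducibleSpace.isPreirreducible_univ (X := REq.P1K K)).preimage U.ι.isOpenEmbedding⟩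
  have hcov : (Set.univ : Set ↥(U : Scheme)) ⊆ φ.base ⁻¹' V ∪ φ.base ⁻¹' W := fun x _ => by
    rw [← Set.preimage_union, hVW]; trivial
  have hPts : ∀ (c : Spec (CommRingCat.of K) ⟶ (U : Scheme)) (C : REq.Pts g K) (T : Set Y),
      c ≫ φ = C.1 → φ.base ⁻¹' T = Set.univ → Set.range C.1.base ⊆ T := by
    rintro c C T e' hu _ ⟨z, rfl⟩
    rw [← e', Scheme.Hom.comp_apply]
    exact Set.eq_univ_iff_forall.1 hu _
  rcases isPreirreducible_iff_isClosed_union_isClosed.1 PreirreducibleSpace.isPreirreducible_univ _ _
    (hV.preimage φ.continuous) (hW.preimage φ.continuous) hcov with h | h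
  · exact iff_of_true (hPts a A V ha (Set.univ_subset_iff.1 h)) (hPts b B V hb (Set.univ_subset_iff.1 h))
  · refine iff_of_false (fun hA => hT A fun z hz => ⟨hA hz, hPts a A W ha (Set.univ_subset_iff.1 h) hz⟩)
      fun hB => hT B fun z hz => ⟨hB hz, hPts b B W hb (Set.univ_subset_iff.1 h) hz⟩

end Groth.Agent.S18573
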