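import Groth.Statements.S18574
import Groth.Agent.Lib.REq15.Invariance
-- import your own Groth.Agent.* helpers here

set_option autoImplicit false
universe u v
open CategoryTheory AlgebraicGeometry
open REq

namespace Groth.Agent.S18574

/-- Let k be a field and Φ a contravariant functor from the category of schemes over Spec k to sets.
Assume that for every integral scheme Y smooth, separated and quasi-compact over k, the map Φ(Y) →
Φ(P^1_Y) induced by the projection P^1_Y → Y is bijective. Let X be a proper integral scheme over k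
having a non-empty open subscheme smooth over k, and assume X is almost R-trivial over k. Then there
is a non-empty open subscheme U of X, smooth over k, such that the image of Φ(X) → Φ(U) (restriction
along the inclusion) equals the image of Φ(Spec k) → Φ(U) (along the structure morphism of U). The
functor takes values in an arbitrary universe. -/
theorem result (k : Type u) [Field k]
    (Φ : (Over (Spec (CommRingCat.of k)))ᵒᵖ ⥤ Type v)
    (hΦ : ∀ (Y : Scheme.{u}) (g : Y ⟶ Spec (CommRingCat.of k)) [IsIntegral Y] [Smooth g]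
      [IsSeparated g] [QuasiCompact g],
      Function.Bijective (Φ.map (Over.homMk (CohB1.ProjSpaceOver.toBase 1 Y) rfl :
        Over.mk (CohB1.ProjSpaceOver.toBase 1 Y ≫ g) ⟶ Over.mk g).op))
    (X : Scheme.{u}) (f : X ⟶ Spec (CommRingCat.of k)) [IsIntegral X] [IsProper f]
    (hsm : ∃ V : X.Opens, (V : Set X).Nonempty ∧ Smooth (V.ι ≫ f))
    (hR : REq.IsAlmostRTrivial f) :
    ∃ U : X.Opens, (U : Set X).Nonempty ∧ Smooth (U.ι ≫ f) ∧
      Set.range (Φ.map (Over.homMk U.ι rfl : Over.mk (U.ι ≫ f) ⟶ Over.mk f).op) =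
        Set.range (Φ.map (Over.homMk (U.ι ≫ f) (Category.comp_id _) :
          Over.mk (U.ι ≫ f) ⟶ Over.mk (𝟙 (Spec (CommRingCat.of k)))).op) := by
  obtain ⟨V, hVne, hVsm⟩ := hsm
  obtain ⟨U, hUd, hU⟩ := hR
  obtain ⟨A₀, hA₀⟩ : ∃ A : REq.Pts f k, REq.InOpen f U A := (hU k).1
  have hUV : ((U ⊓ V : X.Opens) : Set X).Nonempty :=
    (hUd.inter_open_nonempty _ V.2 hVne).mono fun x hx => ⟨hx.2, hx.1⟩
  obtain ⟨x₀, hx₀⟩ := hUV
  obtain ⟨_, ⟨U₀, hU₀, rfl⟩, hxU₀, hU₀le⟩ :=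
    X.isBasis_affineOpens.exists_subset_of_mem_open hx₀ (U ⊓ V).2
  haveI : Nonempty (U₀ : Scheme.{u}) := ⟨⟨x₀, hxU₀⟩⟩
  haveI : IsDomain Γ(X, U₀) := inferInstance
  let R : Type u := Γ(X, U₀)
  let ι₀ : Spec (CommRingCat.of R) ⟶ X := hU₀.fromSpec
  let g0 := ι₀ ≫ f
  have hrange : Set.range ι₀ = (U₀ : Set X) := hU₀.range_fromSpec
  haveI : Smooth g0 := by
    have hle : U₀ ≤ V := fun x hx => (hU₀le hx).2
    have : ι₀ = hU₀.isoSpec.inv ≫ X.homOfLE hle ≫ V.ι := by simp [ι₀, IsAffineOpen.isoSpec_inv_ι]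
    show Smooth (ι₀ ≫ f)
    rw [this]
    simp only [Category.assoc]
    haveI := hVsm
    infer_instance
  let τ := Groth.Agent.REq15.tau R
  let ψ := Spec.preimage (τ ≫ g0)
  letI : Algebra k (Groth.Agent.REq15.KK R) := ψ.hom.toAlgebra
  have hψ : REq.specMap k (Groth.Agent.REq15.KK R) = τ ≫ g0 := Spec.map_preimage _
  have hid : REq.specMap k k = 𝟙 _ := Spec.map_id _
  let Aη : REq.Pts f (Groth.Agent.REq15.KK R) := ⟨τ ≫ ι₀, by rw [hψ, Category.assoc]⟩
  let Ac : REq.Pts f (Groth.Agent.REq15.KK R) :=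
    ⟨(τ ≫ g0) ≫ A₀.1, by rw [hψ, Category.assoc, A₀.2, hid]; exact Category.comp_id _⟩
  have hη : REq.InOpen f U Aη := by
    rintro _ ⟨p, rfl⟩
    refine (hU₀le ?_).1
    rw [← hrange]
    exact ⟨τ p, rfl⟩
  have hc : REq.InOpen f U Ac := by
    rintro _ ⟨p, rfl⟩
    exact hA₀ ⟨(τ ≫ g0) p, rfl⟩
  have key : Groth.Agent.REq15.GenEqv Φ g0 f Aη.1 Ac.1 := by
    refine Relation.EqvGen.rec (motive := fun A B _ => Groth.Agent.REq15.GenEqv Φ g0 f A.1 B.1)
      ?_ ?_ ?_ ?_ ((hU (Groth.Agent.REq15.KK R)).2 Aη Ac hη hc)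
    · rintro A B ⟨W, h, a, b, hh, ha, hb, haA, hbB⟩
      rw [← haA, ← hbB]
      refine Groth.Agent.REq15.genEqv_of_curve (fun Y g => hΦ Y g) W h ?_ a b ha hb
      rw [hh, hψ]
    · intro A
      exact Groth.Agent.REq15.GenEqv.refl (A.2.trans hψ)
    · intro A B _ h
      exact h.symm
    · intro A B C _ _ h h'
      exact h.trans h'
  obtain ⟨O, hO, a, b, ha, hb, hae, hbe, hab⟩ := key
  have ha' : a = O.ι ≫ ι₀ := Groth.Agent.REq15.ext_of_generic hO a _ ha (Category.assoc _ _ _) (by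
    rw [hae]; simp [Aη, τ])
  have hb' : b = (O.ι ≫ g0) ≫ A₀.1 := Groth.Agent.REq15.ext_of_generic hO b _ hb
    (by rw [Category.assoc, A₀.2, hid]; exact Category.comp_id _) (by
      rw [hbe]; simp [Ac, τ])
  let e := ι₀.isoImage O
  let U' : X.Opens := ι₀ ''ᵁ O
  have heι : e.inv ≫ O.ι ≫ ι₀ = U'.ι := by
    rw [Iso.inv_comp_eq]
    exact (ι₀.isoImage_hom_ι O).symm
  have hsm' : Smooth (U'.ι ≫ f) := by
    rw [← heι]
    simp only [Category.assoc]
    infer_instance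
  refine ⟨U', ⟨ι₀ (genericPoint _), ⟨_, hO, rfl⟩⟩, hsm', ?_⟩
  apply Set.Subset.antisymm
  · rintro _ ⟨α, rfl⟩
    let eov : Over.mk (U'.ι ≫ f) ⟶ Over.mk (O.ι ≫ g0) := Over.homMk e.inv (by
      show e.inv ≫ O.ι ≫ ι₀ ≫ f = U'.ι ≫ f
      rw [reassoc_of% heι])
    let sO : Over.mk (O.ι ≫ g0) ⟶ Over.mk (𝟙 (Spec (CommRingCat.of k))) :=
      Over.homMk (O.ι ≫ g0) (Category.comp_id _)
    let cO : Over.mk (𝟙 (Spec (CommRingCat.of k))) ⟶ Over.mk f := Over.homMk A₀.1 (A₀.2.trans hid)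
    refine ⟨Φ.map cO.op α, ?_⟩
    have h1 : (Over.homMk U'.ι rfl : Over.mk (U'.ι ≫ f) ⟶ Over.mk f) = eov ≫ (Over.homMk a ha : Over.mk (O.ι ≫ g0) ⟶ Over.mk f) :=
      Over.OverMorphism.ext (by simp [eov, ha', heι])
    have h2 : (Over.homMk (U'.ι ≫ f) (Category.comp_id _) :
        Over.mk (U'.ι ≫ f) ⟶ Over.mk (𝟙 (Spec (CommRingCat.of k)))) = eov ≫ sO :=
      Over.OverMorphism.ext (by simp [eov, sO, g0, reassoc_of% heι])
    have h3 : (Over.homMk b hb : Over.mk (O.ι ≫ g0) ⟶ Over.mk f) = sO ≫ cO :=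
      Over.OverMorphism.ext (by simp [sO, cO, hb'])
    rw [h1, op_comp, Φ.map_comp, ConcreteCategory.comp_apply, hab α, h2, h3]
    simp only [op_comp, Φ.map_comp, ConcreteCategory.comp_apply]
  · rintro _ ⟨β, rfl⟩
    refine ⟨Φ.map (Over.homMk f (Category.comp_id _) : Over.mk f ⟶ Over.mk (𝟙 _)).op β, ?_⟩
    rw [← ConcreteCategory.comp_apply, ← Φ.map_comp, ← op_comp]
    rfl

end Groth.Agent.S18574
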