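import Groth.Statements.S18578
import Groth.Agent.Lib.SmoothReg17.Basic
import Mathlib

set_option autoImplicit false
universe u
open LogDiff

namespace Groth.Agent.S18578


section Aux
open TensorProduct

variable {k R K : Type u} [Field k] [CommRing R] [IsDomain R] [Algebra k R] [Field K] [Algebra R K]
  [IsFractionRing R K] [Algebra k K] [IsScalarTower k R K]

theorem map_injective [Algebra.FormallySmooth k R] :
    Function.Injective (KaehlerDifferential.map k k R K) := by
  haveI : Algebra.FormallyEtale R K := Algebra.FormallyEtale.of_isLocalization (nonZeroDivisors R)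
  let e := KaehlerDifferential.tensorKaehlerEquivOfFormallyEtale k R K
  have he : ∀ ω, KaehlerDifferential.map k k R K ω = e (1 ⊗ₜ ω) := by
    intro ω
    rw [KaehlerDifferential.tensorKaehlerEquivOfFormallyEtale_apply, KaehlerDifferential.mapBaseChange_tmul,
      one_smul]
  have hinj : Function.Injective fun ω : Ω[R⁄k] => (1 : K) ⊗ₜ[R] ω := by
    have h := Module.Flat.rTensor_preserves_injective_linearMap (M := Ω[R⁄k]) (Algebra.linearMap R K)
      (IsFractionRing.injective R K)
    have h2 := h.comp (TensorProduct.lid R (Ω[R⁄k])).symm.injective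
    convert h2 using 1
    funext ω
    simp
  intro a b hab
  rw [he, he] at hab
  exact hinj (e.injective hab)

theorem one_tmul_D_ne_zero [CharZero k] [Algebra.FormallySmooth k R] [Algebra.EssFiniteType k R]
    [UniqueFactorizationMonoid R] (q : R) (hq : Prime q) :
    ∃ (L : Type u) (_ : Field L) (_ : Algebra R L) (φ : Ω[R⁄k] →ₗ[R] L ⊗[R] Ω[R⁄k]),
      algebraMap R L q = 0 ∧ (∀ x : R, ¬ q ∣ x → algebraMap R L x ≠ 0) ∧
        (∀ ω, φ ω = 1 ⊗ₜ ω) ∧ φ (KaehlerDifferential.D k R q) ≠ 0 := by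
  haveI : (Ideal.span {q}).IsPrime := (Ideal.span_singleton_prime hq.ne_zero).2 hq
  let P := Localization.AtPrime (Ideal.span {q})
  let L := IsLocalRing.ResidueField P
  haveI : Algebra.FormallyEtale R P := Algebra.FormallyEtale.of_isLocalization (Ideal.span {q}).primeCompl
  haveI : Algebra.FormallySmooth k P := Algebra.FormallySmooth.comp k R P
  haveI : Algebra.EssFiniteType R P := Algebra.EssFiniteType.of_isLocalization P (Ideal.span {q}).primeCompl
  haveI : Algebra.EssFiniteType k P := Algebra.EssFiniteType.comp k R P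
  haveI : Algebra.EssFiniteType k L :=
    inferInstanceAs (Algebra.EssFiniteType k (P ⧸ IsLocalRing.maximalIdeal P))
  haveI : Algebra.FormallySmooth k L := inferInstance
  have hsurj : Function.Surjective (algebraMap P L) := Ideal.Quotient.mk_surjective
  obtain ⟨l, hl⟩ := (Algebra.FormallySmooth.iff_split_injection (R := k) (P := P) (A := L) hsurj).1 inferInstance
  have hker : ∀ x : R, algebraMap R L x = 0 ↔ q ∣ x := by
    intro x
    rw [IsScalarTower.algebraMap_apply R P L, IsLocalRing.ResidueField.algebraMap_eq,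
      IsLocalRing.residue_eq_zero_iff, IsLocalization.AtPrime.to_map_mem_maximal_iff P (Ideal.span {q}),
      Ideal.mem_span_singleton]
  refine ⟨L, inferInstance, inferInstance, TensorProduct.mk R L (Ω[R⁄k]) 1, (hker q).2 dvd_rfl,
    fun x hx h => hx ((hker x).1 h), fun ω => rfl, ?_⟩
  intro h0
  have hqk : algebraMap R P q ∈ RingHom.ker (algebraMap P L) := by
    rw [RingHom.mem_ker, ← IsScalarTower.algebraMap_apply, hker]
  let e := KaehlerDifferential.tensorKaehlerEquivOfFormallyEtale k R P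
  have h1 : KaehlerDifferential.kerCotangentToTensor k P L (Ideal.toCotangent _ ⟨_, hqk⟩) = 0 := by
    rw [KaehlerDifferential.kerCotangentToTensor_toCotangent]
    show (1 : L) ⊗ₜ[P] KaehlerDifferential.D k P (algebraMap R P q) = 0
    let Φ : L ⊗[R] Ω[R⁄k] →ₗ[R] L ⊗[P] Ω[P⁄k] := TensorProduct.lift
      (LinearMap.mk₂ R (fun (c : L) ω => c ⊗ₜ[P] KaehlerDifferential.map k k R P ω)
        (fun c c' ω => by rw [TensorProduct.add_tmul])
        (fun r c ω => by rw [TensorProduct.smul_tmul'])
        (fun c ω ω' => by rw [map_add, TensorProduct.tmul_add])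
        (fun r c ω => by rw [map_smul, TensorProduct.tmul_smul]))
    have := congrArg Φ h0
    rw [map_zero] at this
    simpa [Φ] using this
  have h2 : Ideal.toCotangent _ ⟨_, hqk⟩ = 0 := by
    have := LinearMap.congr_fun hl (Ideal.toCotangent _ ⟨_, hqk⟩)
    rw [LinearMap.comp_apply, h1, map_zero] at this
    exact this.symm
  rw [Ideal.toCotangent_eq_zero, pow_two] at h2
  have hk : RingHom.ker (algebraMap P L) = Ideal.span {algebraMap R P q} := by
    rw [IsLocalRing.ResidueField.algebraMap_eq, IsLocalRing.ker_residue,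
      ← IsLocalization.AtPrime.map_eq_maximalIdeal (Ideal.span {q}), Ideal.map_span, Set.image_singleton]
  have h3 : algebraMap R P q ∈ RingHom.ker (algebraMap P L) * RingHom.ker (algebraMap P L) := h2
  rw [hk, Ideal.span_singleton_mul_span_singleton, Ideal.mem_span_singleton] at h3
  obtain ⟨c, hc⟩ := h3
  have hq0 : algebraMap R P q ≠ 0 := fun h => hq.ne_zero
    (IsLocalization.injective P (Ideal.span {q}).primeCompl_le_nonZeroDivisors (h.trans (map_zero _).symm))
  haveI : IsDomain P := IsLocalization.isDomain_localization (Ideal.span {q}).primeCompl_le_nonZeroDivisors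
  have hu : IsUnit (algebraMap R P q) := IsUnit.of_mul_eq_one c
    (mul_left_cancel₀ hq0 (by rw [mul_one, ← mul_assoc]; exact hc.symm))
  exact (IsLocalRing.mem_maximalIdeal _).1
    ((IsLocalization.AtPrime.to_map_mem_maximal_iff P (Ideal.span {q}) q).2 (Ideal.mem_span_singleton_self q)) hu

theorem decomp [WfDvdMonoid R] {r : ℕ} (f : Fin r → R) (hf : ∀ i, Prime (f i)) (x : R) (hx : x ≠ 0) :
    ∃ (a : R) (n : Fin r → ℕ), a ≠ 0 ∧ x = a * ∏ i, f i ^ n i ∧ ∀ i, ¬ f i ∣ a := by
  classical
  revert hx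
  refine WellFounded.induction (C := fun x => x ≠ 0 →
    ∃ (a : R) (n : Fin r → ℕ), a ≠ 0 ∧ x = a * ∏ i, f i ^ n i ∧ ∀ i, ¬ f i ∣ a)
    wellFounded_dvdNotUnit x fun x ih hx => ?_
  by_cases h : ∃ i, f i ∣ x
  · obtain ⟨i, y, rfl⟩ := h
    obtain ⟨a, n, ha, hy, hn⟩ := ih y ⟨right_ne_zero_of_mul hx, f i, (hf i).not_unit, mul_comm _ _⟩
      (right_ne_zero_of_mul hx)
    refine ⟨a, n + Pi.single i 1, ha, ?_, hn⟩
    simp only [Pi.add_apply, pow_add, Finset.prod_mul_distrib]
    have e1 : ∏ j, f j ^ (Pi.single i (1 : ℕ) : Fin r → ℕ) j = f i := by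
      rw [Fintype.prod_eq_single i (fun j hj => by rw [Pi.single_eq_of_ne hj, pow_zero]), Pi.single_eq_same,
        pow_one]
    rw [e1, hy]
    ring
  · exact ⟨x, 0, hx, by simp, fun i hi => h ⟨i, hi⟩⟩

local notation "DK" => KaehlerDifferential.D k K

theorem dlog_mul (x y : K) (hx : x ≠ 0) (hy : y ≠ 0) :
    (x * y)⁻¹ • DK (x * y) = x⁻¹ • DK x + y⁻¹ • DK y := by
  have e1 : (x * y)⁻¹ * y = x⁻¹ := by rw [mul_inv, mul_assoc, inv_mul_cancel₀ hy, mul_one]
  have e2 : (x * y)⁻¹ * x = y⁻¹ := by rw [mul_inv, mul_comm x⁻¹, mul_assoc, inv_mul_cancel₀ hx, mul_one]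
  rw [Derivation.leibniz, smul_add, smul_smul, smul_smul, e1, e2, add_comm]

theorem dlog_inv (x : K) (hx : x ≠ 0) : (x⁻¹)⁻¹ • DK x⁻¹ = -(x⁻¹ • DK x) := by
  rw [Derivation.leibniz_inv, neg_smul, smul_neg, smul_smul, inv_inv]
  have e1 : x * x⁻¹ ^ 2 = x⁻¹ := by rw [pow_two, ← mul_assoc, mul_inv_cancel₀ hx, one_mul]
  rw [e1]

theorem dlog_pow (x : K) (hx : x ≠ 0) (n : ℕ) :
    (x ^ n)⁻¹ • DK (x ^ n) = (n : K) • (x⁻¹ • DK x) := by
  induction n with
  | zero => simp
  | succ n ih => rw [pow_succ, dlog_mul _ _ (pow_ne_zero n hx) hx, ih, Nat.cast_succ, add_smul, one_smul]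

theorem dlog_prod {r : ℕ} (x : Fin r → K) (hx : ∀ i, x i ≠ 0) :
    (∏ i, x i)⁻¹ • DK (∏ i, x i) = ∑ i, (x i)⁻¹ • DK (x i) := by
  classical
  have h : ∀ s : Finset (Fin r), (∏ i ∈ s, x i)⁻¹ • DK (∏ i ∈ s, x i) = ∑ i ∈ s, (x i)⁻¹ • DK (x i) := by
    intro s
    induction s using Finset.induction_on with
    | empty => simp
    | insert i s his ih =>
      rw [Finset.prod_insert his, Finset.sum_insert his,
        dlog_mul _ _ (hx i) (Finset.prod_ne_zero_iff.2 fun j _ => hx j), ih]
  exact h _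

theorem main [CharZero k] [Algebra.FormallySmooth k R] [Algebra.EssFiniteType k R] [UniqueFactorizationMonoid R]
    {r : ℕ} (f : Fin r → R) (hf : ∀ i, Prime (f i))
    (g : Kˣ) (η : Ω[R⁄k]) (c : Fin r → R)
    (h : (g : K)⁻¹ • DK (g : K) = KaehlerDifferential.map k k R K η +
        ∑ i, (algebraMap R K (c i) * (algebraMap R K (f i))⁻¹) • DK (algebraMap R K (f i))) :
    ∃ (v : Rˣ) (b : Fin r → ℤ),
      (g : K)⁻¹ • DK (g : K) = (algebraMap R K (v : R))⁻¹ • DK (algebraMap R K (v : R)) +
          ∑ i, ((b i : K) * (algebraMap R K (f i))⁻¹) • DK (algebraMap R K (f i)) := by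
  classical
  set ι := algebraMap R K
  have hι : Function.Injective ι := IsFractionRing.injective R K
  have hι0 : ∀ {x : R}, x ≠ 0 → ι x ≠ 0 := fun hx h => hx (hι (h.trans (map_zero _).symm))
  obtain ⟨x, y, hy, hxy⟩ := IsFractionRing.div_surjective (A := R) (g : K)
  have hy0 : y ≠ 0 := nonZeroDivisors.ne_zero hy
  have hx0 : x ≠ 0 := by rintro rfl; rw [map_zero, zero_div] at hxy; exact g.ne_zero hxy.symm
  obtain ⟨a₁, n, ha₁, hxa, hna⟩ := decomp f hf x hx0
  obtain ⟨b₁, m, hb₁, hyb, hmb⟩ := decomp f hf y hy0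
  obtain ⟨a, b, cc, hrel, hca, hcb⟩ := UniqueFactorizationMonoid.exists_reduced_factors a₁ ha₁ b₁
  have ha : a ≠ 0 := fun h => ha₁ (by rw [← hca, h, mul_zero])
  have hb : b ≠ 0 := fun h => hb₁ (by rw [← hcb, h, mul_zero])
  have hcc : cc ≠ 0 := fun h => hb₁ (by rw [← hcb, h, zero_mul])
  have hf0 : ∀ i, ι (f i) ≠ 0 := fun i => hι0 (hf i).ne_zero
  have hg : (g : K) = (ι a * ∏ i, ι (f i) ^ n i) * (ι b * ∏ i, ι (f i) ^ m i)⁻¹ := by
    rw [← hxy, hxa, hyb, ← hca, ← hcb]
    simp only [map_mul, map_prod, map_pow]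
    rw [mul_assoc, mul_assoc, mul_div_mul_left _ _ (hι0 hcc), div_eq_mul_inv]
  have hdg : (g : K)⁻¹ • DK (g : K) = (ι a)⁻¹ • DK (ι a) - (ι b)⁻¹ • DK (ι b) +
      ∑ i, (((n i : ℤ) - (m i : ℤ) : ℤ) : K) • ((ι (f i))⁻¹ • DK (ι (f i))) := by
    have hp : ∀ e : Fin r → ℕ, ∏ i, ι (f i) ^ e i ≠ 0 := fun e =>
      Finset.prod_ne_zero_iff.2 fun i _ => pow_ne_zero _ (hf0 i)
    rw [hg, dlog_mul _ _ (mul_ne_zero (hι0 ha) (hp n)) (inv_ne_zero (mul_ne_zero (hι0 hb) (hp m))),
      dlog_inv _ (mul_ne_zero (hι0 hb) (hp m)), dlog_mul _ _ (hι0 ha) (hp n), dlog_mul _ _ (hι0 hb) (hp m),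
      dlog_prod _ (fun i => pow_ne_zero _ (hf0 i)), dlog_prod _ (fun i => pow_ne_zero _ (hf0 i))]
    simp only [dlog_pow _ (hf0 _), Int.cast_sub, Int.cast_natCast, sub_smul, Finset.sum_sub_distrib]
    abel
  let F := ∏ i, f i
  let G : Fin r → R := fun i => ∏ j ∈ Finset.univ.erase i, f j
  have hFG : ∀ i, F = f i * G i := fun i => (Finset.mul_prod_erase _ _ (Finset.mem_univ i)).symm
  let ω₀ : Ω[R⁄k] := F • η +
    ∑ i, ((c i - (((n i : ℤ) - (m i : ℤ) : ℤ) : R)) * G i) • KaehlerDifferential.D k R (f i)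
  have hmapD : ∀ z : R, KaehlerDifferential.map k k R K (KaehlerDifferential.D k R z) = DK (ι z) := fun z =>
    KaehlerDifferential.map_D k k R K z
  have hmaps : ∀ (z : R) ω, KaehlerDifferential.map k k R K (z • ω) = ι z • KaehlerDifferential.map k k R K ω :=
    fun z ω => by rw [map_smul, IsScalarTower.algebraMap_smul]
  have key : (F * b) • KaehlerDifferential.D k R a - (F * a) • KaehlerDifferential.D k R b = (a * b) • ω₀ := by
    apply map_injective (k := k) (K := K)
    have e1 : (ι a)⁻¹ • DK (ι a) - (ι b)⁻¹ • DK (ι b) = KaehlerDifferential.map k k R K η +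
        ∑ i, (ι (c i - (((n i : ℤ) - (m i : ℤ) : ℤ) : R)) * (ι (f i))⁻¹) • DK (ι (f i)) := by
      rw [hdg] at h
      rw [eq_sub_of_add_eq h, add_sub_assoc, ← Finset.sum_sub_distrib]
      congr 1
      refine Finset.sum_congr rfl fun i _ => ?_
      rw [map_sub, map_intCast, sub_mul, sub_smul, mul_smul (((n i : ℤ) - (m i : ℤ) : ℤ) : K)]
    have e2 := congrArg (fun w => (ι F * ι a * ι b) • w) e1
    simp only [smul_sub, smul_add, Finset.smul_sum, smul_smul] at e2
    simp only [ω₀, smul_add, Finset.smul_sum, smul_smul, map_sub, map_add, map_sum, hmaps, hmapD]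
    refine Eq.trans ?_ (e2.trans ?_)
    · congr 2
      · rw [map_mul]; field_simp [hι0 ha]
      · rw [map_mul]; field_simp [hι0 hb]
    · congr 1
      · congr 1; simp only [map_mul]; ring
      · refine Finset.sum_congr rfl fun i _ => ?_
        congr 1
        rw [hFG i]
        simp only [map_mul]
        field_simp [hf0 i]
  have hFprime : ∀ q : R, Prime q → (∀ i, ¬ q ∣ f i) → ¬ q ∣ F := by
    intro q hq hqf hd
    obtain ⟨i, -, hi⟩ := (Prime.dvd_finsetProd_iff hq _).1 hd
    exact hqf i hi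
  have hunit : ∀ (a b : R), a ≠ 0 → IsRelPrime a b → (∀ i, ¬ f i ∣ a) → ∀ ω : Ω[R⁄k],
      (F * b) • KaehlerDifferential.D k R a - (F * a) • KaehlerDifferential.D k R b = (a * b) • ω → IsUnit a := by
    intro a b ha hab hfa ω hω
    by_contra hu
    obtain ⟨q, hqirr, hqa⟩ := WfDvdMonoid.exists_irreducible_factor hu ha
    have hq : Prime q := UniqueFactorizationMonoid.irreducible_iff_prime.1 hqirr
    obtain ⟨N, a', hqa', rfl⟩ := WfDvdMonoid.max_power_factor ha hqirr
    have hN : N ≠ 0 := by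
      rintro rfl
      exact hqa' (by simpa using hqa)
    obtain ⟨M, rfl⟩ := Nat.exists_eq_succ_of_ne_zero hN
    have hqb : ¬ q ∣ b := fun hqb => hq.not_unit (hab hqa hqb)
    have hqF : ¬ q ∣ F := hFprime q hq fun i hi => hfa i
      ((hqirr.associated_of_dvd (hf i).irreducible hi).symm.dvd.trans hqa)
    have hω' : ((F * b * (M + 1) * a') • KaehlerDifferential.D k R q) + q • ((F * b) • KaehlerDifferential.D k R a'
        - (F * a') • KaehlerDifferential.D k R b) = q • ((a' * b) • ω) := by
      apply map_injective (k := k) (K := K)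
      have h1 := congrArg (KaehlerDifferential.map k k R K) hω
      simp only [map_sub, map_add, hmaps, hmapD, Derivation.leibniz, Derivation.leibniz_pow, ← Nat.cast_smul_eq_nsmul R, smul_add, smul_sub,
        smul_smul] at h1 ⊢
      refine smul_right_injective _ (pow_ne_zero M (hι0 hq.ne_zero)) ?_
      simp only [smul_add, smul_sub, smul_smul] 
      simp only [Nat.succ_eq_add_one, Nat.add_sub_cancel] at h1
      convert h1 using 1 <;> simp only [map_mul, map_pow, map_add, map_natCast, map_one] <;> module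
    obtain ⟨L, _, _, φ, hLq, hL, hφ, hφq⟩ := one_tmul_D_ne_zero (k := k) q hq
    have h2 := congrArg φ hω'
    rw [map_add, map_smul φ q, map_smul φ q, map_smul φ (F * b * (M + 1) * a')] at h2
    have hq0 : ∀ z : L ⊗[R] Ω[R⁄k], q • z = 0 := fun z => by
      rw [← IsScalarTower.algebraMap_smul L q z, hLq, zero_smul]
    rw [hq0, hq0, add_zero, ← IsScalarTower.algebraMap_smul L, smul_eq_zero] at h2
    refine h2.elim (hL _ fun hd => ?_) hφq
    rcases hq.dvd_or_dvd hd with hd | hd
    · rcases hq.dvd_or_dvd hd with hd | hd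
      · rcases hq.dvd_or_dvd hd with hd | hd
        · exact hqF hd
        · exact hqb hd
      · refine hq.not_unit (isUnit_of_dvd_unit hd ?_)
        have : ((M : R) + 1) = algebraMap k R ((M + 1 : ℕ) : k) := by simp
        rw [this]
        exact (Ne.isUnit (Nat.cast_ne_zero.2 (Nat.succ_ne_zero M))).map _
    · exact hqa' hd
  have hua : IsUnit a := hunit a b ha (fun d hd hd' => hrel hd hd') (fun i hi => hna i (hca ▸ hi.mul_left cc)) ω₀ key
  have hub : IsUnit b := hunit b a hb (fun d hd hd' => hrel hd' hd) (fun i hi => hmb i (hcb ▸ hi.mul_left cc)) (-ω₀)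
    (by rw [smul_neg, mul_comm b a, ← key, neg_sub])
  refine ⟨hua.unit * hub.unit⁻¹, fun i => (n i : ℤ) - (m i : ℤ), ?_⟩
  rw [hdg]
  congr 1
  · have hv : ι ((hua.unit * hub.unit⁻¹ : Rˣ) : R) = ι a * (ι b)⁻¹ := by
      rw [Units.val_mul, map_mul, map_units_inv, IsUnit.unit_spec, IsUnit.unit_spec]
    rw [hv, dlog_mul _ _ (hι0 ha) (inv_ne_zero (hι0 hb)), dlog_inv _ (hι0 hb), sub_eq_add_neg]
  · simp only [smul_smul]

end Aux


/-- The degree-one case, stated at the local ring of a point. Let k be a field of characteristic zero, B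
a smooth k-algebra, R the localization of B at a prime ideal, K the fraction field of R and f_1, …,
f_r prime elements of R. If g is a unit of K whose logarithmic differential g⁻¹dg in Ω_{K/k} is the
image of a form η ∈ Ω_{R/k} plus an R-linear combination Σ c_i f_i⁻¹df_i, then g⁻¹dg = v⁻¹dv + Σ b_i
f_i⁻¹df_i for a unit v of R and integers b_i. (When the f_i are part of a regular system of
parameters the hypothesis says that g⁻¹dg has at worst logarithmic poles along the divisor f_1⋯f_r =
0 at this point, and the statement is the stalkwise injectivity of 1-forms with logarithmic poles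
modulo logarithmic differentials of functions invertible off the divisor into Ω¹_K modulo
logarithmic differentials; it is stated here for arbitrary prime elements f_i.) -/
theorem result
    {k B R K : Type u} [Field k] [CharZero k] [CommRing B] [Algebra k B] [Algebra.Smooth k B]
    (p : Ideal B) [p.IsPrime] [CommRing R] [Algebra B R] [IsLocalization.AtPrime R p]
    [Algebra k R] [IsScalarTower k B R]
    [Field K] [Algebra R K] [IsFractionRing R K] [Algebra k K] [IsScalarTower k R K]
    {r : ℕ} (f : Fin r → R) (hf : ∀ i, Prime (f i))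
    (g : Kˣ) (η : Ω[R⁄k]) (c : Fin r → R)
    (h : (g : K)⁻¹ • KaehlerDifferential.D k K (g : K) =
      KaehlerDifferential.map k k R K η +
        ∑ i, (algebraMap R K (c i) * (algebraMap R K (f i))⁻¹) •
          KaehlerDifferential.D k K (algebraMap R K (f i))) :
    ∃ (v : Rˣ) (b : Fin r → ℤ),
      (g : K)⁻¹ • KaehlerDifferential.D k K (g : K) =
        (algebraMap R K (v : R))⁻¹ • KaehlerDifferential.D k K (algebraMap R K (v : R)) +
          ∑ i, ((b i : K) * (algebraMap R K (f i))⁻¹) •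
            KaehlerDifferential.D k K (algebraMap R K (f i)) := by
  haveI hreg' := SmoothReg17.isRegularLocalRing_of_smooth (algebraMap k B)
    ((RingHom.smooth_algebraMap).2 inferInstance) p
  haveI : IsRegularLocalRing R := IsRegularLocalRing.of_ringEquiv
    (IsLocalization.algEquiv p.primeCompl (Localization.AtPrime p) R).toRingEquiv
  haveI : IsDomain R := RegLoc.isDomain R
  haveI : UniqueFactorizationMonoid R := RegLoc.ufd_of_isRegularLocalRing R
  haveI : Algebra.FormallyEtale B R := Algebra.FormallyEtale.of_isLocalization p.primeCompl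
  haveI : Algebra.FormallySmooth k R := Algebra.FormallySmooth.comp k B R
  haveI : Algebra.EssFiniteType B R := Algebra.EssFiniteType.of_isLocalization R p.primeCompl
  haveI : Algebra.EssFiniteType k R := Algebra.EssFiniteType.comp k B R
  exact main f hf g η c h

end Groth.Agent.S18578
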