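import Groth.Statements.S18579
import Mathlib

set_option autoImplicit false
universe u
open LogDiff

namespace Groth.Agent.S18579


lemma exp_eq_zero {R K : Type*} [CommRing R] [IsDomain R] [Field K] [Algebra R K] [IsFractionRing R K]
    {r : ℕ} (f : Fin r → R) (hf : ∀ i, Prime (f i)) (hfa : ∀ i j, Associated (f i) (f j) → i = j)
    (u : Rˣ) (d : Fin r → ℤ) (h : algebraMap R K (u : R) * ∏ i, (algebraMap R K (f i)) ^ (d i) = 1) : d = 0 := by
  have hne : ∀ i, algebraMap R K (f i) ≠ 0 := fun i =>
    (map_ne_zero_iff _ (IsFractionRing.injective R K)).2 (hf i).ne_zero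
  have e : (u : R) * ∏ i, f i ^ (d i).toNat = ∏ i, f i ^ (-d i).toNat := by
    refine IsFractionRing.injective R K ?_
    simp only [map_mul, map_prod, map_pow]
    calc algebraMap R K (u : R) * ∏ i, algebraMap R K (f i) ^ (d i).toNat
        = algebraMap R K (u : R) * ∏ i, (algebraMap R K (f i) ^ (d i) * algebraMap R K (f i) ^ (-d i).toNat) := by
          congr 1
          refine Finset.prod_congr rfl fun i _ => ?_
          rw [← zpow_natCast, ← zpow_natCast, ← zpow_add₀ (hne i)]
          congr 1
          omega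
      _ = ∏ i, algebraMap R K (f i) ^ (-d i).toNat := by
          rw [Finset.prod_mul_distrib, ← mul_assoc, h, one_mul]
  have key : ∀ (v : Rˣ) (p q : Fin r → ℕ), (v : R) * ∏ i, f i ^ p i = ∏ i, f i ^ q i →
      ∀ i, 0 < p i → 0 < q i := by
    intro v p q hpq i hi
    have hd : f i ∣ ∏ j, f j ^ q j := hpq ▸ ((dvd_pow_self (f i) hi.ne').trans
      (Finset.dvd_prod_of_mem (fun j => f j ^ p j) (Finset.mem_univ i))).mul_left _
    obtain ⟨j, -, hj⟩ := (hf i).exists_mem_finset_dvd hd
    have hq : 0 < q j := Nat.pos_of_ne_zero fun h0 => (hf i).not_unit (isUnit_of_dvd_one (by simpa [h0] using hj))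
    obtain rfl := hfa i j ((hf i).associated_of_dvd (hf j) ((hf i).dvd_of_dvd_pow hj))
    exact hq
  funext i
  rcases lt_trichotomy (d i) 0 with hd | hd | hd
  · have e' : ((u⁻¹ : Rˣ) : R) * ∏ i, f i ^ (-d i).toNat = ∏ i, f i ^ (d i).toNat := by
      rw [← e, ← mul_assoc, Units.inv_mul, one_mul]
    have := key u⁻¹ _ _ e' i (by omega)
    omega
  · exact hd
  · have := key u _ _ e i (by omega)
    omega


/-- The exact sequence for units (first Milnor K-groups) when every component of the divisor is removed.
Let k be a field, B a smooth k-algebra, R the localization of B at a prime ideal, K the fraction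
field of R and f_1, …, f_r pairwise non-associate prime elements of R. If w is a unit of K such that
w and w⁻¹ both lie in R[1/(f_1⋯f_r)], i.e. each becomes an element of R after multiplication by a
power of f_1⋯f_r, then there is exactly one pair (v, b) consisting of a unit v of R and integers
b_1, …, b_r with w = v · ∏ f_i^{b_i} in K. (This is the exactness of 0 → Γ(Spec R, O^×) → Γ(Spec R ∖
V(f_1⋯f_r), O^×) → ℤ^r → 0, the last map being the orders along the f_i. The published statement
takes the f_i to be local equations of the components of a normal crossings divisor, over a field of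
characteristic zero; this row allows arbitrary pairwise non-associate prime elements and any field.) -/
theorem result
    {k B R K : Type u} [Field k] [CommRing B] [Algebra k B] [Algebra.Smooth k B]
    (p : Ideal B) [p.IsPrime] [CommRing R] [Algebra B R] [IsLocalization.AtPrime R p]
    [Field K] [Algebra R K] [IsFractionRing R K]
    {r : ℕ} (f : Fin r → R) (hf : ∀ i, Prime (f i)) (hfa : ∀ i j, Associated (f i) (f j) → i = j)
    (w : Kˣ)
    (hw : ∃ (a : R) (n : ℕ), (w : K) * algebraMap R K ((∏ i, f i) ^ n) = algebraMap R K a)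
    (hw' : ∃ (a : R) (n : ℕ), (w⁻¹ : Kˣ) * algebraMap R K ((∏ i, f i) ^ n) = algebraMap R K a) :
    ∃! vb : Rˣ × (Fin r → ℤ),
      (w : K) = algebraMap R K (vb.1 : R) * ∏ i, (algebraMap R K (f i)) ^ (vb.2 i) := by
  classical
  haveI : Nontrivial R := (algebraMap R K).domain_nontrivial
  haveI : IsDomain R := (IsFractionRing.injective R K).isDomain _
  have hne : ∀ i, algebraMap R K (f i) ≠ 0 := fun i =>
    (map_ne_zero_iff _ (IsFractionRing.injective R K)).2 (hf i).ne_zero
  obtain ⟨a, n, ha⟩ := hw
  obtain ⟨a', n', ha'⟩ := hw'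
  set F := ∏ i, f i
  have hab : a * a' = 1 * ∏ x : Fin (n + n') × Fin r, f x.2 := by
    refine IsFractionRing.injective R K ?_
    have e : (∏ x : Fin (n + n') × Fin r, f x.2) = F ^ (n + n') := by
      rw [Fintype.prod_prod_type]; simp [F]
    rw [one_mul, e, map_mul, ← ha, ← ha', map_pow, map_pow, map_pow, pow_add, mul_mul_mul_comm]
    rw [Units.mul_inv, one_mul]
  obtain ⟨t, u, b, c, -, -, hbc, hat, -⟩ :=
    mul_eq_mul_prime_prod (fun x _ => hf x.2) (hab)
  have hb : IsUnit b := IsUnit.of_mul_eq_one c hbc.symm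
  let e : Fin r → ℕ := fun i => (t.filter fun x => x.2 = i).card
  have hat' : a = b * ∏ i, f i ^ e i := by
    rw [hat, ← Finset.prod_fiberwise t (fun x => x.2) (fun x => f x.2)]
    congr 1
    refine Finset.prod_congr rfl fun i _ => ?_
    rw [Finset.prod_congr rfl (fun x hx => by rw [(Finset.mem_filter.1 hx).2]), Finset.prod_const]
  refine ⟨(hb.unit, fun i => (e i : ℤ) - n), ?_, ?_⟩
  · simp only [IsUnit.unit_spec]
    have hF : algebraMap R K (F ^ n) ≠ 0 := by
      rw [map_ne_zero_iff _ (IsFractionRing.injective R K)]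
      exact pow_ne_zero _ (Finset.prod_ne_zero_iff.2 fun i _ => (hf i).ne_zero)
    apply mul_right_cancel₀ hF
    rw [ha, hat', map_mul, mul_assoc]
    congr 1
    simp only [F, ← Finset.prod_pow, map_prod, map_pow, ← Finset.prod_mul_distrib]
    refine Finset.prod_congr rfl fun i _ => ?_
    rw [← zpow_natCast, ← zpow_natCast, ← zpow_add₀ (hne i)]
    congr 1
    ring
  · rintro ⟨v, d⟩ hv
    simp only at hv
    have h2 : (w : K) = algebraMap R K (hb.unit : R) * ∏ i, algebraMap R K (f i) ^ ((e i : ℤ) - n) := by
      simp only [IsUnit.unit_spec]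
      have hF : algebraMap R K (F ^ n) ≠ 0 := by
        rw [map_ne_zero_iff _ (IsFractionRing.injective R K)]
        exact pow_ne_zero _ (Finset.prod_ne_zero_iff.2 fun i _ => (hf i).ne_zero)
      apply mul_right_cancel₀ hF
      rw [ha, hat', map_mul, mul_assoc]
      congr 1
      simp only [F, ← Finset.prod_pow, map_prod, map_pow, ← Finset.prod_mul_distrib]
      refine Finset.prod_congr rfl fun i _ => ?_
      rw [← zpow_natCast, ← zpow_natCast, ← zpow_add₀ (hne i)]
      congr 1
      ring
    have hP : (∏ i, algebraMap R K (f i) ^ ((e i : ℤ) - n)) ≠ 0 :=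
      Finset.prod_ne_zero_iff.2 fun i _ => zpow_ne_zero _ (hne i)
    have hu : algebraMap R K (hb.unit : R) ≠ 0 :=
      (map_ne_zero_iff _ (IsFractionRing.injective R K)).2 hb.unit.ne_zero
    have hz : algebraMap R K ((v * hb.unit⁻¹ : Rˣ) : R) * ∏ i, algebraMap R K (f i) ^ (d i - ((e i : ℤ) - n)) = 1 := by
      simp only [zpow_sub₀ (hne _) (d _) _, Finset.prod_div_distrib]
      rw [Units.val_mul, map_mul, mul_div_assoc', mul_right_comm, ← hv, h2, div_eq_one_iff_eq hP]
      rw [mul_right_comm, ← map_mul, Units.mul_inv, map_one, one_mul]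
    have hd := exp_eq_zero f hf hfa _ _ hz
    have hde : d = fun i => (e i : ℤ) - n := funext fun i => sub_eq_zero.1 (congrFun hd i)
    subst hde
    rw [h2] at hv
    have := mul_right_cancel₀ hP hv
    exact Prod.ext (Units.ext (IsFractionRing.injective R K this.symm)) rfl

end Groth.Agent.S18579
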