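import Groth.Statements.S18580
import Groth.Agent.Lib.EtBase.Unramified

set_option autoImplicit false
universe u
open EtBase

namespace Groth.Agent.S18580

open AlgebraicGeometry CategoryTheory in
/-- Let Y be a connected scheme and f : X ⟶ Y a separated morphism that is unramified (locally of finite
type and formally unramified). Then the sections of f correspond bijectively to the connected
components of X mapping isomorphically onto Y: there is a bijection from the set of sections s of f
to the set of open subschemes U of X whose underlying set is a connected component of X and for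
which U ⟶ X ⟶ Y is an isomorphism, sending s to its image. In particular every section is an
isomorphism onto a connected component of X and is determined by its image. (A connected component
mapping isomorphically onto Y is the image of a section, hence open, so restricting to open
components loses nothing. The published statement also assumes Y Noetherian; that hypothesis plays
no role and is omitted.) -/
theorem result {X Y : Scheme.{u}} (f : X ⟶ Y)
    [FormallyUnramified f] [LocallyOfFiniteType f] [IsSeparated f] [ConnectedSpace Y] :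
    ∃ e : {s : Y ⟶ X // s ≫ f = 𝟙 Y} ≃
        {U : X.Opens // (∃ x : X, (U : Set X) = connectedComponent x) ∧ IsIso (U.ι ≫ f)},
      ∀ s : {s : Y ⟶ X // s ≫ f = 𝟙 Y}, ((e s).1 : Set X) = Set.range s.1 := by
  classical
  have hsec : ∀ s : {s : Y ⟶ X // s ≫ f = 𝟙 Y}, IsOpenImmersion s.1 ∧ IsClosedImmersion s.1 := by
    intro s
    haveI : IsClosedImmersion (s.1 ≫ f) := by rw [s.2]; infer_instance
    haveI : IsClosedImmersion s.1 := IsClosedImmersion.of_comp s.1 f
    obtain ⟨E, ι, hι, -, he, hu⟩ := EtBase.exists_clopen_equalizer f (f ≫ s.1) (𝟙 X)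
      (by rw [Category.assoc, s.2, Category.comp_id, Category.id_comp])
    obtain ⟨b, hb⟩ := hu s.1 (by rw [← Category.assoc, s.2, Category.id_comp, Category.comp_id])
    haveI : IsIso b := ⟨ι ≫ f, by rw [← Category.assoc, hb, s.2], by
      rw [← cancel_mono ι, Category.assoc, Category.assoc, hb, Category.id_comp, he, Category.comp_id]⟩
    refine ⟨?_, inferInstance⟩
    rw [← hb]
    infer_instance
  have hcomp : ∀ s : {s : Y ⟶ X // s ≫ f = 𝟙 Y}, ∃ x : X, Set.range s.1.base = connectedComponent x := by
    intro s
    obtain ⟨h1, h2⟩ := hsec s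
    obtain ⟨y⟩ := (inferInstance : Nonempty Y)
    refine ⟨s.1.base y, le_antisymm ?_ ?_⟩
    · exact (isConnected_range s.1.continuous).subset_connectedComponent ⟨y, rfl⟩
    · exact isPreconnected_connectedComponent.subset_isClopen
        ⟨s.1.isClosedEmbedding.isClosed_range, s.1.isOpenEmbedding.isOpen_range⟩
        ⟨s.1.base y, mem_connectedComponent, ⟨y, rfl⟩⟩
  let toU : {s : Y ⟶ X // s ≫ f = 𝟙 Y} →
      {U : X.Opens // (∃ x : X, (U : Set X) = connectedComponent x) ∧ IsIso (U.ι ≫ f)} := fun s =>
    haveI := (hsec s).1
    ⟨s.1.opensRange, hcomp s, by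
      rw [← isIso_comp_left_iff s.1.isoOpensRange.hom, ← Category.assoc,
        Scheme.Hom.isoOpensRange_hom_ι, s.2]
      infer_instance⟩
  let toS : {U : X.Opens // (∃ x : X, (U : Set X) = connectedComponent x) ∧ IsIso (U.ι ≫ f)} →
      {s : Y ⟶ X // s ≫ f = 𝟙 Y} := fun U =>
    haveI := U.2.2
    ⟨inv (U.1.ι ≫ f) ≫ U.1.ι, by rw [Category.assoc, IsIso.inv_hom_id]⟩
  refine ⟨⟨toU, toS, ?_, ?_⟩, fun s => rfl⟩
  · intro s
    haveI := (hsec s).1
    apply Subtype.ext
    haveI : IsIso (s.1.opensRange.ι ≫ f) := (toU s).2.2
    show inv (s.1.opensRange.ι ≫ f) ≫ s.1.opensRange.ι = s.1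
    have e := Scheme.Hom.isoOpensRange_hom_ι s.1
    rw [IsIso.inv_comp_eq, ← cancel_epi s.1.isoOpensRange.hom, e, ← Category.assoc, ← Category.assoc, e, s.2,
      Category.id_comp]
  · intro U
    apply Subtype.ext
    apply TopologicalSpace.Opens.ext
    haveI := U.2.2
    show Set.range (inv (U.1.ι ≫ f) ≫ U.1.ι).base = (U.1 : Set X)
    rw [Scheme.Hom.comp_base, TopCat.coe_comp, Set.range_comp,
      Set.range_eq_univ.mpr (inv (U.1.ι ≫ f)).surjective, Set.image_univ, Scheme.Opens.range_ι]

end Groth.Agent.S18580
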