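import Groth.Statements.S18585
import Groth.Agent.Lib.CurveCoh17.TracePair
import Groth.Agent.Lib.FlatIntegral.Basic
import Groth.Agent.Lib.CohFound.ProperFinite
import Mathlib.LinearAlgebra.Trace
import Mathlib.RingTheory.Artinian.Module

set_option autoImplicit false
universe u
open BranchVar

namespace Groth.Agent.S18585

open TopologicalSpace Opposite Groth.Agent Groth.Agent.M1 Groth.Agent.M2
open scoped nonZeroDivisors

/-- The trace form of a reduced finite algebra over a field of characteristic zero is nondegenerate. -/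
theorem eq_zero_of_trace_field {K L : Type u} [Field K] [CharZero K] [CommRing L] [Algebra K L]
    [FiniteDimensional K L] [IsReduced L] (t : L) (h : ∀ l : L, Algebra.trace K L (l * t) = 0) : t = 0 := by
  haveI : IsArtinianRing L := IsArtinianRing.of_finite K L
  obtain ⟨n, s, hs'⟩ := IsArtinian.exists_pow_succ_smul_dvd t (1 : L)
  have hs : t ^ n = t ^ (n + 1) * s := by simpa [smul_eq_mul] using hs'.symm
  have hreg : t * (1 - t * s) = 0 := by
    refine IsReduced.eq_zero _ ⟨n + 1, ?_⟩
    rw [mul_pow, pow_succ (1 - t * s)]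
    calc t ^ (n + 1) * ((1 - t * s) ^ n * (1 - t * s))
        = t * (1 - t * s) ^ n * (t ^ n - t ^ (n + 1) * s) := by ring
      _ = 0 := by rw [← hs, sub_self, mul_zero]
  let f : L →ₗ[K] L := LinearMap.mulLeft K (s * t)
  have hidem : ∀ x, f (f x) = f x := fun x => by
    show s * t * (s * t * x) = s * t * x
    have : s * t * (s * t * x) = s * t * x - s * (t * (1 - t * s)) * x := by ring
    rw [this, hreg, mul_zero, zero_mul, sub_zero]
  have hp : LinearMap.IsProj (LinearMap.range f) f :=
    ⟨fun x => LinearMap.mem_range_self f x, by rintro _ ⟨x, rfl⟩; exact hidem x⟩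
  have htr : ((Module.finrank K (LinearMap.range f) : ℕ) : K) = 0 := by
    rw [← hp.trace]
    exact h s
  have hr : LinearMap.range f = ⊥ := Submodule.finrank_eq_zero.1 (Nat.cast_eq_zero.1 htr)
  have h1 : s * t = 0 := by
    have := LinearMap.mem_range_self f 1
    rw [hr, Submodule.mem_bot] at this
    simpa [f] using this
  rw [mul_comm t s, h1, sub_zero, mul_one] at hreg
  exact hreg

/-- The trace form of a reduced finite free algebra over a domain of characteristic zero is nondegenerate. -/
theorem eq_zero_of_trace_free {A B : Type u} [CommRing A] [CommRing B] [IsDomain A] [Algebra A B]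
    [Module.Free A B] [Module.Finite A B] [IsReduced B] [CharZero A] (t : B)
    (h : ∀ b : B, Algebra.trace A B (b * t) = 0) : t = 0 := by
  let K := FractionRing A
  let S := Algebra.algebraMapSubmonoid B A⁰
  let L := Localization S
  haveI : IsLocalization (Submonoid.map (algebraMap A B) A⁰) L := inferInstanceAs (IsLocalization S L)
  letI : Algebra K L := localizationAlgebra A⁰ B
  haveI : IsScalarTower A K L := IsScalarTower.of_algebraMap_eq fun a => by
    show algebraMap A L a = (IsLocalization.map L (algebraMap A B) (Submonoid.le_comap_map A⁰)) (algebraMap A K a)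
    rw [IsLocalization.map_eq, ← IsScalarTower.algebraMap_apply]
  haveI : FiniteDimensional K L := Module.Finite.of_isLocalization A B A⁰
  haveI : CharZero K := charZero_of_injective_algebraMap (IsFractionRing.injective A K)
  haveI : IsReduced L := isReduced_localizationPreserves S L inferInstance
  have h0 : algebraMap B L t = 0 := by
    refine eq_zero_of_trace_field (K := K) _ fun l => ?_
    obtain ⟨⟨b, ⟨_, a, ha, rfl⟩⟩, hl⟩ := IsLocalization.surj S l
    have hu : algebraMap A K a ≠ 0 := fun h0 =>
      nonZeroDivisors.ne_zero ha (IsFractionRing.injective A K (h0.trans (map_zero _).symm))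
    have hl' : l = (algebraMap A K a)⁻¹ • algebraMap B L b := by
      rw [← hl, ← IsScalarTower.algebraMap_apply A B L, IsScalarTower.algebraMap_apply A K L, mul_comm,
        ← Algebra.smul_def, smul_smul, inv_mul_cancel₀ hu, one_smul]
    rw [hl', smul_mul_assoc, map_smul, ← map_mul, Algebra.trace_localization A A⁰, h b, map_zero, smul_zero]
  obtain ⟨⟨_, a, ha, rfl⟩, hc⟩ := (IsLocalization.map_eq_zero_iff S L t).1 h0
  replace hc : a • t = 0 := by rw [Algebra.smul_def]; exact hc
  exact (smul_eq_zero.1 hc).resolve_left (nonZeroDivisors.ne_zero ha)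


open CategoryTheory CategoryTheory.Limits AlgebraicGeometry in
/-- Let k be a characteristic-zero algebraically closed field, C a smooth proper integral curve over k,
and g : Y ⟶ C a finite flat morphism with g_*O_Y locally free of rank d whose generic fibre (the
fibre over the generic point of C) is reduced. Then the degree of the rank-d locally free module
g_*O_Y on C, computed as χ(C, g_*O_Y) − d·χ(C, O_C), is at most 0. (The published inequality is
stated for the degree of the determinant line bundle, deg det(g_*O_Y)^{-1} ≥ 0; the degree of a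
locally free module on such a curve equals the degree of its determinant.) -/
theorem result (k : Type u) [Field k] [IsAlgClosed k] [CharZero k]
    (C : Scheme.{u}) [C.Over (Spec (CommRingCat.of k))] [IsIntegral C]
    (hC : Curve.IsSmoothProperCurve k C (C ↘ Spec (CommRingCat.of k)))
    (Y : Scheme.{u}) (g : Y ⟶ C) [IsFinite g] [Flat g] (d : ℕ)
    (hd : FlatMod.IsFinLocFreeOfRank d ((Coh.push g).obj (Coh.structureModule Y)))
    (hred : AlgebraicGeometry.IsReduced (g.fiber (genericPoint C))) :
    Curv2.deg k C ((Coh.push g).obj (Coh.structureModule Y)) d ≤ 0 := by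
  haveI := hC.1
  haveI := hC.2.1
  have hdim := hC.2.2.2
  have hY : VB17.RegCurve k C := VB17.regCurve_of hdim fun M hM n => CohFound.finite_HH_of_isProper M hM n
  haveI := hY.like.noetherian
  haveI : LocallyOfFinitePresentation g := {
    finitePresentation_appLE := fun {U} hU {V} hV le =>
      haveI := IsLocallyNoetherian.component_noetherian (X := C) ⟨U, hU⟩
      RingHom.FinitePresentation.of_finiteType.mp (g.finiteType_appLE hU hV le) }
  have hA : FlatMod.IsFinLocFree (RelSpec.QCAlg.directImage g).toModule := CurveCoh17.isFinLocFree_pushO g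
  let τ : CurveCoh17.pushO g ⟶ Coh.structureModule C := Trace12.traceHom (RelSpec.QCAlg.directImage g) hA
  let β : CohB1.tensorMod (CurveCoh17.pushO g) (CurveCoh17.pushO g) ⟶ Coh.structureModule C :=
    M2.mkHom (CurveCoh17.mulBiMap g) ≫ τ
  set η := genericPoint C with hη
  have hnd : ∀ b, (∀ a, CurveCoh17.bil β η a b = 0) → b = 0 := by
    intro b hb
    obtain ⟨V, hV, t₀, rfl⟩ := (CurveCoh17.pushO g).presheaf.exists_germ_eq b
    obtain ⟨U, hU, hηU, hUV, hbas⟩ :=
      Trace12.exists_affine_hasBas (RelSpec.QCAlg.directImage g) hA (show η ∈ V from hV)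
    rw [← germ_mres (CurveCoh17.pushO g) hUV hηU t₀] at hb ⊢
    set t : Γ(CurveCoh17.pushO g, U) := mres (CurveCoh17.pushO g) hUV t₀
    suffices h : (t : Γ(Y, g ⁻¹ᵁ U)) = 0 by
      rw [show t = (0 : Γ(CurveCoh17.pushO g, U)) from h]
      exact map_zero _
    haveI : Nonempty U := ⟨⟨η, hηU⟩⟩
    letI : Algebra Γ(C, U) Γ(Y, g ⁻¹ᵁ U) := (g.app U).hom.toAlgebra
    obtain ⟨hfree, hfin⟩ := Trace12.free_of_hasBas (RelSpec.QCAlg.directImage g) hbas
    haveI : Module.Free Γ(C, U) Γ(Y, g ⁻¹ᵁ U) := hfree
    haveI : Module.Finite Γ(C, U) Γ(Y, g ⁻¹ᵁ U) := hfin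
    haveI : _root_.IsReduced Γ(Y, g ⁻¹ᵁ U) := by
      haveI := hred
      exact FlatIntegral.isReduced_sections g (hU.preimage g) hU le_rfl
    haveI : CharZero Γ(C, U) := charZero_of_injective_ringHom
      (f := ((C.presheaf.map (homOfLE (le_top : U ≤ ⊤)).op).hom.comp
        (Coh.toGlobal (C ↘ Spec (CommRingCat.of k))))) (RingHom.injective _)
    refine eq_zero_of_trace_free (A := Γ(C, U)) (B := Γ(Y, g ⁻¹ᵁ U)) (show Γ(Y, g ⁻¹ᵁ U) from t) fun s => ?_
    have h1 := hb ((CurveCoh17.pushO g).presheaf.germ U η hηU (s : Γ(CurveCoh17.pushO g, U)))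
    erw [CurveCoh17.bil_apply, (LinearEquiv.symm_apply_eq _).2 (stalkEquiv_tsec _ _ η hηU _ _).symm,
      CurveCoh17.stalkLin_apply, germ_naturality] at h1
    have h2 : β.app U (tsec (CurveCoh17.pushO g) (CurveCoh17.pushO g) (s : Γ(CurveCoh17.pushO g, U)) t) =
        Algebra.trace Γ(C, U) Γ(Y, g ⁻¹ᵁ U) (s * (show Γ(Y, g ⁻¹ᵁ U) from t)) := by
      show (M2.mkHom (CurveCoh17.mulBiMap g) ≫ τ).app U _ = _
      erw [Scheme.Modules.Hom.comp_app, CategoryTheory.comp_apply, mkHom_tsec]
      exact Trace12.traceHom_app_of_hasBas (RelSpec.QCAlg.directImage g) hA hbas _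
    rw [h2] at h1
    have h3 : C.presheaf.germ U η hηU (Algebra.trace Γ(C, U) Γ(Y, g ⁻¹ᵁ U) (s * (show Γ(Y, g ⁻¹ᵁ U) from t))) = 0 := by
      obtain ⟨W, hW', i₁, i₂, he⟩ := (Coh.structureModule C).presheaf.germ_eq η (U := U) (V := U) hηU hηU
        (show Γ(Coh.structureModule C, U) from Algebra.trace Γ(C, U) Γ(Y, g ⁻¹ᵁ U) (s * (show Γ(Y, g ⁻¹ᵁ U) from t)))
        0 (h1.trans (map_zero _).symm)
      rw [map_zero] at he
      rw [← C.presheaf.germ_res_apply i₁ η hW']
      exact (congrArg (C.presheaf.germ W η hW') he).trans (map_zero _)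
    exact germ_injective_of_isIntegral C η hηU (h3.trans (map_zero _).symm)
  have h := CurveCoh17.deg_add_nonpos hY hdim d (A := CurveCoh17.pushO g) (B := CurveCoh17.pushO g) hd hd β hnd
  show Curv2.deg k C (CurveCoh17.pushO g) d ≤ 0
  omega

end Groth.Agent.S18585
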