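import Groth.Statements.S18587
import Mathlib

set_option autoImplicit false
universe u
open CAlg

namespace Groth.Agent.S18587
open WittVector

variable {p : ℕ} [hp : Fact p.Prime] {R : Type*} [CommRing R]

theorem eq_zero_low (x : WittVector p R) {n : ℕ} (h : ∀ i < n, x.coeff i = 0) :
    ∃ x', verschiebung^[n] x' = x :=
  ⟨x.shift n, (eq_iterate_verschiebung h).symm⟩

theorem tm_add (x : WittVector p R) :
    x = teichmuller p (x.coeff 0) + verschiebung (x.shift 1) := by
  ext m
  rw [coeff_add_of_disjoint]
  · cases m with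
    | zero => simp [teichmuller_coeff_zero, verschiebung_coeff_zero]
    | succ m => simp [teichmuller_coeff_pos, verschiebung_coeff_succ, shift_coeff, add_comm]
  · intro k
    cases k with
    | zero => right; exact verschiebung_coeff_zero _
    | succ k => left; exact teichmuller_coeff_pos p _ _ k.succ_pos

theorem tm_frob [CharP R p] (g : R) : frobenius (teichmuller p g) = teichmuller p (g ^ p) := by
  ext m
  rw [coeff_frobenius_charP]
  cases m with
  | zero => simp only [teichmuller_coeff_zero]
  | succ m => simp only [teichmuller_coeff_pos p _ _ m.succ_pos, zero_pow hp.out.ne_zero]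

theorem tm_mul_coeff [CharP R p] (m : ℕ) : ∀ (g : R) (x : WittVector p R),
    (teichmuller p g * x).coeff m = g ^ p ^ m * x.coeff m := by
  induction m with
  | zero => intro g x; simp [mul_coeff_zero, teichmuller_coeff_zero]
  | succ m ih =>
    intro g x
    have h : teichmuller p g * x = teichmuller p (g * x.coeff 0)
        + verschiebung (x.shift 1 * frobenius (teichmuller p g)) := by
      rw [verschiebung_mul_frobenius, map_mul]
      conv_lhs => rw [tm_add x]
      ring
    rw [h, coeff_add_of_disjoint, verschiebung_coeff_succ, teichmuller_coeff_pos p _ _ m.succ_pos,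
      zero_add, tm_frob, mul_comm, ih, shift_coeff, add_comm 1 m, ← pow_mul, ← pow_succ']
    intro k
    cases k with
    | zero => right; exact verschiebung_coeff_zero _
    | succ k => left; exact teichmuller_coeff_pos p _ _ k.succ_pos

theorem init_succ (x : WittVector p R) (m : ℕ) :
    init (m + 1) x = init m x + verschiebung^[m] (teichmuller p (x.coeff m)) := by
  have key : ∀ k, (verschiebung^[m] (teichmuller p (x.coeff m))).coeff k
      = if k = m then x.coeff m else 0 := by
    intro k
    rcases lt_trichotomy k m with hk | rfl | hk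
    · rw [if_neg hk.ne, iterate_verschiebung_coeff_eq_zero _ hk]
    · rw [if_pos rfl]
      simpa [teichmuller_coeff_zero] using
        iterate_verschiebung_coeff (teichmuller p (x.coeff k)) k 0
    · obtain ⟨d, rfl⟩ := Nat.exists_eq_add_of_lt hk
      rw [if_neg hk.ne', show m + d + 1 = (d + 1) + m by ring, iterate_verschiebung_coeff,
        teichmuller_coeff_pos p _ _ d.succ_pos]
  ext k
  rw [coeff_add_of_disjoint, key]
  · simp only [init, select, coeff_mk]
    rcases lt_trichotomy k m with hk | rfl | hk
    · simp [hk, hk.ne, Nat.lt_succ_of_lt hk]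
    · simp
    · simp [hk.ne', not_lt.mpr hk.le, show ¬ k < m + 1 by omega]
  · intro j
    rw [key]
    simp only [init, select, coeff_mk]
    by_cases hj : j < m
    · right; rw [if_neg hj.ne]
    · left; rw [if_neg hj]

theorem V_sum {ι : Type*} (m : ℕ) (s : Finset ι) (f : ι → WittVector p R) :
    verschiebung^[m] (∑ i ∈ s, f i) = ∑ i ∈ s, verschiebung^[m] (f i) := by
  classical
  induction s using Finset.induction with
  | empty => simp [iterate_map_zero]
  | insert a s ha ih => rw [Finset.sum_insert ha, Finset.sum_insert ha, iterate_map_add, ih]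

variable {A B : Type u} [CommRing A] [CommRing B] [Algebra A B]

theorem decomp (n : ℕ) (y : Finset B) (hspan : Submodule.span A (y : Set B) = ⊤)
    (ζ : WittVector p B) (hζ : ∀ i < n, ζ.coeff i = 0) :
    ∃ c : ℕ → B → A, (∀ i < n, ∀ b, c i b = 0) ∧
      ζ = ∑ b ∈ y, WittVector.mk p (fun i => c i b • b) := by
  classical
  have hc : ∀ t : B, ∃ c : B → A, (t = 0 → ∀ b, c b = 0) ∧ ∑ b ∈ y, c b • b = t := by
    intro t
    by_cases ht : t = 0
    · exact ⟨0, fun _ _ => rfl, by simp [ht]⟩
    · obtain ⟨f, -, hf⟩ := Submodule.mem_span_finset.mp (hspan.ge (Submodule.mem_top (x := t)))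
      exact ⟨f, fun h => absurd h ht, hf⟩
  choose c hc0 hc using hc
  let R : ℕ → WittVector p B := fun m => Nat.rec ζ
    (fun i r => r - verschiebung^[i] (∑ b ∈ y, teichmuller p (c (r.coeff i) b • b))) m
  have low : ∀ m, ∀ i < max m n, (R m).coeff i = 0 := by
    intro m
    induction m with
    | zero => intro i hi; exact hζ i (by omega)
    | succ m ih =>
      intro i hi
      show (R m - verschiebung^[m] (∑ b ∈ y, teichmuller p (c ((R m).coeff m) b • b))).coeff i = 0
      by_cases hmn : m < n
      · have h0 : c ((R m).coeff m) = 0 := funext (hc0 _ (ih m (by omega)))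
        simp only [h0, Pi.zero_apply, zero_smul, teichmuller_zero, Finset.sum_const_zero,
          iterate_map_zero, sub_zero]
        exact ih i (by omega)
      · obtain ⟨r', hr'⟩ := eq_zero_low (R m) (n := m) (fun j hj => ih j (by omega))
        rw [← hr', ← iterate_map_sub]
        rcases Nat.lt_or_ge i m with him | him
        · exact iterate_verschiebung_coeff_eq_zero _ him
        · obtain rfl : i = m := by omega
          have : ∀ z : WittVector p B, (verschiebung^[i] z).coeff i = constantCoeff z := by
            intro z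
            have := iterate_verschiebung_coeff z i 0
            rwa [zero_add] at this
          rw [this, map_sub, map_sum]
          simp only [constantCoeff_apply, teichmuller_coeff_zero]
          rw [hc, hr', ← hr', this, constantCoeff_apply, sub_self]
  let C : ℕ → B → A := fun i => c ((R i).coeff i)
  refine ⟨C, fun i hi => hc0 _ (low i i (by omega)), ?_⟩
  have key : ∀ m, ζ = R m + ∑ b ∈ y, init m (WittVector.mk p (fun i => C i b • b)) := by
    intro m
    induction m with
    | zero =>
      have : ∀ z : WittVector p B, init 0 z = 0 := by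
        intro z; ext k; simp [init, select]
      simp [this, R]
    | succ m ih =>
      simp only [init_succ, Finset.sum_add_distrib, coeff_mk]
      have : ∑ b ∈ y, verschiebung^[m] (teichmuller p (C m b • b))
          = verschiebung^[m] (∑ b ∈ y, teichmuller p (C m b • b)) := (V_sum m y _).symm
      rw [this]
      show ζ = (R m - verschiebung^[m] (∑ b ∈ y, teichmuller p (C m b • b))) + _
      conv_lhs => rw [ih]
      ring
  rw [← sub_eq_zero]
  ext i
  have h := key (i + 1)
  conv_lhs => rw [h]
  have e : ∀ b ∈ y, WittVector.mk p (fun i => C i b • b)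
      = init (i + 1) (WittVector.mk p (fun i => C i b • b))
        + verschiebung^[i + 1] ((tail (i + 1) (WittVector.mk p (fun i => C i b • b))).shift (i + 1)) := by
    intro b _
    rw [← eq_iterate_verschiebung (x := tail (i + 1) _), init_add_tail]
    intro j hj
    simp [tail, select, show ¬ i < j by omega]
  rw [Finset.sum_congr rfl e, Finset.sum_add_distrib, ← V_sum]
  obtain ⟨r', hr'⟩ := eq_zero_low (R (i+1)) (n := i+1) (fun j hj => low _ j (lt_max_of_lt_left hj))
  rw [← hr', add_comm ((verschiebung^[i+1]) r'), add_sub_add_left_eq_sub, ← iterate_map_sub,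
    iterate_verschiebung_coeff_eq_zero _ (by omega), zero_coeff]

theorem exists_exp (ℓ : ℕ) (hℓ : 0 < ℓ) (hpℓ : ¬ p ∣ ℓ) (i : ℕ) :
    ∃ j t, j < ℓ ∧ ℓ * p ^ i + 1 = j * p ^ i + ℓ * t := by
  haveI : NeZero ℓ := ⟨hℓ.ne'⟩
  have hu : IsUnit ((p ^ i : ℕ) : ZMod ℓ) := by
    rw [ZMod.isUnit_iff_coprime]
    exact Nat.Coprime.pow_left i ((Nat.Prime.coprime_iff_not_dvd hp.out).mpr hpℓ)
  obtain ⟨u, hu⟩ := hu
  have hle : (((u⁻¹ : (ZMod ℓ)ˣ) : ZMod ℓ).val) * p ^ i ≤ ℓ * p ^ i + 1 :=
    le_trans (Nat.mul_le_mul_right _ (ZMod.val_lt _).le) (Nat.le_succ _)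
  refine ⟨((u⁻¹ : (ZMod ℓ)ˣ) : ZMod ℓ).val,
    (ℓ * p ^ i + 1 - ((u⁻¹ : (ZMod ℓ)ˣ) : ZMod ℓ).val * p ^ i) / ℓ, ZMod.val_lt _, ?_⟩
  rw [Nat.mul_div_cancel', Nat.add_sub_cancel' hle]
  rw [← ZMod.natCast_eq_zero_iff, Nat.cast_sub hle, Nat.cast_add, Nat.cast_mul, Nat.cast_mul,
    ZMod.natCast_self, zero_mul, zero_add, Nat.cast_one, ZMod.natCast_zmod_val, ← hu,
    Units.inv_mul, sub_self]

/-- Affine form with D = 0: let p be a prime, ℓ ≥ 1 an integer not divisible by p and n ≥ 1. Let A → B
be an injective ring homomorphism of integral domains of characteristic p such that B is spanned as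
an A-module by finitely many elements y with y ^ ℓ in the image of A (a weakly ℓ-cyclic extension).
Then for every p-typical Witt vector ζ over B in the image of the n-fold Verschiebung there is a
nonzero a in A such that the product of the Teichmüller representative of (the image of) a with ζ
lies in the ideal of W(B) generated by the images of the n-fold Verschiebungs of Witt vectors over
A. (This is the case D = 0 of the published statement, written for the coordinate rings; the
published statement allows a twist by a real Weil divisor D and assumes the rings excellent and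
normal, hypotheses which the case D = 0 does not use.) -/
theorem result
    (p : ℕ) [Fact p.Prime] (ℓ n : ℕ) (hℓ : 0 < ℓ) (hpℓ : ¬ p ∣ ℓ) (hn : 0 < n)
    (A B : Type u) [CommRing A] [CommRing B] [IsDomain A] [IsDomain B] [Algebra A B]
    [CharP A p] [CharP B p] (hinj : Function.Injective (algebraMap A B))
    (y : Finset B) (hspan : Submodule.span A (y : Set B) = ⊤)
    (hpow : ∀ b ∈ y, b ^ ℓ ∈ Set.range (algebraMap A B))
    (ζ : WittVector p B)
    (hζ : ∃ η : WittVector p B, (⇑(WittVector.verschiebung : WittVector p B →+ WittVector p B))^[n] η = ζ) :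
    ∃ a : A, a ≠ 0 ∧ WittVector.teichmuller p (algebraMap A B a) * ζ ∈
      Ideal.span (Set.range (fun x : WittVector p A =>
        WittVector.map (algebraMap A B) ((⇑(WittVector.verschiebung : WittVector p A →+ WittVector p A))^[n] x))) := by
  classical
  obtain ⟨η, rfl⟩ := hζ
  obtain ⟨c, hc0, hc⟩ := decomp n y hspan _ (fun i hi => iterate_verschiebung_coeff_eq_zero η hi)
  choose! d hd using hpow
  refine ⟨∏ b ∈ y.filter (· ≠ 0), d b, ?_, ?_⟩
  · refine Finset.prod_ne_zero_iff.mpr fun b hb h0 => ?_
    rw [Finset.mem_filter] at hb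
    have := hd b hb.1
    rw [h0, map_zero] at this
    exact hb.2 (eq_zero_of_pow_eq_zero this.symm)
  rw [hc, Finset.mul_sum]
  refine Submodule.sum_mem _ fun b hb => ?_
  by_cases hb0 : b = 0
  · subst hb0
    have : WittVector.mk p (fun i => c i 0 • (0 : B)) = 0 := by ext k; simp
    rw [this, mul_zero]; exact Submodule.zero_mem _
  choose j t hj ht using exists_exp (p := p) ℓ hℓ hpℓ
  have hbf : b ∈ y.filter (· ≠ 0) := Finset.mem_filter.mpr ⟨hb, hb0⟩
  rw [← Finset.mul_prod_erase _ _ hbf, map_mul]
  set a' := ∏ x ∈ (y.filter (· ≠ 0)).erase b, d x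
  let C : ℕ → WittVector p A := fun k =>
    WittVector.mk p (fun i => if j i = k then a' ^ p ^ i * c i b * d b ^ t i else 0)
  have hC : teichmuller p (algebraMap A B (d b) * algebraMap A B a') *
      WittVector.mk p (fun i => c i b • b)
      = ∑ k ∈ Finset.range ℓ, teichmuller p (b ^ k) * WittVector.map (algebraMap A B) (C k) := by
    ext i
    rw [sum_coeff_eq_coeff_sum, tm_mul_coeff, coeff_mk,
      Finset.sum_eq_single_of_mem (j i) (Finset.mem_range.mpr (hj i))]
    · rw [tm_mul_coeff, map_coeff, coeff_mk, if_pos rfl, map_mul, map_mul, map_pow, map_pow, hd b hb,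
        Algebra.smul_def, mul_pow]
      have e : b ^ (ℓ * p ^ i + 1) = b ^ (j i * p ^ i + ℓ * t i) := by rw [ht i]
      rw [pow_add, pow_add, pow_one, pow_mul, pow_mul, pow_mul] at e
      linear_combination (algebraMap A B a' ^ p ^ i * algebraMap A B (c i b)) * e
    · intro k _ hk
      rw [tm_mul_coeff, map_coeff, coeff_mk, if_neg hk.symm, map_zero, mul_zero]
    · intro m
      refine ⟨fun r s => Subtype.ext ?_⟩
      have key : ∀ r ∈ {r | r ∈ Finset.range ℓ ∧
          (teichmuller p (b ^ r) * WittVector.map (algebraMap A B) (C r)).coeff m ≠ 0}, r = j m := by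
        intro r hr
        by_contra h
        apply hr.2
        rw [tm_mul_coeff, map_coeff, coeff_mk, if_neg (Ne.symm h), map_zero, mul_zero]
      rw [key _ r.2, key _ s.2]
  rw [hC]
  refine Submodule.sum_mem _ fun k _ => Ideal.mul_mem_left _ _ (Ideal.subset_span ?_)
  refine ⟨(C k).shift n, ?_⟩
  show WittVector.map (algebraMap A B) _ = _
  rw [← eq_iterate_verschiebung]
  intro i hi
  simp [C, hc0 i hi b]

end Groth.Agent.S18587
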