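import Groth.Statements.S18590
import Mathlib
import Groth.Agent.Lib.H2Alg.EtalePow
import Groth.Agent.S18589

set_option autoImplicit false
universe u
open CAlg

namespace Groth.Agent.S18590
open TensorProduct

theorem aeval_mem {A K : Type u} [CommRing A] [CommRing K] [Algebra A K] (M : ℕ → Submodule A K)
    (hmul : ∀ (i j : ℕ) (a b : K), a ∈ M i → b ∈ M j → a * b ∈ M (i + j)) {σ : Type*} (w : σ → ℕ) (v : σ → K)
    (hv0 : ∀ s, w s = 0 → ∃ a : A, v s = algebraMap A K a) (hv : ∀ s, w s ≠ 0 → v s ∈ M (w s))
    {d : ℕ} (hd : d ≠ 0) (P : MvPolynomial σ ℤ) (hP : P.IsWeightedHomogeneous w d) :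
    MvPolynomial.aeval v P ∈ M d := by
  classical
  rw [P.as_sum, map_sum]
  refine sum_mem fun e he => ?_
  rw [MvPolynomial.aeval_monomial, ← Algebra.smul_def]
  refine zsmul_mem ?_ _
  have hdeg : Finsupp.weight w e = d := hP (MvPolynomial.mem_support_iff.1 he)
  rw [← hdeg] at hd ⊢
  clear hdeg he
  suffices h : ∀ e : σ →₀ ℕ, ((Finsupp.weight w e = 0 ∧ ∃ a : A, (e.prod fun s k => v s ^ k) = algebraMap A K a) ∨
      (Finsupp.weight w e ≠ 0 ∧ (e.prod fun s k => v s ^ k) ∈ M (Finsupp.weight w e))) by
    exact ((h e).resolve_left fun h => hd h.1).2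
  intro e
  induction e using Finsupp.induction with
  | zero => exact Or.inl ⟨map_zero _, 1, by simp⟩
  | single_add s k e hs hk ih =>
    rw [map_add, Finsupp.prod_add_index_of_disjoint (by
      rw [Finsupp.support_single_ne_zero _ hk]; simpa using hs), Finsupp.prod_single_index (h := fun s k => v s ^ k) (pow_zero (v s)), Finsupp.weight_single, smul_eq_mul]
    have hsk : (k * w s = 0 ∧ ∃ a : A, v s ^ k = algebraMap A K a) ∨ (k * w s ≠ 0 ∧ v s ^ k ∈ M (k * w s)) := by
      by_cases hw : w s = 0
      · obtain ⟨a, ha⟩ := hv0 s hw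
        exact Or.inl ⟨by simp [hw], a ^ k, by rw [ha, map_pow]⟩
      · refine Or.inr ⟨mul_ne_zero hk hw, ?_⟩
        clear hs ih
        induction k with
        | zero => exact absurd rfl hk
        | succ k ihk =>
          rcases Nat.eq_zero_or_pos k with rfl | hk'
          · simpa using hv s hw
          · rw [pow_succ, Nat.succ_mul]
            exact hmul _ _ _ _ (ihk hk'.ne') (hv s hw)
    rcases hsk with ⟨h1, a, ha⟩ | ⟨h1, ha⟩ <;> rcases ih with ⟨h2, b, hb⟩ | ⟨h2, hb⟩
    · exact Or.inl ⟨by omega, a * b, by rw [ha, hb, map_mul]⟩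
    · refine Or.inr ⟨by omega, ?_⟩
      rw [ha, h1, zero_add, ← Algebra.smul_def]
      exact Submodule.smul_mem _ _ hb
    · refine Or.inr ⟨by omega, ?_⟩
      rw [hb, h2, add_zero, mul_comm (v s ^ k), ← Algebra.smul_def]
      exact Submodule.smul_mem _ _ ha
    · exact Or.inr ⟨by omega, hmul _ _ _ _ ha hb⟩

theorem wittMul_homogeneous (p : ℕ) [Fact p.Prime] (n : ℕ) :
    MvPolynomial.IsWeightedHomogeneous (fun i : Fin 2 × ℕ => if i.1 = 0 then 0 else p ^ i.2) (WittVector.wittMul p n) (p ^ n) := by
  classical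
  induction n using Nat.strong_induction_on with
  | _ n ih =>
    set w : Fin 2 × ℕ → ℕ := fun i => if i.1 = 0 then 0 else p ^ i.2
    let S := WittVector.wittMul p
    have key := wittStructureInt_prop (p := p) (MvPolynomial.X 0 * MvPolynomial.X 1 : MvPolynomial (Fin 2) ℤ) n
    simp only [wittPolynomial_eq_sum_C_mul_X_pow, map_sum, map_mul, map_pow, MvPolynomial.bind₁_C_right,
      MvPolynomial.bind₁_X_right, MvPolynomial.rename_C, MvPolynomial.rename_X] at key
    rw [Finset.sum_range_succ, Nat.sub_self, pow_zero, pow_one] at key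
    have hr : ∀ (i : Fin 2), MvPolynomial.IsWeightedHomogeneous w
        (∑ j ∈ Finset.range (n + 1), MvPolynomial.C (p : ℤ) ^ j * MvPolynomial.X (i, j) ^ p ^ (n - j)) (if i = 0 then 0 else p ^ n) := fun i => by
      refine MvPolynomial.IsWeightedHomogeneous.sum _ _ _ fun j hj => ?_
      rw [← MvPolynomial.C_pow]
      refine MvPolynomial.IsWeightedHomogeneous.C_mul ?_ _
      have := (MvPolynomial.isWeightedHomogeneous_X ℤ w (i, j)).pow (p ^ (n - j))
      rcases eq_or_ne i 0 with hi | hi
      · simpa [w, hi] using this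
      · simp only [w, if_neg hi, smul_eq_mul, ← pow_add, Nat.sub_add_cancel (Nat.lt_succ_iff.1 (Finset.mem_range.1 hj))] at this ⊢
        exact this
    have hl : MvPolynomial.IsWeightedHomogeneous w
        (∑ j ∈ Finset.range n, MvPolynomial.C (p : ℤ) ^ j * (S j) ^ p ^ (n - j)) (p ^ n) := by
      refine MvPolynomial.IsWeightedHomogeneous.sum _ _ _ fun j hj => ?_
      rw [← MvPolynomial.C_pow]
      refine MvPolynomial.IsWeightedHomogeneous.C_mul ?_ _
      have := (ih j (Finset.mem_range.1 hj)).pow (p ^ (n - j))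
      rwa [smul_eq_mul, ← pow_add, Nat.sub_add_cancel (Finset.mem_range.1 hj).le] at this
    have hmul : MvPolynomial.IsWeightedHomogeneous w (MvPolynomial.C ((p : ℤ) ^ n) * S n) (p ^ n) := by
      have h01 := (hr 0).mul (hr 1)
      simp only [if_true, Fin.one_eq_zero_iff, OfNat.ofNat_ne_one, if_false, zero_add] at h01
      have := MvPolynomial.IsWeightedHomogeneous.sub h01 hl
      rw [MvPolynomial.C_pow]
      have e : MvPolynomial.C (p : ℤ) ^ n * S n =
          (∑ j ∈ Finset.range (n + 1), MvPolynomial.C (p : ℤ) ^ j * MvPolynomial.X ((0 : Fin 2), j) ^ p ^ (n - j)) *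
          (∑ j ∈ Finset.range (n + 1), MvPolynomial.C (p : ℤ) ^ j * MvPolynomial.X ((1 : Fin 2), j) ^ p ^ (n - j)) -
          ∑ j ∈ Finset.range n, MvPolynomial.C (p : ℤ) ^ j * (S j) ^ p ^ (n - j) := by
        rw [eq_sub_iff_add_eq']
        exact key
      rw [e]
      exact this
    intro d hd
    refine hmul ?_
    rw [MvPolynomial.coeff_C_mul]
    exact mul_ne_zero (pow_ne_zero _ (by exact_mod_cast (Fact.out : p.Prime).ne_zero)) hd

/-- Let p be a prime, A a commutative ring, K a commutative A-algebra of characteristic p and M_0, M_1,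
M_2, … A-submodules of K with M_i · M_j ⊆ M_(i+j) for all i, j. Then the subset of the ring W(K) of
p-typical Witt vectors consisting of the vectors whose n-th coordinate lies in M_(p^n) for every n
is closed under addition and under multiplication by the image of W(A) under W of the structure map;
in other words it is a W(A)-submodule of W(K). (The published statement is the case of an integral
normal noetherian scheme X of characteristic p with function field K, an affine open subset U with
coordinate ring A, and M_k the module of sections over U of the divisorial sheaf of k·D for a real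
Weil divisor D on X; these form such a multiplicative family, and the subset is then the module of
sections over U of the Witt divisorial sheaf of D inside W(K). Only the two stated properties of
that family enter.) -/
theorem result
    (p : ℕ) [Fact p.Prime] (A K : Type u) [CommRing A] [CommRing K] [Algebra A K] [CharP K p]
    (M : ℕ → Submodule A K)
    (hmul : ∀ (i j : ℕ) (a b : K), a ∈ M i → b ∈ M j → a * b ∈ M (i + j)) :
    (∀ φ ψ : WittVector p K, (∀ n : ℕ, φ.coeff n ∈ M (p ^ n)) → (∀ n : ℕ, ψ.coeff n ∈ M (p ^ n)) →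
        ∀ n : ℕ, (φ + ψ).coeff n ∈ M (p ^ n)) ∧
      (∀ (x : WittVector p A) (φ : WittVector p K), (∀ n : ℕ, φ.coeff n ∈ M (p ^ n)) →
        ∀ n : ℕ, (WittVector.map (algebraMap A K) x * φ).coeff n ∈ M (p ^ n)) := by
  have hp0 : ∀ n, p ^ n ≠ 0 := fun n => pow_ne_zero _ (Fact.out : p.Prime).ne_zero
  refine ⟨fun φ ψ hφ hψ n => ?_, fun x φ hφ n => ?_⟩
  · rw [WittVector.add_coeff]
    refine aeval_mem M hmul _ _ (fun s hs => absurd hs (hp0 _)) ?_ (hp0 n) _ (Groth.Agent.S18589.result p n)
    rintro ⟨i, j⟩ -
    fin_cases i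
    · exact hφ j
    · exact hψ j
  · rw [WittVector.mul_coeff]
    refine aeval_mem M hmul _ _ ?_ ?_ (hp0 n) _ (wittMul_homogeneous p n)
    · rintro ⟨i, j⟩ hij
      fin_cases i
      · exact ⟨x.coeff j, rfl⟩
      · exact absurd hij (by simp [(Fact.out : p.Prime).ne_zero])
    · rintro ⟨i, j⟩ hij
      fin_cases i
      · exact absurd rfl hij
      · simpa using hφ j

end Groth.Agent.S18590
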