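import Groth.Statements.S18595
import Groth.Agent.Lib.Horiz26.Main
-- import your own Groth.Agent.* helpers here

set_option autoImplicit false
universe u
open Cyc

namespace Groth.Agent.S18595

open AlgebraicGeometry CategoryTheory CategoryTheory.Limits in
/-- Let k be a perfect field, X an integral smooth proper curve over k (proper standing for projective)
and P = X ×_k A¹_k, presented by a pullback square with projections p₁ : P ⟶ X and p₂ : P ⟶ Spec
k[T]. Fix a dimension function δ on P (in the sense of Cyc.IsSetup) and the integer c with δ(z) + 1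
= c at every closed point z of P, so that the c-cycles on P are its Weil divisors. Then every
c-cycle α on P is rationally equivalent, as a c-cycle, to a c-cycle β without vertical components:
every point z with β(z) ≠ 0 lies over the generic point of X, i.e. each prime component of β is
quasi-finite and dominant over X (equidimensional of relative dimension zero over X). (The published
statement is for any smooth projective curve; its connected components are treated one at a time and
a smooth proper curve over a field is projective, so X is taken integral and proper here.) -/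
theorem result
    (k : Type u) [Field k] [PerfectField k] {X P : Scheme.{u}} (f : X ⟶ Spec (CommRingCat.of k))
    [IsIntegral X] [IsProper f] [Smooth f] (hdim : topologicalKrullDim X = 1)
    (p₁ : P ⟶ X) (p₂ : P ⟶ Spec (CommRingCat.of (Polynomial k)))
    (hP : IsPullback p₁ p₂ f (Spec.map (CommRingCat.ofHom (Polynomial.C : k →+* Polynomial k))))
    (δ : P → ℤ) (hδ : Cyc.IsSetup P δ) (c : ℤ)
    (hc : ∀ z : P, IsClosed ({z} : Set P) → δ z + 1 = c)
    (α : AlgebraicCycle P ℤ) (hα : α ∈ Cyc.Zk P δ c) :
    ∃ β ∈ Cyc.Zk P δ c, Cyc.RatEquiv δ c α β ∧ ∀ z : P, β z ≠ 0 → p₁ z = genericPoint X := by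
  haveI := Groth.Agent.Horiz26.isIntegral_proj hP
  haveI : IsLocallyNoetherian P := hδ.1
  haveI : X.IsSeparated := ⟨by
    rw [show terminal.from X = f ≫ terminal.from _ from (terminal.hom_ext _ _)]
    infer_instance⟩
  haveI : CompactSpace X := QuasiCompact.compactSpace_of_compactSpace f
  haveI := Groth.Agent.Horiz26.isAffineHom hP
  haveI : CompactSpace P := QuasiCompact.compactSpace_of_compactSpace p₁
  classical
  have hfin : (Function.support (fun z => α z)).Finite := by
    simpa using LocallyFiniteSupport.finite_inter_support_of_isCompact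
      (f := (α : P → ℤ)) α.locallyFiniteSupport isCompact_univ
  have hvert : ∀ z : P, δ z = c → p₁ z ≠ genericPoint X → Groth.Agent.Horiz26.IsVert p₁ z := fun z h1 h2 =>
    ⟨Groth.Agent.Curve17.isClosed_singleton hdim.le h2, fun h => by have := hc z h; omega⟩
  let S : Finset P := hfin.toFinset.filter fun z => p₁ z ≠ genericPoint X
  have hS : ∀ z ∈ S, δ z = c ∧ Groth.Agent.Horiz26.IsVert p₁ z := fun z hz => by
    obtain ⟨h1, h2⟩ := Finset.mem_filter.1 hz
    have hδc : δ z = c := by
      by_contra hne
      exact hfin.mem_toFinset.1 h1 (hα z hne)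
    exact ⟨hδc, hvert z hδc h2⟩
  have hφ : ∀ z : P, ∃ φ : P.residueField (genericPoint P), z ∈ S → φ ≠ 0 ∧ δ (genericPoint P) = δ z + 1 ∧
      Cyc.divFun δ (genericPoint P) φ z = 1 ∧
      ∀ z' : P, Groth.Agent.Horiz26.IsVert p₁ z' → z' ≠ z → Cyc.divFun δ (genericPoint P) φ z' = 0 := fun z => by
    by_cases hz : z ∈ S
    · obtain ⟨φ, h⟩ := Groth.Agent.Horiz26.exists_ratio hP hdim hδ.2.2 (hS z hz).2
      exact ⟨φ, fun _ => h⟩
    · exact ⟨1, fun h => absurd h hz⟩
  choose φ hφ using hφ
  have hrat : ∀ T : Finset P, T ⊆ S → Groth.Agent.Cyc26.RatFun δ c Set.univ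
      (fun x => ∑ z ∈ T, α z * Cyc.divFun δ (genericPoint P) (φ z) x) := by
    intro T
    induction T using Finset.induction with
    | empty => exact fun _ => Groth.Agent.Cyc26.RatFun.zero fun x => by simp
    | @insert a T ha ih =>
      intro hT
      obtain ⟨hne, hd, -⟩ := hφ a (hT (Finset.mem_insert_self a T))
      have h1 : Groth.Agent.Cyc26.RatFun δ c Set.univ (fun x => Cyc.divFun δ (genericPoint P) (φ a) x) :=
        ⟨PUnit, fun _ => genericPoint P, fun _ => φ a,
          fun _ => by rw [hd, (hS a (hT (Finset.mem_insert_self a T))).1],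
          fun _ => hne, fun _ => trivial, fun _ => ⟨Set.univ, isOpen_univ, trivial, Set.toFinite _⟩,
          fun x => (finsum_unique (fun _ : PUnit => Cyc.divFun δ (genericPoint P) (φ a) x)).symm⟩
      exact ((h1.smul (α a)).add (ih ((Finset.subset_insert a T).trans hT))).congr fun x => by
        simp [Finset.sum_insert ha]
  have hR := hrat S subset_rfl
  obtain ⟨ι, ξ, g, g1, g2, -, g3, g4⟩ := hR
  obtain ⟨γ, hγ⟩ := Groth.Agent.Cyc26.exists_cycle_sum_divFun hδ.2.2 ξ g g3
  have hγS : ∀ x, γ x = ∑ z ∈ S, α z * Cyc.divFun δ (genericPoint P) (φ z) x := fun x => (hγ x).trans (g4 x).symm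
  have hγc : ∀ x, δ x ≠ c → γ x = 0 := fun x hx => by
    rw [hγS]
    refine Finset.sum_eq_zero fun z hz => ?_
    by_contra hne
    have := (Groth.Agent.Cyc26.specializes_of_divFun_ne_zero (right_ne_zero_of_mul hne)).2
    have := (hφ z hz).2.1
    have := (hS z hz).1
    omega
  refine ⟨α - γ, fun x hx => ?_, ⟨ι, ξ, g, g1, g2, g3, fun x => ?_⟩, fun x hx => ?_⟩
  · simp [hα x hx, hγc x hx]
  · simp [hγ x]
  · by_contra hne
    refine hx ?_
    have hδx : δ x = c := by
      by_contra h
      exact hx (by simp [hα x h, hγc x h])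
    have hv := hvert x hδx hne
    rw [Function.locallyFinsuppWithin.coe_sub, Pi.sub_apply, hγS, sub_eq_zero]
    symm
    rw [Finset.sum_eq_single x]
    · by_cases h0 : x ∈ S
      · rw [(hφ x h0).2.2.1, mul_one]
      · have : α x = 0 := by
          by_contra h
          exact h0 (Finset.mem_filter.2 ⟨hfin.mem_toFinset.2 h, hne⟩)
        simp [this]
    · intro z hz hzx
      rw [(hφ z hz).2.2.2 x hv (Ne.symm hzx), mul_zero]
    · intro h0
      have : α x = 0 := by
        by_contra h
        exact h0 (Finset.mem_filter.2 ⟨hfin.mem_toFinset.2 h, hne⟩)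
      simp [this]

end Groth.Agent.S18595
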