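import Groth.Statements.S18598
import Mathlib

set_option autoImplicit false
universe u
open SSRed

namespace Groth.Agent.S18598

theorem key {O : Type u} [CommRing O] [IsDomain O] [CharZero O] (n : ℕ) (hn : 1 < n)
    (hO : ∀ p : ℕ, p.Prime → p ∣ n → ¬ IsUnit (p : O)) (β : O) (q a : ℕ) (hq : q.Prime)
    (hβ : IsPrimitiveRoot β (q ^ (a + 1))) (h : (n : O) ∣ (β - 1) ^ 2) :
    ∃ t, 0 < t ∧ n = q ^ t ∧ t * (q ^ a * (q - 1)) ≤ 2 := by
  have : Fact q.Prime := ⟨hq⟩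
  have hc : (q : O) = ∏ μ ∈ primitiveRoots (q ^ (a + 1)) O, (1 - μ) := by
    have := congrArg (Polynomial.eval 1) (Polynomial.cyclotomic_eq_prod_X_sub_primitiveRoots hβ)
    rw [Polynomial.eval_one_cyclotomic_prime_pow, Polynomial.eval_prod] at this
    simpa using this
  have hass : Associated ((β - 1) ^ Nat.totient (q ^ (a + 1))) (q : O) := by
    rw [hc, ← hβ.card_primitiveRoots, ← Finset.prod_const]
    refine Associated.prod _ _ _ fun μ hμ => ?_
    have hμ' := (mem_primitiveRoots (pow_pos hq.pos _)).1 hμ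
    obtain ⟨i, hi, hco, rfl⟩ := hβ.isPrimitiveRoot_iff.1 hμ'
    refine (hβ.associated_sub_one_pow_sub_one_of_coprime hco).trans ?_
    rw [← neg_sub (1 : O)]
    exact (Associated.refl _).neg_left
  set φ := Nat.totient (q ^ (a + 1)) with hφ
  have hdvd : (n : O) ^ φ ∣ (q : O) ^ 2 := by
    refine (pow_dvd_pow_of_dvd h φ).trans ?_
    rw [← pow_mul, mul_comm, pow_mul]
    exact (hass.pow_pow).dvd
  have hφ0 : 0 < φ := Nat.totient_pos.2 (pow_pos hq.pos _)
  have hprime : ∀ {d}, d.Prime → d ∣ n → d = q := by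
    intro d hd hdn
    by_contra hne
    refine hO d hd hdn ?_
    have h1 : (d : O) ∣ (q : O) ^ 2 := ((Nat.cast_dvd_cast hdn).trans (dvd_pow_self _ hφ0.ne')).trans hdvd
    obtain ⟨x, y, hxy⟩ := Nat.isCoprime_iff_coprime.2 (((Nat.coprime_primes hd hq).2 hne).pow_right 2)
    have hxy' : (x : O) * (d : O) + (y : O) * (q : O) ^ 2 = 1 := by exact_mod_cast congrArg (Int.cast : ℤ → O) hxy
    exact isUnit_of_dvd_one (hxy' ▸ dvd_add (dvd_mul_left _ _) (dvd_mul_of_dvd_right h1 _))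
  obtain ⟨t, ht⟩ : ∃ t, n = q ^ t := ⟨_, Nat.eq_prime_pow_of_unique_prime_dvd (by omega) hprime⟩
  have ht0 : 0 < t := Nat.pos_of_ne_zero fun h0 => by simp [ht, h0] at hn
  refine ⟨t, ht0, ht, ?_⟩
  rw [hφ, Nat.totient_prime_pow_succ hq, ht, Nat.cast_pow, ← pow_mul] at hdvd
  refine (pow_dvd_pow_iff (Nat.cast_ne_zero.2 hq.ne_zero) (hO q hq ?_)).1 hdvd
  rw [ht]
  exact dvd_pow_self q ht0.ne'

theorem all {O : Type u} [CommRing O] [IsDomain O] [CharZero O] (n : ℕ) (hn : 1 < n)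
    (hO : ∀ p : ℕ, p.Prime → p ∣ n → ¬ IsUnit (p : O)) (α : O) (hα : IsOfFinOrder α) (h : (n : O) ∣ (α - 1) ^ 2) :
    α = 1 ∨ ∃ q t s : ℕ, q.Prime ∧ 0 < t ∧ n = q ^ t ∧ orderOf α = q ^ (s + 1) ∧ t * (q ^ s * (q - 1)) ≤ 2 := by
  rcases eq_or_ne α 1 with h1 | h1
  · exact .inl h1
  right
  have hm : 1 < orderOf α := by
    have := hα.orderOf_pos
    have : orderOf α ≠ 1 := fun e => h1 (orderOf_eq_one_iff.1 e)
    omega
  have hdiv : ∀ j : ℕ, (n : O) ∣ (α ^ j - 1) ^ 2 := fun j =>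
    h.trans (pow_dvd_pow_of_dvd (sub_one_dvd_pow_sub_one α j) 2)
  have hprim : ∀ d, d ∣ orderOf α → IsPrimitiveRoot (α ^ (orderOf α / d)) d := fun d hd =>
    (IsPrimitiveRoot.orderOf α).pow hα.orderOf_pos (Nat.div_mul_cancel hd).symm
  set q := (orderOf α).minFac with hqdef
  have hq : q.Prime := Nat.minFac_prime (by omega)
  obtain ⟨t, ht0, ht, -⟩ := key n hn hO (α ^ (orderOf α / q)) q 0 hq (by rw [zero_add, pow_one]; exact hprim q (Nat.minFac_dvd _)) (hdiv _)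
  have huniq : ∀ {d : ℕ}, d.Prime → d ∣ orderOf α → d = q := by
    intro d hd hdo
    obtain ⟨t', ht0', ht', -⟩ := key n hn hO (α ^ (orderOf α / d)) d 0 hd (by rw [zero_add, pow_one]; exact hprim d hdo) (hdiv _)
    rw [ht] at ht'
    exact (Nat.prime_dvd_prime_iff_eq hd hq).1 (hd.dvd_of_dvd_pow (ht' ▸ dvd_pow_self d ht0'.ne'))
  obtain ⟨s, hs⟩ : ∃ s, orderOf α = q ^ s := ⟨_, Nat.eq_prime_pow_of_unique_prime_dvd (by omega) huniq⟩
  obtain ⟨s, rfl⟩ : ∃ s', s = s' + 1 := ⟨s - 1, by rcases s with _ | s; (rw [pow_zero] at hs; omega); omega⟩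
  obtain ⟨t', ht0', ht', hle⟩ := key n hn hO α q s hq (hs ▸ IsPrimitiveRoot.orderOf α) h
  exact ⟨q, t', s, hq, ht0', ht', hs, hle⟩

/-- Let O be a commutative integral domain of characteristic zero, n a positive integer such that no
prime number dividing n is a unit in O, and α an element of O of finite multiplicative order such
that (α − 1)² is divisible by n in O. Then α = 1 if n ≥ 5, α² = 1 if n = 4, α³ = 1 if n = 3, and α⁴
= 1 if n = 2. -/
theorem result (O : Type u) [CommRing O] [IsDomain O] [CharZero O]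
    (n : ℕ) (hn : 0 < n) (hO : ∀ p : ℕ, p.Prime → p ∣ n → ¬ IsUnit (p : O))
    (α : O) (hα : IsOfFinOrder α) (h : (n : O) ∣ (α - 1) ^ 2) :
    (5 ≤ n → α = 1) ∧ (n = 4 → α ^ 2 = 1) ∧ (n = 3 → α ^ 3 = 1) ∧ (n = 2 → α ^ 4 = 1) := by
  have hsplit : 1 < n → α = 1 ∨ ((orderOf α ∣ 2 ∧ n = 4) ∨ (orderOf α ∣ 3 ∧ n = 3) ∨ (orderOf α ∣ 4 ∧ n = 2)) := by
    intro hn1
    rcases all n hn1 hO α hα h with h1 | ⟨q, t, s, hq, ht0, ht, hs, hle⟩
    · exact .inl h1
    right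
    have hq2 := hq.two_le
    have h1 : 1 * (q - 1) ≤ q ^ s * (q - 1) := Nat.mul_le_mul_right _ (Nat.one_le_pow _ _ hq.pos)
    have h2 : 1 * (q ^ s * (q - 1)) ≤ t * (q ^ s * (q - 1)) := Nat.mul_le_mul_right _ ht0
    have hq3 : q ≤ 3 := by omega
    interval_cases q
    · have h3 : t * 2 ^ s ≤ 2 := by simpa using hle
      have hs1 : s ≤ 1 := by
        by_contra hc
        have : 2 ^ 2 ≤ 2 ^ s := Nat.pow_le_pow_right (by norm_num) (by omega)
        nlinarith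
      have ht1 : t ≤ 2 := le_trans (Nat.le_mul_of_pos_right t (pow_pos (by norm_num) s)) h3
      interval_cases t <;> interval_cases s <;> simp_all
    · have hs1 : s = 0 := by
        by_contra hc
        have : 3 ^ 1 ≤ 3 ^ s := Nat.pow_le_pow_right (by norm_num) (by omega)
        nlinarith
      subst hs1
      have ht1 : t = 1 := by
        simp only [pow_zero, one_mul] at hle
        omega
      subst ht1
      simp_all
  have hpow : ∀ m, orderOf α ∣ m → α ^ m = 1 := fun m => orderOf_dvd_iff_pow_eq_one.1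
  refine ⟨fun h5 => ?_, fun h4 => ?_, fun h3 => ?_, fun h2 => ?_⟩
  · rcases hsplit (by omega) with h1 | ⟨-, h'⟩ | ⟨-, h'⟩ | ⟨-, h'⟩ <;> first | assumption | omega
  · rcases hsplit (by omega) with h1 | ⟨h1, h'⟩ | ⟨-, h'⟩ | ⟨-, h'⟩ <;> first | omega | (rw [h1, one_pow]) | exact hpow 2 h1
  · rcases hsplit (by omega) with h1 | ⟨-, h'⟩ | ⟨h1, h'⟩ | ⟨-, h'⟩ <;> first | omega | (rw [h1, one_pow]) | exact hpow 3 h1
  · rcases hsplit (by omega) with h1 | ⟨-, h'⟩ | ⟨-, h'⟩ | ⟨h1, h'⟩ <;> first | omega | (rw [h1, one_pow]) | exact hpow 4 h1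

end Groth.Agent.S18598
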