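import Groth.Statements.S18599
import Mathlib

set_option autoImplicit false
universe u
open SSRed

namespace Groth.Agent.S18599

section
variable {ℓ : ℕ} [hℓ : Fact ℓ.Prime] {M : Type u} [AddCommGroup M] [Module ℤ_[ℓ] M]

theorem smul_inj [Module.Free ℤ_[ℓ] M] {n : ℕ} (hn : n ≠ 0) {a b : Module.End ℤ_[ℓ] M} (h : (n : ℤ_[ℓ]) • a = (n : ℤ_[ℓ]) • b) : a = b := by
  refine LinearMap.ext fun x => smul_right_injective M (Nat.cast_ne_zero.2 hn : (n : ℤ_[ℓ]) ≠ 0) ?_
  exact LinearMap.congr_fun h x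

theorem index_smul [Module.Free ℤ_[ℓ] M] [Module.Finite ℤ_[ℓ] M] :
    (LinearMap.range ((ℓ : ℤ_[ℓ]) • (LinearMap.id : M →ₗ[ℤ_[ℓ]] M))).toAddSubgroup.index = ℓ ^ Module.finrank ℤ_[ℓ] M := by
  classical
  let b := Module.Free.chooseBasis ℤ_[ℓ] M
  let φ : M →+ (Module.Free.ChooseBasisIndex ℤ_[ℓ] M → ZMod ℓ) :=
    AddMonoidHom.mk' (fun x i => PadicInt.toZMod (b.equivFun x i)) fun x y => by ext i; simp
  have hsurj : Function.Surjective φ := fun z => by
    choose s hs using fun i => ZMod.ringHom_surjective (PadicInt.toZMod (p := ℓ)) (z i)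
    exact ⟨b.equivFun.symm s, funext fun i => by
      show PadicInt.toZMod (b.equivFun (b.equivFun.symm s) i) = z i
      rw [LinearEquiv.apply_symm_apply, hs]⟩
  have hker : φ.ker = (LinearMap.range ((ℓ : ℤ_[ℓ]) • (LinearMap.id : M →ₗ[ℤ_[ℓ]] M))).toAddSubgroup := by
    ext x
    constructor
    · intro hx
      have h : ∀ i, ∃ c, b.equivFun x i = (ℓ : ℤ_[ℓ]) * c := fun i => by
        have h1 : b.equivFun x i ∈ RingHom.ker (PadicInt.toZMod (p := ℓ)) := congrFun hx i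
        rw [PadicInt.ker_toZMod, PadicInt.maximalIdeal_eq_span_p, Ideal.mem_span_singleton] at h1
        exact h1
      choose s hs using h
      refine ⟨b.equivFun.symm s, b.equivFun.injective (funext fun i => ?_)⟩
      rw [LinearMap.smul_apply, LinearMap.id_apply, map_smul, LinearEquiv.apply_symm_apply, Pi.smul_apply, smul_eq_mul, hs i]
    · rintro ⟨y, rfl⟩
      refine funext fun i => ?_
      show PadicInt.toZMod _ = 0
      simp
  rw [← hker, AddSubgroup.index_ker, AddMonoidHom.range_eq_top.2 hsurj, AddSubgroup.card_top, Nat.card_fun,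
    Nat.card_zmod, Module.finrank_eq_card_chooseBasisIndex, Nat.card_eq_fintype_card]

theorem index_pow (g : M →ₗ[ℤ_[ℓ]] M) (hg : Function.Injective g) (j : ℕ) :
    (LinearMap.range (g ^ j)).toAddSubgroup.index = (LinearMap.range g).toAddSubgroup.index ^ j := by
  induction j with
  | zero => simp [Module.End.one_eq_id]
  | succ j ih =>
    have e : (LinearMap.range (g ^ (j + 1))).toAddSubgroup =
        (LinearMap.range g).toAddSubgroup.map (g ^ j).toAddMonoidHom := by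
      ext x
      constructor
      · rintro ⟨y, rfl⟩
        exact ⟨g y, ⟨y, rfl⟩, by rw [pow_succ]; rfl⟩
      · rintro ⟨_, ⟨y, rfl⟩, rfl⟩
        exact ⟨y, by rw [pow_succ]; rfl⟩
    have htop : (LinearMap.range (g ^ j)).toAddSubgroup = (⊤ : AddSubgroup M).map (g ^ j).toAddMonoidHom := by
      ext x; simp [eq_comm]
    have hinj : Function.Injective (g ^ j).toAddMonoidHom := by
      show Function.Injective ⇑(g ^ j)
      rw [Module.End.coe_pow]; exact hg.iterate j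
    have hle : (LinearMap.range (g ^ (j + 1))).toAddSubgroup ≤ (LinearMap.range (g ^ j)).toAddSubgroup := by
      rw [e, htop]; exact AddSubgroup.map_mono le_top
    rw [← AddSubgroup.relIndex_mul_index hle, ih, e, htop, AddSubgroup.relIndex_map_map_of_injective _ _ hinj,
      AddSubgroup.relIndex_top_right, pow_succ']

theorem main [Module.Free ℤ_[ℓ] M] [Module.Finite ℤ_[ℓ] M] (f e u v : Module.End ℤ_[ℓ] M) (j : ℕ) (hj : j + 1 = ℓ - 1)
    (he : e * e = e) (hef : e * f = f) (hfe : f * e = f) (hk : ∀ x, f x = 0 → e x = 0)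
    (hu : (ℓ : ℤ_[ℓ]) • e = f ^ (j + 1) * u) (heu : e * u = u)
    (hv : f ^ (j + 1) = (ℓ : ℤ_[ℓ]) • v) (hev : e * v = v)
    (c : ℕ) (hc : c = Module.finrank ℤ_[ℓ] M - Module.finrank ℤ_[ℓ] (LinearMap.ker f)) :
    (∀ x ∈ Submodule.torsion ℤ_[ℓ] (M ⧸ LinearMap.range f), (ℓ : ℤ_[ℓ]) • x = 0) ∧
      ∃ r : ℕ, r * (ℓ - 1) = c ∧
        Nat.card (Submodule.torsion ℤ_[ℓ] (M ⧸ LinearMap.range f)) = ℓ ^ r := by
  classical
  have hl : (ℓ : ℤ_[ℓ]) ≠ 0 := Nat.cast_ne_zero.2 hℓ.out.ne_zero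
  have he' : ∀ x, e (e x) = e x := fun x => LinearMap.congr_fun he x
  have hef' : ∀ x, e (f x) = f x := fun x => LinearMap.congr_fun hef x
  have hfe' : ∀ x, f (e x) = f x := fun x => LinearMap.congr_fun hfe x
  let W := LinearMap.range e
  have hW : ∀ w ∈ W, e w = w := by rintro _ ⟨x, rfl⟩; exact he' x
  let g : W →ₗ[ℤ_[ℓ]] W := f.restrict fun w _ => ⟨f w, hef' w⟩
  have hg : Function.Injective g := by
    rw [injective_iff_map_eq_zero]
    intro w hw
    exact Subtype.ext ((hW w w.2).symm.trans (hk _ (congrArg Subtype.val hw)))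
  have hgp : ∀ (n : ℕ) (w : W), ((g ^ n) w : M) = (f ^ n) (w : M) := fun n => by
    induction n with
    | zero => exact fun w => rfl
    | succ n ih =>
      intro w
      rw [pow_succ, pow_succ, Module.End.mul_apply, Module.End.mul_apply, ih]
      rfl
  -- torsion
  have hker : ∀ x, (ℓ : ℤ_[ℓ]) • e x ∈ LinearMap.range f := fun x =>
    ⟨(f ^ j) (u x), by
      rw [← LinearMap.smul_apply, hu, pow_succ']; rfl⟩
  have htor : ∀ q ∈ Submodule.torsion ℤ_[ℓ] (M ⧸ LinearMap.range f), ∃ w : W, Submodule.Quotient.mk (w : M) = q := by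
    intro q hq
    obtain ⟨x, rfl⟩ := Submodule.Quotient.mk_surjective _ q
    obtain ⟨⟨n, hn⟩, hnx⟩ := (Submodule.mem_torsion_iff _).1 hq
    rw [Submonoid.smul_def, ← Submodule.Quotient.mk_smul, Submodule.Quotient.mk_eq_zero] at hnx
    obtain ⟨y, hy⟩ := hnx
    refine ⟨⟨e x, x, rfl⟩, ?_⟩
    exact congrArg Submodule.Quotient.mk
      (smul_right_injective M (nonZeroDivisors.ne_zero hn) (show n • e x = n • x by rw [← map_smul, ← hy, hef']))
  refine ⟨fun q hq => ?_, ?_⟩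
  · obtain ⟨⟨w, x, rfl⟩, rfl⟩ := htor q hq
    rw [← Submodule.Quotient.mk_smul, Submodule.Quotient.mk_eq_zero]
    exact hker x
  let π : W →ₗ[ℤ_[ℓ]] M ⧸ LinearMap.range f := (LinearMap.range f).mkQ.comp W.subtype
  have hπr : LinearMap.range π = Submodule.torsion ℤ_[ℓ] (M ⧸ LinearMap.range f) := by
    refine le_antisymm ?_ fun q hq => htor q hq
    rintro _ ⟨⟨w, x, rfl⟩, rfl⟩
    refine (Submodule.mem_torsion_iff _).2 ⟨⟨(ℓ : ℤ_[ℓ]), mem_nonZeroDivisors_of_ne_zero hl⟩, ?_⟩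
    exact (Submodule.Quotient.mk_eq_zero (LinearMap.range f)).2 (hker x)
  have hπk : LinearMap.ker π = LinearMap.range g := by
    ext w
    constructor
    · intro hw
      obtain ⟨y, hy⟩ := (Submodule.Quotient.mk_eq_zero _).1 hw
      exact ⟨⟨e y, y, rfl⟩, Subtype.ext (show f (e y) = w by rw [hfe', hy]; rfl)⟩
    · rintro ⟨y, rfl⟩
      exact (Submodule.Quotient.mk_eq_zero _).2 ⟨y, rfl⟩
  have hcard : Nat.card (Submodule.torsion ℤ_[ℓ] (M ⧸ LinearMap.range f)) = (LinearMap.range g).toAddSubgroup.index := by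
    rw [← hπr, ← hπk, ← Nat.card_congr π.quotKerEquivRange.toEquiv]
    rfl
  have hpow : LinearMap.range (g ^ (j + 1)) = LinearMap.range ((ℓ : ℤ_[ℓ]) • (LinearMap.id : W →ₗ[ℤ_[ℓ]] W)) := by
    refine le_antisymm ?_ ?_
    · rintro _ ⟨w, rfl⟩
      refine ⟨⟨v w, v w, LinearMap.congr_fun hev w⟩, Subtype.ext ?_⟩
      rw [hgp, hv]; rfl
    · rintro _ ⟨w, rfl⟩
      refine ⟨⟨u w, u w, LinearMap.congr_fun heu w⟩, Subtype.ext ?_⟩
      rw [hgp, ← Module.End.mul_apply, ← hu]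
      show (ℓ : ℤ_[ℓ]) • e (w : M) = (ℓ : ℤ_[ℓ]) • (w : M)
      rw [hW w w.2]
  have h1 := index_pow g hg (j + 1)
  rw [hpow, index_smul] at h1
  have hfr : Module.finrank ℤ_[ℓ] W = c := by
    have hk' : LinearMap.ker f = LinearMap.ker e := by
      ext x
      exact ⟨hk x, fun h => by rw [LinearMap.mem_ker, ← hfe', show e x = 0 from h, map_zero]⟩
    have h2 : IsCompl (LinearMap.range e) (LinearMap.ker e) :=
      LinearMap.IsProj.isCompl (LinearMap.isProj_range_iff_isIdempotentElem e |>.2 he)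
    have h3 := (Submodule.prodEquivOfIsCompl _ _ h2).finrank_eq
    rw [Module.finrank_prod] at h3
    rw [hc, hk', ← h3]
    exact (Nat.add_sub_cancel ..).symm
  rw [hfr] at h1
  obtain ⟨r, -, hr⟩ := (Nat.dvd_prime_pow hℓ.out).1 ⟨_, h1.trans (pow_succ' _ _)⟩
  refine ⟨r, ?_, hcard.trans hr⟩
  rw [hr, ← pow_mul] at h1
  rw [← hj]
  exact (Nat.pow_right_injective hℓ.out.two_le h1).symm

end

/-- Let ℓ be a prime number, M a free ℤ_ℓ-module of finite rank, A an automorphism of M with A^ℓ = 1,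
and c the rank of M minus the rank of the submodule of A-invariants. Assume that ℓ = 2 and A − 1 ∈
2·End(M), or that ℓ = 2 and (A − 1)² ∈ 4·End(M), or that ℓ = 3 and (A − 1)² ∈ 3·End(M). Then the
torsion submodule of M/(A − 1)M is a vector space over ℤ/ℓℤ of dimension c/(ℓ − 1): it is killed by
ℓ and has ℓ^r elements for some r with r(ℓ − 1) = c. -/
theorem result (ℓ : ℕ) [Fact ℓ.Prime]
    (M : Type u) [AddCommGroup M] [Module ℤ_[ℓ] M] [Module.Free ℤ_[ℓ] M] [Module.Finite ℤ_[ℓ] M]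
    (A : M ≃ₗ[ℤ_[ℓ]] M) (hA : A ^ ℓ = 1) (f : Module.End ℤ_[ℓ] M) (hf : f = (A : M →ₗ[ℤ_[ℓ]] M) - 1)
    (hcase : (ℓ = 2 ∧ ∃ B : Module.End ℤ_[ℓ] M, f = (2 : ℤ_[ℓ]) • B) ∨
      (ℓ = 2 ∧ ∃ B : Module.End ℤ_[ℓ] M, f ^ 2 = (4 : ℤ_[ℓ]) • B) ∨
      (ℓ = 3 ∧ ∃ B : Module.End ℤ_[ℓ] M, f ^ 2 = (3 : ℤ_[ℓ]) • B))
    (c : ℕ) (hc : c = Module.finrank ℤ_[ℓ] M - Module.finrank ℤ_[ℓ] (LinearMap.ker f)) :
    (∀ x ∈ Submodule.torsion ℤ_[ℓ] (M ⧸ LinearMap.range f), (ℓ : ℤ_[ℓ]) • x = 0) ∧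
      ∃ r : ℕ, r * (ℓ - 1) = c ∧
        Nat.card (Submodule.torsion ℤ_[ℓ] (M ⧸ LinearMap.range f)) = ℓ ^ r := by
  classical
  have hA' : (f + 1) ^ ℓ = 1 := by
    rw [hf, sub_add_cancel]
    refine LinearMap.ext fun x => ?_
    rw [Module.End.coe_pow]
    have h : ∀ n : ℕ, (⇑A)^[n] x = (A ^ n) x := fun n => by
      induction n with
      | zero => rfl
      | succ n ih => rw [Function.iterate_succ_apply', ih, pow_succ']; rfl
    exact (h ℓ).trans (by rw [hA]; rfl)
  have hk : ∀ {n : ℕ}, n ≠ 0 → ∀ {B : Module.End ℤ_[ℓ] M}, f = (n : ℤ_[ℓ]) • B → ∀ x, f x = 0 → B x = 0 := by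
    intro n hn B hB x hx
    rw [hB, LinearMap.smul_apply] at hx
    exact (smul_eq_zero.1 hx).resolve_left (Nat.cast_ne_zero.2 hn)
  rcases hcase with ⟨rfl, hB⟩ | ⟨rfl, hB⟩ | ⟨rfl, B, hB⟩
  rotate_left 2
  · have h3 : f * (f * f) + (3 : ℤ_[3]) • (f * f) + (3 : ℤ_[3]) • f = 0 := by
      rw [← sub_eq_zero.2 hA']
      simp only [pow_succ, pow_zero, one_mul, add_mul, mul_add, mul_one, mul_assoc]
      module
    rw [sq] at hB
    have hB' : f * f = ((3 : ℕ) : ℤ_[3]) • B := by exact_mod_cast hB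
    have r1 : f * B = -((3 : ℤ_[3]) • B) - f := smul_inj (n := 3) (by norm_num) (by
      rw [← mul_smul_comm, ← hB', eq_neg_of_add_eq_zero_right (a := f * (f * f)) (b := (3 : ℤ_[3]) • (f * f) + (3 : ℤ_[3]) • f) (by rw [← h3]; abel) |> neg_eq_iff_eq_neg.2 |>.symm]
      rw [hB]; push_cast; module)
    have r1' : B * f = -((3 : ℤ_[3]) • B) - f := by
      rw [← r1]
      exact smul_inj (n := 3) (by norm_num) (by rw [← smul_mul_assoc, ← mul_smul_comm, ← hB', mul_assoc])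
    have r2 : B * B = (2 : ℤ_[3]) • B + f := smul_inj (n := 3) (by norm_num) (by
      rw [← smul_mul_assoc, ← hB', mul_assoc, r1, mul_sub, mul_neg, mul_smul_comm, r1, hB]
      push_cast; module)
    refine main f (-B - f) (-((1 + f) * (1 + f)) * (-B - f)) B 1 rfl ?_ ?_ ?_ ?_ ?_ ?_ (by rw [pow_two, hB']) ?_ c hc
    · simp only [sub_mul, mul_sub, neg_mul, mul_neg, r1, r1', r2, hB]; module
    · simp only [sub_mul, neg_mul, r1', hB]; module
    · simp only [mul_sub, mul_neg, r1, hB]; module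
    · intro x hx
      have h2 : (3 : ℤ_[3]) • B x = 0 := by rw [← LinearMap.smul_apply, ← hB, Module.End.mul_apply, hx, map_zero]
      simp [(smul_eq_zero.1 h2).resolve_left (by norm_num), hx]
    · rw [pow_two, hB']
      simp only [smul_mul_assoc, add_mul, mul_add, one_mul, mul_one, neg_mul, mul_neg, sub_mul, mul_sub, mul_assoc, r1, r1', r2, hB, smul_mul_assoc, mul_smul_comm, smul_add, smul_sub, smul_neg]
      push_cast; module
    · simp only [smul_mul_assoc, add_mul, mul_add, one_mul, mul_one, neg_mul, mul_neg, sub_mul, mul_sub, mul_assoc, r1, r1', r2, hB, smul_mul_assoc, mul_smul_comm, smul_add, smul_sub, smul_neg]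
      module
    · simp only [sub_mul, neg_mul, r1, r1', r2]; module
  all_goals
    have h2 : f * f = -((2 : ℤ_[2]) • f) := by
      rw [eq_neg_iff_add_eq_zero, ← sub_eq_zero.2 hA']
      simp only [pow_two, add_mul, mul_add, mul_one, one_mul]
      module
    obtain ⟨B, hB⟩ : ∃ B : Module.End ℤ_[2] M, f = (2 : ℤ_[2]) • B := by
      first
        | exact hB
        | (obtain ⟨B, hB⟩ := hB
           refine ⟨-B, smul_inj (n := 2) (by norm_num) ?_⟩
           rw [sq, h2, neg_eq_iff_eq_neg] at hB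
           push_cast
           rw [hB]; module)
    have hBB : B * B = -B := smul_inj (n := 4) (by norm_num) (by
      have h4 := h2
      rw [hB, smul_mul_assoc, mul_smul_comm] at h4
      push_cast
      linear_combination (norm := module) h4)
    refine main f (-B) B B 0 rfl (by rw [neg_mul_neg, hBB]) ?_ ?_ ?_ ?_ ?_ (by rw [pow_one, hB]; norm_cast) ?_ c hc
    · rw [hB, mul_smul_comm, neg_mul, hBB, neg_neg]
    · rw [hB, smul_mul_assoc, mul_neg, hBB, neg_neg]
    · intro x hx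
      rw [LinearMap.neg_apply, hk (n := 2) two_ne_zero (by exact_mod_cast hB) x hx, neg_zero]
    · rw [pow_one, hB, smul_mul_assoc, hBB]; norm_cast
    · rw [neg_mul, hBB, neg_neg]
    · rw [neg_mul, hBB, neg_neg]

end Groth.Agent.S18599
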