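import Groth.Statements.S18600
import Mathlib

set_option autoImplicit false
universe v
open SSRed

namespace Groth.Agent.S18600

open Polynomial

lemma charpoly_sq_expand {R : Type*} [CommRing R] {g : ℕ} (A : Matrix (Fin g) (Fin g) R) :
    expand R 2 ((A - 1) ^ 2).charpoly = C ((-1) ^ g) * (A.charpoly.comp (X + 1) * A.charpoly.comp (1 - X)) := by
  have h : ∀ (M : Matrix (Fin g) (Fin g) R) (t : R[X]),
      M.charpoly.comp t = (Matrix.scalar (Fin g) t - M.map C).det := fun M t => by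
    rw [← Matrix.eval_charpoly, Matrix.charpoly_map, eval_map]
    rfl
  rw [expand_eq_comp_X_pow, h, h, h]
  have e : (Matrix.scalar (Fin g) (X ^ 2 : R[X])) - ((A - 1) ^ 2).map C =
      (Matrix.scalar (Fin g) (X + 1 : R[X]) - A.map C) * (-(Matrix.scalar (Fin g) (1 - X : R[X]) - A.map C)) := by
    have e1 : ((A - 1) ^ 2).map C = (A.map C - 1) * (A.map C - 1) := by
      rw [← RingHom.mapMatrix_apply, map_pow, map_sub, map_one, pow_two, RingHom.mapMatrix_apply]
    rw [e1, map_add, map_sub, map_one, map_pow, pow_two]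
    have hc : Commute (Matrix.scalar (Fin g) (X : R[X])) (A.map C) := Matrix.scalar_commute _ (fun r => Commute.all _ _) _
    noncomm_ring [hc.eq]
  rw [e, Matrix.det_mul, Matrix.det_neg, Fintype.card_fin, map_pow C, map_neg C, map_one C]
  ring

lemma dvd_of_padic (n m : ℕ) (c : ℤ)
    (h : ∀ (ℓ : ℕ) [Fact ℓ.Prime], ℓ ∣ n → ((n : ℤ_[ℓ])) ^ m ∣ (c : ℤ_[ℓ])) : ((n : ℤ) ^ m) ∣ c := by
  rw [← Nat.cast_pow, Int.natCast_dvd, Nat.dvd_iff_prime_pow_dvd_dvd]
  intro p k hp hpk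
  haveI : Fact p.Prime := ⟨hp⟩
  rcases Nat.eq_zero_or_pos k with rfl | hk
  · simp
  have hpn : p ∣ n := hp.dvd_of_dvd_pow ((dvd_pow_self p hk.ne').trans hpk)
  have h1 : ((p : ℤ_[p]) ^ k) ∣ (c : ℤ_[p]) := by
    refine dvd_trans ?_ (h p hpn)
    rw [← Nat.cast_pow, ← Nat.cast_pow]
    exact Nat.cast_dvd_cast hpk
  rw [← Int.natCast_dvd, Nat.cast_pow]
  exact (PadicInt.pow_p_dvd_int_iff k c).1 h1


/-- Let n be a positive integer, g a natural number and f ∈ ℤ[x] a monic polynomial such that for every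
prime ℓ dividing n there is a g × g matrix A_ℓ over ℤ_ℓ whose characteristic polynomial is f and
such that (A_ℓ − 1)² lies in n·M_g(ℤ_ℓ). Then for every root α of f in a field of characteristic
zero and every square root s of n in that field, (α − 1)/s is integral over ℤ. (The published
statement is for matrices of size 2d and speaks of the eigenvalues of the A_ℓ, which are the roots
of their common characteristic polynomial f; the parity of the size plays no role.) -/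
theorem result (n : ℕ) (hn : 0 < n) (g : ℕ) (f : Polynomial ℤ)
    (hf : f.Monic)
    (hA : ∀ (ℓ : ℕ) [Fact ℓ.Prime], ℓ ∣ n → ∃ A : Matrix (Fin g) (Fin g) ℤ_[ℓ],
      A.charpoly = f.map (Int.castRingHom ℤ_[ℓ]) ∧
        ∃ B : Matrix (Fin g) (Fin g) ℤ_[ℓ], (A - 1) ^ 2 = (n : ℤ_[ℓ]) • B)
    (K : Type v) [Field K] [CharZero K] (α s : K) (hα : Polynomial.aeval α f = 0) (hs : s ^ 2 = (n : K)) :
    IsIntegral ℤ ((α - 1) / s) := by
  rcases Nat.lt_or_ge n 2 with hn2 | hn2
  · have hn1 : n = 1 := by omega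
    subst hn1
    have hαi : IsIntegral ℤ α := ⟨f, hf, by rwa [← aeval_def]⟩
    have hs1 : s = 1 ∨ s = -1 := sq_eq_one_iff.1 (by simpa using hs)
    rcases hs1 with rfl | rfl
    · simpa using hαi.sub isIntegral_one
    · simpa [div_neg] using (hαi.sub isIntegral_one).neg
  obtain ⟨ℓ₀, hℓ₀, hℓ₀n⟩ := Nat.exists_prime_and_dvd (show n ≠ 1 by omega)
  haveI : Fact ℓ₀.Prime := ⟨hℓ₀⟩
  let Q : ℤ[X] := C ((-1) ^ g) * (f.comp (X + 1) * f.comp (1 - X))
  let P : ℤ[X] := contract 2 Q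
  have hkey : ∀ (ℓ : ℕ) [Fact ℓ.Prime], ℓ ∣ n → ∃ B : Matrix (Fin g) (Fin g) ℤ_[ℓ],
      P.map (Int.castRingHom ℤ_[ℓ]) = ((n : ℤ_[ℓ]) • B).charpoly ∧
      Q.map (Int.castRingHom ℤ_[ℓ]) = expand ℤ_[ℓ] 2 ((n : ℤ_[ℓ]) • B).charpoly := by
    intro ℓ _ hℓ
    obtain ⟨A, hAf, B, hB⟩ := hA ℓ hℓ
    refine ⟨B, ?_⟩
    have hQ : Q.map (Int.castRingHom ℤ_[ℓ]) = expand ℤ_[ℓ] 2 ((n : ℤ_[ℓ]) • B).charpoly := by
      rw [← hB, charpoly_sq_expand, hAf]
      simp [Q, Polynomial.map_comp]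
    refine ⟨?_, hQ⟩
    show (contract 2 Q).map _ = _
    rw [map_contract (by norm_num), hQ, contract_expand _ (by norm_num)]
  have hscale : ∀ (ℓ : ℕ) [Fact ℓ.Prime] (B : Matrix (Fin g) (Fin g) ℤ_[ℓ]) (k : ℕ), k ≤ g →
      ((n : ℤ_[ℓ])) ^ (g - k) ∣ ((n : ℤ_[ℓ]) • B).charpoly.coeff k := by
    intro ℓ _ B k hk
    have h : ((n : ℤ_[ℓ]) • B).charpoly.comp (C (n : ℤ_[ℓ]) * X) = C ((n : ℤ_[ℓ]) ^ g) * B.charpoly := by
      rw [comp, eval₂_eq_eval_map, ← Matrix.charpoly_map, Matrix.eval_charpoly]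
      rw [Matrix.charpoly]
      have e : Matrix.scalar (Fin g) (C (n : ℤ_[ℓ]) * X) - ((n : ℤ_[ℓ]) • B).map C = C (n : ℤ_[ℓ]) • B.charmatrix := by
        ext i j
        by_cases hij : i = j
        · subst hij; simp [mul_sub]
        · simp [hij]
      rw [e, Matrix.det_smul, Fintype.card_fin, map_pow]
    have hk2 := congrArg (fun q => q.coeff k) h
    simp only [comp_C_mul_X_coeff, coeff_C_mul] at hk2
    refine ⟨B.charpoly.coeff k, mul_left_cancel₀ (pow_ne_zero k (Nat.cast_ne_zero.2 (by omega : n ≠ 0))) ?_⟩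
    rw [← mul_assoc, ← pow_add, show k + (g - k) = g by omega, mul_comm]
    exact hk2
  obtain ⟨B₀, hP₀, hQ₀⟩ := hkey ℓ₀ hℓ₀n
  have hinj : Function.Injective (Int.castRingHom ℤ_[ℓ₀]) := Int.cast_injective
  have hPdeg : P.natDegree = g := by
    rw [← natDegree_map_eq_of_injective hinj, hP₀, Matrix.charpoly_natDegree_eq_dim, Fintype.card_fin]
  have hPmon : P.Monic := monic_of_injective hinj (hP₀ ▸ Matrix.charpoly_monic _)
  have hQP : Q = expand ℤ 2 P := map_injective _ hinj (by rw [hQ₀, map_expand, hP₀])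
  have hdvd : ∀ k, ∃ a : ℤ, P.coeff k = (n : ℤ) ^ (g - k) * a := by
    intro k
    by_cases hk : k ≤ g
    · refine dvd_of_padic n (g - k) (P.coeff k) fun ℓ _ hℓ => ?_
      obtain ⟨B, hP, -⟩ := hkey ℓ hℓ
      have := hscale ℓ B k hk
      rwa [← hP, coeff_map] at this
    · exact ⟨0, by rw [coeff_eq_zero_of_natDegree_lt (by omega), mul_zero]⟩
  choose a ha using hdvd
  let R : ℤ[X] := ∑ k ∈ Finset.range g, C (a k) * X ^ k + X ^ g
  have hR : R.Monic := by
    refine Monic.add_of_right (monic_X_pow g) ?_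
    rw [degree_X_pow]
    refine (degree_sum_le _ _).trans_lt ((Finset.sup_lt_iff (WithBot.bot_lt_coe g)).2 fun k hk => ?_)
    exact (degree_C_mul_X_pow_le k (a k)).trans_lt (WithBot.coe_lt_coe.2 (Finset.mem_range.1 hk))
  have hn0 : (n : K) ≠ 0 := Nat.cast_ne_zero.2 (by omega)
  have hsq : IsIntegral ℤ (((α - 1) / s) ^ 2) := by
    refine ⟨R, hR, ?_⟩
    rw [← aeval_def, div_pow, hs]
    have h0 : aeval ((α - 1) ^ 2) P = 0 := by
      rw [← expand_aeval, ← hQP]
      simp [Q, aeval_comp, hα]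
    rw [aeval_eq_sum_range, hPdeg, Finset.sum_range_succ] at h0
    have hlead : P.coeff g = 1 := hPdeg ▸ hPmon
    rw [hlead, one_smul] at h0
    have : (n : K) ^ g * aeval ((α - 1) ^ 2 / (n : K)) R = 0 := by
      rw [← h0]
      simp only [R, map_add, map_sum, map_mul, map_pow, aeval_X, aeval_C, mul_add, Finset.mul_sum, div_pow]
      congr 1
      · refine Finset.sum_congr rfl fun k hk => ?_
        have hk' : k ≤ g := (Finset.mem_range.1 hk).le
        rw [ha k, zsmul_eq_mul, Int.cast_mul, Int.cast_pow, Int.cast_natCast, algebraMap_int_eq, eq_intCast]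
        rw [show (n : K) ^ g = (n : K) ^ (g - k) * (n : K) ^ k by rw [← pow_add, Nat.sub_add_cancel hk']]
        field_simp
      · field_simp
    exact (mul_eq_zero.1 this).resolve_left (pow_ne_zero _ hn0)
  exact IsIntegral.of_pow two_pos hsq

end Groth.Agent.S18600
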