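import Groth.Statements.S18609
import Groth.Agent.Lib.LMSimple8.SerreIdem

set_option autoImplicit false
universe u
open CategoryTheory CategoryTheory.Limits MonoidalCategory CartesianMonoidalCategory AlgebraicGeometry MonObj
open SGA7

namespace Groth.Agent.S18609

/-- Let k be a field, G a smooth connected commutative k-group scheme whose geometric fibre contains no
copy of the additive group (an extension of an abelian variety by a torus), and α an automorphism of
the group scheme G. For a point x of G with values in a k-scheme write (α − 1)x = α(x)·x⁻¹. Assume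
(a) α² = 1 and (α − 1)x = 1 whenever x² = 1, or (b) α² = 1 and (α − 1)((α − 1)x) = 1 whenever x⁴ =
1, or (c) α³ = 1 and (α − 1)((α − 1)x) = 1 whenever x³ = 1. Then there is an idempotent endomorphism
p of G with p + p = 1 + α in cases (a) and (b) and p + p + p = 1 + α + α² in case (c) (sums taken
pointwise), the kernels G₁ of 1 − p and G₂ of p are closed connected subgroup schemes, and
multiplication G₁ × G₂ → G is an isomorphism. (The published statement further identifies G₁ with
the identity component of ker(1 − α) and G₂ with that of ker(1 + α), resp. ker(1 + α + α²); over a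
field of characteristic 2, resp. 3, this fails scheme-theoretically — for α = −1 on an ordinary
elliptic curve in characteristic 2 one gets G₁ trivial while ker(1 − α) = ker 2 has a non-trivial
connected part — so it is not restated.) -/
theorem result (k : Type u) [Field k]
    (G : Over (Spec (CommRingCat.of k))) [GrpObj G] [IsCommMonObj G] [Smooth G.hom] [ConnectedSpace ↥G.left]
    (hG : SGA7.FibresUnipotentRankZero G) (u : Aut G) [IsMonHom u.hom]
    (h : (u * u = 1 ∧ ∀ (T : Over (Spec (CommRingCat.of k))) (x : T ⟶ G), x ^ 2 = 1 → x ≫ u.hom = x) ∨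
      (u * u = 1 ∧ ∀ (T : Over (Spec (CommRingCat.of k))) (x : T ⟶ G), x ^ 4 = 1 →
        (((x ≫ u.hom) * x⁻¹) ≫ u.hom) * ((x ≫ u.hom) * x⁻¹)⁻¹ = 1) ∨
      (u * u * u = 1 ∧ ∀ (T : Over (Spec (CommRingCat.of k))) (x : T ⟶ G), x ^ 3 = 1 →
        (((x ≫ u.hom) * x⁻¹) ≫ u.hom) * ((x ≫ u.hom) * x⁻¹)⁻¹ = 1)) :
    ∃ (p : G ⟶ G) (G₁ G₂ : Over (Spec (CommRingCat.of k))) (_ : GrpObj G₁) (_ : GrpObj G₂)
      (i₁ : G₁ ⟶ G) (i₂ : G₂ ⟶ G),
      IsMonHom p ∧ p ≫ p = p ∧
      (u * u = 1 → p * p = 𝟙 G * u.hom) ∧ (u * u * u = 1 → p * p * p = 𝟙 G * u.hom * (u * u).hom) ∧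
      IsMonHom i₁ ∧ IsMonHom i₂ ∧ IsClosedImmersion i₁.left ∧ IsClosedImmersion i₂.left ∧
      AlgGrp.IsKernel i₁ (𝟙 G * p⁻¹) ∧ AlgGrp.IsKernel i₂ p ∧
      ConnectedSpace ↥G₁.left ∧ ConnectedSpace ↥G₂.left ∧
      IsIso ((i₁ ⊗ₘ i₂) ≫ μ[G]) := by
  exact Groth.Agent.LMSimple8.SerreLemma.exists_idem_decomposition hG u h

end Groth.Agent.S18609
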