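import Groth.Statements.S18614
import Mathlib.Topology.Algebra.Module.ContinuousLinearMap.Basic
import Mathlib.LinearAlgebra.Basis.VectorSpace
import Mathlib.LinearAlgebra.Dual.Lemmas
import Mathlib.LinearAlgebra.Isomorphisms
import Mathlib.Topology.Algebra.OpenSubgroup
import Mathlib.Topology.Algebra.LinearTopology

set_option autoImplicit false
universe u v
open LinTop

namespace Groth.Agent.S18614

/-- Let k be a field carrying the discrete topology and M a separated topological k-module with a
k-linear topology (the open k-submodules form a basis of neighbourhoods of zero and M is a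
topological additive group). For a closed submodule M₁, the perpendicular of the perpendicular of
M₁, both taken with respect to the pairing of M with its continuous dual (the continuous k-linear
maps M → k), is M₁ itself: an element killed by every continuous functional vanishing on M₁ belongs
to M₁. -/
theorem result (k : Type u) (M : Type v) [Field k]
    [TopologicalSpace k] [DiscreteTopology k] [AddCommGroup M] [Module k M] [TopologicalSpace M]
    [IsTopologicalAddGroup M] [IsLinearTopology k M] [T2Space M]
    (M₁ : Submodule k M) (hM₁ : IsClosed (M₁ : Set M)) (x : M)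
    (hx : ∀ φ : M →L[k] k, (∀ m ∈ M₁, φ m = 0) → φ x = 0) : x ∈ M₁ := by
  classical
  by_contra hx'
  have hU0 : (fun m => x + m) ⁻¹' ((M₁ : Set M)ᶜ) ∈ nhds (0 : M) :=
    (hM₁.isOpen_compl.preimage (continuous_const.add continuous_id)).mem_nhds (by simpa using hx')
  obtain ⟨W, hW, hWU⟩ := (IsLinearTopology.hasBasis_open_submodule k).mem_iff.1 hU0
  have hxP : x ∉ M₁ ⊔ W := by
    intro h
    obtain ⟨a, ha, b, hb, rfl⟩ := Submodule.mem_sup.1 h
    exact hWU (W.neg_mem hb) (by simpa using ha)
  obtain ⟨f, hfx, hf⟩ := Submodule.exists_dual_map_eq_bot_of_notMem hxP inferInstance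
  have hker : ∀ m ∈ M₁ ⊔ W, f m = 0 := fun m hm => by
    have := Submodule.mem_map_of_mem (f := f) hm
    rw [hf] at this
    exact this
  have hcont : Continuous f := by
    refine continuous_of_continuousAt_zero f.toAddMonoidHom ?_
    intro V hV
    refine Filter.mem_map.2 (Filter.mem_of_superset (hW.mem_nhds W.zero_mem) fun m hm => ?_)
    have hfm : f m = 0 := hker m (Submodule.mem_sup_right hm)
    have := mem_of_mem_nhds hV
    simpa [hfm] using this
  exact hfx (hx ⟨f, hcont⟩ fun m hm => hker m (Submodule.mem_sup_left hm))

end Groth.Agent.S18614
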