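import Groth.Statements.S18615
import Mathlib.Topology.Algebra.Module.ContinuousLinearMap.Basic
import Mathlib.LinearAlgebra.Basis.VectorSpace
import Mathlib.LinearAlgebra.Dual.Lemmas
import Mathlib.LinearAlgebra.Isomorphisms
import Mathlib.Topology.Algebra.OpenSubgroup
import Mathlib.Topology.Algebra.LinearTopology

set_option autoImplicit false
universe u v
open LinTop

namespace Groth.Agent.S18615

/-- Let k be a field carrying the discrete topology and M a separated topological k-module with a
k-linear topology (open k-submodules form a basis of neighbourhoods of zero, M a topological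
additive group). For closed submodules M₁ ⊆ M₂ there is a short exact sequence 0 → M₂^⊥ → M₁^⊥ →
(M₂/M₁)^* → 0 of plain k-modules, where ⊥ denotes the annihilator in the continuous dual of M and *
the continuous dual. Stated here as its one non-formal part, surjectivity on the right: every
continuous functional on M₂ (subspace topology) that vanishes on M₁ is the restriction of a
continuous functional on M vanishing on M₁ (continuous functionals on M₂/M₁ being the continuous
functionals on M₂ that kill M₁). -/
theorem result (k : Type u) (M : Type v) [Field k]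
    [TopologicalSpace k] [DiscreteTopology k] [AddCommGroup M] [Module k M] [TopologicalSpace M]
    [IsTopologicalAddGroup M] [IsLinearTopology k M] [T2Space M]
    (M₁ M₂ : Submodule k M) (h₁₂ : M₁ ≤ M₂) (hM₁ : IsClosed (M₁ : Set M))
    (hM₂ : IsClosed (M₂ : Set M)) (ψ : M₂ →L[k] k)
    (hψ : ∀ m : M₂, (m : M) ∈ M₁ → ψ m = 0) :
    ∃ φ : M →L[k] k, (∀ m ∈ M₁, φ m = 0) ∧ ∀ m : M₂, φ (m : M) = ψ m := by
  classical
  have h0 : ψ ⁻¹' {0} ∈ nhds (0 : M₂) :=
    ψ.continuous.continuousAt.preimage_mem_nhds (by simp)
  obtain ⟨V, hV, hVψ⟩ := (mem_nhds_subtype _ _ _).1 h0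
  obtain ⟨W, hW, hWV⟩ := (IsLinearTopology.hasBasis_open_submodule k).mem_iff.1 hV
  let q : M →ₗ[k] M ⧸ W := W.mkQ
  let i : M₂ →ₗ[k] M ⧸ W := q.comp M₂.subtype
  have hk : LinearMap.ker i ≤ LinearMap.ker ψ.toLinearMap := by
    intro m hm
    exact hVψ (hWV ((Submodule.Quotient.mk_eq_zero W).1 hm))
  let g : LinearMap.range i →ₗ[k] k :=
    ((LinearMap.ker i).liftQ ψ.toLinearMap hk).comp i.quotKerEquivRange.symm.toLinearMap
  obtain ⟨G, hG⟩ := LinearMap.exists_extend g
  have hGm : ∀ m : M₂, G (q m) = ψ m := fun m => by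
    have := LinearMap.congr_fun hG ⟨i m, m, rfl⟩
    refine this.trans ?_
    show (LinearMap.ker i).liftQ ψ.toLinearMap hk (i.quotKerEquivRange.symm ⟨i m, _⟩) = _
    rw [LinearMap.quotKerEquivRange_symm_apply_image]
    rfl
  refine ⟨⟨G.comp q, ?_⟩, fun m hm => ?_, hGm⟩
  · refine continuous_of_continuousAt_zero (G.comp q).toAddMonoidHom ?_
    intro U hU
    refine Filter.mem_map.2 (Filter.mem_of_superset (hW.mem_nhds W.zero_mem) fun m hm => ?_)
    have hqm : q m = 0 := (Submodule.Quotient.mk_eq_zero W).2 hm
    have := mem_of_mem_nhds hU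
    simpa [hqm] using this
  · exact (hGm ⟨m, h₁₂ hm⟩).trans (hψ _ hm)

end Groth.Agent.S18615
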