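import Groth.Statements.S18616
import Groth.Agent.Lib.FormalPoincareH7.Basic

set_option autoImplicit false
universe u
open DeRham

namespace Groth.Agent.S18616

open exteriorPower in
/-- The formal Poincaré lemma. The published statement is that for a complete separated linearly
topologized commutative algebra K over a field k of characteristic zero the inclusion of the
separated de Rham complex of K into that of K[[t_1, ..., t_n]] is a quasi-isomorphism; this row is
the case K = k in positive degrees. Concretely: k is a field of characteristic 0, σ is finite, A =
k[[σ]]; the separated differentials are modelled by the free A-module of functions σ → A (the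
coordinate dt_i being the i-th basis vector) with the derivation δ whose components are the formal
partial derivatives, so that δ(A) generates it; d is any family of k-linear maps between consecutive
exterior powers of this module over A satisfying the de Rham rule with d ∘ d = 0. Then for every p ≥
1 the closed p-forms are exact. (Degree zero, that a power series with all partial derivatives zero
is constant, is omitted.) -/
theorem result (k : Type u) [Field k] [CharZero k]
    (σ : Type u) [Finite σ]
    (δ : Derivation k (MvPowerSeries σ k) (σ → MvPowerSeries σ k))
    (hδ : ∀ (f : MvPowerSeries σ k) (i : σ), δ f i = MvPowerSeries.pderiv k i f)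
    (hgen : Submodule.span (MvPowerSeries σ k) (Set.range δ) = ⊤)
    (d : ∀ p : ℕ, ↥(⋀[MvPowerSeries σ k]^p (σ → MvPowerSeries σ k)) →ₗ[k]
      ↥(⋀[MvPowerSeries σ k]^(p + 1) (σ → MvPowerSeries σ k)))
    (hd : DeRham.IsDiff δ d) (p : ℕ) :
    DeRham.cocycles d (p + 1) ≤ DeRham.coboundaries d (p + 1) := by
  classical
  letI := Fintype.ofFinite σ
  exact Groth.Agent.FormalPoincareH7.cocycles_le_coboundaries δ hδ d hd p

end Groth.Agent.S18616
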