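import Groth.Statements.S18617
import Groth.Agent.Lib.LocResH7.Basic

set_option autoImplicit false
universe u
open LocRes

namespace Groth.Agent.S18617

/-- The published statement is that, for a complete separated linearly topologized commutative algebra K
over a field of characteristic zero, the separated de Rham complex of K tensored with the exterior
algebra on symbols α_1, ..., α_n maps quasi-isomorphically to the separated de Rham complex of the
iterated Laurent series ring K((t_1, ..., t_n)), α_i going to dlog t_i; this row is the case K = k
and n = 1, unpacked: over a field k of characteristic 0, a formal Laurent series f in k((t)) has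
term-by-term derivative zero if and only if it is the constant series on its coefficient of degree
0, and a Laurent series g is the derivative of some Laurent series if and only if its residue (the
coefficient of t⁻¹) vanishes; so H⁰ of the complex k((t)) → k((t)) dt is k and H¹ is the line
spanned by the class of dt/t, on which the residue is 1. -/
theorem result (k : Type u) [Field k] [CharZero k] :
    (∀ f : LaurentSeries k, LocRes.D k f = 0 ↔ f = HahnSeries.C (f.coeff 0)) ∧
      ∀ g : LaurentSeries k, (∃ f : LaurentSeries k, LocRes.D k f = g) ↔ LocRes.res k g = 0 := by
  refine ⟨fun f => ⟨fun h => ?_, fun h => ?_⟩, fun g => ⟨fun ⟨f, hf⟩ => hf ▸ LocResH7.res_D f, fun hg => ?_⟩⟩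
  · ext n
    rw [HahnSeries.C_apply, HahnSeries.coeff_single]
    by_cases hn : n = 0
    · subst hn
      simp
    · rw [if_neg hn]
      have := congrArg (fun x : LaurentSeries k => x.coeff (n - 1)) h
      rw [LocRes.D_coeff] at this
      simp only [sub_add_cancel, HahnSeries.coeff_zero, zsmul_eq_mul, mul_eq_zero, Int.cast_eq_zero,
        hn, false_or] at this
      exact this
  · rw [h, LocRes.D_apply, LocRes.derivative_C]
  · classical
    refine ⟨{ coeff := fun m => if m = 0 then 0 else g.coeff (m - 1) / (m : k), isPWO_support' := ?_ }, ?_⟩
    · refine (g.isPWO_support.image_of_monotone (f := fun m : ℤ => m + 1)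
        (fun a b hab => Int.add_le_add_right hab 1)).mono ?_
      intro m hm
      simp only [Function.mem_support, ne_eq, ite_eq_left_iff, not_forall] at hm
      obtain ⟨-, h⟩ := hm
      exact ⟨m - 1, fun h' => h (by simp [h']), sub_add_cancel m 1⟩
    · ext n
      rw [LocRes.D_coeff]
      by_cases hn : n + 1 = 0
      · have : n = -1 := by omega
        subst this
        simpa using hg.symm
      · have hn' : ((n + 1 : ℤ) : k) ≠ 0 := Int.cast_ne_zero.2 hn
        simp only [if_neg hn, zsmul_eq_mul, add_sub_cancel_right]
        field_simp

end Groth.Agent.S18617
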