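import Groth.Statements.S1862
import Mathlib.AlgebraicGeometry.Morphisms.FiniteType
import Mathlib.RingTheory.EssentialFiniteness
import Mathlib.FieldTheory.IntermediateField.Adjoin.Algebra
import Groth.Agent.Lib.VarDim.Scheme
-- import your own Groth.Agent.* helpers here

set_option autoImplicit false
universe u
open CategoryTheory AlgebraicGeometry
open Cyc

namespace Groth.Agent.S1862

/-- Let f : X → Y be a morphism locally of finite type of integral schemes with δX(η_X) = δY(η_Y). Then
either the image of f is not dense, or f maps the generic point to the generic point and the induced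
extension of residue fields there (the function fields) is finite. Here a pair (X, δ) with
Cyc.IsSetup plays the role of a scheme locally of finite type over a fixed base with a dimension
function (X locally Noetherian with universally catenary local rings, δ a dimension function), and
Cyc.DeltaCompat records that the dimension function upstairs is the induced one. -/
theorem result (X Y : Scheme.{u}) [IsIntegral X] [IsIntegral Y] (δX : X → ℤ) (δY : Y → ℤ) (hX : Cyc.IsSetup X δX) (hY : Cyc.IsSetup Y δY) (f : X ⟶ Y) [LocallyOfFiniteType f] (hδ : Cyc.DeltaCompat f δX δY) (heq : δX (genericPoint X) = δY (genericPoint Y)) : ¬ Dense (Set.range f) ∨ (f (genericPoint X) = genericPoint Y ∧ (f.residueFieldMap (genericPoint X)).hom.Finite) := by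
  rw [or_iff_not_imp_left, not_not]
  intro hd
  have hg : f (genericPoint X) = genericPoint Y := by
    refine (Inseparable.eq (Specializes.antisymm ?_ (genericPoint_specializes _)))
    refine specializes_iff_mem_closure.2 ?_
    have hsub : Set.range f ⊆ closure {f (genericPoint X)} := by
      rintro _ ⟨x, rfl⟩
      exact specializes_iff_mem_closure.1 ((genericPoint_specializes x).map f.continuous)
    exact closure_minimal hsub isClosed_closure (hd _)
  refine ⟨hg, ?_⟩
  obtain ⟨n, hn, hδn⟩ := hδ (genericPoint X)
  have hdd : δY (f (genericPoint X)) = δY (genericPoint Y) := congrArg δY hg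
  obtain rfl : n = 0 := by omega
  algebraize [(f.residueFieldMap (genericPoint X)).hom]
  haveI : Algebra.IsAlgebraic (Y.residueField (f (genericPoint X))) (X.residueField (genericPoint X)) :=
    trdeg_eq_zero_iff.1 (by simpa using hn)
  haveI : Algebra.EssFiniteType (Y.residueField (f (genericPoint X))) (X.residueField (genericPoint X)) := by
    letI := (f.stalkMap (genericPoint X)).hom.toAlgebra
    haveI h1 : Algebra.EssFiniteType (Y.presheaf.stalk (f (genericPoint X))) (X.presheaf.stalk (genericPoint X)) :=
      LocallyOfFiniteType.stalkMap f (genericPoint X)
    letI a0 : Algebra (Y.presheaf.stalk (f (genericPoint X))) (Y.residueField (f (genericPoint X))) := (Y.residue _).hom.toAlgebra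
    letI a1 : Algebra (X.presheaf.stalk (genericPoint X)) (X.residueField (genericPoint X)) := (X.residue _).hom.toAlgebra
    letI a2 : Algebra (Y.presheaf.stalk (f (genericPoint X))) (X.residueField (genericPoint X)) :=
      ((X.residue _).hom.comp (f.stalkMap (genericPoint X)).hom).toAlgebra
    haveI : IsScalarTower (Y.presheaf.stalk (f (genericPoint X))) (X.presheaf.stalk (genericPoint X))
        (X.residueField (genericPoint X)) := IsScalarTower.of_algebraMap_eq fun _ => rfl
    haveI : IsScalarTower (Y.presheaf.stalk (f (genericPoint X))) (Y.residueField (f (genericPoint X)))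
        (X.residueField (genericPoint X)) := IsScalarTower.of_algebraMap_eq fun c =>
      (congrArg (fun φ => φ c) (Scheme.residue_residueFieldMap f (genericPoint X))).symm
    haveI : Module.Finite (X.presheaf.stalk (genericPoint X)) (X.residueField (genericPoint X)) :=
      Module.Finite.of_surjective (Algebra.linearMap _ _) (X.residue_surjective _)
    haveI := Algebra.EssFiniteType.comp (Y.presheaf.stalk (f (genericPoint X))) (X.presheaf.stalk (genericPoint X))
      (X.residueField (genericPoint X))
    exact Algebra.EssFiniteType.of_comp (Y.presheaf.stalk (f (genericPoint X))) _ _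
  exact Algebra.finite_of_essFiniteType_of_isAlgebraic

end Groth.Agent.S1862
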