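import Groth.Statements.S18621
import Groth.Agent.Lib.BlowUp26.Basic
import Groth.Agent.Lib.BlowUpExist.Proper
import Groth.Agent.Lib.VB17.Line
import Groth.Agent.Lib.TensorMod.IdealMod
import Groth.Agent.Lib.TensorMod.PullTensor
import Groth.Agent.Lib.EffCartier.Comap
import Groth.Agent.Lib.RegExt.P1
import Groth.Agent.Lib.Twist.Ample
import Groth.Agent.Lib.Twist.ProjSpace
import Groth.Agent.Lib.RankTwo11.CompleteInt
import Groth.Agent.Lib.Ample18.Sections
import Groth.Agent.Lib.CubeField.Simple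
import Groth.Agent.Lib.CubeField.MulSurj

set_option autoImplicit false
universe u
open VBPn

namespace Groth.Agent.S18621

namespace Aux

open CategoryTheory CategoryTheory.Limits AlgebraicGeometry Groth.Agent TopologicalSpace Opposite

set_option backward.isDefEq.respectTransparency false
set_option backward.isDefEq.respectTransparency.types false
set_option maxHeartbeats 800000

/-- Each of the exceptional ideals is effective Cartier. -/
theorem isEffCartier_component {Y X : Scheme.{u}} [IsIntegral X] {s : ℕ} (P : Fin s → Y) (hP : Function.Injective P)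
    (hPc : ∀ i, IsClosed ({P i} : Set Y)) (hZ : IsClosed (Set.range P)) (π : X ⟶ Y)
    (hE : BlowUp.IsEffCartierIdeal ((Scheme.IdealSheafData.vanishingIdeal ⟨Set.range P, hZ⟩).comap π)) (t : Fin s) :
    BlowUp.IsEffCartierIdeal ((Scheme.IdealSheafData.vanishingIdeal ⟨{P t}, hPc t⟩).comap π) := by
  intro x
  -- an affine neighbourhood of `π x` meeting `Z` only where it meets `P t`
  obtain ⟨O, hxO, hO⟩ : ∃ O : Y.Opens, π x ∈ O ∧ (Set.range P ∩ O ⊆ {P t} ∨ (P t) ∉ O) := by
    by_cases h : π x = P t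
    · refine ⟨⟨(P '' {i | i ≠ t})ᶜ, ((Set.toFinite _).isClosed_biUnion (f := fun y => ({y} : Set Y)) ?_ |> fun hc => by
        rw [Set.biUnion_of_singleton] at hc; exact hc.isOpen_compl)⟩, ?_, Or.inl ?_⟩
      · rintro _ ⟨i, -, rfl⟩; exact hPc i
      · rintro ⟨i, hi, hit⟩
        exact hi (hP (hit.trans h))
      · rintro _ ⟨⟨i, rfl⟩, hi⟩
        by_contra hne
        exact hi ⟨i, fun e => hne (by rw [e]; rfl), rfl⟩
    · exact ⟨⟨({P t})ᶜ, (hPc t).isOpen_compl⟩, h, Or.inr fun h' => h' rfl⟩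
  obtain ⟨U, hU, hxU, hUO⟩ := exists_isAffineOpen_mem_and_subset (x := π x) hxO
  obtain ⟨W, hxW, f, hf, hfW⟩ := hE x
  obtain ⟨V, hV, hxV, hVle⟩ := exists_isAffineOpen_mem_and_subset (x := x) (U := W.1 ⊓ π ⁻¹ᵁ U) ⟨hxW, hxU⟩
  have hVW : V ≤ W.1 := fun z hz => (hVle hz).1
  have hVU : V ≤ π ⁻¹ᵁ U := fun z hz => (hVle hz).2
  haveI : Nonempty V := ⟨⟨x, hxV⟩⟩
  rcases hO with hO | hO
  · refine ⟨⟨V, hV⟩, hxV, (X.presheaf.map (homOfLE hVW).op) f, ?_, ?_⟩
    · rw [mem_nonZeroDivisors_iff_ne_zero]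
      haveI : Nonempty W.1 := ⟨⟨x, hxW⟩⟩
      exact fun h => nonZeroDivisors.ne_zero hf (map_injective_of_isIntegral X (homOfLE hVW) (h.trans (map_zero _).symm))
    · rw [EffCartier.comap_ideal _ π ⟨U, hU⟩ ⟨V, hV⟩ hVU]
      have hI : (Scheme.IdealSheafData.vanishingIdeal (⟨{P t}, hPc t⟩ : Closeds Y)).ideal ⟨U, hU⟩ =
          (Scheme.IdealSheafData.vanishingIdeal (⟨Set.range P, hZ⟩ : Closeds Y)).ideal ⟨U, hU⟩ := by
        rw [Scheme.IdealSheafData.vanishingIdeal_ideal, Scheme.IdealSheafData.vanishingIdeal_ideal]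
        congr 1
        ext z
        have hz : hU.fromSpec z ∈ U := by
          have := Set.mem_range_self (f := hU.fromSpec) z
          rwa [hU.range_fromSpec] at this
        refine ⟨fun h => ?_, fun h => hO ⟨h, hUO hz⟩⟩
        exact ⟨t, (Set.mem_singleton_iff.1 h).symm⟩
      rw [hI, ← EffCartier.comap_ideal _ π ⟨U, hU⟩ ⟨V, hV⟩ hVU,
        ← Scheme.IdealSheafData.map_ideal _ (U := ⟨V, hV⟩) (V := W) hVW, hfW, Ideal.map_span, Set.image_singleton]
      rfl
  · refine ⟨⟨V, hV⟩, hxV, 1, one_mem _, ?_⟩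
    rw [EffCartier.comap_ideal _ π ⟨U, hU⟩ ⟨V, hV⟩ hVU, Ideal.span_singleton_one]
    have hI : (Scheme.IdealSheafData.vanishingIdeal (⟨{P t}, hPc t⟩ : Closeds Y)).ideal ⟨U, hU⟩ = ⊤ := by
      rw [Scheme.IdealSheafData.vanishingIdeal_ideal]
      have : (hU.fromSpec ⁻¹' (({P t} : Set Y))) = ∅ := by
        ext z
        simp only [Set.mem_preimage, Set.mem_singleton_iff, Set.mem_empty_iff_false, iff_false]
        intro h
        have hz : hU.fromSpec z ∈ U := by
          have := Set.mem_range_self (f := hU.fromSpec) z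
          rwa [hU.range_fromSpec] at this
        exact hO (hUO (h ▸ hz))
      ext a
      simp [this, PrimeSpectrum.mem_vanishingIdeal]
    rw [hI, Ideal.map_top]

/-- Invertible modules with a monomorphism to the structure module. -/
def Sub1 {X : Scheme.{u}} (M : X.Modules) : Prop :=
  PicF.IsInvertible M ∧ ∃ φ : M ⟶ Coh.structureModule X, Mono φ

theorem sub1_tensor {X : Scheme.{u}} {M N : X.Modules} (hM : Sub1 M) (hN : Sub1 N) : Sub1 (CohB1.tensorMod M N) := by
  obtain ⟨hMi, φ, hφ⟩ := hM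
  obtain ⟨hNi, ψ, hψ⟩ := hN
  haveI := hφ
  haveI := hψ
  refine ⟨M2.isInvertible_tensor hMi hNi, M2.tensorMap φ (𝟙 N) ≫ (M2.tensorLUnit N).hom ≫ ψ, ?_⟩
  haveI : Mono (M2.tensorMap φ (𝟙 N)) := VB17.mono_tensorMap φ hNi
  infer_instance

theorem sub1_one {X : Scheme.{u}} : Sub1 (Coh.structureModule X) :=
  ⟨PicLoc.isInvertible_structureModule X, 𝟙 _, inferInstance⟩

theorem sub1_pow {X : Scheme.{u}} {M : X.Modules} (hM : Sub1 M) : ∀ n, Sub1 (CohB1.tensorPow M n)
  | 0 => sub1_one
  | n + 1 => sub1_tensor (sub1_pow hM n) hM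

theorem sub1_list {X : Scheme.{u}} : ∀ l : List X.Modules, (∀ M ∈ l, Sub1 M) → Sub1 (FGA.tensorList l)
  | [], _ => sub1_one
  | M :: l, h => sub1_tensor (h M (by simp)) (sub1_list l fun N hN => h N (by simp [hN]))

/-- No sections of the pullback of a negative twist along a surjective map from an integral scheme proper over `k`. -/
theorem eq_zero_of_neg {k : Type u} [Field k] [IsAlgClosed k] {n : ℕ} (hn : 0 < n) {X : Scheme.{u}} [IsIntegral X]
    (π : X ⟶ CohB1.ProjSpace n k) [IsProper (π ≫ CohB1.ProjSpace.toSpec n k)] (hsurj : Function.Surjective π.base)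
    {c : ℤ} (hc : c < 0) (z : Γ((Scheme.Modules.pullback π).obj (Twist.twistProjSpace n k c), (⊤ : X.Opens))) :
    z = 0 := by
  by_contra hz
  obtain ⟨m, hm, rfl⟩ : ∃ m : ℕ, 0 < m ∧ c = -(m : ℤ) := ⟨(-c).toNat, by omega, by omega⟩
  have hA : PicF.IsInvertible ((Scheme.Modules.pullback π).obj (Twist.twistProjSpace n k (-(m : ℤ)))) :=
    PicLoc.isInvertible_pullback π (Groth.Agent.Twist.isInvertible_twistProjSpace n k _)
  have hcov := Groth.Agent.Twist.iSup_basicOpen_one n k
  let fm : CohB1.polyGrading n k m := ⟨(MvPolynomial.X 0) ^ m, by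
    simpa using SetLike.pow_mem_graded m (ProjSpace.X_mem' n k 0)⟩
  let δ : Coh.structureModule (CohB1.ProjSpace n k) ⟶ Twist.twistProjSpace n k (m : ℤ) :=
    M1.secHom (Groth.Agent.Twist.gsec (CohB1.polyGrading n k) fm)
  have hδ : CohB1.genLocus (Twist.twistProjSpace n k (m : ℤ)) δ =
      Proj.basicOpen (CohB1.polyGrading n k) (fm : MvPolynomial (Fin (n + 1)) k) :=
    Groth.Agent.Twist.genLocus_gsec _ hcov fm
  have hL := Groth.Agent.Twist.isInvertible_twistProjSpace n k (m : ℤ)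
  let e0 : Coh.structureModule X ≅ (Scheme.Modules.pullback π).obj (Coh.structureModule (CohB1.ProjSpace n k)) :=
    (PicLoc.pullbackStructureIso π).symm
  let t := e0.hom ≫ (Scheme.Modules.pullback π).map δ
  have ht := Amp.genLocus_pullback (f := π) hL δ e0
  obtain ⟨eP⟩ : Nonempty (CohB1.tensorMod (Twist.twistProjSpace n k (-(m : ℤ))) (Twist.twistProjSpace n k (m : ℤ)) ≅
      Coh.structureModule (CohB1.ProjSpace n k)) := by
    obtain ⟨e1⟩ := Groth.Agent.Twist.nonempty_tensor_iso (CohB1.polyGrading n k) (-(m : ℤ)) (m : ℤ) hcov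
    obtain ⟨e2⟩ := Groth.Agent.Twist.nonempty_twist_zero_iso (CohB1.polyGrading n k)
    exact ⟨e1 ≪≫ eqToIso (congrArg _ (neg_add_cancel _)) ≪≫ e2⟩
  let e : CohB1.tensorMod ((Scheme.Modules.pullback π).obj (Twist.twistProjSpace n k (-(m : ℤ))))
      ((Scheme.Modules.pullback π).obj (Twist.twistProjSpace n k (m : ℤ))) ≅ Coh.structureModule X :=
    (M2.pullTensorIso π _ _).symm ≪≫ (Scheme.Modules.pullback π).mapIso eP ≪≫ e0.symm
  let st := SecTwist.tmulHom (M1.secHom z) t
  have hst := Amp.genLocus_tmulHom hA (PicLoc.isInvertible_pullback π hL) (M1.secHom z) t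
  -- the product is a constant
  have hB : CohB1.genLocus _ (st ≫ e.hom) = CohB1.genLocus _ (M1.secHom z) ⊓ π ⁻¹ᵁ CohB1.genLocus _ δ := by
    rw [Groth.Agent.Twist.genLocus_comp_iso, hst, ht]
  obtain ⟨a, ha⟩ := CubeField.genLocus_nonempty_of_ne_zero hA hz
  obtain ⟨x0, hx0⟩ : ∃ x, x ∈ π ⁻¹ᵁ CohB1.genLocus _ δ := by
    obtain ⟨p, hp⟩ := RankTwo11.CompleteInt.exists_point_forms (k := k) (n := n) (Pi.single 0 1) (by simp)
    obtain ⟨x, hx⟩ := hsurj p
    refine ⟨x, ?_⟩
    rw [Scheme.Hom.mem_preimage, hδ]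
    show π.base x ∈ Proj.basicOpen (CohB1.polyGrading n k) (fm : MvPolynomial (Fin (n + 1)) k)
    rw [hx]
    refine (Proj.mem_basicOpen _ _ _).2 fun hmem => ?_
    have hone : (MvPolynomial.X 0 : MvPolynomial (Fin (n + 1)) k) ∈ p.asHomogeneousIdeal :=
      p.isPrime.mem_of_pow_mem m hmem
    refine p.not_irrelevant_le ?_
    rw [← toIdeal_le_toIdeal_iff]
    refine (ProjSpace.irrelevant_le_span n k).trans (Ideal.span_le.2 ?_)
    rintro _ ⟨i, rfl⟩
    by_cases hi : i = 0
    · subst hi; exact hone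
    · exact hp 1 _ (MvPolynomial.isHomogeneous_X _ _) (by simp [hi])
  have hne : (CohB1.genLocus _ (st ≫ e.hom) : Set X).Nonempty := by
    rw [hB]
    exact nonempty_preirreducible_inter (CohB1.genLocus _ (M1.secHom z)).2 (π ⁻¹ᵁ CohB1.genLocus _ δ).2 ⟨a, ha⟩ ⟨x0, hx0⟩
  have htop : CohB1.genLocus _ (st ≫ e.hom) = ⊤ := by
    rw [CubeField.genLocus_structure_eq_basicOpen]
    rw [CubeField.genLocus_structure_eq_basicOpen] at hne
    have hu : IsUnit (show Γ(X, ⊤) from Amp.gval (st ≫ e.hom)) := by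
      letI := (isField_of_universallyClosed k (π ≫ CohB1.ProjSpace.toSpec n k)).toField
      refine isUnit_iff_ne_zero.2 fun h => ?_
      rw [h, Scheme.basicOpen_zero] at hne
      simp at hne
    exact Scheme.basicOpen_of_isUnit X hu
  -- but the hyperplane is not empty
  obtain ⟨p, hp⟩ := RankTwo11.CompleteInt.exists_point_forms (k := k) (n := n) (Pi.single 1 1) (by simp)
  obtain ⟨x, hx⟩ := hsurj p
  have hxm : x ∈ π ⁻¹ᵁ CohB1.genLocus _ δ := (hB ▸ htop ▸ (trivial : x ∈ (⊤ : X.Opens)) :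
    x ∈ CohB1.genLocus _ (M1.secHom z) ⊓ π ⁻¹ᵁ CohB1.genLocus _ δ).2
  rw [Scheme.Hom.mem_preimage, hδ] at hxm
  rw [hx] at hxm
  refine (Proj.mem_basicOpen _ _ _).1 hxm (Ideal.pow_mem_of_mem _ ?_ m hm)
  refine hp 1 _ (MvPolynomial.isHomogeneous_X _ _) ?_
  simp [Fin.ext_iff, Nat.mod_eq_of_lt (by omega : 1 < n + 1)]

theorem main {k : Type u} [Field k] [IsAlgClosed k] {n s : ℕ} (P : Fin s → ↥(CohB1.ProjSpace n k))
    (hPc : ∀ i, IsClosed ({P i} : Set ↥(CohB1.ProjSpace n k))) (hZ : IsClosed (Set.range P)) (hP : Function.Injective P)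
    {X : Scheme.{u}} (π : X ⟶ CohB1.ProjSpace n k)
    (hπ : BlowUp.IsBlowUp π (Scheme.IdealSheafData.vanishingIdeal ⟨Set.range P, hZ⟩))
    (c : ℤ) (hc : c < 0) (d : Fin s → ℕ) (hn : 0 < n) :
    Subsingleton (Coh.HH X (CohB1.tensorMod ((Scheme.Modules.pullback π).obj (Twist.twistProjSpace n k c))
        (FGA.multiTwist (fun t : Fin s =>
          ClSub.idealMod ((Scheme.IdealSheafData.vanishingIdeal ⟨{P t}, hPc t⟩).comap π)) d)) 0) := by
  haveI := RegExt.isIntegral_projSpace n k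
  haveI : IsLocallyNoetherian (CohB1.ProjSpace n k) :=
    LocallyOfFiniteType.isLocallyNoetherian (CohB1.ProjSpace.toSpec n k)
  suffices h : ∀ z : Γ(CohB1.tensorMod ((Scheme.Modules.pullback π).obj (Twist.twistProjSpace n k c))
      (FGA.multiTwist (fun t : Fin s =>
        ClSub.idealMod ((Scheme.IdealSheafData.vanishingIdeal ⟨{P t}, hPc t⟩).comap π)) d), (⊤ : X.Opens)), z = 0 by
    haveI : Subsingleton Γ(CohB1.tensorMod ((Scheme.Modules.pullback π).obj (Twist.twistProjSpace n k c))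
      (FGA.multiTwist (fun t : Fin s =>
        ClSub.idealMod ((Scheme.IdealSheafData.vanishingIdeal ⟨{P t}, hPc t⟩).comap π)) d), (⊤ : X.Opens)) :=
      ⟨fun a b => (h a).trans (h b).symm⟩
    exact (CurveCoh17.hh0 _).toEquiv.subsingleton
  intro z
  rcases isEmpty_or_nonempty X with hX | hX
  · exact M1.section_ext _ _ fun x => isEmptyElim x
  have hbij := BlowUp26.bijOn_maximalPoints hπ
  haveI := BlowUp26.isReduced_of_isBlowUp hπ
  have hgen : ∀ ζ : X, (∀ z, z ⤳ ζ → z = ζ) → π ζ = genericPoint (CohB1.ProjSpace n k) := fun ζ hζ =>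
    ((hbij.mapsTo hζ).1 _ ((genericPoint_spec _).specializes trivial)).symm
  have hmax : ∀ x : X, ∃ ζ : X, (∀ z, z ⤳ ζ → z = ζ) ∧ ζ ⤳ x := fun x => by
    obtain ⟨ζ, hζ⟩ := QuasiSober.sober (isIrreducible_irreducibleComponent (x := x)) isClosed_irreducibleComponent
    refine ⟨ζ, fun z hz => ?_, hζ.specializes mem_irreducibleComponent⟩
    have h1 : irreducibleComponent x ⊆ closure {z} :=
      hζ.def ▸ closure_minimal (Set.singleton_subset_iff.mpr hz.mem_closure) isClosed_closure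
    exact (IsGenericPoint.eq (show IsGenericPoint z (irreducibleComponent x) from
      eq_irreducibleComponent isIrreducible_singleton.closure.isPreirreducible h1) hζ)
  obtain ⟨ξ, hξ, -⟩ := hmax (Classical.arbitrary X)
  haveI : IrreducibleSpace X := by
    refine irreducibleSpace_def _ |>.mpr ?_
    have : (⊤ : Set X) = closure {ξ} := by
      ext x
      simp only [Set.top_eq_univ, Set.mem_univ, true_iff]
      obtain ⟨ζ, hζ, hζx⟩ := hmax x
      rw [hbij.injOn hξ hζ ((hgen ξ hξ).trans (hgen ζ hζ).symm)]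
      exact hζx.mem_closure
    rw [this]
    exact isIrreducible_singleton.closure
  haveI : IsIntegral X := isIntegral_of_irreducibleSpace_of_isReduced X
  haveI : IsProper π := BlowUpExist.isProper (fun U =>
    haveI : IsNoetherianRing Γ(CohB1.ProjSpace n k, U.1) := IsLocallyNoetherian.component_noetherian U
    IsNoetherian.noetherian _) hπ
  haveI := ProjSpace.isProper_toSpec n k
  have hsurj : Function.Surjective π.base := fun y => by
    have hcl : IsClosed (Set.range π.base) := π.isClosedMap.isClosed_range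
    have : closure {genericPoint (CohB1.ProjSpace n k)} ⊆ Set.range π.base :=
      closure_minimal (Set.singleton_subset_iff.2 ⟨ξ, hgen ξ hξ⟩) hcl
    exact this (by rw [(genericPoint_spec (CohB1.ProjSpace n k)).def]; trivial)
  obtain ⟨hTi, φ, hφ⟩ : Sub1 (FGA.multiTwist (fun t : Fin s =>
      ClSub.idealMod ((Scheme.IdealSheafData.vanishingIdeal ⟨{P t}, hPc t⟩).comap π)) d) := by
    refine sub1_list _ fun M hM => ?_
    obtain ⟨t, -, rfl⟩ := List.mem_map.1 hM
    exact sub1_pow ⟨M2.isInvertible_idealMod _ (isEffCartier_component P hP hPc hZ π hπ.1 t),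
      ClSub.idealModι _, by unfold ClSub.idealModι; infer_instance⟩ _
  haveI := hφ
  have hA : PicF.IsInvertible ((Scheme.Modules.pullback π).obj (Twist.twistProjSpace n k c)) :=
    PicLoc.isInvertible_pullback π (Groth.Agent.Twist.isInvertible_twistProjSpace n k _)
  let ψ := (M2.tensorComm ((Scheme.Modules.pullback π).obj (Twist.twistProjSpace n k c)) (FGA.multiTwist (fun t : Fin s =>
      ClSub.idealMod ((Scheme.IdealSheafData.vanishingIdeal ⟨{P t}, hPc t⟩).comap π)) d)).hom ≫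
    M2.tensorMap φ (𝟙 _) ≫ (M2.tensorLUnit _).hom
  haveI : Mono (M2.tensorMap φ (𝟙 ((Scheme.Modules.pullback π).obj (Twist.twistProjSpace n k c)))) :=
    VB17.mono_tensorMap φ hA
  haveI : Mono ψ := by
    show Mono (_ ≫ _ ≫ _)
    infer_instance
  exact M1.app_injective ψ ⊤ ((eq_zero_of_neg hn π hsurj hc _).trans (map_zero _).symm)

end Aux


open CategoryTheory CategoryTheory.Limits AlgebraicGeometry TopologicalSpace in
/-- Let k be an algebraically closed field of characteristic zero, n ≥ 3, Z = {p_1, …, p_s} distinct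
closed points of P^n_k and π : X → P^n_k a blow-up of P^n_k in the ideal of the reduced set Z
(universal property). Write O_X(e₀) = π^*O(1), let e_t be the exceptional divisor over p_t, with
ideal sheaf the inverse image of the ideal of p_t, and for c ∈ ℤ and integers d_t ≥ 0 put O_X(c e₀ −
Σ d_t e_t) = π^*O(c) ⊗ ⨂_t (ideal of e_t)^{⊗ d_t}. If c < 0 then H^0(X, O_X(c e₀ − Σ d_t e_t)) = 0.
(Stated for d_t ≥ 0, the case in which the text identifies these groups with the cohomology of a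
twisted ideal sheaf of a fat point scheme in P^n.) -/
theorem result (k : Type u) [Field k] [IsAlgClosed k] [CharZero k]
    (n : ℕ) (hn : 3 ≤ n) (s : ℕ) (P : Fin s → ↥(CohB1.ProjSpace n k)) (hP : Function.Injective P)
    (hPc : ∀ i, IsClosed ({P i} : Set ↥(CohB1.ProjSpace n k))) (hZ : IsClosed (Set.range P))
    (X : Scheme.{u}) (π : X ⟶ CohB1.ProjSpace n k)
    (hπ : BlowUp.IsBlowUp π (Scheme.IdealSheafData.vanishingIdeal ⟨Set.range P, hZ⟩))
    (c : ℤ) (hc : c < 0) (d : Fin s → ℕ) :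
    Subsingleton (Coh.HH X (CohB1.tensorMod ((Scheme.Modules.pullback π).obj (Twist.twistProjSpace n k c))
        (FGA.multiTwist (fun t : Fin s =>
          ClSub.idealMod ((Scheme.IdealSheafData.vanishingIdeal ⟨{P t}, hPc t⟩).comap π)) d)) 0) := by
  exact Aux.main P hPc hZ hP π hπ c hc d (by omega)


end Groth.Agent.S18621
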