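import Groth.Statements.S18625
import Groth.Agent.Lib.SimpleCoker11.Basic
import Groth.Agent.Lib.LMSimple8.QuadF0

set_option autoImplicit false
universe u
open VBPn

namespace Groth.Agent.S18625

open Groth.Agent Groth.Agent.LMSimple8.Quad

set_option backward.isDefEq.respectTransparency false
set_option backward.isDefEq.respectTransparency.types false
set_option maxHeartbeats 1000000


open CategoryTheory CategoryTheory.Limits AlgebraicGeometry TopologicalSpace in
/-- Let k be an algebraically closed field of characteristic zero and X = P¹_k ×_k P¹_k the smooth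
quadric surface, O(a, b) = pr₁^*O(a) ⊗ pr₂^*O(b). Let r ≥ 2 and let f : P → Q₁ ⊞ Q₂ be a
monomorphism of O_X-modules with P ≅ O(−1,−1)^r, Q₁ ≅ O(−1,0)^r and Q₂ ≅ O(0,−1)^r (a 2r × r matrix
of linear forms, the Q₁-block in the coordinates of one factor and the Q₂-block in those of the
other), whose cokernel E is finite locally free of rank r. Assume that the stabiliser of f in
Aut(Q₁) × Aut(Q₂) × Aut(P) is the scalars: whenever automorphisms β₁ of Q₁, β₂ of Q₂ and γ of P
satisfy γ ≫ f = f ≫ (β₁ ⊕ β₂), there is one c ∈ k with β₁, β₂ and γ all multiplication by c. Then E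
is simple: every endomorphism of E is multiplication by a scalar of k. (The published statement
takes f the transpose of a general matrix and obtains a scalar stabiliser for each of the two r × r
blocks separately from a result it quotes; for r ≥ 2 a square matrix of linear forms in two
variables never has scalar stabiliser, so that block-wise property holds for no f, and the printed
argument needs only the property of f as a whole, which is the hypothesis here.) -/
theorem result (k : Type u) [Field k] [IsAlgClosed k] [CharZero k]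
    (r : ℕ) (P₁ Q₁ Q₂ : (pullback (CohB1.ProjSpace.toSpec 1 k) (CohB1.ProjSpace.toSpec 1 k)).Modules)
    (hP₁ : Nonempty (P₁ ≅ ∐ fun _ : Fin r => CohB1.tensorMod
        ((Scheme.Modules.pullback (pullback.fst (CohB1.ProjSpace.toSpec 1 k) (CohB1.ProjSpace.toSpec 1 k))).obj
          (Twist.twistProjSpace 1 k (-1)))
        ((Scheme.Modules.pullback (pullback.snd (CohB1.ProjSpace.toSpec 1 k) (CohB1.ProjSpace.toSpec 1 k))).obj
          (Twist.twistProjSpace 1 k (-1)))))
    (hQ₁ : Nonempty (Q₁ ≅ ∐ fun _ : Fin r => CohB1.tensorMod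
        ((Scheme.Modules.pullback (pullback.fst (CohB1.ProjSpace.toSpec 1 k) (CohB1.ProjSpace.toSpec 1 k))).obj
          (Twist.twistProjSpace 1 k (-1)))
        ((Scheme.Modules.pullback (pullback.snd (CohB1.ProjSpace.toSpec 1 k) (CohB1.ProjSpace.toSpec 1 k))).obj
          (Twist.twistProjSpace 1 k (0)))))
    (hQ₂ : Nonempty (Q₂ ≅ ∐ fun _ : Fin r => CohB1.tensorMod
        ((Scheme.Modules.pullback (pullback.fst (CohB1.ProjSpace.toSpec 1 k) (CohB1.ProjSpace.toSpec 1 k))).obj
          (Twist.twistProjSpace 1 k (0)))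
        ((Scheme.Modules.pullback (pullback.snd (CohB1.ProjSpace.toSpec 1 k) (CohB1.ProjSpace.toSpec 1 k))).obj
          (Twist.twistProjSpace 1 k (-1)))))
    (f : P₁ ⟶ Q₁ ⊞ Q₂) [Mono f] (hE : FlatMod.IsFinLocFreeOfRank r (cokernel f))
    (hr : 2 ≤ r)
    (hstab : ∀ (β₁ : Q₁ ≅ Q₁) (β₂ : Q₂ ≅ Q₂) (γ : P₁ ≅ P₁), γ.hom ≫ f = f ≫ biprod.map β₁.hom β₂.hom →
      ∃ c : k, (SheafOfModules.toSheaf _).map β₁.hom = Coh.smulAb Q₁ (Coh.toGlobal (pullback.fst (CohB1.ProjSpace.toSpec 1 k) (CohB1.ProjSpace.toSpec 1 k) ≫ CohB1.ProjSpace.toSpec 1 k) c) ∧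
        (SheafOfModules.toSheaf _).map β₂.hom = Coh.smulAb Q₂ (Coh.toGlobal (pullback.fst (CohB1.ProjSpace.toSpec 1 k) (CohB1.ProjSpace.toSpec 1 k) ≫ CohB1.ProjSpace.toSpec 1 k) c) ∧
        (SheafOfModules.toSheaf _).map γ.hom = Coh.smulAb P₁ (Coh.toGlobal (pullback.fst (CohB1.ProjSpace.toSpec 1 k) (CohB1.ProjSpace.toSpec 1 k) ≫ CohB1.ProjSpace.toSpec 1 k) c)) :
    ∀ φ : cokernel f ⟶ cokernel f, ∃ c : k, (SheafOfModules.toSheaf _).map φ =
      Coh.smulAb (cokernel f) (Coh.toGlobal (pullback.fst (CohB1.ProjSpace.toSpec 1 k) (CohB1.ProjSpace.toSpec 1 k) ≫ CohB1.ProjSpace.toSpec 1 k) c) := by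
  intro φ
  haveI := Groth.Agent.ProjSpace.isProper_toSpec 1 k
  haveI : IsProper ((XX k) ↘ Spec (CommRingCat.of k)) := by
    show IsProper (p₁ k ≫ CohB1.ProjSpace.toSpec 1 k)
    infer_instance
  haveI : IsLocallyNoetherian (XX k) := LocallyOfFiniteType.isLocallyNoetherian ((XX k) ↘ Spec (CommRingCat.of k))
  obtain ⟨eP⟩ := hP₁
  obtain ⟨eA⟩ := hQ₁
  obtain ⟨eB⟩ := hQ₂
  have hcoh : ∀ {M : (XX k).Modules} {a b : ℤ}, (M ≅ ∐ fun _ : Fin r => Ob k a b) → Coh.IsCoh M := fun {M a b} e =>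
    (M1.isCoh_iff_isFP _).2 (M1.isFP_of_isFinLocFree (M2.isFinLocFree_of_iso
      (M2.freeModTensorIso _ r _ ≪≫ e.symm)
      (M2.isFinLocFree_tensor (KFlat.Sch.isFinLocFree_freeMod _ r)
        (M2.isFinLocFree_of_isInvertible (isInvertible_Ob k a b)))))
  have hinv : ∀ a b c d : ℤ, a + c = 0 → b + d = 0 →
      Nonempty (CohB1.tensorMod (Ob k a b) (Ob k c d) ≅ Coh.structureModule (XX k)) := fun a b c d h h' => by
    obtain ⟨t⟩ := nonempty_Ob_tensor k a b c d
    obtain ⟨z⟩ := nonempty_Ob_zero k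
    exact ⟨t ≪≫ eqToIso (by rw [h, h']) ≪≫ z⟩
  have hv : ∀ (n : ℕ) (a b c d : ℤ), Subsingleton (Coh.HH (XX k) (Ob k (a + c) (b + d)) n) →
      Subsingleton (Coh.HH (XX k) (CohB1.tensorMod (Ob k a b) (Ob k c d)) n) := fun n a b c d h => by
    obtain ⟨t⟩ := nonempty_Ob_tensor k a b c d
    exact (CurveCoh17.hequiv k t n).toEquiv.subsingleton_congr.2 h
  obtain ⟨eA'⟩ := hinv (-1) 0 1 0 (by omega) (by omega)
  obtain ⟨eB'⟩ := hinv 0 (-1) 0 1 (by omega) (by omega)
  let S : ShortComplex (XX k).Modules := ShortComplex.mk f (cokernel.π f) (cokernel.condition f)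
  have hS : S.ShortExact := ShortComplex.ShortExact.mk' (ShortComplex.exact_cokernel f) inferInstance inferInstance
  obtain ⟨c, hc⟩ := SimpleCoker11.simple (k := k) (hcoh eP) (hcoh eA) (hcoh eB) f
    (SimpleCoker11.exists_lift_coprod (k := k) hS (isInvertible_Ob k 1 0) eA' eA
      (subsingleton_tensor_coprod k eP (hv 1 _ _ _ _ (subsingleton_Ob k _ _ 1 fun p hp => by omega))))
    (SimpleCoker11.exists_lift_coprod (k := k) hS (isInvertible_Ob k 0 1) eB' eB
      (subsingleton_tensor_coprod k eP (hv 1 _ _ _ _ (subsingleton_Ob k _ _ 1 fun p hp => by omega))))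
    (SimpleCoker11.hom_eq_zero (k := k) (isInvertible_Ob k 1 0) eA' eA eB
      (hv 0 _ _ _ _ (subsingleton_Ob k _ _ 0 fun p hp => by omega)))
    (SimpleCoker11.hom_eq_zero (k := k) (isInvertible_Ob k 0 1) eB' eB eA
      (hv 0 _ _ _ _ (subsingleton_Ob k _ _ 0 fun p hp => by omega)))
    (fun β₁ β₂ γ h => by
      obtain ⟨c, h₁, h₂, -⟩ := hstab β₁ β₂ γ h
      exact ⟨c, (SheafOfModules.toSheaf _).map_injective (h₁.trans (SimpleCoker11.toSheaf_smul_id Q₁ c).symm),
        (SheafOfModules.toSheaf _).map_injective (h₂.trans (SimpleCoker11.toSheaf_smul_id Q₂ c).symm)⟩) φ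
  exact ⟨c, by rw [hc]; exact SimpleCoker11.toSheaf_smul_id _ c⟩


end Groth.Agent.S18625
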