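import Groth.Statements.S18627
import Groth.Agent.Lib.LMSimple8.QuadF0
-- import your own Groth.Agent.* helpers here

set_option autoImplicit false
universe u
open VBPn

namespace Groth.Agent.S18627

open Groth.Agent.LMSimple8 Groth.Agent.LMSimple8.Quad

set_option maxHeartbeats 1000000

section

open CategoryTheory CategoryTheory.Limits AlgebraicGeometry

theorem surj_Ob (k : Type u) [Field k] {Q P : (XX k).Modules} (g : Q ⟶ P) {r : ℕ}
    (eP : P ≅ ∐ fun _ : Fin r => Ob k 1 1) (h : Function.Surjective (CurveCoh17.hmap k g 0)) (a b : ℕ) :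
    Surj k g (Ob k (a : ℤ) (b : ℤ)) := by
  have h0 : ∀ a : ℕ, Surj k g (Ob k (a : ℤ) 0) := fun a => by
    induction a with
    | zero =>
      obtain ⟨z⟩ := nonempty_Ob_zero k
      exact surj_of_iso k g eP z.symm (surj_structure k g h)
    | succ a ih =>
      obtain ⟨u⟩ := nonempty_pull_fst k (-1)
      obtain ⟨v⟩ := nonempty_pull_fst k 1
      obtain ⟨s⟩ := nonempty_Ob_tensor k (-1) 0 (a : ℤ) 0
      obtain ⟨s'⟩ := nonempty_Ob_tensor k (-1 + (a : ℤ)) (0 + 0) 1 1
      obtain ⟨w⟩ := nonempty_Ob_tensor k 1 0 (a : ℤ) 0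
      have hv := (CurveCoh17.hequiv k (M2.tensorIso (M2.tensorIso u (Iso.refl _) ≪≫ s) (Iso.refl _) ≪≫ s') 1).toEquiv.subsingleton_congr.2
        (subsingleton_Ob k _ _ 1 fun p hp => by omega)
      exact surj_of_iso k g eP (M2.tensorIso v (Iso.refl _) ≪≫ w ≪≫ eqToIso (by push_cast; simp [add_comm]))
        (surj_step k (p₁ k) g eP (isInvertible_Ob k _ _) (isInvertible_Ob k 1 1) ih hv)
  induction b with
  | zero => exact h0 a
  | succ b ih =>
    obtain ⟨u⟩ := nonempty_pull_snd k (-1)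
    obtain ⟨v⟩ := nonempty_pull_snd k 1
    obtain ⟨s⟩ := nonempty_Ob_tensor k 0 (-1) (a : ℤ) (b : ℤ)
    obtain ⟨s'⟩ := nonempty_Ob_tensor k (0 + (a : ℤ)) (-1 + (b : ℤ)) 1 1
    obtain ⟨w⟩ := nonempty_Ob_tensor k 0 1 (a : ℤ) (b : ℤ)
    have hv := (CurveCoh17.hequiv k (M2.tensorIso (M2.tensorIso u (Iso.refl _) ≪≫ s) (Iso.refl _) ≪≫ s') 1).toEquiv.subsingleton_congr.2
      (subsingleton_Ob k _ _ 1 fun p hp => by omega)
    exact surj_of_iso k g eP (M2.tensorIso v (Iso.refl _) ≪≫ w ≪≫ eqToIso (by push_cast; simp [add_comm]))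
      (surj_step k (p₂ k) g eP (isInvertible_Ob k _ _) (isInvertible_Ob k 1 1) ih hv)

theorem sub_coprod (k : Type u) [Field k] {A : (XX k).Modules} {r : ℕ} {a b : ℤ}
    (e : A ≅ ∐ fun _ : Fin r => Ob k a b) (c d : ℤ) (n : ℕ)
    (h : Subsingleton (Coh.HH (XX k) (Ob k (a + c) (b + d)) n)) :
    Subsingleton (Coh.HH (XX k) (CohB1.tensorMod A (Ob k c d)) n) := by
  obtain ⟨s⟩ := nonempty_Ob_tensor k a b c d
  exact subsingleton_tensor_coprod k e ((CurveCoh17.hequiv k s n).toEquiv.subsingleton_congr.2 h)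

theorem rank_coprod (k : Type u) [Field k] {A : (XX k).Modules} {r : ℕ} {a b : ℕ}
    (e : A ≅ ∐ fun _ : Fin r => Ob k (a : ℤ) (b : ℤ)) :
    Module.finrank k (Coh.HH (XX k) A 0) = r * ((a + 1) * (b + 1)) := by
  haveI : HasFiniteBiproducts (XX k).Modules := Abelian.hasFiniteBiproducts
  haveI : Module.Finite k (Coh.HH (XX k) (Ob k (a : ℤ) (b : ℤ)) 0) :=
    Module.finite_of_finrank_pos (by rw [h0_Ob_eq]; positivity)
  rw [(CurveCoh17.hequiv k (e ≪≫ (biproduct.isoCoproduct _).symm) 0).finrank_eq, CMReg18.biproduct_finrank,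
    Module.finrank_pi_fintype, Finset.sum_const, Finset.card_univ, Fintype.card_fin, smul_eq_mul, h0_Ob_eq]


end

open CategoryTheory CategoryTheory.Limits AlgebraicGeometry TopologicalSpace in
/-- Let k be an algebraically closed field of characteristic zero and X = P¹_k ×_k P¹_k the smooth
quadric surface, O(a, b) = pr₁^*O(a) ⊗ pr₂^*O(b), polarised by the anticanonical module H = O(2, 2)
(which embeds X in P⁸). Let r ≥ 2 and let m : Q₁ ⊞ Q₂ → P be an epimorphism of O_X-modules with Q₁ ≅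
O(1,0)^r, Q₂ ≅ O(0,1)^r and P ≅ O(1,1)^r whose induced map H^0(X, Q₁ ⊞ Q₂) → H^0(X, P) is
surjective, and F = ker m (a vector bundle of rank r). Then H^0(X, F) = 0, H^1(X, F) = 0, H^2(X, F ⊗
O(−2,−2)) = 0, and H^1(X, F ⊗ O(2t, 2t)) = 0 for every t ∈ ℤ. (The published statement says that
E(H) is an initialized Ulrich bundle for E = F^∨; by Serre duality on X, whose canonical module is
O(−2,−2), its vanishing part, that E has no intermediate cohomology in any twist by H, is equivalent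
to the H^1-vanishings stated here, and its statement that E is initialized, H^0(X, E) = 0, to the
H^2-vanishing; the argument establishes the vanishings for F and for E symmetrically; the count
h^0(E(H)) = 8r is not restated.) -/
theorem result (k : Type u) [Field k] [IsAlgClosed k] [CharZero k]
    (r : ℕ) (hr : 2 ≤ r) (Q₁ Q₂ P₂ : (pullback (CohB1.ProjSpace.toSpec 1 k) (CohB1.ProjSpace.toSpec 1 k)).Modules)
    (hQ₁ : Nonempty (Q₁ ≅ ∐ fun _ : Fin r => CohB1.tensorMod
        ((Scheme.Modules.pullback (pullback.fst (CohB1.ProjSpace.toSpec 1 k) (CohB1.ProjSpace.toSpec 1 k))).obj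
          (Twist.twistProjSpace 1 k (1)))
        ((Scheme.Modules.pullback (pullback.snd (CohB1.ProjSpace.toSpec 1 k) (CohB1.ProjSpace.toSpec 1 k))).obj
          (Twist.twistProjSpace 1 k (0)))))
    (hQ₂ : Nonempty (Q₂ ≅ ∐ fun _ : Fin r => CohB1.tensorMod
        ((Scheme.Modules.pullback (pullback.fst (CohB1.ProjSpace.toSpec 1 k) (CohB1.ProjSpace.toSpec 1 k))).obj
          (Twist.twistProjSpace 1 k (0)))
        ((Scheme.Modules.pullback (pullback.snd (CohB1.ProjSpace.toSpec 1 k) (CohB1.ProjSpace.toSpec 1 k))).obj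
          (Twist.twistProjSpace 1 k (1)))))
    (hP₂ : Nonempty (P₂ ≅ ∐ fun _ : Fin r => CohB1.tensorMod
        ((Scheme.Modules.pullback (pullback.fst (CohB1.ProjSpace.toSpec 1 k) (CohB1.ProjSpace.toSpec 1 k))).obj
          (Twist.twistProjSpace 1 k (1)))
        ((Scheme.Modules.pullback (pullback.snd (CohB1.ProjSpace.toSpec 1 k) (CohB1.ProjSpace.toSpec 1 k))).obj
          (Twist.twistProjSpace 1 k (1)))))
    (m : Q₁ ⊞ Q₂ ⟶ P₂) [Epi m]
    (hm0 : Function.Surjective (Sheaf.H.map ((SheafOfModules.toSheaf _).map m) 0)) :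
    Subsingleton (Coh.HH _ (kernel m) 0) ∧ Subsingleton (Coh.HH _ (kernel m) 1) ∧
      Subsingleton (Coh.HH _ (CohB1.tensorMod (kernel m) (CohB1.tensorMod
        ((Scheme.Modules.pullback (pullback.fst (CohB1.ProjSpace.toSpec 1 k) (CohB1.ProjSpace.toSpec 1 k))).obj
          (Twist.twistProjSpace 1 k (-2)))
        ((Scheme.Modules.pullback (pullback.snd (CohB1.ProjSpace.toSpec 1 k) (CohB1.ProjSpace.toSpec 1 k))).obj
          (Twist.twistProjSpace 1 k (-2))))) 2) ∧
      ∀ t : ℤ, Subsingleton (Coh.HH _ (CohB1.tensorMod (kernel m) (CohB1.tensorMod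
        ((Scheme.Modules.pullback (pullback.fst (CohB1.ProjSpace.toSpec 1 k) (CohB1.ProjSpace.toSpec 1 k))).obj
          (Twist.twistProjSpace 1 k (2 * t)))
        ((Scheme.Modules.pullback (pullback.snd (CohB1.ProjSpace.toSpec 1 k) (CohB1.ProjSpace.toSpec 1 k))).obj
          (Twist.twistProjSpace 1 k (2 * t))))) 1) := by
  obtain ⟨e₁⟩ := hQ₁
  obtain ⟨e₂⟩ := hQ₂
  obtain ⟨eP⟩ := hP₂
  have hm : Function.Surjective (CurveCoh17.hmap k m 0) := hm0
  have hQ : ∀ (c d : ℤ) (n : ℕ), Subsingleton (Coh.HH (XX k) (Ob k (1 + c) (0 + d)) n) →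
      Subsingleton (Coh.HH (XX k) (Ob k (0 + c) (1 + d)) n) →
      Subsingleton (Coh.HH (XX k) (CohB1.tensorMod (Q₁ ⊞ Q₂) (Ob k c d)) n) := fun c d n h₁ h₂ =>
    subsingleton_tensor_biprod k (sub_coprod k e₁ c d n h₁) (sub_coprod k e₂ c d n h₂)
  refine ⟨?_, ?_, ?_, fun t => ?_⟩
  · haveI : HasFiniteBiproducts (XX k).Modules := Abelian.hasFiniteBiproducts
    let f₁ : Coh.HH (XX k) (Q₁ ⊞ Q₂) 0 →ₗ[k] Coh.HH (XX k) Q₁ 0 × Coh.HH (XX k) Q₂ 0 :=
      (CurveCoh17.hmap k biprod.fst 0).prod (CurveCoh17.hmap k biprod.snd 0)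
    have htot : ∀ x, CurveCoh17.hmap k (biprod.inl : Q₁ ⟶ Q₁ ⊞ Q₂) 0 (f₁ x).1 +
        CurveCoh17.hmap k (biprod.inr : Q₂ ⟶ Q₁ ⊞ Q₂) 0 (f₁ x).2 = x := fun x => by
      show CurveCoh17.hmap k (biprod.inl : Q₁ ⟶ Q₁ ⊞ Q₂) 0 (CurveCoh17.hmap k biprod.fst 0 x) +
        CurveCoh17.hmap k (biprod.inr : Q₂ ⟶ Q₁ ⊞ Q₂) 0 (CurveCoh17.hmap k biprod.snd 0 x) = x
      rw [← CurveCoh17.hmap_comp, ← CurveCoh17.hmap_comp, ← CMReg18.hmap_add, biprod.total, CurveCoh17.hmap_id]
    have hbij : Function.Bijective f₁ := by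
      refine ⟨fun x y h => by rw [← htot x, ← htot y, h], fun z => ⟨CurveCoh17.hmap k biprod.inl 0 z.1 +
        CurveCoh17.hmap k biprod.inr 0 z.2, ?_⟩⟩
      refine Prod.ext ?_ ?_
      · show CurveCoh17.hmap k biprod.fst 0 _ = z.1
        rw [map_add, ← CurveCoh17.hmap_comp, ← CurveCoh17.hmap_comp, biprod.inl_fst, biprod.inr_fst,
          CurveCoh17.hmap_id, CurveCoh17.hmap_zero, add_zero]
      · show CurveCoh17.hmap k biprod.snd 0 _ = z.2
        rw [map_add, ← CurveCoh17.hmap_comp, ← CurveCoh17.hmap_comp, biprod.inl_snd, biprod.inr_snd,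
          CurveCoh17.hmap_id, CurveCoh17.hmap_zero, zero_add]
    have r₁ := rank_coprod k (a := 1) (b := 0) e₁
    have r₂ := rank_coprod k (a := 0) (b := 1) e₂
    have r₃ := rank_coprod k (a := 1) (b := 1) eP
    haveI : Module.Finite k (Coh.HH (XX k) Q₁ 0) := Module.finite_of_finrank_pos (by omega)
    haveI : Module.Finite k (Coh.HH (XX k) Q₂ 0) := Module.finite_of_finrank_pos (by omega)
    haveI : Module.Finite k (Coh.HH (XX k) P₂ 0) := Module.finite_of_finrank_pos (by omega)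
    let E := LinearEquiv.ofBijective f₁ hbij
    haveI : Module.Finite k (Coh.HH (XX k) (Q₁ ⊞ Q₂) 0) := Module.Finite.equiv E.symm
    have hdim : Module.finrank k (Coh.HH (XX k) (Q₁ ⊞ Q₂) 0) = Module.finrank k (Coh.HH (XX k) P₂ 0) := by
      rw [E.finrank_eq, Module.finrank_prod, r₁, r₂, r₃]; ring
    have hinj : Function.Injective (CurveCoh17.hmap k m 0) :=
      (LinearMap.injective_iff_surjective_of_finrank_eq_finrank hdim).2 hm
    let S : ShortComplex (XX k).Modules := ShortComplex.mk (kernel.ι m) m (kernel.condition m)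
    have hS : S.ShortExact := ShortComplex.ShortExact.mk' (ShortComplex.exact_kernel m) inferInstance ‹_›
    refine subsingleton_of_forall_eq 0 fun x => CurveCoh17.hmap_f_injective k hS ?_
    rw [map_zero]
    refine hinj ?_
    rw [map_zero]
    exact (CurveCoh17.exact_hmap_hmap k hS 0).apply_apply_eq_zero x
  · obtain ⟨z⟩ := nonempty_Ob_zero k
    exact (CurveCoh17.hequiv k (M2.tensorIso (Iso.refl (kernel m)) z ≪≫ M2.tensorRUnit _) 1).toEquiv.subsingleton_congr.1
      (kernel_h1 k m (isInvertible_Ob k 0 0) (surj_Ob k m eP hm 0 0)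
        (hQ 0 0 1 (subsingleton_Ob k _ _ 1 fun p hp => by omega) (subsingleton_Ob k _ _ 1 fun p hp => by omega)))
  · exact kernel_h2 k m (isInvertible_Ob k (-2) (-2))
      (sub_coprod k eP (-2) (-2) 1 (subsingleton_Ob k _ _ 1 fun p hp => by omega))
      (hQ (-2) (-2) 2 (subsingleton_Ob k _ _ 2 fun p hp => by omega) (subsingleton_Ob k _ _ 2 fun p hp => by omega))
  · refine kernel_h1 k m (isInvertible_Ob k (2 * t) (2 * t)) ?_
      (hQ (2 * t) (2 * t) 1 (subsingleton_Ob k _ _ 1 fun p hp => by omega) (subsingleton_Ob k _ _ 1 fun p hp => by omega))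
    rcases le_or_gt 0 t with ht | ht
    · obtain ⟨s, hs⟩ := Int.eq_ofNat_of_zero_le (show 0 ≤ 2 * t by omega)
      rw [hs]
      exact surj_Ob k m eP hm s s
    · exact surj_of_subsingleton k m (sub_coprod k eP (2 * t) (2 * t) 0 (subsingleton_Ob k _ _ 0 fun p hp => by omega))

end Groth.Agent.S18627
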