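import Groth.Statements.S1863
import Groth.Agent.Lib.Cyc26.DivFun
-- import your own Groth.Agent.* helpers here

set_option autoImplicit false
universe u
open CategoryTheory AlgebraicGeometry
open Cyc

namespace Groth.Agent.S1863

/-- Let U ⊆ X be open and α, β k-cycles on X whose restrictions to U are rationally equivalent on U (for
the restricted dimension function). Then there is a k-cycle γ on X vanishing on U with α rationally
equivalent to β + γ. Here a pair (X, δ) with Cyc.IsSetup plays the role of a scheme locally of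
finite type over a fixed base with a dimension function (X locally Noetherian with universally
catenary local rings, δ a dimension function). -/
theorem result (X : Scheme.{u}) (δ : X → ℤ) (hX : Cyc.IsSetup X δ) (U : X.Opens) (k : ℤ) (α β : AlgebraicCycle X ℤ) (hα : α ∈ Cyc.Zk X δ k) (hβ : β ∈ Cyc.Zk X δ k) (αU βU : AlgebraicCycle (↑U : Scheme.{u}) ℤ) (hαU : ∀ u : ↥U, αU u = α (U.ι u)) (hβU : ∀ u : ↥U, βU u = β (U.ι u)) (h : Cyc.RatEquiv (fun u : ↥U => δ (U.ι u)) k αU βU) : ∃ γ : AlgebraicCycle X ℤ, γ ∈ Cyc.Zk X δ k ∧ (∀ x : X, x ∈ U → γ x = 0) ∧ Cyc.RatEquiv δ k α (β + γ) := by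
  haveI := hX.1
  obtain ⟨c, hc, hcU, hck⟩ := Cyc26.exists_extension hX.2.2 U h
  refine ⟨α - β - c, fun x hx => ?_, fun x hx => ?_, ?_⟩
  · simp [hα x hx, hβ x hx, hck x hx]
  · have h1 := hcU ⟨x, hx⟩
    have h2 := hαU ⟨x, hx⟩
    have h3 := hβU ⟨x, hx⟩
    rw [show (αU - βU) ⟨x, hx⟩ = αU ⟨x, hx⟩ - βU ⟨x, hx⟩ from rfl] at h1
    rw [show (α - β - c) x = α x - β x - c x from rfl]
    replace h1 : c x = αU ⟨x, hx⟩ - βU ⟨x, hx⟩ := h1
    replace h2 : αU ⟨x, hx⟩ = α x := h2
    replace h3 : βU ⟨x, hx⟩ = β x := h3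
    omega
  · show Cyc.RatEquivZero δ k _
    have e : α - (β + (α - β - c)) = c := by abel
    rw [e]
    exact hc

end Groth.Agent.S1863
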