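import Groth.Statements.S18631
import Groth.Agent.Lib.LMSimple8.TwistStab
import Groth.Agent.Lib.LMSimple8.Shift
import Groth.Agent.Lib.TensorMod.PicLaw

set_option linter.style.haveILetI false
set_option backward.isDefEq.respectTransparency false
set_option backward.isDefEq.respectTransparency.types false
set_option maxHeartbeats 1600000
-- import your own Groth.Agent.* helpers here

set_option autoImplicit false
universe u
open VBPn

namespace Groth.Agent.S18631

open CategoryTheory CategoryTheory.Limits AlgebraicGeometry TopologicalSpace in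
/-- Let k be an algebraically closed field of characteristic zero and X ⊆ P³_k a smooth integral surface
of degree d ≥ 4: ι : X → P³_k a closed immersion over k whose ideal is that of one form F of degree
d, X proper and smooth over k of dimension 2, polarised by the ample L = ι^*O(1); assume Pic X is
generated by O_X(1), i.e. every invertible O_X-module is isomorphic to ι^*O(n) for some integer n.
Let Z ⊆ X be a closed subscheme with finite support such that H⁰(X, I_Z ⊗ ι^*O(d−2)) = 0, and let 0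
→ O_X → E → I_Z ⊗ ι^*O(d−1) → 0 be a short exact sequence of O_X-modules with E finite locally free
of rank 2. Then E is slope-stable (of dimension 2, with respect to L). (The published statement is
for the rank-2 Ulrich bundles on a general degree-d surface, 4 ≤ d ≤ 15, which come with such a
presentation and vanishing; its argument uses about generality only that Pic X is generated by
O_X(1), and about E only the displayed data; it concludes through the quoted criterion that a rank-2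
bundle on such an X is slope-stable once its normalised twist has no sections.) -/
theorem result (k : Type u) [Field k] [IsAlgClosed k] [CharZero k]
    (X : Scheme.{u}) [X.Over (Spec (CommRingCat.of k))] [AlgebraicGeometry.IsIntegral X]
    [IsProper (X ↘ (Spec (CommRingCat.of k)))] [Smooth (X ↘ (Spec (CommRingCat.of k)))]
    (hdim : topologicalKrullDim X = 2)
    (ι : X ⟶ CohB1.ProjSpace 3 k) [IsClosedImmersion ι] (hιk : ι ≫ CohB1.ProjSpace.toSpec 3 k = X ↘ (Spec (CommRingCat.of k)))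
    (hL : CohB1.IsAmple ((Scheme.Modules.pullback ι).obj (Twist.twistProjSpace 3 k (1))))
    (d : ℕ) (hd : 4 ≤ d) (F : LefPen.Form 3 k d) (hF : ι.ker = LefPen.hypIdeal F)
    (hPic : ∀ M : X.Modules, PicF.IsInvertible M → ∃ n : ℤ, Nonempty (M ≅ ((Scheme.Modules.pullback ι).obj (Twist.twistProjSpace 3 k (n)))))
    (Z : X.IdealSheafData) (hZfin : (Z.support : Set X).Finite)
    (hZ : Subsingleton (Coh.HH X (CohB1.tensorMod (ClSub.idealMod Z) ((Scheme.Modules.pullback ι).obj (Twist.twistProjSpace 3 k ((d : ℤ) - 2)))) 0))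
    (S : ShortComplex X.Modules) (hS : S.ShortExact)
    (h₁ : Nonempty (S.X₁ ≅ Coh.structureModule X))
    (h₃ : Nonempty (S.X₃ ≅ CohB1.tensorMod (ClSub.idealMod Z) ((Scheme.Modules.pullback ι).obj (Twist.twistProjSpace 3 k ((d : ℤ) - 1)))))
    (hE : FlatMod.IsFinLocFreeOfRank 2 S.X₂) :
    ShStab.IsMuStable k X ((Scheme.Modules.pullback ι).obj (Twist.twistProjSpace 3 k (1))) S.X₂ 2 := by
  haveI : IsNoetherian X := CohFound.isNoetherian_of_isProper (X ↘ Spec (CommRingCat.of k))
  letI : PicGrp.Law X := M2.law X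
  let D := (CMReg18.projData k 3).pullback ι
  let L := D.O 1
  have hLa : CohB1.IsAmple L := hL
  have hX : Pi1.IsNormalScheme X := RH26.isNormalScheme_of_regular fun x => SurfRR10.regular (k := k) x
  have hU : ∀ x : X, UniqueFactorizationMonoid (X.presheaf.stalk x) := fun x => by
    haveI := SurfRR10.regular (k := k) x
    haveI := Groth.Agent.RegLoc.isDomain (X.presheaf.stalk x)
    exact Groth.Agent.RegLoc.ufd_of_isRegularLocalRing (X.presheaf.stalk x)
  have hpos := ShStab28.positive k hLa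
  let Y := ShStab28.sys k X L hLa.1 hpos
  let V := S.X₂
  have hVc : Coh.IsCoh V := CurveCoh17.isCoh_of_ofRank hE
  have hsp := LMSimple8.injective_sp_of_ofRank hE
  have hVcl : RH26.Closed1 V := (RH26.isReflexive_iff_closed1 hX hVc).1 ((RH26.isReflexive_iff_stalks hVc).2 fun y => by
    obtain ⟨j⟩ := CurveCoh17.nonempty_stalk_equiv hE y
    haveI : Module.Finite (X.presheaf.stalk y) (V.presheaf.stalk y) := Module.Finite.equiv j.symm
    haveI := Module.Free.of_equiv j.symm
    show Module.IsReflexive (X.presheaf.stalk y) (V.presheaf.stalk y)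
    infer_instance)
  obtain ⟨e₁⟩ := h₁
  obtain ⟨e₃⟩ := h₃
  obtain ⟨j, hj, hjd⟩ := LMSimple8.exists_idealTwist_incl (k := k) Z hZfin (D.inv ((d : ℤ) - 1))
  haveI := hj
  let Lm := D.O ((d : ℤ) - 1)
  let incl : S.X₃ ⟶ Lm := e₃.hom ≫ j
  haveI : Mono incl := mono_comp _ _
  have hLmc : Coh.IsCoh Lm := Snapper.isCoh_of_isInvertible (D.inv _)
  have hOc := M1.isCoh_structureModule X
  have hS1c : Coh.IsCoh S.X₁ := CohFound.isCoh_of_iso e₁.symm hOc
  haveI := hS.epi_g
  haveI := hS.mono_f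
  have hNc : Coh.IsCoh S.X₃ := CohFound.isCoh_of_iso
    ((colimit.isColimit _).coconePointUniqueUpToIso hS.exact.gIsCokernel : cokernel S.f ≅ S.X₃)
    (Y.ok_coker S.f hS1c hVc)
  have hP : ShStab.IsPure X V 2 := LMSimple8.isPure_of_injective_sp hsp hdim
  set A := StabCat.alpha 2 (ShStab28.hilb k X L (Coh.structureModule X)) with hA
  set B := StabCat.alpha 1 (ShStab28.hilb k X L (Coh.structureModule X)) with hB
  have hO0 : ¬ IsZero (Coh.structureModule X) := fun hz => by
    haveI : Subsingleton ((Coh.structureModule X).presheaf.stalk (genericPoint X)) :=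
      AddCommGrpCat.subsingleton_of_isZero ((M1.stalkAb (genericPoint X)).map_isZero hz)
    exact RH26.str_one_ne_zero (X := X) (Subsingleton.elim _ _)
  have hsuppO : topologicalKrullDim (CohB1.support (Coh.structureModule X)) = ((2 : ℕ) : WithBot ℕ∞) :=
    LMSimple8.isPure_of_injective_sp (RH26.closed1_structure hX).1 hdim _ (𝟙 _) inferInstance hOc hO0
  have hA0 : 0 < A := ShStab28.alpha_pos (hpos _ hOc 2 hsuppO).1 (hpos _ hOc 2 hsuppO).2
  obtain ⟨hL2, hL1⟩ := LMSimple8.alpha_of_cls (k := k) hLa.1 hdim (M := Lm) (D.inv _) (LMSimple8.cls_twist D _)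
  have hjd' : topologicalKrullDim (CohB1.support (cokernel incl)) ≤ 0 := by
    have e : cokernel incl ≅ cokernel j := cokernelEpiComp e₃.hom j
    have hsub : CohB1.support (cokernel incl) ⊆ CohB1.support (cokernel j) := fun x hx h => hx (by
      haveI : Subsingleton ((M1.stalkAb x).obj (cokernel j)) := h
      exact ((M1.stalkAb x).mapIso e).addCommGroupIsoToAddEquiv.toEquiv.subsingleton)
    exact ((Topology.IsEmbedding.inclusion hsub).isInducing.topologicalKrullDim_le).trans hjd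
  obtain ⟨hN2, hN1⟩ : StabCat.alpha 2 (ShStab28.hilb k X L S.X₃) = A ∧
      StabCat.alpha 1 (ShStab28.hilb k X L S.X₃) = B + ((d : ℤ) - 1 : ℤ) * A := by
    have hQ : Coh.IsCoh (cokernel incl) := Y.ok_coker incl hNc hLmc
    have hd := ShStab28.natDegree_hilb_le k hLa.1 hQ (d := 0) hjd'
    have hsum : ShStab28.hilb k X L Lm = ShStab28.hilb k X L S.X₃ + ShStab28.hilb k X L (cokernel incl) :=
      ShStab28.Sys.hp_mono Y incl hNc hLmc
    have e2 := congrArg (StabCat.alpha 2) hsum
    have e1 := congrArg (StabCat.alpha 1) hsum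
    rw [ShStab28.alpha_add, ShStab28.alpha_eq_zero_of_lt (P := ShStab28.hilb k X L (cokernel incl)) (by omega), hL2] at e2
    rw [ShStab28.alpha_add, ShStab28.alpha_eq_zero_of_lt (P := ShStab28.hilb k X L (cokernel incl)) (by omega), hL1] at e1
    constructor <;> linarith
  have hVsum : ShStab28.hilb k X L V = ShStab28.hilb k X L (Coh.structureModule X) + ShStab28.hilb k X L S.X₃ := by
    rw [ShStab28.hilb_add k hLa.1 hS hS1c hVc hNc, ShStab28.hilb_iso k hLa.1 e₁ hS1c]
  have hV0 : ¬ IsZero V := fun hz => hO0 ((IsZero.iff_id_eq_zero _).2 (Mono.right_cancellation (f := e₁.inv ≫ S.f) _ _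
    (hz.eq_of_tgt _ _)))
  refine ⟨hVc, hV0, hP _ (𝟙 _) inferInstance hVc hV0, fun G g hg hG h => ?_, fun G g hg hG pG pV hpG hpV h0 h1 => ?_⟩
  · by_cases hz : IsZero G
    · haveI : IsEmpty (CohB1.support G) := Set.isEmpty_coe_sort.mpr (Set.eq_empty_of_forall_notMem fun x hx =>
        hx (AddCommGrpCat.subsingleton_of_isZero ((M1.stalkAb x).map_isZero hz)))
      haveI : IsEmpty (TopologicalSpace.IrreducibleCloseds (CohB1.support G)) :=
        ⟨fun s => IsEmpty.false (α := CohB1.support G) s.isIrreducible'.nonempty.some⟩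
      rw [topologicalKrullDim, Order.krullDim_eq_bot] at h
      simp at h
    · rw [hP G g hg hG hz] at h
      exact absurd h (by decide)
  haveI := hg
  rw [(ShStab28.isHilbPoly_iff k hLa.1 hG).1 hpG] at h0 h1 ⊢
  rw [(ShStab28.isHilbPoly_iff k hLa.1 hVc).1 hpV] at h1 ⊢
  have hd4 : (4 : ℚ) ≤ (d : ℚ) := by exact_mod_cast hd
  have hV2 : StabCat.alpha 2 (ShStab28.hilb k X L V) = 2 * A := by
    rw [hVsum, ShStab28.alpha_add, hN2, ← hA]; ring
  have hV1 : StabCat.alpha 1 (ShStab28.hilb k X L V) = 2 * B + ((d : ℚ) - 1) * A := by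
    rw [hVsum, ShStab28.alpha_add, hN1, ← hB]; push_cast; ring
  suffices hmain : ∃ n : ℤ, 2 * n + 2 ≤ (d : ℤ) ∧ StabCat.alpha 2 (ShStab28.hilb k X L G) = A ∧
      StabCat.alpha 1 (ShStab28.hilb k X L G) ≤ B + (n : ℚ) * A by
    obtain ⟨n, hn, h2, h1'⟩ := hmain
    have hn' : 2 * (n : ℚ) + 2 ≤ (d : ℚ) := by exact_mod_cast hn
    show StabCat.alpha 1 (ShStab28.hilb k X L G) / StabCat.alpha 2 (ShStab28.hilb k X L G) <
      StabCat.alpha 1 (ShStab28.hilb k X L V) / StabCat.alpha 2 (ShStab28.hilb k X L V)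
    rw [h2, hV1, hV2, div_lt_div_iff₀ hA0 (by linarith)]
    nlinarith [mul_le_mul_of_nonneg_left h1' hA0.le, mul_le_mul_of_nonneg_right hn' (mul_nonneg hA0.le hA0.le)]
  let u := g ≫ S.g ≫ incl
  have hlift : ∀ {T : X.Modules} (t : T ⟶ G), t ≫ u = 0 →
      ∃ s : T ⟶ Coh.structureModule X, s ≫ e₁.inv ≫ S.f = t ≫ g := fun t ht =>
    ⟨hS.exact.lift (t ≫ g) ((cancel_mono incl).1 (by rw [zero_comp, Category.assoc, Category.assoc]; exact ht)) ≫ e₁.hom,
      by rw [Category.assoc, Iso.hom_inv_id_assoc, hS.exact.lift_f]⟩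
  have hG0 : ¬ IsZero G := fun hz => by
    rw [show ShStab28.hilb k X L G = 0 from ShStab28.Sys.hp_zero Y hz, ShStab28.alpha_zero] at h0
    exact lt_irrefl _ h0
  by_cases hu : u = 0
  · obtain ⟨s, hs⟩ := hlift (𝟙 G) (by rw [Category.id_comp, hu])
    rw [Category.id_comp] at hs
    haveI : Mono (s ≫ e₁.inv ≫ S.f) := hs.symm ▸ hg
    haveI : Mono s := mono_of_mono s (e₁.inv ≫ S.f)
    obtain ⟨a2, a1⟩ := LMSimple8.alpha_ideal (k := k) hdim hLa hG s hG0 hX
    exact ⟨0, by omega, a2, by push_cast; linarith⟩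
  let K := kernel u
  have hK : Coh.IsCoh K := Y.ok_ker u hG hLmc
  have hJ : Coh.IsCoh (Abelian.image u) := ShStab28.Sys.ok_image Y u hG hLmc
  have hsum : ShStab28.hilb k X L G = ShStab28.hilb k X L K + ShStab28.hilb k X L (Abelian.image u) := by
    refine ShStab28.Sys.hp_of_ker Y (kernel.ι u) (Abelian.factorThruImage u) ?_ (fun t ht => ?_) hG hJ
    · rw [← cancel_mono (Abelian.image.ι u), Category.assoc, Abelian.image.fac, kernel.condition, zero_comp]
    · exact ⟨kernel.lift u t (by rw [← Abelian.image.fac u, ← Category.assoc, ht, zero_comp]), kernel.lift_ι _ _ _⟩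
  obtain ⟨L₁, hL₁, β₁, φ₁, -, -, hβ₁, hφ₁, hc₁, -⟩ := LMSimple8.exists_hull' hX hU hJ (D.inv _) (Abelian.image.ι u)
    (ShStab28.Sys.image_ne_zero hu)
  have hJ2 : StabCat.alpha 2 (ShStab28.hilb k X L (Abelian.image u)) = A := by
    refine (LMSimple8.alpha_le_of_generic (k := k) hdim hLa hJ hLmc (Abelian.image.ι u) fun y => ?_).1.trans hL2
    obtain ⟨z, rfl⟩ := hφ₁ y
    obtain ⟨w', rfl⟩ := hβ₁ z
    exact ⟨w', by rw [← hc₁, LMSimple8.stalkMap_comp]⟩
  have hK0 : IsZero K := by
    by_contra hK0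
    obtain ⟨s, hs⟩ := hlift (kernel.ι u) (kernel.condition u)
    haveI : Mono (s ≫ e₁.inv ≫ S.f) := hs.symm ▸ (mono_comp (kernel.ι u) g)
    haveI : Mono s := mono_of_mono s (e₁.inv ≫ S.f)
    have hK2 := (LMSimple8.alpha_ideal (k := k) hdim hLa hK s hK0 hX).1
    rw [hsum, ShStab28.alpha_add, hK2, hJ2, hV2, ← hA] at h1
    linarith
  haveI : Mono u := Preadditive.mono_of_kernel_zero (hK0.eq_of_src _ _)
  obtain ⟨M, hM, β, φ, hβm, hφm, hβ, hφ, hc, hβ1⟩ := LMSimple8.exists_hull' hX hU hG (D.inv _) u hG0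
  haveI := hβm
  haveI := hφm
  have hMc := Snapper.isCoh_of_isInvertible hM
  obtain ⟨n, ⟨en⟩⟩ := hPic M hM
  have hn : PicGrp.cls M hM = PicGrp.cls L (D.inv 1) ^ n :=
    ((PicGrp.cls_eq_cls_iff hM (D.inv n)).2 ⟨en⟩).trans (LMSimple8.cls_twist D n)
  obtain ⟨hM2, hM1⟩ := LMSimple8.alpha_of_cls (k := k) hLa.1 hdim hM hn
  have hle := LMSimple8.alpha_le_of_generic (k := k) hdim hLa hG hMc β hβ
  refine ⟨n, ?_, hle.1.trans hM2, hle.2.trans hM1.le⟩
  -- otherwise the inclusion gives a section of the twisted ideal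
  by_contra hbad
  obtain ⟨m, rfl⟩ : ∃ m : ℕ, n = 1 + (m : ℤ) := ⟨(n - 1).toNat, by omega⟩
  obtain ⟨α, hα⟩ := LMSimple8.exists_ext_hull hVcl β ⟨(M1.mono_iff_stalk β).1 inferInstance _, hβ⟩ hβ1 g
  obtain ⟨c, hc'⟩ := LMSimple8.exists_twist_mono hX D m
  haveI := hc'
  have hBR := Div21F12.r1_of_invertible hX (D.inv ((d : ℤ) - 1)) hLmc
  have hv : (c ≫ en.inv) ≫ α ≫ S.g ≫ e₃.hom ≠ 0 := by
    intro hzero
    have hcη : Function.Surjective (RefHull.stalkMapₗ (c ≫ en.inv) (genericPoint X)) := by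
      have hMR := Div21F12.r1_of_invertible hX hM hMc
      obtain ⟨g₁, hg₁⟩ := (Div21F12.r1_of_invertible hX (D.inv 1) (Snapper.isCoh_of_isInvertible (D.inv 1))).gen
      have hne : RefHull.stalkMapₗ (c ≫ en.inv) (genericPoint X) g₁ ≠ 0 := fun h0 =>
        RH26.ne_zero_of_gen hg₁ ((M1.mono_iff_stalk (c ≫ en.inv)).1 inferInstance _ (h0.trans (map_zero _).symm))
      intro b
      obtain ⟨r, hr⟩ := (RH26.gen_of_ne_zero hMR hne).2 b
      exact ⟨r • g₁, by rw [map_smul]; exact hr⟩
    refine hu (LMSimple8.stalk_eq_zero_of_closed1 hBR.closed u fun a => ?_)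
    show RefHull.stalkMapₗ (g ≫ S.g ≫ e₃.hom ≫ j) _ a = 0
    obtain ⟨z, hz⟩ := hcη (RefHull.stalkMapₗ β _ a)
    have h9 : RefHull.stalkMapₗ ((c ≫ en.inv) ≫ α ≫ S.g ≫ e₃.hom) (genericPoint X) z = 0 := by
      rw [hzero, LMSimple8.stalkMap_zero_apply]
    rw [LMSimple8.stalkMap_comp, LMSimple8.stalkMap_comp, hz, hα, LMSimple8.stalkMap_comp] at h9
    rw [LMSimple8.stalkMap_comp, LMSimple8.stalkMap_comp, LMSimple8.stalkMap_comp, h9, map_zero]
  refine RankTwo11.tensor_ne_zero (M2.tensorComm _ _ ≪≫ D.invIso) hv ?_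
  rw [← cancel_epi D.invIso.inv, comp_zero]
  rw [← cancel_mono ((M2.tensorAssoc _ _ _).hom ≫
    (M2.tensorIso (Iso.refl (ClSub.idealMod Z)) (D.add ((d : ℤ) - 1) (-1) ≪≫ eqToIso (congrArg D.O (show ((d : ℤ) - 1) + -1 = (d : ℤ) - 2 by ring)))).hom),
    zero_comp]
  exact RankTwo11.eq_zero_of_subsingleton hZ _

end Groth.Agent.S18631
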