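import Groth.Statements.S18633
import Groth.Agent.Lib.SurfRR10.Hyper

set_option autoImplicit false
set_option linter.style.haveILetI false
set_option maxHeartbeats 2000000
set_option backward.isDefEq.respectTransparency false
set_option backward.isDefEq.respectTransparency.types false
universe u
open CategoryTheory CategoryTheory.Limits AlgebraicGeometry TopologicalSpace
open Surf

namespace Groth.Agent.S18633

noncomputable local instance instLawS18633 (Y : Scheme.{u}) : PicGrp.Law Y := M2.law Y

/-- Let k be an algebraically closed field of characteristic zero and X a strong del Pezzo surface over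
k: an integral scheme, proper and smooth over k of dimension 2, with canonical module W (a second
exterior power of Ω_{X/k}) and a tensor inverse D of W which is very ample relative to k — there is
a closed immersion ι : X → P^N_k over k with ι^*O(1) ≅ D. Assume H¹(X, O_X) = 0. Then H¹(X, D^{⊗m})
= 0 and H¹(X, W^{⊗m}) = 0 for every m ≥ 0; that is, H¹(X, O_X(m)) = 0 for all m ∈ ℤ in the
anticanonical embedding X ⊆ P^d. (The published statement is that the anticanonically embedded X is
arithmetically Cohen–Macaulay; its argument obtains H¹(X, O_X) = 0 from the rationality of del Pezzo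
surfaces, quoted, and that vanishing is the hypothesis here; the part about H¹ of the twisted ideal
sheaves of X is not restated.) -/
theorem result (k : Type u) [Field k] [IsAlgClosed k] [CharZero k] (X : Scheme.{u})
    [X.Over (Spec (CommRingCat.of k))] [IsIntegral X] [IsProper (X ↘ (Spec (CommRingCat.of k)))] [Smooth (X ↘ (Spec (CommRingCat.of k)))]
    (hdim : topologicalKrullDim X = 2)
    (W : X.Modules) (hW : ExtPow.IsExtPow 2 (Omega.sheaf (X ↘ (Spec (CommRingCat.of k)))) W)
    (D : X.Modules) (hD : ClSub.IsInverseOf D W)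
    (hva : ∃ (N : ℕ) (ι : X ⟶ CohB1.ProjSpace N k), IsClosedImmersion ι ∧
      ι ≫ CohB1.ProjSpace.toSpec N k = X ↘ (Spec (CommRingCat.of k)) ∧
      Nonempty ((Scheme.Modules.pullback ι).obj (Twist.twistProjSpace N k 1) ≅ D))
    (hq : Subsingleton (Coh.HH X (Coh.structureModule X) 1)) (m : ℕ) :
    Subsingleton (Coh.HH X (CohB1.tensorPow D m) 1) ∧ Subsingleton (Coh.HH X (CohB1.tensorPow W m) 1) := by
  have hd := SurfRR10.dim_eq (k := k) hdim
  have hWi : PicF.IsInvertible W := SurfRR10.isInvertible_canonical hdim hW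
  obtain ⟨N, ι, hι1, hι, ⟨e⟩⟩ := hva
  haveI := hι1
  haveI : IsNoetherian X := CohFound.isNoetherian_of_isProper (X ↘ Spec (CommRingCat.of k))
  have hDi : PicF.IsInvertible D :=
    M2.isInvertible_of_iso e (PicLoc.isInvertible_pullback ι (Twist.isInvertible_twistProjSpace N k 1))
  have hamp : CohB1.IsAmple D := Amp.isAmple_of_iso e (NumPoly18.isAmple_pullback_twistProjSpace ι)
  obtain ⟨C, j, hj, hCi, hC, hsm, hI, hinv⟩ := SurfRR10.exists_smooth_hyperplane (k := k) hdim ι hι hDi e.symm
  haveI := hj
  haveI := hCi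
  letI : C.Over (Spec (CommRingCat.of k)) := ⟨j ≫ (X ↘ Spec (CommRingCat.of k))⟩
  haveI : IsProper (C ↘ Spec (CommRingCat.of k)) := inferInstanceAs (IsProper (j ≫ (X ↘ Spec (CommRingCat.of k))))
  haveI : Smooth (C ↘ Spec (CommRingCat.of k)) := hsm
  have hw : PicGrp.cls W hWi = (PicGrp.cls D hDi)⁻¹ :=
    eq_inv_of_mul_eq_one_right ((PicGrp.cls_mul_cls_eq_one_iff hDi hWi).2 hD)
  have hadj := SurfRR10.deg_adjunction (k := k) (SurfRR10.regular (k := k)) hdim hC j rfl hI hDi hinv hW hWi
  rw [hw, map_inv, HypSq10.deg_inv hC, HypSq10.chi_eq hC, HypSq10.deg_one (k := k) hC] at hadj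
  have hdeg : 0 < HypSq10.deg k (Abel10.pc j (PicGrp.cls D hDi)) := by
    rw [← SurfRR10.sdot_curve j rfl hI hDi hinv hd.le]
    have h := NumPoly18.dot_self_pos (k := k) hd hamp
    rw [SurfRR10.dot_eq_sdot (k := k) hdim hDi hDi] at h
    exact_mod_cast h
  have hvan : ∀ i : ℕ, HypSq10.Van 1 (PicGrp.cls D hDi ^ i) := by
    intro i
    induction i with
    | zero =>
      rw [pow_zero]
      exact (CurveCoh17.hequiv k HypSq10.rep_one.some 1).toEquiv.subsingleton
    | succ i ih =>
      rw [pow_succ]
      refine SurfRR10.van_one_of_restrict (k := k) j rfl hI hDi hinv _ ih (HypSq10.van_one_of_deg (k := k) hC ?_)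
      rw [← pow_succ, map_pow, HypSq10.deg_pow (k := k) hC]
      have : 0 < ((i + 1 : ℕ) : ℤ) * HypSq10.deg k (Abel10.pc j (PicGrp.cls D hDi)) :=
        mul_pos (by positivity) hdeg
      linarith
  have hpow : ∀ (L : X.Modules) (hL : PicF.IsInvertible L) (i : ℕ),
      PicGrp.cls (CohB1.tensorPow L i) (M2.isInvertible_tensorPow hL i) = PicGrp.cls L hL ^ i := fun L hL i =>
    Subtype.ext (by rw [PicGrp.cls_pow_val, PicGrp.cls_val])
  refine ⟨HypSq10.subsingleton_of_van (k := k) (M2.isInvertible_tensorPow hDi m) (by rw [hpow D hDi m]; exact hvan m),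
    HypSq10.subsingleton_of_van (k := k) (M2.isInvertible_tensorPow hWi m) ?_⟩
  rw [hpow W hWi m, hw]
  rcases m with _ | m
  · have h := hvan 0
    rwa [pow_zero] at h ⊢
  have h := SurfRR10.finrank_duality hdim hW hWi ((PicGrp.cls D hDi)⁻¹ ^ (m + 1)) (p := 1) (by omega)
  rw [hw, inv_pow, inv_inv, pow_succ, mul_inv_cancel_right] at h
  haveI : Subsingleton (Coh.HH X (HypSq10.rep (PicGrp.cls D hDi ^ m)) (2 - 1)) := hvan m
  rw [Module.finrank_zero_of_subsingleton (M := Coh.HH X (HypSq10.rep (PicGrp.cls D hDi ^ m)) (2 - 1))] at h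
  haveI := SymSq10.finite_hh (k := k) ((PicGrp.cls D hDi ^ m * PicGrp.cls D hDi)⁻¹) 1
  rw [inv_pow, pow_succ]
  exact (Module.finrank_zero_iff (R := k)).1 h

end Groth.Agent.S18633
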