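import Groth.Statements.S18636
import Groth.Agent.Lib.GrLC21.BassShift
import Groth.Agent.Lib.GrLC21.GradedDim
-- import your own Groth.Agent.* helpers here

set_option autoImplicit false
universe u
open GrLC

namespace Groth.Agent.S18636

/-- Let R be a commutative Noetherian ℤ-graded ring, M a graded R-module (not necessarily finitely
generated) and p a prime ideal of R which is not graded; write p* for the largest graded ideal
contained in p (a graded prime). Then μ_0(p, M) = 0 and μ_{i+1}(p, M) = μ_i(p*, M) for every i ≥ 0.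
(Bass numbers μ_i(q, M) are taken as the k(q)-dimension of Ext^i over R_q of k(q) into M_q, as
extended natural numbers; the published text also recalls their description as multiplicities in a
minimal injective resolution, and the two agree over a Noetherian ring.) -/
theorem result (R : Type u) [CommRing R] [IsNoetherianRing R] (𝒜 : ℤ → AddSubgroup R) [GradedRing 𝒜] (M : Type u) [AddCommGroup M] [Module R M] (ℳ : ℤ → AddSubgroup M) [DirectSum.Decomposition ℳ] [SetLike.GradedSMul 𝒜 ℳ] (p : Ideal R) [p.IsPrime] (hp : ¬ Ideal.IsHomogeneous 𝒜 p) [(Ideal.homogeneousCore 𝒜 p).toIdeal.IsPrime] : GrLC.bassNum p M 0 = 0 ∧ ∀ i : ℕ, GrLC.bassNum p M (i + 1) = GrLC.bassNum (Ideal.homogeneousCore 𝒜 p).toIdeal M i := by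
  set c := (Ideal.homogeneousCore 𝒜 p).toIdeal
  have : (p.map (Ideal.Quotient.mk c)).IsPrime :=
    Ideal.isPrime_map_quotientMk_of_isPrime (Groth.Agent.GrLC21.core_le p)
  have hd : (p.map (Ideal.Quotient.mk c)).height = (1 : ℕ) := by
    refine le_antisymm (Groth.Agent.GrLC21.height_map_core_le_one (𝒜 := 𝒜) p) ?_
    refine le_trans ?_ (Ideal.height_add_one_le_of_lt_of_isPrime
      (show (⊥ : Ideal (R ⧸ c)) < p.map (Ideal.Quotient.mk c) from bot_lt_iff_ne_bot.2 fun h => hp ?_))
    · exact le_add_self
    · rw [show p = c from le_antisymm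
        (((Ideal.map_eq_bot_iff_le_ker _).1 h).trans Ideal.mk_ker.le) (Groth.Agent.GrLC21.core_le p)]
      exact Groth.Agent.GrLC21.isHomogeneous_core p
  obtain ⟨h1, h2⟩ := Groth.Agent.GrLC21.bassNum_eq ℳ p 1 hd
  exact ⟨h1 0 Nat.one_pos, h2⟩

end Groth.Agent.S18636
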