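import Groth.Statements.S18637
import Groth.Agent.Lib.GrLC21.Injective

set_option autoImplicit false
set_option backward.isDefEq.respectTransparency false
universe u
open GrLC

namespace Groth.Agent.S18637

/-- Let R be a commutative Noetherian ℤ-graded ring and m a maximal ideal of R which is graded. If e :
R/m → E is a *injective envelope of R/m in the category of graded R-modules (E graded and
*injective, e degree-preserving and injective, every nonzero graded submodule of E meeting the
image), then e is an injective hull of R/m as an ordinary R-module: E is an injective R-module and e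
is an essential injection. -/
theorem result (R : Type u) [CommRing R] [IsNoetherianRing R] (𝒜 : ℤ → AddSubgroup R) [GradedRing 𝒜] (m : HomogeneousIdeal 𝒜) [m.toIdeal.IsMaximal] (E' : Type u) [AddCommGroup E'] [Module R E'] (𝓔 : ℤ → AddSubgroup E') [DirectSum.Decomposition 𝓔] [SetLike.GradedSMul 𝒜 𝓔] (e : (R ⧸ m.toIdeal) →ₗ[R] E') (he : GrLC.IsStarInjHull 𝒜 (GrLC.quotGr 𝒜 m) 𝓔 e) : InjHull.IsInjectiveHull e := by
  refine ⟨⟨he.injective, fun N hN => ?_⟩, GrLC21.injective_starInjHull_maximal he⟩
  obtain ⟨x, hx, h0⟩ := (Submodule.ne_bot_iff _).1 hN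
  obtain ⟨-, r, -, hr, hr0⟩ := GrLC21.exists_smul_of_isStarEss (𝒜 := 𝒜) (GrLC21.spans_quotGr 𝒜 m) he.toIsStarEss x h0
  exact (Submodule.ne_bot_iff _).2 ⟨r • x, ⟨N.smul_mem r hx, hr⟩, hr0⟩

end Groth.Agent.S18637
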