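import Groth.Statements.S1864
import Groth.Agent.Lib.AbRigid.Connected
import Groth.Agent.Lib.AbRigid.GrpTop

set_option autoImplicit false
universe u v
open CategoryTheory MonoidalCategory CartesianMonoidalCategory MonObj GrpObj AlgebraicGeometry
open GrpSch

namespace Groth.Agent.S1864

open Groth.Agent.AbRigid

/-- The inverse of `x ↦ p x⁻¹`. -/
noncomputable def L' {K : Type u} [Field K] (G : Over (Spec (CommRingCat.of K))) [GrpObj G]
    (p : 𝟙_ (Over (Spec (CommRingCat.of K))) ⟶ G) : G ⟶ G := (𝟙 G)⁻¹ * (toUnit G ≫ p)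

set_option backward.isDefEq.respectTransparency false in
theorem components {K : Type u} [Field K] [IsAlgClosed K] (G : Over (Spec (CommRingCat.of K))) [GrpObj G]
    [LocallyOfFiniteType G.hom] :
    (∀ x : G.left, IsOpen (connectedComponent x)) ∧ ∀ x : G.left, IsIrreducible (connectedComponent x) := by
  haveI : JacobsonSpace G.left := LocallyOfFiniteType.jacobsonSpace (Y := Spec _) G.hom
  haveI : IsLocallyNoetherian G.left := LocallyOfFiniteType.isLocallyNoetherian G.hom
  let pt : Spec (CommRingCat.of K) := IsLocalRing.closedPoint K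
  obtain ⟨U, hU, hxU, -⟩ := exists_isAffineOpen_mem_and_subset (X := G.left) (x := η[G].left pt) (U := ⊤) trivial
  haveI : IsNoetherianRing Γ(G.left, U) := IsLocallyNoetherian.component_noetherian ⟨U, hU⟩
  haveI : TopologicalSpace.NoetherianSpace U := noetherianSpace_of_isAffineOpen U hU
  haveI : Nonempty U := ⟨⟨_, hxU⟩⟩
  obtain ⟨V, hVo, hVi⟩ := exists_isOpen_isIrreducible (α := U)
  set V' : Set G.left := Subtype.val '' V
  have hV'o : IsOpen V' := U.isOpen.isOpenEmbedding_subtypeVal.isOpenMap V hVo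
  have hV'i : IsIrreducible V' := hVi.image _ continuous_subtype_val.continuousOn
  obtain ⟨p, hp, hpc⟩ := nonempty_inter_closedPoints hV'i.1 hV'o.isLocallyClosed
  have cover : ∀ x : G.left, IsClosed ({x} : Set G.left) →
      ∃ W : Set G.left, IsOpen W ∧ IsIrreducible W ∧ x ∈ W := by
    intro x hx
    let x' : 𝟙_ (Over (Spec (CommRingCat.of K))) ⟶ G := Over.homMk (pointOfClosedPoint G.hom x hx) (by simp)
    let p' : 𝟙_ (Over (Spec (CommRingCat.of K))) ⟶ G := Over.homMk (pointOfClosedPoint G.hom p hpc) (by simp)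
    let τ := (GrpObj.mulRight x').symm ≪≫ GrpObj.mulRight p'
    have h : x' ≫ τ.hom = p' := by
      dsimp only [Iso.trans_hom, Iso.symm_hom, τ]
      rw [← Category.assoc, ← Iso.eq_comp_inv]
      simp [x', comp_lift_assoc]
    have hτ : τ.hom.left x = p := by simpa [x', p', pt] using congr(($h).left pt)
    haveI : IsIso τ.hom.left := Functor.map_isIso (Over.forget _) τ.hom
    exact ⟨τ.hom.left ⁻¹' V', hV'o.preimage τ.hom.left.continuous,
      ⟨⟨x, by rw [Set.mem_preimage, hτ]; exact hp⟩, hV'i.2.preimage τ.hom.left.isOpenEmbedding⟩,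
      by rw [Set.mem_preimage, hτ]; exact hp⟩
  have hall : ∀ z : G.left, ∃ W : Set G.left, IsOpen W ∧ IsIrreducible W ∧ z ∈ W := by
    intro z
    obtain ⟨x, hxz, hxc⟩ := nonempty_inter_closedPoints (⟨z, subset_closure rfl⟩ : (closure ({z} : Set G.left)).Nonempty)
      isClosed_closure.isLocallyClosed
    obtain ⟨W, hWo, hWi, hxW⟩ := cover x hxc
    exact ⟨W, hWo, hWi, (specializes_iff_mem_closure.2 hxz).mem_open hWo hxW⟩
  choose W hWo hWi hzW using hall
  have hopen : ∀ x : G.left, IsOpen (connectedComponent x) := fun x => by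
    rw [isOpen_iff_forall_mem_open]
    intro z hz
    refine ⟨W z, ?_, hWo z, hzW z⟩
    rw [connectedComponent_eq hz]
    exact (hWi z).isConnected.isPreconnected.subset_connectedComponent (hzW z)
  refine ⟨hopen, fun x => ?_⟩
  haveI : ConnectedSpace ↥(connectedComponent x) := Subtype.connectedSpace isConnected_connectedComponent
  have hWC : ∀ z : ↥(connectedComponent x), W z.1 ⊆ connectedComponent x := fun z => by
    refine Set.Subset.trans ?_ (connectedComponent_eq z.2).ge
    exact (hWi z.1).isConnected.isPreconnected.subset_connectedComponent (hzW z.1)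
  haveI := irreducibleSpace_of_cover (α := ↥(connectedComponent x)) (fun z => Subtype.val ⁻¹' W z.1)
    (fun z => (hWo z.1).preimage continuous_subtype_val)
    (fun z => ⟨⟨z, by exact hzW z.1⟩, (hWi z.1).2.preimage (hopen x).isOpenEmbedding_subtypeVal⟩)
    (Set.eq_univ_of_forall fun z => Set.mem_iUnion.2 ⟨z, by exact hzW z.1⟩)
  exact isIrreducible_iff_irreducibleSpace.2 ‹_›


/-- Let G be a group scheme locally of finite type over an algebraically closed field and g₁, …, g_n
finitely many closed points of G. Then some affine open of G contains all the g_i. -/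
theorem result (K : Type u) [Field K] [IsAlgClosed K] (G : Over (Spec (CommRingCat.of K))) [GrpObj G] [LocallyOfFiniteType G.hom] (n : ℕ) (g : Fin n → G.left) (hg : ∀ i, IsClosed ({g i} : Set G.left)) : ∃ U : G.left.Opens, IsAffineOpen U ∧ ∀ i, g i ∈ U := by
  classical
  haveI : JacobsonSpace G.left := LocallyOfFiniteType.jacobsonSpace (Y := Spec _) G.hom
  let pt : Spec (CommRingCat.of K) := IsLocalRing.closedPoint K
  let P : ∀ x : G.left, IsClosed ({x} : Set G.left) → (𝟙_ (Over (Spec (CommRingCat.of K))) ⟶ G) := fun x hx =>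
    Over.homMk (pointOfClosedPoint G.hom x hx) (by simp)
  have hPpt : ∀ x hx, (P x hx).left pt = x := fun x hx => by simp [P, pt]
  obtain ⟨hcomp_open, hcomp_irr⟩ := components G
  -- one affine open inside each component met by the points
  have hV : ∀ i, ∃ V : G.left.Opens, IsAffineOpen V ∧ g i ∈ V ∧ (V : Set G.left) ⊆ connectedComponent (g i) := fun i => by
    obtain ⟨V, hV, hgV, hVC⟩ := exists_isAffineOpen_mem_and_subset (X := G.left) (x := g i)
      (U := ⟨connectedComponent (g i), hcomp_open (g i)⟩) mem_connectedComponent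
    exact ⟨V, hV, hgV, hVC⟩
  choose V hVa hgV hVC using hV
  let r : Fin n → Fin n := fun i =>
    @Function.invFun _ _ ⟨i⟩ (fun j => connectedComponent (g j)) (connectedComponent (g i))
  have hr : ∀ i, connectedComponent (g (r i)) = connectedComponent (g i) := fun i =>
    @Function.invFun_eq _ _ ⟨i⟩ (fun j => connectedComponent (g j)) _ ⟨i, rfl⟩
  have hr' : ∀ i j, connectedComponent (g i) = connectedComponent (g j) → r i = r j := by
    intro i j hij
    simp only [r, hij]
  let U₀ : G.left.Opens := ⨆ j : Set.range r, V j.1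
  have hU₀ : IsAffineOpen U₀ := IsAffineOpen.iSup_of_disjoint (fun j => hVa _) fun j l hjl => by
    show Disjoint (V j.1) (V l.1)
    rw [disjoint_iff_inf_le]
    intro z hz
    exfalso
    apply hjl
    obtain ⟨⟨_, i, rfl⟩, ⟨_, i', rfl⟩⟩ := j, l
    have h := (connectedComponent_eq (hVC _ hz.1)).trans (connectedComponent_eq (hVC _ hz.2)).symm
    rw [hr, hr] at h
    exact Subtype.ext (hr' i i' h)
  -- the component of the unit and the condition on the translation
  set e : G.left := η[G].left pt
  let L : Fin n → (G ⟶ G) := fun i => (toUnit G ≫ P (g i) (hg i)) * (𝟙 G)⁻¹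
  have hL : ∀ i, L i ≫ L' G (P (g i) (hg i)) = 𝟙 G := fun i => by
    simp only [L, L', MonObj.comp_mul, GrpObj.comp_inv, Category.comp_id, reassoc_of% toUnit_unique
      (((toUnit G ≫ P (g i) (hg i)) * (𝟙 G)⁻¹) ≫ toUnit G) (toUnit G)]
    rw [_root_.mul_inv_rev, _root_.inv_inv, inv_mul_cancel_right]
  have hL' : ∀ i, L' G (P (g i) (hg i)) ≫ L i = 𝟙 G := fun i => by
    simp only [L, L', MonObj.comp_mul, GrpObj.comp_inv, Category.comp_id, reassoc_of% toUnit_unique
      (((𝟙 G)⁻¹ * (toUnit G ≫ P (g i) (hg i))) ≫ toUnit G) (toUnit G)]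
    rw [_root_.mul_inv_rev, _root_.inv_inv, mul_inv_cancel_left]
  have hopen : ∀ i, IsOpen ((L i).left '' (V (r i) : Set G.left)) := fun i => by
    haveI : IsIso (L i) := ⟨L' G (P (g i) (hg i)), hL i, hL' i⟩
    haveI : IsIso (L i).left := Functor.map_isIso (Over.forget _) (L i)
    exact (L i).left.isOpenEmbedding.isOpenMap _ (V (r i)).isOpen
  have hsub : ∀ i, (L i).left '' (V (r i) : Set G.left) ⊆ connectedComponent e := fun i => by
    rintro _ ⟨z, hz, rfl⟩
    have h1 : (L i).left '' connectedComponent (g i) ⊆ connectedComponent ((L i).left (g i)) :=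
      (L i).left.continuous.image_connectedComponent_subset (g i)
    have h2 : (L i).left (g i) = e := by
      have h : P (g i) (hg i) ≫ L i = η[G] := by
        simp only [L, MonObj.comp_mul, GrpObj.comp_inv, Category.comp_id]
        rw [← Category.assoc, toUnit_unique (P (g i) (hg i) ≫ toUnit G) (𝟙 _), Category.id_comp, mul_inv_cancel]
        exact Hom.one_def.trans (by rw [toUnit_unique (toUnit _) (𝟙 _), Category.id_comp])
      have h' := congr(($h).left pt)
      rwa [left_comp_apply, hPpt] at h'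
    rw [← h2]
    exact h1 ⟨z, hr i ▸ hVC (r i) hz, rfl⟩
  -- choose the translation
  obtain ⟨h, hh, hhc⟩ : ∃ h : G.left, (∀ i, h ∈ (L i).left '' (V (r i) : Set G.left)) ∧ IsClosed ({h} : Set G.left) := by
    have key : ∀ s : Finset (Fin n), ((connectedComponent e) ∩ ⋂ i ∈ s, (L i).left '' (V (r i) : Set G.left)).Nonempty := by
      intro s
      induction s using Finset.induction_on with
      | empty => exact ⟨e, mem_connectedComponent, by simp⟩
      | insert i s _ ih =>
        rw [Finset.set_biInter_insert, Set.inter_comm ((L i).left '' _)]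
        exact (hcomp_irr e).2 _ _ (isOpen_biInter_finset fun j _ => hopen j) (hopen i) ih
          ⟨_, hsub i ⟨g (r i), hgV _, rfl⟩, ⟨g (r i), hgV _, rfl⟩⟩
    obtain ⟨h, hmem, hhc⟩ := nonempty_inter_closedPoints (key Finset.univ)
      ((hcomp_open e).inter (isOpen_biInter_finset fun j _ => hopen j)).isLocallyClosed
    exact ⟨h, fun i => Set.mem_iInter₂.1 hmem.2 i (Finset.mem_univ i), hhc⟩
  -- the translate
  let M : G ⟶ G := (toUnit G ≫ P h hhc) * 𝟙 G
  haveI : IsIso M := ⟨(toUnit G ≫ P h hhc)⁻¹ * 𝟙 G,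
    by simp [M, MonObj.comp_mul, GrpObj.comp_inv, reassoc_of% toUnit_unique (((toUnit G ≫ P h hhc) * 𝟙 G) ≫ toUnit G) (toUnit G)],
    by simp [M, MonObj.comp_mul, GrpObj.comp_inv, reassoc_of% toUnit_unique (((toUnit G ≫ P h hhc)⁻¹ * 𝟙 G) ≫ toUnit G) (toUnit G)]⟩
  haveI : IsIso M.left := Functor.map_isIso (Over.forget _) M
  refine ⟨M.left ''ᵁ U₀, hU₀.image_of_isOpenImmersion _, fun i => ?_⟩
  obtain ⟨v, hv, hvh⟩ := hh i
  have hvc : IsClosed ({v} : Set G.left) := by
    haveI : IsIso (L i) := ⟨L' G (P (g i) (hg i)), hL i, hL' i⟩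
    haveI : IsIso (L i).left := Functor.map_isIso (Over.forget _) (L i)
    have : ({v} : Set G.left) = (L i).left ⁻¹' {h} := by
      ext w
      exact ⟨fun hw => hw ▸ hvh, fun hw => (L i).left.isOpenEmbedding.injective ((hw : _ = h).trans hvh.symm)⟩
    rw [this]; exact hhc.preimage (L i).left.continuous
  refine ⟨v, TopologicalSpace.Opens.mem_iSup.2 ⟨⟨r i, i, rfl⟩, hv⟩, ?_⟩
  have hpt : P v hvc ≫ L i = P h hhc := by
    apply Over.OverMorphism.ext
    refine ext_of_apply_closedPoint_eq G.hom (Over.w _) (Over.w _) ?_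
    rw [left_comp_apply, hPpt, hvh, hPpt]
  have hfin : P v hvc ≫ M = P (g i) (hg i) := by
    have e1 : P (g i) (hg i) * (P v hvc)⁻¹ = P h hhc := by
      rw [← hpt]; simp only [L, MonObj.comp_mul, GrpObj.comp_inv, Category.comp_id]
      rw [← Category.assoc, toUnit_unique (P v hvc ≫ toUnit G) (𝟙 _), Category.id_comp]
    simp only [M, MonObj.comp_mul, Category.comp_id]
    rw [← Category.assoc, toUnit_unique (P v hvc ≫ toUnit G) (𝟙 _), Category.id_comp, ← e1, inv_mul_cancel_right]
  have := congr(($hfin).left pt)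
  rw [left_comp_apply, hPpt, hPpt] at this
  exact this

end Groth.Agent.S1864
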