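import Groth.Statements.S18642
import Groth.Agent.Lib.Ver21.Gor
import Groth.Agent.S18656
-- import your own Groth.Agent.* helpers here

set_option autoImplicit false
universe u
open GrLC

namespace Groth.Agent.S18642

/-- Let R be a graded ring defined over a field which is Cohen–Macaulay and generated over R_0 by R_1,
with dim R ≥ 2, and let q ≥ 1. If the Veronese subring R^(q) is a Gorenstein ring, then R is a
Gorenstein ring and q divides the a-invariant a(R). Here 'graded ring defined over a field' means R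
= ⊕_{n ≥ 0} R_n is Noetherian with R_0 a field, and m = R_+ is its unique graded maximal ideal. The
a-invariant a(R) is the largest degree in which the graded local cohomology H^n_m(R) (n = dim R, m =
R_+), computed from a *injective resolution of R in the graded category, is nonzero. The Veronese
subring R^(q) = ⊕_j R_{jq}, regraded by (R^(q))_j = R_{jq}, is presented abstractly as a ℤ-graded
ring R' with an injective ring homomorphism φ : R' → R carrying R'_j onto R_{jq} for every j. -/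
theorem result (R : Type u) [CommRing R] [LocCoh.IsCohenMacaulayRing R] (𝒜 : ℤ → AddSubgroup R) [GradedRing 𝒜] (hpos : ∀ n : ℤ, n < 0 → 𝒜 n = ⊥) (h0 : IsField (GrLC.deg0 𝒜)) (m : HomogeneousIdeal 𝒜) (hm : GrLC.IsStarLocal 𝒜 m) (hmsp : m.toIdeal = Ideal.span (⋃ n ∈ Set.Ioi (0 : ℤ), (𝒜 n : Set R))) (hstd : Ideal.span (⋃ n ∈ Set.Ioi (0 : ℤ), (𝒜 n : Set R)) = Ideal.span ((𝒜 1 : AddSubgroup R) : Set R)) (n : ℕ) (hn : ringKrullDim R = n) (h2 : 2 ≤ n) (I : GrLC.StarInjRes 𝒜 𝒜) (q : ℕ) (hq : 0 < q) (R' : Type u) [CommRing R'] (𝒜' : ℤ → AddSubgroup R') [GradedRing 𝒜'] (φ : R' →+* R) (hφ : Function.Injective φ) (hdeg : ∀ j : ℤ, (𝒜' j).map (φ : R' →+ R) = 𝒜 (j * q)) [LocCoh.IsGorensteinRing R'] : LocCoh.IsGorensteinRing R ∧ ∃ a : ℤ, GrLC.endDeg (I.Hgr m n) = ((a : WithTop ℤ) : WithBot (WithTop ℤ)) ∧ (q : ℤ) ∣ a := by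
  have hpos' := GrLC21.pos_of_bot hpos
  have Γ : GrLC21.FieldCtx 𝒜 m := ⟨hpos', h0, hm⟩
  have V := Ver21.vdata_of_map hq hφ hdeg
  have p' : ∀ j : ℤ, j < 0 → ∀ r ∈ 𝒜' j, r = 0 := fun j hj r hr => V.inj (by
    rw [map_zero]
    exact hpos' _ (mul_neg_of_neg_of_pos hj (Int.natCast_pos.2 hq)) _ (V.map_mem hr))
  obtain ⟨m', hm', hm'sp⟩ := GrLC21.exists_starMax p' (V.deg0Equiv.toMulEquiv.isField h0)
  have X : Ver21.VCtx 𝒜 𝒜' φ q m m' := ⟨V, hpos', hmsp, hm'sp⟩
  obtain ⟨a, ha⟩ := GrLC21.exists_aInvariant hpos' hm hn I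
  obtain ⟨h1, h2'⟩ := X.gorenstein_and_dvd Γ hm' hstd hn h2 ha fun i hi =>
    S18656.result R 𝒜 hpos h0 m hm hmsp hstd n hn (by omega) I a ha i hi
  exact ⟨h1, a, ha, h2'⟩

end Groth.Agent.S18642
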