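import Groth.Statements.S18654
import Groth.Agent.Lib.GrLC21.CoreHeight
import Groth.Agent.Lib.GrLC21.Pieces
import Groth.Agent.Lib.Depth.CM
import Groth.Agent.Lib.Depth.More
import Mathlib.Algebra.Polynomial.AlgebraMap
-- import your own Groth.Agent.* helpers here

set_option autoImplicit false
universe u
open GrLC

namespace Groth.Agent.S18654

/-- Let R be a graded ring defined over a field k = R_0 which is Cohen–Macaulay and generated over k by
R_1, with dim R ≥ 1, and write H(n, R) = dim_k R_n. Then H(n + 1, R) ≥ H(n, R) for every integer n.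
Here 'graded ring defined over a field' means R = ⊕_{n ≥ 0} R_n is Noetherian with R_0 a field, and
m = R_+ is its unique graded maximal ideal. -/
theorem result (R : Type u) [CommRing R] [LocCoh.IsCohenMacaulayRing R] (𝒜 : ℤ → AddSubgroup R) [GradedRing 𝒜] (hpos : ∀ n : ℤ, n < 0 → 𝒜 n = ⊥) (h0 : IsField (GrLC.deg0 𝒜)) (hstd : Ideal.span (⋃ n ∈ Set.Ioi (0 : ℤ), (𝒜 n : Set R)) = Ideal.span ((𝒜 1 : AddSubgroup R) : Set R)) (h1 : 1 ≤ ringKrullDim R) (n : ℤ) : Module.finrank (GrLC.deg0 𝒜) (GrLC.comp 𝒜 𝒜 n) ≤ Module.finrank (GrLC.deg0 𝒜) (GrLC.comp 𝒜 𝒜 (n + 1)) := by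
  classical
  let fk : Field (GrLC.deg0 𝒜) := h0.toField
  have hgs : SetLike.GradedSMul 𝒜 𝒜 := ⟨fun _ _ _ _ hr hx => SetLike.mul_mem_graded hr hx⟩
  rcases lt_or_ge n 0 with hn | hn
  · have : Subsingleton (GrLC.comp 𝒜 𝒜 n) := ⟨fun a b => Subtype.ext (by
      have ha : (a : R) ∈ 𝒜 n := a.2
      have hb : (b : R) ∈ 𝒜 n := b.2
      rw [hpos n hn, AddSubgroup.mem_bot] at ha hb
      rw [ha, hb])⟩
    rw [Module.finrank_zero_of_subsingleton]
    exact Nat.zero_le _
  let P : Ideal R := Ideal.span ((𝒜 1 : AddSubgroup R) : Set R)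
  have hP1 : ∀ j : ℤ, 0 < j → ∀ x ∈ 𝒜 j, x ∈ P := fun j hj x hx => by
    show x ∈ Ideal.span ((𝒜 1 : AddSubgroup R) : Set R)
    rw [← hstd]
    exact Ideal.subset_span (Set.mem_biUnion (show j ∈ Set.Ioi 0 from hj) hx)
  -- degree one has no common annihilator
  have hann : ∀ c : R, (∀ x ∈ 𝒜 1, x * c = 0) → c = 0 := by
    intro c hc
    by_contra hc0
    obtain ⟨M, hM, hcM⟩ := Ideal.exists_le_maximal ((⊥ : Submodule R R).colon {c}) fun h => by
      have h' : (1 : R) ∈ (⊥ : Submodule R R).colon {c} := by rw [h]; trivial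
      rw [Submodule.mem_colon_singleton, one_smul, Submodule.mem_bot] at h'
      exact hc0 h'
    have hPM : P ≤ M := Ideal.span_le.2 fun x hx => hcM (by
      rw [Submodule.mem_colon_singleton, Submodule.mem_bot]
      exact hc x hx)
    -- every proper homogeneous ideal is inside
    have hle : ∀ I : Ideal R, I.IsHomogeneous 𝒜 → I ≠ ⊤ → I ≤ M := by
      intro I hI hne r hr
      rw [← Groth.Agent.GrLC21.sum_proj 𝒜 r]
      refine sum_mem fun j _ => ?_
      rcases lt_trichotomy j 0 with hj | rfl | hj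
      · have h := Groth.Agent.GrLC21.proj_mem 𝒜 j r
        rw [hpos j hj, AddSubgroup.mem_bot] at h
        rw [h]; exact zero_mem M
      · by_cases h : Groth.Agent.GrLC21.proj 𝒜 0 r = 0
        · rw [h]; exact zero_mem M
        · refine absurd (Ideal.eq_top_of_isUnit_mem _ (hI 0 hr) ?_) hne
          let z : GrLC.deg0 𝒜 := ⟨_, Groth.Agent.GrLC21.proj_mem 𝒜 0 r⟩
          exact (isUnit_iff_ne_zero.2 fun e : z = 0 => h (congrArg Subtype.val e)).map (GrLC.deg0 𝒜).subtype
      · exact hPM (hP1 j hj _ (Groth.Agent.GrLC21.proj_mem 𝒜 j r))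
    have := hM.isPrime
    have hcm := LocCoh.IsCohenMacaulayRing.isCohenMacaulayLocalRing_localization (R := R) M
    have hdim : ringKrullDim (Localization.AtPrime M) = 0 := by
      have h := hcm.supportDim_eq_depth
      rw [Module.supportDim_self_eq_ringKrullDim] at h
      rw [h]
      suffices h' : LocCoh.depth (Localization.AtPrime M) (Localization.AtPrime M) = 0 by rw [h']; rfl
      by_contra hne
      have h1 : (1 : ℕ∞) ≤ LocCoh.depth (Localization.AtPrime M) (Localization.AtPrime M) :=
        Order.one_le_iff_ne_zero.2 hne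
      obtain ⟨z, hz, hreg⟩ := Groth.Agent.DepthLib.exists_isSMulRegular_of_one_le_idealDepth
        (Groth.Agent.DepthLib.smul_top_ne_top (IsLocalRing.maximalIdeal.isMaximal _).ne_top) h1
      obtain ⟨⟨r, s⟩, hrs⟩ := IsLocalization.surj M.primeCompl z
      have hrM : r ∈ M := by
        have h2 := Ideal.mul_mem_right (algebraMap R _ (s : R)) (IsLocalRing.maximalIdeal (Localization.AtPrime M)) hz
        rw [hrs] at h2
        exact (IsLocalization.AtPrime.to_map_mem_maximal_iff _ M r).1 h2
      have hrc : r * c = 0 := by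
        rw [← Groth.Agent.GrLC21.sum_proj 𝒜 r, Finset.sum_mul]
        refine Finset.sum_eq_zero fun j _ => ?_
        rcases lt_trichotomy j 0 with hj | rfl | hj
        · have h := Groth.Agent.GrLC21.proj_mem 𝒜 j r
          rw [hpos j hj, AddSubgroup.mem_bot] at h
          rw [h, zero_mul]
        · by_cases h : Groth.Agent.GrLC21.proj 𝒜 0 r = 0
          · rw [h, zero_mul]
          · refine absurd ?_ hM.ne_top
            refine Ideal.eq_top_of_isUnit_mem _ (x := Groth.Agent.GrLC21.proj 𝒜 0 r) ?_ ?_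
            · have hsub : r - Groth.Agent.GrLC21.proj 𝒜 0 r ∈ M := by
                refine Groth.Agent.GrLC21.spans_induction (Groth.Agent.GrLC21.spans_of_decomposition 𝒜) r (by simp)
                  (fun x y hx hy => by rw [map_add, add_sub_add_comm]; exact add_mem hx hy) fun j x hx => ?_
                rcases lt_trichotomy j 0 with hj | rfl | hj
                · rw [hpos j hj, AddSubgroup.mem_bot] at hx
                  simp [hx]
                · rw [Groth.Agent.GrLC21.proj_of_mem 𝒜 hx, sub_self]; exact zero_mem M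
                · rw [Groth.Agent.GrLC21.proj_of_mem_ne 𝒜 hx (ne_of_gt hj), sub_zero]
                  exact hPM (hP1 j hj x hx)
              have h' := sub_mem hrM hsub
              rwa [sub_sub_cancel] at h'
            · let z : GrLC.deg0 𝒜 := ⟨_, Groth.Agent.GrLC21.proj_mem 𝒜 0 r⟩
              exact (isUnit_iff_ne_zero.2 fun e : z = 0 => h (congrArg Subtype.val e)).map (GrLC.deg0 𝒜).subtype
        · refine Submodule.span_induction (p := fun x _ => x * c = 0) hc (zero_mul c)
            (fun x y _ _ hx hy => by rw [add_mul, hx, hy, add_zero])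
            (fun q x _ hx => by rw [smul_eq_mul, mul_assoc, hx, mul_zero]) (hP1 j hj _ (Groth.Agent.GrLC21.proj_mem 𝒜 j r))
      have hc1 : algebraMap R (Localization.AtPrime M) c = 0 := hreg (by
        show z * algebraMap R _ c = z • (0 : Localization.AtPrime M)
        rw [smul_zero, ← (IsLocalization.map_units (Localization.AtPrime M) s).mul_left_eq_zero, mul_right_comm, hrs,
          ← map_mul, hrc, map_zero])
      obtain ⟨t, ht⟩ := (IsLocalization.map_eq_zero_iff M.primeCompl _ c).1 hc1
      exact t.2 (hcM (by rw [Submodule.mem_colon_singleton, Submodule.mem_bot]; exact ht))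
    rw [IsLocalization.AtPrime.ringKrullDim_eq_height M, ← WithBot.coe_zero, WithBot.coe_inj,
      Ideal.height_eq_zero_iff] at hdim
    -- so there is only one prime
    have hall : ∀ Q : Ideal R, Q.IsPrime → M ≤ Q := by
      intro Q hQ
      have hcp := Groth.Agent.GrLC21.isPrime_core (𝒜 := 𝒜) Q
      exact (hdim.2 ⟨hcp, bot_le⟩ (hle _ (Groth.Agent.GrLC21.isHomogeneous_core Q) hcp.ne_top)).trans
        (Groth.Agent.GrLC21.core_le Q)
    have : Ring.KrullDimLE 0 R := Ring.krullDimLE_zero_iff.2 fun Q hQ =>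
      (hM.eq_of_le hQ.ne_top (hall Q hQ)) ▸ hM
    have h2 : ringKrullDim R ≤ 0 := by
      exact_mod_cast Ring.krullDimLE_iff.1 this
    exact absurd (h1.trans h2) (by decide)
  -- the generic linear form
  have := Groth.Agent.GrLC21.isNoetherian_piece 𝒜 𝒜 (1 : ℤ)
  have := Groth.Agent.GrLC21.isNoetherian_piece 𝒜 𝒜 n
  have := Groth.Agent.GrLC21.isNoetherian_piece 𝒜 𝒜 (n + 1)
  obtain ⟨s, x, hx⟩ := Module.Finite.exists_fin (R := GrLC.deg0 𝒜) (M := GrLC.comp 𝒜 𝒜 (1 : ℤ))
  let L : Polynomial R := ∑ l : Fin s, Polynomial.monomial (l : ℕ) (x l : R)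
  have hL : L ∈ nonZeroDivisors (Polynomial R) := by
    by_contra h
    obtain ⟨c, hc0, hc⟩ := Polynomial.notMem_nonZeroDivisors_iff.1 h
    refine hc0 (hann c fun y hy => ?_)
    have hxl : ∀ l, (x l : R) * c = 0 := fun l => by
      have h' := congrArg (fun q => Polynomial.coeff q (l : ℕ)) hc
      simp only [Polynomial.coeff_smul, Polynomial.coeff_zero, L, Polynomial.finsetSum_coeff,
        Polynomial.coeff_monomial, smul_eq_mul] at h'
      rw [Finset.sum_eq_single l (fun b _ hb => if_neg fun e => hb (Fin.ext e)) (fun h => absurd (Finset.mem_univ l) h),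
        if_pos rfl] at h'
      rw [mul_comm]; exact h'
    have hy' : (⟨y, hy⟩ : GrLC.comp 𝒜 𝒜 (1 : ℤ)) ∈ Submodule.span (GrLC.deg0 𝒜) (Set.range x) := hx ▸ trivial
    refine Submodule.span_induction (p := fun (z : GrLC.comp 𝒜 𝒜 (1 : ℤ)) _ => (z : R) * c = 0) ?_ (zero_mul c)
      (fun a b _ _ ha hb => by rw [Submodule.coe_add, add_mul, ha, hb, add_zero])
      (fun q a _ ha => by
        show ((q : R) * (a : R)) * c = 0
        rw [mul_assoc, ha, mul_zero]) hy'
    rintro _ ⟨l, rfl⟩
    exact hxl l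
  set b := Module.finrank (GrLC.deg0 𝒜) (GrLC.comp 𝒜 𝒜 (n + 1)) with hb
  let N : ℕ := s * b + 1
  have hmem : ∀ (v : Fin N → GrLC.comp 𝒜 𝒜 n) (j : ℕ),
      (L * ∑ i : Fin N, Polynomial.monomial (i : ℕ) (v i : R)).coeff j ∈ GrLC.comp 𝒜 𝒜 (n + 1) := by
    intro v j
    simp only [L, Finset.mul_sum, Finset.sum_mul, Polynomial.monomial_mul_monomial, Polynomial.finsetSum_coeff,
      Polynomial.coeff_monomial]
    refine Submodule.sum_mem _ fun i _ => Submodule.sum_mem _ fun l _ => ?_
    split_ifs
    · show _ ∈ 𝒜 (n + 1)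
      rw [add_comm n 1]
      exact SetLike.mul_mem_graded (A := 𝒜) (show (x l : R) ∈ 𝒜 1 from (x l).2) (show (v i : R) ∈ 𝒜 n from (v i).2)
    · exact zero_mem _
  let Φ : (Fin N → GrLC.comp 𝒜 𝒜 n) →ₗ[GrLC.deg0 𝒜] (Fin (N + s) → GrLC.comp 𝒜 𝒜 (n + 1)) :=
    { toFun := fun v j => ⟨_, hmem v j⟩
      map_add' := fun v w => funext fun j => Subtype.ext (by
        simp only [Pi.add_apply, Submodule.coe_add, map_add, Finset.sum_add_distrib, mul_add, Polynomial.coeff_add])
      map_smul' := fun q v => funext fun j => Subtype.ext (by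
        show (L * ∑ i : Fin N, Polynomial.monomial (i : ℕ) ((q : R) * (v i : R))).coeff j =
          (q : R) * (L * ∑ i : Fin N, Polynomial.monomial (i : ℕ) (v i : R)).coeff j
        rw [← Polynomial.coeff_C_mul, mul_left_comm, Finset.mul_sum]
        simp only [Polynomial.C_mul_monomial, Finset.mul_sum]) }
  have hΦ : Function.Injective Φ := by
    refine (injective_iff_map_eq_zero Φ).2 fun v hv => ?_
    have h2 : L * ∑ i : Fin N, Polynomial.monomial (i : ℕ) (v i : R) = 0 := by
      refine Polynomial.ext fun j => ?_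
      rw [Polynomial.coeff_zero]
      rcases lt_or_ge j (N + s) with hj | hj
      · exact congrArg Subtype.val (congrFun hv ⟨j, hj⟩)
      · simp only [L, Finset.mul_sum, Finset.sum_mul, Polynomial.monomial_mul_monomial, Polynomial.finsetSum_coeff,
          Polynomial.coeff_monomial]
        exact Finset.sum_eq_zero fun i _ => Finset.sum_eq_zero fun l _ => if_neg (by omega)
    have h3 := (mul_left_mem_nonZeroDivisors_eq_zero_iff hL).1 h2
    refine funext fun i => Subtype.ext ?_
    have h4 := congrArg (fun q => Polynomial.coeff q (i : ℕ)) h3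
    simp only [Polynomial.finsetSum_coeff, Polynomial.coeff_monomial, Polynomial.coeff_zero] at h4
    rwa [Finset.sum_eq_single i (fun j _ hj => if_neg fun e => hj (Fin.ext e))
      (fun h => absurd (Finset.mem_univ i) h), if_pos rfl] at h4
  have hle := LinearMap.finrank_le_finrank_of_injective hΦ
  rw [Module.finrank_pi_fintype, Module.finrank_pi_fintype, Finset.sum_const, Finset.sum_const, Finset.card_univ,
    Finset.card_univ, Fintype.card_fin, Fintype.card_fin, smul_eq_mul, smul_eq_mul, ← hb] at hle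
  by_contra hlt
  have h5 : N * (b + 1) ≤ (N + s) * b := le_trans (Nat.mul_le_mul_left N (by omega)) hle
  simp only [N, Nat.mul_add, Nat.add_mul, Nat.mul_one, Nat.one_mul] at h5
  omega

end Groth.Agent.S18654
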