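import Groth.Statements.S18644
import Groth.Agent.Lib.GrLC21.PolyChar
import Groth.Agent.S0342
-- import your own Groth.Agent.* helpers here

set_option autoImplicit false
universe u
open GrLC

namespace Groth.Agent.S18644

/-- Let R be a graded ring defined over a field k = R_0 which is Cohen–Macaulay and generated over k by
R_1, of dimension r. Then a(R) = −r holds exactly when R is isomorphic to the polynomial ring over k
in r variables. Here 'graded ring defined over a field' means R = ⊕_{n ≥ 0} R_n is Noetherian with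
R_0 a field, and m = R_+ is its unique graded maximal ideal. The a-invariant a(R) is the largest
degree in which the graded local cohomology H^n_m(R) (n = dim R, m = R_+), computed from a
*injective resolution of R in the graded category, is nonzero. (The inequality a(R) ≥ −r of the same
lemma is stated separately.) -/
theorem result (R : Type u) [CommRing R] [LocCoh.IsCohenMacaulayRing R] (𝒜 : ℤ → AddSubgroup R) [GradedRing 𝒜] (hpos : ∀ n : ℤ, n < 0 → 𝒜 n = ⊥) (h0 : IsField (GrLC.deg0 𝒜)) (m : HomogeneousIdeal 𝒜) (hm : GrLC.IsStarLocal 𝒜 m) (hmsp : m.toIdeal = Ideal.span (⋃ n ∈ Set.Ioi (0 : ℤ), (𝒜 n : Set R))) (hstd : Ideal.span (⋃ n ∈ Set.Ioi (0 : ℤ), (𝒜 n : Set R)) = Ideal.span ((𝒜 1 : AddSubgroup R) : Set R)) (r : ℕ) (hr : ringKrullDim R = r) (I : GrLC.StarInjRes 𝒜 𝒜) : GrLC.endDeg (I.Hgr m r) = (((-(r : ℤ) : ℤ) : WithTop ℤ) : WithBot (WithTop ℤ)) ↔ Nonempty (R ≃+* MvPolynomial (Fin r) (GrLC.deg0 𝒜)) := by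
  have hpos' : ∀ d : ℤ, d < 0 → ∀ x ∈ 𝒜 d, x = 0 := fun d hd x hx => (AddSubgroup.mem_bot).1 (hpos d hd ▸ hx)
  have Γ : GrLC21.FieldCtx 𝒜 m := ⟨hpos', h0, hm⟩
  refine ⟨fun ha => (Γ.polynomial_of_finrank_one hmsp hstd hr (Γ.finrank_one_of_endDeg hstd hr I ha).le I).1, ?_⟩
  rintro ⟨e⟩
  let _ := h0.toField
  haveI := GrLC21.isMaximal_starMax hpos' hm.1
  haveI : IsRegularRing R := IsRegularRing.of_ringEquiv e.symm
  exact (Γ.polynomial_of_finrank_one hmsp hstd hr (Γ.finrank_one_le_of_regular hstd hr) I).2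

end Groth.Agent.S18644
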