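import Groth.Statements.S18645
import Groth.Agent.Lib.GrLC21.RegSeqEnd
import Groth.Agent.Lib.GrLC21.StarCM
import Groth.Agent.Lib.GrLC21.EndDeg
import Groth.Agent.Lib.GrLC21.RegPoly

set_option autoImplicit false
set_option backward.isDefEq.respectTransparency false
universe u
open GrLC

namespace Groth.Agent.S18645

/-- Let R be a graded ring defined over a field which is Cohen–Macaulay, of dimension n, and let f_1, …,
f_t be an R-regular sequence of homogeneous elements of positive degrees d_1, …, d_t, with S =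
R/(f_1, …, f_t). The canonical module of S is (K_R/(f_1, …, f_t)K_R)(d_1 + ⋯ + d_t); consequently —
this is the form stated here — the a-invariants satisfy a(S) = a(R) + d_1 + ⋯ + d_t, where a(S) is
the largest nonzero degree of H^{n−t}_m(S) and a(R) that of H^n_m(R), both graded local cohomologies
over R with support in m = R_+ computed from *injective resolutions in the graded category, and S is
presented as a graded R-module N with a degree-preserving surjection π : R → N whose kernel is (f_1,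
…, f_t). Here 'graded ring defined over a field' means R = ⊕_{n ≥ 0} R_n is Noetherian with R_0 a
field, and m = R_+ is its unique graded maximal ideal. -/
theorem result (R : Type u) [CommRing R] [LocCoh.IsCohenMacaulayRing R] (𝒜 : ℤ → AddSubgroup R) [GradedRing 𝒜] (hpos : ∀ n : ℤ, n < 0 → 𝒜 n = ⊥) (h0 : IsField (GrLC.deg0 𝒜)) (m : HomogeneousIdeal 𝒜) (hm : GrLC.IsStarLocal 𝒜 m) (hmsp : m.toIdeal = Ideal.span (⋃ n ∈ Set.Ioi (0 : ℤ), (𝒜 n : Set R))) (n : ℕ) (hn : ringKrullDim R = n) (I : GrLC.StarInjRes 𝒜 𝒜) (t : ℕ) (htn : t ≤ n) (f : Fin t → R) (deg : Fin t → ℤ) (hfdeg : ∀ i, f i ∈ 𝒜 (deg i)) (hfm : ∀ i, f i ∈ m.toIdeal) (hreg : RingTheory.Sequence.IsRegular R (List.ofFn f)) (N : Type u) [AddCommGroup N] [Module R N] (𝒩 : ℤ → AddSubgroup N) [DirectSum.Decomposition 𝒩] [SetLike.GradedSMul 𝒜 𝒩] (π : R →ₗ[R] N) (hπ : GrLC.IsGrHom 𝒜 𝒩 π) (hπs : Function.Surjective π) (hπk : LinearMap.ker π = Ideal.span (Set.range f)) (F : GrLC.StarInjRes 𝒜 𝒩) : GrLC.endDeg (F.Hgr m (n - t)) = GrLC.endDeg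 (I.Hgr m n) + ((((Finset.univ : Finset (Fin t)).sum deg : ℤ) : WithTop ℤ) : WithBot (WithTop ℤ)) := by
  have hpos' : ∀ n : ℤ, n < 0 → ∀ r ∈ 𝒜 n, r = 0 := fun n hn r hr => by
    rw [hpos n hn, AddSubgroup.mem_bot] at hr
    exact hr
  have hnt : Nontrivial R := by
    by_contra h
    rw [not_nontrivial_iff_subsingleton] at h
    rw [ringKrullDim_eq_bot_of_subsingleton] at hn
    exact WithBot.bot_ne_coe hn
  have hdeg : ∀ i, 0 ≤ deg i := fun i => by
    by_contra hlt
    have hz := hpos' (deg i) (by omega) (f i) (hfdeg i)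
    have h := hreg.toIsWeaklyRegular.regular_mod_prev (i : ℕ) (by simp)
    simp only [List.getElem_ofFn, Fin.eta, hz] at h
    have hsub : Subsingleton (R ⧸ (Ideal.ofList ((List.ofFn f).take i) • ⊤ : Submodule R R)) :=
      ⟨fun u v => h (show (0 : R) • u = (0 : R) • v by simp)⟩
    rw [Submodule.Quotient.subsingleton_iff] at hsub
    refine (GrLC21.isMaximal_starMax hpos' hm.1).ne_top ?_
    rw [eq_top_iff, ← hsub]
    refine Submodule.smul_le.2 fun r hr x _ => Ideal.mul_mem_right x _ ?_
    exact (Ideal.span_le.2 fun z hz => by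
      obtain ⟨j, rfl⟩ := List.mem_ofFn.1 (List.mem_of_mem_take hz)
      exact hfm j) hr
  refine GrLC21.eq_of_forall_le_int fun D => ?_
  have key : ∀ (k : ℤ) (y : WithBot (WithTop ℤ)),
      y + ((k : WithTop ℤ) : WithBot (WithTop ℤ)) ≤ ((D : WithTop ℤ) : WithBot (WithTop ℤ)) ↔
      y ≤ (((D - k : ℤ) : WithTop ℤ) : WithBot (WithTop ℤ)) := fun k y => by
    cases y with
    | bot => simp
    | coe y =>
      cases y with
      | top =>
        rw [← WithBot.coe_add, WithBot.coe_le_coe, WithBot.coe_le_coe]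
        simp
      | coe a =>
        rw [← WithBot.coe_add, ← WithTop.coe_add, WithBot.coe_le_coe, WithBot.coe_le_coe, WithTop.coe_le_coe,
          WithTop.coe_le_coe]
        omega
  rw [key, GrLC21.endDeg_le_iff_van, GrLC21.endDeg_le_iff_van]
  let fs : List (R × ℤ) := List.ofFn fun i => (f i, deg i)
  have hfst : fs.map Prod.fst = List.ofFn f := by
    simp only [fs, List.map_ofFn]
    rfl
  have hsnd : (fs.map Prod.snd).sum = (Finset.univ : Finset (Fin t)).sum deg := by
    simp only [fs, List.map_ofFn, List.sum_ofFn]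
    rfl
  have hlen : fs.length = t := List.length_ofFn
  have h := GrLC21.van_regularSequence (a := m) D fs (n - t) (GrLC21.toGMod 𝒜 𝒜) (GrLC21.toGMod 𝒜 𝒩) π
    (fun p hp => by
      obtain ⟨i, rfl⟩ := List.mem_ofFn.1 hp
      exact ⟨hfdeg i, hfm i, hdeg i⟩)
    (by rw [hfst]; exact hreg.toIsWeaklyRegular) hπs hπ
    (by
      rw [hfst]
      show LinearMap.ker π = Ideal.ofList (List.ofFn f) • (⊤ : Submodule R R)
      rw [hπk]
      simp [Ideal.ofList, List.mem_ofFn, Set.range])
    (fun j hj g => GrLC21.van_self_of_ne hpos' hm hn (by omega) g)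
  rwa [hsnd, hlen, Nat.sub_add_cancel htn] at h

end Groth.Agent.S18645
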