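import Groth.Statements.S18648
import Groth.Agent.Lib.SegLC.SegStd
-- import your own Groth.Agent.* helpers here

set_option autoImplicit false
universe u
open scoped TensorProduct
open GrSegre

namespace Groth.Agent.S18648

/-- Let R and S be standard graded rings defined over a field k which are Cohen–Macaulay, of dimensions
r ≥ 2 and s ≥ 2. Then the Segre product T = R # S is a Cohen–Macaulay ring if and only if a(R) < 0
and a(S) < 0. Here a graded ring defined over k is a commutative k-algebra of finite type, graded in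
nonnegative degrees by k-subspaces with degree-zero part k·1, and it is standard graded when its
irrelevant ideal is generated by the degree-one piece; the a-invariant a(R) is the largest degree in
which the graded local cohomology H^{dim R}_{R_+}(R), computed from a *injective resolution of R in
the graded category, is nonzero; the Segre product T = R # S = ⊕_n R_n ⊗_k S_n is presented
abstractly as a graded k-algebra T with an injective k-algebra homomorphism ψ : T → R ⊗_k S carrying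
T_n onto the k-span of the elementary tensors a ⊗ b with a ∈ R_n, b ∈ S_n. -/
theorem result (k : Type u) [Field k] (R : Type u) [CommRing R] [Algebra k R] (𝒜 : ℤ → Submodule k R) [GradedAlgebra 𝒜] (hposR : ∀ n : ℤ, n < 0 → 𝒜 n = ⊥) (h0R : 𝒜 0 = Submodule.span k {(1 : R)}) [Algebra.FiniteType k R] (S : Type u) [CommRing S] [Algebra k S] (ℬ : ℤ → Submodule k S) [GradedAlgebra ℬ] (hposS : ∀ n : ℤ, n < 0 → ℬ n = ⊥) (h0S : ℬ 0 = Submodule.span k {(1 : S)}) [Algebra.FiniteType k S] (T : Type u) [CommRing T] [Algebra k T] (𝒯 : ℤ → Submodule k T) [GradedAlgebra 𝒯] (ψ : T →ₐ[k] TensorProduct k R S) (hψ : Function.Injective ψ) (hdegT : ∀ n : ℤ, (𝒯 n).map ψ.toLinearMap = Submodule.span k {x : TensorProduct k R S | ∃ a ∈ 𝒜 n, ∃ b ∈ ℬ n, x = a ⊗ₜ[k] b}) [LocCoh.IsCohenMacaulayRing R] [LocCoh.IsCohenMacaulayRing S] (mR : HomogeneousIdeal 𝒜) (hmR : mR.toIdeal = Ideal.span (⋃ n ∈ Set.Ioi (0 : ℤ), (𝒜 n : Set R))) (hstdR : Ideal.span (⋃ n ∈ Set.Ioi (0 : ℤ), (𝒜 n : Set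 R)) = Ideal.span ((𝒜 1 : Submodule k R) : Set R)) (I : GrLC.StarInjRes 𝒜 𝒜) (mS : HomogeneousIdeal ℬ) (hmS : mS.toIdeal = Ideal.span (⋃ n ∈ Set.Ioi (0 : ℤ), (ℬ n : Set S))) (hstdS : Ideal.span (⋃ n ∈ Set.Ioi (0 : ℤ), (ℬ n : Set S)) = Ideal.span ((ℬ 1 : Submodule k S) : Set S)) (J : GrLC.StarInjRes ℬ ℬ) (r s : ℕ) (hr : ringKrullDim R = r) (hs : ringKrullDim S = s) (h2r : 2 ≤ r) (h2s : 2 ≤ s) : LocCoh.IsCohenMacaulayRing T ↔ GrLC.endDeg (I.Hgr mR r) < 0 ∧ GrLC.endDeg (J.Hgr mS s) < 0 := by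
  classical
  have : IsNoetherianRing R := Algebra.FiniteType.isNoetherianRing k R
  have : IsNoetherianRing S := Algebra.FiniteType.isNoetherianRing k S
  let mT : HomogeneousIdeal 𝒯 := Groth.Agent.SegLC.irr 𝒯
  have : Nontrivial R := by
    by_contra hA
    rw [not_nontrivial_iff_subsingleton] at hA
    rw [ringKrullDim_eq_bot_of_subsingleton] at hr
    simp at hr
  have : Nontrivial S := by
    by_contra hA
    rw [not_nontrivial_iff_subsingleton] at hA
    rw [ringKrullDim_eq_bot_of_subsingleton] at hs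
    simp at hs
  have : IsNoetherianRing T := Groth.Agent.GrSegLib.isNoetherianRing_segre 𝒜 ℬ 𝒯 hψ hdegT
  have hntT : Nontrivial T :=
    ((⟨⟨hψ, hdegT⟩, hposR, hposS, hmR, hmS, rfl⟩ : Groth.Agent.SegLC.Data 𝒜 ℬ 𝒯 ψ mR mS mT).deg0T h0R h0S).1
  have hP := Groth.Agent.GrSegLib.isSegreMod_self 𝒜 ℬ 𝒯 hψ hdegT
  have h1R : 1 ≤ ringKrullDim R := by rw [hr]; exact_mod_cast (show 1 ≤ r by omega)
  have h1S : 1 ≤ ringKrullDim S := by rw [hs]; exact_mod_cast (show 1 ≤ s by omega)
  rw [Groth.Agent.GrLC21.isCohenMacaulayRing_iff T]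
  have hRcm := (Groth.Agent.GrLC21.isCohenMacaulayRing_iff R).1 inferInstance
  have hScm := (Groth.Agent.GrLC21.isCohenMacaulayRing_iff S).1 inferInstance
  rw [← Module.supportDim_self_eq_ringKrullDim] at hr hs
  have D : Groth.Agent.SegLC.Data 𝒜 ℬ 𝒯 ψ mR mS mT := ⟨⟨hψ, hdegT⟩, hposR, hposS, hmR, hmS, rfl⟩
  rw [D.cm_segre_iff h0R h0S I J hP (show 1 ≤ r by omega) (show 1 ≤ s by omega) hr hs hRcm hScm,
    Groth.Agent.SegLC.endDeg_neg_iff, Groth.Agent.SegLC.endDeg_neg_iff]
  constructor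
  · rintro ⟨hA, hB⟩
    exact ⟨fun n hn => (hB h2s n).resolve_right (Groth.Agent.SegLC.exists_piece_ne_zero hposS h0S hstdS h1S hn),
      fun n hn => (hA h2r n).resolve_left (Groth.Agent.SegLC.exists_piece_ne_zero hposR h0R hstdR h1R hn)⟩
  · rintro ⟨hA, hB⟩
    refine ⟨fun _ d => ?_, fun _ d => ?_⟩
    · rcases lt_or_ge d 0 with h | h
      · exact Or.inl (Groth.Agent.SegLC.posA hposR d h)
      · exact Or.inr (hB d h)
    · rcases lt_or_ge d 0 with h | h
      · exact Or.inr (Groth.Agent.SegLC.posA hposS d h)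
      · exact Or.inl (hA d h)

end Groth.Agent.S18648
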