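import Groth.Statements.S18651
import Groth.Agent.Lib.GrLC21.CanonLocal
import Groth.Agent.Lib.GrLC21.AInv
import Groth.Agent.Lib.GrLC21.Van
import Groth.Agent.Lib.GrLC21.RegSeqEnd
import Groth.Agent.Lib.GrLC21.StarCM
import Groth.Agent.S0342
import Mathlib.RingTheory.RegularLocalRing.Polynomial
import Mathlib.RingTheory.MvPolynomial.Ideal
-- import your own Groth.Agent.* helpers here

set_option autoImplicit false
set_option backward.isDefEq.respectTransparency false
universe u
attribute [local instance] MvPolynomial.weightedGradedAlgebra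
open GrLC

namespace Groth.Agent.S18651

/-- Let k be a field and R = k[X_1, …, X_N] the polynomial ring with deg X_i = w_i > 0. Then the
canonical module of R is K_R = X_1 X_2 ⋯ X_N · R ≅ R(−d) with d = w_1 + ⋯ + w_N; stated here as:
there is a bijective R-linear map R → K_R homogeneous of degree d. The canonical module is
represented by a finitely generated graded module C together with a homogeneous isomorphism from
Hom_R(C, E) onto H^N_m(R), where m = R_+, E is a *injective envelope of R/m and H^N_m(R) is computed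
from a *injective resolution of R in the graded category; by graded Matlis duality this says exactly
that C ≅ K_R as graded modules. -/
theorem result (k : Type u) [Field k] (N : ℕ) (w : Fin N → ℤ) (hw : ∀ i, 0 < w i) (m : HomogeneousIdeal (MvPolynomial.weightedHomogeneousSubmodule k w)) (hm : GrLC.IsStarLocal (MvPolynomial.weightedHomogeneousSubmodule k w) m) (hmsp : m.toIdeal = Ideal.span (⋃ n ∈ Set.Ioi (0 : ℤ), (MvPolynomial.weightedHomogeneousSubmodule k w n : Set (MvPolynomial (Fin N) k)))) (I : GrLC.StarInjRes (MvPolynomial.weightedHomogeneousSubmodule k w) (MvPolynomial.weightedHomogeneousSubmodule k w)) (E' : Type u) [AddCommGroup E'] [Module (MvPolynomial (Fin N) k) E'] (𝓔 : ℤ → AddSubgroup E') [DirectSum.Decomposition 𝓔] [SetLike.GradedSMul (MvPolynomial.weightedHomogeneousSubmodule k w) 𝓔] (e : (MvPolynomial (Fin N) k ⧸ m.toIdeal) →ₗ[MvPolynomial (Fin N) k] E') (he : GrLC.IsStarInjHull (MvPolynomial.weightedHomogeneousSubmodule k w) (GrLC.quotGr (MvPolynomial.weightedHomogeneousSubmodule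 k w) m) 𝓔 e) (C : Type u) [AddCommGroup C] [Module (MvPolynomial (Fin N) k) C] (𝒞 : ℤ → AddSubgroup C) [DirectSum.Decomposition 𝒞] [SetLike.GradedSMul (MvPolynomial.weightedHomogeneousSubmodule k w) 𝒞] (hC : GrLC.IsStarCanonical (MvPolynomial.weightedHomogeneousSubmodule k w) 𝒞 𝓔 m N I) : ∃ f : MvPolynomial (Fin N) k →ₗ[MvPolynomial (Fin N) k] C, Function.Bijective f ∧ GrLC.IsGrHomDeg (MvPolynomial.weightedHomogeneousSubmodule k w) 𝒞 f ((Finset.univ : Finset (Fin N)).sum w) := by
  classical
  let R := MvPolynomial (Fin N) k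
  let 𝒜 := MvPolynomial.weightedHomogeneousSubmodule k w
  let 𝒜' : ℤ → AddSubgroup R := fun i => (𝒜 i).toAddSubgroup
  have hp : ∀ n : ℤ, n < 0 → ∀ r ∈ 𝒜 n, r = 0 := by
    intro n hn r hr
    by_contra h0
    obtain ⟨d, hd⟩ := MvPolynomial.ne_zero_iff.1 h0
    have hwd := (MvPolynomial.mem_weightedHomogeneousSubmodule k w n r).1 hr hd
    have : 0 ≤ Finsupp.weight w d := by
      rw [Finsupp.weight_apply]
      exact Finset.sum_nonneg fun i _ => smul_nonneg (Nat.zero_le _) (hw i).le
    omega
  have hX : ∀ i, (MvPolynomial.X i : R) ∈ 𝒜 (w i) := fun i =>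
    (MvPolynomial.mem_weightedHomogeneousSubmodule k w _ _).2 (MvPolynomial.isWeightedHomogeneous_X k w i)
  have hmem : ∀ (p : R) (n : ℤ), n ≠ 0 → p ∈ 𝒜 n → p ∈ Ideal.span (Set.range (MvPolynomial.X : Fin N → R)) := by
    intro p n hn hp'
    rw [← Set.image_univ, MvPolynomial.mem_ideal_span_X_image]
    intro d hd
    by_contra! hz
    refine hn ?_
    rw [← (MvPolynomial.mem_weightedHomogeneousSubmodule k w n p).1 hp' (MvPolynomial.mem_support_iff.1 hd)]
    rw [show d = 0 from Finsupp.ext fun i => hz i (Set.mem_univ i), map_zero]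
  have hmX : m.toIdeal = Ideal.span (Set.range (MvPolynomial.X : Fin N → R)) := by
    rw [hmsp]
    refine le_antisymm (Ideal.span_le.2 ?_) (Ideal.span_le.2 ?_)
    · intro p hp'
      obtain ⟨n, hn, hpn⟩ := Set.mem_iUnion₂.1 hp'
      exact hmem p n (ne_of_gt hn) hpn
    · rintro _ ⟨i, rfl⟩
      exact Ideal.subset_span (Set.mem_iUnion₂_of_mem (Set.mem_Ioi.2 (hw i)) (hX i))
  have hC0 : ∀ r ∈ 𝒜 (0 : ℤ), r = MvPolynomial.C (MvPolynomial.coeff 0 r) := by
    intro r hr
    refine MvPolynomial.ext _ _ fun d => ?_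
    rw [MvPolynomial.coeff_C]
    split_ifs with hd
    · rw [hd]
    · by_contra hne
      have hwd := (MvPolynomial.mem_weightedHomogeneousSubmodule k w 0 r).1 hr hne
      refine hd (Finsupp.ext fun i => ?_)
      by_contra hi
      have : 0 < Finsupp.weight w d := by
        rw [Finsupp.weight_apply]
        refine Finset.sum_pos' (fun j _ => smul_nonneg (Nat.zero_le _) (hw j).le) ⟨i, ?_, ?_⟩
        · exact Finsupp.mem_support_iff.2 (Ne.symm hi)
        · exact smul_pos (Nat.pos_of_ne_zero (Ne.symm hi)) (hw i)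
      omega
  have h0 : IsField (GrLC.deg0 𝒜) := by
    refine ⟨⟨0, 1, fun h => zero_ne_one (congrArg Subtype.val h)⟩, mul_comm, fun {a} ha => ?_⟩
    have hc : MvPolynomial.coeff 0 (a : R) ≠ 0 := fun hc => ha (Subtype.ext (by
      rw [hC0 a a.2, hc, map_zero]; rfl))
    refine ⟨⟨MvPolynomial.C (MvPolynomial.coeff 0 (a : R))⁻¹,
      (MvPolynomial.mem_weightedHomogeneousSubmodule k w 0 _).2 (MvPolynomial.isWeightedHomogeneous_C w _)⟩, Subtype.ext ?_⟩
    show (a : R) * MvPolynomial.C _ = 1
    generalize hcc : MvPolynomial.coeff 0 (a : R) = c at hc ⊢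
    rw [hC0 a a.2, hcc, ← map_mul, mul_inv_cancel₀ hc, map_one]
  have : LocCoh.IsGorensteinRing R :=
    { isGorensteinLocalRing_localization := fun p _ => Groth.Agent.S0342.result _ }
  have : LocCoh.IsCohenMacaulayRing R :=
    { isCohenMacaulayLocalRing_localization := fun p _ => by
        have := this.isGorensteinLocalRing_localization p
        exact Groth.Agent.GorenLib.isCohenMacaulayLocalRing_of_gorenstein }
  have hN : ringKrullDim R = N := by
    rw [MvPolynomial.ringKrullDim_of_isNoetherianRing, ringKrullDim_eq_zero_of_field, zero_add, Nat.card_fin]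
  have Γ : Groth.Agent.GrLC21.FieldCtx 𝒜 m := ⟨hp, h0, hm⟩
  obtain ⟨a, f, hf, hfa⟩ := (Γ.gorenstein_iff_shift he hN hC).1 inferInstance
  -- the a-invariant
  have hend : GrLC.endDeg (I.Hgr m N) = (((-(Finset.univ.sum w) : ℤ) : WithTop ℤ) : WithBot (WithTop ℤ)) := by
    let Q := Groth.Agent.GrLC21.quotMod 𝒜 m
    have hnt : m.toIdeal ≠ ⊤ := (Groth.Agent.GrLC21.isMaximal_starMax hp hm.1).ne_top
    have hq1 : ¬ Groth.Agent.GrLC21.Van m 0 0 Q := fun h => hnt ((Ideal.eq_top_iff_one _).2
      (Ideal.Quotient.eq_zero_iff_mem.1 (Groth.Agent.GrLC21.Van.zero_iff.1 h _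
        (⟨1, (MvPolynomial.mem_weightedHomogeneousSubmodule k w 0 _).2 (MvPolynomial.isWeightedHomogeneous_one k w), rfl⟩)
        ⟨1, fun r hr => Ideal.Quotient.eq_zero_iff_mem.2 (Ideal.mul_mem_right 1 _ (pow_one m.toIdeal ▸ hr))⟩)))
    have hq : ∀ l : ℤ, 0 < l → Groth.Agent.GrLC21.Van m 0 l Q := by
      intro l hl
      refine Groth.Agent.GrLC21.Van.zero_iff.2 ?_
      rintro x ⟨r, hr, rfl⟩ -
      refine Ideal.Quotient.eq_zero_iff_mem.2 ?_
      rw [hmX]
      exact hmem r l hl.ne' hr
    have hreg : RingTheory.Sequence.IsRegular R (List.ofFn (MvPolynomial.X : Fin N → R)) := by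
      have hset : ∀ i, i ≤ N → {x | x ∈ (List.ofFn (MvPolynomial.X : Fin N → R)).take i} =
          MvPolynomial.X '' {t : Fin N | (t : ℕ) < i} := by
        intro i hi
        ext x
        simp only [Set.mem_setOf_eq, Set.mem_image, List.mem_iff_getElem, List.getElem_take, List.getElem_ofFn,
          List.length_take, List.length_ofFn]
        constructor
        · rintro ⟨j, hj, rfl⟩
          exact ⟨⟨j, by omega⟩, by simp; omega, rfl⟩
        · rintro ⟨t, ht, rfl⟩
          exact ⟨t, by omega, rfl⟩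
      refine ⟨(RingTheory.Sequence.isWeaklyRegular_iff _ _).2 fun i hi => ?_, fun htop => hnt ?_⟩
      · rw [List.length_ofFn] at hi
        refine (isSMulRegular_iff_right_eq_zero_of_smul).2 fun x hx => ?_
        obtain ⟨p, rfl⟩ := Submodule.mkQ_surjective _ x
        rw [← map_smul, Submodule.mkQ_apply, Submodule.Quotient.mk_eq_zero, smul_eq_mul, List.getElem_ofFn] at hx
        rw [Submodule.mkQ_apply, Submodule.Quotient.mk_eq_zero]
        have hI : Ideal.ofList ((List.ofFn (MvPolynomial.X : Fin N → R)).take i) • (⊤ : Submodule R R) =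
            Ideal.span (MvPolynomial.X '' {t : Fin N | (t : ℕ) < i}) := by
          rw [smul_eq_mul, Ideal.mul_top]
          exact congrArg Ideal.span (hset i hi.le)
        rw [smul_eq_mul, Ideal.mul_top] at hI
        rw [smul_eq_mul, Ideal.mul_top, hI, MvPolynomial.mem_ideal_span_X_image] at hx ⊢
        intro d hd
        obtain ⟨t, ht, hdt⟩ := hx (Finsupp.single ⟨i, by omega⟩ 1 + d) (by
          rw [MvPolynomial.support_X_mul, Finset.mem_map]
          exact ⟨d, hd, rfl⟩)
        refine ⟨t, ht, ?_⟩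
        rw [Finsupp.add_apply, Finsupp.single_eq_of_ne (fun e => by
          have := congrArg Fin.val e
          simp at this ht
          omega), zero_add] at hdt
        exact hdt
      · rw [eq_top_iff, htop]
        rw [smul_eq_mul, Ideal.mul_top, hmX]
        refine Ideal.span_le.2 fun x hx => ?_
        obtain ⟨t, rfl⟩ := List.mem_ofFn.1 hx
        exact Ideal.subset_span ⟨t, rfl⟩
    let fs : List (R × ℤ) := List.ofFn fun i : Fin N => ((MvPolynomial.X i : R), w i)
    have hfst : fs.map Prod.fst = List.ofFn (MvPolynomial.X : Fin N → R) := by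
      simp only [fs, List.map_ofFn]
      rfl
    have hsnd : (fs.map Prod.snd).sum = Finset.univ.sum w := by
      simp only [fs, List.map_ofFn, List.sum_ofFn]
      rfl
    have hlen : fs.length = N := List.length_ofFn
    have key := fun D => Groth.Agent.GrLC21.van_regularSequence (a := m) D fs 0
      (Groth.Agent.GrLC21.toGMod 𝒜 𝒜) Q (Submodule.mkQ m.toIdeal)
      (fun p hp => by
        obtain ⟨i, rfl⟩ := List.mem_ofFn.1 hp
        exact ⟨hX i, hmX ▸ Ideal.subset_span ⟨i, rfl⟩, (hw i).le⟩)
      (by rw [hfst]; exact hreg.toIsWeaklyRegular) (Submodule.mkQ_surjective _) (fun g r hr => ⟨r, hr, rfl⟩)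
      (by
        rw [hfst]
        show LinearMap.ker (Submodule.mkQ m.toIdeal) = Ideal.ofList (List.ofFn MvPolynomial.X) • (⊤ : Submodule R R)
        rw [Submodule.ker_mkQ, hmX]
        simp [Ideal.ofList, List.mem_ofFn, Set.range])
      (fun j hj g => Groth.Agent.GrLC21.van_self_of_ne hp hm hN (by omega) g)
    simp only [hsnd, hlen, zero_add] at key
    have hbot : ∀ g, I.Hgr m N g = ⊥ ↔ Groth.Agent.GrLC21.Van m N g (Groth.Agent.GrLC21.toGMod 𝒜 𝒜) := fun g =>
      (Groth.Agent.GrLC21.Hgr_eq_bot_iff I m).trans (Groth.Agent.GrLC21.Hcomp_eq_bot_iff_van I)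
    refine (Groth.Agent.GrLC21.endDeg_eq_coe_iff _ _).2 ⟨fun h => hq1 ((key (-1)).2 (fun g hg => ?_) 0 (by omega)),
      fun l hl => (hbot l).2 ((key 0).1 hq l (by omega))⟩
    rcases eq_or_lt_of_le (show -(Finset.univ.sum w) ≤ g by omega) with e | e
    · rw [← e]; exact (hbot _).1 h
    · exact (key 0).1 hq g (by omega)
  have hda := Γ.shift_eq_neg he hC hend hf hfa
  refine ⟨f, hf, ?_⟩
  rw [neg_neg] at hda
  rw [← hda]
  exact hfa

end Groth.Agent.S18651
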