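import Groth.Statements.S18653
import Groth.Agent.Lib.GrLC21.CoreHeight
import Mathlib.RingTheory.Jacobson.Ring
import Mathlib.RingTheory.KrullDimension.Field
import Mathlib.FieldTheory.IsAlgClosed.Basic
import Mathlib.Algebra.Polynomial.Basic
-- import your own Groth.Agent.* helpers here

set_option autoImplicit false
universe u
open GrLC

namespace Groth.Agent.S18653

/-- Let R be a graded ring defined over an algebraically closed field k which is an integral domain of
dimension one. Then R is isomorphic to a semigroup ring (the subring of k[T] spanned by the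
monomials T^h, h in an additive submonoid H of ℕ); moreover, if R is generated over k by R_1, then R
is a polynomial ring k[T]. Here a graded ring defined over k is a commutative k-algebra of finite
type graded in nonnegative degrees by k-subspaces with degree-zero part k·1; the isomorphisms
asserted are ring isomorphisms. -/
theorem result (k : Type u) [Field k] [IsAlgClosed k] (R : Type u) [CommRing R] [IsDomain R] [Algebra k R] (𝒜 : ℤ → Submodule k R) [GradedAlgebra 𝒜] (hpos : ∀ n : ℤ, n < 0 → 𝒜 n = ⊥) (h0 : 𝒜 0 = Submodule.span k {(1 : R)}) [Algebra.FiniteType k R] (h1 : ringKrullDim R = 1) : (∃ H : AddSubmonoid ℕ, Nonempty (R ≃+* AddMonoidAlgebra k H)) ∧ (Ideal.span (⋃ n ∈ Set.Ioi (0 : ℤ), (𝒜 n : Set R)) = Ideal.span ((𝒜 1 : Submodule k R) : Set R) → Nonempty (R ≃+* Polynomial k)) := by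
  classical
  have hneg : ∀ n : ℤ, n < 0 → ∀ r ∈ 𝒜 n, r = 0 := fun n hn r hr => by rwa [hpos n hn, Submodule.mem_bot] at hr
  -- some element of positive degree is nonzero
  obtain ⟨n₀, hn₀, a, ha, ha0⟩ : ∃ n : ℤ, 0 < n ∧ ∃ a ∈ 𝒜 n, a ≠ 0 := by
    by_contra! h
    have hsurj : Function.Surjective (algebraMap k R) := fun r => by
      have hr : r ∈ 𝒜 0 := by
        rw [← Groth.Agent.GrLC21.sum_proj 𝒜 r]
        refine sum_mem fun n hn => ?_
        rcases lt_trichotomy n 0 with hn | rfl | hn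
        · rw [hneg n hn _ (Groth.Agent.GrLC21.proj_mem 𝒜 n r)]; exact zero_mem _
        · exact Groth.Agent.GrLC21.proj_mem 𝒜 0 r
        · rw [h n hn _ (Groth.Agent.GrLC21.proj_mem 𝒜 n r)]; exact zero_mem _
      rw [h0, Submodule.mem_span_singleton] at hr
      obtain ⟨c, hc⟩ := hr
      exact ⟨c, (Algebra.algebraMap_eq_smul_one c).trans hc⟩
    have := ringKrullDim_le_of_surjective _ hsurj
    rw [h1, ringKrullDim_eq_zero_of_isField (Field.toIsField k)] at this
    exact absurd this (by decide)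
  -- a point away from it
  have : IsJacobsonRing R := isJacobsonRing_of_finiteType (A := k)
  obtain ⟨M, hM, haM⟩ : ∃ M : Ideal R, M.IsMaximal ∧ a ∉ M := by
    by_contra! h
    have hj : a ∈ (⊥ : Ideal R).jacobson := Ideal.mem_sInf.2 fun J hJ => h J hJ.2
    rw [IsJacobsonRing.out ‹IsJacobsonRing R› (show (⊥ : Ideal R).IsRadical from
      Ideal.IsPrime.isRadical Ideal.isPrime_bot)] at hj
    exact ha0 hj
  let hfield := Ideal.Quotient.field M
  have : Algebra.FiniteType k (R ⧸ M) :=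
    Algebra.FiniteType.of_surjective (Ideal.Quotient.mkₐ k M) Ideal.Quotient.mk_surjective
  have : Module.Finite k (R ⧸ M) := finite_of_finite_type_of_isJacobsonRing k (R ⧸ M)
  have hbij : Function.Bijective (algebraMap k (R ⧸ M)) := IsAlgClosed.algebraMap_bijective_of_isIntegral
  let ev : R →ₐ[k] k :=
    ((AlgEquiv.ofBijective (Algebra.ofId k (R ⧸ M)) hbij).symm.toAlgHom).comp (Ideal.Quotient.mkₐ k M)
  have hev : ∀ r, ev r = 0 ↔ r ∈ M := fun r => by
    rw [← Ideal.Quotient.eq_zero_iff_mem]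
    show (AlgEquiv.ofBijective (Algebra.ofId k (R ⧸ M)) hbij).symm (Ideal.Quotient.mk M r) = 0 ↔ _
    exact map_eq_zero_iff _ (AlgEquiv.injective _)
  have hcore : Groth.Agent.GrLC21.core 𝒜 M = ⊥ := by
    have hcp := Groth.Agent.GrLC21.isPrime_core (𝒜 := 𝒜) M
    by_contra hne
    have hlt : Groth.Agent.GrLC21.core 𝒜 M < M := by
      refine lt_of_le_of_ne (Groth.Agent.GrLC21.core_le M) fun heq => ?_
      have hhom : M.IsHomogeneous 𝒜 := heq ▸ Groth.Agent.GrLC21.isHomogeneous_core M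
      obtain ⟨y, i, hi, hy⟩ := hM.exists_inv haM
      have h := hhom 0 hi
      have h' : Groth.Agent.GrLC21.proj 𝒜 0 i ∈ M := h
      have e : i = 1 - y * a := eq_sub_of_add_eq' hy
      rw [e, map_sub, Groth.Agent.GrLC21.proj_of_mem 𝒜 SetLike.GradedOne.one_mem, mul_comm,
        ← smul_eq_mul, Groth.Agent.GrLC21.proj_smul 𝒜 𝒜 ha,
        hneg (0 - n₀) (by omega) _ (Groth.Agent.GrLC21.proj_mem 𝒜 _ y), smul_zero, sub_zero] at h'
      exact hM.ne_top ((Ideal.eq_top_iff_one M).2 h')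
    have := hM.isPrime
    have h2 : (1 : ℕ∞) + 1 ≤ M.height := by
      refine le_trans ?_ (Ideal.height_add_one_le_of_lt_of_isPrime hlt)
      gcongr
      refine le_trans ?_ (Ideal.height_add_one_le_of_lt_of_isPrime
        (show (⊥ : Ideal R) < Groth.Agent.GrLC21.core 𝒜 M from bot_lt_iff_ne_bot.2 hne))
      exact le_add_self
    have h3 := (WithBot.coe_le_coe.2 h2).trans ((Ideal.height_le_ringKrullDim_of_ne_top hM.ne_top).trans_eq h1)
    exact absurd h3 (by decide)
  have hinj : ∀ n, ∀ r ∈ 𝒜 n, ev r = 0 → r = 0 := fun n r hr h => by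
    have := Ideal.mem_homogeneousCore_of_homogeneous_of_mem (𝒜 := 𝒜) ⟨n, hr⟩ ((hev r).1 h)
    change r ∈ Groth.Agent.GrLC21.core 𝒜 M at this
    rwa [hcore, Ideal.mem_bot] at this
  -- the degrees
  let H : AddSubmonoid ℕ :=
    { carrier := {n | ∃ r ∈ 𝒜 (n : ℤ), ev r = 1}
      zero_mem' := ⟨1, by rw [Nat.cast_zero]; exact SetLike.GradedOne.one_mem, map_one ev⟩
      add_mem' := fun {m n} ⟨r, hr, hr1⟩ ⟨s, hs, hs1⟩ => ⟨r * s, by
        rw [Nat.cast_add]; exact SetLike.GradedMul.mul_mem hr hs, by rw [map_mul, hr1, hs1, one_mul]⟩ }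
  choose g hg hg1 using fun n : H => n.2
  have huniq : ∀ (n : ℤ) (r s : R), r ∈ 𝒜 n → s ∈ 𝒜 n → ev r = ev s → r = s := fun n r s hr hs h =>
    sub_eq_zero.1 (hinj n _ (sub_mem hr hs) (by rw [map_sub, h, sub_self]))
  let G : Multiplicative H →* R :=
    { toFun := fun n => g n.toAdd
      map_one' := huniq _ _ 1 (hg 0) (by simp only [ZeroMemClass.coe_zero, Nat.cast_zero]; exact SetLike.GradedOne.one_mem)
        ((hg1 0).trans (map_one ev).symm)
      map_mul' := fun m n => huniq _ (g (m.toAdd + n.toAdd)) (g m.toAdd * g n.toAdd) (hg _) (by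
          rw [AddMemClass.coe_add, Nat.cast_add]
          exact SetLike.GradedMul.mul_mem (hg _) (hg _))
        (by rw [map_mul, hg1, hg1, hg1, one_mul]) }
  let Ψ : AddMonoidAlgebra k H →ₐ[k] R := AddMonoidAlgebra.lift k R H G
  have hsingle : ∀ (h : H) (c : k), Ψ (AddMonoidAlgebra.single h c) = c • g h := fun h c =>
    AddMonoidAlgebra.lift_single _ _ _
  have hproj : ∀ (f : AddMonoidAlgebra k H) (h : H), Groth.Agent.GrLC21.proj 𝒜 (h : ℤ) (Ψ f) = f.coeff h • g h := by
    intro f h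
    induction f using AddMonoidAlgebra.induction_linear with
    | zero => simp
    | add f f' hf hf' => rw [map_add, map_add, hf, hf', AddMonoidAlgebra.coeff_add, Finsupp.add_apply, add_smul]
    | single h' c =>
      rw [hsingle, AddMonoidAlgebra.coeff_single]
      rcases eq_or_ne h' h with rfl | hne
      · rw [Finsupp.single_eq_same, Groth.Agent.GrLC21.proj_of_mem 𝒜 (Submodule.smul_mem _ c (hg h'))]
      · rw [Finsupp.single_eq_of_ne hne.symm, zero_smul,
          Groth.Agent.GrLC21.proj_of_mem_ne 𝒜 (Submodule.smul_mem _ c (hg h'))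
            fun e => hne (Subtype.ext (Nat.cast_injective e))]
  have hΨ : Function.Bijective Ψ := by
    refine ⟨(injective_iff_map_eq_zero Ψ).2 fun f hf => AddMonoidAlgebra.ext (Finsupp.ext fun h => ?_), fun r => ?_⟩
    · have e := hproj f h
      rw [hf, map_zero] at e
      have e' := congrArg ev e
      rw [map_zero, map_smul, hg1, smul_eq_mul, mul_one] at e'
      exact e'.symm
    · rw [← Groth.Agent.GrLC21.sum_proj 𝒜 r]
      refine sum_mem (S := Ψ.range) fun n hn => ?_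
      have hne : Groth.Agent.GrLC21.proj 𝒜 n r ≠ 0 := (Groth.Agent.GrLC21.mem_degs 𝒜).1 hn
      obtain ⟨m, rfl⟩ : ∃ m : ℕ, (m : ℤ) = n := ⟨n.toNat, Int.toNat_of_nonneg (not_lt.1 fun hlt =>
        hne (hneg n hlt _ (Groth.Agent.GrLC21.proj_mem 𝒜 n r)))⟩
      have hev0 : ev (Groth.Agent.GrLC21.proj 𝒜 (m : ℤ) r) ≠ 0 := fun h =>
        hne (hinj _ _ (Groth.Agent.GrLC21.proj_mem 𝒜 _ r) h)
      have hm : m ∈ H := ⟨(ev (Groth.Agent.GrLC21.proj 𝒜 (m : ℤ) r))⁻¹ • Groth.Agent.GrLC21.proj 𝒜 (m : ℤ) r,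
        Submodule.smul_mem _ _ (Groth.Agent.GrLC21.proj_mem 𝒜 _ r),
        by rw [map_smul, smul_eq_mul, inv_mul_cancel₀ hev0]⟩
      refine ⟨AddMonoidAlgebra.single ⟨m, hm⟩ (ev (Groth.Agent.GrLC21.proj 𝒜 (m : ℤ) r)), ?_⟩
      exact (hsingle _ _).trans (huniq _ _ _ (Submodule.smul_mem _ _ (hg _)) (Groth.Agent.GrLC21.proj_mem 𝒜 _ r)
        (by rw [map_smul, hg1, smul_eq_mul, mul_one]))
  let e := (AlgEquiv.ofBijective Ψ hΨ).symm.toRingEquiv
  refine ⟨⟨H, ⟨e⟩⟩, fun hgen => ?_⟩
  obtain ⟨u, hu, hu0⟩ : ∃ u ∈ 𝒜 1, u ≠ 0 := by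
    by_contra! h
    refine ha0 ?_
    have h' : a ∈ Ideal.span ((𝒜 1 : Submodule k R) : Set R) := hgen ▸ Ideal.subset_span (Set.mem_biUnion hn₀ ha)
    rw [show ((𝒜 1 : Submodule k R) : Set R) = {0} from Set.ext fun x => ⟨h x, fun hx => by
      rw [Set.mem_singleton_iff.1 hx]; exact zero_mem _⟩] at h'
    simpa using h'
  have h1H : (1 : ℕ) ∈ H := ⟨(ev u)⁻¹ • u, by rw [Nat.cast_one]; exact Submodule.smul_mem _ _ hu,
    by rw [map_smul, smul_eq_mul, inv_mul_cancel₀ fun h => hu0 (hinj 1 u hu h)]⟩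
  have htop : H = ⊤ := eq_top_iff.2 fun n _ => by
    have := H.nsmul_mem h1H n
    rwa [nsmul_eq_mul, mul_one] at this
  exact ⟨e.trans ((AddMonoidAlgebra.mapDomainRingEquiv k ((AddEquiv.addSubmonoidCongr htop).trans AddSubmonoid.topEquiv)).trans
    (Polynomial.toFinsuppIso k).symm)⟩

end Groth.Agent.S18653
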