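import Groth.Statements.S18664
import Groth.Agent.Lib.SegLC.SegStd
-- import your own Groth.Agent.* helpers here

set_option autoImplicit false
universe u
open scoped TensorProduct
open GrSegre

namespace Groth.Agent.S18664

/-- Let R and S be standard graded rings defined over a field k which are Cohen–Macaulay, with dim R = 1
and dim S ≥ 2. Then the Segre product T = R # S is a Cohen–Macaulay ring if and only if R is a
polynomial ring over k (in one variable). Here a graded ring defined over k is a commutative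
k-algebra of finite type, graded in nonnegative degrees by k-subspaces with degree-zero part k·1,
standard graded when its irrelevant ideal is generated by the degree-one piece; the Segre product T
= ⊕_n R_n ⊗_k S_n is presented abstractly as a graded k-algebra T with an injective k-algebra
homomorphism ψ : T → R ⊗_k S carrying T_n onto the k-span of the elementary tensors a ⊗ b with a ∈
R_n, b ∈ S_n. -/
theorem result (k : Type u) [Field k] (R : Type u) [CommRing R] [Algebra k R] (𝒜 : ℤ → Submodule k R) [GradedAlgebra 𝒜] (hposR : ∀ n : ℤ, n < 0 → 𝒜 n = ⊥) (h0R : 𝒜 0 = Submodule.span k {(1 : R)}) [Algebra.FiniteType k R] (S : Type u) [CommRing S] [Algebra k S] (ℬ : ℤ → Submodule k S) [GradedAlgebra ℬ] (hposS : ∀ n : ℤ, n < 0 → ℬ n = ⊥) (h0S : ℬ 0 = Submodule.span k {(1 : S)}) [Algebra.FiniteType k S] (T : Type u) [CommRing T] [Algebra k T] (𝒯 : ℤ → Submodule k T) [GradedAlgebra 𝒯] (ψ : T →ₐ[k] TensorProduct k R S) (hψ : Function.Injective ψ) (hdegT : ∀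 n : ℤ, (𝒯 n).map ψ.toLinearMap = Submodule.span k {x : TensorProduct k R S | ∃ a ∈ 𝒜 n, ∃ b ∈ ℬ n, x = a ⊗ₜ[k] b}) [LocCoh.IsCohenMacaulayRing R] [LocCoh.IsCohenMacaulayRing S] (hstdR : Ideal.span (⋃ n ∈ Set.Ioi (0 : ℤ), (𝒜 n : Set R)) = Ideal.span ((𝒜 1 : Submodule k R) : Set R)) (hstdS : Ideal.span (⋃ n ∈ Set.Ioi (0 : ℤ), (ℬ n : Set S)) = Ideal.span ((ℬ 1 : Submodule k S) : Set S)) (hr : ringKrullDim R = 1) (hs : 2 ≤ ringKrullDim S) : LocCoh.IsCohenMacaulayRing T ↔ Nonempty (R ≃ₐ[k] Polynomial k) := by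
  classical
  have : IsNoetherianRing R := Algebra.FiniteType.isNoetherianRing k R
  have : IsNoetherianRing S := Algebra.FiniteType.isNoetherianRing k S
  let mR : HomogeneousIdeal 𝒜 := Groth.Agent.SegLC.irr 𝒜
  let mS : HomogeneousIdeal ℬ := Groth.Agent.SegLC.irr ℬ
  let mT : HomogeneousIdeal 𝒯 := Groth.Agent.SegLC.irr 𝒯
  have : Nontrivial R := by
    by_contra hA
    rw [not_nontrivial_iff_subsingleton] at hA
    rw [ringKrullDim_eq_bot_of_subsingleton] at hr
    simp at hr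
  have : Nontrivial S := by
    by_contra hA
    rw [not_nontrivial_iff_subsingleton] at hA
    rw [ringKrullDim_eq_bot_of_subsingleton] at hs
    simp at hs
  have h1S : 1 ≤ ringKrullDim S := le_trans (by norm_num) hs
  obtain ⟨s, hsd⟩ : ∃ s : ℕ, ringKrullDim S = s := by
    have hm := Groth.Agent.SegLC.isStarLocal_plus hposS h0S (m := mS) rfl
    have hmax := Groth.Agent.GrLC21.isMaximal_starMax (Groth.Agent.SegLC.posA hposS) hm.1
    refine ⟨mS.toIdeal.height.toNat, ?_⟩
    rw [Groth.Agent.GrLC21.ringKrullDim_eq_height (Groth.Agent.SegLC.posA hposS) hm]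
    conv_lhs => rw [← ENat.natCast_toNat (Ideal.height_ne_top hmax.ne_top)]
    rfl
  have h2s : 2 ≤ s := by rw [hsd] at hs; exact_mod_cast hs
  have : IsNoetherianRing T := Groth.Agent.GrSegLib.isNoetherianRing_segre 𝒜 ℬ 𝒯 hψ hdegT
  have hntT : Nontrivial T :=
    ((⟨⟨hψ, hdegT⟩, hposR, hposS, rfl, rfl, rfl⟩ : Groth.Agent.SegLC.Data 𝒜 ℬ 𝒯 ψ mR mS mT).deg0T h0R h0S).1
  have hP := Groth.Agent.GrSegLib.isSegreMod_self 𝒜 ℬ 𝒯 hψ hdegT
  rw [Groth.Agent.GrLC21.isCohenMacaulayRing_iff T]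
  have hRcm := (Groth.Agent.GrLC21.isCohenMacaulayRing_iff R).1 inferInstance
  have hScm := (Groth.Agent.GrLC21.isCohenMacaulayRing_iff S).1 inferInstance
  have D : Groth.Agent.SegLC.Data 𝒜 ℬ 𝒯 ψ mR mS mT := ⟨⟨hψ, hdegT⟩, hposR, hposS, rfl, rfl, rfl⟩
  obtain ⟨I⟩ := Groth.Agent.GrLC21.nonempty_res (𝒜 := 𝒜) 𝒜
  obtain ⟨J⟩ := Groth.Agent.GrLC21.nonempty_res (𝒜 := ℬ) ℬ
  rw [D.cm_segre_iff h0R h0S I J hP (r := 1) le_rfl (show 1 ≤ s by omega)
    ((Module.supportDim_self_eq_ringKrullDim (R := R)).trans (by simpa using hr))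
    ((Module.supportDim_self_eq_ringKrullDim (R := S)).trans hsd) hRcm hScm]
  simp only [h2s, forall_const, show ¬ (2 : ℕ) ≤ 1 by omega, false_implies, true_and]
  constructor
  · intro hB
    refine Groth.Agent.SegLC.nonempty_algEquiv_of_van hposR h0R hstdR hr fun n hn => ?_
    exact (Groth.Agent.GrLC21.Hcomp_eq_bot_iff_van I).1
      ((hB n).resolve_right (Groth.Agent.SegLC.exists_piece_ne_zero hposS h0S hstdS h1S hn))
  · rintro ⟨e⟩ d
    rcases lt_or_ge d 0 with h | h
    · exact Or.inr (Groth.Agent.SegLC.posA hposS d h)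
    · exact Or.inl ((Groth.Agent.GrLC21.Hcomp_eq_bot_iff_van I).2
        (Groth.Agent.SegLC.van_of_algEquiv hposR h0R hstdR hr.ge e d h))

end Groth.Agent.S18664
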