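import Groth.Statements.S18666
import Groth.Agent.Lib.HomLoc29.FlatDegOne
import Groth.Agent.Lib.Goren15.Equiv

set_option autoImplicit false
universe u
open GrProj

namespace Groth.Agent.S18666

open AlgebraicGeometry Pointwise in
/-- Let A = ⊕_{n ≥ 0} A_n be a commutative Noetherian graded ring satisfying condition (#) — there is an
integer d_0 such that for every d ≥ d_0 the Veronese subring A^(d) is generated by A_d over A_0,
equivalently A_{(n+1)d} is additively generated by the products A_d A_{nd} for every n ≥ 1 — and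
assume A is a Gorenstein ring. Then X = Proj A is a Gorenstein scheme: all of its local rings are
Gorenstein local rings. (The Cohen–Macaulay case of the same lemma is stated separately.) -/
theorem result (A : Type u) [CommRing A] (𝒜 : ℕ → AddSubgroup A) [GradedRing 𝒜] [LocCoh.IsGorensteinRing A] (hsharp : ∃ d₀ : ℕ, ∀ d : ℕ, d₀ ≤ d → ∀ n : ℕ, 1 ≤ n → 𝒜 ((n + 1) * d) = AddSubgroup.closure ((𝒜 d : Set A) * (𝒜 (n * d) : Set A))) (x : Proj 𝒜) : LocCoh.IsGorensteinLocalRing ((Proj 𝒜).presheaf.stalk x) := by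
  classical
  let p := x.asHomogeneousIdeal.toIdeal
  obtain ⟨d₀, hd₀⟩ := hsharp
  obtain ⟨D, hD, f, hf, hfp⟩ := Groth.Agent.HomLoc29.exists_pos_notMem 𝒜 x
  have key : ∀ d, d₀ ≤ d → ∃ s ∈ 𝒜 d, s ∉ p := by
    intro d hd
    by_contra hcon
    push Not at hcon
    refine hfp (Ideal.IsPrime.mem_of_pow_mem (inferInstanceAs p.IsPrime) (d + 1) ?_)
    rw [pow_succ']
    refine Ideal.mul_mem_left p f ?_
    have hfd : f ^ d ∈ 𝒜 (D * d) := by simpa [mul_comm] using SetLike.pow_mem_graded d hf
    obtain ⟨m, rfl⟩ : ∃ m, D = m + 1 := ⟨D - 1, by omega⟩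
    rcases m with _ | m
    · exact hcon _ (by simpa using hfd)
    · rw [hd₀ d hd (m + 1) (by omega)] at hfd
      refine (AddSubgroup.closure_le p.toAddSubgroup).2 ?_ hfd
      rintro _ ⟨a, ha, b, -, rfl⟩
      exact Ideal.mul_mem_right b p (hcon a ha)
  obtain ⟨s, hs, hsp⟩ := key d₀ le_rfl
  obtain ⟨s', hs', hs'p⟩ := key (d₀ + 1) (Nat.le_succ _)
  haveI : LocCoh.IsGorensteinLocalRing (Localization.AtPrime p) :=
    LocCoh.IsGorensteinRing.isGorensteinLocalRing_localization p
  exact Groth.Agent.Goren15.isGorensteinLocalRing_of_ringEquiv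
    (h := Groth.Agent.HomLoc29.isGorensteinLocalRing_of_unit_degree_one 𝒜 p hs hs' hsp hs'p)
    (AlgebraicGeometry.Proj.stalkIso' 𝒜 x).symm

end Groth.Agent.S18666
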