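import Groth.Statements.S18668
import Groth.Agent.Lib.GrSect.Basic
import Mathlib.RingTheory.Ideal.Quotient.Operations

set_option autoImplicit false
universe u
open GrSect

namespace Groth.Agent.S18668

/-- Let X be a complete smooth curve of genus g ≥ 1 over an algebraically closed field k, P a closed
point, R = R_{X,P} = ⊕_{n ≥ 0} H^0(X, O_X(nP)) and H = H_{X,P} its Weierstrass semigroup. For any
nonzero t of degree one in R, t is prime in R and the quotient R/tR is isomorphic to k[H], the
semigroup algebra of H. Here the complete smooth curve X over the algebraically closed field k is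
given by its function field K/k (a function field of one variable in which k is algebraically
closed), the closed point P by a place of K/k, g ≥ 1 is the genus, H^0(X, O_X(nP)) = L(nP), and
R_{X,P} = ⊕_{n ≥ 0} L(nP)·T^n is realised as the k-subalgebra of K[T] of polynomials whose
coefficient of T^n lies in L(nP); the Weierstrass semigroup H_{X,P} is the set of n ≥ 0 with ℓ(nP) =
ℓ((n−1)P) + 1. The isomorphism is stated as a k-algebra isomorphism with the semigroup algebra of
the additive submonoid of ℕ generated by H_{X,P} (which is H_{X,P} itself). -/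
theorem result (k : Type u) [Field k] [IsAlgClosed k] (K : Type u) [Field K] [Algebra k K] (hK : FunFld.IsFunctionField k K) (hg : 1 ≤ FunFld.genus k K) (P : FunFld.Place k K) (t : ↥(W4c6gradedringsgw.sectRing (Finsupp.single P 1 : FunFld.Divisor k K))) (a : K) (ha : a ≠ 0) (ht : (t : Polynomial K) = Polynomial.C a * Polynomial.X) : Prime t ∧ Nonempty ((↥(W4c6gradedringsgw.sectRing (Finsupp.single P 1 : FunFld.Divisor k K)) ⧸ Ideal.span {t}) ≃ₐ[k] AddMonoidAlgebra k ↥(AddSubmonoid.closure (W4c6gradedringsgw.poleOrders P))) := by
  have hmem : ∀ {n : ℕ}, n ∈ AddSubmonoid.closure (W4c6gradedringsgw.poleOrders P) ↔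
      n ∈ W4c6gradedringsgw.poleOrders P := fun {n} => by
    rw [← SetLike.mem_coe, GrSect.closure_poleOrders hK]
  have ht0 : t ≠ 0 := fun e => by
    have h := congrArg (fun p : Polynomial K => p.coeff 1) ht
    simp [e] at h
    exact ha h.symm
  have hker := GrSect.ker_phi hK hg t ha ht
  refine ⟨(Ideal.span_singleton_prime ht0).1 (hker ▸ RingHom.ker_isPrime _), ?_⟩
  let ι : AddMonoidAlgebra k ↥(AddSubmonoid.closure (W4c6gradedringsgw.poleOrders P)) →ₐ[k]
      Polynomial k :=
    (Polynomial.toFinsuppIsoAlg k).symm.toAlgHom.comp
      (AddMonoidAlgebra.mapDomainAlgHom k k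
        (AddSubmonoid.closure (W4c6gradedringsgw.poleOrders P)).subtype)
  have hι : ∀ x c, ι (AddMonoidAlgebra.single x c) = Polynomial.monomial (x : ℕ) c := fun x c => by
    apply Polynomial.toFinsupp_injective
    simp [ι, Polynomial.toFinsupp_monomial]
  have hinj : Function.Injective ι :=
    (Polynomial.toFinsuppIsoAlg k).symm.injective.comp
      (AddMonoidAlgebra.mapDomain_injective Subtype.val_injective)
  have hrange : (GrSect.phi hK P).range = ι.range := by
    refine SetLike.coe_injective ?_
    simp only [AlgHom.coe_range]
    refine (GrSect.range_phi hK).trans (Set.Subset.antisymm (fun q hq => ?_) ?_)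
    · show q ∈ ι.range
      rw [q.as_sum_support]
      exact sum_mem fun n hn =>
        ⟨AddMonoidAlgebra.single ⟨n, hmem.2 (hq n (Polynomial.mem_support_iff.1 hn))⟩ (q.coeff n),
          hι _ _⟩
    · rintro _ ⟨x, rfl⟩ n hn
      induction x using AddMonoidAlgebra.induction_on with
      | of y =>
        rw [AddMonoidAlgebra.of_apply, hι, Polynomial.coeff_monomial] at hn
        split at hn
        · rename_i he; exact he ▸ hmem.1 y.2
        · exact absurd rfl hn
      | add f g hf hg =>
        rw [map_add, Polynomial.coeff_add] at hn
        by_cases h : (ι f).coeff n = 0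
        · exact hg (by simpa [h] using hn)
        · exact hf h
      | smul r f hf =>
        rw [map_smul, Polynomial.coeff_smul] at hn
        exact hf fun h => hn (by rw [h, smul_zero])
  exact ⟨(Ideal.quotientEquivAlgOfEq k hker.symm).trans
    ((Ideal.quotientKerEquivRange (GrSect.phi hK P)).trans
      ((Subalgebra.equivOfEq _ _ hrange).trans (AlgEquiv.ofInjective ι hinj).symm))⟩

end Groth.Agent.S18668
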