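import Groth.Statements.S18697
import Groth.Agent.Lib.TorLift24.Main
import Groth.Agent.Lib.TorPts21.Split
import Groth.Agent.Lib.MTRigid29.SubgrpFlatScheme
-- import your own Groth.Agent.* helpers here

set_option autoImplicit false
open CategoryTheory MonoidalCategory CartesianMonoidalCategory MonObj GrpObj AlgebraicGeometry
universe u
open MultTori

namespace Groth.Agent.S18697

open scoped TensorProduct in
theorem isDomain_tensor {k A K F : Type u} [Field k] [CommRing A] [Algebra k A] [Field K] [Algebra k K] [Field F]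
    [Algebra k F] {r : ℕ}
    (E : K ⊗[k] A ≃ₐ[K] MonoidAlgebra K (Multiplicative (Fin r → ℤ))) : IsDomain A ∧ IsDomain (F ⊗[k] A) := by
  haveI : IsDomain (K ⊗[k] A) := E.toMulEquiv.isDomain (MonoidAlgebra K (Multiplicative (Fin r → ℤ)))
  obtain ⟨m, hm⟩ := Ideal.exists_maximal (K ⊗[k] F)
  let L := (K ⊗[k] F) ⧸ m
  letI : Field L := Ideal.Quotient.field m
  let iK : K →ₐ[k] L := (Ideal.Quotient.mkₐ k m).comp Algebra.TensorProduct.includeLeft
  let iF : F →ₐ[k] L := (Ideal.Quotient.mkₐ k m).comp Algebra.TensorProduct.includeRight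
  haveI : IsDomain (L ⊗[k] A) := ((Algebra.TensorProduct.cancelBaseChange k K L L A).symm.trans
    ((Algebra.TensorProduct.congr AlgEquiv.refl E).trans
      (MonoidAlgebra.scalarTensorEquiv K L (M := Multiplicative (Fin r → ℤ))))).toMulEquiv.isDomain
        (MonoidAlgebra L (Multiplicative (Fin r → ℤ)))
  have hA : Function.Injective (Algebra.TensorProduct.includeRight : A →ₐ[k] K ⊗[k] A) :=
    Algebra.TensorProduct.includeRight_injective (algebraMap k K).injective
  have hF : Function.Injective (Algebra.TensorProduct.map iF (AlgHom.id k A)) :=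
    Module.Flat.rTensor_preserves_injective_linearMap iF.toLinearMap iF.toRingHom.injective
  exact ⟨hA.isDomain (Algebra.TensorProduct.includeRight : A →ₐ[k] K ⊗[k] A).toRingHom,
    hF.isDomain (Algebra.TensorProduct.map iF (AlgHom.id k A)).toRingHom⟩

/-- (viii) ⇒ (iii): let k be a field and T an isotrivial k-torus (isomorphic to a split torus of some
rank after one finite étale surjective base change) which is retract rational over k: there are a
nonempty open subscheme U of T, an open subscheme Y of an affine space over k and k-morphisms U → Y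
→ U whose composite is the identity of U. Then for every local k-algebra A with residue field κ the
reduction map T(A) → T(κ) is surjective: every k-morphism Spec κ → T factors through an A-point of
T. -/
theorem result
    (k : Type u) [Field k] (T : Over (Spec (CommRingCat.of k))) [GrpObj T]
    (hT : ∃ r : ℕ, TwC.Locally (Spec (CommRingCat.of k)) .finiteEtale
        (fun S' g => Red.IsSplitTorusWith (Fin r → ℤ) (Red.bc g T)))
    (hret : ∃ (U : T.left.Opens) (n : ℕ) (Y : (Spec (CommRingCat.of (MvPolynomial (Fin n) k))).Opens)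
        (a : (U : Scheme.{u}) ⟶ (Y : Scheme.{u})) (b : (Y : Scheme.{u}) ⟶ (U : Scheme.{u})),
        (U : Set T.left).Nonempty ∧ a ≫ b = 𝟙 (U : Scheme.{u}) ∧
        a ≫ Y.ι ≫ Spec.map (CommRingCat.ofHom (algebraMap k (MvPolynomial (Fin n) k))) = U.ι ≫ T.hom ∧
        b ≫ U.ι ≫ T.hom = Y.ι ≫ Spec.map (CommRingCat.ofHom (algebraMap k (MvPolynomial (Fin n) k)))) :
    ∀ (A : Type u) [CommRing A] [IsLocalRing A] [Algebra k A]
        (u : Spec (CommRingCat.of (IsLocalRing.ResidueField A)) ⟶ T.left),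
        u ≫ T.hom = Spec.map (CommRingCat.ofHom ((IsLocalRing.residue A).comp (algebraMap k A))) →
        ∃ s : Spec (CommRingCat.of A) ⟶ T.left, s ≫ T.hom = Spec.map (CommRingCat.ofHom (algebraMap k A)) ∧
          Spec.map (CommRingCat.ofHom (IsLocalRing.residue A)) ≫ s = u := by
  obtain ⟨r₀, hloc⟩ := hT
  have hTor : Red.IsTorus T := by
    obtain ⟨S', f, hf, het, hs, h⟩ := hloc
    haveI := hf; haveI := het
    refine ⟨S', f, inferInstance, hs, fun V hV => ⟨f ⁻¹ᵁ V, (hV.preimage f).isCompact, ?_⟩, fun s' => ?_⟩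
    · exact Set.image_preimage_eq _ hs.surj
    · obtain ⟨U, hU, -, hP⟩ := h s'
      exact ⟨U, hU, r₀, hP⟩
  obtain ⟨A₀, _, _, K, _, _, r, ⟨E⟩, ⟨e⟩⟩ := Groth.Agent.TorPts21.exists_model hTor
  have hft : SGA3x.IsMultTypeFT T := by
    obtain ⟨S', f, h1, h2, h3, h4⟩ := hTor
    refine ⟨S', f, h1, h2, h3, fun s => ?_⟩
    obtain ⟨U, hU, r', h⟩ := h4 s
    exact ⟨U, hU, Fin r' → ℤ, inferInstance, AddGroup.fg_iff_addMonoid_fg.2 inferInstance, h⟩
  let E₀ : CoactBr.sp k A₀ ≅ T := (Grp.forget _).mapIso e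
  haveI : IsMonHom E₀.hom := e.hom.hom.isMonHom_hom
  haveI : Mono E₀.hom := IsIso.mono_of_iso _
  haveI := MTRigid29.isCocomm_of_model hft E₀.hom
  let θi : Spec (CommRingCat.of A₀) ≅ T.left := (Over.forget _).mapIso E₀
  have hθi : θi.hom ≫ T.hom = Spec.map (CommRingCat.ofHom (algebraMap k A₀)) := Over.w E₀.hom
  obtain ⟨U, n, Y, a, b, hne, hab, ha, hb⟩ := hret
  haveI : IsIso (θi.hom ∣_ U) := inferInstance
  let ρ : TorLift24.Retr k A₀ n :=
    { U := θi.hom ⁻¹ᵁ U
      ne := by
        obtain ⟨t, ht⟩ := hne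
        obtain ⟨z, rfl⟩ := θi.hom.surjective t
        exact ⟨z, ht⟩
      Y := Y
      a := (θi.hom ∣_ U) ≫ a
      b := b ≫ inv (θi.hom ∣_ U)
      hab := by rw [Category.assoc, reassoc_of% hab, IsIso.hom_inv_id]
      ha := by rw [Category.assoc, ha, morphismRestrict_ι_assoc, hθi]
      hb := by
        rw [← hb, Category.assoc]
        congr 1
        rw [IsIso.inv_comp_eq, morphismRestrict_ι_assoc, hθi] }
  intro A _ _ _ u hu
  obtain ⟨h1, h2⟩ := isDomain_tensor (F := IsLocalRing.ResidueField A) E.toAlgEquiv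
  haveI := h1; haveI := h2
  obtain ⟨u₀, hu₀⟩ := TorLift24.Retr.exists_hom (k := k) (B := A₀) (u ≫ θi.inv) (by
    rw [Category.assoc, ← hθi, Iso.inv_hom_id_assoc, hu]; rfl)
  let π : A →ₐ[k] IsLocalRing.ResidueField A := IsScalarTower.toAlgHom k A _
  obtain ⟨s, hs⟩ := TorLift24.exists_lift ρ π IsLocalRing.residue_surjective u₀
  refine ⟨TorLift24.sm s ≫ θi.hom, ?_, ?_⟩
  · rw [Category.assoc, hθi, ← Spec.map_comp]
    exact congrArg Spec.map (CommRingCat.hom_ext (RingHom.ext fun c => s.commutes c))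
  · have h : TorLift24.sm π ≫ TorLift24.sm s = u ≫ θi.inv := by rw [← TorLift24.sm_comp, hs, hu₀]
    show TorLift24.sm π ≫ _ = _
    rw [reassoc_of% h, Iso.inv_hom_id, Category.comp_id]

end Groth.Agent.S18697
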