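import Groth.Prelude.Def_CAlg
import Mathlib.LinearAlgebra.Dual.Lemmas
import Mathlib.RingTheory.Support
import Mathlib.RingTheory.KrullDimension.Module
import Mathlib.RingTheory.Noetherian.Basic
import Mathlib.RingTheory.Finiteness.Defs
import Mathlib.RingTheory.Localization.AtPrime.Basic
import Mathlib.Algebra.Module.LocalizedModule.Basic
import Mathlib.RingTheory.Ideal.Height
import Mathlib
import Groth.Agent.Lib.Depth.SkOps

set_option autoImplicit false
universe u
namespace QGor
end QGor
open QGor

namespace Groth.Agent.S18699

/-- Affine form. Let A be a Noetherian ring, M a finite A-module with Serre's condition (S_k), and I an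
ideal of A such that dim Supp(M_p) ≥ k for every prime p ⊇ I in the support of M (the closed set
V(I) meets Supp M in codimension at least k). Then the I-depth of M is at least k. -/
theorem result (k : ℕ) (A : Type u) [CommRing A] [IsNoetherianRing A]
    (M : Type u) [AddCommGroup M] [Module A M] [Module.Finite A M] (I : Ideal A)
    (hS : LocCoh.HasSk k A M)
    (hcodim : ∀ p : PrimeSpectrum A, I ≤ p.asIdeal → p ∈ Module.support A M →
      (k : WithBot ℕ∞) ≤ Module.supportDim (Localization.AtPrime p.asIdeal) (LocalizedModule p.asIdeal.primeCompl M)) :
    (k : ℕ∞) ≤ LocCoh.idealDepth I M := by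
  rw [DepthLib.natCast_le_idealDepth_iff_forall_localized]
  intro p hp
  by_cases hs : p ∈ Module.support A M
  · have h := hS p.asIdeal
    rw [min_eq_left (hcodim p hp hs)] at h
    exact_mod_cast h
  · have : Subsingleton (LocalizedModule p.asIdeal.primeCompl M) :=
      Module.notMem_support_iff.mp hs
    rw [LocCoh.depth, DepthLib.idealDepth_of_smul_top_eq_top (Subsingleton.elim _ _)]
    exact le_top

end Groth.Agent.S18699
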