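import Groth.Statements.S18704
import Mathlib
import Groth.Agent.S18702
import Groth.Agent.S18703
-- import your own Groth.Agent.* helpers here

set_option autoImplicit false
universe u
open QGor

namespace Groth.Agent.S18704

/-- Affine form. Let A be a Noetherian ring with Serre's condition (S_2), I an ideal with ht I ≥ 2
(every prime containing I has height ≥ 2), and G a finite A-module with G_p reflexive for every
prime p not containing I. Then the following are equivalent: (i) G has (S_2) and dim Supp(G_p) ≥ 2
for every prime p ⊇ I in Supp G; (ii) depth_I G ≥ 2; (iii) G is reflexive. -/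
theorem result (A : Type u) [CommRing A] [IsNoetherianRing A]
    (hA : LocCoh.HasSk 2 A A) (I : Ideal A) (hI : 2 ≤ I.height)
    (G : Type u) [AddCommGroup G] [Module A G] [Module.Finite A G]
    (hU : ∀ p : PrimeSpectrum A, ¬ I ≤ p.asIdeal →
      Module.IsReflexive (Localization.AtPrime p.asIdeal) (LocalizedModule p.asIdeal.primeCompl G)) :
    ((LocCoh.HasSk 2 A G ∧ ∀ p : PrimeSpectrum A, I ≤ p.asIdeal → p ∈ Module.support A G →
        (2 : WithBot ℕ∞) ≤ Module.supportDim (Localization.AtPrime p.asIdeal) (LocalizedModule p.asIdeal.primeCompl G)) ↔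
      2 ≤ LocCoh.idealDepth I G) ∧
    (2 ≤ LocCoh.idealDepth I G ↔ Module.IsReflexive A G) := by
  have h2A : 2 ≤ LocCoh.idealDepth I A := by
    refine (DepthLib.natCast_le_idealDepth_iff_forall_localized (R := A) (M := A) 2).2 fun p hp => ?_
    refine WithBot.coe_le_coe.1 ((le_min le_rfl ?_).trans (hA p.asIdeal))
    rw [DepthLib.supportDim_eq_ringKrullDim_of_isPrime]
    exact WithBot.coe_le_coe.2 (hI.trans (Ideal.height_mono hp))
  have hii : 2 ≤ LocCoh.idealDepth I G → Module.IsReflexive A G :=
    Groth.Agent.S18703.result A I (le_trans one_le_two h2A) G hU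
  refine ⟨⟨fun ⟨hS, hd⟩ => ?_, fun h => ?_⟩, ⟨hii, fun h => ?_⟩⟩
  · refine (DepthLib.natCast_le_idealDepth_iff_forall_localized (R := A) (M := G) 2).2 fun p hp => ?_
    by_cases hsupp : p ∈ Module.support A G
    · exact WithBot.coe_le_coe.1 ((le_min le_rfl (hd p hp hsupp)).trans (hS p.asIdeal))
    · have := Module.notMem_support_iff.1 hsupp
      exact le_top.trans_eq
        (DepthLib.idealDepth_of_smul_top_eq_top (Subsingleton.elim _ _)).symm
  · have := hii h
    refine ⟨((Groth.Agent.S18702.result A I G).2.2.2 hA), fun p hp hsupp => ?_⟩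
    have := Module.mem_support_iff.1 hsupp
    exact (WithBot.coe_le_coe.2
      ((DepthLib.natCast_le_idealDepth_iff_forall_localized (R := A) (M := G) 2).1 h p hp)).trans
      DepthLib.depth_le_supportDim
  · exact (Groth.Agent.S18702.result A I G).2.1 h2A

end Groth.Agent.S18704
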