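import Groth.Statements.S18706
import Mathlib
import Groth.Agent.Lib.FlatDepth.Infinitesimal
-- import your own Groth.Agent.* helpers here

set_option autoImplicit false
universe u
open QGor

open TensorProduct

namespace Groth.Agent.S18706

/-- Affine-local form. Let A → B be a local homomorphism of Noetherian local rings, m the maximal ideal
of A, J an ideal of B and M a finite B-module with M_q flat over A for every prime q not containing
J. If depth_J (M/mM) ≥ 2 (the restriction map of the closed fibre of M to the complement of V(J) is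
bijective), then depth_J (M/m^(n+1)M) ≥ 2 for every n ≥ 0 (the same holds for every infinitesimal
neighbourhood of the closed fibre). -/
theorem result (A B : Type u) [CommRing A] [CommRing B]
    [IsNoetherianRing A] [IsNoetherianRing B] [IsLocalRing A] [IsLocalRing B] [Algebra A B]
    [IsLocalHom (algebraMap A B)] (J : Ideal B)
    (M : Type u) [AddCommGroup M] [Module B M] [Module A M] [IsScalarTower A B M] [Module.Finite B M]
    (hU : ∀ q : PrimeSpectrum B, ¬ J ≤ q.asIdeal → FlatCA.FlatAt A q.asIdeal M)
    (h2 : 2 ≤ LocCoh.idealDepth J (EGA4.FibMod A B M)) (n : ℕ) :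
    2 ≤ LocCoh.idealDepth J (M ⧸ ((EGA4.mB A B) ^ (n + 1) • (⊤ : Submodule B M))) := by
  have h2' : ((2 : ℕ) : ℕ∞) ≤ LocCoh.idealDepth J (M ⊗[A] (A ⧸ IsLocalRing.maximalIdeal A)) := by
    rw [DepthLib.idealDepth_congr (FlatDepth.fibModEquiv (R := A) (S := B) M)]
    exact_mod_cast h2
  haveI := FlatDepth.flat_of_flatAt_off J hU (le_trans (by norm_num) h2')
  have h := FlatDepth.idealDepth_tensor_quot_pow J 2 h2' n
  rw [DepthLib.idealDepth_congr ((FlatDepth.tensorQuotEquiv (S := B) M _).trans
    (Submodule.quotEquivOfEq _ ((EGA4.mB A B) ^ (n + 1) • (⊤ : Submodule B M)) (by rw [Ideal.map_pow])))] at h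
  exact_mod_cast h

end Groth.Agent.S18706
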