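import Groth.Statements.S18708
import Mathlib
import Groth.Agent.Lib.FlatDepth.Coker
import Groth.Agent.Lib.FlatDepth.Infinitesimal
import Groth.Agent.Lib.Depth.SkOps
-- import your own Groth.Agent.* helpers here

set_option autoImplicit false
universe u
open QGor

open TensorProduct

namespace Groth.Agent.S18708

/-- Affine-local form at a point of the equivalence (b) ⇔ (c) ⇔ (b″) and of the note after it. Let A → B
be a local homomorphism of Noetherian local rings, m the maximal ideal of A, J an ideal of B and 0 →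
F → E⁰ → E¹ → G → 0 an exact sequence of finite B-modules with E⁰, E¹ flat over A, G_q flat over A
for every prime q not containing J, depth_J (E⁰/mE⁰) ≥ 2 and depth_J (E¹/mE¹) ≥ 1. Then depth_J
(F/mF) ≥ 2 (the restriction map of the closed fibre of F off V(J) is bijective) if and only if G is
flat over A, if and only if depth_J (F/m^(n+1)F) ≥ 2 for all n; and when G is flat over A so is F. -/
theorem result (A B : Type u) [CommRing A] [CommRing B]
    [IsNoetherianRing A] [IsNoetherianRing B] [IsLocalRing A] [IsLocalRing B] [Algebra A B]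
    [IsLocalHom (algebraMap A B)] (J : Ideal B)
    (F E0 E1 G : Type u) [AddCommGroup F] [Module B F] [Module A F] [IsScalarTower A B F] [Module.Finite B F]
    [AddCommGroup E0] [Module B E0] [Module A E0] [IsScalarTower A B E0] [Module.Finite B E0] [Module.Flat A E0]
    [AddCommGroup E1] [Module B E1] [Module A E1] [IsScalarTower A B E1] [Module.Finite B E1] [Module.Flat A E1]
    [AddCommGroup G] [Module B G] [Module A G] [IsScalarTower A B G] [Module.Finite B G]
    (f : F →ₗ[B] E0) (u : E0 →ₗ[B] E1) (v : E1 →ₗ[B] G)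
    (hf : Function.Injective f) (hfu : Function.Exact f u) (huv : Function.Exact u v) (hv : Function.Surjective v)
    (hGU : ∀ q : PrimeSpectrum B, ¬ J ≤ q.asIdeal → FlatCA.FlatAt A q.asIdeal G)
    (h0 : 2 ≤ LocCoh.idealDepth J (EGA4.FibMod A B E0)) (h1 : 1 ≤ LocCoh.idealDepth J (EGA4.FibMod A B E1)) :
    (2 ≤ LocCoh.idealDepth J (EGA4.FibMod A B F) ↔ Module.Flat A G) ∧
    (Module.Flat A G ↔ ∀ n : ℕ, 2 ≤ LocCoh.idealDepth J (F ⧸ ((EGA4.mB A B) ^ (n + 1) • (⊤ : Submodule B F)))) ∧
    (Module.Flat A G → Module.Flat A F) := by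
  let k := A ⧸ IsLocalRing.maximalIdeal A
  have hk : ∀ (N : Type u) [AddCommGroup N] [Module B N] [Module A N] [IsScalarTower A B N],
      LocCoh.idealDepth J (EGA4.FibMod A B N) = LocCoh.idealDepth J (N ⊗[A] k) := fun N _ _ _ _ =>
    (DepthLib.idealDepth_congr (FlatDepth.fibModEquiv N)).symm
  simp only [hk] at h0 h1 ⊢
  let p : E0 →ₗ[B] LinearMap.range u := u.rangeRestrict
  have hp : Function.Surjective p := u.surjective_rangeRestrict
  have hfp : Function.Exact f p := fun x => by
    rw [← hfu x]
    exact ⟨fun h => congrArg Subtype.val h, fun h => Subtype.ext h⟩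
  have hi : Function.Injective (LinearMap.range u).subtype := (LinearMap.range u).injective_subtype
  have hiv : Function.Exact (LinearMap.range u).subtype v := fun x => by
    rw [huv x]
    exact ⟨fun ⟨w, hw⟩ => ⟨⟨x, w, hw⟩, rfl⟩, fun ⟨⟨_, w, hw⟩, hw'⟩ => ⟨w, hw.trans hw'⟩⟩
  have hKU : ∀ q : PrimeSpectrum B, ¬ J ≤ q.asIdeal → FlatCA.FlatAt A q.asIdeal (LinearMap.range u) :=
    fun q hq => FlatDepth.flatAt_kernel _ v hi hiv hv q.asIdeal (hGU q hq)
  have hFU : ∀ q : PrimeSpectrum B, ¬ J ≤ q.asIdeal → FlatCA.FlatAt A q.asIdeal F :=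
    fun q hq => FlatDepth.flatAt_kernel f p hf hfp hp q.asIdeal (hKU q hq)
  have hKF : Module.Flat A G → Module.Flat A (LinearMap.range u) ∧ Module.Flat A F := fun hG => by
    haveI : Module.Flat A (LinearMap.range u) := FlatSyz.flat_of_exact
      ((LinearMap.range u).subtype.restrictScalars A) hi (v.restrictScalars A) hiv hv
    exact ⟨inferInstance, FlatSyz.flat_of_exact (f.restrictScalars A) hf (p.restrictScalars A) hfp hp⟩
  have hdepth : Module.Flat A G → 2 ≤ LocCoh.idealDepth J (F ⊗[A] k) := fun hG => by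
    obtain ⟨hK, hF⟩ := hKF hG
    let fk : F ⊗[A] k →ₗ[B] E0 ⊗[A] k := FlatDepth.mapLeft f
    let uk : E0 ⊗[A] k →ₗ[B] E1 ⊗[A] k := FlatDepth.mapLeft u
    have hfk : Function.Injective fk := FlatDepth.mapLeft_injective_of_flat f p hf hfp hp k
    have hik : Function.Injective (FlatDepth.mapLeft (R := A) (M := k) (LinearMap.range u).subtype) :=
      FlatDepth.mapLeft_injective_of_flat _ v hi hiv hv k
    have hex : LinearMap.ker uk = LinearMap.range fk := by
      ext z
      have hz : uk z = FlatDepth.mapLeft (LinearMap.range u).subtype (FlatDepth.mapLeft p z) := by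
        induction z with
        | zero => simp
        | tmul a b => rfl
        | add a b ha hb => simp only [map_add, ha, hb]
      rw [LinearMap.mem_ker, hz, map_eq_zero_iff _ hik, FlatDepth.mapLeft_apply,
        rTensor_exact k (f := f.restrictScalars A) (g := p.restrictScalars A) hfp hp z]
      exact ⟨fun ⟨w, hw⟩ => ⟨w, (FlatDepth.mapLeft_apply f w).trans hw⟩,
        fun ⟨w, hw⟩ => ⟨w, (FlatDepth.mapLeft_apply f w).symm.trans hw⟩⟩
    rw [DepthLib.idealDepth_congr ((LinearEquiv.ofInjective fk hfk).trans (LinearEquiv.ofEq _ _ hex.symm))]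
    exact DepthLib.two_le_idealDepth_ker J uk h0 h1
  have hflat : 2 ≤ LocCoh.idealDepth J (F ⊗[A] k) → Module.Flat A G := fun h2 => by
    have hFk1 : 1 ≤ LocCoh.idealDepth J (F ⊗[A] k) := le_trans one_le_two h2
    have hfk := FlatDepth.fibre_injective_of_depth f p hf hfp hp J hKU hFk1
    have hKk1 : 1 ≤ LocCoh.idealDepth J ((LinearMap.range u) ⊗[A] k) := by
      have hS := DepthLib.shortExact_of_linearMap hfk (FlatDepth.mapLeft_surjective (R := A) (M := k) hp)
        (fun z => by
          rw [FlatDepth.mapLeft_apply,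
            rTensor_exact k (f := f.restrictScalars A) (g := p.restrictScalars A) hfp hp z]
          exact ⟨fun ⟨w, hw⟩ => ⟨w, (FlatDepth.mapLeft_apply f w).trans hw⟩,
            fun ⟨w, hw⟩ => ⟨w, (FlatDepth.mapLeft_apply f w).symm.trans hw⟩⟩)
      exact le_trans (le_min (le_trans one_le_two h0)
        (ENat.le_sub_of_add_le_right ENat.one_ne_top (by rwa [one_add_one_eq_two])))
        (DepthLib.idealDepth_shortExact (I := J) hS).2.1
    exact FlatDepth.flat_coker_of_fibre_injective _ v hiv hv
      (FlatDepth.fibre_injective_of_depth _ v hi hiv hv J hGU hKk1)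
  refine ⟨⟨hflat, hdepth⟩, ⟨fun hG n => ?_, fun h => hflat ?_⟩, fun hG => (hKF hG).2⟩
  · haveI := (hKF hG).2
    have h := FlatDepth.idealDepth_tensor_quot_pow J 2 (hdepth hG) n
    rw [DepthLib.idealDepth_congr ((FlatDepth.tensorQuotEquiv (S := B) F _).trans
      (Submodule.quotEquivOfEq _ ((EGA4.mB A B) ^ (n + 1) • (⊤ : Submodule B F)) (by rw [Ideal.map_pow])))] at h
    exact h
  · have h := h 0
    rw [DepthLib.idealDepth_congr ((Submodule.quotEquivOfEq _ (EGA4.mB A B • (⊤ : Submodule B F))
      (by rw [zero_add, pow_one])).trans (FlatDepth.fibModEquiv F).symm)] at h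
    exact h

end Groth.Agent.S18708
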