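import Groth.Prelude.Def_CAlg
import Mathlib.LinearAlgebra.Dual.Lemmas
import Mathlib.RingTheory.Support
import Mathlib.RingTheory.KrullDimension.Module
import Mathlib.RingTheory.Noetherian.Basic
import Mathlib.RingTheory.Finiteness.Defs
import Mathlib.RingTheory.Localization.AtPrime.Basic
import Mathlib.Algebra.Module.LocalizedModule.Basic
import Mathlib.RingTheory.Ideal.Height
import Groth.Prelude.Def_EGA4b
import Groth.Prelude.Def_FlatCA
import Mathlib.RingTheory.Flat.Basic
import Mathlib.Algebra.Exact.Basic
import Mathlib.LinearAlgebra.Quotient.Basic
import Mathlib.RingTheory.Ideal.Maps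
import Mathlib.LinearAlgebra.FreeModule.Basic
import Groth.Agent.Lib.Gems6.FourTerm

set_option autoImplicit false
universe u
namespace QGor
end QGor
open QGor

namespace Groth.Agent.S18709

/-- Affine form; the flatness and depth hypotheses of the printed lemma only serve to place the sequence
in the situation of the key proposition and are not needed for the existence. Let B be a Noetherian
ring, J an ideal and F a finite reflexive B-module with F_q free for every prime q not containing J.
Then there is an exact sequence 0 → F → Bⁿ → Bᵐ → G → 0 with G_q free for every prime q not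
containing J. -/
theorem result (B : Type u) [CommRing B] [IsNoetherianRing B]
    (J : Ideal B) (F : Type u) [AddCommGroup F] [Module B F] [Module.Finite B F] [Module.IsReflexive B F]
    (hU : ∀ q : PrimeSpectrum B, ¬ J ≤ q.asIdeal →
      Module.Free (Localization.AtPrime q.asIdeal) (LocalizedModule q.asIdeal.primeCompl F)) :
    ∃ (n m : ℕ) (g : F →ₗ[B] (Fin n → B)) (h : (Fin n → B) →ₗ[B] (Fin m → B)),
      Function.Injective g ∧ Function.Exact g h ∧
      ∀ q : PrimeSpectrum B, ¬ J ≤ q.asIdeal →
        Module.Free (Localization.AtPrime q.asIdeal)
          (LocalizedModule q.asIdeal.primeCompl ((Fin m → B) ⧸ LinearMap.range h)) := by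
  exact Groth.Agent.Gems6.FourTerm.exists_presentation J F hU

end Groth.Agent.S18709
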