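import Groth.Statements.S1871
import Groth.Agent.Lib.Diag27.Prod
import Groth.Agent.Lib.IntMult26.Local
-- import your own Groth.Agent.* helpers here

set_option autoImplicit false
universe u
open CategoryTheory AlgebraicGeometry
attribute [local instance] HasDerivedCategory.standard
open IntMult

namespace Groth.Agent.S1871

/-- Positivity of intersection multiplicities. Let X be a nonsingular variety of dimension n over an
algebraically closed field K (X integral, smooth, separated and quasi-compact over K), and V, W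
integral closed subschemes of X, given by quasi-coherent ideal sheaves, of dimensions r and s, which
intersect properly (if V ∩ W is nonempty then n ≤ r + s and dim(V ∩ W) ≤ r + s − n). Let ξ be the
generic point of an irreducible component Z of V ∩ W, i.e. a point of V ∩ W such that every point of
V ∩ W specializing to ξ equals ξ. Then the intersection multiplicity e(X, V·W, Z) = ∑_i (−1)^i
length_{O_{X,ξ}} Tor_i^{O_{X,ξ}}(O_{X,ξ}/I_{W,ξ}, O_{X,ξ}/I_{V,ξ}) is positive. -/
theorem result (K : Type u) [Field K] [IsAlgClosed K] (X : Scheme.{u}) (f : X ⟶ Spec (CommRingCat.of K)) [Smooth f] [IsSeparated f] [QuasiCompact f] [IsIntegral X] (IV IW : X.IdealSheafData) [IsIntegral IV.subscheme] [IsIntegral IW.subscheme] (n r s : ℕ) (hn : topologicalKrullDim X = n) (hr : topologicalKrullDim IV.support = r) (hs : topologicalKrullDim IW.support = s) (hprop : IntMult.ProperInt (IV.support : Set X) (IW.support : Set X) n r s) (ξ : X) (hξV : ξ ∈ IV.support) (hξW : ξ ∈ IW.support) (hmax : ∀ ξ' : X, ξ' ∈ IV.support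 → ξ' ∈ IW.support → ξ' ⤳ ξ → ξ' = ξ) : 0 < IntMult.mult IV IW ξ := by
  obtain ⟨hreg, hsupp, hle, t, a, b, ht, ha, hb, hab⟩ :=
    IntMult26.local_data f IV IW n r s hn hr hs hprop ξ hξV hξW hmax
  haveI := hreg
  obtain ⟨V, hV, hxV, -⟩ := exists_isAffineOpen_mem_and_subset (show ξ ∈ (⊤ : X.Opens) from trivial)
  have h1 := f.smooth_appLE (isAffineOpen_top (Spec (CommRingCat.of K))) hV (le_top : V ≤ f ⁻¹ᵁ ⊤)
  let e := (Scheme.ΓSpecIso (CommRingCat.of K)).symm.commRingCatIsoToRingEquiv
  have h2 : ((f.appLE ⊤ V le_top).hom.comp e.toRingHom).Smooth :=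
    RingHom.Smooth.comp (RingHom.Smooth.of_bijective e.bijective) h1
  letI : Algebra K Γ(X, V) := ((f.appLE ⊤ V le_top).hom.comp e.toRingHom).toAlgebra
  haveI : Algebra.Smooth K Γ(X, V) := h2
  letI := X.presheaf.algebra_section_stalk (⟨ξ, hxV⟩ : V)
  haveI := hV.isLocalization_stalk ⟨ξ, hxV⟩
  have hJ : IntMult.stalkIdeal IW ξ ≠ ⊤ := fun h => by
    haveI : Subsingleton (X.presheaf.stalk ξ ⧸ IntMult.stalkIdeal IW ξ) := Ideal.Quotient.subsingleton_iff.2 h
    rw [ringKrullDim_eq_bot_of_subsingleton] at ha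
    exact WithBot.bot_ne_natCast a ha
  exact Groth.Agent.Diag27.chi_pos_of_smooth (K := K) (R := Γ(X, V)) (hV.primeIdealOf ⟨ξ, hxV⟩).asIdeal
    (IntMult.stalkIdeal IV ξ) (IntMult.stalkIdeal IW ξ)
    (ne_top_of_le_ne_top (IsLocalRing.maximalIdeal.isMaximal _).ne_top hle) hJ ht ha hb hab hsupp


end Groth.Agent.S1871
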