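import Groth.Statements.S18710
import Mathlib
import Groth.Agent.Lib.FlatDepth.Rings
-- import your own Groth.Agent.* helpers here

set_option autoImplicit false
universe u
open QGor

namespace Groth.Agent.S18710

open TensorProduct in
/-- Affine form. Let A → B be a flat homomorphism of Noetherian rings and I an ideal of A with V(I)
contained in the image of Spec B → Spec A (every prime containing I is a contraction of a prime of
B). Then ht(IB) = ht(I) (codimension of the preimage equals codimension), and for every finite
A-module G one has depth_{IB} (B ⊗_A G) = depth_I G. -/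
theorem result (A B : Type u) [CommRing A] [CommRing B]
    [IsNoetherianRing A] [IsNoetherianRing B] [Algebra A B] [Module.Flat A B] (I : Ideal A)
    (hI : ∀ p : PrimeSpectrum A, I ≤ p.asIdeal → ∃ q : PrimeSpectrum B, q.asIdeal.comap (algebraMap A B) = p.asIdeal)
    (G : Type u) [AddCommGroup G] [Module A G] [Module.Finite A G] :
    (I.map (algebraMap A B)).height = I.height ∧
    LocCoh.idealDepth (I.map (algebraMap A B)) (B ⊗[A] G) = LocCoh.idealDepth I G := by
  haveI : Module.Finite B B := inferInstance
  have hsuppB : Module.support B B = Set.univ := by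
    refine Set.eq_univ_of_forall fun q => ?_
    rw [Module.support_eq_zeroLocus, PrimeSpectrum.mem_zeroLocus]
    intro a ha
    have := Module.mem_annihilator.1 ha (1 : B)
    rw [smul_eq_mul, mul_one] at this
    rw [this]; exact q.asIdeal.zero_mem
  -- a generic point of the fibre over each prime containing `I`
  have hgen : ∀ p : PrimeSpectrum A, I ≤ p.asIdeal → ∃ q : PrimeSpectrum B,
      q.asIdeal.comap (algebraMap A B) = p.asIdeal ∧ I.map (algebraMap A B) ≤ q.asIdeal ∧
      ringKrullDim (EGA4.FibLocRing A B q.asIdeal) = 0 := by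
    intro p hp
    obtain ⟨q₀, hq₀⟩ := hI p hp
    obtain ⟨q, -, -, hqc, hdim⟩ := FlatDepth.exists_fibre_generic (A := A) (F := B) q₀
      (hsuppB ▸ Set.mem_univ _) p (le_of_eq hq₀.symm)
    have hqc' : q.asIdeal.comap (algebraMap A B) = p.asIdeal := congrArg PrimeSpectrum.asIdeal hqc
    rw [(FlatDepth.fib_self_invariants q.asIdeal).2] at hdim
    exact ⟨q, hqc', Ideal.map_le_iff_le_comap.2 (hqc' ▸ hp),
      le_antisymm hdim ringKrullDim_nonneg_of_nontrivial⟩
  refine ⟨le_antisymm ?_ ?_, ?_⟩
  · conv_rhs => rw [Ideal.height_eq_inf_minimalPrimes]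
    refine le_iInf₂ fun J hJ => ?_
    haveI := hJ.isPrime
    obtain ⟨q, hqc, hIq, h0⟩ := hgen ⟨J, hJ.isPrime⟩ hJ.1.2
    refine (Ideal.height_mono hIq).trans ?_
    have h := (FlatDepth.ring_invariants (A := A) q.asIdeal).2
    rw [h0, add_zero, IsLocalization.AtPrime.ringKrullDim_eq_height q.asIdeal,
      IsLocalization.AtPrime.ringKrullDim_eq_height (q.asIdeal.comap (algebraMap A B))] at h
    have h' := WithBot.coe_le_coe.1 h.le
    simp only [hqc] at h'
    exact h'
  · conv_rhs => rw [Ideal.height_eq_inf_minimalPrimes]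
    refine le_iInf₂ fun J hJ => ?_
    haveI := hJ.isPrime
    refine (Ideal.height_mono (J := J.comap (algebraMap A B))
      (Ideal.map_le_iff_le_comap.1 hJ.1.2)).trans ?_
    have h := (FlatDepth.ring_invariants (A := A) J).2
    rw [IsLocalization.AtPrime.ringKrullDim_eq_height J,
      IsLocalization.AtPrime.ringKrullDim_eq_height (J.comap (algebraMap A B))] at h
    refine WithBot.coe_le_coe.1 (le_trans ?_ h.ge)
    exact le_add_of_nonneg_right ringKrullDim_nonneg_of_nontrivial
  · refine ENat.eq_of_forall_natCast_le_iff fun n => ?_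
    rw [DepthLib.natCast_le_idealDepth_iff_forall_localized (R := B) (M := B ⊗[A] G) n,
      DepthLib.natCast_le_idealDepth_iff_forall_localized (R := A) (M := G) n]
    constructor
    · intro h p hp
      obtain ⟨q, hqc, hIq, h0⟩ := hgen p hp
      have hd0 : LocCoh.depth (EGA4.FibLocRing A B q.asIdeal) (EGA4.FibLocRing A B q.asIdeal) = 0 :=
        nonpos_iff_eq_zero.1 (WithBot.coe_le_coe.1 (DepthLib.depth_le_supportDim.trans
          ((Module.supportDim_self_eq_ringKrullDim _).le.trans h0.le)))
      have h1 := h q hIq
      rw [(FlatDepth.atPrime_invariants (A := A) B G q.asIdeal).1,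
        (FlatDepth.fib_self_invariants q.asIdeal).1, hd0, add_zero] at h1
      have key : ∀ (a : Ideal A) [a.IsPrime], a = p.asIdeal →
          (n : ℕ∞) ≤ LocCoh.depth (Localization.AtPrime a) (LocalizedModule a.primeCompl G) →
          (n : ℕ∞) ≤ LocCoh.depth (Localization.AtPrime p.asIdeal) (LocalizedModule p.asIdeal.primeCompl G) := by
        intro a _ e h; subst e; exact h
      exact key _ hqc h1
    · intro h q hq
      rw [(FlatDepth.atPrime_invariants (A := A) B G q.asIdeal).1]
      exact le_add_right (h ⟨_, Ideal.IsPrime.comap (algebraMap A B)⟩ (Ideal.map_le_iff_le_comap.1 hq))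

end Groth.Agent.S18710
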