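import Groth.Statements.S18711
import Mathlib
import Groth.Agent.Lib.QGor6.FourTermBC
import Groth.Agent.Lib.Goren.Basic

set_option autoImplicit false
universe u
open QGor

namespace Groth.Agent.S18711

/-- Depth along `J` of a fibre stalk, read off at the points of the fibre below it. -/
theorem le_idealDepth_fibLoc {A B : Type u} [CommRing A] [CommRing B] [Algebra A B] [IsNoetherianRing B]
    (M : Type u) [AddCommGroup M] [Module B M] [Module.Finite B M] (J : Ideal B) (q : Ideal B) [q.IsPrime]
    (h : ∀ (q' : Ideal B) [q'.IsPrime], q' ≤ q → J ≤ q' → q'.comap (algebraMap A B) = q.comap (algebraMap A B) →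
      2 ≤ LocCoh.idealDepth (q'.map (algebraMap B (EGA4.FibLocRing A B q'))) (EGA4.FibLocMod A B q' M)) :
    2 ≤ LocCoh.idealDepth (J.map (algebraMap B (EGA4.FibLocRing A B q))) (EGA4.FibLocMod A B q M) := by
  have h2 := (FlatDepth.natCast_le_idealDepth_fibre_localized_iff (A := A) M J q 2).2
    fun q' _ hle hJ hc => by exact_mod_cast h q' hle hJ hc
  let p := q.comap (algebraMap A B)
  let e : LocalizedModule q.primeCompl (M ⧸ p.map (algebraMap A B) • (⊤ : Submodule B M))
      ≃ₗ[Localization.AtPrime q] EGA4.FibLocMod A B q M :=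
    (FlatDepth.localizeQuotModEquiv M (p.map (algebraMap A B)) q.primeCompl).trans
      (Submodule.quotEquivOfEq _ _ (by rw [Ideal.map_map, ← IsScalarTower.algebraMap_eq]))
  rw [DepthLib.idealDepth_congr e] at h2
  have hs : Function.Surjective (algebraMap (Localization.AtPrime q) (EGA4.FibLocRing A B q)) :=
    Ideal.Quotient.mk_surjective
  rw [IsScalarTower.algebraMap_eq B (Localization.AtPrime q) (EGA4.FibLocRing A B q),
    ← Ideal.map_map, GorenLib.idealDepth_map_of_surjective hs]
  exact_mod_cast h2

open TensorProduct in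
/-- Affine form. Let A → B be a flat homomorphism of Noetherian rings, J an ideal of B such that for
every prime q ⊇ J with contraction p the fibre local ring B_q/pB_q has depth ≥ 2, A → A′ a
homomorphism of Noetherian rings and B′ = A′ ⊗_A B the (Noetherian) pushout. Let 0 → F → E⁰ → E¹ → G
→ 0 be an exact sequence of finite B-modules with E⁰, E¹ projective and F_q, G_q free for every
prime q not containing J. Then F is reflexive; the kernel K′ of B′ ⊗_B E⁰ → B′ ⊗_B E¹ is a reflexive
B′-module with depth_{JB′} K′ ≥ 2 (so it is the module of sections of the pull-back of F off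
V(JB′)); and K′ is flat over A′ with depth ≥ 2 along JB′ on every fibre stalk K′_{q′}/p′K′_{q′} if
and only if B′ ⊗_B G is flat over A′. (The published statement phrases the last left-hand condition
as the relative S₂ condition of K′ over A′; the two agree when the fibres of Spec B′ → Spec A′
satisfy S₂ off V(JB′), and without that the relative S₂ form fails already for A = A′ a field, J =
B, F = E⁰ = B not S₂ and E¹ = G = 0, so the fibrewise-depth form, which is what the proof
establishes, is stated.) -/
theorem result (A B : Type u) [CommRing A] [CommRing B] [IsNoetherianRing A] [IsNoetherianRing B] [Algebra A B]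
    (A' B' : Type u) [CommRing A'] [CommRing B'] [IsNoetherianRing A'] [IsNoetherianRing B']
    [Algebra A A'] [Algebra B B'] [Algebra A' B'] [Algebra A B'] [IsScalarTower A B B'] [IsScalarTower A A' B']
    [Algebra.IsPushout A B A' B'] [Module.Flat A B] (J : Ideal B)
    (hZ : ∀ q : PrimeSpectrum B, J ≤ q.asIdeal →
      2 ≤ LocCoh.idealDepth (q.asIdeal.map (algebraMap B (EGA4.FibLocRing A B q.asIdeal))) (EGA4.FibLocRing A B q.asIdeal))
    (F E0 E1 G : Type u) [AddCommGroup F] [Module B F] [Module.Finite B F]
    [AddCommGroup E0] [Module B E0] [Module.Finite B E0] [Module.Projective B E0]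
    [AddCommGroup E1] [Module B E1] [Module.Finite B E1] [Module.Projective B E1]
    [AddCommGroup G] [Module B G] [Module.Finite B G]
    (f : F →ₗ[B] E0) (u : E0 →ₗ[B] E1) (v : E1 →ₗ[B] G)
    (hf : Function.Injective f) (hfu : Function.Exact f u) (huv : Function.Exact u v) (hv : Function.Surjective v)
    (hFU : ∀ q : PrimeSpectrum B, ¬ J ≤ q.asIdeal → Module.Free (Localization.AtPrime q.asIdeal) (LocalizedModule q.asIdeal.primeCompl F))
    (hGU : ∀ q : PrimeSpectrum B, ¬ J ≤ q.asIdeal → Module.Free (Localization.AtPrime q.asIdeal) (LocalizedModule q.asIdeal.primeCompl G)) :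
    Module.IsReflexive B F ∧
    Module.IsReflexive B' (LinearMap.ker (u.baseChange B')) ∧
    2 ≤ LocCoh.idealDepth (J.map (algebraMap B B')) (LinearMap.ker (u.baseChange B')) ∧
    ((∀ q' : PrimeSpectrum B', FlatCA.FlatAt A' q'.asIdeal (LinearMap.ker (u.baseChange B')) ∧
        2 ≤ LocCoh.idealDepth ((J.map (algebraMap B B')).map (algebraMap B' (EGA4.FibLocRing A' B' q'.asIdeal)))
          (EGA4.FibLocMod A' B' q'.asIdeal (LinearMap.ker (u.baseChange B')))) ↔
      Module.Flat A' (B' ⊗[B] G)) := by
  have hB2 : 2 ≤ LocCoh.idealDepth J B := FlatDepth.le_idealDepth_self_of_fibres (A := A) J 2 (by exact_mod_cast hZ)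
  haveI : Module.Flat A' B' := QGor6.flat_baseChange_ring (A := A) (B := B)
  let J' := J.map (algebraMap B B')
  have hZ' := fun q' hq' => QGor6.fibre_depth_baseChange A A' B' J 2 hZ q' hq'
  have hB2' : 2 ≤ LocCoh.idealDepth J' B' :=
    FlatDepth.le_idealDepth_self_of_fibres (A := A') J' 2 (fun q' hq' => by exact_mod_cast hZ' q' hq')
  obtain ⟨huv', hv'⟩ := QGor6.baseChange_exact (B' := B') huv hv
  have hG' := fun q' hq' => QGor6.free_localized_baseChange (B' := B') G J hGU q' hq'
  haveI : Module.IsReflexive B (LinearMap.ker u) := QGor6.ker_reflexive u v J hB2 huv hv hGU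
  let eF := (LinearEquiv.ofInjective f hf).trans (LinearEquiv.ofEq _ _ hfu.linearMap_ker_eq.symm)
  refine ⟨Module.IsReflexive.of_split eF.toLinearMap eF.symm.toLinearMap
      (LinearMap.ext fun x => eF.symm_apply_apply x),
    QGor6.ker_reflexive _ (v.baseChange B') J' hB2' huv' hv' hG',
    QGor6.two_le_depth_ker_projective _ J' hB2', ?_⟩
  haveI : Module.Flat A' (B' ⊗[B] E0) := Module.Flat.trans A' B' _
  haveI : Module.Flat A' (B' ⊗[B] E1) := Module.Flat.trans A' B' _
  have hGA : ∀ q' : PrimeSpectrum B', ¬ J' ≤ q'.asIdeal → FlatCA.FlatAt A' q'.asIdeal (B' ⊗[B] G) :=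
    fun q' hq' => by
      haveI := hG' q' hq'
      haveI : Module.Flat A' (Localization.AtPrime q'.asIdeal) := Module.Flat.trans A' B' _
      exact Module.Flat.trans A' (Localization.AtPrime q'.asIdeal) _
  let i : LinearMap.ker (u.baseChange B') →ₗ[B'] B' ⊗[B] E0 := (LinearMap.ker (u.baseChange B')).subtype
  have four := fun (q' : Ideal B') [q'.IsPrime] =>
    FlatDepth.fourTerm_at (A := A') (B := B') J' q' (F := LinearMap.ker (u.baseChange B')) (E0 := B' ⊗[B] E0)
      (E1 := B' ⊗[B] E1) (G := B' ⊗[B] G) i (u.baseChange B') (v.baseChange B')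
      (LinearMap.ker (u.baseChange B')).injective_subtype (LinearMap.exact_subtype_ker_map _) huv' hv' hGA
      (fun q hq => QGor6.fibre_depth_projective _ q.asIdeal 2 (hZ' q hq))
      (fun q hq => QGor6.fibre_depth_projective _ q.asIdeal 1 (le_trans one_le_two (hZ' q hq)))
  constructor
  · intro h
    refine Module.flat_of_isLocalized_maximal B' _
      (fun P _ => LocalizedModule P.primeCompl (B' ⊗[B] G))
      (fun P _ => LocalizedModule.mkLinearMap P.primeCompl _)
      fun P hP => (four P).1.2 fun q' _ _ hJ _ => ?_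
    exact (h ⟨q', ‹_›⟩).2.trans (DepthLib.idealDepth_mono (Ideal.map_mono hJ))
  · intro hG
    have hflat : ∀ (q' : Ideal B') [q'.IsPrime], FlatCA.FlatAt A' q' (B' ⊗[B] G) :=
      fun q' _ => FlatDepth.flat_localizedModule_of_flat (B' ⊗[B] G) q'.primeCompl
    intro q'
    refine ⟨(four q'.asIdeal).2 (hflat _), le_idealDepth_fibLoc _ J' q'.asIdeal
      fun q'' _ hle hJ hc => (four q'.asIdeal).1.1 (hflat _) q'' hle hJ hc⟩

end Groth.Agent.S18711
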