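import Groth.Statements.S18712
import Mathlib
import Groth.Agent.Lib.QGor6.Artinian
import Groth.Agent.Lib.FibDepth5.Sk

set_option autoImplicit false
set_option backward.isDefEq.respectTransparency false
set_option backward.isDefEq.respectTransparency.types false
universe u
open QGor

namespace Groth.Agent.S18712

open TensorProduct IsLocalRing in
/-- `C / I C` is the pushout of `R → R / I` along `R → C`. -/
theorem isPushout_quot {R C : Type u} [CommRing R] [CommRing C] [Algebra R C] (I : Ideal R) :
    Algebra.IsPushout R C (R ⧸ I) (C ⧸ I.map (algebraMap R C)) := by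
  letI : Algebra (R ⧸ I) (C ⊗[R] (R ⧸ I)) := Algebra.TensorProduct.rightAlgebra
  refine Algebra.IsPushout.of_equiv (R := R) (R' := C) (S := R ⧸ I) (S' := C ⊗[R] (R ⧸ I))
    (Algebra.TensorProduct.quotIdealMapEquivTensorQuot C I).symm (RingHom.ext fun x => ?_)
  obtain ⟨x, rfl⟩ := Ideal.Quotient.mk_surjective x
  show (Algebra.TensorProduct.quotIdealMapEquivTensorQuot C I).symm ((1 : C) ⊗ₜ[R] Ideal.Quotient.mk I x) = _
  simp [Algebra.smul_def]

open TensorProduct IsLocalRing in
/-- Flatness modulo `I` at `n`, read on the quotient ring. -/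
theorem flat_quot_of_flatAt {R C : Type u} [CommRing R] [CommRing C] [Algebra R C] (I : Ideal R)
    (M : Type u) [AddCommGroup M] [Module C M] [Module R M] [IsScalarTower R C M] (n : Ideal C) [n.IsPrime]
    (q' : Ideal (C ⧸ I.map (algebraMap R C))) [q'.IsPrime]
    (hq' : q'.comap (algebraMap C (C ⧸ I.map (algebraMap R C))) = n)
    (h : FlatCA.FlatAt (R ⧸ I) q' ((C ⧸ I.map (algebraMap R C)) ⊗[C] M)) :
    Module.Flat (R ⧸ I) ((R ⧸ I) ⊗[R] LocalizedModule n.primeCompl M) := by
  let B' := C ⧸ I.map (algebraMap R C)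
  let L := Localization.AtPrime n
  have hs : Function.Surjective (algebraMap C B') := Ideal.Quotient.mk_surjective
  let g : B' ⊗[C] M →ₗ[C] LocalizedModule q'.primeCompl (B' ⊗[C] M) :=
    (LocalizedModule.mkLinearMap q'.primeCompl (B' ⊗[C] M)).restrictScalars C
  haveI : IsLocalizedModule n.primeCompl g := by
    subst hq'
    exact FibDepth5.isLocalizedModule_of_surjective (B := C ⧸ I.map (algebraMap R C)) (M := (C ⧸ I.map (algebraMap R C)) ⊗[C] M)
      (F := LocalizedModule q'.primeCompl ((C ⧸ I.map (algebraMap R C)) ⊗[C] M)) hs q' (LocalizedModule.mkLinearMap q'.primeCompl ((C ⧸ I.map (algebraMap R C)) ⊗[C] M))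
  let e1 : (R ⧸ I) ⊗[R] LocalizedModule n.primeCompl M ≃ₗ[R]
      LocalizedModule n.primeCompl M ⧸ (I • (⊤ : Submodule R (LocalizedModule n.primeCompl M))) :=
    TensorProduct.quotTensorEquivQuotSMul _ I
  let e2 : (LocalizedModule n.primeCompl M ⧸ (I • (⊤ : Submodule R (LocalizedModule n.primeCompl M)))) ≃ₗ[R]
      LocalizedModule n.primeCompl M ⧸
        ((I.map (algebraMap R C)).map (algebraMap C L) • (⊤ : Submodule L (LocalizedModule n.primeCompl M))) :=
    (Submodule.quotEquivOfEq _ _ (by
      rw [Ideal.map_map, ← IsScalarTower.algebraMap_eq, Ideal.smul_restrictScalars,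
        Submodule.restrictScalars_top])).trans
      (Submodule.Quotient.restrictScalarsEquiv R _)
  let e3 := (FlatDepth.localizeQuotModEquiv M (I.map (algebraMap R C)) n.primeCompl).symm.restrictScalars R
  let e4 := (IsLocalizedModule.mapEquiv n.primeCompl (LocalizedModule.mkLinearMap n.primeCompl _)
      (LocalizedModule.mkLinearMap n.primeCompl (B' ⊗[C] M)) L
      (TensorProduct.quotTensorEquivQuotSMul M (I.map (algebraMap R C))).symm).restrictScalars R
  let e5 := (IsLocalizedModule.iso n.primeCompl g).restrictScalars R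
  let e := e1.trans (e2.trans (e3.trans (e4.trans e5)))
  haveI : Module.Flat (R ⧸ I) (LocalizedModule q'.primeCompl (B' ⊗[C] M)) := h
  haveI : IsScalarTower R (R ⧸ I) (LocalizedModule q'.primeCompl (B' ⊗[C] M)) :=
    ⟨fun r a z => by
      induction z using LocalizedModule.induction_on with
      | h m t => simp only [LocalizedModule.smul'_mk, smul_assoc]⟩
  exact Module.Flat.of_linearEquiv (e.extendScalarsOfSurjective (S := R ⧸ I) Ideal.Quotient.mk_surjective)

open TensorProduct in
/-- Infinitesimal criterion, affine-local form. Let R be a Noetherian local ring with maximal ideal m, C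
a finitely generated flat R-algebra, y = n a prime of C over m at which the fibre C_n/mC_n satisfies
S₂ (the structure morphism satisfies relative S₂ at y), and F a finite reflexive C-module which is
free at every prime not containing an ideal J such that every fibre local ring C_q/pC_q at primes q
⊇ J has dimension ≥ 2 (F is locally free in codimension one on each fibre). Suppose that for every
surjective homomorphism R → A′ onto an Artinian local ring and the Noetherian pushout C′ = A′ ⊗_R C,
at every prime q′ of C′ lying over n the double dual (C′ ⊗_C F)^∨∨ is flat over A′ at q′ and its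
fibre stalk satisfies S₂. Then F is flat over R at n and the fibre stalk F_n/mF_n satisfies S₂ (F
satisfies relative S₂ at y). Test rings A′ range over the universe of R. -/
theorem result (R C : Type u) [CommRing R] [CommRing C] [IsNoetherianRing R] [IsLocalRing R] [IsNoetherianRing C]
    [Algebra R C] [Module.Flat R C] (hft : Algebra.FiniteType R C)
    (n : PrimeSpectrum C) (hn : (IsLocalRing.maximalIdeal R).map (algebraMap R C) ≤ n.asIdeal)
    (hS2 : LocCoh.HasSk 2 (EGA4.FibLocRing R C n.asIdeal) (EGA4.FibLocRing R C n.asIdeal))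
    (F : Type u) [AddCommGroup F] [Module C F] [Module R F] [IsScalarTower R C F] [Module.Finite C F]
    [Module.IsReflexive C F] (J : Ideal C)
    (hFU : ∀ q : PrimeSpectrum C, ¬ J ≤ q.asIdeal → Module.Free (Localization.AtPrime q.asIdeal) (LocalizedModule q.asIdeal.primeCompl F))
    (hcodim : ∀ q : PrimeSpectrum C, J ≤ q.asIdeal → (2 : WithBot ℕ∞) ≤ ringKrullDim (EGA4.FibLocRing R C q.asIdeal))
    (hI : ∀ (A' : Type u) [CommRing A'] [IsArtinianRing A'] [IsLocalRing A'] [Algebra R A'],
      Function.Surjective (algebraMap R A') →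
      ∀ (C' : Type u) [CommRing C'] [IsNoetherianRing C'] [Algebra C C'] [Algebra A' C'] [Algebra R C']
        [IsScalarTower R C C'] [IsScalarTower R A' C'], Algebra.IsPushout R C A' C' →
        ∀ q' : PrimeSpectrum C', q'.asIdeal.comap (algebraMap C C') = n.asIdeal →
          FlatCA.FlatAt A' q'.asIdeal (Module.Dual C' (Module.Dual C' (C' ⊗[C] F))) ∧
          LocCoh.HasSk 2 (EGA4.FibLocRing A' C' q'.asIdeal)
            (EGA4.FibLocMod A' C' q'.asIdeal (Module.Dual C' (Module.Dual C' (C' ⊗[C] F))))) :
    FlatCA.FlatAt R n.asIdeal F ∧ LocCoh.HasSk 2 (EGA4.FibLocRing R C n.asIdeal) (EGA4.FibLocMod R C n.asIdeal F) := by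
  classical
  let p := n.asIdeal.comap (algebraMap R C)
  have hp : p = IsLocalRing.maximalIdeal R :=
    ((IsLocalRing.maximalIdeal.isMaximal R).eq_of_le (Ideal.IsPrime.comap (algebraMap R C)).ne_top
      (Ideal.map_le_iff_le_comap.1 hn)).symm
  haveI := FibDepth5.isLocalRing_fibLocRing (A := R) n.asIdeal
  have hs : Function.Surjective (algebraMap (Localization.AtPrime n.asIdeal) (EGA4.FibLocRing R C n.asIdeal)) :=
    Ideal.Quotient.mk_surjective
  have hsk := (FibDepth5.hasSk_fibLocMod_iff (A := R) (M := C) 2 n.asIdeal).1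
    (FibDepth5.hasSk_congr' (FlatDepth.fibSelfEquiv n.asIdeal).symm ((FibDepth5.hasSk_of_surjective hs 2).2 hS2))
  have hd : ∀ (q : Ideal C) [q.IsPrime], q ≤ n.asIdeal → J ≤ q → q.comap (algebraMap R C) = p →
      2 ≤ LocCoh.depth (EGA4.FibLocRing R C q) (EGA4.FibLocRing R C q) := fun q _ hle hJ hc => by
    have h1 := hsk q hle hc
    rw [(FlatDepth.fib_self_invariants q).1, (FlatDepth.fib_self_invariants q).2] at h1
    have h2 : ((2 : ℕ∞) : WithBot ℕ∞) ≤ ((LocCoh.depth (EGA4.FibLocRing R C q) (EGA4.FibLocRing R C q) : ℕ∞) : WithBot ℕ∞) :=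
      le_trans (le_min le_rfl (hcodim ⟨q, ‹_›⟩ hJ)) h1
    exact WithBot.coe_le_coe.1 h2
  obtain ⟨n0, m0, f, u, hf, hfu, hGU⟩ := QGor6.exists_fourTerm F J hFU
  let v := (LinearMap.range u).mkQ
  have huv : Function.Exact u v := LinearMap.exact_map_mkQ_range u
  have hv : Function.Surjective v := Submodule.mkQ_surjective _
  have hG : FlatCA.FlatAt R n.asIdeal (Module.Dual C (Fin m0 → C) ⧸ LinearMap.range u) := by
    refine FlatH4.flat_of_forall_flat_quotient_pow (S := Localization.AtPrime n.asIdeal) (IsLocalRing.maximalIdeal R) ?_ fun k hk => ?_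
    · rw [IsLocalRing.jacobson_eq_maximalIdeal ⊥ bot_ne_top, IsScalarTower.algebraMap_eq R C (Localization.AtPrime n.asIdeal),
        ← Ideal.map_map, ← Localization.AtPrime.map_eq_maximalIdeal]
      exact Ideal.map_mono hn
    · let I := IsLocalRing.maximalIdeal R ^ k
      have hI' : I ≤ IsLocalRing.maximalIdeal R := Ideal.pow_le_self (Nat.pos_iff_ne_zero.1 hk)
      haveI : Nontrivial (R ⧸ I) :=
        Ideal.Quotient.nontrivial_iff.2 (ne_top_of_le_ne_top (IsLocalRing.maximalIdeal.isMaximal R).ne_top hI')
      haveI : IsLocalRing (R ⧸ I) := IsLocalRing.of_surjective' (Ideal.Quotient.mk I) Ideal.Quotient.mk_surjective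
      haveI : IsArtinianRing (R ⧸ I) := by
        rw [isArtinianRing_iff_krullDimLE_zero]
        refine Ring.KrullDimLE.mk₀ fun P hP => ?_
        have h1 : IsLocalRing.maximalIdeal R ≤ P.comap (Ideal.Quotient.mk I) :=
          (Ideal.IsPrime.pow_le_iff (P := P.comap (Ideal.Quotient.mk I)) (Nat.pos_iff_ne_zero.1 hk)).1
            fun x hx => by rw [Ideal.mem_comap, Ideal.Quotient.eq_zero_iff_mem.2 hx]; exact zero_mem _
        haveI : (P.comap (Ideal.Quotient.mk I)).IsMaximal :=
          (IsLocalRing.maximalIdeal.isMaximal R).eq_of_le (Ideal.IsPrime.comap (Ideal.Quotient.mk I)).ne_top h1 ▸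
            IsLocalRing.maximalIdeal.isMaximal R
        exact Ideal.map_comap_of_surjective _ Ideal.Quotient.mk_surjective P ▸
          (Ideal.map_eq_top_or_isMaximal_of_surjective _ Ideal.Quotient.mk_surjective this).resolve_left (by
            rw [Ideal.map_comap_of_surjective _ Ideal.Quotient.mk_surjective]; exact hP.ne_top)
      haveI := isPushout_quot (C := C) I
      let C' := C ⧸ I.map (algebraMap R C)
      have hle : I.map (algebraMap R C) ≤ n.asIdeal := (Ideal.map_mono hI').trans hn
      have hker : RingHom.ker (algebraMap C C') ≤ n.asIdeal := by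
        rw [Ideal.Quotient.algebraMap_eq, Ideal.mk_ker]; exact hle
      haveI hq : (n.asIdeal.map (algebraMap C C')).IsPrime :=
        Ideal.map_isPrime_of_surjective Ideal.Quotient.mk_surjective hker
      have hcomap : (n.asIdeal.map (algebraMap C C')).comap (algebraMap C C') = n.asIdeal := by
        rw [Ideal.comap_map_of_surjective (algebraMap C C') Ideal.Quotient.mk_surjective]
        exact sup_eq_left.2 hker
      have h := (hI (R ⧸ I) Ideal.Quotient.mk_surjective C' inferInstance ⟨_, hq⟩ hcomap).1
      exact flat_quot_of_flatAt I _ n.asIdeal _ hcomap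
        (QGor6.flatAt_coker_of_flatAt_ddual (A := R) (R ⧸ I) J n.asIdeal _ hcomap hd f u v hf hfu huv hv hGU h)
  haveI : Module.Flat R (Module.Dual C (Fin n0 → C)) := Module.Flat.trans R C _
  haveI : Module.Flat R (Module.Dual C (Fin m0 → C)) := Module.Flat.trans R C _
  have four := QGor6.fourTerm_at' (A := R) (B := C) J n.asIdeal f u v hf hfu huv hv
    (fun q hq => by
      haveI := hGU q hq
      haveI : Module.Flat R (Localization.AtPrime q.asIdeal) := Module.Flat.trans R C _
      exact Module.Flat.trans R (Localization.AtPrime q.asIdeal) _)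
    (fun q _ hle hJ hc => QGor6.fibre_depth_projective _ q 2
      (by rw [FlatDepth.map_fibLocRing_eq_maximalIdeal]; exact hd q hle hJ hc))
    (fun q _ hle hJ hc => QGor6.fibre_depth_projective _ q 1
      (by rw [FlatDepth.map_fibLocRing_eq_maximalIdeal]; exact le_trans one_le_two (hd q hle hJ hc)))
  refine ⟨four.2 hG, ?_⟩
  haveI : Module.Finite (EGA4.FibLocRing R C n.asIdeal) (EGA4.FibLocMod R C n.asIdeal F) :=
    Module.Finite.of_restrictScalars_finite (Localization.AtPrime n.asIdeal) _ _
  refine (FibDepth5.hasSk_of_surjective hs 2).1 ((FibDepth5.hasSk_fibLocMod_iff (A := R) (M := F) 2 n.asIdeal).2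
    fun q _ hle hc => ?_)
  by_cases hJ : J ≤ q
  · have h2 := four.1.1 hG q hle hJ hc
    rw [FlatDepth.map_fibLocRing_eq_maximalIdeal] at h2
    exact (min_le_left _ _).trans (WithBot.coe_le_coe.2 h2)
  · haveI := hFU ⟨q, ‹_›⟩ hJ
    have h1 := hsk q hle hc
    rw [(FlatDepth.fib_self_invariants q).1, (FlatDepth.fib_self_invariants q).2] at h1
    exact (min_le_min_left _ (Module.supportDim_le_ringKrullDim _ _)).trans
      (h1.trans (WithBot.coe_le_coe.2 (QGor6.fibre_depth_free F q)))

end Groth.Agent.S18712
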