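import Groth.Statements.S18713
import Mathlib
import Groth.Agent.Lib.QGor6.S2Local
import Groth.Agent.Lib.QGor6.ValCrit
import Groth.Agent.Lib.QGor6.Presentation

set_option autoImplicit false
set_option backward.isDefEq.respectTransparency false
set_option backward.isDefEq.respectTransparency.types false
universe u
open QGor

namespace Groth.Agent.S18713

open TensorProduct in
/-- Valuative criterion, affine-local form. Let R be a Noetherian local ring with maximal ideal m, C a
finitely generated flat R-algebra, y = n a prime of C over m at which the fibre C_n/mC_n satisfies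
S₂ (the structure morphism satisfies relative S₂ at y), and F a finite reflexive C-module which is
free at every prime not containing an ideal J such that every fibre local ring C_q/pC_q at primes q
⊇ J has dimension ≥ 2 (F is locally free in codimension one on each fibre). Assume R is reduced, and
that for every local homomorphism R → D to a discrete valuation ring and the Noetherian pushout C′ =
D ⊗_R C, at every prime q′ of C′ lying over n and over the closed point of D the double dual (C′ ⊗_C
F)^∨∨ is flat over D at q′ and its fibre stalk satisfies S₂. Then F is flat over R at n and F_n/mF_n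
satisfies S₂ (F satisfies relative S₂ at y). Test rings D range over the universe of R. -/
theorem result (R C : Type u) [CommRing R] [CommRing C] [IsNoetherianRing R] [IsLocalRing R] [IsNoetherianRing C]
    [Algebra R C] [Module.Flat R C] (hft : Algebra.FiniteType R C)
    (n : PrimeSpectrum C) (hn : (IsLocalRing.maximalIdeal R).map (algebraMap R C) ≤ n.asIdeal)
    (hS2 : LocCoh.HasSk 2 (EGA4.FibLocRing R C n.asIdeal) (EGA4.FibLocRing R C n.asIdeal))
    (F : Type u) [AddCommGroup F] [Module C F] [Module R F] [IsScalarTower R C F] [Module.Finite C F]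
    [Module.IsReflexive C F] (J : Ideal C)
    (hFU : ∀ q : PrimeSpectrum C, ¬ J ≤ q.asIdeal → Module.Free (Localization.AtPrime q.asIdeal) (LocalizedModule q.asIdeal.primeCompl F))
    (hcodim : ∀ q : PrimeSpectrum C, J ≤ q.asIdeal → (2 : WithBot ℕ∞) ≤ ringKrullDim (EGA4.FibLocRing R C q.asIdeal)) [IsReduced R]
    (hII : ∀ (D : Type u) [CommRing D] [IsDomain D] [IsDiscreteValuationRing D] [Algebra R D],
      IsLocalHom (algebraMap R D) →
      ∀ (C' : Type u) [CommRing C'] [IsNoetherianRing C'] [Algebra C C'] [Algebra D C'] [Algebra R C']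
        [IsScalarTower R C C'] [IsScalarTower R D C'], Algebra.IsPushout R C D C' →
        ∀ q' : PrimeSpectrum C', q'.asIdeal.comap (algebraMap C C') = n.asIdeal →
          (IsLocalRing.maximalIdeal D).map (algebraMap D C') ≤ q'.asIdeal →
          FlatCA.FlatAt D q'.asIdeal (Module.Dual C' (Module.Dual C' (C' ⊗[C] F))) ∧
          LocCoh.HasSk 2 (EGA4.FibLocRing D C' q'.asIdeal)
            (EGA4.FibLocMod D C' q'.asIdeal (Module.Dual C' (Module.Dual C' (C' ⊗[C] F))))) :
    FlatCA.FlatAt R n.asIdeal F ∧ LocCoh.HasSk 2 (EGA4.FibLocRing R C n.asIdeal) (EGA4.FibLocMod R C n.asIdeal F) := by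
  classical
  let p := n.asIdeal.comap (algebraMap R C)
  have hp : p = IsLocalRing.maximalIdeal R :=
    ((IsLocalRing.maximalIdeal.isMaximal R).eq_of_le (Ideal.IsPrime.comap (algebraMap R C)).ne_top
      (Ideal.map_le_iff_le_comap.1 hn)).symm
  haveI := FibDepth5.isLocalRing_fibLocRing (A := R) n.asIdeal
  have hs : Function.Surjective (algebraMap (Localization.AtPrime n.asIdeal) (EGA4.FibLocRing R C n.asIdeal)) :=
    Ideal.Quotient.mk_surjective
  have hsk := (FibDepth5.hasSk_fibLocMod_iff (A := R) (M := C) 2 n.asIdeal).1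
    (FibDepth5.hasSk_congr' (FlatDepth.fibSelfEquiv n.asIdeal).symm ((FibDepth5.hasSk_of_surjective hs 2).2 hS2))
  have hd : ∀ (q : Ideal C) [q.IsPrime], q ≤ n.asIdeal → J ≤ q → q.comap (algebraMap R C) = p →
      2 ≤ LocCoh.depth (EGA4.FibLocRing R C q) (EGA4.FibLocRing R C q) := fun q _ hle hJ hc => by
    have h1 := hsk q hle hc
    rw [(FlatDepth.fib_self_invariants q).1, (FlatDepth.fib_self_invariants q).2] at h1
    have h2 : ((2 : ℕ∞) : WithBot ℕ∞) ≤ ((LocCoh.depth (EGA4.FibLocRing R C q) (EGA4.FibLocRing R C q) : ℕ∞) : WithBot ℕ∞) :=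
      le_trans (le_min le_rfl (hcodim ⟨q, ‹_›⟩ hJ)) h1
    exact WithBot.coe_le_coe.1 h2
  obtain ⟨n0, m0, f, u, hf, hfu, hGU⟩ := QGor6.exists_fourTerm F J hFU
  let v := (LinearMap.range u).mkQ
  have huv : Function.Exact u v := LinearMap.exact_map_mkQ_range u
  have hv : Function.Surjective v := Submodule.mkQ_surjective _
  haveI : Algebra.FiniteType R C := hft
  have hG : FlatCA.FlatAt R n.asIdeal (Module.Dual C (Fin m0 → C) ⧸ LinearMap.range u) := by
    refine QGor6.flatAt_of_dvr _ n.asIdeal hp fun V _ _ _ _ hV q' _ hq' hcl => ?_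
    letI := Algebra.TensorProduct.rightAlgebra (R := R) (A := V) (B := C)
    haveI : Algebra.IsPushout R C V (V ⊗[R] C) := TensorProduct.isPushout'
    haveI : IsNoetherianRing (V ⊗[R] C) := Algebra.FiniteType.isNoetherianRing V _
    haveI : Module.Flat V (V ⊗[R] C) := inferInstance
    obtain ⟨hflat, hS⟩ := hII V hV (V ⊗[R] C) inferInstance ⟨q', ‹_›⟩ hq' hcl
    obtain ⟨huv', hv'⟩ := QGor6.baseChange_exact (B' := V ⊗[R] C) huv hv
    have hmax : q'.comap (algebraMap V (V ⊗[R] C)) = IsLocalRing.maximalIdeal V :=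
      ((IsLocalRing.maximalIdeal.isMaximal V).eq_of_le (Ideal.IsPrime.comap _).ne_top
        (Ideal.map_le_iff_le_comap.1 hcl)).symm
    refine QGor6.flatAt_coker_of_relS2 (J.map (algebraMap C (V ⊗[R] C))) q' hmax (fun p' _ hle hJ hc => ?_)
      (f.baseChange (V ⊗[R] C)) (u.baseChange (V ⊗[R] C)) (v.baseChange (V ⊗[R] C)) ?_ huv' hv' (fun p' hp' => ?_)
      (fun p' hp' => QGor6.free_localized_baseChange _ J hGU p' hp') hflat hS
    · refine le_trans (hd _ ?_ (Ideal.map_le_iff_le_comap.1 hJ) ?_) (QGor6.depth_fibLocRing_le_baseChange p' _ rfl)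
      · rw [← hq']; exact Ideal.comap_mono hle
      · rw [show p = IsLocalRing.maximalIdeal R from hp, Ideal.comap_comap, ← IsScalarTower.algebraMap_eq, IsScalarTower.algebraMap_eq R V (V ⊗[R] C),
          ← Ideal.comap_comap, hc, hmax]
        exact ((IsLocalRing.local_hom_TFAE (algebraMap R V)).out 0 4 rfl rfl).1 hV
    · rw [← LinearMap.baseChange_comp, hfu.linearMap_comp_eq_zero, LinearMap.baseChange_zero]
    · haveI := hGU (PrimeSpectrum.comap (algebraMap C (V ⊗[R] C)) p') fun h => hp' (Ideal.map_le_iff_le_comap.2 h)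
      obtain ⟨t, ht, r, w, hrf, hfr⟩ :=
        QGor6.exists_split_four f u v hf hfu huv hv (PrimeSpectrum.comap (algebraMap C (V ⊗[R] C)) p').asIdeal
      refine ⟨algebraMap C (V ⊗[R] C) t, ht, r.baseChange (V ⊗[R] C), w.baseChange (V ⊗[R] C), ?_, ?_⟩
      · rw [← LinearMap.baseChange_comp, hrf, LinearMap.baseChange_smul, LinearMap.baseChange_id, algebraMap_smul]
      · rw [← LinearMap.baseChange_comp, ← LinearMap.baseChange_comp, ← LinearMap.baseChange_add, hfr,
          LinearMap.baseChange_smul, LinearMap.baseChange_id, algebraMap_smul]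
  haveI : Module.Flat R (Module.Dual C (Fin n0 → C)) := Module.Flat.trans R C _
  haveI : Module.Flat R (Module.Dual C (Fin m0 → C)) := Module.Flat.trans R C _
  have four := QGor6.fourTerm_at' (A := R) (B := C) J n.asIdeal f u v hf hfu huv hv
    (fun q hq => by
      haveI := hGU q hq
      haveI : Module.Flat R (Localization.AtPrime q.asIdeal) := Module.Flat.trans R C _
      exact Module.Flat.trans R (Localization.AtPrime q.asIdeal) _)
    (fun q _ hle hJ hc => QGor6.fibre_depth_projective _ q 2
      (by rw [FlatDepth.map_fibLocRing_eq_maximalIdeal]; exact hd q hle hJ hc))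
    (fun q _ hle hJ hc => QGor6.fibre_depth_projective _ q 1
      (by rw [FlatDepth.map_fibLocRing_eq_maximalIdeal]; exact le_trans one_le_two (hd q hle hJ hc)))
  refine ⟨four.2 hG, ?_⟩
  haveI : Module.Finite (EGA4.FibLocRing R C n.asIdeal) (EGA4.FibLocMod R C n.asIdeal F) :=
    Module.Finite.of_restrictScalars_finite (Localization.AtPrime n.asIdeal) _ _
  refine (FibDepth5.hasSk_of_surjective hs 2).1 ((FibDepth5.hasSk_fibLocMod_iff (A := R) (M := F) 2 n.asIdeal).2
    fun q _ hle hc => ?_)
  by_cases hJ : J ≤ q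
  · have h2 := four.1.1 hG q hle hJ hc
    rw [FlatDepth.map_fibLocRing_eq_maximalIdeal] at h2
    exact (min_le_left _ _).trans (WithBot.coe_le_coe.2 h2)
  · haveI := hFU ⟨q, ‹_›⟩ hJ
    have h1 := hsk q hle hc
    rw [(FlatDepth.fib_self_invariants q).1, (FlatDepth.fib_self_invariants q).2] at h1
    exact (min_le_min_left _ (Module.supportDim_le_ringKrullDim _ _)).trans
      (h1.trans (WithBot.coe_le_coe.2 (QGor6.fibre_depth_free F q)))

end Groth.Agent.S18713
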