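import Groth.Statements.S18714
import Mathlib
import Groth.Agent.Lib.QGor6.DDualBC
import Groth.Agent.S1229

set_option autoImplicit false
set_option backward.isDefEq.respectTransparency false
set_option backward.isDefEq.respectTransparency.types false
universe u
open QGor

namespace Groth.Agent.S18714

/-- Flatness at a point from flatness at the corresponding point of a localization. -/
theorem flatAt_of_localized {A B : Type u} [CommRing A] [CommRing B] [Algebra A B]
    (M : Type u) [AddCommGroup M] [Module B M] [Module A M] [IsScalarTower A B M]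
    (T : Submonoid B) (Q : Ideal (Localization T)) [Q.IsPrime]
    (h : FlatCA.FlatAt A Q (LocalizedModule T M)) :
    FlatCA.FlatAt A (Q.comap (algebraMap B (Localization T))) M := by
  let q := Q.comap (algebraMap B (Localization T))
  haveI : IsLocalization.AtPrime (Localization.AtPrime Q) q :=
    IsLocalization.isLocalization_isLocalization_atPrime_isLocalization T (Localization.AtPrime Q) Q
  let g : M →ₗ[B] LocalizedModule Q.primeCompl (LocalizedModule T M) :=
    ((LocalizedModule.mkLinearMap Q.primeCompl (LocalizedModule T M)).restrictScalars B) ∘ₗ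
      LocalizedModule.mkLinearMap T M
  haveI : IsLocalizedModule q.primeCompl g := by
    rw [isLocalizedModule_iff_isBaseChange (S := q.primeCompl) (A := Localization.AtPrime Q)]
    exact (IsLocalizedModule.isBaseChange T (Localization T) (LocalizedModule.mkLinearMap T M)).comp
      (IsLocalizedModule.isBaseChange Q.primeCompl (Localization.AtPrime Q)
        (LocalizedModule.mkLinearMap Q.primeCompl (LocalizedModule T M)))
  haveI : Module.Flat A (LocalizedModule Q.primeCompl (LocalizedModule T M)) := h
  exact Module.Flat.of_linearEquiv ((IsLocalizedModule.iso q.primeCompl g).restrictScalars A)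

open TensorProduct in
/-- Affine form. Let R be a Henselian Noetherian local ring with maximal ideal m, C a finitely generated
flat R-algebra all of whose fibre local rings C_q/pC_q satisfy S₂ (an S₂-morphism), F a finite
reflexive C-module free at every prime not containing an ideal J such that every fibre local ring at
primes q ⊇ J has dimension ≥ 2 (locally free in codimension one on each fibre), and y = n a prime of
C over m. Then there is an ideal 𝔞 of R (a closed subscheme S of Spec R) with the universal
property: for every local homomorphism R → R′ to a Noetherian local ring and the Noetherian pushout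
C′ = R′ ⊗_R C, the double dual (C′ ⊗_C F)^∨∨ is flat over R′ with S₂ fibre stalk at every prime q′
of C′ lying over n and over the closed point of R′ (it satisfies relative S₂ there) if and only if
𝔞R′ = 0 (Spec R′ → Spec R factors through S). Test rings R′ range over the universe of R. -/
theorem result (R C : Type u) [CommRing R] [CommRing C]
    [IsNoetherianRing R] [HenselianLocalRing R] [IsNoetherianRing C] [Algebra R C] [Module.Flat R C]
    (hft : Algebra.FiniteType R C)
    (hS2 : ∀ q : PrimeSpectrum C, LocCoh.HasSk 2 (EGA4.FibLocRing R C q.asIdeal) (EGA4.FibLocRing R C q.asIdeal))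
    (F : Type u) [AddCommGroup F] [Module C F] [Module.Finite C F] [Module.IsReflexive C F] (J : Ideal C)
    (hFU : ∀ q : PrimeSpectrum C, ¬ J ≤ q.asIdeal → Module.Free (Localization.AtPrime q.asIdeal) (LocalizedModule q.asIdeal.primeCompl F))
    (hcodim : ∀ q : PrimeSpectrum C, J ≤ q.asIdeal → (2 : WithBot ℕ∞) ≤ ringKrullDim (EGA4.FibLocRing R C q.asIdeal))
    (n : PrimeSpectrum C) (hn : (IsLocalRing.maximalIdeal R).map (algebraMap R C) ≤ n.asIdeal) :
    ∃ 𝔞 : Ideal R, ∀ (R' : Type u) [CommRing R'] [IsNoetherianRing R'] [IsLocalRing R'] [Algebra R R'],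
      IsLocalHom (algebraMap R R') →
      ∀ (C' : Type u) [CommRing C'] [IsNoetherianRing C'] [Algebra C C'] [Algebra R' C'] [Algebra R C']
        [IsScalarTower R C C'] [IsScalarTower R R' C'], Algebra.IsPushout R C R' C' →
        ((∀ q' : PrimeSpectrum C', q'.asIdeal.comap (algebraMap C C') = n.asIdeal →
            (IsLocalRing.maximalIdeal R').map (algebraMap R' C') ≤ q'.asIdeal →
            FlatCA.FlatAt R' q'.asIdeal (Module.Dual C' (Module.Dual C' (C' ⊗[C] F))) ∧
            LocCoh.HasSk 2 (EGA4.FibLocRing R' C' q'.asIdeal)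
              (EGA4.FibLocMod R' C' q'.asIdeal (Module.Dual C' (Module.Dual C' (C' ⊗[C] F))))) ↔
          𝔞.map (algebraMap R R') = ⊥) := by
  classical
  have hd : ∀ (q : Ideal C) [q.IsPrime], J ≤ q → 2 ≤ LocCoh.depth (EGA4.FibLocRing R C q) (EGA4.FibLocRing R C q) :=
    fun q _ hJ => by
      have h1 := FlatDepth.min_le_depth_of_hasSk (hS2 ⟨q, ‹_›⟩)
      rw [Module.supportDim_self_eq_ringKrullDim] at h1
      exact WithBot.coe_le_coe.1 (le_trans (le_min le_rfl (hcodim ⟨q, ‹_›⟩ hJ)) h1)
  have hsk : ∀ (q : Ideal C) [q.IsPrime], FlatDepth.SkIneq 2 (EGA4.FibLocRing R C q) := fun q _ => by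
    have h1 := FlatDepth.min_le_depth_of_hasSk (hS2 ⟨q, ‹_›⟩)
    rwa [Module.supportDim_self_eq_ringKrullDim] at h1
  obtain ⟨n0, m0, f, u, hf, hfu, hGU⟩ := QGor6.exists_fourTerm F J hFU
  let v := (LinearMap.range u).mkQ
  have huv : Function.Exact u v := LinearMap.exact_map_mkQ_range u
  have hv : Function.Surjective v := Submodule.mkQ_surjective _
  let G := Module.Dual C (Fin m0 → C) ⧸ LinearMap.range u
  let B := Localization.AtPrime n.asIdeal
  haveI : Algebra.EssFiniteType C B := Algebra.EssFiniteType.of_isLocalization B n.asIdeal.primeCompl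
  haveI : Algebra.FiniteType R C := hft
  haveI : Algebra.EssFiniteType R B := Algebra.EssFiniteType.comp R C B
  haveI : IsLocalHom (algebraMap R B) :=
    ((IsLocalRing.local_hom_TFAE (algebraMap R B)).out 0 2 rfl rfl).2 (by
      rw [IsScalarTower.algebraMap_eq R C B, ← Ideal.map_map, ← Localization.AtPrime.map_eq_maximalIdeal]
      exact Ideal.map_mono hn)
  obtain ⟨I, hI, -⟩ := Groth.Agent.S1229.result (A := R) (B := B) (LocalizedModule n.asIdeal.primeCompl G)
  refine ⟨I, fun R' _ _ _ _ hloc C' _ _ _ _ _ _ _ hpo => ?_⟩
  haveI := hloc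
  haveI := hpo
  let T := Algebra.algebraMapSubmonoid C' n.asIdeal.primeCompl
  let B' := Localization T
  let X := C' ⊗[C] G
  let M' := LocalizedModule T X
  letI : Module B M' := Module.compHom M' (algebraMap B B')
  haveI : IsScalarTower B B' M' := IsScalarTower.of_algebraMap_smul fun _ _ => rfl
  haveI : IsScalarTower C B M' := IsScalarTower.of_algebraMap_smul fun c z => by
    show algebraMap B B' (algebraMap C B c) • z = c • z
    rw [← IsScalarTower.algebraMap_apply, algebraMap_smul]
  haveI : Algebra.IsPushout C B C' B' :=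
    Algebra.IsPushout.symm (Algebra.isPushout_of_isLocalization (R := C) (T := C') (A := B) (B := B') n.asIdeal.primeCompl)
  haveI : IsScalarTower R B B' := IsScalarTower.of_algebraMap_eq' (by
    rw [IsScalarTower.algebraMap_eq R C B, ← RingHom.comp_assoc, ← IsScalarTower.algebraMap_eq C B B',
      ← IsScalarTower.algebraMap_eq R C B'])
  haveI : Algebra.IsPushout R B R' B' :=
    (Algebra.IsPushout.comp_iff (R := R) (S := C) (R' := R') (S' := C') (T := B) (T' := B')).2 inferInstance
  let g0 : G →ₗ[C] M' := ((LocalizedModule.mkLinearMap T X).restrictScalars C) ∘ₗ TensorProduct.mk C C' G 1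
  have hg0 : IsBaseChange B' g0 :=
    (TensorProduct.isBaseChange C G C').comp
      (IsLocalizedModule.isBaseChange T B' (LocalizedModule.mkLinearMap T X))
  have hb : IsBaseChange B (LocalizedModule.mkLinearMap n.asIdeal.primeCompl G) :=
    IsLocalizedModule.isBaseChange n.asIdeal.primeCompl B _
  have hh : IsBaseChange B' (hb.lift g0) := IsBaseChange.of_comp hb (by rw [hb.lift_comp]; exact hg0)
  have key : ∀ q' : PrimeSpectrum C', _ := fun q' =>
    QGor6.relS2_ddual_baseChange_iff (A := R) (B := C) R' (B' := C') J hd hsk f u v hf hfu huv hv hGU q'.asIdeal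
  refine Iff.trans ?_ (hI R' B' M' (hb.lift g0) hh)
  have hmax : ∀ Q : Ideal B', Q.IsPrime → (IsLocalRing.maximalIdeal B).map (algebraMap B B') ≤ Q →
      (Q.comap (algebraMap C' B')).comap (algebraMap C C') = n.asIdeal := fun Q hQ h => by
    have h1 : Q.comap (algebraMap B B') = IsLocalRing.maximalIdeal B :=
      ((IsLocalRing.maximalIdeal.isMaximal B).eq_of_le (Ideal.IsPrime.comap (hK := hQ) _).ne_top
        (Ideal.map_le_iff_le_comap.1 h)).symm
    rw [Ideal.comap_comap, ← IsScalarTower.algebraMap_eq, IsScalarTower.algebraMap_eq C B B', ← Ideal.comap_comap, h1]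
    exact Localization.AtPrime.under_maximalIdeal
  constructor
  · intro h Q hQ hle
    have h1 : (IsLocalRing.maximalIdeal R').map (algebraMap R' C') ≤ Q.comap (algebraMap C' B') := by
      rw [← Ideal.map_le_iff_le_comap, Ideal.map_map, ← IsScalarTower.algebraMap_eq]
      exact le_sup_left.trans hle
    exact FlatDepth.flatAt_localized X T Q
      ((key ⟨_, Ideal.IsPrime.comap _⟩).1 (h ⟨_, Ideal.IsPrime.comap _⟩ (hmax Q hQ (le_sup_right.trans hle)) h1))
  · intro h q' hq' hcl
    refine (key q').2 ?_
    have hdisj : Disjoint (T : Set C') (q'.asIdeal : Set C') := Set.disjoint_left.2 fun c hc hcq => by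
      obtain ⟨a, ha, rfl⟩ := hc
      exact ha (hq' ▸ Ideal.mem_comap.2 hcq : a ∈ n.asIdeal)
    haveI hP : (q'.asIdeal.map (algebraMap C' B')).IsPrime :=
      IsLocalization.isPrime_of_isPrime_disjoint T B' q'.asIdeal inferInstance hdisj
    have hc := IsLocalization.comap_map_of_isPrime_disjoint T B' (q'.2) hdisj
    have h1 := flatAt_of_localized X T _ (h (q'.asIdeal.map (algebraMap C' B')) (sup_le ?_ ?_))
    · exact (show ∀ (a b : Ideal C') [a.IsPrime] [b.IsPrime], a = b → FlatCA.FlatAt R' a X → FlatCA.FlatAt R' b X from
        fun a b _ _ e h => by subst e; exact h) _ _ hc h1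
    · rw [IsScalarTower.algebraMap_eq R' C' B', ← Ideal.map_map]
      exact Ideal.map_mono hcl
    · rw [← Localization.AtPrime.map_eq_maximalIdeal, Ideal.map_map, ← IsScalarTower.algebraMap_eq,
        IsScalarTower.algebraMap_eq C C' B', ← Ideal.map_map]
      exact Ideal.map_mono (Ideal.map_le_iff_le_comap.2 hq'.ge)

end Groth.Agent.S18714
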