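import Groth.Statements.S18718
import Mathlib
import Groth.Agent.Lib.QGor6.FourTermBC
import Groth.Agent.Lib.Depth.HomDepth

set_option autoImplicit false
universe u
open QGor

namespace Groth.Agent.S18718

open TensorProduct in
/-- Affine form. Let A → B be a flat homomorphism of Noetherian rings, J an ideal of B such that the
fibre local ring B_q/pB_q has depth ≥ 2 at every prime q ⊇ J (p its contraction), A → A′ a
homomorphism of Noetherian rings with Noetherian pushout B′ = A′ ⊗_A B, and F a finite B-module with
F_q free for every prime q not containing J. Then depth_J (F^∨∨) ≥ 2 (the double dual is the module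
of sections of F off V(J)); the natural map (B′ ⊗_B F)^∨∨ → (B′ ⊗_B F^∨∨)^∨∨ obtained by dualising
twice the base change of F → F^∨∨ is bijective; and if moreover F is flat over A and the fibre
stalks F_q/pF_q have depth ≥ 2 at all primes q ⊇ J, then F and B′ ⊗_B F are reflexive. -/
theorem result (A B : Type u) [CommRing A] [CommRing B] [IsNoetherianRing A] [IsNoetherianRing B] [Algebra A B]
    (A' B' : Type u) [CommRing A'] [CommRing B'] [IsNoetherianRing A'] [IsNoetherianRing B']
    [Algebra A A'] [Algebra B B'] [Algebra A' B'] [Algebra A B'] [IsScalarTower A B B'] [IsScalarTower A A' B']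
    [Algebra.IsPushout A B A' B'] [Module.Flat A B] (J : Ideal B)
    (hZ : ∀ q : PrimeSpectrum B, J ≤ q.asIdeal →
      2 ≤ LocCoh.idealDepth (q.asIdeal.map (algebraMap B (EGA4.FibLocRing A B q.asIdeal))) (EGA4.FibLocRing A B q.asIdeal))
    (F : Type u) [AddCommGroup F] [Module B F] [Module A F] [IsScalarTower A B F] [Module.Finite B F]
    (hFU : ∀ q : PrimeSpectrum B, ¬ J ≤ q.asIdeal → Module.Free (Localization.AtPrime q.asIdeal) (LocalizedModule q.asIdeal.primeCompl F)) :
    2 ≤ LocCoh.idealDepth J (Module.Dual B (Module.Dual B F)) ∧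
    Function.Bijective (((Module.Dual.eval B F).baseChange B').dualMap.dualMap) ∧
    (Module.Flat A F →
      (∀ q : PrimeSpectrum B, J ≤ q.asIdeal →
        2 ≤ LocCoh.idealDepth (q.asIdeal.map (algebraMap B (EGA4.FibLocRing A B q.asIdeal))) (EGA4.FibLocMod A B q.asIdeal F)) →
      Module.IsReflexive B F ∧ Module.IsReflexive B' (B' ⊗[B] F)) := by
  classical
  have hB2 : 2 ≤ LocCoh.idealDepth J B := FlatDepth.le_idealDepth_self_of_fibres (A := A) J 2 (by exact_mod_cast hZ)
  haveI : Module.Flat A' B' := QGor6.flat_baseChange_ring (A := A) (B := B)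
  let J' := J.map (algebraMap B B')
  have hB2' : 2 ≤ LocCoh.idealDepth J' B' := FlatDepth.le_idealDepth_self_of_fibres (A := A') J' 2
    (fun q' hq' => by exact_mod_cast QGor6.fibre_depth_baseChange A A' B' J 2 hZ q' hq')
  haveI : Module.Finite B (Module.Dual B F) := Module.Finite.equiv (LinearEquiv.refl B _)
  haveI : Module.Finite B (Module.Dual B (Module.Dual B F)) := Module.Finite.equiv (LinearEquiv.refl B _)
  refine ⟨DepthLib.two_le_idealDepth_linearMap J hB2, ?_, fun hFA hF2 => ?_⟩
  · have hloc : ∀ p : PrimeSpectrum B', ¬ J' ≤ p.asIdeal → ∃ s ∉ p.asIdeal, ∃ r,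
        QGor6.IsQuasiInv s ((Module.Dual.eval B F).baseChange B') r := by
      intro p hp
      let q := PrimeSpectrum.comap (algebraMap B B') p
      haveI := hFU q fun h => hp (Ideal.map_le_iff_le_comap.2 h)
      obtain ⟨hk, hc⟩ := DepthLib.eval_locally_bijective (G := F) q.asIdeal.primeCompl inferInstance
      obtain ⟨s, hs, r, hr⟩ := QGor6.exists_quasiInv q.asIdeal.primeCompl _ hk hc
      exact ⟨algebraMap B B' s, hs, r.baseChange B', hr.baseChange⟩
    let g := (Module.Dual.eval B F).baseChange B'
    have hg : Function.Bijective g.dualMap :=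
      QGor6.bijective_of_quasiInv J' (DepthLib.two_le_idealDepth_linearMap J' hB2')
        (DepthLib.one_le_idealDepth_linearMap J' (le_trans one_le_two hB2')) g.dualMap fun p hp => by
          obtain ⟨s, hs, r, hr⟩ := hloc p hp
          exact ⟨s, hs, r.dualMap, hr.dualMap⟩
    exact (LinearEquiv.ofBijective g.dualMap hg).dualMap.bijective
  · haveI := hFA
    have hFd : 2 ≤ LocCoh.idealDepth J F := FlatDepth.le_idealDepth_of_fibres (A := A) F J 2 (by exact_mod_cast hF2)
    haveI hFr : Module.IsReflexive B F := Groth.Agent.S18703.result B J (le_trans one_le_two hB2) F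
      (fun p hp => by haveI := hFU p hp; infer_instance) hFd
    refine ⟨hFr, ?_⟩
    obtain ⟨n, π, hπ⟩ := Module.Finite.exists_fin' B (Module.Dual B F)
    obtain ⟨m, ρ, hρ⟩ := Module.Finite.exists_fin' B (LinearMap.ker π)
    let π₁ : (Fin m → B) →ₗ[B] (Fin n → B) := (LinearMap.ker π).subtype ∘ₗ ρ
    have hπ₁ : LinearMap.range π₁ = LinearMap.ker π := by
      rw [LinearMap.range_comp, LinearMap.range_eq_top.2 hρ, Submodule.map_top, Submodule.range_subtype]
    let f : F →ₗ[B] Module.Dual B (Fin n → B) := π.dualMap ∘ₗ Module.Dual.eval B F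
    let u : Module.Dual B (Fin n → B) →ₗ[B] Module.Dual B (Fin m → B) := π₁.dualMap
    let v : Module.Dual B (Fin m → B) →ₗ[B] Module.Dual B (Fin m → B) ⧸ LinearMap.range u :=
      (LinearMap.range u).mkQ
    have hf : Function.Injective f :=
      (LinearMap.dualMap_injective_of_surjective hπ).comp (Module.bijective_dual_eval B F).1
    have hfu : Function.Exact f u := by
      rw [LinearMap.exact_iff, LinearMap.range_comp, LinearMap.range_eq_top.2 (Module.bijective_dual_eval B F).2,
        Submodule.map_top, LinearMap.ker_dualMap_eq_dualAnnihilator_range, hπ₁,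
        LinearMap.range_dualMap_eq_dualAnnihilator_ker_of_surjective _ hπ]
    have huv : Function.Exact u v := LinearMap.exact_map_mkQ_range u
    have hv : Function.Surjective v := Submodule.mkQ_surjective _
    have hGU : ∀ q : PrimeSpectrum B, ¬ J ≤ q.asIdeal → Module.Free (Localization.AtPrime q.asIdeal)
        (LocalizedModule q.asIdeal.primeCompl (Module.Dual B (Fin m → B) ⧸ LinearMap.range u)) := by
      intro q hq
      haveI := hFU q hq
      obtain ⟨s, hs, k, a, b, hab⟩ := QGor6.exists_retract_of_free (M := F) q.asIdeal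
      obtain ⟨c, hc⟩ := Module.projective_lifting_property π a.dualMap hπ
      let σ : Module.Dual B F →ₗ[B] (Fin n → B) := c ∘ₗ b.dualMap
      have hσ : π ∘ₗ σ = s • LinearMap.id := by
        rw [← LinearMap.comp_assoc, hc]
        refine LinearMap.ext fun ψ => LinearMap.ext fun x => ?_
        simpa using congrArg ψ (LinearMap.congr_fun hab x)
      let τ : (Fin n → B) →ₗ[B] LinearMap.ker π :=
        (s • LinearMap.id - σ ∘ₗ π).codRestrict _ fun x => by
          simp [show π (σ (π x)) = s • π x from LinearMap.congr_fun hσ (π x)]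
      obtain ⟨w, hw⟩ := Module.projective_lifting_property ρ τ hρ
      have hwu : ∀ ψ, u (w.dualMap (u ψ)) = s • u ψ := fun ψ => LinearMap.ext fun x => by
        show ψ (π₁ (w (π₁ x))) = s * ψ (π₁ x)
        have h1 : π₁ (w (π₁ x)) = s • π₁ x - σ (π (π₁ x)) := congrArg Subtype.val (LinearMap.congr_fun hw (π₁ x))
        rw [h1, show π (π₁ x) = 0 from (ρ x).2, map_zero, sub_zero, map_smul, smul_eq_mul]
      let η := (LinearMap.range u).liftQ (s • LinearMap.id - u ∘ₗ w.dualMap) (by
        rintro _ ⟨ψ, rfl⟩
        simp [hwu])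
      have hη : v ∘ₗ η = s • LinearMap.id := by
        refine Submodule.linearMap_qext _ (LinearMap.ext fun φ => ?_)
        show v (s • φ - u (w.dualMap φ)) = s • v φ
        rw [map_sub, map_smul, (huv _).2 ⟨_, rfl⟩, sub_zero]
      haveI := QGor6.projective_localized_of_retract q.asIdeal hs η v hη
      exact Module.free_of_flat_of_isLocalRing
    have h0 : ∀ q : PrimeSpectrum B, J ≤ q.asIdeal → 2 ≤ LocCoh.idealDepth
        (q.asIdeal.map (algebraMap B (EGA4.FibLocRing A B q.asIdeal)))
        (EGA4.FibLocMod A B q.asIdeal (Module.Dual B (Fin n → B))) :=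
      fun q hq => QGor6.fibre_depth_projective _ q.asIdeal 2 (hZ q hq)
    have h1 : ∀ q : PrimeSpectrum B, J ≤ q.asIdeal → 1 ≤ LocCoh.idealDepth
        (q.asIdeal.map (algebraMap B (EGA4.FibLocRing A B q.asIdeal)))
        (EGA4.FibLocMod A B q.asIdeal (Module.Dual B (Fin m → B))) :=
      fun q hq => QGor6.fibre_depth_projective _ q.asIdeal 1 (le_trans one_le_two (hZ q hq))
    haveI : Module.Flat A (Module.Dual B (Fin n → B)) := Module.Flat.trans A B _
    haveI : Module.Flat A (Module.Dual B (Fin m → B)) := Module.Flat.trans A B _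
    have hGA : ∀ q : PrimeSpectrum B, ¬ J ≤ q.asIdeal →
        FlatCA.FlatAt A q.asIdeal (Module.Dual B (Fin m → B) ⧸ LinearMap.range u) := fun q hq => by
      haveI := hGU q hq
      haveI : Module.Flat A (Localization.AtPrime q.asIdeal) := Module.Flat.trans A B _
      exact Module.Flat.trans A (Localization.AtPrime q.asIdeal) _
    haveI : Module.Flat A (Module.Dual B (Fin m → B) ⧸ LinearMap.range u) :=
      Module.flat_of_isLocalized_maximal B _
        (fun P _ => LocalizedModule P.primeCompl (Module.Dual B (Fin m → B) ⧸ LinearMap.range u))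
        (fun P _ => LocalizedModule.mkLinearMap P.primeCompl _)
        fun P hP => (FlatDepth.fourTerm_at J P f u v hf hfu huv hv hGA h0 h1).1.2
          fun q' _ _ hJ _ => hF2 ⟨q', ‹_›⟩ hJ
    obtain ⟨hinj, hex⟩ := QGor6.baseChange_left_exact (A := A) (B := B) A' B' (F := F) (E0 := Module.Dual B (Fin n → B))
      (E1 := Module.Dual B (Fin m → B)) (G := Module.Dual B (Fin m → B) ⧸ LinearMap.range u) f u v hf hfu huv hv
    obtain ⟨huv', hv'⟩ := QGor6.baseChange_exact (B' := B') huv hv
    haveI : Module.IsReflexive B' (LinearMap.ker (u.baseChange B')) :=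
      QGor6.ker_reflexive _ (v.baseChange B') J' hB2' huv' hv'
        fun q' hq' => QGor6.free_localized_baseChange _ J hGU q' hq'
    exact Module.IsReflexive.of_split
      (((LinearEquiv.ofInjective _ hinj).trans (LinearEquiv.ofEq _ _ hex.linearMap_ker_eq.symm)).toLinearMap)
      (((LinearEquiv.ofInjective _ hinj).trans (LinearEquiv.ofEq _ _ hex.linearMap_ker_eq.symm)).symm.toLinearMap)
      (LinearMap.ext fun x => LinearEquiv.symm_apply_apply _ x)

end Groth.Agent.S18718
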