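import Groth.Agent.Lib.FlatDepth.FourTermLocal
import Groth.Agent.Lib.FlatH4.FlatLocus

set_option autoImplicit false
universe u
open QGor

namespace Groth.Agent.S18725

/-- Affine form of the equivalence (c) ⇔ (d). Let A → B be a homomorphism of finite type between
Noetherian rings, J an ideal of B and 0 → F → E⁰ → E¹ → G → 0 an exact sequence of finite B-modules
such that E⁰, E¹ are flat over A, G_q is flat over A for every prime q not containing J, and for
every prime q ⊇ J with contraction p the fibre stalk E⁰_q/pE⁰_q has depth ≥ 2 and E¹_q/pE¹_q has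
depth ≥ 1. Then for a prime n of B the following are equivalent: G is flat over A at n; there is a
basic open neighbourhood D(s) of n such that at every prime q ∈ D(s) the module F is flat over A at
q and, if q ⊇ J, the fibre stalk F_q/pF_q has depth ≥ 2 (the restriction maps of the fibres of F off
V(J) are bijective on D(s)). -/
theorem result (A B : Type u) [CommRing A] [CommRing B]
    [IsNoetherianRing A] [IsNoetherianRing B] [Algebra A B] (hft : Algebra.FiniteType A B) (J : Ideal B)
    (F E0 E1 G : Type u) [AddCommGroup F] [Module B F] [Module A F] [IsScalarTower A B F] [Module.Finite B F]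
    [AddCommGroup E0] [Module B E0] [Module A E0] [IsScalarTower A B E0] [Module.Finite B E0] [Module.Flat A E0]
    [AddCommGroup E1] [Module B E1] [Module A E1] [IsScalarTower A B E1] [Module.Finite B E1] [Module.Flat A E1]
    [AddCommGroup G] [Module B G] [Module A G] [IsScalarTower A B G] [Module.Finite B G]
    (f : F →ₗ[B] E0) (u : E0 →ₗ[B] E1) (v : E1 →ₗ[B] G)
    (hf : Function.Injective f) (hfu : Function.Exact f u) (huv : Function.Exact u v) (hv : Function.Surjective v)
    (hGU : ∀ q : PrimeSpectrum B, ¬ J ≤ q.asIdeal → FlatCA.FlatAt A q.asIdeal G)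
    (h0 : ∀ q : PrimeSpectrum B, J ≤ q.asIdeal →
      2 ≤ LocCoh.idealDepth (q.asIdeal.map (algebraMap B (EGA4.FibLocRing A B q.asIdeal))) (EGA4.FibLocMod A B q.asIdeal E0))
    (h1 : ∀ q : PrimeSpectrum B, J ≤ q.asIdeal →
      1 ≤ LocCoh.idealDepth (q.asIdeal.map (algebraMap B (EGA4.FibLocRing A B q.asIdeal))) (EGA4.FibLocMod A B q.asIdeal E1))
    (n : PrimeSpectrum B) :
    FlatCA.FlatAt A n.asIdeal G ↔
      ∃ s : B, s ∉ n.asIdeal ∧ ∀ q : PrimeSpectrum B, s ∉ q.asIdeal →
        FlatCA.FlatAt A q.asIdeal F ∧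
        (J ≤ q.asIdeal →
          2 ≤ LocCoh.idealDepth (q.asIdeal.map (algebraMap B (EGA4.FibLocRing A B q.asIdeal))) (EGA4.FibLocMod A B q.asIdeal F)) := by
  classical
  have key := fun (q : Ideal B) (hq : q.IsPrime) =>
    @FlatDepth.fourTerm_at A B _ _ _ _ _ J q hq F E0 E1 G _ _ _ _ _ _ _ _ _ _ _ _ _ _ _ _ _ _ _ _ _ _ f u v
      hf hfu huv hv hGU h0 h1
  constructor
  · intro hn
    haveI := hft
    have hopen : IsOpen {q : PrimeSpectrum B | Module.Flat A (LocalizedModule q.asIdeal.primeCompl G)} :=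
      FlatH4.isOpen_flat_localized_of_isNoetherianRing
    obtain ⟨U, ⟨s, rfl⟩, hns, hsU⟩ := (PrimeSpectrum.isTopologicalBasis_basic_opens.exists_subset_of_mem_open
      (show n ∈ _ from hn) hopen)
    refine ⟨s, hns, fun q hq => ?_⟩
    have hG : FlatCA.FlatAt A q.asIdeal G := hsU hq
    exact ⟨(key q.asIdeal q.2).2 hG, fun hJ => ((key q.asIdeal q.2).1.1 hG) q.asIdeal le_rfl hJ rfl⟩
  · rintro ⟨s, hns, hs⟩
    refine (key n.asIdeal n.2).1.2 fun q' hq' hle hJ _ => ?_
    exact (hs ⟨q', hq'⟩ fun h => hns (hle h)).2 hJ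

end Groth.Agent.S18725
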