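import Groth.Statements.S18726
import Groth.Agent.S18708
import Groth.Agent.Lib.LocCoh.Torsion
import Groth.Agent.Lib.FlatDepth.Coker
-- import your own Groth.Agent.* helpers here

set_option autoImplicit false
universe u
open QGor

open TensorProduct CategoryTheory Groth.Agent.LocCohLib

namespace Groth.Agent.S18726

variable {B : Type u} [CommRing B] [IsNoetherianRing B] (J : Ideal B)
  {M N P : Type u} [AddCommGroup M] [Module B M] [AddCommGroup N] [Module B N] [AddCommGroup P] [Module B P]

theorem isPowerTorsion_of_support [Module.Finite B M]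
    (h : Module.support B M ⊆ PrimeSpectrum.zeroLocus J) : LocCoh.IsPowerTorsion J M := by
  rw [Module.support_eq_zeroLocus, PrimeSpectrum.zeroLocus_subset_zeroLocus_iff] at h
  obtain ⟨n, hn⟩ := Ideal.exists_pow_le_of_le_radical_of_fg h (IsNoetherian.noetherian J)
  exact fun x => ⟨n, fun a ha => Module.mem_annihilator.1 (hn ha) x⟩

theorem subsingleton_H_of_le_idealDepth [Module.Finite B M] {n i : ℕ}
    (h : (n : ℕ∞) ≤ LocCoh.idealDepth J M) (hi : i < n) : Subsingleton (LocCoh.H J i M) :=
  subsingleton_of_eventually J i (ModuleCat.of B M) 1 fun m hm =>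
    DepthLib.subsingleton_ext_of_le_idealDepth h (Q J m)
      (((DepthLib.support_quotient (J ^ m)).subset).trans
        (PrimeSpectrum.zeroLocus_pow J (show m ≠ 0 by omega)).subset) hi

theorem subsingleton_H_range (h : M →ₗ[B] N) (ht : LocCoh.IsPowerTorsion J (LinearMap.ker h)) (i : ℕ)
    (hM : Subsingleton (LocCoh.H J (i + 1) M)) : Subsingleton (LocCoh.H J (i + 1) (LinearMap.range h)) := by
  have hS := shortExact_mk (LinearMap.ker h).subtype h.rangeRestrict (LinearMap.ker h).injective_subtype
    h.surjective_rangeRestrict (by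
      intro x
      rw [← LinearMap.coe_range, SetLike.mem_coe, Submodule.range_subtype, LinearMap.mem_ker]
      exact ⟨fun hx => congrArg Subtype.val hx, fun hx => Subtype.ext hx⟩)
  refine subsingleton_of_forall_eq 0 fun x => ?_
  have hT := subsingleton_of_isPowerTorsion J (i + 1) _ ht
  obtain ⟨y, rfl⟩ := (exact_map_δ J (i + 1) hS x).1 (@Subsingleton.elim _ hT _ _)
  exact (congrArg _ (@Subsingleton.elim _ hM y 0)).trans (map_zero _)

theorem subsingleton_H_coker (h : M →ₗ[B] N) (p : N →ₗ[B] P) (hhp : Function.Exact h p)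
    (hp : Function.Surjective p) (i : ℕ) (hN : Subsingleton (LocCoh.H J i N))
    (hR : Subsingleton (LocCoh.H J (i + 1) (LinearMap.range h))) : Subsingleton (LocCoh.H J i P) := by
  have hS := shortExact_mk (LinearMap.range h).subtype p (LinearMap.range h).injective_subtype hp (by
      intro x
      rw [← LinearMap.coe_range, SetLike.mem_coe, Submodule.range_subtype]
      exact hhp x)
  refine subsingleton_of_forall_eq 0 fun x => ?_
  obtain ⟨y, rfl⟩ := (exact_map_δ J i hS x).1 (@Subsingleton.elim _ hR _ _)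
  exact (congrArg _ (@Subsingleton.elim _ hN y 0)).trans (map_zero _)

theorem one_le_idealDepth [Module.Finite B M] (h : Subsingleton (LocCoh.H J 0 M)) :
    1 ≤ LocCoh.idealDepth J M := by
  have := (DepthLib.natCast_le_idealDepth_iff (I := J) (M := M) 1).2 fun i hi => by
    obtain rfl : i = 0 := by omega
    refine subsingleton_of_forall_eq 0 fun x => ?_
    obtain ⟨g, rfl⟩ := (Abelian.Ext.mk₀_bijective _ _).2 x
    have hg : g = 0 := by
      apply ModuleCat.hom_ext
      refine Submodule.linearMap_qext _ (LinearMap.ext_ring ?_)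
      have hmem : g.hom (Submodule.Quotient.mk 1) ∈ InjHullLib.powTors J M :=
        InjHullLib.mem_powTors_iff.2 ⟨1, fun a ha => by
          rw [← map_smul, ← Submodule.Quotient.mk_smul, smul_eq_mul, mul_one,
            (Submodule.Quotient.mk_eq_zero J).2 (by simpa using ha), map_zero]⟩
      rw [← range_zeroMap] at hmem
      obtain ⟨y, hy⟩ := hmem
      exact hy.symm.trans ((congrArg _ (@Subsingleton.elim _ h y 0)).trans (map_zero _))
    rw [hg, Abelian.Ext.mk₀_zero]
  exact_mod_cast this


/-- Affine-local form at a point. Let A → B be a local homomorphism of Noetherian local rings, m the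
maximal ideal of A, J an ideal of B, and 0 → F → E⁰ → E¹ → G → 0 an exact sequence of finite
B-modules with E⁰, E¹ flat over A, G_q flat over A for every prime q not containing J, depth_J
(E⁰/mE⁰) ≥ 2 and depth_J (E¹/mE¹) ≥ 1. Assume H²_J(F/mF) = 0; since under these hypotheses the
module of sections of F/mF off V(J) is finite and its J-depth is ≥ 3 exactly when H²_J(F/mF)
vanishes, this is the condition that that module of sections has J-depth ≥ 3. Then F and G are flat
over A, and depth_J (F/mF) ≥ 2 (the restriction map of the closed fibre of F off V(J) is bijective). -/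
theorem result (A B : Type u) [CommRing A] [CommRing B]
    [IsNoetherianRing A] [IsNoetherianRing B] [IsLocalRing A] [IsLocalRing B] [Algebra A B]
    [IsLocalHom (algebraMap A B)] (J : Ideal B)
    (F E0 E1 G : Type u) [AddCommGroup F] [Module B F] [Module A F] [IsScalarTower A B F] [Module.Finite B F]
    [AddCommGroup E0] [Module B E0] [Module A E0] [IsScalarTower A B E0] [Module.Finite B E0] [Module.Flat A E0]
    [AddCommGroup E1] [Module B E1] [Module A E1] [IsScalarTower A B E1] [Module.Finite B E1] [Module.Flat A E1]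
    [AddCommGroup G] [Module B G] [Module A G] [IsScalarTower A B G] [Module.Finite B G]
    (f : F →ₗ[B] E0) (u : E0 →ₗ[B] E1) (v : E1 →ₗ[B] G)
    (hf : Function.Injective f) (hfu : Function.Exact f u) (huv : Function.Exact u v) (hv : Function.Surjective v)
    (hGU : ∀ q : PrimeSpectrum B, ¬ J ≤ q.asIdeal → FlatCA.FlatAt A q.asIdeal G)
    (h0 : 2 ≤ LocCoh.idealDepth J (EGA4.FibMod A B E0)) (h1 : 1 ≤ LocCoh.idealDepth J (EGA4.FibMod A B E1))
    (hH2 : Subsingleton (LocCoh.H J 2 (EGA4.FibMod A B F))) :
    Module.Flat A F ∧ Module.Flat A G ∧ 2 ≤ LocCoh.idealDepth J (EGA4.FibMod A B F) := by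
  have hk : ∀ (N : Type u) [AddCommGroup N] [Module B N] [Module A N] [IsScalarTower A B N],
      LocCoh.idealDepth J (EGA4.FibMod A B N) = LocCoh.idealDepth J (N ⊗[A] (A ⧸ IsLocalRing.maximalIdeal A)) :=
    fun N _ _ _ _ => (DepthLib.idealDepth_congr (FlatDepth.fibModEquiv N)).symm
  let k := A ⧸ IsLocalRing.maximalIdeal A
  let p : E0 →ₗ[B] LinearMap.range u := u.rangeRestrict
  have hp : Function.Surjective p := u.surjective_rangeRestrict
  have hfp : Function.Exact f p := fun x => by
    rw [← hfu x]
    exact ⟨fun h => congrArg Subtype.val h, fun h => Subtype.ext h⟩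
  have hi : Function.Injective (LinearMap.range u).subtype := (LinearMap.range u).injective_subtype
  have hiv : Function.Exact (LinearMap.range u).subtype v := fun x => by
    rw [huv x]
    exact ⟨fun ⟨w, hw⟩ => ⟨⟨x, w, hw⟩, rfl⟩, fun ⟨⟨_, w, hw⟩, hw'⟩ => ⟨w, hw.trans hw'⟩⟩
  have hKU : ∀ q : PrimeSpectrum B, ¬ J ≤ q.asIdeal → FlatCA.FlatAt A q.asIdeal (LinearMap.range u) :=
    fun q hq => FlatDepth.flatAt_kernel _ v hi hiv hv q.asIdeal (hGU q hq)
  let fk := FlatDepth.mapLeft (R := A) (M := k) f
  let pk := FlatDepth.mapLeft (R := A) (M := k) p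
  let ik := FlatDepth.mapLeft (R := A) (M := k) (LinearMap.range u).subtype
  let vk := FlatDepth.mapLeft (R := A) (M := k) v
  have htf : LocCoh.IsPowerTorsion J (LinearMap.ker fk) := isPowerTorsion_of_support J fun q hq a ha => by
    by_contra haq
    obtain ⟨⟨x, hx⟩, hne⟩ := Module.mem_support_iff'.1 hq
    obtain ⟨s, hs, hs0⟩ := FlatDepth.exists_smul_eq_zero_of_coker_flatAt f p hf hfp hp q.asIdeal
      (hKU q fun h => haq (h ha)) _ x hx
    exact hne s hs (Subtype.ext hs0)
  have hti : LocCoh.IsPowerTorsion J (LinearMap.ker ik) := isPowerTorsion_of_support J fun q hq a ha => by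
    by_contra haq
    obtain ⟨⟨x, hx⟩, hne⟩ := Module.mem_support_iff'.1 hq
    obtain ⟨s, hs, hs0⟩ := FlatDepth.exists_smul_eq_zero_of_coker_flatAt _ v hi hiv hv q.asIdeal
      (hGU q fun h => haq (h ha)) _ x hx
    exact hne s hs (Subtype.ext hs0)
  have hex1 : Function.Exact fk pk := fun z => by
    rw [FlatDepth.mapLeft_apply,
      rTensor_exact k (f := f.restrictScalars A) (g := p.restrictScalars A) hfp hp z]
    exact ⟨fun ⟨w, hw⟩ => ⟨w, (FlatDepth.mapLeft_apply f w).trans hw⟩,
      fun ⟨w, hw⟩ => ⟨w, (FlatDepth.mapLeft_apply f w).symm.trans hw⟩⟩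
  have hex2 : Function.Exact ik vk := fun z => by
    rw [FlatDepth.mapLeft_apply,
      rTensor_exact k (f := (LinearMap.range u).subtype.restrictScalars A) (g := v.restrictScalars A) hiv hv z]
    exact ⟨fun ⟨w, hw⟩ => ⟨w, (FlatDepth.mapLeft_apply _ w).trans hw⟩,
      fun ⟨w, hw⟩ => ⟨w, (FlatDepth.mapLeft_apply _ w).symm.trans hw⟩⟩
  have hF2 : Subsingleton (LocCoh.H J 2 (F ⊗[A] k)) := by
    let e' := ((localCohomology J 2).mapIso (FlatDepth.fibModEquiv (R := A) (S := B) F).toModuleIso).toLinearEquiv
    exact e'.injective.subsingleton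
  have hK1 : Subsingleton (LocCoh.H J 1 (LinearMap.range u ⊗[A] k)) :=
    subsingleton_H_coker J fk pk hex1 (FlatDepth.mapLeft_surjective hp) 1
      (subsingleton_H_of_le_idealDepth J (n := 2) (by rw [← hk E0]; exact_mod_cast h0) one_lt_two)
      (subsingleton_H_range J fk htf 1 hF2)
  have hG0 : Subsingleton (LocCoh.H J 0 (G ⊗[A] k)) :=
    subsingleton_H_coker J ik vk hex2 (FlatDepth.mapLeft_surjective hv) 0
      (subsingleton_H_of_le_idealDepth J (n := 1) (by rw [← hk E1]; exact_mod_cast h1) one_pos)
      (subsingleton_H_range J ik hti 0 hK1)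
  have hG : Module.Flat A G := FlatDepth.flat_of_flatAt_off J hGU (one_le_idealDepth J hG0)
  have H := Groth.Agent.S18708.result A B J F E0 E1 G f u v hf hfu huv hv hGU h0 h1
  exact ⟨H.2.2 hG, hG, H.1.2 hG⟩

end Groth.Agent.S18726
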