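import Groth.Statements.S18732
import Groth.Agent.Lib.EffCartier.Basic

set_option autoImplicit false
universe u
open CategoryTheory CategoryTheory.Limits AlgebraicGeometry TopologicalSpace
open ModPair

namespace Groth.Agent.S18732

/-- Let X be a scheme, I the quasi-coherent ideal sheaf of an effective Cartier divisor on X with open
complement U, and f : X' ⟶ X a morphism of schemes for which the open immersion of f⁻¹(U) into X'
has all of X' as its scheme-theoretic image. Then f⁻¹(U) is scheme-theoretically dense in X' (for
every open W of X' the inclusion of f⁻¹(U) ∩ W into W is scheme-theoretically dominant), and the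
closed subscheme of X' pulled back from the divisor of I is an effective Cartier divisor: I.comap f
is the ideal sheaf of an effective Cartier divisor. -/
theorem result {X X' : Scheme.{u}}
    (I : X.IdealSheafData) (hI : BlowUp.IsEffCartierIdeal I) (f : X' ⟶ X)
    [IsSchemeTheoreticallyDominant (f ⁻¹ᵁ ModPair.interior I).ι] :
    (∀ W : X'.Opens, IsSchemeTheoreticallyDominant
        (X'.homOfLE (inf_le_right : f ⁻¹ᵁ ModPair.interior I ⊓ W ≤ W))) ∧
      BlowUp.IsEffCartierIdeal (I.comap f) := by
  have : IsSchemeTheoreticallyDominant (f ⁻¹ᵁ EffCartier.cmpl I).ι :=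
    ‹IsSchemeTheoreticallyDominant (f ⁻¹ᵁ ModPair.interior I).ι›
  refine ⟨fun W => ?_, EffCartier.comap_of_dominant hI f⟩
  have := EffCartier.quasiCompact_preimage_interior hI f
  exact IsSchemeTheoreticallyDominant.of_isPullback
    (f := (f ⁻¹ᵁ EffCartier.cmpl I).ι) (g := W.ι)
    (isPullback_opens_inf (f ⁻¹ᵁ EffCartier.cmpl I) W)

end Groth.Agent.S18732
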