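import Groth.Statements.S18733
import Groth.Agent.Lib.EffCartier.Mul

set_option autoImplicit false
universe u
open CategoryTheory CategoryTheory.Limits AlgebraicGeometry TopologicalSpace
open ModPair

namespace Groth.Agent.S18733

/-- Let D₁, D₂ be effective Cartier divisors on a scheme X, with quasi-coherent ideal sheaves I₁, I₂,
such that the scheme-theoretic intersection E = D₁ ×_X D₂ (ideal sheaf I₁ ⊔ I₂) is again an
effective Cartier divisor. Then (1) the divisors D₁ − E and D₂ − E are effective and disjoint: there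
are ideal sheaves I₁', I₂' of effective Cartier divisors with I₁ = I₁'·(I₁ ⊔ I₂), I₂ = I₂'·(I₁ ⊔ I₂)
and I₁' ⊔ I₂' = ⊤; and (2) the effective Cartier divisor D₁ + D₂ − E, with ideal sheaf I₁'·I₂'·(I₁ ⊔
I₂), is contained in every effective Cartier divisor D of X containing D₁ and D₂: if the ideal sheaf
of D is ≤ I₁ and ≤ I₂ then it is ≤ I₁'·I₂'·(I₁ ⊔ I₂). -/
theorem result {X : Scheme.{u}} (I₁ I₂ : X.IdealSheafData)
    (h₁ : BlowUp.IsEffCartierIdeal I₁) (h₂ : BlowUp.IsEffCartierIdeal I₂)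
    (hE : BlowUp.IsEffCartierIdeal (I₁ ⊔ I₂)) :
    ∃ I₁' I₂' : X.IdealSheafData, BlowUp.IsEffCartierIdeal I₁' ∧ BlowUp.IsEffCartierIdeal I₂' ∧
      I₁ = I₁' * (I₁ ⊔ I₂) ∧ I₂ = I₂' * (I₁ ⊔ I₂) ∧ I₁' ⊔ I₂' = ⊤ ∧
      ∀ D : X.IdealSheafData, BlowUp.IsEffCartierIdeal D → D ≤ I₁ → D ≤ I₂ →
        D ≤ I₁' * I₂' * (I₁ ⊔ I₂) := by
  set E := I₁ ⊔ I₂ with hEdef
  have e₁ : EffCartier.colon I₁ hE * E = I₁ := EffCartier.colon_mul hE le_sup_left
  have e₂ : EffCartier.colon I₂ hE * E = I₂ := EffCartier.colon_mul hE le_sup_right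
  refine ⟨EffCartier.colon I₁ hE, EffCartier.colon I₂ hE,
    EffCartier.isEffCartierIdeal_of_mul_left (J := E) (by rw [e₁]; exact h₁),
    EffCartier.isEffCartierIdeal_of_mul_left (J := E) (by rw [e₂]; exact h₂), e₁.symm, e₂.symm, ?_, ?_⟩
  · refine EffCartier.eq_of_mul_eq_mul_right hE ?_
    rw [Scheme.IdealSheafData.inf_mul, e₁, e₂, Scheme.IdealSheafData.top_mul]
  · intro D _ hD₁ hD₂ U a ha
    have htop : (EffCartier.colon I₁ hE).ideal U ⊔ (EffCartier.colon I₂ hE).ideal U = ⊤ := by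
      have h : EffCartier.colon I₁ hE ⊔ EffCartier.colon I₂ hE = ⊤ :=
        EffCartier.eq_of_mul_eq_mul_right hE
          (by rw [Scheme.IdealSheafData.inf_mul, e₁, e₂, Scheme.IdealSheafData.top_mul])
      simpa using congrArg (fun A => A.ideal U) h
    obtain ⟨p, hp, q, hq, hpq⟩ := Submodule.mem_sup.mp (htop.ge (Submodule.mem_top : (1 : Γ(X, U.1)) ∈ ⊤))
    have ha₁ := hD₁ U ha
    have ha₂ := hD₂ U ha
    rw [← e₁] at ha₁
    rw [← e₂] at ha₂
    simp only [Scheme.IdealSheafData.ideal_mul, Pi.mul_apply] at ha₁ ha₂ ⊢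
    rw [← mul_one a, ← hpq, mul_add]
    refine add_mem ?_ ?_
    · rw [mul_assoc, mul_comm a p]
      exact Ideal.mul_mem_mul hp ha₂
    · rw [mul_comm ((EffCartier.colon I₁ hE).ideal U), mul_assoc, mul_comm a q]
      exact Ideal.mul_mem_mul hq ha₁

end Groth.Agent.S18733
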