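import Groth.Statements.S18734
import Mathlib.AlgebraicGeometry.ZariskisMainTheorem
import Mathlib.AlgebraicGeometry.Pullbacks
import Mathlib.AlgebraicGeometry.Morphisms.Flat
import Mathlib.RingTheory.Valuation.ValuationRing
import Mathlib.RingTheory.Flat.TorsionFree

set_option autoImplicit false
universe u
open CategoryTheory CategoryTheory.Limits AlgebraicGeometry TopologicalSpace
open ModPair

namespace Groth.Agent.S18734

open scoped TensorProduct

instance : IsZariskiLocalAtSource @LocallyQuasiFinite.{u} :=
  HasRingHomProperty.instIsZariskiLocalAtSource (Q := RingHom.QuasiFinite)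

instance : MorphismProperty.RespectsIso @LocallyQuasiFinite.{u} :=
  MorphismProperty.IsStableUnderBaseChange.respectsIso

variable {R : Type u} [CommRing R] [IsDomain R] [ValuationRing R]

lemma exists_dvd_all {n : ℕ} (r : Fin (n + 1) → R) : ∃ i₀, ∀ i, r i₀ ∣ r i := by
  induction n with
  | zero => exact ⟨0, fun i => by rw [Fin.fin_one_eq_zero i]⟩
  | succ n ih =>
    obtain ⟨i₀, h₀⟩ := ih fun i => r i.succ
    rcases ValuationRing.dvd_total (r 0) (r i₀.succ) with h | h
    · exact ⟨0, fun i => Fin.cases dvd_rfl (fun j => h.trans (h₀ j)) i⟩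
    · exact ⟨i₀.succ, fun i => Fin.cases h h₀ i⟩

variable (A : Type u) [CommRing A] [Algebra R A] [Module.Flat R A]

/-- A relation over the fraction field gives a relation with a unit coefficient. -/
lemma exists_relation [Module.Finite (FractionRing R) (FractionRing R ⊗[R] A)] {n : ℕ}
    (hn : Module.finrank (FractionRing R) (FractionRing R ⊗[R] A) ≤ n) (b : Fin (n + 1) → A) :
    ∃ (e : Fin (n + 1) → R) (i₀ : Fin (n + 1)), e i₀ = 1 ∧ ∑ i, e i • b i = 0 := by
  let K := FractionRing R
  have hdep : ¬ LinearIndependent K fun i => (1 : K) ⊗ₜ[R] b i := fun h => by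
    have : Fintype.card (Fin (n + 1)) ≤ Module.finrank (FractionRing R) (FractionRing R ⊗[R] A) := h.fintype_card_le_finrank
    simp only [Fintype.card_fin] at this
    omega
  obtain ⟨c, hc, j, hj⟩ := Fintype.not_linearIndependent_iff.mp hdep
  obtain ⟨⟨s, hs⟩, hr⟩ := IsLocalization.exist_integer_multiples (nonZeroDivisors R) Finset.univ c
  choose r hr using fun i => hr i (Finset.mem_univ i)
  obtain ⟨i₀, hi₀⟩ := exists_dvd_all r
  choose e he using hi₀
  have hri : r i₀ ≠ 0 := fun h0 => hj (by
    have h1 := hr j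
    rw [he j, h0, zero_mul, map_zero] at h1
    exact (smul_eq_zero.mp h1.symm).resolve_left (nonZeroDivisors.ne_zero hs))
  refine ⟨fun i => if i = i₀ then 1 else e i, i₀, if_pos rfl, ?_⟩
  have hinj : Function.Injective fun a : A => (1 : K) ⊗ₜ[R] a :=
    Algebra.TensorProduct.includeRight_injective (IsFractionRing.injective R K)
  have he₀ : e i₀ = 1 := mul_left_cancel₀ hri (by rw [← he i₀, mul_one])
  have h2 : (algebraMap R K (r i₀)) • (1 : K) ⊗ₜ[R] (∑ i, e i • b i) = 0 := by
    rw [TensorProduct.tmul_sum, Finset.smul_sum]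
    calc ∑ i, algebraMap R K (r i₀) • (1 : K) ⊗ₜ[R] (e i • b i)
        = ∑ i, algebraMap R K s • (c i • (1 : K) ⊗ₜ[R] b i) := Finset.sum_congr rfl fun i _ => by
          rw [TensorProduct.tmul_smul, ← algebraMap_smul K (e i) ((1 : K) ⊗ₜ[R] b i), smul_smul, ← map_mul, ← he i,
            hr i, smul_smul, Algebra.smul_def]
      _ = 0 := by rw [← Finset.smul_sum, hc, smul_zero]
  have h3 : (1 : K) ⊗ₜ[R] (∑ i, e i • b i) = 0 :=
    (smul_eq_zero.mp h2).resolve_left ((map_ne_zero_iff _ (IsFractionRing.injective R K)).mpr hri)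
  rw [← TensorProduct.tmul_zero A (1 : K)] at h3
  rw [← hinj h3]
  refine Finset.sum_congr rfl fun i _ => ?_
  dsimp only
  split_ifs with h
  · rw [h, he₀]
  · rfl

/-- A flat algebra over a valuation ring with finite generic fibre has finite fibres. -/
lemma quasiFinite_of_finite_generic [Module.Finite (FractionRing R) (FractionRing R ⊗[R] A)] :
    Algebra.QuasiFinite R A := by
  refine ⟨fun P hP => ?_⟩
  set n := Module.finrank (FractionRing R) (FractionRing R ⊗[R] A)
  let k := P.ResidueField
  let S : Set (k ⊗[R] A) := Set.range fun a => (1 : k) ⊗ₜ[R] a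
  obtain ⟨B, hBS, hspan, hli⟩ := exists_linearIndependent k S
  have hS : Submodule.span k S = ⊤ := by
    rw [eq_top_iff]
    rintro x -
    induction x using TensorProduct.induction_on with
    | zero => exact zero_mem _
    | tmul a b =>
      rw [show a ⊗ₜ[R] b = a • ((1 : k) ⊗ₜ[R] b) by rw [TensorProduct.smul_tmul', smul_eq_mul, mul_one]]
      exact Submodule.smul_mem _ _ (Submodule.subset_span ⟨b, rfl⟩)
    | add x y hx hy => exact add_mem hx hy
  have hB : B.Finite := by
    by_contra hinf
    let g : Fin (n + 1) ↪ B := Fin.valEmbedding.trans (Set.Infinite.natEmbedding B hinf)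
    choose b hb using fun i => hBS (g i).2
    obtain ⟨e, i₀, he₀, hsum⟩ := exists_relation A le_rfl b
    have hli' : LinearIndependent k fun i => ((g i : B) : k ⊗[R] A) := hli.comp g g.injective
    have := Fintype.linearIndependent_iff.mp hli' (fun i => algebraMap R k (e i)) (by
      calc ∑ i, algebraMap R k (e i) • ((g i : B) : k ⊗[R] A)
          = (1 : k) ⊗ₜ[R] ∑ i, e i • b i := by
            rw [TensorProduct.tmul_sum]
            exact Finset.sum_congr rfl fun i _ => by rw [algebraMap_smul, ← hb i, TensorProduct.tmul_smul]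
        _ = 0 := by rw [hsum, TensorProduct.tmul_zero]) i₀
    rw [he₀, map_one] at this
    exact one_ne_zero this
  exact ⟨⟨hB.toFinset, by rw [Set.Finite.coe_toFinset, hspan, hS]⟩⟩

lemma locallyQuasiFinite_snd {Y T : Scheme.{u}} {U : Scheme.{u}} (j : U ⟶ Y) [IsOpenImmersion j] {S : Scheme.{u}}
    (f : Y ⟶ S) (s : T ⟶ S) (h : IsFinite (pullback.snd f s)) : LocallyQuasiFinite (pullback.snd (j ≫ f) s) := by
  rw [← MorphismProperty.cancel_left_of_respectsIso @LocallyQuasiFinite (pullbackRightPullbackFstIso f s j).hom,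
    pullbackRightPullbackFstIso_hom_snd]
  infer_instance

lemma quasiFinite_chart {Y : Scheme.{u}} (f : Y ⟶ Spec (CommRingCat.of R)) [Flat f] [LocallyOfFiniteType f]
    (hgen : IsFinite (pullback.snd f (Spec.map (CommRingCat.ofHom (algebraMap R (FractionRing R))))))
    {A : CommRingCat.{u}} (j : Spec A ⟶ Y) [IsOpenImmersion j] : LocallyQuasiFinite (j ≫ f) := by
  obtain ⟨φ, hφ⟩ := Spec.map_surjective (j ≫ f)
  letI : Algebra R A := φ.hom.toAlgebra
  have hA : j ≫ f = Spec.map (CommRingCat.ofHom (algebraMap R A)) := hφ.symm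
  have : Flat (Spec.map (CommRingCat.ofHom (algebraMap R A))) := hA ▸ inferInstance
  have : LocallyOfFiniteType (Spec.map (CommRingCat.ofHom (algebraMap R A))) := hA ▸ inferInstance
  have : Module.Flat R A := RingHom.flat_algebraMap_iff.mp
    ((HasRingHomProperty.Spec_iff (P := @Flat)).mp ‹Flat (Spec.map (CommRingCat.ofHom (algebraMap R A)))›)
  have : Algebra.FiniteType R A := RingHom.finiteType_algebraMap.mp
    ((HasRingHomProperty.Spec_iff (P := @LocallyOfFiniteType)).mp ‹LocallyOfFiniteType _›)
  let K := FractionRing R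
  have h1 : LocallyQuasiFinite (Spec.map (CommRingCat.ofHom (algebraMap K (K ⊗[R] A)))) := by
    rw [← pullbackSpecIso_inv_fst' R K A, MorphismProperty.cancel_left_of_respectsIso @LocallyQuasiFinite,
      ← pullbackSymmetry_hom_comp_snd, MorphismProperty.cancel_left_of_respectsIso @LocallyQuasiFinite, ← hA]
    exact locallyQuasiFinite_snd j f _ hgen
  have : Algebra.QuasiFinite K (K ⊗[R] A) := RingHom.quasiFinite_algebraMap.mp
    ((HasRingHomProperty.Spec_iff (P := @LocallyQuasiFinite)).mp h1)
  have : Module.Finite K (K ⊗[R] A) := Module.Finite.of_quasiFinite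
  rw [hA]
  exact (HasRingHomProperty.Spec_iff (P := @LocallyQuasiFinite)).mpr
    (RingHom.quasiFinite_algebraMap.mpr (quasiFinite_of_finite_generic A))

/-- Let R be a valuation ring with fraction field K and f : Y ⟶ Spec R a morphism of schemes which is
flat, proper and generically finite (the generic fibre Y ×_{Spec R} Spec K ⟶ Spec K is a finite
morphism). Then f is finite. No finite-presentation hypothesis is assumed. -/
theorem result {R : Type u} [CommRing R]
    [IsDomain R] [ValuationRing R] {Y : Scheme.{u}} (f : Y ⟶ Spec (CommRingCat.of R)) [Flat f] [IsProper f]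
    (hgen : IsFinite (pullback.snd f
      (Spec.map (CommRingCat.ofHom (algebraMap R (FractionRing R)))))) :
    IsFinite f := by
  have : LocallyQuasiFinite f :=
    IsZariskiLocalAtSource.of_openCover (P := @LocallyQuasiFinite.{u}) Y.affineCover fun i =>
      @quasiFinite_chart R _ _ _ Y f _ _ hgen _ (Y.affineCover.f i) (Y.affineCover.map_prop i)
  exact IsFinite.of_isProper_of_locallyQuasiFinite f

end Groth.Agent.S18734
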