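import Groth.Statements.S18736
import Groth.Agent.Lib.EffCartier.Dense

set_option autoImplicit false
universe u
open CategoryTheory CategoryTheory.Limits AlgebraicGeometry TopologicalSpace
open ModPair

namespace Groth.Agent.S18736

/-- With the minimal-case product: let (S, I_S), (T, I_T), (X, I_X) be schemes equipped with
quasi-coherent ideal sheaves of effective Cartier divisors, p : X ⟶ S a morphism satisfying the
modulus condition I_X ≤ I_S.comap p, and f : T ⟶ S a minimal morphism, I_T = I_S.comap f. Let Y be
the scheme-theoretic image in X ×_S T of the open pr₁⁻¹(X°) ∩ pr₂⁻¹(T°) (X°, T° the open complements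
of the supports of I_X, I_T), with projections r : Y ⟶ X and q : Y ⟶ T, and put I_Y := I_X.comap r.
Then I_Y is the ideal sheaf of an effective Cartier divisor, q satisfies the modulus condition I_Y ≤
I_T.comap q, and (Y, I_Y) with q and r is the fibre product of (T, I_T) and (X, I_X) over (S, I_S)
among modulus pairs and morphisms satisfying the modulus condition: for every scheme W with the
ideal sheaf I_W of an effective Cartier divisor and morphisms a : W ⟶ T, b : W ⟶ X with I_W ≤
I_T.comap a, I_W ≤ I_X.comap b and a ≫ f = b ≫ p, there is a unique c : W ⟶ Y with c ≫ q = a, c ≫ r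
= b and I_W ≤ I_Y.comap c. -/
theorem result {S T X : Scheme.{u}} (IS : S.IdealSheafData)
    (IT : T.IdealSheafData) (IX : X.IdealSheafData) (hS : BlowUp.IsEffCartierIdeal IS)
    (hT : BlowUp.IsEffCartierIdeal IT) (hX : BlowUp.IsEffCartierIdeal IX)
    (p : X ⟶ S) (hp : ModPair.IsAmbient IX IS p) (f : T ⟶ S) (hf : ModPair.IsMinimal IT IS f) :
    BlowUp.IsEffCartierIdeal (IX.comap (ModPair.mprodι p f IX IT ≫ pullback.fst p f)) ∧
      ModPair.IsAmbient (IX.comap (ModPair.mprodι p f IX IT ≫ pullback.fst p f)) IT
        (ModPair.mprodι p f IX IT ≫ pullback.snd p f) ∧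
      ∀ (W : Scheme.{u}) (IW : W.IdealSheafData), BlowUp.IsEffCartierIdeal IW →
        ∀ (a : W ⟶ T) (b : W ⟶ X), ModPair.IsAmbient IW IT a → ModPair.IsAmbient IW IX b →
          a ≫ f = b ≫ p →
          ∃! c : W ⟶ ModPair.mprod p f IX IT,
            c ≫ ModPair.mprodι p f IX IT ≫ pullback.snd p f = a ∧
              c ≫ ModPair.mprodι p f IX IT ≫ pullback.fst p f = b ∧
              ModPair.IsAmbient IW (IX.comap (ModPair.mprodι p f IX IT ≫ pullback.fst p f)) c := by
  have := EffCartier.quasiCompact_preimage_interior hX (pullback.fst p f)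
  have := EffCartier.quasiCompact_preimage_interior hT (pullback.snd p f)
  have hqc : QuasiCompact (ModPair.prodInterior p f IX IT).ι :=
    EffCartier.quasiCompact_inf (pullback.fst p f ⁻¹ᵁ EffCartier.cmpl IX) (pullback.snd p f ⁻¹ᵁ EffCartier.cmpl IT)
  have hd : IsSchemeTheoreticallyDominant
      ((ModPair.mprodι p f IX IT ≫ pullback.fst p f) ⁻¹ᵁ EffCartier.cmpl IX).ι :=
    EffCartier.dominant_preimage_imageι (ModPair.prodInterior p f IX IT).ι (pullback.fst p f ⁻¹ᵁ EffCartier.cmpl IX)
      fun x => x.2.1
  refine ⟨EffCartier.comap_of_dominant hX _, ?_, ?_⟩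
  · show _ ≤ _
    have h : IT.comap (ModPair.mprodι p f IX IT ≫ pullback.snd p f) =
        (IS.comap p).comap (ModPair.mprodι p f IX IT ≫ pullback.fst p f) := by
      refine (congrArg (fun A : T.IdealSheafData =>
        A.comap (ModPair.mprodι p f IX IT ≫ pullback.snd p f)) (hf : IT = IS.comap f)).trans ?_
      rw [← Scheme.IdealSheafData.comap_comp, ← Scheme.IdealSheafData.comap_comp, Category.assoc, Category.assoc,
        pullback.condition]
    rw [h]
    exact Scheme.IdealSheafData.comap_mono _ hp
  · intro W IW hW a b ha hb hab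
    let l : W ⟶ pullback p f := pullback.lift b a hab.symm
    have := EffCartier.dominant_cmpl hW
    have := EffCartier.quasiCompact_interior hW
    have hr : ∀ x, ((EffCartier.cmpl IW).ι ≫ l) x ∈ ModPair.prodInterior p f IX IT := by
      intro x
      refine ⟨fun h => x.2 ?_, fun h => x.2 ?_⟩
      · refine Scheme.IdealSheafData.support_antitone hb ?_
        rw [Scheme.IdealSheafData.support_comap]
        have h' : pullback.fst p f (l x.1) ∈ IX.support := h
        rwa [← Scheme.Hom.comp_apply, pullback.lift_fst] at h'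
      · refine Scheme.IdealSheafData.support_antitone ha ?_
        rw [Scheme.IdealSheafData.support_comap]
        have h' : pullback.snd p f (l x.1) ∈ IT.support := h
        rwa [← Scheme.Hom.comp_apply, pullback.lift_snd] at h'
    have hr' : Set.range ((EffCartier.cmpl IW).ι ≫ l) ⊆ Set.range (ModPair.prodInterior p f IX IT).ι := by
      rintro _ ⟨x, rfl⟩; rw [Scheme.Opens.range_ι]; exact hr x
    have hker : (ModPair.mprodι p f IX IT).ker ≤ l.ker := by
      rw [Scheme.IdealSheafData.ker_subschemeι]
      have h1 := Scheme.Hom.le_ker_comp (IsOpenImmersion.lift (ModPair.prodInterior p f IX IT).ι _ hr')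
        (ModPair.prodInterior p f IX IT).ι
      rw [IsOpenImmersion.lift_fac, Scheme.Hom.ker_comp, (EffCartier.cmpl IW).ι.ker_eq_bot,
        Scheme.IdealSheafData.map_bot] at h1
      exact h1
    refine ⟨IsClosedImmersion.lift (ModPair.mprodι p f IX IT) l hker, ⟨?_, ?_, ?_⟩, ?_⟩
    · rw [IsClosedImmersion.lift_fac_assoc, pullback.lift_snd]
    · rw [IsClosedImmersion.lift_fac_assoc, pullback.lift_fst]
    · show IW ≤ _
      rw [← Scheme.IdealSheafData.comap_comp, IsClosedImmersion.lift_fac_assoc, pullback.lift_fst]
      exact hb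
    · rintro c ⟨hca, hcb, -⟩
      rw [← cancel_mono (ModPair.mprodι p f IX IT), IsClosedImmersion.lift_fac]
      apply pullback.hom_ext
      · rw [Category.assoc, pullback.lift_fst]; exact hcb
      · rw [Category.assoc, pullback.lift_snd]; exact hca

end Groth.Agent.S18736
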