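import Groth.Statements.S18737
import Groth.Agent.Lib.EffCartier.Dense
import Groth.Agent.Lib.BlowUpExist.Local
import Mathlib.AlgebraicGeometry.Morphisms.Finite
import Mathlib.AlgebraicGeometry.Morphisms.Proper

set_option autoImplicit false
universe u
open CategoryTheory CategoryTheory.Limits AlgebraicGeometry TopologicalSpace
open ModPair

namespace Groth.Agent.S18737

open Groth.Agent

variable {X : Scheme.{u}} {I : X.IdealSheafData}

lemma quasiCompact_of_compl (hI : BlowUp.IsEffCartierIdeal I) (U₀ U₁ : X.Opens)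
    (hU : U₀ ⊔ U₁ = ModPair.interior I) (hd : Disjoint U₀ U₁) : QuasiCompact U₀.ι := by
  have : QuasiCompact (ModPair.interior I).ι := EffCartier.quasiCompact_interior hI
  have hle : U₀ ≤ ModPair.interior I := hU ▸ le_sup_left
  have : IsClosedImmersion (X.homOfLE hle) := by
    refine .of_isPreimmersion _ ?_
    rw [← isOpen_compl_iff]
    convert ((ModPair.interior I).ι ⁻¹ᵁ U₁).isOpen using 1
    ext x
    simp only [Set.mem_compl_iff, Set.mem_range]
    constructor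
    · intro hx
      rcases hU.ge x.2 with h | h
      · exact absurd ⟨⟨x.1, h⟩, Subtype.ext (by simp)⟩ hx
      · exact h
    · rintro hx ⟨y, rfl⟩
      refine Set.disjoint_left.mp (TopologicalSpace.Opens.coe_disjoint.mpr hd) y.2 ?_
      have hx' : (X.homOfLE hle ≫ (ModPair.interior I).ι) y ∈ U₁ := hx
      rwa [Scheme.homOfLE_ι] at hx'
  rw [← X.homOfLE_ι hle]
  infer_instance

lemma isIso_coprod_desc_restrict {Z₀ Z₁ : Scheme.{u}} (m₀ : Z₀ ⟶ X) (m₁ : Z₁ ⟶ X) (W : X.Opens)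
    (h₀ : IsIso (m₀ ∣_ W)) (h₁ : ∀ z, m₁ z ∉ W) : IsIso (coprod.desc m₀ m₁ ∣_ W) := by
  have hpb : IsPullback (m₀ ∣_ W) ((m₀ ⁻¹ᵁ W).ι ≫ coprod.inl) W.ι (coprod.desc m₀ m₁) := by
    refine IsOpenImmersion.isPullback _ _ _ _ (by rw [Category.assoc, coprod.inl_desc, morphismRestrict_ι]) ?_
    ext x
    obtain ⟨x | x, rfl⟩ := (coprodMk Z₀ Z₁).surjective x
    · show coprod.desc m₀ m₁ _ ∈ (W.ι.opensRange : Set X) ↔ _
      rw [coprodMk_inl, Scheme.Opens.opensRange_ι, ← Scheme.Hom.comp_apply, coprod.inl_desc]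
      constructor
      · exact fun h => ⟨⟨x, h⟩, rfl⟩
      · rintro ⟨⟨y, hy⟩, hyx⟩
        obtain rfl : y = x := (coprod.inl : Z₀ ⟶ Z₀ ⨿ Z₁).isOpenEmbedding.injective (show (coprod.inl : Z₀ ⟶ Z₀ ⨿ Z₁) ((m₀ ⁻¹ᵁ W).ι ⟨y, hy⟩) = _ from hyx)
        exact hy
    · show coprod.desc m₀ m₁ _ ∈ (W.ι.opensRange : Set X) ↔ _
      rw [coprodMk_inr, Scheme.Opens.opensRange_ι, ← Scheme.Hom.comp_apply, coprod.inr_desc]
      refine iff_of_false (h₁ x) ?_
      rintro ⟨y, hyx⟩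
      exact inl_ne_inr Z₀ Z₁ y.1 x (by simpa [Function.comp_apply] using hyx)
  have h2 := isPullback_morphismRestrict (coprod.desc m₀ m₁) W
  have e : (hpb.isoIsPullback _ _ h2).hom ≫ (coprod.desc m₀ m₁ ∣_ W) = m₀ ∣_ W :=
    IsPullback.isoIsPullback_hom_fst _ _ hpb h2
  rw [← e] at h₀
  exact IsIso.of_isIso_comp_left (hpb.isoIsPullback _ _ h2).hom _

lemma isIso_imageι_restrict (U : X.Opens) [QuasiCompact U.ι] : IsIso (U.ι.imageι ∣_ U) := by
  have hr : Set.range U.ι.toImage ⊆ Set.range (U.ι.imageι ⁻¹ᵁ U).ι := by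
    rintro _ ⟨x, rfl⟩
    rw [Scheme.Opens.range_ι]
    show U.ι.imageι (U.ι.toImage x) ∈ U
    rw [← Scheme.Hom.comp_apply, U.ι.toImage_imageι]
    exact x.2
  have : IsSplitEpi (U.ι.imageι ∣_ U) := by
    refine IsSplitEpi.mk' ⟨IsOpenImmersion.lift (U.ι.imageι ⁻¹ᵁ U).ι _ hr, ?_⟩
    rw [← cancel_mono U.ι, Category.assoc, morphismRestrict_ι, IsOpenImmersion.lift_fac_assoc,
      U.ι.toImage_imageι, Category.id_comp]
  exact isIso_of_mono_of_isSplitEpi _

lemma imageι_not_mem (U₀ U₁ : X.Opens) [QuasiCompact U₁.ι] (hd : Disjoint U₀ U₁) (z) :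
    U₁.ι.imageι z ∉ U₀ := by
  intro hz
  have h : U₁.ι.imageι z ∈ closure (Set.range U₁.ι) := by
    have hz' : U₁.ι.imageι z ∈ Set.range U₁.ι.imageι := ⟨z, rfl⟩
    rwa [Scheme.IdealSheafData.range_subschemeι, Scheme.Hom.support_ker] at hz'
  obtain ⟨y, hy₀, x, rfl⟩ := mem_closure_iff.mp h _ U₀.isOpen hz
  exact Set.disjoint_left.mp (TopologicalSpace.Opens.coe_disjoint.mpr hd) hy₀ x.2

lemma isEffCartier_comap_imageι (hI : BlowUp.IsEffCartierIdeal I) (U : X.Opens) [QuasiCompact U.ι]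
    (hle : U ≤ ModPair.interior I) : BlowUp.IsEffCartierIdeal (I.comap U.ι.imageι) := by
  have : IsSchemeTheoreticallyDominant (U.ι.imageι ⁻¹ᵁ EffCartier.cmpl I).ι :=
    EffCartier.dominant_preimage_imageι U.ι (EffCartier.cmpl I) fun x => hle x.2
  exact EffCartier.comap_of_dominant hI _

lemma isProper_coprod_desc {Z₀ Z₁ : Scheme.{u}} (m₀ : Z₀ ⟶ X) (m₁ : Z₁ ⟶ X) [IsFinite m₀] [IsFinite m₁] :
    IsProper (coprod.desc m₀ m₁) := by
  have : IsFinite (coprod.desc m₀ m₁) := inferInstance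
  infer_instance

lemma isAdmBlowup_coprod_desc {Z₀ Z₁ : Scheme.{u}} (m₀ : Z₀ ⟶ X) (m₁ : Z₁ ⟶ X) [IsFinite m₀] [IsFinite m₁]
    (e₀ : BlowUp.IsEffCartierIdeal (I.comap m₀)) (e₁ : BlowUp.IsEffCartierIdeal (I.comap m₁))
    (U₀ U₁ : X.Opens) (hU : U₀ ⊔ U₁ = ModPair.interior I) (i₀ : IsIso (m₀ ∣_ U₀)) (i₁ : IsIso (m₁ ∣_ U₁))
    (n₀ : ∀ z, m₁ z ∉ U₀) (n₁ : ∀ z, m₀ z ∉ U₁) :
    BlowUp.IsEffCartierIdeal (I.comap (coprod.desc m₀ m₁)) ∧
      ModPair.IsAdmBlowup (I.comap (coprod.desc m₀ m₁)) I (coprod.desc m₀ m₁) := by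
  refine ⟨BlowUpExist.isEffCartierIdeal_of_cover (coprodOpenCover.{_, 0} Z₀ Z₁).f
      (fun x => ?_) (fun i => ?_), rfl, isProper_coprod_desc m₀ m₁, ?_⟩
  · obtain ⟨x | x, rfl⟩ := (coprodMk Z₀ Z₁).surjective x
    exacts [⟨.inl ⟨⟩, x, (coprodMk_inl _ _ x).symm⟩, ⟨.inr ⟨⟩, x, (coprodMk_inr _ _ x).symm⟩]
  · rcases i with i | i
    · show BlowUp.IsEffCartierIdeal ((I.comap (coprod.desc m₀ m₁)).comap coprod.inl)
      rw [← Scheme.IdealSheafData.comap_comp, coprod.inl_desc]; exact e₀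
    · show BlowUp.IsEffCartierIdeal ((I.comap (coprod.desc m₀ m₁)).comap coprod.inr)
      rw [← Scheme.IdealSheafData.comap_comp, coprod.inr_desc]; exact e₁
  · have j₀ : IsIso (coprod.desc m₀ m₁ ∣_ U₀) := isIso_coprod_desc_restrict _ _ U₀ i₀ n₀
    have j₁ : IsIso (coprod.desc m₀ m₁ ∣_ U₁) := by
      have h : coprod.desc m₀ m₁ = (coprod.braiding Z₀ Z₁).hom ≫ coprod.desc m₁ m₀ := by
        ext <;> simp [coprod.inl_desc, coprod.inr_desc]
      rw [h, morphismRestrict_comp]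
      have hb : IsIso (coprod.braiding Z₀ Z₁).hom := inferInstance
      exact @IsIso.comp_isIso _ _ _ _ _ _ _
        (IsZariskiLocalAtTarget.restrict (P := MorphismProperty.isomorphisms Scheme) hb _)
        (isIso_coprod_desc_restrict _ _ U₁ i₁ n₁)
    rw [← hU]
    refine IsZariskiLocalAtTarget.of_forall_exists_morphismRestrict (P := MorphismProperty.isomorphisms Scheme)
      fun x => ?_
    rcases x.2 with hx | hx
    · exact ⟨(U₀ ⊔ U₁).ι ⁻¹ᵁ U₀, hx, ((MorphismProperty.isomorphisms Scheme).arrow_mk_iso_iff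
        (morphismRestrictRestrict _ (U₀ ⊔ U₁) _ ≪≫ morphismRestrictEq _ (by
          rw [Scheme.Hom.image_preimage_eq_opensRange_inf, Scheme.Opens.opensRange_ι]
          exact inf_eq_right.mpr le_sup_left))).mpr j₀⟩
    · exact ⟨(U₀ ⊔ U₁).ι ⁻¹ᵁ U₁, hx, ((MorphismProperty.isomorphisms Scheme).arrow_mk_iso_iff
        (morphismRestrictRestrict _ (U₀ ⊔ U₁) _ ≪≫ morphismRestrictEq _ (by
          rw [Scheme.Hom.image_preimage_eq_opensRange_inf, Scheme.Opens.opensRange_ι]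
          exact inf_eq_right.mpr le_sup_right))).mpr j₁⟩

/-- Let X be a scheme and I the quasi-coherent ideal sheaf of an effective Cartier divisor on X, with
open complement U, and suppose U is the disjoint union of two opens U₀, U₁ of X. Let X₀, X₁ ⊆ X be
the scheme-theoretic images of U₀ and U₁ in X and p : X₀ ⨿ X₁ ⟶ X the morphism induced by the two
closed immersions. Then the pulled-back ideal I.comap p is the ideal sheaf of an effective Cartier
divisor, and p is an abstract admissible blow-up from (X₀ ⨿ X₁, I.comap p) to (X, I): proper, with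
the pulled-back modulus, and an isomorphism over U. -/
theorem result {X : Scheme.{u}}
    (I : X.IdealSheafData) (hI : BlowUp.IsEffCartierIdeal I) (U₀ U₁ : X.Opens)
    (hU : U₀ ⊔ U₁ = ModPair.interior I) (hd : Disjoint U₀ U₁) :
    BlowUp.IsEffCartierIdeal (I.comap (coprod.desc U₀.ι.imageι U₁.ι.imageι)) ∧
      ModPair.IsAdmBlowup (I.comap (coprod.desc U₀.ι.imageι U₁.ι.imageι)) I
        (coprod.desc U₀.ι.imageι U₁.ι.imageι) := by
  have h₀ := quasiCompact_of_compl hI U₀ U₁ hU hd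
  have h₁ := quasiCompact_of_compl hI U₁ U₀ (sup_comm U₁ U₀ ▸ hU) hd.symm
  exact isAdmBlowup_coprod_desc _ _ (isEffCartier_comap_imageι hI U₀ (hU ▸ le_sup_left))
    (isEffCartier_comap_imageι hI U₁ (hU ▸ le_sup_right)) U₀ U₁ hU (isIso_imageι_restrict U₀)
    (isIso_imageι_restrict U₁) (imageι_not_mem U₀ U₁ hd) (imageι_not_mem U₁ U₀ hd.symm)

end Groth.Agent.S18737
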