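import Groth.Statements.S18749
import Groth.Agent.Lib.EffCartier.Dense

set_option autoImplicit false
universe u
open CategoryTheory CategoryTheory.Limits AlgebraicGeometry TopologicalSpace
open ModPair

namespace Groth.Agent.S18749

/-- Let (S, I_S), (T, J), (X, I) be schemes with quasi-coherent ideal sheaves of effective Cartier
divisors and f : X ⟶ S, g : T ⟶ S morphisms satisfying the modulus condition. Let Y₀ be the
scheme-theoretic image of pr₁⁻¹(X°) ∩ pr₂⁻¹(T°) in X ×_S T, let π : Y ⟶ Y₀ be a blowing up of Y₀ in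
the sum of the two ideal sheaves I, J pulled back to Y₀ (the intersection of the two pulled-back
divisors), and let K be an ideal sheaf on Y whose product with the exceptional ideal is the product
of the pull-backs of I and J to Y. Then K is the ideal sheaf of an effective Cartier divisor (the
divisor D_X + D_T − E), the projections Y ⟶ X and Y ⟶ T satisfy the modulus condition with respect
to K, and the interior of (Y, K) is the preimage of pr₁⁻¹(X°) ∩ pr₂⁻¹(T°). -/
theorem result {S T X Y : Scheme.{u}} (IS : S.IdealSheafData)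
    (J : T.IdealSheafData) (I : X.IdealSheafData) (hS : BlowUp.IsEffCartierIdeal IS)
    (hT : BlowUp.IsEffCartierIdeal J) (hX : BlowUp.IsEffCartierIdeal I)
    (f : X ⟶ S) (hf : ModPair.IsAmbient I IS f) (g : T ⟶ S) (hg : ModPair.IsAmbient J IS g)
    (π : Y ⟶ ModPair.mprod f g I J) (K : Y.IdealSheafData) (hY : ModPair.IsAmbProd f g I J π K) :
    BlowUp.IsEffCartierIdeal K ∧
      ModPair.IsAmbient K I (π ≫ ModPair.mprodι f g I J ≫ pullback.fst f g) ∧
      ModPair.IsAmbient K J (π ≫ ModPair.mprodι f g I J ≫ pullback.snd f g) ∧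
      ModPair.interior K = (π ≫ ModPair.mprodι f g I J) ⁻¹ᵁ ModPair.prodInterior f g I J := by
  set U := ModPair.prodInterior f g I J
  set C := ModPair.prodCentre f g I J with hC
  set m := ModPair.mprodι f g I J
  set A := (I.comap (m ≫ pullback.fst f g)).comap π with hA
  set B := (J.comap (m ≫ pullback.snd f g)).comap π with hB
  have hE : BlowUp.IsEffCartierIdeal (C.comap π) := hY.1.1
  have hKE : K * C.comap π = A * B := hY.2
  have hEAB : C.comap π = A ⊔ B := Scheme.IdealSheafData.comap_sup (J₁ := I.comap (m ≫ pullback.fst f g))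
    (J₂ := J.comap (m ≫ pullback.snd f g)) π
  have := EffCartier.quasiCompact_preimage_interior hX (pullback.fst f g)
  have := EffCartier.quasiCompact_preimage_interior hT (pullback.snd f g)
  have hqc : QuasiCompact U.ι :=
    EffCartier.quasiCompact_inf (pullback.fst f g ⁻¹ᵁ EffCartier.cmpl I) (pullback.snd f g ⁻¹ᵁ EffCartier.cmpl J)
  have hdU : IsSchemeTheoreticallyDominant (m ⁻¹ᵁ U).ι :=
    EffCartier.dominant_preimage_imageι U.ι U fun x => x.2
  have hqU : QuasiCompact (m ⁻¹ᵁ U).ι := EffCartier.quasiCompact_preimage m U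
  have hiso := EffCartier.isIso_blowUp_restrict hY.1
  have hdC : IsSchemeTheoreticallyDominant (π ⁻¹ᵁ EffCartier.cmpl C).ι := by
    refine @EffCartier.dominant_of_range_le _ _ _ (EffCartier.dominant_cmpl hE) _ fun x hx => x.2 ?_
    show x.1 ∈ (C.comap π).support
    rw [Scheme.IdealSheafData.support_comap]; exact hx
  have hflat : Flat ((π ⁻¹ᵁ EffCartier.cmpl C).ι ≫ π) := by
    rw [← morphismRestrict_ι]; infer_instance
  have hdY : IsSchemeTheoreticallyDominant (π ⁻¹ᵁ (m ⁻¹ᵁ U)).ι := by
    have := EffCartier.dominant_preimage ((π ⁻¹ᵁ EffCartier.cmpl C).ι ≫ π) (m ⁻¹ᵁ U)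
    exact EffCartier.dominant_of_range_le
      ((((π ⁻¹ᵁ EffCartier.cmpl C).ι ≫ π) ⁻¹ᵁ (m ⁻¹ᵁ U)).ι ≫ (π ⁻¹ᵁ EffCartier.cmpl C).ι) _ fun x => x.2
  have hAc : A = I.comap (π ≫ m ≫ pullback.fst f g) := (Scheme.IdealSheafData.comap_comp I π _).symm
  have hBc : B = J.comap (π ≫ m ≫ pullback.snd f g) := (Scheme.IdealSheafData.comap_comp J π _).symm
  have hAEC : BlowUp.IsEffCartierIdeal A := by
    have : IsSchemeTheoreticallyDominant ((π ≫ m ≫ pullback.fst f g) ⁻¹ᵁ EffCartier.cmpl I).ι :=
      EffCartier.dominant_of_range_le (π ⁻¹ᵁ (m ⁻¹ᵁ U)).ι _ fun x => x.2.1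
    rw [hAc]; exact EffCartier.comap_of_dominant hX _
  have hBEC : BlowUp.IsEffCartierIdeal B := by
    have : IsSchemeTheoreticallyDominant ((π ≫ m ≫ pullback.snd f g) ⁻¹ᵁ EffCartier.cmpl J).ι :=
      EffCartier.dominant_of_range_le (π ⁻¹ᵁ (m ⁻¹ᵁ U)).ι _ fun x => x.2.2
    rw [hBc]; exact EffCartier.comap_of_dominant hT _
  have hAE : A ≤ C.comap π := hEAB ▸ le_sup_left
  have hBE : B ≤ C.comap π := hEAB ▸ le_sup_right
  have hKA : K ≤ A := EffCartier.le_of_mul_le_mul_right hE (fun V => by
    rw [hKE, Scheme.IdealSheafData.ideal_mul, Scheme.IdealSheafData.ideal_mul]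
    exact Ideal.mul_mono_right (hBE V))
  have hKB : K ≤ B := EffCartier.le_of_mul_le_mul_right hE (fun V => by
    rw [hKE, Scheme.IdealSheafData.ideal_mul, Scheme.IdealSheafData.ideal_mul, Pi.mul_apply, Pi.mul_apply,
      mul_comm (A.ideal V)]
    exact Ideal.mul_mono_right (hAE V))
  refine ⟨EffCartier.isEffCartierIdeal_of_mul_left (J := C.comap π) (hKE ▸ EffCartier.isEffCartierIdeal_mul hAEC hBEC),
    hKA.trans hAc.le, hKB.trans hBc.le, ?_⟩
  have hs : (K.support : Set Y) ∪ ((C.comap π).support : Set Y) = (A.support : Set Y) ∪ (B.support : Set Y) := by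
    have := congrArg (fun D => ((D.support : Closeds Y) : Set Y)) hKE
    simpa [Scheme.IdealSheafData.support_mul] using this
  ext y
  show y ∉ (K.support : Set Y) ↔ m (π y) ∈ U
  have hA' : y ∈ (A.support : Set Y) ↔ pullback.fst f g (m (π y)) ∈ I.support := by
    rw [hAc, Scheme.IdealSheafData.support_comap]; rfl
  have hB' : y ∈ (B.support : Set Y) ↔ pullback.snd f g (m (π y)) ∈ J.support := by
    rw [hBc, Scheme.IdealSheafData.support_comap]; rfl
  refine ⟨fun hy => ⟨fun h => hy ?_, fun h => hy ?_⟩, fun hy hK => ?_⟩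
  · exact Scheme.IdealSheafData.support_antitone hKA (hA'.mpr h)
  · exact Scheme.IdealSheafData.support_antitone hKB (hB'.mpr h)
  · rcases hs.subset (Or.inl hK) with h | h
    · exact hy.1 (hA'.mp h)
    · exact hy.2 (hB'.mp h)

end Groth.Agent.S18749
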