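import Groth.Statements.S18750
import Groth.Agent.Lib.BlowUpExist.Glue

set_option autoImplicit false
universe u
open CategoryTheory CategoryTheory.Limits AlgebraicGeometry TopologicalSpace
open ModPair

namespace Groth.Agent.S18750


lemma comap_mul_le_comap_sup {Z W : Scheme.{u}} (A B : Z.IdealSheafData) (k : W ⟶ Z) :
    A.comap k * B.comap k ≤ (A ⊔ B).comap k := by
  intro U
  rw [Scheme.IdealSheafData.ideal_mul, Pi.mul_apply]
  have h : B.comap k ≤ (A ⊔ B).comap k := Scheme.IdealSheafData.comap_mono k (le_sup_right : B ≤ A ⊔ B)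
  exact le_trans Ideal.mul_le_right (h U)

lemma exists_colon_blowUp {Z : Scheme.{u}} (A B : Z.IdealSheafData) :
    ∃ (Y : Scheme.{u}) (π : Y ⟶ Z) (K : Y.IdealSheafData),
      BlowUp.IsBlowUp π (A ⊔ B) ∧ K * (A ⊔ B).comap π = A.comap π * B.comap π := by
  obtain ⟨Y, π, hE⟩ : ∃ (Y : Scheme.{u}) (π : Y ⟶ Z), BlowUp.IsBlowUp π (A ⊔ B) :=
    ⟨_, BlowUpExist.ChartIdx.blowUpHom (A ⊔ B), BlowUpExist.ChartIdx.isBlowUp_blowUpHom⟩
  exact ⟨Y, π, EffCartier.colon (A.comap π * B.comap π) hE.1, hE,
    EffCartier.colon_mul hE.1 (comap_mul_le_comap_sup A B π)⟩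


/-- Let (S, I_S), (T, J), (X, I) be schemes with quasi-coherent ideal sheaves of effective Cartier
divisors and f : X ⟶ S, g : T ⟶ S morphisms satisfying the modulus condition, and let Y₀ be the
scheme-theoretic image of pr₁⁻¹(X°) ∩ pr₂⁻¹(T°) in X ×_S T. Then the ambient product exists: there
are a blowing up π : Y ⟶ Y₀ of Y₀ in the sum of the two pulled-back moduli and an ideal sheaf K on Y
whose product with the exceptional ideal is the product of the pull-backs of I and J (the divisor
D_X + D_T − E exists). -/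
theorem result {S T X : Scheme.{u}} (IS : S.IdealSheafData)
    (J : T.IdealSheafData) (I : X.IdealSheafData) (hS : BlowUp.IsEffCartierIdeal IS)
    (hT : BlowUp.IsEffCartierIdeal J) (hX : BlowUp.IsEffCartierIdeal I)
    (f : X ⟶ S) (hf : ModPair.IsAmbient I IS f) (g : T ⟶ S) (hg : ModPair.IsAmbient J IS g) :
    ∃ (Y : Scheme.{u}) (π : Y ⟶ ModPair.mprod f g I J) (K : Y.IdealSheafData),
      ModPair.IsAmbProd f g I J π K := by
  exact exists_colon_blowUp _ _

end Groth.Agent.S18750
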