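import Groth.Statements.S18752
import Groth.Agent.Lib.EffCartier.FiniteType
import Groth.Agent.Lib.EffCartier.Dense
import Groth.Agent.Lib.BlowUpExist.Proper
import Groth.Agent.Lib.CatFrac.Pullback
import Groth.Agent.S18738

set_option autoImplicit false
universe u
open CategoryTheory CategoryTheory.Limits AlgebraicGeometry TopologicalSpace
open ModPair

namespace Groth.Agent.S18752

open Groth.Agent

lemma isIso_restrict_of_disjoint {X Y : Scheme.{u}} {b : Y ⟶ X} {C : X.IdealSheafData} (hb : BlowUp.IsBlowUp b C)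
    (U : X.Opens) (h : ∀ x ∈ U, x ∉ C.support) : IsIso (b ∣_ U) := by
  have h₁ : C.comap U.ι = ⊤ := EffCartier.comap_eq_top _ _ fun x => h _ x.2
  obtain ⟨s, hs, -⟩ := hb.2 _ U.ι (h₁ ▸ EffCartier.isEffCartierIdeal_top)
  have hr : Set.range s ⊆ Set.range (b ⁻¹ᵁ U).ι := by
    rintro _ ⟨x, rfl⟩
    rw [Scheme.Opens.range_ι]
    show b (s x) ∈ U
    rw [← Scheme.Hom.comp_apply, hs]
    exact x.2
  refine ⟨IsOpenImmersion.lift (b ⁻¹ᵁ U).ι s hr, ?_, ?_⟩
  · rw [← cancel_mono (b ⁻¹ᵁ U).ι, Category.assoc, IsOpenImmersion.lift_fac, Category.id_comp]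
    have h₂ : C.comap ((b ⁻¹ᵁ U).ι ≫ b) = ⊤ := EffCartier.comap_eq_top _ _ fun x => h _ x.2
    obtain ⟨t, -, ht⟩ := hb.2 _ ((b ⁻¹ᵁ U).ι ≫ b) (h₂ ▸ EffCartier.isEffCartierIdeal_top)
    rw [ht ((b ∣_ U) ≫ s) (by beta_reduce; rw [Category.assoc, hs, morphismRestrict_ι]), ht (b ⁻¹ᵁ U).ι rfl]
  · rw [← cancel_mono U.ι, Category.assoc, morphismRestrict_ι, IsOpenImmersion.lift_fac_assoc, hs,
      Category.id_comp]

lemma le_of_le_sup_mul {X : Scheme.{u}} {M A B K E : X.IdealSheafData} (hE : BlowUp.IsEffCartierIdeal E)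
    (hK : K * E = A * B) (hAB : E = A ⊔ B) (hA : M ≤ A) (hB : M ≤ B) : M ≤ K :=
  EffCartier.le_of_mul_le_mul_right hE fun V => by
    rw [hK, hAB, Scheme.IdealSheafData.ideal_mul, Scheme.IdealSheafData.ideal_mul, Pi.mul_apply, Pi.mul_apply,
      Scheme.IdealSheafData.ideal_sup, Pi.sup_apply, Ideal.mul_sup]
    exact sup_le (le_of_le_of_eq (Ideal.mul_mono_left (hB V)) (mul_comm _ _)) (Ideal.mul_mono_left (hA V))

lemma exists_lift_mprod {P T X Z : ModPair.Pair.{u}} (f : X ⟶ P) (g : T ⟶ P) (a : Z ⟶ X) (b : Z ⟶ T)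
    (h : b ≫ g = a ≫ f) : ∃ l : Z.total ⟶ ModPair.mprod f.hom g.hom X.mod T.mod,
      l ≫ ModPair.mprodι f.hom g.hom X.mod T.mod ≫ pullback.fst f.hom g.hom = a.hom ∧
        l ≫ ModPair.mprodι f.hom g.hom X.mod T.mod ≫ pullback.snd f.hom g.hom = b.hom := by
  set U := ModPair.prodInterior f.hom g.hom X.mod T.mod
  have := EffCartier.quasiCompact_preimage_interior X.isEffCartier (pullback.fst f.hom g.hom)
  have := EffCartier.quasiCompact_preimage_interior T.isEffCartier (pullback.snd f.hom g.hom)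
  have hqc : QuasiCompact U.ι := EffCartier.quasiCompact_inf (pullback.fst f.hom g.hom ⁻¹ᵁ EffCartier.cmpl X.mod)
    (pullback.snd f.hom g.hom ⁻¹ᵁ EffCartier.cmpl T.mod)
  let l : Z.total ⟶ pullback f.hom g.hom := pullback.lift a.hom b.hom (congrArg ModPair.Pair.Hom.hom h).symm
  have := EffCartier.dominant_cmpl Z.isEffCartier
  have := EffCartier.quasiCompact_interior Z.isEffCartier
  have hr : Set.range ((EffCartier.cmpl Z.mod).ι ≫ l) ⊆ Set.range U.ι := by
    rintro _ ⟨x, rfl⟩
    rw [Scheme.Opens.range_ι]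
    refine ⟨fun hx => x.2 ?_, fun hx => x.2 ?_⟩
    · refine Scheme.IdealSheafData.support_antitone a.cond ?_
      rw [Scheme.IdealSheafData.support_comap]
      have h' : pullback.fst f.hom g.hom (l x.1) ∈ X.mod.support := hx
      rwa [← Scheme.Hom.comp_apply, pullback.lift_fst] at h'
    · refine Scheme.IdealSheafData.support_antitone b.cond ?_
      rw [Scheme.IdealSheafData.support_comap]
      have h' : pullback.snd f.hom g.hom (l x.1) ∈ T.mod.support := hx
      rwa [← Scheme.Hom.comp_apply, pullback.lift_snd] at h'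
  have hker : (ModPair.mprodι f.hom g.hom X.mod T.mod).ker ≤ l.ker := by
    rw [Scheme.IdealSheafData.ker_subschemeι]
    have h1 := Scheme.Hom.le_ker_comp (IsOpenImmersion.lift U.ι _ hr) U.ι
    rw [IsOpenImmersion.lift_fac, Scheme.Hom.ker_comp, (EffCartier.cmpl Z.mod).ι.ker_eq_bot,
      Scheme.IdealSheafData.map_bot] at h1
    exact h1
  refine ⟨IsClosedImmersion.lift (ModPair.mprodι f.hom g.hom X.mod T.mod) l hker, ?_, ?_⟩
  · rw [IsClosedImmersion.lift_fac_assoc, pullback.lift_fst]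
  · rw [IsClosedImmersion.lift_fac_assoc, pullback.lift_snd]

/-- Blowing up an ideal sheaf of finite type containing the modulus is an admissible blowing up. -/
lemma exists_admBlowup {Z : ModPair.Pair.{u}} {C : Z.total.IdealSheafData} (hC : BlowUp.IsFiniteTypeIdeal C)
    (hle : Z.mod ≤ C) : ∃ (Z' : ModPair.Pair.{u}) (s : Z' ⟶ Z),
      ModPair.Pair.admBlowup s ∧ BlowUp.IsEffCartierIdeal (C.comap s.hom) := by
  let π := BlowUpExist.ChartIdx.blowUpHom C
  have hb : BlowUp.IsBlowUp π C := BlowUpExist.ChartIdx.isBlowUp_blowUpHom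
  have hsub : ∀ x ∈ EffCartier.cmpl Z.mod, x ∉ C.support := fun x hx hx' =>
    hx (Scheme.IdealSheafData.support_antitone hle hx')
  have hE : BlowUp.IsEffCartierIdeal (C.comap π) := hb.1
  have hdC : IsSchemeTheoreticallyDominant (π ⁻¹ᵁ EffCartier.cmpl C).ι := by
    refine @EffCartier.dominant_of_range_le _ _ _ (EffCartier.dominant_cmpl hE) _ fun x hx => x.2 ?_
    show x.1 ∈ (C.comap π).support
    rw [Scheme.IdealSheafData.support_comap]; exact hx
  have := EffCartier.isIso_blowUp_restrict hb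
  have hflat : Flat ((π ⁻¹ᵁ EffCartier.cmpl C).ι ≫ π) := by
    rw [← morphismRestrict_ι]; infer_instance
  have hd : IsSchemeTheoreticallyDominant (π ⁻¹ᵁ EffCartier.cmpl Z.mod).ι := by
    have := EffCartier.dominant_cmpl Z.isEffCartier
    have := EffCartier.quasiCompact_interior Z.isEffCartier
    have := EffCartier.dominant_preimage ((π ⁻¹ᵁ EffCartier.cmpl C).ι ≫ π) (EffCartier.cmpl Z.mod)
    exact EffCartier.dominant_of_range_le
      ((((π ⁻¹ᵁ EffCartier.cmpl C).ι ≫ π) ⁻¹ᵁ EffCartier.cmpl Z.mod).ι ≫ (π ⁻¹ᵁ EffCartier.cmpl C).ι) _ fun x => x.2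
  exact ⟨⟨_, Z.mod.comap π, EffCartier.comap_of_dominant Z.isEffCartier π⟩, ⟨π, le_refl (Z.mod.comap π)⟩,
    ⟨rfl, BlowUpExist.isProper hC hb, isIso_restrict_of_disjoint hb _ hsub⟩, hE⟩

/-- Let f : X ⟶ P and g : T ⟶ P be ambient morphisms of modulus pairs and let (Y, K), with π : Y ⟶ Y₀ ⊆
X ×_P T, be an ambient product of X and T over P: Y₀ is the scheme-theoretic image of the product of
the interiors, π a blowing up of Y₀ in the sum of the pulled-back moduli, and K the ideal sheaf of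
an effective Cartier divisor with K times the exceptional ideal equal to the product of the
pulled-back moduli, the two projections satisfying the modulus condition. Then in the localization
of the category of modulus pairs at the abstract admissible blow-ups, the square with vertex (Y, K),
sides the two projections to T and X, and g, f, is a pullback square. -/
theorem result (P T X : ModPair.Pair.{u}) (f : X ⟶ P) (g : T ⟶ P)
    {Y : Scheme.{u}} (π : Y ⟶ ModPair.mprod f.hom g.hom X.mod T.mod) (K : Y.IdealSheafData)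
    (hY : ModPair.IsAmbProd f.hom g.hom X.mod T.mod π K) (hK : BlowUp.IsEffCartierIdeal K)
    (hX : ModPair.IsAmbient K X.mod (π ≫ ModPair.mprodι f.hom g.hom X.mod T.mod ≫ pullback.fst f.hom g.hom))
    (hT : ModPair.IsAmbient K T.mod (π ≫ ModPair.mprodι f.hom g.hom X.mod T.mod ≫ pullback.snd f.hom g.hom)) :
    IsPullback
      ((ModPair.Pair.admBlowup.{u}).Q.map
        (ModPair.Pair.Hom.mk (P := ModPair.Pair.mk Y K hK) (Q := T)
          (π ≫ ModPair.mprodι f.hom g.hom X.mod T.mod ≫ pullback.snd f.hom g.hom) hT))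
      ((ModPair.Pair.admBlowup.{u}).Q.map
        (ModPair.Pair.Hom.mk (P := ModPair.Pair.mk Y K hK) (Q := X)
          (π ≫ ModPair.mprodι f.hom g.hom X.mod T.mod ≫ pullback.fst f.hom g.hom) hX))
      ((ModPair.Pair.admBlowup.{u}).Q.map g) ((ModPair.Pair.admBlowup.{u}).Q.map f) := by
  set m := ModPair.mprodι f.hom g.hom X.mod T.mod
  set C := ModPair.prodCentre f.hom g.hom X.mod T.mod
  set pT : ModPair.Pair.mk Y K hK ⟶ T := ModPair.Pair.Hom.mk (π ≫ m ≫ pullback.snd f.hom g.hom) hT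
  set pX : ModPair.Pair.mk Y K hK ⟶ X := ModPair.Pair.Hom.mk (π ≫ m ≫ pullback.fst f.hom g.hom) hX
  have hw : pT ≫ g = pX ≫ f := ModPair.Pair.Hom.ext (by
    show (π ≫ m ≫ pullback.snd f.hom g.hom) ≫ g.hom = (π ≫ m ≫ pullback.fst f.hom g.hom) ≫ f.hom
    simp only [Category.assoc, pullback.condition])
  have := Groth.Agent.S18738.result.{u}
  have hC : C = X.mod.comap (m ≫ pullback.fst f.hom g.hom) ⊔ T.mod.comap (m ≫ pullback.snd f.hom g.hom) := rfl
  refine CatFrac.isPullback_map ModPair.Pair.admBlowup _ hw (fun {Z} b a h => ?_) (fun {Z} u v hu hv => ?_)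
  · obtain ⟨l, hl₁, hl₂⟩ := exists_lift_mprod f g a b h
    have hCl : C.comap l = X.mod.comap a.hom ⊔ T.mod.comap b.hom := by
      rw [hC, Scheme.IdealSheafData.comap_sup, ← Scheme.IdealSheafData.comap_comp,
        ← Scheme.IdealSheafData.comap_comp, hl₁, hl₂]
    have hfin : BlowUp.IsFiniteTypeIdeal (C.comap l) := by
      rw [hCl]
      exact EffCartier.isFiniteTypeIdeal_sup
        (EffCartier.isFiniteTypeIdeal_comap (BlowUpExist.isFiniteTypeIdeal_of_isEffCartierIdeal X.isEffCartier) _)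
        (EffCartier.isFiniteTypeIdeal_comap (BlowUpExist.isFiniteTypeIdeal_of_isEffCartierIdeal T.isEffCartier) _)
    obtain ⟨Z', s, hs, hE⟩ := exists_admBlowup hfin (hCl ▸ le_trans a.cond le_sup_left)
    rw [← Scheme.IdealSheafData.comap_comp] at hE
    obtain ⟨c, hc, -⟩ := hY.1.2 _ (s.hom ≫ l) hE
    have hE' : BlowUp.IsEffCartierIdeal ((C.comap π).comap c) := by
      rw [← Scheme.IdealSheafData.comap_comp, hc]; exact hE
    have hA : (π ≫ m ≫ pullback.fst f.hom g.hom) = pX.hom := rfl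
    have hca : c ≫ π ≫ m ≫ pullback.fst f.hom g.hom = (s ≫ a).hom := by
      rw [← Category.assoc, hc, Category.assoc, hl₁]; rfl
    have hcb : c ≫ π ≫ m ≫ pullback.snd f.hom g.hom = (s ≫ b).hom := by
      rw [← Category.assoc, hc, Category.assoc, hl₂]; rfl
    have hcond : Z'.mod ≤ K.comap c := by
      refine le_of_le_sup_mul (A := ((X.mod.comap (m ≫ pullback.fst f.hom g.hom)).comap π).comap c)
        (B := ((T.mod.comap (m ≫ pullback.snd f.hom g.hom)).comap π).comap c) hE' ?_ ?_ ?_ ?_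
      · rw [← EffCartier.comap_mul, ← EffCartier.comap_mul]
        exact congrArg (fun I : Y.IdealSheafData => I.comap c) hY.2
      · rw [hC, Scheme.IdealSheafData.comap_sup, Scheme.IdealSheafData.comap_sup]
      · rw [← Scheme.IdealSheafData.comap_comp, ← Scheme.IdealSheafData.comap_comp, Category.assoc, hca]
        exact (s ≫ a).cond
      · rw [← Scheme.IdealSheafData.comap_comp, ← Scheme.IdealSheafData.comap_comp, Category.assoc, hcb]
        exact (s ≫ b).cond
    exact ⟨Z', s, hs, ⟨c, hcond⟩, ModPair.Pair.Hom.ext hcb, ModPair.Pair.Hom.ext hca⟩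
  · have h₁ : u.hom ≫ π ≫ m ≫ pullback.fst f.hom g.hom = v.hom ≫ π ≫ m ≫ pullback.fst f.hom g.hom :=
      congrArg ModPair.Pair.Hom.hom hu
    have h₂ : u.hom ≫ π ≫ m ≫ pullback.snd f.hom g.hom = v.hom ≫ π ≫ m ≫ pullback.snd f.hom g.hom :=
      congrArg ModPair.Pair.Hom.hom hv
    have hm : u.hom ≫ π = v.hom ≫ π := by
      rw [← cancel_mono m]
      apply pullback.hom_ext <;> simpa only [Category.assoc]
    have hKE : K ≤ C.comap π := by
      rw [hC, Scheme.IdealSheafData.comap_sup, ← Scheme.IdealSheafData.comap_comp]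
      exact le_trans hX le_sup_left
    have hE : BlowUp.IsEffCartierIdeal (C.comap (u.hom ≫ π)) := by
      rw [Scheme.IdealSheafData.comap_comp]
      exact EffCartier.comap_of_le Z.isEffCartier hY.1.1 _
        (le_trans u.cond (Scheme.IdealSheafData.comap_mono u.hom hKE))
    exact ModPair.Pair.Hom.ext ((hY.1.2 _ _ hE).unique rfl hm.symm)

end Groth.Agent.S18752
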