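import Groth.Statements.S18739
import Groth.Agent.S18738
import Groth.Agent.S18749
import Groth.Agent.S18750
import Groth.Agent.S18752
import Mathlib.CategoryTheory.Limits.Constructions.LimitsOfProductsAndEqualizers
import Mathlib.CategoryTheory.Limits.Constructions.BinaryProducts

set_option autoImplicit false
universe u
open CategoryTheory CategoryTheory.Limits AlgebraicGeometry TopologicalSpace
open ModPair

namespace Groth.Agent.S18739

open Groth.Agent

lemma isEffCartierIdeal_top' (X : Scheme.{u}) : BlowUp.IsEffCartierIdeal (⊤ : X.IdealSheafData) :=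
  EffCartier.isEffCartierIdeal_top

/-- The final modulus pair. -/
noncomputable def finalPair : ModPair.Pair.{u} := ⟨⊤_ Scheme.{u}, ⊤, isEffCartierIdeal_top' _⟩

noncomputable def toFinal (P : ModPair.Pair.{u}) : P ⟶ finalPair :=
  ⟨terminal.from P.total, show P.mod ≤ _ by
    rw [show finalPair.mod.comap (terminal.from P.total) = ⊤ from EffCartier.comap_eq_top _ _
      (fun x => by simp only [finalPair, Scheme.IdealSheafData.support_top]; exact not_false)]
    exact le_top⟩

lemma eq_toFinal {P : ModPair.Pair.{u}} (f : P ⟶ finalPair) : f = toFinal P :=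
  ModPair.Pair.Hom.ext (terminal.hom_ext _ _)

instance : (ModPair.Pair.admBlowup.{u}).HasRightCalculusOfFractions := Groth.Agent.S18738.result

instance hasTerminal : HasTerminal (ModPair.Pair.admBlowup.{u}).Localization := by
  let L := (ModPair.Pair.admBlowup.{u}).Q
  have := Localization.essSurj L (ModPair.Pair.admBlowup.{u})
  have key : ∀ E, ∀ a b : E ⟶ L.obj finalPair, a = b := by
    intro E a b
    let e := L.objObjPreimageIso E
    rw [← cancel_epi e.hom]
    obtain ⟨Z, s, hs, a', b', ha, hb⟩ := CatFrac.exists_roof₂ ModPair.Pair.admBlowup L (e.hom ≫ a) (e.hom ≫ b)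
    have := CatFrac.isIso_map ModPair.Pair.admBlowup L hs
    rw [← cancel_epi (L.map s), ha, hb, eq_toFinal a', eq_toFinal b']
  have : ∀ E, Unique (E ⟶ L.obj finalPair) := fun E =>
    { default := (L.objObjPreimageIso E).inv ≫ L.map (toFinal _), uniq := fun a => key E a _ }
  exact hasTerminal_of_unique (L.obj finalPair)

lemma hasPullback_map {P T X : ModPair.Pair.{u}} (g : T ⟶ P) (f : X ⟶ P) :
    HasPullback ((ModPair.Pair.admBlowup.{u}).Q.map g) ((ModPair.Pair.admBlowup.{u}).Q.map f) := by
  obtain ⟨Y, π, K, hY⟩ := Groth.Agent.S18750.result P.mod T.mod X.mod P.isEffCartier T.isEffCartier X.isEffCartier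
    f.hom f.cond g.hom g.cond
  obtain ⟨hK, hX, hT, -⟩ := Groth.Agent.S18749.result P.mod T.mod X.mod P.isEffCartier T.isEffCartier X.isEffCartier
    f.hom f.cond g.hom g.cond π K hY
  exact (Groth.Agent.S18752.result P T X f g π K hY hK hX hT).hasPullback

lemma exists_iso_map {E E' : (ModPair.Pair.admBlowup.{u}).Localization} (a : E ⟶ E') (P : ModPair.Pair.{u})
    (e' : (ModPair.Pair.admBlowup.{u}).Q.obj P ≅ E') :
    ∃ (Q : ModPair.Pair.{u}) (e : (ModPair.Pair.admBlowup.{u}).Q.obj Q ≅ E) (f : Q ⟶ P),
      e.hom ≫ a = (ModPair.Pair.admBlowup.{u}).Q.map f ≫ e'.hom := by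
  let L := (ModPair.Pair.admBlowup.{u}).Q
  have := Localization.essSurj L (ModPair.Pair.admBlowup.{u})
  let e := L.objObjPreimageIso E
  obtain ⟨Q, s, hs, f, hf⟩ := CatFrac.exists_roof ModPair.Pair.admBlowup L (e.hom ≫ a ≫ e'.inv)
  have := CatFrac.isIso_map ModPair.Pair.admBlowup L hs
  refine ⟨Q, asIso (L.map s) ≪≫ e, f, ?_⟩
  rw [← hf]
  simp [L, e]

lemma hasPullback_loc {E₁ E₂ E₀ : (ModPair.Pair.admBlowup.{u}).Localization} (a : E₁ ⟶ E₀) (b : E₂ ⟶ E₀) :
    HasPullback a b := by
  let L := (ModPair.Pair.admBlowup.{u}).Q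
  have := Localization.essSurj L (ModPair.Pair.admBlowup.{u})
  let e₀ := L.objObjPreimageIso E₀
  obtain ⟨T, eT, g, hg⟩ := exists_iso_map a _ e₀
  obtain ⟨X, eX, f, hf⟩ := exists_iso_map b _ e₀
  have : HasLimit (cospan (L.map g) (L.map f)) := hasPullback_map g f
  exact hasLimit_of_iso (cospanExt eT eX e₀ hg hf)

/-- The localization of the category of modulus pairs and ambient morphisms at the class of abstract
admissible blow-ups has all finite limits. -/
theorem result :
    HasFiniteLimits (ModPair.Pair.admBlowup.{u}).Localization := by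
  have : HasPullbacks (ModPair.Pair.admBlowup.{u}).Localization :=
    @hasPullbacks_of_hasLimit_cospan _ _ (fun {X Y Z} {f} {g} => hasPullback_loc f g)
  exact hasFiniteLimits_of_hasTerminal_and_pullbacks

end Groth.Agent.S18739
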