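import Groth.Statements.S18741
import Groth.Agent.Lib.CatFrac.Pullback
import Mathlib.CategoryTheory.Comma.Over.Basic

set_option autoImplicit false
universe v₁ v₂ v₃ u₁ u₂ u₃
open CategoryTheory
open ModPair

namespace Groth.Agent.S18741

open Groth.Agent

variable {C : Type u₁} [Category.{v₁} C] (W : MorphismProperty C) [W.HasRightCalculusOfFractions] (S : C)

instance overRightCalculus : (W.inverseImage (Over.forget S)).HasRightCalculusOfFractions where
  id_mem X := W.id_mem X.left
  comp_mem f g hf hg := W.comp_mem f.left g.left hf hg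
  exists_rightFraction X Y φ := by
    obtain ⟨ψ, hψ⟩ := (MorphismProperty.LeftFraction.mk φ.f.left φ.s.left φ.hs :
      W.LeftFraction X.left Y.left).exists_rightFraction
    dsimp at hψ
    let s : Over.mk (ψ.s ≫ X.hom) ⟶ X := Over.homMk ψ.s
    let f : Over.mk (ψ.s ≫ X.hom) ⟶ Y := Over.homMk ψ.f (by
      show ψ.f ≫ Y.hom = ψ.s ≫ X.hom
      rw [← Over.w φ.s, ← Over.w φ.f, reassoc_of% hψ])
    exact ⟨MorphismProperty.RightFraction.mk s ψ.hs f, Over.OverMorphism.ext hψ⟩
  ext X Y Y' f₁ f₂ s hs h := by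
    obtain ⟨X', t, ht, htf⟩ := MorphismProperty.HasRightCalculusOfFractions.ext f₁.left f₂.left s.left hs
      (congrArg CommaMorphism.left h)
    exact ⟨Over.mk (t ≫ X.hom), Over.homMk t, ht, Over.OverMorphism.ext htf⟩

variable {D : Type u₂} [Category.{v₂} D] (L : C ⥤ D) [L.IsLocalization W]

include W in
lemma exists_map_post {X Y : Over S} (v : (Over.post L).obj X ⟶ (Over.post L).obj Y) :
    ∃ (X' : Over S) (s : X' ⟶ X) (_ : W s.left) (f : X' ⟶ Y), (Over.post L).map s ≫ v = (Over.post L).map f := by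
  let w : L.obj X.left ⟶ L.obj Y.left := v.left
  obtain ⟨A, s, hs, f, hf⟩ := CatFrac.exists_roof W L w
  have hw : w ≫ L.map Y.hom = L.map X.hom := Over.w v
  have h : L.map (f ≫ Y.hom) = L.map (s ≫ X.hom) := by
    rw [L.map_comp, ← hf, Category.assoc, hw, L.map_comp]
  obtain ⟨B, t, ht, htf⟩ := (MorphismProperty.map_eq_iff_precomp L W _ _).mp h
  refine ⟨Over.mk ((t ≫ s) ≫ X.hom), Over.homMk (t ≫ s), W.comp_mem _ _ ht hs,
    Over.homMk (t ≫ f) (by simpa using htf), Over.OverMorphism.ext ?_⟩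
  show L.map (t ≫ s) ≫ w = L.map (t ≫ f)
  rw [L.map_comp, Category.assoc, hf, L.map_comp]

variable {E : Type u₃} [Category.{v₃} E] (L' : Over S ⥤ E) [L'.IsLocalization (W.inverseImage (Over.forget S))]
  (Φ : E ⥤ Over (L.obj S)) (e : L' ⋙ Φ ≅ Over.post L)

omit [W.HasRightCalculusOfFractions] in
include e in
lemma map_eq {X Y : Over S} (f : X ⟶ Y) : Φ.map (L'.map f) = e.hom.app X ≫ (Over.post L).map f ≫ e.inv.app Y := by
  rw [← NatTrans.naturality_assoc e.hom f, Iso.hom_inv_id_app, Category.comp_id]; rfl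

include W e in
lemma essSurj : Φ.EssSurj := by
  refine ⟨fun A => ?_⟩
  have := Localization.essSurj L W
  let i := L.objObjPreimageIso A.left
  obtain ⟨Z, s, hs, f, hf⟩ := CatFrac.exists_roof W L (i.hom ≫ A.hom)
  have := CatFrac.isIso_map W L hs
  refine ⟨L'.obj (Over.mk f), ⟨e.app (Over.mk f) ≪≫ Over.isoMk (@asIso _ _ _ _ (L.map s) this ≪≫ i) ?_⟩⟩
  show (L.map s ≫ i.hom) ≫ A.hom = L.map f
  rw [Category.assoc, hf]

omit [W.HasRightCalculusOfFractions] in
lemma aux {A₀ A B P Q R : D} {eX : A₀ ⟶ A} {ps : A ⟶ B} {ei : B ⟶ P} {X : P ⟶ Q} {eh : Q ⟶ R} {eb : R ⟶ Q}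
    {pf : A ⟶ R} (hf : ps ≫ ei ≫ X ≫ eh = pf) (h : eh ≫ eb = 𝟙 Q) :
    (eX ≫ ps ≫ ei) ≫ X = eX ≫ pf ≫ eb := by
  subst hf
  simp [h]

include W e in
lemma full : Φ.Full := by
  constructor
  intro a b u
  have := Localization.essSurj L' (W.inverseImage (Over.forget S))
  let ia := L'.objObjPreimageIso a
  let ib := L'.objObjPreimageIso b
  obtain ⟨X', s, hs, f, hf⟩ := exists_map_post W S L
    (e.inv.app (L'.objPreimage a) ≫ Φ.map ia.hom ≫ u ≫ Φ.map ib.inv ≫ e.hom.app (L'.objPreimage b))
  have := CatFrac.isIso_map (W.inverseImage (Over.forget S)) L' (s := s) hs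
  refine ⟨ia.inv ≫ inv (L'.map s) ≫ L'.map f ≫ ib.hom, ?_⟩
  set R := ia.inv ≫ inv (L'.map s) ≫ L'.map f ≫ ib.hom
  have k : L'.map s ≫ ia.hom ≫ R ≫ ib.inv = L'.map f := by simp [R]
  have hu : Φ.map (L'.map s) ≫ Φ.map ia.hom ≫ u ≫ Φ.map ib.inv = Φ.map (L'.map f) := by
    rw [map_eq S L L' Φ e f, map_eq S L L' Φ e s]
    exact aux (X := Φ.map ia.hom ≫ u ≫ Φ.map ib.inv) (by simpa only [Category.assoc] using hf)
      (e.hom_inv_id_app _)
  rw [← cancel_epi (Φ.map ia.hom), ← cancel_epi (Φ.map (L'.map s)), ← cancel_mono (Φ.map ib.inv)]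
  simp only [Category.assoc]
  rw [hu, ← k]
  simp only [Φ.map_comp]

include W e in
lemma faithful : Φ.Faithful := by
  constructor
  intro a b u v h
  have := Localization.essSurj L' (W.inverseImage (Over.forget S))
  let ia := L'.objObjPreimageIso a
  let ib := L'.objObjPreimageIso b
  obtain ⟨X', s, hs, u', v', hu, hv⟩ :=
    CatFrac.exists_roof₂ (W.inverseImage (Over.forget S)) L' (ia.hom ≫ u ≫ ib.inv) (ia.hom ≫ v ≫ ib.inv)
  have := CatFrac.isIso_map (W.inverseImage (Over.forget S)) L' (s := s) hs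
  rw [← cancel_epi ia.hom, ← cancel_mono ib.inv, ← cancel_epi (L'.map s), Category.assoc, Category.assoc, hu, hv]
  have h1 : Φ.map (L'.map u') = Φ.map (L'.map v') := by rw [← hu, ← hv]; simp only [Functor.map_comp, h]
  rw [map_eq S L L' Φ e, map_eq S L L' Φ e, cancel_epi, cancel_mono] at h1
  obtain ⟨Z, t, ht, htu⟩ := (MorphismProperty.map_eq_iff_precomp L W _ _).mp (congrArg CommaMorphism.left h1)
  exact (MorphismProperty.map_eq_iff_precomp L' (W.inverseImage (Over.forget S)) _ _).mpr
    ⟨Over.mk (t ≫ X'.hom), Over.homMk t, ht, Over.OverMorphism.ext htu⟩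

/-- Let C be a category, W a class of morphisms of C admitting a calculus of right fractions, and S an
object of C; let W_S be the class of morphisms of the slice category over S whose underlying
morphism lies in W. Then the canonical functor from the localization of the slice category C/S at
W_S to the slice category over S of the localization of C at W is an equivalence: for every
localization functor L : C ⥤ D at W, every localization functor L' : C/S ⥤ E at W_S, and every
functor Φ : E ⥤ D/L(S) through which the functor C/S ⥤ D/L(S) induced by L factors up to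
isomorphism, Φ is an equivalence of categories. -/
theorem result {C : Type u₁}
    [Category.{v₁} C] (W : MorphismProperty C) [W.HasRightCalculusOfFractions] (S : C)
    {D : Type u₂} [Category.{v₂} D] (L : C ⥤ D) [L.IsLocalization W]
    {E : Type u₃} [Category.{v₃} E] (L' : Over S ⥤ E)
    [L'.IsLocalization (W.inverseImage (Over.forget S))]
    (Φ : E ⥤ Over (L.obj S)) (e : L' ⋙ Φ ≅ Over.post L) : Φ.IsEquivalence := by
  have := essSurj W S L L' Φ e
  have := full W S L L' Φ e
  have := faithful W S L L' Φ e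
  exact {}

end Groth.Agent.S18741
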