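import Groth.Statements.S18742
import Groth.Agent.Lib.Descend19.HomDominant
import Mathlib.CategoryTheory.Limits.Constructions.Over.Connected

set_option autoImplicit false
universe u
open CategoryTheory CategoryTheory.Limits AlgebraicGeometry TopologicalSpace
open ModPair

namespace Groth.Agent.S18742

/-- Let S be a quasi-compact quasi-separated scheme, (X_i) a cofiltered system of S-schemes with affine,
scheme-theoretically dominant transition morphisms and all X_i quasi-compact and quasi-separated, X
its limit in the category of S-schemes, and Y ⟶ S locally of finite type with Y quasi-compact and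
quasi-separated. Then the canonical map from the colimit of the sets Hom_S(X_i, Y) to Hom_S(X, Y) is
bijective: every S-morphism X ⟶ Y factors through the projection to some X_i, and two S-morphisms
X_i ⟶ Y with the same composite X ⟶ Y become equal after composition with some transition morphism
X_j ⟶ X_i. No finite-presentation hypothesis on Y is assumed. -/
theorem result {S : Scheme.{u}} [CompactSpace S]
    [QuasiSeparatedSpace S] {I : Type u} [SmallCategory I] [IsCofiltered I] (D : I ⥤ Over S)
    (c : Cone D) (hc : IsLimit c)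
    [∀ (i j : I) (t : i ⟶ j), IsAffineHom (D.map t).left]
    [∀ (i j : I) (t : i ⟶ j), IsSchemeTheoreticallyDominant (D.map t).left]
    [∀ i, CompactSpace (D.obj i).left] [∀ i, QuasiSeparatedSpace (D.obj i).left]
    (Y : Over S) [CompactSpace Y.left] [QuasiSeparatedSpace Y.left] [LocallyOfFiniteType Y.hom] :
    (∀ φ : c.pt ⟶ Y, ∃ (i : I) (φi : D.obj i ⟶ Y), c.π.app i ≫ φi = φ) ∧
      ∀ (i : I) (φ ψ : D.obj i ⟶ Y), c.π.app i ≫ φ = c.π.app i ≫ ψ →
        ∃ (j : I) (t : j ⟶ i), D.map t ≫ φ = D.map t ≫ ψ := by
  haveI := IsCofiltered.isConnected I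
  let D' : I ⥤ Scheme.{u} := D ⋙ Over.forget S
  let c' : Cone D' := (Over.forget S).mapCone c
  have hc' : IsLimit c' := isLimitOfPreserves (Over.forget S) hc
  let t : D' ⟶ (Functor.const I).obj S :=
    { app := fun i => (D.obj i).hom, naturality := fun i j a => (Over.w (D.map a)).trans (Category.comp_id _).symm }
  haveI : ∀ {i j : I} (a : i ⟶ j), IsAffineHom (D'.map a) := fun {i j} a =>
    inferInstanceAs (IsAffineHom (D.map a).left)
  haveI : ∀ {i j : I} (a : i ⟶ j), IsSchemeTheoreticallyDominant (D'.map a) := fun {i j} a =>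
    inferInstanceAs (IsSchemeTheoreticallyDominant (D.map a).left)
  haveI : ∀ i, CompactSpace ↥(D'.obj i) := fun i => inferInstanceAs (CompactSpace ↥(D.obj i).left)
  haveI : ∀ i, QuasiSeparatedSpace ↥(D'.obj i) := fun i =>
    inferInstanceAs (QuasiSeparatedSpace ↥(D.obj i).left)
  refine ⟨fun φ => ?_, fun i φ ψ h => ?_⟩
  · obtain ⟨i, g, hg, hg'⟩ := Groth.Agent.Descend19.exists_π_app_comp_eq_of_dominant D' t Y.hom c' hc'
      φ.left (by
        ext i
        show (c.π.app i).left ≫ (D.obj i).hom = φ.left ≫ Y.hom
        rw [Over.w (c.π.app i), Over.w φ]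
        rfl)
    exact ⟨i, Over.homMk g hg', Over.OverMorphism.ext hg⟩
  · obtain ⟨j, a, ha⟩ := Scheme.exists_hom_comp_eq_comp_of_locallyOfFiniteType D' t Y.hom c' hc'
      φ.left ψ.left (Over.w φ).symm (Over.w ψ).symm (congrArg (fun m => m.left) h)
    exact ⟨j, a, Over.OverMorphism.ext ha⟩

end Groth.Agent.S18742
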