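import Groth.Statements.S18747
import Groth.Agent.Lib.ModPair.SigmaIdeal
import Mathlib.CategoryTheory.Limits.Preserves.Shapes.Products

set_option autoImplicit false
universe u
open CategoryTheory CategoryTheory.Limits AlgebraicGeometry TopologicalSpace
open ModPair

namespace Groth.Agent.S18747

open Groth.Agent

variable {σ : Type u} (P : σ → ModPair.Pair.{u})

/-- The disjoint union of modulus pairs. -/
noncomputable def sigmaPair : ModPair.Pair.{u} :=
  ⟨∐ fun i => (P i).total, SigmaIdeal.sigmaIdeal _ fun i => (P i).mod,
    SigmaIdeal.isEffCartierIdeal _ _ fun i => (P i).isEffCartier⟩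

noncomputable def inj (i : σ) : P i ⟶ sigmaPair P :=
  ⟨Sigma.ι (fun i => (P i).total) i,
    show (P i).mod ≤ (SigmaIdeal.sigmaIdeal _ fun i => (P i).mod).comap (Sigma.ι (fun i => (P i).total) i) from
      (SigmaIdeal.comap_ι (fun i => (P i).total) (fun i => (P i).mod) i).ge⟩

lemma cond_desc {Q : ModPair.Pair.{u}} (h : ∀ i, P i ⟶ Q) :
    SigmaIdeal.sigmaIdeal _ (fun i => (P i).mod) ≤ Q.mod.comap (Sigma.desc fun i => (h i).hom) :=
  SigmaIdeal.le_of_comap_ι_le fun i => by
    rw [SigmaIdeal.comap_ι, ← Scheme.IdealSheafData.comap_comp, Sigma.ι_desc]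
    exact (h i).cond

noncomputable def isColimitSigmaPair : IsColimit (Cofan.mk (sigmaPair P) (inj P)) :=
  Cofan.IsColimit.mk _
    (fun t => ⟨Sigma.desc fun i => (t.inj i).hom, cond_desc P t.inj⟩)
    (fun t i => ModPair.Pair.Hom.ext (by
      show Sigma.ι (fun i => (P i).total) i ≫ Sigma.desc (fun i => (t.inj i).hom) = (t.inj i).hom
      rw [Sigma.ι_desc]))
    (fun t m hm => ModPair.Pair.Hom.ext ((Sigma.hom_ext _ _ fun i => by
      have h : Sigma.ι (fun i => (P i).total) i ≫ m.hom = (t.inj i).hom := congrArg ModPair.Pair.Hom.hom (hm i)
      rw [Sigma.ι_desc]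
      exact h : m.hom = Sigma.desc fun i => (t.inj i).hom)))

noncomputable def isColimitForget : IsColimit (ModPair.Pair.forget.mapCocone (Cofan.mk (sigmaPair P) (inj P))) :=
  (Cofan.isColimitMapCoconeEquiv ModPair.Pair.forget P (Cofan.mk (sigmaPair P) (inj P))).symm (coproductIsCoproduct fun i => (P i).total)

/-- The category of modulus pairs and ambient morphisms admits coproducts (indexed by any type in the
universe of the schemes involved), and the total-space functor to schemes preserves them: the
coproduct of a family (X_i, I_i) is the disjoint union of the X_i with the modulus restricting to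
I_i on each summand. (The published statement adds that the total-space functor detects coproducts;
read as reflection of coproducts this fails, since the identity of a scheme X is an ambient morphism
from (X, I) to (X, unit ideal) whose image is trivially a coproduct of the one-member family while
(X, unit ideal) is not the coproduct of (X, I) when I is not the unit ideal; only existence and
preservation are stated.) -/
theorem result (σ : Type u) :
    HasColimitsOfShape (Discrete σ) ModPair.Pair.{u} ∧
      PreservesColimitsOfShape (Discrete σ) ModPair.Pair.forget.{u} := by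
  have key : ∀ F : Discrete σ ⥤ ModPair.Pair.{u}, HasColimit F ∧ PreservesColimit F ModPair.Pair.forget.{u} := by
    intro F
    let e := (Discrete.natIsoFunctor (F := F)).symm
    have : HasColimit (Discrete.functor (F.obj ∘ Discrete.mk)) := ⟨⟨⟨_, isColimitSigmaPair _⟩⟩⟩
    have : PreservesColimit (Discrete.functor (F.obj ∘ Discrete.mk)) ModPair.Pair.forget.{u} :=
      preservesColimit_of_preserves_colimit_cocone (isColimitSigmaPair _) (isColimitForget _)
    exact ⟨hasColimit_of_iso e.symm, preservesColimit_of_iso_diagram _ e⟩
  exact ⟨⟨fun F => (key F).1⟩, ⟨fun {F} => (key F).2⟩⟩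

end Groth.Agent.S18747
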