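import Groth.Statements.S18748
import Groth.Agent.S18738
import Groth.Agent.S18747
import Groth.Agent.Lib.CatFrac.Coproduct
import Mathlib.CategoryTheory.Limits.Shapes.BinaryProducts

set_option autoImplicit false
universe u
open CategoryTheory CategoryTheory.Limits AlgebraicGeometry TopologicalSpace
open ModPair

namespace Groth.Agent.S18748

open Groth.Agent

variable {σ : Type u}

lemma exists_sigma_eq {X : σ → Scheme.{u}} (x : ↥(∐ X)) : ∃ i y, Sigma.ι X i y = x := by
  obtain ⟨⟨j, y⟩, rfl⟩ := (sigmaMk X).surjective x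
  exact ⟨j, y, (sigmaMk_mk X j y).symm⟩

lemma eq_of_sigma_eq {X : σ → Scheme.{u}} {i j : σ} {a : X i} {b : X j}
    (h : Sigma.ι X i a = Sigma.ι X j b) : i = j := by
  by_contra hij
  exact Set.disjoint_left.mp (TopologicalSpace.Opens.coe_disjoint.mpr
    (disjoint_opensRange_sigmaι X i j hij)) ⟨a, rfl⟩ ⟨b, h.symm⟩

variable {X X' : σ → Scheme.{u}} (f : ∀ i, X' i ⟶ X i)

lemma isPullback_sigmaMap (i : σ) :
    IsPullback (f i) (Sigma.ι X' i) (Sigma.ι X i) (Limits.Sigma.map f) := by
  refine IsOpenImmersion.isPullback _ _ _ _ (by simp [Limits.Sigma.map]) ?_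
  have h : ∀ j y, Limits.Sigma.map f (Sigma.ι X' j y) = Sigma.ι X j (f j y) := fun j y => by
    rw [← Scheme.Hom.comp_apply, ← Scheme.Hom.comp_apply]; simp [Limits.Sigma.map]
  ext x
  obtain ⟨j, y, rfl⟩ := exists_sigma_eq x
  constructor
  · rintro ⟨z, hz⟩
    rw [h] at hz
    obtain rfl := eq_of_sigma_eq hz
    exact ⟨y, rfl⟩
  · rintro ⟨z, hz⟩
    obtain rfl := eq_of_sigma_eq hz
    show Limits.Sigma.map f _ ∈ Set.range _
    exact ⟨_, (h _ y).symm⟩

lemma isProper_sigmaMap (h : ∀ i, IsProper (f i)) : IsProper (Limits.Sigma.map f) := by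
  refine IsZariskiLocalAtTarget.of_openCover (P := @IsProper) (sigmaOpenCover X) fun i => ?_
  show IsProper (pullback.snd (Limits.Sigma.map f) (Sigma.ι X i))
  rw [← IsPullback.isoPullback_inv_snd (isPullback_sigmaMap f i).flip]
  have := h i
  infer_instance

lemma isIso_sigmaMap_restrict (U : (∐ X).Opens) (W : ∀ i, (X i).Opens) (hW : ∀ i, Sigma.ι X i ⁻¹ᵁ U = W i)
    (h : ∀ i, IsIso (f i ∣_ W i)) : IsIso (Limits.Sigma.map f ∣_ U) := by
  set s := Limits.Sigma.map f
  refine IsZariskiLocalAtTarget.of_forall_exists_morphismRestrict (P := MorphismProperty.isomorphisms Scheme)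
    fun x => ?_
  obtain ⟨i, y, hy⟩ := exists_sigma_eq x.1
  have hr : Set.range ((W i).ι ≫ Sigma.ι X i) ⊆ Set.range U.ι := by
    rintro _ ⟨z, rfl⟩
    rw [Scheme.Opens.range_ι]
    exact (hW i).ge z.2
  let j := IsOpenImmersion.lift U.ι ((W i).ι ≫ Sigma.ι X i) hr
  have : IsOpenImmersion (j ≫ U.ι) := by rw [IsOpenImmersion.lift_fac]; infer_instance
  have : IsOpenImmersion j := IsOpenImmersion.of_comp j U.ι
  refine ⟨j.opensRange, ⟨⟨y, (hW i).le (show Sigma.ι X i y ∈ U from hy.symm ▸ x.2)⟩, U.ι.isOpenEmbedding.injective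
    (by rw [← Scheme.Hom.comp_apply, IsOpenImmersion.lift_fac]; exact hy)⟩, ?_⟩
  rw [(MorphismProperty.isomorphisms Scheme).arrow_mk_iso_iff (morphismRestrictOpensRange (s ∣_ U) j)]
  have hbig := (isPullback_morphismRestrict (f i) (W i)).flip.paste_horiz (isPullback_sigmaMap f i).flip
  rw [← IsOpenImmersion.lift_fac U.ι ((W i).ι ≫ Sigma.ι X i) hr] at hbig
  have hsq := (isPullback_morphismRestrict s U).flip
  have hl : ((f i ⁻¹ᵁ W i).ι ≫ Sigma.ι X' i) ≫ s = ((f i ∣_ W i) ≫ j) ≫ U.ι := by
    rw [Category.assoc (f i ∣_ W i)]; exact hbig.w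
  have key : IsPullback (hsq.lift _ _ hl) (f i ∣_ W i) (s ∣_ U) j :=
    IsPullback.of_right (by rw [IsPullback.lift_fst]; exact hbig) (IsPullback.lift_snd _ _ _ _) hsq
  show IsIso (pullback.snd (s ∣_ U) j)
  rw [← IsPullback.isoPullback_inv_snd key]
  have := h i
  infer_instance

lemma admBlowup_sigma (P P' : σ → ModPair.Pair.{u}) (s : ∀ i, P' i ⟶ P i)
    (hs : ∀ i, ModPair.Pair.admBlowup (s i)) :
    ModPair.Pair.admBlowup (Cofan.IsColimit.desc (S18747.isColimitSigmaPair P') fun i => s i ≫ S18747.inj P i) := by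
  set d := Cofan.IsColimit.desc (S18747.isColimitSigmaPair P') fun i => s i ≫ S18747.inj P i
  let d' : (∐ fun i => (P' i).total) ⟶ ∐ fun i => (P i).total := d.hom
  have hd' : ∀ i, Sigma.ι (fun i => (P' i).total) i ≫ d' = (s i).hom ≫ Sigma.ι (fun i => (P i).total) i :=
    fun i => congrArg ModPair.Pair.Hom.hom
      (Cofan.IsColimit.fac (S18747.isColimitSigmaPair P') (fun i => s i ≫ S18747.inj P i) i)
  have hd : d.hom = Limits.Sigma.map fun i => (s i).hom := by
    refine Sigma.hom_ext _ _ fun i => (hd' i).trans ?_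
    exact (isPullback_sigmaMap (fun i => (s i).hom) i).w
  have hI := fun (Q : σ → ModPair.Pair.{u}) i =>
    SigmaIdeal.comap_ι (fun i => (Q i).total) (fun i => (Q i).mod) i
  refine ⟨?_, ?_, ?_⟩
  · show SigmaIdeal.sigmaIdeal (fun i => (P' i).total) (fun i => (P' i).mod) =
      (SigmaIdeal.sigmaIdeal (fun i => (P i).total) fun i => (P i).mod).comap d'
    refine BlowUpExist.eq_of_cover (fun i => Sigma.ι (fun i => (P' i).total) i) exists_sigma_eq fun i => ?_
    rw [hI, ← Scheme.IdealSheafData.comap_comp, hd', Scheme.IdealSheafData.comap_comp, hI]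
    exact (hs i).1
  · rw [hd]; exact isProper_sigmaMap _ fun i => (hs i).2.1
  · rw [hd]
    refine isIso_sigmaMap_restrict _ _ (fun i => ModPair.interior (P i).mod) (fun i => ?_) fun i => (hs i).2.2
    ext y
    show Sigma.ι (fun i => (P i).total) i y ∉ (SigmaIdeal.sigmaIdeal _ fun i => (P i).mod).support ↔ y ∉ (P i).mod.support
    rw [← hI P i, Scheme.IdealSheafData.support_comap]
    exact Iff.rfl

theorem sigma_stable (P P' : σ → ModPair.Pair.{u}) (c : Cofan P) (hc : IsColimit c) (s : ∀ i, P' i ⟶ P i)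
    (hs : ∀ i, ModPair.Pair.admBlowup (s i)) :
    ∃ (c' : Cofan P') (hc' : IsColimit c'),
      ModPair.Pair.admBlowup (Cofan.IsColimit.desc hc' fun i => s i ≫ c.inj i) := by
  refine ⟨_, S18747.isColimitSigmaPair P', ?_⟩
  let e := (S18747.isColimitSigmaPair P).coconePointUniqueUpToIso hc
  have he : (Cofan.IsColimit.desc (S18747.isColimitSigmaPair P') fun i => s i ≫ c.inj i) =
      (Cofan.IsColimit.desc (S18747.isColimitSigmaPair P') fun i => s i ≫ S18747.inj P i) ≫ e.hom := by
    refine Cofan.IsColimit.hom_ext (S18747.isColimitSigmaPair P') _ _ fun i => ?_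
    rw [Cofan.IsColimit.fac, Cofan.IsColimit.fac_assoc, Category.assoc]
    congr 1
    exact ((S18747.isColimitSigmaPair P).comp_coconePointUniqueUpToIso_hom hc ⟨i⟩).symm
  rw [he]
  refine S18738.admBlowup_comp (admBlowup_sigma P P' s hs) ?_
  have hiso : IsIso e.hom.hom := ⟨e.inv.hom, congrArg ModPair.Pair.Hom.hom e.hom_inv_id,
    congrArg ModPair.Pair.Hom.hom e.inv_hom_id⟩
  refine ⟨le_antisymm e.hom.cond ?_, show IsProper e.hom.hom from inferInstance,
    show IsIso (e.hom.hom ∣_ _) from inferInstance⟩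
  have h1 := Scheme.IdealSheafData.comap_mono e.hom.hom e.inv.cond
  dsimp only at h1
  rw [← Scheme.IdealSheafData.comap_comp, show e.hom.hom ≫ e.inv.hom = _ from congrArg ModPair.Pair.Hom.hom e.hom_inv_id] at h1
  exact h1.trans (le_of_eq (Scheme.IdealSheafData.comap_id _))

/-- The localization of the category of modulus pairs and ambient morphisms at the class of abstract
admissible blow-ups has binary coproducts, and the localization functor carries the coproduct of two
modulus pairs (the disjoint union of the total spaces with the disjoint union of the moduli) to a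
coproduct. (The source also states that the interior functor detects these coproducts; that part is
not included.) -/
theorem result :
    HasBinaryCoproducts (ModPair.Pair.admBlowup.{u}).Localization ∧
      PreservesColimitsOfShape (Discrete WalkingPair) (ModPair.Pair.admBlowup.{u}).Q := by
  have := Groth.Agent.S18738.result.{u}
  let W := ModPair.Pair.admBlowup.{u}
  have := Localization.essSurj W.Q W
  let σ := ULift.{u} WalkingPair
  have hpres : ∀ F : Discrete σ ⥤ ModPair.Pair.{u}, PreservesColimit F W.Q := by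
    intro F
    let e := (Discrete.natIsoFunctor (F := F)).symm
    have : PreservesColimit (Discrete.functor (F.obj ∘ Discrete.mk)) W.Q :=
      preservesColimit_of_preserves_colimit_cocone (S18747.isColimitSigmaPair _)
        ((Cofan.isColimitMapCoconeEquiv W.Q _ _).symm
          (CatFrac.isColimit_map_cofan W W.Q sigma_stable _ (S18747.isColimitSigmaPair _)).some)
    exact preservesColimit_of_iso_diagram _ e
  have hP : PreservesColimitsOfShape (Discrete σ) W.Q := ⟨fun {F} => hpres F⟩
  have hC : HasColimitsOfShape (Discrete σ) ModPair.Pair.{u} := (Groth.Agent.S18747.result σ).1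
  have hD : HasColimitsOfShape (Discrete σ) W.Localization := ⟨fun G => by
    let P : σ → ModPair.Pair.{u} := fun i => W.Q.objPreimage (G.obj ⟨i⟩)
    have : PreservesColimit (Discrete.functor P) W.Q := hpres _
    have : HasColimit (Discrete.functor P ⋙ W.Q) := inferInstance
    exact hasColimit_of_iso (F := Discrete.functor P ⋙ W.Q)
      (Discrete.natIso fun i => (W.Q.objObjPreimageIso (G.obj i)).symm)⟩
  let q : Discrete σ ≌ Discrete WalkingPair := Discrete.equivalence Equiv.ulift
  exact ⟨hasColimitsOfShape_of_equivalence q, preservesColimitsOfShape_of_equiv q W.Q⟩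

end Groth.Agent.S18748
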