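import Groth.Statements.S18753
import Groth.Agent.Lib.SemiVal19.Basic
import Groth.Agent.Lib.EffCartier.Dense
import Groth.Agent.Lib.EffCartier.Comap
import Mathlib.AlgebraicGeometry.ZariskisMainTheorem

set_option autoImplicit false
universe u
open CategoryTheory CategoryTheory.Limits AlgebraicGeometry TopologicalSpace
open ModPair

namespace Groth.Agent.S18753

open Scheme in
/-- A generator of an effective Cartier ideal on an affine open is a nonzerodivisor. -/
private lemma mem_nonZeroDivisors_of_span {X : Scheme.{u}} {I : X.IdealSheafData}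
    (hI : BlowUp.IsEffCartierIdeal I) (W : X.affineOpens) (c : Γ(X, W.1)) (h : I.ideal W = Ideal.span {c}) :
    c ∈ nonZeroDivisors Γ(X, W.1) := by
  rw [mem_nonZeroDivisors_iff_right]
  intro z hz
  have hloc : ∀ x : W.1, ∃ U : X.affineOpens, x.1 ∈ U.1 ∧ ∃ h : U.1 ≤ W.1, X.presheaf.map (homOfLE h).op z = 0 := by
    intro x
    obtain ⟨U, hxU, hUW, g, hg⟩ := EffCartier.exists_isEqn hI x.2
    refine ⟨U, hxU, hUW, ?_⟩
    have hmap : (Ideal.span {c}).map (X.presheaf.map (homOfLE hUW).op).hom = Ideal.span {g} := by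
      rw [← h, ← hg.ideal_eq]
      exact I.map_ideal hUW
    rw [Ideal.map_span, Set.image_singleton] at hmap
    obtain ⟨b, hb⟩ := Ideal.mem_span_singleton'.1 (hmap.symm ▸ Ideal.mem_span_singleton_self g :
      g ∈ Ideal.span {(X.presheaf.map (homOfLE hUW).op).hom c})
    refine (mem_nonZeroDivisors_iff_right.1 hg.mem) _ ?_
    rw [← hb, mul_left_comm, ← map_mul, hz, map_zero, mul_zero]
  choose U hxU hUW hz0 using hloc
  exact X.sheaf.eq_of_locally_eq' (fun x => (U x).1) W.1 (fun x => homOfLE (hUW x))
    (fun y hy => TopologicalSpace.Opens.mem_iSup.2 ⟨⟨y, hy⟩, hxU ⟨y, hy⟩⟩) z 0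
    fun x => by rw [map_zero]; exact hz0 x

private lemma nzd_of_comap {A C : CommRingCat.{u}} (φ : A ⟶ C) (f : A)
    (h : BlowUp.IsEffCartierIdeal ((Spec.map (CommRingCat.ofHom (Ideal.Quotient.mk (Ideal.span {f})))).ker.comap (Spec.map φ))) :
    φ f ∈ nonZeroDivisors C := by
  let q := Spec.map (CommRingCat.ofHom (Ideal.Quotient.mk (Ideal.span {f})))
  have hker : q.ker.ideal ⟨⊤, isAffineOpen_top _⟩ = Ideal.span {(Scheme.ΓSpecIso A).inv f} := by
    rw [Scheme.Hom.ker_apply]
    have e : Ideal.span {(Scheme.ΓSpecIso A).inv f} = (Ideal.span {f}).comap (Scheme.ΓSpecIso A).hom.hom := by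
      have h1 : Ideal.span {(Scheme.ΓSpecIso A).inv f} = (Ideal.span {f}).map (Scheme.ΓSpecIso A).inv.hom := by
        rw [Ideal.map_span, Set.image_singleton]
      rw [h1]
      exact Ideal.map_comap_of_equiv (Scheme.ΓSpecIso A).commRingCatIsoToRingEquiv.symm
    rw [e]
    ext x
    rw [Ideal.mem_comap, RingHom.mem_ker]
    have hnat := Scheme.ΓSpecIso_naturality (CommRingCat.ofHom (Ideal.Quotient.mk (Ideal.span {f})))
    have hnx := congrArg (fun m => CommRingCat.Hom.hom m x) hnat
    simp only [CommRingCat.comp_apply, CommRingCat.hom_ofHom] at hnx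
    constructor
    · intro hx
      rw [← Ideal.Quotient.eq_zero_iff_mem]
      refine hnx.symm.trans ?_
      show (Scheme.ΓSpecIso _).hom (q.appTop x) = 0
      rw [show q.appTop x = 0 from hx, map_zero]
    · intro hx
      rw [← Ideal.Quotient.eq_zero_iff_mem] at hx
      exact (ConcreteCategory.bijective_of_isIso (Scheme.ΓSpecIso _).hom).1 ((hnx.trans hx).trans (map_zero _).symm)
  have hc := EffCartier.comap_ideal_top q.ker (Spec.map φ)
  rw [hker, Ideal.map_span, Set.image_singleton] at hc
  have hn := mem_nonZeroDivisors_of_span h ⟨⊤, isAffineOpen_top _⟩ _ hc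
  have e : φ f = (Scheme.ΓSpecIso C).commRingCatIsoToRingEquiv ((Spec.map φ).appTop ((Scheme.ΓSpecIso A).inv f)) := by
    show _ = (Scheme.ΓSpecIso C).hom _
    have hn := congrArg (fun m => CommRingCat.Hom.hom m f) (Scheme.ΓSpecIso_inv_naturality φ)
    simp only [CommRingCat.comp_apply] at hn
    rw [← hn, ← CommRingCat.comp_apply, Iso.inv_hom_id]
    rfl
  rw [e]
  refine mem_nonZeroDivisors_iff_right.2 fun z hz => ?_
  obtain ⟨z, rfl⟩ := (Scheme.ΓSpecIso C).commRingCatIsoToRingEquiv.surjective z
  rw [← map_mul, ← map_zero (Scheme.ΓSpecIso C).commRingCatIsoToRingEquiv] at hz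
  rw [mem_nonZeroDivisors_iff_right.1 hn z (RingEquiv.injective _ hz), map_zero]


/-- Let O be a local ring with residue field κ, R a valuation ring of κ, A ⊆ O the subring of elements
whose residue class lies in R (the fibre product ring R ×_κ O, a semi-valuation ring), and f an
element of A such that O is the localization of A obtained by inverting f. Equip P = Spec A with the
modulus V(f), the closed subscheme cut out by f (an effective Cartier divisor: f is a unit of O, so
a nonzerodivisor of A), whose interior is Spec O. Let q : Q ⟶ P be a proper, minimal morphism of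
modulus pairs (the modulus of Q is the pull-back of V(f) and is an effective Cartier divisor) whose
restriction over the interior of P is a finite morphism. Then q is finite. -/
theorem result {O : Type u} [CommRing O]
    [IsLocalRing O] (R : ValuationSubring (IsLocalRing.ResidueField O))
    (f : ↥((R.toSubring).comap (IsLocalRing.residue O)))
    [IsLocalization.Away f O] {Q : Scheme.{u}} (IQ : Q.IdealSheafData)
    (hQ : BlowUp.IsEffCartierIdeal IQ)
    (q : Q ⟶ Spec (CommRingCat.of ↥((R.toSubring).comap (IsLocalRing.residue O))))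
    (hq : ModPair.IsMinimal IQ
      (Spec.map (CommRingCat.ofHom (Ideal.Quotient.mk (Ideal.span {f})))).ker q)
    [IsProper q]
    (hfin : IsFinite (q ∣_ ModPair.interior
      (Spec.map (CommRingCat.ofHom (Ideal.Quotient.mk (Ideal.span {f})))).ker)) :
    IsFinite q := by
  let m := Ideal.Quotient.mk (Ideal.span {f})
  let J := (Spec.map (CommRingCat.ofHom m)).ker
  have hJ : ∀ y : Spec (CommRingCat.of _), y ∈ ModPair.interior J ↔ f ∉ y.asIdeal := fun y => by
    have hr : Set.range (PrimeSpectrum.comap m) = PrimeSpectrum.zeroLocus (Ideal.span {f} : Set _) := by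
      rw [range_comap_of_surjective _ _ Ideal.Quotient.mk_surjective, Ideal.mk_ker]
    have hs : (J.support : Set (Spec (CommRingCat.of ↥((R.toSubring).comap (IsLocalRing.residue O))))) = PrimeSpectrum.zeroLocus (Ideal.span {f} : Set _) :=
      (Scheme.Hom.support_ker _).trans ((congrArg closure hr).trans (PrimeSpectrum.isClosed_zeroLocus _).closure_eq)
    show y ∉ (J.support : Set _) ↔ _
    rw [hs]
    exact not_congr ((PrimeSpectrum.mem_zeroLocus _ _).trans (Ideal.span_singleton_le_iff_mem (I := y.asIdeal)))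
  haveI : LocallyQuasiFinite q := by
    refine LocallyQuasiFinite.of_finite_preimage_singleton q fun y => ?_
    haveI : CompactSpace Q := QuasiCompact.compactSpace_of_compactSpace q
    have haff : ∀ x : Q, ∃ W : Q.Opens, IsAffineOpen W ∧ x ∈ W := fun x =>
      let ⟨W, hW, hxW, _⟩ := exists_isAffineOpen_mem_and_subset (show x ∈ (⊤ : Q.Opens) from trivial)
      ⟨W, hW, hxW⟩
    choose W₀ hW₀ hxW₀ using haff
    obtain ⟨s, hs⟩ := CompactSpace.elim_nhds_subcover (fun x : Q => (W₀ x : Set Q))
      (fun x => (W₀ x).2.mem_nhds (hxW₀ x))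
    refine Set.Finite.subset (s.finite_toSet.biUnion (t := fun x => q ⁻¹' {y} ∩ (W₀ x : Set Q)) fun x _ => ?_)
      fun z hz => by
        obtain ⟨x, hx, hzx⟩ := Set.mem_iUnion₂.1 (hs.ge (Set.mem_univ z))
        exact Set.mem_biUnion (t := fun x => q ⁻¹' {y} ∩ (W₀ x : Set Q)) hx ⟨hz, hzx⟩
    have hW := hW₀ x
    generalize W₀ x = W at hW ⊢
    let φ := Spec.preimage (hW.fromSpec ≫ q)
    have hφ : Spec.map φ = hW.fromSpec ≫ q := Spec.map_preimage _
    letI : Algebra ↥((R.toSubring).comap (IsLocalRing.residue O)) Γ(Q, W) := φ.hom.toAlgebra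
    haveI : Algebra.FiniteType ↥((R.toSubring).comap (IsLocalRing.residue O)) Γ(Q, W) := by
      have h : LocallyOfFiniteType (Spec.map φ) := by rw [hφ]; infer_instance
      exact RingHom.finiteType_algebraMap.1 ((HasRingHomProperty.Spec_iff (P := @LocallyOfFiniteType)).1 h)
    have hnzd : algebraMap ↥((R.toSubring).comap (IsLocalRing.residue O)) Γ(Q, W) f ∈ nonZeroDivisors Γ(Q, W) := by
      refine nzd_of_comap φ f ?_
      rw [hφ, Scheme.IdealSheafData.comap_comp, ← hq]
      haveI : IsSchemeTheoreticallyDominant (hW.fromSpec ⁻¹ᵁ EffCartier.cmpl IQ).ι :=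
        haveI := EffCartier.dominant_cmpl hQ
        haveI := EffCartier.quasiCompact_interior hQ
        EffCartier.dominant_preimage hW.fromSpec (EffCartier.cmpl IQ)
      exact EffCartier.comap_of_dominant hQ hW.fromSpec
    have hiff : ∀ P : PrimeSpectrum Γ(Q, W), ∀ p : Spec (CommRingCat.of ↥((R.toSubring).comap (IsLocalRing.residue O))),
        q (hW.fromSpec P) = p ↔ P.asIdeal.LiesOver p.asIdeal := fun P p => by
      rw [← Scheme.Hom.comp_apply, ← hφ, Ideal.liesOver_iff]
      exact ⟨fun h => (congrArg PrimeSpectrum.asIdeal h).symm, fun h => PrimeSpectrum.ext h.symm⟩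
    have hp := SemiVal19.fibre_finite f O Subtype.val_injective
      (fun x hx => ⟨⟨x, by show IsLocalRing.residue O x ∈ R.toSubring
                           rw [(IsLocalRing.residue_eq_zero_iff x).2 hx]; exact zero_mem _⟩, rfl⟩)
      (fun g => by
        rcases R.mem_or_inv_mem g with h | h
        · obtain ⟨x, rfl⟩ := IsLocalRing.residue_surjective g
          exact Or.inl ⟨⟨x, h⟩, rfl⟩
        · obtain ⟨x, hx⟩ := IsLocalRing.residue_surjective g⁻¹
          exact Or.inr ⟨⟨x, by show IsLocalRing.residue O x ∈ R.toSubring; rw [hx]; exact h⟩, hx⟩)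
      Γ(Q, W) hnzd (fun p hp hfp => by
        let y' : Spec (CommRingCat.of _) := (⟨p, hp⟩ : PrimeSpectrum _)
        haveI := hfin
        have hy' : y' ∈ ModPair.interior J := (hJ y').2 hfp
        have hf1 : (q ⁻¹' {y'}).Finite := by
          refine Set.Finite.subset ((Scheme.Hom.finite_preimage_singleton (q ∣_ ModPair.interior J) ⟨y', hy'⟩).image
            (q ⁻¹ᵁ ModPair.interior J).ι) fun z hz => ?_
          have hzy : q z = y' := hz
          refine ⟨⟨z, show q z ∈ ModPair.interior J by rw [hzy]; exact hy'⟩, ?_, rfl⟩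
          exact Subtype.ext (by simpa using hzy)
        classical
        refine Set.Finite.of_finite_image (f := fun P : Ideal Γ(Q, W) =>
          if h : P.IsPrime then some (hW.fromSpec (⟨P, h⟩ : PrimeSpectrum _)) else none) ?_ ?_
        · refine Set.Finite.subset (hf1.image some) ?_
          rintro _ ⟨P, ⟨hP, hPl⟩, rfl⟩
          exact ⟨_, (hiff ⟨P, hP⟩ y').2 hPl, by simp [hP]⟩
        · intro P hP P' hP' h
          simp only [dif_pos hP.1, dif_pos hP'.1, Option.some.injEq] at h
          exact congrArg PrimeSpectrum.asIdeal (hW.fromSpec.isOpenEmbedding.injective h))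
      y.asIdeal
    refine Set.Finite.subset ((hp.preimage (f := fun P : PrimeSpectrum Γ(Q, W) => P.asIdeal)
      fun a _ b _ h => PrimeSpectrum.ext h).image hW.fromSpec) fun z hz => ?_
    obtain ⟨P, rfl⟩ : z ∈ Set.range hW.fromSpec := by rw [hW.range_fromSpec]; exact hz.2
    exact ⟨P, ⟨P.2, (hiff P y).1 hz.1⟩, rfl⟩
  exact IsFinite.of_isProper_of_locallyQuasiFinite q

end Groth.Agent.S18753
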