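import Groth.Statements.S18754
import Groth.Agent.S2076
import Groth.Agent.Lib.EffCartier.Dense
import Mathlib.AlgebraicGeometry.Morphisms.Proper

set_option autoImplicit false
universe u
open CategoryTheory CategoryTheory.Limits AlgebraicGeometry TopologicalSpace
open ModPair

namespace Groth.Agent.S18754

/-- Let (Y, I_Y) be a modulus pair with Y quasi-compact and quasi-separated, and let (X_i ⟶ Y) be a
cofiltered system of Y-schemes with affine transition morphisms such that every X_i is quasi-compact
and quasi-separated, the pulled-back ideal I_Y.comap (X_i ⟶ Y) is the ideal of an effective Cartier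
divisor, and X_i ⟶ Y is an abstract admissible blow-up of modulus pairs which is locally of finite
presentation. Let X be the limit of the system over Y and suppose that X ⟶ Y, with the pulled-back
modulus (assumed effective Cartier), is also an abstract admissible blow-up. Then X ⟶ Y is locally
of finite presentation: an abstract admissible blow-up of quasi-compact quasi-separated modulus
pairs which is not of finite presentation is never a limit of finitely presented ones. -/
theorem result {Y : Scheme.{u}}
    [CompactSpace Y] [QuasiSeparatedSpace Y] (IY : Y.IdealSheafData) (hY : BlowUp.IsEffCartierIdeal IY)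
    {I : Type u} [SmallCategory I] [IsCofiltered I] (D : I ⥤ Over Y) (c : Cone D) (hc : IsLimit c)
    [∀ (i j : I) (t : i ⟶ j), IsAffineHom (D.map t).left]
    [∀ i, CompactSpace (D.obj i).left] [∀ i, QuasiSeparatedSpace (D.obj i).left]
    (hI : ∀ i, BlowUp.IsEffCartierIdeal (IY.comap (D.obj i).hom))
    (hadm : ∀ i, ModPair.IsAdmBlowup (IY.comap (D.obj i).hom) IY (D.obj i).hom)
    [∀ i, LocallyOfFinitePresentation (D.obj i).hom]
    (hX : BlowUp.IsEffCartierIdeal (IY.comap c.pt.hom))
    (hXadm : ModPair.IsAdmBlowup (IY.comap c.pt.hom) IY c.pt.hom) :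
    LocallyOfFinitePresentation c.pt.hom := by
  haveI : IsProper c.pt.hom := hXadm.2.1
  haveI : LocallyOfFiniteType (𝟙 c.pt.left ≫ c.pt.hom) := by rw [Category.id_comp]; infer_instance
  obtain ⟨j, hj⟩ := Groth.Agent.S2076.result Y D c hc (𝟙 c.pt.left)
  rw [Category.id_comp] at hj
  haveI := hj
  let π := (c.π.app j).left
  let g := (D.obj j).hom
  let U := ModPair.interior IY
  have hπg : π ≫ g = c.pt.hom := Over.w (c.π.app j)
  haveI : IsIso (g ∣_ U) := (hadm j).2.2
  have h1 : IsIso ((π ≫ g) ∣_ U) := by rw [hπg]; exact hXadm.2.2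
  rw [morphismRestrict_comp] at h1
  haveI : IsIso (π ∣_ g ⁻¹ᵁ U ≫ g ∣_ U) := h1
  haveI : IsIso (π ∣_ g ⁻¹ᵁ U) := IsIso.of_isIso_comp_right (π ∣_ g ⁻¹ᵁ U) (g ∣_ U)
  haveI : IsSchemeTheoreticallyDominant (g ⁻¹ᵁ U).ι := by
    have h := EffCartier.dominant_cmpl (hI j)
    have e : EffCartier.cmpl (IY.comap g) = g ⁻¹ᵁ U := by
      ext x
      simp [U, ModPair.interior, g, Scheme.IdealSheafData.support_comap]
    rwa [e] at h
  haveI : IsSchemeTheoreticallyDominant ((π ⁻¹ᵁ (g ⁻¹ᵁ U)).ι ≫ π) := by
    rw [← morphismRestrict_ι]; infer_instance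
  haveI : IsSchemeTheoreticallyDominant π := EffCartier.dominant_of_comp (f := (π ⁻¹ᵁ (g ⁻¹ᵁ U)).ι) π
  haveI : IsIso π := IsClosedImmersion.isIso_of_ker_eq π (𝟙 _) π (Category.comp_id π)
    (π.ker_eq_bot.trans (Scheme.Hom.ker_eq_bot (𝟙 _)).symm)
  rw [← hπg]
  infer_instance

end Groth.Agent.S18754
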