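import Groth.Statements.S18755
import Groth.Agent.Lib.EffCartier.Mul

set_option autoImplicit false
universe u
open CategoryTheory CategoryTheory.Limits AlgebraicGeometry TopologicalSpace
open ModPair

namespace Groth.Agent.S18755

/-- Let (S₀, I₀), (S₁, I₁), (T, J), (X, I) be schemes with quasi-coherent ideal sheaves of effective
Cartier divisors, f : X ⟶ S₁, g : T ⟶ S₁ and σ : S₁ ⟶ S₀ morphisms satisfying the modulus condition,
and let (Y₁, K₁) with π₁ and (Y₀, K₀) with π₀ be ambient products of (X, I) and (T, J) over S₁ and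
over S₀ (the latter for f ≫ σ and g ≫ σ): blow-ups of the scheme-theoretic image of the product of
the interiors inside X ×_{S₁} T, resp. X ×_{S₀} T, in the intersection of the pulled-back moduli,
with K·E = D_X·D_T. Then the ambient product is functorial in the base: there is a unique morphism φ
: Y₁ ⟶ Y₀ compatible with the maps to X ×_{S₀} T (through the canonical X ×_{S₁} T ⟶ X ×_{S₀} T),
and every such φ is minimal, K₁ = K₀.comap φ. -/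
theorem result {S₀ S₁ T X Y₁ Y₀ : Scheme.{u}} (I₀ : S₀.IdealSheafData)
    (I₁ : S₁.IdealSheafData) (J : T.IdealSheafData) (I : X.IdealSheafData)
    (h₀ : BlowUp.IsEffCartierIdeal I₀) (h₁ : BlowUp.IsEffCartierIdeal I₁)
    (hT : BlowUp.IsEffCartierIdeal J) (hX : BlowUp.IsEffCartierIdeal I)
    (f : X ⟶ S₁) (hf : ModPair.IsAmbient I I₁ f) (g : T ⟶ S₁) (hg : ModPair.IsAmbient J I₁ g)
    (σ : S₁ ⟶ S₀) (hσ : ModPair.IsAmbient I₁ I₀ σ)
    (π₁ : Y₁ ⟶ ModPair.mprod f g I J) (K₁ : Y₁.IdealSheafData) (hY₁ : ModPair.IsAmbProd f g I J π₁ K₁)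
    (π₀ : Y₀ ⟶ ModPair.mprod (f ≫ σ) (g ≫ σ) I J) (K₀ : Y₀.IdealSheafData)
    (hY₀ : ModPair.IsAmbProd (f ≫ σ) (g ≫ σ) I J π₀ K₀) :
    (∃! φ : Y₁ ⟶ Y₀, φ ≫ π₀ ≫ ModPair.mprodι (f ≫ σ) (g ≫ σ) I J =
        π₁ ≫ ModPair.mprodι f g I J ≫ pullback.mapDesc f g σ) ∧
      ∀ φ : Y₁ ⟶ Y₀, φ ≫ π₀ ≫ ModPair.mprodι (f ≫ σ) (g ≫ σ) I J =
          π₁ ≫ ModPair.mprodι f g I J ≫ pullback.mapDesc f g σ →
        ModPair.IsMinimal K₁ K₀ φ := by
  let D : pullback f g ⟶ pullback (f ≫ σ) (g ≫ σ) := pullback.mapDesc f g σ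
  let U₁ := ModPair.prodInterior f g I J
  let U₀ := ModPair.prodInterior (f ≫ σ) (g ≫ σ) I J
  have hD1 : D ≫ pullback.fst (f ≫ σ) (g ≫ σ) = pullback.fst f g :=
    (pullback.lift_fst _ _ _).trans (Category.comp_id _)
  have hD2 : D ≫ pullback.snd (f ≫ σ) (g ≫ σ) = pullback.snd f g :=
    (pullback.lift_snd _ _ _).trans (Category.comp_id _)
  have hU : U₁ ≤ D ⁻¹ᵁ U₀ := by
    intro x hx
    refine ⟨?_, ?_⟩
    · show pullback.fst (f ≫ σ) (g ≫ σ) (D x) ∈ ModPair.interior I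
      rw [← Scheme.Hom.comp_apply, hD1]
      exact hx.1
    · show pullback.snd (f ≫ σ) (g ≫ σ) (D x) ∈ ModPair.interior J
      rw [← Scheme.Hom.comp_apply, hD2]
      exact hx.2
  have hr : D.resLE U₀ U₁ hU ≫ U₀.ι = U₁.ι ≫ D := Scheme.Hom.resLE_comp_ι _ _
  let ι₁ := ModPair.mprodι f g I J
  let ι₀ := ModPair.mprodι (f ≫ σ) (g ≫ σ) I J
  have hker : Scheme.Hom.ker ι₀ ≤ Scheme.Hom.ker (ι₁ ≫ D) := by
    rw [show Scheme.Hom.ker ι₀ = U₀.ι.ker from Scheme.IdealSheafData.ker_subschemeι _,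
      Scheme.Hom.ker_comp, show Scheme.Hom.ker ι₁ = U₁.ι.ker from Scheme.IdealSheafData.ker_subschemeι _,
      ← Scheme.Hom.ker_comp, ← hr]
    exact Scheme.Hom.le_ker_comp _ _
  let m := IsClosedImmersion.lift ι₀ (ι₁ ≫ D) hker
  have hm : m ≫ ι₀ = ι₁ ≫ D := IsClosedImmersion.lift_fac _ _ _
  have hm1 : m ≫ ι₀ ≫ pullback.fst (f ≫ σ) (g ≫ σ) = ι₁ ≫ pullback.fst f g := by
    rw [reassoc_of% hm, hD1]
  have hm2 : m ≫ ι₀ ≫ pullback.snd (f ≫ σ) (g ≫ σ) = ι₁ ≫ pullback.snd f g := by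
    rw [reassoc_of% hm, hD2]
  have hC : (ModPair.prodCentre (f ≫ σ) (g ≫ σ) I J).comap m = ModPair.prodCentre f g I J := by
    rw [ModPair.prodCentre, Scheme.IdealSheafData.comap_sup, ← Scheme.IdealSheafData.comap_comp,
      ← Scheme.IdealSheafData.comap_comp, hm1, hm2]
    rfl
  have hcart : BlowUp.IsEffCartierIdeal ((ModPair.prodCentre (f ≫ σ) (g ≫ σ) I J).comap (π₁ ≫ m)) := by
    rw [Scheme.IdealSheafData.comap_comp, hC]
    exact hY₁.1.1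
  obtain ⟨φ, hφ, huniq⟩ := hY₀.1.2 Y₁ (π₁ ≫ m) hcart
  have hiff : ∀ ψ : Y₁ ⟶ Y₀, ψ ≫ π₀ ≫ ι₀ = π₁ ≫ ι₁ ≫ D ↔ ψ ≫ π₀ = π₁ ≫ m := by
    intro ψ
    rw [← hm, ← Category.assoc, ← Category.assoc π₁, cancel_mono]
  refine ⟨⟨φ, (hiff φ).2 hφ, fun ψ hψ => huniq ψ ((hiff ψ).1 hψ)⟩, fun ψ hψ => ?_⟩
  have h := (hiff ψ).1 hψ
  have e0 := congrArg (fun K : Y₀.IdealSheafData => K.comap ψ) hY₀.2
  simp only [Groth.Agent.EffCartier.comap_mul, ← Scheme.IdealSheafData.comap_comp, h] at e0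
  rw [reassoc_of% h, reassoc_of% h, hm1, hm2] at e0
  rw [Scheme.IdealSheafData.comap_comp _ π₁ m, hC] at e0
  have e1 := hY₁.2
  rw [← Scheme.IdealSheafData.comap_comp, ← Scheme.IdealSheafData.comap_comp, ← e0] at e1
  exact Groth.Agent.EffCartier.eq_of_mul_eq_mul_right hY₁.1.1 e1

end Groth.Agent.S18755
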