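import Groth.Statements.S18758
import Groth.Agent.S18738
import Mathlib.CategoryTheory.Localization.CalculusOfFractions

set_option autoImplicit false
set_option maxHeartbeats 800000
set_option backward.isDefEq.respectTransparency false
set_option backward.isDefEq.respectTransparency.types false
universe w v u
open CategoryTheory CategoryTheory.Limits AlgebraicGeometry TopologicalSpace
open ModPair

namespace Groth.Agent.S18758

/-- Finite type objects over the base. -/
abbrev FT (S : ModPair.Pair.{u}) : ObjectProperty (Over S) :=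
  fun X : Over S => LocallyOfFiniteType X.hom.hom ∧ QuasiCompact X.hom.hom

/-- Admissible blow-ups of finite type objects. -/
abbrev Wft (S : ModPair.Pair.{u}) : MorphismProperty (FT S).FullSubcategory :=
  ((ModPair.Pair.admBlowup.{u}).inverseImage (Over.forget S)).inverseImage (ObjectProperty.ι (FT S))

theorem ft_of_adm {S : ModPair.Pair.{u}} (X : Over S) (hX : FT S X) {T : ModPair.Pair.{u}} (s : T ⟶ X.left)
    (hs : ModPair.Pair.admBlowup s) : FT S (Over.mk (s ≫ X.hom)) := by
  haveI : IsProper s.hom := hs.2.1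
  haveI := hX.1
  haveI := hX.2
  exact ⟨show LocallyOfFiniteType (s.hom ≫ X.hom.hom) from inferInstance,
    show QuasiCompact (s.hom ≫ X.hom.hom) from inferInstance⟩

theorem rightCalculus (S : ModPair.Pair.{u}) : (Wft S).HasRightCalculusOfFractions := by
  haveI := Groth.Agent.S18738.result.{u}
  exact
    { id_mem := fun X => Groth.Agent.S18738.admBlowup_id X.obj.left
      comp_mem := fun _ _ hf hg => Groth.Agent.S18738.admBlowup_comp hf hg
      exists_rightFraction := fun X Y φ => by
        obtain ⟨ψ, hψ⟩ := MorphismProperty.LeftFraction.exists_rightFraction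
          (W := ModPair.Pair.admBlowup.{u}) (X := X.obj.left) (Y := Y.obj.left)
          (MorphismProperty.LeftFraction.mk φ.f.hom.left φ.s.hom.left φ.hs)
        let T : (FT S).FullSubcategory := ⟨Over.mk (ψ.s ≫ X.obj.hom), ft_of_adm X.obj X.property ψ.s ψ.hs⟩
        exact ⟨{ X' := T
                 s := ObjectProperty.homMk (Over.homMk ψ.s rfl)
                 hs := ψ.hs
                 f := ObjectProperty.homMk (Over.homMk ψ.f (by
                   show ψ.f ≫ Y.obj.hom = ψ.s ≫ X.obj.hom
                   rw [← Over.w φ.s.hom, ← Over.w φ.f.hom, ← Category.assoc, ← Category.assoc]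
                   exact congrArg (fun z => z ≫ φ.Y'.obj.hom) hψ.symm)) },
          ObjectProperty.hom_ext _ (Over.OverMorphism.ext hψ)⟩
      ext := fun X _ _ f₁ f₂ s hs h => ⟨X, 𝟙 X, Groth.Agent.S18738.admBlowup_id _, by
        have h' : f₁.hom.left ≫ s.hom.left = f₂.hom.left ≫ s.hom.left := congrArg (fun z => z.hom.left) h
        rw [show f₁ = f₂ from ObjectProperty.hom_ext _
          (Over.OverMorphism.ext (Groth.Agent.S18738.admBlowup_cancel hs h'))]⟩ }

/-- Let S be a modulus pair and PSch_S the full subcategory of the slice category of modulus pairs over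
S on the objects whose structure morphism is of finite type (locally of finite type and
quasi-compact); let Σ_ft be the class of morphisms of PSch_S whose underlying morphism of modulus
pairs is an abstract admissible blow-up, and Q the localization functor of modulus pairs at all
abstract admissible blow-ups. Then the canonical functor from the localization of PSch_S at Σ_ft to
the slice category over Q S is fully faithful, so that it identifies the localization with the full
subcategory MSch_S of objects isomorphic to finite type ones: for every localization functor L' of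
PSch_S at Σ_ft and every functor Φ to the slice over Q S through which the inclusion followed by Q
on slices factors up to isomorphism, Φ is full and faithful. -/
theorem result (S : ModPair.Pair.{u})
    {E : Type v} [Category.{w} E]
    (L' : (ObjectProperty.FullSubcategory
        ((fun X : Over S => LocallyOfFiniteType X.hom.hom ∧ QuasiCompact X.hom.hom) :
          ObjectProperty (Over S))) ⥤ E)
    [L'.IsLocalization ((((ModPair.Pair.admBlowup.{u}).inverseImage (Over.forget S)).inverseImage
      (ObjectProperty.ι ((fun X : Over S => LocallyOfFiniteType X.hom.hom ∧ QuasiCompact X.hom.hom) :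
          ObjectProperty (Over S)))))]
    (Φ : E ⥤ Over ((ModPair.Pair.admBlowup.{u}).Q.obj S))
    (e : L' ⋙ Φ ≅ ObjectProperty.ι ((fun X : Over S => LocallyOfFiniteType X.hom.hom ∧ QuasiCompact X.hom.hom) :
          ObjectProperty (Over S)) ⋙ Over.post (ModPair.Pair.admBlowup.{u}).Q) :
    Φ.Full ∧ Φ.Faithful := by
  haveI : (Wft S).HasRightCalculusOfFractions := rightCalculus S
  haveI : (ModPair.Pair.admBlowup.{u}).HasRightCalculusOfFractions := Groth.Agent.S18738.result
  haveI : L'.IsLocalization (Wft S) := ‹_›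
  haveI := Localization.essSurj L' (Wft S)
  let W : MorphismProperty ModPair.Pair.{u} := ModPair.Pair.admBlowup.{u}
  have hmap : ∀ {X Y : (FT S).FullSubcategory} (f : X ⟶ Y),
      (Φ.map (L'.map f)).left = (e.app X).hom.left ≫ W.Q.map f.hom.left ≫ (e.app Y).inv.left := fun {X Y} f => by
    have h := e.hom.naturality f
    have h' : Φ.map (L'.map f) = e.hom.app X ≫
        (ObjectProperty.ι (FT S) ⋙ Over.post (ModPair.Pair.admBlowup.{u}).Q).map f ≫ e.inv.app Y := by
      rw [← Category.assoc, ← h, Category.assoc, e.hom_inv_id_app, Category.comp_id]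
      rfl
    exact congrArg (fun z => z.left) h'
  have hiso : ∀ {X Y : (FT S).FullSubcategory} (f : X ⟶ Y), (Wft S) f → IsIso (L'.map f) :=
    fun f hf => Localization.inverts L' (Wft S) f hf
  have full : ∀ (X Y : (FT S).FullSubcategory) (θ : Φ.obj (L'.obj X) ⟶ Φ.obj (L'.obj Y)),
      ∃ ψ, Φ.map ψ = θ := by
    intro X Y θ
    let χ : W.Q.obj X.obj.left ⟶ W.Q.obj Y.obj.left := (e.app X).inv.left ≫ θ.left ≫ (e.app Y).hom.left
    have hχ : χ ≫ W.Q.map Y.obj.hom = W.Q.map X.obj.hom := by
      exact Over.w ((e.app X).inv ≫ θ ≫ (e.app Y).hom)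
    obtain ⟨z, hz⟩ := Localization.exists_rightFraction W.Q W χ
    have hzs : W.Q.map z.s ≫ χ = W.Q.map z.f := by
      rw [hz]
      exact z.map_s_comp_map W.Q (Localization.inverts W.Q W)
    obtain ⟨T, r, hr, hrw⟩ :=
      (MorphismProperty.map_eq_iff_precomp W.Q W (z.f ≫ Y.obj.hom) (z.s ≫ X.obj.hom)).1 (by
        rw [Functor.map_comp, Functor.map_comp, ← hzs, Category.assoc, hχ])
    have hs : W (r ≫ z.s) := W.comp_mem r z.s hr z.hs
    let T' : (FT S).FullSubcategory := ⟨Over.mk ((r ≫ z.s) ≫ X.obj.hom), ft_of_adm X.obj X.property (r ≫ z.s) hs⟩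
    let s' : T' ⟶ X := ObjectProperty.homMk (Over.homMk (r ≫ z.s) rfl)
    let a' : T' ⟶ Y := ObjectProperty.homMk (Over.homMk (r ≫ z.f) (by
      show (r ≫ z.f) ≫ Y.obj.hom = (r ≫ z.s) ≫ X.obj.hom
      rw [Category.assoc, hrw, Category.assoc]))
    haveI := hiso s' hs
    refine ⟨inv (L'.map s') ≫ L'.map a', ?_⟩
    rw [Functor.map_comp, Functor.map_inv, IsIso.inv_comp_eq]
    apply Over.OverMorphism.ext
    rw [hmap a', Over.comp_left, hmap s']
    show (e.app T').hom.left ≫ W.Q.map (r ≫ z.f) ≫ (e.app Y).inv.left =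
      ((e.app T').hom.left ≫ W.Q.map (r ≫ z.s) ≫ (e.app X).inv.left) ≫ θ.left
    have key : W.Q.map (r ≫ z.f) = W.Q.map (r ≫ z.s) ≫ χ := by
      rw [Functor.map_comp, Functor.map_comp, Category.assoc, hzs]
    have hY : (e.app Y).hom.left ≫ (e.app Y).inv.left = 𝟙 _ := congrArg (fun q => q.left) (e.app Y).hom_inv_id
    have key' : W.Q.map (r ≫ z.f) ≫ (e.app Y).inv.left = W.Q.map (r ≫ z.s) ≫ (e.app X).inv.left ≫ θ.left :=
      (congrArg (fun q => q ≫ (e.app Y).inv.left) key).trans ((Category.assoc _ _ _).trans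
        (congrArg (fun q => W.Q.map (r ≫ z.s) ≫ q) ((Category.assoc _ _ _).trans (congrArg (fun q => (e.app X).inv.left ≫ q)
          ((Category.assoc _ _ _).trans ((congrArg (fun q => θ.left ≫ q) hY).trans (Category.comp_id _)))))))
    exact (congrArg (fun q => (e.app T').hom.left ≫ q) key').trans
      ((congrArg (fun q => (e.app T').hom.left ≫ q) (Category.assoc _ _ _).symm).trans (Category.assoc _ _ _).symm)
  have faithful : ∀ (X Y : (FT S).FullSubcategory) (ψ₁ ψ₂ : L'.obj X ⟶ L'.obj Y),
      Φ.map ψ₁ = Φ.map ψ₂ → ψ₁ = ψ₂ := by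
    intro X Y ψ₁ ψ₂ h
    obtain ⟨z, hz⟩ := Localization.exists_rightFraction L' (Wft S) ψ₁
    have hzs : L'.map z.s ≫ ψ₁ = L'.map z.f := by
      rw [hz]
      exact z.map_s_comp_map L' (Localization.inverts L' (Wft S))
    obtain ⟨z₂, hz₂⟩ := Localization.exists_rightFraction L' (Wft S) (L'.map z.s ≫ ψ₂)
    have hzs₂ : L'.map z₂.s ≫ L'.map z.s ≫ ψ₂ = L'.map z₂.f := by
      rw [hz₂]
      exact z₂.map_s_comp_map L' (Localization.inverts L' (Wft S))
    haveI := hiso z.s z.hs
    haveI := hiso z₂.s z₂.hs
    have hΦ : Φ.map (L'.map (z₂.s ≫ z.f)) = Φ.map (L'.map z₂.f) := by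
      rw [Functor.map_comp, ← hzs, ← hzs₂, Functor.map_comp, Functor.map_comp, Functor.map_comp, Functor.map_comp, h]
    have hl := congrArg (fun q => q.left) hΦ
    rw [hmap, hmap] at hl
    have hQ : W.Q.map (z₂.s ≫ z.f).hom.left = W.Q.map z₂.f.hom.left := by
      haveI : IsIso (e.app z₂.X').hom.left := inferInstanceAs (IsIso ((Over.forget _).map (e.app z₂.X').hom))
      haveI : IsIso (e.app Y).inv.left := inferInstanceAs (IsIso ((Over.forget _).map (e.app Y).inv))
      exact (cancel_mono (e.app Y).inv.left).1 ((cancel_epi (e.app z₂.X').hom.left).1 hl)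
    obtain ⟨T, r, hr, hrw⟩ := (MorphismProperty.map_eq_iff_precomp W.Q W _ _).1 hQ
    let T' : (FT S).FullSubcategory :=
      ⟨Over.mk (r ≫ z₂.X'.obj.hom), ft_of_adm z₂.X'.obj z₂.X'.property r hr⟩
    let r' : T' ⟶ z₂.X' := ObjectProperty.homMk (Over.homMk r rfl)
    haveI := hiso r' hr
    have he : r' ≫ z₂.s ≫ z.f = r' ≫ z₂.f := ObjectProperty.hom_ext _ (Over.OverMorphism.ext hrw)
    rw [← cancel_epi (L'.map z.s), ← cancel_epi (L'.map z₂.s), ← cancel_epi (L'.map r'), hzs₂, hzs,
      ← Functor.map_comp, ← Functor.map_comp, ← Functor.map_comp, he]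
  refine ⟨⟨fun {A B} θ => ?_⟩, ⟨fun {A B} ψ₁ ψ₂ h => ?_⟩⟩
  · let a := L'.objObjPreimageIso A
    let b := L'.objObjPreimageIso B
    obtain ⟨ψ, hψ⟩ := full _ _ (Φ.map a.hom ≫ θ ≫ Φ.map b.inv)
    refine ⟨a.inv ≫ ψ ≫ b.hom, ?_⟩
    rw [Functor.map_comp, Functor.map_comp, hψ, Category.assoc, Category.assoc, ← Functor.map_comp_assoc,
      Iso.inv_hom_id, ← Functor.map_comp, Iso.inv_hom_id, CategoryTheory.Functor.map_id,
      CategoryTheory.Functor.map_id, Category.id_comp, Category.comp_id]
  · let a := L'.objObjPreimageIso A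
    let b := L'.objObjPreimageIso B
    have := faithful _ _ (a.hom ≫ ψ₁ ≫ b.inv) (a.hom ≫ ψ₂ ≫ b.inv) (by
      simp only [Functor.map_comp, h])
    simpa using this

end Groth.Agent.S18758
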