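import Groth.Statements.S18761
import Groth.Agent.Lib.SubGrp13.Basic
import Groth.Agent.Lib.FinCondH13.Points
import Groth.Agent.Lib.Grass18.Epi
import Groth.Agent.Lib.FlatH4.PullChart
import Groth.Agent.Lib.CurveCoh17.Skyscraper

set_option autoImplicit false
universe u
open CategoryTheory MonoidalCategory CartesianMonoidalCategory MonObj GrpObj AlgebraicGeometry
open AlgGrp

set_option maxHeartbeats 1000000
set_option backward.isDefEq.respectTransparency false
set_option backward.isDefEq.respectTransparency.types false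

namespace Groth.Agent.S18761

/-- A closed subscheme of a base change which is locally spanned by few sections is everything. -/
theorem injective_of_span {R B C : Type u} [CommRing R] [Nontrivial R] [CommRing B] [CommRing C] (a : R →+* B) (b : R →+* C)
    (θ : B →+* C) (hθ : ∀ r, θ (a r) = b r) (hs : Function.Surjective θ) {m n : ℕ} (β : Fin n → B)
    (hβ : ∀ x : B, ∃ c : Fin n → R, ∑ l, a (c l) * β l = x)
    (w : (Fin m → R) → C) (hw : Function.Bijective w) (hwadd : ∀ x y, w (x + y) = w x + w y)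
    (hwsmul : ∀ (r : R) x, w (r • x) = b r * w x) (hnm : n ≤ m) :
    Function.Injective θ ∧ n = m := by
  classical
  letI := b.toAlgebra
  let E : (Fin m → R) ≃ₗ[R] C := LinearEquiv.ofBijective
    { toFun := w, map_add' := hwadd, map_smul' := fun r x => hwsmul r x } hw
  let L : (Fin n → R) →ₗ[R] C := Fintype.linearCombination R fun l => θ (β l)
  have hL : ∀ c, L c = θ (∑ l, a (c l) * β l) := fun c => by
    simp only [L, Fintype.linearCombination_apply, map_sum, map_mul, hθ]
    rfl
  have hLs : Function.Surjective L := fun z => by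
    obtain ⟨x, rfl⟩ := hs z
    obtain ⟨c, rfl⟩ := hβ x
    exact ⟨c, hL c⟩
  let M : (Fin n → R) →ₗ[R] (Fin m → R) := E.symm.toLinearMap.comp L
  have hMs : Function.Surjective M := E.symm.surjective.comp hLs
  have hmn : m ≤ n := le_of_fin_surjective R M hMs
  obtain rfl : n = m := le_antisymm hnm hmn
  have hMi : Function.Injective M := OrzechProperty.injective_of_surjective_endomorphism M hMs
  refine ⟨fun x y hxy => ?_, rfl⟩
  obtain ⟨c, rfl⟩ := hβ x
  obtain ⟨c', rfl⟩ := hβ y
  rw [show c = c' from hMi (by show E.symm (L c) = E.symm (L c'); rw [hL, hL, hxy])]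

/-- Let k be an algebraically closed field, S a smooth, proper and integral curve over k (integral,
smooth and proper over k of dimension one), G a finite group scheme over k, and H a closed subgroup
scheme of the base change G_S = G ×_k S whose structure morphism H → S is faithfully flat, such that
the direct image of O_H on S is locally free of rank m and its space of global sections, that is
Γ(H, O_H), has dimension exactly m over k. Then H descends to k: there are a group scheme H' over k,
a homomorphism H' → G which is a closed immersion, and an isomorphism of S-group schemes H ≅ H' ×_k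
S carrying the inclusion of H into G_S to the base change of H' → G; moreover the induced ring map
Γ(H', O) → Γ(H, O_H) is bijective, so that H' is the spectrum of Γ(H, O_H). -/
theorem result
    (k : Type u) [Field k] [IsAlgClosed k] (S : Scheme.{u}) [S.Over (Spec (CommRingCat.of k))]
    [IsIntegral S] [IsProper (S ↘ Spec (CommRingCat.of k))] [Smooth (S ↘ Spec (CommRingCat.of k))]
    (hdim : topologicalKrullDim S = 1)
    (G : Over (Spec (CommRingCat.of k))) [GrpObj G] [IsFinite G.hom]
    (H : Over S) [GrpObj H] (i : H ⟶ Red.bc (S ↘ Spec (CommRingCat.of k)) G) [IsMonHom i]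
    [IsClosedImmersion i.left] [Flat H.hom] [Surjective H.hom] (m : ℕ)
    (hE : FlatMod.IsFinLocFreeOfRank m ((Coh.push H.hom).obj (Coh.structureModule H.left)))
    (hh0 : Module.finrank k (Coh.HH S ((Coh.push H.hom).obj (Coh.structureModule H.left)) 0) = m) :
    ∃ (H' : Grp (Over (Spec (CommRingCat.of k)))) (j : H'.X ⟶ G), IsMonHom j ∧ IsClosedImmersion j.left ∧
      ∃ e : H ≅ Red.bc (S ↘ Spec (CommRingCat.of k)) H'.X, IsMonHom e.hom ∧
        e.hom ≫ (Over.pullback (S ↘ Spec (CommRingCat.of k))).map j = i ∧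
        Function.Bijective (e.hom.left ≫ Limits.pullback.fst H'.X.hom (S ↘ Spec (CommRingCat.of k))).appTop.hom := by
  classical
  let σ : S ⟶ Spec (CommRingCat.of k) := S ↘ Spec (CommRingCat.of k)
  haveI : IsAffine G.left := isAffine_of_isAffineHom G.hom
  let ρ : H.left ⟶ G.left := i.left ≫ Limits.pullback.fst G.hom σ
  let I : Ideal Γ(G.left, ⊤) := RingHom.ker ρ.appTop.hom
  let A' : CommRingCat.{u} := CommRingCat.of (Γ(G.left, ⊤) ⧸ I)
  let jl : Spec A' ⟶ G.left := Spec.map (CommRingCat.ofHom (Ideal.Quotient.mk I)) ≫ G.left.isoSpec.inv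
  haveI hjl : IsClosedImmersion jl := by
    haveI : IsClosedImmersion (Spec.map (CommRingCat.ofHom (Ideal.Quotient.mk I))) :=
      IsClosedImmersion.spec_of_surjective _ Ideal.Quotient.mk_surjective
    infer_instance
  let H' : Over (Spec (CommRingCat.of k)) := Over.mk (jl ≫ G.hom)
  let j : H' ⟶ G := Over.homMk jl rfl
  haveI : IsClosedImmersion j.left := hjl
  haveI : Mono j.left := inferInstance
  haveI : Mono j := Over.mono_of_mono_left j
  haveI : IsAffine H'.left := inferInstanceAs (IsAffine (Spec A'))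
  let φ : A' ⟶ Γ(H.left, ⊤) := CommRingCat.ofHom (RingHom.kerLift ρ.appTop.hom)
  let v : H.left ⟶ H'.left := H.left.toSpecΓ ≫ Spec.map φ
  have hv : v ≫ jl = ρ := by
    have h1 : CommRingCat.ofHom (Ideal.Quotient.mk I) ≫ φ = ρ.appTop := by
      ext x
      rfl
    show (H.left.toSpecΓ ≫ Spec.map φ) ≫ Spec.map _ ≫ G.left.isoSpec.inv = ρ
    rw [Category.assoc, ← Spec.map_comp_assoc, h1, ← Scheme.toSpecΓ_naturality_assoc]
    simp [Scheme.isoSpec]
  have hvinj : Function.Injective v.appTop.hom := by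
    have h1 : v.appTop = (Scheme.ΓSpecIso A').hom ≫ φ := by
      show (H.left.toSpecΓ ≫ Spec.map φ).appTop = _
      rw [Scheme.Hom.comp_appTop, Scheme.toSpecΓ_appTop, Scheme.ΓSpecIso_naturality]
    rw [h1]
    exact (RingHom.kerLift_injective ρ.appTop.hom).comp (ConcreteCategory.bijective_of_isIso (Scheme.ΓSpecIso A').hom).1
  have hv' : v ≫ H'.hom = H.hom ≫ σ := by
    show v ≫ jl ≫ G.hom = _
    rw [reassoc_of% hv]
    show i.left ≫ Limits.pullback.fst G.hom σ ≫ G.hom = _
    rw [Limits.pullback.condition, ← Category.assoc]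
    exact congrArg (· ≫ σ) (Over.w i)
  let j0 : H ⟶ Red.bc σ H' := Over.homMk (Limits.pullback.lift v H.hom hv') (Limits.pullback.lift_snd _ _ _)
  have hj0 : j0 ≫ (Over.pullback σ).map j = i := by
    ext1
    apply Limits.pullback.hom_ext
    · show Limits.pullback.lift v H.hom hv' ≫ _ ≫ _ = _
      simp [Over.pullback, j, hv, ρ]
    · show Limits.pullback.lift v H.hom hv' ≫ _ ≫ _ = _
      simp [Over.pullback]
      exact (Over.w i).symm
  haveI hj0c : IsClosedImmersion j0.left := by
    haveI : IsClosedImmersion (j0.left ≫ ((Over.pullback σ).map j).left) := by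
      rw [← Over.comp_left, hj0]
      infer_instance
    exact IsClosedImmersion.of_comp j0.left ((Over.pullback σ).map j).left
  haveI : IsAffineHom H'.hom := inferInstance
  haveI : IsAffineHom (Limits.pullback.snd H'.hom σ) := MorphismProperty.pullback_snd (P := @IsAffineHom) _ _ inferInstance
  haveI : IsAffineHom H.hom := by
    rw [← Over.w j0]
    show IsAffineHom (j0.left ≫ Limits.pullback.snd H'.hom σ)
    infer_instance
  -- global sections
  let gH : k →+* Γ(H.left, ⊤) := H.hom.appTop.hom.comp (Coh.toGlobal σ)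
  letI : Algebra k Γ(H.left, ⊤) := gH.toAlgebra
  letI : Algebra k Γ(H'.left, ⊤) := (Coh.toGlobal H'.hom).toAlgebra
  let vl : Γ(H'.left, ⊤) →ₐ[k] Γ(H.left, ⊤) :=
    { v.appTop.hom with
      commutes' := fun c => by
        show ((Scheme.ΓSpecIso (CommRingCat.of k)).inv ≫ H'.hom.appTop ≫ v.appTop) c =
          ((Scheme.ΓSpecIso (CommRingCat.of k)).inv ≫ σ.appTop ≫ H.hom.appTop) c
        rw [← Scheme.Hom.comp_appTop, ← Scheme.Hom.comp_appTop, hv'] }
  have hΓ : Module.finrank k Γ(H.left, ⊤) = m := by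
    let e := CurveCoh17.hh0 ((Coh.push H.hom).obj (Coh.structureModule H.left))
    let el : Coh.HH S ((Coh.push H.hom).obj (Coh.structureModule H.left)) 0 ≃ₗ[k] Γ(H.left, ⊤) :=
      { e with map_smul' := fun c x => CurveCoh17.hh0_smul _ x }
    rw [← el.finrank_eq, hh0]
  obtain ⟨x₀⟩ : Nonempty S := inferInstance
  have hm0 : 0 < m := by
    obtain ⟨W, hW, hxW, -, ⟨bW⟩⟩ := Grass18.exists_affine_basis hE x₀ (O := ⊤) trivial
    by_contra h0
    obtain rfl : m = 0 := by omega
    haveI : Subsingleton Γ((Coh.push H.hom).obj (Coh.structureModule H.left), W) := bW.repr.toEquiv.subsingleton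
    haveI : Subsingleton Γ(H.left, H.hom ⁻¹ᵁ W) := this
    obtain ⟨y, hy⟩ := H.hom.surjective x₀
    haveI : Nontrivial Γ(H.left, H.hom ⁻¹ᵁ W) :=
      (H.left.presheaf.germ (H.hom ⁻¹ᵁ W) y (show H.hom y ∈ W by rw [hy]; exact hxW)).hom.domain_nontrivial
    exact false_of_nontrivial_of_subsingleton Γ(H.left, H.hom ⁻¹ᵁ W)
  haveI : Module.Finite k Γ(H.left, ⊤) := Module.finite_of_finrank_pos (by rw [hΓ]; exact hm0)
  haveI : Module.Finite k Γ(H'.left, ⊤) := Module.Finite.of_injective vl.toLinearMap hvinj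
  let m' := Module.finrank k Γ(H'.left, ⊤)
  have hm' : m' ≤ m := hΓ ▸ LinearMap.finrank_le_finrank_of_injective (f := vl.toLinearMap) hvinj
  let β := Module.finBasis k Γ(H'.left, ⊤)
  -- local computation
  have hloc : ∀ (x : S), ∃ W : S.Opens, x ∈ W ∧ IsIso (j0.left ∣_ (Limits.pullback.snd H'.hom σ ⁻¹ᵁ W)) ∧ m' = m := by
    intro x
    obtain ⟨W, hW, hxW, -, ⟨bW⟩⟩ := Grass18.exists_affine_basis hE x (O := ⊤) trivial
    refine ⟨W, hxW, ?_⟩
    let π := Limits.pullback.snd H'.hom σ
    let UY := π ⁻¹ᵁ W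
    have hUY : IsAffineOpen UY := hW.preimage π
    haveI : Nonempty W := ⟨⟨x, hxW⟩⟩
    have hpre : j0.left ⁻¹ᵁ UY = H.hom ⁻¹ᵁ W := by
      rw [← Over.w j0]
      rfl
    have hpo := FlatH4.isPushout_sections (g := Limits.pullback.fst H'.hom σ) (iY := π) (iX := H'.hom) (f := σ)
      (IsPullback.of_hasPullback H'.hom σ) (US := (⊤ : (Spec (CommRingCat.of k)).Opens)) (UX := (⊤ : H'.left.Opens))
      (UT := W) (UY := UY) (by simp) (by simp) (by simp [UY]) (isAffineOpen_top _) hW (isAffineOpen_top _)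
    let fA := ((Limits.pullback.fst H'.hom σ).appLE ⊤ UY (by simp)).hom
    let a := (π.appLE W UY le_rfl).hom
    have hspan : ∀ z, ∃ c : Fin m' → Γ(S, W), ∑ l, a (c l) * fA (β l) = z := by
      intro z
      let f0 := H'.hom.appLE (⊤ : (Spec (CommRingCat.of k)).Opens) (⊤ : H'.left.Opens) (by simp)
      let g0 := σ.appLE (⊤ : (Spec (CommRingCat.of k)).Opens) W (by simp)
      letI : Algebra Γ(Spec (CommRingCat.of k), ⊤) Γ(H'.left, ⊤) := f0.hom.toAlgebra
      letI : Algebra Γ(Spec (CommRingCat.of k), ⊤) Γ(S, W) := g0.hom.toAlgebra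
      letI : Algebra Γ(S, W) Γ(Limits.pullback H'.hom σ, UY) := a.toAlgebra
      letI : Algebra Γ(H'.left, ⊤) Γ(Limits.pullback H'.hom σ, UY) := fA.toAlgebra
      letI : Algebra Γ(Spec (CommRingCat.of k), ⊤) Γ(Limits.pullback H'.hom σ, UY) := (a.comp g0.hom).toAlgebra
      haveI : IsScalarTower Γ(Spec (CommRingCat.of k), ⊤) Γ(S, W) Γ(Limits.pullback H'.hom σ, UY) :=
        IsScalarTower.of_algebraMap_eq' rfl
      haveI : IsScalarTower Γ(Spec (CommRingCat.of k), ⊤) Γ(H'.left, ⊤) Γ(Limits.pullback H'.hom σ, UY) :=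
        IsScalarTower.of_algebraMap_eq' (congrArg CommRingCat.Hom.hom hpo.w).symm
      haveI : Algebra.IsPushout Γ(Spec (CommRingCat.of k), ⊤) Γ(S, W) Γ(H'.left, ⊤) Γ(Limits.pullback H'.hom σ, UY) :=
        CommRingCat.isPushout_iff_isPushout.1 hpo.flip
      induction z using (Algebra.IsPushout.out (R := Γ(Spec (CommRingCat.of k), ⊤)) (S := Γ(S, W))
        (R' := Γ(H'.left, ⊤)) (S' := Γ(Limits.pullback H'.hom σ, UY))).inductionOn with
      | zero => exact ⟨0, by simp⟩
      | add z z' hz hz' =>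
        obtain ⟨c, rfl⟩ := hz
        obtain ⟨c', rfl⟩ := hz'
        exact ⟨c + c', by simp [add_mul, Finset.sum_add_distrib]⟩
      | smul r z hz =>
        obtain ⟨c, rfl⟩ := hz
        exact ⟨r • c, by
          show _ = a r * _
          simp [Finset.mul_sum, _root_.mul_assoc]⟩
      | tmul y =>
        refine ⟨fun l => g0 ((Scheme.ΓSpecIso (CommRingCat.of k)).inv (β.repr y l)), ?_⟩
        show _ = fA y
        conv_rhs => rw [← β.sum_repr y, map_sum]
        refine Finset.sum_congr rfl fun l _ => ?_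
        rw [Algebra.smul_def, map_mul]
        congr 1
        show (g0 ≫ π.appLE W UY le_rfl) _ = ((Limits.pullback.fst H'.hom σ).appLE ⊤ UY (by simp)) (H'.hom.appTop _)
        have e : H'.hom.appTop = f0 := by simp [f0, Scheme.Hom.appLE, Scheme.Hom.appTop]
        rw [e]
        exact (ConcreteCategory.congr_hom hpo.w ((Scheme.ΓSpecIso (CommRingCat.of k)).inv (β.repr y l))).symm
    let θ := (j0.left.appLE UY (H.hom ⁻¹ᵁ W) hpre.ge).hom
    have hθa : ∀ r, θ (a r) = (H.hom.app W).hom r := fun r => by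
      have h1 : π.appLE W UY le_rfl ≫ j0.left.appLE UY (H.hom ⁻¹ᵁ W) hpre.ge = H.hom.app W := by
        rw [Scheme.Hom.appLE_comp_appLE, Scheme.Hom.app_eq_appLE]
        congr 1
        exact Over.w j0
      exact ConcreteCategory.congr_hom h1 r
    have hθs : Function.Surjective θ := by
      have h1 := j0.left.app_surjective UY hUY
      have : j0.left.appLE UY (H.hom ⁻¹ᵁ W) hpre.ge = j0.left.app UY ≫ H.left.presheaf.map (eqToHom hpre.symm).op := rfl
      show Function.Surjective (j0.left.appLE UY (H.hom ⁻¹ᵁ W) hpre.ge).hom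
      rw [this]
      exact (ConcreteCategory.bijective_of_isIso (H.left.presheaf.map (eqToHom hpre.symm).op)).2.comp h1
    obtain ⟨hθi, hmm⟩ := injective_of_span a (H.hom.app W).hom θ hθa hθs (fun l => fA (β l)) hspan
      (fun c => (bW.equivFun.symm c : Γ(H.left, H.hom ⁻¹ᵁ W))) bW.equivFun.symm.bijective
      (fun x y => map_add bW.equivFun.symm x y) (fun r x => map_smul bW.equivFun.symm r x) hm'
    refine ⟨?_, hmm⟩
    haveI : IsAffine (UY : Scheme.{u}) := hUY
    haveI : IsAffine (j0.left ⁻¹ᵁ UY : Scheme.{u}) := hUY.preimage j0.left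
    haveI : IsIso (j0.left.app UY) := by
      rw [ConcreteCategory.isIso_iff_bijective]
      refine ⟨fun s t hst => hθi ?_, j0.left.app_surjective UY hUY⟩
      show (j0.left.app UY ≫ H.left.presheaf.map _) s = (j0.left.app UY ≫ H.left.presheaf.map _) t
      rw [ConcreteCategory.comp_apply, ConcreteCategory.comp_apply, hst]
    haveI : IsIso (j0.left ∣_ UY).appTop := by
      rw [Scheme.Hom.appTop, morphismRestrict_app]
      have e : UY.ι ''ᵁ (⊤ : (UY : Scheme.{u}).Opens) = UY := UY.ι_image_top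
      haveI : IsIso (j0.left.app (UY.ι ''ᵁ ⊤)) := by rw [e]; infer_instance
      infer_instance
    rw [show (j0.left ∣_ UY) = (j0.left ⁻¹ᵁ UY : Scheme.{u}).isoSpec.hom ≫ Spec.map (j0.left ∣_ UY).appTop ≫
      (UY : Scheme.{u}).isoSpec.inv from by
        rw [← Category.assoc, Iso.eq_comp_inv]
        exact (Scheme.toSpecΓ_naturality (j0.left ∣_ UY))]
    infer_instance
  haveI hiso : IsIso j0.left := by
    choose W hW hWi _ using hloc
    exact (IsZariskiLocalAtTarget.iff_of_iSup_eq_top (P := MorphismProperty.isomorphisms Scheme)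
      (fun x => Limits.pullback.snd H'.hom σ ⁻¹ᵁ W x) (by
        refine TopologicalSpace.Opens.ext (Set.eq_univ_iff_forall.2 fun z => ?_)
        simp only [TopologicalSpace.Opens.coe_iSup, Set.mem_iUnion]
        exact ⟨Limits.pullback.snd H'.hom σ z, hW _⟩)).2 hWi
  have hmm : m' = m := let ⟨_, _, _, h⟩ := hloc x₀; h
  haveI : IsIso j0 := by
    haveI : IsIso ((Over.forget S).map j0) := hiso
    exact isIso_of_reflects_iso j0 (Over.forget S)
  -- subgroup
  haveI : LocallyOfFiniteType σ := inferInstance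
  obtain ⟨s, hs⟩ := FinCondH13.exists_section σ
  have hfac : ∀ {T : Over (Spec (CommRingCat.of k))} (x : T ⟶ G),
      (∃ z : (Over.pullback σ).obj T ⟶ H, z ≫ i = (Over.pullback σ).map x) → ∃ x' : T ⟶ H', x' ≫ j = x := by
    rintro T x ⟨z, hz⟩
    let sec : T.left ⟶ ((Over.pullback σ).obj T).left :=
      Limits.pullback.lift (𝟙 T.left) (T.hom ≫ s) (by rw [Category.assoc, hs, Category.id_comp, Category.comp_id])
    have h2 : sec ≫ z.left ≫ v ≫ jl = x.left := by
      rw [hv]
      show sec ≫ z.left ≫ i.left ≫ _ = _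
      rw [← Category.assoc z.left, ← Over.comp_left, hz]
      simp [Over.pullback, sec]
      exact Category.id_comp _
    refine ⟨Over.homMk (sec ≫ z.left ≫ v) (by
      show (sec ≫ z.left ≫ v) ≫ jl ≫ G.hom = T.hom
      rw [Category.assoc, Category.assoc, reassoc_of% h2]
      exact Over.w x), ?_⟩
    ext1
    show (sec ≫ z.left ≫ v) ≫ jl = _
    rw [Category.assoc, Category.assoc, h2]
  have hmap : ∀ {T : Over (Spec (CommRingCat.of k))} (x' : T ⟶ H'),
      ((Over.pullback σ).map x' ≫ inv j0) ≫ i = (Over.pullback σ).map (x' ≫ j) := fun x' => by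
    rw [Functor.map_comp, Category.assoc, ← hj0, IsIso.inv_hom_id_assoc]
  obtain ⟨mm, hmm'⟩ := hfac ((fst H' H' ≫ j) * (snd H' H' ≫ j))
    ⟨((Over.pullback σ).map (fst H' H') ≫ inv j0) * ((Over.pullback σ).map (snd H' H') ≫ inv j0), by
      rw [MonObj.mul_comp, hmap, hmap, Functor.map_mul]⟩
  obtain ⟨ee, hee⟩ := hfac (1 : 𝟙_ (Over (Spec (CommRingCat.of k))) ⟶ G)
    ⟨1, by rw [MonObj.one_comp, Functor.map_one]⟩
  obtain ⟨nn, hnn⟩ := hfac (j⁻¹) ⟨(inv j0)⁻¹, by
      rw [GrpObj.inv_comp, Functor.map_inv']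
      congr 1
      rw [← hj0, IsIso.inv_hom_id_assoc]⟩
  letI gH' : GrpObj H' := SubGrp13.grpObjOfMono j hmm' hee hnn
  haveI hjm : IsMonHom j := SubGrp13.isMonHom_grpObjOfMono j hmm' hee hnn
  haveI : Mono ((Over.pullback σ).map j) := inferInstance
  refine ⟨⟨H'⟩, j, hjm, hjl, asIso j0, ?_, hj0, ?_⟩
  · haveI : IsMonHom (j0 ≫ (Over.pullback σ).map j) := by rw [hj0]; infer_instance
    haveI : IsMonHom ((Over.pullback σ).map j) := inferInstance
    have hc : IsMonHom (j0 ≫ (Over.pullback σ).map j) := inferInstance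
    exact ⟨by
        show η ≫ j0 = η
        rw [← cancel_mono ((Over.pullback σ).map j), Category.assoc, hc.one_hom]
        exact (IsMonHom.one_hom ((Over.pullback σ).map j)).symm,
      by
        show μ ≫ j0 = (j0 ⊗ₘ j0) ≫ μ
        rw [← cancel_mono ((Over.pullback σ).map j), Category.assoc, hc.mul_hom, Category.assoc]
        refine Eq.trans ?_ (congrArg ((j0 ⊗ₘ j0) ≫ ·) (IsMonHom.mul_hom ((Over.pullback σ).map j)).symm)
        rw [← Category.assoc, MonoidalCategory.tensorHom_comp_tensorHom]⟩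
  · have h1 : (asIso j0).hom.left ≫ Limits.pullback.fst H'.hom σ = v := Limits.pullback.lift_fst _ _ _
    show Function.Bijective ((asIso j0).hom.left ≫ Limits.pullback.fst H'.hom σ).appTop.hom
    rw [h1]
    refine ⟨hvinj, ?_⟩
    have hb : Function.Injective vl.toLinearMap := hvinj
    exact (LinearMap.injective_iff_surjective_of_finrank_eq_finrank (f := vl.toLinearMap)
      (by rw [hΓ]; exact hmm)).1 hb

end Groth.Agent.S18761
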