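import Groth.Statements.S18762
import Groth.Agent.Lib.TorsorSch25.Field
import Mathlib.AlgebraicGeometry.Morphisms.FlatDescent
import Mathlib.AlgebraicGeometry.Morphisms.LocalFlatDescent
-- import your own Groth.Agent.* helpers here

set_option autoImplicit false
universe u
open CategoryTheory CategoryTheory.Limits MonoidalCategory CartesianMonoidalCategory MonObj GrpObj AlgebraicGeometry
open NonAbH1

namespace Groth.Agent.S18762

/-- Let X be a connected scheme over a field k with a rational point x, let G, G₁, G₂ be finite group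
schemes over k with homomorphisms φ₁ : G₁ → G and φ₂ : G₂ → G, and let T, T₁, T₂ be torsors over X
(fppf-locally trivial) under the base changes to X of G, G₁, G₂ respectively, each pointed by a
k-point lying over x. Let f₁ : T₁ → T and f₂ : T₂ → T be morphisms of pointed torsors: X-morphisms
which intertwine the actions along φ₁, φ₂ and send the marked points of T₁, T₂ to that of T. Then
the fibre product T₁ ×_T T₂ maps surjectively onto X. (The published statement assumes X also
quasi-compact and reduced and concludes that T₁ ×_T T₂ is a torsor over X; this row assumes only X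
connected and concludes that T₁ ×_T T₂ maps onto X.) -/
theorem result
    (k : Type u) [Field k] (X : Scheme.{u}) [X.Over (Spec (CommRingCat.of k))] [ConnectedSpace X]
    (x : Spec (CommRingCat.of k) ⟶ X) (hx : x ≫ (X ↘ Spec (CommRingCat.of k)) = 𝟙 _)
    (G G₁ G₂ : Over (Spec (CommRingCat.of k))) [GrpObj G] [GrpObj G₁] [GrpObj G₂]
    [IsFinite G.hom] [IsFinite G₁.hom] [IsFinite G₂.hom]
    (φ₁ : G₁ ⟶ G) (φ₂ : G₂ ⟶ G) [IsMonHom φ₁] [IsMonHom φ₂]
    (T T₁ T₂ : Over X)
    (a : AlgGrp.Action (Red.bc (X ↘ Spec (CommRingCat.of k)) G) T)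
    (a₁ : AlgGrp.Action (Red.bc (X ↘ Spec (CommRingCat.of k)) G₁) T₁)
    (a₂ : AlgGrp.Action (Red.bc (X ↘ Spec (CommRingCat.of k)) G₂) T₂)
    (hT : NonAbH1.IsTorsorFor Scheme.fppfPrecoverage a)
    (hT₁ : NonAbH1.IsTorsorFor Scheme.fppfPrecoverage a₁)
    (hT₂ : NonAbH1.IsTorsorFor Scheme.fppfPrecoverage a₂)
    (t : Spec (CommRingCat.of k) ⟶ T.left) (t₁ : Spec (CommRingCat.of k) ⟶ T₁.left)
    (t₂ : Spec (CommRingCat.of k) ⟶ T₂.left)
    (ht : t ≫ T.hom = x) (ht₁ : t₁ ≫ T₁.hom = x) (ht₂ : t₂ ≫ T₂.hom = x)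
    (f₁ : T₁ ⟶ T) (f₂ : T₂ ⟶ T)
    (hf₁ : AlgGrp.Action.IsEquivariant a₁ (a.restrict ((Over.pullback (X ↘ Spec (CommRingCat.of k))).map φ₁)) f₁)
    (hf₂ : AlgGrp.Action.IsEquivariant a₂ (a.restrict ((Over.pullback (X ↘ Spec (CommRingCat.of k))).map φ₂)) f₂)
    (hft₁ : t₁ ≫ f₁.left = t) (hft₂ : t₂ ≫ f₂.left = t) :
    Surjective (pullback f₁ f₂).hom := by
  let sX := X ↘ Spec (CommRingCat.of k)
  have hUO : ∀ {H : Over (Spec (CommRingCat.of k))} [GrpObj H] [IsFinite H.hom] {Y : Over X}
      {b : AlgGrp.Action (Red.bc sX H) Y}, NonAbH1.IsTorsorFor Scheme.fppfPrecoverage b →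
      UniversallyOpen Y.hom ∧ UniversallyClosed Y.hom := by
    intro H _ _ Y b hb
    have hb' : NonAbH1.IsTorsorFor Scheme.fpqcPrecoverage b :=
      ⟨hb.1, hb.2.choose, Scheme.fppfPrecoverage_le_fpqcPrecoverage _ hb.2.choose_spec.1, hb.2.choose_spec.2⟩
    haveI := Groth.Agent.TorsorSch25.flat_over_field H.hom
    haveI : LocallyOfFinitePresentation H.hom := inferInstance
    haveI : UniversallyOpen H.hom := inferInstance
    exact ⟨Groth.Agent.TorsorSch25.prop_of_isTorsorFor @UniversallyOpen hb'
        (MorphismProperty.pullback_snd (P := @UniversallyOpen) H.hom sX inferInstance),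
      Groth.Agent.TorsorSch25.prop_of_isTorsorFor @UniversallyClosed hb'
        (MorphismProperty.pullback_snd (P := @UniversallyClosed) H.hom sX inferInstance)⟩
  obtain ⟨hO₁, hC₁⟩ := hUO hT₁
  obtain ⟨hO₂, hC₂⟩ := hUO hT₂
  haveI : DiscreteTopology G.left := by
    haveI : IsAffine G.left := isAffine_of_isAffineHom G.hom
    have hf : (G.hom.appTop.hom.comp (Scheme.ΓSpecIso (CommRingCat.of k)).inv.hom).Finite :=
      G.hom.finite_appTop.comp (RingHom.Finite.of_surjective _
        (Scheme.ΓSpecIso (CommRingCat.of k)).commRingCatIsoToRingEquiv.symm.surjective)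
    letI : Algebra k Γ(G.left, ⊤) := (G.hom.appTop.hom.comp (Scheme.ΓSpecIso (CommRingCat.of k)).inv.hom).toAlgebra
    haveI : Module.Finite k Γ(G.left, ⊤) := hf
    haveI : IsArtinianRing Γ(G.left, ⊤) := IsArtinianRing.of_finite k _
    exact (show G.left ≃ₜ PrimeSpectrum Γ(G.left, ⊤) from G.left.isoSpec.hom.homeomorph).discreteTopology_iff.2
      inferInstance
  -- the diagonal of the torsor has clopen range
  have hA : IsClopen (Set.range (lift (𝟙 T) (𝟙 T)).left) := by
    let E : T ⟶ Red.bc sX G ⊗ T := lift (toUnit T ≫ η[Red.bc sX G]) (𝟙 T)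
    haveI hσ : IsIso (lift a.act (snd (Red.bc sX G) T)) := hT.1
    have hE : lift (𝟙 T) (𝟙 T) = E ≫ lift a.act (snd (Red.bc sX G) T) := by
      apply CartesianMonoidalCategory.hom_ext
      · have h := a.one_act
        simp only [Category.assoc, lift_fst, E]
        rw [show lift (toUnit T ≫ η[Red.bc sX G]) (𝟙 T) = (λ_ T).inv ≫ η[Red.bc sX G] ▷ T by
          apply CartesianMonoidalCategory.hom_ext <;> simp, Category.assoc, h, Iso.inv_hom_id]
      · simp [E]
    have hrange : Set.range E.left =
        ((pullback.fst (Red.bc sX G).hom T.hom ≫ pullback.fst G.hom sX : _ ⟶ G.left)) ⁻¹' Set.range η[G].left := by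
      have hEG : E.left ≫ pullback.fst (Red.bc sX G).hom T.hom ≫ pullback.fst G.hom sX =
          T.hom ≫ sX ≫ η[G].left := by
        have h1 : E.left ≫ pullback.fst (Red.bc sX G).hom T.hom = (toUnit T ≫ η[Red.bc sX G]).left := by
          change (E ≫ CartesianMonoidalCategory.fst (Red.bc sX G) T).left = _
          rw [lift_fst]
        have h2 : (η[Red.bc sX G]).left ≫ pullback.fst G.hom sX = sX ≫ η[G].left := by
          have he : η[Red.bc sX G] = Functor.LaxMonoidal.ε (Over.pullback sX) ≫ (Over.pullback sX).map η[G] := rfl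
          rw [he, Over.comp_left, Category.assoc]
          have h3 : ((Over.pullback sX).map η[G]).left ≫ pullback.fst G.hom sX =
              pullback.fst (𝟙_ (Over (Spec (CommRingCat.of k)))).hom sX ≫ η[G].left :=
            pullback.lift_fst _ _ _
          rw [h3, ← Category.assoc]
          congr 1
          have h4 := Over.w (Functor.LaxMonoidal.ε (Over.pullback sX))
          have h5 : pullback.fst (𝟙_ (Over (Spec (CommRingCat.of k)))).hom sX =
              pullback.snd (𝟙_ (Over (Spec (CommRingCat.of k)))).hom sX ≫ sX :=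
            (Category.comp_id _).symm.trans pullback.condition
          rw [h5, ← Category.assoc]
          exact (congrArg (· ≫ sX) h4).trans (Category.id_comp _)
        rw [← Category.assoc, h1, Over.comp_left, Category.assoc, h2]
        rfl
      apply Set.Subset.antisymm
      · rintro _ ⟨p, rfl⟩
        refine ⟨(T.hom ≫ sX) p, ?_⟩
        rw [← Scheme.Hom.comp_apply, ← Scheme.Hom.comp_apply, Category.assoc, hEG]
      · rintro z ⟨y, hy⟩
        let r : (Red.bc sX G ⊗ T).left ⟶ G.left :=
          pullback.fst (Red.bc sX G).hom T.hom ≫ pullback.fst G.hom sX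
        obtain ⟨u, hu, -⟩ := Scheme.Pullback.exists_preimage_pullback (f := r) (g := η[G].left) z y hy.symm
        refine ⟨(pullback.fst r η[G].left ≫ pullback.snd (Red.bc sX G).hom T.hom) u, ?_⟩
        rw [← Scheme.Hom.comp_apply]
        suffices h : (pullback.fst r η[G].left ≫ pullback.snd (Red.bc sX G).hom T.hom) ≫ E.left =
            pullback.fst r η[G].left by rw [h, hu]
        have hs : E.left ≫ pullback.snd (Red.bc sX G).hom T.hom = 𝟙 _ := by
          change (E ≫ CartesianMonoidalCategory.snd (Red.bc sX G) T).left = _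
          rw [lift_snd]; rfl
        have hc : pullback.snd (Red.bc sX G).hom T.hom ≫ T.hom =
            pullback.fst (Red.bc sX G).hom T.hom ≫ pullback.snd G.hom sX := pullback.condition.symm
        apply pullback.hom_ext
        · apply pullback.hom_ext
          · simp only [Category.assoc, hEG]
            rw [reassoc_of% hc, ← reassoc_of% (pullback.condition (f := G.hom) (g := sX))]
            have hc' : pullback.fst r η[G].left ≫ r = pullback.snd r η[G].left ≫ η[G].left := pullback.condition
            have hη : η[G].left ≫ G.hom = 𝟙 _ := Over.w η[G]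
            simp only [r, Category.assoc] at hc'
            rw [reassoc_of% hc', reassoc_of% hη, hc']
          · simp only [Category.assoc]
            have hw : E.left ≫ pullback.fst (Red.bc sX G).hom T.hom ≫ pullback.snd G.hom sX = T.hom := Over.w E
            rw [hw, hc]
        · simp only [Category.assoc, hs, Category.comp_id]
    rw [hE, Over.comp_left]
    have hcl : IsClopen (Set.range E.left) := by
      rw [hrange]
      exact (isClopen_discrete _).preimage (Scheme.Hom.continuous _)
    haveI : IsIso (lift a.act (snd (Red.bc sX G) T)).left :=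
      inferInstanceAs (IsIso ((Over.forget X).map (lift a.act (snd (Red.bc sX G) T))))
    let h := (lift a.act (snd (Red.bc sX G) T)).left.homeomorph
    rw [show Set.range (E.left ≫ (lift a.act (snd (Red.bc sX G) T)).left) = h '' Set.range E.left by
      rw [← Set.range_comp]; rfl]
    exact ⟨h.isClosedMap _ hcl.1, h.isOpenMap _ hcl.2⟩
  -- the image of the fibre product is clopen
  let q : (T₁ ⊗ T₂).left ⟶ (T ⊗ T).left :=
    (lift (CartesianMonoidalCategory.fst T₁ T₂ ≫ f₁) (CartesianMonoidalCategory.snd T₁ T₂ ≫ f₂)).left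
  have hrng : Set.range (pullback f₁ f₂).hom = (T₁ ⊗ T₂).hom '' (q ⁻¹' Set.range (lift (𝟙 T) (𝟙 T)).left) := by
    apply Set.Subset.antisymm
    · rintro _ ⟨p, rfl⟩
      refine ⟨(lift (pullback.fst f₁ f₂) (pullback.snd f₁ f₂)).left p, ⟨(pullback.fst f₁ f₂ ≫ f₁).left p, ?_⟩, ?_⟩
      · rw [← Scheme.Hom.comp_apply, ← Scheme.Hom.comp_apply, ← Over.comp_left, ← Over.comp_left]
        refine congrArg (fun e : (pullback f₁ f₂) ⟶ T ⊗ T => e.left p) ?_
        apply CartesianMonoidalCategory.hom_ext
        · simp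
        · simp [pullback.condition]
      · rw [← Scheme.Hom.comp_apply, Over.w]
    · rintro _ ⟨w, ⟨y, hy⟩, rfl⟩
      let U := pullback q (lift (𝟙 T) (𝟙 T)).left
      obtain ⟨u, hu, -⟩ := Scheme.Pullback.exists_preimage_pullback (f := q) (g := (lift (𝟙 T) (𝟙 T)).left) w y hy.symm
      let α : Over.mk (pullback.fst q (lift (𝟙 T) (𝟙 T)).left ≫ (T₁ ⊗ T₂).hom) ⟶ T₁ ⊗ T₂ :=
        Over.homMk (pullback.fst q _) rfl
      let β : Over.mk (pullback.fst q (lift (𝟙 T) (𝟙 T)).left ≫ (T₁ ⊗ T₂).hom) ⟶ T :=
        Over.homMk (pullback.snd q _) (by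
          have hc := congrArg (· ≫ (T ⊗ T).hom) (pullback.condition (f := q) (g := (lift (𝟙 T) (𝟙 T)).left))
          simp only [Category.assoc, q] at hc
          rw [Over.w, Over.w] at hc
          exact hc.symm)
      have hαβ : α ≫ lift (CartesianMonoidalCategory.fst T₁ T₂ ≫ f₁) (CartesianMonoidalCategory.snd T₁ T₂ ≫ f₂) =
          β ≫ lift (𝟙 T) (𝟙 T) := Over.OverMorphism.ext pullback.condition
      have e1 := congrArg (· ≫ CartesianMonoidalCategory.fst T T) hαβ
      have e2 := congrArg (· ≫ CartesianMonoidalCategory.snd T T) hαβ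
      simp only [Category.assoc, lift_fst, lift_snd, Category.comp_id] at e1 e2
      let r := pullback.lift (α ≫ CartesianMonoidalCategory.fst T₁ T₂) (α ≫ CartesianMonoidalCategory.snd T₁ T₂)
        (show _ ≫ f₁ = _ ≫ f₂ by rw [Category.assoc, Category.assoc, e1, e2])
      refine ⟨r.left u, ?_⟩
      rw [← Scheme.Hom.comp_apply, Over.w r, ← hu]
      rfl
  have hclopen : IsClopen (Set.range (pullback f₁ f₂).hom) := by
    have hWO : UniversallyOpen (T₁ ⊗ T₂).hom := by
      change UniversallyOpen (pullback.fst T₁.hom T₂.hom ≫ T₁.hom)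
      infer_instance
    have hWC : UniversallyClosed (T₁ ⊗ T₂).hom := by
      change UniversallyClosed (pullback.fst T₁.hom T₂.hom ≫ T₁.hom)
      infer_instance
    rw [hrng]
    have h := hA.preimage q.continuous
    exact ⟨(T₁ ⊗ T₂).hom.isClosedMap _ h.1, (T₁ ⊗ T₂).hom.isOpenMap _ h.2⟩
  have hne : (Set.range (pullback f₁ f₂).hom).Nonempty := by
    let a₁' : Over.mk x ⟶ T₁ := Over.homMk t₁ ht₁
    let a₂' : Over.mk x ⟶ T₂ := Over.homMk t₂ ht₂
    let r := pullback.lift a₁' a₂' (Over.OverMorphism.ext (hft₁.trans hft₂.symm))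
    exact ⟨_, ⟨r.left (IsLocalRing.closedPoint k), rfl⟩⟩
  exact ⟨Set.range_eq_univ.1 (hclopen.eq_univ hne)⟩

end Groth.Agent.S18762
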