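import Groth.Statements.S18763
import Groth.Agent.Lib.ChBal21.Basic

set_option autoImplicit false
universe u
open CategoryTheory CategoryTheory.Limits MonoidalCategory CartesianMonoidalCategory MonObj GrpObj AlgebraicGeometry
open AlgGrp

namespace Groth.Agent.S18763

/-- Let G be a finite group scheme over a field k and H a closed subgroup scheme of G, and let (Q, q₀)
with its G-action be the homogeneous space G/H for the fppf topology (the orbit map of q₀ is an fppf
H-torsor onto Q). Let N be a closed subgroup scheme of G which is the kernel of the action of G on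
Q: a point g of G with values in a k-scheme T factors through N exactly when g acts as the identity
on all points of Q with values in T-schemes. Then N (the core of H in G) is normal in G, is
contained in H, and contains every closed normal subgroup scheme of G which is contained in H. (The
published definition takes the core to be the kernel of the linear representation of G on the
coordinate ring of G/H; this is the same subgroup as the kernel of the action on G/H used here.) -/
theorem result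
    (k : Type u) [Field k]
    (G : Over (Spec (CommRingCat.of k))) [GrpObj G] [IsFinite G.hom]
    (H : Over (Spec (CommRingCat.of k))) [GrpObj H] (i : H ⟶ G) [IsMonHom i] [IsClosedImmersion i.left]
    (Q : Over (Spec (CommRingCat.of k))) (aQ : AlgGrp.Action G Q) (q₀ : 𝟙_ (Over (Spec (CommRingCat.of k))) ⟶ Q)
    (hQ : ChGrp.IsHomog Scheme.fppfPrecoverage i aQ q₀)
    (N : Over (Spec (CommRingCat.of k))) [GrpObj N] (n : N ⟶ G) [IsMonHom n] [IsClosedImmersion n.left]
    (hN : ∀ (T : Over (Spec (CommRingCat.of k))) (g : T ⟶ G),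
      (∃ g' : T ⟶ N, g' ≫ n = g) ↔
        ∀ (T' : Over (Spec (CommRingCat.of k))) (v : T' ⟶ T) (q : T' ⟶ Q), lift (v ≫ g) q ≫ aQ.act = q) :
    AlgGrp.IsNormalHom n ∧ (∃ m : N ⟶ H, m ≫ i = n) ∧
      ∀ (N' : Over (Spec (CommRingCat.of k))) [GrpObj N'] (n' : N' ⟶ G) [IsMonHom n'] [IsClosedImmersion n'.left],
        AlgGrp.IsNormalHom n' → (∃ m' : N' ⟶ H, m' ≫ i = n') → ∃ r : N' ⟶ N, r ≫ n = n' := by
  obtain ⟨-, hpb, htriv⟩ := hQ
  have ha1 : ∀ {T : Over (Spec (CommRingCat.of k))} (x : T ⟶ Q), lift (1 : T ⟶ G) x ≫ aQ.act = x :=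
    fun x => Groth.Agent.AlgGrpBasic19.act_one aQ x
  have hamul : ∀ {T : Over (Spec (CommRingCat.of k))} (g g' : T ⟶ G) (x : T ⟶ Q),
      lift (g * g') x ≫ aQ.act = lift g (lift g' x ≫ aQ.act) ≫ aQ.act :=
    fun g g' x => Groth.Agent.AlgGrpBasic19.act_mul aQ g g' x
  refine ⟨?_, ?_, ?_⟩
  · intro T g x
    obtain ⟨x', hx'⟩ := (hN T (g * (x ≫ n) * g⁻¹)).2 fun T' v q => by
      have h := (hN T (x ≫ n)).1 ⟨x, rfl⟩ T' v (lift (v ≫ g⁻¹) q ≫ aQ.act)
      rw [MonObj.comp_mul, MonObj.comp_mul, hamul, hamul, h, ← hamul, ← MonObj.comp_mul, mul_inv_cancel,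
        MonObj.comp_one, ha1]
    exact ⟨x', hx'.symm⟩
  · have h := (hN N n).1 ⟨𝟙 N, Category.id_comp n⟩ N (𝟙 N) (toUnit N ≫ q₀)
    rw [Category.id_comp] at h
    have e : (1 : N ⟶ G) ≫ aQ.orbitMap q₀ = n ≫ aQ.orbitMap q₀ := by
      rw [AlgGrp.Action.comp_orbitMap, AlgGrp.Action.comp_orbitMap, h, ha1]
    have h1 : hpb.lift 1 n e ≫ fst G H = 1 := hpb.lift_fst _ _ _
    have h2 := hpb.lift_snd _ _ e
    refine ⟨hpb.lift 1 n e ≫ snd G H, ?_⟩
    rw [show hpb.lift 1 n e = lift (1 : N ⟶ G) (hpb.lift 1 n e ≫ snd G H) by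
      ext
      · rw [lift_fst, h1]
      · rw [lift_snd], lift_whiskerLeft_assoc, ← Hom.mul_def, _root_.one_mul] at h2
    simpa using h2
  · intro N' _ n' _ _ hnorm hle
    obtain ⟨m', hm'⟩ := hle
    obtain ⟨r, hr⟩ := (hN N' n').2 fun T' v q => by
      obtain ⟨R, hR, hlift⟩ := Groth.Agent.ChBal21.exists_cover_lift (aQ.orbitMap q₀) htriv q
      refine Groth.Agent.ChBal21.hom_ext_over hR fun U f hf => ?_
      obtain ⟨p, hp⟩ := hlift f hf
      rw [← Category.assoc, comp_lift, ← Category.assoc _ v, ← hp, AlgGrp.Action.comp_orbitMap]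
      obtain ⟨n₁, hn₁⟩ := hnorm _ p⁻¹ (Groth.Agent.ChBal21.memHom f ≫ v)
      rw [_root_.inv_inv] at hn₁
      rw [← hamul, show ((Groth.Agent.ChBal21.memHom f ≫ v) ≫ n') * p = p * ((n₁ ≫ m') ≫ i) by
        rw [Category.assoc n₁, hm', ← hn₁, ← _root_.mul_assoc, ← _root_.mul_assoc, mul_inv_cancel, _root_.one_mul]]
      have e := hpb.w
      have h3 := congrArg (lift p (n₁ ≫ m') ≫ ·) e
      simp only [← Category.assoc, lift_fst, lift_whiskerLeft] at h3
      rw [← Hom.mul_def, AlgGrp.Action.comp_orbitMap, AlgGrp.Action.comp_orbitMap] at h3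
      exact h3.symm
    exact ⟨r, hr⟩

end Groth.Agent.S18763
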