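import Groth.Statements.S18764
-- import your own Groth.Agent.* helpers here
import Groth.Agent.Lib.FibreFlat25.Basic
import Groth.Agent.Lib.NoriPB21.Basic
import Groth.Agent.Lib.IsomTors25.Basic
import Groth.Agent.Lib.TorsorSch25.Normal
import Groth.Agent.Lib.RankOne16.Centre

set_option autoImplicit false
set_option linter.style.haveILetI false
set_option backward.isDefEq.respectTransparency false
set_option backward.isDefEq.respectTransparency.types false
universe u
open CategoryTheory CategoryTheory.Limits MonoidalCategory CartesianMonoidalCategory MonObj GrpObj AlgebraicGeometry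
open NonAbH1

namespace Groth.Agent.S18764

/-- Let k be a field and X a quasi-compact k-scheme, connected and reduced, having a k-point x; let G,
G₁, G₂ be finite group schemes over k with homomorphisms φ₁ : G₁ → G and φ₂ : G₂ → G, and let T, T₁,
T₂ be torsors over X (fppf-locally trivial) under the base changes to X of G, G₁, G₂ respectively,
each pointed by a k-point lying over x. Let f₁ : T₁ → T and f₂ : T₂ → T be morphisms of pointed
torsors: X-morphisms which intertwine the actions along φ₁, φ₂ and send the marked points of T₁, T₂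
to that of T. Let P be the fibre product group scheme G₁ ×_G G₂ with its projections π₁, π₂. Then
the fibre product T₁ ×_T T₂ carries an action of the base change of P for which both projections to
T₁ and T₂ are equivariant (along π₁, π₂) and which makes it a torsor over X (fppf-locally trivial).
(The published statement says that such an X has a fundamental group scheme; this row states the
closure of finite pointed torsors under fibre products to which it is reduced.) -/
theorem result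
    (k : Type u) [Field k] (X : Scheme.{u}) [X.Over (Spec (CommRingCat.of k))] [ConnectedSpace X]
    [CompactSpace X] [AlgebraicGeometry.IsReduced X]
    (x : Spec (CommRingCat.of k) ⟶ X) (hx : x ≫ (X ↘ Spec (CommRingCat.of k)) = 𝟙 _)
    (G G₁ G₂ : Over (Spec (CommRingCat.of k))) [GrpObj G] [GrpObj G₁] [GrpObj G₂]
    [IsFinite G.hom] [IsFinite G₁.hom] [IsFinite G₂.hom]
    (φ₁ : G₁ ⟶ G) (φ₂ : G₂ ⟶ G) [IsMonHom φ₁] [IsMonHom φ₂]
    (T T₁ T₂ : Over X)
    (a : AlgGrp.Action (Red.bc (X ↘ Spec (CommRingCat.of k)) G) T)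
    (a₁ : AlgGrp.Action (Red.bc (X ↘ Spec (CommRingCat.of k)) G₁) T₁)
    (a₂ : AlgGrp.Action (Red.bc (X ↘ Spec (CommRingCat.of k)) G₂) T₂)
    (hT : NonAbH1.IsTorsorFor Scheme.fppfPrecoverage a)
    (hT₁ : NonAbH1.IsTorsorFor Scheme.fppfPrecoverage a₁)
    (hT₂ : NonAbH1.IsTorsorFor Scheme.fppfPrecoverage a₂)
    (t : Spec (CommRingCat.of k) ⟶ T.left) (t₁ : Spec (CommRingCat.of k) ⟶ T₁.left)
    (t₂ : Spec (CommRingCat.of k) ⟶ T₂.left)
    (ht : t ≫ T.hom = x) (ht₁ : t₁ ≫ T₁.hom = x) (ht₂ : t₂ ≫ T₂.hom = x)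
    (f₁ : T₁ ⟶ T) (f₂ : T₂ ⟶ T)
    (hf₁ : AlgGrp.Action.IsEquivariant a₁ (a.restrict ((Over.pullback (X ↘ Spec (CommRingCat.of k))).map φ₁)) f₁)
    (hf₂ : AlgGrp.Action.IsEquivariant a₂ (a.restrict ((Over.pullback (X ↘ Spec (CommRingCat.of k))).map φ₂)) f₂)
    (hft₁ : t₁ ≫ f₁.left = t) (hft₂ : t₂ ≫ f₂.left = t)
    (P : Over (Spec (CommRingCat.of k))) [GrpObj P] (π₁ : P ⟶ G₁) (π₂ : P ⟶ G₂) [IsMonHom π₁] [IsMonHom π₂]
    (hP : IsPullback π₁ π₂ φ₁ φ₂) :
    ∃ c : AlgGrp.Action (Red.bc (X ↘ Spec (CommRingCat.of k)) P) (pullback f₁ f₂),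
      AlgGrp.Action.IsEquivariant c (a₁.restrict ((Over.pullback (X ↘ Spec (CommRingCat.of k))).map π₁)) (pullback.fst f₁ f₂) ∧
      AlgGrp.Action.IsEquivariant c (a₂.restrict ((Over.pullback (X ↘ Spec (CommRingCat.of k))).map π₂)) (pullback.snd f₁ f₂) ∧
      NonAbH1.IsTorsorFor Scheme.fppfPrecoverage c := by
  let g : X ⟶ Spec (CommRingCat.of k) := X ↘ Spec (CommRingCat.of k)
  let F := Over.pullback g
  obtain ⟨c, c1, c2, c3⟩ := NoriPB21.exists_action _ _ _ _ a a₁ a₂ f₁ f₂ hf₁ hf₂ hT.1 hT₁.1 hT₂.1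
    (hP.map (Over.pullback g))
  refine ⟨c, c1, c2, c3, ?_⟩
  have hfp : ∀ {H : Over X} {Y : Over X} [GrpObj H] {b : AlgGrp.Action H Y},
      NonAbH1.IsTorsorFor Scheme.fppfPrecoverage b → NonAbH1.IsTorsorFor Scheme.fpqcPrecoverage b :=
    fun h => ⟨h.1, h.2.choose, Scheme.fppfPrecoverage_le_fpqcPrecoverage _ h.2.choose_spec.1, h.2.choose_spec.2⟩
  haveI : IsFinite (Red.bc g G).hom := MorphismProperty.pullback_snd _ _ ‹IsFinite G.hom›
  haveI : IsFinite (Red.bc g G₁).hom := MorphismProperty.pullback_snd _ _ ‹IsFinite G₁.hom›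
  haveI : IsFinite (Red.bc g G₂).hom := MorphismProperty.pullback_snd _ _ ‹IsFinite G₂.hom›
  haveI : IsFinite T.hom := TorsorSch25.isFinite_of_isTorsorFor_fppf hT
  haveI : IsFinite T₁.hom := TorsorSch25.isFinite_of_isTorsorFor_fppf hT₁
  haveI : IsFinite T₂.hom := TorsorSch25.isFinite_of_isTorsorFor_fppf hT₂
  haveI := TorsorSch25.flat_descendsAlong.{u}
  haveI : Flat G₁.hom := inferInstance
  haveI : Flat G₂.hom := inferInstance
  haveI : LocallyOfFinitePresentation G₁.hom := inferInstance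
  haveI : LocallyOfFinitePresentation G₂.hom := inferInstance
  haveI : Flat T₁.hom := TorsorSch25.prop_of_isTorsorFor @Flat (hfp hT₁) (MorphismProperty.pullback_snd _ _ ‹Flat G₁.hom›)
  haveI : Flat T₂.hom := TorsorSch25.prop_of_isTorsorFor @Flat (hfp hT₂) (MorphismProperty.pullback_snd _ _ ‹Flat G₂.hom›)
  haveI : LocallyOfFinitePresentation T₁.hom := TorsorSch25.prop_of_isTorsorFor @LocallyOfFinitePresentation
    (hfp hT₁) (MorphismProperty.pullback_snd _ _ ‹LocallyOfFinitePresentation G₁.hom›)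
  haveI : LocallyOfFinitePresentation T₂.hom := TorsorSch25.prop_of_isTorsorFor @LocallyOfFinitePresentation
    (hfp hT₂) (MorphismProperty.pullback_snd _ _ ‹LocallyOfFinitePresentation G₂.hom›)
  -- the fibre product is finite over `X`
  haveI hZfin : IsFinite (pullback f₁ f₂).hom := by
    have h := (IsPullback.of_hasPullback f₁ f₂).map (Over.forget X)
    haveI : IsFinite (f₂.left ≫ T.hom) := by rw [Over.w f₂]; infer_instance
    haveI : IsFinite f₂.left := IsFinite.of_comp f₂.left T.hom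
    haveI : IsFinite (pullback.fst f₁ f₂).left := MorphismProperty.of_isPullback h.flip ‹IsFinite f₂.left›
    rw [← Over.w (pullback.fst f₁ f₂)]
    infer_instance
  haveI : IsFinite P.hom := by
    have h := hP.map (Over.forget (Spec (CommRingCat.of k)))
    haveI : IsFinite (φ₂.left ≫ G.hom) := by rw [Over.w φ₂]; infer_instance
    haveI : IsFinite φ₂.left := IsFinite.of_comp φ₂.left G.hom
    haveI : IsFinite π₁.left := MorphismProperty.of_isPullback h.flip ‹IsFinite φ₂.left›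
    rw [← Over.w π₁]
    infer_instance
  -- the difference of the images in `T`
  let W : Over X := T₁ ⊗ T₂
  haveI : IsFinite W.hom := inferInstanceAs (IsFinite (pullback.fst T₁.hom T₂.hom ≫ T₁.hom))
  haveI : Flat W.hom := inferInstanceAs (Flat (pullback.fst T₁.hom T₂.hom ≫ T₁.hom))
  haveI : LocallyOfFinitePresentation W.hom :=
    inferInstanceAs (LocallyOfFinitePresentation (pullback.fst T₁.hom T₂.hom ≫ T₁.hom))
  let δ : W ⟶ Red.bc g G := IsomTors25.diff hT.1 (fst T₁ T₂ ≫ f₁) (snd T₁ T₂ ≫ f₂)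
  have hδ : lift δ (fst T₁ T₂ ≫ f₁) ≫ a.act = snd T₁ T₂ ≫ f₂ := IsomTors25.diff_spec hT.1 _ _
  let δG : W.left ⟶ G.left := δ.left ≫ pullback.fst G.hom g
  let m : G₁ ⊗ G₂ ⟶ G := (snd G₁ G₂ ≫ φ₂)⁻¹ * (fst G₁ G₂ ≫ φ₁)
  haveI : IsLocallyArtinian (Spec (CommRingCat.of k)) := Scheme.isLocallyArtinianScheme_Spec.2 inferInstance
  haveI : IsLocallyArtinian G.left := IsLocallyArtinian.of_locallyQuasiFinite G.hom
  haveI : DiscreteTopology G.left := IsLocallyArtinian.discreteTopology
  let V : Set W.left := δG ⁻¹' Set.range m.left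
  have hV : IsClopen V := (isClopen_discrete _).preimage δG.continuous
  let S : Set X := W.hom '' V
  have hS : IsClopen S := ⟨W.hom.isClosedMap _ hV.1, W.hom.isOpenMap _ hV.2⟩
  have hne : S.Nonempty := by
    let T₀ : Over X := Over.mk x
    let b₁ : T₀ ⟶ T₁ := Over.homMk t₁ ht₁
    let b₂ : T₀ ⟶ T₂ := Over.homMk t₂ ht₂
    let ω : T₀ ⟶ W := lift b₁ b₂
    have hb : b₁ ≫ f₁ = b₂ ≫ f₂ := Over.OverMorphism.ext (hft₁.trans hft₂.symm)
    have h1 : ω ≫ δ = 1 := TorsorSch25.smul_cancel hT.1 (x := b₁ ≫ f₁) (by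
      have h := congrArg (ω ≫ ·) hδ
      simp only [ω, comp_lift_assoc, lift_fst_assoc, lift_snd_assoc] at h
      rw [AlgGrp.Action.lift_one_act, h, hb])
    let Tk : Over (Spec (CommRingCat.of k)) := Over.mk (x ≫ g)
    have hm : lift (1 : Tk ⟶ G₁) (1 : Tk ⟶ G₂) ≫ m = 1 := by
      simp only [m, MonObj.comp_mul, GrpObj.comp_inv, lift_fst_assoc, lift_snd_assoc, MonObj.one_comp,
        inv_one, _root_.one_mul]
    have hadj : ((Over.mapPullbackAdj g).homEquiv T₀ G) (1 : Tk ⟶ G) = 1 :=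
      mul_eq_left.mp (((RankOne16.homEquiv_mul g T₀ (1 : Tk ⟶ G) 1).symm).trans (by rw [_root_.mul_one]))
    have h2 : ω.left ≫ δG = (1 : Tk ⟶ G).left := by
      show ω.left ≫ δ.left ≫ pullback.fst G.hom g = _
      rw [← Category.assoc, ← Over.comp_left, h1, ← hadj]
      simp [Over.mapPullbackAdj]
    obtain ⟨z⟩ : Nonempty ↥T₀.left := inferInstanceAs (Nonempty (PrimeSpectrum k))
    refine ⟨_, ω.left z, ?_, rfl⟩
    show δG (ω.left z) ∈ Set.range m.left
    rw [← Scheme.Hom.comp_apply, h2, ← hm]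
    exact ⟨_, rfl⟩
  have hSuniv : S = Set.univ := hS.eq_univ hne
  haveI hsurj : Surjective (pullback f₁ f₂).hom := ⟨fun x' => by
    obtain ⟨w, hwV, rfl⟩ : x' ∈ S := hSuniv ▸ trivial
    let K := AlgebraicClosure (W.left.residueField w)
    let ω' : Spec (CommRingCat.of K) ⟶ W.left :=
      Spec.map (CommRingCat.ofHom (algebraMap (W.left.residueField w) K)) ≫ W.left.fromSpecResidueField w
    have hω' : ∀ z, ω' z = w := fun z => by
      show (W.left.fromSpecResidueField w) _ = w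
      exact Scheme.fromSpecResidueField_apply _ _
    let T₀ : Over X := Over.mk (ω' ≫ W.hom)
    let ω : T₀ ⟶ W := Over.homMk ω'
    let b₁ : T₀ ⟶ T₁ := ω ≫ fst T₁ T₂
    let b₂ : T₀ ⟶ T₂ := ω ≫ snd T₁ T₂
    let dd : T₀ ⟶ Red.bc g G := ω ≫ δ
    have hdd : lift dd (b₁ ≫ f₁) ≫ a.act = b₂ ≫ f₂ := by
      have h := congrArg (ω ≫ ·) hδ
      simpa only [comp_lift_assoc, dd, b₁, b₂, Category.assoc] using h
    let Tk : Over (Spec (CommRingCat.of k)) := (Over.map g).obj T₀
    let dd' : Tk ⟶ G := ((Over.mapPullbackAdj g).homEquiv T₀ G).symm dd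
    have hdd' : dd'.left = ω' ≫ δG := by
      simp [dd', dd, δG, ω, Over.mapPullbackAdj]
    -- lift to `G₁ ⊗ G₂`
    haveI : LocallyOfFiniteType m.left := by
      haveI : LocallyOfFiniteType (m.left ≫ G.hom) := by
        rw [Over.w m]
        exact inferInstanceAs (LocallyOfFiniteType (pullback.fst G₁.hom G₂.hom ≫ G₁.hom))
      exact locallyOfFiniteType_of_comp m.left G.hom
    let π : pullback m.left dd'.left ⟶ Spec (CommRingCat.of K) := pullback.snd _ _
    haveI : LocallyOfFiniteType π := inferInstanceAs (LocallyOfFiniteType (pullback.snd m.left dd'.left))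
    haveI : JacobsonSpace ↥(pullback m.left dd'.left) := LocallyOfFiniteType.jacobsonSpace π
    obtain ⟨z₀, -⟩ : IsLocalRing.closedPoint K ∈ Set.range π := by
      show _ ∈ Set.range (pullback.snd m.left dd'.left)
      rw [Scheme.Pullback.range_snd, Set.mem_preimage]
      show (dd'.left : _ ⟶ G.left) _ ∈ _
      rw [hdd', Scheme.Hom.comp_apply]
      exact Eq.subst (motive := fun q => δG q ∈ Set.range m.left) (hω' (IsLocalRing.closedPoint K)).symm hwV
    obtain ⟨z, -, hz⟩ := nonempty_inter_closedPoints (Z := (Set.univ : Set ↥(pullback m.left dd'.left)))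
      ⟨z₀, trivial⟩ isOpen_univ.isLocallyClosed
    let v : Tk ⟶ G₁ ⊗ G₂ := Over.homMk (pointOfClosedPoint π z hz ≫ pullback.fst m.left dd'.left) (by
      rw [Category.assoc, ← Over.w m, pullback.condition_assoc]
      exact ((Category.assoc _ _ _).symm.trans (congrArg (· ≫ dd'.left ≫ G.hom)
        (pointOfClosedPoint_comp π z hz))).trans ((Category.id_comp _).trans (Over.w dd')))
    have hv : v ≫ m = dd' := Over.OverMorphism.ext (by
      show (pointOfClosedPoint π z hz ≫ pullback.fst m.left dd'.left) ≫ m.left = dd'.left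
      rw [Category.assoc, pullback.condition]
      exact ((Category.assoc _ _ _).symm.trans (congrArg (· ≫ dd'.left)
        (pointOfClosedPoint_comp π z hz))).trans (Category.id_comp _))
    let g₁ : Tk ⟶ G₁ := v ≫ fst G₁ G₂
    let g₂ : Tk ⟶ G₂ := v ≫ snd G₁ G₂
    have hg : (g₂ ≫ φ₂) * dd' = g₁ ≫ φ₁ := by
      rw [← hv]
      simp only [m, g₁, g₂, MonObj.comp_mul, GrpObj.comp_inv, Category.assoc, mul_inv_cancel_left]
    let H₁ := (Over.mapPullbackAdj g).homEquiv T₀ G₁ g₁
    let H₂ := (Over.mapPullbackAdj g).homEquiv T₀ G₂ g₂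
    have hH : (H₂ ≫ F.map φ₂) * dd = H₁ ≫ F.map φ₁ := by
      show ((Over.mapPullbackAdj g).homEquiv T₀ G₂ g₂ ≫ F.map φ₂) * dd =
        (Over.mapPullbackAdj g).homEquiv T₀ G₁ g₁ ≫ F.map φ₁
      rw [← Adjunction.homEquiv_naturality_right, ← Adjunction.homEquiv_naturality_right, ← hg,
        show (g₂ ≫ φ₂) * dd' = (g₂ ≫ φ₂) * ((Over.mapPullbackAdj g).homEquiv T₀ G).symm dd from rfl,
        RankOne16.homEquiv_mul, Equiv.apply_symm_apply]
    let u : T₀ ⟶ pullback f₁ f₂ := pullback.lift (lift H₁ b₁ ≫ a₁.act) (lift H₂ b₂ ≫ a₂.act) (by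
      rw [Category.assoc, Category.assoc, NoriPB21.equiv_pts hf₁, NoriPB21.equiv_pts hf₂, ← hdd,
        ← AlgGrp.Action.lift_mul_act, ← hH])
    refine ⟨u.left (IsLocalRing.closedPoint K), ?_⟩
    rw [← Scheme.Hom.comp_apply, Over.w u]
    show (ω' ≫ W.hom) _ = _
    rw [Scheme.Hom.comp_apply, hω']⟩
  obtain ⟨hflat, hlfp⟩ := FibreFlat25.flat_lfp_of_fibres P.hom g (pullback f₁ f₂).hom fun K _ _ ξ => by
    let Z := pullback f₁ f₂
    let π : Limits.pullback Z.hom ξ ⟶ Spec (CommRingCat.of K) := Limits.pullback.snd Z.hom ξ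
    haveI : IsFinite π := MorphismProperty.pullback_snd _ _ hZfin
    haveI : Surjective π := MorphismProperty.pullback_snd _ _ hsurj
    haveI : JacobsonSpace ↥(Limits.pullback Z.hom ξ) := LocallyOfFiniteType.jacobsonSpace π
    obtain ⟨z₀, -⟩ := π.surjective (IsLocalRing.closedPoint K)
    obtain ⟨z, -, hz⟩ := nonempty_inter_closedPoints (Z := (Set.univ : Set ↥(Limits.pullback Z.hom ξ)))
      ⟨z₀, trivial⟩ isOpen_univ.isLocallyClosed
    let pt : 𝟙_ (Over (Spec (CommRingCat.of K))) ⟶ Red.bc ξ Z :=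
      Over.homMk (pointOfClosedPoint π z hz) (pointOfClosedPoint_comp π z hz)
    obtain ⟨e, -⟩ := TorsorSch25.exists_equivIso (NonAbH1.isPseudoTorsorSch_bc ξ c3) pt
    let e' : Red.bc ξ Z ≅ Red.bc (ξ ≫ g) P := e.iso.symm ≪≫ ActBC.bcCompIso ξ g P rfl
    exact ⟨(Over.forget _).mapIso e', Over.w e'.hom⟩
  haveI := hflat
  haveI := hlfp
  refine ⟨Presieve.singleton (pullback f₁ f₂).hom, Scheme.Hom.singleton_mem_fppfPrecoverage _, fun S' f hf => ?_⟩
  obtain ⟨⟩ := hf
  exact ⟨𝟙 _, Category.id_comp _⟩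

end Groth.Agent.S18764
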