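import Groth.Statements.S18770
import Groth.Agent.Lib.TFNodal17.Beta
-- import your own Groth.Agent.* helpers here

set_option autoImplicit false
universe u
open CategoryTheory CategoryTheory.Limits AlgebraicGeometry
open TFNodal

set_option backward.isDefEq.respectTransparency false
set_option backward.isDefEq.respectTransparency.types false
set_option maxHeartbeats 1000000
open Groth.Agent Groth.Agent.TFNodal17 Groth.Agent.CurveCoh17

namespace Groth.Agent.S18770

/-- Let k be algebraically closed of characteristic zero, X a connected proper curve over k (dimension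
one) whose closed points are smooth points or nodes, and π : Y → X its normalization, given as a
finite morphism from a smooth k-scheme that is an isomorphism over the complement U of the nodes
with dense preimage of U; let F be a coherent O_X-module, torsion free of rank r with type a(x) at
each node x (stalk free of rank r off the nodes, isomorphic to O_x^{a(x)} ⊕ m_x^{r − a(x)} at a node
x). Let p : π^*F → E₀ be an epimorphism onto a locally free O_Y-module of rank r (this pins E₀ as
π^*F modulo its torsion) and β : F → π_*E₀ the composite of the unit F → π_*π^*F with π_*p. Then β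
is a monomorphism, its cokernel has zero stalk off the nodes, and at a node x its cokernel has stalk
of length a(x). The published statement gives only the total length Σ a(x) over the nodes; the
statement here gives the length at each node. -/
theorem result (k : Type u) [Field k] [IsAlgClosed k] [CharZero k]
    (X : Scheme.{u}) [X.Over (Spec (CommRingCat.of k))] [IsProper (X ↘ Spec (CommRingCat.of k))]
    [ConnectedSpace X] (hdim : topologicalKrullDim X = 1) (hnod : Curv2.AtWorstNodal k X)
    (Y : Scheme.{u}) (π : Y ⟶ X) [IsFinite π] [Smooth (π ≫ (X ↘ Spec (CommRingCat.of k)))]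
    (U : X.Opens) (hU : ∀ x : X, x ∈ U ↔ ¬ Curv2.IsNode k X x) (hUiso : IsIso (π ∣_ U))
    (hUd : Dense ((π ⁻¹ᵁ U : Y.Opens) : Set Y))
    (r : ℕ) (F : X.Modules) (hF : Coh.IsCoh F) (a : X → ℕ)
    (hfree : ∀ x : X, ¬ Curv2.IsNode k X x →
      Nonempty (F.presheaf.stalk x ≃ₗ[X.presheaf.stalk x] (Fin r → X.presheaf.stalk x)))
    (htype : ∀ x : X, Curv2.IsNode k X x → a x ≤ r ∧
      Nonempty (F.presheaf.stalk x ≃ₗ[X.presheaf.stalk x]
        ((Fin (a x) → X.presheaf.stalk x) × (Fin (r - a x) → IsLocalRing.maximalIdeal (X.presheaf.stalk x)))))
    (E₀ : Y.Modules) (hE₀ : FlatMod.IsFinLocFreeOfRank r E₀)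
    (p : (Scheme.Modules.pullback π).obj F ⟶ E₀) [Epi p] :
    Mono ((Scheme.Modules.pullbackPushforwardAdjunction π).unit.app F ≫ (Scheme.Modules.pushforward π).map p) ∧
    (∀ x : X, Curv2.IsNode k X x →
      Module.length (X.presheaf.stalk x)
        ((cokernel ((Scheme.Modules.pullbackPushforwardAdjunction π).unit.app F ≫
          (Scheme.Modules.pushforward π).map p)).presheaf.stalk x) = (a x : ℕ∞)) ∧
    (∀ x : X, ¬ Curv2.IsNode k X x →
      Subsingleton ((cokernel ((Scheme.Modules.pullbackPushforwardAdjunction π).unit.app F ≫
          (Scheme.Modules.pushforward π).map p)).presheaf.stalk x)) := by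
  have D : Data k X π r F a := ⟨hdim, hnod, inferInstance, ⟨U, hU, hUiso, hUd⟩, hF, hfree, htype⟩
  refine ⟨(M1.mono_iff_stalk _).2 fun x => D.beta_injective hE₀ p x, fun x hx => ?_,
    fun x hx => S18913.subsingleton_coker _ (D.beta_surjective hE₀ p hx)⟩
  obtain ⟨c⟩ := nonempty_coker_stalk ((Scheme.Modules.pullbackPushforwardAdjunction π).unit.app F ≫
    (Scheme.Modules.pushforward π).map p) x
  rw [c.length_eq]
  exact D.beta_length hE₀ p hx

end Groth.Agent.S18770
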