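import Groth.Statements.S18771
import Groth.Agent.Lib.TFNodal17.Beta
import Groth.Agent.Lib.Spread17.Basic
import Groth.Agent.Lib.AmpleImm18.Completion
import Groth.Agent.Lib.FiltNeg17.Main
-- import your own Groth.Agent.* helpers here

set_option autoImplicit false
universe u
open CategoryTheory CategoryTheory.Limits AlgebraicGeometry
open TFNodal

set_option backward.isDefEq.respectTransparency false
set_option backward.isDefEq.respectTransparency.types false
set_option maxHeartbeats 1000000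

namespace Groth.Agent.S18771

noncomputable section

open Groth.Agent Groth.Agent.TFNodal17 Groth.Agent.CurveCoh17 TensorProduct

/-- Free extension of a map out of `R^a ⊕ m^b` divisible by an element of `m`. -/
theorem exists_extension {R : Type u} [CommRing R] [IsLocalRing R] {F P : Type u} [AddCommGroup F] [Module R F]
    [AddCommGroup P] [Module R P] {a b : ℕ}
    (e : F ≃ₗ[R] (Fin a → R) × (Fin b → IsLocalRing.maximalIdeal R)) (ι : F →ₗ[R] P) (hι : Function.Injective ι)
    {t : R} (htm : t ∈ IsLocalRing.maximalIdeal R) {t' : R} (htm' : t' ∈ IsLocalRing.maximalIdeal R)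
    (htn : t' ∈ nonZeroDivisors R) (Λ : F →ₗ[R] P)
    (hΛ : ∀ f, ι f = t • Λ f) :
    ∃ (C : Submodule R P) (ε : Fin b → P), C = LinearMap.range ι ⊔ Submodule.span R (Set.range ε) ∧
      Nonempty (C ≃ₗ[R] (Fin (a + b) → R)) ∧
      (∀ c ∈ IsLocalRing.maximalIdeal R, ∀ z ∈ C, c • z ∈ LinearMap.range ι) ∧
      Module.length R (C.map (LinearMap.range ι).mkQ) = (b : ℕ∞) := by
  classical
  let T : IsLocalRing.maximalIdeal R := ⟨t, htm⟩
  let ψ : (Fin a → R) × (Fin b → R) →ₗ[R] P :=
    LinearMap.coprod (Fintype.linearCombination R fun l => ι (e.symm (Pi.single l 1, 0)))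
      (Fintype.linearCombination R fun k => Λ (e.symm (0, Pi.single k T)))
  let inc : (Fin a → R) × (Fin b → IsLocalRing.maximalIdeal R) →ₗ[R] (Fin a → R) × (Fin b → R) :=
    LinearMap.prodMap LinearMap.id ((IsLocalRing.maximalIdeal R).subtype.compLeft (Fin b))
  have key : ∀ w, ψ (inc w) = ι (e.symm w) := fun w => by
    have hw : w = (∑ l, w.1 l • ((Pi.single l (1 : R) : Fin a → R), (0 : Fin b → IsLocalRing.maximalIdeal R))) +
        ∑ k, ((0 : Fin a → R), (Pi.single k (w.2 k) : Fin b → IsLocalRing.maximalIdeal R)) := by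
      refine Prod.ext (funext fun l => ?_) (funext fun k => Subtype.ext ?_)
      · simp [Prod.fst_sum, Pi.single_apply]
      · simp [Prod.snd_sum, Pi.single_apply, apply_ite (Subtype.val : IsLocalRing.maximalIdeal R → R)]
    have h2 : ∀ k, (w.2 k : R) • Λ (e.symm (0, Pi.single k T)) = ι (e.symm (0, Pi.single k (w.2 k))) := fun k => by
      rw [hΛ, ← map_smul, ← map_smul, ← map_smul, ← map_smul]
      congr 2
      refine Prod.ext (by simp) (funext fun j => Subtype.ext ?_)
      simp [Pi.single_apply, T, apply_ite (Subtype.val : IsLocalRing.maximalIdeal R → R), mul_comm]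
    show (∑ l, w.1 l • ι (e.symm (Pi.single l 1, 0))) + ∑ k, (w.2 k : R) • Λ (e.symm (0, Pi.single k T)) = _
    rw [Finset.sum_congr rfl fun k _ => h2 k]
    conv_rhs => rw [hw]
    simp only [map_add, map_sum, map_smul]
  have hinc : ∀ v, ∃ w, t' • v = inc w := fun v =>
    ⟨(t' • v.1, fun k => ⟨t' * v.2 k, Ideal.mul_mem_right _ _ htm'⟩), rfl⟩
  have hψ : Function.Injective ψ := by
    rw [injective_iff_map_eq_zero]
    intro v hv
    obtain ⟨w, hw⟩ := hinc v
    have h0 : w = 0 := e.symm.injective (hι (by rw [← key, ← hw, map_smul, hv, smul_zero, map_zero, map_zero]))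
    rw [h0, map_zero] at hw
    exact Prod.ext (funext fun l => (mem_nonZeroDivisors_iff_left.1 htn) _ (congrFun (congrArg Prod.fst hw) l))
      (funext fun k => (mem_nonZeroDivisors_iff_left.1 htn) _ (congrFun (congrArg Prod.snd hw) k))
  let ε : Fin b → P := fun k => Λ (e.symm (0, Pi.single k T))
  have hrange : LinearMap.range ψ = LinearMap.range ι ⊔ Submodule.span R (Set.range ε) := by
    refine le_antisymm ?_ (sup_le ?_ ?_)
    · rintro _ ⟨v, rfl⟩
      show (∑ l, v.1 l • ι (e.symm (Pi.single l 1, 0))) + ∑ k, v.2 k • Λ (e.symm (0, Pi.single k T)) ∈ _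
      refine Submodule.add_mem_sup (Submodule.sum_mem _ fun l _ => Submodule.smul_mem _ _ (LinearMap.mem_range_self ι _)) ?_
      exact Submodule.sum_mem _ fun k _ => Submodule.smul_mem _ _ (Submodule.subset_span ⟨k, rfl⟩)
    · rintro _ ⟨f, rfl⟩
      exact ⟨inc (e f), by rw [key, e.symm_apply_apply]⟩
    · rw [Submodule.span_le]
      rintro _ ⟨k, rfl⟩
      exact ⟨(0, Pi.single k 1), by simp [ψ, ε, Pi.single_apply]⟩
  refine ⟨LinearMap.range ψ, ε, hrange, ⟨(LinearEquiv.ofInjective ψ hψ).symm ≪≫ₗ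
    (LinearEquiv.sumArrowLequivProdArrow (Fin a) (Fin b) R R).symm ≪≫ₗ
    LinearEquiv.funCongrLeft R R finSumFinEquiv.symm⟩, ?_, ?_⟩
  · rintro c hc _ ⟨v, rfl⟩
    exact ⟨e.symm (c • v.1, fun k => ⟨c * v.2 k, Ideal.mul_mem_right _ _ hc⟩), by rw [← key, ← map_smul]; rfl⟩
  let g : (Fin a → R) × (Fin b → R) →ₗ[R] (Fin b → R ⧸ IsLocalRing.maximalIdeal R) :=
    ((IsLocalRing.maximalIdeal R).mkQ.compLeft (Fin b)) ∘ₗ LinearMap.snd R _ _
  have hg : Function.Surjective g := fun c => by
    choose d hd using fun k => (IsLocalRing.maximalIdeal R).mkQ_surjective (c k)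
    exact ⟨(0, d), funext hd⟩
  let q := (LinearMap.range ι).mkQ ∘ₗ ψ
  have hk : LinearMap.ker g = LinearMap.ker q := by
    ext v
    simp only [LinearMap.mem_ker]
    constructor
    · intro hv
      refine (Submodule.Quotient.mk_eq_zero _).2 ?_
      have hm : ∀ k, v.2 k ∈ IsLocalRing.maximalIdeal R := fun k => (Submodule.Quotient.mk_eq_zero _).1 (congrFun hv k)
      exact ⟨e.symm (v.1, fun k => ⟨v.2 k, hm k⟩), by rw [← key]; rfl⟩
    · intro hv
      obtain ⟨f, hf⟩ := (Submodule.Quotient.mk_eq_zero _).1 hv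
      have h : v = inc (e f) := hψ (by rw [key, e.symm_apply_apply, hf])
      funext k
      refine (Submodule.Quotient.mk_eq_zero _).2 ?_
      rw [h]
      exact ((e f).2 k).2
  haveI : IsSimpleModule R (R ⧸ IsLocalRing.maximalIdeal R) :=
    isSimpleModule_iff_quot_maximal.2 ⟨_, inferInstance, ⟨LinearEquiv.refl _ _⟩⟩
  rw [← LinearMap.range_comp, ← (q.quotKerEquivRange).length_eq, ← (Submodule.quotEquivOfEq _ _ hk).length_eq,
    (g.quotKerEquivOfSurjective hg).length_eq, Module.length_pi]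
  simp [(Module.length_eq_one_iff (R := R) (M := R ⧸ IsLocalRing.maximalIdeal R)).2 inferInstance]

variable {X : Scheme.{u}}

/-- Twisting by a section vanishing at a point. -/
theorem exists_tw_eq_smul {P : X.Modules} (hP : PicF.IsInvertible P) (σ : Coh.structureModule X ⟶ P) (A : X.Modules)
    {x : X} (hx : x ∉ CohB1.genLocus P σ) :
    ∃ t ∈ IsLocalRing.maximalIdeal (X.presheaf.stalk x),
      ∃ Λ : A.presheaf.stalk x →ₗ[X.presheaf.stalk x] (CohB1.tensorMod A P).presheaf.stalk x,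
        ∀ c, stalkLin (S18913.tw σ A) x c = t • Λ c := by
  obtain ⟨eP⟩ := nonempty_stalk_equiv ((M2.isInvertible_iff_isFinLocFreeOfRank_one P).1 hP) x
  obtain ⟨eO⟩ := nonempty_stalk_equiv
    ((M2.isInvertible_iff_isFinLocFreeOfRank_one _).1 (PicLoc.isInvertible_structureModule X)) x
  let g := eO ≪≫ₗ eP.symm
  let t := eP (stalkLin σ x (eO.symm 1)) 0
  have hσ : stalkLin σ x = t • g.toLinearMap := by
    refine LinearMap.ext fun c => eP.injective (funext fun i => ?_)
    obtain rfl : i = 0 := Subsingleton.elim _ _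
    have hc : c = eO c 0 • eO.symm 1 := eO.injective (funext fun i => by
      obtain rfl : i = 0 := Subsingleton.elim _ _
      simp)
    conv_lhs => rw [hc]
    simp [t, g, mul_comm]
  refine ⟨t, fun hu => hx ((Snapper.surjective_section_iff hP σ x).1 fun b => ?_),
    (stalkLin (M2.tensorComm P A).hom x) ∘ₗ (M2.stalkEquiv P A x).symm.toLinearMap ∘ₗ
      g.toLinearMap.rTensor (A.presheaf.stalk x) ∘ₗ (M2.stalkEquiv (Coh.structureModule X) A x).toLinearMap ∘ₗ
      stalkLin (M2.tensorLUnit A).inv x, fun c => ?_⟩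
  · refine ⟨(↑hu.unit⁻¹ : X.presheaf.stalk x) • g.symm b, ?_⟩
    rw [map_smul, hσ, LinearMap.smul_apply, ← mul_smul, IsUnit.val_inv_mul, one_smul]
    exact g.apply_symm_apply b
  · have h1 : stalkLin (S18913.tw σ A) x c = stalkLin (M2.tensorComm P A).hom x
        (stalkLin (M2.tensorMap σ (𝟙 A)) x (stalkLin (M2.tensorLUnit A).inv x c)) :=
      (stalkLin_comp _ _ x c).trans (stalkLin_comp _ _ x _)
    have h2 : stalkLin (M2.tensorMap σ (𝟙 A)) x (stalkLin (M2.tensorLUnit A).inv x c) =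
        t • (M2.stalkEquiv P A x).symm (g.toLinearMap.rTensor (A.presheaf.stalk x)
          (M2.stalkEquiv (Coh.structureModule X) A x (stalkLin (M2.tensorLUnit A).inv x c))) := by
      apply (M2.stalkEquiv P A x).injective
      rw [stalkEquiv_natural, map_smul, LinearEquiv.apply_symm_apply, hσ, LinearMap.rTensor_smul, LinearMap.smul_apply]
    rw [h1, h2, map_smul]
    rfl

/-- Global sections spanning a submodule of a stalk. -/
theorem range_desc {n : ℕ} {M : X.Modules} (τ : Fin n → Γ(M, ⊤)) (y : X) :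
    LinearMap.range (stalkLin (Sigma.desc fun i => M1.secHom (τ i) : FlatMod.freeMod X n ⟶ M) y) =
      Submodule.span (X.presheaf.stalk y) (Set.range fun i => M.presheaf.germ ⊤ y trivial (τ i)) := by
  classical
  let w : FlatMod.freeMod X n ⟶ M := Sigma.desc fun i => M1.secHom (τ i)
  let f := fun _ : Fin n => Coh.structureModule X
  let p : ∀ i : Fin n, FlatMod.freeMod X n ⟶ Coh.structureModule X := fun i =>
    Sigma.desc fun j => if j = i then 𝟙 _ else 0
  have hsum : ∑ i, p i ≫ Sigma.ι f i = 𝟙 (∐ f) := by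
    refine Sigma.hom_ext _ _ fun j => ?_
    rw [Preadditive.comp_sum, Category.comp_id, Finset.sum_eq_single j (fun i _ hi => by
      rw [← Category.assoc, show Sigma.ι f j ≫ p i = 0 from by simp [f, p, Ne.symm hi], zero_comp])
      (fun h => absurd (Finset.mem_univ j) h), ← Category.assoc,
      show Sigma.ι f j ≫ p j = 𝟙 _ from by simp [f, p], Category.id_comp]
  have hι : ∀ i, stalkLin w y (stalkLin (Sigma.ι f i) y
      ((Coh.structureModule X).presheaf.germ ⊤ y trivial (M1.one ⊤))) = M.presheaf.germ ⊤ y trivial (τ i) := fun i => by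
    rw [← stalkLin_comp, show Sigma.ι f i ≫ w = M1.secHom (τ i) from Sigma.ι_desc _ i, stalkLin_apply,
      M1.germ_naturality, M1.secHom_app_one]
  refine le_antisymm ?_ (Submodule.span_le.2 ?_)
  · rintro _ ⟨z, rfl⟩
    rw [← FiltNeg17.stalkLin_id y z, ← hsum, FiltNeg17.stalkLin_sum, map_sum]
    refine Submodule.sum_mem _ fun i _ => ?_
    obtain ⟨c, hc⟩ := (RH26.str y).surjective (stalkLin (p i) y z)
    rw [stalkLin_comp, ← hc, RH26.str_apply, map_smul, map_smul]
    refine Submodule.smul_mem _ _ ?_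
    have := hι i
    rw [show (Cyc26.oneStalk y) = (Coh.structureModule X).presheaf.germ ⊤ y trivial (M1.one ⊤) from rfl, this]
    exact Submodule.subset_span ⟨i, rfl⟩
  · rintro _ ⟨i, rfl⟩
    exact ⟨_, hι i⟩

/-- Let k be algebraically closed of characteristic zero, X a connected proper curve over k (dimension
one) whose closed points are smooth points or nodes, and π : Y → X its normalization, given as a
finite morphism from a smooth k-scheme that is an isomorphism over the complement U of the nodes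
with dense preimage of U; let F be a coherent O_X-module, torsion free of rank r with type a(x) at
each node x (stalk free of rank r off the nodes, isomorphic to O_x^{a(x)} ⊕ m_x^{r − a(x)} at a node
x). Then there are a locally free O_X-module G of rank r and a monomorphism j : F → G whose cokernel
has zero stalk off the nodes and, at each node x, stalk annihilated by the maximal ideal m_x and of
length r − a(x) (so G/F is the direct sum over the nodes of k(x)^{r − a(x)}). -/
theorem result (k : Type u) [Field k] [IsAlgClosed k] [CharZero k]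
    (X : Scheme.{u}) [X.Over (Spec (CommRingCat.of k))] [IsProper (X ↘ Spec (CommRingCat.of k))]
    [ConnectedSpace X] (hdim : topologicalKrullDim X = 1) (hnod : Curv2.AtWorstNodal k X)
    (Y : Scheme.{u}) (π : Y ⟶ X) [IsFinite π] [Smooth (π ≫ (X ↘ Spec (CommRingCat.of k)))]
    (U : X.Opens) (hU : ∀ x : X, x ∈ U ↔ ¬ Curv2.IsNode k X x) (hUiso : IsIso (π ∣_ U))
    (hUd : Dense ((π ⁻¹ᵁ U : Y.Opens) : Set Y))
    (r : ℕ) (F : X.Modules) (hF : Coh.IsCoh F) (a : X → ℕ)
    (hfree : ∀ x : X, ¬ Curv2.IsNode k X x →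
      Nonempty (F.presheaf.stalk x ≃ₗ[X.presheaf.stalk x] (Fin r → X.presheaf.stalk x)))
    (htype : ∀ x : X, Curv2.IsNode k X x → a x ≤ r ∧
      Nonempty (F.presheaf.stalk x ≃ₗ[X.presheaf.stalk x]
        ((Fin (a x) → X.presheaf.stalk x) × (Fin (r - a x) → IsLocalRing.maximalIdeal (X.presheaf.stalk x))))) :
    ∃ (G : X.Modules) (j : F ⟶ G), FlatMod.IsFinLocFreeOfRank r G ∧ Mono j ∧
      (∀ x : X, ¬ Curv2.IsNode k X x → Subsingleton ((cokernel j).presheaf.stalk x)) ∧
      (∀ x : X, Curv2.IsNode k X x →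
        IsLocalRing.maximalIdeal (X.presheaf.stalk x) • (⊤ : Submodule (X.presheaf.stalk x) ((cokernel j).presheaf.stalk x)) = ⊥ ∧
        Module.length (X.presheaf.stalk x) ((cokernel j).presheaf.stalk x) = ((r - a x : ℕ) : ℕ∞)) := by
  classical
  have D : Data k X π r F a := ⟨hdim, hnod, inferInstance, ⟨U, hU, hUiso, hUd⟩, hF, hfree, htype⟩
  haveI := D.noeth
  haveI := D.red
  haveI hFq : Coh.IsQCoh F := hF.1
  have hd1 : topologicalKrullDim X ≤ 1 := hdim.le
  have hnm : ∀ x : X, IsClosed ({x} : Set X) → ¬ FlatH4.IsMaxPt x := fun x hx => S18913.not_maxPt_of_closed hdim hx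
  -- no closed associated points
  have hass : ∀ x : X, IsClosed ({x} : Set X) → ¬ Curv2.IsAssPoint F x := fun x hx hass => by
    obtain ⟨p, q, ⟨e⟩⟩ := D.exists_type x
    let inc : (Fin p → X.presheaf.stalk x) × (Fin q → IsLocalRing.maximalIdeal (X.presheaf.stalk x)) →ₗ[X.presheaf.stalk x]
        (Fin p → X.presheaf.stalk x) × (Fin q → X.presheaf.stalk x) :=
      LinearMap.prodMap LinearMap.id ((IsLocalRing.maximalIdeal (X.presheaf.stalk x)).subtype.compLeft (Fin q))
    have hinc : Function.Injective inc := fun v w h => by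
      have h1 := congrArg Prod.fst h
      have h2 := congrArg Prod.snd h
      exact Prod.ext h1 (funext fun i => Subtype.ext (congrFun h2 i))
    obtain ⟨eN⟩ := nonempty_stalk_equiv (M2.isFinLocFreeOfRank_freeMod X (p + q)) x
    let L := ((LinearEquiv.sumArrowLequivProdArrow (Fin p) (Fin q) (X.presheaf.stalk x) (X.presheaf.stalk x)).symm ≪≫ₗ
      LinearEquiv.funCongrLeft (X.presheaf.stalk x) (X.presheaf.stalk x) finSumFinEquiv.symm)
    let em := eN.symm.toLinearMap ∘ₗ L.toLinearMap ∘ₗ inc ∘ₗ e.toLinearMap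
    refine S18913.not_isAssPoint_of_free eN (hnm x hx) (IsAssociatedPrime.map_of_injective (f := em) hass ?_)
    exact fun v w h => e.injective (hinc (L.injective (eN.symm.injective h)))
  have hnode : ∀ η : X, FlatH4.IsMaxPt η → ¬ Curv2.IsNode k X η := fun η hη => D.not_node_of_maxPt hη
  -- the first embedding
  obtain ⟨L, hL⟩ := AmpleImm18.exists_ample_of_finiteType (X ↘ Spec (CommRingCat.of k)) hd1
  obtain ⟨m, ι₀, hι₀, hcok₀⟩ := (S18913.result k X hdim L hL F hF r).1
    ⟨hass, fun η hη => hfree η (hnode η (S18913.isMaxPt_of_isField hη))⟩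
  obtain ⟨n, O, ⟨s, hs⟩, hmaxO, hOU, -⟩ := Amp.exists_affine_hasSec_finite hL (S18913.finite_maxPts X) (U := U)
    fun η hη => (hU η).2 (hnode η hη)
  have hM := M2.isInvertible_tensorPow hL.1 (n + 1)
  let P₀ : X.Modules := ∐ fun _ : Fin r => CohB1.tensorPow L m
  have hP₀ : FlatMod.IsFinLocFreeOfRank r P₀ := by
    obtain ⟨i⟩ := S18913.nonempty_copiesIso (CohB1.tensorPow L m) r
    have h := M2.isFinLocFreeOfRank_tensor (M2.isFinLocFreeOfRank_freeMod X r)
      ((M2.isInvertible_iff_isFinLocFreeOfRank_one _).1 (M2.isInvertible_tensorPow hL.1 m))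
    rw [Nat.mul_one] at h
    exact M2.isFinLocFreeOfRank_of_iso i h
  let P : X.Modules := CohB1.tensorMod P₀ (CohB1.tensorPow L (n + 1))
  have hP : FlatMod.IsFinLocFreeOfRank r P := by
    have h := M2.isFinLocFreeOfRank_tensor hP₀ ((M2.isInvertible_iff_isFinLocFreeOfRank_one _).1 hM)
    rwa [Nat.mul_one] at h
  have hPc : Coh.IsCoh P := CohFound.isCoh_of_isFinLocFree (M2.isFinLocFree_of_ofRank hP)
  let tP : P₀ ⟶ P := S18913.tw s P₀
  let ι : F ⟶ P := ι₀ ≫ tP
  have hι0inj : ∀ x, Function.Injective (stalkLin ι₀ x) := (M1.mono_iff_stalk ι₀).1 hι₀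
  have hιη : ∀ η : X, FlatH4.IsMaxPt η → Function.Bijective (stalkLin ι η) := fun η hη => by
    have he : ⇑(stalkLin ι η) = ⇑(stalkLin tP η) ∘ ⇑(stalkLin ι₀ η) := funext fun z => stalkLin_comp _ _ η z
    rw [he]
    exact (S18913.bijective_tw hM s P₀ (hs ▸ hmaxO hη)).comp ⟨hι0inj η,
      S18913.surjective_of_coker ι₀ (hcok₀ η (GenericZero.isField_stalk_of_maxPt hη))⟩
  haveI hιm : Mono ι := S18913.mono_of_maxPt hd1 ι hass fun η hη => (hιη η hη).1
  have hιinj : ∀ x, Function.Injective (stalkLin ι x) := (M1.mono_iff_stalk ι).1 hιm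
  -- the extension at the nodes
  have hext : ∀ x : X, Curv2.IsNode k X x → ∃ (C : Submodule (X.presheaf.stalk x) (P.presheaf.stalk x))
      (ε : Fin (r - a x) → P.presheaf.stalk x),
      C = LinearMap.range (stalkLin ι x) ⊔ Submodule.span (X.presheaf.stalk x) (Set.range ε) ∧
      Nonempty (C ≃ₗ[X.presheaf.stalk x] (Fin r → X.presheaf.stalk x)) ∧
      (∀ c ∈ IsLocalRing.maximalIdeal (X.presheaf.stalk x), ∀ z ∈ C, c • z ∈ LinearMap.range (stalkLin ι x)) ∧
      Module.length (X.presheaf.stalk x) (C.map (LinearMap.range (stalkLin ι x)).mkQ) = ((r - a x : ℕ) : ℕ∞) := by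
    intro x hx
    obtain ⟨hax, ⟨e⟩⟩ := htype x hx
    obtain ⟨t, ht, Λ, hΛ⟩ := exists_tw_eq_smul hM s P₀ (x := x) fun h => (hU x).1 (hOU (hs ▸ h)) hx
    obtain ⟨t', ht', htn'⟩ := D.exists_nzd hx
    have hΛι : ∀ f, stalkLin ι x f = t • Λ (stalkLin ι₀ x f) := fun f => (stalkLin_comp _ _ x f).trans (hΛ _)
    obtain ⟨C, ε, hC, ⟨eC⟩, hk, hl⟩ := exists_extension e (stalkLin ι x) (hιinj x) ht ht' htn' (Λ ∘ₗ stalkLin ι₀ x) hΛι
    exact ⟨C, ε, hC, ⟨eC ≪≫ₗ LinearEquiv.funCongrLeft _ _ (finCongr (Nat.add_sub_cancel' hax)).symm⟩, hk, hl⟩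
  choose C ε hCeq hCfree hCkill hClen using hext
  -- the torsion sheaf and the chosen sections
  let T := cokernel ι
  have hTc : Coh.IsCoh T := M1.isCoh_cokernel hFq hPc ι
  obtain ⟨S₀, hS₀⟩ := exists_suppIn_of_maximal hd1 hTc fun g hg => eq_zero_stalk_cokernel ι g (hιη g hg).2
  let N := (finite_nodes hdim hnod).toFinset
  have hN : ∀ x, x ∈ N ↔ Curv2.IsNode k X x := fun x => Set.Finite.mem_toFinset _
  have hS : SuppIn T (S₀ ∪ N) := hS₀.mono Finset.subset_union_left fun x hx =>
    (Finset.mem_union.1 hx).elim (hS₀.closed x) fun h => ((hN x).1 h).1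
  let I : Type u := Σ x : {x : X // x ∈ N}, Fin (r - a x.1)
  let v : I → ∀ y : X, T.presheaf.stalk y := fun i y =>
    if h : i.1.1 = y then h ▸ stalkLin (cokernel.π ι) i.1.1 (ε i.1.1 ((hN _).1 i.1.2) i.2) else 0
  choose τ hτ using fun i : I => hS.exists_section ⊤ (v i)
  let nI := Fintype.card I
  let eI : Fin nI ≃ I := (Fintype.equivFin I).symm
  let w : FlatMod.freeMod X nI ⟶ T := Sigma.desc fun i => M1.secHom (τ (eI i))
  have hw : ∀ (x : X), LinearMap.range (stalkLin w x) =
      Submodule.span (X.presheaf.stalk x) (Set.range fun i : I => T.presheaf.germ ⊤ x trivial (τ i)) := fun x => by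
    rw [range_desc, ← eI.surjective.range_comp fun i : I => T.presheaf.germ ⊤ x trivial (τ i)]
    rfl
  have hwbot : ∀ x : X, ¬ Curv2.IsNode k X x → LinearMap.range (stalkLin w x) = ⊥ := fun x hx => by
    rw [hw, Submodule.span_eq_bot]
    rintro _ ⟨i, rfl⟩
    by_cases hxS : x ∈ S₀ ∪ N
    · refine (hτ i x hxS trivial).trans ?_
      exact dif_neg fun (h : i.1.1 = x) => hx (h ▸ (hN _).1 i.1.2)
    · exact hS.zero x hxS _
  have hwnode : ∀ (x : X) (hx : Curv2.IsNode k X x), LinearMap.range (stalkLin w x) =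
      (C x hx).map (stalkLin (cokernel.π ι) x) := fun x hx => by
    rw [hw, hCeq x hx, Submodule.map_sup, Submodule.map_span]
    refine le_antisymm (Submodule.span_le.2 ?_) (sup_le ?_ (Submodule.span_le.2 ?_))
    · rintro _ ⟨⟨⟨y, hy⟩, l⟩, rfl⟩
      show T.presheaf.germ ⊤ x trivial (τ ⟨⟨y, hy⟩, l⟩) ∈ (_ : Submodule (X.presheaf.stalk x) (T.presheaf.stalk x))
      rw [hτ ⟨⟨y, hy⟩, l⟩ x (Finset.mem_union_right _ ((hN x).2 hx)) trivial]
      by_cases h : y = x
      · subst h
        rw [show v ⟨⟨y, hy⟩, l⟩ y = stalkLin (cokernel.π ι) y (ε y ((hN _).1 hy) l) from dif_pos rfl]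
        exact Submodule.mem_sup_right (Submodule.subset_span ⟨_, ⟨l, rfl⟩, rfl⟩)
      · rw [show v ⟨⟨y, hy⟩, l⟩ x = 0 from dif_neg h]
        exact Submodule.zero_mem _
    · rintro _ ⟨_, ⟨f, rfl⟩, rfl⟩
      rw [← stalkLin_comp, cokernel.condition, FiltNeg17.stalkLin_zero]
      exact Submodule.zero_mem _
    · rintro _ ⟨_, ⟨l, rfl⟩, rfl⟩
      refine Submodule.subset_span ⟨⟨⟨x, (hN x).2 hx⟩, l⟩, ?_⟩
      exact (hτ ⟨⟨x, (hN x).2 hx⟩, l⟩ x (Finset.mem_union_right _ ((hN x).2 hx)) trivial).trans (dif_pos rfl)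
  -- the modification
  let ρ : P ⟶ cokernel w := cokernel.π ι ≫ cokernel.π w
  have hwq : Coh.IsQCoh (cokernel w) :=
    (M1.isCoh_cokernel (M2.isQCoh_of_isFinLocFree (M2.isFinLocFree_of_ofRank (M2.isFinLocFreeOfRank_freeMod X nI))) hTc w).1
  let G := kernel ρ
  have hGc : Coh.IsCoh G := M1.isCoh_kernel hPc hwq ρ
  let κ : G ⟶ P := kernel.ι ρ
  let j : F ⟶ G := kernel.lift ρ ι (by simp [ρ])
  have hj : j ≫ κ = ι := kernel.lift_ι _ _ _
  haveI : Mono j := mono_of_mono_fac hj
  have hjs : ∀ x (f : F.presheaf.stalk x), stalkLin κ x (stalkLin j x f) = stalkLin ι x f := fun x f =>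
    (stalkLin_comp j κ x f).symm.trans (congrArg (fun φ => stalkLin φ x f) hj)
  have hκinj : ∀ x, Function.Injective (stalkLin κ x) := (M1.mono_iff_stalk κ).1 inferInstance
  have hκrange : ∀ x, LinearMap.range (stalkLin κ x) =
      (LinearMap.range (stalkLin w x)).comap (stalkLin (cokernel.π ι) x) := fun x => by
    ext z
    rw [Submodule.mem_comap]
    constructor
    · rintro ⟨g, rfl⟩
      refine (M1.exact_iff_stalk_eq_zero (ShortComplex.mk w (cokernel.π w) (cokernel.condition w))).1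
        (ShortComplex.exact_cokernel w) x _ ?_
      show stalkLin (cokernel.π w) x (stalkLin (cokernel.π ι) x (stalkLin κ x g)) = 0
      rw [← stalkLin_comp, ← stalkLin_comp, kernel.condition, FiltNeg17.stalkLin_zero]
    · intro hz
      obtain ⟨u, hu⟩ := hz
      refine (M1.exact_iff_stalk_eq_zero (ShortComplex.mk κ ρ (kernel.condition ρ))).1 (ShortComplex.exact_kernel ρ) x z ?_
      show stalkLin ρ x z = 0
      rw [stalkLin_comp, ← hu, ← stalkLin_comp, cokernel.condition, FiltNeg17.stalkLin_zero]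
  have hπ : ∀ x, LinearMap.ker (stalkLin (cokernel.π ι) x) = LinearMap.range (stalkLin ι x) := fun x => by
    refine le_antisymm (fun b hb => ?_) ?_
    · exact (M1.exact_iff_stalk_eq_zero (ShortComplex.mk ι (cokernel.π ι) (cokernel.condition _))).1
        (ShortComplex.exact_cokernel _) x b hb
    · rintro _ ⟨f, rfl⟩
      rw [LinearMap.mem_ker, ← stalkLin_comp, cokernel.condition, FiltNeg17.stalkLin_zero]
  have hκC : ∀ x (hx : Curv2.IsNode k X x), LinearMap.range (stalkLin κ x) = C x hx := fun x hx => by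
    rw [hκrange, hwnode x hx, Submodule.comap_map_eq, hπ, sup_eq_left, hCeq x hx]
    exact le_sup_left
  have hκι : ∀ x, ¬ Curv2.IsNode k X x → LinearMap.range (stalkLin κ x) = LinearMap.range (stalkLin ι x) :=
    fun x hx => by rw [hκrange, hwbot x hx, Submodule.comap_bot, hπ]
  have hGfree : ∀ x : X, Nonempty (G.presheaf.stalk x ≃ₗ[X.presheaf.stalk x] (Fin r → X.presheaf.stalk x)) := fun x => by
    by_cases hx : Curv2.IsNode k X x
    · obtain ⟨eC⟩ := hCfree x hx
      exact ⟨LinearEquiv.ofInjective _ (hκinj x) ≪≫ₗ LinearEquiv.ofEq _ _ (hκC x hx) ≪≫ₗ eC⟩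
    · obtain ⟨e⟩ := hfree x hx
      exact ⟨LinearEquiv.ofInjective _ (hκinj x) ≪≫ₗ LinearEquiv.ofEq _ _ (hκι x hx) ≪≫ₗ
        (LinearEquiv.ofInjective _ (hιinj x)).symm ≪≫ₗ e⟩
  refine ⟨G, j, fun y => ?_, inferInstance, fun x hx => S18913.subsingleton_coker j fun g => ?_, fun x hx => ?_⟩
  · obtain ⟨eG⟩ := hGfree y
    obtain ⟨eN⟩ := nonempty_stalk_equiv (M2.isFinLocFreeOfRank_freeMod X r) y
    obtain ⟨W, hyW, ⟨i⟩⟩ := Spread17.exists_restrict_iso_of_stalkEquiv hGc
      (CohFound.isCoh_of_isFinLocFree (M2.isFinLocFree_of_ofRank (M2.isFinLocFreeOfRank_freeMod X r))) (eG ≪≫ₗ eN.symm)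
    exact ⟨W, hyW, ⟨i ≪≫ M2.freeModRestrictIso W.ι r⟩⟩
  · obtain ⟨f, hf⟩ := (hκι x hx).le ⟨g, rfl⟩
    exact ⟨f, hκinj x (by rw [hjs, hf])⟩
  obtain ⟨c⟩ := nonempty_coker_stalk j x
  let q : (G.presheaf.stalk x : Type u) →ₗ[X.presheaf.stalk x]
      ((P.presheaf.stalk x : Type u) ⧸ LinearMap.range (stalkLin ι x)) :=
    (LinearMap.range (stalkLin ι x)).mkQ ∘ₗ stalkLin κ x
  have hq : LinearMap.range (stalkLin j x) = LinearMap.ker q := by
    ext g
    constructor
    · rintro ⟨f, rfl⟩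
      exact (Submodule.Quotient.mk_eq_zero _).2 ⟨f, (hjs x f).symm⟩
    · intro hg
      obtain ⟨f, hf⟩ := (Submodule.Quotient.mk_eq_zero _).1 hg
      exact ⟨f, hκinj x (by rw [hjs, hf])⟩
  have hqr : LinearMap.range q = (C x hx).map (LinearMap.range (stalkLin ι x)).mkQ := by
    rw [← hκC x hx]
    exact LinearMap.range_comp _ _
  let e := c ≪≫ₗ Submodule.quotEquivOfEq _ _ hq ≪≫ₗ q.quotKerEquivRange ≪≫ₗ LinearEquiv.ofEq _ _ hqr
  refine ⟨eq_bot_iff.2 (Submodule.smul_le.2 fun s hs z _ => ?_), e.length_eq.trans (hClen x hx)⟩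
  rw [Submodule.mem_bot]
  apply e.injective
  rw [map_smul, map_zero]
  obtain ⟨⟨_, ⟨z', hz', rfl⟩⟩, hz⟩ : ∃ p, p = e z := ⟨_, rfl⟩
  rw [← hz]
  refine Subtype.ext ?_
  exact (Submodule.Quotient.mk_eq_zero _).2 (hCkill x hx s hs z' hz')

end

end Groth.Agent.S18771
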