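import Groth.Statements.S18773
import Groth.Agent.Lib.Comp17.Bound

set_option autoImplicit false
set_option linter.style.haveILetI false
set_option backward.isDefEq.respectTransparency false
set_option backward.isDefEq.respectTransparency.types false
set_option maxHeartbeats 1000000
universe u
open CategoryTheory CategoryTheory.Limits AlgebraicGeometry
open VBCurve

namespace Groth.Agent.S18773

/-- Let k be algebraically closed of characteristic zero, Y a smooth proper k-scheme of dimension one,
possibly disconnected, L an ample invertible O_Y-module, r a natural number and d an integer, and S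
a family of locally free O_Y-modules of rank r and degree d (degree χ(E) − r·χ(O_Y)). For a module M
write χ for the Euler characteristic, M(n) = M ⊗ L^{⊗n} and α(M) = χ(M(1)) − χ(M) (the multiplicity:
leading coefficient of the Hilbert polynomial). Then S is bounded in the sense that for some n₀,
every E in S and every n ≥ n₀ have H¹(Y, E(n)) = 0 and E(n) globally generated, if and only if there
is a constant C such that for every E in S and every locally free quotient E → Q with α(Q) > 0 one
has χ(Q)/α(Q) − χ(E)/α(E) ≥ C (the minimal slope of a locally free quotient is at least the slope of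
E plus C; slopes deg/α differ from χ/α by the constant χ(O_Y)/deg L). -/
theorem result
    (k : Type u) [Field k] [IsAlgClosed k] [CharZero k]
    (Y : Scheme.{u}) [Y.Over (Spec (CommRingCat.of k))] [IsProper (Y ↘ Spec (CommRingCat.of k))]
    [Smooth (Y ↘ Spec (CommRingCat.of k))] (hdim : topologicalKrullDim Y = 1)
    (L : Y.Modules) (hL : CohB1.IsAmple L)
    (r : ℕ) (d : ℤ) (S : Set Y.Modules)
    (hS : ∀ E ∈ S, FlatMod.IsFinLocFreeOfRank r E ∧ Curv2.deg k Y E r = d) :
    (∃ n₀ : ℕ, ∀ n : ℕ, n₀ ≤ n → ∀ E ∈ S,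
        Subsingleton (Coh.HH Y (CohB1.tensorMod E (CohB1.tensorPow L n)) 1) ∧
        Curv2.IsGloballyGenerated (CohB1.tensorMod E (CohB1.tensorPow L n))) ↔
    (∃ C : ℤ, ∀ E ∈ S, ∀ (Q : Y.Modules) (p : E ⟶ Q), Epi p → FlatMod.IsFinLocFree Q →
        0 < Curv2.euler k Y (CohB1.tensorMod Q L) - Curv2.euler k Y Q →
        (C : ℚ) ≤ (Curv2.euler k Y Q : ℚ) / ((Curv2.euler k Y (CohB1.tensorMod Q L) - Curv2.euler k Y Q : ℤ) : ℚ)
          - (Curv2.euler k Y E : ℚ) / ((Curv2.euler k Y (CohB1.tensorMod E L) - Curv2.euler k Y E : ℤ) : ℚ)) := by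
  haveI : IsNoetherian Y := VB17.isNoetherian_of_over (k := k) (X := Y)
  have hY : CurveCoh17.CurveLike k Y := VB17.curveLike hdim
  haveI := hY.separated
  set χO : ℤ := Curv2.euler k Y (Coh.structureModule Y) with hχO
  set μ : ℚ := ((d + r * χO : ℤ) : ℚ) / ((r * (Curv2.euler k Y L - χO) : ℤ) : ℚ) with hμ
  have hval : ∀ E ∈ S, (Curv2.euler k Y E : ℚ) / ((Curv2.euler k Y (CohB1.tensorMod E L) - Curv2.euler k Y E : ℤ) : ℚ) = μ := by
    intro E hE
    obtain ⟨hr, hd⟩ := hS E hE
    rw [Curv2.deg] at hd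
    have h2 := hY.euler_tensor hr ((M2.isInvertible_iff_isFinLocFreeOfRank_one L).1 hL.1)
    simp only [Nat.cast_one, one_mul, mul_one] at h2
    rw [hμ, h2, show Curv2.euler k Y E = d + r * χO by rw [hχO]; linarith, hχO]
    congr 1
    push_cast
    ring
  constructor
  · rintro ⟨n₀, h⟩
    refine ⟨⌊-(n₀ : ℚ) - μ⌋, fun E hE Q p hp hQ ha => ?_⟩
    rw [hval E hE]
    refine le_trans (Int.floor_le _) (sub_le_sub_right ?_ μ)
    obtain ⟨h1, -⟩ := h n₀ le_rfl E hE
    have hQc : Coh.IsCoh Q := ⟨M2.isQCoh_of_isFinLocFree hQ, M1.isFP_isFT (M1.isFP_of_isFinLocFree hQ)⟩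
    have hLn : Coh.IsCoh (CohB1.tensorPow L n₀) := CurveCoh17.isCoh_of_ofRank
      ((M2.isInvertible_iff_isFinLocFreeOfRank_one _).1 (M2.isInvertible_tensorPow hL.1 n₀))
    have hE' := CurveCoh17.isCoh_tensor (CurveCoh17.isCoh_of_ofRank (hS E hE).1) hLn
    have hQ' := CurveCoh17.isCoh_tensor hQc hLn
    let φ := M2.tensorMap p (𝟙 (CohB1.tensorPow L n₀))
    haveI : Epi φ := CohFound.epi_tensorMap p _
    let T : ShortComplex Y.Modules := ShortComplex.mk (kernel.ι φ) φ (kernel.condition φ)
    have hT : T.ShortExact :=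
      { exact := ShortComplex.exact_of_f_is_kernel _ (kernelIsKernel _)
        mono_f := inferInstanceAs (Mono (kernel.ι φ))
        epi_g := inferInstanceAs (Epi φ) }
    haveI : Subsingleton (Coh.HH Y T.X₁ (1 + 1)) :=
      CurveCoh17.subsingleton_HH_of_dim hdim.le _ (M1.isQCoh_kernel hE'.1 hQ'.1 φ) 0
    haveI : Subsingleton (Coh.HH Y T.X₂ 1) := h1
    haveI : Subsingleton (Coh.HH Y (CohB1.tensorMod Q (CohB1.tensorPow L n₀)) 1) :=
      subsingleton_of_forall_eq 0 fun x => by
        obtain ⟨y, hy⟩ := (CurveCoh17.exact_hmap_hdelta k hT 1 x).1 (Subsingleton.elim _ _)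
        rw [← hy, Subsingleton.elim y 0, map_zero]
    have hχ : 0 ≤ Comp17.e k (CohB1.tensorMod Q (CohB1.tensorPow L n₀)) := by
      rw [Comp17.e, (hY.adm hQ').euler_eq, Module.finrank_zero_of_subsingleton (M := Coh.HH Y _ 1)]
      simp
    rw [Comp17.euler_twist hdim hL.1 hQc] at hχ
    rw [Comp17.e, Comp17.a] at hχ
    have ha' : (0 : ℚ) < ((Curv2.euler k Y (CohB1.tensorMod Q L) - Curv2.euler k Y Q : ℤ) : ℚ) := by exact_mod_cast ha
    rw [le_div_iff₀ ha']
    push_cast
    linarith
  · rintro ⟨C, hC⟩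
    obtain ⟨n₀, hn₀⟩ := Comp17.exists_bound (k := k) hdim hL S (fun E hE => (hS E hE).1) ((C : ℚ) + μ)
      fun E hE Q p hp hQ ha => by
        have ha' : 0 < Curv2.euler k Y (CohB1.tensorMod Q L) - Curv2.euler k Y Q := by
          rw [Comp17.a] at ha
          exact_mod_cast (by push_cast; exact ha : ((0 : ℤ) : ℚ) < ((Curv2.euler k Y (CohB1.tensorMod Q L) - Curv2.euler k Y Q : ℤ) : ℚ))
        have h := hC E hE Q p hp hQ ha'
        rw [hval E hE, le_sub_iff_add_le, le_div_iff₀ (by exact_mod_cast ha')] at h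
        rw [Comp17.a, Comp17.e]
        push_cast at h
        exact h
    refine ⟨n₀, fun n hn E hE => ⟨?_, ?_⟩⟩
    · exact Comp17.subsingleton_hh_iso (k := k) (M2.tensorLUnit _).symm 1
        (hn₀ n hn E hE _ Comp17.almostTriv_structureModule CurveCoh17.isCoh_structureModule)
    · have hEn : FlatMod.IsFinLocFreeOfRank r (CohB1.tensorMod E (CohB1.tensorPow L n)) := by
        simpa using M2.isFinLocFreeOfRank_tensor (hS E hE).1
          ((M2.isInvertible_iff_isFinLocFreeOfRank_one _).1 (M2.isInvertible_tensorPow hL.1 n))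
      refine RA.isGloballyGenerated_of_span _ fun y => ?_
      obtain ⟨x, hxy, hx⟩ := (isClosed_closure (s := ({y} : Set Y))).exists_closed_singleton
        ⟨y, subset_closure rfl⟩
      refine Comp17.span_germ_of_specializes (specializes_iff_mem_closure.2 hxy) hEn ?_
      exact VB17.span_germ_eq_top k hx hEn (hn₀ n hn E hE _ (Comp17.almostTriv_pointIdeal hdim hx)
        (CurveCoh17.isCoh_idealMod _))

end Groth.Agent.S18773
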