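import Groth.Statements.S18774
import Groth.Agent.Lib.VB17.Proper

set_option autoImplicit false
universe u
open CategoryTheory CategoryTheory.Limits AlgebraicGeometry
open VBCurve

namespace Groth.Agent.S18774

open CategoryTheory CategoryTheory.Limits AlgebraicGeometry Groth.Agent.VB17 Groth.Agent.CurveCoh17

/-- Let k be a finite field and C a smooth proper geometrically integral curve over k (proper, smooth
and geometrically integral over k, of dimension one), and write g = dim_k H^1(C, O_C). Let E be a
finite locally free O_C-module and F a finite locally free submodule of E of rank r' ≥ 1 (a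
monomorphism F → E). Then deg F ≤ r' · (dim_k H^0(C, E) + g − 1), that is, the slope of F is at most
h^0(C, E) + g − 1; here the degree of a rank-n locally free module G is χ(G) − n·χ(O_C). -/
theorem result (k : Type u) [Field k] [Finite k] (X : Scheme.{u}) [X.Over (Spec (CommRingCat.of k))]
    [IsProper (X ↘ Spec (CommRingCat.of k))] [Smooth (X ↘ Spec (CommRingCat.of k))]
    [GeometricallyIntegral (X ↘ Spec (CommRingCat.of k))] (hdim : topologicalKrullDim ↥X = 1)
    (E : X.Modules) (hE : FlatMod.IsFinLocFree E) (F : X.Modules) (r' : ℕ) (hr' : 0 < r')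
    (hF : FlatMod.IsFinLocFreeOfRank r' F) (i : F ⟶ E) [Mono i] :
    Curv2.deg k X F r' ≤ (r' : ℤ) * ((Module.finrank k (Coh.HH X E 0) : ℤ) + (Curv2.genus k X : ℤ) - 1) := by
  haveI := Groth.Agent.Unital.geometricallyConnected_of_geometricallyIntegral (X ↘ Spec (CommRingCat.of k))
  have hX := regCurve (k := k) hdim
  haveI := hX.integral
  obtain ⟨r, hr⟩ := exists_rank_of_isFinLocFree hE
  have h := deg_sub_le hX hr hF i
  haveI := hX.like.fin _ (isCoh_of_ofRank hF) 0
  have hp := h0_pos hX.like
  rw [Curv2.deg, hX.like.euler_structureModule, (hX.like.adm (isCoh_of_ofRank hF)).euler_eq]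
  haveI := hX.like.fin E (isCoh_of_ofRank hr) 0
  have hle : Module.finrank k (Coh.HH X F 0) ≤ Module.finrank k (Coh.HH X E 0) :=
    LinearMap.finrank_le_finrank_of_injective (f := hmap k i 0)
      (hmap_f_injective k (S := ShortComplex.mk i (cokernel.π i) (cokernel.condition i))
        { exact := ShortComplex.exact_of_g_is_cokernel _ (cokernelIsCokernel _) })
  have e1 := mul_le_mul_of_nonneg_left (show (1 : ℤ) ≤ Module.finrank k (Coh.HH X (Coh.structureModule X) 0) by exact_mod_cast hp)
    (show (0 : ℤ) ≤ r' by positivity)
  have e2 := mul_le_mul_of_nonneg_right (show (1 : ℤ) ≤ r' by exact_mod_cast hr')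
    (show (0 : ℤ) ≤ Module.finrank k (Coh.HH X E 0) by positivity)
  nlinarith [show (Module.finrank k (Coh.HH X F 0) : ℤ) ≤ Module.finrank k (Coh.HH X E 0) by exact_mod_cast hle,
    Int.natCast_nonneg (Module.finrank k (Coh.HH X F 1))]

end Groth.Agent.S18774
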