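import Groth.Statements.S18776
-- import your own Groth.Agent.* helpers here
import Groth.Agent.Lib.VB17.Copies
import Groth.Agent.Lib.VB17.Setup
import Groth.Agent.Lib.VB17.Proper
import Groth.Agent.Lib.CurveCoh17.DegTwo
import Groth.Agent.Lib.GeomRed18.Smooth
import Groth.Agent.Lib.GeomIrr18.Scheme
import Groth.Agent.S1536

set_option autoImplicit false
universe u
open CategoryTheory CategoryTheory.Limits AlgebraicGeometry
open VBCurve

namespace Groth.Agent.S18776

/-- Let k be a finite field and C a smooth proper geometrically integral curve over k (proper, smooth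
and geometrically integral over k, of dimension one) of genus one, i.e. dim_k H^1(C, O_C) = 1, with
a k-rational point O (an elliptic curve over k). Let F and F' be finite locally free O_C-modules of
ranks r ≥ 1 and s ≥ 1 such that F is semistable in the sense that deg G · rk F ≤ deg F · rk G for
every finite locally free submodule G of F of positive rank (the degree of a rank-n locally free
module being χ − n·χ(O_C)), and likewise for F'. Then for every finite locally free submodule G of F
⊗ F' of rank t ≥ 1 one has μ(G) − μ(F) − μ(F') ≤ 4, that is deg G · r · s ≤ t · (4 r s + deg F · s +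
deg F' · r). (The published statement takes F and F' arbitrary; that form fails for F the direct sum
of invertible modules of degrees 5 and −5 and F' = O_C, so both are taken semistable here, as the
published argument requires.) -/
theorem result (k : Type u) [Field k] [Finite k] (X : Scheme.{u}) [X.Over (Spec (CommRingCat.of k))]
    [IsProper (X ↘ Spec (CommRingCat.of k))] [Smooth (X ↘ Spec (CommRingCat.of k))]
    [GeometricallyIntegral (X ↘ Spec (CommRingCat.of k))] (hdim : topologicalKrullDim ↥X = 1)
    (hg : Curv2.genus k X = 1) (O : Spec (CommRingCat.of k) ⟶ X) (hO : O ≫ (X ↘ Spec (CommRingCat.of k)) = 𝟙 _)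
    (F F' : X.Modules) (r s : ℕ) (hr : 0 < r) (hs : 0 < s)
    (hF : FlatMod.IsFinLocFreeOfRank r F) (hF' : FlatMod.IsFinLocFreeOfRank s F')
    (hFss : (∀ (G : X.Modules) (r' : ℕ) (i : G ⟶ F), Mono i → 0 < r' → FlatMod.IsFinLocFreeOfRank r' G →
      Curv2.deg k X G r' * (r : ℤ) ≤ Curv2.deg k X F r * (r' : ℤ)))
    (hF'ss : (∀ (G : X.Modules) (r' : ℕ) (i : G ⟶ F'), Mono i → 0 < r' → FlatMod.IsFinLocFreeOfRank r' G →
      Curv2.deg k X G r' * (s : ℤ) ≤ Curv2.deg k X F' s * (r' : ℤ)))
    (G : X.Modules) (t : ℕ) (ht : 0 < t) (hG : FlatMod.IsFinLocFreeOfRank t G)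
    (i : G ⟶ CohB1.tensorMod F F') [Mono i] :
    Curv2.deg k X G t * (r : ℤ) * (s : ℤ) ≤
      (t : ℤ) * (4 * (r : ℤ) * (s : ℤ) + Curv2.deg k X F r * (s : ℤ) + Curv2.deg k X F' s * (r : ℤ)) := by
  classical
  haveI : GeometricallyConnected (X ↘ Spec (CommRingCat.of k)) :=
    Groth.Agent.GeomIrr.geometricallyConnected_of_irreducible _
  haveI : IsIntegral X := Groth.Agent.VB17.isIntegral_of_smooth (k := k)
  haveI : GeometricallyReduced (X ↘ Spec (CommRingCat.of k)) := Groth.Agent.GeomRed.geometricallyReduced_of_smooth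
  have h0 : Module.finrank k (Coh.HH X (Coh.structureModule X) 0) = 1 := Groth.Agent.S1536.result k X
  have hX : Groth.Agent.VB17.RegCurve k X := Groth.Agent.VB17.regCurve' hdim
  haveI := hX.like.noetherian
  have hbig := Groth.Agent.CurveCoh17.hasBigDeg_of_regCurve hX hdim
  have hreg : ∀ x : X, IsRegularLocalRing (X.presheaf.stalk x) := fun x =>
    Groth.Agent.SmoothReg17.isRegularLocalRing_stalk (X ↘ Spec (CommRingCat.of k)) x
  obtain ⟨P, hP, hP1⟩ := Groth.Agent.VB17.exists_rational_closed O hO
  obtain ⟨N, hN, hdN⟩ := Groth.Agent.VB17.exists_invertible_deg_of_rational hX.like hdim hreg hP hP1 1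
  obtain ⟨L, hL, hdL⟩ := Groth.Agent.VB17.exists_invertible_deg_of_rational hX.like hdim hreg hP hP1
    (Curv2.deg k X F r / r + 2)
  have hd1 := Int.emod_lt_of_pos (Curv2.deg k X F r) (show (0 : ℤ) < r by omega)
  have hd2 := Int.emod_nonneg (Curv2.deg k X F r) (show (r : ℤ) ≠ 0 by omega)
  have hd3 := Int.emod_add_ediv_mul (Curv2.deg k X F r) r
  obtain ⟨M, -, j, hj⟩ := Groth.Agent.VB17.exists_mono_copies hX h0 hbig hg hN hdN hL hF hFss
    (by rw [hdL]; linarith)
  haveI := hj
  haveI : Mono (Groth.Agent.M2.tensorMap j (𝟙 F')) :=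
    (Groth.Agent.CurveCoh17.shortExact_tensorR (S := ShortComplex.mk j (cokernel.π j) (cokernel.condition j))
      { exact := ShortComplex.exact_of_g_is_cokernel _ (cokernelIsCokernel _) } F'
      (Groth.Agent.VB17.flat_stalk_of_rank hF')).mono_f
  have h := Groth.Agent.VB17.deg_sub_tensor_le hX h0 hbig hg hL hs hF' hF'ss M hG
    (i ≫ Groth.Agent.M2.tensorMap j (𝟙 F')) (mono_comp _ _)
  rw [hdL] at h
  have h2 := mul_le_mul_of_nonneg_right h (show (0 : ℤ) ≤ r by positivity)
  have h3 : (Curv2.deg k X F r / r + 2) * r ≤ Curv2.deg k X F r + 4 * r := by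
    rw [add_mul]; linarith
  have h4 := mul_le_mul_of_nonneg_left h3 (show (0 : ℤ) ≤ (t : ℤ) * s by positivity)
  linarith

end Groth.Agent.S18776
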