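import Groth.Statements.S18779
-- import your own Groth.Agent.* helpers here
import Groth.Agent.Lib.VB17.ExtVanish
import Groth.Agent.Lib.VB17.Setup
import Groth.Agent.Lib.CurveCoh17.DegTwo
import Groth.Agent.Lib.GeomRed18.Smooth
import Groth.Agent.Lib.GeomIrr18.Scheme
import Groth.Agent.S1536

set_option autoImplicit false
universe u
open CategoryTheory CategoryTheory.Limits AlgebraicGeometry
open VBCurve

namespace Groth.Agent.S18779

/-- Let k be a finite field and C a smooth proper geometrically integral curve over k (proper, smooth
and geometrically integral over k, of dimension one) of genus one, i.e. dim_k H^1(C, O_C) = 1, with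
a k-rational point O (an elliptic curve over k). Let 0 → A → E → B → 0 be a short exact sequence of
O_C-modules in which A and B are finite locally free of ranks a ≥ 1 and b ≥ 1, A is semistable in
the sense that deg G · rk A ≤ deg A · rk G for every finite locally free submodule G of A of
positive rank (the degree of a rank-n locally free module being χ − n·χ(O_C)), likewise for B, and
μ(A) > μ(B), that is deg B · a < deg A · b. Then the sequence splits: E → B is a split epimorphism,
so E ≅ A ⊕ B. (This is the case of a two-step filtration; the published statement, that a vector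
bundle on an elliptic curve is the direct sum of the graded pieces of its Harder–Narasimhan
filtration, follows by induction on the length and is not restated in that form.) (The published
setting takes k of characteristic at least 5; the argument does not use this and the row allows
every finite field.) -/
theorem result (k : Type u) [Field k] [Finite k] (X : Scheme.{u}) [X.Over (Spec (CommRingCat.of k))]
    [IsProper (X ↘ Spec (CommRingCat.of k))] [Smooth (X ↘ Spec (CommRingCat.of k))]
    [GeometricallyIntegral (X ↘ Spec (CommRingCat.of k))] (hdim : topologicalKrullDim ↥X = 1)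
    (hg : Curv2.genus k X = 1) (O : Spec (CommRingCat.of k) ⟶ X) (hO : O ≫ (X ↘ Spec (CommRingCat.of k)) = 𝟙 _)
    (T : ShortComplex X.Modules) (hT : T.ShortExact)
    (a b : ℕ) (ha : 0 < a) (hb : 0 < b)
    (hA : FlatMod.IsFinLocFreeOfRank a T.X₁) (hB : FlatMod.IsFinLocFreeOfRank b T.X₃)
    (hAss : (∀ (G : X.Modules) (r' : ℕ) (i : G ⟶ T.X₁), Mono i → 0 < r' → FlatMod.IsFinLocFreeOfRank r' G →
      Curv2.deg k X G r' * (a : ℤ) ≤ Curv2.deg k X T.X₁ a * (r' : ℤ)))
    (hBss : (∀ (G : X.Modules) (r' : ℕ) (i : G ⟶ T.X₃), Mono i → 0 < r' → FlatMod.IsFinLocFreeOfRank r' G →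
      Curv2.deg k X G r' * (b : ℤ) ≤ Curv2.deg k X T.X₃ b * (r' : ℤ)))
    (hslope : Curv2.deg k X T.X₃ b * (a : ℤ) < Curv2.deg k X T.X₁ a * (b : ℤ)) :
    IsSplitEpi T.g := by
  classical
  haveI : GeometricallyConnected (X ↘ Spec (CommRingCat.of k)) :=
    Groth.Agent.GeomIrr.geometricallyConnected_of_irreducible _
  haveI : IsIntegral X := Groth.Agent.VB17.isIntegral_of_smooth (k := k)
  haveI : GeometricallyReduced (X ↘ Spec (CommRingCat.of k)) := Groth.Agent.GeomRed.geometricallyReduced_of_smooth
  have h0 : Module.finrank k (Coh.HH X (Coh.structureModule X) 0) = 1 := Groth.Agent.S1536.result k X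
  have hX : Groth.Agent.VB17.RegCurve k X := Groth.Agent.VB17.regCurve' hdim
  haveI := hX.like.noetherian
  have hbig := Groth.Agent.CurveCoh17.hasBigDeg_of_regCurve hX hdim
  exact Groth.Agent.VB17.isSplitEpi_of_hom_zero hX h0 hbig hg hT hA (Groth.Agent.M2.isFinLocFree_of_ofRank hB)
    fun f => Groth.Agent.VB17.hom_eq_zero_of_slope_gt hX ha hb hA hB hAss hBss hslope f

end Groth.Agent.S18779
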