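import Groth.Statements.S18783
import Groth.Agent.Lib.KS29.Descent
import Groth.Agent.Lib.CurveCoh17.Degree
import Groth.Agent.Lib.ModM1.FibreProd
import Groth.Agent.Lib.AutCard17.Curve
-- import your own Groth.Agent.* helpers here

set_option autoImplicit false
universe u
open CategoryTheory CategoryTheory.Limits AlgebraicGeometry
open VBCurve

namespace Groth.Agent.S18783

/-- Let k be a finite field and C a smooth proper geometrically integral curve over k (proper, smooth
and geometrically integral over k, of dimension one) of genus one, i.e. dim_k H^1(C, O_C) = 1, with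
a k-rational point O (an elliptic curve over k); finiteness of k matters. Let G and G' be finite
locally free O_C-modules of rank 2 such that G is indecomposable (nonzero, no isomorphism with a
direct sum of two nonzero modules) but not geometrically indecomposable (its pull-back to C_K splits
into two nonzero summands for some field extension K of k, taken in the universe of k), and likewise
G'; put E = O_C ⊕ G and E' = O_C ⊕ G' (rank 3). Let k₂ be a degree-2 field extension of k and π :
C_{k₂} → C the projection. Then E ≅ E' if and only if π^*E ≅ π^*E'. (The published setting takes k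
of characteristic at least 5; the argument does not use this and the row allows every finite field.) -/
theorem result (k : Type u) [Field k] [Finite k] (X : Scheme.{u}) [X.Over (Spec (CommRingCat.of k))]
    [IsProper (X ↘ Spec (CommRingCat.of k))] [Smooth (X ↘ Spec (CommRingCat.of k))]
    [GeometricallyIntegral (X ↘ Spec (CommRingCat.of k))] (hdim : topologicalKrullDim ↥X = 1)
    (hg : Curv2.genus k X = 1) (O : Spec (CommRingCat.of k) ⟶ X) (hO : O ≫ (X ↘ Spec (CommRingCat.of k)) = 𝟙 _)
    (G G' : X.Modules) (hG : FlatMod.IsFinLocFreeOfRank 2 G) (hG' : FlatMod.IsFinLocFreeOfRank 2 G')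
    (hGi : (¬ IsZero G ∧ ∀ (E₁ E₂ : X.Modules), Nonempty (G ≅ E₁ ⊞ E₂) → IsZero E₁ ∨ IsZero E₂)) (hGng : (∃ (K : Type u) (_ : Field K) (_ : Algebra k K) (E₁ E₂ : (Curv2.bc k X K).Modules),
      ¬ IsZero E₁ ∧ ¬ IsZero E₂ ∧ Nonempty ((Scheme.Modules.pullback (Curv2.bcFst k X K)).obj G ≅ E₁ ⊞ E₂)))
    (hG'i : (¬ IsZero G' ∧ ∀ (E₁ E₂ : X.Modules), Nonempty (G' ≅ E₁ ⊞ E₂) → IsZero E₁ ∨ IsZero E₂)) (hG'ng : (∃ (K : Type u) (_ : Field K) (_ : Algebra k K) (E₁ E₂ : (Curv2.bc k X K).Modules),
      ¬ IsZero E₁ ∧ ¬ IsZero E₂ ∧ Nonempty ((Scheme.Modules.pullback (Curv2.bcFst k X K)).obj G' ≅ E₁ ⊞ E₂)))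
    (k₂ : Type u) [Field k₂] [Algebra k k₂] (hk₂ : Module.finrank k k₂ = 2) :
    Nonempty ((Coh.structureModule X ⊞ G) ≅ (Coh.structureModule X ⊞ G')) ↔
      Nonempty ((Scheme.Modules.pullback (Curv2.bcFst k X k₂)).obj (Coh.structureModule X ⊞ G) ≅ (Scheme.Modules.pullback (Curv2.bcFst k X k₂)).obj (Coh.structureModule X ⊞ G')) := by
  refine ⟨fun ⟨e⟩ => ⟨(Scheme.Modules.pullback (Curv2.bcFst k X k₂)).mapIso e⟩, fun ⟨e⟩ => ?_⟩
  haveI : Module.Finite k k₂ := Module.finite_of_finrank_eq_succ hk₂
  haveI : IsLocallyNoetherian X := KS29.isLocallyNoetherian_of (X ↘ Spec (CommRingCat.of k))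
  have hOc : Coh.IsCoh (Coh.structureModule X) := CurveCoh17.isCoh_of_ofRank
    ((M2.isInvertible_iff_isFinLocFreeOfRank_one _).1 (PicLoc.isInvertible_structureModule X))
  exact KS29.iso_of_bc_iso (K := k₂) (X ↘ Spec (CommRingCat.of k)) (M1.isCoh_biprod hOc (CurveCoh17.isCoh_of_ofRank hG))
    (M1.isCoh_biprod hOc (CurveCoh17.isCoh_of_ofRank hG')) e

end Groth.Agent.S18783
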