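import Groth.Statements.S18784
import Groth.Agent.Lib.DlzCurve17.Duality
import Groth.Agent.Lib.ThetaGrp19.Scalar
import Groth.Agent.Lib.CurveCoh17.Degree
import Groth.Agent.Lib.RigidRel.Const
import Groth.Agent.Lib.AutCard17.Curve
-- import your own Groth.Agent.* helpers here

set_option autoImplicit false
universe u
open CategoryTheory CategoryTheory.Limits AlgebraicGeometry
attribute [local instance] HasDerivedCategory.standard
open Curves

namespace Groth.Agent.S18784

open Groth.Agent.M1 Groth.Agent.ThetaGrp19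

theorem smulHom_zero {X : Scheme.{u}} (M : X.Modules) : smulHom M 0 = 0 :=
  Scheme.Modules.hom_ext _ _ fun V => by
    ext s
    rw [smulHom_app, map_zero, zero_smul]
    rfl

/-- Let k be a perfect field and X a proper scheme over k of dimension one which is geometrically
connected and geometrically reduced over k, Gorenstein with trivial dualizing sheaf: its dualizing
module ω_X (the degree −1 cohomology sheaf of f^! O for the structure morphism f, assuming Rf_* on
D_QCoh and its right adjoint exist) is isomorphic to O_X. Let D be an effective Cartier divisor on X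
of positive degree, given here as an invertible module L = O_X(D) with a monomorphism s : O_X → L
and deg L = χ(L) − χ(O_X) > 0. Then H^1(X, O_X(D)) = 0. (The first assertion of the lemma, H^0(X,
O_X) = k, is not restated.) -/
theorem result (k : Type u) [Field k] [PerfectField k]
    (X : Scheme.{u}) [X.Over (Spec (CommRingCat.of k))] [IsProper (X ↘ Spec (CommRingCat.of k))]
    [GeometricallyConnected (X ↘ Spec (CommRingCat.of k))] [GeometricallyReduced (X ↘ Spec (CommRingCat.of k))]
    (hdim : topologicalKrullDim ↥X = 1)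
    [DCoh.HasRpush (X ↘ Spec (CommRingCat.of k))] (h : DCoh.RpushPreservesQCoh (X ↘ Spec (CommRingCat.of k))) [DCoh.HasShriek (X ↘ Spec (CommRingCat.of k)) h]
    (OY : DCoh.DQCoh (Spec (CommRingCat.of k))) (hOY : Nonempty (OY.obj ≅ DCoh.inD (Spec (CommRingCat.of k)) (Coh.structureModule (Spec (CommRingCat.of k)))))
    (hω : Nonempty (DCoh.dualizingMod (X ↘ Spec (CommRingCat.of k)) h OY 1 ≅ Coh.structureModule X))
    (L : X.Modules) (hL : PicF.IsInvertible L) (s : Coh.structureModule X ⟶ L) [Mono s]
    (hdeg : 0 < Curv2.deg k X L 1) :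
    Subsingleton (Coh.HH X L 1) := by
  refine DlzCurve17.subsingleton_h1_of_hom_eq_zero k X hdim h OY hOY (CurveCoh17.isCoh_of_ofRank ((M2.isInvertible_iff_isFinLocFreeOfRank_one L).1 hL)) fun ψ => ?_
  obtain ⟨eω⟩ := hω
  haveI : ConnectedSpace X :=
    GeometricallyConnected.geometrically_connectedSpace (f := X ↘ Spec (CommRingCat.of k)) (𝟙 _) (𝟙 X) _
      IsPullback.of_id_fst
  obtain ⟨x⟩ := (inferInstance : Nonempty X)
  haveI : Nontrivial Γ(X, ⊤) := (X.presheaf.germ ⊤ x trivial).hom.domain_nontrivial
  have hfield : ∀ c : Γ(X, ⊤), c ≠ 0 → IsUnit c := fun c hc => by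
    obtain ⟨a, rfl⟩ := Groth.Agent.RigidRel.surjective_appTop (X ↘ Spec (CommRingCat.of k)) c
    have ha : (Scheme.ΓSpecIso (CommRingCat.of k)).hom.hom a ≠ 0 := fun h0 => hc (by
      have : a = 0 := (Scheme.ΓSpecIso (CommRingCat.of k)).commRingCatIsoToRingEquiv.injective (h0.trans (map_zero _).symm)
      rw [this, map_zero])
    refine RingHom.isUnit_map _ ?_
    have := (IsUnit.mk0 _ ha).map (Scheme.ΓSpecIso (CommRingCat.of k)).inv.hom
    simpa using this
  have hOi : PicF.IsInvertible (Coh.structureModule X) := PicLoc.isInvertible_structureModule X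
  obtain ⟨c, hc, -⟩ := existsUnique_smulHom hOi (s ≫ ψ ≫ eω.hom)
  suffices hz : ψ ≫ eω.hom = 0 by simpa using congrArg (fun φ => φ ≫ eω.inv) hz
  by_cases hc0 : c = 0
  · obtain ⟨d, hd, -⟩ := existsUnique_smulHom hL ((ψ ≫ eω.hom) ≫ s)
    have h1 : smulHom (Coh.structureModule X) d ≫ s = 0 := by
      rw [smulHom_naturality, ← hd, Category.assoc, reassoc_of% hc, hc0, smulHom_zero, zero_comp]
    have h2 : smulHom (Coh.structureModule X) d = 0 := (cancel_mono s).1 (h1.trans zero_comp.symm)
    have h3 : d = 0 := smulHom_injective hOi (h2.trans (smulHom_zero _).symm)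
    exact (cancel_mono s).1 (hd.trans (by rw [h3, smulHom_zero, zero_comp]))
  · obtain ⟨u, rfl⟩ := hfield c hc0
    let r : L ⟶ Coh.structureModule X := (ψ ≫ eω.hom) ≫ smulHom _ (↑u⁻¹ : Γ(X, ⊤))
    have hr : s ≫ r = 𝟙 _ := by
      show s ≫ (ψ ≫ eω.hom) ≫ _ = _
      rw [Category.assoc, reassoc_of% hc, smulHom_comp, Units.mul_inv, smulHom_one]
    obtain ⟨d, hd, -⟩ := existsUnique_smulHom hL (r ≫ s)
    have h1 : smulHom (Coh.structureModule X) d ≫ s = 𝟙 _ ≫ s := by
      rw [smulHom_naturality, ← hd, reassoc_of% hr, Category.id_comp]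
    have h3 : d = 1 := smulHom_injective hOi (((cancel_mono s).1 h1).trans (smulHom_one _).symm)
    let e : Coh.structureModule X ≅ L := ⟨s, r, hr, by rw [hd, h3, smulHom_one]⟩
    rw [← CurveCoh17.deg_iso e, CurveCoh17.deg_structureModule] at hdeg
    exact absurd hdeg (lt_irrefl _)

end Groth.Agent.S18784
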