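import Groth.Statements.S18786
import Groth.Agent.Lib.GaloisSplit17.Apps
import Mathlib.FieldTheory.Finite.Extension
-- import your own Groth.Agent.* helpers here

set_option autoImplicit false
universe u
open CategoryTheory CategoryTheory.Limits AlgebraicGeometry
open VBCurve

namespace Groth.Agent.S18786

/-- Let k be a finite field and C a smooth proper geometrically integral curve over k (proper, smooth
and geometrically integral over k, of dimension one) of genus one, i.e. dim_k H^1(C, O_C) = 1, with
a k-rational point O (an elliptic curve over k); k is finite with q elements. Let G be a finite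
locally free O_C-module of rank 2 and degree 0 (the degree of a rank-n locally free module being χ −
n·χ(O_C)) which is indecomposable (nonzero, no isomorphism with a direct sum of two nonzero modules)
but not geometrically indecomposable (its pull-back to C_K splits into two nonzero summands for some
field extension K of k, taken in the universe of k), and put E = O_C ⊕ G. Then Aut(E) has exactly (q
− 1)(q² − 1) elements. (The accompanying bound on the number of isomorphism classes of such E is not
restated.) (The published setting takes k of characteristic at least 5; the argument does not use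
this and the row allows every finite field.) -/
theorem result (k : Type u) [Field k] [Finite k] (X : Scheme.{u}) [X.Over (Spec (CommRingCat.of k))]
    [IsProper (X ↘ Spec (CommRingCat.of k))] [Smooth (X ↘ Spec (CommRingCat.of k))]
    [GeometricallyIntegral (X ↘ Spec (CommRingCat.of k))] (hdim : topologicalKrullDim ↥X = 1)
    (hg : Curv2.genus k X = 1) (O : Spec (CommRingCat.of k) ⟶ X) (hO : O ≫ (X ↘ Spec (CommRingCat.of k)) = 𝟙 _)
    (G : X.Modules) (hG : FlatMod.IsFinLocFreeOfRank 2 G) (hdeg : Curv2.deg k X G 2 = 0)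
    (hGi : (¬ IsZero G ∧ ∀ (E₁ E₂ : X.Modules), Nonempty (G ≅ E₁ ⊞ E₂) → IsZero E₁ ∨ IsZero E₂)) (hGng : (∃ (K : Type u) (_ : Field K) (_ : Algebra k K) (E₁ E₂ : (Curv2.bc k X K).Modules),
      ¬ IsZero E₁ ∧ ¬ IsZero E₂ ∧ Nonempty ((Scheme.Modules.pullback (Curv2.bcFst k X K)).obj G ≅ E₁ ⊞ E₂))) :
    Nat.card (Aut (Coh.structureModule X ⊞ G)) = (Nat.card k - 1) * (Nat.card k ^ 2 - 1) := by
  classical
  obtain ⟨K', _, _, E₁, E₂, h₁, h₂, ⟨e⟩⟩ := hGng
  obtain ⟨ch, hch⟩ := CharP.exists k
  haveI : Fact ch.Prime := ⟨CharP.char_is_prime k ch⟩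
  let K : Type u := ULift.{u} (FiniteField.Extension k ch 2)
  have hK : Module.finrank k K = 2 :=
    (ULift.moduleEquiv (R := k) (M := FiniteField.Extension k ch 2)).finrank_eq.trans
      (FiniteField.finrank_extension k ch 2)
  haveI : Module.Finite k K := Module.finite_of_finrank_eq_succ hK
  haveI : Finite K := Module.finite_of_finite k
  haveI : IsGalois k K := inferInstance
  have hp2 : Nat.Prime 2 := Nat.prime_two
  obtain ⟨ι, hι⟩ := GaloisSplit17.nonempty_end_equiv (K := K) (X := X) hdim hg O hO hp2 hG hGi E₁ E₂ h₁ h₂ e hK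
  obtain ⟨ι₀, χ, σ, M, d, -, hinv, -, heul, hdesc, -⟩ := GaloisSplit17.exists_lines (K := K) (X := X) hdim hg O hO
    hp2 hG hGi E₁ E₂ h₁ h₂ e hK
  obtain ⟨hO0, hOK⟩ := GaloisSplit17.euler_structure K (X := X) hdim hg
  letI : (Curv2.bc k X K).Over (Spec (CommRingCat.of K)) := ⟨Curv2.bcSnd k X K⟩
  have hX := GaloisSplit17.regCurve_bc (k := k) (X := X) K hdim
  have hOi : PicF.IsInvertible (Coh.structureModule (Curv2.bc k X K)) := PicLoc.isInvertible_structureModule _
  have hOX : PicF.IsInvertible (Coh.structureModule X) := PicLoc.isInvertible_structureModule X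
  let u := Twist.pullbackUnitIso (Curv2.bcFst k X K)
  have hd : ∀ i, Curv2.deg K (Curv2.bc k X K) (M i) 1 =
      Curv2.deg K (Curv2.bc k X K) (Coh.structureModule (Curv2.bc k X K)) 1 := fun i => by
    have h := heul i
    rw [Curv2.deg, hO0, mul_zero, sub_zero] at hdeg
    rw [hdeg] at h
    have h0 : Curv2.euler K (Curv2.bc k X K) (M i) = 0 := by push_cast at h; omega
    rw [Curv2.deg, Curv2.deg, h0, hOK]
  have hn : ∀ i, ¬ Nonempty (M i ≅ Coh.structureModule (Curv2.bc k X K)) := fun i ⟨a⟩ =>
    hdesc i _ hOX ⟨a ≪≫ u.symm⟩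
  have hto : ∀ f : Coh.structureModule X ⟶ G, f = 0 := fun f => by
    refine KS29.eq_zero_of_map_eq_zero (K := K) (X ↘ Spec (CommRingCat.of k)) (CurveCoh17.isCoh_of_ofRank hG).1 f ?_
    rw [← Category.comp_id ((Scheme.Modules.pullback _).map f), ← d.total, Preadditive.comp_sum]
    refine Finset.sum_eq_zero fun i _ => ?_
    have := AutCard17.hom_eq_zero hX hOi (hinv i) (hd i).symm (fun ⟨a⟩ => hn i ⟨a.symm⟩)
      (u.inv ≫ (Scheme.Modules.pullback (Curv2.bcFst k X K)).map f ≫ d.prj i)
    rw [← Category.assoc, (cancel_epi u.inv).1 (this.trans comp_zero.symm), zero_comp]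
  have hfrom : ∀ f : G ⟶ Coh.structureModule X, f = 0 := fun f => by
    refine KS29.eq_zero_of_map_eq_zero (K := K) (X ↘ Spec (CommRingCat.of k))
      (CurveCoh17.isCoh_of_ofRank ((M2.isInvertible_iff_isFinLocFreeOfRank_one _).1 hOX)).1 f ?_
    rw [← Category.id_comp ((Scheme.Modules.pullback _).map f), ← d.total, Preadditive.sum_comp]
    refine Finset.sum_eq_zero fun i _ => ?_
    have := AutCard17.hom_eq_zero hX (hinv i) hOi (hd i) (hn i)
      ((d.inj i ≫ (Scheme.Modules.pullback (Curv2.bcFst k X K)).map f) ≫ u.hom)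
    rw [Category.assoc, (cancel_mono u.hom).1 (this.trans zero_comp.symm), comp_zero]
  haveI : IsIntegral X := GeometricallyIntegral.isIntegral_of_subsingleton (X ↘ Spec (CommRingCat.of k))
  haveI : GeometricallyConnected (X ↘ Spec (CommRingCat.of k)) := by
    rw [GeometricallyConnected.eq_geometrically]
    intro L _ y Y p₁ p₂ hP
    haveI := (GeometricallyIntegral.geometrically_isIntegral (f := X ↘ Spec (CommRingCat.of k))) y p₁ p₂ hP
    infer_instance
  have h0 := Groth.Agent.S1536.result k X
  let v : End G ≃* K := (RingEquiv.ofBijective ι.toRingHom hι).symm.toMulEquiv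
  rw [AutCard17.card_aut_biprod hto hfrom, AutCard17.card_aut_invertible (VB17.regCurve' hdim) h0 hOX,
    AutCard17.card_aut_eq_card_units, Nat.card_congr (Units.mapEquiv v).toEquiv, Nat.card_units K,
    Module.natCard_eq_pow_finrank (K := k) (V := K), hK]

end Groth.Agent.S18786
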