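import Groth.Statements.S18787
import Groth.Agent.Lib.AutCard17.Curve
-- import your own Groth.Agent.* helpers here

set_option autoImplicit false
universe u
open CategoryTheory CategoryTheory.Limits AlgebraicGeometry
open VBCurve

namespace Groth.Agent.S18787

/-- Let k be a finite field and C a smooth proper geometrically integral curve over k (proper, smooth
and geometrically integral over k, of dimension one) of genus one, i.e. dim_k H^1(C, O_C) = 1, with
a k-rational point O (an elliptic curve over k); k is finite with q elements. Let L₁ and L₂ be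
invertible O_C-modules of degree 0 (χ(L) − χ(O_C) = 0) and E = O_C ⊕ L₁ ⊕ L₂. Then the number of
automorphisms of E is: (q³ − 1)(q³ − q)(q³ − q²) if L₁ ≅ L₂ ≅ O_C; (q − 1)³ (q + 1) q if L₁ ≅ L₂ and
L₁ ≇ O_C; (q − 1)³ (q + 1) q if L₁ ≇ L₂ and L₂ ≅ O_C; and (q − 1)³ if O_C, L₁, L₂ are pairwise
non-isomorphic. (In the third case the published value is (q − 1)² q³, and the published computation
gives (q − 1)³ q²; but there E ≅ O_C ⊕ O_C ⊕ L₁ with L₁ of degree 0 and non-trivial, whose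
endomorphism ring is M₂(k) × k, so Aut(E) ≅ GL₂(k) × kˣ has (q − 1)³ (q + 1) q elements, the same
count as in the second case; the row states this corrected value.) (The published setting takes k of
characteristic at least 5; the argument does not use this and the row allows every finite field.) -/
theorem result (k : Type u) [Field k] [Finite k] (X : Scheme.{u}) [X.Over (Spec (CommRingCat.of k))]
    [IsProper (X ↘ Spec (CommRingCat.of k))] [Smooth (X ↘ Spec (CommRingCat.of k))]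
    [GeometricallyIntegral (X ↘ Spec (CommRingCat.of k))] (hdim : topologicalKrullDim ↥X = 1)
    (hg : Curv2.genus k X = 1) (O : Spec (CommRingCat.of k) ⟶ X) (hO : O ≫ (X ↘ Spec (CommRingCat.of k)) = 𝟙 _)
    (L₁ L₂ : X.Modules) (hL₁ : PicF.IsInvertible L₁) (hL₂ : PicF.IsInvertible L₂)
    (hd₁ : Curv2.deg k X L₁ 1 = 0) (hd₂ : Curv2.deg k X L₂ 1 = 0) :
    (Nonempty (L₁ ≅ Coh.structureModule X) → Nonempty (L₂ ≅ Coh.structureModule X) →
      Nat.card (Aut (Coh.structureModule X ⊞ L₁ ⊞ L₂)) =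
        (Nat.card k ^ 3 - 1) * (Nat.card k ^ 3 - Nat.card k) * (Nat.card k ^ 3 - Nat.card k ^ 2)) ∧
    (Nonempty (L₁ ≅ L₂) → ¬ Nonempty (L₁ ≅ Coh.structureModule X) →
      Nat.card (Aut (Coh.structureModule X ⊞ L₁ ⊞ L₂)) = (Nat.card k - 1) ^ 3 * (Nat.card k + 1) * Nat.card k) ∧
    (¬ Nonempty (L₁ ≅ L₂) → Nonempty (L₂ ≅ Coh.structureModule X) →
      Nat.card (Aut (Coh.structureModule X ⊞ L₁ ⊞ L₂)) = (Nat.card k - 1) ^ 3 * (Nat.card k + 1) * Nat.card k) ∧
    (¬ Nonempty (L₁ ≅ Coh.structureModule X) → ¬ Nonempty (L₂ ≅ Coh.structureModule X) → ¬ Nonempty (L₁ ≅ L₂) →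
      Nat.card (Aut (Coh.structureModule X ⊞ L₁ ⊞ L₂)) = (Nat.card k - 1) ^ 3) := by
  classical
  haveI : IsIntegral X := GeometricallyIntegral.isIntegral_of_subsingleton (X ↘ Spec (CommRingCat.of k))
  haveI : GeometricallyConnected (X ↘ Spec (CommRingCat.of k)) := by
    rw [GeometricallyConnected.eq_geometrically]
    intro K _ y Y p₁ p₂ hP
    haveI := (GeometricallyIntegral.geometrically_isIntegral (f := X ↘ Spec (CommRingCat.of k))) y p₁ p₂ hP
    infer_instance
  have h0 := Groth.Agent.S1536.result k X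
  have hX : VB17.RegCurve k X := VB17.regCurve' hdim
  have hOi : PicF.IsInvertible (Coh.structureModule X) := PicLoc.isInvertible_structureModule X
  have hdO : Curv2.deg k X (Coh.structureModule X) 1 = 0 := CurveCoh17.deg_structureModule
  have hne : ∀ {A B : X.Modules}, PicF.IsInvertible A → PicF.IsInvertible B → Curv2.deg k X A 1 = 0 →
      Curv2.deg k X B 1 = 0 → ¬ Nonempty (A ≅ B) →
      (∀ f : A ⟶ B, f = 0) ∧ ∀ f : B ⟶ A, f = 0 := fun hA hB hdA hdB hn =>
    ⟨AutCard17.hom_eq_zero hX hA hB (hdA.trans hdB.symm) hn,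
      AutCard17.hom_eq_zero hX hB hA (hdB.trans hdA.symm) fun ⟨e⟩ => hn ⟨e.symm⟩⟩
  have hone : ∀ {L : X.Modules}, PicF.IsInvertible L → Nat.card (Aut L) = Nat.card k - 1 := fun hL =>
    AutCard17.card_aut_invertible hX h0 hL
  have htwo : ∀ {L : X.Modules}, PicF.IsInvertible L →
      Nat.card (Aut (L ⊞ L)) = (Nat.card k ^ 2 - 1) * (Nat.card k ^ 2 - Nat.card k) := fun {L} hL => by
    rw [AutCard17.card_aut_congr (AutCard17.twoIso L), AutCard17.card_aut_invertible_pow hX h0 hL,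
      Fin.prod_univ_two]
    simp
  have hq : 1 < Nat.card k := Finite.one_lt_card
  have harith : (Nat.card k ^ 2 - 1) * (Nat.card k ^ 2 - Nat.card k) * (Nat.card k - 1) =
      (Nat.card k - 1) ^ 3 * (Nat.card k + 1) * Nat.card k := by
    obtain ⟨m, hm⟩ : ∃ m, Nat.card k = m + 1 := ⟨Nat.card k - 1, by omega⟩
    rw [hm, show (m + 1) ^ 2 - 1 = m * (m + 2) from by rw [Nat.sub_eq_iff_eq_add (Nat.one_le_pow _ _ (by omega))]; ring,
      show (m + 1) ^ 2 - (m + 1) = m * (m + 1) from by rw [Nat.sub_eq_iff_eq_add (by nlinarith)]; ring,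
      Nat.add_sub_cancel]
    ring
  refine ⟨fun ⟨e₁⟩ ⟨e₂⟩ => ?_, fun ⟨e⟩ hn => ?_, fun hn ⟨e⟩ => ?_, fun hn₁ hn₂ hn₁₂ => ?_⟩
  · rw [AutCard17.card_aut_congr (biprod.mapIso (Iso.refl (Coh.structureModule X)) (biprod.mapIso e₁ e₂) ≪≫ (biprod.associator _ _ _).symm ≪≫
      AutCard17.threeIso (Coh.structureModule X)),
      AutCard17.card_aut_invertible_pow hX h0 hOi, Fin.prod_univ_three]
    simp
  · -- `L₁ ≅ L₂`, both different from `O`
    obtain ⟨ha, hb⟩ := hne hOi hL₁ hdO hd₁ (fun ⟨e'⟩ => hn ⟨e'.symm⟩)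
    rw [AutCard17.card_aut_congr (biprod.mapIso (Iso.refl (Coh.structureModule X)) (biprod.mapIso (Iso.refl L₁) e.symm)),
      AutCard17.card_aut_biprod (fun f => biprod.hom_ext _ _ ((ha _).trans zero_comp.symm) ((ha _).trans zero_comp.symm))
        (fun f => biprod.hom_ext' _ _ ((hb _).trans comp_zero.symm) ((hb _).trans comp_zero.symm)),
      hone hOi, htwo hL₁, ← harith]
    ring
  · -- `L₂ ≅ O`, `L₁` different
    obtain ⟨ha, hb⟩ := hne hOi hL₁ hdO hd₁ (fun ⟨e'⟩ => hn ⟨e'.symm ≪≫ e.symm⟩)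
    rw [AutCard17.card_aut_congr ((biprod.associator _ _ _).symm ≪≫ biprod.mapIso (biprod.braiding (Coh.structureModule X) L₁) e ≪≫
      biprod.associator L₁ (Coh.structureModule X) (Coh.structureModule X)),
      AutCard17.card_aut_biprod (fun f => biprod.hom_ext _ _ ((hb _).trans zero_comp.symm) ((hb _).trans zero_comp.symm))
        (fun f => biprod.hom_ext' _ _ ((ha _).trans comp_zero.symm) ((ha _).trans comp_zero.symm)),
      hone hL₁, htwo hOi, ← harith]
    ring
  · obtain ⟨ha, hb⟩ := hne hOi hL₁ hdO hd₁ (fun ⟨e'⟩ => hn₁ ⟨e'.symm⟩)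
    obtain ⟨ha₂, hb₂⟩ := hne hOi hL₂ hdO hd₂ (fun ⟨e'⟩ => hn₂ ⟨e'.symm⟩)
    obtain ⟨ha₃, hb₃⟩ := hne hL₁ hL₂ hd₁ hd₂ hn₁₂
    rw [AutCard17.card_aut_biprod
        (fun f => biprod.hom_ext _ _ ((ha _).trans zero_comp.symm) ((ha₂ _).trans zero_comp.symm))
        (fun f => biprod.hom_ext' _ _ ((hb _).trans comp_zero.symm) ((hb₂ _).trans comp_zero.symm)),
      AutCard17.card_aut_biprod ha₃ hb₃, hone hOi, hone hL₁, hone hL₂]
    ring

end Groth.Agent.S18787
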