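import Groth.Statements.S18788
import Groth.Agent.Lib.SelfExt17.Basic
import Groth.Agent.Lib.AutCard17.Curve
import Groth.Agent.Lib.ThetaGrp19.Scalar
-- import your own Groth.Agent.* helpers here

set_option autoImplicit false
universe u
open CategoryTheory CategoryTheory.Limits AlgebraicGeometry
open VBCurve

namespace Groth.Agent.S18788

/-- Let k be a finite field and C a smooth proper geometrically integral curve over k (proper, smooth
and geometrically integral over k, of dimension one) of genus one, i.e. dim_k H^1(C, O_C) = 1, with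
a k-rational point O (an elliptic curve over k); k is finite with q elements. Let F be an O_C-module
with a short exact sequence 0 → O_C → F → O_C → 0 that does not split, and L an invertible
O_C-module of degree 0 (χ(L) − χ(O_C) = 0). Then Aut(O_C ⊕ F) has (q − 1)² q³ elements, and if L ≇
O_C then Aut(O_C ⊕ (L ⊗ F)) has (q − 1)² q elements. (The source states this for E = O_C ⊕ G with G
a geometrically indecomposable rank-2 bundle of degree 0, which it writes as L ⊗ F with F the
non-split self-extension of O_C by a classification it quotes; the row takes G in that form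
directly. The accompanying count of isomorphism classes is not restated.) (The published setting
takes k of characteristic at least 5; the argument does not use this and the row allows every finite
field.) -/
theorem result (k : Type u) [Field k] [Finite k] (X : Scheme.{u}) [X.Over (Spec (CommRingCat.of k))]
    [IsProper (X ↘ Spec (CommRingCat.of k))] [Smooth (X ↘ Spec (CommRingCat.of k))]
    [GeometricallyIntegral (X ↘ Spec (CommRingCat.of k))] (hdim : topologicalKrullDim ↥X = 1)
    (hg : Curv2.genus k X = 1) (O : Spec (CommRingCat.of k) ⟶ X) (hO : O ≫ (X ↘ Spec (CommRingCat.of k)) = 𝟙 _)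
    (T : ShortComplex X.Modules) (hT : T.ShortExact)
    (e₁ : T.X₁ ≅ Coh.structureModule X) (e₃ : T.X₃ ≅ Coh.structureModule X) (hns : ¬ IsSplitEpi T.g)
    (L : X.Modules) (hL : PicF.IsInvertible L) (hdeg : Curv2.deg k X L 1 = 0) :
    Nat.card (Aut (Coh.structureModule X ⊞ T.X₂)) = (Nat.card k - 1) ^ 2 * Nat.card k ^ 3 ∧
    (¬ Nonempty (L ≅ Coh.structureModule X) →
      Nat.card (Aut (Coh.structureModule X ⊞ CohB1.tensorMod L T.X₂)) = (Nat.card k - 1) ^ 2 * Nat.card k) := by
  classical
  haveI : IsIntegral X := GeometricallyIntegral.isIntegral_of_subsingleton (X ↘ Spec (CommRingCat.of k))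
  haveI : GeometricallyConnected (X ↘ Spec (CommRingCat.of k)) := by
    rw [GeometricallyConnected.eq_geometrically]
    intro K _ y Y p₁ p₂ hP
    haveI := (GeometricallyIntegral.geometrically_isIntegral (f := X ↘ Spec (CommRingCat.of k))) y p₁ p₂ hP
    infer_instance
  have h0 := Groth.Agent.S1536.result k X
  have hX : VB17.RegCurve k X := VB17.regCurve' hdim
  have hOi : PicF.IsInvertible (Coh.structureModule X) := PicLoc.isInvertible_structureModule X
  obtain ⟨hc, hfin, -, -⟩ := AutCard17.end_facts hX h0 hOi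
  haveI : Finite (Coh.structureModule X ⟶ Coh.structureModule X) := hfin
  have hc' : Nat.card (Coh.structureModule X ⟶ Coh.structureModule X) = Nat.card k := hc
  haveI := hT.mono_f
  haveI := hT.epi_g
  choose sc hsc _hu using ThetaGrp19.existsUnique_smulHom hOi
  let D : SelfExt17.Data (Coh.structureModule X) T.X₂ :=
    { i := e₁.inv ≫ T.f
      g := T.g ≫ e₃.hom
      mono := inferInstance
      epi := inferInstance
      comp := by simp [T.zero_assoc]
      kerFac := fun v hv => by
        have hv' : v ≫ T.g = 0 := by simpa using congrArg (fun φ => φ ≫ e₃.inv) hv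
        obtain ⟨l, hl⟩ := KernelFork.IsLimit.lift' hT.fIsKernel v hv'
        exact ⟨l ≫ e₁.hom, by simpa using hl⟩
      cokFac := fun v hv => by
        have hv' : T.f ≫ v = 0 := by simpa using congrArg (fun φ => e₁.hom ≫ φ) hv
        obtain ⟨l, hl⟩ := CokernelCofork.IsColimit.desc' hT.gIsCokernel v hv'
        exact ⟨e₃.inv ≫ l, by simpa using hl⟩
      nonsplit := fun s hs => hns (IsSplitEpi.mk' ⟨e₃.hom ≫ s, by
        have := congrArg (fun φ => e₃.hom ≫ φ ≫ e₃.inv) hs
        simpa using this⟩)
      field := fun a => AutCard17.hom_eq_zero_or_isIso hX hOi hOi rfl a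
      lift := fun a => ThetaGrp19.smulHom T.X₂ (sc a)
      lift_i := fun a => by rw [← ThetaGrp19.smulHom_naturality, ← hsc a]
      lift_g := fun a => by rw [ThetaGrp19.smulHom_naturality, ← hsc a] }
  refine ⟨by rw [D.card_aut_sum, hc'], fun hn => ?_⟩
  have hdO : Curv2.deg k X (Coh.structureModule X) 1 = 0 := CurveCoh17.deg_structureModule
  haveI := VB17.isEquivalence_tensorR hL
  haveI : (M2.tensorR L).PreservesZeroMorphisms := Functor.preservesZeroMorphisms_of_full _
  have hT' := hT.map_of_exact (M2.tensorR L)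
  haveI := hT'.mono_f
  haveI := hT'.epi_g
  let m₁ : (M2.tensorR L).obj T.X₁ ≅ L := (M2.tensorR L).mapIso e₁ ≪≫ M2.tensorLUnit L
  let m₃ : (M2.tensorR L).obj T.X₃ ≅ L := (M2.tensorR L).mapIso e₃ ≪≫ M2.tensorLUnit L
  have hOL : ∀ f : Coh.structureModule X ⟶ L, f = 0 :=
    AutCard17.hom_eq_zero hX hOi hL (hdO.trans hdeg.symm) fun ⟨e⟩ => hn ⟨e.symm⟩
  have hLO : ∀ f : L ⟶ Coh.structureModule X, f = 0 :=
    AutCard17.hom_eq_zero hX hL hOi (hdeg.trans hdO.symm) hn
  have hto : ∀ f : Coh.structureModule X ⟶ (M2.tensorR L).obj T.X₂, f = 0 := fun f => by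
    have hz : f ≫ (M2.tensorR L).map T.g = 0 :=
      (cancel_mono m₃.hom).1 ((hOL _).trans zero_comp.symm)
    obtain ⟨w, hw⟩ := KernelFork.IsLimit.lift' hT'.fIsKernel f hz
    change Coh.structureModule X ⟶ (M2.tensorR L).obj T.X₁ at w
    have hw0 : w = 0 := (cancel_mono m₁.hom).1 ((hOL _).trans zero_comp.symm)
    rw [← hw, hw0]
    exact zero_comp
  have hfrom : ∀ f : (M2.tensorR L).obj T.X₂ ⟶ Coh.structureModule X, f = 0 := fun f => by
    have hz : (M2.tensorR L).map T.f ≫ f = 0 :=
      (cancel_epi m₁.inv).1 ((hLO _).trans comp_zero.symm)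
    obtain ⟨w, hw⟩ := CokernelCofork.IsColimit.desc' hT'.gIsCokernel f hz
    change (M2.tensorR L).obj T.X₃ ⟶ Coh.structureModule X at w
    have hw0 : w = 0 := (cancel_epi m₃.inv).1 ((hLO _).trans comp_zero.symm)
    rw [← hw, hw0]
    exact comp_zero
  rw [AutCard17.card_aut_congr (biprod.mapIso (Iso.refl (Coh.structureModule X)) (M2.tensorComm L T.X₂ :
      CohB1.tensorMod L T.X₂ ≅ (M2.tensorR L).obj T.X₂))]
  refine (AutCard17.card_aut_biprod hto hfrom).trans ?_
  rw [AutCard17.card_aut_invertible hX h0 hOi,
    ← Nat.card_congr ((Functor.FullyFaithful.ofFullyFaithful (M2.tensorR L)).autMulEquivOfFullyFaithful T.X₂).toEquiv,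
    D.card_aut, hc']
  ring

end Groth.Agent.S18788
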