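import Groth.Statements.S18789
import Mathlib
import Groth.Agent.Lib.TorusGrH28.Comp

set_option autoImplicit false
universe u v w x
open TorusGr

namespace Groth.Agent.S18789
open DirectSum Finset

open DirectSum in
/-- Let `A` be a commutative algebra over a field `k`, graded by an additive commutative group `M` (for
`M` the character group of a split torus `T` this is a `T`-action on `Spec A`, and an `M`-graded
`A`-module is a `T`-equivariant quasi-coherent sheaf), let `P` be a finitely generated projective
`A`-module with a compatible `M`-grading (a locally free `T`-sheaf of finite rank), and let `m` be a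
homogeneous maximal ideal with residue field `k` (a `T`-fixed rational point). If homogeneous
elements `f i` of `P` reduce to a basis of `P/mP`, then there is a homogeneous `s ∉ m` such that
after inverting `s` the `f i` generate `P` and every relation among them is killed by a power of
`s`: on the invariant open `D(s)` the module is free on the homogeneous sections `f i`, with the
weights of the fibre `P/mP`. (The published statement has `M ≅ ℤ^r`, a split torus; here `M` is any
additive commutative group, i.e. any diagonalizable group.) -/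
theorem result
    {k : Type u} [Field k] {M : Type v} [AddCommGroup M] [DecidableEq M]
    {A : Type w} [CommRing A] [Algebra k A] (𝒜 : M → Submodule k A) [GradedAlgebra 𝒜]
    {P : Type x} [AddCommGroup P] [Module A P] [Module k P] [IsScalarTower k A P]
    (ℳ : M → Submodule k P) [Decomposition ℳ] [SetLike.GradedSMul 𝒜 ℳ]
    [Module.Finite A P] [Module.Projective A P]
    (m : Ideal A) [m.IsMaximal] (hm : m.IsHomogeneous 𝒜)
    (hrat : Function.Surjective (algebraMap k (A ⧸ m)))
    {n : ℕ} (wt : Fin n → M) (f : Fin n → P) (hf : ∀ i, f i ∈ ℳ (wt i))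
    (hli : LinearIndependent (A ⧸ m)
      (fun i => (Submodule.Quotient.mk (f i) : P ⧸ (m • (⊤ : Submodule A P)))))
    (hsp : Submodule.span A (Set.range f) ⊔ m • (⊤ : Submodule A P) = ⊤) :
    ∃ s : A, SetLike.IsHomogeneousElem 𝒜 s ∧ s ∉ m ∧
      (∀ p : P, ∃ (N : ℕ) (c : Fin n → A), s ^ N • p = ∑ i, c i • f i) ∧
      (∀ c : Fin n → A, ∑ i, c i • f i = 0 → ∃ N : ℕ, ∀ i, s ^ N * c i = 0) := by
  classical
  set Q := Submodule.span A (Set.range f)
  have htop : (⊤ : Submodule A (P ⧸ Q)) ≤ m • ⊤ := by
    have := congrArg (Submodule.map Q.mkQ) hsp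
    rw [Submodule.map_sup, Submodule.map_top, Submodule.range_mkQ, Submodule.map_smul'', Submodule.map_top,
      Submodule.range_mkQ, Submodule.mkQ_map_self, bot_sup_eq] at this
    exact this.ge
  obtain ⟨r, hr1, hr⟩ := Submodule.exists_sub_one_mem_and_smul_eq_zero_of_fg_of_le_smul m ⊤ Module.Finite.fg_top htop
  have hrm : r ∉ m := fun h => (Ideal.IsPrime.ne_top inferInstance) ((Ideal.eq_top_iff_one m).2 (by simpa using m.sub_mem h hr1))
  have hrP : ∀ p : P, r • p ∈ Q := fun p => (Submodule.Quotient.mk_eq_zero Q).1 (hr (Submodule.Quotient.mk p) trivial)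
  let h : (Fin n → A) →ₗ[A] P := Fintype.linearCombination A f
  have hh : LinearMap.range h = Q := Fintype.range_linearCombination A _
  obtain ⟨g, hg⟩ := Module.projective_lifting_property h.rangeRestrict
    ((r • LinearMap.id : P →ₗ[A] P).codRestrict (LinearMap.range h) fun p => by rw [hh]; exact hrP p) h.surjective_rangeRestrict
  have hg' : ∀ p, h (g p) = r • p := fun p => congrArg Subtype.val (LinearMap.congr_fun hg p)
  let E : Matrix (Fin n) (Fin n) A := LinearMap.toMatrix' (r • LinearMap.id - g ∘ₗ h)
  have hE : ∀ x, h (E.mulVec x) = 0 := fun x => by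
    rw [LinearMap.toMatrix'_mulVec]; simp [hg', map_sub, map_smul]
  have hEm : ∀ i j, E i j ∈ m := fun i j => by
    have h0 := hE (Pi.single j 1)
    rw [Matrix.mulVec_single_one] at h0
    refine Ideal.Quotient.eq_zero_iff_mem.1 (Fintype.linearIndependent_iff.1 hli (fun i => Ideal.Quotient.mk m (E i j)) ?_ i)
    have := congrArg (Submodule.Quotient.mk (p := m • (⊤ : Submodule A P))) h0
    simpa [h, Fintype.linearCombination_apply, Submodule.Quotient.mk_smul, ← Submodule.mkQ_apply, map_sum] using this
  let s2 := (r • (1 : Matrix (Fin n) (Fin n) A) - E).det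
  have hs2m : s2 ∉ m := by
    intro hs
    have h1 : Ideal.Quotient.mk m s2 = 0 := Ideal.Quotient.eq_zero_iff_mem.2 hs
    rw [RingHom.map_det] at h1
    have : (Ideal.Quotient.mk m).mapMatrix (r • (1 : Matrix (Fin n) (Fin n) A) - E) = Ideal.Quotient.mk m r • 1 := by
      ext i j
      simp [Ideal.Quotient.eq_zero_iff_mem.2 (hEm i j), Matrix.one_apply, apply_ite (Ideal.Quotient.mk m)]
    rw [this, Matrix.det_smul, Matrix.det_one, mul_one] at h1
    exact hrm (Ideal.Quotient.eq_zero_iff_mem.1 (pow_eq_zero_iff'.1 h1).1)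
  have hker : ∀ c, h c = 0 → ∀ i, s2 * c i = 0 := fun c hc i => by
    have h1 : (r • (1 : Matrix (Fin n) (Fin n) A) - E).mulVec c = 0 := by
      rw [Matrix.sub_mulVec, Matrix.smul_mulVec, Matrix.one_mulVec, LinearMap.toMatrix'_mulVec]
      simp [hc]
    have h2 := congrArg ((r • (1 : Matrix (Fin n) (Fin n) A) - E).adjugate.mulVec) h1
    rw [Matrix.mulVec_mulVec, Matrix.adjugate_mul, Matrix.smul_mulVec, Matrix.one_mulVec, Matrix.mulVec_zero] at h2
    exact congrFun h2 i
  -- a homogeneous component outside m
  have hcomp : ∀ s : A, s ∉ m → ∃ d, (decompose 𝒜 s d : A) ∉ m := fun s hs => by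
    by_contra hcon
    push Not at hcon
    exact hs (by rw [← sum_support_decompose 𝒜 s]; exact m.sum_mem fun d _ => hcon d)
  obtain ⟨d, hd⟩ := hcomp r hrm
  obtain ⟨d', hd'⟩ := hcomp s2 hs2m
  set a := (decompose 𝒜 r d : A)
  set b := (decompose 𝒜 s2 d' : A)
  have ha : ∀ p : P, a • p ∈ Q := fun p => by
    induction p using DirectSum.Decomposition.inductionOn ℳ with
    | zero => simp
    | @homogeneous j p =>
      obtain ⟨c, hc⟩ := (Submodule.mem_span_range_iff_exists_fun A).1 (hrP (p : P))
      have h1 := congrArg (fun x => (decompose ℳ x (d + j) : P)) hc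
      simp only [Groth.Agent.TorusGrH28.span_comp 𝒜 ℳ wt f hf, Groth.Agent.TorusGrH28.smul_comp 𝒜 ℳ p.2] at h1
      rw [show d + j - j = d from add_sub_cancel_right d j] at h1
      exact (Submodule.mem_span_range_iff_exists_fun A).2 ⟨_, h1⟩
    | add p q hp hq => rw [smul_add]; exact Q.add_mem hp hq
  have hb : ∀ c : Fin n → A, ∑ i, c i • f i = 0 → ∀ i, b * c i = 0 := fun c hc i => by
    rw [← sum_support_decompose 𝒜 (c i), Finset.mul_sum]
    refine Finset.sum_eq_zero fun t _ => ?_
    have h1 : h (fun j => (decompose 𝒜 (c j) (t + wt i - wt j) : A)) = 0 := by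
      rw [Fintype.linearCombination_apply, ← Groth.Agent.TorusGrH28.span_comp 𝒜 ℳ wt f hf, hc]; simp
    have h2 := congrArg (fun x => (decompose 𝒜 x (d' + t) : A)) (hker _ h1 i)
    simp only [add_sub_cancel_right, decompose_zero, DirectSum.zero_apply, ZeroMemClass.coe_zero] at h2
    rw [add_sub_cancel_right] at h2
    rwa [DirectSum.coe_decompose_mul_add_of_right_mem 𝒜 (SetLike.coe_mem _)] at h2
  refine ⟨a * b, ⟨d + d', SetLike.GradedMul.mul_mem (SetLike.coe_mem _) (SetLike.coe_mem _)⟩,
    fun h => (Ideal.IsPrime.mem_or_mem inferInstance h).elim hd hd', fun p => ?_, fun c hc => ⟨1, fun i => ?_⟩⟩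
  · obtain ⟨c, hc⟩ := (Submodule.mem_span_range_iff_exists_fun A).1 (ha (b • p))
    exact ⟨1, c, by rw [pow_one, mul_smul, hc]⟩
  · rw [pow_one, mul_assoc, hb c hc, mul_zero]

end Groth.Agent.S18789
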