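import Groth.Statements.S18790
import Mathlib

set_option autoImplicit false
universe u v w
open TorusGr

namespace Groth.Agent.S18790
open DirectSum Finset

/-- Let `A` be a commutative algebra over a field `k`, graded by an additive commutative group `M` (for
`M` the character group of a split torus `T`, a `T`-action on `Spec A`), let `J` be the ideal
generated by the homogeneous elements of non-zero degree (its zero locus is the fixed-point
subscheme) and let `m ⊇ J` be a maximal ideal with residue field `k` (a fixed rational point) at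
which the fixed-point subscheme is the reduced point: `J` and `m` agree after localizing at `m`.
Then the cotangent space `m/m²` has no part of weight zero: every degree-zero element of `m` lies in
`m²`. (The published statement has `M ≅ ℤ^r`, a split torus, and phrases the conclusion as the
non-vanishing of the weights of a semi-invariant basis of `m/m²`; here `M` is any additive
commutative group, i.e. any diagonalizable group.) -/
theorem result
    {k : Type u} [Field k] {M : Type v} [AddCommGroup M] [DecidableEq M]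
    {A : Type w} [CommRing A] [Algebra k A] (𝒜 : M → Submodule k A) [GradedAlgebra 𝒜]
    (m : Ideal A) [m.IsMaximal] (hrat : Function.Surjective (algebraMap k (A ⧸ m)))
    (hfix : ∀ i : M, i ≠ 0 → ∀ a ∈ 𝒜 i, a ∈ m)
    (hred : ∀ a ∈ m, ∃ s ∉ m, s * a ∈ Ideal.span {b : A | ∃ i : M, i ≠ 0 ∧ b ∈ 𝒜 i})
    {f : A} (hf0 : f ∈ 𝒜 0) (hfm : f ∈ m) : f ∈ m ^ 2 := by
  classical
  obtain ⟨s, hs, hsf⟩ := hred f hfm
  have key : ∀ x ∈ Ideal.span {b : A | ∃ i : M, i ≠ 0 ∧ b ∈ 𝒜 i}, (decompose 𝒜 x 0 : A) ∈ m ^ 2 := by
    intro x hx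
    rw [Ideal.span, Submodule.mem_span_iff_exists_finset_subset] at hx
    obtain ⟨c, t, ht, -, rfl⟩ := hx
    rw [decompose_sum, DFinsupp.finset_sum_apply, AddSubmonoidClass.coe_finsetSum]
    refine Submodule.sum_mem _ fun b hb => ?_
    obtain ⟨i, hi, hbi⟩ := ht hb
    have h1 := coe_decompose_mul_add_of_right_mem 𝒜 (a := c b) (b := b) hbi (i := -i)
    rw [neg_add_cancel] at h1
    rw [smul_eq_mul, h1, pow_two]
    exact Ideal.mul_mem_mul (hfix _ (neg_ne_zero.2 hi) _ (SetLike.coe_mem _)) (hfix i hi b hbi)
  have h1 := key _ hsf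
  have h2 := coe_decompose_mul_add_of_right_mem 𝒜 (a := s) hf0 (i := 0)
  rw [add_zero] at h2
  rw [h2] at h1
  have hs0 : (decompose 𝒜 s 0 : A) ∉ m := fun h => hs (by
    rw [← sum_support_decompose 𝒜 s]
    refine m.sum_mem fun d _ => ?_
    rcases eq_or_ne d 0 with rfl | hd
    · exact h
    · exact hfix d hd _ (SetLike.coe_mem _))
  obtain ⟨t, u, hu, htu⟩ := Ideal.IsMaximal.exists_inv inferInstance hs0
  have : f = t * ((decompose 𝒜 s 0 : A) * f) + u * f := by rw [← mul_assoc, ← add_mul, htu, one_mul]
  rw [this]
  exact (m ^ 2).add_mem ((m ^ 2).mul_mem_left _ h1) (by rw [pow_two]; exact Ideal.mul_mem_mul hu hfm)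

end Groth.Agent.S18790
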