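import Groth.Statements.S18791
import Mathlib

set_option autoImplicit false
universe u v w x
open TorusGr

namespace Groth.Agent.S18791
open DirectSum Finset

/-- Let `φ : B → A` be a degree-preserving homomorphism of commutative algebras over a field `k` graded
by an additive commutative group `M` (for `M` the character group of a split torus, an equivariant
morphism `Spec A → Spec B`), and let `m` be a maximal ideal of `A` containing all homogeneous
elements of non-zero degree (a fixed point). Then the ideal of those `b` whose image is zero in the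
local ring `A_m` is homogeneous: the homogeneous (weight) components of such a `b` again die in
`A_m`. Since `A_m` embeds in its completion when `A` is Noetherian, these are the elements of `B`
that die in the completed local ring. (The published lemma asserts moreover that, for `B = k[Y_1, …,
Y_d]` mapping the `Y_i` to semi-invariant lifts of a basis of `m/m²`, the kernel of the induced
surjection of completions `k[[Y]] → Â_m` is generated by semi-invariant polynomials; generation of
that kernel by polynomials can fail, so only the statement about polynomial elements of the kernel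
is recorded here. The published statement has `M ≅ ℤ^r` (a split torus) and `B` the polynomial ring
on the lifts; here `M` is any additive commutative group and `B` any `M`-graded `k`-algebra.) -/
theorem result
    {k : Type u} [Field k] {M : Type v} [AddCommGroup M] [DecidableEq M]
    {A : Type w} [CommRing A] [Algebra k A] (𝒜 : M → Submodule k A) [GradedAlgebra 𝒜]
    {B : Type x} [CommRing B] [Algebra k B] (ℬ : M → Submodule k B) [GradedAlgebra ℬ]
    (φ : B →ₐ[k] A) (hφ : ∀ i : M, ∀ b ∈ ℬ i, φ b ∈ 𝒜 i)
    (m : Ideal A) [m.IsMaximal] (hfix : ∀ i : M, i ≠ 0 → ∀ a ∈ 𝒜 i, a ∈ m) :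
    (RingHom.ker ((algebraMap A (Localization.AtPrime m)).comp (φ : B →+* A))).IsHomogeneous ℬ := by
  classical
  intro i b hb
  rw [RingHom.mem_ker, RingHom.comp_apply, IsLocalization.map_eq_zero_iff m.primeCompl] at hb ⊢
  obtain ⟨⟨s, hs⟩, hsb⟩ := hb
  have hφc : ∀ (b : B) j, (decompose 𝒜 (φ b) j : A) = φ (decompose ℬ b j : B) := by
    intro b j
    induction b using DirectSum.Decomposition.inductionOn ℬ with
    | zero => simp
    | @homogeneous i b =>
      rcases eq_or_ne i j with rfl | hij
      · rw [decompose_of_mem_same ℬ b.2, decompose_of_mem_same 𝒜 (hφ _ _ b.2)]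
      · rw [decompose_of_mem_ne ℬ b.2 hij, decompose_of_mem_ne 𝒜 (hφ _ _ b.2) hij, map_zero]
    | add a b ha hb => simp [ha, hb]
  change s * φ b = 0 at hsb
  set a := φ b
  let S := (decompose 𝒜 a).support
  let T : Matrix S S A := fun n j => (decompose 𝒜 s ((n : M) - j) : A)
  have hT : T.mulVec (fun j : S => (decompose 𝒜 a j : A)) = 0 := by
    funext n
    have h1 := congrArg (fun x => (decompose 𝒜 x (n : M) : A)) hsb
    simp only [decompose_zero, DirectSum.zero_apply, ZeroMemClass.coe_zero] at h1
    rw [← sum_support_decompose 𝒜 a, Finset.mul_sum, decompose_sum, DFinsupp.finset_sum_apply,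
      AddSubmonoidClass.coe_finsetSum] at h1
    rw [Matrix.mulVec, dotProduct, Pi.zero_apply, ← h1, Finset.sum_coe_sort S (fun j => (decompose 𝒜 s ((n : M) - j) : A) * (decompose 𝒜 a j : A))]
    refine Finset.sum_congr rfl fun j _ => ?_
    have h2 := coe_decompose_mul_add_of_right_mem 𝒜 (a := s) (SetLike.coe_mem (decompose 𝒜 a j)) (i := (n : M) - j)
    rw [sub_add_cancel] at h2
    exact h2.symm
  have hs0 : (decompose 𝒜 s 0 : A) ∉ m := fun h => hs (by
    rw [← sum_support_decompose 𝒜 s]
    refine m.sum_mem fun d _ => ?_
    rcases eq_or_ne d 0 with rfl | hd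
    · exact h
    · exact hfix d hd _ (SetLike.coe_mem _))
  have hdet : T.det ∉ m := by
    intro h
    have h1 : Ideal.Quotient.mk m T.det = 0 := Ideal.Quotient.eq_zero_iff_mem.2 h
    rw [RingHom.map_det] at h1
    have : (Ideal.Quotient.mk m).mapMatrix T = Ideal.Quotient.mk m (decompose 𝒜 s 0 : A) • 1 := by
      ext n j
      rcases eq_or_ne n j with rfl | hnj
      · rw [Matrix.smul_apply, Matrix.one_apply_eq, smul_eq_mul, mul_one]
        show Ideal.Quotient.mk m (decompose 𝒜 s ((n : M) - n) : A) = _
        rw [sub_self]
      · rw [Matrix.smul_apply, Matrix.one_apply_ne hnj, smul_zero]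
        exact Ideal.Quotient.eq_zero_iff_mem.2 (hfix _ (sub_ne_zero.2 (fun e => hnj (Subtype.ext e))) _ (SetLike.coe_mem _))
    rw [this, Matrix.det_smul, Matrix.det_one, mul_one] at h1
    exact hs0 (Ideal.Quotient.eq_zero_iff_mem.1 (pow_eq_zero_iff'.1 h1).1)
  refine ⟨⟨T.det, hdet⟩, ?_⟩
  change T.det * φ (decompose ℬ b i : B) = 0
  rw [← hφc]
  by_cases hi : i ∈ S
  · have h2 := congrArg T.adjugate.mulVec hT
    rw [Matrix.mulVec_mulVec, Matrix.adjugate_mul, Matrix.smul_mulVec, Matrix.one_mulVec, Matrix.mulVec_zero] at h2
    exact congrFun h2 ⟨i, hi⟩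
  · rw [DFinsupp.notMem_support_iff.1 hi, ZeroMemClass.coe_zero, mul_zero]

end Groth.Agent.S18791
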