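import Groth.Statements.S18792
import Mathlib

set_option autoImplicit false
universe u
open DefMod

namespace Groth.Agent.S18792

/-- Let A be an associative unital algebra over ℚ, let a ∈ A be nilpotent and let b ∈ A. Then the
commutator map x ↦ a x − x a is a nilpotent ℚ-linear endomorphism of A, and exp(a) b exp(−a) =
exp(ad a)(b), where exp is the finite exponential series of a nilpotent element and ad a is the
commutator map. (The published statement takes A an algebra over an arbitrary commutative ring; the
factorials in the exponential series require the rationals to act, so A is taken to be a ℚ-algebra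
here. The intermediate double-sum expansion printed between the two sides is not restated.) -/
theorem result {A : Type u} [Ring A] [Algebra ℚ A] (a b : A)
    (ha : IsNilpotent a) :
    IsNilpotent (LinearMap.mulLeft ℚ a - LinearMap.mulRight ℚ a) ∧
      IsNilpotent.exp a * b * IsNilpotent.exp (-a) =
        IsNilpotent.exp (LinearMap.mulLeft ℚ a - LinearMap.mulRight ℚ a) b := by
  obtain ⟨n, hn⟩ := ha
  have hna : (-a) ^ n = 0 := by rw [neg_pow, hn, mul_zero]
  set Lm := LinearMap.mulLeft ℚ a
  set Rm := LinearMap.mulRight ℚ (-a)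
  have hLn : Lm ^ n = 0 := by rw [LinearMap.pow_mulLeft, hn, LinearMap.mulLeft_zero_eq_zero]
  have hRn : Rm ^ n = 0 := by rw [LinearMap.pow_mulRight, hna, LinearMap.mulRight_zero_eq_zero]
  have hsub : LinearMap.mulLeft ℚ a - LinearMap.mulRight ℚ a = Lm + Rm := LinearMap.ext fun x => by simp [Lm, Rm, sub_eq_add_neg]
  have hcomm : Commute Lm Rm := LinearMap.commute_mulLeft_right a (-a)
  rw [hsub]
  refine ⟨hcomm.isNilpotent_add ⟨n, hLn⟩ ⟨n, hRn⟩, ?_⟩
  rw [IsNilpotent.exp_add_of_commute hcomm ⟨n, hLn⟩ ⟨n, hRn⟩]
  have hL : ∀ x, IsNilpotent.exp Lm x = IsNilpotent.exp a * x := fun x => by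
    rw [IsNilpotent.exp_eq_sum hLn, IsNilpotent.exp_eq_sum hn, LinearMap.sum_apply, Finset.sum_mul]
    exact Finset.sum_congr rfl fun i _ => by rw [LinearMap.pow_mulLeft]; simp
  have hR : ∀ x, IsNilpotent.exp Rm x = x * IsNilpotent.exp (-a) := fun x => by
    rw [IsNilpotent.exp_eq_sum hRn, IsNilpotent.exp_eq_sum hna, LinearMap.sum_apply, Finset.mul_sum]
    exact Finset.sum_congr rfl fun i _ => by rw [LinearMap.pow_mulRight]; simp
  rw [Module.End.mul_apply, hR, hL, mul_assoc]

end Groth.Agent.S18792
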