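import Groth.Statements.S18794
import Mathlib

set_option autoImplicit false
universe u v w
open scoped TensorProduct
open DefMod

namespace Groth.Agent.S18794

theorem bc_comm {K L M : Type*} [Field K] [Field L] [Field M] [Algebra K L] [Algebra K M] [Algebra L M] [IsScalarTower K L M]
    {E : Type*} [AddCommGroup E] [Module K E] (f : E →ₗ[K] E) (z : L ⊗[K] E) :
    TensorProduct.AlgebraTensorModule.map (Algebra.linearMap L M) LinearMap.id (f.baseChange L z) =
      f.baseChange M (TensorProduct.AlgebraTensorModule.map (Algebra.linearMap L M) LinearMap.id z) := by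
  induction z using TensorProduct.induction_on with
  | zero => simp
  | tmul a e => simp
  | add a b ha hb => simp only [map_add, ha, hb]

/-- Let E be a left module over an associative algebra D over a field K of characteristic zero. For a
field extension L of K, the base change L ⊗_K E is a module over L ⊗_K D, i.e. an L-vector space
with a commuting action of D; call it irreducible when it is nonzero and its only L-subspaces stable
under every element of D are 0 and the whole space. Then E is absolutely irreducible (its base
change to an algebraic closure of K is irreducible) if and only if L ⊗_K E is irreducible for every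
finite extension L of K. (Finite extensions are taken in the universe of K.) -/
theorem result
    {K : Type u} [Field K] [CharZero K]
    {D : Type v} [Ring D] [Algebra K D]
    {E : Type w} [AddCommGroup E] [Module K E] [Module D E] [IsScalarTower K D E] :
    (Nontrivial (AlgebraicClosure K ⊗[K] E) ∧ ∀ N : Submodule (AlgebraicClosure K) (AlgebraicClosure K ⊗[K] E), (∀ (d : D) (x : AlgebraicClosure K ⊗[K] E), x ∈ N → (DistribSMul.toLinearMap K E d).baseChange (AlgebraicClosure K) x ∈ N) → N = ⊥ ∨ N = ⊤) ↔
      ∀ (L : Type u) [Field L] [Algebra K L] [FiniteDimensional K L],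
        (Nontrivial (L ⊗[K] E) ∧ ∀ N : Submodule (L) (L ⊗[K] E), (∀ (d : D) (x : L ⊗[K] E), x ∈ N → (DistribSMul.toLinearMap K E d).baseChange (L) x ∈ N) → N = ⊥ ∨ N = ⊤) := by
  classical
  constructor
  · rintro ⟨hnt, hirr⟩ L _ _ _
    let ι : L →ₐ[K] AlgebraicClosure K := IsAlgClosed.lift
    algebraize [ι.toRingHom]
    have : IsScalarTower K L (AlgebraicClosure K) := IsScalarTower.of_algebraMap_eq fun x => (ι.commutes x).symm
    have : Nontrivial E := by
      by_contra hc
      have := not_nontrivial_iff_subsingleton.1 hc
      exact not_nontrivial (AlgebraicClosure K ⊗[K] E) hnt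
    refine ⟨inferInstance, fun N hN => ?_⟩
    let T := TensorProduct.AlgebraTensorModule.map (Algebra.linearMap L (AlgebraicClosure K)) (LinearMap.id : E →ₗ[K] E)
    have hTinj : Function.Injective T :=
      Module.Flat.rTensor_preserves_injective_linearMap (M := E) ((Algebra.linearMap L (AlgebraicClosure K)).restrictScalars K) (algebraMap L (AlgebraicClosure K)).injective
    rcases hirr (Submodule.span (AlgebraicClosure K) (T '' (N : Set (L ⊗[K] E)))) (fun d z hz => by
      induction hz using Submodule.span_induction with
      | mem z hz =>
        obtain ⟨n, hn, rfl⟩ := hz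
        exact Submodule.subset_span ⟨_, hN d n hn, bc_comm _ n⟩
      | zero => simp
      | add a b _ _ ha hb => rw [map_add]; exact add_mem ha hb
      | smul c a _ ha => rw [map_smul]; exact Submodule.smul_mem _ c ha) with h | h
    · refine .inl ((Submodule.eq_bot_iff _).2 fun n hn => hTinj ?_)
      rw [map_zero]
      exact (Submodule.eq_bot_iff _).1 h _ (Submodule.subset_span ⟨n, hn, rfl⟩)
    · refine .inr ?_
      by_contra hne
      obtain ⟨g, hg0, hg⟩ := Submodule.exists_le_ker_of_lt_top N (lt_of_le_of_ne le_top hne)
      let G : AlgebraicClosure K ⊗[K] E →ₗ[AlgebraicClosure K] AlgebraicClosure K :=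
        LinearMap.liftBaseChange (AlgebraicClosure K)
          (((Algebra.linearMap L (AlgebraicClosure K)).restrictScalars K) ∘ₗ (g.restrictScalars K) ∘ₗ (TensorProduct.mk K L E 1))
      have hG : ∀ z, G (T z) = algebraMap L (AlgebraicClosure K) (g z) := by
        intro z
        induction z using TensorProduct.induction_on with
        | zero => simp
        | tmul a e =>
          rw [show g (a ⊗ₜ[K] e) = a * g (1 ⊗ₜ[K] e) by
            rw [← smul_eq_mul, ← map_smul, TensorProduct.smul_tmul', smul_eq_mul, mul_one]]
          simp [G, T]
        | add a b ha hb => simp only [map_add, ha, hb]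
      apply hg0
      have hG0 : G = 0 := by
        have hle : Submodule.span (AlgebraicClosure K) (T '' (N : Set (L ⊗[K] E))) ≤ LinearMap.ker G := by
          rw [Submodule.span_le]
          rintro _ ⟨n, hn, rfl⟩
          rw [SetLike.mem_coe, LinearMap.mem_ker, hG, LinearMap.mem_ker.1 (hg hn), map_zero]
        rw [h] at hle
        exact LinearMap.ext fun z => hle Submodule.mem_top
      refine LinearMap.ext fun z => (algebraMap L (AlgebraicClosure K)).injective ?_
      rw [← hG, hG0, LinearMap.zero_apply, LinearMap.zero_apply, map_zero]
  · intro H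
    have : Nontrivial E := by
      obtain ⟨hnt, -⟩ := H K
      by_contra hc
      have := not_nontrivial_iff_subsingleton.1 hc
      exact not_nontrivial (K ⊗[K] E) hnt
    refine ⟨inferInstance, fun N hN => ?_⟩
    by_cases hb : N = ⊥
    · exact .inl hb
    refine .inr ?_
    obtain ⟨z, hz, hz0⟩ := (Submodule.ne_bot_iff _).1 hb
    obtain ⟨S, hS⟩ := TensorProduct.exists_finset z
    let L : IntermediateField K (AlgebraicClosure K) := IntermediateField.adjoin K ((S.image Prod.fst : Finset _) : Set (AlgebraicClosure K))
    have : FiniteDimensional K L := IntermediateField.finiteDimensional_adjoin fun x _ => Algebra.IsIntegral.isIntegral x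
    let T := TensorProduct.AlgebraTensorModule.map (Algebra.linearMap L (AlgebraicClosure K)) (LinearMap.id : E →ₗ[K] E)
    have hzT : z ∈ LinearMap.range T := by
      rw [hS]
      refine Submodule.sum_mem _ fun s hs => ?_
      exact ⟨(⟨s.1, IntermediateField.subset_adjoin K _ (Finset.mem_coe.2 (Finset.mem_image_of_mem _ hs))⟩ : L) ⊗ₜ[K] s.2, by simp [T]⟩
    obtain ⟨z', hz'⟩ := hzT
    rcases (H L).2 ((N.restrictScalars L).comap T) (fun d x hx => by
      show T _ ∈ N
      rw [bc_comm]
      exact hN d _ hx) with h | h
    · exact absurd ((Submodule.eq_bot_iff _).1 h z' (by show T z' ∈ N; rw [hz']; exact hz)) (fun e => hz0 (by rw [← hz', e, map_zero]))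
    · rw [eq_top_iff]
      intro w _
      induction w using TensorProduct.induction_on with
      | zero => exact N.zero_mem
      | tmul a e =>
        have h1 : T ((1 : L) ⊗ₜ[K] e) ∈ N := (h ▸ Submodule.mem_top : (1 : L) ⊗ₜ[K] e ∈ (N.restrictScalars L).comap T)
        have := N.smul_mem a h1
        simpa [T, TensorProduct.smul_tmul'] using this
      | add a b ha hb => exact add_mem (ha trivial) (hb trivial)

end Groth.Agent.S18794
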