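import Groth.Statements.S18795
import Mathlib

set_option autoImplicit false
universe u v w
open scoped TensorProduct
open DefMod

namespace Groth.Agent.S18795

noncomputable def endBC (K : Type u) [Field K] (D : Type v) [Ring D] [Algebra K D] (E : Type w) [AddCommGroup E]
    [Module K E] [Module D E] [IsScalarTower K D E] [SMulCommClass D K E] :
    Module.End D E →ₐ[K] Module.End (AlgebraicClosure K) (AlgebraicClosure K ⊗[K] E) :=
  (Module.End.baseChangeHom K (AlgebraicClosure K) E).comp
    { toFun := fun f => f.restrictScalars K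
      map_one' := rfl
      map_mul' := fun _ _ => rfl
      map_zero' := rfl
      map_add' := fun _ _ => rfl
      commutes' := fun _ => rfl }

theorem eigen {L V : Type*} [Field L] [IsAlgClosed L] [AddCommGroup V] [Module L V] [Nontrivial V]
    (ψ : Module.End L V) (h : IsIntegral L ψ) : ∃ (μ : L) (x : V), x ≠ 0 ∧ ψ x = μ • x := by
  have hdeg := minpoly.degree_pos h
  obtain ⟨μ, hμ⟩ := IsAlgClosed.exists_root (minpoly L ψ) hdeg.ne'
  obtain ⟨q, hq⟩ := Polynomial.dvd_iff_isRoot.2 hμ
  have hq0 : Polynomial.aeval ψ q ≠ 0 := by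
    intro h0
    have hne := minpoly.ne_zero h
    have hqne : q ≠ 0 := fun e => hne (by rw [hq, e, mul_zero])
    have := minpoly.degree_le_of_ne_zero L ψ hqne h0
    rw [hq, Polynomial.degree_mul, Polynomial.degree_X_sub_C, Polynomial.degree_eq_natDegree hqne] at this
    exact absurd (WithBot.coe_le_coe.1 this : 1 + q.natDegree ≤ q.natDegree) (by omega)
  obtain ⟨y, hy⟩ : ∃ y, Polynomial.aeval ψ q y ≠ 0 := by
    by_contra hc
    push Not at hc
    exact hq0 (LinearMap.ext hc)
  refine ⟨μ, _, hy, ?_⟩
  have hz := minpoly.aeval L ψ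
  rw [hq, map_mul, map_sub, Polynomial.aeval_X, Polynomial.aeval_C] at hz
  have := LinearMap.congr_fun hz y
  simpa [sub_eq_zero, Module.algebraMap_end_apply] using this

/-- Let E be a left module over an associative algebra D over a field K of characteristic zero. Assume
that the D-linear endomorphisms of E form a finite-dimensional K-vector space, that E has a finite
presentation over D, and that E is absolutely irreducible: its base change K̄ ⊗_K E to an algebraic
closure K̄ of K is nonzero and its only K̄-subspaces stable under every element of D are 0 and the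
whole space. Then End_D(E) = K: every D-linear endomorphism of E is multiplication by a scalar from
K. -/
theorem result
    {K : Type u} [Field K] [CharZero K]
    {D : Type v} [Ring D] [Algebra K D]
    {E : Type w} [AddCommGroup E] [Module K E] [Module D E] [IsScalarTower K D E]
    [Module.Finite K (E →ₗ[D] E)] [Module.FinitePresentation D E]
    (habs : (Nontrivial (AlgebraicClosure K ⊗[K] E) ∧ ∀ N : Submodule (AlgebraicClosure K) (AlgebraicClosure K ⊗[K] E), (∀ (d : D) (x : AlgebraicClosure K ⊗[K] E), x ∈ N → (DistribSMul.toLinearMap K E d).baseChange (AlgebraicClosure K) x ∈ N) → N = ⊥ ∨ N = ⊤))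
    (φ : E →ₗ[D] E) : ∃ c : K, ∀ x : E, φ x = c • x := by
  classical
  have : SMulCommClass D K E := ⟨fun d c e => by
    rw [← algebraMap_smul D c e, ← algebraMap_smul D c (d • e), ← mul_smul, ← mul_smul, Algebra.commutes]⟩
  obtain ⟨hnt, hirr⟩ := habs
  rcases subsingleton_or_nontrivial E with hE | hE
  · exact ⟨0, fun x => Subsingleton.elim _ _⟩
  set ψ : Module.End (AlgebraicClosure K) (AlgebraicClosure K ⊗[K] E) := (φ.restrictScalars K).baseChange (AlgebraicClosure K) with hψ
  have : Module.Finite K (Module.End D E) := ‹Module.Finite K (E →ₗ[D] E)›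
  have hi0 : IsIntegral K (show Module.End D E from φ) := IsIntegral.of_finite K _
  have hint : IsIntegral (AlgebraicClosure K) ψ :=
    IsIntegral.tower_top (R := K) (by
      obtain ⟨q, hqm, hq0⟩ := hi0
      refine ⟨q, hqm, ?_⟩
      rw [← Polynomial.aeval_def] at hq0 ⊢
      rw [show ψ = endBC K D E φ from rfl, Polynomial.aeval_algHom_apply, hq0, map_zero])
  obtain ⟨μ, x0, hx0, hx0'⟩ := eigen ψ hint
  have hall : ∀ z, ψ z = μ • z := by
    rcases hirr (ψ.eigenspace μ) (fun d z hz => by
      rw [Module.End.mem_eigenspace_iff] at hz ⊢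
      have hc : ψ ((DistribSMul.toLinearMap K E d).baseChange (AlgebraicClosure K) z) =
          (DistribSMul.toLinearMap K E d).baseChange (AlgebraicClosure K) (ψ z) := by
        rw [hψ, ← LinearMap.comp_apply, ← LinearMap.baseChange_comp, ← LinearMap.comp_apply, ← LinearMap.baseChange_comp]
        congr 2
        exact LinearMap.ext fun e => φ.map_smul d e
      rw [hc, hz, map_smul]) with h | h
    · exact absurd ((Submodule.eq_bot_iff _).1 h x0 (Module.End.mem_eigenspace_iff.2 hx0')) hx0
    · exact fun z => Module.End.mem_eigenspace_iff.1 (h ▸ Submodule.mem_top)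
  obtain ⟨e, he⟩ := exists_ne (0 : E)
  obtain ⟨g0, hg0⟩ : ∃ g0 : Module.Dual K E, g0 e ≠ 0 := by
    by_contra hc
    push Not at hc
    exact he ((Module.forall_dual_apply_eq_zero_iff K e).1 hc)
  obtain ⟨g, hg⟩ : ∃ g : Module.Dual K E, g e = 1 := ⟨(g0 e)⁻¹ • g0, by simp [hg0]⟩
  have hμ : μ = algebraMap K (AlgebraicClosure K) (g (φ e)) := by
    have h := hall (1 ⊗ₜ[K] e)
    rw [hψ, LinearMap.baseChange_tmul, LinearMap.restrictScalars_apply, TensorProduct.smul_tmul', smul_eq_mul, mul_one] at h
    have h2 := congrArg (fun z => TensorProduct.rid K (AlgebraicClosure K) (g.lTensor (AlgebraicClosure K) z)) h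
    simp only [LinearMap.lTensor_tmul, TensorProduct.rid_tmul, hg, one_smul] at h2
    rw [← h2, Algebra.smul_def, mul_one]
  refine ⟨g (φ e), fun x => ?_⟩
  have h := hall (1 ⊗ₜ[K] x)
  rw [hψ, LinearMap.baseChange_tmul, LinearMap.restrictScalars_apply, hμ, algebraMap_smul, ← TensorProduct.tmul_smul] at h
  exact Module.FaithfullyFlat.tensorProduct_mk_injective (A := K) (B := AlgebraicClosure K) E h

end Groth.Agent.S18795
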