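import Groth.Statements.S18796
import Mathlib

set_option autoImplicit false
universe u v w w' u'
open scoped TensorProduct
open DefMod

namespace Groth.Agent.S18796

/-- Let K be a field of characteristic zero, D an associative K-algebra, E a left D-module that is
finitely presented over D, F a left D-module and P a commutative K-algebra. The canonical P-linear
map Φ : P ⊗_K Hom_D(E, F) → Hom_P(P ⊗_K E, P ⊗_K F), determined by p ⊗ f ↦ p · (1_P ⊗ f), is
injective, and its image consists exactly of the P-linear maps that commute with the action of every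
element of D; in other words Φ identifies P ⊗_K Hom_D(E, F) with the module of homomorphisms P ⊗_K E
→ P ⊗_K F over P ⊗_K D. The map Φ is pinned here by its values on pure tensors. -/
theorem result
    {K : Type u} [Field K] [CharZero K]
    {D : Type v} [Ring D] [Algebra K D]
    {E : Type w} [AddCommGroup E] [Module K E] [Module D E] [IsScalarTower K D E]
    [Module.FinitePresentation D E]
    {F : Type w'} [AddCommGroup F] [Module K F] [Module D F] [IsScalarTower K D F]
    (P : Type u') [CommRing P] [Algebra K P]
    (Φ : P ⊗[K] (E →ₗ[D] F) →ₗ[P] (P ⊗[K] E →ₗ[P] P ⊗[K] F))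
    (hΦ : ∀ (p : P) (f : E →ₗ[D] F), Φ (p ⊗ₜ[K] f) = p • (f.restrictScalars K).baseChange P) :
    Function.Injective Φ ∧
      ∀ g : P ⊗[K] E →ₗ[P] P ⊗[K] F,
        g ∈ LinearMap.range Φ ↔
          ∀ d : D, g ∘ₗ (DistribSMul.toLinearMap K E d).baseChange P =
            (DistribSMul.toLinearMap K F d).baseChange P ∘ₗ g := by
  classical
  have : SMulCommClass K D F := ⟨fun c d e => by
    rw [← algebraMap_smul D c e, ← algebraMap_smul D c (d • e), ← mul_smul, ← mul_smul, Algebra.commutes]⟩
  let b := Module.Free.chooseBasis K P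
  let cE := fun (i : Module.Free.ChooseBasisIndex K P) =>
    (TensorProduct.lid K F).toLinearMap ∘ₗ (b.coord i).rTensor F
  have hc : ∀ (i) (p : P) (y : F), cE i (p ⊗ₜ y) = b.coord i p • y := fun i p y => by simp [cE]
  have hrec : ∀ z : P ⊗[K] F, (∀ i, cE i z = 0) → z = 0 := by
    intro z hz
    apply (TensorProduct.equivFinsuppOfBasisLeft b).injective
    ext i
    rw [map_zero, Finsupp.zero_apply, ← hz i]
    induction z using TensorProduct.induction_on with
    | zero => simp
    | tmul p y => simp [hc]
    | add x y hx hy =>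
      clear hz
      have key : ∀ w : P ⊗[K] F, TensorProduct.equivFinsuppOfBasisLeft b w i = cE i w := by
        intro w
        induction w using TensorProduct.induction_on with
        | zero => simp
        | tmul p y => simp [hc]
        | add x y hx hy => simp [hx, hy]
      exact key _
  have hfin : ∀ z : P ⊗[K] F, ∃ T : Finset (Module.Free.ChooseBasisIndex K P), ∀ i ∉ T, cE i z = 0 := by
    intro z
    induction z using TensorProduct.induction_on with
    | zero => exact ⟨∅, fun i _ => map_zero _⟩
    | tmul p y => exact ⟨(b.repr p).support, fun i hi => by simp [hc, Finsupp.notMem_support_iff.1 hi]⟩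
    | add x y hx hy =>
      obtain ⟨S, hS⟩ := hx; obtain ⟨T, hT⟩ := hy
      exact ⟨S ∪ T, fun i hi => by rw [Finset.mem_union, not_or] at hi; rw [map_add, hS i hi.1, hT i hi.2, add_zero]⟩
  have hcd : ∀ i (d : D) (z : P ⊗[K] F), cE i ((DistribSMul.toLinearMap K F d).baseChange P z) = d • cE i z := by
    intro i d z
    induction z using TensorProduct.induction_on with
    | zero => simp
    | tmul p y =>
      simp only [LinearMap.baseChange_tmul, hc, DistribSMul.toLinearMap_apply]
      exact smul_comm _ _ _
    | add x y hx hy => simp [hx, hy]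
  have hdec : ∀ z : P ⊗[K] (E →ₗ[D] F), ∃ c : Module.Free.ChooseBasisIndex K P →₀ (E →ₗ[D] F), z = c.sum fun i f => b i ⊗ₜ f := fun z =>
    ⟨TensorProduct.equivFinsuppOfBasisLeft b z, by
      conv_lhs => rw [← (TensorProduct.equivFinsuppOfBasisLeft b).symm_apply_apply z]
      rw [TensorProduct.equivFinsuppOfBasisLeft_symm_apply]⟩
  have hval : ∀ (c : Module.Free.ChooseBasisIndex K P →₀ (E →ₗ[D] F)) (i) (e : E),
      cE i (Φ (c.sum fun i f => b i ⊗ₜ f) (1 ⊗ₜ e)) = c i e := by
    intro c i e
    induction c using Finsupp.induction_linear with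
    | zero => simp
    | add c c' h h' =>
      rw [Finsupp.sum_add_index' (fun _ => TensorProduct.tmul_zero _ _) (fun _ _ _ => TensorProduct.tmul_add _ _ _), map_add, LinearMap.add_apply, map_add, h, h']
      rfl
    | single j f =>
      rw [Finsupp.sum_single_index (h := fun i (f : E →ₗ[D] F) => b i ⊗ₜ[K] f) (TensorProduct.tmul_zero _ _), hΦ]
      simp [hc, TensorProduct.smul_tmul', Finsupp.single_apply, apply_ite (fun g : E →ₗ[D] F => g e)]
  refine ⟨?_, fun g => ⟨?_, fun hg => ?_⟩⟩
  · rw [injective_iff_map_eq_zero]
    intro z hz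
    obtain ⟨c, rfl⟩ := hdec z
    have : c = 0 := Finsupp.ext fun i => LinearMap.ext fun e => by
      rw [← hval c i e, hz]; simp
    rw [this, Finsupp.sum_zero_index]
  · rintro ⟨z, rfl⟩ d
    induction z using TensorProduct.induction_on with
    | zero => simp
    | tmul p f =>
      refine TensorProduct.AlgebraTensorModule.ext fun q e => ?_
      simp [hΦ, LinearMap.baseChange_tmul]
    | add x y hx hy => rw [map_add, LinearMap.add_comp, LinearMap.comp_add, hx, hy]
  · let fi : Module.Free.ChooseBasisIndex K P → (E →ₗ[D] F) := fun i =>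
      { toFun := fun e => cE i (g (1 ⊗ₜ e))
        map_add' := fun e e' => by rw [TensorProduct.tmul_add, map_add, map_add]
        map_smul' := fun d e => by
          rw [RingHom.id_apply, ← hcd]
          congr 1
          exact LinearMap.congr_fun (hg d) (1 ⊗ₜ e) }
    obtain ⟨S, hS⟩ := Module.Finite.fg_top (R := D) (M := E)
    choose T hT using fun e : E => hfin (g (1 ⊗ₜ e))
    have hzero : ∀ i ∉ S.biUnion T, fi i = 0 := by
      intro i hi
      refine LinearMap.ext_on hS fun e he => ?_
      exact hT e i fun h => hi (Finset.mem_biUnion.2 ⟨e, he, h⟩)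
    let c : Module.Free.ChooseBasisIndex K P →₀ (E →ₗ[D] F) :=
      Finsupp.onFinset (S.biUnion T) fi fun i hi => by_contra fun h => hi (hzero i h)
    refine ⟨c.sum fun i f => b i ⊗ₜ f, TensorProduct.AlgebraTensorModule.ext fun q e => ?_⟩
    rw [← mul_one q, ← smul_eq_mul, ← TensorProduct.smul_tmul', map_smul, map_smul]
    congr 1
    refine sub_eq_zero.1 (hrec _ fun i => ?_)
    rw [map_sub, hval, sub_eq_zero]
    rfl

end Groth.Agent.S18796
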