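import Groth.Statements.S1880
import Groth.Agent.Lib.GrpQuot.Affine
import Mathlib.RingTheory.Norm.Basic

set_option autoImplicit false
universe u
open CategoryTheory CategoryTheory.Limits AlgebraicGeometry
open Grpd

namespace Groth.Agent.S1880

/-- Let (U, R, s, t, c) be a groupoid scheme with U, R affine and s, t finite locally free. For f ∈
Γ(U), the norm along s♯ of t♯(f) is an R-invariant function. (Mathlib's norm is the determinant when
Γ(R) is free over Γ(U) via s♯ and 1 otherwise; the content is the free case, e.g. after localizing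
U.) (A groupoid scheme carries U, R, s, t, c, e, i over S with the groupoid axioms on T-points;
'finite locally free' is finite, flat and locally of finite presentation; C ⊂ Γ(U) is the ring of
functions a with s♯(a) = t♯(a) and M = Spec C.) -/
theorem result (S : Scheme.{u}) (G : Grpd.GroupoidScheme S) [IsAffine G.U] [IsAffine G.R] [IsFinite G.s] [Flat G.s] [LocallyOfFinitePresentation G.s] [IsFinite G.t] [Flat G.t] [LocallyOfFinitePresentation G.t] (f : Γ(G.U, ⊤)) : G.normST f ∈ G.invariants := by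
  let := G.s.appTop.hom.toAlgebra
  show algebraMap Γ(G.U, ⊤) Γ(G.R, ⊤) (Algebra.norm Γ(G.U, ⊤) (G.t.appTop.hom f)) =
    G.t.appTop.hom (Algebra.norm Γ(G.U, ⊤) (G.t.appTop.hom f))
  by_cases hb : ∃ s : Finset Γ(G.R, ⊤), Nonempty (Module.Basis s Γ(G.U, ⊤) Γ(G.R, ⊤))
  · obtain ⟨s, ⟨b₀⟩⟩ := hb
    let b := b₀.reindex (Fintype.equivFin s)
    let R : FinQuot.Retr Γ(G.U, ⊤) Γ(G.R, ⊤) :=
      ⟨_, b.equivFun.toLinearMap, b.equivFun.symm.toLinearMap, b.equivFun.symm_apply_apply⟩
    have hnorm : Algebra.norm Γ(G.U, ⊤) (G.t.appTop.hom f) = (R.mat (G.t.appTop.hom f)).det := by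
      rw [Algebra.norm_eq_matrix_det b]
      congr 1
    obtain ⟨e, he⟩ := GrpQuot.exists_iso (GrpQuot.grpR G) (RingHom.id Γ(G.R, ⊤))
      (RingHom.id_comp (algebraMap Γ(G.U, ⊤) Γ(G.R, ⊤))) (RingHom.id_comp G.t.appTop.hom)
    have h := GrpQuot.charpoly_matL_equiv R e (FinQuot.inB _ (G.t.appTop.hom f))
    rw [he, GrpQuot.matL_eq, GrpQuot.matL_eq, R.toMatrix'_mulLeft, R.toMatrix'_mulLeft] at h
    rw [hnorm, RingHom.map_det, RingHom.map_det, Matrix.det_eq_sign_charpoly_coeff,
      Matrix.det_eq_sign_charpoly_coeff, RingHom.mapMatrix_apply, RingHom.mapMatrix_apply, h]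
  · rw [Algebra.norm_eq_one_of_not_exists_basis _ hb, map_one, map_one]

end Groth.Agent.S1880
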