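import Groth.Statements.S18802
import Mathlib.LinearAlgebra.Basis.VectorSpace
import Mathlib.Algebra.Module.Equiv.Basic
import Mathlib.LinearAlgebra.Isomorphisms

set_option autoImplicit false
universe u v w w' w''
open DefMod

namespace Groth.Agent.S18802

/-- Let K be a field of characteristic zero, D an associative K-algebra and E, F left D-modules. A
K-linear map s : D → Hom_K(E, F) with s(ab)(e) = a s(b)(e) + s(a)(b e) (a derivation into the
bimodule Hom_K(E, F), i.e. a Hochschild 1-cocycle) defines the twisted sum F ⊕_s E = F × E with a ·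
(f, e) = (a f + s(a) e, a e), an extension of E by F. Every extension of left D-modules 0 → F → Q →
E → 0 arises this way: there are such an s and a D-linear isomorphism Q ≅ F ⊕_s E carrying the given
map F → Q to the inclusion f ↦ (f, 0) and compatible with the two projections onto E. (Together with
the splitting criterion this identifies derivations modulo principal derivations with Ext¹_D(E, F);
the compatibility of that identification with addition and scalars is not restated.) -/
theorem result
    {K : Type u} [Field K] [CharZero K]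
    {D : Type v} [Ring D] [Algebra K D]
    {E : Type w} [AddCommGroup E] [Module K E] [Module D E] [IsScalarTower K D E]
    {F : Type w'} [AddCommGroup F] [Module K F] [Module D F] [IsScalarTower K D F]
    {Q : Type w''} [AddCommGroup Q] [Module D Q]
    (i : F →ₗ[D] Q) (p : Q →ₗ[D] E) (hi : Function.Injective i) (hp : Function.Surjective p)
    (hex : Function.Exact i p) :
    ∃ (s : D →ₗ[K] E →ₗ[K] F) (hs : W4c6defoisocp1.IsHomDerivation s) (Φ : Q ≃ₗ[D] W4c6defoisocp1.TwistExt s hs),
      (∀ f : F, Φ (i f) = W4c6defoisocp1.TwistExt.inl f) ∧ ∀ q : Q, W4c6defoisocp1.TwistExt.snd (Φ q) = p q := by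
  letI : Module K Q := Module.compHom Q (algebraMap K D)
  have hK : ∀ (c : K) (q : Q), c • q = algebraMap K D c • q := fun _ _ => rfl
  let iK : F →ₗ[K] Q :=
    { toFun := i
      map_add' := i.map_add
      map_smul' := fun c f => by rw [← algebraMap_smul D c f, map_smul]; rfl }
  obtain ⟨r, hr⟩ := LinearMap.exists_leftInverse_of_injective iK (LinearMap.ker_eq_bot.2 hi)
  have hri : ∀ f : F, r (i f) = f := fun f => LinearMap.congr_fun hr f
  choose σ hσ using fun e : E => hp e
  -- the section killed by the retraction
  let τ : E → Q := fun e => σ e - i (r (σ e))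
  have hpi : ∀ f : F, p (i f) = 0 := fun f => (hex (i f)).2 ⟨f, rfl⟩
  have hpτ : ∀ e, p (τ e) = e := fun e => by simp only [τ, map_sub, hσ, hpi, sub_zero]
  have hrτ : ∀ e, r (τ e) = 0 := fun e => by simp only [τ, map_sub, hri, sub_self]
  have huniq : ∀ q, q = i (r q) + τ (p q) := by
    intro q
    obtain ⟨f, hf⟩ := (hex (q - τ (p q))).1 (by rw [map_sub, hpτ, sub_self])
    have h := congrArg r hf
    rw [hri, map_sub, hrτ, sub_zero] at h
    rw [← h, hf, sub_add_cancel]
  have hτadd : ∀ e e', τ (e + e') = τ e + τ e' := fun e e' => by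
    conv_rhs => rw [huniq (τ e + τ e'), map_add r, map_add p, hpτ, hpτ, hrτ, hrτ, add_zero, map_zero, zero_add]
  have hτsmul : ∀ (c : K) e, τ (c • e) = c • τ e := fun c e => by
    have h1 : p (c • τ e) = c • e := by rw [hK, map_smul, hpτ, algebraMap_smul]
    conv_rhs => rw [huniq (c • τ e), h1, map_smul, hrτ, smul_zero, map_zero, zero_add]
  let s : D →ₗ[K] E →ₗ[K] F := LinearMap.mk₂ K (fun a e => r (a • τ e))
    (fun a b e => by rw [add_smul, map_add])
    (fun c a e => by rw [← map_smul r, hK, Algebra.smul_def, mul_smul])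
    (fun a e e' => by rw [hτadd, smul_add, map_add])
    (fun c a e => by rw [hτsmul, hK, ← mul_smul, ← Algebra.commutes, mul_smul, ← hK, map_smul])
  have hs : W4c6defoisocp1.IsHomDerivation s := fun a b e => by
    show r ((a * b) • τ e) = a • r (b • τ e) + r (a • τ (b • e))
    conv_lhs => rw [mul_smul, huniq (b • τ e), map_smul p, hpτ, smul_add, map_add, ← map_smul i, hri]
  let Φ : Q →ₗ[D] W4c6defoisocp1.TwistExt s hs :=
    { toFun := fun q => W4c6defoisocp1.TwistExt.mk (r q, p q)
      map_add' := fun x y => W4c6defoisocp1.TwistExt.ext (by simp) (by simp)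
      map_smul' := fun a q => W4c6defoisocp1.TwistExt.ext (by
        show r (a • q) = a • r q + r (a • τ (p q))
        conv_lhs => rw [huniq q, smul_add, map_add, ← map_smul i, hri]) (by simp) }
  refine ⟨s, hs, LinearEquiv.ofBijective Φ ⟨fun x y h => ?_, fun x => ?_⟩, fun f => ?_, fun q => rfl⟩
  · have h1 : r x = r y := congrArg (fun z => (W4c6defoisocp1.TwistExt.val z).1) h
    have h2 : p x = p y := congrArg (fun z => (W4c6defoisocp1.TwistExt.val z).2) h
    rw [huniq x, huniq y, h1, h2]
  · refine ⟨i (W4c6defoisocp1.TwistExt.val x).1 + τ (W4c6defoisocp1.TwistExt.val x).2,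
      W4c6defoisocp1.TwistExt.ext ?_ ?_⟩
    · show r (i _ + τ _) = _
      rw [map_add, hri, hrτ, add_zero]
    · show p (i _ + τ _) = _
      rw [map_add, hpi, hpτ, zero_add]
  · refine W4c6defoisocp1.TwistExt.ext ?_ ?_
    · exact hri f
    · exact hpi f

end Groth.Agent.S18802
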