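import Groth.Statements.S18803
import Mathlib.LinearAlgebra.Basis.VectorSpace
import Mathlib.Algebra.Module.Equiv.Basic
import Mathlib.LinearAlgebra.Isomorphisms

set_option autoImplicit false
universe u v w w'
open DefMod

namespace Groth.Agent.S18803

/-- Let K be a field of characteristic zero, D an associative K-algebra, E and F left D-modules, and s :
D → Hom_K(E, F) a K-linear map with s(ab)(e) = a s(b)(e) + s(a)(b e). The twisted sum F ⊕_s E (that
is F × E with a · (f, e) = (a f + s(a) e, a e)) is a trivial extension of E by F — there is a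
D-linear isomorphism F ⊕_s E ≅ F × E with the direct-sum module structure, carrying the inclusion f
↦ (f, 0) to itself and compatible with the second projections — if and only if s is principal:
s(a)(e) = a σ(e) − σ(a e) for some K-linear σ : E → F (a Hochschild 1-coboundary). -/
theorem result
    {K : Type u} [Field K] [CharZero K]
    {D : Type v} [Ring D] [Algebra K D]
    {E : Type w} [AddCommGroup E] [Module K E] [Module D E] [IsScalarTower K D E]
    {F : Type w'} [AddCommGroup F] [Module K F] [Module D F] [IsScalarTower K D F]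
    (s : D →ₗ[K] E →ₗ[K] F) (hs : W4c6defoisocp1.IsHomDerivation s) :
    (∃ Ψ : W4c6defoisocp1.TwistExt s hs ≃ₗ[D] F × E,
        (∀ f : F, Ψ (W4c6defoisocp1.TwistExt.inl f) = (f, 0)) ∧ ∀ x : W4c6defoisocp1.TwistExt s hs, (Ψ x).2 = W4c6defoisocp1.TwistExt.snd x) ↔
      W4c6defoisocp1.IsPrincipal s := by
  constructor
  · rintro ⟨Ψ, hΨi, hΨp⟩
    have hval : ∀ (c : K) (e : E), (W4c6defoisocp1.TwistExt.mk (0, c • e) : W4c6defoisocp1.TwistExt s hs) =
        algebraMap K D c • W4c6defoisocp1.TwistExt.mk (0, e) := fun c e => by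
      refine W4c6defoisocp1.TwistExt.ext ?_ ?_
      · have h : s (algebraMap K D c) e = 0 := by
          rw [Algebra.algebraMap_eq_smul_one, map_smul, W4c6defoisocp1.TwistExt.map_one_eq_zero hs, smul_zero,
            LinearMap.zero_apply]
        simp [h]
      · simp [algebraMap_smul]
    let σ : E →ₗ[K] F :=
      { toFun := fun e => (Ψ (W4c6defoisocp1.TwistExt.mk (0, e))).1
        map_add' := fun e e' => by
          rw [← Prod.fst_add, ← map_add]
          exact congrArg (fun z => (Ψ z).1) (W4c6defoisocp1.TwistExt.ext (by simp) (by simp))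
        map_smul' := fun c e => by
          rw [hval, map_smul, Prod.smul_fst, algebraMap_smul]
          rfl }
    refine ⟨σ, fun a e => ?_⟩
    have h1 := congrArg Prod.fst (map_smul Ψ a (W4c6defoisocp1.TwistExt.mk (0, e)))
    have h2 : a • (W4c6defoisocp1.TwistExt.mk (0, e) : W4c6defoisocp1.TwistExt s hs) =
        W4c6defoisocp1.TwistExt.inl (s a e) + W4c6defoisocp1.TwistExt.mk (0, a • e) :=
      W4c6defoisocp1.TwistExt.ext (by simp) (by simp)
    rw [h2, map_add, hΨi, Prod.fst_add, Prod.smul_fst] at h1
    exact eq_sub_of_add_eq h1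
  · rintro ⟨σ, hσ⟩
    let Ψ : W4c6defoisocp1.TwistExt s hs →ₗ[D] F × E :=
      { toFun := fun x => ((W4c6defoisocp1.TwistExt.val x).1 + σ (W4c6defoisocp1.TwistExt.val x).2,
          (W4c6defoisocp1.TwistExt.val x).2)
        map_add' := fun x y => Prod.ext (by simp; abel) (by simp)
        map_smul' := fun a x => Prod.ext (by simp [hσ]; abel) (by simp) }
    refine ⟨LinearEquiv.ofBijective Ψ ⟨fun x y h => ?_, fun x => ?_⟩, fun f => ?_, fun x => rfl⟩
    · have h2 : (W4c6defoisocp1.TwistExt.val x).2 = (W4c6defoisocp1.TwistExt.val y).2 := (Prod.ext_iff.1 h).2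
      refine W4c6defoisocp1.TwistExt.ext ?_ h2
      have h1 : (W4c6defoisocp1.TwistExt.val x).1 + σ (W4c6defoisocp1.TwistExt.val x).2 = _ := (Prod.ext_iff.1 h).1
      rw [h2] at h1
      exact add_right_cancel h1
    · exact ⟨W4c6defoisocp1.TwistExt.mk (x.1 - σ x.2, x.2), Prod.ext (by simp [Ψ]) (by simp [Ψ])⟩
    · refine Prod.ext ?_ rfl
      show f + σ 0 = f
      rw [map_zero, add_zero]

end Groth.Agent.S18803
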