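import Groth.Statements.S18805
-- import your own Groth.Agent.* helpers here
import Groth.Agent.Lib.CurveOm17.Colength
import Groth.Agent.Lib.CurveOm17.AnyField
import Groth.Agent.Lib.TensorMod.Invertible
import Groth.Agent.Lib.CurveCoh17.Twist
import Groth.Agent.Lib.Omega12.Universal

set_option autoImplicit false
universe u
open CategoryTheory CategoryTheory.Limits AlgebraicGeometry
open Curves

namespace Groth.Agent.S18805

/-- Let k be an algebraically closed field of characteristic zero and X a smooth proper integral curve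
over k (integral, proper and smooth over k, of dimension one), with sheaf of differentials ω =
Ω_(X/k). Then ω is 3-very ample, meaning dim_k H^0(X, ω ⊗ I) + 4 = dim_k H^0(X, ω) for every
quasi-coherent ideal I of O_X with dim_k H^0(X, O_X/I) = 4, if and only if X carries no g^1_4,
meaning that for every such I (the ideal of an effective divisor D of degree 4) every module M with
I ⊗ M ≅ O_X (so M plays the role of O_X(D)) has dim_k H^0(X, M) = 1. -/
theorem result
    (k : Type u) [Field k] [IsAlgClosed k] [CharZero k]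
    (X : Scheme.{u}) [X.Over (Spec (CommRingCat.of k))] [IsIntegral X]
    [IsProper (X ↘ Spec (CommRingCat.of k))] [Smooth (X ↘ Spec (CommRingCat.of k))]
    (hdim : topologicalKrullDim X = 1) :
    (∀ (I : X.IdealSheafData), Module.finrank k (Coh.HH X (ClSub.quotMod I) 0) = 4 →
      Module.finrank k (Coh.HH X (CohB1.tensorMod (Omega.sheaf (X ↘ Spec (CommRingCat.of k))) (ClSub.idealMod I)) 0) + 4 =
        Module.finrank k (Coh.HH X (Omega.sheaf (X ↘ Spec (CommRingCat.of k))) 0)) ↔
    (∀ (I : X.IdealSheafData), Module.finrank k (Coh.HH X (ClSub.quotMod I) 0) = 4 →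
      ∀ (M : X.Modules), ClSub.IsInverseOf (ClSub.idealMod I) M →
        Module.finrank k (Coh.HH X M 0) = 1) := by
  obtain ⟨hX, h0, hbig⟩ := Groth.Agent.VB17.setup (k := k) (X := X) hdim
  obtain ⟨-, -, hΩ, -, lam, hW⟩ := Groth.Agent.CurveOm17.exists_isDualizing_omega' hdim h0
    (Groth.Agent.Omega12.isUniversal_dOmega (f := X ↘ Spec (CommRingCat.of k)))
  obtain ⟨hW0, -, -⟩ := hW.invariants hX h0 hbig
  have key : ∀ I : X.IdealSheafData, Module.finrank k (Coh.HH X (ClSub.quotMod I) 0) = 4 →
      ∀ M : X.Modules, ClSub.IsInverseOf (ClSub.idealMod I) M →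
      (Module.finrank k (Coh.HH X (CohB1.tensorMod (Omega.sheaf (X ↘ Spec (CommRingCat.of k))) (ClSub.idealMod I)) 0) : ℤ) =
        Module.finrank k (Coh.HH X M 0) + (Curv2.genus k X : ℤ) - 5 := by
    intro I hI M hM
    obtain ⟨hIi, hdI⟩ := Groth.Agent.CurveOm17.idealMod_of_colength X hdim I (by norm_num) hI
    obtain ⟨M', hM'i, ⟨e'⟩⟩ := Groth.Agent.M2.exists_inverse hIi
    obtain ⟨e⟩ := hM
    have i : M ≅ M' := (Groth.Agent.M2.tensorLUnit M).symm ≪≫
      Groth.Agent.M2.tensorIso (e'.symm ≪≫ Groth.Agent.M2.tensorComm _ _) (Iso.refl M) ≪≫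
      Groth.Agent.M2.tensorAssoc _ _ _ ≪≫ Groth.Agent.M2.tensorIso (Iso.refl M') e ≪≫ Groth.Agent.M2.tensorRUnit M'
    rw [(Groth.Agent.CurveCoh17.hequiv k i 0).finrank_eq]
    have h1 := hW.finrank_h1 hX h0 hbig hM'i hIi e'
    have hrr := hX.like.rr (Groth.Agent.CurveCoh17.isCoh_of_ofRank
      ((Groth.Agent.M2.isInvertible_iff_isFinLocFreeOfRank_one _).1 hM'i))
    rw [h0, h1, hX.like.deg_of_tensor_iso hIi hM'i e', hdI] at hrr
    push_cast at hrr
    omega
  constructor
  · intro H I hI M hM
    have h1 := key I hI M hM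
    have h2 := H I hI
    rw [hW0] at h2
    omega
  · intro H I hI
    obtain ⟨hIi, -⟩ := Groth.Agent.CurveOm17.idealMod_of_colength X hdim I (by norm_num) hI
    obtain ⟨M', hM'i, e'⟩ := Groth.Agent.M2.exists_inverse hIi
    have h1 := key I hI M' e'
    have h2 := H I hI M' e'
    rw [hW0]
    omega

end Groth.Agent.S18805
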