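import Groth.Statements.S18806
import Groth.Agent.Lib.CoalgH23.Basic

set_option autoImplicit false
universe u v v' w w' x
open TensorProduct
open HopfRep

namespace Groth.Agent.S18806

open scoped Groth.Agent.CoalgH23
open Groth.Agent.CoalgH23 WithConv

/-- Let k be a field, i : C → D an injective morphism of k-coalgebras and V a right D-comodule with
coaction ρ : V → V ⊗ D. If ρ(v) lies in the image of V ⊗ C → V ⊗ D (induced by i) for every v, then
V comes from a C-comodule: there is a C-comodule structure on V whose coaction, followed by V ⊗ C →
V ⊗ D, is ρ. (The source states this for left comodules over the coordinate bialgebras of an affine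
monoid scheme over k and of its group of units, assumed open and schematically dense, and uses that
assumption only through the injectivity of the restriction map of coordinate rings; the row is the
right-comodule mirror image for any injective coalgebra map. The converse direction is immediate.) -/
theorem result (k : Type u) [Field k]
    (C : Type v) [AddCommGroup C] [Module k C] [Coalgebra k C]
    (D : Type v') [AddCommGroup D] [Module k D] [Coalgebra k D]
    (i : C →ₗc[k] D) (hi : Function.Injective i)
    (V : Type w) [AddCommGroup V] [Module k V] [HopfRep.Comod k D V]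
    (h : ∀ v : V, HopfRep.Comod.coact (k := k) (A := D) v ∈ LinearMap.range ((i : C →ₗ[k] D).lTensor V)) :
    ∃ c : HopfRep.Comod k C V,
      (i : C →ₗ[k] D).lTensor V ∘ₗ c.coact = HopfRep.Comod.coact (k := k) (A := D) := by
  let J : V ⊗[k] C →ₗ[k] V ⊗[k] D := (i : C →ₗ[k] D).lTensor V
  have hJ : Function.Injective J := Module.Flat.lTensor_preserves_injective_linearMap _ hi
  let ρ := HopfRep.Comod.coact (k := k) (A := D) (V := V)
  let c : V →ₗ[k] V ⊗[k] C := (LinearEquiv.ofInjective J hJ).symm.toLinearMap ∘ₗ ρ.codRestrict _ h
  have hc : J ∘ₗ c = ρ := LinearMap.ext fun v =>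
    congrArg Subtype.val ((LinearEquiv.ofInjective J hJ).apply_symm_apply (ρ.codRestrict _ h v))
  have hii : Function.Injective ((TensorProduct.map (i : C →ₗ[k] D) (i : C →ₗ[k] D)).lTensor V) := by
    refine Module.Flat.lTensor_preserves_injective_linearMap _ ?_
    rw [← LinearMap.lTensor_comp_rTensor, LinearMap.coe_comp]
    exact (Module.Flat.lTensor_preserves_injective_linearMap _ hi).comp
      (Module.Flat.rTensor_preserves_injective_linearMap _ hi)
  have h1 : ∀ z : V ⊗[k] C, (TensorProduct.map (i : C →ₗ[k] D) (i : C →ₗ[k] D)).lTensor V
      (TensorProduct.assoc k V C C (c.rTensor C z)) = TensorProduct.assoc k V D D (ρ.rTensor D (J z)) := by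
    intro z
    induction z with
    | zero => simp
    | add a b ha hb => simp only [map_add, ha, hb]
    | tmul m x =>
      rw [← hc]
      simp only [J, LinearMap.lTensor_tmul, LinearMap.rTensor_tmul, LinearMap.comp_apply]
      generalize c m = y
      induction y with
      | zero => simp
      | add a b ha hb => simp only [TensorProduct.add_tmul, map_add, ha, hb]
      | tmul a b => simp
  refine ⟨{ coact := c, coassoc := ?_, counit_comp := ?_ }, hc⟩
  · refine LinearMap.ext fun v => hii ?_
    simp only [LinearMap.comp_apply, LinearEquiv.coe_coe]
    rw [h1, ← LinearMap.lTensor_comp_apply,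
      show TensorProduct.map (i : C →ₗ[k] D) (i : C →ₗ[k] D) ∘ₗ CoalgebraStruct.comul (R := k) (A := C) =
        CoalgebraStruct.comul (R := k) (A := D) ∘ₗ (i : C →ₗ[k] D) from i.map_comp_comul, LinearMap.lTensor_comp_apply]
    have := LinearMap.congr_fun (HopfRep.Comod.coassoc (k := k) (A := D) (V := V)) v
    simp only [LinearMap.comp_apply, LinearEquiv.coe_coe] at this
    rwa [show J (c v) = ρ v from LinearMap.congr_fun hc v]
  · refine LinearMap.ext fun v => ?_
    have := LinearMap.congr_fun (HopfRep.Comod.counit_comp (k := k) (A := D) (V := V)) v
    simp only [LinearMap.comp_apply] at this ⊢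
    rw [← this, show HopfRep.Comod.coact (k := k) (A := D) v = J (c v) from (LinearMap.congr_fun hc v).symm,
      ← LinearMap.lTensor_comp_apply,
      show CoalgebraStruct.counit (R := k) (A := D) ∘ₗ (i : C →ₗ[k] D) = CoalgebraStruct.counit (R := k) (A := C) from i.counit_comp]

end Groth.Agent.S18806
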