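import Groth.Statements.S18810
import Groth.Agent.Lib.CoalgH23.Simple

set_option autoImplicit false
universe u v v' w w' x
open TensorProduct
open HopfRep

namespace Groth.Agent.S18810

open scoped Groth.Agent.CoalgH23
open Groth.Agent.CoalgH23 WithConv

/-- Let k be a field, C a k-coalgebra, V a right C-comodule and (S_j) a family of simple C-comodules
which are pairwise non-isomorphic (for j ≠ j' no k-linear isomorphism S_j ≃ S_j' commutes with the
coactions). For each j let V[j] be the isotypic component of type S_j: the sum of the images of all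
comodule maps S_j → V (equivalently of all simple subcomodules of V isomorphic to S_j, a nonzero
such map being injective). Then the family j ↦ V[j] is independent, so that the socle of V is the
direct sum of its isotypic components. (The source states this for representations of an affine
monoid scheme over k, i.e. left comodules over its coordinate bialgebra; the row is the
right-comodule form over any coalgebra.) -/
theorem result (k : Type u) [Field k]
    (C : Type v) [AddCommGroup C] [Module k C] [Coalgebra k C]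
    (V : Type w) [AddCommGroup V] [Module k V] [HopfRep.Comod k C V]
    {ι : Type x} (S : ι → Type w') [∀ j, AddCommGroup (S j)] [∀ j, Module k (S j)]
    [∀ j, HopfRep.Comod k C (S j)] (hS : ∀ j, HopfRep.IsSimpleComod k C (S j))
    (hne : ∀ j j', j ≠ j' → ∀ e : S j ≃ₗ[k] S j', ¬ Hoch.IsComodHom C (e : S j →ₗ[k] S j')) :
    iSupIndep (fun j => ⨆ f : {f : S j →ₗ[k] V // Hoch.IsComodHom C f}, LinearMap.range f.1) := by
  have hsim := fun j => isSimpleComod_iff.1 (hS j)
  refine iSupIndep_def.2 fun j => Submodule.disjoint_def.2 fun x hx hx' => ?_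
  by_contra hx0
  let g : (p : Σ l : ι, {f : S l →ₗ[k] V // Hoch.IsComodHom C f}) → S p.1 →ₗ[WithConv (C →ₗ[k] k)] V :=
    fun p => toDual (C := C) p.2.1 p.2.2
  let P : Submodule (WithConv (C →ₗ[k] k)) V := ⨆ f : {f : S j →ₗ[k] V // Hoch.IsComodHom C f}, LinearMap.range (g ⟨j, f⟩)
  let Q : Submodule (WithConv (C →ₗ[k] k)) V :=
    ⨆ p : {p : Σ l : ι, {f : S l →ₗ[k] V // Hoch.IsComodHom C f} // p.1 ≠ j}, LinearMap.range (g p.1)
  have hP : x ∈ P := by
    have h : (⨆ f : {f : S j →ₗ[k] V // Hoch.IsComodHom C f}, LinearMap.range f.1) ≤ P.restrictScalars k :=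
      iSup_le fun f y hy => le_iSup (fun f => LinearMap.range (g ⟨j, f⟩)) f hy
    exact h hx
  have hQ : x ∈ Q := by
    have h : (⨆ (l : ι) (_ : l ≠ j), ⨆ f : {f : S l →ₗ[k] V // Hoch.IsComodHom C f}, LinearMap.range f.1) ≤
        Q.restrictScalars k :=
      iSup₂_le fun l hl => iSup_le fun f y hy =>
        le_iSup (fun p : {p : Σ l : ι, {f : S l →ₗ[k] V // Hoch.IsComodHom C f} // p.1 ≠ j} => LinearMap.range (g p.1))
          ⟨⟨l, f⟩, hl⟩ hy
    exact h hx'
  exact hx0 (Submodule.disjoint_def.1 (disjoint_iSup_range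
    (fun _ : {f : S j →ₗ[k] V // Hoch.IsComodHom C f} => S j) (fun f => g ⟨j, f⟩)
    (fun p : {p : Σ l : ι, {f : S l →ₗ[k] V // Hoch.IsComodHom C f} // p.1 ≠ j} => S p.1.1) (fun p => g p.1)
    (fun _ p => ⟨fun e => hne j p.1.1 p.2.symm (ofDualEquiv e) (isComodHom_ofDualEquiv e)⟩)) x hP hQ)

end Groth.Agent.S18810
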