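import Groth.Statements.S18811
import Mathlib.AlgebraicGeometry.Morphisms.Flat
import Mathlib.AlgebraicGeometry.Morphisms.UniversallyOpen

set_option autoImplicit false
universe u
open CategoryTheory CategoryTheory.Limits AlgebraicGeometry
open Variety

namespace Groth.Agent.S18811

/-- Let k be a field and X, Y quasi-compact k-schemes whose diagonal morphisms over k are affine
(semi-separated; for instance X and Y separated over k). Then the canonical map Γ(X, O_X) ⊗_k Γ(Y,
O_Y) → Γ(X ×_k Y, O) is an isomorphism: the commutative square of rings of global sections formed by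
Spec k, X, Y and X ×_k Y with the pullback maps along the structure morphisms and the two
projections is a pushout square of commutative rings. -/
theorem result (k : Type u) [Field k]
    (X : Scheme.{u}) [X.Over (Spec (CommRingCat.of k))] [CompactSpace ↥X]
    [IsAffineHom (pullback.diagonal (X ↘ (Spec (CommRingCat.of k))))]
    (Y : Scheme.{u}) [Y.Over (Spec (CommRingCat.of k))] [CompactSpace ↥Y]
    [IsAffineHom (pullback.diagonal (Y ↘ (Spec (CommRingCat.of k))))] :
    IsPushout (X ↘ (Spec (CommRingCat.of k))).appTop (Y ↘ (Spec (CommRingCat.of k))).appTop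
      (pullback.fst (X ↘ (Spec (CommRingCat.of k))) (Y ↘ (Spec (CommRingCat.of k)))).appTop
      (pullback.snd (X ↘ (Spec (CommRingCat.of k))) (Y ↘ (Spec (CommRingCat.of k)))).appTop := by
  set sX := X ↘ (Spec (CommRingCat.of k))
  set sY := Y ↘ (Spec (CommRingCat.of k))
  haveI : QuasiSeparated sX := ⟨inferInstance⟩
  haveI : QuasiSeparated sY := ⟨inferInstance⟩
  haveI : QuasiSeparatedSpace ↥X := quasiSeparatedSpace_of_quasiSeparated sX
  haveI : QuasiSeparatedSpace ↥Y := quasiSeparatedSpace_of_quasiSeparated sY
  haveI : Flat sY := inferInstance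
  have H : IsPullback (pullback.fst sX sY) (pullback.snd sX sY) sX sY := IsPullback.of_hasPullback _ _
  have hF : (sX.appLE ⊤ ⊤ le_top).hom.Flat := by
    letI : Field Γ(Spec (CommRingCat.of k), ⊤) :=
      ((Scheme.ΓSpecIso (CommRingCat.of k)).commRingCatIsoToRingEquiv.toMulEquiv.isField (Field.toIsField k)).toField
    letI := (sX.appLE ⊤ ⊤ le_top).hom.toAlgebra
    exact RingHom.flat_algebraMap_iff.mpr (inferInstance : Module.Flat Γ(Spec (CommRingCat.of k), ⊤) Γ(X, ⊤))
  have h := (isIso_pushoutSection_iff H (US := ⊤) (UT := ⊤) (UX := ⊤) (UY := ⊤) le_top le_top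
    (by simp)).mp (isIso_pushoutSection_of_isCompact_of_flat_right_of_ringHomFlat H le_top le_top _
      (isAffineOpen_top _) isCompact_univ isQuasiSeparated_univ isCompact_univ isQuasiSeparated_univ hF)
  simpa [Scheme.Hom.app_eq_appLE] using h

end Groth.Agent.S18811
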