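import Groth.Statements.S18814
import Groth.Agent.Lib.CoalgH23.Simple

set_option autoImplicit false
universe u v v' w w'
open TensorProduct
open HopfRep

namespace Groth.Agent.S18814

open scoped Groth.Agent.CoalgH23
open Groth.Agent.CoalgH23 WithConv

/-- Let k be a field, C and D commutative bialgebras over k (coordinate rings of affine monoid schemes M
and N) and V a k-vector space carrying a right C-comodule structure with coaction ρ_C : V → V ⊗ C
and a right D-comodule structure with coaction ρ_D : V → V ⊗ D which commute: (ρ_C ⊗ id_D) ∘ ρ_D and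
(ρ_D ⊗ id_C) ∘ ρ_C agree in V ⊗ C ⊗ D after reassociating and swapping the last two factors (the
actions of M and N on V commute). Assume V is semisimple as a D-comodule. Then for every simple
D-comodule S the isotypic component of V of type S, the sum of the images of all D-comodule maps S →
V, is a C-subcomodule of V. (The source works with left comodules; this is the right-comodule form.) -/
theorem result (k : Type u) [Field k]
    (C : Type v) [CommRing C] [Bialgebra k C] (D : Type v') [CommRing D] [Bialgebra k D]
    (V : Type w) [AddCommGroup V] [Module k V] [HopfRep.Comod k C V] [HopfRep.Comod k D V]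
    (hcomm : (TensorProduct.assoc k V C D).toLinearMap ∘ₗ
        (HopfRep.Comod.coact (k := k) (A := C) (V := V)).rTensor D ∘ₗ HopfRep.Comod.coact (k := k) (A := D) =
      (TensorProduct.comm k D C).toLinearMap.lTensor V ∘ₗ (TensorProduct.assoc k V D C).toLinearMap ∘ₗ
        (HopfRep.Comod.coact (k := k) (A := D) (V := V)).rTensor C ∘ₗ HopfRep.Comod.coact (k := k) (A := C))
    (hV : HopfRep.IsSemisimpleComod k D V)
    (S : Type w') [AddCommGroup S] [Module k S] [HopfRep.Comod k D S] (hS : HopfRep.IsSimpleComod k D S) :
    HopfRep.IsSubcomod (k := k) (A := C)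
      (⨆ f : {f : S →ₗ[k] V // Hoch.IsComodHom D f}, LinearMap.range f.1) := by
  refine isSubcomod_iff.2 fun χ v hv => ?_
  have hlin : ∀ f : S →ₗ[k] V, Hoch.IsComodHom D f → Hoch.IsComodHom D (actL (V := V) χ.ofConv ∘ₗ f) := by
    intro f hf
    refine isComodHom_iff.2 fun ψ s => ?_
    rw [LinearMap.comp_apply, isComodHom_iff.1 hf, LinearMap.comp_apply]
    generalize f s = u
    have h := congrArg (slice (LinearMap.mul' k k ∘ₗ TensorProduct.map χ.ofConv ψ.ofConv))
      (LinearMap.congr_fun hcomm u)
    simp only [LinearMap.comp_apply, LinearEquiv.coe_coe] at h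
    rw [slice_assoc_map, slice_lTensor] at h
    have e : (LinearMap.mul' k k ∘ₗ TensorProduct.map χ.ofConv ψ.ofConv) ∘ₗ (TensorProduct.comm k D C).toLinearMap =
        LinearMap.mul' k k ∘ₗ TensorProduct.map ψ.ofConv χ.ofConv := TensorProduct.ext' fun a b => by simp [mul_comm]
    rw [e, slice_assoc_map] at h
    exact h
  change actL χ.ofConv v ∈ _
  induction hv using Submodule.iSup_induction' with
  | mem f y hy =>
    obtain ⟨s, rfl⟩ := hy
    exact le_iSup (fun f : {f : S →ₗ[k] V // Hoch.IsComodHom D f} => LinearMap.range f.1) ⟨_, hlin f.1 f.2⟩ ⟨s, rfl⟩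
  | zero => rw [map_zero]; exact zero_mem _
  | add a b _ _ iha ihb => rw [map_add]; exact add_mem iha ihb

end Groth.Agent.S18814
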