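import Groth.Statements.S18817
import Groth.Agent.Lib.MonUnit19.Thick
import Groth.Agent.Lib.SmoothLift15.SmallExtScheme

set_option autoImplicit false
universe u
open CategoryTheory MonoidalCategory CartesianMonoidalCategory MonObj AlgebraicGeometry
open AlgGrp

namespace Groth.Agent.S18817

/-- Let k be a field and M an algebraic monoid over k, i.e. a monoid object in k-schemes whose
underlying scheme is of finite type over k, and assume M is geometrically integral. Let i : G → M be
the group of units of M: a monomorphism of k-schemes such that, for every k-scheme T, a T-valued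
point of M factors through i if and only if it is invertible in the monoid M(T). Then i is an open
immersion. -/
theorem result (k : Type u) [Field k]
    (M G : Over (Spec (CommRingCat.of k))) [MonObj M] [LocallyOfFiniteType M.hom] [QuasiCompact M.hom]
    [GeometricallyIntegral M.hom] (i : G ⟶ M) [Mono i]
    (hi : ∀ (T : Over (Spec (CommRingCat.of k))) (m : T ⟶ M), (∃ g : T ⟶ G, g ≫ i = m) ↔ IsUnit m) :
    IsOpenImmersion i.left := by
  haveI : Mono i.left := inferInstance
  haveI : IsLocallyNoetherian M.left := LocallyOfFiniteType.isLocallyNoetherian M.hom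
  haveI : LocallyOfFiniteType (M ⊗ M).hom :=
    inferInstanceAs (LocallyOfFiniteType (Limits.pullback.fst M.hom M.hom ≫ M.hom))
  haveI : LocallyOfFiniteType (lift η[M] η[M]).left := by
    have : LocallyOfFiniteType ((lift η[M] η[M]).left ≫ (M ⊗ M).hom) := by
      rw [Over.w]
      exact inferInstanceAs (LocallyOfFiniteType (𝟙 (Spec (CommRingCat.of k))))
    exact locallyOfFiniteType_of_comp _ (M ⊗ M).hom
  obtain ⟨u, hu⟩ := (hi G i).1 ⟨𝟙 G, Category.id_comp i⟩
  let b : G ⟶ M := ((u⁻¹ : (G ⟶ M)ˣ) : G ⟶ M)
  have hib : i * b = 1 := by rw [← hu]; exact u.mul_inv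
  have hbi : b * i = 1 := by rw [← hu]; exact u.inv_mul
  let q : M ⊗ M ⟶ M ⊗ M := lift (fst _ _ * snd _ _) (snd _ _ * fst _ _)
  have h1 : ∀ {T : Over (Spec (CommRingCat.of k))}, toUnit T ≫ η[M] = (1 : T ⟶ M) := fun {T} => (Hom.one_def).symm
  have hsq : lift i b ≫ q = toUnit G ≫ lift η[M] η[M] := by
    apply CartesianMonoidalCategory.hom_ext <;> simp [q, MonObj.comp_mul, hib, hbi, h1]
  have hpb : IsPullback (lift i b) (toUnit G) q (lift η[M] η[M]) := by
    refine IsPullback.of_isLimit' ⟨hsq⟩ (CategoryTheory.Limits.PullbackCone.IsLimit.mk _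
      (fun s => ((hi s.pt (s.fst ≫ fst M M)).2 ?_).choose) ?_ (fun s => toUnit_unique _ _) ?_)
    · have e1 := congrArg (· ≫ fst M M) s.condition
      have e2 := congrArg (· ≫ snd M M) s.condition
      simp only [Category.assoc, q, lift_fst, lift_snd, MonObj.comp_mul] at e1 e2
      rw [toUnit_unique s.snd (toUnit _), h1] at e1 e2
      exact isUnit_iff_exists_and_exists.2 ⟨⟨_, e1⟩, ⟨_, e2⟩⟩
    · intro s
      generalize_proofs hg
      have e := hg.choose_spec
      apply CartesianMonoidalCategory.hom_ext
      · rw [Category.assoc, lift_fst, e]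
      · rw [Category.assoc, lift_snd]
        have e1 := congrArg (· ≫ fst M M) s.condition
        simp only [Category.assoc, q, lift_fst, MonObj.comp_mul] at e1
        rw [toUnit_unique s.snd (toUnit _), h1] at e1
        have e2 : (hg.choose ≫ b) * (hg.choose ≫ i) = 1 := by rw [← MonObj.comp_mul, hbi, MonObj.comp_one]
        rw [e] at e2
        exact left_inv_eq_right_inv e2 e1
    · intro s m hm1 _
      generalize_proofs hg
      rw [← cancel_mono i, hg.choose_spec, ← hm1, Category.assoc, lift_fst]
  haveI : LocallyOfFiniteType G.hom := by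
    haveI : LocallyOfFiniteType (lift i b).left :=
      MorphismProperty.of_isPullback ((hpb.map (Over.forget _)).flip) ‹LocallyOfFiniteType (lift η[M] η[M]).left›
    rw [← Over.w (lift i b)]
    infer_instance
  haveI : LocallyOfFiniteType i.left := by
    have : LocallyOfFiniteType (i.left ≫ M.hom) := by rw [Over.w]; infer_instance
    exact locallyOfFiniteType_of_comp _ M.hom
  haveI : Smooth i.left := by
    refine SmoothLift15.smooth_of_ptLifts i.left fun x A _ _ _ t ht _ α β _ hαβ _ => ?_
    let J := Spec.map (CommRingCat.ofHom (Ideal.Quotient.mk (Ideal.span {t})))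
    haveI : IsClosedImmersion J := IsClosedImmersion.spec_of_surjective _ Ideal.Quotient.mk_surjective
    have hne : Ideal.span {t} ≠ ⊤ := fun htop => by
      haveI : Subsingleton (A ⧸ Ideal.span {t}) := Ideal.Quotient.subsingleton_iff.2 htop
      exact not_subsingleton (A ⧸ Ideal.span {t}) ‹_›
    haveI : Surjective J :=
      SmoothLift15.surjective_specMap_mk _ (SmoothLift15.sq_span_singleton_of_kill t ht hne)
    let T : Over (Spec (CommRingCat.of k)) := Over.mk (β ≫ M.hom)
    let T₀ : Over (Spec (CommRingCat.of k)) := Over.mk (J ≫ β ≫ M.hom)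
    let j : T₀ ⟶ T := Over.homMk J rfl
    let α' : T₀ ⟶ G := Over.homMk α (by
      show α ≫ G.hom = J ≫ β ≫ M.hom
      rw [← Over.w i, ← Category.assoc, hαβ, Category.assoc])
    let β' : T ⟶ M := Over.homMk β rfl
    have hj : j ≫ β' = α' ≫ i := Over.OverMorphism.ext hαβ.symm
    haveI : IsClosedImmersion j.left := ‹IsClosedImmersion J›
    haveI : Surjective j.left := ‹Surjective J›
    have hb : IsUnit β' := MonUnit19.isUnit_of_thickening j β' ((hi T₀ (j ≫ β')).1 ⟨α', hj.symm⟩)
    obtain ⟨gm, hgm⟩ := (hi T β').2 hb
    refine ⟨gm.left, ?_, congrArg CommaMorphism.left hgm⟩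
    rw [← cancel_mono i.left, Category.assoc, show gm.left ≫ i.left = β from congrArg CommaMorphism.left hgm]
    exact hαβ.symm
  exact IsOpenImmersion.of_flat_of_mono i.left

end Groth.Agent.S18817
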