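import Groth.Statements.S18820


set_option autoImplicit false
universe u
open CategoryTheory MonoidalCategory CartesianMonoidalCategory AlgebraicGeometry
open AlgGrp

namespace Groth.Agent.S18820

/-- Let k be a field, M a k-scheme (in the source a monoid k-scheme) acting on a k-scheme X through a :
M ×_k X → X, and z : Z → X a closed immersion which is surjective (a closed subscheme defined by an
ideal all of whose sections are nilpotent, e.g. the reduction of X), stable under the action: a_Z :
M ×_k Z → Z satisfies (id_M × z) followed by a = a_Z followed by z. For an open subset U of X the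
following are equivalent: (i) U is stable, i.e. a maps M ×_k U into U; (ii) U ∩ Z is stable, i.e.
a_Z maps M ×_k (U ∩ Z) into U ∩ Z. (The monoid axioms of the source play no role and are not
assumed.) -/
theorem result (k : Type u) [Field k]
    (M X Z : Over (Spec (CommRingCat.of k))) (a : M ⊗ X ⟶ X) (aZ : M ⊗ Z ⟶ Z) (z : Z ⟶ X)
    [IsClosedImmersion z.left] [Surjective z.left] (hz : (M ◁ z) ≫ a = aZ ≫ z) (U : X.left.Opens) :
    (CartesianMonoidalCategory.snd M X).left ⁻¹ᵁ U ≤ a.left ⁻¹ᵁ U ↔
      (CartesianMonoidalCategory.snd M Z).left ⁻¹ᵁ (z.left ⁻¹ᵁ U) ≤ aZ.left ⁻¹ᵁ (z.left ⁻¹ᵁ U) := by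
  have hsq : ∀ p, a.left ((M ◁ z).left p) = z.left (aZ.left p) := fun p => by
    have := congrArg (fun g : M ⊗ Z ⟶ X => g.left p) hz
    simpa using this
  have hsnd : ∀ p, (CartesianMonoidalCategory.snd M X).left ((M ◁ z).left p) =
      z.left ((CartesianMonoidalCategory.snd M Z).left p) := fun p => by
    have := congrArg (fun g : M ⊗ Z ⟶ X => g.left p) (CartesianMonoidalCategory.whiskerLeft_snd M z)
    exact this
  have hsurj : Surjective (M ◁ z).left := by
    refine ⟨fun q => ?_⟩
    have hq : q ∈ Set.range (M ◁ z).left := by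
      erw [Over.whiskerLeft_left, Scheme.Pullback.range_map]
      exact ⟨⟨_, rfl⟩, Surjective.surj (f := z.left) _⟩
    exact hq
  constructor
  · intro h p hp
    have h' := h (x := (M ◁ z).left p)
    simp only [Scheme.Hom.mem_preimage, hsq, hsnd] at h' hp ⊢
    exact h' hp
  · intro h q hq
    obtain ⟨p, rfl⟩ := hsurj.surj q
    simp only [Scheme.Hom.mem_preimage, hsq, hsnd] at hq ⊢
    exact h (x := p) hq

end Groth.Agent.S18820
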