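import Groth.Statements.S18821


set_option autoImplicit false
universe u
open CategoryTheory MonoidalCategory CartesianMonoidalCategory MonObj AlgebraicGeometry
open AlgGrp

namespace Groth.Agent.S18821

/-- Let k be a commutative ring and M a monoid k-scheme (a monoid object in k-schemes). Then the group
k-functor of units T ↦ M(T)^× is representable by a k-scheme: there are a k-scheme G and a
monomorphism i : G → M such that, for every k-scheme T, a T-valued point of M factors through i if
and only if it is invertible in the monoid M(T). If moreover M is affine then G is affine. -/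
theorem result (k : Type u) [CommRing k]
    (M : Over (Spec (CommRingCat.of k))) [MonObj M] :
    ∃ (G : Over (Spec (CommRingCat.of k))) (i : G ⟶ M), Mono i ∧
      (∀ (T : Over (Spec (CommRingCat.of k))) (m : T ⟶ M), (∃ g : T ⟶ G, g ≫ i = m) ↔ IsUnit m) ∧
      (IsAffine M.left → IsAffine G.left) := by
  let f : M ⊗ M ⟶ M ⊗ M := lift μ[M] ((β_ M M).hom ≫ μ[M])
  let e : 𝟙_ (Over (Spec (CommRingCat.of k))) ⟶ M ⊗ M := lift η[M] η[M]
  refine ⟨Limits.pullback f e, Limits.pullback.fst f e ≫ fst M M, ?_, ?_, ?_⟩
  · refine ⟨fun {T} u v huv => ?_⟩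
    apply Limits.pullback.hom_ext
    · have key : ∀ w : T ⟶ Limits.pullback f e,
          (w ≫ Limits.pullback.fst f e ≫ fst M M) * (w ≫ Limits.pullback.fst f e ≫ snd M M) = 1 ∧
          (w ≫ Limits.pullback.fst f e ≫ snd M M) * (w ≫ Limits.pullback.fst f e ≫ fst M M) = 1 := by
        intro w
        have hc : w ≫ Limits.pullback.fst f e ≫ f = w ≫ Limits.pullback.snd f e ≫ e := by
          rw [Limits.pullback.condition]
        have h1 := congrArg (· ≫ fst M M) hc
        have h2 := congrArg (· ≫ snd M M) hc
        simp [f, e] at h1 h2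
        refine ⟨?_, ?_⟩
        · rw [Hom.mul_def, ← comp_lift_assoc, ← comp_lift_assoc, lift_fst_snd, Category.id_comp, h1, Hom.one_def]
          rw [← Category.assoc, toUnit_unique (w ≫ Limits.pullback.snd f e) (toUnit T)]
        · rw [Hom.mul_def, ← comp_lift_assoc, ← comp_lift_assoc]
          have : lift (snd M M) (fst M M) = (β_ M M).hom := by ext <;> simp
          rw [this, h2, Hom.one_def]
          rw [← Category.assoc, toUnit_unique (w ≫ Limits.pullback.snd f e) (toUnit T)]
      apply CartesianMonoidalCategory.hom_ext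
      · simpa using huv
      · simp only [Category.assoc]
        have hu := key u
        have hv := key v
        rw [show u ≫ Limits.pullback.fst f e ≫ fst M M = v ≫ Limits.pullback.fst f e ≫ fst M M by simpa using huv] at hu
        exact left_inv_eq_right_inv hu.2 hv.1
    · exact toUnit_unique _ _
  · intro T m
    constructor
    · rintro ⟨g, rfl⟩
      have hc : g ≫ Limits.pullback.fst f e ≫ f = g ≫ Limits.pullback.snd f e ≫ e := by
        rw [Limits.pullback.condition]
      have h1 := congrArg (· ≫ fst M M) hc
      have h2 := congrArg (· ≫ snd M M) hc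
      simp [f, e] at h1 h2
      refine ⟨⟨_, g ≫ Limits.pullback.fst f e ≫ snd M M, ?_, ?_⟩, rfl⟩
      · rw [Hom.mul_def, ← comp_lift_assoc, ← comp_lift_assoc, lift_fst_snd, Category.id_comp, h1, Hom.one_def]
        rw [← Category.assoc, toUnit_unique (g ≫ Limits.pullback.snd f e) (toUnit T)]
      · rw [Hom.mul_def, ← comp_lift_assoc, ← comp_lift_assoc]
        have : lift (snd M M) (fst M M) = (β_ M M).hom := by ext <;> simp
        rw [this, h2, Hom.one_def]
        rw [← Category.assoc, toUnit_unique (g ≫ Limits.pullback.snd f e) (toUnit T)]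
    · rintro ⟨u, rfl⟩
      refine ⟨Limits.pullback.lift (lift (u : T ⟶ M) (↑u⁻¹)) (toUnit T) ?_, ?_⟩
      have h1 : (u : T ⟶ M) * ↑u⁻¹ = 1 := u.mul_inv
      have h2 : (↑u⁻¹ : T ⟶ M) * u = 1 := u.inv_mul
      rw [Hom.mul_def, Hom.one_def] at h1 h2
      · apply CartesianMonoidalCategory.hom_ext
        · simp [f, e, h1]
        · simp [f, e, h2]
      · rw [Limits.pullback.lift_fst_assoc]; simp
  · intro hM
    have hMM : IsAffine (M ⊗ M).left := inferInstanceAs (IsAffine (Limits.pullback M.hom M.hom))
    have : IsAffine (𝟙_ (Over (Spec (CommRingCat.of k)))).left := inferInstanceAs (IsAffine (Spec (CommRingCat.of k)))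
    have : IsAffine ((Over.forget (Spec (CommRingCat.of k))).obj (M ⊗ M)) := hMM
    have : IsAffine ((Over.forget (Spec (CommRingCat.of k))).obj (𝟙_ (Over (Spec (CommRingCat.of k))))) :=
      inferInstanceAs (IsAffine (Spec (CommRingCat.of k)))
    exact IsAffine.of_isIso ((Limits.PreservesPullback.iso (Over.forget _) f e).hom)

end Groth.Agent.S18821
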