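import Groth.Statements.S18822
import Mathlib.CategoryTheory.Sites.SubcanonicalOver
import Mathlib.AlgebraicGeometry.Sites.BigZariski

set_option autoImplicit false
universe u
open CategoryTheory MonoidalCategory CartesianMonoidalCategory MonObj AlgebraicGeometry Opposite
open Magnet

namespace Groth.Agent.S18822
set_option linter.style.haveILetI false
set_option backward.isDefEq.respectTransparency false
set_option backward.isDefEq.respectTransparency.types false


/-- Let k be a commutative ring, M a monoid k-scheme and X a k-scheme with an action a of M. Then the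
fixed-point subpresheaf X^M of X, whose T-valued points are the k-morphisms x : T → X such that g ·
(x ∘ t) = x ∘ t for every k-scheme T', every t : T' → T and every T'-valued point g of M, is a sheaf
for the Zariski topology on k-schemes (the topology induced on schemes over Spec k). -/
theorem result (k : Type u) [CommRing k]
    (M X : Over (Spec (CommRingCat.of k))) [MonObj M] (a : Magnet.MonAct M X) :
    Presheaf.IsSheaf (Scheme.zariskiTopology.over (Spec (CommRingCat.of k))) (Magnet.MonAct.fixedPsh a) := by
  rw [isSheaf_iff_isSheaf_of_type]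
  let J := Scheme.zariskiTopology.over (Spec (CommRingCat.of k))
  haveI : GrothendieckTopology.Subcanonical (Scheme.zariskiTopology.{u}) := Scheme.subcanonical_zariskiTopology
  have hX : Presieve.IsSheaf J (yoneda.obj X) := GrothendieckTopology.Subcanonical.isSheaf_of_isRepresentable _
  intro T R hR x hx
  obtain ⟨y, hy, hu⟩ := hX R hR (fun V f hf => (x f hf).1)
    (fun Y₁ Y₂ Z g₁ g₂ f₁ f₂ h₁ h₂ e => congrArg Subtype.val (hx g₁ g₂ h₁ h₂ e))
  refine ⟨⟨y, fun T' t g => ?_⟩, fun V f hf => Subtype.ext (hy f hf), fun z hz =>
    Subtype.ext (hu z.1 fun V f hf => congrArg Subtype.val (hz f hf))⟩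
  refine ((hX (R.pullback t) (J.pullback_stable t hR)).isSeparatedFor).ext fun W s hs => ?_
  change s ≫ CartesianMonoidalCategory.lift g (t ≫ y) ≫ a.act = s ≫ t ≫ y
  have e : s ≫ t ≫ y = (x (s ≫ t) hs).1 := (Category.assoc _ _ _).symm.trans (hy (s ≫ t) hs)
  rw [CartesianMonoidalCategory.comp_lift_assoc, e]
  have h := (x (s ≫ t) hs).2 W (𝟙 W) (s ≫ g)
  simpa using h

end Groth.Agent.S18822
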