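import Groth.Statements.S18823
import Groth.Agent.Lib.WeilEq.Represent
-- import your own Groth.Agent.* helpers here

set_option autoImplicit false
universe u
open CategoryTheory MonoidalCategory CartesianMonoidalCategory AlgebraicGeometry
open AlgGrp

namespace Groth.Agent.S18823

set_option linter.style.haveILetI false
set_option backward.isDefEq.respectTransparency.types false


/-- Let k be a field, X a separated k-scheme, M a k-scheme (in the source a monoid k-scheme) acting on X
through a : M ×_k X → X, and i : G → M a morphism of k-schemes which is a scheme-theoretically
dominant open immersion: no nonzero quasi-coherent ideal of O_M restricts to zero on G (for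
quasi-compact i this is the usual schematic density, O_M → i_*O_G injective; in the source G is the
group of units of M, open and schematically dense). For a k-scheme T and a T-valued point x of X, x
is fixed under M, i.e. a ∘ (id_M × x) = x ∘ pr_T on M ×_k T, if and only if x is fixed under G, i.e.
a ∘ (i × x) = x ∘ pr_T on G ×_k T. Thus the fixed-point subpresheaves X^M and X^G of X are equal.
(The published statement has no separatedness assumption on X and reduces to points landing in an
affine open; the step asserting that the equalizer of the two maps M ×_k T → X is closed uses that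
the target is separated, so X is taken separated here, the case the printed argument establishes.
The monoid structure and the action axioms play no role in that argument and are not assumed.) -/
theorem result (k : Type u) [Field k]
    (M G X : Over (Spec (CommRingCat.of k))) [IsSeparated X.hom] (a : M ⊗ X ⟶ X) (i : G ⟶ M)
    [IsOpenImmersion i.left] [IsSchemeTheoreticallyDominant i.left]
    (T : Over (Spec (CommRingCat.of k))) (x : T ⟶ X) :
    (M ◁ x) ≫ a = CartesianMonoidalCategory.snd M T ≫ x ↔
      (G ◁ x) ≫ (i ▷ X) ≫ a = CartesianMonoidalCategory.snd G T ≫ x := by
  classical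
  constructor
  · intro h
    rw [whisker_exchange_assoc, h, whiskerRight_snd_assoc]
  · intro h
    haveI : IsSeparated X.hom := inferInstance
    let f := (M ◁ x) ≫ a
    let g := CartesianMonoidalCategory.snd M T ≫ x
    obtain ⟨Z, z, hz, hiff⟩ := WeilEq.exists_closedSubscheme M.hom T.hom f.left g.left X.hom
      ((Over.w f).trans (Over.w g).symm)
    obtain ⟨l, hl⟩ := (hiff i.left).2 fun W p w hw => by
      let G' : Over (Spec (CommRingCat.of k)) := Over.mk (p ≫ G.hom)
      have hw' : (w ≫ Limits.pullback.snd M.hom T.hom) ≫ T.hom = G'.hom := by
        rw [Category.assoc, ← Limits.pullback.condition, ← Category.assoc, hw, Category.assoc, Over.w i]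
        rfl
      let s : G' ⟶ G := Over.homMk p rfl
      let t : G' ⟶ T := Over.homMk (w ≫ Limits.pullback.snd M.hom T.hom) hw'
      have h1 : lift (s ≫ i) t ≫ f = lift (s ≫ i) t ≫ g := by
        have h0 := congrArg (lift s t ≫ ·) h
        simp only [lift_whiskerLeft_assoc, lift_whiskerRight_assoc, lift_snd_assoc] at h0
        simp only [f, g, lift_whiskerLeft_assoc, lift_snd_assoc]
        exact h0
      have hlft : (lift (s ≫ i) t).left = w := by
        apply Limits.pullback.hom_ext
        · rw [hw]; exact congrArg CommaMorphism.left (lift_fst (s ≫ i) t)
        · exact congrArg CommaMorphism.left (lift_snd (s ≫ i) t)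
      have h2 := congrArg CommaMorphism.left h1
      change (lift (s ≫ i) t).left ≫ f.left = (lift (s ≫ i) t).left ≫ g.left at h2
      rwa [hlft] at h2
    haveI := hz
    haveI : IsIso z := by
      refine IsClosedImmersion.isIso_iff_ker_eq_bot.2 (eq_bot_iff.2 ?_)
      rw [← i.left.ker_eq_bot, ← hl]
      exact Scheme.Hom.le_ker_comp l z
    have hgood := (hiff (𝟙 M.left)).1 ⟨inv z, IsIso.inv_hom_id z⟩
    refine Over.OverMorphism.ext ?_
    have := hgood _ (CartesianMonoidalCategory.fst M T).left (𝟙 _) (by simp)
    simp only [Category.id_comp] at this
    exact this

end Groth.Agent.S18823
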