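import Groth.Statements.S18824
import Groth.Agent.Lib.AlgGrpBasic19.Basic
import Groth.Agent.Lib.AbRigid.Shear

set_option autoImplicit false
universe u
open CategoryTheory MonoidalCategory CartesianMonoidalCategory MonObj AlgebraicGeometry
open AlgGrp

namespace Groth.Agent.S18824

/-- Let k be a field, G a locally algebraic group over k (a group k-scheme locally of finite type)
acting on a k-scheme X through a : G ×_k X → X, and U an open subset of X. Let G·U ⊆ X be the image
under a of G ×_k U (the preimage of U under the projection). Then G·U is open in X, contains U, is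
G-stable in the sense that a maps G ×_k (G·U) into G·U, and is the smallest such set: every G-stable
open subset of X containing U contains G·U. -/
theorem result (k : Type u) [Field k]
    (G X : Over (Spec (CommRingCat.of k))) [GrpObj G] [LocallyOfFiniteType G.hom] (a : AlgGrp.Action G X)
    (U : Set ↥X.left) (hU : IsOpen U) :
    IsOpen (a.act.left.base '' ((CartesianMonoidalCategory.snd G X).left.base ⁻¹' U)) ∧
      U ⊆ a.act.left.base '' ((CartesianMonoidalCategory.snd G X).left.base ⁻¹' U) ∧
      a.act.left.base '' ((CartesianMonoidalCategory.snd G X).left.base ⁻¹'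
          (a.act.left.base '' ((CartesianMonoidalCategory.snd G X).left.base ⁻¹' U))) ⊆
        a.act.left.base '' ((CartesianMonoidalCategory.snd G X).left.base ⁻¹' U) ∧
      ∀ W : Set ↥X.left, IsOpen W → U ⊆ W →
        a.act.left.base '' ((CartesianMonoidalCategory.snd G X).left.base ⁻¹' W) ⊆ W →
          a.act.left.base '' ((CartesianMonoidalCategory.snd G X).left.base ⁻¹' U) ⊆ W := by
  haveI : UniversallyOpen a.act.left := by
    haveI : IsLocallyNoetherian (Spec (CommRingCat.of k)) := inferInstance
    haveI : LocallyOfFinitePresentation G.hom := inferInstance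
    exact AlgGrpBasic19.act_of_property a @UniversallyOpen inferInstance
  set A := a.act.left with hA
  set p := (snd G X).left with hp
  refine ⟨A.isOpenMap _ (hU.preimage p.continuous), fun x hx => ?_, ?_, fun W _ hUW hW => ?_⟩
  · let s : X ⟶ G ⊗ X := lift 1 (𝟙 X)
    refine ⟨s.left.base x, ?_, ?_⟩
    · show (s.left ≫ p).base x ∈ U
      rw [hp, ← Over.comp_left, lift_snd]; exact hx
    · show (s.left ≫ A).base x = x
      rw [hA, ← Over.comp_left, AlgGrpBasic19.act_one]; rfl
  · rintro _ ⟨w, ⟨v, hv, hvw⟩, rfl⟩
    have sq := (AbRigid.isPullback_whiskerLeft a.act G).map (Over.forget (Spec (CommRingCat.of k)))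
    obtain ⟨z, hz⟩ : ∃ z, sq.isoPullback.inv.base z = sq.isoPullback.inv.base z ∧
        (Limits.pullback.fst _ _ : Limits.pullback ((Over.forget _).map a.act) ((Over.forget _).map (snd G X)) ⟶ _).base z = v ∧
        (Limits.pullback.snd _ _ : Limits.pullback ((Over.forget _).map a.act) ((Over.forget _).map (snd G X)) ⟶ _).base z = w := by
      obtain ⟨z, h1, h2⟩ := Scheme.Pullback.exists_preimage_pullback (f := (Over.forget _).map a.act)
        (g := (Over.forget _).map (snd G X)) v w hvw
      exact ⟨z, rfl, h1, h2⟩
    set u : (G ⊗ (G ⊗ X)).left := sq.isoPullback.inv.base z with hu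
    have h1 : (snd G (G ⊗ X)).left.base u = v := by
      show (sq.isoPullback.inv ≫ (Over.forget _).map (snd G (G ⊗ X))).base z = v
      rw [sq.isoPullback_inv_fst]; exact hz.2.1
    have h2 : (G ◁ a.act).left.base u = w := by
      show (sq.isoPullback.inv ≫ (Over.forget _).map (G ◁ a.act)).base z = w
      rw [sq.isoPullback_inv_snd]; exact hz.2.2
    refine ⟨((α_ G G X).inv ≫ (μ[G] ▷ X)).left.base u, ?_, ?_⟩
    · show p.base _ ∈ U
      have e : ((α_ G G X).inv ≫ (μ[G] ▷ X)) ≫ snd G X = snd G (G ⊗ X) ≫ snd G X := by
        simp only [Category.assoc, whiskerRight_snd, associator_inv_snd]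
      rw [hp, ← Scheme.Hom.comp_apply, ← Over.comp_left, e, Over.comp_left, Scheme.Hom.comp_apply, h1]
      exact hv
    · show A.base _ = A.base w
      rw [hA, ← Scheme.Hom.comp_apply, ← Over.comp_left, Category.assoc, a.mul_act, Iso.inv_hom_id_assoc,
        Over.comp_left, Scheme.Hom.comp_apply, h2]
  · rintro _ ⟨v, hv, rfl⟩
    exact hW ⟨v, hUW hv, rfl⟩

end Groth.Agent.S18824
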