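import Groth.Statements.S18826
import Groth.Agent.Lib.AlgGrpBasic19.Basic
import Groth.Agent.Lib.AbRigid.Shear
import Mathlib.AlgebraicGeometry.Morphisms.UniversallyOpen
import Mathlib.AlgebraicGeometry.Morphisms.Flat

set_option autoImplicit false
universe u
open CategoryTheory MonoidalCategory CartesianMonoidalCategory MonObj AlgebraicGeometry
open AlgGrp

namespace Groth.Agent.S18826

set_option backward.isDefEq.respectTransparency.types false
open CategoryTheory.Limits

/-- The translation shear of an action. -/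
noncomputable def actIso {C : Type*} [Category C] [CartesianMonoidalCategory C] [BraidedCategory C] {G X : C}
    [GrpObj G] (act : G ⊗ X ⟶ X) (h₁ : ∀ {T : C} (x : T ⟶ X), lift (1 : T ⟶ G) x ≫ act = x)
    (h₂ : ∀ {T : C} (g g' : T ⟶ G) (x : T ⟶ X), lift (g * g') x ≫ act = lift g (lift g' x ≫ act) ≫ act) :
    G ⊗ X ≅ G ⊗ X where
  hom := lift (fst G X) act
  inv := lift (fst G X) (lift (fst G X)⁻¹ (snd G X) ≫ act)
  hom_inv_id := by
    apply CartesianMonoidalCategory.hom_ext
    · simp
    · rw [Category.assoc, lift_snd, ← Category.assoc, comp_lift, GrpObj.comp_inv, lift_fst, lift_snd,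
        Category.id_comp]
      conv_lhs => arg 1; arg 2; rw [← Category.id_comp act, ← lift_fst_snd]
      rw [← h₂, inv_mul_cancel, h₁]
  inv_hom_id := by
    apply CartesianMonoidalCategory.hom_ext
    · simp
    · rw [Category.assoc, lift_snd, ← h₂, mul_inv_cancel, h₁, Category.id_comp]


/-- Let k be a field, G a locally algebraic group over k (a group k-scheme locally of finite type)
acting on k-schemes X and Y, and f : X → Y a G-equivariant k-morphism. Let P be a property of
morphisms of schemes which is local on the target for the Zariski topology, stable under base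
change, and descends along flat surjective universally open morphisms (the published hypothesis is
descent along fpqc morphisms; the printed argument descends only along the restriction G ×_k U → G·U
of the action, which is flat, surjective and universally open). Then there is a largest open subset
V of Y such that the restriction f⁻¹(V) → V of f has P, and this V is G-stable: the action G ×_k Y →
Y maps G ×_k V into V. -/
theorem result (k : Type u) [Field k]
    (G X Y : Over (Spec (CommRingCat.of k))) [GrpObj G] [LocallyOfFiniteType G.hom]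
    (aX : AlgGrp.Action G X) (aY : AlgGrp.Action G Y) (f : X ⟶ Y) (hf : (G ◁ f) ≫ aY.act = aX.act ≫ f)
    (P : MorphismProperty Scheme.{u}) [IsZariskiLocalAtTarget P] [P.IsStableUnderBaseChange]
    [P.DescendsAlong (@Flat ⊓ @Surjective ⊓ @UniversallyOpen)] :
    ∃ V : Y.left.Opens, P (f.left ∣_ V) ∧ (∀ V' : Y.left.Opens, P (f.left ∣_ V') → V' ≤ V) ∧
      (CartesianMonoidalCategory.snd G Y).left ⁻¹ᵁ V ≤ aY.act.left ⁻¹ᵁ V := by
  let 𝒮 := {V : Y.left.Opens // P (f.left ∣_ V)}
  let V : Y.left.Opens := ⨆ i : 𝒮, i.1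
  have hmax : ∀ V' : Y.left.Opens, P (f.left ∣_ V') → V' ≤ V := fun V' h => le_iSup_of_le (⟨V', h⟩ : 𝒮) le_rfl
  have hPV : P (f.left ∣_ V) := by
    rw [IsZariskiLocalAtTarget.iff_of_iSup_eq_top (P := P) (fun i : 𝒮 => V.ι ⁻¹ᵁ i.1)]
    · intro i
      refine (P.arrow_mk_iso_iff (morphismRestrictRestrict f.left V (V.ι ⁻¹ᵁ i.1))).2 ?_
      have e : V.ι ''ᵁ (V.ι ⁻¹ᵁ i.1) = i.1 := by
        rw [Scheme.Hom.image_preimage_eq_opensRange_inf, Scheme.Opens.opensRange_ι]
        exact inf_eq_right.2 (le_iSup (fun i : 𝒮 => i.1) i)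
      rw [e]
      exact i.2
    · rw [← Scheme.Hom.preimage_iSup]
      exact Scheme.Opens.ι_preimage_self V
  refine ⟨V, hPV, hmax, ?_⟩
  set W := (CartesianMonoidalCategory.snd G Y).left ⁻¹ᵁ V
  let e := actIso aY.act (AlgGrpBasic19.act_one (a := aY)) (AlgGrpBasic19.act_mul (a := aY))
  haveI : IsIso e.hom.left := inferInstanceAs (IsIso ((Over.forget _).map e.hom))
  have hact : aY.act.left = e.hom.left ≫ (snd G Y).left := by
    rw [← Over.comp_left]; exact congrArg _ (lift_snd (fst G Y) aY.act).symm
  haveI : Flat (snd G Y).left := inferInstanceAs (Flat (pullback.snd G.hom Y.hom))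
  haveI : UniversallyOpen (snd G Y).left := inferInstanceAs (UniversallyOpen (pullback.snd G.hom Y.hom))
  haveI : Flat aY.act.left := by rw [hact]; infer_instance
  haveI : UniversallyOpen aY.act.left := by rw [hact]; infer_instance
  let h := W.ι ≫ aY.act.left
  let V' : Y.left.Opens := ⟨Set.range h, h.isOpenMap.isOpen_range⟩
  suffices P (f.left ∣_ V') by
    intro z hz
    exact hmax V' this ⟨⟨z, hz⟩, rfl⟩
  have sq1 : IsPullback (snd G X).left (G ◁ f).left f.left (snd G Y).left :=
    (AbRigid.isPullback_whiskerLeft f G).map (Over.forget _)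
  have sq2 : IsPullback aX.act.left (G ◁ f).left f.left aY.act.left := by
    refine IsPullback.map (Over.forget _) (f := aX.act) (g := G ◁ f) (h := f) (i := aY.act) ?_
    refine ⟨⟨hf.symm⟩, ⟨PullbackCone.IsLimit.mk _
      (fun s => lift (s.snd ≫ fst G Y) (lift (s.snd ≫ fst G Y)⁻¹ s.fst ≫ aX.act)) (fun s => ?_) (fun s => ?_)
      (fun s m h1 h2 => ?_)⟩⟩
    · rw [← AlgGrpBasic19.act_mul, mul_inv_cancel, AlgGrpBasic19.act_one]
    · apply CartesianMonoidalCategory.hom_ext
      · simp
      · have hc : s.fst ≫ f = lift (s.snd ≫ fst G Y) (s.snd ≫ snd G Y) ≫ aY.act := by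
          rw [← comp_lift, lift_fst_snd, Category.comp_id]; exact s.condition
        rw [Category.assoc, whiskerLeft_snd, lift_snd_assoc, Category.assoc, ← hf, lift_whiskerLeft_assoc, hc,
          ← AlgGrpBasic19.act_mul, inv_mul_cancel, AlgGrpBasic19.act_one]
    · have hm1 : m ≫ fst G X = s.snd ≫ fst G Y := by rw [← h2]; simp
      have hm : m = lift (m ≫ fst G X) (m ≫ snd G X) := by rw [← comp_lift, lift_fst_snd, Category.comp_id]
      apply CartesianMonoidalCategory.hom_ext
      · rw [lift_fst, hm1]
      · rw [lift_snd, ← h1, ← hm1]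
        conv_rhs => arg 1; arg 2; rw [hm]
        rw [← AlgGrpBasic19.act_mul, inv_mul_cancel, AlgGrpBasic19.act_one]
  have r := isPullback_morphismRestrict (G ◁ f).left W
  have t1 := r.flip.paste_horiz sq1
  have t2 := r.flip.paste_horiz sq2
  have hW : P ((G ◁ f).left ∣_ W) := by
    let gV : (W : Scheme.{u}) ⟶ V := IsOpenImmersion.lift V.ι (W.ι ≫ (snd G Y).left) (by
      rintro _ ⟨z, rfl⟩
      rw [Scheme.Opens.range_ι]
      exact z.2)
    have hgV : gV ≫ V.ι = W.ι ≫ (snd G Y).left := IsOpenImmersion.lift_fac _ _ _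
    rw [← hgV] at t1
    exact MorphismProperty.of_isPullback (IsPullback.of_right' t1 (isPullback_morphismRestrict f.left V).flip) hPV
  let h' : (W : Scheme.{u}) ⟶ V' := IsOpenImmersion.lift V'.ι h (by rw [Scheme.Opens.range_ι]; rfl)
  have hh' : h' ≫ V'.ι = W.ι ≫ aY.act.left := IsOpenImmersion.lift_fac _ _ _
  haveI : Surjective h' := ⟨fun y => by
    obtain ⟨z, hz⟩ := y.2
    refine ⟨z, Subtype.ext ?_⟩
    have := congrArg (fun q : (W : Scheme.{u}) ⟶ Y.left => q z) (IsOpenImmersion.lift_fac V'.ι h (by rw [Scheme.Opens.range_ι]; rfl))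
    exact this.trans hz⟩
  haveI : Flat (h' ≫ V'.ι) := by rw [hh']; infer_instance
  haveI : UniversallyOpen (h' ≫ V'.ι) := by rw [hh']; infer_instance
  haveI : Flat h' := MorphismProperty.of_postcomp (W := @Flat) (W' := @IsOpenImmersion) h' V'.ι inferInstance inferInstance
  haveI : UniversallyOpen h' :=
    MorphismProperty.of_postcomp (W := @UniversallyOpen) (W' := @IsOpenImmersion) h' V'.ι inferInstance inferInstance
  rw [← hh'] at t2
  exact MorphismProperty.of_isPullback_of_descendsAlong (Q := @Flat ⊓ @Surjective ⊓ @UniversallyOpen)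
    (IsPullback.of_right' t2 (isPullback_morphismRestrict f.left V').flip).flip
    ⟨⟨inferInstance, inferInstance⟩, inferInstance⟩ hW

end Groth.Agent.S18826
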