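import Groth.Statements.S18829
import Groth.Agent.S18813
import Groth.Agent.Lib.CoalgH23.Criteria

set_option autoImplicit false
universe u
open scoped TensorProduct
open HopfRep

namespace Groth.Agent.S18829

open scoped Groth.Agent.CoalgH23
open Groth.Agent.CoalgH23 WithConv

/-- Let k be a field and A a finitely generated commutative Hopf algebra over k, the coordinate ring of
an affine algebraic group T. Suppose T is a torus: for some algebraically closed field extension K
of k the base change K ⊗_k A is isomorphic as a K-bialgebra to the group algebra over K of a free
abelian group ℤ^n (T_K is a split torus of rank n). Then T is linearly reductive in the sense that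
every finite-dimensional A-comodule is semisimple. (The source's definition of a torus asks for such
an isomorphism over every algebraically closed extension; one suffices for the printed argument. The
source's notion of a linearly reductive algebraic group also includes smoothness of T over k, which
this row does not assert.) -/
theorem result (k K A : Type u) [Field k] [Field K]
    [Algebra k K] [IsAlgClosed K] [CommRing A] [HopfAlgebra k A] [Algebra.FiniteType k A] (n : ℕ)
    (e : (K ⊗[k] A) ≃ₐc[K] MonoidAlgebra K (Multiplicative (Fin n → ℤ))) :
    HopfRep.IsLinearlyReductive k A := by
  refine (Groth.Agent.S18813.result k K A).2 ?_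
  refine isLinearlyReductive_of_isDiagonalizable ?_
  refine eq_top_iff.2 fun x _ => ?_
  have hx : e x ∈ Submodule.span K {a : MonoidAlgebra K (Multiplicative (Fin n → ℤ)) | IsGroupLikeElem K a} := by
    induction e x using MonoidAlgebra.induction_linear with
    | zero => exact zero_mem _
    | add p q hp hq => exact add_mem hp hq
    | single m r =>
      rw [show MonoidAlgebra.single m r = r • MonoidAlgebra.single m (1 : K) by rw [MonoidAlgebra.smul_single, smul_eq_mul, mul_one]]
      exact Submodule.smul_mem _ _ (Submodule.subset_span (MonoidAlgebra.isGroupLikeElem_single_one m))
  have := Submodule.apply_mem_span_image_of_mem_span ((BialgHomClass.toBialgHom e.symm : MonoidAlgebra K (Multiplicative (Fin n → ℤ)) →ₐc[K] K ⊗[k] A) : MonoidAlgebra K (Multiplicative (Fin n → ℤ)) →ₗ[K] K ⊗[k] A) hx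
  refine Submodule.span_mono ?_ (by simpa using this)
  rintro _ ⟨a, ha, rfl⟩
  exact (ha : IsGroupLikeElem K a).map e.symm

end Groth.Agent.S18829
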