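import Groth.Statements.S18830
import Groth.Agent.Lib.AlgGrpBasic19.Basic

set_option autoImplicit false
universe u
open CategoryTheory MonoidalCategory CartesianMonoidalCategory MonObj AlgebraicGeometry
open AlgGrp

namespace Groth.Agent.S18830

/-- Let k be a field and M an algebraic monoid over k (a monoid k-scheme of finite type). Let i : G → M
be its group of units: a monomorphism of k-schemes through which a T-valued point of M factors if
and only if it is invertible in the monoid M(T). Then G is of finite type over k, i.e. the unit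
group is an algebraic group. -/
theorem result (k : Type u) [Field k]
    (M G : Over (Spec (CommRingCat.of k))) [MonObj M] [LocallyOfFiniteType M.hom] [QuasiCompact M.hom]
    (i : G ⟶ M) [Mono i]
    (hi : ∀ (T : Over (Spec (CommRingCat.of k))) (m : T ⟶ M), (∃ g : T ⟶ G, g ≫ i = m) ↔ IsUnit m) :
    LocallyOfFiniteType G.hom ∧ QuasiCompact G.hom := by
  let J : G ⟶ M ⊗ M := lift i (Classical.choose ((hi (G) i).mp ⟨𝟙 G, Category.id_comp i⟩).exists_left_inv)
  haveI : Mono J := by
    constructor
    intro T a b e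
    have := congrArg (· ≫ fst M M) e
    simp only [J, Category.assoc, lift_fst] at this
    exact (cancel_mono i).mp this
  let u : M ⊗ M ⟶ M ⊗ M := lift (fst M M * snd M M) (snd M M * fst M M)
  let e : 𝟙_ (Over (Spec (CommRingCat.of k))) ⟶ M ⊗ M := lift η[M] η[M]
  have hu : ∀ {T : Over (Spec (CommRingCat.of k))} (a b : T ⟶ M),
      lift a b ≫ u = lift (a * b) (b * a) := by
    intro T a b
    simp only [u, comp_lift, MonObj.comp_mul, lift_fst, lift_snd]
  have he : ∀ {T : Over (Spec (CommRingCat.of k))}, toUnit T ≫ e = lift (1 : T ⟶ M) 1 := by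
    intro T
    simp only [e, comp_lift]; rfl
  obtain ⟨i', hi'1, hi'2⟩ : ∃ i' : G ⟶ M, J = lift i i' ∧ i' * i = 1 :=
    ⟨_, rfl, Classical.choose_spec ((hi (G) i).mp ⟨𝟙 G, Category.id_comp i⟩).exists_left_inv⟩
  have hi'3 : i * i' = 1 := by
    refine ((hi G i).mp ⟨𝟙 G, Category.id_comp i⟩).mul_right_cancel ?_
    rw [_root_.mul_assoc, hi'2, _root_.mul_one, _root_.one_mul]
  have key : ∀ s : Limits.PullbackCone u e, ∃ g : s.pt ⟶ G, g ≫ J = s.fst := by
    intro s
    have h := s.condition
    rw [Subsingleton.elim s.snd (toUnit _), he, ← lift_comp_fst_snd s.fst, hu] at h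
    have h₁ := congrArg (· ≫ fst M M) h
    have h₂ := congrArg (· ≫ snd M M) h
    simp only [lift_fst, lift_snd] at h₁ h₂
    obtain ⟨g, hg⟩ := (hi s.pt (s.fst ≫ fst M M)).mpr ⟨⟨s.fst ≫ fst M M, s.fst ≫ snd M M, h₁, h₂⟩, rfl⟩
    refine ⟨g, ?_⟩
    have h4 : (g ≫ i') * (g ≫ i) = 1 := by rw [← MonObj.comp_mul, hi'2, MonObj.comp_one]
    rw [hg] at h4
    rw [hi'1, comp_lift, hg, left_inv_eq_right_inv h4 h₁, lift_comp_fst_snd]
  choose g hg using key
  have sq : IsPullback J (toUnit G) u e := by
    refine ⟨⟨by rw [hi'1, hu, hi'3, hi'2, he]⟩, ⟨Limits.PullbackCone.IsLimit.mk _ g hg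
      (fun s => toUnit_unique _ _) (fun s m h1 _ => (cancel_mono J).mp (h1.trans (hg s).symm))⟩⟩
  have sq' := sq.map (Over.forget _)
  haveI : QuasiCompact (M ⊗ M).hom := inferInstanceAs (QuasiCompact (Limits.pullback.fst M.hom M.hom ≫ M.hom))
  haveI : LocallyOfFiniteType (M ⊗ M).hom := inferInstanceAs (LocallyOfFiniteType (Limits.pullback.fst M.hom M.hom ≫ M.hom))
  haveI : QuasiCompact e.left := by
    haveI : QuasiCompact (𝟙_ (Over (Spec (CommRingCat.of k)))).hom := inferInstanceAs (QuasiCompact (𝟙 _))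
    exact AlgGrpBasic19.quasiCompact_left e
  haveI : LocallyOfFiniteType e.left := by
    haveI : LocallyOfFiniteType (𝟙_ (Over (Spec (CommRingCat.of k)))).hom := inferInstanceAs (LocallyOfFiniteType (𝟙 _))
    exact AlgGrpBasic19.lft_left e
  haveI : QuasiCompact J.left := MorphismProperty.of_isPullback (P := @QuasiCompact) sq'.flip (inferInstanceAs (QuasiCompact e.left))
  haveI : LocallyOfFiniteType J.left := MorphismProperty.of_isPullback (P := @LocallyOfFiniteType) sq'.flip (inferInstanceAs (LocallyOfFiniteType e.left))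
  rw [← Over.w J]
  exact ⟨inferInstance, inferInstance⟩

end Groth.Agent.S18830
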