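import Groth.Statements.S18831
import Groth.Agent.Lib.VB17.Proper
import Groth.Agent.Lib.VB17.Line
import Groth.Agent.Lib.VB17.Simple
import Groth.Agent.Lib.VB17.TwistBound
-- import your own Groth.Agent.* helpers here

set_option autoImplicit false
universe u
open CategoryTheory CategoryTheory.Limits AlgebraicGeometry
open VBCurve

namespace Groth.Agent.S18831

/-- Let X be a smooth projective integral curve over an algebraically closed field k of characteristic
zero, and G a finite locally free O_X-module of rank r ≥ 1 which is slope-semistable, of slope μ =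
deg G / r (deg G = χ(G) − r χ(O_X)). Then dim_k H^0(X, G) ≤ r · max(⌊μ⌋ + 1, 0); in particular a
slope-semistable bundle of negative slope has no nonzero global section. -/
theorem result (k : Type u) [Field k] [IsAlgClosed k] [CharZero k]
    (X : Scheme.{u}) [X.Over (Spec (CommRingCat.of k))]
    [IsIntegral X] [IsProper (X ↘ Spec (CommRingCat.of k))] [Smooth (X ↘ Spec (CommRingCat.of k))]
    (hdim : topologicalKrullDim X = 1)
    (r : ℕ) (hr : 0 < r) (G : X.Modules) (hG : FlatMod.IsFinLocFreeOfRank r G)
    (hss : ModFun.IsSlopeSemistable k X G r) :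
    (Module.finrank k (Coh.HH X G 0) : ℤ) ≤
      (r : ℤ) * max (⌊(Curv2.deg k X G r : ℚ) / (r : ℚ)⌋ + 1) 0 := by
  have hR := VB17.regCurve' (k := k) hdim
  have hX := hR.like
  haveI := hX.noetherian
  have hreg : ∀ x : X, IsRegularLocalRing (X.presheaf.stalk x) := fun x =>
    Groth.Agent.SmoothReg17.isRegularLocalRing_stalk (X ↘ Spec (CommRingCat.of k)) x
  haveI : JacobsonSpace X := LocallyOfFiniteType.jacobsonSpace (X ↘ Spec (CommRingCat.of k))
  obtain ⟨P, -, hP⟩ := nonempty_inter_closedPoints (Z := (Set.univ : Set X)) Set.univ_nonempty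
    isClosed_univ.isLocallyClosed
  rw [mem_closedPoints_iff] at hP
  have hI := CurveCoh17.isInvertible_pointIdeal hdim hreg hP
  set μ : ℚ := (Curv2.deg k X G r : ℚ) / (r : ℚ)
  obtain ⟨t, ht⟩ : ∃ t : ℕ, (t : ℤ) = max (⌊μ⌋ + 1) 0 := ⟨_, Int.toNat_of_nonneg (le_max_right _ _)⟩
  rw [← ht]
  have hrq : (0 : ℚ) < r := by exact_mod_cast hr
  have hlt : Curv2.deg k X G r < r * t := by
    have h1 : μ < (t : ℤ) := lt_of_lt_of_le (Int.lt_floor_add_one μ) (by rw [ht]; exact_mod_cast le_max_left _ _)
    have h2 : (Curv2.deg k X G r : ℚ) < (t : ℚ) * r := by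
      have h3 := (div_lt_iff₀ hrq).1 h1
      simpa using h3
    have h4 : Curv2.deg k X G r < (t : ℤ) * r := by exact_mod_cast h2
    linarith
  have := VB17.h0_le_of_ss (k := k) hX hP hI (CurveCoh17.finrank_residueField hP) t hG hss hlt
  exact_mod_cast this

end Groth.Agent.S18831
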