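import Groth.Statements.S18832
import Groth.Agent.Lib.JetLift.Basic
import Groth.Agent.Lib.Curvilinear

set_option autoImplicit false
universe u
open Polynomial
open DefT

namespace Groth.Agent.S18832

/-- Let k be an algebraically closed field of characteristic zero, A a finitely generated k-algebra and
m a maximal ideal of A. Then A_m is a regular local ring (the pointed scheme (Spec A, m) is smooth
at m) if and only if, for every l ≥ 1, every k-algebra homomorphism φ : A → k[X]/(X^l) mapping m
into the nilpotent elements extends to a k-algebra homomorphism ψ : A → k[X]/(X^(l+1)) reducing to φ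
modulo X^l. Only jets along Spec k[X]/(X^l) are tested, not all local Artinian algebras. -/
theorem result (k : Type u) [Field k] [IsAlgClosed k] [CharZero k]
    (A : Type u) [CommRing A] [Algebra k A] [Algebra.FiniteType k A]
    (m : Ideal A) [m.IsMaximal] :
    IsRegularLocalRing (Localization.AtPrime m) ↔
      ∀ (l : ℕ), 1 ≤ l →
        ∀ (φ : A →ₐ[k] (k[X] ⧸ Ideal.span {(X : k[X]) ^ l})),
          (∀ a ∈ m, IsNilpotent (φ a)) →
          ∃ ψ : A →ₐ[k] (k[X] ⧸ Ideal.span {(X : k[X]) ^ (l + 1)}),
            (Ideal.Quotient.factorₐ k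
                (Ideal.span_singleton_le_span_singleton.mpr (pow_dvd_pow (X : k[X]) (Nat.le_succ l)))).comp ψ = φ := by
  haveI : Algebra.EssFiniteType A (Localization.AtPrime m) :=
    Algebra.EssFiniteType.of_isLocalization _ m.primeCompl
  haveI : Algebra.EssFiniteType k (Localization.AtPrime m) :=
    Algebra.EssFiniteType.comp k A (Localization.AtPrime m)
  haveI : Module.Finite k (A ⧸ m) := by
    let := Ideal.Quotient.field m
    exact finite_of_finite_type_of_isJacobsonRing k (A ⧸ m)
  have hk : Function.Bijective (algebraMap k (A ⧸ m)) := IsAlgClosed.algebraMap_bijective_of_isIntegral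
  have hres : Function.Surjective (algebraMap k (IsLocalRing.ResidueField (Localization.AtPrime m))) := by
    intro y
    obtain ⟨z, hz⟩ := (Ideal.bijective_algebraMap_quotient_residueField m).2 y
    obtain ⟨c, rfl⟩ := hk.2 z
    exact ⟨c, hz ▸ (IsScalarTower.algebraMap_apply k (A ⧸ m) m.ResidueField c)⟩
  have hunit : ∀ (n : ℕ) (φ : A →ₐ[k] (k[X] ⧸ Ideal.span {(X : k[X]) ^ n})),
      (∀ a ∈ m, IsNilpotent (φ a)) → ∀ s : m.primeCompl, IsUnit (φ s) := by
    intro n φ hφ s
    obtain ⟨c, hc⟩ := hk.2 (Ideal.Quotient.mk m (s : A))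
    have hm : (s : A) - algebraMap k A c ∈ m := by
      rw [← Ideal.Quotient.eq]
      exact hc.symm
    have hc0 : c ≠ 0 := fun h => s.2 (by simpa [h] using hm)
    have := (hφ _ hm).isUnit_add_left_of_commute
      ((IsUnit.mk0 c hc0).map (algebraMap k (k[X] ⧸ Ideal.span {(X : k[X]) ^ n}))) (Commute.all _ _)
    rwa [map_sub, AlgHom.commutes, add_sub_cancel] at this
  have hfac : ∀ (l : ℕ), RingHom.ker (Ideal.Quotient.factorₐ k (Ideal.span_singleton_le_span_singleton.mpr
      (pow_dvd_pow (X : k[X]) (Nat.le_succ l)))) ^ (l + 1) = (⊥ : Ideal _) ∨ l = 0 := by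
    intro l
    rcases Nat.eq_zero_or_pos l with h | h
    · exact Or.inr h
    refine Or.inl ?_
    have hk' : RingHom.ker (Ideal.Quotient.factorₐ k (Ideal.span_singleton_le_span_singleton.mpr
        (pow_dvd_pow (X : k[X]) (Nat.le_succ l)))) = (Ideal.span {(X : k[X]) ^ l}).map
          (Ideal.Quotient.mk (Ideal.span {(X : k[X]) ^ (l + 1)})) := Ideal.Quotient.factor_ker (Ideal.span_singleton_le_span_singleton.mpr (pow_dvd_pow (Polynomial.X : Polynomial k) (Nat.le_succ l)))
    rw [hk', ← Ideal.map_pow, Ideal.span_singleton_pow, ← pow_mul, Ideal.map_eq_bot_iff_le_ker,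
      Ideal.mk_ker, Ideal.span_singleton_le_span_singleton]
    exact pow_dvd_pow _ (by nlinarith)
  constructor
  · intro _ l hl φ hφ
    haveI := JetLift.formallySmooth_of_regular (k := k) (Localization.AtPrime m)
    let φ' : Localization.AtPrime m →ₐ[k] _ :=
      IsLocalization.liftAlgHom (M := m.primeCompl) (f := φ) (hunit l φ hφ)
    have hg : Function.Surjective (Ideal.Quotient.factorₐ k (Ideal.span_singleton_le_span_singleton.mpr
      (pow_dvd_pow (X : k[X]) (Nat.le_succ l)))) := fun b => by
      obtain ⟨p, rfl⟩ := Ideal.Quotient.mk_surjective b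
      exact ⟨Ideal.Quotient.mk _ p, rfl⟩
    refine ⟨(Algebra.FormallySmooth.liftOfSurjective φ' _ hg
      ⟨l + 1, (hfac l).resolve_right (by omega)⟩).comp (IsScalarTower.toAlgHom k A _),
      AlgHom.ext fun a => ?_⟩
    rw [AlgHom.comp_apply, AlgHom.comp_apply, Algebra.FormallySmooth.liftOfSurjective_apply]
    simp [φ', IsScalarTower.coe_toAlgHom']
  · intro H
    obtain ⟨ε, hε⟩ := JetLift.exists_augmentation (Localization.AtPrime m) hres
    refine JetLift.isRegularLocalRing_of_jets_lift _ ε hε fun l hl φ => ?_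
    haveI : IsLocalRing (k[X] ⧸ Ideal.span {(X : k[X]) ^ l}) :=
      Curvilinear.truncPoly_isLocalRing hl
    haveI : Module.Finite k (k[X] ⧸ Ideal.span {(X : k[X]) ^ l}) :=
      (Polynomial.monic_X_pow (R := k) l).finite_quotient
    haveI : IsArtinianRing (k[X] ⧸ Ideal.span {(X : k[X]) ^ l}) := IsArtinianRing.of_finite k _
    let φ₀ := φ.comp (IsScalarTower.toAlgHom k A (Localization.AtPrime m))
    have hnil : ∀ a ∈ m, IsNilpotent (φ₀ a) := by
      intro a ha
      let B := k[X] ⧸ Ideal.span {(X : k[X]) ^ l}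
      have hb : algebraMap A (Localization.AtPrime m) a ∈ IsLocalRing.maximalIdeal _ :=
        (IsLocalization.AtPrime.to_map_mem_maximal_iff _ m a).2 ha
      obtain ⟨t, ht⟩ := (IsAlgClosed.algebraMap_bijective_of_isIntegral
        (k := k) (K := IsLocalRing.ResidueField B)).2 (IsLocalRing.residue B (φ₀ a))
      by_cases h0 : t = 0
      · rw [h0, map_zero, eq_comm, IsLocalRing.residue_eq_zero_iff] at ht
        rw [← IsLocalRing.jacobson_eq_maximalIdeal ⊥ bot_ne_top] at ht
        obtain ⟨N, hN⟩ := IsArtinianRing.isNilpotent_jacobson_bot (R := B)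
        exact ⟨N, (Submodule.mem_bot _).1 ((hN.trans Ideal.zero_eq_bot).le (Ideal.pow_mem_pow ht N))⟩
      exfalso
      have hu : IsUnit (algebraMap A (Localization.AtPrime m) a - algebraMap k _ t) := by
        by_contra hu
        have := sub_mem hb ((IsLocalRing.mem_maximalIdeal _).2 hu)
        rw [sub_sub_cancel] at this
        exact (IsLocalRing.mem_maximalIdeal _).1 this ((IsUnit.mk0 _ h0).map _)
      have h1 := hu.map φ
      rw [map_sub, AlgHom.commutes] at h1
      refine (IsLocalRing.residue_ne_zero_iff_isUnit (R := B) _).2 h1 ?_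
      rw [map_sub, sub_eq_zero]
      exact ht.symm
    obtain ⟨ψ₀, hψ⟩ := H l hl φ₀ hnil
    have hψnil : ∀ a ∈ m, IsNilpotent (ψ₀ a) := by
      intro a ha
      obtain ⟨n, hn⟩ := hnil a ha
      have h1 : ψ₀ a ^ n ∈ RingHom.ker (Ideal.Quotient.factorₐ k (Ideal.span_singleton_le_span_singleton.mpr
          (pow_dvd_pow (X : k[X]) (Nat.le_succ l)))) := by
        rw [RingHom.mem_ker, map_pow, ← AlgHom.comp_apply, hψ, hn]
      exact ⟨n * (l + 1), by
        rw [pow_mul]
        exact (Submodule.mem_bot _).1 ((hfac l).resolve_right (by omega) ▸ Ideal.pow_mem_pow h1 _)⟩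
    refine ⟨IsLocalization.liftAlgHom (M := m.primeCompl) (f := ψ₀) (hunit _ ψ₀ hψnil),
      IsLocalization.algHom_ext m.primeCompl (AlgHom.ext fun a => ?_)⟩
    have h := AlgHom.congr_fun hψ a
    simp only [φ₀, AlgHom.comp_apply, IsScalarTower.coe_toAlgHom'] at h
    change Ideal.Quotient.factorₐ k (Ideal.span_singleton_le_span_singleton.mpr (pow_dvd_pow (X : k[X]) (Nat.le_succ l))) (IsLocalization.lift (M := m.primeCompl) (g := ψ₀.toRingHom) _
      (algebraMap A (Localization.AtPrime m) a)) = φ (algebraMap A _ a)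
    rw [IsLocalization.lift_eq]
    exact h

end Groth.Agent.S18832
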