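import Groth.Statements.S18833
import Groth.Agent.Lib.ShStab28.Positive

set_option autoImplicit false
open CategoryTheory CategoryTheory.Limits AlgebraicGeometry Polynomial
universe u
open ShStab

namespace Groth.Agent.S18833

/-- Let k be an algebraically closed field of characteristic zero, X a smooth projective integral
variety of dimension n ≥ 1 over k with an ample invertible sheaf L, and F a nonzero torsion-free
coherent O_X-module (pure of dimension n). Then F has exactly one increasing filtration by saturated
subsheaves 0 ⊂ F_0 ⊂ ⋯ ⊂ F_s = F whose graded pieces are torsion-free and slope-semistable with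
strictly decreasing slopes. Slopes are compared through the quantity α_(n−1)/α_n of the Hilbert
polynomials with respect to L, an increasing affine function of the slope det · L^(n−1)/rank used in
the source; the source takes L very ample, its argument using only that high twists of coherent
sheaves are globally generated, so L is taken ample here. -/
theorem result (k : Type u) [Field k] [IsAlgClosed k] [CharZero k]
    (X : Scheme.{u}) [X.Over (Spec (CommRingCat.of k))] [IsIntegral X]
    [IsProper (X ↘ Spec (CommRingCat.of k))] [Smooth (X ↘ Spec (CommRingCat.of k))]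
    (n : ℕ) (hn : 1 ≤ n) (hX : topologicalKrullDim X = (n : WithBot ℕ∞))
    (L : X.Modules) (hLi : PicF.IsInvertible L) (hL : CohB1.IsAmple L)
    (F : X.Modules) (hF : Coh.IsCoh F) (h0 : ¬ IsZero F) (htf : ShStab.IsPure X F n) :
    ∃! s : LTSeries (Subobject F),
      s.head = ⊥ ∧ s.last = ⊤ ∧
      (∀ i : Fin s.length,
        ShStab.IsPure X (StabCat.factor s i) n ∧ ShStab.IsMuSemistable k X L (StabCat.factor s i) n) ∧
      ∀ (i j : Fin s.length), i.val + 1 = j.val →
        ∀ (p q : ℚ[X]), ShStab.IsHilbPoly k X L (StabCat.factor s i) p →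
          ShStab.IsHilbPoly k X L (StabCat.factor s j) q →
          StabCat.hatSlope n q < StabCat.hatSlope n p := by
  have hi := hLi
  have hpos := Agent.ShStab28.positive k hL
  let S := Agent.ShStab28.sys k X L hi hpos
  have hP := Agent.ShStab28.pure_of_isPure hi hpos hF htf
  obtain ⟨s, ⟨h1, h2, h3, h4⟩, hu⟩ := Agent.ShStab28.Sys.existsUnique_hn _ 1 hP
  refine ⟨s, ⟨h1, h2, fun i => ?_, fun i j hij p q hp hq => ?_⟩, ?_⟩
  · have hpure := Agent.ShStab28.isPure_of_pure hi hpos (h3 i).1
    exact ⟨hpure, (Agent.ShStab28.ss_one_iff hi hpos hn hpure).mpr ⟨Agent.ShStab28.Sys.not_isZero_coker (s.step i), h3 i⟩⟩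
  · rw [(Agent.ShStab28.hp_iff hi (h3 i).1.1).mp hp, (Agent.ShStab28.hp_iff hi (h3 j).1.1).mp hq]
    exact (Agent.ShStab28.hatSlope_lt_iff hn ((h3 j).1.alpha_pos (Agent.ShStab28.Sys.not_isZero_coker (s.step j)))
      ((h3 i).1.alpha_pos (Agent.ShStab28.Sys.not_isZero_coker (s.step i)))).mpr (h4 i j hij)
  · rintro t ⟨t1, t2, t3, t4⟩
    have t3' := fun i => ((Agent.ShStab28.ss_one_iff hi hpos hn (t3 i).1).mp (t3 i).2).2
    refine hu t ⟨t1, t2, t3', fun i j hij => ?_⟩
    exact (Agent.ShStab28.hatSlope_lt_iff hn ((t3' j).1.alpha_pos (Agent.ShStab28.Sys.not_isZero_coker (t.step j)))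
      ((t3' i).1.alpha_pos (Agent.ShStab28.Sys.not_isZero_coker (t.step i)))).mp
      (t4 i j hij _ _ (Agent.ShStab28.hilb_spec k hi (t3' i).1.1) (Agent.ShStab28.hilb_spec k hi (t3' j).1.1))

end Groth.Agent.S18833
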