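import Groth.Statements.S18834
import Groth.Agent.Lib.Comodule.Basic

set_option autoImplicit false
universe u
open TensorProduct
open GIT

namespace Groth.Agent.S18834

open TensorProduct

lemma isComodHom_mulRight (k : Type u) [Field k] (A : Type u) [CommRing A] [HopfAlgebra k A]
    (R : Type u) [CommRing R] [Algebra k R] [HopfRep.Comod k A R] [GLin.IsCoactAlg k A R]
    {y : R} (hy : y ∈ GLin.invariants k A R) : Hoch.IsComodHom A (LinearMap.mulRight k y) := by
  refine LinearMap.ext fun x => ?_
  simp only [LinearMap.comp_apply, LinearMap.mulRight_apply]
  rw [GLin.IsCoactAlg.coact_mul, (GLin.mem_invariants_iff k A R y).mp hy]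
  induction HopfRep.Comod.coact (k := k) (A := A) x with
  | zero => simp
  | tmul m a => simp [Algebra.TensorProduct.tmul_mul_tmul]
  | add p q hp hq => simp [add_mul, hp, hq]


/-- Let k be an algebraically closed field of characteristic zero, G = Spec A a linearly reductive
affine group over k (A a commutative Hopf algebra whose finite-dimensional comodules are semisimple)
acting on an affine k-scheme Spec R of finite type (a multiplicative coaction of A on R), and R^G
the ring of invariants. Then for every ideal I of R^G the ideal I·R of R generated by I satisfies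
(I·R) ∩ R^G = I. (The section also assumes Spec R irreducible; that hypothesis plays no role here
and is not carried.) -/
theorem result (k : Type u) [Field k] [IsAlgClosed k] [CharZero k]
    (A : Type u) [CommRing A] [HopfAlgebra k A] (hG : HopfRep.IsLinearlyReductive k A)
    (R : Type u) [CommRing R] [Algebra k R] [Algebra.FiniteType k R]
    [HopfRep.Comod k A R] [GLin.IsCoactAlg k A R]
    (I : Ideal (GLin.invariants k A R)) :
    Ideal.comap (GLin.invariants k A R).val.toRingHom
        (Ideal.map (GLin.invariants k A R).val.toRingHom I) = I := by
  obtain ⟨E, hE⟩ := Comodule.exists_reynolds (V := R) (A := A) hG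
  refine le_antisymm ?_ Ideal.le_comap_map
  intro x hx
  let S : Submodule k R := (I.restrictScalars k).map (GLin.invariants k A R).val.toLinearMap
  suffices h : ∀ r : R, r ∈ Ideal.map (GLin.invariants k A R).val.toRingHom I → E r ∈ S by
    obtain ⟨y, hy, hyx⟩ := h _ hx
    have : E (x : R) = (x : R) := (hE.fix _).mpr x.2
    have hxy : y = x := Subtype.ext (hyx.trans this)
    exact hxy ▸ hy
  intro r hr
  suffices h : ∀ c, E (c * r) ∈ S by simpa using h 1
  induction hr using Submodule.span_induction with
  | mem r hr =>
    intro c
    obtain ⟨a, ha, rfl⟩ := hr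
    have : E (c * (a : R)) = E c * (a : R) :=
      LinearMap.congr_fun (hE.comp_comm hG hE (isComodHom_mulRight k A R a.2)) c
    exact ⟨a * ⟨E c, hE.mem c⟩, I.mul_mem_right _ ha, by rw [show E (c * (GLin.invariants k A R).val.toRingHom a) = _ from this]; exact mul_comm _ _⟩
  | zero => intro c; simp
  | add p q _ _ hp hq => intro c; rw [mul_add, map_add]; exact S.add_mem (hp c) (hq c)
  | smul b p _ hp => intro c; rw [smul_eq_mul, ← mul_assoc]; exact hp _

end Groth.Agent.S18834
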