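import Groth.Statements.S18835
import Groth.Agent.Lib.JumpP1_17.Koszul
import Groth.Agent.Lib.CMReg18.PullVb
import Groth.Agent.Lib.RankTwo11.CompleteInt
import Groth.Agent.Lib.PicPn.OverPoint

set_option autoImplicit false
set_option linter.style.haveILetI false
set_option backward.isDefEq.respectTransparency false
set_option backward.isDefEq.respectTransparency.types false
set_option maxHeartbeats 1000000
universe u
open CategoryTheory CategoryTheory.Limits AlgebraicGeometry Polynomial
open VBCurve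

namespace Groth.Agent.S18835

open Groth.Agent

noncomputable section

variable (k : Type u) [Field k]

local notation "Q" => CohB1.ProjSpace 1 k
local notation "P" => CohB1.ProjSpaceOver 1 (Spec (CommRingCat.of k[X]))
local notation "W" => CohB1.ProjSpaceOver 1 (Spec (CommRingCat.of k))

/-- The projection `P → P¹`. -/
def proj : P ⟶ Q :=
  pullback.lift (pullback.fst _ _) (pullback.snd _ _ ≫ Spec.map (CommRingCat.ofHom (Polynomial.C : k →+* k[X])))
    (specULiftZIsTerminal.hom_ext _ _) ≫ (ProjSpace.overSpecIso 1 k).inv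

theorem nonempty_pullback_inv (d : ℤ) :
    Nonempty ((Scheme.Modules.pullback (ProjSpace.overSpecIso 1 k).inv).obj (_root_.Twist.twistProjSpace 1 k d) ≅
      _root_.Twist.twistOver 1 (Spec (CommRingCat.of k)) d) := by
  obtain ⟨e'⟩ := CohFound.nonempty_pullback_twistProjSpace 1 (ProjSpace.fromZ k) d
  let h : (Scheme.Modules.pullback (ProjSpace.overSpecIso 1 k).hom).obj
      (_root_.Twist.twistOver 1 (Spec (CommRingCat.of k)) d) ≅ _root_.Twist.twistProjSpace 1 k d :=
    (Scheme.Modules.pullbackComp _ _).app _ ≪≫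
      (Scheme.Modules.pullbackCongr (ProjSpace.overSpecIso_hom_fst 1 k)).app _ ≪≫ e'
  exact ⟨(Scheme.Modules.pullback (ProjSpace.overSpecIso 1 k).inv).mapIso h.symm ≪≫
    (Scheme.Modules.pullbackComp _ _).app _ ≪≫
    (Scheme.Modules.pullbackCongr (Iso.inv_hom_id _)).app _ ≪≫ (Scheme.Modules.pullbackId _).app _⟩

theorem isIso_smulHom {Z : Scheme.{u}} (M : Z.Modules) {c : Γ(Z, ⊤)} (hc : IsUnit c) :
    IsIso (ThetaGrp19.smulHom M c) := by
  refine ⟨ThetaGrp19.smulHom M (hc.unit⁻¹ : Γ(Z, ⊤)ˣ), ?_, ?_⟩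
  · rw [ThetaGrp19.smulHom_comp, IsUnit.mul_val_inv, ThetaGrp19.smulHom_one]
  · rw [ThetaGrp19.smulHom_comp, IsUnit.val_inv_mul, ThetaGrp19.smulHom_one]

theorem smulHom_zero {Z : Scheme.{u}} (M : Z.Modules) : ThetaGrp19.smulHom M (0 : Γ(Z, ⊤)) = 0 :=
  Scheme.Modules.hom_ext _ _ fun V => by
    ext s
    rw [ThetaGrp19.smulHom_app, map_zero, zero_smul]
    rfl

theorem preservesBiprod {X Y : Scheme.{u}} (f : X ⟶ Y) :
    PreservesBinaryBiproducts (Scheme.Modules.pullback f) := by
  haveI := (Scheme.Modules.pullbackPushforwardAdjunction f).leftAdjoint_preservesColimits.{0, 0}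
  exact preservesBinaryBiproducts_of_preservesBinaryCoproducts _

/-- Let k be an algebraically closed field of characteristic zero and i ≥ 0. On the projective line P
over the affine line Spec k[t] (that is A^1 × P^1 over k) there is a finite locally free module F of
rank 2 whose restriction to the fibre over t = 0 is isomorphic to O(i+1) ⊕ O(−i−1) and whose
restriction to the fibre over every k-point t = a with a ≠ 0 is isomorphic to O(i) ⊕ O(−i). Fibres
are the copies of P^1_k mapped into P by the k-algebra maps k[t] → k, t ↦ a; in particular the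
isomorphism type of the fibres of a vector bundle in a family can jump at a special point. -/
theorem result (k : Type u) [Field k] [IsAlgClosed k] [CharZero k]
    (i : ℕ) :
    ∃ F : (CohB1.ProjSpaceOver 1 (Spec (CommRingCat.of k[X]))).Modules,
      FlatMod.IsFinLocFreeOfRank 2 F ∧
      (∀ a : k,
        letI ι : CohB1.ProjSpaceOver 1 (Spec (CommRingCat.of k)) ⟶ CohB1.ProjSpaceOver 1 (Spec (CommRingCat.of k[X])) :=
          pullback.lift (pullback.fst _ _)
            (pullback.snd _ _ ≫ Spec.map (CommRingCat.ofHom (Polynomial.evalRingHom a)))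
            (specULiftZIsTerminal.hom_ext _ _)
        (a = 0 → Nonempty ((Scheme.Modules.pullback ι).obj F ≅
            Twist.twistOver 1 (Spec (CommRingCat.of k)) ((i : ℤ) + 1) ⊞
              Twist.twistOver 1 (Spec (CommRingCat.of k)) (-((i : ℤ) + 1)))) ∧
        (a ≠ 0 → Nonempty ((Scheme.Modules.pullback ι).obj F ≅
            Twist.twistOver 1 (Spec (CommRingCat.of k)) (i : ℤ) ⊞
              Twist.twistOver 1 (Spec (CommRingCat.of k)) (-(i : ℤ))))) := by
  obtain ⟨j, G, w, hS⟩ := JumpP1.exists_shortExact k i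
  let C₀ := _root_.Twist.twistProjSpace 1 k ((i : ℤ) + 1)
  let p := proj k
  let D := (Scheme.Modules.pullback p).obj C₀
  let t : Γ(CohB1.ProjSpaceOver 1 (Spec (CommRingCat.of k[X])), ⊤) :=
    (CohB1.ProjSpaceOver.toBase 1 (Spec (CommRingCat.of k[X]))).appTop
      ((Scheme.ΓSpecIso (CommRingCat.of k[X])).inv (Polynomial.X : k[X]))
  have hC : PicF.IsInvertible C₀ := Twist.isInvertible_twistProjSpace 1 k _
  have hCf := M2.isFinLocFree_of_isInvertible hC
  have hS₁ := CMReg18.shortExact_pullback p _ hS (KFlat.Sch.isFlat_of_isFinLocFree hCf)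
  have hDf : FlatMod.IsFinLocFree D := M2.isFinLocFree_pullback p hCf
  haveI := hS₁.epi_g
  haveI : Epi ((Scheme.Modules.pullback p).map G) := hS₁.epi_g
  let g := biprod.desc ((Scheme.Modules.pullback p).map G) (ThetaGrp19.smulHom D t)
  haveI : Epi g := epi_of_epi_fac (biprod.inl_desc _ _)
  have hF : (ShortComplex.mk (kernel.ι g) g (kernel.condition g)).ShortExact :=
    { exact := ShortComplex.exact_kernel g }
  have hone : ∀ d : ℤ, FlatMod.IsFinLocFreeOfRank 1 (_root_.Twist.twistProjSpace 1 k d) := fun d =>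
    (M2.isInvertible_iff_isFinLocFreeOfRank_one _).1 (Twist.isInvertible_twistProjSpace 1 k d)
  refine ⟨kernel g, Cyc26Split.isFinLocFreeOfRank_kernel _ _ _ hF
    (RankTwo11.CompleteInt.rank_biprod
      (M2.isFinLocFreeOfRank_pullback p (RankTwo11.CompleteInt.rank_biprod (hone _) (hone _)))
      (M2.isFinLocFreeOfRank_pullback p (hone _))) (M2.isFinLocFreeOfRank_pullback p (hone _)), fun a => ?_⟩
  let ι : CohB1.ProjSpaceOver 1 (Spec (CommRingCat.of k)) ⟶ CohB1.ProjSpaceOver 1 (Spec (CommRingCat.of k[X])) :=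
    pullback.lift (pullback.fst _ _)
      (pullback.snd _ _ ≫ Spec.map (CommRingCat.ofHom (Polynomial.evalRingHom a)))
      (specULiftZIsTerminal.hom_ext _ _)
  show (a = 0 → Nonempty ((Scheme.Modules.pullback ι).obj (kernel g) ≅ _)) ∧
    (a ≠ 0 → Nonempty ((Scheme.Modules.pullback ι).obj (kernel g) ≅ _))
  have hιp : ι ≫ p = (ProjSpace.overSpecIso 1 k).inv := by
    show ι ≫ _ ≫ _ = _
    rw [← Category.assoc]
    refine Eq.trans (congrArg (· ≫ (ProjSpace.overSpecIso 1 k).inv) ?_) (Category.id_comp _)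
    apply pullback.hom_ext
    · simp [ι]
    · simp only [ι, Category.assoc, pullback.lift_snd, pullback.lift_snd_assoc, Category.id_comp, ← Spec.map_comp]
      rw [show CommRingCat.ofHom (Polynomial.C : k →+* k[X]) ≫ CommRingCat.ofHom (Polynomial.evalRingHom a) = 𝟙 _ from
        CommRingCat.hom_ext (RingHom.ext fun x => by simp), Spec.map_id, Category.comp_id]
  let Φ := Scheme.Modules.pullback ι
  haveI := preservesBiprod ι
  haveI := preservesBiprod (ProjSpace.overSpecIso 1 k).inv
  let η : ∀ M, Φ.obj ((Scheme.Modules.pullback p).obj M) ≅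
      (Scheme.Modules.pullback (ProjSpace.overSpecIso 1 k).inv).obj M := fun M =>
    (Scheme.Modules.pullbackComp ι p).app M ≪≫ (Scheme.Modules.pullbackCongr hιp).app M
  have hS₂ := CMReg18.shortExact_pullback ι _ hS₁ (KFlat.Sch.isFlat_of_isFinLocFree hDf)
  have hF' := CMReg18.shortExact_pullback ι _ hF (KFlat.Sch.isFlat_of_isFinLocFree hDf)
  let ψ : k →+* Γ(CohB1.ProjSpaceOver 1 (Spec (CommRingCat.of k)), ⊤) :=
    (CohB1.ProjSpaceOver.toBase 1 (Spec (CommRingCat.of k))).appTop.hom.comp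
      (Scheme.ΓSpecIso (CommRingCat.of k)).inv.hom
  have hc : ι.appTop t = ψ a := by
    have h1 : ι ≫ CohB1.ProjSpaceOver.toBase 1 (Spec (CommRingCat.of k[X])) =
        CohB1.ProjSpaceOver.toBase 1 (Spec (CommRingCat.of k)) ≫
          Spec.map (CommRingCat.ofHom (Polynomial.evalRingHom a)) := pullback.lift_snd _ _ _
    have h2 := ConcreteCategory.congr_hom (congrArg Scheme.Hom.appTop h1)
      ((Scheme.ΓSpecIso (CommRingCat.of k[X])).inv (Polynomial.X : k[X]))
    simp only [Scheme.Hom.comp_appTop] at h2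
    refine h2.trans ?_
    show (CohB1.ProjSpaceOver.toBase 1 (Spec (CommRingCat.of k))).appTop _ = _
    refine congrArg _ ((ConcreteCategory.congr_hom
      (Scheme.ΓSpecIso_inv_naturality (CommRingCat.ofHom (Polynomial.evalRingHom a))) (Polynomial.X : k[X])).symm.trans ?_)
    exact congrArg (Scheme.ΓSpecIso (CommRingCat.of k)).inv (Polynomial.eval_X (x := a))
  let f' := Φ.map ((Scheme.Modules.pullback p).map G)
  let s' := ThetaGrp19.smulHom (Φ.obj D) (ψ a)
  have hs : Φ.map (ThetaGrp19.smulHom D t) = s' := by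
    rw [ThetaGrp19.pullback_map_smulHom (Twist.isInvertible_pullback p hC), hc]
  let e₁ : Φ.obj (kernel g) ≅ kernel (Φ.map g) :=
    IsLimit.conePointUniqueUpToIso hF'.fIsKernel (limit.isLimit _)
  let e₂ : kernel (Φ.map g) ≅ kernel (biprod.desc f' s') :=
    kernel.mapIso (Φ.map g) (biprod.desc f' s') (Φ.mapBiprod _ _) (Iso.refl _) (by
      rw [Iso.refl_hom, Category.comp_id, ← cancel_epi (Φ.mapBiprod _ _).inv, Iso.inv_hom_id_assoc]
      apply biprod.hom_ext'
      · rw [biprod.inl_desc, Functor.mapBiprod_inv, biprod.inl_desc_assoc, ← Φ.map_comp, biprod.inl_desc]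
      · rw [biprod.inr_desc, Functor.mapBiprod_inv, biprod.inr_desc_assoc, ← Φ.map_comp, biprod.inr_desc, hs])
  obtain ⟨u₁⟩ := nonempty_pullback_inv k (-((i : ℤ) + 1))
  obtain ⟨u₂⟩ := nonempty_pullback_inv k (-(i : ℤ))
  obtain ⟨u₃⟩ := nonempty_pullback_inv k (i : ℤ)
  obtain ⟨u₄⟩ := nonempty_pullback_inv k ((i : ℤ) + 1)
  refine ⟨fun ha => ?_, fun ha => ?_⟩
  · have h0 : s' = 0 := by simp only [s', ha, map_zero, smulHom_zero]
    obtain ⟨e₃⟩ := JumpP1.nonempty_kernel_desc_zero (E := Φ.obj D) _ _ _ hS₂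
    exact ⟨e₁ ≪≫ e₂ ≪≫ eqToIso (by rw [h0]; rfl) ≪≫ e₃ ≪≫ biprod.mapIso (η _ ≪≫ u₄) (η _ ≪≫ u₁)⟩
  · haveI : IsIso s' := isIso_smulHom _ ((isUnit_iff_ne_zero.2 ha).map ψ)
    obtain ⟨e₃⟩ := JumpP1.nonempty_kernel_desc_isIso f' s'
    exact ⟨e₁ ≪≫ e₂ ≪≫ e₃ ≪≫ η _ ≪≫
      (Scheme.Modules.pullback (ProjSpace.overSpecIso 1 k).inv).mapBiprod _ _ ≪≫
      biprod.mapIso u₂ u₃ ≪≫ biprod.braiding _ _⟩

end

end Groth.Agent.S18835
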