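import Groth.Statements.S18837
import Groth.Agent.Lib.TruncPoly3.Basic
import Mathlib.LinearAlgebra.TensorProduct.Tower
import Mathlib.Algebra.Module.Projective

set_option autoImplicit false
universe u
open Polynomial TensorProduct
open Deform

namespace Groth.Agent.S18837

/-- Let k be an algebraically closed field of characteristic zero, n ≥ 1, D = k[X]/(X^(n+1)) (given with
a k-algebra isomorphism e identifying the class of X with τ ∈ D), and B a finitely generated
k-algebra which is a flat D-algebra such that B/tB is smooth over k, where t is the image of τ in B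
(an affine open of a flat deformation of a smooth k-scheme over Spec D); put B' = B/t^nB. Then
Ω_(B/D) is a projective B-module, B' ⊗_B Ω_(B/k) is a projective B'-module, and the sequence 0 → B'
→ B' ⊗_B Ω_(B/k) → B' ⊗_B Ω_(B/D) → 0 is exact, the first map being b ↦ b · (1 ⊗ dt) and the second
the base change of the canonical surjection Ω_(B/k) → Ω_(B/D). The source states this for a flat
proper family over Spec D with smooth central fibre; the statement is local and is given here on an
affine open. -/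
theorem result (k : Type u) [Field k] [IsAlgClosed k] [CharZero k] (n : ℕ) (hn : 1 ≤ n)
    (D : Type u) [CommRing D] [Algebra k D] (τ : D)
    (e : (k[X] ⧸ Ideal.span {(X : k[X]) ^ (n + 1)}) ≃ₐ[k] D)
    (he : e (Ideal.Quotient.mk (Ideal.span {(X : k[X]) ^ (n + 1)}) X) = τ)
    (B : Type u) [CommRing B] [Algebra k B] [Algebra D B] [IsScalarTower k D B]
    [Algebra.FiniteType k B] [Module.Flat D B]
    (t : B) (ht : t = algebraMap D B τ) (hsm : Algebra.Smooth k (B ⧸ Ideal.span {t})) :
    Module.Projective B (Ω[B⁄D]) ∧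
    Module.Projective (B ⧸ Ideal.span {t ^ n}) ((B ⧸ Ideal.span {t ^ n}) ⊗[B] Ω[B⁄k]) ∧
    Function.Injective
      (LinearMap.toSpanSingleton (B ⧸ Ideal.span {t ^ n}) ((B ⧸ Ideal.span {t ^ n}) ⊗[B] Ω[B⁄k])
        ((1 : (B ⧸ Ideal.span {t ^ n})) ⊗ₜ[B] KaehlerDifferential.D k B t)) ∧
    Function.Exact
      (LinearMap.toSpanSingleton (B ⧸ Ideal.span {t ^ n}) ((B ⧸ Ideal.span {t ^ n}) ⊗[B] Ω[B⁄k])
        ((1 : (B ⧸ Ideal.span {t ^ n})) ⊗ₜ[B] KaehlerDifferential.D k B t))
      (LinearMap.baseChange (B ⧸ Ideal.span {t ^ n}) (KaehlerDifferential.map k D B B)) ∧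
    Function.Surjective (LinearMap.baseChange (B ⧸ Ideal.span {t ^ n}) (KaehlerDifferential.map k D B B)) := by
  classical
  obtain ⟨hfs, L, hL⟩ := Groth.Agent.TruncPoly3.exists_setup τ e he B t ht hsm
  let β : (B ⧸ Ideal.span {t ^ n}) ⊗[B] Ω[B⁄k] →ₗ[B ⧸ Ideal.span {t ^ n}] B ⧸ Ideal.span {t ^ n} :=
    L.liftBaseChange _
  have hβ : ∀ (c : B ⧸ Ideal.span {t ^ n}) (ω : Ω[B⁄k]), β (c ⊗ₜ ω) = c * L ω := fun c ω => by
    show (L.liftBaseChange _) (c ⊗ₜ ω) = _
    rw [LinearMap.liftBaseChange_tmul, smul_eq_mul]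
  have hπ : ∀ b : B, b • (1 : B ⧸ Ideal.span {t ^ n}) = Ideal.Quotient.mk _ b := fun b => by
    rw [Algebra.smul_def, mul_one]; rfl
  have hker := Groth.Agent.TruncPoly3.ker_map_le τ e he B t ht
  have hdt : KaehlerDifferential.map k D B B (KaehlerDifferential.D k B t) = 0 := by
    rw [KaehlerDifferential.map_D, Algebra.algebraMap_self, RingHom.id_apply, ht, Derivation.map_algebraMap]
  let f := LinearMap.toSpanSingleton (B ⧸ Ideal.span {t ^ n}) ((B ⧸ Ideal.span {t ^ n}) ⊗[B] Ω[B⁄k])
    ((1 : (B ⧸ Ideal.span {t ^ n})) ⊗ₜ[B] KaehlerDifferential.D k B t)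
  let g := LinearMap.baseChange (B ⧸ Ideal.span {t ^ n}) (KaehlerDifferential.map k D B B)
  have hβf : ∀ c, β (f c) = c := fun c => by
    show β (c • (_ ⊗ₜ _)) = c
    rw [map_smul, hβ, hL, one_mul, smul_eq_mul, mul_one]
  have hinj : Function.Injective f := fun a b h => by rw [← hβf a, ← hβf b, h]
  have hsurj : Function.Surjective g :=
    LinearMap.lTensor_surjective _ (KaehlerDifferential.map_surjective k D B)
  have hgf : ∀ c, g (f c) = 0 := fun c => by
    show g (c • (_ ⊗ₜ _)) = 0
    rw [map_smul]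
    show c • ((1 : B ⧸ Ideal.span {t ^ n}) ⊗ₜ[B] KaehlerDifferential.map k D B B (KaehlerDifferential.D k B t)) = 0
    rw [hdt, TensorProduct.tmul_zero, smul_zero]
  have hexact : Function.Exact f g := by
    intro z
    refine ⟨fun hz => ?_, ?_⟩
    · have hex : Function.Exact (LinearMap.toSpanSingleton B (Ω[B⁄k]) (KaehlerDifferential.D k B t))
          (KaehlerDifferential.map k D B B) := fun w => ⟨fun hw => by
            obtain ⟨c, rfl⟩ := Submodule.mem_span_singleton.1 (hker hw)
            exact ⟨c, rfl⟩, by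
            rintro ⟨c, rfl⟩
            rw [LinearMap.toSpanSingleton_apply, map_smul, hdt, smul_zero]⟩
      obtain ⟨y, rfl⟩ := (lTensor_exact (B ⧸ Ideal.span {t ^ n}) hex (KaehlerDifferential.map_surjective k D B) z).1 hz
      clear hz
      induction y using TensorProduct.induction_on with
      | zero => exact ⟨0, by simp⟩
      | add a b ha hb =>
        obtain ⟨c, hc⟩ := ha
        obtain ⟨c', hc'⟩ := hb
        exact ⟨c + c', by rw [map_add, map_add, hc, hc']⟩
      | tmul c b =>
        refine ⟨b • c, ?_⟩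
        show (b • c) • ((1 : B ⧸ Ideal.span {t ^ n}) ⊗ₜ[B] KaehlerDifferential.D k B t) = c ⊗ₜ[B] (b • KaehlerDifferential.D k B t)
        rw [TensorProduct.smul_tmul', smul_eq_mul, mul_one, TensorProduct.smul_tmul]
    · rintro ⟨c, rfl⟩
      exact hgf c
  refine ⟨inferInstance, ?_, hinj, hexact, hsurj⟩
  refine Module.Projective.of_equiv (LinearEquiv.ofBijective (β.prod g) ⟨?_, ?_⟩).symm
  · rw [injective_iff_map_eq_zero]
    intro z hz
    obtain ⟨h1, h2⟩ := Prod.ext_iff.1 hz
    obtain ⟨c, rfl⟩ := (hexact z).1 h2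
    have : c = 0 := (hβf c).symm.trans h1
    rw [this, map_zero]
  · rintro ⟨c, w⟩
    obtain ⟨z, rfl⟩ := hsurj w
    refine ⟨z + f (c - β z), Prod.ext ?_ ?_⟩
    · show β (z + f (c - β z)) = c
      rw [map_add, hβf, add_sub_cancel]
    · show g (z + f (c - β z)) = g z
      rw [map_add, hgf, add_zero]

end Groth.Agent.S18837
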