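import Groth.Statements.S18838
import Groth.Agent.Lib.TruncPoly3.Basic
import Mathlib.LinearAlgebra.TensorProduct.Tower
import Mathlib.Algebra.Module.Projective

set_option autoImplicit false
universe u
open Polynomial TensorProduct
open Deform

namespace Groth.Agent.S18838

/-- Let k be an algebraically closed field of characteristic zero, n ≥ 1, D = k[X]/(X^(n+1)) (given with
a k-algebra isomorphism e identifying the class of X with τ ∈ D), and B a finitely generated
k-algebra which is a flat D-algebra such that B/tB is smooth over k, where t is the image of τ in B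
(an affine open of a flat deformation of a smooth k-scheme over Spec D); put B' = B/t^nB. The map μ
: B → B' × (B' ⊗_B Ω_(B/k)) sending f to (f mod t^n, 1 ⊗ df) is injective, and its image consists
exactly of the pairs (g, α) with dg = r(α) in Ω_(B'/k), r being the canonical map B' ⊗_B Ω_(B/k) →
Ω_(B'/k). Injectivity uses that n is invertible in k. The source works with a flat proper family
over Spec D with smooth central fibre; the statement is local and is given here on an affine open. -/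
theorem result (k : Type u) [Field k] [IsAlgClosed k] [CharZero k] (n : ℕ) (hn : 1 ≤ n)
    (D : Type u) [CommRing D] [Algebra k D] (τ : D)
    (e : (k[X] ⧸ Ideal.span {(X : k[X]) ^ (n + 1)}) ≃ₐ[k] D)
    (he : e (Ideal.Quotient.mk (Ideal.span {(X : k[X]) ^ (n + 1)}) X) = τ)
    (B : Type u) [CommRing B] [Algebra k B] [Algebra D B] [IsScalarTower k D B]
    [Algebra.FiniteType k B] [Module.Flat D B]
    (t : B) (ht : t = algebraMap D B τ) (hsm : Algebra.Smooth k (B ⧸ Ideal.span {t})) :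
    Function.Injective (fun f : B =>
      ((Ideal.Quotient.mk (Ideal.span {t ^ n}) f,
        (1 : (B ⧸ Ideal.span {t ^ n})) ⊗ₜ[B] KaehlerDifferential.D k B f) : (B ⧸ Ideal.span {t ^ n}) × ((B ⧸ Ideal.span {t ^ n}) ⊗[B] Ω[B⁄k]))) ∧
    Set.range (fun f : B =>
      ((Ideal.Quotient.mk (Ideal.span {t ^ n}) f,
        (1 : (B ⧸ Ideal.span {t ^ n})) ⊗ₜ[B] KaehlerDifferential.D k B f) : (B ⧸ Ideal.span {t ^ n}) × ((B ⧸ Ideal.span {t ^ n}) ⊗[B] Ω[B⁄k]))) =
      {p | KaehlerDifferential.D k (B ⧸ Ideal.span {t ^ n}) p.1 = KaehlerDifferential.mapBaseChange k B (B ⧸ Ideal.span {t ^ n}) p.2} := by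
  classical
  obtain ⟨hfs, L, hL⟩ := Groth.Agent.TruncPoly3.exists_setup τ e he B t ht hsm
  let β : (B ⧸ Ideal.span {t ^ n}) ⊗[B] Ω[B⁄k] →ₗ[B ⧸ Ideal.span {t ^ n}] B ⧸ Ideal.span {t ^ n} :=
    L.liftBaseChange _
  have hβ : ∀ (c : B ⧸ Ideal.span {t ^ n}) (ω : Ω[B⁄k]), β (c ⊗ₜ ω) = c * L ω := fun c ω => by
    show (L.liftBaseChange _) (c ⊗ₜ ω) = _
    rw [LinearMap.liftBaseChange_tmul, smul_eq_mul]
  have hπ : ∀ b : B, b • (1 : B ⧸ Ideal.span {t ^ n}) = Ideal.Quotient.mk _ b := fun b => by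
    rw [Algebra.smul_def, mul_one]; rfl
  have hker := Groth.Agent.TruncPoly3.ker_map_le τ e he B t ht
  have hdt : KaehlerDifferential.map k D B B (KaehlerDifferential.D k B t) = 0 := by
    rw [KaehlerDifferential.map_D, Algebra.algebraMap_self, RingHom.id_apply, ht, Derivation.map_algebraMap]
  let μ : B →+ (B ⧸ Ideal.span {t ^ n}) × ((B ⧸ Ideal.span {t ^ n}) ⊗[B] Ω[B⁄k]) :=
    AddMonoidHom.prod (Ideal.Quotient.mk (Ideal.span {t ^ n})).toAddMonoidHom
      ((TensorProduct.mk B _ _ (1 : B ⧸ Ideal.span {t ^ n})).toAddMonoidHom.comp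
        (KaehlerDifferential.D k B).toLinearMap.toAddMonoidHom)
  refine ⟨(injective_iff_map_eq_zero μ).2 fun f hf => ?_, Set.ext fun p => ⟨?_, fun hp => ?_⟩⟩
  · obtain ⟨h1, h2⟩ := Prod.ext_iff.1 hf
    have h1' : Ideal.Quotient.mk (Ideal.span {t ^ n}) f = 0 := h1
    obtain ⟨g, rfl⟩ := Ideal.mem_span_singleton'.1 (Ideal.Quotient.eq_zero_iff_mem.1 h1')
    have h3 : β ((1 : B ⧸ Ideal.span {t ^ n}) ⊗ₜ[B] KaehlerDifferential.D k B (g * t ^ n)) = 0 :=
      (congrArg β h2).trans (map_zero β)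
    have hz : ∀ y : B ⧸ Ideal.span {t ^ n}, (t ^ n) • y = 0 := fun y => by
      rw [Algebra.smul_def, Ideal.Quotient.algebraMap_eq,
        Ideal.Quotient.eq_zero_iff_mem.2 (Ideal.mem_span_singleton_self _), zero_mul]
    rw [hβ, one_mul, Derivation.leibniz, Derivation.leibniz_pow, map_add, map_smul,
      ← Nat.cast_smul_eq_nsmul B, map_smul, map_smul, hL, map_smul L (t ^ n), hz, add_zero, ← mul_smul, ← mul_smul, hπ,
      Ideal.Quotient.eq_zero_iff_mem, Ideal.mem_span_singleton'] at h3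
    obtain ⟨h, hh⟩ := h3
    have hu : IsUnit ((n : ℕ) : B) := by
      rw [← map_natCast (algebraMap k B)]
      exact (isUnit_iff_ne_zero.2 (Nat.cast_ne_zero.2 (by omega))).map _
    refine hu.mul_left_cancel ?_
    rw [mul_zero]
    calc (n : B) * (g * t ^ n) = t * (g * (n : B) * t ^ (n - 1)) := by
          conv_lhs => rw [show n = (n - 1) + 1 by omega, pow_succ]
          rw [Nat.sub_add_cancel hn]
          ring
      _ = t * (h * t ^ n) := by rw [hh]
      _ = h * t ^ (n + 1) := by ring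
      _ = 0 := by rw [Groth.Agent.TruncPoly3.pow_succ_eq_zero' τ e he B t ht, mul_zero]
  · rintro ⟨f, rfl⟩
    show _ = KaehlerDifferential.mapBaseChange k B _ _
    rw [KaehlerDifferential.mapBaseChange_tmul, one_smul, KaehlerDifferential.map_D]
    rfl
  · obtain ⟨f₀, hf₀⟩ := Ideal.Quotient.mk_surjective p.1
    have h1 : KaehlerDifferential.mapBaseChange k B (B ⧸ Ideal.span {t ^ n})
        (p.2 - (1 : B ⧸ Ideal.span {t ^ n}) ⊗ₜ[B] KaehlerDifferential.D k B f₀) = 0 := by
      rw [map_sub, KaehlerDifferential.mapBaseChange_tmul, one_smul, KaehlerDifferential.map_D, sub_eq_zero]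
      exact hp.symm.trans (by rw [← hf₀]; rfl)
    obtain ⟨x, hx⟩ := (KaehlerDifferential.exact_kerCotangentToTensor_mapBaseChange k B (B ⧸ Ideal.span {t ^ n})
      Ideal.Quotient.mk_surjective _).1 h1
    obtain ⟨⟨x, hxm⟩, rfl⟩ := Ideal.toCotangent_surjective _ x
    rw [KaehlerDifferential.kerCotangentToTensor_toCotangent] at hx
    have hx0 : Ideal.Quotient.mk (Ideal.span {t ^ n}) x = 0 := hxm
    refine ⟨f₀ + x, Prod.ext ?_ ?_⟩
    · show Ideal.Quotient.mk _ (f₀ + x) = _
      rw [map_add, hx0, add_zero, hf₀]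
    · show (1 : B ⧸ Ideal.span {t ^ n}) ⊗ₜ[B] KaehlerDifferential.D k B (f₀ + x) = _
      rw [map_add, TensorProduct.tmul_add, hx, add_sub_cancel]

end Groth.Agent.S18838
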