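import Groth.Statements.S18839
import Groth.Agent.Lib.TruncPoly3.Basic
import Mathlib.LinearAlgebra.TensorProduct.Tower
import Mathlib.Algebra.Module.Projective

set_option autoImplicit false
universe u
open Polynomial TensorProduct
open Deform

namespace Groth.Agent.S18839

/-- Let k be an algebraically closed field of characteristic zero, n ≥ 1, D = k[X]/(X^(n+1)) (given with
a k-algebra isomorphism e identifying the class of X with τ ∈ D), and B a finitely generated
k-algebra which is a flat D-algebra such that B/tB is smooth over k, where t is the image of τ in B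
(an affine open of a flat deformation of a smooth k-scheme over Spec D); put B' = B/t^nB. The map ν
: Ω_(B/k) → Ω_(B/D) × (B' ⊗_B Ω_(B/k)), η ↦ (η relative to D, 1 ⊗ η), is injective, and its image
consists exactly of the pairs (α, β) with the same image in Ω_(B'/D) under the canonical maps
Ω_(B/D) → Ω_(B'/D) and B' ⊗_B Ω_(B/k) → Ω_(B'/k) → Ω_(B'/D). Injectivity uses that n + 1 is
invertible in k (so that t^n dt = 0 in Ω_(B/k)). The source works with a flat proper family over
Spec D with smooth central fibre; the statement is local and is given here on an affine open. -/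
theorem result (k : Type u) [Field k] [IsAlgClosed k] [CharZero k] (n : ℕ) (hn : 1 ≤ n)
    (D : Type u) [CommRing D] [Algebra k D] (τ : D)
    (e : (k[X] ⧸ Ideal.span {(X : k[X]) ^ (n + 1)}) ≃ₐ[k] D)
    (he : e (Ideal.Quotient.mk (Ideal.span {(X : k[X]) ^ (n + 1)}) X) = τ)
    (B : Type u) [CommRing B] [Algebra k B] [Algebra D B] [IsScalarTower k D B]
    [Algebra.FiniteType k B] [Module.Flat D B]
    (t : B) (ht : t = algebraMap D B τ) (hsm : Algebra.Smooth k (B ⧸ Ideal.span {t})) :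
    Function.Injective (fun η : Ω[B⁄k] =>
      ((KaehlerDifferential.map k D B B η, (1 : (B ⧸ Ideal.span {t ^ n})) ⊗ₜ[B] η) : Ω[B⁄D] × ((B ⧸ Ideal.span {t ^ n}) ⊗[B] Ω[B⁄k]))) ∧
    Set.range (fun η : Ω[B⁄k] =>
      ((KaehlerDifferential.map k D B B η, (1 : (B ⧸ Ideal.span {t ^ n})) ⊗ₜ[B] η) : Ω[B⁄D] × ((B ⧸ Ideal.span {t ^ n}) ⊗[B] Ω[B⁄k]))) =
      {p | KaehlerDifferential.map D D B (B ⧸ Ideal.span {t ^ n}) p.1 =
        KaehlerDifferential.map k D (B ⧸ Ideal.span {t ^ n}) (B ⧸ Ideal.span {t ^ n}) (KaehlerDifferential.mapBaseChange k B (B ⧸ Ideal.span {t ^ n}) p.2)} := by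
  classical
  obtain ⟨hfs, L, hL⟩ := Groth.Agent.TruncPoly3.exists_setup τ e he B t ht hsm
  let β : (B ⧸ Ideal.span {t ^ n}) ⊗[B] Ω[B⁄k] →ₗ[B ⧸ Ideal.span {t ^ n}] B ⧸ Ideal.span {t ^ n} :=
    L.liftBaseChange _
  have hβ : ∀ (c : B ⧸ Ideal.span {t ^ n}) (ω : Ω[B⁄k]), β (c ⊗ₜ ω) = c * L ω := fun c ω => by
    show (L.liftBaseChange _) (c ⊗ₜ ω) = _
    rw [LinearMap.liftBaseChange_tmul, smul_eq_mul]
  have hπ : ∀ b : B, b • (1 : B ⧸ Ideal.span {t ^ n}) = Ideal.Quotient.mk _ b := fun b => by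
    rw [Algebra.smul_def, mul_one]; rfl
  have hker := Groth.Agent.TruncPoly3.ker_map_le τ e he B t ht
  have hdt : KaehlerDifferential.map k D B B (KaehlerDifferential.D k B t) = 0 := by
    rw [KaehlerDifferential.map_D, Algebra.algebraMap_self, RingHom.id_apply, ht, Derivation.map_algebraMap]
  let ν : Ω[B⁄k] →+ Ω[B⁄D] × ((B ⧸ Ideal.span {t ^ n}) ⊗[B] Ω[B⁄k]) :=
    AddMonoidHom.prod (KaehlerDifferential.map k D B B).toAddMonoidHom
      (TensorProduct.mk B _ _ (1 : B ⧸ Ideal.span {t ^ n})).toAddMonoidHom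
  have hcomp : ∀ η : Ω[B⁄k], KaehlerDifferential.map D D B (B ⧸ Ideal.span {t ^ n}) (KaehlerDifferential.map k D B B η) =
      KaehlerDifferential.map k D (B ⧸ Ideal.span {t ^ n}) (B ⧸ Ideal.span {t ^ n})
        (KaehlerDifferential.map k k B (B ⧸ Ideal.span {t ^ n}) η) := by
    intro η
    have hη : η ∈ Submodule.span B (Set.range (KaehlerDifferential.D k B)) := by
      rw [KaehlerDifferential.span_range_derivation]; trivial
    induction hη using Submodule.span_induction with
    | zero => simp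
    | add a b _ _ ha hb => simp only [map_add, ha, hb]
    | smul c a _ ha =>
      simp only [map_smul]
      rw [LinearMap.map_smul_of_tower, ha]
    | mem x hx =>
      obtain ⟨b, rfl⟩ := hx
      simp [KaehlerDifferential.map_D]
  refine ⟨(injective_iff_map_eq_zero ν).2 fun η hη => ?_, Set.ext fun p => ⟨?_, fun hp => ?_⟩⟩
  · obtain ⟨h1, h2⟩ := Prod.ext_iff.1 hη
    obtain ⟨b, rfl⟩ := Submodule.mem_span_singleton.1 (hker h1)
    have h3 : β ((1 : B ⧸ Ideal.span {t ^ n}) ⊗ₜ[B] (b • KaehlerDifferential.D k B t)) = 0 :=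
      (congrArg β h2).trans (map_zero β)
    rw [hβ, one_mul, map_smul, hL, hπ, Ideal.Quotient.eq_zero_iff_mem, Ideal.mem_span_singleton'] at h3
    obtain ⟨c, rfl⟩ := h3
    rw [mul_smul, Groth.Agent.TruncPoly3.pow_smul_D_eq_zero τ e he B t ht, smul_zero]
  · rintro ⟨η, rfl⟩
    show KaehlerDifferential.map D D B _ _ = KaehlerDifferential.map k D _ _ (KaehlerDifferential.mapBaseChange k B _ _)
    rw [KaehlerDifferential.mapBaseChange_tmul, one_smul, hcomp]
  · obtain ⟨η₀, hη₀⟩ := KaehlerDifferential.map_surjective k D B p.1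
    let ω := p.2 - (1 : B ⧸ Ideal.span {t ^ n}) ⊗ₜ[B] η₀
    have h1 : KaehlerDifferential.map k D (B ⧸ Ideal.span {t ^ n}) (B ⧸ Ideal.span {t ^ n})
        (KaehlerDifferential.mapBaseChange k B (B ⧸ Ideal.span {t ^ n}) ω) = 0 := by
      rw [map_sub, map_sub, KaehlerDifferential.mapBaseChange_tmul, one_smul, ← hcomp, hη₀, sub_eq_zero]
      exact hp.symm
    obtain ⟨c, hc⟩ := Submodule.mem_span_singleton.1
      (Groth.Agent.TruncPoly3.ker_map_le τ e he (B ⧸ Ideal.span {t ^ n}) (Ideal.Quotient.mk _ t)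
        (by rw [ht]; rfl) h1)
    obtain ⟨b, rfl⟩ := Ideal.Quotient.mk_surjective c
    have h2 : KaehlerDifferential.mapBaseChange k B (B ⧸ Ideal.span {t ^ n})
        (ω - Ideal.Quotient.mk (Ideal.span {t ^ n}) b ⊗ₜ[B] KaehlerDifferential.D k B t) = 0 := by
      rw [map_sub, KaehlerDifferential.mapBaseChange_tmul, KaehlerDifferential.map_D, sub_eq_zero]
      exact hc.symm
    obtain ⟨x, hx⟩ := (KaehlerDifferential.exact_kerCotangentToTensor_mapBaseChange k B (B ⧸ Ideal.span {t ^ n})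
      Ideal.Quotient.mk_surjective _).1 h2
    obtain ⟨⟨x, hxm⟩, rfl⟩ := Ideal.toCotangent_surjective _ x
    rw [KaehlerDifferential.kerCotangentToTensor_toCotangent] at hx
    obtain ⟨g, rfl⟩ := Ideal.mem_span_singleton'.1
      (Ideal.Quotient.eq_zero_iff_mem.1 (show Ideal.Quotient.mk (Ideal.span {t ^ n}) x = 0 from hxm))
    have hsplit : ω = (1 : B ⧸ Ideal.span {t ^ n}) ⊗ₜ[B]
        ((b + g * (n • t ^ (n - 1))) • KaehlerDifferential.D k B t) := by
      rw [eq_add_of_sub_eq' hx.symm, Derivation.leibniz, Derivation.leibniz_pow, TensorProduct.tmul_add,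
        TensorProduct.tmul_smul (t ^ n), TensorProduct.smul_tmul' (t ^ n), hπ (t ^ n),
        Ideal.Quotient.eq_zero_iff_mem.2 (Ideal.mem_span_singleton_self _), TensorProduct.zero_tmul, add_zero,
        add_smul, TensorProduct.tmul_add, ← smul_assoc n, mul_smul, ← hπ b, TensorProduct.smul_tmul b]
    refine ⟨η₀ + (b + g * (n • t ^ (n - 1))) • KaehlerDifferential.D k B t, Prod.ext ?_ ?_⟩
    · show KaehlerDifferential.map k D B B _ = _
      rw [map_add, map_smul, hdt, smul_zero, add_zero, hη₀]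
    · show (1 : B ⧸ Ideal.span {t ^ n}) ⊗ₜ[B] _ = _
      rw [TensorProduct.tmul_add, ← hsplit, add_sub_cancel]

end Groth.Agent.S18839
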