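import Groth.Statements.S1884
import Groth.Agent.Lib.GrpdDimOne19.Cover
import Groth.Agent.Lib.GrpdDimOne19.OnClosed
import Groth.Agent.Lib.CodimAff19.Finite
-- import your own Groth.Agent.* helpers here

set_option autoImplicit false
universe u
open CategoryTheory CategoryTheory.Limits AlgebraicGeometry
open Grpd

namespace Groth.Agent.S1884

open Groth.Agent.GrpdB Groth.Agent.GrpQuot Groth.Agent.GrpdDimOne19 TopologicalSpace

theorem exists_affine {X : Scheme.{u}} [X.IsSeparated] [IsLocallyNoetherian X] {P : Set X} (hP : P.Finite)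
    (hd : ∀ z ∈ P, ringKrullDim (X.presheaf.stalk z) ≤ 1) : ∃ W : X.Opens, IsAffineOpen W ∧ P ⊆ W := by
  haveI := hP.to_subtype
  choose V hV hzV _ using fun z : P => exists_isAffineOpen_mem_and_subset (X := X) (x := z.1) (U := ⊤) trivial
  let X₀ : X.Opens := ⨆ z : P, V z
  haveI : CompactSpace X₀.toScheme := isCompact_iff_compactSpace.1 (by
    show IsCompact ((⨆ z : P, V z : X.Opens) : Set X)
    rw [Opens.coe_iSup]
    exact isCompact_iUnion fun z => (hV z).isCompact)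
  haveI : IsNoetherian X₀.toScheme := {}
  haveI : X₀.toScheme.IsSeparated := ⟨by
    rw [show Limits.terminal.from X₀.toScheme = X₀.ι ≫ Limits.terminal.from X from Subsingleton.elim _ _]
    infer_instance⟩
  obtain ⟨W, hW, hPW⟩ := CodimAff19.exists_affine_finite (X := X₀.toScheme) (X₀.ι ⁻¹' P)
    (hP.preimage X₀.ι.isOpenEmbedding.injective.injOn) fun z hz => by
      exact (ringKrullDim_eq_of_ringEquiv (X₀.stalkIso z).commRingCatIsoToRingEquiv).trans_le (hd _ hz)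
  refine ⟨X₀.ι ''ᵁ W, hW.image_of_isOpenImmersion X₀.ι, fun z hz => ?_⟩
  have hzX : z ∈ X₀ := Opens.mem_iSup.2 ⟨⟨z, hz⟩, hzV ⟨z, hz⟩⟩
  exact ⟨⟨z, hzX⟩, hPW (show X₀.ι ⟨z, hzX⟩ ∈ P from hz), rfl⟩

/-- Let (U, R, s, t, c) be a groupoid scheme with s, t finite, U separated and locally Noetherian, and u
a point such that every point u' in the orbit of u (u' = t(r) with s(r) = u) has local ring of
dimension at most 1. Then u lies in an R-invariant affine open of U. (A groupoid scheme carries U,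
R, s, t, c, e, i over S with the groupoid axioms on T-points; 'finite locally free' is finite, flat
and locally of finite presentation; C ⊂ Γ(U) is the ring of functions a with s♯(a) = t♯(a) and M =
Spec C.) -/
theorem result (S : Scheme.{u}) (G : Grpd.GroupoidScheme S) [IsFinite G.s] [IsFinite G.t] [G.U.IsSeparated] [IsLocallyNoetherian G.U] (u : G.U) (hdim : ∀ r : G.R, G.s r = u → ringKrullDim (G.U.presheaf.stalk (G.t r)) ≤ 1) : ∃ W : G.U.Opens, IsAffineOpen W ∧ u ∈ W ∧ G.s ⁻¹ᵁ W = G.t ⁻¹ᵁ W := by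
  haveI := LocallyOfFiniteType.isLocallyNoetherian G.t
  haveI : LocallyOfFinitePresentation G.t := inferInstance
  let P : Set G.U := G.t '' (G.s ⁻¹' {u})
  have hP : P.Finite := finite_orbit u
  have hd : ∀ z ∈ P, ringKrullDim (G.U.presheaf.stalk z) ≤ 1 := by
    rintro _ ⟨r, hr, rfl⟩
    exact hdim r hr
  have hPinv : ∀ r : G.R, G.t r ∈ P → G.s r ∈ P := by
    rintro r ⟨r₁, hr₁, e⟩
    obtain ⟨z, hzt, hzs⟩ := exists_comp_point (G.i r) r₁ (by rw [s_i]; exact e.symm)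
    exact ⟨z, (hzs.trans hr₁ : G.s z = u), hzt.trans (t_i r)⟩
  have htr : ∀ y ∈ P, ∀ x ∈ P, ∃ r : G.R, G.t r = y ∧ G.s r = x := by
    rintro _ ⟨r₁, hr₁, rfl⟩ _ ⟨r₂, hr₂, rfl⟩
    obtain ⟨z, hzt, hzs⟩ := exists_comp_point r₁ (G.i r₂)
      (by rw [t_i]; exact (hr₁ : G.s r₁ = u).trans (hr₂ : G.s r₂ = u).symm)
    exact ⟨z, hzt, hzs.trans (s_i r₂)⟩
  obtain ⟨W₀, hW₀, hPW₀⟩ := exists_affine hP hd
  -- the invariant open inside
  let U' : G.U.Opens := ⟨core G W₀, isOpen_core W₀.2⟩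
  have hU'W : U' ≤ W₀ := core_subset _
  have hU' : G.s ⁻¹ᵁ U' = G.t ⁻¹ᵁ U' := Opens.ext (core_invariant _)
  have hPU : P ⊆ U' := fun y hy => mem_core.2 fun r hr => hPW₀ (hPinv r (hr ▸ hy))
  -- the open where the correspondence is flat over reduced schemes
  let O : G.U.Opens := sSup {Ω | FlatRed G.t Ω}
  let Eo : G.U.Opens := ⟨core G O, isOpen_core O.2⟩
  have hEo : G.s ⁻¹ᵁ Eo = G.t ⁻¹ᵁ Eo := Opens.ext (core_invariant _)
  have hOmax : ∀ k : G.U, k ∉ O → ∃ w : G.U, w ⤳ k ∧ w ≠ k := by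
    intro k hk
    by_contra hcon
    push Not at hcon
    obtain ⟨Ω, hkΩ, hΩ⟩ := exists_flatRed G.t k hcon
    exact hk (Opens.mem_sSup.2 ⟨Ω, hΩ, hkΩ⟩)
  obtain ⟨f, hfU, hfP, hfE⟩ : ∃ f : Γ(G.U, W₀), G.U.basicOpen f ≤ U' ∧ P ⊆ G.U.basicOpen f ∧
      ∀ r : G.R, G.t r ∉ Eo → G.t r ∈ G.U.basicOpen f → G.s r ∈ G.U.basicOpen f := by
    by_cases hPE : ∀ y ∈ P, y ∉ Eo
    · refine exists_invariant_on hW₀ U' hU'W hU' Eo hEo hP hPU hPE (fun y hy z hzU hz hzy => ?_) hPinv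
      obtain ⟨r, hr, hrO⟩ : ∃ r : G.R, G.t r = z ∧ G.s r ∉ O := by
        by_contra hcon
        push Not at hcon
        exact hz (mem_core.2 hcon)
      obtain ⟨r', hrr', hr't⟩ := G.t.isClosedMap.specializingMap (show G.t r ⤳ y from hr ▸ hzy)
      have hsP : G.s r' ∈ P := hPinv r' (hr't ▸ hy)
      have hks : G.s r = G.s r' := by
        by_contra hne
        obtain ⟨w, hw, hwne⟩ := hOmax _ hrO
        exact hwne (Pic18.eq_of_specializes (hd _ hsP) (hrr'.map G.s.continuous) hne hw)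
      rw [← hr, ← hr't, eq_of_specializes_of_s_eq hrr' hks]
    · push Not at hPE
      obtain ⟨y₀, hy₀, hy₀E⟩ := hPE
      have hall : P ⊆ Eo := fun y hy => by
        obtain ⟨r, hrt, hrs⟩ := htr y₀ hy₀ y hy
        have h1 : r ∈ G.t ⁻¹ᵁ Eo := show G.t r ∈ Eo from hrt ▸ hy₀E
        rw [← hEo] at h1
        exact hrs ▸ h1
      obtain ⟨f, hf, hfP⟩ := exists_basicOpen_mem_finite hW₀ hP (U' ⊓ Eo) (inf_le_left.trans hU'W)
        (fun y hy => ⟨hPU hy, hall hy⟩)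
      exact ⟨f, hf.trans inf_le_left, hfP, fun r hr hrf => absurd (hf hrf).2 hr⟩
  let W : G.U.Opens := ⟨core G (G.U.basicOpen f : Set G.U), isOpen_core (G.U.basicOpen f).2⟩
  have htle : G.t ⁻¹ᵁ G.U.basicOpen f ≤ G.s ⁻¹ᵁ W₀ := by
    intro r hr
    have h1 : r ∈ G.t ⁻¹ᵁ U' := hfU hr
    rw [← hU'] at h1
    exact hU'W h1
  refine ⟨W, ?_, mem_core.2 fun r hr => hfP (hPinv r (hr ▸ ⟨G.e u, s_e u, t_e u⟩)), Opens.ext (core_invariant _)⟩
  refine isAffineOpen_of_flatRed G.s G.t (hW₀.basicOpen f) (core_subset _) (fun x _ => mem_core)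
    (G.s.appLE W₀ _ htle f) (fun r hr => ?_) (fun r hr hsr => ?_)
  · rw [show G.s.appLE W₀ _ htle f = G.R.presheaf.map (homOfLE htle).op (G.s.app W₀ f) from rfl,
      show G.R.basicOpen (G.R.presheaf.map (homOfLE htle).op (G.s.app W₀ f)) =
        G.t ⁻¹ᵁ G.U.basicOpen f ⊓ G.R.basicOpen (G.s.app W₀ f) from Scheme.basicOpen_res _ _ _,
      ← Scheme.preimage_basicOpen]
    exact ⟨fun h => h.2, fun h => ⟨hr, h⟩⟩
  · have hE : G.t r ∈ Eo := by
      by_contra hn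
      exact hsr (hfE r hn hr)
    obtain ⟨Ω, hΩ, hrΩ⟩ := Opens.mem_sSup.1 (core_subset _ hE : G.t r ∈ O)
    exact ⟨Ω, hrΩ, hΩ⟩

end Groth.Agent.S1884
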