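import Groth.Statements.S18840
-- import your own Groth.Agent.* helpers here
import Groth.Agent.Lib.VB17.SubBound
import Groth.Agent.Lib.CurveAmple18.Main
import Groth.Agent.Lib.VB17.Proper
import Groth.Agent.Lib.VB17.Line
import Groth.Agent.Lib.TensorMod.Invertible

set_option autoImplicit false
universe u
open CategoryTheory CategoryTheory.Limits AlgebraicGeometry Polynomial
open VBCurve

set_option maxHeartbeats 1000000

namespace Groth.Agent.S18840

/-- Let k be an algebraically closed field of characteristic zero, X a smooth projective integral curve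
over k with an ample invertible sheaf L, N ≥ 0 and P a rational polynomial. There is an integer l,
depending only on X, L, N and P, such that for every vector bundle F of rank r ≥ 1 on X which is a
quotient of O_X^N with Hilbert polynomial P (with respect to L), F is slope-semistable if and only
if dim H^0(X, F'(l)) / r' ≤ dim H^0(X, F(l)) / r for every sub-bundle (finite locally free
submodule) F' ⊂ F of rank r' ≥ 1; here G(l) = G ⊗ L^(⊗l). The source polarises X by a very ample
O_X(1); only the positivity of its degree enters, so an ample L is taken. -/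
theorem result (k : Type u) [Field k] [IsAlgClosed k] [CharZero k]
    (X : Scheme.{u}) [X.Over (Spec (CommRingCat.of k))]
    [IsIntegral X] [IsProper (X ↘ Spec (CommRingCat.of k))] [Smooth (X ↘ Spec (CommRingCat.of k))]
    (hdim : topologicalKrullDim X = 1)
    (L : X.Modules) (hLi : PicF.IsInvertible L) (hL : CohB1.IsAmple L)
    (N : ℕ) (P : ℚ[X]) :
    ∃ l : ℕ, ∀ (r : ℕ) (F : X.Modules) (q : FlatMod.freeMod X N ⟶ F),
      0 < r → FlatMod.IsFinLocFreeOfRank r F → Epi q → ShStab.IsHilbPoly k X L F P →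
        (ModFun.IsSlopeSemistable k X F r ↔
          ∀ (F' : X.Modules) (r' : ℕ) (i : F' ⟶ F), Mono i → 0 < r' → FlatMod.IsFinLocFreeOfRank r' F' →
            (Module.finrank k (Coh.HH X (ShStab.twist X L F' l) 0) : ℚ) / (r' : ℚ) ≤
              (Module.finrank k (Coh.HH X (ShStab.twist X L F l) 0) : ℚ) / (r : ℚ)) := by
  classical
  obtain ⟨hX, h0, -⟩ := Groth.Agent.VB17.setup (k := k) (X := X) hdim
  haveI := hX.like.noetherian
  have hreg : ∀ x : X, IsRegularLocalRing (X.presheaf.stalk x) := fun x =>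
    Groth.Agent.SmoothReg17.isRegularLocalRing_stalk (X ↘ Spec (CommRingCat.of k)) x
  haveI : JacobsonSpace X := LocallyOfFiniteType.jacobsonSpace (X ↘ Spec (CommRingCat.of k))
  obtain ⟨p, -, hp⟩ := nonempty_inter_closedPoints (Z := (Set.univ : Set X)) Set.univ_nonempty
    isClosed_univ.isLocallyClosed
  rw [mem_closedPoints_iff] at hp
  have hIp := Groth.Agent.CurveCoh17.isInvertible_pointIdeal hdim hreg hp
  have hres := Groth.Agent.CurveCoh17.finrank_residueField (k := k) hp
  obtain ⟨W, hWi, hW0, hWd, hWhom⟩ := Groth.Agent.VB17.exists_hom_dualizing (k := k) (X := X) hdim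
  have ha : 0 < Curv2.deg k X L 1 := Groth.Agent.CurveAmple18.deg_pos_of_isAmple (k := k) hdim hL
  set a := Curv2.deg k X L 1 with ha_def
  set g := Curv2.genus k X with hg_def
  have hχ : Curv2.euler k X (Coh.structureModule X) = 1 - (g : ℤ) := by
    rw [hX.like.euler_structureModule, h0]; rfl
  refine ⟨(N + 1) * g + 2 * g + ⌈|P.eval 0|⌉₊ + 1, fun r F q hr hF hq hP => ?_⟩
  haveI := hq
  set c := ⌈|P.eval 0|⌉₊ with hc_def
  set l := (N + 1) * g + 2 * g + c + 1 with hl_def
  -- rank ≤ N
  have hrN : r ≤ N := by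
    let ξ := genericPoint X
    obtain ⟨e⟩ := Groth.Agent.CurveCoh17.nonempty_stalk_equiv hF ξ
    obtain ⟨eN⟩ := Groth.Agent.CurveCoh17.nonempty_stalk_equiv (Groth.Agent.M2.isFinLocFreeOfRank_freeMod X N) ξ
    let φ := (e.toLinearMap.comp (Groth.Agent.CurveCoh17.stalkLin q ξ)).comp eN.symm.toLinearMap
    have hφ : Function.Surjective φ :=
      (e.surjective.comp (fun b => (Groth.Agent.M1.epi_iff_stalk q).1 inferInstance ξ b)).comp eN.symm.surjective
    exact le_of_fin_surjective (X.presheaf.stalk ξ) φ hφ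
  -- the twist
  let Ll := CohB1.tensorPow L l
  have hLl : PicF.IsInvertible Ll := Groth.Agent.M2.isInvertible_tensorPow hLi l
  have hLl1 := (Groth.Agent.M2.isInvertible_iff_isFinLocFreeOfRank_one _).1 hLl
  have hdLl : Curv2.deg k X Ll 1 = l * a := hX.like.deg_tensorPow hLi l
  have htw : ∀ (s : ℕ) (G : X.Modules), FlatMod.IsFinLocFreeOfRank s G →
      FlatMod.IsFinLocFreeOfRank s (ShStab.twist X L G l) ∧
        Curv2.deg k X (ShStab.twist X L G l) s = Curv2.deg k X G s + s * (l * a) ∧
        (Module.finrank k (Coh.HH X (ShStab.twist X L G l) 0) : ℤ) - Module.finrank k (Coh.HH X (ShStab.twist X L G l) 1) =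
          Curv2.deg k X (ShStab.twist X L G l) s + s * (1 - (g : ℤ)) := fun s G hG => by
    have h1 : FlatMod.IsFinLocFreeOfRank s (CohB1.tensorMod G Ll) := by
      simpa using Groth.Agent.M2.isFinLocFreeOfRank_tensor hG hLl1
    refine ⟨h1, ?_, ?_⟩
    · have h := hX.like.deg_tensor (k := k) hG hLl1
      rw [mul_one, hdLl] at h
      rw [Nat.cast_one, one_mul] at h
      exact h
    · rw [Curv2.deg, hχ, sub_add_cancel,
        (hX.like.adm (Groth.Agent.CurveCoh17.isCoh_of_ofRank (show FlatMod.IsFinLocFreeOfRank s (ShStab.twist X L G l) from h1))).euler_eq]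
  obtain ⟨hFl, hdFl, heFl⟩ := htw r F hF
  set Fl := ShStab.twist X L F l
  set D := Curv2.deg k X Fl r with hD_def
  -- `D` is large
  have hc : |Curv2.euler k X F| ≤ (c : ℤ) := by
    have h := hP 0
    rw [show Curv2.euler k X (ShStab.twist X L F 0) = Curv2.euler k X F from
      Groth.Agent.CurveCoh17.euler_iso (Groth.Agent.M2.tensorRUnit F), Nat.cast_zero] at h
    have h2 : |(Curv2.euler k X F : ℚ)| ≤ (c : ℚ) := by rw [h]; exact Nat.le_ceil _
    exact_mod_cast h2
  have hDval : D = Curv2.euler k X F - r * (1 - (g : ℤ)) + r * (l * a) := by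
    rw [hdFl, Curv2.deg, hχ]
  have hbig : (r : ℤ) * (((N : ℤ) + 1) * g) ≤ D + r := by
    have h1 : (l : ℤ) ≤ l * a := le_mul_of_one_le_right (Int.natCast_nonneg _) ha
    have h3 := mul_le_mul_of_nonneg_left h1 (Int.natCast_nonneg r)
    have h4 : (c : ℤ) ≤ r * c := le_mul_of_one_le_left (Int.natCast_nonneg _) (by exact_mod_cast hr)
    have h5 := (abs_le.1 hc).1
    have h6 : (r : ℤ) * l = r * (((N : ℤ) + 1) * g) + r * (2 * g) + r * c + r := by
      rw [hl_def]; push_cast; ring
    have h7 : (0 : ℤ) ≤ r * g := by positivity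
    rw [hDval]
    linarith
  have hD0 : 0 ≤ D := by
    have h1 : (l : ℤ) ≤ l * a := le_mul_of_one_le_right (Int.natCast_nonneg _) ha
    have h3 := mul_le_mul_of_nonneg_left h1 (Int.natCast_nonneg r)
    have h4 : (c : ℤ) ≤ r * c := le_mul_of_one_le_left (Int.natCast_nonneg _) (by exact_mod_cast hr)
    have h5 := (abs_le.1 hc).1
    have h6 : (r : ℤ) * l = r * (((N : ℤ) + 1) * g) + r * (2 * g) + r * c + r := by
      rw [hl_def]; push_cast; ring
    have h7 : (0 : ℤ) ≤ r * g := by positivity
    have h8 : (0 : ℤ) ≤ r * (((N : ℤ) + 1) * g) := by positivity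
    rw [hDval]
    linarith
  -- `H¹(F(l)) = 0`
  have hFl1 : Module.finrank k (Coh.HH X Fl 1) = 0 := by
    haveI : Subsingleton (Coh.HH X Fl 1) := by
      by_contra hne
      obtain ⟨φ, hφ⟩ := hWhom hFl (not_subsingleton_iff_nontrivial.1 hne)
      haveI := Groth.Agent.VB17.isEquivalence_tensorR hLl
      haveI : Epi ((Groth.Agent.M2.tensorR Ll).map q) := inferInstance
      have hne2 : (Groth.Agent.M2.freeModTensorIso X N Ll).inv ≫ (Groth.Agent.M2.tensorR Ll).map q ≫ φ ≠ 0 := fun h => by
        have h' : (Groth.Agent.M2.tensorR Ll).map q ≫ φ = 0 := by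
          exact (cancel_epi (Groth.Agent.M2.freeModTensorIso X N Ll).inv).1 (h.trans comp_zero.symm)
        exact hφ ((cancel_epi ((Groth.Agent.M2.tensorR Ll).map q)).1 (h'.trans comp_zero.symm))
      obtain ⟨j, hj⟩ : ∃ j, Sigma.ι (fun _ : Fin N => Ll) j ≫ ((Groth.Agent.M2.freeModTensorIso X N Ll).inv ≫ (Groth.Agent.M2.tensorR Ll).map q ≫ φ) ≠ 0 := by
        by_contra hall
        push Not at hall
        exact hne2 (Sigma.hom_ext _ _ fun j => (hall j).trans comp_zero.symm)
      haveI := Groth.Agent.VB17.mono_of_ne_zero hX hLl hWi _ hj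
      have hle := (Groth.Agent.VB17.deg_le_of_mono hX.like hLl1
        ((Groth.Agent.M2.isInvertible_iff_isFinLocFreeOfRank_one _).1 hWi)
        (Sigma.ι (fun _ : Fin N => Ll) j ≫ ((Groth.Agent.M2.freeModTensorIso X N Ll).inv ≫ (Groth.Agent.M2.tensorR Ll).map q ≫ φ))).1
      rw [hdLl, hWd] at hle
      have h1 : (l : ℤ) ≤ l * a := le_mul_of_one_le_right (Int.natCast_nonneg _) ha
      have h6 : (2 * g + 1 : ℤ) ≤ l := by rw [hl_def]; exact_mod_cast (by omega : 2 * g + 1 ≤ (N + 1) * g + 2 * g + c + 1)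
      linarith
    exact Module.finrank_zero_of_subsingleton
  have hh0Fl : (Module.finrank k (Coh.HH X Fl 0) : ℤ) = D + r * (1 - (g : ℤ)) := by
    rw [hFl1, Nat.cast_zero, sub_zero] at heFl
    exact heFl
  have hrq : (0 : ℚ) < r := by exact_mod_cast hr
  constructor
  · intro hss F' r' i hi hr' hF'
    haveI := hi
    obtain ⟨hG, hdG, heG⟩ := htw r' F' hF'
    haveI : Mono (Groth.Agent.M2.tensorMap i (𝟙 Ll)) := Groth.Agent.VB17.mono_tensorMap i hLl
    set G := ShStab.twist X L F' l with hG_def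
    let i' : G ⟶ Fl := Groth.Agent.M2.tensorMap i (𝟙 Ll)
    haveI : Mono i' := Groth.Agent.VB17.mono_tensorMap i hLl
    have hssl : Groth.Agent.VB17.SS k Fl r := Groth.Agent.VB17.ss_tensor hX.like hF hLl hss
    have hle := hssl _ r' i' inferInstance hr' hG
    rw [div_le_div_iff₀ (by exact_mod_cast hr') hrq]
    suffices h : (Module.finrank k (Coh.HH X G 0) : ℤ) * r ≤ (Module.finrank k (Coh.HH X Fl 0) : ℤ) * r' by exact_mod_cast h
    rw [hh0Fl]
    rcases subsingleton_or_nontrivial (Coh.HH X G 1) with h1 | h1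
    · haveI := h1
      rw [Module.finrank_zero_of_subsingleton (M := Coh.HH X G 1), Nat.cast_zero, sub_zero] at heG
      rw [heG]
      linarith
    · obtain ⟨φ, hφ⟩ := hWhom hG h1
      have hW1 := (Groth.Agent.M2.isInvertible_iff_isFinLocFreeOfRank_one _).1 hWi
      obtain ⟨rK, rI, dK, dI, hK, hI, -, -, -, hrr, hrI, hrI0, -, -, -, -⟩ := Groth.Agent.VB17.map_data hX hG hW1 φ
      have hrI1 : rI = 1 := by
        have : rI ≠ 0 := fun h => hφ (hrI0.1 h)
        omega
      haveI := hX.like.fin _ (Groth.Agent.CurveCoh17.isCoh_of_ofRank hK) 0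
      haveI := hX.like.fin _ (Groth.Agent.CurveCoh17.isCoh_of_ofRank hG) 0
      haveI := hX.like.fin _ (Groth.Agent.CurveCoh17.isCoh_of_ofRank hI) 0
      haveI := hX.like.fin _ (Groth.Agent.CurveCoh17.isCoh_of_ofRank hW1) 0
      have h0mid : Module.finrank k (Coh.HH X G 0) ≤
          Module.finrank k (Coh.HH X (kernel φ) 0) + Module.finrank k (Coh.HH X (Abelian.image φ) 0) := by
        have h := @Groth.Agent.CurveOm17.h0_mid_le k _ X _ (Groth.Agent.CurveCoh17.kerSC φ)
          (Groth.Agent.CurveCoh17.kerSC_shortExact φ)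
          (hX.like.fin _ (Groth.Agent.CurveCoh17.isCoh_of_ofRank hK) 0)
          (hX.like.fin _ (Groth.Agent.CurveCoh17.isCoh_of_ofRank hG) 0)
          (hX.like.fin _ (Groth.Agent.CurveCoh17.isCoh_of_ofRank hI) 0)
        exact h
      have h0I : Module.finrank k (Coh.HH X (Abelian.image φ) 0) ≤ g :=
        (Groth.Agent.CurveOm17.h0_le_of_mono (k := k) (Abelian.image.ι φ)).trans hW0.le
      obtain ⟨t, ht⟩ : ∃ t : ℕ, (t : ℤ) = D / r + 1 := ⟨(D / r + 1).toNat, Int.toNat_of_nonneg (by positivity)⟩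
      have hrz : (0 : ℤ) < r := by exact_mod_cast hr
      have hDt : D < (t : ℤ) * r := by
        rw [ht]; exact Int.lt_ediv_add_one_mul_self D hrz
      have hDt' : (t : ℤ) * r ≤ D + r := by
        rw [ht, add_mul, one_mul]
        linarith [Int.ediv_mul_le D hrz.ne']
      have hK0 : Module.finrank k (Coh.HH X (kernel φ) 0) ≤ rK * t :=
        Groth.Agent.VB17.h0_le_of_subs_lt hX.like hp hIp hres t hK fun H s j hj hs hH => by
          haveI := hj
          haveI : Mono (kernel.ι φ ≫ i') := mono_comp _ _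
          have h := hssl H s (j ≫ kernel.ι φ ≫ i') (mono_comp _ _) hs hH
          have hs' : (0 : ℤ) < s := by exact_mod_cast hs
          nlinarith [mul_lt_mul_of_pos_right hDt hs']
      have hrle : r' ≤ r := Groth.Agent.VB17.rank_le_of_mono hX hF hF' i
      have hK0' : (Module.finrank k (Coh.HH X G 0) : ℤ) ≤ rK * t + g := by
        exact_mod_cast h0mid.trans (Nat.add_le_add hK0 h0I)
      have hr'eq : (r' : ℤ) = rK + 1 := by rw [hrr, hrI1]; push_cast; ring
      have h1' := mul_le_mul_of_nonneg_right hK0' hrz.le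
      have h2' := mul_le_mul_of_nonneg_left hDt' (Int.natCast_nonneg rK)
      have h3' : (rK : ℤ) + 2 ≤ (N : ℤ) + 1 := by
        have : rK + 1 ≤ N := by omega
        omega
      have h4' : (r : ℤ) * (((rK : ℤ) + 2) * g) ≤ r * (((N : ℤ) + 1) * g) :=
        mul_le_mul_of_nonneg_left (mul_le_mul_of_nonneg_right h3' (Int.natCast_nonneg g)) hrz.le
      rw [hr'eq]
      have e1 : ((rK : ℤ) * t + g) * r = rK * ((t : ℤ) * r) + r * g := by ring
      have e2 : (r : ℤ) * (((rK : ℤ) + 2) * g) = rK * r * g + 2 * (r * g) := by ring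
      have e3 : (D + (r : ℤ) * (1 - g)) * ((rK : ℤ) + 1) = rK * (D + r) - rK * r * g + (D + r) - r * g := by ring
      linarith
  · intro h F' r' i hi hr' hF'
    obtain ⟨hG, hdG, heG⟩ := htw r' F' hF'
    have h' := h F' r' i hi hr' hF'
    rw [div_le_div_iff₀ (by exact_mod_cast hr') hrq] at h'
    have h'' : (Module.finrank k (Coh.HH X (ShStab.twist X L F' l) 0) : ℤ) * r ≤
        (Module.finrank k (Coh.HH X Fl 0) : ℤ) * r' := by exact_mod_cast h'
    rw [hh0Fl] at h''
    have hlow : Curv2.deg k X (ShStab.twist X L F' l) r' + r' * (1 - (g : ℤ)) ≤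
        (Module.finrank k (Coh.HH X (ShStab.twist X L F' l) 0) : ℤ) := by
      rw [← heG]; linarith [Int.natCast_nonneg (Module.finrank k (Coh.HH X (ShStab.twist X L F' l) 1))]
    have hlow' := mul_le_mul_of_nonneg_right hlow (Int.natCast_nonneg r)
    rw [hdG] at hlow'
    rw [hdFl] at h''
    linarith

end Groth.Agent.S18840
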