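import Groth.Statements.S18841
import Groth.Agent.Lib.CMReg18.ClosedSub

set_option autoImplicit false
universe u
open CategoryTheory CategoryTheory.Limits AlgebraicGeometry Polynomial
open Variety

open Groth.Agent Groth.Agent.CMReg18
namespace Groth.Agent.S18841

/-- Let k be an algebraically closed field of characteristic zero, X a projective k-scheme embedded in
projective n-space by a closed immersion ι, with L ≅ ι^*O(1), and fix N ≥ 0 and a rational
polynomial P. There is an integer l_0 such that for every coherent O_X-module F which is a quotient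
q : O_X^N → F with Hilbert polynomial P with respect to L, writing G for the kernel of q, one has
for all l ≥ l_0: H^i(X, F(l)) = 0 and H^i(X, G(l)) = 0 for every i > 0, and G(l) is generated by its
global sections (twists M(l) = M ⊗ L^(⊗l)). -/
theorem result
    (k : Type u) [Field k] [IsAlgClosed k] [CharZero k]
    (X : Scheme.{u}) [X.Over (Spec (CommRingCat.of k))] [IsProper (X ↘ Spec (CommRingCat.of k))]
    (n : ℕ) (ι : X ⟶ CohB1.ProjSpace n k) [IsClosedImmersion ι]
    (hι : ι ≫ CohB1.ProjSpace.toSpec n k = X ↘ Spec (CommRingCat.of k))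
    (L : X.Modules) (hL : Nonempty (L ≅ (Scheme.Modules.pullback ι).obj (Twist.twistProjSpace n k 1)))
    (N : ℕ) (P : ℚ[X]) :
    ∃ l₀ : ℕ, ∀ (F : X.Modules) (q : FlatMod.freeMod X N ⟶ F),
      Coh.IsCoh F → Epi q → ShStab.IsHilbPoly k X L F P →
        ∀ l : ℕ, l₀ ≤ l →
          (∀ i : ℕ, 0 < i → Subsingleton (Coh.HH X (ShStab.twist X L F l) i)) ∧
          (∀ i : ℕ, 0 < i → Subsingleton (Coh.HH X (ShStab.twist X L (kernel q) l) i)) ∧
          Curv2.IsGloballyGenerated (ShStab.twist X L (kernel q) l) := by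
  obtain ⟨eL⟩ := hL
  obtain ⟨M, hM⟩ := exists_uniform_quotients ι hι N (fun l : ℕ => P.eval (l : ℚ))
  let D := (projData k n).pullback ι
  let e : ∀ (G : X.Modules) (l : ℕ), D.tw G (l : ℤ) ≅ ShStab.twist X L G l := fun G l =>
    M2.tensorIso (Iso.refl G) ((D.powIso l).symm ≪≫ M2.tensorPowIso eL.symm l)
  refine ⟨M.toNat, fun F q hF hq hP l hl => ?_⟩
  obtain ⟨h1, h2, h3⟩ := hM F q hF hq fun m => by
    rw [show Curv2.euler k X (D.tw F (m : ℤ)) = Curv2.euler k X (ShStab.twist X L F m) from
      finsum_congr fun i => by rw [(CurveCoh17.hequiv k (e F m) i).finrank_eq]]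
    exact hP m
  refine ⟨fun i hi => van_iso k (e F l) (h1.van k hi (by omega)),
    fun i hi => van_iso k (e (kernel q) l) (h2.van k hi (by omega)), ?_⟩
  obtain ⟨T, p, hp⟩ := h3 (l : ℤ) (by omega)
  exact ⟨T, p ≫ (e (kernel q) l).hom, epi_comp _ _⟩

end Groth.Agent.S18841
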