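import Groth.Statements.S18843
import Groth.Agent.Lib.TFOne27.Basic
-- import your own Groth.Agent.* helpers here

set_option autoImplicit false
universe u
open CategoryTheory AlgebraicGeometry
open TFOne

namespace Groth.Agent.S18843

/-- Let X be a proper, geometrically reduced scheme of pure dimension one over a field k whose
irreducible components (with their reduced structure) are geometrically integral over k, and let M
be a torsion-free rank-1 sheaf on X. Let Y and Z be closed subcurves (non-empty unions of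
irreducible components) with Y ∪ Z = X which have an irreducible component in common. If the
torsion-free quotients M_Y and M_Z of M on Y and on Z (pinned by their defining property) are both
simple over k, then M is simple over k. -/
theorem result (k : Type u) [Field k] (X : Scheme.{u}) [X.Over (Spec (CommRingCat.of k))] [IsProper (X ↘ Spec (CommRingCat.of k))] [IsReduced X] [GeometricallyReduced (X ↘ Spec (CommRingCat.of k))] (hpure : ∀ C ∈ irreducibleComponents (X : Type u), topologicalKrullDim C = 1) (hgi : ∀ (C : Set X) (hC : C ∈ irreducibleComponents (X : Type u)), GeometricallyIntegral (VecSt.subschι X C (isClosed_of_mem_irreducibleComponents C hC) ≫ (X ↘ Spec (CommRingCat.of k)))) (M : X.Modules) (hM : TFOne.IsTF1 X M) (Y Z : Set X) (hY : IsClosed Y) (hZ : IsClosed Z) (hYs : VecSt.IsSubcurve X Y) (hZs : VecSt.IsSubcurve X Z) (hcov : Y ∪ Z = Set.univ) (hmeet : ∃ C ∈ irreducibleComponents (X : Type u), C ⊆ Y ∩ Z) (GY GZ : X.Modules) (πY : M ⟶ GY) (πZ : M ⟶ GZ) (hGY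 : TFOne.IsQuotOn X M Y GY πY) (hGZ : TFOne.IsQuotOn X M Z GZ πZ) (hsY : TFOne.IsSimple X k (X ↘ Spec (CommRingCat.of k)) GY) (hsZ : TFOne.IsSimple X k (X ↘ Spec (CommRingCat.of k)) GZ) : TFOne.IsSimple X k (X ↘ Spec (CommRingCat.of k)) M := by
  haveI : IsLocallyNoetherian X := LocallyOfFiniteType.isLocallyNoetherian (X ↘ Spec (CommRingCat.of k))
  obtain ⟨hepY, hcY, htY, hsuppY⟩ := hGY
  obtain ⟨hepZ, hcZ, htZ, hsuppZ⟩ := hGZ
  haveI := hepY
  haveI := hepZ
  obtain ⟨C, hC, hCYZ⟩ := hmeet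
  obtain ⟨η₀, hη₀, hgen⟩ := TFOne27.exists_generic_of_component hC
  have h0Y : η₀ ∈ Y := (hCYZ hgen.mem).1
  have h0Z : η₀ ∈ Z := (hCYZ hgen.mem).2
  refine ⟨TFOne27.not_isZero_of_mem_support (TFOne27.mem_support_of_rkOne hM.2.2 hη₀), fun φ => ?_⟩
  have key : ∀ (W : Set X) (G : X.Modules) (p : M ⟶ G) [Epi p], Coh.IsCoh G → TorSh.IsTorsionFree G →
      CohB1.support G = W → TFOne.IsSimple X k (X ↘ Spec (CommRingCat.of k)) G →
      ∃ c : k, ∀ η ∈ genericPoints (X : Type u), η ∈ W → ∀ a,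
        CurveCoh17.stalkLin φ η a = VB17.scal k η c • a := by
    intro W G p _ hcG htG hsG hG
    have hk : Limits.kernel.ι p ≫ (φ ≫ p) = 0 := by
      refine TFOne27.hom_eq_zero hcG htG _ fun η hη a => ?_
      by_cases hs : η ∈ CohB1.support G
      · have h1 : CurveCoh17.stalkLin p η (CurveCoh17.stalkLin (Limits.kernel.ι p) η a) = 0 := by
          rw [← TFOne27.stalkLin_comp, Limits.kernel.condition, TFOne27.stalkLin_zero]
        have h2 := TFOne27.injective_at_generic hM.2.2 p hη hs (h1.trans (map_zero _).symm)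
        rw [TFOne27.stalkLin_comp, h2, map_zero]
      · haveI := TFOne27.subsingleton_of_not_mem_support hs
        exact Subsingleton.elim _ _
    obtain ⟨c, hc⟩ := hG.2 (Abelian.epiDesc p (φ ≫ p) hk)
    refine ⟨c, fun η hη hW a => ?_⟩
    have e : φ ≫ p = p ≫ Formal.smulMod k G c := by
      rw [← Abelian.comp_epiDesc p (φ ≫ p) hk]; exact congrArg (p ≫ ·) hc
    refine TFOne27.injective_at_generic hM.2.2 p hη (hsG.symm ▸ hW) ?_
    rw [← TFOne27.stalkLin_comp, e, TFOne27.stalkLin_comp, VB17.stalkLin_smulMod, map_smul]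
  obtain ⟨c, hc⟩ := key Y GY πY hcY htY hsuppY hsY
  obtain ⟨d, hd⟩ := key Z GZ πZ hcZ htZ hsuppZ hsZ
  obtain ⟨a, ha⟩ := TFOne27.exists_ne_of_mem_support (TFOne27.mem_support_of_rkOne hM.2.2 hη₀)
  have hcd : c = d := TFOne27.eq_of_scal_smul hη₀ hM.2.2 ha ((hc η₀ hη₀ h0Y a).symm.trans (hd η₀ hη₀ h0Z a))
  refine ⟨c, sub_eq_zero.mp (TFOne27.hom_eq_zero hM.1 hM.2.1 _ fun η hη a => ?_)⟩
  rw [TFOne27.stalkLin_sub, VB17.stalkLin_smulMod]
  rcases (hcov.symm ▸ Set.mem_univ η : η ∈ Y ∪ Z) with h | h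
  · rw [hc η hη h a]; exact sub_self _
  · rw [hcd, hd η hη h a]; exact sub_self _


end Groth.Agent.S18843
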