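import Groth.Statements.S18844
import Groth.Agent.Lib.TFOne27.Split
-- import your own Groth.Agent.* helpers here

set_option autoImplicit false
universe u
open CategoryTheory CategoryTheory.Limits AlgebraicGeometry
open TFOne

namespace Groth.Agent.S18844

/-- Let X be a proper, geometrically reduced scheme of pure dimension one over a field k whose
irreducible components (with their reduced structure) are geometrically integral over k, assume X is
non-empty, and take a torsion-free sheaf I of rank one on X. Then I is simple over k (every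
endomorphism of I is multiplication by a scalar) exactly when I is not decomposable, that is, when
there do not exist closed proper subcurves Y and Z of X (non-empty unions of irreducible components,
each different from X) together with the torsion-free quotients I_Y, I_Z of I on them (pinned by
their defining property) such that the canonical map I ⟶ I_Y ⊞ I_Z is an isomorphism. -/
theorem result (k : Type u) [Field k] (X : Scheme.{u}) [X.Over (Spec (CommRingCat.of k))] [IsProper (X ↘ Spec (CommRingCat.of k))] [IsReduced X] [GeometricallyReduced (X ↘ Spec (CommRingCat.of k))] (hpure : ∀ C ∈ irreducibleComponents (X : Type u), topologicalKrullDim C = 1) (hgi : ∀ (C : Set X) (hC : C ∈ irreducibleComponents (X : Type u)), GeometricallyIntegral (VecSt.subschι X C (isClosed_of_mem_irreducibleComponents C hC) ≫ (X ↘ Spec (CommRingCat.of k)))) [Nonempty X] (I : X.Modules) (hI : TFOne.IsTF1 X I) : TFOne.IsSimple X k (X ↘ Spec (CommRingCat.of k)) I ↔ ¬ ∃ (Y Z : Set X) (hY : IsClosed Y) (hZ : IsClosed Z)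 (GY GZ : X.Modules) (πY : I ⟶ GY) (πZ : I ⟶ GZ), VecSt.IsSubcurve X Y ∧ VecSt.IsSubcurve X Z ∧ Y ≠ Set.univ ∧ Z ≠ Set.univ ∧ TFOne.IsQuotOn X I Y GY πY ∧ TFOne.IsQuotOn X I Z GZ πZ ∧ IsIso (biprod.lift πY πZ) := by
  haveI : IsLocallyNoetherian X := LocallyOfFiniteType.isLocallyNoetherian (X ↘ Spec (CommRingCat.of k))
  haveI : CompactSpace X := QuasiCompact.compactSpace_of_compactSpace (X ↘ Spec (CommRingCat.of k))
  haveI : IsNoetherian X := {}
  obtain ⟨x⟩ := (inferInstance : Nonempty X)
  obtain ⟨θ, hθ, -⟩ := TFOne27.exists_generic_of_component (irreducibleComponent_mem_irreducibleComponents x)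
  constructor
  · rintro ⟨-, hsimp⟩ ⟨Y, Z, hY, hZ, GY, GZ, πY, πZ, hYs, hZs, -, -, hGY, hGZ, hiso⟩
    haveI := hiso
    obtain ⟨hepY, -, -, hsY⟩ := hGY
    obtain ⟨hepZ, -, -, hsZ⟩ := hGZ
    haveI := hepY
    obtain ⟨c, hc0⟩ := hsimp (πY ≫ Limits.biprod.inl ≫ inv (Limits.biprod.lift πY πZ))
    have hc : πY ≫ Limits.biprod.inl ≫ inv (Limits.biprod.lift πY πZ) = Formal.smulMod k I c := hc0
    have hfst : Formal.smulMod k I c ≫ πY = πY := by
      rw [← hc]
      simp only [Category.assoc]
      rw [(IsIso.inv_comp_eq (Limits.biprod.lift πY πZ)).mpr (Limits.biprod.lift_fst πY πZ).symm]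
      simp
    have hsnd : Formal.smulMod k I c ≫ πZ = 0 := by
      rw [← hc]
      simp only [Category.assoc]
      rw [(IsIso.inv_comp_eq (Limits.biprod.lift πY πZ)).mpr (Limits.biprod.lift_snd πY πZ).symm]
      simp
    obtain ⟨η, hη, hηY⟩ := TFOne27.exists_generic_mem hYs
    obtain ⟨ζ, hζ, hζZ⟩ := TFOne27.exists_generic_mem hZs
    haveI := hepZ
    obtain ⟨a, ha⟩ := TFOne27.exists_ne_of_mem_support (TFOne27.mem_support_of_rkOne hI.2.2 hη)
    obtain ⟨b, hb⟩ := TFOne27.exists_ne_of_mem_support (TFOne27.mem_support_of_rkOne hI.2.2 hζ)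
    have h1 : c = 1 := by
      refine TFOne27.eq_of_scal_smul hη hI.2.2 ha ?_
      rw [map_one, ← VB17.stalkLin_smulMod]
      refine (TFOne27.injective_at_generic hI.2.2 πY hη (hsY.symm ▸ hηY) ?_).trans (one_smul _ a).symm
      rw [← TFOne27.stalkLin_comp, hfst]
    have h2 := congrArg (fun f => CurveCoh17.stalkLin f ζ b) hsnd
    rw [h1, TFOne27.smulMod_one, Category.id_comp] at h2
    exact hb (TFOne27.injective_at_generic hI.2.2 πZ hζ (hsZ.symm ▸ hζZ)
      ((h2.trans (TFOne27.stalkLin_zero ζ b)).trans (map_zero _).symm))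
  · intro hdec
    refine ⟨TFOne27.not_isZero_of_mem_support (TFOne27.mem_support_of_rkOne hI.2.2 hθ), fun φ => ?_⟩
    by_contra! hne
    obtain ⟨e, he, h01, ⟨η, hη, hη1⟩, ⟨ζ, hζ, hζ0⟩⟩ := TFOne27.exists_idempotent hgi hI φ hne
    let f : I ⟶ I := 𝟙 I - e
    have hf : f ≫ f = f := by simp [f, Preadditive.comp_sub, Preadditive.sub_comp, he]
    have hval : ∀ x a, CurveCoh17.stalkLin f x a = a - CurveCoh17.stalkLin e x a := fun x a => by
      rw [TFOne27.stalkLin_sub]
      congr 1
      exact ConcreteCategory.congr_hom ((M1.stalkAb x).map_id I) a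
    have g01 : ∀ x ∈ genericPoints (X : Type u), (∀ a, CurveCoh17.stalkLin f x a = a) ∨
        (∀ a, CurveCoh17.stalkLin f x a = 0) := fun x hx =>
      (h01 x hx).symm.imp (fun h a => by rw [hval, h]; exact sub_zero a) (fun h a => by rw [hval, h]; exact sub_self a)
    obtain ⟨Y, hY, GY, p, i, hYs, hYne, hYq, hip, hpi⟩ :=
      TFOne27.exists_quotOn hI e he h01 ⟨η, hη, hη1⟩ ⟨ζ, hζ, hζ0⟩
    obtain ⟨Z, hZ, GZ, q, j, hZs, hZne, hZq, hjq, hqj⟩ :=
      TFOne27.exists_quotOn hI f hf g01 ⟨ζ, hζ, fun a => by rw [hval, hζ0]; exact sub_zero a⟩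
        ⟨η, hη, fun a => by rw [hval, hη1]; exact sub_self a⟩
    haveI := hYq.1
    haveI := hZq.1
    haveI : Mono i := (SplitMono.mk p hip).mono
    haveI : Mono j := (SplitMono.mk q hjq).mono
    have hiq : i ≫ q = 0 := by
      rw [← cancel_mono j, ← cancel_epi p]
      have : e ≫ f = 0 := by simp [f, Preadditive.comp_sub, he]
      rw [← hpi, ← hqj] at this
      simpa [Category.assoc] using this
    have hjp : j ≫ p = 0 := by
      rw [← cancel_mono i, ← cancel_epi q]
      have : f ≫ e = 0 := by simp [f, Preadditive.sub_comp, he]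
      rw [← hpi, ← hqj] at this
      simpa [Category.assoc] using this
    refine hdec ⟨Y, Z, hY, hZ, GY, GZ, p, q, hYs, hZs, hYne, hZne, hYq, hZq, ⟨⟨Limits.biprod.desc i j, ?_, ?_⟩⟩⟩
    · rw [Limits.biprod.lift_desc, hpi, hqj]; exact add_sub_cancel e (𝟙 I)
    · apply Limits.biprod.hom_ext' <;> apply Limits.biprod.hom_ext <;> simp [hip, hjq, hiq, hjp]


end Groth.Agent.S18844
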