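import Groth.Statements.S18845
import Groth.Agent.Lib.TFOne27.Sub
-- import your own Groth.Agent.* helpers here

set_option autoImplicit false
universe u
open CategoryTheory CategoryTheory.Limits AlgebraicGeometry
open TFOne

namespace Groth.Agent.S18845

/-- Let X be a proper, geometrically reduced scheme of pure dimension one over a field k whose
irreducible components (with their reduced structure) are geometrically integral over k, let Y and Z
be closed subcurves (non-empty unions of irreducible components) with Y ∪ Z = X, and let M be a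
torsion-free sheaf of rank one on X. Suppose M sits in a short exact sequence 0 ⟶ i_{Y*} I ⟶ M ⟶
i_{Z*} J ⟶ 0 of modules on X, where I is a simple torsion-free sheaf of rank one on the reduced
closed subscheme Y, J is a simple torsion-free sheaf of rank one on the reduced closed subscheme Z,
and i_{Y*}, i_{Z*} are the direct images. Then M is simple over k exactly when the sequence does not
split (the epimorphism M ⟶ i_{Z*} J has no section). -/
theorem result (k : Type u) [Field k] (X : Scheme.{u}) [X.Over (Spec (CommRingCat.of k))] [IsProper (X ↘ Spec (CommRingCat.of k))] [IsReduced X] [GeometricallyReduced (X ↘ Spec (CommRingCat.of k))] (hpure : ∀ C ∈ irreducibleComponents (X : Type u), topologicalKrullDim C = 1) (hgi : ∀ (C : Set X) (hC : C ∈ irreducibleComponents (X : Type u)), GeometricallyIntegral (VecSt.subschι X C (isClosed_of_mem_irreducibleComponents C hC) ≫ (X ↘ Spec (CommRingCat.of k)))) (Y Z : Set X) (hY : IsClosed Y) (hZ : IsClosed Z) (hYs : VecSt.IsSubcurve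 X Y) (hZs : VecSt.IsSubcurve X Z) (hcov : Y ∪ Z = Set.univ) (M : X.Modules) (hM : TFOne.IsTF1 X M) (I : (VecSt.subsch X Y hY).Modules) (hI : TFOne.IsTF1 (VecSt.subsch X Y hY) I) (hIs : TFOne.IsSimple (VecSt.subsch X Y hY) k (VecSt.subschι X Y hY ≫ (X ↘ Spec (CommRingCat.of k))) I) (J : (VecSt.subsch X Z hZ).Modules) (hJ : TFOne.IsTF1 (VecSt.subsch X Z hZ) J) (hJs : TFOne.IsSimple (VecSt.subsch X Z hZ) k (VecSt.subschι X Z hZ ≫ (X ↘ Spec (CommRingCat.of k))) J) (a : (Coh.push (VecSt.subschι X Y hY)).obj I ⟶ M) (b : M ⟶ (Coh.push (VecSt.subschι X Z hZ)).obj J) (w : a ≫ b = 0) (hex : (ShortComplex.mk a b w).ShortExact) : TFOne.IsSimple X k (X ↘ Spec (CommRingCat.of k)) M ↔ ¬ IsSplitEpi b := by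
  haveI : IsLocallyNoetherian X := LocallyOfFiniteType.isLocallyNoetherian (X ↘ Spec (CommRingCat.of k))
  haveI : Mono a := hex.mono_f
  haveI : Epi b := hex.epi_g
  have hdis : ∀ η ∈ genericPoints (X : Type u), η ∈ Y → η ∈ Z → False := by
    intro η hη hηY hηZ
    obtain ⟨m, hm⟩ := TFOne27.exists_ne_of_mem_support (TFOne27.mem_support_sub Y hY hI.2.2 hη hηY)
    have hinj := TFOne27.injective_at_generic hM.2.2 b hη (TFOne27.mem_support_sub Z hZ hJ.2.2 hη hηZ)
    have h1 : CurveCoh17.stalkLin b η (CurveCoh17.stalkLin a η m) = 0 := by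
      rw [← TFOne27.stalkLin_comp, w, TFOne27.stalkLin_zero]
    have h2 := hinj (h1.trans (map_zero _).symm)
    exact hm (TFOne27.injective_stalkLin a η (h2.trans (map_zero _).symm))
  have hIJ : ∀ f : (Coh.push (VecSt.subschι X Y hY)).obj I ⟶ (Coh.push (VecSt.subschι X Z hZ)).obj J, f = 0 := by
    refine fun f => TFOne27.hom_eq_zero_sub Z hZ hZs hJ f fun η hη m => ?_
    by_cases hz : η ∈ Z
    · haveI := TFOne27.subsingleton_sub Y hY (I := I) (x := η) fun hy => hdis η hη hy hz
      rw [Subsingleton.elim m 0, map_zero]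
    · haveI := TFOne27.subsingleton_sub Z hZ (I := J) hz
      exact Subsingleton.elim _ _
  have hJI : ∀ f : (Coh.push (VecSt.subschι X Z hZ)).obj J ⟶ (Coh.push (VecSt.subschι X Y hY)).obj I, f = 0 := by
    refine fun f => TFOne27.hom_eq_zero_sub Y hY hYs hI f fun η hη m => ?_
    by_cases hy : η ∈ Y
    · haveI := TFOne27.subsingleton_sub Z hZ (I := J) (x := η) (hdis η hη hy)
      rw [Subsingleton.elim m 0, map_zero]
    · haveI := TFOne27.subsingleton_sub Y hY (I := I) hy
      exact Subsingleton.elim _ _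
  constructor
  · rintro ⟨-, hsimp⟩ ⟨⟨⟨s, hs⟩⟩⟩
    obtain ⟨c, hc0⟩ := hsimp (b ≫ s)
    have hc : b ≫ s = Formal.smulMod k M c := hc0
    obtain ⟨η, hη, hηZ⟩ := TFOne27.exists_generic_mem hZs
    obtain ⟨θ, hθ, hθY⟩ := TFOne27.exists_generic_mem hYs
    have hb : Formal.smulMod k _ c ≫ b = b := by rw [← hc, Category.assoc, hs, Category.comp_id]
    have ha : a ≫ Formal.smulMod k _ c = 0 := by rw [← hc, ← Category.assoc, w, Limits.zero_comp]
    rw [FormalH7.smulMod_naturality, ← sub_eq_zero] at hb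
    nth_rewrite 2 [← Category.comp_id b] at hb
    rw [← Preadditive.comp_sub] at hb
    have hb' := Limits.zero_of_epi_comp b hb
    rw [← TFOne27.smulMod_one (k := k), ← TFOne27.smulMod_sub] at hb'
    rw [← FormalH7.smulMod_naturality] at ha
    have ha' := Limits.zero_of_comp_mono a ha
    have key : ∀ (F : X.Modules) (x : X) (d : k), x ∈ CohB1.support F → Formal.smulMod k F d = 0 → d = 0 := by
      intro F x d hx hd
      obtain ⟨m, hm⟩ := TFOne27.exists_ne_of_mem_support hx
      by_contra hd0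
      have h1 : VB17.scal k x d • m = 0 := by rw [← VB17.stalkLin_smulMod, hd, TFOne27.stalkLin_zero]
      exact hm ((((Ne.isUnit hd0).map (VB17.scal k x)).smul_eq_zero).mp h1)
    have h1 := key _ η (c - 1) (TFOne27.mem_support_sub Z hZ hJ.2.2 hη hηZ) hb'
    have h2 := key _ θ c (TFOne27.mem_support_sub Y hY hI.2.2 hθ hθY) ha'
    rw [h2, zero_sub, neg_eq_zero] at h1
    exact one_ne_zero h1
  · intro hns
    obtain ⟨η, hη, -⟩ := TFOne27.exists_generic_mem hYs
    refine ⟨TFOne27.not_isZero_of_mem_support (TFOne27.mem_support_of_rkOne hM.2.2 hη), fun φ => ?_⟩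
    have h0 : (a ≫ φ) ≫ b = 0 := hIJ _
    obtain ⟨u, hu⟩ : ∃ u, u ≫ a = a ≫ φ := ⟨hex.exact.lift (a ≫ φ) h0, hex.exact.lift_f _ h0⟩
    obtain ⟨v, hv⟩ : ∃ v, b ≫ v = φ ≫ b :=
      ⟨hex.exact.desc (φ ≫ b) (by rw [← Category.assoc]; exact h0), hex.exact.g_desc _ _⟩
    obtain ⟨c, rfl⟩ := TFOne27.exists_scalar_sub Y hY hIs u
    obtain ⟨d, rfl⟩ := TFOne27.exists_scalar_sub Z hZ hJs v
    have hδa : a ≫ (φ - Formal.smulMod k M c) = 0 := by
      rw [Preadditive.comp_sub, ← FormalH7.smulMod_naturality, hu, sub_self]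
    obtain ⟨δ, hδ⟩ : ∃ δ, b ≫ δ = φ - Formal.smulMod k M c :=
      ⟨hex.exact.desc _ hδa, hex.exact.g_desc _ _⟩
    have hδb : δ ≫ b = Formal.smulMod k _ (d - c) := by
      rw [← cancel_epi b, ← Category.assoc, hδ, Preadditive.sub_comp, ← hv, TFOne27.smulMod_sub,
        Preadditive.comp_sub, FormalH7.smulMod_naturality]
    by_cases hcd : d = c
    · have h1 : δ ≫ b = 0 := by rw [hδb, hcd, sub_self, VB17.smulMod_zero]
      obtain ⟨r, hr⟩ : ∃ r, r ≫ a = δ := ⟨hex.exact.lift δ h1, hex.exact.lift_f _ h1⟩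
      refine ⟨c, (?_ : φ = Formal.smulMod k M c)⟩
      rw [← sub_eq_zero]
      rw [← hδ, ← hr, hJI r, Limits.zero_comp, Limits.comp_zero]
    · refine absurd (IsSplitEpi.mk' ⟨Formal.smulMod k _ (d - c)⁻¹ ≫ δ, ?_⟩) hns
      rw [Category.assoc, hδb, TFOne27.smulMod_comp, mul_inv_cancel₀ (sub_ne_zero.mpr hcd), TFOne27.smulMod_one]


end Groth.Agent.S18845
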