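import Groth.Statements.S18847
import Groth.Agent.Lib.TFOne27.Cluster
-- import your own Groth.Agent.* helpers here

set_option autoImplicit false
universe u
open CategoryTheory CategoryTheory.Limits AlgebraicGeometry
open TFOne

namespace Groth.Agent.S18847

/-- Let R be a discrete valuation ring with residue field κ, f : X ⟶ Spec R flat and proper, and X_s its
special fibre, assumed reduced of pure dimension one with geometrically integral irreducible
components over κ. Let I be a coherent R-flat module on X whose restriction I(s) to X_s is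
torsion-free rank-1, E a locally free module of rank r > 0 on X with restriction E(s), and d an
integer with χ(I(s)) = d and deg E(s) = -r·d. For a closed subset T of X_s write I(s)_T for the
torsion-free quotient of I(s) on T (pinned by its defining property) and β(T) := r·χ(I(s)_T) +
deg(E(s)|_T) (the source's β cleared of the denominator r). Let Y be a closed subcurve of X_s (a
non-empty union of irreducible components), and let I^Y be the kernel of the composite I ⟶ i_* I(s)
⟶ i_* I(s)_Y, with restriction I^Y(s) to X_s and quotients I^Y(s)_T and numbers β^Y(T) :=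
r·χ(I^Y(s)_T) + deg(E(s)|_T) defined likewise. Assume that Y is the largest closed subcurve of X_s
on which β is minimal: β(Y) ≤ β(T) for every closed subcurve T of X_s, and every closed subcurve T
with β(T) = β(Y) is contained in Y. Then for every closed subcurve Z of X_s one has β(Y) ≤ β^Y(Z),
and β^Y(Z) = β(Y) only if Z ⊆ Y. (The source takes f projective.) -/
theorem result (R : Type u) [CommRing R] [IsDomain R] [IsDiscreteValuationRing R] (X : Scheme.{u}) (f : X ⟶ Spec (CommRingCat.of R)) [Flat f] [IsProper f] (Xs : Scheme.{u}) [Xs.Over (Spec (CommRingCat.of (IsLocalRing.ResidueField R)))] (i : Xs ⟶ X) (hsq : IsPullback i (Xs ↘ Spec (CommRingCat.of (IsLocalRing.ResidueField R))) f (Spec.map (CommRingCat.ofHom (IsLocalRing.residue R)))) [IsReduced Xs] (hpure : ∀ C ∈ irreducibleComponents (Xs : Type u), topologicalKrullDim C = 1) (hgi : ∀ (C : Set Xs) (hC : C ∈ irreducibleComponents (Xs : Type u)), GeometricallyIntegral (VecSt.subschι Xs C (isClosed_of_mem_irreducibleComponents C hC)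 ≫ (Xs ↘ Spec (CommRingCat.of (IsLocalRing.ResidueField R))))) (I : X.Modules) (hIc : Coh.IsCoh I) (hIf : FlatMod.IsFlatOver f I) (hIs : TFOne.IsTF1 Xs ((Scheme.Modules.pullback i).obj I)) (E : X.Modules) (r : ℕ) (hr : 0 < r) (hE : FlatMod.IsFinLocFreeOfRank r E) (d : ℤ) (hχ : Curv2.euler (IsLocalRing.ResidueField R) Xs ((Scheme.Modules.pullback i).obj I) = d) (hEd : Curv2.deg (IsLocalRing.ResidueField R) Xs ((Scheme.Modules.pullback i).obj E) r = -(r : ℤ) * d) (Y : Set Xs) (hY : IsClosed Y) (hYs : VecSt.IsSubcurve Xs Y) (GY : Xs.Modules) (πY : ((Scheme.Modules.pullback i).obj I) ⟶ GY) (hGY : TFOne.IsQuotOn Xs ((Scheme.Modules.pullback i).obj I) Y GY πY) (IY : X.Modules) (hIY : IY = kernel ((Scheme.Modules.pullbackPushforwardAdjunction i).unit.app I ≫ (Scheme.Modules.pushforward i).map πY)) (hmin : ∀ (T : Set Xs) (hT : IsClosed T), VecSt.IsSubcurve Xs T → ∀ (G : Xs.Modules) (π : ((Scheme.Modules.pullback i).obj I) ⟶ G), TFOne.IsQuotOn Xs ((Scheme.Modules.pullback i).obj I) T G π → TFOne.rBeta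 Xs (IsLocalRing.ResidueField R) (Xs ↘ Spec (CommRingCat.of (IsLocalRing.ResidueField R))) Y hY ((Scheme.Modules.pullback i).obj E) r GY ≤ TFOne.rBeta Xs (IsLocalRing.ResidueField R) (Xs ↘ Spec (CommRingCat.of (IsLocalRing.ResidueField R))) T hT ((Scheme.Modules.pullback i).obj E) r G) (hmax : ∀ (T : Set Xs) (hT : IsClosed T), VecSt.IsSubcurve Xs T → ∀ (G : Xs.Modules) (π : ((Scheme.Modules.pullback i).obj I) ⟶ G), TFOne.IsQuotOn Xs ((Scheme.Modules.pullback i).obj I) T G π → TFOne.rBeta Xs (IsLocalRing.ResidueField R) (Xs ↘ Spec (CommRingCat.of (IsLocalRing.ResidueField R))) T hT ((Scheme.Modules.pullback i).obj E) r G = TFOne.rBeta Xs (IsLocalRing.ResidueField R) (Xs ↘ Spec (CommRingCat.of (IsLocalRing.ResidueField R))) Y hY ((Scheme.Modules.pullback i).obj E) r GY → T ⊆ Y) (Z : Set Xs) (hZ : IsClosed Z) (hZs : VecSt.IsSubcurve Xs Z) (GZ1 : Xs.Modules) (πZ1 : ((Scheme.Modules.pullback i).obj IY) ⟶ GZ1) (hGZ1 : TFOne.IsQuotOn Xs ((Scheme.Modules.pullback i).obj IY) Z GZ1 πZ1) : TFOne.rBeta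 Xs (IsLocalRing.ResidueField R) (Xs ↘ Spec (CommRingCat.of (IsLocalRing.ResidueField R))) Y hY ((Scheme.Modules.pullback i).obj E) r GY ≤ TFOne.rBeta Xs (IsLocalRing.ResidueField R) (Xs ↘ Spec (CommRingCat.of (IsLocalRing.ResidueField R))) Z hZ ((Scheme.Modules.pullback i).obj E) r GZ1 ∧ (TFOne.rBeta Xs (IsLocalRing.ResidueField R) (Xs ↘ Spec (CommRingCat.of (IsLocalRing.ResidueField R))) Z hZ ((Scheme.Modules.pullback i).obj E) r GZ1 = TFOne.rBeta Xs (IsLocalRing.ResidueField R) (Xs ↘ Spec (CommRingCat.of (IsLocalRing.ResidueField R))) Y hY ((Scheme.Modules.pullback i).obj E) r GY → Z ⊆ Y) := by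
  haveI : IsClosedImmersion i := TFOne27.isClosedImmersion_special hsq
  haveI : IsProper (Xs ↘ Spec (CommRingCat.of (IsLocalRing.ResidueField R))) :=
    MorphismProperty.of_isPullback hsq ‹IsProper f›
  have hd : topologicalKrullDim Xs ≤ 1 := CurveR1_10.topologicalKrullDim_le_of_components fun C hC => (hpure C hC).le
  have hX := CurveAmple18.curveLike (IsLocalRing.ResidueField R) Xs hd
  haveI := hX.noetherian
  have hE' := M2.isFinLocFreeOfRank_pullback i hE
  have hGY' := hGY
  haveI := hGY'.1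
  obtain ⟨m⟩ : Nonempty (TFOne27.Modification πY ((Scheme.Modules.pullback i).obj IY)) := by
    rw [hIY]; exact TFOne27.nonempty_modification hsq hIf πY
  have hIYc : Coh.IsCoh ((Scheme.Modules.pullback i).obj IY) := by
    haveI : IsLocallyNoetherian X := LocallyOfFiniteType.isLocallyNoetherian f
    refine M1.isCoh_pullback i ?_
    rw [hIY]
    exact CurveCoh17.isCoh_kernel hIc (ProperFormalH7.isCoh_pushforward_of_isProper i hGY.2.1).1 _
  have hWg : TFOne27.GenClosed (⋃₀ {C | C ∈ irreducibleComponents (Xs : Type u) ∧ C ⊆ Y ∩ Z}) :=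
    TFOne27.genClosed_sUnion _ fun C hC => hC.1
  have hWc : IsClosed (⋃₀ {C | C ∈ irreducibleComponents (Xs : Type u) ∧ C ⊆ Y ∩ Z}) :=
    TFOne27.isClosed_sUnion _ fun C hC => hC.1
  obtain ⟨GW, pW, hGW⟩ := TFOne27.exists_isQuotOn hIs _ hWc hWg
  have hUs := TFOne27.isSubcurve_union hYs hZs
  obtain ⟨GU, pU, hGU⟩ := TFOne27.exists_isQuotOn hIs _ (hY.union hZ) (TFOne27.genClosed_of_subcurve hUs)
  simp only [TFOne27.rBeta_eq hE'] at hmin hmax ⊢
  have h := (m.beta_le hX hIs hY (TFOne27.genClosed_of_subcurve hYs) hGY hr hE' hZ (TFOne27.genClosed_of_subcurve hZs)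
    hWc rfl hGZ1 hGW hGU).1
  have hu := hmin _ (hY.union hZ) hUs GU pU hGU
  obtain ⟨η, hη, -⟩ := TFOne27.exists_generic_mem hYs
  obtain ⟨GX, pX, hGX⟩ := TFOne27.exists_isQuotOn hIs Set.univ isClosed_univ
    (TFOne27.genClosed_of_subcurve (TFOne27.isSubcurve_univ η))
  have h0 := hmin _ isClosed_univ (TFOne27.isSubcurve_univ η) GX pX hGX
  rw [TFOne27.beta_univ hX hIs pX hGX hχ hEd] at h0
  have hw : TFOne27.beta (IsLocalRing.ResidueField R) ((Scheme.Modules.pullback i).obj E) r Y hY GY ≤
      TFOne27.beta (IsLocalRing.ResidueField R) ((Scheme.Modules.pullback i).obj E) r _ hWc GW := by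
    rcases Set.eq_empty_or_nonempty {C | C ∈ irreducibleComponents (Xs : Type u) ∧ C ⊆ Y ∩ Z} with he | he
    · rw [TFOne27.beta_empty hX hE' hWc (by rw [he, Set.sUnion_empty]) hGW.2.1 hGW.2.2.2]
      exact h0
    · exact hmin _ hWc ⟨_, fun C hC => hC.1, he, rfl⟩ GW pW hGW
  refine ⟨by linarith, fun heq => ?_⟩
  exact Set.subset_union_right.trans (hmax _ (hY.union hZ) hUs GU pU hGU (by linarith))


end Groth.Agent.S18847
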