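import Groth.Statements.S18856
import Groth.Agent.Lib.TFOne27.Cluster
-- import your own Groth.Agent.* helpers here

set_option autoImplicit false
universe u
open CategoryTheory CategoryTheory.Limits AlgebraicGeometry
open TFOne

namespace Groth.Agent.S18856

/-- Let R be a discrete valuation ring with residue field κ, f : X ⟶ Spec R flat and proper, and X_s its
special fibre, assumed reduced of pure dimension one with geometrically integral irreducible
components over κ. Let I be a coherent R-flat module on X whose restriction I(s) to X_s is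
torsion-free rank-1, E a locally free module of rank r > 0 on X with restriction E(s), and d an
integer with χ(I(s)) = d and deg E(s) = -r·d. For a closed subset T of X_s write I(s)_T for the
torsion-free quotient of I(s) on T (pinned by its defining property) and β(T) := r·χ(I(s)_T) +
deg(E(s)|_T) (the source's β cleared of the denominator r). Let Y be a closed subcurve of X_s (a
non-empty union of irreducible components), and let I^Y be the kernel of the composite I ⟶ i_* I(s)
⟶ i_* I(s)_Y, with restriction I^Y(s) to X_s and quotients I^Y(s)_T and numbers β^Y(T) :=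
r·χ(I^Y(s)_T) + deg(E(s)|_T) defined likewise. Let Z be a closed subcurve of X_s, W the union of the
irreducible components of X_s contained in Y ∩ Z, Y' the union of the components not contained in Y,
and V the union of the components contained in Z but not in Y (each possibly empty; the torsion-free
quotient on the empty set is 0). Then the inequality β^Y(Z) + β(Y) ≥ β(W) + β(Y ∪ Z) is an equality
if and only if χ(I^Y(s)_W) + χ(I^Y(s)_{Y'}) − χ(I^Y(s)_{W ∪ Y'}) = χ(I^Y(s)_W) + χ(I^Y(s)_V) −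
χ(I^Y(s)_Z), that is δ(W, Y') = δ(W, V) for δ(A, B) := χ(I^Y(s)_A) + χ(I^Y(s)_B) − χ(I^Y(s)_{A ∪ B})
(note W ∪ V = Z). (The source takes f projective.) -/
theorem result (R : Type u) [CommRing R] [IsDomain R] [IsDiscreteValuationRing R] (X : Scheme.{u}) (f : X ⟶ Spec (CommRingCat.of R)) [Flat f] [IsProper f] (Xs : Scheme.{u}) [Xs.Over (Spec (CommRingCat.of (IsLocalRing.ResidueField R)))] (i : Xs ⟶ X) (hsq : IsPullback i (Xs ↘ Spec (CommRingCat.of (IsLocalRing.ResidueField R))) f (Spec.map (CommRingCat.ofHom (IsLocalRing.residue R)))) [IsReduced Xs] (hpure : ∀ C ∈ irreducibleComponents (Xs : Type u), topologicalKrullDim C = 1) (hgi : ∀ (C : Set Xs) (hC : C ∈ irreducibleComponents (Xs : Type u)), GeometricallyIntegral (VecSt.subschι Xs C (isClosed_of_mem_irreducibleComponents C hC) ≫ (Xs ↘ Spec (CommRingCat.of (IsLocalRing.ResidueField R))))) (I : X.Modules) (hIc : Coh.IsCoh I) (hIf : FlatMod.IsFlatOver f I) (hIs : TFOne.IsTF1 Xs ((Scheme.Modules.pullback i).obj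 I)) (E : X.Modules) (r : ℕ) (hr : 0 < r) (hE : FlatMod.IsFinLocFreeOfRank r E) (d : ℤ) (hχ : Curv2.euler (IsLocalRing.ResidueField R) Xs ((Scheme.Modules.pullback i).obj I) = d) (hEd : Curv2.deg (IsLocalRing.ResidueField R) Xs ((Scheme.Modules.pullback i).obj E) r = -(r : ℤ) * d) (Y : Set Xs) (hY : IsClosed Y) (hYs : VecSt.IsSubcurve Xs Y) (GY : Xs.Modules) (πY : ((Scheme.Modules.pullback i).obj I) ⟶ GY) (hGY : TFOne.IsQuotOn Xs ((Scheme.Modules.pullback i).obj I) Y GY πY) (IY : X.Modules) (hIY : IY = kernel ((Scheme.Modules.pullbackPushforwardAdjunction i).unit.app I ≫ (Scheme.Modules.pushforward i).map πY)) (Z W Y' V : Set Xs) (hZ : IsClosed Z) (hZs : VecSt.IsSubcurve Xs Z) (hW : W = ⋃₀ {C | C ∈ irreducibleComponents (Xs : Type u) ∧ C ⊆ Y ∩ Z}) (hWc : IsClosed W) (hY' : Y' = ⋃₀ {C | C ∈ irreducibleComponents (Xs : Type u) ∧ ¬ C ⊆ Y}) (hY'c : IsClosed Y') (hV : V = ⋃₀ {C | C ∈ irreducibleComponents (Xs : Type u) ∧ C ⊆ Z ∧ ¬ C ⊆ Y}) (hVc : IsClosed V) (GZ1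 G2 G3 G4 G5 : Xs.Modules) (πZ1 : ((Scheme.Modules.pullback i).obj IY) ⟶ GZ1) (π5 : ((Scheme.Modules.pullback i).obj IY) ⟶ G5) (hG5 : TFOne.IsQuotOn Xs ((Scheme.Modules.pullback i).obj IY) W G5 π5) (π2 : ((Scheme.Modules.pullback i).obj IY) ⟶ G2) (π3 : ((Scheme.Modules.pullback i).obj IY) ⟶ G3) (π4 : ((Scheme.Modules.pullback i).obj IY) ⟶ G4) (hGZ1 : TFOne.IsQuotOn Xs ((Scheme.Modules.pullback i).obj IY) Z GZ1 πZ1) (hG2 : TFOne.IsQuotOn Xs ((Scheme.Modules.pullback i).obj IY) Y' G2 π2) (hG3 : TFOne.IsQuotOn Xs ((Scheme.Modules.pullback i).obj IY) (W ∪ Y') G3 π3) (hG4 : TFOne.IsQuotOn Xs ((Scheme.Modules.pullback i).obj IY) V G4 π4) (GW GU : Xs.Modules) (πW : ((Scheme.Modules.pullback i).obj I) ⟶ GW) (πU : ((Scheme.Modules.pullback i).obj I) ⟶ GU) (hGW : TFOne.IsQuotOn Xs ((Scheme.Modules.pullback i).obj I) W GW πW) (hGU : TFOne.IsQuotOn Xs ((Scheme.Modules.pullback i).obj I) (Y ∪ Z) GU πU) : TFOne.rBeta Xs (IsLocalRing.ResidueField R) (Xs ↘ Spec (CommRingCat.of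 (IsLocalRing.ResidueField R))) W hWc ((Scheme.Modules.pullback i).obj E) r GW + TFOne.rBeta Xs (IsLocalRing.ResidueField R) (Xs ↘ Spec (CommRingCat.of (IsLocalRing.ResidueField R))) (Y ∪ Z) (hY.union hZ) ((Scheme.Modules.pullback i).obj E) r GU = TFOne.rBeta Xs (IsLocalRing.ResidueField R) (Xs ↘ Spec (CommRingCat.of (IsLocalRing.ResidueField R))) Z hZ ((Scheme.Modules.pullback i).obj E) r GZ1 + TFOne.rBeta Xs (IsLocalRing.ResidueField R) (Xs ↘ Spec (CommRingCat.of (IsLocalRing.ResidueField R))) Y hY ((Scheme.Modules.pullback i).obj E) r GY ↔ Curv2.euler (IsLocalRing.ResidueField R) Xs G5 + Curv2.euler (IsLocalRing.ResidueField R) Xs G2 - Curv2.euler (IsLocalRing.ResidueField R) Xs G3 = Curv2.euler (IsLocalRing.ResidueField R) Xs G5 + Curv2.euler (IsLocalRing.ResidueField R) Xs G4 - Curv2.euler (IsLocalRing.ResidueField R) Xs GZ1 := by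
  haveI : IsClosedImmersion i := TFOne27.isClosedImmersion_special hsq
  haveI : IsProper (Xs ↘ Spec (CommRingCat.of (IsLocalRing.ResidueField R))) :=
    MorphismProperty.of_isPullback hsq ‹IsProper f›
  have hd : topologicalKrullDim Xs ≤ 1 := CurveR1_10.topologicalKrullDim_le_of_components fun C hC => (hpure C hC).le
  have hX := CurveAmple18.curveLike (IsLocalRing.ResidueField R) Xs hd
  haveI := hX.noetherian
  have hE' := M2.isFinLocFreeOfRank_pullback i hE
  have hGY' := hGY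
  haveI := hGY'.1
  obtain ⟨m⟩ : Nonempty (TFOne27.Modification πY ((Scheme.Modules.pullback i).obj IY)) := by
    rw [hIY]; exact TFOne27.nonempty_modification hsq hIf πY
  have hIYc : Coh.IsCoh ((Scheme.Modules.pullback i).obj IY) := by
    haveI : IsLocallyNoetherian X := LocallyOfFiniteType.isLocallyNoetherian f
    refine M1.isCoh_pullback i ?_
    rw [hIY]
    exact CurveCoh17.isCoh_kernel hIc (ProperFormalH7.isCoh_pushforward_of_isProper i hGY.2.1).1 _
  simp only [TFOne27.rBeta_eq hE']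
  rw [(m.beta_le hX hIs hY (TFOne27.genClosed_of_subcurve hYs) hGY hr hE' hZ (TFOne27.genClosed_of_subcurve hZs)
    hWc hW hGZ1 hGW hGU).2]
  obtain ⟨heW, hcW, htW, hsW⟩ := hGW
  obtain ⟨heU, hcU, htU, hsU⟩ := hGU
  obtain ⟨heZ, hcZ, htZ, hsZ⟩ := hGZ1
  obtain ⟨he2, hc2, ht2, hs2⟩ := hG2
  obtain ⟨he3, hc3, ht3, hs3⟩ := hG3
  obtain ⟨he4, hc4, ht4, hs4⟩ := hG4
  obtain ⟨-, hcY, htY, hsY⟩ := hGY'
  haveI := heW; haveI := heU; haveI := heZ; haveI := he2; haveI := he3; haveI := he4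
  obtain ⟨G0, p0, hep0, hc0, ht0, hs0⟩ := TFOne27.exists_isQuotOn hIs ∅ isClosed_empty (fun x h => h.elim)
  haveI := hep0
  have e0 : Curv2.euler (IsLocalRing.ResidueField R) Xs G0 = 0 := TFOne27.euler_eq_zero hX hc0 fun x =>
    not_not.mp fun h => by
      have : x ∈ CohB1.support G0 := h
      rw [hs0] at this
      exact this
  have hcompl : ∀ η ∈ genericPoints (Xs : Type u), (η ∈ Y' ↔ η ∉ Y) := fun η hη => TFOne27.mem_compl_iff hY hY' hη
  have e2 := m.euler_compl hX hIs hGY (π2 := π2) hc2 ht2 p0 hc0 ht0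
    (fun η hη => by rw [hs2]; exact (Classical.em (η ∈ Y)).imp id (hcompl η hη).mpr)
    (fun η hη => by
      rw [hs2, hs0]
      exact ⟨fun h => h.elim, fun h => (hcompl η hη).mp h.2 h.1⟩)
  have e3 := m.euler_compl hX hIs hGY (π2 := π3) hc3 ht3 πW hcW htW
    (fun η hη => by rw [hs3]; exact (Classical.em (η ∈ Y)).imp id fun h => Or.inr ((hcompl η hη).mpr h))
    (fun η hη => by
      rw [hs3, hsW]
      refine ⟨fun h => ⟨((TFOne27.mem_meet_iff hY hZ hW hη).mp h).1, Or.inl h⟩, fun h => h.2.elim id ?_⟩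
      exact fun h' => absurd h.1 ((hcompl η hη).mp h'))
  obtain ⟨-, -, K, q, hq, hcK, htK, eK, hK⟩ := m.euler_quot hX hIs hcY htY πW πU πZ1 hcW htW hcU htU hcZ htZ
    (fun η _ => by rw [hsY, hsZ, hsU]; exact Iff.rfl)
    (fun η hη => by rw [hsY, hsZ, hsW]; exact TFOne27.mem_meet_iff hY hZ hW hη)
  haveI := hq
  obtain ⟨e4, -⟩ := TFOne27.nonempty_iso_of_quot (m.rkOne hIs.2.2) π4 q hc4 ht4 hcK htK fun η hη => by
    rw [hs4, hK η hη, hsZ, hsY, hV]
    constructor
    · rintro ⟨C, ⟨hC, hCZ, hCY⟩, hηC⟩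
      refine ⟨hCZ hηC, fun h => hCY ?_⟩
      exact (TFOne27.isGenericPoint_of_mem hη hC hηC).def ▸ closure_minimal (Set.singleton_subset_iff.mpr h) hY
    · intro h
      exact ⟨closure {η}, ⟨hη, closure_minimal (Set.singleton_subset_iff.mpr h.1) hZ,
        fun hs => h.2 (hs (subset_closure rfl))⟩, subset_closure rfl⟩
  have e4' := CurveCoh17.euler_iso (k := IsLocalRing.ResidueField R) e4
  omega


end Groth.Agent.S18856
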