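import Groth.Statements.S18859
import Groth.Agent.Lib.TorsorSch25.Descend
import Mathlib.AlgebraicGeometry.AffineSpace

set_option autoImplicit false
universe u
open CategoryTheory MonoidalCategory CartesianMonoidalCategory MonObj GrpObj AlgebraicGeometry
open NonAbH1

namespace Groth.Agent.S18859

/-- Let S be a scheme, G a group scheme over S and X → S a G-torsor for the fpqc topology (a
pseudo-torsor under G acquiring sections on the members of some fpqc covering family of S). Then the
functions on S are the G-invariant functions on X: the ring map Γ(S, O_S) → Γ(X, O_X) is injective,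
and a global function s on X lies in its image if and only if the pullbacks of s to G ×_S X along
the action morphism and along the second projection coincide. (The source works over a scheme of
finite type over a field with G the base change of an affine group scheme over that field and states
the equality O_S = (O_X)^G as sheaves on S; applied to the restriction of the torsor over each open
of S, the present global form is that equality.) -/
theorem result {S : Scheme.{u}} {G X : Over S}
    [GrpObj G] (a : AlgGrp.Action G X) (ha : NonAbH1.IsTorsorFor Scheme.fpqcPrecoverage a) :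
    Function.Injective X.hom.appTop.hom ∧
      ∀ s : Γ(X.left, ⊤), s ∈ Set.range X.hom.appTop.hom ↔
        a.act.left.appTop.hom s = (CartesianMonoidalCategory.snd G X).left.appTop.hom s := by
  let Z : Over S := Over.mk (AlgebraicGeometry.AffineSpace PUnit.{u+1} S ↘ S)
  let fn : ∀ {W : Over S}, (W ⟶ Z) → Γ(W.left, ⊤) := fun z => z.left.appTop.hom (AffineSpace.coord S PUnit.unit)
  have hfn : ∀ {W V : Over S} (b : V ⟶ W) (z : W ⟶ Z), fn (b ≫ z) = b.left.appTop.hom (fn z) := fun b z => by
    simp only [fn, Over.comp_left, Scheme.Hom.comp_appTop]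
    rfl
  have hext : ∀ {W : Over S} (z z' : W ⟶ Z), fn z = fn z' → z = z' := fun z z' h => by
    ext : 1
    exact AffineSpace.hom_ext ((Over.w z).trans (Over.w z').symm) (fun _ => h)
  let mk : ∀ (W : Over S), Γ(W.left, ⊤) → (W ⟶ Z) := fun W s =>
    Over.homMk (AffineSpace.homOfVector W.hom fun _ => s) (AffineSpace.homOfVector_over _ _)
  have hmk : ∀ (W : Over S) (s : Γ(W.left, ⊤)), fn (mk W s) = s := fun W s =>
    AffineSpace.homOfVector_appTop_coord _ _ _
  have hu : ∀ f : 𝟙_ (Over S) ⟶ Z, fn (toUnit X ≫ f) = X.hom.appTop.hom (fn f) := fun f => by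
    rw [hfn]
    rfl
  refine ⟨fun r r' h => ?_, fun s => ⟨?_, fun h => ?_⟩⟩
  · have e : toUnit X ≫ mk (𝟙_ (Over S)) r = toUnit X ≫ mk (𝟙_ (Over S)) r' :=
      hext _ _ (by rw [hu, hu, hmk, hmk]; exact h)
    have hinv : a.act ≫ toUnit X ≫ mk (𝟙_ (Over S)) r = snd G X ≫ toUnit X ≫ mk (𝟙_ (Over S)) r := by
      rw [← Category.assoc, ← Category.assoc, toUnit_unique (a.act ≫ toUnit X) (snd G X ≫ toUnit X)]
    have h1 := (TorsorSch25.existsUnique_descend ha _ hinv).unique rfl e.symm
    rw [← hmk (𝟙_ (Over S)) r, h1, hmk]
  · rintro ⟨r, rfl⟩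
    change (a.act ≫ toUnit X).left.appTop.hom r = (snd G X ≫ toUnit X).left.appTop.hom r
    rw [toUnit_unique (a.act ≫ toUnit X) (snd G X ≫ toUnit X)]
  · obtain ⟨f, hf, -⟩ := TorsorSch25.existsUnique_descend ha (mk X s) (hext _ _ (by rw [hfn, hfn, hmk, h]))
    exact ⟨fn f, by rw [← hu, hf, hmk]⟩

end Groth.Agent.S18859
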