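import Groth.Statements.S1886
import Groth.Agent.Lib.GrpdB.Calc
import Groth.Agent.Lib.GrpdB.Topology

set_option autoImplicit false
universe u
open CategoryTheory CategoryTheory.Limits AlgebraicGeometry
open Grpd

namespace Groth.Agent.S1886

/-- Let (U, R, s, t, c) be a groupoid scheme over S with stabilizer group scheme G → U and identity
section e : U → G. Then j = (t, s) : R → U ×_S U is separated iff G → U is separated iff e is a
closed immersion; and j is quasi-separated iff G → U is quasi-separated iff e is quasi-compact. (A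
groupoid scheme carries U, R, s, t, c, e, i over S with the groupoid axioms on T-points; 'finite
locally free' is finite, flat and locally of finite presentation; C ⊂ Γ(U) is the ring of functions
a with s♯(a) = t♯(a) and M = Spec C.) -/
theorem result (S : Scheme.{u}) (G : Grpd.GroupoidScheme S) : ((IsSeparated G.j ↔ IsSeparated G.stabilizerToU) ∧ (IsSeparated G.stabilizerToU ↔ IsClosedImmersion G.eStab)) ∧ ((QuasiSeparated G.j ↔ QuasiSeparated G.stabilizerToU) ∧ (QuasiSeparated G.stabilizerToU ↔ QuasiCompact G.eStab)) := by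
  have hsec : G.eStab ≫ G.stabilizerToU = 𝟙 _ := pullback.lift_snd _ _ _
  have h1 : IsSeparated G.j → IsSeparated G.stabilizerToU := fun h => MorphismProperty.of_isPullback (P := @IsSeparated) (IsPullback.of_hasPullback G.j G.diag) h
  have h1' : QuasiSeparated G.j → QuasiSeparated G.stabilizerToU := fun h => MorphismProperty.of_isPullback (P := @QuasiSeparated) (IsPullback.of_hasPullback G.j G.diag) h
  have h2 : IsSeparated G.stabilizerToU → IsClosedImmersion G.eStab := fun _ => by
    have : IsClosedImmersion (G.eStab ≫ G.stabilizerToU) := by rw [hsec]; infer_instance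
    exact IsClosedImmersion.of_comp G.eStab G.stabilizerToU
  have h2' : QuasiSeparated G.stabilizerToU → QuasiCompact G.eStab := fun _ => by
    have : QuasiCompact (G.eStab ≫ G.stabilizerToU) := by rw [hsec]; infer_instance
    exact QuasiCompact.of_comp G.eStab G.stabilizerToU
  -- the diagonal of `j` is a base change of `eStab`
  set x := pullback.fst G.j G.j
  set y := pullback.snd G.j G.j
  have hxy : x ≫ G.j = y ≫ G.j := pullback.condition
  have ht : x ≫ G.t = y ≫ G.t := Groth.Agent.GrpdB.t_eq_of_comp_j hxy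
  have hs : x ≫ G.s = y ≫ G.s := Groth.Agent.GrpdB.s_eq_of_comp_j hxy
  let g := Groth.Agent.GrpdB.cmp G x (Groth.Agent.GrpdB.inv' y) (hs.trans (Groth.Agent.GrpdB.inv_t y).symm)
  have hgt : g ≫ G.t = y ≫ G.t := (Groth.Agent.GrpdB.cmp_t _ _ _).trans ht
  have hgs : g ≫ G.s = y ≫ G.t := (Groth.Agent.GrpdB.cmp_s _ _ _).trans (Groth.Agent.GrpdB.inv_s y)
  let p : pullback G.j G.j ⟶ G.stabilizer := pullback.lift g (y ≫ G.t) (Groth.Agent.GrpdB.lift_cond g _ hgt hgs)
  have hd : ∀ {T : Scheme.{u}} (a : T ⟶ pullback G.j G.j), a ≫ g = ((a ≫ y) ≫ G.t) ≫ G.e → a ≫ x = a ≫ y := by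
    intro T a ha
    have he : (((a ≫ y) ≫ G.t) ≫ G.e) ≫ G.s = (a ≫ y) ≫ G.t := by rw [Category.assoc, G.e_s, Category.comp_id]
    refine Eq.trans ?_ (Groth.Agent.GrpdB.id_cmp' (a ≫ y) _ he)
    refine (congrArg (a ≫ ·) (Groth.Agent.GrpdB.cancel_right' x y hs)).symm.trans ?_
    rw [Groth.Agent.GrpdB.comp_cmp]
    exact Groth.Agent.GrpdB.cmp_congr ha rfl _
  have hδ : pullback.diagonal G.j ≫ g = G.t ≫ G.e := by
    rw [Groth.Agent.GrpdB.comp_cmp]
    exact (Groth.Agent.GrpdB.cmp_congr (pullback.diagonal_fst _) (show _ = Groth.Agent.GrpdB.inv' (𝟙 G.R) by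
      rw [← Category.assoc, pullback.diagonal_snd]) _).trans ((G.comp_i (𝟙 _)).trans (Category.id_comp _))
  have w : pullback.diagonal G.j ≫ p = G.t ≫ G.eStab := by
    apply pullback.hom_ext
    · erw [Category.assoc, Category.assoc, pullback.lift_fst, pullback.lift_fst]
      exact hδ
    · erw [Category.assoc, Category.assoc, pullback.lift_snd, pullback.lift_snd]
      rw [← Category.assoc, pullback.diagonal_snd, Category.id_comp, Category.comp_id]
  have hpb : IsPullback (pullback.diagonal G.j) G.t p G.eStab := by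
    have key : ∀ c : PullbackCone p G.eStab, c.snd = (c.fst ≫ y) ≫ G.t ∧ c.fst ≫ x = c.fst ≫ y := by
      intro c
      have h₂ : (c.fst ≫ y) ≫ G.t = c.snd := by
        have := congrArg (· ≫ pullback.snd G.j G.diag) c.condition
        erw [Category.assoc, Category.assoc, pullback.lift_snd, pullback.lift_snd] at this
        simpa using this
      refine ⟨h₂.symm, hd _ ?_⟩
      have := congrArg (· ≫ pullback.fst G.j G.diag) c.condition
      erw [Category.assoc, Category.assoc, pullback.lift_fst, pullback.lift_fst] at this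
      rw [h₂]
      exact this
    refine ⟨⟨w⟩, ⟨PullbackCone.IsLimit.mk w (fun c => c.fst ≫ y) (fun c => ?_) (fun c => (key c).1.symm)
      fun c m h1 h2 => ?_⟩⟩
    · apply pullback.hom_ext
      · rw [Category.assoc, pullback.diagonal_fst, Category.comp_id]; exact (key c).2.symm
      · rw [Category.assoc, pullback.diagonal_snd, Category.comp_id]
    · rw [← h1, Category.assoc, pullback.diagonal_snd, Category.comp_id]
  have h3 : IsClosedImmersion G.eStab → IsSeparated G.j := fun h =>
    ⟨MorphismProperty.of_isPullback (P := @IsClosedImmersion) hpb.flip h⟩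
  have h3' : QuasiCompact G.eStab → QuasiSeparated G.j := fun h =>
    ⟨MorphismProperty.of_isPullback (P := @QuasiCompact) hpb.flip h⟩
  exact ⟨⟨⟨h1, fun h => h3 (h2 h)⟩, h2, fun h => h1 (h3 h)⟩, ⟨h1', fun h => h3' (h2' h)⟩, h2', fun h => h1' (h3' h)⟩

end Groth.Agent.S1886
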