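import Groth.Statements.S18863
-- import your own Groth.Agent.* helpers here
import Groth.Agent.Lib.TorsorLim25.Grp
import Groth.Agent.Lib.TorsorLim25.Flat
import Groth.Agent.Lib.GrpLimit2.TorsorStage
import Groth.Agent.Lib.TorsorSch25.Transfer
import Groth.Agent.Lib.FpqcDesc.Basic
import Groth.Agent.Lib.TorsorSch25.Field
import Groth.Agent.Lib.LimH13.Exists

set_option autoImplicit false
set_option backward.isDefEq.respectTransparency.types false
set_option linter.style.haveILetI false
universe u
open CategoryTheory CategoryTheory.Limits MonoidalCategory CartesianMonoidalCategory MonObj GrpObj AlgebraicGeometry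
open NonAbH1

namespace Groth.Agent.S18863

/-- Let k be a field and X a quasi-compact k-scheme. Let (G_i)_{i ∈ I} be a cofiltered inverse system of
affine group schemes of finite type over k with limit G in the category of k-group schemes (a limit
cone of homomorphisms G → G_i), and (T_i)_{i ∈ I} an inverse system of X-schemes such that each T_i
is a torsor over X for the fpqc topology under the base change of G_i to X and each transition map
T_j → T_i is equivariant along G_j → G_i. Let T be a limit of the T_i over X, with an action of the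
base change of G to X for which every projection T → T_i is equivariant along G → G_i. Then T is a
torsor over X under the base change of G for the fpqc topology. (The source indexes the system by a
directed partially ordered set and also records that T is pointed over a rational point of X when
all the T_i are; the limit scheme, the limit group and the limit action, which exist and are unique,
are taken here as data.) -/
theorem result (k : Type u) [Field k]
    (X : Scheme.{u}) [X.Over (Spec (CommRingCat.of k))] [CompactSpace X]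
    {I : Type u} [SmallCategory I] [IsCofiltered I]
    (DG : I ⥤ Grp (Over (Spec (CommRingCat.of k))))
    [∀ i, IsAffineHom (DG.obj i).X.hom] [∀ i, LocallyOfFiniteType (DG.obj i).X.hom]
    (cG : Cone DG) (hcG : IsLimit cG)
    (DT : I ⥤ Over X)
    (aT : ∀ i, AlgGrp.Action (Red.bc (X ↘ Spec (CommRingCat.of k)) (DG.obj i).X) (DT.obj i))
    (hT : ∀ i, NonAbH1.IsTorsorFor Scheme.fpqcPrecoverage (aT i))
    (hDT : ∀ (i j : I) (φ : i ⟶ j), AlgGrp.Action.IsEquivariant (aT i)
      ((aT j).restrict ((Over.pullback (X ↘ Spec (CommRingCat.of k))).map (DG.map φ).hom.hom)) (DT.map φ))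
    (cT : Cone DT) (hcT : IsLimit cT)
    (a : AlgGrp.Action (Red.bc (X ↘ Spec (CommRingCat.of k)) cG.pt.X) cT.pt)
    (ha : ∀ i, AlgGrp.Action.IsEquivariant a
      ((aT i).restrict ((Over.pullback (X ↘ Spec (CommRingCat.of k))).map (cG.π.app i).hom.hom)) (cT.π.app i)) :
    NonAbH1.IsTorsorFor Scheme.fpqcPrecoverage a := by
  classical
  let b : X ⟶ Spec (CommRingCat.of k) := X ↘ Spec (CommRingCat.of k)
  -- properties of the stages
  have hflat : ∀ i, Flat (DT.obj i).hom := fun i => by
    haveI := Groth.Agent.TorsorSch25.flat_descendsAlong.{u}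
    exact Groth.Agent.TorsorSch25.prop_of_isTorsorFor @Flat (hT i)
      (MorphismProperty.pullback_snd _ _ (Groth.Agent.TorsorSch25.flat_over_field _))
  have hsurj : ∀ i, Surjective (DT.obj i).hom := fun i => Groth.Agent.GrpLimit2.surjective_of_torsor (hT i)
  have haff : ∀ i, IsAffineHom (DT.obj i).hom := fun i => by
    haveI := Groth.Agent.FpqcDesc.descendsAlong_isAffineHom.{u}
    exact Groth.Agent.TorsorSch25.prop_of_isTorsorFor @IsAffineHom (hT i)
      (MorphismProperty.pullback_snd _ _ (inferInstance : IsAffineHom (DG.obj i).X.hom))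
  let D : I ⥤ Scheme.{u} := DT ⋙ Over.forget X
  let c : Cone D := (Over.forget X).mapCone cT
  haveI : ∀ {i j : I} (f : i ⟶ j), IsAffineHom (D.map f) := fun {i j} f => by
    show IsAffineHom (DT.map f).left
    haveI := haff i; haveI := haff j
    haveI : IsAffineHom ((DT.map f).left ≫ (DT.obj j).hom) := by rw [Over.w]; infer_instance
    exact MorphismProperty.of_postcomp (W := @IsAffineHom) (W' := @IsSeparated) _ (DT.obj j).hom inferInstance
      inferInstance
  haveI : IsConnected I := IsCofiltered.isConnected I
  let hc : IsLimit c := isLimitOfPreserves (Over.forget X) hcT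
  have hp : ∀ i, c.π.app i ≫ (DT.obj i).hom = cT.pt.hom := fun i => Over.w (cT.π.app i)
  have hD : ∀ {i j : I} (f : j ⟶ i), D.map f ≫ (DT.obj i).hom = (DT.obj j).hom := fun f => Over.w (DT.map f)
  haveI hTflat : Flat cT.pt.hom :=
    Groth.Agent.TorsorLim25.flat_of_isLimit hc (fun i => (DT.obj i).hom) hD hflat cT.pt.hom hp
  obtain ⟨i₀⟩ := IsCofiltered.nonempty (C := I)
  haveI : IsAffineHom cT.pt.hom := by
    rw [← hp i₀]
    haveI := haff i₀
    haveI : IsAffineHom (c.π.app i₀) := AlgebraicGeometry.isAffineHom_π_app _ _ hc _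
    exact MorphismProperty.comp_mem @IsAffineHom (c.π.app i₀) (DT.obj i₀).hom (by assumption) (haff i₀)
  haveI hTsurj : Surjective cT.pt.hom := ⟨fun x => by
    let P := Over.pullback (X.fromSpecResidueField x)
    let D' : I ⥤ Scheme.{u} := (DT ⋙ P) ⋙ Over.forget _
    let c' : Cone D' := (Over.forget _).mapCone (P.mapCone cT)
    let hc' : IsLimit c' := isLimitOfPreserves (Over.forget _) (isLimitOfPreserves P hcT)
    haveI : ∀ i, IsAffine (D'.obj i) := fun i => by
      haveI := haff i
      have h : IsAffineHom (Limits.pullback.snd (DT.obj i).hom (X.fromSpecResidueField x)) :=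
        MorphismProperty.pullback_snd _ _ (haff i)
      exact @isAffine_of_isAffineHom _ _ (Limits.pullback.snd (DT.obj i).hom (X.fromSpecResidueField x)) h inferInstance
    haveI : ∀ i, Nonempty (D'.obj i) := fun i => by
      haveI := hsurj i
      haveI : Surjective (Limits.pullback.snd (DT.obj i).hom (X.fromSpecResidueField x)) :=
        MorphismProperty.pullback_snd _ _ (inferInstance : Surjective (DT.obj i).hom)
      obtain ⟨z, -⟩ := (Limits.pullback.snd (DT.obj i).hom (X.fromSpecResidueField x)).surjective (IsLocalRing.closedPoint _)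
      exact ⟨z⟩
    obtain ⟨z⟩ := Scheme.nonempty_of_isLimit D' c' hc'
    let z' : ↥(Limits.pullback cT.pt.hom (X.fromSpecResidueField x)) := z
    refine ⟨Limits.pullback.fst cT.pt.hom (X.fromSpecResidueField x) z', ?_⟩
    rw [← Scheme.Hom.comp_apply, Limits.pullback.condition, Scheme.Hom.comp_apply]
    have := Set.mem_range_self (f := X.fromSpecResidueField x) (Limits.pullback.snd cT.pt.hom (X.fromSpecResidueField x) z')
    rwa [Scheme.range_fromSpecResidueField, Set.mem_singleton_iff] at this⟩
  refine ⟨?_, ⟨_, cT.pt.hom.singleton_mem_fpqcPrecoverage, fun S' f hf => ?_⟩⟩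
  · -- pseudo-torsor
    haveI : ∀ i, IsAffine (((DG ⋙ Grp.forget (Over (Spec (CommRingCat.of k)))) ⋙ Over.forget _).obj i) := fun i =>
      @isAffine_of_isAffineHom _ _ (DG.obj i).X.hom (‹∀ i, IsAffineHom (DG.obj i).X.hom› i) inferInstance
    haveI : ∀ (i j : I) (f : i ⟶ j),
        IsAffineHom (((DG ⋙ Grp.forget (Over (Spec (CommRingCat.of k)))) ⋙ Over.forget _).map f) := fun i j f =>
      inferInstance
    haveI : HasLimit ((DG ⋙ Grp.forget (Over (Spec (CommRingCat.of k)))) ⋙ Over.forget _) :=
      Groth.Agent.LimH13.hasLimit_of_isAffineHom _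
    haveI : HasLimit (DG ⋙ Grp.forget (Over (Spec (CommRingCat.of k)))) :=
      hasLimit_of_created _ (Over.forget _)
    obtain ⟨hG⟩ := Groth.Agent.TorsorLim25.nonempty_isLimit_forget DG cG hcG
    refine Groth.Agent.TorsorSch25.isPseudoTorsorSch_of_existsUnique fun T x y => ?_
    let π : ∀ i, Red.bc b cG.pt.X ⟶ Red.bc b (DG.obj i).X := fun i => (Over.pullback b).map (cG.π.app i).hom.hom
    have hact : ∀ i (g : T ⟶ Red.bc b cG.pt.X) (w : T ⟶ cT.pt),
        lift g w ≫ a.act ≫ cT.π.app i = lift (g ≫ π i) (w ≫ cT.π.app i) ≫ (aT i).act := fun i g w => by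
      rw [ha i, AlgGrp.Action.restrict]
      rw [lift_whiskerLeft_assoc, lift_whiskerRight_assoc]
    choose g hg hgu using fun i =>
      Groth.Agent.TorsorSch25.existsUnique_smul (hT i).1 (x ≫ cT.π.app i) (y ≫ cT.π.app i)
    have hcompat : ∀ (i j : I) (f : i ⟶ j), g i ≫ (Over.pullback b).map (DG.map f).hom.hom = g j := fun i j f => by
      refine hgu j _ ?_
      show lift (g i ≫ (Over.pullback b).map (DG.map f).hom.hom) (x ≫ cT.π.app j) ≫ (aT j).act = y ≫ cT.π.app j
      have h1 := hDT i j f
      have h2 : lift (g i) (x ≫ cT.π.app i) ≫ (aT i).act ≫ DT.map f =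
          lift (g i ≫ (Over.pullback b).map (DG.map f).hom.hom) (x ≫ cT.π.app i ≫ DT.map f) ≫ (aT j).act := by
        rw [h1, AlgGrp.Action.restrict]
        rw [lift_whiskerLeft_assoc, lift_whiskerRight_assoc, Category.assoc]
      rw [← cT.w f, ← h2, ← Category.assoc, hg i, Category.assoc]
    -- morphisms into the base change
    let T₀ : Over (Spec (CommRingCat.of k)) := (Over.map b).obj T
    let adj := Over.mapPullbackAdj b
    let sc : Cone (DG ⋙ Grp.forget _) :=
      { pt := T₀
        π.app i := (adj.homEquiv T (DG.obj i).X).symm (g i)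
        π.naturality i j f := by
          show 𝟙 _ ≫ _ = _ ≫ (DG.map f).hom.hom
          rw [Category.id_comp, ← Adjunction.homEquiv_naturality_right_symm]
          exact congrArg _ (hcompat i j f).symm }
    let G' : T ⟶ Red.bc b cG.pt.X := adj.homEquiv T cG.pt.X (hG.lift sc)
    have hG' : ∀ i, G' ≫ π i = g i := fun i => by
      show adj.homEquiv T cG.pt.X (hG.lift sc) ≫ (Over.pullback b).map (cG.π.app i).hom.hom = _
      rw [← Adjunction.homEquiv_naturality_right]
      have := hG.fac sc i
      exact (congrArg (adj.homEquiv T (DG.obj i).X) this).trans (Equiv.apply_symm_apply _ _)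
    refine ⟨G', ?_, fun g' hg' => ?_⟩
    · refine hcT.hom_ext fun i => ?_
      rw [Category.assoc, hact, hG', hg]
    · refine (adj.homEquiv T cG.pt.X).symm.injective (hG.hom_ext fun i => ?_)
      show (adj.homEquiv T cG.pt.X).symm g' ≫ (cG.π.app i).hom.hom = (adj.homEquiv T cG.pt.X).symm G' ≫ (cG.π.app i).hom.hom
      rw [← Adjunction.homEquiv_naturality_right_symm, ← Adjunction.homEquiv_naturality_right_symm]
      refine congrArg _ ((hgu i _ ?_).trans (hG' i).symm)
      show lift (g' ≫ π i) (x ≫ cT.π.app i) ≫ (aT i).act = y ≫ cT.π.app i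
      rw [← hact, ← Category.assoc, hg']
  · cases hf with
    | mk => exact ⟨𝟙 _, Category.id_comp _⟩

end Groth.Agent.S18863
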