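import Groth.Statements.S18864
import Mathlib.RingTheory.FiniteType
import Mathlib.RingTheory.Flat.Basic
import Mathlib.LinearAlgebra.Basis.VectorSpace
import Mathlib.RingTheory.Bialgebra.Hom

set_option autoImplicit false
universe u v w
open HopfRep

namespace Groth.Agent.S18864

/-- Let k be a field and G = lim G_i a pro-algebraic group scheme over k, so that G = Spec A with A the
direct limit of the Hopf algebras A_i of the affine group schemes G_i of finite type; assume
moreover that the maps A_i → A are injective, so that A is the directed union of the A_i, here given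
as injective bialgebra maps A_i → A with directed, jointly covering images. Then every homomorphism
from G to an affine group scheme H = Spec B of finite type over k factors through some projection G
→ G_i: every bialgebra map f : B → A with B finitely generated as a k-algebra is the composite of
A_i → A with a bialgebra map B → A_i for some i. (The published statement allows arbitrary
transition maps in the system; this row assumes each A_i → A injective, the case the printed
argument treats. The source also states the pro-finite variant with H finite, which is the case of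
finite-dimensional A_i and B; finite generation of the A_i is not used.) -/
theorem result (k : Type u) [Field k]
    (A : Type v) [CommRing A] [HopfAlgebra k A] {ι : Type v} (Aι : ι → Type v)
    [∀ i, CommRing (Aι i)] [∀ i, HopfAlgebra k (Aι i)] (emb : ∀ i, Aι i →ₐc[k] A)
    (hinj : ∀ i, Function.Injective (emb i))
    (hdir : ∀ i j, ∃ l, Set.range (emb i) ⊆ Set.range (emb l) ∧ Set.range (emb j) ⊆ Set.range (emb l))
    (hcov : ∀ a : A, ∃ i, a ∈ Set.range (emb i))
    (B : Type w) [CommRing B] [HopfAlgebra k B] [Algebra.FiniteType k B] (f : B →ₐc[k] A) :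
    ∃ (i : ι) (g : B →ₐc[k] Aι i), (emb i).comp g = f := by
  classical
  obtain ⟨s, hs⟩ := (inferInstance : Algebra.FiniteType k B).out
  obtain ⟨i₀, -⟩ := hcov 0
  have hex : ∀ t : Finset A, ∃ l, (t : Set A) ⊆ Set.range (emb l) := by
    intro t
    induction t using Finset.induction with
    | empty => exact ⟨i₀, by simp⟩
    | insert a t _ ih =>
      obtain ⟨l, hl⟩ := ih
      obtain ⟨j, hj⟩ := hcov a
      obtain ⟨l', h1, h2⟩ := hdir j l
      exact ⟨l', by rw [Finset.coe_insert]; exact Set.insert_subset (h1 hj) (hl.trans h2)⟩
  obtain ⟨i, hi⟩ := hex (s.image f)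
  let e : Aι i →ₐ[k] A := (emb i : Aι i →ₐ[k] A)
  have hrange : ∀ b, f b ∈ e.range := by
    have : (⊤ : Subalgebra k B) ≤ e.range.comap (f : B →ₐ[k] A) := by
      rw [← hs]
      refine Algebra.adjoin_le fun b hb => ?_
      exact hi (Finset.mem_coe.2 (Finset.mem_image_of_mem f hb))
    exact fun b => this (Algebra.mem_top)
  let g₀ : B →ₐ[k] Aι i := (AlgEquiv.ofInjective e (hinj i)).symm.toAlgHom.comp
    ((f : B →ₐ[k] A).codRestrict e.range hrange)
  have hg : ∀ b, emb i (g₀ b) = f b := fun b => by
    show e ((AlgEquiv.ofInjective e (hinj i)).symm _) = _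
    exact congrArg Subtype.val ((AlgEquiv.ofInjective e (hinj i)).apply_symm_apply ⟨f b, hrange b⟩)
  have hinj2 : Function.Injective (TensorProduct.map e.toLinearMap e.toLinearMap) := by
    rw [← LinearMap.lTensor_comp_rTensor]
    exact (Module.Flat.lTensor_preserves_injective_linearMap _ (hinj i)).comp
      (Module.Flat.rTensor_preserves_injective_linearMap _ (hinj i))
  let g : B →ₐc[k] Aι i := BialgHom.ofAlgHom g₀
    (AlgHom.ext fun b => by
      show CoalgebraStruct.counit (R := k) (g₀ b) = CoalgebraStruct.counit (R := k) b
      rw [← CoalgHomClass.counit_comp_apply (emb i), hg, CoalgHomClass.counit_comp_apply])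
    (AlgHom.ext fun b => hinj2 (by
      show TensorProduct.map e.toLinearMap e.toLinearMap
        (TensorProduct.map g₀.toLinearMap g₀.toLinearMap (CoalgebraStruct.comul (R := k) b)) =
        TensorProduct.map e.toLinearMap e.toLinearMap (CoalgebraStruct.comul (R := k) (g₀ b))
      rw [← LinearMap.comp_apply (TensorProduct.map e.toLinearMap e.toLinearMap), ← TensorProduct.map_comp,
        show e.toLinearMap ∘ₗ g₀.toLinearMap = (f : B →ₗ[k] A) from LinearMap.ext hg]
      exact (CoalgHomClass.map_comp_comul_apply f b).trans (by
        rw [← hg]; exact (CoalgHomClass.map_comp_comul_apply (emb i) (g₀ b)).symm)))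
  exact ⟨i, g, BialgHom.ext hg⟩

end Groth.Agent.S18864
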