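import Groth.Statements.S18866
import Groth.Agent.Lib.LiaisonH1.Unmixed

set_option autoImplicit false
universe u
open Liaison

namespace Groth.Agent.S18866

/-- Let K be a field, R = K[x_0, …, x_n] graded by degree, c ≥ 2, 𝔠 ⊂ R a homogeneous ideal of height c
such that R/𝔠 is a Gorenstein ring, and I, J ⊂ R homogeneous ideals that are directly linked by 𝔠,
that is 𝔠 : I = J and 𝔠 : J = I. If R/I and R/J have no associated prime in common, then I ∩ J = 𝔠,
so I and J are geometrically linked by 𝔠. -/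
theorem result (K : Type u) [Field K] (n c : ℕ) (hc : 2 ≤ c)
    (𝔠 I J : Ideal (MvPolynomial (Fin (n + 1)) K))
    (h𝔠 : 𝔠.IsHomogeneous (GrSyz.stdGr K (Fin (n + 1)))) (hI : I.IsHomogeneous (GrSyz.stdGr K (Fin (n + 1)))) (hJ : J.IsHomogeneous (GrSyz.stdGr K (Fin (n + 1))))
    [LocCoh.IsGorensteinRing (MvPolynomial (Fin (n + 1)) K ⧸ 𝔠)] (h𝔠c : 𝔠.height = c)
    (hIJ : 𝔠.colon (I : Set (MvPolynomial (Fin (n + 1)) K)) = J) (hJI : 𝔠.colon (J : Set (MvPolynomial (Fin (n + 1)) K)) = I)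
    (hdisj : Disjoint (associatedPrimes (MvPolynomial (Fin (n + 1)) K) (MvPolynomial (Fin (n + 1)) K ⧸ I)) (associatedPrimes (MvPolynomial (Fin (n + 1)) K) (MvPolynomial (Fin (n + 1)) K ⧸ J))) :
    I ⊓ J = 𝔠 := by
  have hcI : 𝔠 ≤ I := hJI ▸ fun a ha => Submodule.mem_colon.mpr fun j _ => by
    rw [smul_eq_mul]; exact 𝔠.mul_mem_right _ ha
  have hcJ : 𝔠 ≤ J := hIJ ▸ fun a ha => Submodule.mem_colon.mpr fun j _ => by
    rw [smul_eq_mul]; exact 𝔠.mul_mem_right _ ha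
  refine le_antisymm (fun x hx => ?_) (le_inf hcI hcJ)
  obtain ⟨hxI, hxJ⟩ := Submodule.mem_inf.mp hx
  by_contra hxc
  have hne : Ideal.Quotient.mk 𝔠 x ≠ 0 := fun h => hxc (Ideal.Quotient.eq_zero_iff_mem.mp h)
  obtain ⟨p, hp, hle⟩ := exists_le_isAssociatedPrime_of_isNoetherianRing
    (MvPolynomial (Fin (n + 1)) K) (Ideal.Quotient.mk 𝔠 x) hne
  have hmin := LiaisonH1.mem_minimalPrimes_of_mem_associatedPrimes 𝔠 hp
  haveI := hmin.1.1
  have hIp : I ≤ p := fun i hi => hle <| by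
    rw [Submodule.mem_colon_singleton, Submodule.mem_bot]
    refine (Ideal.Quotient.eq_zero_iff_mem (a := i * x)).mpr ?_
    rw [← hIJ] at hxJ
    simpa [mul_comm] using Submodule.mem_colon.mp hxJ i hi
  have hJp : J ≤ p := fun i hi => hle <| by
    rw [Submodule.mem_colon_singleton, Submodule.mem_bot]
    refine (Ideal.Quotient.eq_zero_iff_mem (a := i * x)).mpr ?_
    rw [← hJI] at hxI
    simpa [mul_comm] using Submodule.mem_colon.mp hxI i hi
  have hpI : p ∈ I.minimalPrimes :=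
    ⟨⟨inferInstance, hIp⟩, fun q hq hqp => hmin.2 ⟨hq.1, hcI.trans hq.2⟩ hqp⟩
  have hpJ : p ∈ J.minimalPrimes :=
    ⟨⟨inferInstance, hJp⟩, fun q hq hqp => hmin.2 ⟨hq.1, hcJ.trans hq.2⟩ hqp⟩
  exact Set.disjoint_left.mp hdisj (LiaisonH1.minimalPrimes_subset_associatedPrimes I hpI)
    (LiaisonH1.minimalPrimes_subset_associatedPrimes J hpJ)

end Groth.Agent.S18866
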