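import Groth.Statements.S18867
import Groth.Agent.Lib.LiaisonH1.Unmixed

set_option autoImplicit false
universe u
open Liaison

namespace Groth.Agent.S18867

/-- Let K be a field, R = K[x_0, …, x_n] graded by degree, c ≥ 2, 𝔠 ⊂ R a homogeneous ideal of height c
such that R/𝔠 is a Gorenstein ring, and I ⊂ R a homogeneous ideal of height c which is unmixed
(every associated prime of R/I has height c) and properly contains 𝔠. Then 𝔠 : (𝔠 : I) = I, so that
I and 𝔠 : I are directly linked by 𝔠. -/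
theorem result (K : Type u) [Field K] (n c : ℕ) (hc : 2 ≤ c)
    (𝔠 I : Ideal (MvPolynomial (Fin (n + 1)) K))
    (h𝔠 : 𝔠.IsHomogeneous (GrSyz.stdGr K (Fin (n + 1)))) (hI : I.IsHomogeneous (GrSyz.stdGr K (Fin (n + 1))))
    [LocCoh.IsGorensteinRing (MvPolynomial (Fin (n + 1)) K ⧸ 𝔠)] (h𝔠c : 𝔠.height = c) (hIc : I.height = c)
    (hIu : ∀ p ∈ associatedPrimes (MvPolynomial (Fin (n + 1)) K) (MvPolynomial (Fin (n + 1)) K ⧸ I), p.height = c) (hlt : 𝔠 < I) :
    𝔠.colon ((𝔠.colon (I : Set (MvPolynomial (Fin (n + 1)) K)) : Ideal (MvPolynomial (Fin (n + 1)) K)) : Set (MvPolynomial (Fin (n + 1)) K)) = I := by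
  set S := MvPolynomial (Fin (n + 1)) K
  refine le_antisymm (fun x hx => ?_) (fun i hi => Submodule.mem_colon.mpr fun a ha => ?_)
  swap
  · have := Submodule.mem_colon.mp ha i hi
    simpa [mul_comm] using this
  by_contra hxI
  have hne : Ideal.Quotient.mk I x ≠ 0 := fun h => hxI (Ideal.Quotient.eq_zero_iff_mem.mp h)
  obtain ⟨p, hp, hle⟩ := exists_le_isAssociatedPrime_of_isNoetherianRing S (Ideal.Quotient.mk I x) hne
  haveI := IsAssociatedPrime.isPrime hp
  have hIp : I ≤ p := fun i hi => hle <| by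
    rw [Submodule.mem_colon_singleton, Submodule.mem_bot]
    exact (Ideal.Quotient.eq_zero_iff_mem (a := i * x)).mpr (I.mul_mem_right _ hi)
  let π := Ideal.Quotient.mk 𝔠
  let q := p.map π
  have h𝔠p : 𝔠 ≤ p := hlt.le.trans hIp
  haveI hq : q.IsPrime :=
    Ideal.map_isPrime_of_surjective Ideal.Quotient.mk_surjective (by rwa [Ideal.mk_ker])
  have hqmem : ∀ a, π a ∈ q ↔ a ∈ p := fun a => Ideal.mem_quotient_iff_mem h𝔠p
  have hq0 : q.height = 0 := by
    rw [Ideal.height_eq_zero_iff]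
    refine ⟨⟨hq, bot_le⟩, fun r hr hrle => ?_⟩
    haveI := hr.1
    have hle' : 𝔠 ≤ r.comap π := fun a ha => by
      simp [Ideal.mem_comap, π, Ideal.Quotient.eq_zero_iff_mem.mpr ha]
    have hrp : r.comap π ≤ p := fun a ha => (hqmem a).mp (hrle ha)
    rcases hrp.eq_or_lt with h | h
    · exact Ideal.map_le_iff_le_comap.mpr h.ge
    · have h1 := Ideal.height_strict_mono_of_isPrime h
      have h2 := Ideal.height_mono hle'
      rw [hIu p hp] at h1
      rw [h𝔠c] at h2
      exact absurd (h2.trans_lt h1) (lt_irrefl _)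
  obtain ⟨G, hG⟩ := IsNoetherian.noetherian I
  let A := Localization.AtPrime q
  haveI := LocCoh.IsGorensteinRing.isGorensteinLocalRing_localization q
  have hdim : ringKrullDim A = 0 := by
    rw [IsLocalization.AtPrime.ringKrullDim_eq_height q A, hq0]; rfl
  have hmemA : algebraMap (S ⧸ 𝔠) A (π x) ∈ (I.map π).map (algebraMap (S ⧸ 𝔠) A) := by
    refine LiaisonH1.mem_of_gorenstein_dim_zero (A := Localization.AtPrime q) hdim fun a ha => ?_
    obtain ⟨b, s, rfl⟩ := IsLocalization.exists_mk'_eq q.primeCompl a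
    obtain ⟨b, rfl⟩ := Ideal.Quotient.mk_surjective b
    have hu : ∀ g ∈ G, ∃ u : S, u ∉ p ∧ u * b * g ∈ 𝔠 := fun g hg => by
      have h0 := ha _ (Ideal.mem_map_of_mem _ (Ideal.mem_map_of_mem π (hG.le (Submodule.subset_span hg))))
      rw [mul_comm, IsLocalization.mul_mk'_eq_mk'_of_mul, IsLocalization.mk'_eq_zero_iff] at h0
      obtain ⟨⟨u, hu⟩, h0⟩ := h0
      obtain ⟨u, rfl⟩ := Ideal.Quotient.mk_surjective u
      refine ⟨u, fun h => hu ((hqmem u).mpr h), Ideal.Quotient.eq_zero_iff_mem.mp ?_⟩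
      rw [map_mul, map_mul, ← h0]
      ring
    choose u hu1 hu2 using hu
    let v := ∏ g ∈ G.attach, u g.1 g.2
    have hv : v * b ∈ 𝔠.colon (I : Set S) := by
      refine Submodule.mem_colon.mpr fun i hi => ?_
      rw [SetLike.mem_coe, ← hG] at hi
      induction hi using Submodule.span_induction with
      | mem g hg =>
        obtain ⟨w, hw⟩ : u g hg ∣ v := Finset.dvd_prod_of_mem (fun g : G => u g.1 g.2)
          (Finset.mem_attach G ⟨g, hg⟩)
        rw [smul_eq_mul, hw, show u g hg * w * b * g = w * (u g hg * b * g) by ring]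
        exact 𝔠.mul_mem_left _ (hu2 g hg)
      | zero => simp
      | add a b _ _ ha hb => rw [smul_add]; exact add_mem ha hb
      | smul c b _ hb => rw [smul_comm]; exact 𝔠.mul_mem_left c hb
    have hvp : v ∉ p := fun h => by
      obtain ⟨g, _, hg⟩ := Ideal.IsPrime.prod_mem_iff.mp h
      exact hu1 g.1 g.2 hg
    have hxv := Submodule.mem_colon.mp hx _ hv
    rw [smul_eq_mul] at hxv
    rw [mul_comm, IsLocalization.mul_mk'_eq_mk'_of_mul, IsLocalization.mk'_eq_zero_iff]
    refine ⟨⟨π v, fun h => hvp ((hqmem v).mp h)⟩, ?_⟩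
    show π v * (π x * π b) = 0
    rw [← map_mul, ← map_mul]
    exact Ideal.Quotient.eq_zero_iff_mem.mpr (by rwa [mul_left_comm] at hxv)
  rw [IsLocalization.algebraMap_mem_map_algebraMap_iff q.primeCompl] at hmemA
  obtain ⟨w, hw, hwI⟩ := hmemA
  obtain ⟨w, rfl⟩ := Ideal.Quotient.mk_surjective w
  rw [← map_mul, Ideal.mem_quotient_iff_mem hlt.le] at hwI
  refine hw ((hqmem w).mpr (hle ?_))
  rw [Submodule.mem_colon_singleton, Submodule.mem_bot]
  exact (Ideal.Quotient.eq_zero_iff_mem (a := w * x)).mpr hwI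

end Groth.Agent.S18867
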