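import Groth.Statements.S18869
import Groth.Agent.Lib.LiaisonH1.Final

set_option autoImplicit false
universe u
open Liaison

namespace Groth.Agent.S18869

/-- Let K be a field, R = K[x_0, …, x_n] graded by degree, and I₁, I₂ ⊂ R homogeneous ideals of the same
height c such that R/I₁ and R/I₂ are Cohen–Macaulay rings (they define arithmetically Cohen–Macaulay
subschemes of codimension c) and I₁, I₂ have no minimal prime in common (no common component). If
R/(I₁ ∩ I₂) is a Gorenstein ring (the union is arithmetically Gorenstein), then I₁ + I₂ has height c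
+ 1 and R/(I₁ + I₂) is a Gorenstein ring (the intersection is arithmetically Gorenstein of
codimension c + 1). (Arithmetically Gorenstein, in the notes arithmetically Cohen–Macaulay with last
graded Betti number 1, is rendered as: the quotient ring is Gorenstein.) -/
theorem result (K : Type u) [Field K] (n c : ℕ)
    (I₁ I₂ : Ideal (MvPolynomial (Fin (n + 1)) K))
    (hI₁ : I₁.IsHomogeneous (GrSyz.stdGr K (Fin (n + 1)))) (hI₂ : I₂.IsHomogeneous (GrSyz.stdGr K (Fin (n + 1))))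
    [LocCoh.IsCohenMacaulayRing (MvPolynomial (Fin (n + 1)) K ⧸ I₁)] [LocCoh.IsCohenMacaulayRing (MvPolynomial (Fin (n + 1)) K ⧸ I₂)]
    (h₁ : I₁.height = c) (h₂ : I₂.height = c) (hdisj : Disjoint I₁.minimalPrimes I₂.minimalPrimes)
    [LocCoh.IsGorensteinRing (MvPolynomial (Fin (n + 1)) K ⧸ (I₁ ⊓ I₂))] :
    (I₁ ⊔ I₂).height = c + 1 ∧ LocCoh.IsGorensteinRing (MvPolynomial (Fin (n + 1)) K ⧸ (I₁ ⊔ I₂)) := by
  open Groth.Agent.LiaisonH1 in
  have hIJc : (I₁ ⊓ I₂).height = c := by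
    refine le_antisymm ((Ideal.height_mono inf_le_left).trans h₁.le) ?_
    rw [Ideal.height_eq_inf_minimalPrimes (I := I₁ ⊓ I₂)]
    refine le_iInf₂ fun P hP => ?_
    rcases (Ideal.IsPrime.inf_le hP.1.1).1 hP.1.2 with h | h
    · exact h₁.ge.trans (Ideal.height_mono h)
    · exact h₂.ge.trans (Ideal.height_mono h)
  have hne₁ : I₁ ≠ ⊤ := fun h => by rw [h, Ideal.height_top] at h₁; exact ENat.top_ne_natCast c h₁
  have hne₂ : I₂ ≠ ⊤ := fun h => by rw [h, Ideal.height_top] at h₂; exact ENat.top_ne_natCast c h₂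
  have hmin : ∀ P ∈ (I₁ ⊓ I₂).minimalPrimes, ¬ I₁ ⊔ I₂ ≤ P := by
    intro P hP hle
    exact Set.disjoint_left.1 hdisj
      (show P ∈ I₁.minimalPrimes from ⟨⟨hP.1.1, le_sup_left.trans hle⟩,
        fun r hr hrP => hP.2 ⟨hr.1, inf_le_left.trans hr.2⟩ hrP⟩)
      ⟨⟨hP.1.1, le_sup_right.trans hle⟩, fun r hr hrP => hP.2 ⟨hr.1, inf_le_right.trans hr.2⟩ hrP⟩
  have hG := Groth.Agent.LiaisonH1.isGorenstein_sum I₁ I₂
    (fun q _ => Groth.Agent.LiaisonH1.height_comap_factor (hI₁.inf hI₂) hI₁ _ hIJc h₁ q)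
    (fun q _ => Groth.Agent.LiaisonH1.height_comap_factor (hI₁.inf hI₂) hI₂ _ hIJc h₂ q) hmin
  refine ⟨?_, hG⟩
  have hsup : I₁ ⊔ I₂ ≤ Groth.Agent.LiaisonH1.irr K n :=
    sup_le (Groth.Agent.LiaisonH1.le_irr hI₁ hne₁) (Groth.Agent.LiaisonH1.le_irr hI₂ hne₂)
  have hge : ((c + 1 : ℕ) : ℕ∞) ≤ (I₁ ⊔ I₂).height := by
    rw [Ideal.height_eq_inf_minimalPrimes (I := I₁ ⊔ I₂)]
    refine le_iInf₂ fun P hP => ?_
    haveI := hP.1.1
    obtain ⟨Q, hQ, hQP⟩ := Ideal.exists_minimalPrimes_le ((inf_le_left.trans le_sup_left).trans hP.1.2)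
    haveI := hQ.1.1
    have hlt : Q < P := lt_of_le_of_ne hQP fun h => hmin Q hQ (h ▸ hP.1.2)
    have hlt' := Ideal.height_strict_mono_of_isPrime hlt
    rw [Groth.Agent.LiaisonH1.height_eq_of_minimal (hI₁.inf hI₂) hQ, hIJc] at hlt'
    push_cast
    exact Order.add_one_le_of_lt hlt'
  refine le_antisymm ?_ (by exact_mod_cast hge)
  haveI := Groth.Agent.LiaisonH1.isCohenMacaulayRing_of_isGorensteinRing (R := MvPolynomial (Fin (n + 1)) K ⧸ (I₁ ⊔ I₂))
  set q := (Groth.Agent.LiaisonH1.irr K n).map (Ideal.Quotient.mk (I₁ ⊔ I₂)) with hqdef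
  haveI : q.IsPrime := Ideal.map_isPrime_of_surjective Ideal.Quotient.mk_surjective (by rwa [Ideal.mk_ker])
  have hle : I₁ ⊓ I₂ ≤ I₁ ⊔ I₂ := inf_le_left.trans le_sup_left
  set p := q.comap (Ideal.Quotient.factor hle) with hpdef
  have e1 := Groth.Agent.LiaisonH1.height_comap_eq (hI₁.sup hI₂) q
  have e2 := Groth.Agent.LiaisonH1.height_comap_eq (hI₁.inf hI₂) p
  rw [hIJc, hpdef, Ideal.comap_comap, Ideal.Quotient.factor_comp_mk hle, e1] at e2
  rw [← hpdef] at e2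
  obtain ⟨d, hdp⟩ : ∃ d : ℕ, p.height = d :=
    ⟨_, (ENat.natCast_toNat (Ideal.height_ne_top (Ideal.IsPrime.ne_top inferInstance))).symm⟩
  rw [hdp] at e2
  have hqle : q.height ≤ q.height + (I₁ ⊔ I₂).height := le_self_add
  obtain ⟨a, ha⟩ : ∃ a : ℕ, q.height = a :=
    ⟨_, (ENat.natCast_toNat (ne_top_of_le_ne_top (by simp) (hqle.trans e2.le))).symm⟩
  obtain ⟨b, hb⟩ : ∃ b : ℕ, (I₁ ⊔ I₂).height = b :=
    ⟨_, (ENat.natCast_toNat (Ideal.height_ne_top (ne_top_of_le_ne_top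
      (Groth.Agent.LiaisonH1.irr_isMaximal K n).ne_top hsup))).symm⟩
  rw [ha, hb] at e2
  rw [hb] at hge ⊢
  norm_cast at e2 hge ⊢
  obtain ⟨d', rfl⟩ : ∃ d', d = d' + 1 := ⟨d - 1, by omega⟩
  have hdim := Groth.Agent.LiaisonH1.le_height_sum I₁ I₂
    (fun q _ => Groth.Agent.LiaisonH1.height_comap_factor (hI₁.inf hI₂) hI₁ _ hIJc h₁ q)
    (fun q _ => Groth.Agent.LiaisonH1.height_comap_factor (hI₁.inf hI₂) hI₂ _ hIJc h₂ q) q (d := d') hdp
  rw [ha] at hdim
  norm_cast at hdim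
  omega

end Groth.Agent.S18869
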