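import Groth.Statements.S18870
import Groth.Agent.Lib.LiaisonH1.Unmixed

set_option autoImplicit false
universe u
open Liaison

namespace Groth.Agent.S18870

/-- Let K be a field, R = K[x_0, …, x_n] graded by degree, and J ⊆ I ⊂ R homogeneous ideals with J ≠ 0,
height I = height J + 1 = h + 1 and R/J Cohen–Macaulay; let f ∈ R be homogeneous of degree d with J
: f = J, and put Ĩ = J + fI (the basic double link). Then Ĩ has the same height h + 1 as I. -/
theorem result (K : Type u) [Field K] (n h : ℕ)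
    (J I : Ideal (MvPolynomial (Fin (n + 1)) K))
    (hJ : J.IsHomogeneous (GrSyz.stdGr K (Fin (n + 1)))) (hI : I.IsHomogeneous (GrSyz.stdGr K (Fin (n + 1))))
    (hJ0 : J ≠ ⊥) (hJI : J ≤ I) (hJh : J.height = h) (hIh : I.height = h + 1)
    [LocCoh.IsCohenMacaulayRing (MvPolynomial (Fin (n + 1)) K ⧸ J)]
    (f : MvPolynomial (Fin (n + 1)) K) (d : ℕ) (hf : f ∈ GrSyz.stdGr K (Fin (n + 1)) (d : ℤ)) (hJf : J.colon {f} = J) :
    (J ⊔ Ideal.span {f} * I).height = h + 1 := by
  refine le_antisymm (hIh ▸ Ideal.height_mono (sup_le hJI Ideal.mul_le_right)) ?_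
  rw [Ideal.height_eq_inf_minimalPrimes]
  refine le_iInf₂ fun p hp => ?_
  haveI := hp.1.1
  have hJp : J ≤ p := le_sup_left.trans hp.1.2
  rcases (Ideal.IsPrime.mul_le hp.1.1).mp (le_sup_right.trans hp.1.2) with hfp | hIp
  · obtain ⟨P, hP, hPp⟩ := Ideal.exists_minimalPrimes_le hJp
    haveI := hP.1.1
    have hne : P ≠ p := by
      rintro rfl
      have hass := LiaisonH1.minimalPrimes_subset_associatedPrimes J hP
      obtain ⟨hpp, y, hy⟩ := isAssociatedPrime_iff.1 hass
      obtain ⟨y, rfl⟩ := Ideal.Quotient.mk_surjective y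
      have hf' := (hy ▸ hfp (Ideal.mem_span_singleton_self f) :
        f ∈ (⊥ : Submodule (MvPolynomial (Fin (n + 1)) K) (MvPolynomial (Fin (n + 1)) K ⧸ J)).colon
          {Ideal.Quotient.mk J y})
      rw [Submodule.mem_colon_singleton, Submodule.mem_bot] at hf'
      have hfy : f * y ∈ J := Ideal.Quotient.eq_zero_iff_mem.mp hf'
      have hyJ : y ∈ J := by
        rw [← hJf, Submodule.mem_colon_singleton]
        simpa [mul_comm] using hfy
      refine hpp.ne_top ((Ideal.eq_top_iff_one _).mpr (hy ▸ ?_))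
      rw [Submodule.mem_colon_singleton, Submodule.mem_bot, one_smul]
      exact Ideal.Quotient.eq_zero_iff_mem.mpr hyJ
    have h1 : P.height = h := by
      rw [LiaisonH1.height_eq_of_mem_associatedPrimes J hJ
        (LiaisonH1.minimalPrimes_subset_associatedPrimes J hP), hJh]
    exact h1 ▸ Order.add_one_le_of_lt (Ideal.height_strict_mono_of_isPrime (lt_of_le_of_ne hPp hne))
  · exact hIh ▸ Ideal.height_mono hIp

end Groth.Agent.S18870
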