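import Groth.Statements.S18871
import Groth.Agent.Lib.LiaisonH1.Unmixed
import Groth.Agent.Lib.CDivLib.Alg
import Mathlib.RingTheory.Regular.RegularSequence

set_option autoImplicit false
universe u
open Liaison

namespace Groth.Agent.S18871

open IsLocalRing Pointwise

variable {S : Type u} [CommRing S]

lemma mem_colon_mk (J : Ideal S) (a z : S) :
    a ∈ (⊥ : Submodule S (S ⧸ J)).colon {Ideal.Quotient.mk J z} ↔ a * z ∈ J := by
  rw [Submodule.mem_colon_singleton, Submodule.mem_bot]
  exact Ideal.Quotient.eq_zero_iff_mem (a := a * z)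

lemma ass_iff [IsNoetherianRing S] (J p : Ideal S) :
    p ∈ associatedPrimes S (S ⧸ J) ↔ p.IsPrime ∧ ∃ x, ∀ a, a ∈ p ↔ a * x ∈ J := by
  constructor
  · intro h
    obtain ⟨hp, y, hy⟩ := isAssociatedPrime_iff.1 h
    obtain ⟨x, rfl⟩ := Ideal.Quotient.mk_surjective y
    exact ⟨hp, x, fun a => by rw [hy, mem_colon_mk]⟩
  · rintro ⟨hp, x, hx⟩
    exact isAssociatedPrime_iff.2 ⟨hp, Ideal.Quotient.mk J x, SetLike.ext fun a => by
      rw [mem_colon_mk, hx]⟩

/-- A prime associated to `S/(J+(f))` has height one in `S/J`. -/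
lemma dim_one [IsNoetherianRing S] (J : Ideal S) [LocCoh.IsCohenMacaulayRing (S ⧸ J)] {f x : S}
    (hf : ∀ a, f * a ∈ J → a ∈ J) (p : Ideal S) [p.IsPrime] [(p.map (Ideal.Quotient.mk J)).IsPrime]
    (hp : ∀ a, a ∈ p ↔ a * x ∈ J ⊔ Ideal.span {f}) :
    ringKrullDim (Localization.AtPrime (p.map (Ideal.Quotient.mk J))) = 1 := by
  let π := Ideal.Quotient.mk J
  let q := p.map π
  have hJp : J ≤ p := fun a ha => (hp a).mpr (Ideal.mem_sup_left (J.mul_mem_right _ ha))
  have hqmem : ∀ a, π a ∈ q ↔ a ∈ p := fun a => Ideal.mem_quotient_iff_mem hJp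
  have hfp : f ∈ p := (hp f).mpr (Ideal.mem_sup_right (Ideal.mem_span_singleton'.mpr ⟨x, mul_comm x f⟩))
  suffices H : ∀ (A : Type u) [CommRing A] [LocCoh.IsCohenMacaulayLocalRing A] [Algebra (S ⧸ J) A]
      [IsLocalization.AtPrime A q], ringKrullDim A = 1 by
    haveI := LocCoh.IsCohenMacaulayRing.isCohenMacaulayLocalRing_localization q
    exact H _
  intro A _ _ _ _
  set b := algebraMap (S ⧸ J) A (π f) with hb
  have hbm : b ∈ maximalIdeal A :=
    (IsLocalization.AtPrime.to_map_mem_maximal_iff A q _).2 ((hqmem f).mpr hfp)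
  have hreg0 : IsSMulRegular (S ⧸ J) (π f) := by
    intro u v huv
    obtain ⟨u, rfl⟩ := Ideal.Quotient.mk_surjective u
    obtain ⟨v, rfl⟩ := Ideal.Quotient.mk_surjective v
    simp only [smul_eq_mul, π, ← map_mul, Ideal.Quotient.eq] at huv ⊢
    exact hf _ (by rwa [mul_sub])
  have hreg : IsSMulRegular A b := by
    intro u v huv
    obtain ⟨u, s, rfl⟩ := IsLocalization.exists_mk'_eq q.primeCompl u
    obtain ⟨v, t, rfl⟩ := IsLocalization.exists_mk'_eq q.primeCompl v
    simp only [smul_eq_mul, hb, IsLocalization.mul_mk'_eq_mk'_of_mul, IsLocalization.mk'_eq_iff_eq,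
      IsLocalization.eq_iff_exists q.primeCompl A] at huv ⊢
    obtain ⟨c, hc⟩ := huv
    exact ⟨c, hreg0 (by simp only [smul_eq_mul]; linear_combination hc)⟩
  have hass : maximalIdeal A ∈ associatedPrimes A (QuotSMulTop b A) := by
    refine isAssociatedPrime_iff.2 ⟨(maximalIdeal.isMaximal A).isPrime,
      Submodule.Quotient.mk (algebraMap (S ⧸ J) A (π x)), ?_⟩
    have hmem : ∀ {w : A}, w ∈ (⊥ : Submodule A (QuotSMulTop b A)).colon
        {(Submodule.Quotient.mk (algebraMap (S ⧸ J) A (π x)) : QuotSMulTop b A)} ↔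
        ∃ y, b * y = w * algebraMap (S ⧸ J) A (π x) := by
      intro w
      rw [Submodule.mem_colon_singleton, Submodule.mem_bot, ← Submodule.Quotient.mk_smul,
        Submodule.Quotient.mk_eq_zero, Submodule.mem_smul_pointwise_iff_exists]
      simp
    refine le_antisymm (fun w hw => ?_) (fun w hw => ?_)
    · rw [hmem]
      obtain ⟨r, s, rfl⟩ := IsLocalization.exists_mk'_eq q.primeCompl w
      obtain ⟨r, rfl⟩ := Ideal.Quotient.mk_surjective r
      have hr := (hp r).mp ((hqmem r).mp ((IsLocalization.AtPrime.mk'_mem_maximal_iff A q _ s).1 hw))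
      obtain ⟨j, hj, z, hz, e⟩ := Submodule.mem_sup.mp hr
      obtain ⟨y, rfl⟩ := Ideal.mem_span_singleton'.mp hz
      refine ⟨IsLocalization.mk' A (π y) s, ?_⟩
      rw [hb, IsLocalization.mul_mk'_eq_mk'_of_mul, mul_comm (IsLocalization.mk' A (π r) s),
        IsLocalization.mul_mk'_eq_mk'_of_mul]
      congr 1
      rw [← map_mul, ← map_mul, mul_comm x r, ← e, map_add, show π j = 0 from
        Ideal.Quotient.eq_zero_iff_mem.mpr hj, zero_add, mul_comm]
    · by_contra hw'
      obtain ⟨y, hy⟩ := hmem.mp hw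
      have hu : IsUnit w := by
        by_contra h
        exact hw' ((IsLocalRing.mem_maximalIdeal w).2 h)
      obtain ⟨w', hw'⟩ := hu.exists_left_inv
      have hy' : b * (w' * y) = algebraMap (S ⧸ J) A (π x) := by
        rw [mul_left_comm, hy, ← mul_assoc, hw', one_mul]
      obtain ⟨y', s, hys⟩ := IsLocalization.exists_mk'_eq q.primeCompl (w' * y)
      rw [← hys, hb, IsLocalization.mul_mk'_eq_mk'_of_mul, IsLocalization.mk'_eq_iff_eq_mul,
        ← map_mul, IsLocalization.eq_iff_exists q.primeCompl] at hy'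
      obtain ⟨⟨c, hc⟩, hcy⟩ := hy'
      obtain ⟨s, hs⟩ := s
      obtain ⟨c, rfl⟩ := Ideal.Quotient.mk_surjective c
      obtain ⟨s, rfl⟩ := Ideal.Quotient.mk_surjective s
      obtain ⟨y', rfl⟩ := Ideal.Quotient.mk_surjective y'
      simp only [π, ← map_mul, Ideal.Quotient.eq] at hcy
      have hcs : c * s ∈ p := (hp _).mpr (by
        rw [show c * s * x = -(c * (f * y') - c * (x * s)) + c * y' * f by ring]
        exact Submodule.add_mem_sup (J.neg_mem hcy) (Ideal.mem_span_singleton'.mpr ⟨c * y', rfl⟩))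
      rcases Ideal.IsPrime.mem_or_mem ‹_› hcs with h | h
      · exact hc ((hqmem c).mpr h)
      · exact hs ((hqmem s).mpr h)
  have hd := CDivLib.depth_eq_one_of_mem_associatedPrimes hbm hreg hass
  have h1 := LocCoh.IsCohenMacaulayLocalRing.supportDim_eq_depth (R := A)
  rw [Module.supportDim_self_eq_ringKrullDim, hd] at h1
  simpa using h1



/-- Let K be a field, R = K[x_0, …, x_n] graded by degree, and J ⊆ I ⊂ R homogeneous ideals with J ≠ 0,
height I = height J + 1 = h + 1 and R/J Cohen–Macaulay; let f ∈ R be homogeneous of degree d with J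
: f = J, and put Ĩ = J + fI (the basic double link). Then I is unmixed, meaning that every
associated prime of R/I has height h + 1, if and only if Ĩ is unmixed in the same sense. -/
theorem result (K : Type u) [Field K] (n h : ℕ)
    (J I : Ideal (MvPolynomial (Fin (n + 1)) K))
    (hJ : J.IsHomogeneous (GrSyz.stdGr K (Fin (n + 1)))) (hI : I.IsHomogeneous (GrSyz.stdGr K (Fin (n + 1))))
    (hJ0 : J ≠ ⊥) (hJI : J ≤ I) (hJh : J.height = h) (hIh : I.height = h + 1)
    [LocCoh.IsCohenMacaulayRing (MvPolynomial (Fin (n + 1)) K ⧸ J)]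
    (f : MvPolynomial (Fin (n + 1)) K) (d : ℕ) (hf : f ∈ GrSyz.stdGr K (Fin (n + 1)) (d : ℤ)) (hJf : J.colon {f} = J) :
    (∀ p ∈ associatedPrimes (MvPolynomial (Fin (n + 1)) K) (MvPolynomial (Fin (n + 1)) K ⧸ I), p.height = h + 1) ↔
      ∀ p ∈ associatedPrimes (MvPolynomial (Fin (n + 1)) K) (MvPolynomial (Fin (n + 1)) K ⧸ (J ⊔ Ideal.span {f} * I)), p.height = h + 1 := by
  have hf' : ∀ a, f * a ∈ J → a ∈ J := fun a ha => by
    rw [← hJf, Submodule.mem_colon_singleton]
    simpa [mul_comm] using ha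
  set I' := J ⊔ Ideal.span {f} * I with hI'
  have key : ∀ y a, a * (f * y) ∈ I' ↔ a * y ∈ I := fun y a => by
    constructor
    · intro h
      obtain ⟨j, hj, z, hz, e⟩ := Submodule.mem_sup.mp h
      obtain ⟨i, hi, rfl⟩ := Ideal.mem_span_singleton_mul.mp hz
      have : a * y - i ∈ J := hf' _ (by rw [show f * (a * y - i) = j by linear_combination -e]; exact hj)
      simpa using I.add_mem (hJI this) hi
    · intro h
      exact Ideal.mem_sup_right (Ideal.mem_span_singleton_mul.mpr ⟨a * y, h, by ring⟩)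
  constructor
  · intro hI p hp
    obtain ⟨hpp, x, hx⟩ := (ass_iff _ _).mp hp
    haveI := hpp
    by_cases hcase : ∃ r, r * x ∈ J ⊔ Ideal.span {f} ∧ r * x ∉ I'
    · obtain ⟨r, hr, hr'⟩ := hcase
      obtain ⟨j, hj, z, hz, e⟩ := Submodule.mem_sup.mp hr
      obtain ⟨y, rfl⟩ := Ideal.mem_span_singleton'.mp hz
      refine hI p ((ass_iff _ _).mpr ⟨hpp, y, fun a => ?_⟩)
      rw [← key y a]
      have h1 : a * (f * y) = (a * r) * x - a * j := by linear_combination a * e
      have h2 : a * j ∈ I' := Ideal.mem_sup_left (J.mul_mem_left a hj)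
      rw [h1, Submodule.sub_mem_iff_left I' h2, ← hx]
      refine ⟨fun h => p.mul_mem_right r h, fun h => (hpp.mem_or_mem h).resolve_right fun h' => hr' ?_⟩
      exact (hx r).mp h'
    · push Not at hcase
      have hpx : ∀ a, a ∈ p ↔ a * x ∈ J ⊔ Ideal.span {f} := fun a =>
        ⟨fun h => (sup_le_sup_left Ideal.mul_le_left J) ((hx a).mp h),
          fun h => (hx a).mpr (hcase a h)⟩
      have hJp : J ≤ p := fun a ha => (hpx a).mpr (Ideal.mem_sup_left (J.mul_mem_right _ ha))
      obtain ⟨P, hP, hPp⟩ := Ideal.exists_minimalPrimes_le hJp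
      haveI : (p.map (Ideal.Quotient.mk J)).IsPrime :=
        Ideal.map_isPrime_of_surjective Ideal.Quotient.mk_surjective (by rwa [Ideal.mk_ker])
      have hPh : P.height = h := by
        rw [LiaisonH1.height_eq_of_mem_associatedPrimes J hJ
          (LiaisonH1.minimalPrimes_subset_associatedPrimes J hP), hJh]
      have h1 := LiaisonH1.dim_atPrime J hP p hPp
      rw [dim_one J hf' p hpx, IsLocalization.AtPrime.ringKrullDim_eq_height p
        (Localization.AtPrime p), hPh, ← WithBot.coe_one, ← WithBot.coe_add, WithBot.coe_inj] at h1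

      exact h1.trans (add_comm _ _)
  · intro hI p hp
    obtain ⟨hpp, y, hy⟩ := (ass_iff _ _).mp hp
    exact hI p ((ass_iff _ _).mpr ⟨hpp, f * y, fun a => by rw [key y a, hy]⟩)

end Groth.Agent.S18871
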