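import Groth.Statements.S18872
import Groth.Agent.Lib.LiaisonH1.Vanish

set_option autoImplicit false
universe u
open Liaison

namespace Groth.Agent.S18872

lemma nonempty_equiv {R : Type u} [CommRing R] [IsNoetherianRing R] (m J I : Ideal R) (f : R)
    (hJI : J ≤ I) (hf : ∀ a, f * a ∈ J → a ∈ J) (i : ℕ)
    (hv : ∀ j ≤ i + 1, Subsingleton (LocCoh.H m j (R ⧸ J))) :
    Nonempty (LocCoh.H m i (R ⧸ (J ⊔ Ideal.span {f} * I)) ≃ₗ[R] LocCoh.H m i (R ⧸ I)) := by
  open Groth.Agent.LocCohLib in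
  have hK : J ⊔ Ideal.span {f} * I ≤ J ⊔ Ideal.span {f} := sup_le_sup_left Ideal.mul_le_left _
  let a : R ⧸ J →ₗ[R] R ⧸ J := LinearMap.lsmul R (R ⧸ J) f
  let b : R ⧸ J →ₗ[R] R ⧸ (J ⊔ Ideal.span {f}) :=
    Submodule.mapQ J (J ⊔ Ideal.span {f}) LinearMap.id (fun x hx => Ideal.mem_sup_left hx)
  have ha : Function.Injective a := by
    rw [injective_iff_map_eq_zero]
    intro x hx
    obtain ⟨x, rfl⟩ := Submodule.Quotient.mk_surjective J x
    exact (Submodule.Quotient.mk_eq_zero J).2 (hf x ((Submodule.Quotient.mk_eq_zero J).1 hx))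
  have hb : Function.Surjective b := fun x => by
    obtain ⟨x, rfl⟩ := Submodule.Quotient.mk_surjective _ x
    exact ⟨Submodule.Quotient.mk x, rfl⟩
  have hab : Function.Exact a b := by
    intro x
    obtain ⟨x, rfl⟩ := Submodule.Quotient.mk_surjective J x
    refine ⟨fun hx => ?_, ?_⟩
    · obtain ⟨j, hj, w, hw, hjw⟩ := Submodule.mem_sup.1 ((Submodule.Quotient.mk_eq_zero _).1 hx)
      obtain ⟨c, rfl⟩ := Ideal.mem_span_singleton'.1 hw
      refine ⟨Submodule.Quotient.mk c, (Submodule.Quotient.eq J).2 ?_⟩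
      have h2 : j + c * f = x := hjw
      show f • c - x ∈ J
      rw [← h2, smul_eq_mul, show f * c - (j + c * f) = -j by ring]
      exact neg_mem hj
    · rintro ⟨y, hy⟩
      obtain ⟨y, rfl⟩ := Submodule.Quotient.mk_surjective J y
      rw [← hy]
      exact (Submodule.Quotient.mk_eq_zero _).2
        (Ideal.mem_sup_right (Ideal.mem_span_singleton'.2 ⟨y, mul_comm y f⟩))
  have hC : ∀ j ≤ i, Subsingleton (LocCoh.H m j (R ⧸ (J ⊔ Ideal.span {f}))) := fun j hj =>
    Groth.Agent.LocCohLib.subsingleton_right m ha hb hab j (hv j (by omega)) (hv (j + 1) (by omega))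
  let g : R ⧸ I →ₗ[R] R ⧸ (J ⊔ Ideal.span {f} * I) :=
    Submodule.mapQ I (J ⊔ Ideal.span {f} * I) (LinearMap.lsmul R R f) (fun x hx =>
      Ideal.mem_sup_right (Ideal.mul_mem_mul (Ideal.mem_span_singleton_self f) hx))
  let c : R ⧸ (J ⊔ Ideal.span {f} * I) →ₗ[R] R ⧸ (J ⊔ Ideal.span {f}) :=
    Submodule.mapQ _ _ LinearMap.id (fun x hx => hK hx)
  have hg : Function.Injective g := by
    rw [injective_iff_map_eq_zero]
    intro x hx
    obtain ⟨x, rfl⟩ := Submodule.Quotient.mk_surjective I x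
    obtain ⟨j, hj, w, hw, hjw⟩ := Submodule.mem_sup.1 ((Submodule.Quotient.mk_eq_zero _).1 hx)
    obtain ⟨y, hy, rfl⟩ := Ideal.mem_span_singleton_mul.1 hw
    refine (Submodule.Quotient.mk_eq_zero I).2 ?_
    have h1 : f * (x - y) ∈ J := by
      rw [LinearMap.lsmul_apply, smul_eq_mul] at hjw
      rw [mul_sub, ← hjw, add_sub_cancel_right]
      exact hj
    simpa using I.add_mem (hJI (hf _ h1)) hy
  have hc : Function.Surjective c := fun x => by
    obtain ⟨x, rfl⟩ := Submodule.Quotient.mk_surjective _ x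
    exact ⟨Submodule.Quotient.mk x, rfl⟩
  have hgc : Function.Exact g c := by
    intro x
    obtain ⟨x, rfl⟩ := Submodule.Quotient.mk_surjective _ x
    refine ⟨fun hx => ?_, ?_⟩
    · obtain ⟨j, hj, w, hw, hjw⟩ := Submodule.mem_sup.1 ((Submodule.Quotient.mk_eq_zero _).1 hx)
      obtain ⟨z, rfl⟩ := Ideal.mem_span_singleton'.1 hw
      refine ⟨Submodule.Quotient.mk z, (Submodule.Quotient.eq _).2 (Ideal.mem_sup_left ?_)⟩
      have h1 : f * z - x = -j := by
        have : j + z * f = x := hjw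
        rw [← this]; ring
      rw [LinearMap.lsmul_apply, smul_eq_mul, h1]
      exact neg_mem hj
    · rintro ⟨y, hy⟩
      obtain ⟨y, rfl⟩ := Submodule.Quotient.mk_surjective I y
      rw [← hy]
      exact (Submodule.Quotient.mk_eq_zero _).2
        (Ideal.mem_sup_right (Ideal.mem_span_singleton'.2 ⟨y, mul_comm y f⟩))
  refine ⟨(LinearEquiv.ofBijective (Groth.Agent.LocCohLib.hmap m i g) ⟨?_, ?_⟩).symm⟩
  · cases i with
    | zero =>
      exact Groth.Agent.LocCohLib.injective_map_f_zero m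
        (shortExact_mk g c hg hc hgc)
    | succ k => exact Groth.Agent.LocCohLib.hmap_f_injective m hg hc hgc k (hC k (by omega))
  · exact Groth.Agent.LocCohLib.hmap_f_surjective m hg hc hgc i (hC i le_rfl)


/-- Let K be a field, R = K[x_0, …, x_n] graded by degree, and J ⊆ I ⊂ R homogeneous ideals with J ≠ 0,
height I = height J + 1 = h + 1 and R/J Cohen–Macaulay; let f ∈ R be homogeneous of degree d with J
: f = J, and put Ĩ = J + fI (the basic double link). Then for every i < n − h = dim R/I the local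
cohomology modules of R/Ĩ and of R/I with support in the irrelevant ideal 𝔪 = (x_0, …, x_n) are
isomorphic in degree i. (The graded statement is H^i_𝔪(R/Ĩ) ≅ H^i_𝔪(R/I)(−d); here only the
existence of an R-linear isomorphism of the underlying modules is asserted, the grading and the
shift by d being dropped.) -/
theorem result (K : Type u) [Field K] (n h : ℕ)
    (J I : Ideal (MvPolynomial (Fin (n + 1)) K))
    (hJ : J.IsHomogeneous (GrSyz.stdGr K (Fin (n + 1)))) (hI : I.IsHomogeneous (GrSyz.stdGr K (Fin (n + 1))))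
    (hJ0 : J ≠ ⊥) (hJI : J ≤ I) (hJh : J.height = h) (hIh : I.height = h + 1)
    [LocCoh.IsCohenMacaulayRing (MvPolynomial (Fin (n + 1)) K ⧸ J)]
    (f : MvPolynomial (Fin (n + 1)) K) (d : ℕ) (hf : f ∈ GrSyz.stdGr K (Fin (n + 1)) (d : ℤ)) (hJf : J.colon {f} = J) (i : ℕ) (hi : i + h < n) :
    Nonempty (LocCoh.H (GrSyz.irrel (GrSyz.stdGr K (Fin (n + 1)))).toIdeal i (MvPolynomial (Fin (n + 1)) K ⧸ (J ⊔ Ideal.span {f} * I)) ≃ₗ[MvPolynomial (Fin (n + 1)) K]
      LocCoh.H (GrSyz.irrel (GrSyz.stdGr K (Fin (n + 1)))).toIdeal i (MvPolynomial (Fin (n + 1)) K ⧸ I)) := by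
  refine nonempty_equiv _ J I f hJI (fun a ha => ?_) i (fun j hj => ?_)
  · rw [← hJf, Submodule.mem_colon_singleton]
    simpa [mul_comm] using ha
  · refine LiaisonH1.subsingleton_H J hJ j ?_
    rw [hJh]
    exact_mod_cast (show j + h < n + 1 by omega)

end Groth.Agent.S18872
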