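import Groth.Statements.S18873
import Groth.Agent.Lib.LiaisonH1.Assoc
import Groth.Agent.Lib.CanonMod.Elem

set_option autoImplicit false
universe u
open Liaison

namespace Groth.Agent.S18873

theorem dim_quot_le {K : Type u} [Field K] {n c : ℕ} {𝔠 : Ideal (MvPolynomial (Fin (n + 1)) K)} (hcn : c ≤ n)
    (h𝔠c : 𝔠.height = c) :
    ringKrullDim (MvPolynomial (Fin (n + 1)) K ⧸ 𝔠) ≤ ((n - c + 1 : ℕ) : WithBot ℕ∞) := by
  rw [ringKrullDim_quotient, Order.krullDim]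
  refine iSup_le fun l => ?_
  have h1 := Groth.Agent.CanonModLib.length_le_coheight_head l
  have h2 := Groth.Agent.VarDim.height_add_coheight_mvPolynomial K (n + 1) l.head.1
  have h3 : (c : ℕ∞) ≤ Order.height l.head.1 := by
    rw [← h𝔠c, ← PrimeSpectrum.height_eq_orderHeight]
    exact Ideal.height_mono l.head.2
  have h4 : ((c + l.length : ℕ) : ℕ∞) ≤ ((n + 1 : ℕ) : ℕ∞) := by
    rw [← h2, Nat.cast_add]; exact add_le_add h3 h1
  norm_cast at h4 ⊢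
  omega



/-- Let K be a field, R = K[x_0, …, x_n] graded by degree, 2 ≤ c ≤ n, 𝔠 ⊂ R a homogeneous ideal of
height c such that R/𝔠 is a Gorenstein ring, I ⊂ R a homogeneous ideal of height c containing 𝔠, and
J = 𝔠 : I. Write h_𝔞(j) = dim_K [R/𝔞]_j for the Hilbert function of R/𝔞. If p_𝔠, p_I, p_J ∈ ℚ[t] are
polynomials agreeing with h_𝔠, h_I, h_J in all sufficiently large degrees (Hilbert polynomials; R/𝔠
and R/I have dimension n + 1 − c ≥ 1, and so has R/J unless I = 𝔠, when J = R and p_J = 0), then the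
coefficients of t^(n−c) satisfy p_J = p_𝔠 − p_I in that degree; multiplying by (n − c)! this says
deg J = deg 𝔠 − deg I. -/
theorem result (K : Type u) [Field K] (n c : ℕ) (hc : 2 ≤ c) (hcn : c ≤ n)
    (𝔠 I : Ideal (MvPolynomial (Fin (n + 1)) K))
    (h𝔠 : 𝔠.IsHomogeneous (GrSyz.stdGr K (Fin (n + 1)))) (hI : I.IsHomogeneous (GrSyz.stdGr K (Fin (n + 1))))
    [LocCoh.IsGorensteinRing (MvPolynomial (Fin (n + 1)) K ⧸ 𝔠)] (h𝔠c : 𝔠.height = c) (hIc : I.height = c) (h𝔠I : 𝔠 ≤ I)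
    (p𝔠 pI pJ : Polynomial ℚ)
    (hp𝔠 : ∃ j₀ : ℕ, ∀ j : ℕ, j₀ ≤ j → (Module.finrank K ↥(Submodule.map (Ideal.Quotient.mkₐ K (𝔠)).toLinearMap (GrSyz.stdGr K (Fin (n + 1)) (j : ℤ))) : ℚ) = p𝔠.eval (j : ℚ))
    (hpI : ∃ j₀ : ℕ, ∀ j : ℕ, j₀ ≤ j → (Module.finrank K ↥(Submodule.map (Ideal.Quotient.mkₐ K (I)).toLinearMap (GrSyz.stdGr K (Fin (n + 1)) (j : ℤ))) : ℚ) = pI.eval (j : ℚ))
    (hpJ : ∃ j₀ : ℕ, ∀ j : ℕ, j₀ ≤ j → (Module.finrank K ↥(Submodule.map (Ideal.Quotient.mkₐ K (𝔠.colon (I : Set (MvPolynomial (Fin (n + 1)) K)))).toLinearMap (GrSyz.stdGr K (Fin (n + 1)) (j : ℤ))) : ℚ) = pJ.eval (j : ℚ)) :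
    pJ.coeff (n - c) = p𝔠.coeff (n - c) - pI.coeff (n - c) := by
  exact Groth.Agent.LiaisonH1.coeff_colon_eq_sub (n - c) 𝔠 I h𝔠 hI (dim_quot_le hcn h𝔠c) h𝔠I
    p𝔠 pI pJ hp𝔠 hpI hpJ

end Groth.Agent.S18873
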