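import Groth.Statements.S18874
import Groth.Agent.S2074
import Groth.Agent.Lib.LimH13.NhdLimit
import Groth.Agent.Lib.FpqcDesc.Basic
import Groth.Agent.Lib.CplLocH7.Basic

set_option autoImplicit false
universe u
open Lim

namespace Groth.Agent.S18874

set_option backward.isDefEq.respectTransparency false
set_option backward.isDefEq.respectTransparency.types false
set_option linter.style.haveILetI false


open CategoryTheory AlgebraicGeometry in
/-- Let S be a quasi-compact scheme whose affine opens have excellent coordinate rings, let X → S and Y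
→ S be quasi-compact, quasi-separated and locally of finite presentation, let f : X → Y be a
morphism over S, let s be a closed point of S and R the completion of the local ring of S at s. If
the base change X ×_S Spec R → Y ×_S Spec R of f is proper, then s has an open neighbourhood W in S
such that X ×_S W → Y ×_S W is proper. (The published statement assumes X and Y only locally of
finite presentation over S; for S the affine line over a field, s the origin, Y = S and X the
disjoint union of S with one reduced point over each closed point other than s, the base change to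
Spec R is an isomorphism while X ×_S W → W is not quasi-compact for any open W ∋ s, so X and Y are
taken of finite presentation over S here, which is what the limit argument of the published proof
uses.) -/
theorem result
    (S : Scheme.{u}) [CompactSpace S] (hS : ∀ U : S.affineOpens, EGA4.IsExcellent Γ(S, U.1))
    {X Y : Scheme.{u}} (f : X ⟶ Y) (g : Y ⟶ S)
    [QuasiCompact g] [QuasiSeparated g] [LocallyOfFinitePresentation g]
    [QuasiCompact (f ≫ g)] [QuasiSeparated (f ≫ g)] [LocallyOfFinitePresentation (f ≫ g)]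
    (s : S) (hs : IsClosed ({s} : Set S))
    (hR : IsProper (Limits.pullback.snd f (Limits.pullback.fst g
      (Spec.map (CommRingCat.ofHom (algebraMap (S.presheaf.stalk s) (EGA4.Cpl (S.presheaf.stalk s)))) ≫
        S.fromSpecStalk s)))) :
    ∃ W : S.Opens, s ∈ W ∧ IsProper (f ∣_ (g ⁻¹ᵁ W)) := by

  classical
  haveI : IsLocallyNoetherian S := ⟨fun U => (hS U).1⟩
  let σ := S.fromSpecStalk s
  let u := Spec.map (CommRingCat.ofHom (algebraMap (S.presheaf.stalk s) (EGA4.Cpl (S.presheaf.stalk s))))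
  haveI : IsNoetherianRing (S.presheaf.stalk s) := inferInstance
  haveI : Module.FaithfullyFlat (S.presheaf.stalk s) (EGA4.Cpl (S.presheaf.stalk s)) :=
    CplLocH7.faithfullyFlat_cpl _
  haveI : Flat u := by
    rw [Flat.SpecMap_iff]
    exact RingHom.flat_algebraMap_iff.2 inferInstance
  haveI : Surjective u := ⟨PrimeSpectrum.comap_surjective_of_faithfullyFlat
    (A := S.presheaf.stalk s) (B := EGA4.Cpl (S.presheaf.stalk s))⟩
  -- properness over the local ring
  have hfp : IsProper (Limits.pullback.snd f (Limits.pullback.fst g σ)) := by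
    let m : Limits.pullback g (u ≫ σ) ⟶ Limits.pullback g σ :=
      Limits.pullback.lift (Limits.pullback.fst _ _) (Limits.pullback.snd _ _ ≫ u)
        (by rw [Category.assoc]; exact Limits.pullback.condition)
    have hm : IsPullback m (Limits.pullback.snd g (u ≫ σ)) (Limits.pullback.snd g σ) u := by
      refine IsPullback.of_right ?_ (Limits.pullback.lift_snd _ _ _) (IsPullback.of_hasPullback g σ)
      rw [Limits.pullback.lift_fst]
      exact IsPullback.of_hasPullback g (u ≫ σ)
    haveI : Surjective m := MorphismProperty.of_isPullback hm.flip ‹Surjective u›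
    haveI : Flat m := MorphismProperty.of_isPullback hm.flip ‹Flat u›
    haveI : QuasiCompact m := MorphismProperty.of_isPullback hm.flip inferInstance
    haveI hgc : (@Surjective ⊓ @Flat ⊓ @QuasiCompact : MorphismProperty Scheme.{u}) m := ⟨⟨‹_›, ‹_›⟩, ‹_›⟩
    have := Groth.Agent.FpqcDesc.descendsAlong_isProper.{u}
    refine MorphismProperty.of_pullback_snd_of_descendsAlong (P := @IsProper)
      (Q := (@Surjective ⊓ @Flat ⊓ @QuasiCompact : MorphismProperty Scheme.{u}))
      (f := Limits.pullback.snd f (Limits.pullback.fst g σ)) (g := m) hgc ?_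
    have h1 := (IsPullback.of_hasPullback (Limits.pullback.snd f (Limits.pullback.fst g σ)) m).paste_horiz
      (IsPullback.of_hasPullback f (Limits.pullback.fst g σ))
    rw [Limits.pullback.lift_fst] at h1
    rw [← h1.isoPullback_hom_snd, MorphismProperty.cancel_left_of_respectsIso @IsProper]
    exact hR
  -- the system of neighbourhoods
  obtain ⟨V, hV, hsV, -⟩ := exists_isAffineOpen_mem_and_subset (x := s) (U := ⊤) trivial
  let V' : S.affineOpens := ⟨V, hV⟩
  haveI := LimH13.Nhd.isDirected s V'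
  haveI : Nonempty (LimH13.Nhd.Idx s V') :=
    ⟨⟨1, by rw [Scheme.basicOpen_of_isUnit _ isUnit_one]; exact hsV⟩⟩
  haveI : IsFiltered (LimH13.Nhd.Idx s V') := isFiltered_of_directed_le_nonempty _
  haveI : ∀ (i j : (LimH13.Nhd.Idx s V')ᵒᵖ) (a : i ⟶ j), IsAffineHom ((LimH13.Nhd.diag s V').map a) :=
    fun _ _ a => LimH13.Nhd.isAffineHom_map s V' a
  let i₀ : (LimH13.Nhd.Idx s V')ᵒᵖ := Opposite.op (Classical.arbitrary _)
  let W₀ : S.Opens := S.basicOpen i₀.unop.1
  haveI hW₀ : IsAffine W₀.toScheme := hV.basicOpen _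
  haveI : CompactSpace ((LimH13.Nhd.diag s V').obj i₀) := inferInstanceAs (CompactSpace W₀.toScheme)
  haveI : QuasiSeparatedSpace ((LimH13.Nhd.diag s V').obj i₀) :=
    inferInstanceAs (QuasiSeparatedSpace W₀.toScheme)
  let g₀ : (g ⁻¹ᵁ W₀).toScheme ⟶ (LimH13.Nhd.diag s V').obj i₀ := g ∣_ W₀
  let f₀ := f ∣_ (g ⁻¹ᵁ W₀)
  have hYc : CompactSpace (g ⁻¹ᵁ W₀).toScheme := by
    haveI : QuasiCompact (g ∣_ W₀) := IsZariskiLocalAtTarget.restrict ‹_› _
    exact QuasiCompact.compactSpace_of_compactSpace (g ∣_ W₀)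
  have hYq : QuasiSeparatedSpace (g ⁻¹ᵁ W₀).toScheme := by
    haveI : QuasiSeparated (g ∣_ W₀) := IsZariskiLocalAtTarget.restrict ‹_› _
    exact quasiSeparatedSpace_of_quasiSeparated (g ∣_ W₀)
  have hXc : CompactSpace (f ⁻¹ᵁ g ⁻¹ᵁ W₀).toScheme := by
    haveI : QuasiCompact ((f ≫ g) ∣_ W₀) := IsZariskiLocalAtTarget.restrict ‹_› _
    exact QuasiCompact.compactSpace_of_compactSpace ((f ≫ g) ∣_ W₀)
  have hXq : QuasiSeparatedSpace (f ⁻¹ᵁ g ⁻¹ᵁ W₀).toScheme := by
    haveI : QuasiSeparated ((f ≫ g) ∣_ W₀) := IsZariskiLocalAtTarget.restrict ‹_› _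
    exact quasiSeparatedSpace_of_quasiSeparated ((f ≫ g) ∣_ W₀)
  haveI : LocallyOfFiniteType f := locallyOfFiniteType_of_comp f g
  haveI : LocallyOfFiniteType f₀ := IsZariskiLocalAtTarget.restrict ‹_› _
  let c := LimH13.Nhd.cone s V'
  have hπ : c.π.app i₀ ≫ W₀.ι = σ := Scheme.Opens.fromSpecStalkOfMem_ι _ _ _
  let qY : Limits.pullback g σ ⟶ (g ⁻¹ᵁ W₀).toScheme :=
    (isPullback_morphismRestrict g W₀).lift (Limits.pullback.snd g σ ≫ c.π.app i₀) (Limits.pullback.fst g σ)
      (by rw [Category.assoc, hπ, Limits.pullback.condition])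
  have hY : IsPullback qY (Limits.pullback.snd g σ) g₀ (c.π.app i₀) := by
    refine IsPullback.of_right (h₁₂ := (g ⁻¹ᵁ W₀).ι) (h₂₂ := W₀.ι) (v₁₃ := g) ?_
      ((isPullback_morphismRestrict g W₀).lift_fst _ _ _) (isPullback_morphismRestrict g W₀).flip
    rw [hπ, (isPullback_morphismRestrict g W₀).lift_snd]
    exact IsPullback.of_hasPullback g σ
  let qX : Limits.pullback f (Limits.pullback.fst g σ) ⟶ (f ⁻¹ᵁ g ⁻¹ᵁ W₀).toScheme :=
    (isPullback_morphismRestrict f (g ⁻¹ᵁ W₀)).lift (Limits.pullback.snd f (Limits.pullback.fst g σ) ≫ qY)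
      (Limits.pullback.fst f (Limits.pullback.fst g σ))
      (by rw [Category.assoc, (isPullback_morphismRestrict g W₀).lift_snd, Limits.pullback.condition])
  have hX : IsPullback qX (Limits.pullback.snd f (Limits.pullback.fst g σ)) f₀ qY := by
    refine IsPullback.of_right (h₁₂ := (f ⁻¹ᵁ g ⁻¹ᵁ W₀).ι) (h₂₂ := (g ⁻¹ᵁ W₀).ι) (v₁₃ := f) ?_
      ((isPullback_morphismRestrict f (g ⁻¹ᵁ W₀)).lift_fst _ _ _) (isPullback_morphismRestrict f (g ⁻¹ᵁ W₀)).flip
    rw [(isPullback_morphismRestrict f (g ⁻¹ᵁ W₀)).lift_snd, (isPullback_morphismRestrict g W₀).lift_snd]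
    exact IsPullback.of_hasPullback f (Limits.pullback.fst g σ)
  haveI := hfp
  obtain ⟨i, φ, Xi, Yi, fi, gi, pY, pX, hY', hX', hfi⟩ :=
    Groth.Agent.S2074.result (LimH13.Nhd.diag s V') c (LimH13.Nhd.isLimit s V' hsV) i₀ f₀ g₀
      (Limits.pullback.snd f (Limits.pullback.fst g σ)) (Limits.pullback.snd g σ) qY qX hY hX
  let W : S.Opens := S.basicOpen i.unop.1
  refine ⟨W, i.unop.2, ?_⟩
  have hle : W ≤ W₀ := (LimH13.Nhd.le_iff s V').1 φ.unop.le
  have hbig : IsPullback (pY ≫ (g ⁻¹ᵁ W₀).ι) gi g W.ι := by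
    have h1 := hY'.paste_horiz (isPullback_morphismRestrict g W₀).flip
    have e : (LimH13.Nhd.diag s V').map φ ≫ W₀.ι = W.ι := S.homOfLE_ι hle
    rwa [e] at h1
  have hfbig : IsPullback (pX ≫ (f ⁻¹ᵁ g ⁻¹ᵁ W₀).ι) fi f (pY ≫ (g ⁻¹ᵁ W₀).ι) :=
    hX'.paste_horiz (isPullback_morphismRestrict f (g ⁻¹ᵁ W₀)).flip
  let e := hbig.lift (g ⁻¹ᵁ W).ι (g ∣_ W) (isPullback_morphismRestrict g W).flip.w
  have hk : IsPullback (hfbig.lift (f ⁻¹ᵁ g ⁻¹ᵁ W).ι (f ∣_ (g ⁻¹ᵁ W) ≫ e)
      (by rw [Category.assoc, hbig.lift_fst]; exact (isPullback_morphismRestrict f (g ⁻¹ᵁ W)).flip.w))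
      (f ∣_ (g ⁻¹ᵁ W)) fi e := by
    refine IsPullback.of_right ?_ (hfbig.lift_snd _ _ _) hfbig
    rw [hfbig.lift_fst, hbig.lift_fst]
    exact (isPullback_morphismRestrict f (g ⁻¹ᵁ W)).flip
  exact MorphismProperty.of_isPullback hk hfi

end Groth.Agent.S18874
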