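import Groth.Statements.S18876
import Groth.Agent.Lib.GerbAbs16.Space

set_option autoImplicit false
universe u
open Gerb

namespace Groth.Agent.S18876
set_option linter.style.haveILetI false
set_option backward.isDefEq.respectTransparency false
set_option backward.isDefEq.respectTransparency.types false


open CategoryTheory AlgebraicGeometry in
/-- Let S be a scheme and F : 𝒳 → 𝒴 a morphism of algebraic stacks over S which makes 𝒳 an fppf gerbe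
over 𝒴 and through which every morphism from 𝒳 to an algebraic space factors, uniquely up to
2-isomorphism. Then 𝒴 admits a coarse moduli space exactly when 𝒳 does, and the two coarse moduli
spaces coincide: for every coarse moduli map π : 𝒴 → M the composite 𝒳 → 𝒴 → M is a coarse moduli
map of 𝒳. (The published statement is about the rigidification F of 𝒳 along a flat finitely
presented subgroup stack of its inertia; only two of its properties are assumed here, that F is a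
gerbe and that maps to algebraic spaces factor through F, which is what the published argument uses;
neither stack is assumed quasi-separated or locally of finite presentation over S, and their
diagonals are not assumed quasi-compact or separated.) -/
theorem result (S : Scheme.{u}) (𝒳 𝒴 : AlgSt.Cat S)
    (h𝒳 : AlgSt.IsAlgStack Scheme.fppfPrecoverage 𝒳) (h𝒴 : AlgSt.IsAlgStack Scheme.fppfPrecoverage 𝒴)
    (F : 𝒳 ⥤ᵇ 𝒴) (hF : Gerb.IsGerbeOver (QuotSh.J Scheme.fppfPrecoverage S) F)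
    (huniv : ∀ (N : AlgSp.Sp S), AlgSp.IsAlgSpace N → ∀ φ : 𝒳 ⥤ᵇ AlgSt.ofSp N,
      ∃ ψ : 𝒴 ⥤ᵇ AlgSt.ofSp N, Nonempty (BasedFunctor.comp F ψ ≅ φ) ∧
        ∀ ψ' : 𝒴 ⥤ᵇ AlgSt.ofSp N, Nonempty (BasedFunctor.comp F ψ' ≅ φ) → Nonempty (ψ' ≅ ψ)) :
    ((∃ (M : AlgSp.Sp S) (π : 𝒴 ⥤ᵇ AlgSt.ofSp M), AlgSt.IsCoarseModuli π) ↔
        ∃ (M : AlgSp.Sp S) (π : 𝒳 ⥤ᵇ AlgSt.ofSp M), AlgSt.IsCoarseModuli π) ∧
      ∀ (M : AlgSp.Sp S) (π : 𝒴 ⥤ᵇ AlgSt.ofSp M), AlgSt.IsCoarseModuli π →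
        AlgSt.IsCoarseModuli (BasedFunctor.comp F π) := by
  open Groth.Agent.GerbAbs in
  have main : ∀ (M : AlgSp.Sp S) (π : 𝒴 ⥤ᵇ AlgSt.ofSp M), AlgSt.IsCoarseModuli π →
      AlgSt.IsCoarseModuli (BasedFunctor.comp F π) := by
    rintro M π ⟨⟨hM, hcat⟩, hpt⟩
    refine ⟨⟨hM, fun N hN φ => ?_⟩, fun Ω _ _ t => ⟨fun m => ?_, fun x x' h => ?_⟩⟩
    · obtain ⟨ψ, ⟨i⟩, huni⟩ := huniv N hN φ
      obtain ⟨g, ⟨j⟩, hg⟩ := hcat N hN ψ
      refine ⟨g, ⟨Groth.Agent.FC16.wlIso F j ≪≫ i⟩, ?_⟩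
      rintro g' ⟨k⟩
      exact hg g' (huni _ ⟨k⟩)
    · obtain ⟨y, rfl⟩ := (hpt Ω t).1 m
      obtain ⟨x, ⟨e⟩⟩ := Groth.Agent.GerbAbs.exists_fibPush_iso h𝒴.1.1 hF y
      exact ⟨x, (Groth.Agent.GerbAbs.fibSec_comp F π x).trans (Groth.Agent.GerbAbs.fibSec_eq_of_hom π e.hom)⟩
    · obtain ⟨e⟩ := (hpt Ω t).2 (Groth.Agent.GerbAbs.fibPush F x) (Groth.Agent.GerbAbs.fibPush F x') h
      exact Groth.Agent.GerbAbs.iso_of_fibPush h𝒳.1.1 hF e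
  refine ⟨⟨fun ⟨M, π, h⟩ => ⟨M, _, main M π h⟩, ?_⟩, main⟩
  rintro ⟨M, π, ⟨hM, hcat⟩, hpt⟩
  obtain ⟨ψ, ⟨i⟩, -⟩ := huniv M hM π
  refine ⟨M, ψ, ⟨hM, fun N hN φ => ?_⟩, fun Ω _ _ t => ⟨fun m => ?_, fun y y' h => ?_⟩⟩
  · obtain ⟨g, ⟨j⟩, hg⟩ := hcat N hN (BasedFunctor.comp F φ)
    have wr : ∀ g : M ⟶ N, BasedFunctor.comp F (BasedFunctor.comp ψ (AlgSt.ofSpMap g)) ≅
        BasedFunctor.comp π (AlgSt.ofSpMap g) := fun g =>
      (Groth.Agent.FC16.postFun 𝒳 (AlgSt.ofSpMap g)).mapIso i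
    obtain ⟨ψ₀, -, huni⟩ := huniv N hN (BasedFunctor.comp F φ)
    obtain ⟨a⟩ := huni _ ⟨wr g ≪≫ j⟩
    obtain ⟨b⟩ := huni φ ⟨Iso.refl _⟩
    refine ⟨g, ⟨a ≪≫ b.symm⟩, ?_⟩
    rintro g' ⟨k⟩
    exact hg g' ⟨(wr g').symm ≪≫ Groth.Agent.FC16.wlIso F k⟩
  · obtain ⟨x, rfl⟩ := (hpt Ω t).1 m
    exact ⟨Groth.Agent.GerbAbs.fibPush F x, (Groth.Agent.GerbAbs.fibSec_comp F ψ x).symm.trans (Groth.Agent.GerbAbs.fibSec_eq_of_iso i x)⟩
  · obtain ⟨x, ⟨e⟩⟩ := Groth.Agent.GerbAbs.exists_fibPush_iso h𝒴.1.1 hF y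
    obtain ⟨x', ⟨e'⟩⟩ := Groth.Agent.GerbAbs.exists_fibPush_iso h𝒴.1.1 hF y'
    have hxy : AlgSt.fibSec π x = AlgSt.fibSec ψ y :=
      (Groth.Agent.GerbAbs.fibSec_eq_of_iso i x).symm.trans
        ((Groth.Agent.GerbAbs.fibSec_comp F ψ x).trans (Groth.Agent.GerbAbs.fibSec_eq_of_hom ψ e.hom))
    have hxy' : AlgSt.fibSec π x' = AlgSt.fibSec ψ y' :=
      (Groth.Agent.GerbAbs.fibSec_eq_of_iso i x').symm.trans
        ((Groth.Agent.GerbAbs.fibSec_comp F ψ x').trans (Groth.Agent.GerbAbs.fibSec_eq_of_hom ψ e'.hom))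
    obtain ⟨k⟩ := (hpt Ω t).2 x x' (hxy.trans (h.trans hxy'.symm))
    haveI := k.hom.2
    refine ⟨e.symm ≪≫ ?_ ≪≫ e'⟩
    exact Groth.Agent.FC16.fiberIso (p := 𝒴.p) (F.toFunctor.mapIso (Functor.Fiber.fiberInclusion.mapIso k))
      (BasedFunctor.preserves_isHomLift F _ k.hom.1)

end Groth.Agent.S18876
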