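import Groth.Statements.S18877
import Groth.Agent.Lib.GeomSpread4.Count
import Groth.Agent.Lib.LimH13.Top
import Groth.Agent.Lib.LimH13.ArrowModel
-- import your own Groth.Agent.* helpers here

set_option autoImplicit false
set_option backward.isDefEq.respectTransparency false
universe u
open Lim Groth.Agent

namespace Groth.Agent.S18877

open CategoryTheory AlgebraicGeometry in
/-- Let S = lim S_i be a cofiltered limit of Noetherian schemes with affine transition morphisms, let X₀
→ S_{i₀} be a scheme of finite type over one stage and X → S its base change to the limit. If all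
geometric fibres of X → S are connected, then for some stage S_i → S_{i₀} all geometric fibres of
the base change X₀ ×_{S_{i₀}} S_i → S_i are connected. (Connected is read so as to allow the empty
fibre: the underlying space of each geometric fibre is preconnected; the geometric fibre of X₀
×_{S_{i₀}} S_i over Spec Ω → S_i is written as the pullback of X₀ → S_{i₀} along Spec Ω → S_i →
S_{i₀}.) -/
theorem result {I : Type u} [SmallCategory I] [IsCofiltered I]
    (D : I ⥤ Scheme.{u}) (c : Limits.Cone D) (hc : Limits.IsLimit c)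
    [∀ (i j : I) (a : i ⟶ j), IsAffineHom (D.map a)] [∀ i : I, AlgebraicGeometry.IsNoetherian (D.obj i)]
    (i₀ : I) {X₀ : Scheme.{u}} (f₀ : X₀ ⟶ D.obj i₀) [QuasiCompact f₀] [LocallyOfFiniteType f₀]
    {X : Scheme.{u}} (f : X ⟶ c.pt) (q : X ⟶ X₀) (hX : IsPullback q f f₀ (c.π.app i₀))
    (hconn : ∀ (Ω : Type u) [Field Ω] [IsAlgClosed Ω] (t : Spec (CommRingCat.of Ω) ⟶ c.pt),
      PreconnectedSpace ↥(Limits.pullback f t)) :
    ∃ (i : I) (a : i ⟶ i₀), ∀ (Ω : Type u) [Field Ω] [IsAlgClosed Ω] (t : Spec (CommRingCat.of Ω) ⟶ D.obj i),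
      PreconnectedSpace ↥(Limits.pullback f₀ (t ≫ D.map a)) := by
  classical
  haveI : IsLocallyNoetherian X₀ := LocallyOfFiniteType.isLocallyNoetherian f₀
  haveI : LocallyOfFinitePresentation f₀ := LimH13.locallyOfFinitePresentation_of_noetherian f₀
  haveI : QuasiSeparatedSpace X₀ := inferInstance
  haveI : QuasiSeparated f₀ := QuasiSeparated.of_quasiSeparatedSpace f₀
  haveI : ∀ {i j : I} (a : i ⟶ j), IsAffineHom (D.map a) := fun {i j} a => inferInstance
  let good : Set (D.obj i₀) := {s | MoreMor.nGeomConnComp f₀ s = 0} ∪ {s | MoreMor.nGeomConnComp f₀ s = 1}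
  have hcons : ∀ n : ℕ∞, Topology.IsConstructible {s : D.obj i₀ | MoreMor.nGeomConnComp f₀ s = n} := fun n =>
    (GeomSpread4.isLocallyConstructible_count (fun {X Y} f y => MoreMor.nGeomConnComp f y)
      (fun h y' => (GeomSpread4.count_baseChange h y').2)
      (fun f _ _ y => (GeomSpread4.exists_count_const f y).imp fun U h => ⟨h.1, fun y' hy' => (h.2 y' hy').2⟩)
      f₀ n).isConstructible
  have hgood : Topology.IsConstructible good := (hcons 0).union (hcons 1)
  have hiff : ∀ {X Y : Scheme.{u}} (g : X ⟶ Y) {Ω : Type u} [Field Ω] [IsAlgClosed Ω]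
      (t : Spec (CommRingCat.of Ω) ⟶ Y),
      PreconnectedSpace ↥(Limits.pullback g t) ↔
        MoreMor.nGeomConnComp g (t (IsLocalRing.closedPoint Ω)) ≤ 1 := by
    intro X Y g Ω _ _ t
    rw [(GeomSpread4.count_point g t).2, ENat.card_le_one_iff_subsingleton]
    refine ⟨fun h => ?_, fun h => preconnectedSpace_iff_connectedComponent.2 fun x => ?_⟩
    · exact ⟨fun a b => Quotient.inductionOn₂' a b fun x z => ConnectedComponents.coe_eq_coe'.2
        (h.connectedComponent_eq_univ z ▸ Set.mem_univ x)⟩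
    · exact Set.eq_univ_of_forall fun y => ConnectedComponents.coe_eq_coe'.1 (Subsingleton.elim _ _)
  have hle : ∀ n : ℕ∞, n ≤ 1 ↔ n = 0 ∨ n = 1 := fun n => ENat.le_one_iff_eq_zero_or_eq_one
  have hpre : c.π.app i₀ ⁻¹' goodᶜ = c.π.app i₀ ⁻¹' ((⊥ : (D.obj i₀).Opens) \ (⊥ : (D.obj i₀).Opens) : Set (D.obj i₀)) := by
    rw [Set.sdiff_self, Set.preimage_empty, Set.eq_empty_iff_forall_notMem]
    intro s hs
    let L := AlgebraicClosure (c.pt.residueField s)
    let t : Spec (CommRingCat.of L) ⟶ c.pt :=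
      Spec.map (CommRingCat.ofHom (algebraMap (c.pt.residueField s) L)) ≫ c.pt.fromSpecResidueField s
    have ht : t (IsLocalRing.closedPoint L) = s := by
      show (Spec.map _ ≫ c.pt.fromSpecResidueField s) _ = s
      rw [Scheme.Hom.comp_apply, Scheme.fromSpecResidueField_apply]
    have h := (hiff f t).1 (hconn L t)
    rw [ht, (GeomSpread4.count_baseChange hX s).2, hle] at h
    exact hs h
  have hb : IsCompact ((⊥ : (D.obj i₀).Opens) : Set (D.obj i₀)) := by simp
  obtain ⟨i, a, ha⟩ := LimH13.exists_preimage_eq_of_isConstructible hc goodᶜ hgood.compl ⊥ ⊥ hb hb hpre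
  refine ⟨i, a, fun Ω _ _ t => (hiff f₀ (t ≫ D.map a)).2 ((hle _).2 ?_)⟩
  rw [Scheme.Hom.comp_apply]
  rw [Set.sdiff_self, Set.preimage_empty, Set.eq_empty_iff_forall_notMem] at ha
  exact not_not.1 (ha (t (IsLocalRing.closedPoint Ω)))

end Groth.Agent.S18877
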