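import Groth.Statements.S18879
import Groth.Agent.Lib.DimFormula14.Scheme
import Mathlib.AlgebraicGeometry.Properties

set_option autoImplicit false
universe u
open CategoryTheory AlgebraicGeometry
open Resolve

namespace Groth.Agent.S18879

/-- Let f : Y ⟶ X be a morphism locally of finite type between Noetherian separated schemes which is
birational: it maps the maximal points of Y bijectively onto the maximal points of X, and over every
maximal point of X its fibre is one point with the same residue field. Then for every point y of Y,
the Krull dimension of the local ring of Y at y is at most the Krull dimension of the local ring of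
X at f y (the codimension of a point does not increase along f). -/
theorem result {X Y : Scheme.{u}} (f : Y ⟶ X)
    [IsNoetherian X] [X.IsSeparated] [IsNoetherian Y] [Y.IsSeparated] [LocallyOfFiniteType f]
    (hf : RadPt.IsBirational f) (y : Y) :
    ringKrullDim (Y.presheaf.stalk y) ≤ ringKrullDim (X.presheaf.stalk (f.base y)) := by
  obtain ⟨ξ, hξx, hξ0, hle⟩ := Groth.Agent.DimFormula14.exists_stalkDim_add_rd_le f y
  have hcomp : ξ ∈ genericPoints ↥Y := by
    refine ⟨isIrreducible_singleton.closure, fun t ht hle' => ?_⟩
    have hg := (ht.closure).isGenericPoint_genericPoint isClosed_closure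
    have hmax : IsMax ξ := by
      rw [ringKrullDim_stalk_eq_coheight] at hξ0
      exact Order.coheight_eq_zero.1 (by exact_mod_cast hξ0)
    have h2 : ht.closure.genericPoint ⤳ ξ := hg.specializes (subset_closure (hle' (subset_closure rfl)))
    have h3 : ξ ⤳ ht.closure.genericPoint := hmax h2
    exact fun z hz => specializes_iff_mem_closure.1 (h3.trans (hg.specializes (subset_closure hz)))
  have h0 : Groth.Agent.FibDim14.rd f ξ = 0 := by
    have hb := (hf.2 (f ξ) (hf.1.mapsTo hcomp)).2 ξ rfl
    letI := (f.residueFieldMap ξ).hom.toAlgebra
    haveI : Algebra.IsAlgebraic (X.residueField (f ξ)) (Y.residueField ξ) := ⟨fun z => by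
      obtain ⟨c, rfl⟩ := hb.surjective z
      exact isAlgebraic_algebraMap c⟩
    have e := trdeg_eq_zero (R := X.residueField (f ξ)) (A := Y.residueField ξ)
    show Cardinal.toNat _ = 0
    unfold Groth.Agent.FibDim14.rdeg
    rw [e, map_zero]
  rw [h0, Nat.cast_zero, add_zero] at hle
  exact le_trans (le_add_of_nonneg_right (by exact_mod_cast Nat.zero_le _)) hle

end Groth.Agent.S18879
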