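import Groth.Statements.S1888
import Groth.Agent.Lib.GrpQuot.Field

set_option autoImplicit false
universe u
open CategoryTheory CategoryTheory.Limits AlgebraicGeometry
open Grpd

namespace Groth.Agent.S1888

set_option backward.isDefEq.respectTransparency.types false

open Groth.Agent.GrpdB in
/-- Translation by a bisection. -/
theorem exists_translation {S : Scheme.{u}} (G : Grpd.GroupoidScheme S) (ρ : G.U ⟶ G.R) (hs : ρ ≫ G.s = 𝟙 G.U)
    [IsIso (ρ ≫ G.t)] : ∃ φ : G.R ≅ G.R, G.e ≫ φ.hom = ρ := by
  let τ := asIso (ρ ≫ G.t)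
  let fw := cmp G ((G.t ≫ ρ) ) (𝟙 G.R) (by rw [Category.assoc, hs, Category.comp_id, Category.id_comp])
  let y := (G.t ≫ τ.inv) ≫ ρ
  have hy : y ≫ G.t = G.t := by
    rw [Category.assoc, show ρ ≫ G.t = τ.hom from rfl, Category.assoc, Iso.inv_hom_id, Category.comp_id]
  let bw := cmp G (inv' y) (𝟙 G.R) (by rw [inv_s, hy, Category.id_comp])
  have hfw : fw ≫ G.t ≫ τ.inv = G.t := by
    rw [← Category.assoc, cmp_t, Category.assoc G.t, show ρ ≫ G.t = τ.hom from rfl, Category.assoc, Iso.hom_inv_id, Category.comp_id]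
  have hbw : bw ≫ G.t = G.t ≫ τ.inv := by
    rw [cmp_t, inv_t, Category.assoc, hs, Category.comp_id]
  refine ⟨⟨fw, bw, ?_, ?_⟩, ?_⟩
  · rw [comp_cmp]
    refine (cmp_congr (show fw ≫ inv' y = inv' (G.t ≫ ρ) from ?_) (Category.comp_id fw) _).trans ?_
    · rw [inv', inv', ← Category.assoc]
      congr 1
      rw [← Category.assoc fw, hfw]
    · exact cancel_left (G.t ≫ ρ) (𝟙 G.R) _
  · rw [comp_cmp]
    refine (cmp_congr (show bw ≫ G.t ≫ ρ = y from ?_) (Category.comp_id bw) _).trans ?_
    · rw [← Category.assoc, hbw]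
    · exact cancel_left' y (𝟙 G.R) (hy.trans (Category.id_comp _).symm)
  · show G.e ≫ fw = ρ
    rw [comp_cmp]
    refine (cmp_congr (show G.e ≫ G.t ≫ ρ = ρ by rw [← Category.assoc, G.e_t, Category.id_comp])
      (show G.e ≫ 𝟙 G.R = 𝟙 G.U ≫ G.e by simp) _).trans ?_
    exact cmp_id' ρ (𝟙 _) _


/-- Let (U, R, s, t, c) be a groupoid scheme over S with U the spectrum of a field k, and r a point of R
such that both s and t induce isomorphisms from k to κ(r). Then there is an automorphism of the
scheme R carrying the identity point e to r. (The source's automorphism is x ↦ c(r, x); only the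
existence of an automorphism moving e to r is stated here.) (A groupoid scheme carries U, R, s, t,
c, e, i over S with the groupoid axioms on T-points; 'finite locally free' is finite, flat and
locally of finite presentation; C ⊂ Γ(U) is the ring of functions a with s♯(a) = t♯(a) and M = Spec
C.) -/
theorem result (S : Scheme.{u}) (G : Grpd.GroupoidScheme S) (k : Type u) [Field k] (eU : G.U ≅ Spec (CommRingCat.of k)) (r : G.R) (hs : IsIso (G.s.residueFieldMap r)) (ht : IsIso (G.t.residueFieldMap r)) : ∃ φ : G.R ≅ G.R, φ.hom (G.e (eU.inv (IsLocalRing.closedPoint k))) = r := by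
  let x₀ := eU.inv (IsLocalRing.closedPoint k)
  have : Subsingleton G.U := eU.hom.homeomorph.injective.subsingleton
  let a := G.R.fromSpecResidueField r
  have key : ∀ (g : G.R ⟶ G.U), IsIso (g.residueFieldMap r) → IsIso (a ≫ g) := by
    intro g hg
    have : IsIso (G.U.fromSpecResidueField (g r)) := by
      have : IsAffine G.U := IsAffine.of_isIso eU.hom
      have : IsReduced G.U := isReduced_of_isOpenImmersion eU.hom
      have : IsClosedImmersion (G.U.fromSpecResidueField (g r)) :=
        isClosed_singleton_iff_isClosedImmersion.1 (Set.Subsingleton.isClosed (Set.subsingleton_singleton))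
      have : Surjective (G.U.fromSpecResidueField (g r)) :=
        ⟨fun z => ⟨IsLocalRing.closedPoint _, Subsingleton.elim _ _⟩⟩
      exact isIso_of_isClosedImmersion_of_surjective _
    show IsIso (G.R.fromSpecResidueField r ≫ g)
    rw [← Scheme.Hom.SpecMap_residueFieldMap_fromSpecResidueField]
    infer_instance
  have := key G.s hs
  have := key G.t ht
  let ρ := inv (a ≫ G.s) ≫ a
  have hρs : ρ ≫ G.s = 𝟙 _ := by rw [Category.assoc]; exact IsIso.inv_hom_id _
  have : IsIso (ρ ≫ G.t) := by rw [Category.assoc]; infer_instance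
  obtain ⟨φ, hφ⟩ := exists_translation G ρ hρs
  refine ⟨φ, ?_⟩
  rw [← Scheme.Hom.comp_apply, hφ, Scheme.Hom.comp_apply]
  exact G.R.fromSpecResidueField_apply r _

end Groth.Agent.S1888
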