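import Groth.Statements.S18883
import Groth.Statements.S17841
import Groth.Statements.S18882
import Groth.Agent.Lib.SmProj2.Main
import Groth.Agent.S8855
import Groth.Agent.S4991

set_option autoImplicit false
set_option linter.style.haveILetI false
set_option backward.isDefEq.respectTransparency false
set_option backward.isDefEq.respectTransparency.types false
set_option synthInstance.maxHeartbeats 400000
universe u
open CategoryTheory AlgebraicGeometry
open RegImm

namespace Groth.Agent.S18883

open AlgebraicGeometry CategoryTheory

/-- Let S be a Noetherian separated scheme all of whose local rings are regular, let X be a scheme all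
of whose local rings are regular, and let f : X ⟶ S be an open immersion followed by a projective
morphism (the relative Proj of a quasi-coherent graded algebra generated by its degree-one part, of
finite type). Then f = i ≫ p for a closed immersion i : X ⟶ W which is a regular immersion (its
ideal is locally generated by a regular sequence) and a smooth morphism p : W ⟶ S which is again an
open immersion followed by a projective morphism. -/
theorem result {X S : Scheme.{u}}
    (f : X ⟶ S) [IsNoetherian S] [S.IsSeparated] (hS : ∀ s : S, IsRegularLocalRing (S.presheaf.stalk s))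
    (hX : ∀ x : X, IsRegularLocalRing (X.presheaf.stalk x))
    (hf : ∃ (Z : Scheme.{u}) (v : X ⟶ Z) (q : Z ⟶ S), IsOpenImmersion v ∧ RelProj.IsProjective q ∧ v ≫ q = f) :
    ∃ (W : Scheme.{u}) (i : X ⟶ W) (p : W ⟶ S), IsClosedImmersion i ∧
      RegImm.IsRegularImmersion RegImm.Kind.regular i ∧ Smooth p ∧
      (∃ (P : Scheme.{u}) (v : W ⟶ P) (q : P ⟶ S), IsOpenImmersion v ∧ RelProj.IsProjective q ∧ v ≫ q = p) ∧
      i ≫ p = f := by
  obtain ⟨W, i, p, hi, hp, hq, hip⟩ := Groth.Agent.SmProj2.exists_smooth_qproj_embedding hS hf
  haveI := hi
  haveI := hp
  haveI : IsLocallyNoetherian W := LocallyOfFiniteType.isLocallyNoetherian p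
  haveI : IsLocallyNoetherian X := LocallyOfFiniteType.isLocallyNoetherian i
  exact ⟨W, i, p, hi, Groth.Agent.S8855.result i
    (fun x => (Groth.Agent.S4991.result p x ⟨⊤, trivial, inferInstance⟩).2 (hS _)) hX, hp, hq, hip⟩

end Groth.Agent.S18883
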