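import Groth.Statements.S18884
import Mathlib.Algebra.Category.Grp.Basic
import Mathlib.GroupTheory.QuotientGroup.Basic

set_option autoImplicit false
set_option backward.isDefEq.respectTransparency.types false
universe v u w
open CategoryTheory CategoryTheory.Limits
open Desc

namespace Groth.Agent.S18884

/-- Let C be a category with pullbacks equipped with a class W of morphisms, the covers, stable under
base change and under composition. An abelian cosheaf is a functor F : C ⥤ Ab such that for every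
cover π : Y ⟶ X the map F(π) is surjective and its kernel is the image of F(p₁) − F(p₂), where p₁,
p₂ : Y ×_X Y ⟶ Y are the two projections. If D is a full subcategory of C such that every object of
C is the target of a cover whose source lies in D, then the restriction functor from the full
subcategory of abelian cosheaves in C ⥤ Ab to D ⥤ Ab is full and faithful. -/
theorem result {C : Type u} [Category.{v} C]
    [HasPullbacks C] (W : MorphismProperty C) [W.IsStableUnderBaseChange] [W.IsStableUnderComposition]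
    (D : ObjectProperty C) (hD : ∀ X : C, ∃ (Y : C) (π : Y ⟶ X), W π ∧ D Y) :
    (ObjectProperty.ι (fun F : C ⥤ AddCommGrpCat.{w} =>
        ∀ ⦃Y X : C⦄ (π : Y ⟶ X), W π → Function.Surjective (F.map π).hom ∧
          (F.map π).hom.ker = ((F.map (pullback.fst π π)).hom - (F.map (pullback.snd π π)).hom).range) ⋙
      (Functor.whiskeringLeft D.FullSubcategory C AddCommGrpCat.{w}).obj D.ι).Full ∧
    (ObjectProperty.ι (fun F : C ⥤ AddCommGrpCat.{w} =>
        ∀ ⦃Y X : C⦄ (π : Y ⟶ X), W π → Function.Surjective (F.map π).hom ∧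
          (F.map π).hom.ker = ((F.map (pullback.fst π π)).hom - (F.map (pullback.snd π π)).hom).range) ⋙
      (Functor.whiskeringLeft D.FullSubcategory C AddCommGrpCat.{w}).obj D.ι).Faithful := by
  refine ⟨⟨fun {F G} ψ => ?_⟩, ⟨fun {F G} φ₁ φ₂ h => ?_⟩⟩
  · classical
    choose Y π hπ hY using hD
    let ψ' : ∀ Z : C, D Z → (F.obj.obj Z ⟶ G.obj.obj Z) := fun Z hZ => ψ.app ⟨Z, hZ⟩
    have hnat : ∀ {Z Z' : C} (hZ : D Z) (hZ' : D Z') (a : Z ⟶ Z'),
        F.obj.map a ≫ ψ' Z' hZ' = ψ' Z hZ ≫ G.obj.map a := fun hZ hZ' a =>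
      ψ.naturality (ObjectProperty.homMk a : (⟨_, hZ⟩ : D.FullSubcategory) ⟶ ⟨_, hZ'⟩)
    have hker : ∀ X, (F.obj.map (π X)).hom.ker ≤ (ψ' _ (hY X) ≫ G.obj.map (π X)).hom.ker := by
      intro X y hy
      rw [(F.property (π X) (hπ X)).2] at hy
      obtain ⟨w, rfl⟩ := hy
      obtain ⟨z, rfl⟩ := (F.property (π (pullback (π X) (π X))) (hπ _)).1 w
      show (ψ' _ (hY X) ≫ G.obj.map (π X))
        ((F.obj.map (pullback.fst _ _)).hom ((F.obj.map (π _)).hom z) -
          (F.obj.map (pullback.snd _ _)).hom ((F.obj.map (π _)).hom z)) = 0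
      rw [map_sub, sub_eq_zero]
      have e : ∀ t : Y (pullback (π X) (π X)) ⟶ Y X, F.obj.map t ≫ ψ' _ (hY X) ≫ G.obj.map (π X) =
          ψ' _ (hY _) ≫ G.obj.map (t ≫ π X) := fun t => by
        rw [← Category.assoc, hnat (hY _) (hY X), Category.assoc, Functor.map_comp]
      have h1 := e (π _ ≫ pullback.fst (π X) (π X))
      have h2 := e (π _ ≫ pullback.snd (π X) (π X))
      rw [Category.assoc, pullback.condition] at h1
      rw [Category.assoc] at h2
      have h3 := ConcreteCategory.congr_hom (h1.trans h2.symm) z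
      simp only [Functor.map_comp] at h3
      exact h3
    let φ : ∀ X, F.obj.obj X ⟶ G.obj.obj X := fun X => AddCommGrpCat.ofHom
      (AddMonoidHom.liftOfSurjective _ (F.property (π X) (hπ X)).1 ⟨_, hker X⟩)
    have hφ : ∀ X, F.obj.map (π X) ≫ φ X = ψ' _ (hY X) ≫ G.obj.map (π X) := fun X => by
      refine AddCommGrpCat.hom_ext (AddMonoidHom.ext fun y => ?_)
      exact AddMonoidHom.liftOfRightInverse_comp_apply _ _ (Function.rightInverse_surjInv (F.property (π X) (hπ X)).1) ⟨_, hker X⟩ y
    have hnatφ : ∀ {X' X : C} (g : X' ⟶ X), F.obj.map g ≫ φ X = φ X' ≫ G.obj.map g := by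
      intro X' X g
      have hr : W (pullback.fst (π X' ≫ g) (π X)) := MorphismProperty.pullback_fst _ _ (hπ X)
      have hr' : W (π (pullback (π X' ≫ g) (π X)) ≫ pullback.fst (π X' ≫ g) (π X) ≫ π X') :=
        W.comp_mem _ _ (hπ _) (W.comp_mem _ _ hr (hπ X'))
      refine AddCommGrpCat.hom_ext (AddMonoidHom.ext fun x => ?_)
      obtain ⟨z, rfl⟩ := (F.property _ hr').1 x
      change (F.obj.map _ ≫ F.obj.map g ≫ φ X).hom z = (F.obj.map _ ≫ φ X' ≫ G.obj.map g).hom z
      have e' : ∀ {Z : C} (hZ : D Z) (V : C) (t : Z ⟶ Y V), F.obj.map (t ≫ π V) ≫ φ V =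
          ψ' Z hZ ≫ G.obj.map (t ≫ π V) := fun hZ V t => by
        rw [Functor.map_comp, Category.assoc, hφ, ← Category.assoc, hnat hZ (hY V), Category.assoc,
          Functor.map_comp]
      have h1 := e' (hY _) X (π (pullback (π X' ≫ g) (π X)) ≫ pullback.snd (π X' ≫ g) (π X))
      have h2 := e' (hY _) X' (π (pullback (π X' ≫ g) (π X)) ≫ pullback.fst (π X' ≫ g) (π X))
      rw [Category.assoc, ← pullback.condition] at h1
      simp only [Category.assoc] at h2
      have h3 : F.obj.map (π (pullback (π X' ≫ g) (π X)) ≫ pullback.fst (π X' ≫ g) (π X) ≫ π X') ≫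
          F.obj.map g ≫ φ X = F.obj.map (π (pullback (π X' ≫ g) (π X)) ≫
          pullback.fst (π X' ≫ g) (π X) ≫ π X') ≫ φ X' ≫ G.obj.map g := by
        rw [← Functor.map_comp_assoc, ← Category.assoc _ (φ X') (G.obj.map g), h2]
        simp only [Category.assoc, ← Functor.map_comp] at h1 ⊢
        exact h1
      rw [h3]
    refine ⟨ObjectProperty.homMk { app := φ, naturality := fun _ _ g => hnatφ g }, ?_⟩
    ext ⟨X, hX⟩ : 2
    refine AddCommGrpCat.hom_ext (AddMonoidHom.ext fun x => ?_)
    obtain ⟨y, rfl⟩ := (F.property (π X) (hπ X)).1 x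
    change (F.obj.map (π X) ≫ φ X).hom y = (F.obj.map (π X) ≫ ψ' X hX).hom y
    rw [hφ, hnat (hY X) hX]
  · refine ObjectProperty.hom_ext _ ?_
    ext X : 2
    obtain ⟨Y, π, hπ, hY⟩ := hD X
    refine AddCommGrpCat.hom_ext (AddMonoidHom.ext fun x => ?_)
    obtain ⟨y, rfl⟩ := (F.property π hπ).1 x
    change (F.obj.map π ≫ φ₁.hom.app X).hom y = (F.obj.map π ≫ φ₂.hom.app X).hom y
    rw [φ₁.hom.naturality, φ₂.hom.naturality,
      show φ₁.hom.app Y = φ₂.hom.app Y from NatTrans.congr_app h ⟨Y, hY⟩]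

end Groth.Agent.S18884
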