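import Groth.Statements.S18887
import Groth.Agent.Lib.DblCov14.Basic

set_option autoImplicit false
universe u v
open DblCov

set_option backward.isDefEq.respectTransparency.types false

namespace Groth.Agent.S18887

/-- Let A be a commutative ring in which 2 is invertible and B a commutative A-algebra which is free of
rank 2 as an A-module and whose trace form tr : B → A has kernel free of rank 1 over A. Then σ(b) =
tr(b) − b defines an A-algebra endomorphism σ of B with σ ≠ id and σ ∘ σ = id, and the elements
fixed by σ are exactly the image of A in B. -/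
theorem result {A : Type u} {B : Type v} [CommRing A] [CommRing B]
    [Algebra A B] (h2 : IsUnit (2 : A)) [Module.Free A B] [Module.Finite A B]
    (hrk : Module.finrank A B = 2)
    [Module.Free A (LinearMap.ker (Algebra.trace A B))]
    (hker : Module.finrank A (LinearMap.ker (Algebra.trace A B)) = 1) :
    ∃ σ : B →ₐ[A] B, (∀ b : B, σ b = algebraMap A B (Algebra.trace A B b) - b) ∧
      σ ≠ AlgHom.id A B ∧ σ.comp σ = AlgHom.id A B ∧
      ∀ b : B, σ b = b ↔ b ∈ Set.range (algebraMap A B) := by
  haveI : Nontrivial A := by
    by_contra hn
    rw [not_nontrivial_iff_subsingleton] at hn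
    haveI := hn
    haveI : Subsingleton B := Module.subsingleton A B
    simp at hrk
  let e : Module.Basis (Fin 2) A B := Module.finBasisOfFinrankEq A B hrk
  refine ⟨DblCov14.sigma h2 (DblCov14.trace_one e) (DblCov14.quadratic_of_basis e), fun b => rfl,
    DblCov14.sigma_ne_id _ _ _ hrk, DblCov14.sigma_sigma _ _ _, DblCov14.sigma_eq_iff _ _ _⟩

end Groth.Agent.S18887
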