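import Groth.Statements.S18888
import Groth.Statements.S12046
import Groth.Statements.S13157
import Groth.Statements.S14609
import Groth.Statements.S14336
import Groth.Statements.S15367
import Groth.Agent.S12045
import Groth.Agent.S15368
import Groth.Agent.Lib.Fitting.More
import Mathlib.RingTheory.Flat.FaithfullyFlat.Algebra
import Mathlib.RingTheory.Spectrum.Prime.FreeLocus
import Mathlib.LinearAlgebra.Dimension.RankNullity
import Mathlib.Topology.Semicontinuity.Basic
import Mathlib.FieldTheory.Minpoly.IsIntegrallyClosed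
import Mathlib.Algebra.Module.PID
import Mathlib.RingTheory.Flat.EquationalCriterion

set_option autoImplicit false
universe u v w
open CAlg

namespace Groth.Agent.S18888
open CAlg

open Polynomial

/-- Let A be a unique factorisation domain in which 2 is invertible, with fraction field K, and let L ⊇
K be a quadratic extension field (of degree 2 over K) containing an element y ∉ K whose square is a
squarefree element d of A. Then the integral closure of A in L equals the A-subalgebra A[y]
generated by y. -/
theorem result {A : Type u} {K : Type v} {L : Type w}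
    [CommRing A] [IsDomain A] [UniqueFactorizationMonoid A] [Field K] [Algebra A K] [IsFractionRing A K]
    [Field L] [Algebra K L] [Algebra A L] [IsScalarTower A K L]
    (h2 : IsUnit (2 : A)) (hL : Module.finrank K L = 2)
    (d : A) (hd : Squarefree d) (y : L) (hy : y * y = algebraMap A L d)
    (hyK : y ∉ Set.range (algebraMap K L)) :
    integralClosure A L = Algebra.adjoin A {y} := by
  classical
  have hy' : IsIntegral A y := ⟨X ^ 2 - C d, monic_X_pow_sub_C _ two_ne_zero, by simp [pow_two, hy]⟩
  refine le_antisymm (fun z hz => ?_) (adjoin_le_integralClosure hy')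
  have hz : IsIntegral A z := hz
  obtain ⟨p, q, rfl⟩ : ∃ p q : K, z = algebraMap K L p + q • y := by
    have : Module.Finite K L := Module.finite_of_finrank_eq_succ hL
    have hli : LinearIndependent K ![(1 : L), y] := by
      rw [LinearIndependent.pair_iff]
      intro s t hst
      by_cases ht : t = 0
      · subst ht
        simpa using hst
      · refine absurd ⟨-(t⁻¹ * s), ?_⟩ hyK
        rw [Algebra.algebraMap_eq_smul_one, neg_smul, ← smul_smul, eq_neg_of_add_eq_zero_left hst, smul_neg,
          inv_smul_smul₀ ht, neg_neg]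
    have hspan := hli.span_eq_top_of_card_eq_finrank (by simp [hL])
    have hz' : z ∈ Submodule.span K (Set.range ![(1 : L), y]) := hspan ▸ Submodule.mem_top
    rw [Submodule.mem_span_range_iff_exists_fun] at hz'
    obtain ⟨c, hc⟩ := hz'
    refine ⟨c 0, c 1, ?_⟩
    rw [← hc, Fin.sum_univ_two, Algebra.algebraMap_eq_smul_one]
    simp
  have hyad : y ∈ Algebra.adjoin A ({y} : Set L) := Algebra.self_mem_adjoin_singleton A y
  suffices h : (∃ a : A, algebraMap A K a = p) ∧ ∃ b : A, algebraMap A K b = q by
    obtain ⟨⟨a, rfl⟩, b, rfl⟩ := h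
    rw [← IsScalarTower.algebraMap_apply, algebraMap_smul]
    exact add_mem (Subalgebra.algebraMap_mem _ a) (Subalgebra.smul_mem _ hyad b)
  by_cases hq : q = 0
  · subst hq
    rw [zero_smul, add_zero] at hz
    exact ⟨IsIntegrallyClosed.isIntegral_iff.1 ((isIntegral_algebraMap_iff (algebraMap K L).injective).1 hz),
      0, map_zero _⟩
  set z := algebraMap K L p + q • y with hzdef
  set P : K[X] := X ^ 2 + C (-(2 * p)) * X + C (p ^ 2 - q ^ 2 * algebraMap A K d)
  have hPm : P.Monic := by simp only [P]; monicity!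
  have hPd : P.natDegree = 2 := by simp only [P]; compute_degree!
  have hPz : aeval z P = 0 := by
    simp only [P, map_add, map_mul, map_pow, aeval_X, aeval_C, map_sub, map_neg, map_ofNat,
      ← IsScalarTower.algebraMap_apply, ← hy, hzdef, Algebra.smul_def]
    ring
  have hzK : z ∉ Set.range (algebraMap K L) := by
    rintro ⟨r, hr⟩
    refine hyK ⟨q⁻¹ * (r - p), ?_⟩
    rw [map_mul, map_sub, hr, hzdef, add_sub_cancel_left, Algebra.smul_def, ← mul_assoc, ← map_mul,
      inv_mul_cancel₀ hq, map_one, one_mul]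
  have hmin : minpoly K z = P := by
    refine (minpoly.unique K z hPm hPz fun Q hQm hQz => ?_).symm
    rw [Polynomial.degree_eq_natDegree hPm.ne_zero, Polynomial.degree_eq_natDegree hQm.ne_zero, hPd,
      Nat.cast_le]
    by_contra hlt
    push_neg at hlt
    have hz2 : 2 ≤ (minpoly K z).natDegree :=
      (minpoly.two_le_natDegree_iff (hz.tower_top (A := K))).2 hzK
    have := Polynomial.natDegree_le_of_dvd (minpoly.dvd K z hQz) hQm.ne_zero
    omega
  have hco : ∀ n, ∃ a : A, algebraMap A K a = P.coeff n := fun n => by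
    refine ⟨(minpoly A z).coeff n, ?_⟩
    rw [← hmin, minpoly.isIntegrallyClosed_eq_field_fractions' K hz, coeff_map]
  obtain ⟨a1, ha1⟩ := hco 1
  obtain ⟨a0, ha0⟩ := hco 0
  have hc1 : P.coeff 1 = -(2 * p) := by
    simp only [P, coeff_add, coeff_X_pow, coeff_C_mul, coeff_X_one, coeff_C_ne_zero one_ne_zero]
    norm_num
  have hc0 : P.coeff 0 = p ^ 2 - q ^ 2 * algebraMap A K d := by
    simp only [P, coeff_add, coeff_X_pow, coeff_C_mul, coeff_X_zero, coeff_C_zero]
    norm_num
  rw [hc1] at ha1
  rw [hc0] at ha0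
  obtain ⟨w, hw⟩ := h2
  have hp : algebraMap A K (-((↑w⁻¹ : A) * a1)) = p := by
    have h1 : (algebraMap A K (↑w⁻¹ : A)) * 2 = 1 := by
      rw [← map_ofNat (algebraMap A K) 2, ← map_mul, ← hw, Units.inv_mul, map_one]
    rw [map_neg, map_mul, ha1]
    linear_combination p * h1
  refine ⟨⟨_, hp⟩, ?_⟩
  obtain ⟨n, ⟨m, hm0⟩, hnm⟩ := IsLocalization.exists_mk'_eq (nonZeroDivisors A) q |> fun ⟨n, m, h⟩ =>
    (⟨n, m, h⟩ : ∃ (n : A) (m : nonZeroDivisors A), IsLocalization.mk' K n m = q)
  obtain ⟨n', m', c, hrel, rfl, rfl⟩ : ∃ n' m' c : A, IsRelPrime n' m' ∧ c * n' = n ∧ c * m' = m := by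
    obtain ⟨n', m', c, hn', hm', h⟩ := UniqueFactorizationMonoid.exists_reduced_factors' n m
      (nonZeroDivisors.ne_zero hm0)
    exact ⟨n', m', c, hn', hm', h⟩
  have hq' : q * algebraMap A K m' = algebraMap A K n' := by
    have h1 : q * algebraMap A K (c * m') = algebraMap A K (c * n') := by
      rw [← hnm]; exact IsLocalization.mk'_spec K (c * n') _
    rw [map_mul, map_mul] at h1
    refine mul_left_cancel₀ (fun h0 => ?_) (by linear_combination h1 : algebraMap A K c * (q * algebraMap A K m') = algebraMap A K c * algebraMap A K n')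
    rw [IsFractionRing.to_map_eq_zero_iff] at h0
    exact nonZeroDivisors.ne_zero hm0 (by rw [h0, zero_mul])
  set a := (-((↑w⁻¹ : A) * a1)) ^ 2 - a0 with hadef
  have hqd : algebraMap A K (n' ^ 2 * d) = algebraMap A K (m' ^ 2 * a) := by
    rw [map_mul, map_mul, map_pow, map_pow, hadef, map_sub, map_pow, hp, ha0, ← hq']
    ring
  have hdvd : m' * m' ∣ d := by
    have h1 : m' * m' ∣ n' ^ 2 * d := ⟨a, by rw [IsFractionRing.injective A K hqd]; ring⟩
    exact (((hrel.symm.pow_right).mul_left (hrel.symm.pow_right))).dvd_of_dvd_mul_left h1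
  obtain ⟨v, hv⟩ := hd m' hdvd
  refine ⟨n' * (↑v⁻¹ : A), ?_⟩
  rw [map_mul, ← hq', mul_assoc, ← map_mul, ← hv, Units.mul_inv, map_one, mul_one]

end Groth.Agent.S18888
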