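import Groth.Statements.S18889
import Mathlib
import Groth.Statements.S17721
import Groth.Statements.S18544

set_option autoImplicit false
universe u v w
open CAlg

namespace Groth.Agent.S18889

set_option maxHeartbeats 1000000 in

/-- Let R be a commutative ring, A a commutative R-algebra of finite presentation, and G a finite group
acting on A by R-algebra automorphisms such that the order of G is invertible in R. Then the ring of
invariants A^G is an R-algebra of finite presentation. (The source takes G to be a group of
automorphisms of A; here G acts through a possibly non-faithful action, which changes nothing since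
the invariants and the invertibility of the order only depend on the image of G.) -/
theorem result {R : Type u} {A : Type v} [CommRing R] [CommRing A]
    [Algebra R A] [Algebra.FinitePresentation R A]
    {G : Type w} [Group G] [Finite G] [MulSemiringAction G A] [SMulCommClass G R A]
    (hG : IsUnit ((Nat.card G : ℕ) : R)) :
    Algebra.FinitePresentation R (FixedPoints.subalgebra R A G) := by
  classical
  let S0 := FixedPoints.subalgebra R A G
  haveI : Fintype G := Fintype.ofFinite G
  haveI : Algebra.IsInvariant S0 A G := ⟨fun b hb => ⟨⟨b, hb⟩, rfl⟩⟩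
  haveI hint : Algebra.IsIntegral S0 A := Algebra.IsInvariant.isIntegral S0 A G
  obtain ⟨s, hs⟩ := (inferInstance : Algebra.FiniteType R A).out
  choose q hqm hq0 using fun x : A => hint.isIntegral x
  let T : Finset S0 := s.biUnion fun x => (q x).coeffs
  let C0 := MvPolynomial T R
  let φ : C0 →ₐ[R] S0 := MvPolynomial.aeval (fun t : T => (t : S0))
  letI : Algebra C0 S0 := φ.toRingHom.toAlgebra
  letI : Algebra C0 A := (S0.val.comp φ).toRingHom.toAlgebra
  haveI : IsScalarTower C0 S0 A := IsScalarTower.of_algebraMap_eq fun _ => rfl
  haveI : IsScalarTower R C0 A := IsScalarTower.of_algebraMap_eq fun r => ((S0.val.comp φ).commutes r).symm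
  haveI : IsScalarTower R C0 S0 := IsScalarTower.of_algebraMap_eq fun r => (φ.commutes r).symm
  have hint' : ∀ x ∈ s, IsIntegral C0 x := by
    intro x hx
    have hl : q x ∈ Polynomial.lifts (algebraMap C0 S0) := by
      refine (Polynomial.lifts_iff_coeff_lifts _).2 fun n => ?_
      by_cases hn : (q x).coeff n = 0
      · exact ⟨0, by rw [hn, map_zero]⟩
      · have : (q x).coeff n ∈ T := Finset.mem_biUnion.2 ⟨x, hx, Polynomial.coeff_mem_coeffs hn⟩
        exact ⟨MvPolynomial.X ⟨_, this⟩, (MvPolynomial.aeval_X _ _).trans rfl⟩
    rcases subsingleton_or_nontrivial S0 with hS | hS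
    · have h10 : (1 : A) = 0 := congrArg Subtype.val (Subsingleton.elim (1 : S0) 0)
      haveI : Subsingleton A := subsingleton_of_zero_eq_one h10.symm
      rw [Subsingleton.elim x 0]
      exact isIntegral_zero
    obtain ⟨q', hq', -, hm'⟩ := Polynomial.lifts_and_degree_eq_and_monic hl (hqm x)
    exact ⟨q', hm', by rw [IsScalarTower.algebraMap_eq C0 S0 A, ← Polynomial.eval₂_map, hq']; exact hq0 x⟩
  have htop : Algebra.adjoin C0 (s : Set A) = ⊤ := by
    refine top_unique fun a _ => ?_
    have : a ∈ Algebra.adjoin R (s : Set A) := hs ▸ trivial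
    exact (Algebra.adjoin_le (S := (Algebra.adjoin C0 (s : Set A)).restrictScalars R) Algebra.subset_adjoin) this
  haveI : Module.Finite C0 A := by
    constructor
    have := fg_adjoin_of_finite s.finite_toSet hint'
    rwa [htop] at this
  haveI : Algebra.FinitePresentation C0 A :=
    Algebra.FinitePresentation.of_restrict_scalars_finitePresentation R C0 A
  haveI : Module.FinitePresentation C0 A :=
    Module.FinitePresentation.of_finite_of_finitePresentation C0 A
  obtain ⟨u, hu⟩ := hG.exists_left_inv
  have hfix : ∀ a : A, (u • ∑ g : G, g • a) ∈ S0 := fun a h => by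
    show h • (u • ∑ g : G, g • a) = u • ∑ g : G, g • a
    rw [smul_comm, Finset.smul_sum]
    congr 1
    exact Fintype.sum_equiv (Equiv.mulLeft h) _ _ fun g => by simp [mul_smul]
  let P : A →ₗ[C0] S0 :=
    { toFun := fun a => ⟨_, hfix a⟩
      map_add' := fun a b => Subtype.ext (by simp [Finset.sum_add_distrib, smul_add])
      map_smul' := fun c a => Subtype.ext (by
        show u • ∑ g : G, g • ((φ c : A) * a) = (φ c : A) * (u • ∑ g : G, g • a)
        rw [mul_smul_comm, Finset.mul_sum]
        congr 1
        exact Finset.sum_congr rfl fun g _ => by rw [smul_mul', (φ c).2 g]) }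
  let i : S0 →ₗ[C0] A := (IsScalarTower.toAlgHom C0 S0 A).toLinearMap
  have hPi : ∀ x : S0, P (i x) = x := fun x => Subtype.ext (by
    show u • ∑ g : G, g • (x : A) = x
    rw [Finset.sum_congr rfl (fun g _ => x.2 g), Finset.sum_const, Finset.card_univ,
      ← Nat.cast_smul_eq_nsmul R, smul_smul, ← Nat.card_eq_fintype_card, hu, one_smul])
  haveI : Module.FinitePresentation C0 S0 := by
    refine Module.finitePresentation_of_surjective P (fun x => ⟨i x, hPi x⟩) ?_
    have : LinearMap.ker P = LinearMap.range (LinearMap.id - i.comp P) := by
      ext a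
      constructor
      · intro ha
        exact ⟨a, by simp [LinearMap.mem_ker.1 ha]⟩
      · rintro ⟨b, rfl⟩
        simp [hPi]
    rw [this, LinearMap.range_eq_map]
    exact (Module.Finite.fg_top).map _
  haveI : Algebra.FinitePresentation C0 S0 := Algebra.FinitePresentation.of_finitePresentation C0 S0
  exact Algebra.FinitePresentation.trans R C0 S0

end Groth.Agent.S18889
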