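import Groth.Statements.S1889
import Groth.Agent.Lib.GrpQuot.Field

set_option autoImplicit false
universe u
open CategoryTheory CategoryTheory.Limits AlgebraicGeometry
open Grpd

namespace Groth.Agent.S1889

/-- Let (U, R, s, t, c) be a groupoid scheme over S with U the spectrum of a field, W ⊆ R open and a : Z
→ R a morphism. Then the image of Z ×_{s∘a, U, t} W → R ×_{s,U,t} R → R (composition) is open. (A
groupoid scheme carries U, R, s, t, c, e, i over S with the groupoid axioms on T-points; 'finite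
locally free' is finite, flat and locally of finite presentation; C ⊂ Γ(U) is the ring of functions
a with s♯(a) = t♯(a) and M = Spec C.) -/
theorem result (S : Scheme.{u}) (G : Grpd.GroupoidScheme S) (k : Type u) [Field k] (eU : G.U ≅ Spec (CommRingCat.of k)) (W : G.R.Opens) (Z : Scheme.{u}) (a : Z ⟶ G.R) : IsOpen (Set.range ⇑(pullback.lift (pullback.fst (a ≫ G.s) (W.ι ≫ G.t) ≫ a) (pullback.snd (a ≫ G.s) (W.ι ≫ G.t) ≫ W.ι) ((Category.assoc _ _ _).trans (pullback.condition.trans (Category.assoc _ _ _).symm)) ≫ G.c)) := by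
  let f₁ : pullback (a ≫ G.s) (W.ι ≫ G.t) ⟶ pullback (a ≫ G.s) G.t :=
    pullback.map _ _ _ _ (𝟙 _) W.ι (𝟙 _) (by simp) (by simp)
  let f₂ : pullback (a ≫ G.s) G.t ⟶ pullback G.s G.t :=
    pullback.map _ _ _ _ a (𝟙 _) (𝟙 _) (by simp) (by simp)
  have h₁ : IsOpenImmersion f₁ :=
    MorphismProperty.pullbackMap (P := @IsOpenImmersion) inferInstance inferInstance (Category.id_comp _).symm rfl
  have sq : IsPullback f₂ (pullback.fst (a ≫ G.s) G.t) (pullback.fst G.s G.t) a :=
    IsPullback.of_right (h₁₂ := pullback.snd G.s G.t) (v₁₃ := G.t) (h₂₂ := G.s)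
      (by rw [show f₂ ≫ pullback.snd G.s G.t = pullback.snd (a ≫ G.s) G.t from
          (pullback.lift_snd _ _ _).trans (Category.comp_id _)]; exact (IsPullback.of_hasPullback (a ≫ G.s) G.t).flip)
      (pullback.lift_fst _ _ _) (IsPullback.of_hasPullback G.s G.t).flip
  have := GrpQuot.universallyOpen_of_field eU (a ≫ G.t)
  have h₂ : UniversallyOpen (f₂ ≫ G.c) := MorphismProperty.of_isPullback (P := @UniversallyOpen)
    (sq.paste_horiz (GrpQuot.isPullback_shear_left G)).flip ‹_›
  have e : pullback.lift (pullback.fst (a ≫ G.s) (W.ι ≫ G.t) ≫ a) (pullback.snd (a ≫ G.s) (W.ι ≫ G.t) ≫ W.ι)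
      ((Category.assoc _ _ _).trans (pullback.condition.trans (Category.assoc _ _ _).symm)) ≫ G.c = f₁ ≫ f₂ ≫ G.c := by
    refine (congrArg (· ≫ G.c) ?_).trans (Category.assoc _ _ _)
    apply pullback.hom_ext <;> simp [f₁, f₂, pullback.map, pullback.lift_fst, pullback.lift_snd, pullback.lift_fst_assoc, pullback.lift_snd_assoc]
  rw [e]
  exact (f₁ ≫ f₂ ≫ G.c).isOpenMap.isOpen_range

end Groth.Agent.S1889
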