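import Groth.Statements.S18890
import Mathlib
import Groth.Prelude.Def_Fitting
import Groth.Agent.Lib.Fitting.More

set_option autoImplicit false
universe u v w w'
open CAlg

namespace Groth.Agent.S18890
open scoped TensorProduct

/-- Let R be a commutative ring, G a finite group whose order is invertible in R, M an R-module with an
R-linear action ρ of G and N an arbitrary R-module. Then the natural map M^G ⊗_R N → M ⊗_R N induced
by the inclusion of the invariants is injective, and its image is the submodule of invariants of M
⊗_R N under the action ρ ⊗ 1 (G acting on the first factor). (The source lets G be a group of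
R-automorphisms of M; a possibly non-faithful linear action changes nothing.) -/
theorem result {R : Type u} [CommRing R]
    {G : Type v} [Group G] [Finite G] (hG : IsUnit ((Nat.card G : ℕ) : R))
    {M : Type w} {N : Type w'} [AddCommGroup M] [Module R M] [AddCommGroup N] [Module R N]
    (ρ : Representation R G M) :
    Function.Injective (LinearMap.rTensor N ρ.invariants.subtype) ∧
      LinearMap.range (LinearMap.rTensor N ρ.invariants.subtype) =
        (ρ.tprod (Representation.trivial R G N)).invariants := by
  haveI : Fintype G := Fintype.ofFinite G
  rw [Nat.card_eq_fintype_card] at hG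
  obtain ⟨c, hc⟩ := hG.exists_left_inv
  let A : M →ₗ[R] ρ.invariants := LinearMap.codRestrict _ (c • ∑ g, ρ g) fun x g => by
    simp only [LinearMap.smul_apply, LinearMap.sum_apply, map_smul, map_sum]
    congr 1
    simp_rw [← Module.End.mul_apply, ← map_mul]
    exact Fintype.sum_equiv (Equiv.mulLeft g) _ (fun h => ρ h x) fun h => rfl
  have hA : A ∘ₗ ρ.invariants.subtype = LinearMap.id := by
    refine LinearMap.ext fun x => Subtype.ext ?_
    show (c • ∑ g, ρ g) (x : M) = x
    simp only [LinearMap.smul_apply, LinearMap.sum_apply, x.2 _, Finset.sum_const, Finset.card_univ]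
    rw [← Nat.cast_smul_eq_nsmul R, smul_smul, hc, one_smul]
  refine ⟨Function.LeftInverse.injective (g := A.rTensor N) fun x => ?_, le_antisymm ?_ fun z hz => ?_⟩
  · rw [← LinearMap.rTensor_comp_apply, hA, LinearMap.rTensor_id, LinearMap.id_apply]
  · rintro _ ⟨y, rfl⟩ g
    induction y using TensorProduct.induction_on with
    | zero => simp
    | tmul a b => simp [Representation.tprod_apply, a.2 g]
    | add a b ha hb => rw [map_add, map_add, ha, hb]
  · refine ⟨A.rTensor N z, ?_⟩
    rw [← LinearMap.rTensor_comp_apply]
    have h1 : ∀ y, (ρ.invariants.subtype ∘ₗ A).rTensor N y = c • ∑ g, (ρ.tprod (Representation.trivial R G N)) g y := fun y => by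
      induction y using TensorProduct.induction_on with
      | zero => simp
      | tmul a b =>
        rw [LinearMap.rTensor_tmul]
        show ((c • ∑ g, ρ g) a) ⊗ₜ[R] b = _
        simp only [LinearMap.smul_apply, LinearMap.sum_apply]
        rw [← TensorProduct.smul_tmul', TensorProduct.sum_tmul]
        simp [Representation.tprod_apply]
      | add a b ha hb => rw [map_add, ha, hb]; simp [Finset.sum_add_distrib, smul_add]
    rw [h1]
    simp only [hz _, Finset.sum_const, Finset.card_univ]
    rw [← Nat.cast_smul_eq_nsmul R, smul_smul, hc, one_smul]

end Groth.Agent.S18890
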