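import Groth.Statements.S18891
import Mathlib.AlgebraicGeometry.ZariskisMainTheorem
import Mathlib.AlgebraicGeometry.Morphisms.FlatMono
-- import your own Groth.Agent.* helpers here

set_option autoImplicit false
set_option backward.isDefEq.respectTransparency.types false
universe u
open CategoryTheory CategoryTheory.Limits AlgebraicGeometry
open Mor

namespace Groth.Agent.S18891

/-- Let f : X → Y be a morphism of schemes which is proper and formally unramified, and such that for
every algebraically closed field Ω the map X(Ω) → Y(Ω), g ↦ g ≫ f, is injective. Then f is a closed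
immersion. -/
theorem result {X Y : Scheme.{u}} (f : X ⟶ Y)
    [IsProper f] [FormallyUnramified f]
    (hinj : ∀ (Ω : Type u) [Field Ω] [IsAlgClosed Ω],
      Function.Injective (fun g : Spec (CommRingCat.of Ω) ⟶ X => g ≫ f)) :
    IsClosedImmersion f := by
  have hu : UniversallyInjective f := by
    refine ((tfae_universallyInjective f).out 0 1).2 fun K iK g₁ g₂ hg => ?_
    letI := iK
    let φ : K →+* AlgebraicClosure K := algebraMap K (AlgebraicClosure K)
    let s := Spec.map (CommRingCat.ofHom φ)
    have hg' : g₁ ≫ f = g₂ ≫ f := hg
    haveI : Flat s := (Flat.SpecMap_iff).2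
      (RingHom.flat_algebraMap_iff.2 inferInstance)
    haveI : Surjective s := ⟨fun x => ⟨default, Subsingleton.elim _ _⟩⟩
    haveI : Epi s := Flat.epi_of_flat_of_surjective s
    rw [← cancel_epi s]
    exact hinj (AlgebraicClosure K) (by simp only [Category.assoc, hg'])
  haveI : Surjective (pullback.diagonal f) := (UniversallyInjective.iff_diagonal f).1 hu
  haveI : IsIso (pullback.diagonal f) := Flat.isIso_of_surjective_of_mono _
  haveI : Mono f := (pullback.isIso_diagonal_iff f).1 inferInstance
  exact (IsClosedImmersion.iff_isProper_and_mono f).2 ⟨inferInstance, inferInstance⟩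

end Groth.Agent.S18891
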