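import Groth.Statements.S18894
import Groth.Agent.Lib.MinModel32.Main
import Groth.Agent.Lib.ArInter.Smooth
import Groth.Agent.Lib.ArInter.ModelInt
import Groth.Agent.Lib.AbDual21.Phi
import Groth.Agent.Lib.CurveCoh17.GenusBC
import Groth.Agent.Lib.WeilExt.Apply
-- import your own Groth.Agent.* helpers here

set_option autoImplicit false
universe u
open CategoryTheory CategoryTheory.Limits AlgebraicGeometry
open Curves

namespace Groth.Agent.S18894


theorem isSmoothProperCurve_generic {R : Type u} [CommRing R] [IsDomain R] [IsDiscreteValuationRing R] {X : Scheme.{u}}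
    (f : X ⟶ Spec (CommRingCat.of R)) [IsProper f] [Smooth f] [GeometricallyConnected f]
    (η : Spec (CommRingCat.of (FractionRing R)) ⟶ Spec (CommRingCat.of R))
    (hdim : ∀ s : ↥(Spec (CommRingCat.of R)), topologicalKrullDim ↥(f.fiber s) = 1)
    (hη : η = Spec.map (CommRingCat.ofHom (algebraMap R (FractionRing R)))) :
    Curve.IsSmoothProperCurve (FractionRing R) (pullback f η) (pullback.snd f η) ∧
      IsIso (pullback.snd f η).appTop := by
  haveI : IsProper (Over.mk f).hom := ‹IsProper f›
  haveI : Smooth (Over.mk f).hom := ‹Smooth f›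
  haveI : GeometricallyConnected (Over.mk f).hom := ‹GeometricallyConnected f›
  have hb : Function.Bijective (pullback.snd f η).appTop :=
    AbDual21.bijective_appTop_snd (Over.mk f) _ η
  haveI : IsIntegral (pullback f η) := ArInter.isIntegral_of_smooth_constants (pullback.snd f η) hb
  refine ⟨⟨inferInstance, inferInstance, inferInstance, ?_⟩, (ConcreteCategory.isIso_iff_bijective _).mpr hb⟩
  let pt : ↥(Spec (CommRingCat.of (FractionRing R))) := IsLocalRing.closedPoint (FractionRing R)
  haveI : IsPreimmersion η := by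
    rw [hη]; exact IsPreimmersion.of_isLocalization (nonZeroDivisors R)
  haveI : IsPreimmersion (pullback.fst f η) := inferInstance
  have hr : Set.range (pullback.fst f η) = f ⁻¹' {η pt} := by
    rw [Scheme.Pullback.range_fst]
    congr 1
    ext y
    exact ⟨fun ⟨v, hv⟩ => by rw [← hv, Subsingleton.elim v pt]; rfl, fun hy => ⟨pt, hy.symm⟩⟩
  have e : ↥(pullback f η) ≃ₜ ↥(f.fiber (η pt)) :=
    ((pullback.fst f η).isEmbedding.toHomeomorph.trans (Homeomorph.setCongr hr)).trans (f.fiberHomeo (η pt)).symm
  rw [IsHomeomorph.topologicalKrullDim_eq e e.isHomeomorph]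
  exact hdim _

theorem curveGenus_generic {R : Type u} [CommRing R] [IsDomain R] {X : Scheme.{u}}
    (f : X ⟶ Spec (CommRingCat.of R)) [IsProper f] (n : ℕ)
    (η : Spec (CommRingCat.of (FractionRing R)) ⟶ Spec (CommRingCat.of R))
    (hgen : ∀ s : ↥(Spec (CommRingCat.of R)),
      letI : (f.fiber s).Over (Spec ((Spec (CommRingCat.of R)).residueField s)) := ⟨f.fiberToSpecResidueField s⟩
      Curv2.genus ((Spec (CommRingCat.of R)).residueField s) (f.fiber s) = n) :
    Models.curveGenus (FractionRing R) (pullback f η) (pullback.snd f η) = n := by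
  obtain ⟨⟨s, φ⟩, hsφ⟩ : ∃ x, (Scheme.SpecToEquivOfField (FractionRing R) (Spec (CommRingCat.of R))).symm x = η :=
    ⟨_, Equiv.symm_apply_apply _ η⟩
  change Spec.map φ ≫ (Spec (CommRingCat.of R)).fromSpecResidueField s = η at hsφ
  letI : Algebra ((Spec (CommRingCat.of R)).residueField s) (FractionRing R) := φ.hom.toAlgebra
  have hq : Spec.map (CommRingCat.ofHom (algebraMap ((Spec (CommRingCat.of R)).residueField s) (FractionRing R))) =
      Spec.map φ := rfl
  letI : (f.fiber s).Over (Spec ((Spec (CommRingCat.of R)).residueField s)) := ⟨f.fiberToSpecResidueField s⟩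
  letI : (pullback f η).Over (Spec (CommRingCat.of (FractionRing R))) := ⟨pullback.snd f η⟩
  have sq : IsPullback (f.fiberι s) (f.fiberToSpecResidueField s) f
      ((Spec (CommRingCat.of R)).fromSpecResidueField s) := IsPullback.of_hasPullback _ _
  let g : pullback f η ⟶ f.fiber s := sq.lift (pullback.fst f η) (pullback.snd f η ≫ Spec.map φ)
    (by rw [Category.assoc, hsφ]; exact pullback.condition)
  have big : IsPullback (g ≫ f.fiberι s) (pullback.snd f η) f
      (Spec.map φ ≫ (Spec (CommRingCat.of R)).fromSpecResidueField s) := by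
    rw [sq.lift_fst, hsφ]; exact IsPullback.of_hasPullback _ _
  have hl : IsPullback g (pullback.snd f η) (f.fiberToSpecResidueField s) (Spec.map φ) :=
    IsPullback.of_right big (sq.lift_snd _ _ _) sq
  haveI : IsProper (f.fiberToSpecResidueField s) := MorphismProperty.of_isPullback (P := @IsProper) sq inferInstance
  haveI : CompactSpace ↥(f.fiber s) := QuasiCompact.compactSpace_of_compactSpace (f.fiberToSpecResidueField s)
  haveI : QuasiSeparatedSpace ↥(f.fiber s) := quasiSeparatedSpace_of_quasiSeparated (f.fiberToSpecResidueField s)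
  exact (CurveCoh17.finrank_HH_of_isPullback (k := (Spec (CommRingCat.of R)).residueField s) (X := f.fiber s)
    (Y := pullback f η) (K := FractionRing R) (g := g) hl 1).trans (hgen s)

theorem isMinimalModel_of_smooth {R : Type u} [CommRing R] [IsDomain R] [IsDiscreteValuationRing R]
    {C X : Scheme.{u}} {f : C ⟶ Spec (CommRingCat.of (FractionRing R))} (p : X ⟶ Spec (CommRingCat.of R))
    [IsProper p] [Smooth p] (hC : Curve.IsSmoothProperCurve (FractionRing R) C f) (hH0 : IsIso f.appTop)
    {g : C ⟶ X} (hg : IsPullback g f p (Spec.map (CommRingCat.ofHom (algebraMap R (FractionRing R))))) :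
    Models.IsMinimalModel R X p C f :=
  have hX : Models.IsRegularProperModel R X p C f :=
    ⟨⟨inferInstance, inferInstance, inferInstance, g, hg⟩, inferInstance,
      fun x => WeilExt.isRegularLocalRing_stalk_of_smooth p x⟩
  ⟨hX, fun Γ => ArInter.not_isExcCurve_of_smooth hC hH0 hX Γ⟩

/-- Together with the accompanying claim: let R be a discrete valuation ring with fraction field K, η :
Spec K → Spec R the generic point, and f : X → Spec R, g : Y → Spec R two smooth curves of genus n ≥
1 (proper and smooth, with geometrically connected fibres of dimension one and genus n). Then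
restriction to the generic fibre is a bijection from R-isomorphisms X ≅ Y onto K-isomorphisms X_η ≅
Y_η: every isomorphism φ of the generic fibres over Spec K is induced by a unique morphism e : X → Y
compatible with the first projections, and this e is an isomorphism over Spec R. -/
theorem result {R : Type u} [CommRing R] [IsDomain R]
    [IsDiscreteValuationRing R] {X Y : Scheme.{u}}
    (f : X ⟶ Spec (CommRingCat.of R)) (g : Y ⟶ Spec (CommRingCat.of R))
    [IsProper f] [Smooth f] [GeometricallyConnected f] [IsProper g] [Smooth g] [GeometricallyConnected g]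
    (hXdim : ∀ s : ↥(Spec (CommRingCat.of R)), topologicalKrullDim ↥(f.fiber s) = 1)
    (hYdim : ∀ s : ↥(Spec (CommRingCat.of R)), topologicalKrullDim ↥(g.fiber s) = 1)
    (n : ℕ) (hn : 1 ≤ n)
    (hXgen : ∀ s : ↥(Spec (CommRingCat.of R)),
      letI : (f.fiber s).Over (Spec ((Spec (CommRingCat.of R)).residueField s)) := ⟨f.fiberToSpecResidueField s⟩
      Curv2.genus ((Spec (CommRingCat.of R)).residueField s) (f.fiber s) = n)
    (hYgen : ∀ s : ↥(Spec (CommRingCat.of R)),
      letI : (g.fiber s).Over (Spec ((Spec (CommRingCat.of R)).residueField s)) := ⟨g.fiberToSpecResidueField s⟩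
      Curv2.genus ((Spec (CommRingCat.of R)).residueField s) (g.fiber s) = n)
    (η : Spec (CommRingCat.of (FractionRing R)) ⟶ Spec (CommRingCat.of R))
    (hη : η = Spec.map (CommRingCat.ofHom (algebraMap R (FractionRing R))))
    (φ : pullback f η ≅ pullback g η) (hφ : φ.hom ≫ pullback.snd g η = pullback.snd f η) :
    ∃ e : X ≅ Y, e.hom ≫ g = f ∧ pullback.fst f η ≫ e.hom = φ.hom ≫ pullback.fst g η ∧
      ∀ e' : X ⟶ Y, pullback.fst f η ≫ e' = φ.hom ≫ pullback.fst g η → e' = e.hom := by
  subst hη
  obtain ⟨hC, hH0⟩ := isSmoothProperCurve_generic f _ hXdim rfl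
  let η := Spec.map (CommRingCat.ofHom (algebraMap R (FractionRing R)))
  have hg0 : 0 < Models.curveGenus (FractionRing R) (pullback f η) (pullback.snd f η) := by
    rw [curveGenus_generic f n (Spec.map (CommRingCat.ofHom (algebraMap R (FractionRing R)))) hXgen]
    exact hn
  have hgX := IsPullback.of_hasPullback f (Spec.map (CommRingCat.ofHom (algebraMap R (FractionRing R))))
  have hgY : IsPullback (φ.hom ≫ pullback.fst g _) (pullback.snd f _) g
      (Spec.map (CommRingCat.ofHom (algebraMap R (FractionRing R)))) :=
    (IsPullback.of_hasPullback g _).of_iso φ.symm (Iso.refl _) (Iso.refl _) (Iso.refl _)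
      (by simp) (by simp [← hφ]) (by simp) (by simp)
  have hX := isMinimalModel_of_smooth f hC hH0 hgX
  have hY := isMinimalModel_of_smooth g hC hH0 hgY
  obtain ⟨u, hu, hgu⟩ := MinModel.exists_hom hC hH0 hg0 hY hX.1 hgY hgX
  obtain ⟨v, hv, hgv⟩ := MinModel.exists_hom hC hH0 hg0 hX hY.1 hgX hgY
  have e1 : u ≫ v = 𝟙 X := MinModel.hom_unique (p := f) hC hX.1 hgX
    (by rw [Category.assoc, hv, hu, Category.id_comp]) (by rw [← Category.assoc, hgu, hgv, Category.comp_id])
  have e2 : v ≫ u = 𝟙 Y := MinModel.hom_unique (p := g) hC hY.1 hgY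
    (by rw [Category.assoc, hu, hv, Category.id_comp]) (by rw [← Category.assoc, hgv, hgu, Category.comp_id])
  refine ⟨⟨u, v, e1, e2⟩, hu, hgu, fun e' he' => ?_⟩
  haveI : IsIntegral X := MinModel.isIntegral hC hX.1
  haveI : IsOpenImmersion (pullback.fst f (Spec.map (CommRingCat.ofHom (algebraMap R (FractionRing R))))) :=
    ArInter.isOpenImmersion_generic hgX
  haveI := hC.2.2.1
  haveI : IsDominant (pullback.fst f (Spec.map (CommRingCat.ofHom (algebraMap R (FractionRing R))))) :=
    ⟨(Scheme.Hom.isOpenEmbedding _).isOpen_range.dense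
      ⟨_, genericPoint ↥(pullback f (Spec.map (CommRingCat.ofHom (algebraMap R (FractionRing R))))), rfl⟩⟩
  refine MinModel.hom_unique (p := g) hC hX.1 hgX ?_ (he'.trans hgu.symm)
  refine (ext_of_isDominant (pullback.fst f (Spec.map (CommRingCat.ofHom (algebraMap R (FractionRing R))))) ?_).trans hu.symm
  rw [← Category.assoc, he', Category.assoc, pullback.condition, reassoc_of% hφ, pullback.condition]
end Groth.Agent.S18894
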