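import Groth.Statements.S18895
import Groth.Agent.Lib.VB17.Proper
import Groth.Agent.Lib.CurveCoh17.Equality
-- import your own Groth.Agent.* helpers here

set_option autoImplicit false
universe u
open CategoryTheory CategoryTheory.Limits AlgebraicGeometry
open Curves

namespace Groth.Agent.S18895

/-- Let k be an algebraically closed field of characteristic different from 2 (the standing convention
of the section; it plays no role here) and X a connected smooth proper curve over k of genus dim_k
H¹(X, O_X) ≥ 1. For every invertible O_X-module L of positive degree one has dim_k H⁰(X, L) ≤ deg L. -/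
theorem result (k : Type u) [Field k] [IsAlgClosed k] (h2 : (2 : k) ≠ 0)
    (X : Scheme.{u}) [X.Over (Spec (CommRingCat.of k))]
    [IsProper (X ↘ Spec (CommRingCat.of k))] [Smooth (X ↘ Spec (CommRingCat.of k))] [ConnectedSpace ↥X]
    (hX : topologicalKrullDim ↥X = 1) (hg : 1 ≤ Curv2.genus k X)
    (L : X.Modules) (hL : PicF.IsInvertible L) (hdeg : 0 < Curv2.deg k X L 1) :
    (Module.finrank k (Coh.HH X L 0) : ℤ) ≤ Curv2.deg k X L 1 := by
  haveI := Groth.Agent.GeomIrr.geometricallyConnected_of_isSepClosed (X ↘ Spec (CommRingCat.of k))
  haveI := VB17.isIntegral_of_smooth (k := k) (X := X)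
  have hC := VB17.curveLike (k := k) hX
  haveI := hC.noetherian
  have h0 := VB17.h0_one_of_smooth (k := k) (X := X)
  by_cases hs : Nontrivial (Coh.HH X L 0)
  · have h := hC.h0_le_deg_add (CurveCoh17.rkOne_of_invertible hX.le hL) hs
    rw [h0] at h
    by_contra hne
    have := hC.genus_eq_zero_of_h0_eq_deg_add_one h0 hL (by omega) hdeg
    omega
  · rw [not_nontrivial_iff_subsingleton] at hs
    rw [Module.finrank_zero_of_subsingleton (M := Coh.HH X L 0)]
    omega

end Groth.Agent.S18895
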