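import Groth.Statements.S18896
import Groth.Agent.Lib.CurveR1_10.Basic
import Groth.Agent.Lib.AbRigid.SmoothGI
import Groth.Agent.Lib.AmpleFib.CurveRel
-- import your own Groth.Agent.* helpers here

set_option autoImplicit false
universe u
open CategoryTheory CategoryTheory.Limits AlgebraicGeometry
open Curves

namespace Groth.Agent.S18896

/-- Let f : X → S be a smooth curve of genus g over a scheme S, i.e. f is proper and smooth and its
fibres are geometrically connected of dimension one and genus g (g the dimension of H¹ of the
structure sheaf of each fibre over its residue field). Then R¹f_*(O_X) is a locally free O_S-module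
of rank g. -/
theorem result {X S : Scheme.{u}} (f : X ⟶ S)
    [IsProper f] [Smooth f] [GeometricallyConnected f]
    (hdim : ∀ s : S, topologicalKrullDim ↥(f.fiber s) = 1) (g : ℕ)
    (hgen : ∀ s : S, letI : (f.fiber s).Over (Spec (S.residueField s)) := ⟨f.fiberToSpecResidueField s⟩
      Curv2.genus (S.residueField s) (f.fiber s) = g)
    [HasInjectiveResolutions X.Modules] :
    FlatMod.IsFinLocFreeOfRank g ((Coh.Rpush f 1).obj (Coh.structureModule X)) := by
  haveI := Groth.Agent.AbRigid.geometricallyReduced_of_smooth f
  have hsec : ∀ s : S, Function.Surjective (f.fiberToSpecResidueField s).appTop := fun s => by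
    have sq : IsPullback (f.fiberι s) (f.fiberToSpecResidueField s) f (S.fromSpecResidueField s) :=
      IsPullback.of_hasPullback _ _
    haveI : GeometricallyConnected (f.fiberToSpecResidueField s) :=
      MorphismProperty.of_isPullback (P := @GeometricallyConnected) sq inferInstance
    exact (Groth.Agent.CurveR1_10.bijective_appTop_fiber f s).2
  refine Groth.Agent.CurveR1_10.isFinLocFreeOfRank_R1 f (fun s => (hdim s).le) hsec fun s => ?_
  letI : (f.fiber s).Over (Spec (S.residueField s)) := ⟨f.fiberToSpecResidueField s⟩
  exact ((Groth.Agent.CurveCoh17.hequiv (S.residueField s) (Groth.Agent.Twist.pullbackUnitIso (f.fiberι s)) 1).finrank_eq).trans (hgen s)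

end Groth.Agent.S18896
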