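import Groth.Statements.S18897
import Groth.Agent.Lib.QuotCurve17.Basic
import Groth.Agent.Lib.VB17.Setup
import Groth.Agent.Lib.VarDim.Irred
import Groth.Agent.S0115
-- import your own Groth.Agent.* helpers here

set_option autoImplicit false
set_option linter.style.haveILetI false
set_option backward.isDefEq.respectTransparency false
universe u
open CategoryTheory CategoryTheory.Limits AlgebraicGeometry
open Curves

namespace Groth.Agent.S18897

open Groth.Agent

/-- Let k be a field, p : X → Spec k a smooth, proper, geometrically connected curve (X of dimension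
one), and G a finite group acting faithfully on X by k-automorphisms, with the order of G invertible
in k. Let π : X → Y be a k-morphism which is a quotient of X by G: π is affine and G-invariant and
over every open of Y the sections of O_Y are exactly the G-invariant sections of O_X. Then Y is a
smooth, proper, geometrically connected curve over k and π is a cover of degree |G|: finite, flat,
of rank |G| at every point. (The source says projective where this row says proper; for curves over
a field the two agree.) -/
theorem result (k : Type u) [Field k]
    {X Y : Scheme.{u}} (p : X ⟶ Spec (CommRingCat.of k)) [IsProper p] [Smooth p] [GeometricallyConnected p]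
    (hX : topologicalKrullDim ↥X = 1)
    {G : Type u} [Group G] [Finite G] (hG : ((Nat.card G : ℕ) : k) ≠ 0)
    (ρ : G →* Aut X) (hρ : Function.Injective ρ) (hρk : ∀ g : G, (ρ g).hom ≫ p = p)
    (π : X ⟶ Y) (q : Y ⟶ Spec (CommRingCat.of k)) (hπ : π ≫ q = p) (hquot : SGA1.IsQuot ρ π) :
    IsProper q ∧ Smooth q ∧ GeometricallyConnected q ∧ topologicalKrullDim ↥Y = 1 ∧
      IsFinite π ∧ Flat π ∧ ∀ y : Y, π.finrank y = Nat.card G := by
  classical
  letI : X.Over (Spec (CommRingCat.of k)) := ⟨p⟩
  haveI : IsProper (X ↘ Spec (CommRingCat.of k)) := ‹IsProper p›
  haveI : Smooth (X ↘ Spec (CommRingCat.of k)) := ‹Smooth p›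
  haveI : GeometricallyConnected (X ↘ Spec (CommRingCat.of k)) := ‹GeometricallyConnected p›
  haveI : IsIntegral X := VB17.isIntegral_of_smooth (k := k) (X := X)
  haveI : X.IsSeparated := VB17.isSeparated_of_over (k := k)
  haveI : LocallyOfFiniteType (π ≫ q) := by rw [hπ]; infer_instance
  haveI : QuasiCompact (π ≫ q) := by rw [hπ]; infer_instance
  haveI : IsSeparated (π ≫ q) := by rw [hπ]; infer_instance
  haveI : Smooth (π ≫ q) := by rw [hπ]; infer_instance
  haveI : UniversallyClosed (π ≫ q) := by rw [hπ]; infer_instance
  haveI := IsQuot25.isFinite_of_comp hquot q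
  haveI : Surjective π := ⟨IsQuot25.surjective hquot⟩
  haveI := IsQuot25.locallyOfFiniteType hquot q
  haveI := IsQuot25.quasiCompact hquot q
  haveI := (IsQuot25.isSeparated_iff hquot q).1 inferInstance
  haveI : UniversallyClosed q := UniversallyClosed.of_comp_surjective π q
  haveI : IsProper q := {}
  haveI := LocallyOfFiniteType.isLocallyNoetherian q
  haveI := QuotCurve17.isIntegral_quot hquot
  haveI : Flat π := QuotCurve17.flat_quot k hX.le hquot
  haveI : LocallyOfFinitePresentation π := VarDim.locallyOfFinitePresentation_of_locallyNoetherian π
  haveI : Smooth q := S0115.result π q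
  refine ⟨inferInstance, inferInstance, ?_, le_antisymm ?_ ?_, inferInstance, inferInstance,
    QuotCurve17.finrank_quot hρ hquot⟩
  · refine ⟨fun K _ y Z fst snd hpb => ?_⟩
    let m : pullback p y ⟶ Z := hpb.lift (pullback.fst p y ≫ π) (pullback.snd p y)
      (by rw [Category.assoc, hπ]; exact pullback.condition)
    have hsq : IsPullback (pullback.fst p y) m π fst := by
      refine IsPullback.of_bot ?_ (hpb.lift_fst _ _ _).symm hpb
      rw [hπ, hpb.lift_snd]
      exact IsPullback.of_hasPullback p y
    haveI : Surjective m := MorphismProperty.of_isPullback (P := @Surjective) hsq inferInstance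
    haveI : ConnectedSpace ↥(pullback p y) :=
      GeometricallyConnected.geometrically_connectedSpace _ _ _ (IsPullback.of_hasPullback p y)
    exact m.surjective.connectedSpace m.continuous
  · rw [← hX]
    exact H12.topologicalKrullDim_le_of_surjective_of_lift _ π.surjective
      (Or.inl π.isClosedMap.specializingMap)
  · rw [← hX]
    exact AlgSpDecent.topologicalKrullDim_le_of_lqf π


end Groth.Agent.S18897
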