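import Groth.Statements.S18898
import Groth.Agent.Lib.CurveModel9.Main
-- import your own Groth.Agent.* helpers here

set_option autoImplicit false
set_option backward.isDefEq.respectTransparency false
universe u
open CategoryTheory CategoryTheory.Limits AlgebraicGeometry
open Curves

namespace Groth.Agent.S18898

/-- Take an affine base S and a smooth genus-g curve f : X → S over it (proper and smooth, with
geometrically connected fibres of dimension one and genus g). Then there exist an affine scheme S₀
whose ring of global sections is of finite type over ℤ (in particular S₀ is Noetherian), a morphism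
u : S → S₀ which is injective on global sections (so that S₀ is the spectrum of a subring of
O_S(S)), and a smooth curve of genus g, f₀ : X₀ → S₀, together with a cartesian square making f the
base change of f₀ along u. -/
theorem result {X S : Scheme.{u}} (f : X ⟶ S) [IsAffine S]
    [IsProper f] [Smooth f] [GeometricallyConnected f]
    (hdim : ∀ s : S, topologicalKrullDim ↥(f.fiber s) = 1) (g : ℕ)
    (hgen : ∀ s : S, letI : (f.fiber s).Over (Spec (S.residueField s)) := ⟨f.fiberToSpecResidueField s⟩
      Curv2.genus (S.residueField s) (f.fiber s) = g) :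
    ∃ (S₀ X₀ : Scheme.{u}) (f₀ : X₀ ⟶ S₀) (u : S ⟶ S₀) (v : X ⟶ X₀),
      IsAffine S₀ ∧ Algebra.FiniteType ℤ Γ(S₀, ⊤) ∧ Function.Injective (u.appTop).hom ∧
      IsPullback v f f₀ u ∧ IsProper f₀ ∧ Smooth f₀ ∧ GeometricallyConnected f₀ ∧
      (∀ s : S₀, topologicalKrullDim ↥(f₀.fiber s) = 1) ∧
      ∀ s : S₀, letI : (f₀.fiber s).Over (Spec (S₀.residueField s)) := ⟨f₀.fiberToSpecResidueField s⟩
        Curv2.genus (S₀.residueField s) (f₀.fiber s) = g := by
  let e := S.isoSpec
  have hsqe : IsPullback (𝟙 X) f (f ≫ e.hom) e.hom := IsPullback.of_horiz_isIso ⟨by simp⟩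
  haveI : GeometricallyConnected (f ≫ e.hom) :=
    (MorphismProperty.cancel_right_of_respectsIso @GeometricallyConnected f e.hom).2 ‹_›
  have hsqi : IsPullback (𝟙 X) (f ≫ e.hom) f e.inv := IsPullback.of_horiz_isIso ⟨by simp⟩
  have hdim' : ∀ s, topologicalKrullDim ↥((f ≫ e.hom).fiber s) = 1 := fun s =>
    (CurveModel9.krullDim_fiber_eq hsqi s).trans (hdim _)
  have hgen' : ∀ s, CurveModel9.fgenus (f ≫ e.hom) s = g := fun s => by
    have hG := CurveModel9.good_of_pull (IsPullback.id_horiz f) (e.inv s) (hdim _) (hgen _)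
    exact (hG.pull hsqi).2.2
  obtain ⟨A₁, hA₁, X₁, f₁, v, hsq, hpr, hsm, hgood⟩ :=
    CurveModel9.exists_model (A := Γ(S, ⊤)) (f ≫ e.hom) hdim' g hgen'
  refine ⟨_, X₁, f₁, e.hom ≫ Spec.map (CommRingCat.ofHom (algebraMap (↥A₁) Γ(S, ⊤))), v, inferInstance, ?_, ?_,
    ?_, hpr, hsm, ?_, fun s => (hgood s).2.1, fun s => (hgood s).2.2⟩
  · haveI := (Subalgebra.fg_iff_finiteType A₁).1 hA₁
    exact Algebra.FiniteType.equiv inferInstance
      (Scheme.ΓSpecIso (CommRingCat.of ↥A₁)).symm.commRingCatIsoToRingEquiv.toIntAlgEquiv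
  · rw [Scheme.Hom.comp_appTop, CommRingCat.hom_comp, RingHom.coe_comp]
    refine Function.Injective.comp ?_ ?_
    · exact (ConcreteCategory.bijective_of_isIso (e.hom.appTop)).1
    · intro a b h
      apply (Scheme.ΓSpecIso (CommRingCat.of ↥A₁)).commRingCatIsoToRingEquiv.injective
      have h1 := congrArg (Scheme.ΓSpecIso (CommRingCat.of Γ(S, ⊤))).hom.hom h
      have h2 := fun z => ConcreteCategory.congr_hom
        (Scheme.ΓSpecIso_naturality (CommRingCat.ofHom (algebraMap (↥A₁) Γ(S, ⊤)))) z
      exact Subtype.val_injective ((h2 a).symm.trans (h1.trans (h2 b)))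
  · simpa using (hsqe.paste_horiz hsq)
  · rw [GeometricallyConnected.iff_geometricallyConnected_fiber]
    intro s
    haveI := (hgood s).1
    exact GeomIrr.geometricallyConnected_of_irreducible _

end Groth.Agent.S18898
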