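import Groth.Statements.S18899
import Mathlib
import Groth.Agent.Lib.H2Alg.WeakAss

set_option autoImplicit false
universe u v w
open CAlg

namespace Groth.Agent.S18899
open TensorProduct

/-- Let A be a commutative ring on which a finite group G acts by ring automorphisms, with ring of
invariants A^G, and let K be a field. If two ring homomorphisms f₁, f₂ : A → K have the same
restriction to A^G, then f₂ = f₁ ∘ γ for some γ ∈ G. -/
theorem result {A : Type u} [CommRing A] {G : Type v} [Group G] [Finite G]
    [MulSemiringAction G A] {K : Type w} [Field K] (f₁ f₂ : A →+* K)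
    (h : ∀ a : A, (∀ g : G, g • a = a) → f₁ a = f₂ a) :
    ∃ γ : G, ∀ a : A, f₂ a = f₁ (γ • a) := by
  classical
  have : Fintype G := Fintype.ofFinite G
  by_contra! hc
  choose a ha using hc
  let e : G ↪ ℕ := ⟨fun g => (Fintype.equivFin G g : ℕ), fun x y h => (Fintype.equivFin G).injective (Fin.ext h)⟩
  let F : Polynomial A := ∑ g : G, Polynomial.C (a g) * Polynomial.X ^ (e g)
  let t : G → Polynomial A := fun g => F.map (MulSemiringAction.toRingHom G A g)
  let P : Polynomial (Polynomial A) := ∏ g : G, (Polynomial.X - Polynomial.C (t g))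
  have htg : ∀ h g, (t g).map (MulSemiringAction.toRingHom G A h) = t (h * g) := fun h g => by
    simp only [t, Polynomial.map_map]
    congr 1
    ext x
    simp [mul_smul]
  have hinv : ∀ h : G, P.map (Polynomial.mapRingHom (MulSemiringAction.toRingHom G A h)) = P := fun h => by
    simp only [P, Polynomial.map_prod, Polynomial.map_sub, Polynomial.map_X, Polynomial.map_C, Polynomial.coe_mapRingHom, htg]
    exact Equiv.prod_comp (Equiv.mulLeft h) fun g => Polynomial.X - Polynomial.C (t g)
  have hPeq : P.map (Polynomial.mapRingHom f₁) = P.map (Polynomial.mapRingHom f₂) := by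
    ext i j
    simp only [Polynomial.coeff_map, Polynomial.coe_mapRingHom]
    refine h _ fun g => ?_
    conv_rhs => rw [← hinv g]
    simp [Polynomial.coeff_map, Polynomial.coe_mapRingHom]
  have hroot : (P.map (Polynomial.mapRingHom f₁)).eval (F.map f₂) = 0 := by
    rw [hPeq, ← Polynomial.coe_mapRingHom f₂, Polynomial.eval_map, Polynomial.eval₂_at_apply]
    have : Polynomial.eval F P = 0 := by
      simp only [P, Polynomial.eval_prod]
      refine Finset.prod_eq_zero (Finset.mem_univ (1 : G)) ?_
      have : MulSemiringAction.toRingHom G A 1 = RingHom.id A := by ext x; simp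
      simp [t, this]
    rw [this, map_zero]
  simp only [P, Polynomial.map_prod, Polynomial.map_sub, Polynomial.map_X, Polynomial.map_C, Polynomial.eval_prod, Polynomial.eval_sub, Polynomial.eval_X, Polynomial.eval_C, Polynomial.coe_mapRingHom] at hroot
  obtain ⟨g, -, hg⟩ := Finset.prod_eq_zero_iff.1 hroot
  refine ha g ?_
  have := congrArg (fun q => q.coeff (e g)) (sub_eq_zero.1 hg)
  simpa [t, F, Polynomial.coeff_map, Polynomial.coeff_X_pow, e.injective.eq_iff, Finset.sum_ite_eq, Polynomial.map_sum] using this

end Groth.Agent.S18899
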