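import Groth.Statements.S1890
import Groth.Agent.Lib.GrpdB.Calc
import Groth.Agent.Lib.GrpdB.Topology

set_option autoImplicit false
universe u
open CategoryTheory CategoryTheory.Limits AlgebraicGeometry
open Grpd

namespace Groth.Agent.S1890

/-- Take a quasi-compact immersion j : V → Spec A and an element f ∈ A such that j⁻¹(D(f)) is affine and
j(V) ∩ V(f) is closed in Spec A. Then V is affine. -/
theorem result (A : Type u) [CommRing A] (V : Scheme.{u}) (j : V ⟶ Spec (CommRingCat.of A)) [IsImmersion j] [QuasiCompact j] (f : A) (haff : IsAffineOpen (j ⁻¹ᵁ PrimeSpectrum.basicOpen f)) (hcl : IsClosed (Set.range ⇑j ∩ PrimeSpectrum.zeroLocus {f})) : IsAffine V := by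
  haveI : IsAffineHom j := by
    have hcov : ∀ x : Spec (CommRingCat.of A), ∃ g : A, x ∈ PrimeSpectrum.basicOpen g ∧
        IsAffineOpen (j ⁻¹ᵁ PrimeSpectrum.basicOpen g) := by
      intro x
      by_cases hxf : x ∈ PrimeSpectrum.basicOpen f
      · exact ⟨f, hxf, haff⟩
      by_cases hxC : x ∈ Set.range j
      · obtain ⟨_, ⟨g, rfl⟩, hxg, hgU⟩ := PrimeSpectrum.isTopologicalBasis_basic_opens.exists_subset_of_mem_open
          (show x ∈ (j.coborderRange : Set _) from subset_coborder hxC) j.coborderRange.2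
        refine ⟨g, hxg, ?_⟩
        have hU : IsAffineOpen (j.coborderRange.ι ⁻¹ᵁ PrimeSpectrum.basicOpen g) :=
          IsAffineOpen.preimage_of_isOpenImmersion (IsAffineOpen.Spec_basicOpen g) _ (fun v hv => by simpa [SetLike.mem_coe] using (show v ∈ j.coborderRange from hgU hv))
        have := hU.preimage j.liftCoborder
        rwa [show j.liftCoborder ⁻¹ᵁ j.coborderRange.ι ⁻¹ᵁ PrimeSpectrum.basicOpen g = (j.liftCoborder ≫ j.coborderRange.ι) ⁻¹ᵁ PrimeSpectrum.basicOpen g from rfl, Scheme.Hom.liftCoborder_ι] at this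
      · obtain ⟨_, ⟨g, rfl⟩, hxg, hgU⟩ := PrimeSpectrum.isTopologicalBasis_basic_opens.exists_subset_of_mem_open
          (show x ∈ (Set.range ⇑j ∩ PrimeSpectrum.zeroLocus {f})ᶜ from fun h => hxC h.1) hcl.isOpen_compl
        refine ⟨g, hxg, ?_⟩
        let t : Γ(Spec (CommRingCat.of A), ⊤) := (Scheme.ΓSpecIso (CommRingCat.of A)).inv g
        have hb := haff.basicOpen (V.presheaf.map (homOfLE le_top).op (j.appTop t))
        rw [Scheme.basicOpen_res, show V.basicOpen (j.appTop t) = j ⁻¹ᵁ PrimeSpectrum.basicOpen g by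
          rw [← Scheme.preimage_basicOpen_top, basicOpen_eq_of_affine]] at hb
        have hle : j ⁻¹ᵁ PrimeSpectrum.basicOpen g ≤ j ⁻¹ᵁ PrimeSpectrum.basicOpen f := fun v hv => by
          by_contra hvf
          refine hgU hv ⟨⟨v, rfl⟩, ?_⟩
          exact Set.singleton_subset_iff.2 (not_not.1 hvf)
        rwa [inf_eq_right.2 hle] at hb
    exact isAffineHom_of_forall_exists_isAffineOpen _ fun x =>
      let ⟨g, h1, h2⟩ := hcov x
      ⟨_, h1, IsAffineOpen.Spec_basicOpen (R := CommRingCat.of A) g, h2⟩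
  exact isAffine_of_isAffineHom j

end Groth.Agent.S1890
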