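import Groth.Statements.S18910
import Groth.Agent.Lib.AmpleFib.CurveRel

set_option autoImplicit false
universe u
open CategoryTheory CategoryTheory.Limits AlgebraicGeometry
open Curves

namespace Groth.Agent.S18910

/-- Let f : X → S be a smooth curve of genus g ≥ 2 over a scheme S (proper and smooth, geometrically
connected fibres of dimension one and genus g) and n ≥ 3. Then ω_f^{⊗n} = Ω_{X/S}^{⊗n} is very ample
relative to f: there are a quasi-coherent O_S-module E and an S-immersion i of X into the projective
bundle P(E) with Ω_{X/S}^{⊗n} isomorphic to i^*O_{P(E)}(1) (existence of an isomorphism, as in the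
definition of relative very ampleness). (The second assertion of the published statement, that
f_*ω_f^{⊗n} is locally free of rank (2n − 1)(g − 1), is not restated here.) -/
theorem result {X S : Scheme.{u}} (f : X ⟶ S)
    [IsProper f] [Smooth f] [GeometricallyConnected f]
    (hdim : ∀ s : S, topologicalKrullDim ↥(f.fiber s) = 1) (g : ℕ) (hg : 2 ≤ g)
    (hgen : ∀ s : S, letI : (f.fiber s).Over (Spec (S.residueField s)) := ⟨f.fiberToSpecResidueField s⟩
      Curv2.genus (S.residueField s) (f.fiber s) = g)
    (n : ℕ) (hn : 3 ≤ n) :
    RelProj.IsRelVeryAmple f (CohB1.tensorPow (Omega.sheaf f) n) := by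
  have hΩ := AmpleFib.isInvertible_omega f hdim
  refine AmpleFib.isRelVeryAmple_of_deg f hdim (Amp.isInvertible_tensorPow hΩ n) fun s => ?_
  letI : (f.fiber s).Over (Spec (S.residueField s)) := ⟨f.fiberToSpecResidueField s⟩
  have sq : IsPullback (f.fiberι s) (f.fiberToSpecResidueField s) f (S.fromSpecResidueField s) :=
    IsPullback.of_hasPullback _ _
  haveI : IsProper (f.fiberToSpecResidueField s) := MorphismProperty.of_isPullback (P := @IsProper) sq inferInstance
  haveI : IsProper ((f.fiber s) ↘ Spec (CommRingCat.of (S.residueField s))) := ‹IsProper (f.fiberToSpecResidueField s)›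
  haveI : Smooth ((f.fiber s) ↘ Spec (CommRingCat.of (S.residueField s))) :=
    MorphismProperty.of_isPullback (P := @Smooth) sq inferInstance
  haveI : GeometricallyConnected ((f.fiber s) ↘ Spec (CommRingCat.of (S.residueField s))) :=
    MorphismProperty.of_isPullback (P := @GeometricallyConnected) sq inferInstance
  obtain ⟨hΩs, hd⟩ := AmpleFib.deg_omega_of_smooth_connected (k := S.residueField s) (hdim s)
  obtain ⟨e⟩ := AmpleFib.nonempty_omega_pullback sq
  rw [CurveCoh17.deg_iso (k := S.residueField s) (M2.pullTensorPowIso (f.fiberι s) (Omega.sheaf f) n ≪≫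
      M2.tensorPowIso e n),
    hgen s]
  refine le_of_le_of_eq ?_ ((VB17.curveLike (k := S.residueField s) (hdim s)).deg_tensorPow hΩs n).symm
  rw [hd, hgen s]
  have h2 : (2 : ℤ) ≤ g := by exact_mod_cast hg
  have h3 : (3 : ℤ) ≤ n := by exact_mod_cast hn
  nlinarith

end Groth.Agent.S18910
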