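import Groth.Statements.S18904
import Groth.Agent.S18910
import Groth.Agent.Lib.AmpleFib.CurvePush
import Groth.Agent.Lib.VeryAmple11.ProjCrit
-- import your own Groth.Agent.* helpers here

set_option autoImplicit false
universe u
open CategoryTheory CategoryTheory.Limits AlgebraicGeometry
open Curves

namespace Groth.Agent.S18904

/-- A smooth curve of genus g ≥ 2, i.e. a proper smooth morphism f : X → S whose fibres are
geometrically connected of dimension one and genus g, is a projective morphism: X is isomorphic over
S to the homogeneous spectrum of a quasi-coherent graded O_S-algebra generated by its degree-one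
part, the latter of finite type. -/
theorem result {X S : Scheme.{u}} (f : X ⟶ S)
    [IsProper f] [Smooth f] [GeometricallyConnected f]
    (hdim : ∀ s : S, topologicalKrullDim ↥(f.fiber s) = 1) (g : ℕ) (hg : 2 ≤ g)
    (hgen : ∀ s : S, letI : (f.fiber s).Over (Spec (S.residueField s)) := ⟨f.fiberToSpecResidueField s⟩
      Curv2.genus (S.residueField s) (f.fiber s) = g) :
    RelProj.IsProjective f := by
  haveI : HasInjectiveResolutions X.Modules := Groth.Agent.CohFound.hasInjectiveResolutions_modules X
  have hΩ := Groth.Agent.AmpleFib.isInvertible_omega f hdim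
  have hL := Groth.Agent.Amp.isInvertible_tensorPow hΩ 3
  have hfib := Groth.Agent.AmpleFib.fibre_tensorPow_omega f hdim hg hgen (n := 3) (by norm_num)
  obtain ⟨hpush, -⟩ := Groth.Agent.AmpleFib.push_of_h1 (f := f) (fun s => (hdim s).le) hL
    (fun s => (hfib s).1) (fun s => (hfib s).2)
  have hfree : FlatMod.IsFinLocFree ((Scheme.Modules.pushforward f).obj (CohB1.tensorPow (Omega.sheaf f) 3)) :=
    fun x => by
      obtain ⟨U, hx, he⟩ := hpush x
      exact ⟨U, _, hx, he⟩
  obtain ⟨E, φ, -, hva⟩ := Groth.Agent.VA11.exists_va_of_isRelVeryAmple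
    (Groth.Agent.S18910.result f hdim g hg hgen 3 le_rfl)
  exact Groth.Agent.VA11.isProjective_of_vamp (φ := 𝟙 _) (Groth.Agent.M2.isQCoh_of_isFinLocFree hfree)
    (Groth.Agent.M1.isFP_isFT (Groth.Agent.M1.isFP_of_isFinLocFree hfree))
    (Groth.Agent.VA11.vamp_of_forall fun U hU => Groth.Agent.VA11.va_id_of_va (hva U hU))

end Groth.Agent.S18904
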