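import Groth.Statements.S18907
import Groth.Agent.Lib.QuotInv1.Alg
import Groth.Agent.Lib.IsQuot25.Props
import Groth.Agent.Lib.QuotProj11.Proper

set_option autoImplicit false
universe u
open CategoryTheory CategoryTheory.Limits AlgebraicGeometry
open Curves

namespace Groth.Agent.S18907

set_option linter.style.haveILetI false
set_option backward.isDefEq.respectTransparency.types false
section Aux

variable {X Y S : Scheme.{u}} {G : Type u} [Group G] [Finite G] {ρ : G →* Aut X} {π : X ⟶ Y}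

open Groth.Agent in
theorem charts (hp : SGA1.IsQuot ρ π) (q : Y ⟶ S)
    (hG : IsUnit ((Nat.card G : ℕ) : Γ(S, ⊤))) (W : S.affineOpens) (V : Y.affineOpens) (e : V.1 ≤ q ⁻¹ᵁ W.1) :
    (Flat (π ≫ q) → (q.appLE W.1 V.1 e).hom.Flat) ∧
    (LocallyOfFinitePresentation (π ≫ q) →
      (q.appLE W.1 V.1 e).hom.FinitePresentation ∧ (π.app V.1).hom.FinitePresentation) := by
  have hV' := IsQuot25.isAffineOpen_preimage hp V.2
  have e' : π ⁻¹ᵁ V.1 ≤ (π ≫ q) ⁻¹ᵁ W.1 := (TopologicalSpace.Opens.map π.base).monotone e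
  letI := (q.appLE W.1 V.1 e).hom.toAlgebra
  letI := (π.app V.1).hom.toAlgebra
  letI := ((π ≫ q).appLE W.1 (π ⁻¹ᵁ V.1) e').hom.toAlgebra
  haveI : IsScalarTower Γ(S, W.1) Γ(Y, V.1) Γ(X, π ⁻¹ᵁ V.1) := .of_algebraMap_eq' (by
    show ((π ≫ q).appLE W.1 (π ⁻¹ᵁ V.1) e').hom = (π.app V.1).hom.comp (q.appLE W.1 V.1 e).hom
    rw [← CommRingCat.hom_comp, π.app_eq_appLE, Scheme.Hom.appLE_comp_appLE])
  letI := IsQuot25.action hp.inv V.1
  haveI := IsQuot25.isInvariant hp V.1
  haveI := IsQuot25.smulCommClass hp.inv V.1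
  haveI : Algebra.IsIntegral Γ(Y, V.1) Γ(X, π ⁻¹ᵁ V.1) :=
    Algebra.IsInvariant.isIntegral Γ(Y, V.1) Γ(X, π ⁻¹ᵁ V.1) G
  have hu : IsUnit ((Nat.card G : ℕ) : Γ(Y, V.1)) := by
    have h := hG.map (q.appLE ⊤ V.1 (fun _ _ => trivial)).hom
    rwa [map_natCast] at h
  obtain ⟨r, hr⟩ := QuotInv1.exists_retraction Γ(Y, V.1) Γ(X, π ⁻¹ᵁ V.1) G (hp.injective V.1) hu
  refine ⟨fun h => ?_, fun h => ?_⟩
  · haveI : Module.Flat Γ(S, W.1) Γ(X, π ⁻¹ᵁ V.1) :=
      HasRingHomProperty.appLE @Flat (π ≫ q) h W ⟨π ⁻¹ᵁ V.1, hV'⟩ e'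
    exact QuotInv1.flat_of_retraction r hr
  · haveI : Algebra.FinitePresentation Γ(S, W.1) Γ(X, π ⁻¹ᵁ V.1) :=
      HasRingHomProperty.appLE @LocallyOfFinitePresentation (π ≫ q) h W ⟨π ⁻¹ᵁ V.1, hV'⟩ e'
    exact QuotInv1.finitePresentation_of_retraction r hr

theorem finitePresentation_quot (hp : SGA1.IsQuot ρ π) (q : Y ⟶ S)
    (hG : IsUnit ((Nat.card G : ℕ) : Γ(S, ⊤))) [LocallyOfFinitePresentation (π ≫ q)] :
    LocallyOfFinitePresentation q ∧ LocallyOfFinitePresentation π := by
  refine ⟨(HasRingHomProperty.iff_appLE (P := @LocallyOfFinitePresentation)).2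
    fun {W V} e => ((charts hp q hG W V e).2 ‹_›).1, ?_⟩
  haveI := hp.affine
  have hb : TopologicalSpace.Opens.IsBasis
      {V : Y.Opens | IsAffineOpen V ∧ ∃ W : S.affineOpens, V ≤ q ⁻¹ᵁ W.1} := by
    rw [TopologicalSpace.Opens.isBasis_iff_nbhd]
    intro U y hy
    obtain ⟨W, hW, hyW, -⟩ := exists_isAffineOpen_mem_and_subset (show q y ∈ (⊤ : S.Opens) from trivial)
    obtain ⟨V, hV, hyV, hVle⟩ := exists_isAffineOpen_mem_and_subset
      (show y ∈ U ⊓ q ⁻¹ᵁ W from ⟨hy, hyW⟩)
    exact ⟨V, ⟨hV, ⟨W, hW⟩, fun x hx => (hVle hx).2⟩, hyV, fun x hx => (hVle hx).1⟩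
  refine IsZariskiLocalAtTarget.of_iSup_eq_top (P := @LocallyOfFinitePresentation)
    (fun V : {V : Y.Opens | IsAffineOpen V ∧ ∃ W : S.affineOpens, V ≤ q ⁻¹ᵁ W.1} => V.1) ?_ fun V => ?_
  · exact top_le_iff.1 fun y _ => by
      obtain ⟨V, hV, hy, -⟩ := TopologicalSpace.Opens.isBasis_iff_nbhd.1 hb (show y ∈ (⊤ : Y.Opens) from trivial)
      exact TopologicalSpace.Opens.mem_iSup.2 ⟨⟨V, hV⟩, hy⟩
  · obtain ⟨V, hV, W, hle⟩ := V
    haveI : IsAffine (V : Scheme) := hV
    haveI : IsAffine ((π ⁻¹ᵁ V : X.Opens) : Scheme) := Groth.Agent.IsQuot25.isAffineOpen_preimage hp hV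
    rw [HasRingHomProperty.iff_of_isAffine (P := @LocallyOfFinitePresentation)]
    show ((π ∣_ V).appTop).hom.FinitePresentation
    rw [morphismRestrict_appTop]
    have hi : IsIso (X.presheaf.map (eqToHom (image_morphismRestrict_preimage π V ⊤)).op) := inferInstance
    have h0 : (π.app (V.ι ''ᵁ ⊤)).hom.FinitePresentation := by
      rw [Scheme.Opens.ι_image_top]
      exact ((charts hp q hG W ⟨V, hV⟩ hle).2 ‹_›).2
    exact RingHom.finitePresentation_stableUnderComposition _ _ h0
      (RingHom.FinitePresentation.of_bijective (ConcreteCategory.bijective_of_isIso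
        (X.presheaf.map (eqToHom (image_morphismRestrict_preimage π V ⊤)).op)))

end Aux


/-- Let f : X → S be a projective morphism of schemes (X ≅ Proj of a quasi-coherent graded O_S-algebra
generated in degree one with degree-one part of finite type), G a finite group acting on X by
S-automorphisms, and π : X → Y, with q : Y → S and π ≫ q = f, a quotient of X by G: π is affine and
G-invariant and over every open of Y the sections of O_Y are exactly the G-invariant sections of
O_X. Then π is surjective, finite, open and closed. If moreover the order of G is invertible in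
O_S(S), then: Y is flat over S whenever X is; q is separated; and if f is locally of finite
presentation then q is proper and locally of finite presentation and π is locally of finite
presentation. (The existence of the quotient, parts (1), (2), and the base-change statement (5) of
the source are not stated.) -/
theorem result {X Y S : Scheme.{u}} (f : X ⟶ S)
    (hf : RelProj.IsProjective f)
    {G : Type u} [Group G] [Finite G] (ρ : G →* Aut X) (hρ : ∀ g : G, (ρ g).hom ≫ f = f)
    (π : X ⟶ Y) (q : Y ⟶ S) (hπ : π ≫ q = f) (hquot : SGA1.IsQuot ρ π) :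
    (Surjective π ∧ IsFinite π ∧ IsOpenMap π ∧ IsClosedMap π) ∧
      (IsUnit ((Nat.card G : ℕ) : Γ(S, ⊤)) →
        (Flat f → Flat q) ∧ IsSeparated q ∧
        (LocallyOfFinitePresentation f →
          IsProper q ∧ LocallyOfFinitePresentation q ∧ LocallyOfFinitePresentation π)) := by
  subst hπ
  haveI : IsProper (π ≫ q) := Groth.Agent.QuotProj11.isProper_of_isProjective hf
  haveI hs : Surjective π := ⟨Groth.Agent.IsQuot25.surjective hquot⟩
  have hfin : IsFinite π := Groth.Agent.IsQuot25.isFinite_of_comp hquot q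
  refine ⟨⟨hs, hfin, Groth.Agent.IsQuot25.isOpenMap hquot,
    Groth.Agent.IsQuot25.isClosedMap hquot⟩, fun hG => ⟨fun h => ?_, ?_, fun h => ?_⟩⟩
  · exact (HasRingHomProperty.iff_appLE (P := @Flat)).2 fun {W V} e => (charts hquot q hG W V e).1 h
  · exact (Groth.Agent.IsQuot25.isSeparated_iff hquot q).1 inferInstance
  · obtain ⟨h1, h2⟩ := finitePresentation_quot hquot q hG
    haveI := (Groth.Agent.IsQuot25.isSeparated_iff hquot q).1 inferInstance
    haveI : UniversallyClosed q := UniversallyClosed.of_comp_surjective π q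
    haveI : LocallyOfFiniteType q := inferInstance
    exact ⟨⟨⟩, h1, h2⟩

end Groth.Agent.S18907
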