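import Groth.Statements.S18908
import Mathlib
import Groth.Agent.Lib.CI2.ValSubDedekind

set_option autoImplicit false
universe u v w
open scoped TensorProduct
open CAlg

namespace Groth.Agent.S18908
open scoped TensorProduct
open Polynomial

/-- Let K ⊇ k be a finite field extension of degree n and Ω ⊇ k an algebraically closed extension. Then
K is separable over k if and only if Ω ⊗_k K is isomorphic, as an Ω-algebra, to the product of n
copies of Ω. (The source says 'for every (some) algebraically closed extension Ω'; the equivalence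
is stated for each fixed Ω, which gives both readings.) -/
theorem result (k : Type u) (K : Type v) (Ω : Type w)
    [Field k] [Field K] [Algebra k K] [FiniteDimensional k K]
    [Field Ω] [Algebra k Ω] [IsAlgClosed Ω] :
    Algebra.IsSeparable k K ↔ Nonempty ((Ω ⊗[k] K) ≃ₐ[Ω] (Fin (Module.finrank k K) → Ω)) := by
  classical
  have hsep := Field.finSepDegree_eq_of_isAlgClosed k K Ω
  constructor
  · intro h
    have hcard : Nat.card (K →ₐ[k] Ω) = Module.finrank k K := by
      rw [← hsep]; exact (Field.finSepDegree_eq_finrank_iff k K).2 h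
    haveI : Fintype (K →ₐ[k] Ω) := Fintype.ofFinite _
    let φ : Ω ⊗[k] K →ₐ[Ω] ((K →ₐ[k] Ω) → Ω) :=
      Algebra.TensorProduct.lift (Algebra.ofId _ _) (Pi.algHom k (fun _ => Ω) fun σ => σ) fun _ _ => Commute.all _ _
    have hdim : Module.finrank Ω (Ω ⊗[k] K) = Module.finrank Ω ((K →ₐ[k] Ω) → Ω) := by
      rw [Module.finrank_baseChange, Module.finrank_fintype_fun_eq_card, ← Nat.card_eq_fintype_card, hcard]
    have hsurj : Function.Surjective φ.toLinearMap := by
      rw [← LinearMap.range_eq_top]
      by_contra hne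
      obtain ⟨F, hF0, hF⟩ := Submodule.exists_le_ker_of_lt_top _ (lt_top_iff_ne_top.2 hne)
      have h1 : ∀ σ : K →ₐ[k] Ω, F (Pi.single σ 1) = 0 := by
        refine Fintype.linearIndependent_iff.1 (linearIndependent_toLinearMap k K Ω) _ ?_
        ext y
        have h2 := hF ⟨(1 : Ω) ⊗ₜ[k] y, rfl⟩
        rw [LinearMap.mem_ker, show φ.toLinearMap ((1 : Ω) ⊗ₜ[k] y) = fun σ : K →ₐ[k] Ω => σ y by
          funext σ; simp [φ]] at h2
        rw [show (fun σ : K →ₐ[k] Ω => σ y) = ∑ σ, (σ y) • (Pi.single σ (1 : Ω)) from by
          funext τ; simp [Finset.sum_apply, Pi.single_apply], map_sum] at h2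
        simp only [LinearMap.sum_apply, LinearMap.smul_apply, AlgHom.toLinearMap_apply, LinearMap.zero_apply,
          smul_eq_mul]
        simpa [mul_comm] using h2
      exact hF0 (LinearMap.pi_ext fun σ c => by
        rw [show Pi.single σ c = c • Pi.single σ (1 : Ω) by rw [← Pi.single_smul, smul_eq_mul, mul_one],
          map_smul, h1, smul_zero, LinearMap.zero_apply])
    have hbij : Function.Bijective φ := ⟨(LinearMap.injective_iff_surjective_of_finrank_eq_finrank hdim).2 hsurj, hsurj⟩
    exact ⟨(AlgEquiv.ofBijective φ hbij).trans (AlgEquiv.piCongrLeft Ω (fun _ => Ω)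
      (Fintype.equivFinOfCardEq (by rw [← Nat.card_eq_fintype_card]; exact hcard)))⟩
  · rintro ⟨e⟩
    rw [← Field.finSepDegree_eq_finrank_iff, hsep]
    refine le_antisymm (hsep ▸ Field.finSepDegree_le_finrank k K) ?_
    let P : Fin (Module.finrank k K) → (K →ₐ[k] Ω) := fun i =>
      (((Pi.evalAlgHom Ω (fun _ => Ω) i).comp e.toAlgHom).restrictScalars k).comp Algebra.TensorProduct.includeRight
    have hP : Function.Injective P := fun i j hij => by
      have h : (Pi.evalAlgHom Ω (fun _ => Ω) i).comp e.toAlgHom = (Pi.evalAlgHom Ω (fun _ => Ω) j).comp e.toAlgHom :=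
        Algebra.TensorProduct.ext (Algebra.ext_id _ _ _) hij
      have h2 := AlgHom.congr_fun h (e.symm (Pi.single i 1))
      by_contra hne
      simp [Ne.symm hne] at h2
    simpa using Nat.card_le_card_of_injective P hP

end Groth.Agent.S18908
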