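import Groth.Statements.S18912
import Groth.Agent.Lib.ModM1.Stalk
import Groth.Agent.Lib.ModM1.Affine

set_option autoImplicit false
universe u
open CategoryTheory CategoryTheory.Limits AlgebraicGeometry
open TFNodal

namespace Groth.Agent.S18912

/-- Let k be an algebraically closed field of characteristic zero, X a reduced scheme locally of finite
type over k, F an O_X-module, d ≥ 1 an integer and τ, τ' : F → O_X two O_X-linear maps whose d-th
symmetric powers agree, in the sense that for every open U and all sections a_1, …, a_d of F over U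
the products τ(a_1)⋯τ(a_d) and τ'(a_1)⋯τ'(a_d) coincide in Γ(U, O_X). Then for every point η of X
whose local ring is a field (a generic point of an irreducible component) there is a d-th root of
unity ξ in k such that, for every section a of F over an open containing η, the germ of τ'(a) at η
is ξ times the germ of τ(a). The published statement is for a coherent module on a projective nodal
curve and concludes that τ' = ξ τ with one root of unity ξ on each connected component; that form
fails for the union of two lines meeting at a node, F the ideal of the node, τ the inclusion and τ'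
equal to τ on one line and to −τ on the other (d = 2), so the conclusion is stated here at each
generic point, i.e. per irreducible component, which is what the stalkwise argument yields. -/
theorem result
    (k : Type u) [Field k] [IsAlgClosed k] [CharZero k]
    (X : Scheme.{u}) [X.Over (Spec (CommRingCat.of k))]
    [LocallyOfFiniteType (X ↘ Spec (CommRingCat.of k))] [AlgebraicGeometry.IsReduced X]
    (F : X.Modules) (τ τ' : F ⟶ Coh.structureModule X) (d : ℕ) (hd : 1 ≤ d)
    (hS : ∀ (U : X.Opens) (a : Fin d → Γ(F, U)),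
      (∏ i, (τ.app U (a i) : Γ(X, U)) : Γ(X, U)) = (∏ i, (τ'.app U (a i) : Γ(X, U)) : Γ(X, U)))
    (η : X) (hη : IsField (X.presheaf.stalk η)) :
    ∃ ξ : k, ξ ^ d = 1 ∧ ∀ (U : X.Opens) (hU : η ∈ U) (a : Γ(F, U)),
      (X.presheaf.germ U η hU (τ'.app U a : Γ(X, U)) : X.presheaf.stalk η) =
        Curv2.stalkMap k X η ξ * X.presheaf.germ U η hU (τ.app U a : Γ(X, U)) := by
  classical
  letI := hη.toField
  let sm := Curv2.stalkMap k X η
  let g : ∀ (f : F ⟶ Coh.structureModule X) (U : X.Opens), η ∈ U → Γ(F, U) → X.presheaf.stalk η :=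
    fun f U hU a => X.presheaf.germ U η hU (f.app U a : Γ(X, U))
  have hres : ∀ (f : F ⟶ Coh.structureModule X) (U V : X.Opens) (h : V ≤ U) (hV : η ∈ V) (a : Γ(F, U)),
      g f V hV (M1.mres F h a) = g f U (h hV) a := by
    intro f U V h hV a
    show X.presheaf.germ V η hV (f.app V (M1.mres F h a) : Γ(X, V)) = X.presheaf.germ U η (h hV) (f.app U a : Γ(X, U))
    rw [M1.app_mres]
    exact X.presheaf.germ_res_apply (homOfLE h) η hV (f.app U a : Γ(X, U))
  have key : ∀ (U : X.Opens) (hU : η ∈ U) (a : Fin d → Γ(F, U)),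
      ∏ i, g τ U hU (a i) = ∏ i, g τ' U hU (a i) := fun U hU a => by
    have h := congrArg (X.presheaf.germ U η hU) (hS U a)
    rw [map_prod, map_prod] at h
    exact h
  by_cases hz : ∀ (U : X.Opens) (hU : η ∈ U) (a : Γ(F, U)), g τ U hU a = 0
  · refine ⟨1, one_pow d, fun U hU a => ?_⟩
    rw [map_one, one_mul]
    refine Eq.trans ?_ (hz U hU a).symm
    have h := key U hU fun _ => a
    rw [Finset.prod_const, Finset.prod_const, Finset.card_univ, Fintype.card_fin, hz U hU a,
      zero_pow (by omega)] at h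
    exact pow_eq_zero_iff (by omega) |>.1 h.symm
  push Not at hz
  obtain ⟨U₀, hU₀, a₀, ht0⟩ := hz
  have hd0 := key U₀ hU₀ fun _ => a₀
  rw [Finset.prod_const, Finset.prod_const, Finset.card_univ, Fintype.card_fin] at hd0
  set z := g τ' U₀ hU₀ a₀ / g τ U₀ hU₀ a₀ with hzdef
  have hzd : z ^ d = 1 := by rw [hzdef, div_pow, ← hd0, div_self (pow_ne_zero _ ht0)]
  obtain ⟨ξ, hξ, hξz⟩ : ∃ ξ : k, ξ ^ d = 1 ∧ sm ξ = z := by
    have hspl : (Polynomial.X ^ d - Polynomial.C (1 : k)).Splits := IsAlgClosed.splits _
    have hroot : ((Polynomial.X ^ d - Polynomial.C (1 : k)).map sm).IsRoot z := by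
      simp [hzd]
    have hne : (Polynomial.X ^ d - Polynomial.C (1 : k)) ≠ 0 := Polynomial.X_pow_sub_C_ne_zero (by omega) 1
    obtain ⟨ξ, hξ, e⟩ := Multiset.mem_map.1 ((hspl.roots_map sm) ▸
      (Polynomial.mem_roots (Polynomial.map_ne_zero hne)).2 hroot)
    refine ⟨ξ, ?_, e⟩
    have := (Polynomial.mem_roots hne).1 hξ
    simpa [sub_eq_zero] using this
  refine ⟨ξ, hξ, fun U hU a => ?_⟩
  show g τ' U hU a = sm ξ * g τ U hU a
  rw [hξz]
  obtain ⟨e, rfl⟩ : ∃ e, d = e + 1 := ⟨d - 1, by omega⟩
  have hV : η ∈ U ⊓ U₀ := ⟨hU, hU₀⟩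
  have h := key (U ⊓ U₀) hV (Fin.cons (M1.mres F inf_le_left a) fun _ => M1.mres F inf_le_right a₀)
  simp only [Fin.prod_univ_succ, Fin.cons_zero, Fin.cons_succ, Finset.prod_const, Finset.card_univ,
    Fintype.card_fin, hres] at h
  have hz0 : z ≠ 0 := fun h0 => by rw [h0, zero_pow (by omega)] at hzd; exact zero_ne_one hzd
  have ht' : g τ' U₀ hU₀ a₀ = z * g τ U₀ hU₀ a₀ := by rw [hzdef, div_mul_cancel₀ _ ht0]
  rw [ht', mul_pow, ← mul_assoc] at h
  have h2 := mul_right_cancel₀ (pow_ne_zero e ht0) h
  calc g τ' U hU a = g τ' U hU a * z ^ (e + 1) := by rw [hzd, mul_one]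
    _ = z * (g τ' U hU a * z ^ e) := by rw [pow_succ]; ac_rfl
    _ = z * g τ U hU a := by rw [← h2]

end Groth.Agent.S18912
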