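import Groth.Statements.S18913
import Groth.Agent.Lib.CurveCoh17.GenericZero
import Groth.Agent.Lib.CurveCoh17.Degree
import Groth.Agent.Lib.CurveCoh17.PairDeg
import Groth.Agent.Lib.CurveCoh17.IdealPow
import Groth.Agent.Lib.CMReg18.GG
import Groth.Agent.Lib.Snapper.Section
import Groth.Agent.Lib.RelAmple18.Generation
import Groth.Agent.Lib.UVan10.GlobGen
import Groth.Agent.Lib.CohFound.ProperFinite
import Groth.Agent.Lib.VB17.Setup
-- import your own Groth.Agent.* helpers here

set_option autoImplicit false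
universe u
open CategoryTheory CategoryTheory.Limits AlgebraicGeometry
open TFNodal
open Groth.Agent.M2 (tsec res)

set_option backward.isDefEq.respectTransparency false
set_option backward.isDefEq.respectTransparency.types false
set_option maxHeartbeats 1000000

namespace Groth.Agent.S18913

noncomputable section

open Groth.Agent Groth.Agent.CurveCoh17

variable {X : Scheme.{u}}

/-- Finitely many maximal points. -/
theorem finite_maxPts (X : Scheme.{u}) [IsNoetherian X] : {η : X | FlatH4.IsMaxPt η}.Finite := by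
  haveI : TopologicalSpace.NoetherianSpace X := inferInstance
  haveI := (TopologicalSpace.NoetherianSpace.finite_irreducibleComponents (α := (X : Type u))).to_subtype
  have hc : ∀ η : {η : X // FlatH4.IsMaxPt η}, closure {η.1} ∈ irreducibleComponents (X : Type u) := by
    refine fun η => ⟨isIrreducible_singleton.closure, fun C hC hle => ?_⟩
    obtain ⟨y, hy⟩ := QuasiSober.sober hC.closure isClosed_closure
    have h2 : y = η.1 := η.2 y (hy.specializes (subset_closure (hle (subset_closure rfl))))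
    rw [← h2, hy.def]
    exact subset_closure
  haveI : Finite {η : X // FlatH4.IsMaxPt η} :=
    Finite.of_injective (β := irreducibleComponents (X : Type u)) (fun η => ⟨closure {η.1}, hc η⟩)
      fun a b h => Subtype.ext ((inseparable_iff_closure_eq.2 (congrArg Subtype.val h)).eq)
  exact Set.finite_coe_iff.1 (this : Finite {η : X | FlatH4.IsMaxPt η})

/-- In dimension at most one a point is closed or maximal. -/
theorem isMaxPt_of_not_closed (hdim : topologicalKrullDim X ≤ 1) {x : X} (hx : ¬ IsClosed ({x} : Set X)) :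
    FlatH4.IsMaxPt x := by
  intro y hy
  by_contra hne
  obtain ⟨z, hz, hzx⟩ : ∃ z, x ⤳ z ∧ z ≠ x := by
    by_contra h
    push Not at h
    refine hx (closure_eq_iff_isClosed.1 (Set.Subset.antisymm (fun z hz => ?_) subset_closure))
    exact h z (specializes_iff_mem_closure.2 hz)
  let c : X → TopologicalSpace.IrreducibleCloseds X := fun a =>
    ⟨closure {a}, isIrreducible_singleton.closure, isClosed_closure⟩
  have hlt : ∀ {a b : X}, a ⤳ b → b ≠ a → c b < c a := fun {a b} h hne' => by
    refine lt_of_le_of_ne (fun t ht => ?_) fun he => hne' ?_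
    · exact (specializes_iff_closure_subset.1 h) ht
    · exact inseparable_iff_closure_eq.2
        (congrArg (fun s : TopologicalSpace.IrreducibleCloseds X => (s : Set X)) he) |>.eq
  let s : LTSeries (TopologicalSpace.IrreducibleCloseds X) :=
    ⟨2, ![c z, c x, c y], fun i => by
      fin_cases i
      · exact hlt hz hzx
      · exact hlt hy (Ne.symm hne)⟩
  have h := (Order.LTSeries.length_le_krullDim s).trans hdim
  change ((2 : ℕ) : WithBot ℕ∞) ≤ 1 at h
  exact absurd h (by decide)

/-- A connected curve has no isolated point. -/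
theorem not_maxPt_of_closed [IsNoetherian X] [ConnectedSpace X] (hdim : topologicalKrullDim X = 1) {x : X}
    (hx : IsClosed ({x} : Set X)) : ¬ FlatH4.IsMaxPt x := by
  intro hmax
  have hc : ({x} : Set X)ᶜ = ⋃ η ∈ ({η : X | FlatH4.IsMaxPt η} \ {x}), closure {η} := by
    ext y
    simp only [Set.mem_compl_iff, Set.mem_singleton_iff, Set.mem_iUnion, exists_prop, Set.mem_diff, Set.mem_setOf_eq]
    constructor
    · intro hy
      obtain ⟨η, hη, hηy⟩ := FlatH4.exists_isMaxPt_specializes y
      refine ⟨η, ⟨hη, fun he => hy ?_⟩, specializes_iff_mem_closure.1 hηy⟩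
      subst he
      exact (hx.closure_eq.le (specializes_iff_mem_closure.1 hηy) : y ∈ ({η} : Set X))
    · rintro ⟨η, ⟨-, hne⟩, hy⟩ rfl
      exact hne (hmax η (specializes_iff_mem_closure.2 hy))
  have hopen : IsOpen ({x} : Set X) := by
    rw [← isClosed_compl_iff, hc]
    exact ((finite_maxPts X).subset Set.sdiff_subset).isClosed_biUnion fun η _ => isClosed_closure
  have hu := IsClopen.eq_univ ⟨hx, hopen⟩ ⟨x, rfl⟩
  haveI : Subsingleton X := ⟨fun a b => by
    have ha : a ∈ ({x} : Set X) := hu ▸ Set.mem_univ a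
    have hb : b ∈ ({x} : Set X) := hu ▸ Set.mem_univ b
    exact ha.trans hb.symm⟩
  haveI : Subsingleton (TopologicalSpace.IrreducibleCloseds X) := ⟨fun a b => by
    apply TopologicalSpace.IrreducibleCloseds.ext
    obtain ⟨s, hs⟩ := a.isIrreducible.nonempty
    obtain ⟨t, ht⟩ := b.isIrreducible.nonempty
    ext y
    exact ⟨fun _ => Subsingleton.elim t y ▸ ht, fun _ => Subsingleton.elim s y ▸ hs⟩⟩
  have h : topologicalKrullDim X ≤ 0 := Order.krullDim_nonpos_of_subsingleton
  rw [hdim] at h
  exact absurd h (by decide)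

/-- Points with field stalk are maximal. -/
theorem isMaxPt_of_isField {η : X} (h : IsField (X.presheaf.stalk η)) : FlatH4.IsMaxPt η := by
  letI := h.toField
  have hP : (⊥ : Ideal (X.presheaf.stalk η)) ∈ minimalPrimes (X.presheaf.stalk η) :=
    ⟨⟨Ideal.isPrime_bot, le_rfl⟩, fun Q _ _ => bot_le⟩
  obtain ⟨z, hz, hzmax, hu⟩ := GenericZero.exists_maxPt_of_minimalPrime hP
  have he : z = η := CubeField.eq_of_isUnit_iff hz specializes_rfl fun r => by
    rw [hu r, show X.presheaf.stalkSpecializes (specializes_rfl (x := η)) r = r by simp, isUnit_iff_ne_zero,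
      Ideal.mem_bot]
  rw [← he]
  exact hzmax

/-- A closed point of a reduced curve has a regular parameter. -/
theorem exists_regular [IsNoetherian X] [AlgebraicGeometry.IsReduced X] {x : X} (hx : ¬ FlatH4.IsMaxPt x) :
    ∃ r ∈ IsLocalRing.maximalIdeal (X.presheaf.stalk x), r ∈ nonZeroDivisors (X.presheaf.stalk x) := by
  refine GenericZero.exists_mem_nonZeroDivisors _ fun P hP hle => hx ?_
  obtain ⟨z, hz, hzmax, hu⟩ := GenericZero.exists_maxPt_of_minimalPrime hP
  have he : z = x := CubeField.eq_of_isUnit_iff hz specializes_rfl fun r => by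
    rw [hu r, show X.presheaf.stalkSpecializes (specializes_rfl (x := x)) r = r by simp]
    refine ⟨fun hr => not_not.1 fun hn => hr (hle ((IsLocalRing.mem_maximalIdeal r).2 hn)), fun hr hrP => ?_⟩
    exact hP.1.1.ne_top (Ideal.eq_top_of_isUnit_mem _ hrP hr)
  rw [← he]
  exact hzmax

/-- No closed point is associated to a module with free stalks. -/
theorem not_isAssPoint_of_free [IsNoetherian X] [AlgebraicGeometry.IsReduced X] {A : X.Modules} {r : ℕ} {x : X}
    (e : A.presheaf.stalk x ≃ₗ[X.presheaf.stalk x] (Fin r → X.presheaf.stalk x))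
    (hx : ¬ FlatH4.IsMaxPt x) : ¬ Curv2.IsAssPoint A x := by
  intro h
  obtain ⟨t, htm, ht⟩ := exists_regular hx
  have hmem : IsLocalRing.maximalIdeal (X.presheaf.stalk x) ∈
      associatedPrimes (X.presheaf.stalk x) (A.presheaf.stalk x) := h
  have hzd : t ∈ {r : X.presheaf.stalk x | ∃ a : A.presheaf.stalk x, a ≠ 0 ∧ r • a = 0} := by
    rw [← biUnion_associatedPrimes_eq_zero_divisors (X.presheaf.stalk x) (A.presheaf.stalk x)]
    exact Set.mem_biUnion hmem htm
  obtain ⟨a, ha, hta⟩ := hzd
  refine ha (e.injective ?_)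
  funext i
  have h2 := congrFun (congrArg e hta) i
  rw [map_smul, map_zero, Pi.smul_apply, Pi.zero_apply, smul_eq_mul] at h2
  rw [map_zero, Pi.zero_apply]
  exact (mem_nonZeroDivisors_iff_left.1 ht) _ h2

/-- A map injective at the maximal points is mono as soon as the source has no closed associated point. -/
theorem mono_of_maxPt [IsNoetherian X] [AlgebraicGeometry.IsReduced X] (hdim : topologicalKrullDim X ≤ 1)
    {A B : X.Modules} [Coh.IsQCoh A] (φ : A ⟶ B)
    (hA : ∀ x : X, IsClosed ({x} : Set X) → ¬ Curv2.IsAssPoint A x)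
    (h : ∀ η, FlatH4.IsMaxPt η → Function.Injective (stalkLin φ η)) : Mono φ := by
  refine (M1.mono_iff_stalk φ).2 fun x => ?_
  by_cases hmx : FlatH4.IsMaxPt x
  · exact h x hmx
  have hcl : IsClosed ({x} : Set X) := not_not.1 fun hn => hmx (isMaxPt_of_not_closed hdim hn)
  change Function.Injective (stalkLin φ x)
  rw [injective_iff_map_eq_zero]
  intro a ha
  by_contra hne
  obtain ⟨r, hr, hrnzd⟩ := GenericZero.exists_mem_nonZeroDivisors
      (LinearMap.ker (LinearMap.toSpanSingleton (X.presheaf.stalk x) (A.presheaf.stalk x) a)) fun P hP hle => by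
    obtain ⟨z, hzx, hzmax, hzu⟩ := GenericZero.exists_maxPt_of_minimalPrime hP
    obtain ⟨U, hxU, s, rfl⟩ := A.presheaf.exists_germ_eq a
    obtain ⟨V, hV, hxV, hVU⟩ := exists_isAffineOpen_mem_and_subset (x := x) hxU
    have hzV : z ∈ V := hzx.mem_open V.2 hxV
    have h0 : A.presheaf.germ V z hzV (M1.mres A hVU s) = 0 := by
      rw [M1.germ_mres]
      refine h z hzmax ?_
      rw [map_zero]
      rw [stalkLin_apply, M1.germ_naturality] at ha ⊢
      rw [← TopCat.Presheaf.germ_stalkSpecializes_apply B.presheaf hxU hzx, ha, map_zero]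
    obtain ⟨c, hc, hcs⟩ := M1.exists_smul_eq_zero_of_germ_eq_zero A hV hzV (M1.mres A hVU s) h0
    have hmem : X.presheaf.germ V x hxV c ∈ LinearMap.ker (LinearMap.toSpanSingleton (X.presheaf.stalk x)
        (A.presheaf.stalk x) (A.presheaf.germ U x hxU s)) := by
      show X.presheaf.germ V x hxV c • A.presheaf.germ U x hxU s = 0
      rw [← M1.germ_mres A hVU hxV s, ← M1.germ_smul, hcs, map_zero]
    refine (hzu (X.presheaf.germ V x hxV c)).1 ?_ (hle hmem)
    rwa [TopCat.Presheaf.germ_stalkSpecializes_apply]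
  obtain ⟨P, hP, hle⟩ := exists_le_isAssociatedPrime_of_isNoetherianRing (X.presheaf.stalk x) a hne
  have hrP : r ∈ P := hle (Submodule.mem_colon_singleton.2 (by rw [Submodule.mem_bot]; exact hr))
  haveI : Ring.KrullDimLE 1 (X.presheaf.stalk x) :=
    Ring.krullDimLE_iff.2 ((VB17.ringKrullDim_stalk_le_topologicalKrullDim x).trans hdim)
  haveI := hP.isPrime
  rcases Ring.krullDimLE_one_iff.1 inferInstance P inferInstance with hmin | hmax
  · exact Set.disjoint_left.1 (Ideal.disjoint_nonZeroDivisors_of_mem_minimalPrimes hmin) hrP hrnzd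
  · rw [IsLocalRing.eq_maximalIdeal hmax] at hP
    exact hA x hcl hP

/-- Linear surjections between free modules of the same rank are bijective. -/
theorem bijective_of_surjective_rank {R A B : Type*} [CommRing R] [AddCommGroup A] [Module R A] [AddCommGroup B]
    [Module R B] {n : ℕ} (eA : A ≃ₗ[R] (Fin n → R)) (eB : B ≃ₗ[R] (Fin n → R)) (f : A →ₗ[R] B)
    (hf : Function.Surjective f) : Function.Bijective f := by
  let g : (Fin n → R) →ₗ[R] (Fin n → R) := eB.toLinearMap ∘ₗ f ∘ₗ eA.symm.toLinearMap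
  have hg : Function.Surjective g := eB.surjective.comp (hf.comp eA.symm.surjective)
  have hgi : Function.Injective g := OrzechProperty.injective_of_surjective_endomorphism g hg
  refine ⟨fun a b hab => eA.injective (hgi ?_), hf⟩
  show eB (f (eA.symm (eA a))) = eB (f (eA.symm (eA b)))
  rw [LinearEquiv.symm_apply_apply, LinearEquiv.symm_apply_apply, hab]

theorem surjective_of_coker {A B : X.Modules} (φ : A ⟶ B) {x : X}
    (h : Subsingleton ((cokernel φ).presheaf.stalk x)) : Function.Surjective (stalkLin φ x) := by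
  have hS : (ShortComplex.mk φ (cokernel.π φ) (cokernel.condition φ)).Exact := ShortComplex.exact_cokernel φ
  exact fun b => (M1.exact_iff_stalk_eq_zero _).1 hS x b (@Subsingleton.elim _ h _ _)

theorem subsingleton_coker {A B : X.Modules} (φ : A ⟶ B) {x : X} (h : Function.Surjective (stalkLin φ x)) :
    Subsingleton ((cokernel φ).presheaf.stalk x) :=
  ⟨fun a b => (eq_zero_stalk_cokernel φ x h a).trans (eq_zero_stalk_cokernel φ x h b).symm⟩

/-- Twisting by a section. -/
def tw {P : X.Modules} (σ : Coh.structureModule X ⟶ P) (A : X.Modules) : A ⟶ CohB1.tensorMod A P :=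
  (M2.tensorLUnit A).inv ≫ M2.tensorMap σ (𝟙 A) ≫ (M2.tensorComm P A).hom

theorem tw_app {P : X.Modules} (σ : Coh.structureModule X ⟶ P) (A : X.Modules) (t : Γ(A, ⊤)) :
    (tw σ A).app ⊤ t = tsec A P t (Amp.gval σ) := by
  have h1 : (M2.tensorLUnit A).inv.app ⊤ t = tsec (Coh.structureModule X) A (M1.one ⊤) t := by
    apply (M1.app_injective (M2.tensorLUnit A).hom ⊤)
    show ((M2.tensorLUnit A).inv ≫ (M2.tensorLUnit A).hom).app ⊤ t = _
    rw [Iso.inv_hom_id]
    exact (one_smul Γ(X, ⊤) t).symm.trans (CurveCoh17.tensorLUnit_tsec (1 : Γ(X, ⊤)) t).symm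
  show (M2.tensorComm P A).hom.app ⊤ ((M2.tensorMap σ (𝟙 A)).app ⊤ ((M2.tensorLUnit A).inv.app ⊤ t)) = _
  rw [h1, M2.tensorMap_tsec]
  exact CurveCoh17.tensorComm_tsec P A _ _

/-- Twisting by a section is bijective where the section generates. -/
theorem bijective_tw {P : X.Modules} (hP : PicF.IsInvertible P) (σ : Coh.structureModule X ⟶ P) (A : X.Modules)
    {x : X} (hx : x ∈ CohB1.genLocus P σ) : Function.Bijective (stalkLin (tw σ A) x) := by
  obtain ⟨eP⟩ := nonempty_stalk_equiv ((M2.isInvertible_iff_isFinLocFreeOfRank_one P).1 hP) x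
  obtain ⟨eO⟩ := nonempty_stalk_equiv
    ((M2.isInvertible_iff_isFinLocFreeOfRank_one _).1 (PicLoc.isInvertible_structureModule X)) x
  have hσ := bijective_of_surjective_rank eO eP _ ((Snapper.surjective_section_iff hP σ x).2 hx)
  let ε := (LinearEquiv.ofBijective (stalkLin σ x) hσ).rTensor (A.presheaf.stalk x)
  have hm : Function.Bijective (stalkLin (M2.tensorMap σ (𝟙 A)) x) := by
    have hk : ⇑(M2.stalkEquiv P A x) ∘ ⇑(stalkLin (M2.tensorMap σ (𝟙 A)) x) =
        ⇑ε ∘ ⇑(M2.stalkEquiv (Coh.structureModule X) A x) := funext fun a => stalkEquiv_natural σ A x a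
    have h1 : Function.Bijective (⇑(M2.stalkEquiv P A x) ∘ ⇑(stalkLin (M2.tensorMap σ (𝟙 A)) x)) := by
      rw [hk]
      exact ε.bijective.comp (M2.stalkEquiv _ A x).bijective
    exact ((M2.stalkEquiv P A x).bijective.of_comp_iff' _).1 h1
  have h2 : ⇑(stalkLin (tw σ A) x) = ⇑(stalkLin (M2.tensorComm P A).hom x) ∘
      ⇑(stalkLin (M2.tensorMap σ (𝟙 A)) x) ∘ ⇑(stalkLin (M2.tensorLUnit A).symm.hom x) := funext fun a =>
    (stalkLin_comp _ _ x a).trans (stalkLin_comp _ _ x _)
  rw [h2]
  exact (Snapper.bijective_stalkLin_iso _ x).comp (hm.comp (Snapper.bijective_stalkLin_iso _ x))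

/-- Copies of an invertible module. -/
theorem nonempty_copiesIso (P : X.Modules) (r : ℕ) :
    Nonempty (CohB1.tensorMod (FlatMod.freeMod X r) P ≅ ∐ fun _ : Fin r => P) := by
  haveI : PreservesFiniteBiproducts (M2.tensorR P) := inferInstance
  haveI : PreservesColimit (Discrete.functor fun _ : Fin r => Coh.structureModule X) (M2.tensorR P) :=
    preservesCoproduct_of_preservesBiproduct (M2.tensorR P)
  exact ⟨PreservesCoproduct.iso (M2.tensorR P) (fun _ : Fin r => Coh.structureModule X) ≪≫
    Sigma.mapIso fun _ => M2.tensorLUnit P⟩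

variable (k : Type u) [Field k] [X.Over (Spec (CommRingCat.of k))]

/-- The germ of a global section at a point, on cohomology. -/
abbrev hg (M : X.Modules) (x : X) (z : Coh.HH X M 0) : (M.presheaf.stalk x : Type u) :=
  M.presheaf.germ ⊤ x trivial (hh0 M z)

/-- Sections with germ in a submodule. -/
def secIn (M : X.Modules) (x : X) (W : Submodule (X.presheaf.stalk x) (M.presheaf.stalk x : Type u)) :
    Submodule k (Coh.HH X M 0) where
  carrier := {z | hg M x z ∈ W}
  add_mem' {a b} ha hb := by
    simp only [Set.mem_setOf_eq, hg, map_add] at ha hb ⊢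
    exact add_mem ha hb
  zero_mem' := by
    simp only [Set.mem_setOf_eq, hg, map_zero]
    exact zero_mem _
  smul_mem' c a ha := by
    simp only [Set.mem_setOf_eq, hg] at ha ⊢
    have h1 : hh0 M (c • a) = (show Γ(X, ⊤) from Coh.toGlobal (X ↘ Spec (CommRingCat.of k)) c) • hh0 M a :=
      hh0_smul (M := M) _ a
    rw [h1, M1.germ_smul]
    exact W.smul_mem _ ha

include k in
/-- A globally generated module with rank `r` at the maximal points has `r` sections spanning there. -/
theorem exists_sections [Infinite k] [IsNoetherian X] [AlgebraicGeometry.IsReduced X] (M : X.Modules)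
    (hg' : Curv2.IsGloballyGenerated M) (r : ℕ)
    (hr : ∀ η : X, FlatH4.IsMaxPt η →
      Nonempty (M.presheaf.stalk η ≃ₗ[X.presheaf.stalk η] (Fin r → X.presheaf.stalk η))) :
    ∃ v : Fin r → Coh.HH X M 0, ∀ η : X, FlatH4.IsMaxPt η →
      Submodule.span (X.presheaf.stalk η) (Set.range fun i => hg M η (v i)) = ⊤ := by
  classical
  suffices H : ∀ j, j ≤ r → ∃ v : Fin j → Coh.HH X M 0, ∀ η : X, FlatH4.IsMaxPt η →
      LinearIndependent (X.presheaf.stalk η) (fun i => hg M η (v i)) by
    obtain ⟨v, hv⟩ := H r le_rfl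
    refine ⟨v, fun η hη => ?_⟩
    letI := (GenericZero.isField_stalk_of_maxPt hη).toField
    obtain ⟨e⟩ := hr η hη
    haveI : FiniteDimensional (X.presheaf.stalk η) (M.presheaf.stalk η) := Module.Finite.equiv e.symm
    exact (hv η hη).span_eq_top_of_card_eq_finrank' (by rw [e.finrank_eq, Module.finrank_fin_fun, Fintype.card_fin])
  intro j
  induction j with
  | zero => exact fun _ => ⟨Fin.elim0, fun η _ => linearIndependent_empty_type⟩
  | succ j ih =>
    intro hj
    obtain ⟨v, hv⟩ := ih (by omega)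
    let bad : X → Submodule k (Coh.HH X M 0) := fun η =>
      secIn k M η (Submodule.span (X.presheaf.stalk η) (Set.range fun i => hg M η (v i)))
    have hne : ∀ η : {η : X // FlatH4.IsMaxPt η}, bad η.1 ≠ ⊤ := by
      rintro ⟨η, hη⟩ htop
      letI := (GenericZero.isField_stalk_of_maxPt hη).toField
      obtain ⟨e⟩ := hr η hη
      have hall : Submodule.span (X.presheaf.stalk η) (Set.range fun i => hg M η (v i)) = ⊤ := by
        refine top_le_iff.1 ((UVan10.spanTop_of_isGloballyGenerated hg' η).symm.le.trans (Submodule.span_le.2 ?_))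
        rintro _ ⟨t, rfl⟩
        have ht : (hh0 M).symm t ∈ bad η := htop ▸ Submodule.mem_top
        change hg M η ((hh0 M).symm t) ∈ Submodule.span (X.presheaf.stalk η) (Set.range fun i => hg M η (v i)) at ht
        rwa [hg, AddEquiv.apply_symm_apply] at ht
      have h1 := finrank_range_le_card (R := X.presheaf.stalk η) fun i => hg M η (v i)
      rw [Set.finrank, hall, finrank_top, e.finrank_eq, Module.finrank_fin_fun, Fintype.card_fin] at h1
      omega
    haveI : Fintype {η : X // FlatH4.IsMaxPt η} := (finite_maxPts X).fintype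
    have h := Submodule.iUnion_ssubset_of_forall_ne_top_of_card_lt
      (Finset.univ : Finset {η : X // FlatH4.IsMaxPt η}) (fun η => bad η.1) hne (by
        rw [ENat.card_eq_top_of_infinite (α := k)]
        exact lt_top_iff_ne_top.2 (by simp))
    obtain ⟨z, -, hz⟩ := Set.exists_of_ssubset h
    refine ⟨Fin.snoc v z, fun η hη => ?_⟩
    letI := (GenericZero.isField_stalk_of_maxPt hη).toField
    have he : (fun i => hg M η ((Fin.snoc v z : Fin (j + 1) → Coh.HH X M 0) i)) =
        Fin.snoc (fun i => hg M η (v i)) (hg M η z) := by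
      funext i
      refine Fin.lastCases ?_ (fun i => ?_) i <;> simp
    rw [he, linearIndependent_finSnoc]
    exact ⟨hv η hη, fun hb => hz (Set.mem_iUnion₂.2 ⟨⟨η, hη⟩, Finset.mem_univ _, hb⟩)⟩

/-- Let k be an algebraically closed field of characteristic zero, X a connected reduced proper curve
over k (a proper k-scheme of dimension one), L an ample invertible O_X-module, F a coherent
O_X-module and r a natural number. Then F is of depth one at every closed point (no closed point of
X is an associated point of F) with stalk free of rank r at every generic point (uniform multirank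
r) if and only if there are a natural number m and a monomorphism F → (L^{⊗m})^{⊕r} whose cokernel
has zero stalk at every generic point of X (a torsion cokernel). -/
theorem result
    (k : Type u) [Field k] [IsAlgClosed k] [CharZero k]
    (X : Scheme.{u}) [X.Over (Spec (CommRingCat.of k))] [IsProper (X ↘ Spec (CommRingCat.of k))]
    [AlgebraicGeometry.IsReduced X] [ConnectedSpace X] (hdim : topologicalKrullDim X = 1)
    (L : X.Modules) (hL : CohB1.IsAmple L)
    (F : X.Modules) (hF : Coh.IsCoh F) (r : ℕ) :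
    ((∀ x : X, IsClosed ({x} : Set X) → ¬ Curv2.IsAssPoint F x) ∧
      (∀ η : X, IsField (X.presheaf.stalk η) →
        Nonempty (F.presheaf.stalk η ≃ₗ[X.presheaf.stalk η] (Fin r → X.presheaf.stalk η)))) ↔
    (∃ (m : ℕ) (ι : F ⟶ ∐ fun _ : Fin r => CohB1.tensorPow L m), Mono ι ∧
      ∀ η : X, IsField (X.presheaf.stalk η) → Subsingleton ((cokernel ι).presheaf.stalk η)) := by
  classical
  haveI : IsNoetherian X := CohFound.isNoetherian_of_isProper (X ↘ Spec (CommRingCat.of k))
  haveI : CompactSpace X := inferInstance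
  have hd1 : topologicalKrullDim X ≤ 1 := hdim.le
  have hnm : ∀ x : X, IsClosed ({x} : Set X) → ¬ FlatH4.IsMaxPt x := fun x hx => not_maxPt_of_closed hdim hx
  have hL' : PicF.IsInvertible L := hL.1
  have hP : ∀ m, PicF.IsInvertible (CohB1.tensorPow L m) := fun m => M2.isInvertible_tensorPow hL' m
  have hcop : ∀ (P : X.Modules), PicF.IsInvertible P → ∀ x : X, Nonempty ((∐ fun _ : Fin r => P).presheaf.stalk x
      ≃ₗ[X.presheaf.stalk x] (Fin r → X.presheaf.stalk x)) := fun P hPi x => by
    obtain ⟨i⟩ := nonempty_copiesIso P r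
    have h := M2.isFinLocFreeOfRank_tensor (M2.isFinLocFreeOfRank_freeMod X r)
      ((M2.isInvertible_iff_isFinLocFreeOfRank_one P).1 hPi)
    rw [Nat.mul_one] at h
    exact nonempty_stalk_equiv (M2.isFinLocFreeOfRank_of_iso i h) x
  constructor
  swap
  · rintro ⟨m, ι, hι, hcok⟩
    haveI := hι
    have hinj : ∀ x, Function.Injective (stalkLin ι x) := (M1.mono_iff_stalk ι).1 inferInstance
    refine ⟨fun x hx hass => ?_, fun η hη => ?_⟩
    · obtain ⟨e⟩ := hcop _ (hP m) x
      exact not_isAssPoint_of_free e (hnm x hx)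
        (IsAssociatedPrime.map_of_injective (f := stalkLin ι x) hass (hinj x))
    · obtain ⟨e⟩ := hcop _ (hP m) η
      exact ⟨LinearEquiv.ofBijective _ ⟨hinj η, surjective_of_coker ι (hcok η hη)⟩ ≪≫ₗ e⟩
  rintro ⟨hass, hrk⟩
  haveI hFq : Coh.IsQCoh F := hF.1
  have hrk' : ∀ η : X, FlatH4.IsMaxPt η →
      Nonempty (F.presheaf.stalk η ≃ₗ[X.presheaf.stalk η] (Fin r → X.presheaf.stalk η)) :=
    fun η hη => hrk η (GenericZero.isField_stalk_of_maxPt hη)
  -- a twist, globally generated, with a section generating at the maximal points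
  obtain ⟨n₀, hn₀⟩ := RA.exists_globallyGenerated hL F hF.1 hF.2
  obtain ⟨n₁, G₁, ⟨t₁, ht₁⟩, hG₁, -, -⟩ :=
    Amp.exists_affine_hasSec_finite hL (finite_maxPts X) (U := ⊤) fun _ _ => trivial
  let a := (n₁ + 1) * (n₀ + 1)
  let σa : Coh.structureModule X ⟶ CohB1.tensorPow L a :=
    SecTwist.powHom t₁ (n₀ + 1) ≫ (M2.tensorPowPow L (n₁ + 1) (n₀ + 1)).hom
  have hσa : ∀ η : X, FlatH4.IsMaxPt η → η ∈ CohB1.genLocus _ σa := fun η hη => by
    rw [Amp.genLocus_comp_iso, Amp.genLocus_powHom (hP _), ht₁]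
    exact hG₁ hη
  let F' := CohB1.tensorMod F (CohB1.tensorPow L a)
  have hF'c : Coh.IsCoh F' := CurveCoh17.isCoh_tensor hF (Snapper.isCoh_of_isInvertible (hP a))
  have hgg : Curv2.IsGloballyGenerated F' := hn₀ a (by
    show n₀ ≤ (n₁ + 1) * (n₀ + 1)
    nlinarith)
  have hrkF' : ∀ η : X, FlatH4.IsMaxPt η →
      Nonempty (F'.presheaf.stalk η ≃ₗ[X.presheaf.stalk η] (Fin r → X.presheaf.stalk η)) := fun η hη => by
    obtain ⟨e⟩ := hrk' η hη
    exact ⟨(LinearEquiv.ofBijective _ (bijective_tw (hP a) σa F (hσa η hη))).symm ≪≫ₗ e⟩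
  -- the generic basis
  haveI : Infinite k := IsAlgClosed.instInfinite
  obtain ⟨v, hv⟩ := exists_sections k F' hgg r hrkF'
  let u : FlatMod.freeMod X r ⟶ F' := Sigma.desc fun i => M1.secHom (hh0 F' (v i))
  have hE := M2.isFinLocFreeOfRank_freeMod X r
  have hubij : ∀ η : X, FlatH4.IsMaxPt η → Function.Bijective (stalkLin u η) := fun η hη => by
    obtain ⟨eE⟩ := nonempty_stalk_equiv hE η
    obtain ⟨eF⟩ := hrkF' η hη
    refine bijective_of_surjective_rank eE eF _ (LinearMap.range_eq_top.1 (top_le_iff.1 ?_))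
    rw [← hv η hη, Submodule.span_le]
    rintro _ ⟨i, rfl⟩
    let ιi : Coh.structureModule X ⟶ FlatMod.freeMod X r := Sigma.ι (fun _ : Fin r => Coh.structureModule X) i
    refine ⟨stalkLin ιi η ((Coh.structureModule X).presheaf.germ ⊤ η trivial (M1.one ⊤)), ?_⟩
    rw [← CurveCoh17.stalkLin_comp, show ιi ≫ u = M1.secHom (hh0 F' (v i)) from Sigma.ι_desc _ i,
      stalkLin_apply, M1.germ_naturality, M1.secHom_app_one]
  haveI : Coh.IsQCoh (FlatMod.freeMod X r) := M2.isQCoh_of_isFinLocFree (M2.isFinLocFree_of_ofRank hE)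
  haveI hum : Mono u := mono_of_maxPt hd1 u (fun x hx => by
    obtain ⟨eE⟩ := nonempty_stalk_equiv hE x
    exact not_isAssPoint_of_free eE (hnm x hx)) fun η hη => (hubij η hη).1
  -- the cokernel is torsion
  let T := cokernel u
  have hT : Coh.IsCoh T := M1.isCoh_cokernel inferInstance hF'c u
  obtain ⟨S, hS⟩ := exists_suppIn_of_maximal hd1 hT fun g hg a =>
    eq_zero_stalk_cokernel u g (hubij g hg).2 a
  let U : X.Opens := ⟨(S : Set X)ᶜ, S.finite_toSet.isClosed_biUnion (f := fun p => ({p} : Set X)) (fun p hp =>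
    hS.closed p hp) |> fun h => by rw [Set.biUnion_of_singleton] at h; exact h.isOpen_compl⟩
  obtain ⟨n₂, G, ⟨t, ht⟩, hG, hGU, -⟩ := Amp.exists_affine_hasSec_finite hL (finite_maxPts X) (U := U)
    fun η hη hηS => hnm η (hS.closed η hηS) hη
  let B := CohB1.tensorPow L (n₂ + 1)
  haveI : Coh.IsQCoh T := hT.1
  have hkill : ∀ z : Γ(T, ⊤), ∃ q, ∀ n, q ≤ n → tsec T (CohB1.tensorPow B n) z (Amp.pw (Amp.gval t) n) = 0 := by
    refine fun z => Amp.exists_kill_of_res_genLocus (hP _) t T z (M1.section_ext _ _ fun y hy => ?_)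
    exact (hS.zero y (hGU (ht ▸ hy)) _).trans (map_zero _).symm
  haveI : Module.Finite k (Coh.HH X F' 0) := CohFound.finite_HH_of_isProper F' hF'c 0
  obtain ⟨gens, hgens⟩ := Module.Finite.fg_top (R := k) (M := Coh.HH X F' 0)
  choose q hq using fun z : Coh.HH X F' 0 => hkill ((cokernel.π u).app ⊤ (hh0 F' z))
  let N := gens.sup q + 1
  let P := CohB1.tensorPow B N
  have hPi : PicF.IsInvertible P := M2.isInvertible_tensorPow (hP _) N
  let σ := SecTwist.powHom t N
  have hσ : ∀ η : X, FlatH4.IsMaxPt η → η ∈ CohB1.genLocus P σ := fun η hη => by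
    show η ∈ CohB1.genLocus (CohB1.tensorPow B (gens.sup q + 1)) (SecTwist.powHom t (gens.sup q + 1))
    rw [Amp.genLocus_powHom (hP _), ht]
    exact hG hη
  have hw : tw σ F' ≫ (M2.tensorR P).map (cokernel.π u) = 0 := by
    refine CMReg18.eq_zero_of_kills hgg fun s => ?_
    show (M2.tensorMap (cokernel.π u) (𝟙 P)).app ⊤ ((tw σ F').app ⊤ s) = 0
    rw [tw_app, M2.tensorMap_tsec]
    show tsec T P ((cokernel.π u).app ⊤ s) (Amp.gval σ) = 0
    have hs : (hh0 F').symm s ∈ Submodule.span k (gens : Set (Coh.HH X F' 0)) := hgens ▸ Submodule.mem_top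
    suffices H : ∀ z ∈ Submodule.span k (gens : Set (Coh.HH X F' 0)),
        tsec T P ((cokernel.π u).app ⊤ (hh0 F' z)) (Amp.gval σ) = 0 by
      simpa using H _ hs
    intro z hz
    induction hz using Submodule.span_induction with
    | mem z hz =>
      rw [Amp.gval_powHom]
      exact hq z N ((Finset.le_sup hz).trans (Nat.le_succ _))
    | zero => rw [map_zero, map_zero, Amp.tsec_zero_left]
    | add z w _ _ hz hw => rw [map_add, map_add, M2.tsec_add_left, hz, hw, add_zero]
    | smul c z _ hz =>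
      rw [show hh0 F' (c • z) = (show Γ(X, ⊤) from Coh.toGlobal (X ↘ Spec (CommRingCat.of k)) c) • hh0 F' z from
        hh0_smul (M := F') _ z, Scheme.Modules.Hom.app_smul, M2.tsec_smul_left, hz, smul_zero]
  -- lift
  have hSE : (ShortComplex.mk u (cokernel.π u) (cokernel.condition u)).ShortExact :=
    { exact := ShortComplex.exact_cokernel u }
  have hSP := shortExact_tensorR hSE P (fun x => by
    obtain ⟨e⟩ := nonempty_stalk_equiv ((M2.isInvertible_iff_isFinLocFreeOfRank_one P).1 hPi) x
    exact Module.Flat.of_linearEquiv e)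
  haveI : Mono ((M2.tensorR P).map u) := hSP.mono_f
  obtain ⟨h, hh⟩ : ∃ h : F' ⟶ CohB1.tensorMod (FlatMod.freeMod X r) P, h ≫ (M2.tensorR P).map u = tw σ F' := by
    haveI := hSP.mono_f
    exact ⟨hSP.exact.lift (tw σ F') hw, hSP.exact.lift_f (tw σ F') hw⟩
  have hhb : ∀ η : X, FlatH4.IsMaxPt η → Function.Bijective (stalkLin h η) := fun η hη => by
    have hu' : Function.Injective (stalkLin ((M2.tensorR P).map u) η) := fun a b hab =>
      (M1.mono_iff_stalk ((M2.tensorR P).map u)).1 hSP.mono_f η hab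
    have hτ := bijective_tw hPi σ F' (hσ η hη)
    have he : ∀ a, stalkLin ((M2.tensorR P).map u) η (stalkLin h η a) = stalkLin (tw σ F') η a := fun a =>
      (stalkLin_comp h ((M2.tensorR P).map u) η a).symm.trans (congrArg (fun φ => stalkLin φ η a) hh)
    refine ⟨fun a b hab => hτ.1 (by rw [← he, ← he, hab]), fun y => ?_⟩
    obtain ⟨a, ha⟩ := hτ.2 (stalkLin ((M2.tensorR P).map u) η y)
    exact ⟨a, hu' ((he a).trans ha)⟩
  obtain ⟨i⟩ := nonempty_copiesIso P r
  let j : CohB1.tensorMod (FlatMod.freeMod X r) P ≅ ∐ fun _ : Fin r => CohB1.tensorPow L ((n₂ + 1) * N) :=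
    i ≪≫ Sigma.mapIso fun _ => M2.tensorPowPow L (n₂ + 1) N
  let ι := tw σa F ≫ h ≫ j.hom
  have hb : ∀ η : X, FlatH4.IsMaxPt η → Function.Bijective (stalkLin ι η) := fun η hη => by
    have he : ⇑(stalkLin ι η) = ⇑(stalkLin j.hom η) ∘ ⇑(stalkLin h η) ∘ ⇑(stalkLin (tw σa F) η) :=
      funext fun z => (stalkLin_comp _ _ η z).trans (stalkLin_comp _ _ η _)
    rw [he]
    exact (Snapper.bijective_stalkLin_iso _ η).comp ((hhb η hη).comp (bijective_tw (hP a) σa F (hσa η hη)))
  exact ⟨_, ι, mono_of_maxPt hd1 ι hass fun η hη => (hb η hη).1,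
    fun η hη => subsingleton_coker ι (hb η (isMaxPt_of_isField hη)).2⟩

end

end Groth.Agent.S18913
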