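import Groth.Statements.S18914
import Groth.Agent.Lib.CurveCoh17.GenericZero
import Groth.Agent.Lib.VB17.Setup

set_option autoImplicit false
universe u
open CategoryTheory CategoryTheory.Limits AlgebraicGeometry
open TFNodal

namespace Groth.Agent.S18914

open Groth.Agent.M1

/-- A map which vanishes on a dense open, into a torsion-free module, is zero. -/
theorem eq_zero_of_restrict {X : Scheme.{u}} [AlgebraicGeometry.IsReduced X] [IsLocallyNoetherian X] {A B : X.Modules}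
    [Coh.IsQCoh B] (htB : TorSh.IsTorsionFree B) (U : X.Opens) (hU : Dense (U : Set X)) (f : A ⟶ B)
    (h : (Scheme.Modules.restrictFunctor U.ι).map f = 0) : f = 0 := by
  refine Scheme.Modules.hom_ext _ _ fun W => ?_
  ext t
  show f.app W t = 0
  refine GenericZero.eq_zero_of_maxPt htB _ fun z hz hzmax => ?_
  have hzU : z ∈ U := hzmax.mem_of_dense U.2 hU
  let V' : (↑U : Scheme.{u}).Opens := U.ι ⁻¹ᵁ W
  have hV' : U.ι ''ᵁ V' ≤ W := by
    rintro _ ⟨a, ha, rfl⟩
    exact ha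
  have hzV' : z ∈ U.ι ''ᵁ V' := ⟨⟨z, hzU⟩, hz, rfl⟩
  rw [← germ_mres B hV' hzV', ← app_mres]
  have h0 : ((Scheme.Modules.restrictFunctor U.ι).map f).app V' (mres A hV' t) = 0 := by rw [h]; rfl
  exact (congrArg (B.presheaf.germ (U.ι ''ᵁ V') z hzV') h0).trans (map_zero _)

theorem exists_desc {X : Scheme.{u}} [AlgebraicGeometry.IsReduced X] [IsLocallyNoetherian X] {E F₁ F₂ : X.Modules}
    [Coh.IsQCoh F₂] (ht₂ : TorSh.IsTorsionFree F₂) (U : X.Opens) (hU : Dense (U : Set X))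
    (q₁ : E ⟶ F₁) (q₂ : E ⟶ F₂) [Epi q₁] (φ : F₁.restrict U.ι ⟶ F₂.restrict U.ι)
    (hφ : (Scheme.Modules.restrictFunctor U.ι).map q₁ ≫ φ = (Scheme.Modules.restrictFunctor U.ι).map q₂) :
    ∃ ψ : F₁ ⟶ F₂, q₁ ≫ ψ = q₂ := by
  refine ⟨Abelian.epiDesc q₁ q₂ (eq_zero_of_restrict ht₂ U hU _ ?_), Abelian.comp_epiDesc _ _ _⟩
  rw [Functor.map_comp, ← hφ]
  show _ ≫ _ ≫ φ = 0
  rw [← Category.assoc, ← Functor.map_comp, kernel.condition]
  have h0 : (Scheme.Modules.restrictFunctor U.ι).map (0 : kernel q₁ ⟶ F₁) = 0 :=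
    Scheme.Modules.hom_ext _ _ fun W => rfl
  rw [h0, zero_comp]

/-- Let k be an algebraically closed field of characteristic zero, X a reduced proper curve over k (a
proper k-scheme of dimension one), and E, F₁, F₂ coherent O_X-modules that are torsion free (every
stalk is a torsion free module over the local ring: no nonzero element is killed by a
non-zero-divisor). Let q₁ : E → F₁ and q₂ : E → F₂ be epimorphisms, U a dense open subset of X and φ
: F₁|_U ≅ F₂|_U an isomorphism of the restricted quotients, q₁|_U ≫ φ = q₂|_U. Then there is an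
isomorphism of quotients ψ : F₁ ≅ F₂, q₁ ≫ ψ = q₂, whose restriction to U is φ. -/
theorem result
    (k : Type u) [Field k] [IsAlgClosed k] [CharZero k]
    (X : Scheme.{u}) [X.Over (Spec (CommRingCat.of k))] [IsProper (X ↘ Spec (CommRingCat.of k))]
    [AlgebraicGeometry.IsReduced X] (hdim : topologicalKrullDim X = 1)
    (E F₁ F₂ : X.Modules) (hE : Coh.IsCoh E) (hF₁ : Coh.IsCoh F₁) (hF₂ : Coh.IsCoh F₂)
    (htE : TorSh.IsTorsionFree E) (ht₁ : TorSh.IsTorsionFree F₁) (ht₂ : TorSh.IsTorsionFree F₂)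
    (q₁ : E ⟶ F₁) (q₂ : E ⟶ F₂) [Epi q₁] [Epi q₂]
    (U : X.Opens) (hU : Dense (U : Set X))
    (φ : F₁.restrict U.ι ≅ F₂.restrict U.ι)
    (hφ : (Scheme.Modules.restrictFunctor U.ι).map q₁ ≫ φ.hom = (Scheme.Modules.restrictFunctor U.ι).map q₂) :
    ∃ ψ : F₁ ≅ F₂, q₁ ≫ ψ.hom = q₂ ∧ (Scheme.Modules.restrictFunctor U.ι).map ψ.hom = φ.hom := by
  haveI := VB17.isNoetherian_of_over (k := k) (X := X)
  haveI := hF₁.1
  haveI := hF₂.1
  obtain ⟨a, ha⟩ := exists_desc ht₂ U hU q₁ q₂ φ.hom hφ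
  obtain ⟨b, hb⟩ := exists_desc ht₁ U hU q₂ q₁ φ.inv (by rw [← hφ, Category.assoc, φ.hom_inv_id, Category.comp_id])
  refine ⟨⟨a, b, ?_, ?_⟩, ha, ?_⟩
  · rw [← cancel_epi q₁, ← Category.assoc, ha, hb, Category.comp_id]
  · rw [← cancel_epi q₂, ← Category.assoc, hb, ha, Category.comp_id]
  · haveI : Epi ((Scheme.Modules.restrictFunctor U.ι).map q₁) := inferInstance
    rw [← cancel_epi ((Scheme.Modules.restrictFunctor U.ι).map q₁), hφ, ← Functor.map_comp, ha]

end Groth.Agent.S18914
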