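import Groth.Statements.S18915
import Groth.Agent.Lib.DepthAlong11.DepthExtend
import Groth.Agent.Lib.DepthAlong11.Flat
import Groth.Agent.S2863
import Groth.Agent.Lib.CurveCoh17.GenericZero
import Groth.Agent.Lib.FtPts3.Fibre
import Groth.Agent.Lib.ModM1.Pull

set_option autoImplicit false
set_option backward.isDefEq.respectTransparency.types false
universe u
open CategoryTheory CategoryTheory.Limits AlgebraicGeometry
open TFNodal

namespace Groth.Agent.S18915

theorem one_le_dim {X : Scheme.{u}} {z y : X} (hy : y ⤳ z) (hne : y ≠ z) :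
    1 ≤ ringKrullDim (X.presheaf.stalk z) := by
  rw [ringKrullDim_stalk_eq_coheight]
  have h1 : z < y := lt_iff_le_not_ge.2 ⟨hy, fun h => hne (hy.antisymm h).eq⟩
  exact_mod_cast Order.one_le_iff_pos.2 (Order.coheight_pos.2 (fun hmax => not_le_of_gt h1 (hmax hy)))


/-- Let k be an algebraically closed field of characteristic zero, X a reduced proper curve over k (a
proper k-scheme of dimension one) without isolated points (no closed point is open, i.e. X is
one-dimensional at every point), C a smooth irreducible k-scheme of dimension one and c a closed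
point of C. Put Z = X ×_k C with projections p_X and p_C, let Y be a nonempty finite set of closed
points of Z lying over c, and let j : U → Z be the inclusion of the open complement of Y. Then for
every coherent torsion free O_X-module F (every stalk a torsion free module over the local ring),
the unit map p_X^* F → j_* j^* (p_X^* F) is an isomorphism. -/
theorem result
    (k : Type u) [Field k] [IsAlgClosed k] [CharZero k]
    (X : Scheme.{u}) [X.Over (Spec (CommRingCat.of k))] [IsProper (X ↘ Spec (CommRingCat.of k))]
    [AlgebraicGeometry.IsReduced X] (hdim : topologicalKrullDim X = 1)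
    (hpure : ∀ x : X, IsClosed ({x} : Set X) → ¬ IsOpen ({x} : Set X))
    (C : Scheme.{u}) [C.Over (Spec (CommRingCat.of k))] [Smooth (C ↘ Spec (CommRingCat.of k))]
    [IrreducibleSpace C] (hdimC : topologicalKrullDim C = 1)
    (c : C) (hc : IsClosed ({c} : Set C))
    (Y : Set ↑(pullback (X ↘ Spec (CommRingCat.of k)) (C ↘ Spec (CommRingCat.of k))))
    (hYfin : Y.Finite) (hYne : Y.Nonempty) (hYcl : ∀ z ∈ Y, IsClosed ({z} : Set _))
    (hYc : ∀ z ∈ Y, (pullback.snd (X ↘ Spec (CommRingCat.of k)) (C ↘ Spec (CommRingCat.of k))).base z = c)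
    (U : (pullback (X ↘ Spec (CommRingCat.of k)) (C ↘ Spec (CommRingCat.of k))).Opens)
    (hU : (U : Set _) = Yᶜ)
    (F : X.Modules) (hF : Coh.IsCoh F) (htF : TorSh.IsTorsionFree F) :
    IsIso ((Scheme.Modules.restrictAdjunction U.ι).unit.app
      ((Scheme.Modules.pullback (pullback.fst (X ↘ Spec (CommRingCat.of k)) (C ↘ Spec (CommRingCat.of k)))).obj F)) := by
  let pX := X ↘ Spec (CommRingCat.of k)
  let pC := C ↘ Spec (CommRingCat.of k)
  let g := pullback.fst pX pC
  haveI : Smooth g := MorphismProperty.pullback_fst (P := @AlgebraicGeometry.Smooth) pX pC (inferInstanceAs (Smooth pC))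
  haveI : IsLocallyNoetherian X := LocallyOfFiniteType.isLocallyNoetherian pX
  haveI : IsLocallyNoetherian (pullback pX pC) := LocallyOfFiniteType.isLocallyNoetherian g
  have hG : Coh.IsCoh ((Scheme.Modules.pullback g).obj F) := M1.isCoh_pullback g hF
  haveI : Coh.IsQCoh ((Scheme.Modules.pullback g).obj F) := hG.1
  refine DepthAlong11.isIso_unit_of_hasSlicePair (DepthAlong11.hasSlicePair_of_depth _ hG U fun z hz => ?_)
  have hzY : z ∈ Y := by
    by_contra h
    exact hz ((Set.ext_iff.1 hU z).2 h)
  let pZ := g ≫ pX
  obtain ⟨⟨t, ht⟩, htz⟩ := (pointEquivClosedPoint pZ).surjective ⟨z, hYcl z hzY⟩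
  have htz' : t (IsLocalRing.closedPoint k) = z := congrArg Subtype.val htz
  let tX := t ≫ g
  have htX : tX ≫ pX = 𝟙 _ := by simp only [tX, Category.assoc]; exact ht
  let tC := t ≫ pullback.snd pX pC
  have htC : tC ≫ pC = 𝟙 _ := by
    simp only [tC, Category.assoc]
    rw [← pullback.condition]
    exact ht
  let s : C ⟶ pullback pX pC := pullback.lift (pC ≫ tX) (𝟙 C) (by rw [Category.assoc, htX]; simp [pC])
  have hts : tC ≫ s = t := by
    apply pullback.hom_ext <;> simp only [s, Category.assoc, pullback.lift_fst, pullback.lift_snd]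
    · rw [reassoc_of% htC]
    · exact Category.comp_id _
  let η := genericPoint C
  have hηc : η ≠ c := by
    intro he
    have h1 : closure ({c} : Set C) = Set.univ := by rw [← he]; exact genericPoint_spec C
    rw [hc.closure_eq] at h1
    have hsub : Subsingleton C := ⟨fun a b => by
      rw [(h1.ge (Set.mem_univ a) : a = c), (h1.ge (Set.mem_univ b) : b = c)]⟩
    haveI : DiscreteTopology C := Subsingleton.discreteTopology
    have h0 := topologicalKrullDim_zero_of_discreteTopology C
    rw [hdimC] at h0
    exact absurd h0 (by decide)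
  have hfst : g (t (IsLocalRing.closedPoint k)) = g (s η) := by
    show tX (IsLocalRing.closedPoint k) = g (s η)
    have : s ≫ g = pC ≫ tX := pullback.lift_fst _ _ _
    calc tX (IsLocalRing.closedPoint k) = tX (pC η) :=
          congrArg (fun q => tX q) (Subsingleton.elim (α := PrimeSpectrum k) _ _)
      _ = (pC ≫ tX) η := rfl
      _ = g (s η) := by rw [← this]; rfl
  have hzc : s c = z := by
    have h1 : tC (IsLocalRing.closedPoint k) = c := by
      show pullback.snd pX pC (t (IsLocalRing.closedPoint k)) = c
      rw [htz']; exact hYc z hzY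
    rw [← h1, ← htz']
    show (tC ≫ s) (IsLocalRing.closedPoint k) = _
    rw [hts]
  have hspec : s η ⤳ z := by rw [← hzc]; exact (genericPoint_specializes c).map s.continuous
  have hne : s η ≠ z := by
    intro he
    refine hηc ?_
    have : s ≫ pullback.snd pX pC = 𝟙 C := pullback.lift_snd _ _ _
    calc η = (s ≫ pullback.snd pX pC) η := by rw [this]; rfl
      _ = pullback.snd pX pC (s η) := rfl
      _ = c := by rw [he]; exact hYc z hzY
  have hd1 : (1 : ℕ∞) ≤ LocCoh.depth (CInt.fiberStalk g z) (CInt.fiberStalk g z) := by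
    haveI := S2863.isRegularLocalRing_fiberStalk g z
    haveI := FtPts3.isLocallyNoetherian_fiber g (g z)
    have hmem : s η ∈ Set.range (g.fiberι (g z)) := by
      rw [Scheme.Hom.range_fiberι]
      show g (s η) = g z
      rw [← hfst, htz']
    obtain ⟨y, hy⟩ := hmem
    have hy' : y ⤳ g.asFiber z := (g.fiberι (g z)).isEmbedding.isInducing.specializes_iff.1 (by
      rw [hy, Scheme.Hom.fiberι_asFiber]; exact hspec)
    have hyne : y ≠ g.asFiber z := fun he => hne (by rw [← hy, he, Scheme.Hom.fiberι_asFiber])
    have h1 : 1 ≤ ringKrullDim ((g.fiber (g z)).presheaf.stalk (g.asFiber z)) := one_le_dim hy' hyne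
    have hF' := DepthLib.isCohenMacaulayLocalRing_of_isRegularLocalRing (R := CInt.fiberStalk g z)
    have h2 : (1 : WithBot ℕ∞) ≤ ringKrullDim (CInt.fiberStalk g z) := h1
    rw [← Module.supportDim_self_eq_ringKrullDim, hF'.supportDim_eq_depth] at h2
    exact WithBot.coe_le_coe.1 h2
  have hd0 : (1 : ℕ∞) ≤ LocCoh.depth (X.presheaf.stalk (g z)) (F.presheaf.stalk (g z) : Type u) := by
    have hxc : IsClosed ({g z} : Set X) := by
      have h1 : tX (IsLocalRing.closedPoint k) = g z := by rw [← htz']; rfl
      rw [← h1]
      exact ((pointEquivClosedPoint pX) ⟨tX, htX⟩).2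
    obtain ⟨y, hy, hyne⟩ : ∃ y, y ⤳ g z ∧ y ≠ g z := by
      by_contra hcon
      push Not at hcon
      exact hpure _ hxc (FtPts3.isOpen_singleton_of_noGen _ hxc hcon)
    have h1 := one_le_dim hy hyne
    obtain ⟨r, hr, hr'⟩ := GenericZero.exists_mem_nonZeroDivisors
      (IsLocalRing.maximalIdeal (X.presheaf.stalk (g z))) fun P hP hle => by
        haveI := hP.1.1
        have heq : IsLocalRing.maximalIdeal (X.presheaf.stalk (g z)) = P :=
          le_antisymm hle (IsLocalRing.le_maximalIdeal (Ideal.IsPrime.ne_top'))
        have h0 : ringKrullDim (X.presheaf.stalk (g z)) = 0 := by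
          rw [← IsLocalRing.maximalIdeal_height_eq_ringKrullDim, heq, Ideal.height_eq_zero_iff.2 hP]
          rfl
        rw [h0] at h1
        exact absurd h1 (by decide)
    haveI := htF (g z)
    exact DepthLib.one_le_idealDepth_of_regular hr
      (Module.IsTorsionFree.isSMulRegular (isRegular_iff_mem_nonZeroDivisors.2 hr'))
  rw [DepthAlong11.depth_pullback_stalk g F hF z, ← one_add_one_eq_two]
  exact add_le_add hd0 hd1


end Groth.Agent.S18915
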