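import Groth.Statements.S18916
import Groth.Agent.Lib.CurveCoh17.GenericZero
import Groth.Agent.Lib.CurveCoh17.Integral
import Groth.Agent.Lib.VB17.Setup
import Groth.Agent.S1534

set_option autoImplicit false
universe u
open CategoryTheory CategoryTheory.Limits AlgebraicGeometry
open TFNodal

namespace Groth.Agent.S18916

open TopologicalSpace Opposite Groth.Agent.M1

theorem isTorsionFree_structureModule {X : Scheme.{u}} : TorSh.IsTorsionFree (Coh.structureModule X) := by
  intro y
  obtain ⟨e⟩ := CurveCoh17.nonempty_stalk_equiv_structureModule (X := X) y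
  exact e.injective.moduleIsTorsionFree e (fun r m => e.map_smul r m)


/-- Let k be an algebraically closed field of characteristic zero, X a reduced proper curve over k (a
proper k-scheme of dimension one) without isolated points (no closed point is open, i.e. X is
one-dimensional at every point) and F a coherent O_X-module. Then the dual 𝓗om(F, O_X) is torsion
free: no closed point of X is an associated point of it. -/
theorem result
    (k : Type u) [Field k] [IsAlgClosed k] [CharZero k]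
    (X : Scheme.{u}) [X.Over (Spec (CommRingCat.of k))] [IsProper (X ↘ Spec (CommRingCat.of k))]
    [AlgebraicGeometry.IsReduced X] (hdim : topologicalKrullDim X = 1)
    (hpure : ∀ x : X, IsClosed ({x} : Set X) → ¬ IsOpen ({x} : Set X))
    (F : X.Modules) (hF : Coh.IsCoh F) (x : X) (hx : IsClosed ({x} : Set X)) :
    ¬ Curv2.IsAssPoint (RefHull.dual F) x := by
  classical
  haveI := VB17.isNoetherian_of_over (k := k) (X := X)
  obtain ⟨T, hT⟩ := S1534.mem_of_maximal_in_noetherian (X := X) Set.univ isClosed_univ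
  -- removing the components not through a point
  have hbad : ∀ y : X, ∃ N : X.Opens, y ∈ N ∧ ∀ z ∈ N, FlatH4.IsMaxPt z → z ⤳ y := by
    intro y
    refine ⟨⟨(⋃ g ∈ T.filter (fun g => ¬ g ⤳ y), closure {g})ᶜ,
      ((T.filter _).finite_toSet.isClosed_biUnion fun g _ => isClosed_closure).isOpen_compl⟩, ?_, fun z hz hzmax => ?_⟩
    · intro h
      obtain ⟨g, hg, hgy⟩ := Set.mem_iUnion₂.1 h
      exact (Finset.mem_filter.1 hg).2 (specializes_iff_mem_closure.2 hgy)
    · by_contra hzy
      obtain ⟨g, hg, hgz⟩ := Set.mem_iUnion₂.1 (hT ▸ Set.mem_univ z)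
      obtain rfl := hzmax g (specializes_iff_mem_closure.2 hgz)
      exact hz (Set.mem_iUnion₂.2 ⟨g, Finset.mem_filter.2 ⟨hg, hzy⟩, hgz⟩)
  have hnmax : ¬ FlatH4.IsMaxPt x := by
    intro hmax
    refine hpure x hx ?_
    have he : ({x} : Set X) = (⋃ g ∈ T.filter (fun g => g ≠ x), closure {g})ᶜ := by
      ext y
      simp only [Set.mem_singleton_iff, Set.mem_compl_iff, Set.mem_iUnion, Finset.mem_filter, exists_prop]
      constructor
      · rintro rfl ⟨g, ⟨-, hgne⟩, hgx⟩
        exact hgne (hmax g (specializes_iff_mem_closure.2 hgx))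
      · intro h
        obtain ⟨g, hg, hgy⟩ := Set.mem_iUnion₂.1 (hT ▸ Set.mem_univ y)
        by_cases hgx : g = x
        · subst hgx
          rw [hx.closure_eq] at hgy
          exact hgy
        · exact absurd ⟨g, ⟨hg, hgx⟩, hgy⟩ h
    rw [he]
    exact ((T.filter _).finite_toSet.isClosed_biUnion fun g _ => isClosed_closure).isOpen_compl
  intro hass
  obtain ⟨-, θ, hθ⟩ := isAssociatedPrime_iff.1 hass
  obtain ⟨r, hr, hrnzd⟩ := GenericZero.exists_mem_nonZeroDivisors (IsLocalRing.maximalIdeal (X.presheaf.stalk x))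
    fun P hP hle => by
      obtain ⟨z, hzx, hzmax, hzu⟩ := GenericZero.exists_maxPt_of_minimalPrime hP
      have hPm : P = IsLocalRing.maximalIdeal (X.presheaf.stalk x) :=
        (IsLocalRing.maximalIdeal.isMaximal _).eq_of_le hP.1.1.ne_top hle |>.symm
      refine hnmax ?_
      have : z = x := CubeField.eq_of_isUnit_iff hzx (specializes_rfl) fun c => by
        rw [hzu c, hPm, IsLocalRing.mem_maximalIdeal, mem_nonunits_iff, not_not, TopCat.Presheaf.stalkSpecializes_refl]
        rfl
      exact this ▸ hzmax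
  have hrθ : r • θ = 0 := by
    rw [hθ] at hr
    simpa using hr
  obtain ⟨U, hxU, φ, hφ⟩ := (RefHull.dual F).presheaf.exists_germ_eq θ
  obtain ⟨U', hxU', c, hc⟩ := X.presheaf.exists_germ_eq r
  obtain ⟨N, hxN, hN⟩ := hbad x
  obtain ⟨V, hV, hxV, hVle⟩ := exists_isAffineOpen_mem_and_subset (x := x) (U := U' ⊓ U ⊓ N) ⟨⟨hxU', hxU⟩, hxN⟩
  -- `c` is invertible at the maximal points near `x`
  have hunit : ∀ z (hz : z ∈ V), FlatH4.IsMaxPt z → IsUnit (X.presheaf.germ U' z (hVle hz).1.1 c) := by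
    intro z hz hzmax
    by_contra hnu
    have h0 : X.presheaf.germ U' z (hVle hz).1.1 c = 0 := by
      letI := (GenericZero.isField_stalk_of_maxPt hzmax).toField
      exact by_contra fun h => hnu (isUnit_iff_ne_zero.2 h)
    letI := TopCat.Presheaf.algebra_section_stalk X.presheaf (⟨z, hz⟩ : V)
    haveI := hV.isLocalization_stalk ⟨z, hz⟩
    have hiV : V ≤ U' := fun y hy => (hVle hy).1.1
    obtain ⟨e, he⟩ := (IsLocalization.map_eq_zero_iff (hV.primeIdealOf ⟨z, hz⟩).asIdeal.primeCompl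
      (X.presheaf.stalk z) (ores hiV c)).1 ((X.presheaf.germ_res_apply (homOfLE hiV) z hz c).trans h0)
    have hex : X.presheaf.germ V x hxV (e : Γ(X, V)) * r = 0 := by
      rw [← hc, ← X.presheaf.germ_res_apply (homOfLE hiV) x hxV c, ← map_mul]
      exact (congrArg _ he).trans (map_zero _)
    have hex0 := (mem_nonZeroDivisors_iff_right.1 hrnzd) _ hex
    have hzx : z ⤳ x := hN z (hVle hz).2 hzmax
    have hez : X.presheaf.germ V z hz (e : Γ(X, V)) = 0 := by
      rw [← TopCat.Presheaf.germ_stalkSpecializes_apply X.presheaf hxV hzx, hex0, map_zero]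
    have hu := (M1.isUnit_germ_iff hV hz (e : Γ(X, V))).2 e.2
    rw [hez, isUnit_zero_iff] at hu
    exact zero_ne_one hu
  -- `c φ` vanishes near `x`
  have hW : U' ⊓ U ≤ U' := inf_le_left
  have hW' : U' ⊓ U ≤ U := inf_le_right
  have hcφ : (RefHull.dual F).presheaf.germ (U' ⊓ U) x ⟨hxU', hxU⟩
      (ores hW c • mres (RefHull.dual F) hW' φ) = 0 := by
    rw [M1.germ_smul, germ_mres, hφ]
    refine Eq.trans ?_ hrθ
    congr 1
    exact (X.presheaf.germ_res_apply (homOfLE hW) x _ c).trans hc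
  obtain ⟨W, hxW, i₁, i₂, hzero⟩ := (RefHull.dual F).presheaf.germ_eq (U := U' ⊓ U) (V := U' ⊓ U) x ⟨hxU', hxU⟩ ⟨hxU', hxU⟩
    (ores hW c • mres (RefHull.dual F) hW' φ) 0 (hcφ.trans (map_zero _).symm)
  rw [map_zero] at hzero
  have hWU : W ⊓ V ≤ U := fun y hy => (hVle hy.2).1.2
  have hvan : ∀ (y : X) (hy : y ∈ W ⊓ V) (a : F.presheaf.stalk y),
      X.presheaf.germ U' y (hVle hy.2).1.1 c • φ.1 ⟨y, hWU hy⟩ a = 0 := by
    intro y hy a
    have h := congrArg (fun g : Γ(RefHull.dual F, W) => g.1 ⟨y, hy.1⟩ a) hzero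
    refine Eq.trans ?_ h
    show _ = X.presheaf.germ (U' ⊓ U) y (i₁.le hy.1) (ores hW c) • φ.1 ⟨y, hWU hy⟩ a
    congr 1
    exact (X.presheaf.germ_res_apply (homOfLE hW) y _ c).symm
  have hφ0 : ∀ (y : X) (hy : y ∈ W ⊓ V), φ.1 ⟨y, hWU hy⟩ = 0 := by
    intro y hy
    refine LinearMap.ext fun a => ?_
    obtain ⟨A, hyA, m, rfl⟩ := F.presheaf.exists_germ_eq a
    let A' : X.Opens := A ⊓ (W ⊓ V)
    obtain ⟨B, hyB, j, n, hn⟩ := φ.2 A' (homOfLE (inf_le_right.trans hWU)) (mres F (inf_le_left : A' ≤ A) m) ⟨y, hyA, hy⟩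
    have hn0 : n = 0 := by
      haveI : Coh.IsQCoh (Coh.structureModule X) := CurveCoh17.isCoh_structureModule.1
      refine GenericZero.eq_zero_of_maxPt isTorsionFree_structureModule n fun z hz hzmax => ?_
      have hzA := j.le hz
      obtain ⟨v, hv⟩ := hunit z hzA.2.2 hzmax
      have h := hvan z hzA.2 (F.presheaf.germ A' z hzA (mres F (inf_le_left : A' ≤ A) m))
      erw [hn ⟨z, hz⟩] at h
      rw [← hv] at h
      have h2 := congrArg (fun t => (↑v⁻¹ : X.presheaf.stalk z) • t) h
      simp only [smul_smul, Units.inv_mul, one_smul, smul_zero] at h2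
      exact h2
    have h := hn ⟨y, hyB⟩
    rw [hn0, map_zero, germ_mres] at h
    rw [LinearMap.zero_apply]
    exact h
  have hθ0 : θ = 0 := by
    rw [← hφ, ← germ_mres (RefHull.dual F) hWU (⟨hxW, hxV⟩ : x ∈ W ⊓ V) φ,
      show mres (RefHull.dual F) hWU φ = 0 from Subtype.ext (funext fun y => hφ0 y.1 y.2), map_zero]
  refine (IsLocalRing.maximalIdeal.isMaximal (X.presheaf.stalk x)).ne_top ?_
  rw [hθ, hθ0, eq_top_iff]
  intro a _
  simp

end Groth.Agent.S18916
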