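import Groth.Statements.S18917
import Groth.Agent.Lib.Comp17.Comp
-- import your own Groth.Agent.* helpers here

set_option autoImplicit false
universe u
open CategoryTheory CategoryTheory.Limits AlgebraicGeometry
open VBCurve

namespace Groth.Agent.S18917

/-- Let k be an algebraically closed field of characteristic zero, Y a smooth proper k-scheme of
dimension one, possibly disconnected, L an ample invertible O_Y-module (the polarization) and E a
nonzero finite locally free O_Y-module. For an open and closed U ⊆ Y with inclusion j write E_U =
j_*(E|_U), the part of E supported on U (a direct summand of E), χ for the Euler characteristic over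
k and α(M) = χ(M ⊗ L) − χ(M) for the multiplicity. Then E is semistable of dimension one with
respect to L if and only if, for every connected component U of Y with E_U ≠ 0, the module E_U is
semistable of dimension one with respect to L and has the same reduced Hilbert polynomial as E, that
is χ(E_U) · α(E) = χ(E) · α(E_U). (Equality of reduced Hilbert polynomials is the source's condition
that the slope of E equals the slope of E|_U plus the correction term attached to the component.) -/
theorem result
    (k : Type u) [Field k] [IsAlgClosed k] [CharZero k]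
    (Y : Scheme.{u}) [Y.Over (Spec (CommRingCat.of k))] [IsProper (Y ↘ Spec (CommRingCat.of k))]
    [Smooth (Y ↘ Spec (CommRingCat.of k))] (hdim : topologicalKrullDim Y = 1)
    (L : Y.Modules) (hL : CohB1.IsAmple L)
    (E : Y.Modules) (hE : FlatMod.IsFinLocFree E) (hE0 : ¬ IsZero E) :
    ShStab.IsSemistable k Y L E 1 ↔
      ∀ U : Y.Opens, IsClopen (U : Set Y) → _root_.IsConnected (U : Set Y) →
        ¬ IsZero ((Scheme.Modules.pushforward U.ι).obj (E.restrict U.ι)) →
        ShStab.IsSemistable k Y L ((Scheme.Modules.pushforward U.ι).obj (E.restrict U.ι)) 1 ∧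
          Curv2.euler k Y ((Scheme.Modules.pushforward U.ι).obj (E.restrict U.ι)) *
              (Curv2.euler k Y (CohB1.tensorMod E L) - Curv2.euler k Y E) =
            Curv2.euler k Y E *
              (Curv2.euler k Y (CohB1.tensorMod ((Scheme.Modules.pushforward U.ι).obj (E.restrict U.ι)) L) -
                Curv2.euler k Y ((Scheme.Modules.pushforward U.ι).obj (E.restrict U.ι))) := by
  haveI : IsNoetherian Y := Groth.Agent.VB17.isNoetherian_of_over (k := k) (X := Y)
  rw [Groth.Agent.Comp17.isSemistable_iff_pieces hdim hL (Groth.Agent.CohFound.isCoh_of_isFinLocFree hE) hE0]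
  refine forall_congr' fun U => ⟨fun h hU hc hn => ?_, fun h hU hc hn => ?_⟩
  · obtain ⟨h1, h2⟩ := h hU.1 hc hn
    refine ⟨h1, ?_⟩
    unfold Groth.Agent.Comp17.e Groth.Agent.Comp17.a at h2
    exact_mod_cast h2
  · obtain ⟨h1, h2⟩ := h ⟨hU, U.isOpen⟩ hc hn
    refine ⟨h1, ?_⟩
    unfold Groth.Agent.Comp17.e Groth.Agent.Comp17.a
    exact_mod_cast h2

end Groth.Agent.S18917
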