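import Groth.Statements.S18918
import Groth.Agent.Lib.FEtSect2.Basic

set_option autoImplicit false
set_option backward.isDefEq.respectTransparency false
universe u
open CategoryTheory CategoryTheory.Limits AlgebraicGeometry
open FEt

namespace Groth.Agent.S18918

/-- Let f : X → Y be a finite étale morphism of degree n (f_*O_X locally free of rank n) and φ : X' → Y
a morphism from a nonempty connected scheme X'. Then the Y-morphisms X' → X (equivalently, the
sections of X ×_Y X' → X') form a finite set with at most n elements, and there are exactly n of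
them if and only if the covering X ×_Y X' → X' is trivial, i.e. X ×_Y X' is isomorphic over X' to
the disjoint union of n copies of X'. The source works with separated Noetherian schemes over an
algebraically closed field of characteristic zero; that setting is not needed for the statement. -/
theorem result
    {X Y X' : Scheme.{u}} (f : X ⟶ Y) [IsFinite f] [Etale f] (n : ℕ)
    (hdeg : FlatMod.IsFinLocFreeOfRank n ((Scheme.Modules.pushforward f).obj (Coh.structureModule X)))
    (φ : X' ⟶ Y) [Nonempty X'] [ConnectedSpace X'] :
    Finite (Over.mk φ ⟶ Over.mk f) ∧ Nat.card (Over.mk φ ⟶ Over.mk f) ≤ n ∧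
      (Nat.card (Over.mk φ ⟶ Over.mk f) = n ↔
        ∃ e : pullback f φ ≅ ∐ fun _ : Fin n => X',
          e.hom ≫ Sigma.desc (fun _ : Fin n => 𝟙 X') = pullback.snd f φ) := by
  haveI : IsFinite (pullback.snd f φ) := MorphismProperty.pullback_snd _ _ inferInstance
  haveI : AlgebraicGeometry.Etale (pullback.snd f φ) := MorphismProperty.pullback_snd _ _ inferInstance
  have hn : ∀ x : X', (pullback.snd f φ).finrank x = n := fun x => by
    rw [Scheme.Hom.finrank_pullback_snd]
    exact Groth.Agent.FEtSect2.finrank_eq f n hdeg _
  let E : (Over.mk φ ⟶ Over.mk f) ≃ Groth.Agent.FEtSect2.Sect (pullback.snd f φ) :=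
    { toFun := fun t => ⟨pullback.lift t.left (𝟙 X') ((Over.w t).trans (Category.id_comp φ).symm),
        pullback.lift_snd _ _ _⟩
      invFun := fun a => Over.homMk (a.1 ≫ pullback.fst f φ) (by
        show (a.1 ≫ pullback.fst f φ) ≫ f = φ
        rw [Category.assoc, pullback.condition, ← Category.assoc, a.2, Category.id_comp])
      left_inv := fun t => Over.OverMorphism.ext (pullback.lift_fst _ _ _)
      right_inv := fun a => Subtype.ext (pullback.hom_ext (pullback.lift_fst _ _ _)
        ((pullback.lift_snd _ _ _).trans a.2.symm)) }
  have h1 := Groth.Agent.FEtSect2.finite_card_le (pullback.snd f φ) hn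
  haveI := h1.1
  refine ⟨Finite.of_equiv _ E.symm, (Nat.card_congr E).le.trans h1.2, ?_⟩
  rw [Nat.card_congr E]
  exact Groth.Agent.FEtSect2.card_eq_iff (pullback.snd f φ) hn

end Groth.Agent.S18918
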