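import Groth.Statements.S18919
import Groth.Agent.S18913
import Groth.Agent.Lib.Spread17.Basic
import Groth.Agent.Lib.Curve17.ModifCurve
import Groth.Agent.Lib.Multicross5.Scheme
import Groth.Agent.Lib.NodalRed10.Scheme
import Groth.Agent.Lib.Hens.Transfer
import Groth.Agent.Lib.FiltNeg17.Main
import Groth.Agent.Lib.CurveCoh17.Twist
import Groth.Agent.S7653
import Groth.Agent.Lib.VB17.Ext
import Groth.Agent.Lib.CohFound.ProjQuot
-- import your own Groth.Agent.* helpers here

set_option autoImplicit false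
universe u
open CategoryTheory CategoryTheory.Limits AlgebraicGeometry
open TFNodal

set_option backward.isDefEq.respectTransparency false
set_option backward.isDefEq.respectTransparency.types false
set_option maxHeartbeats 1000000

namespace Groth.Agent.S18919

noncomputable section

open Groth.Agent Groth.Agent.CurveCoh17

variable {X : Scheme.{u}}

/-- The stalk of the ideal of a closed point at that point. -/
theorem nonempty_stalk_idealMod_point (x : X) (hx : IsClosed ({x} : Set X))
    [Coh.IsQCoh (ClSub.idealMod (Scheme.IdealSheafData.vanishingIdeal (⟨{x}, hx⟩ : TopologicalSpace.Closeds X)))] :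
    Nonempty ((ClSub.idealMod (Scheme.IdealSheafData.vanishingIdeal (⟨{x}, hx⟩ : TopologicalSpace.Closeds X))).presheaf.stalk x
      ≃ₗ[X.presheaf.stalk x] IsLocalRing.maximalIdeal (X.presheaf.stalk x)) := by
  let I := Scheme.IdealSheafData.vanishingIdeal (⟨{x}, hx⟩ : TopologicalSpace.Closeds X)
  obtain ⟨V, hV, hxV, -⟩ := exists_isAffineOpen_mem_and_subset (x := x) (U := ⊤) trivial
  let f : (ClSub.idealMod I).presheaf.stalk x →ₗ[X.presheaf.stalk x] X.presheaf.stalk x :=
    (RH26.str x).symm.toLinearMap ∘ₗ stalkLin (ClSub.idealModι I) x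
  have hf : Function.Injective f :=
    (RH26.str x).symm.injective.comp ((M1.mono_iff_stalk (ClSub.idealModι I)).1 (M2.shortExact_idealMod (I := I)).mono_f x)
  have hgm : ∀ m : Γ(ClSub.idealMod I, V), f ((ClSub.idealMod I).presheaf.germ V x hxV m) =
      X.presheaf.germ V x hxV (M2.idealIncl I m) := fun m => by
    show (RH26.str x).symm (stalkLin (ClSub.idealModι I) x _) = _
    rw [stalkLin_apply, M1.germ_naturality, LinearEquiv.symm_apply_eq, RH26.str_one_germ]
    rfl
  let h : (I.ideal ⟨V, hV⟩).map (X.presheaf.germ V x hxV).hom = IsLocalRing.maximalIdeal (X.presheaf.stalk x) := by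
    have hpre : (hV.fromSpec ⁻¹' ({x} : Set X)) = {hV.primeIdealOf ⟨x, hxV⟩} := by
      ext P
      rw [Set.mem_preimage, Set.mem_singleton_iff, Set.mem_singleton_iff]
      constructor
      · intro h
        exact hV.fromSpec.isOpenEmbedding.injective (h.trans (hV.fromSpec_primeIdealOf ⟨x, hxV⟩).symm)
      · rintro rfl
        exact hV.fromSpec_primeIdealOf ⟨x, hxV⟩
    rw [Scheme.IdealSheafData.vanishingIdeal_ideal]
    show Ideal.map _ (PrimeSpectrum.vanishingIdeal (hV.fromSpec ⁻¹' ({x} : Set X))) = _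
    rw [hpre, PrimeSpectrum.vanishingIdeal_singleton]
    letI := TopCat.Presheaf.algebra_section_stalk X.presheaf (⟨x, hxV⟩ : V)
    haveI := hV.isLocalization_stalk ⟨x, hxV⟩
    exact IsLocalization.AtPrime.map_eq_maximalIdeal (hV.primeIdealOf ⟨x, hxV⟩).asIdeal (X.presheaf.stalk x)
  have hr : LinearMap.range f = IsLocalRing.maximalIdeal (X.presheaf.stalk x) := by
    refine le_antisymm ?_ ?_
    · rintro _ ⟨a, rfl⟩
      obtain ⟨c, m, hc, ha⟩ := M1.exists_germ_smul_eq (ClSub.idealMod I) hV hxV a
      have h2 : X.presheaf.germ V x hxV c * f a ∈ IsLocalRing.maximalIdeal (X.presheaf.stalk x) := by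
        rw [← smul_eq_mul, ← map_smul, ha, hgm, ← h]
        exact Ideal.mem_map_of_mem _ ((M2.range_idealIncl I ⟨V, hV⟩).le ⟨m, rfl⟩)
      exact ((IsLocalRing.maximalIdeal.isMaximal _).isPrime.mem_or_mem h2).resolve_left
        fun hm => (IsLocalRing.mem_maximalIdeal _).1 hm hc
    · rw [← h, Ideal.map_le_iff_le_comap]
      intro a ha
      obtain ⟨m, hm⟩ := (M2.range_idealIncl I ⟨V, hV⟩).ge ha
      exact ⟨_, (hgm m).trans (congrArg _ hm)⟩
  exact ⟨LinearEquiv.ofInjective f hf ≪≫ₗ LinearEquiv.ofEq _ _ hr⟩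

/-- The stalk of a finite coproduct of modules. -/
theorem nonempty_stalk_sigma {n : ℕ} (f : Fin n → X.Modules) (x : X) :
    Nonempty ((∐ f).presheaf.stalk x ≃ₗ[X.presheaf.stalk x] ∀ i, (f i).presheaf.stalk x) := by
  classical
  let p : ∀ i, (∐ f) ⟶ f i := fun i => Sigma.desc fun j => if h : j = i then eqToHom (congrArg f h) else 0
  have hpp : ∀ i, Sigma.ι f i ≫ p i = 𝟙 _ := fun i => by simp [p]
  have hpn : ∀ i j, j ≠ i → Sigma.ι f j ≫ p i = 0 := fun i j h => by simp [p, h]
  have hsum : ∑ i, p i ≫ Sigma.ι f i = 𝟙 (∐ f) := by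
    refine Sigma.hom_ext _ _ fun j => ?_
    rw [Preadditive.comp_sum, Category.comp_id, Finset.sum_eq_single j (fun i _ hi => by
      rw [← Category.assoc, hpn i j (Ne.symm hi), zero_comp]) (fun h => absurd (Finset.mem_univ j) h),
      ← Category.assoc, hpp, Category.id_comp]
  refine ⟨LinearEquiv.ofBijective (LinearMap.pi fun i => stalkLin (p i) x) ⟨fun a b h => ?_, fun c => ?_⟩⟩
  · rw [← FiltNeg17.stalkLin_id x a, ← FiltNeg17.stalkLin_id x b, ← hsum, FiltNeg17.stalkLin_sum,
      FiltNeg17.stalkLin_sum]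
    refine Finset.sum_congr rfl fun i _ => ?_
    rw [stalkLin_comp, stalkLin_comp]
    exact congrArg _ (congrFun h i)
  · refine ⟨∑ j, stalkLin (Sigma.ι f j) x (c j), funext fun i => ?_⟩
    show stalkLin (p i) x _ = c i
    rw [map_sum, Finset.sum_eq_single i (fun j _ hj => by
      rw [← stalkLin_comp, hpn i j hj, FiltNeg17.stalkLin_zero]) (fun h => absurd (Finset.mem_univ i) h),
      ← stalkLin_comp, hpp, FiltNeg17.stalkLin_id]

/-- The stalk of a coproduct of two modules. -/
theorem nonempty_stalk_coprod (A B : X.Modules) (x : X) :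
    Nonempty ((A ⨿ B).presheaf.stalk x ≃ₗ[X.presheaf.stalk x] (A.presheaf.stalk x × B.presheaf.stalk x)) := by
  let p : A ⨿ B ⟶ A := coprod.desc (𝟙 _) 0
  let q : A ⨿ B ⟶ B := coprod.desc 0 (𝟙 _)
  have hp1 : coprod.inl ≫ p = 𝟙 A := coprod.inl_desc _ _
  have hp2 : coprod.inr ≫ p = 0 := coprod.inr_desc _ _
  have hq1 : coprod.inl ≫ q = 0 := coprod.inl_desc _ _
  have hq2 : coprod.inr ≫ q = 𝟙 B := coprod.inr_desc _ _
  have hsum : p ≫ coprod.inl + q ≫ coprod.inr = 𝟙 (A ⨿ B) := by
    apply coprod.hom_ext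
    · rw [Preadditive.comp_add, ← Category.assoc, ← Category.assoc, hp1, hq1, zero_comp, add_zero,
        Category.id_comp, Category.comp_id]
    · rw [Preadditive.comp_add, ← Category.assoc, ← Category.assoc, hp2, hq2, zero_comp, zero_add,
        Category.id_comp, Category.comp_id]
  refine ⟨LinearEquiv.ofBijective ((stalkLin p x).prod (stalkLin q x)) ⟨fun a b h => ?_, fun c => ?_⟩⟩
  · rw [← FiltNeg17.stalkLin_id x a, ← FiltNeg17.stalkLin_id x b, ← hsum, FiltNeg17.stalkLin_add,
      FiltNeg17.stalkLin_add, stalkLin_comp, stalkLin_comp, stalkLin_comp, stalkLin_comp]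
    have h1 : stalkLin p x a = stalkLin p x b := congrArg Prod.fst h
    have h2 : stalkLin q x a = stalkLin q x b := congrArg Prod.snd h
    rw [h1, h2]
  · refine ⟨stalkLin coprod.inl x c.1 + stalkLin coprod.inr x c.2, Prod.ext ?_ ?_⟩
    · show stalkLin p x _ = c.1
      rw [map_add, ← stalkLin_comp, ← stalkLin_comp, hp1, hp2, FiltNeg17.stalkLin_id, FiltNeg17.stalkLin_zero,
        add_zero]
    · show stalkLin q x _ = c.2
      rw [map_add, ← stalkLin_comp, ← stalkLin_comp, hq1, hq2, FiltNeg17.stalkLin_id, FiltNeg17.stalkLin_zero,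
        zero_add]

/-- Let k be an algebraically closed field of characteristic zero, X a connected proper curve over k (a
proper k-scheme of dimension one) whose closed points are smooth points or nodes, and F a coherent
torsion free O_X-module (every stalk a torsion free module over the local ring). Let x be a node at
which the stalk F_x is isomorphic, as an O_{X,x}-module, to m_x^{⊕a} ⊕ O_{X,x}^{⊕b} (F of type given
by a and b at x). Then there is an open neighbourhood U of x containing no other node such that F|_U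
is isomorphic to I|_U^{⊕a} ⊕ O_U^{⊕b}, where I ⊆ O_X is the ideal sheaf of the reduced closed point
x (existence of an isomorphism; the source produces one whose stalk at x is the given one). The
published statement assumes F of uniform multirank r with b = r − a; this row allows any a and b,
the argument being local at x. -/
theorem result
    (k : Type u) [Field k] [IsAlgClosed k] [CharZero k]
    (X : Scheme.{u}) [X.Over (Spec (CommRingCat.of k))] [IsProper (X ↘ Spec (CommRingCat.of k))]
    [ConnectedSpace X] (hdim : topologicalKrullDim X = 1) (hnod : Curv2.AtWorstNodal k X)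
    (F : X.Modules) (hF : Coh.IsCoh F) (htF : TorSh.IsTorsionFree F)
    (x : X) (hx : Curv2.IsNode k X x) (a b : ℕ)
    (hΦ : Nonempty (F.presheaf.stalk x ≃ₗ[X.presheaf.stalk x]
      ((Fin a → IsLocalRing.maximalIdeal (X.presheaf.stalk x)) × (Fin b → X.presheaf.stalk x)))) :
    ∃ U : X.Opens, x ∈ U ∧ (∀ y ∈ U, Curv2.IsNode k X y → y = x) ∧
      Nonempty (F.restrict U.ι ≅
        (∐ fun _ : Fin a =>
            (ClSub.idealMod (Scheme.IdealSheafData.vanishingIdeal (⟨{x}, hx.1⟩ : TopologicalSpace.Closeds X))).restrict U.ι) ⨿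
          (∐ fun _ : Fin b => Coh.structureModule (↑U : Scheme.{u}))) := by
  classical
  let f := X ↘ Spec (CommRingCat.of k)
  haveI : IsNoetherian X := CohFound.isNoetherian_of_isProper f
  haveI : GeometricallyReduced f := NodalRed10.geometricallyReduced_of_atWorstNodal X hnod
  haveI : AlgebraicGeometry.IsReduced X := GeometricallyReduced.isReduced_of_flat_of_isLocallyNoetherian f
  haveI : LocallyOfFinitePresentation f := inferInstance
  let I := Scheme.IdealSheafData.vanishingIdeal (⟨{x}, hx.1⟩ : TopologicalSpace.Closeds X)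
  have hIc : Coh.IsCoh (ClSub.idealMod I) := CurveCoh17.isCoh_idealMod I
  haveI := hIc.1
  -- the model
  let A : X.Modules := ∐ fun _ : Fin a => ClSub.idealMod I
  let B : X.Modules := FlatMod.freeMod X b
  have hA : Coh.IsCoh A := CohFound.isCoh_of_iso (M2.freeModTensorIso X a (ClSub.idealMod I)) (CurveCoh17.isCoh_tensor (CohFound.isCoh_of_isFinLocFree (M2.isFinLocFree_of_ofRank (M2.isFinLocFreeOfRank_freeMod X a))) hIc)
  have hB : Coh.IsCoh B := CohFound.isCoh_of_isFinLocFree (M2.isFinLocFree_of_ofRank (M2.isFinLocFreeOfRank_freeMod X b))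
  have hG : Coh.IsCoh (A ⨿ B) := by
    have spl : (ShortComplex.mk (coprod.inl : A ⟶ A ⨿ B) (coprod.desc 0 (𝟙 B)) (coprod.inl_desc _ _)).Splitting :=
      { r := coprod.desc (𝟙 A) 0, s := coprod.inr
        f_r := coprod.inl_desc _ _
        s_g := coprod.inr_desc _ _
        id := by apply coprod.hom_ext <;> simp }
    exact VB17.isCoh_extension spl.shortExact hA hB
  obtain ⟨eI⟩ := nonempty_stalk_idealMod_point x hx.1
  obtain ⟨eA⟩ := nonempty_stalk_sigma (fun _ : Fin a => ClSub.idealMod I) x
  obtain ⟨eB⟩ := nonempty_stalk_equiv (M2.isFinLocFreeOfRank_freeMod X b) x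
  obtain ⟨eAB⟩ := nonempty_stalk_coprod A B x
  obtain ⟨Φ⟩ := hΦ
  let ψ := eAB ≪≫ₗ LinearEquiv.prodCongr (eA ≪≫ₗ LinearEquiv.piCongrRight fun _ => eI) eB ≪≫ₗ Φ.symm
  obtain ⟨U₀, hxU₀, ⟨e₀⟩⟩ := Spread17.exists_restrict_iso_of_stalkEquiv hG hF ψ
  -- the other nodes
  have hnode : ∀ y : X, Curv2.IsNode k X y → ¬ IsRegularLocalRing (X.presheaf.stalk y) := fun y hy hreg => by
    have hnm := S18913.not_maxPt_of_closed hdim hy.1
    have hd1 : ringKrullDim (X.presheaf.stalk y) = 1 := by
      refine le_antisymm ((VB17.ringKrullDim_stalk_le_topologicalKrullDim y).trans hdim.le) ?_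
      rw [ringKrullDim_stalk_eq_coheight]
      have : (1 : ℕ∞) ≤ Order.coheight y := ENat.one_le_iff_ne_zero.2 fun h0 => hnm fun z hz => by
        have hmax := Order.coheight_eq_zero.1 h0 hz
        exact (hz.antisymm hmax).eq
      exact_mod_cast this
    have h0 : Curv2.deltaInv (X.presheaf.stalk y) = 0 :=
      (S7653.result _ (Multicross5.isNagata_stalk k y) hd1).2
        ((Hens.isDiscreteValuationRing_iff_regular_dim_one _).2 ⟨hreg, hd1⟩)
    rw [Multicross5.deltaInv_node hy hd1] at h0
    exact one_ne_zero h0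
  obtain ⟨S, hS, hScl⟩ := exists_finset_closedPoints hdim.le
    (show IsClosed ((f.smoothLocus : Set X)ᶜ) from f.smoothLocus.2.isClosed_compl) fun g hg hgS => by
      letI := (GenericZero.isField_stalk_of_maxPt (X := X) (z := g) hg).toField
      haveI : IsRegularLocalRing (X.presheaf.stalk g) := inferInstance
      exact hgS (RegSmooth17.mem_smoothLocus_of_isRegularLocalRing _ _
        (RegSmooth17.formallySmooth_residue_of_perfectField _ _))
  let W : X.Opens := ⟨((S : Set X) \ {x})ᶜ, (Set.Finite.isClosed_biUnion (s := (S : Set X) \ {x})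
    (f := fun p => ({p} : Set X)) (S.finite_toSet.subset Set.sdiff_subset) fun p hp => hScl p hp.1) |> fun h => by
    rw [Set.biUnion_of_singleton] at h; exact h.isOpen_compl⟩
  let U := U₀ ⊓ W
  refine ⟨U, ⟨hxU₀, fun h => h.2 rfl⟩, fun y hy hyn => ?_, ?_⟩
  · by_contra hne
    refine hy.2 ⟨hS.ge ?_, hne⟩
    exact fun hsm => hnode y hyn (GeomRed.isRegularLocalRing_of_mem_smoothLocus hsm)
  let R := Scheme.Modules.restrictFunctor U.ι
  haveI : R.IsLeftAdjoint := inferInstance
  haveI : PreservesColimitsOfSize.{0, 0} R := inferInstance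
  exact ⟨(M2.restrictLEIso F (inf_le_left : U ≤ U₀)).symm ≪≫
    (Scheme.Modules.restrictFunctor (X.homOfLE inf_le_left)).mapIso e₀.symm ≪≫
    M2.restrictLEIso (A ⨿ B) (inf_le_left : U ≤ U₀) ≪≫
    (PreservesColimitPair.iso R A B).symm ≪≫
    coprod.mapIso (PreservesCoproduct.iso R fun _ : Fin a => ClSub.idealMod I)
      (PreservesCoproduct.iso R (fun _ : Fin b => Coh.structureModule X) ≪≫
        Sigma.mapIso fun _ => Scheme.Modules.restrictUnitIso _)⟩

end

end Groth.Agent.S18919
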