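import Groth.Statements.S18921
import Groth.Agent.Lib.Comp17.Conn
import Groth.Agent.Lib.VB17.Line
import Groth.Agent.Lib.KFlat.FinLocFree
import Groth.Agent.Lib.ResDesc11.Basic

set_option autoImplicit false
set_option linter.style.haveILetI false
set_option backward.isDefEq.respectTransparency false
set_option backward.isDefEq.respectTransparency.types false
set_option maxHeartbeats 1000000
universe u
open CategoryTheory CategoryTheory.Limits AlgebraicGeometry
open VBCurve

namespace Groth.Agent.S18921

open Groth.Agent Groth.Agent.Comp17 in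
theorem semistable_iso {k : Type u} [Field k] {X : Scheme.{u}} [X.Over (Spec (CommRingCat.of k))]
    [IsProper (X ↘ Spec (CommRingCat.of k))] (hd : topologicalKrullDim X = 1) {L M M' : X.Modules}
    (hL : PicF.IsInvertible L) (i : M' ≅ M) (h : ShStab.IsSemistable k X L M 1) :
    ShStab.IsSemistable k X L M' 1 := by
  obtain ⟨hc, h0, hp, hs⟩ := (isSemistable_iff k hd hL M).1 h
  refine (isSemistable_iff k hd hL M').2 ⟨CohFound.isCoh_of_iso i.symm hc, fun hz => h0 (hz.of_iso i.symm),
    isPure_of_mono hd i.hom hp, fun F ι hι hF hF0 => ?_⟩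
  rw [e_iso k i, a_iso k L i]
  exact hs F (ι ≫ i.hom) inferInstance hF hF0

theorem subsingleton_restrict_stalk {X : Scheme.{u}} (U : X.Opens) (M : X.Modules) (x : (U : Scheme.{u}))
    (h : Subsingleton (M.presheaf.stalk (U.ι x) : Type u)) : Subsingleton ((M.restrict U.ι).presheaf.stalk x : Type u) :=
  ((Scheme.Modules.restrictStalkNatIso U.ι x).app M).addCommGroupIsoToAddEquiv.toEquiv.subsingleton_congr.2 h

theorem stalk_biprod {X : Scheme.{u}} (A B : X.Modules) (x : X) :
    (∀ a : (A ⊞ B).presheaf.stalk x, a = CurveCoh17.stalkLin (biprod.inl : A ⟶ A ⊞ B) x (CurveCoh17.stalkLin biprod.fst x a) +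
      CurveCoh17.stalkLin (biprod.inr : B ⟶ A ⊞ B) x (CurveCoh17.stalkLin biprod.snd x a)) ∧
    ∀ a, CurveCoh17.stalkLin (biprod.fst : A ⊞ B ⟶ A) x (CurveCoh17.stalkLin biprod.inl x a) = a := by
  refine ⟨fun a => ?_, fun a => ?_⟩
  · have h := congrArg (fun φ => (M1.stalkAb x).map φ) (biprod.total (X := A) (Y := B))
    simp only [Functor.map_add, Functor.map_comp, CategoryTheory.Functor.map_id] at h
    exact (ConcreteCategory.congr_hom h a).symm
  · rw [← CurveCoh17.stalkLin_comp]
    have h := congrArg (fun φ => (M1.stalkAb x).map φ) (biprod.inl_fst (X := A) (Y := B))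
    simp only [CategoryTheory.Functor.map_id] at h
    exact ConcreteCategory.congr_hom h a

open Groth.Agent Groth.Agent.Comp17 in
theorem connected_le_or_disjoint {X : Scheme.{u}} {W V : X.Opens} (hW : IsClosed (W : Set X))
    (hc : _root_.IsConnected (V : Set X)) : V ≤ W ∨ Disjoint (V : Set X) (W : Set X) := by
  rcases ((V : Set X) ∩ (W : Set X)).eq_empty_or_nonempty with h | h
  · exact Or.inr (Set.disjoint_iff_inter_eq_empty.2 h)
  · exact Or.inl (hc.isPreconnected.subset_isClopen ⟨hW, W.isOpen⟩ h)

open Groth.Agent Groth.Agent.Comp17 in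
theorem exists_semistable_zero (k : Type u) [Field k] [IsAlgClosed k] {X : Scheme.{u}} [X.Over (Spec (CommRingCat.of k))]
    [IsProper (X ↘ Spec (CommRingCat.of k))] [Smooth (X ↘ Spec (CommRingCat.of k))]
    (hd : topologicalKrullDim X = 1) (hpure : ∀ x : X, ¬ IsOpen ({x} : Set X)) {L : X.Modules}
    (hL : CohB1.IsAmple L) :
    ∃ M : X.Modules, FlatMod.IsFinLocFree M ∧ (∀ x : X, ¬ Subsingleton (M.presheaf.stalk x)) ∧
      ShStab.IsSemistable k X L M 1 ∧
      ∀ V : X.Opens, IsClosed (V : Set X) → _root_.IsConnected (V : Set X) → e k (piece V M) = 0 := by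
  haveI : IsNoetherian X := VB17.isNoetherian_of_over (k := k) (X := X)
  let P : X.Opens → Prop := fun W => ∃ M : X.Modules, FlatMod.IsFinLocFree M ∧
    (∀ x, x ∉ W → Subsingleton (M.presheaf.stalk x)) ∧ (∀ x, x ∈ W → ¬ Subsingleton (M.presheaf.stalk x)) ∧
    ∀ V : X.Opens, IsClosed (V : Set X) → _root_.IsConnected (V : Set X) → V ≤ W →
      ShStab.IsSemistable k X L (piece V M) 1 ∧ e k (piece V M) = 0
  have hbase : ∀ W : X.Opens, IsClosed (W : Set X) → _root_.IsConnected (W : Set X) → P W := fun W hW hc => by
    letI := overU (k := k) W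
    haveI := isProper_piece (k := k) W hW
    obtain ⟨hint, hX, hdW, hreg⟩ := pieceCurve (k := k) hd W hW hc hpure
    haveI := hint
    haveI := hX.noetherian
    obtain ⟨N, hN, hdeg⟩ := VB17.exists_invertible_deg hX hdW hreg
      (-Curv2.euler k (W : Scheme.{u}) (Coh.structureModule (W : Scheme.{u})))
    have hN1 := (M2.isInvertible_iff_isFinLocFreeOfRank_one N).1 hN
    have hχ : Curv2.euler k (W : Scheme.{u}) N = 0 := by
      rw [Curv2.deg] at hdeg; simp only [Nat.cast_one, one_mul] at hdeg; omega
    haveI : IsClosedImmersion W.ι := IsClosedImmersion.of_isPreimmersion _ (by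
      rw [Scheme.Opens.range_ι]; exact hW)
    let M : X.Modules := (Scheme.Modules.pushforward W.ι).obj N
    let i : M.restrict W.ι ≅ N := asIso ((Scheme.Modules.restrictAdjunction W.ι).counit.app N)
    have hM : FlatMod.IsFinLocFree M :=
      ResDesc11.isFinLocFree_push W.ι ⟨inferInstance, inferInstance, inferInstance⟩
        (M2.isFinLocFree_of_ofRank hN1)
    let i' : piece W M ≅ M := (Scheme.Modules.pushforward W.ι).mapIso i
    have hout : ∀ x, x ∉ W → Subsingleton (M.presheaf.stalk x : Type u) := fun x hx =>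
      @Equiv.subsingleton _ _ ((M1.stalkAb x).mapIso i').addCommGroupIsoToAddEquiv.toEquiv.symm
        (subsingleton_piece W hW M hx)
    have hin : ∀ (F : X.Modules), FlatMod.IsFinLocFreeOfRank 1 (F.restrict W.ι) → ∀ x, x ∈ W →
        ¬ Subsingleton (F.presheaf.stalk x) := fun F hF x hx h => by
      have h1 := VB17.finrank_stalk hF ⟨x, hx⟩
      haveI := subsingleton_restrict_stalk W F ⟨x, hx⟩ h
      rw [Module.finrank_zero_of_subsingleton] at h1
      exact zero_ne_one h1
    have hMr := M2.isFinLocFreeOfRank_of_iso i.symm hN1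
    have he : e k (piece W M) = 0 := by
      rw [e_piece W hW (M2.isQCoh_of_isFinLocFree hM)]
      show (Curv2.euler k (W : Scheme.{u}) (M.restrict W.ι) : ℚ) = 0
      rw [CurveCoh17.euler_iso i, hχ, Int.cast_zero]
    refine ⟨M, hM, hout, hin M hMr, fun V hV hcV hVW => ?_⟩
    have hVW' : V = W := le_antisymm hVW (by
      rcases connected_le_or_disjoint hV hc with h | h
      · exact h
      · obtain ⟨y, hy⟩ := hcV.nonempty
        exact absurd hy (Set.disjoint_left.1 h (hVW hy)))
    subst hVW'
    refine ⟨?_, he⟩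
    have hMc : Coh.IsCoh M := ⟨M2.isQCoh_of_isFinLocFree hM, M1.isFP_isFT (M1.isFP_of_isFinLocFree hM)⟩
    refine semistable_iso hd hL.1 i' ((isSemistable_iff k hd hL.1 M).2 ?_)
    have heM : e k M = 0 := by rw [← e_iso k i', he]
    have hpid : ∀ x : (V : Scheme.{u}), IsPrincipalIdealRing ((V : Scheme.{u}).presheaf.stalk x) :=
      haveI : Smooth ((V : Scheme.{u}) ↘ Spec (CommRingCat.of k)) :=
        inferInstanceAs (Smooth (V.ι ≫ (X ↘ Spec (CommRingCat.of k))))
      (VB17.regCurve' (k := k) (X := (V : Scheme.{u})) hdW).pid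
    have key : ∀ (F : X.Modules) (ι : F ⟶ M), Mono ι → Coh.IsCoh F → ¬ IsZero F →
        topologicalKrullDim (CohB1.support F) = ((1 : ℕ) : WithBot ℕ∞) ∧ e k F ≤ 0 := fun F ι hι hF hF0 => by
      haveI := hι
      haveI : (Scheme.Modules.restrictFunctor V.ι).PreservesMonomorphisms := inferInstance
      let g : F.restrict V.ι ⟶ N := (Scheme.Modules.restrictFunctor V.ι).map ι ≫ i.hom
      obtain ⟨r', hr', hFr⟩ := VB17.exists_rank_of_mono hpid hN1 (DPerf.isCoh_restrict hF V.ι) g
      haveI : IsIso (θ V F) := isIso_of_bijective_or _ fun x => by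
        by_cases hx : x ∈ V
        · exact Or.inl (bijective_θ V F hx)
        · refine Or.inr ⟨?_, subsingleton_piece V hV F hx⟩
          exact @Function.Injective.subsingleton _ _ _ ((M1.mono_iff_stalk ι).1 hι x) (hout x hx)
      interval_cases r'
      · exact absurd (((Scheme.Modules.pushforward V.ι).map_isZero (VB17.isZero_of_rank_zero hFr)).of_iso
          (asIso (θ V F))) hF0
      · refine ⟨le_antisymm (dim_le hd F) ?_, ?_⟩
        · refine le_trans (le_of_eq ?_) (Topology.IsInducing.topologicalKrullDim_le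
            (f := fun y : (V : Scheme.{u}) => (⟨y.1, hin F hFr y.1 y.2⟩ : CohB1.support F))
            (Topology.IsInducing.of_comp (by fun_prop) continuous_subtype_val Topology.IsInducing.subtypeVal))
          rw [hdW, Nat.cast_one]
        · rw [e_iso k (asIso (θ V F)), e_piece V hV hF.1]
          have := (VB17.deg_le_of_mono hX hFr hN1 g).1
          rw [Curv2.deg, Curv2.deg] at this
          simp only [Nat.cast_one, one_mul, hχ] at this
          show (Curv2.euler k (V : Scheme.{u}) (F.restrict V.ι) : ℚ) ≤ 0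
          exact_mod_cast (by omega : Curv2.euler k (V : Scheme.{u}) (F.restrict V.ι) ≤ 0)
    have h0 : ¬ IsZero M := fun hz => by
      obtain ⟨x, hx⟩ := hc.nonempty
      exact hin M hMr x hx (AddCommGrpCat.subsingleton_of_isZero ((M1.stalkAb x).map_isZero hz))
    have hp : ShStab.IsPure X M 1 := fun F ι hι hF hF0 => (key F ι hι hF hF0).1
    refine ⟨hMc, h0, hp, fun F ι hι hF hF0 => ?_⟩
    rw [heM, mul_zero]
    exact mul_nonpos_of_nonneg_of_nonpos (a_pos_of_pure (k := k) hd hL hMc hp h0).le (key F ι hι hF hF0).2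
  have hall : ∀ W : X.Opens, IsClosed (W : Set X) → P W := by
    refine fun W hW => clopen_induction (P := P) ?_ hbase ?_ W hW
    · intro W hW he
      have hz := isZero_piece_empty hW he (Coh.structureModule X)
      refine ⟨_, KFlat.Sch.isFinLocFree_of_isZero hz, fun x _ => ?_, fun x hx => ?_, fun V _ hc hVW => ?_⟩
      · exact AddCommGrpCat.subsingleton_of_isZero ((M1.stalkAb x).map_isZero hz)
      · exact absurd hx (Set.eq_empty_iff_forall_notMem.1 he x)
      · obtain ⟨y, hy⟩ := hc.nonempty
        exact absurd (hVW hy) (Set.eq_empty_iff_forall_notMem.1 he y)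
    · intro W W₁ W₂ hW h₁ h₂ heq hdj ⟨A, hA, hAo, hAi, hAV⟩ ⟨B, hB, hBo, hBi, hBV⟩
      refine ⟨A ⊞ B, KFlat.Sch.isFinLocFree_biprod hA hB, fun x hx => ?_, fun x hx hs => ?_, fun V hV hc hVW => ?_⟩
      · have hx' : x ∉ (W₁ : Set X) ∪ (W₂ : Set X) := heq ▸ hx
        haveI := hAo x fun h => hx' (Or.inl h)
        haveI := hBo x fun h => hx' (Or.inr h)
        refine subsingleton_of_forall_eq 0 fun a => ?_
        rw [(stalk_biprod A B x).1 a, Subsingleton.elim (CurveCoh17.stalkLin biprod.fst x a) 0,
          Subsingleton.elim (CurveCoh17.stalkLin biprod.snd x a) 0, map_zero, map_zero, add_zero]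
      · have hx' : x ∈ (W₁ : Set X) ∪ (W₂ : Set X) := heq ▸ hx
        rcases hx' with h | h
        · exact hAi x h (Function.Surjective.subsingleton (f := CurveCoh17.stalkLin (biprod.fst : A ⊞ B ⟶ A) x)
            fun a => ⟨_, (stalk_biprod A B x).2 a⟩)
        · refine hBi x h (Function.Injective.subsingleton (f := CurveCoh17.stalkLin (biprod.inr : B ⟶ A ⊞ B) x) ?_)
          exact (M1.mono_iff_stalk _).1 inferInstance x
      · rcases connected_le_or_disjoint h₁ hc with h | h
        · haveI : IsIso (pieceMap V (biprod.fst : A ⊞ B ⟶ A)) := isIso_of_bijective_or _ fun x => by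
            by_cases hx : x ∈ V
            · refine Or.inl ?_
              haveI := hBo x fun h2 => Set.disjoint_left.1 hdj (h hx) h2
              have hb : Function.Bijective (CurveCoh17.stalkLin (biprod.fst : A ⊞ B ⟶ A) x) := by
                refine ⟨fun a b hab => ?_, fun a => ⟨_, (stalk_biprod A B x).2 a⟩⟩
                rw [(stalk_biprod A B x).1 a, (stalk_biprod A B x).1 b, hab,
                  Subsingleton.elim (CurveCoh17.stalkLin biprod.snd x a) (CurveCoh17.stalkLin biprod.snd x b)]
              have h1 := (bijective_θ V A hx).comp hb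
              have h2 : ⇑(CurveCoh17.stalkLin (θ V A) x) ∘ ⇑(CurveCoh17.stalkLin (biprod.fst : A ⊞ B ⟶ A) x) =
                  CurveCoh17.stalkLin (pieceMap V biprod.fst) x ∘ CurveCoh17.stalkLin (θ V (A ⊞ B)) x := funext fun a => by
                simp only [Function.comp_apply, ← CurveCoh17.stalkLin_comp, θ_natural]
              rw [h2] at h1
              exact (Function.Bijective.of_comp_iff _ (bijective_θ V _ hx)).1 h1
            · exact Or.inr ⟨subsingleton_piece V hV _ hx, subsingleton_piece V hV _ hx⟩
          obtain ⟨hs, he⟩ := hAV V hV hc h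
          exact ⟨semistable_iso hd hL.1 (asIso (pieceMap V biprod.fst)) hs, by rw [e_iso k (asIso (pieceMap V (biprod.fst : A ⊞ B ⟶ A))), he]⟩
        · have h' : V ≤ W₂ := fun x hx => by
            have : x ∈ (W₁ : Set X) ∪ (W₂ : Set X) := heq ▸ (hVW hx)
            exact this.resolve_left (Set.disjoint_left.1 h hx)
          haveI : IsIso (pieceMap V (biprod.snd : A ⊞ B ⟶ B)) := isIso_of_bijective_or _ fun x => by
            by_cases hx : x ∈ V
            · refine Or.inl ?_
              haveI := hAo x (Set.disjoint_left.1 h hx)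
              have hb : Function.Bijective (CurveCoh17.stalkLin (biprod.snd : A ⊞ B ⟶ B) x) := by
                refine ⟨fun a b hab => ?_, fun b => ⟨CurveCoh17.stalkLin biprod.inr x b, ?_⟩⟩
                · rw [(stalk_biprod A B x).1 a, (stalk_biprod A B x).1 b, hab,
                    Subsingleton.elim (CurveCoh17.stalkLin biprod.fst x a) (CurveCoh17.stalkLin biprod.fst x b)]
                · rw [← CurveCoh17.stalkLin_comp]
                  have h := congrArg (fun φ => (M1.stalkAb x).map φ) (biprod.inr_snd (X := A) (Y := B))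
                  simp only [CategoryTheory.Functor.map_id] at h
                  exact ConcreteCategory.congr_hom h b
              have h1 := (bijective_θ V B hx).comp hb
              have h2 : ⇑(CurveCoh17.stalkLin (θ V B) x) ∘ ⇑(CurveCoh17.stalkLin (biprod.snd : A ⊞ B ⟶ B) x) =
                  CurveCoh17.stalkLin (pieceMap V biprod.snd) x ∘ CurveCoh17.stalkLin (θ V (A ⊞ B)) x := funext fun a => by
                simp only [Function.comp_apply, ← CurveCoh17.stalkLin_comp, θ_natural]
              rw [h2] at h1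
              exact (Function.Bijective.of_comp_iff _ (bijective_θ V _ hx)).1 h1
            · exact Or.inr ⟨subsingleton_piece V hV _ hx, subsingleton_piece V hV _ hx⟩
          obtain ⟨hs, he⟩ := hBV V hV hc h'
          exact ⟨semistable_iso hd hL.1 (asIso (pieceMap V biprod.snd)) hs, by rw [e_iso k (asIso (pieceMap V (biprod.snd : A ⊞ B ⟶ B))), he]⟩
  obtain ⟨M, hM, -, hMi, hMV⟩ := hall ⊤ isClosed_univ
  have hi : ∀ x : X, ¬ Subsingleton (M.presheaf.stalk x) := fun x => hMi x trivial
  have hMc : Coh.IsCoh M := ⟨M2.isQCoh_of_isFinLocFree hM, M1.isFP_isFT (M1.isFP_of_isFinLocFree hM)⟩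
  have he : e k M = 0 := by
    have := eq_of_components (k := k) hd hL.1 hMc 1 0 fun V hV hc => by
      rw [one_mul, zero_mul]; exact (hMV V hV hc le_top).2
    rwa [one_mul, zero_mul] at this
  have h0 : ¬ IsZero M := fun hz => by
    have hne : Nonempty X := by
      by_contra hn
      haveI := not_nonempty_iff.1 hn
      haveI : IsEmpty (TopologicalSpace.IrreducibleCloseds X) := ⟨fun C => isEmptyElim C.isIrreducible.nonempty.some⟩
      have : topologicalKrullDim X = ⊥ := Order.krullDim_eq_bot
      rw [hd] at this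
      exact WithBot.one_ne_bot this
    exact hi hne.some (AddCommGrpCat.subsingleton_of_isZero ((M1.stalkAb hne.some).map_isZero hz))
  refine ⟨M, hM, hi, (isSemistable_iff_pieces hd hL hMc h0).2 fun V hV hc _ => ?_,
    fun V hV hc => (hMV V hV hc le_top).2⟩
  exact ⟨(hMV V hV hc le_top).1, by rw [(hMV V hV hc le_top).2, he, zero_mul, zero_mul]⟩

/-- Let k be an algebraically closed field of characteristic zero, Y a smooth proper k-scheme of
dimension one, possibly disconnected but with no isolated points (every connected component is a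
curve), and L an ample invertible O_Y-module. Say (Y, L) has property P when for any two finite
locally free O_Y-modules E, F with nowhere-zero stalks (support equal to Y) that are semistable of
dimension one with respect to L, the tensor product E ⊗ F is again semistable. If (Y, L) has
property P then for every connected component U of Y, with j : U → Y the inclusion, O_U =
j_*(O_Y|_U) and L_U = j_*(L|_U), the Euler characteristics over k satisfy χ(O_U) · (χ(L) − χ(O_Y)) =
χ(O_Y) · (χ(L_U) − χ(O_U)); in words, χ(O_U)/deg(L|_U) is the same for all components and equals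
χ(O_Y)/deg L. -/
theorem result
    (k : Type u) [Field k] [IsAlgClosed k] [CharZero k]
    (Y : Scheme.{u}) [Y.Over (Spec (CommRingCat.of k))] [IsProper (Y ↘ Spec (CommRingCat.of k))]
    [Smooth (Y ↘ Spec (CommRingCat.of k))] (hdim : topologicalKrullDim Y = 1)
    (hpure : ∀ y : Y, ¬ IsOpen ({y} : Set Y))
    (L : Y.Modules) (hL : CohB1.IsAmple L)
    (hP : ∀ E F : Y.Modules, FlatMod.IsFinLocFree E → FlatMod.IsFinLocFree F →
      (∀ y : Y, ¬ Subsingleton (E.presheaf.stalk y)) → (∀ y : Y, ¬ Subsingleton (F.presheaf.stalk y)) →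
      ShStab.IsSemistable k Y L E 1 → ShStab.IsSemistable k Y L F 1 →
      ShStab.IsSemistable k Y L (CohB1.tensorMod E F) 1)
    (U : Y.Opens) (hUc : IsClopen (U : Set Y)) (hUconn : _root_.IsConnected (U : Set Y)) :
    Curv2.euler k Y ((Scheme.Modules.pushforward U.ι).obj ((Coh.structureModule Y).restrict U.ι)) *
        (Curv2.euler k Y L - Curv2.euler k Y (Coh.structureModule Y)) =
      Curv2.euler k Y (Coh.structureModule Y) *
        (Curv2.euler k Y ((Scheme.Modules.pushforward U.ι).obj (L.restrict U.ι)) -
          Curv2.euler k Y ((Scheme.Modules.pushforward U.ι).obj ((Coh.structureModule Y).restrict U.ι))) := by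
  haveI : IsNoetherian Y := VB17.isNoetherian_of_over (k := k) (X := Y)
  obtain ⟨E, hE, hE0, hEs, heE⟩ := exists_semistable_zero k hdim hpure hL
  have hss := hP E E hE hE hE0 hE0 hEs hEs
  obtain ⟨hcEE, hne, hp, -⟩ := (Comp17.isSemistable_iff k hdim hL.1 _).1 hss
  have haEE := Comp17.a_pos_of_pure (k := k) hdim hL hcEE hp hne
  set γ := - (Comp17.e k (CohB1.tensorMod E E) / Comp17.a k L (CohB1.tensorMod E E)) with hγ
  have hall : ∀ W : Y.Opens, IsClosed (W : Set Y) → _root_.IsConnected (W : Set Y) →
      1 * Comp17.e k (Comp17.piece W (Coh.structureModule Y)) =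
        γ * Comp17.a k L (Comp17.piece W (Coh.structureModule Y)) := fun W hW hc => by
    obtain ⟨r, hr, hEr⟩ := Comp17.exists_rank (k := k) hdim W hW hc hpure hE hE0
    obtain ⟨-, heq, haq⟩ := Comp17.piece_tensor (k := k) hdim W hW hc hpure hL.1 hE hE hEr hEr
    have hpe := Comp17.piece_eq (k := k) hdim hL hss hW
    rw [heq, haq, heE W hW hc, mul_zero, zero_add, zero_sub] at hpe
    rw [one_mul, hγ]
    have hr2 : (0 : ℚ) < r * r := by positivity
    field_simp
    apply mul_left_cancel₀ hr2.ne'
    linarith
  have hcO : Coh.IsCoh (Coh.structureModule Y) := CurveCoh17.isCoh_structureModule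
  have hg := Comp17.eq_of_components (k := k) hdim hL.1 hcO 1 γ hall
  have hu := hall U hUc.1 hUconn
  rw [one_mul, Comp17.a_structureModule (k := k) hdim] at hg
  rw [one_mul, Comp17.a_piece_structureModule L U hUc.1] at hu
  have : (Comp17.e k (Comp17.piece U (Coh.structureModule Y))) *
      ((Curv2.euler k Y L : ℚ) - Curv2.euler k Y (Coh.structureModule Y)) =
      Comp17.e k (Coh.structureModule Y) * ((Curv2.euler k Y (Comp17.piece U L) : ℚ) -
        Curv2.euler k Y (Comp17.piece U (Coh.structureModule Y))) := by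
    rw [hu, hg]; ring
  simp only [Comp17.e] at this
  exact_mod_cast this

end Groth.Agent.S18921
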