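import Groth.Statements.S18923
import Groth.Agent.Lib.Comp17.Conn

set_option autoImplicit false
universe u
open CategoryTheory CategoryTheory.Limits AlgebraicGeometry
open VBCurve

namespace Groth.Agent.S18923

/-- Let k be an algebraically closed field of characteristic zero, Y a smooth proper k-scheme of
dimension one, possibly disconnected but with no isolated points, and L an ample invertible
O_Y-module such that for every connected component U of Y, with j : U → Y, O_U = j_*(O_Y|_U) and L_U
= j_*(L|_U), one has χ(O_U) · (χ(L) − χ(O_Y)) = χ(O_Y) · (χ(L_U) − χ(O_U)) (all correction terms of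
the components vanish). Let E and F be finite locally free O_Y-modules with nowhere-zero stalks,
both semistable of dimension one with respect to L, and write α(M) = χ(M ⊗ L) − χ(M). Then χ(E ⊗
F)/α(E ⊗ F) = χ(E)/α(E) + χ(F)/α(F) − χ(O_Y)/(χ(L) − χ(O_Y)) as rational numbers; equivalently the
slope of E ⊗ F is the sum of the slopes of E and F. The published statement speaks of any two
semistable locally free sheaves; this row takes E and F with nowhere-zero stalks (support all of Y),
without which E ⊗ F can be zero and the slopes undefined. -/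
theorem result
    (k : Type u) [Field k] [IsAlgClosed k] [CharZero k]
    (Y : Scheme.{u}) [Y.Over (Spec (CommRingCat.of k))] [IsProper (Y ↘ Spec (CommRingCat.of k))]
    [Smooth (Y ↘ Spec (CommRingCat.of k))] (hdim : topologicalKrullDim Y = 1)
    (hpure : ∀ y : Y, ¬ IsOpen ({y} : Set Y))
    (L : Y.Modules) (hL : CohB1.IsAmple L)
    (hB : ∀ U : Y.Opens, IsClopen (U : Set Y) → _root_.IsConnected (U : Set Y) →
      Curv2.euler k Y ((Scheme.Modules.pushforward U.ι).obj ((Coh.structureModule Y).restrict U.ι)) * (Curv2.euler k Y L - Curv2.euler k Y (Coh.structureModule Y)) =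
        Curv2.euler k Y (Coh.structureModule Y) * (Curv2.euler k Y ((Scheme.Modules.pushforward U.ι).obj (L.restrict U.ι)) - Curv2.euler k Y ((Scheme.Modules.pushforward U.ι).obj ((Coh.structureModule Y).restrict U.ι))))
    (E F : Y.Modules) (hE : FlatMod.IsFinLocFree E) (hF : FlatMod.IsFinLocFree F)
    (hE0 : ∀ y : Y, ¬ Subsingleton (E.presheaf.stalk y)) (hF0 : ∀ y : Y, ¬ Subsingleton (F.presheaf.stalk y))
    (hEs : ShStab.IsSemistable k Y L E 1) (hFs : ShStab.IsSemistable k Y L F 1) :
    ((Curv2.euler k Y (CohB1.tensorMod E F) : ℚ) /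
        ((Curv2.euler k Y (CohB1.tensorMod (CohB1.tensorMod E F) L) - Curv2.euler k Y (CohB1.tensorMod E F) : ℤ) : ℚ)) =
      (Curv2.euler k Y E : ℚ) / ((Curv2.euler k Y (CohB1.tensorMod E L) - Curv2.euler k Y E : ℤ) : ℚ) +
        (Curv2.euler k Y F : ℚ) / ((Curv2.euler k Y (CohB1.tensorMod F L) - Curv2.euler k Y F : ℤ) : ℚ) -
        (Curv2.euler k Y (Coh.structureModule Y) : ℚ) /
          ((Curv2.euler k Y L - Curv2.euler k Y (Coh.structureModule Y) : ℤ) : ℚ) := by
  haveI : IsNoetherian Y := VB17.isNoetherian_of_over (k := k) (X := Y)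
  obtain ⟨hcE, hE1, hpE, -⟩ := (Comp17.isSemistable_iff k hdim hL.1 E).1 hEs
  obtain ⟨hcF, hF1, hpF, -⟩ := (Comp17.isSemistable_iff k hdim hL.1 F).1 hFs
  have haE := Comp17.a_pos_of_pure (k := k) hdim hL hcE hpE hE1
  have haF := Comp17.a_pos_of_pure (k := k) hdim hL hcF hpF hF1
  have hcO : Coh.IsCoh (Coh.structureModule Y) := CurveCoh17.isCoh_structureModule
  have hcEF : Coh.IsCoh (CohB1.tensorMod E F) := CurveCoh17.isCoh_tensor hcE hcF
  have haO : 0 < Comp17.a k L (Coh.structureModule Y) := Comp17.pos_of_components hdim hL.1 hcO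
    fun W hW hc => (Comp17.a_piece_pos (k := k) hdim W hW hc hpure hL hE hE0 hEs).2
  have haEF : 0 < Comp17.a k L (CohB1.tensorMod E F) := Comp17.pos_of_components hdim hL.1 hcEF
    fun W hW hc => by
      obtain ⟨r, hr, hEr⟩ := Comp17.exists_rank (k := k) hdim W hW hc hpure hE hE0
      obtain ⟨s, hs, hFs'⟩ := Comp17.exists_rank (k := k) hdim W hW hc hpure hF hF0
      rw [(Comp17.piece_tensor (k := k) hdim W hW hc hpure hL.1 hE hF hEr hFs').2.2]
      have := (Comp17.a_piece_pos (k := k) hdim W hW hc hpure hL hE hE0 hEs).2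
      positivity
  set μE := Comp17.e k E / Comp17.a k L E with hμE
  set μF := Comp17.e k F / Comp17.a k L F with hμF
  set γ := Comp17.e k (Coh.structureModule Y) / Comp17.a k L (Coh.structureModule Y) with hγ
  have key : 1 * Comp17.e k (CohB1.tensorMod E F) = (μE + μF - γ) * Comp17.a k L (CohB1.tensorMod E F) := by
    refine Comp17.eq_of_components hdim hL.1 hcEF _ _ fun W hW hc => ?_
    obtain ⟨r, hr, hEr⟩ := Comp17.exists_rank (k := k) hdim W hW hc hpure hE hE0
    obtain ⟨s, hs, hFs'⟩ := Comp17.exists_rank (k := k) hdim W hW hc hpure hF hF0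
    obtain ⟨hrE, heq, haq⟩ := Comp17.piece_tensor (k := k) hdim W hW hc hpure hL.1 hE hF hEr hFs'
    obtain ⟨hsF, -, -⟩ := Comp17.piece_tensor (k := k) hdim W hW hc hpure hL.1 hF hF hFs' hFs'
    have h1 : Comp17.e k (Comp17.piece W E) = μE * Comp17.a k L (Comp17.piece W E) := by
      have := Comp17.piece_eq (k := k) hdim hL hEs hW
      rw [hμE]; field_simp; linarith
    have h2 : Comp17.e k (Comp17.piece W F) = μF * Comp17.a k L (Comp17.piece W F) := by
      have := Comp17.piece_eq (k := k) hdim hL hFs hW
      rw [hμF]; field_simp; linarith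
    have h3 : Comp17.e k (Comp17.piece W (Coh.structureModule Y)) =
        γ * Comp17.a k L (Comp17.piece W (Coh.structureModule Y)) := by
      have := congrArg (fun z : ℤ => (z : ℚ)) (hB W ⟨hW, W.isOpen⟩ hc)
      push_cast at this
      rw [Comp17.a_piece_structureModule L W hW, hγ, Comp17.a_structureModule (k := k) hdim] 
      rw [Comp17.a_structureModule (k := k) hdim] at haO
      field_simp
      exact this
    rw [one_mul, heq, haq, h1, h2, h3, hrE, hsF]
    ring
  rw [one_mul] at key
  have hh : (Comp17.e k (CohB1.tensorMod E F)) / Comp17.a k L (CohB1.tensorMod E F) = μE + μF - γ := by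
    rw [key, mul_div_cancel_right₀ _ haEF.ne']
  rw [hμE, hμF, hγ, Comp17.a_structureModule (k := k) hdim] at hh
  simpa [Comp17.e, Comp17.a] using hh

end Groth.Agent.S18923
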