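import Groth.Statements.S18924
import Groth.Agent.Lib.ResCount28.Basic

set_option autoImplicit false
universe u
open ResHyp

namespace Groth.Agent.S18924

/-- Let F be a finite field with q elements and let n ≥ 3 be odd. Count the pairs (f, g) where f is a
binary quadratic form and g a binary form of degree n over F, recorded by their coefficient vectors
of lengths 3 and n + 1 (leading coefficients may vanish), whose resultant — the Sylvester
determinant of the two coefficient vectors with size parameters 2 and n — equals 1. The number of
such pairs is q ^ (n + 3) - q ^ (n + 1). (The published statement gives q ^ (n + 3) + q ^ (n + 1);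
for q = 3 and n = 3 the count is 648, not 810.) -/
theorem result (F : Type u) [Field F] [Fintype F] (n : ℕ)
    (hn : Odd n) (h3 : 3 ≤ n) :
    Nat.card {p : (Fin 3 → F) × (Fin (n + 1) → F) //
      Polynomial.resultant (∑ i : Fin 3, Polynomial.C (p.1 i) * Polynomial.X ^ (i : ℕ))
        (∑ j : Fin (n + 1), Polynomial.C (p.2 j) * Polynomial.X ^ (j : ℕ)) 2 n = 1} =
      Fintype.card F ^ (n + 3) - Fintype.card F ^ (n + 1) := by
  have hq : 2 ≤ Fintype.card F := Fintype.one_lt_card
  have h1 := (ResCount28.card_resultant_eq_one (F := F) hn).symm.trans (ResCount28.card_resultant_ne_zero (by omega))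
  have h2 : Nat.card {p : (Fin 3 → F) × (Fin (n + 1) → F) //
      (ResCount28.poly 3 p.1).resultant (ResCount28.poly (n + 1) p.2) 2 n = 1} =
      (Fintype.card F - 1) * Fintype.card F ^ n * (Fintype.card F ^ 2 + Fintype.card F) := by
    refine Nat.eq_of_mul_eq_mul_left (show 0 < Fintype.card F - 1 by omega) ?_
    rw [h1]; ring
  refine h2.trans ?_
  obtain ⟨r, hr⟩ : ∃ r, Fintype.card F = r + 1 := ⟨Fintype.card F - 1, by omega⟩
  rw [hr, Nat.add_sub_cancel]
  refine (Nat.sub_eq_of_eq_add ?_).symm
  ring

end Groth.Agent.S18924
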