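import Mathlib.AlgebraicGeometry.Geometrically.Connected
import Mathlib.AlgebraicGeometry.Geometrically.Reduced
import Mathlib.AlgebraicGeometry.Morphisms.Finite
import Mathlib.AlgebraicGeometry.Morphisms.Flat
import Mathlib.AlgebraicGeometry.Morphisms.Proper
import Groth.Prelude.Def_Coh
import Groth.Prelude.Def_ClSub2
import Mathlib
import Groth.Agent.Lib.Stein6.Core
import Groth.Agent.Lib.RigidRel.H0
import Groth.Agent.Lib.RigidRel.Global
import Groth.Agent.Lib.RelFPH13.Exact
import Groth.Agent.Lib.CurveCoh17.Skyscraper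
import Groth.Agent.Lib.Pinch4.Std

set_option autoImplicit false
universe u
namespace FinCov
end FinCov
open FinCov

namespace Groth.Agent.S18926

open CategoryTheory CategoryTheory.Limits AlgebraicGeometry in
/-- Let k be a field, Y a proper, geometrically connected and geometrically reduced scheme over k, and ρ
: X ⟶ Y a finite, flat and surjective morphism. If the zeroth cohomology group of the cokernel of
the O_Y-module map O_Y ⟶ ρ_* O_X has at most one element, then X is geometrically connected over k.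
(The published statement assumes Y projective and takes for X one of the finite locally free
Gorenstein covers of degree 3, 4 or 5 that it constructs, with the cokernel identified with a dual
vector bundle; this row assumes only that ρ is finite, flat and surjective and that Y is proper.) -/
theorem result
    (k : Type u) [Field k] (X Y : Scheme.{u}) (g : Y ⟶ Spec (CommRingCat.of k)) (ρ : X ⟶ Y)
    [IsProper g] [GeometricallyConnected g] [GeometricallyReduced g]
    [IsFinite ρ] [Flat ρ] [Surjective ρ]
    (h0 : Subsingleton (Coh.HH Y (cokernel (ClSub.unitToPush ρ)) 0)) :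
    GeometricallyConnected (ρ ≫ g) := by
  haveI : Mono (ClSub.unitToPush ρ) := (M1.mono_iff_app _).2 fun U a b (hab : ρ.app U a = ρ.app U b) => by
    refine Y.sheaf.eq_of_locally_eq' (fun W : {W : Y.affineOpens // W.1 ≤ U} => W.1.1) U (fun W => homOfLE W.2) ?_ a b ?_
    · intro y hy
      obtain ⟨W, hW, hyW, hWU⟩ := exists_isAffineOpen_mem_and_subset hy
      exact TopologicalSpace.Opens.mem_iSup.mpr ⟨⟨⟨W, hW⟩, hWU⟩, hyW⟩
    · rintro ⟨⟨W, hW⟩, hWU⟩
      refine Pinch4.app_injective_of_flat_surjective ρ hW ?_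
      have e : ∀ c : Γ(Y, U), ρ.app W (Y.presheaf.map (homOfLE hWU).op c) =
          X.presheaf.map (homOfLE (ρ.preimage_mono hWU)).op (ρ.app U c) := fun c =>
        ConcreteCategory.congr_hom (ρ.naturality (homOfLE hWU).op) c
      exact (e a).trans ((congrArg (X.presheaf.map (homOfLE (ρ.preimage_mono hWU)).op) hab).trans (e b).symm)
  haveI hΓ : Subsingleton Γ(cokernel (ClSub.unitToPush ρ), (⊤ : Y.Opens)) :=
    (CurveCoh17.hh0 (cokernel (ClSub.unitToPush ρ))).symm.subsingleton
  let E : ShortComplex Y.Modules := ShortComplex.mk (ClSub.unitToPush ρ) (cokernel.π _) (cokernel.condition _)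
  haveI : Mono E.f := ‹Mono (ClSub.unitToPush ρ)›
  have hsur : Function.Surjective ρ.appTop.hom := fun b =>
    M1.sections_exact (S := E) (ShortComplex.exact_cokernel _) ⊤ b (Subsingleton.elim _ _)
  have hY : Function.Surjective g.appTop.hom := RigidRel.surjective_appTop g
  haveI : Nontrivial Γ(X, (⊤ : X.Opens)) := by
    haveI : ConnectedSpace ↥Y := by
      haveI : ConnectedSpace ↥(pullback g (𝟙 _)) :=
        GeometricallyConnected.geometrically_connectedSpace _ _ _ (IsPullback.of_hasPullback g (𝟙 (Spec (CommRingCat.of k))))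
      exact (pullback.fst g (𝟙 _)).homeomorph.surjective.connectedSpace (pullback.fst g (𝟙 _)).continuous
    obtain ⟨y⟩ := ‹ConnectedSpace ↥Y›.toNonempty
    obtain ⟨x, -⟩ := ρ.surjective y
    haveI : Nonempty ↥X := ⟨x⟩
    haveI : Nonempty (⊤ : X.Opens) := ⟨⟨x, trivial⟩⟩
    infer_instance
  let φ : k →+* Γ(X, (⊤ : X.Opens)) := ((Scheme.ΓSpecIso (CommRingCat.of k)).inv ≫ (ρ ≫ g).appTop).hom
  have hb : Function.Bijective (ρ ≫ g).appTop.hom := by
    have h1 : Function.Bijective φ := ⟨φ.injective, by
      intro b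
      obtain ⟨b₁, hb₁⟩ := hsur b
      obtain ⟨b₂, hb₂⟩ := hY b₁
      refine ⟨(Scheme.ΓSpecIso (CommRingCat.of k)).hom b₂, ?_⟩
      show (ρ ≫ g).appTop ((Scheme.ΓSpecIso (CommRingCat.of k)).inv ((Scheme.ΓSpecIso (CommRingCat.of k)).hom b₂)) = b
      rw [Iso.hom_inv_id_apply, Scheme.Hom.comp_appTop, ← hb₁, ← hb₂]
      rfl⟩
    exact (Function.Bijective.of_comp_iff _ (Scheme.ΓSpecIso (CommRingCat.of k)).symm.commRingCatIsoToRingEquiv.bijective).mp h1
  refine Stein6.geometricallyConnected_of_app_bijective (ρ ≫ g) fun U => ?_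
  obtain rfl | rfl : U = ⊤ ∨ U = ⊥ := by
    rcases Set.eq_empty_or_nonempty (U : Set (Spec (CommRingCat.of k))) with h | ⟨p, hp⟩
    · exact Or.inr (TopologicalSpace.Opens.ext h)
    · haveI : Subsingleton (Spec (CommRingCat.of k)) := inferInstanceAs (Subsingleton (PrimeSpectrum k))
      exact Or.inl (TopologicalSpace.Opens.ext (Set.eq_univ_of_forall fun q => Subsingleton.elim p q ▸ hp))
  · exact hb
  · haveI : Subsingleton Γ(X, (ρ ≫ g) ⁻¹ᵁ ⊥) := CommRingCat.subsingleton_of_isTerminal X.sheaf.isTerminalOfEmpty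
    haveI : Subsingleton Γ(Spec (CommRingCat.of k), ⊥) :=
      CommRingCat.subsingleton_of_isTerminal (Spec (CommRingCat.of k)).sheaf.isTerminalOfEmpty
    exact ⟨fun a b _ => Subsingleton.elim a b, fun b => ⟨0, Subsingleton.elim _ _⟩⟩

end Groth.Agent.S18926
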