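import Groth.Statements.S18928
import Mathlib.RingTheory.DividedPowers.Basic

set_option autoImplicit false
universe u
open DPow

namespace Groth.Agent.S18928

/-- Let B be a commutative ring, I an ideal of B with a divided power structure, p a prime, r a natural
number, b an element of B and δ an element of I. Then (b + δ)^(p^r) − b^(p^r) lies in the ideal p^r
I. (The source states this for a divided power thickening over the Witt vectors of length n and 0 ≤
r ≤ n; neither restriction is used.) -/
theorem result {B : Type u} [CommRing B] {I : Ideal B}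
    (hI : DividedPowers I) (p : ℕ) [Fact p.Prime] (r : ℕ) (b δ : B) (hδ : δ ∈ I) :
    (b + δ) ^ (p ^ r) - b ^ (p ^ r) ∈ Ideal.span {((p : B) ^ r)} * I := by
  have key : ∀ n j : ℕ, 0 < j → δ ^ j * (n.choose j : B) ∈ Ideal.span {(n : B)} * I := by
    intro n j hj
    obtain ⟨c, hc⟩ : (n : ℕ) ∣ j.factorial * n.choose j := by
      rw [← Nat.descFactorial_eq_factorial_mul_choose]
      obtain ⟨i, rfl⟩ : ∃ i, j = i + 1 := ⟨j - 1, by omega⟩
      rcases n with _ | m
      · simp
      · exact ⟨m.descFactorial i, Nat.succ_descFactorial_succ m i⟩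
    rw [← hI.factorial_mul_dpow_eq_pow hδ, mul_right_comm, ← Nat.cast_mul, hc, Nat.cast_mul,
      mul_assoc]
    exact Ideal.mul_mem_mul (Ideal.mem_span_singleton_self _)
      (I.mul_mem_left _ (hI.dpow_mem (by omega) hδ))
  rw [add_comm b δ, add_pow, Finset.sum_range_succ']
  simp only [pow_zero, one_mul, Nat.sub_zero, Nat.choose_zero_right, Nat.cast_one, mul_one,
    add_sub_cancel_right]
  refine Submodule.sum_mem _ fun i _ => ?_
  rw [mul_right_comm, ← Nat.cast_pow]
  exact Ideal.mul_mem_right _ _ (key _ (i + 1) (by omega))

end Groth.Agent.S18928
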