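import Groth.Statements.S18929
import Groth.Agent.Lib.WittThetaH7.Basic
import Mathlib.RingTheory.DividedPowers.Basic

set_option autoImplicit false
universe u
open DPow

namespace Groth.Agent.S18929

/-- Let p be a prime, n a natural number, B a commutative ring in which p^n = 0, and I an ideal of B
equipped with divided powers. There is a ring homomorphism θ from the truncated Witt vectors
W_n(B/I) to B such that, for every Witt vector x over B, θ applied to the truncation of the image of
x in W_n(B/I) equals Σ_{i<n} p^i x_i^(p^(n−i)); in particular this sum depends only on the residues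
of x_0, …, x_{n−1} modulo I. (The source works with a divided power thickening of an algebra over a
perfect field and also checks linearity over the Witt vectors of that field; only the ring
homomorphism is asserted here. θ is unique, the truncation-of-reduction map being surjective.) -/
theorem result (p : ℕ) [Fact p.Prime] (n : ℕ)
    {B : Type u} [CommRing B] (hp : (p : B) ^ n = 0) {I : Ideal B} (hI : DividedPowers I) :
    ∃ θ : TruncatedWittVector p n (B ⧸ I) →+* B, ∀ x : WittVector p B, θ (WittVector.truncate n (WittVector.map (Ideal.Quotient.mk I) x)) =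
        ∑ i : Fin n, (p : B) ^ (i : ℕ) * (x.coeff i) ^ (p ^ (n - i)) := by
  classical
  have hterm : ∀ (i : ℕ) (a : B), i ≤ n → a ∈ I → (p : B) ^ i * a ^ (p ^ (n - i)) = 0 := by
    intro i a hi ha
    rw [← hI.factorial_mul_dpow_eq_pow ha]
    obtain ⟨c, hc⟩ : p ^ (n - i) ∣ (p ^ (n - i)).factorial :=
      Nat.dvd_factorial (pow_pos (Nat.Prime.pos Fact.out) _) le_rfl
    rw [hc, Nat.cast_mul, Nat.cast_pow, mul_assoc, ← mul_assoc, ← pow_add, Nat.add_sub_of_le hi, hp, zero_mul]
  let F : WittVector p B →+* TruncatedWittVector p n (B ⧸ I) :=
    (WittVector.truncate n).comp (WittVector.map (Ideal.Quotient.mk I))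
  have hFs : Function.Surjective F :=
    (WittVector.truncate_surjective p n _).comp (WittVector.map_surjective _ Ideal.Quotient.mk_surjective)
  have hker : RingHom.ker F ≤ RingHom.ker (WittVector.ghostComponent n : WittVector p B →+* B) := by
    intro x hx
    rw [RingHom.mem_ker, Groth.Agent.WittThetaH7.ghostComponent_eq_sum n hp]
    refine Finset.sum_eq_zero fun i _ => hterm _ _ i.isLt.le ?_
    have := (WittVector.mem_ker_truncate n _).1 (show WittVector.map (Ideal.Quotient.mk I) x ∈ RingHom.ker (WittVector.truncate n) from hx) i i.isLt
    rwa [WittVector.map_coeff, Ideal.Quotient.eq_zero_iff_mem] at this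
  refine ⟨RingHom.liftOfSurjective F hFs ⟨WittVector.ghostComponent n, hker⟩, fun x => ?_⟩
  rw [← Groth.Agent.WittThetaH7.ghostComponent_eq_sum n hp]
  exact RingHom.liftOfRightInverse_comp_apply F _ _ ⟨WittVector.ghostComponent n, hker⟩ x

end Groth.Agent.S18929
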