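import Groth.Statements.S18936
import Mathlib
import Groth.Agent.Lib.H2Alg.WeakAss

set_option autoImplicit false
universe u
open CAlg

namespace Groth.Agent.S18936
open TensorProduct

/-- Let A be a Noetherian commutative ring, q a prime ideal of A and f an element of A whose image in
the localization A_q is a non-zero-divisor. Then there is an element b of A not in q such that the
image of f in A[1/b] is a non-zero-divisor. -/
theorem result {A : Type u} [CommRing A] [IsNoetherianRing A]
    (q : Ideal A) [q.IsPrime] (f : A)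
    (hf : algebraMap A (Localization.AtPrime q) f ∈ nonZeroDivisors (Localization.AtPrime q)) :
    ∃ b : A, b ∉ q ∧ algebraMap A (Localization.Away b) f ∈ nonZeroDivisors (Localization.Away b) := by
  classical
  obtain ⟨G, hG⟩ := (IsNoetherian.noetherian (LinearMap.ker (LinearMap.mulLeft A f)) : (LinearMap.ker (LinearMap.mulLeft A f)).FG)
  have hu : ∀ x : A, f * x = 0 → ∃ u, u ∉ q ∧ u * x = 0 := fun x hx => by
    have : algebraMap A (Localization.AtPrime q) x = 0 := mem_nonZeroDivisors_iff.1 hf |>.1 _ (by rw [← map_mul, hx, map_zero])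
    obtain ⟨u, hu⟩ := (IsLocalization.map_eq_zero_iff q.primeCompl _ _).1 this
    exact ⟨u, u.2, hu⟩
  choose! U hU hU' using hu
  have hG0 : ∀ g ∈ G, f * g = 0 := fun g hg => LinearMap.mem_ker.1 (hG ▸ Submodule.subset_span hg : g ∈ LinearMap.ker (LinearMap.mulLeft A f))
  refine ⟨∏ g ∈ G, U g, fun h => ?_, ?_⟩
  · obtain ⟨g, hg, hgq⟩ := (Ideal.IsPrime.prod_mem_iff).1 h
    exact hU g (hG0 g hg) hgq
  set b := ∏ g ∈ G, U g
  have hb : ∀ x, f * x = 0 → b * x = 0 := fun x hx => by
    have hm : x ∈ Submodule.span A (G : Set A) := hG.symm ▸ (LinearMap.mem_ker.2 hx)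
    induction hm using Submodule.span_induction with
    | mem g hg => obtain ⟨t, ht⟩ := Finset.dvd_prod_of_mem U hg; rw [show b = U g * t from ht, mul_right_comm, hU' g (hG0 g hg), zero_mul]
    | zero => simp
    | add u v hu hv ihu ihv =>
      have h0 : ∀ w ∈ Submodule.span A (G : Set A), f * w = 0 := fun w hw => LinearMap.mem_ker.1 (hG ▸ hw : w ∈ LinearMap.ker (LinearMap.mulLeft A f))
      rw [mul_add, ihu (h0 u hu), ihv (h0 v hv), add_zero]
    | smul c u hu ihu =>
      have h0 : f * u = 0 := LinearMap.mem_ker.1 (hG ▸ hu : u ∈ LinearMap.ker (LinearMap.mulLeft A f))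
      rw [smul_eq_mul, mul_left_comm, ihu h0, mul_zero]
  rw [mem_nonZeroDivisors_iff_left]
  intro z hz
  obtain ⟨x, s, rfl⟩ := IsLocalization.exists_mk'_eq (Submonoid.powers b) z
  rw [IsLocalization.mul_mk'_eq_mk'_of_mul, IsLocalization.mk'_eq_zero_iff] at hz
  obtain ⟨t, ht⟩ := hz
  rw [mul_left_comm] at ht
  rw [IsLocalization.mk'_eq_zero_iff]
  refine ⟨⟨b * t, mul_mem (Submonoid.mem_powers b) t.2⟩, ?_⟩
  rw [mul_assoc]; exact hb _ ht

end Groth.Agent.S18936
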