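import Groth.Statements.S18937
import Groth.Agent.Lib.CI2.RImm
import Groth.Prelude.Def_RegImm
import Mathlib

set_option autoImplicit false
universe u
open CategoryTheory AlgebraicGeometry
open RegImm

namespace Groth.Agent.S18937
open CategoryTheory CategoryTheory.Limits AlgebraicGeometry
open scoped Pointwise

theorem isWeaklyRegular_map_equiv {R S : Type u} [CommRing R] [CommRing S] (e : R ≃+* S) (l : List R) :
    RingTheory.Sequence.IsWeaklyRegular R l ↔ RingTheory.Sequence.IsWeaklyRegular S (l.map e) :=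
  e.toAddEquiv.isWeaklyRegular_congr (List.forall₂_map_right_iff.mpr (List.forall₂_same.mpr fun r _ x => map_mul e r x))

theorem exists_away_witness {P : CommRingCat.{u}} (I : Ideal P)
    (h : RegImm.IsRegularImmersion RegImm.Kind.regular (Spec.map (CommRingCat.ofHom (Ideal.Quotient.mk I))))
    (q : PrimeSpectrum (P ⧸ I)) :
    ∃ a : P, a ∉ q.asIdeal.comap (Ideal.Quotient.mk I) ∧ ∃ l : List (Localization.Away a),
      RingTheory.Sequence.IsWeaklyRegular (Localization.Away a) l ∧
        I.map (algebraMap P (Localization.Away a)) = Ideal.ofList l := by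
  let i := Spec.map (CommRingCat.ofHom (Ideal.Quotient.mk I))
  haveI : IsClosedImmersion i := IsClosedImmersion.spec_of_surjective _ Ideal.Quotient.mk_surjective
  obtain ⟨U, hz, hcl, rs, hrs, hker⟩ := h.2 q
  haveI : IsClosedImmersion (i ∣_ U.1) := hcl
  obtain ⟨_, ⟨a, rfl⟩, hpa, haU⟩ := PrimeSpectrum.isTopologicalBasis_basic_opens.exists_subset_of_mem_open hz U.1.2
  let e := (Scheme.ΓSpecIso P).commRingCatIsoToRingEquiv
  let a' : Γ(Spec P, ⊤) := e.symm a
  let D := (Spec P).basicOpen a'
  have hD : D = PrimeSpectrum.basicOpen a := basicOpen_eq_of_affine a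
  have hDU : D ≤ U.1 := by
    rw [hD]; exact haU
  haveI hloc := (isAffineOpen_top (Spec P)).isLocalization_basicOpen a'
  let f := (Spec P).presheaf.map (homOfLE (le_top : U.1 ≤ ⊤)).op a'
  have hDf : D = (Spec P).basicOpen f := by
    rw [Scheme.basicOpen_res]; exact (inf_eq_right.2 hDU).symm
  letI : Algebra Γ(Spec P, U.1) Γ(Spec P, D) := ((Spec P).presheaf.map (homOfLE hDU).op).hom.toAlgebra
  haveI : IsLocalization.Away f Γ(Spec P, D) := U.2.isLocalization_of_eq_basicOpen f (homOfLE hDU) hDf
  haveI : Module.Flat Γ(Spec P, U.1) Γ(Spec P, D) := IsLocalization.flat _ (Submonoid.powers f)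
  have hwr : RingTheory.Sequence.IsWeaklyRegular Γ(Spec P, D) (rs.map (algebraMap _ Γ(Spec P, D))) :=
    RingTheory.Sequence.IsWeaklyRegular.of_flat hrs.toIsWeaklyRegular
  have hkD : RingHom.ker (i.app D).hom = Ideal.ofList (rs.map (algebraMap _ Γ(Spec P, D))) := by
    rw [Groth.Agent.CI2.ker_app_basicOpen i U.2 f hDf hDU, hker, Ideal.map_ofList]
    rfl
  haveI : IsClosedImmersion (i ∣_ ⊤) := inferInstance
  have hkT : RingHom.ker (i.app ⊤).hom = I.map e.symm.toRingHom := by
    refine Eq.trans ?_ (Ideal.map_symm e).symm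
    ext x
    rw [RingHom.mem_ker, Ideal.mem_comap]
    show _ ↔ (Scheme.ΓSpecIso P).hom x ∈ I
    rw [← Ideal.Quotient.eq_zero_iff_mem,
      show Ideal.Quotient.mk I ((Scheme.ΓSpecIso P).hom x) =
        (Scheme.ΓSpecIso _).hom ((i.app ⊤).hom x) from (congr($(Scheme.ΓSpecIso_naturality (CommRingCat.ofHom (Ideal.Quotient.mk I))) x)).symm]
    exact (map_eq_zero_iff _ (ConcreteCategory.bijective_of_isIso (Scheme.ΓSpecIso _).hom).1).symm
  have hkD2 := Groth.Agent.CI2.ker_app_basicOpen i (isAffineOpen_top (Spec P)) a' rfl le_top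
  replace hkD2 := hkD.symm.trans (hkD2.trans (congrArg _ hkT))
  rw [Ideal.map_map] at hkD2
  letI : Algebra P Γ(Spec P, D) := (((Spec P).presheaf.map (homOfLE (le_top : D ≤ ⊤)).op).hom.comp e.symm.toRingHom).toAlgebra
  haveI : IsLocalization.Away a Γ(Spec P, D) := by
    have h2 := IsLocalization.isLocalization_of_base_ringEquiv (M := Submonoid.powers a') (S := Γ(Spec P, D)) e
    rw [Submonoid.map_powers] at h2
    simpa [a'] using h2
  let E : Γ(Spec P, D) ≃ₐ[P] Localization.Away a := IsLocalization.algEquiv (Submonoid.powers a) _ _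
  refine ⟨a, hpa, _, (isWeaklyRegular_map_equiv E.toRingEquiv _).1 hwr, ?_⟩
  rw [show (List.map E.toRingEquiv (rs.map (algebraMap _ Γ(Spec P, D)))) =
      (rs.map (algebraMap _ Γ(Spec P, D))).map E.toRingEquiv.toRingHom from rfl, ← Ideal.map_ofList, hkD2, Ideal.map_map]
  exact congrArg (fun φ => Ideal.map φ I) (RingHom.ext fun x => (E.commutes x).symm)

/-- Let A be a Noetherian commutative ring, n a natural number, I an ideal of the polynomial ring A[X_1,
…, X_n] and B = A[X_1, …, X_n]/I, and assume that the closed immersion Spec B → Spec A[X_1, …, X_n]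
is a regular immersion (kind: successive non-zero-divisors). Then Spec B is covered by basic opens
D(g) with B[1/g] isomorphic, as an A-algebra, to a quotient A[X_0, …, X_n]/(P_1, …, P_d) of the
polynomial ring in one more variable by a regular sequence P_1, …, P_d. -/
theorem result
    (A : Type u) [CommRing A] [IsNoetherianRing A] (n : ℕ) (I : Ideal (MvPolynomial (Fin n) A))
    (h : RegImm.IsRegularImmersion RegImm.Kind.regular
      (Spec.map (CommRingCat.ofHom (Ideal.Quotient.mk I))))
    (q : PrimeSpectrum (MvPolynomial (Fin n) A ⧸ I)) :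
    ∃ g : MvPolynomial (Fin n) A ⧸ I, g ∉ q.asIdeal ∧
      ∃ (d : ℕ) (P : Fin d → MvPolynomial (Fin (n + 1)) A),
        RingTheory.Sequence.IsRegular (MvPolynomial (Fin (n + 1)) A) (List.ofFn P) ∧
        Nonempty (Localization.Away g ≃ₐ[A] (MvPolynomial (Fin (n + 1)) A ⧸ Ideal.ofList (List.ofFn P))) := by
  classical
  obtain ⟨a, ha, l, hl, hspan⟩ : ∃ a : MvPolynomial (Fin n) A, a ∉ q.asIdeal.comap (Ideal.Quotient.mk I) ∧
      ∃ l : List (Localization.Away a), RingTheory.Sequence.IsWeaklyRegular (Localization.Away a) l ∧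
        I.map (algebraMap (MvPolynomial (Fin n) A) (Localization.Away a)) = Ideal.ofList l :=
    exists_away_witness (P := CommRingCat.of (MvPolynomial (Fin n) A)) I h q
  let R := MvPolynomial (Fin n) A
  let mk := Ideal.Quotient.mk I
  obtain ⟨hσs, hσk, hσC⟩ := Groth.Agent.CI2.polyAway_spec a
  let σ := Groth.Agent.CI2.polyAway a
  let f : Polynomial R := Polynomial.C a * Polynomial.X - 1
  choose li hli using fun x => hσs x
  have hlift : (l.map li).map σ = l := by
    rw [List.map_map]
    exact (List.map_congr_left fun x _ => hli x).trans (List.map_id l)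
  have hfreg : IsSMulRegular (Polynomial R) f := by
    refine (isSMulRegular_iff_right_eq_zero_of_smul (M := Polynomial R) (r := f)).mpr fun b hb => ?_
    rw [smul_eq_mul] at hb
    refine Polynomial.ext fun k => ?_
    have h1 : ∀ m, (f * b).coeff m = 0 := fun m => by rw [hb, Polynomial.coeff_zero]
    induction k with
    | zero => simpa [f, sub_mul, mul_assoc] using h1 0
    | succ k ih => simpa [f, sub_mul, mul_assoc, ih] using h1 (k + 1)
  have hwr : RingTheory.Sequence.IsWeaklyRegular (Polynomial R) (f :: l.map li) := by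
    rw [RingTheory.Sequence.isWeaklyRegular_cons_iff]
    refine ⟨hfreg, ?_⟩
    let e1 : (QuotSMulTop f (Polynomial R)) ≃+ (Polynomial R ⧸ RingHom.ker σ) :=
      (Submodule.quotEquivOfEq (f • (⊤ : Submodule (Polynomial R) (Polynomial R))) (RingHom.ker σ) (by
        rw [hσk, ← Submodule.ideal_span_singleton_smul (M := Polynomial R) f, smul_eq_mul, Ideal.mul_top])).toAddEquiv
    let e2 := e1.trans (RingHom.quotientKerEquivOfSurjective hσs).toAddEquiv
    refine (AddEquiv.isWeaklyRegular_congr (e := e2) (bs := (l.map li).map σ) ?_).2 (hlift.symm ▸ hl)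
    refine List.forall₂_map_right_iff.mpr (List.forall₂_same.mpr fun r _ x => ?_)
    obtain ⟨x, rfl⟩ := Submodule.Quotient.mk_surjective _ x
    exact map_mul σ r x
  let E := MvPolynomial.finSuccEquiv A n
  let L : List (MvPolynomial (Fin (n + 1)) A) := (f :: l.map li).map E.symm.toRingEquiv
  have hwrL := (isWeaklyRegular_map_equiv E.symm.toRingEquiv _).1 hwr
  let G := Localization.Away (mk a)
  let τ : Localization.Away a →+* G := IsLocalization.Away.map (Localization.Away a) G mk a
  have hmap : (Submonoid.powers a).map mk = Submonoid.powers (mk a) := Submonoid.map_powers _ _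
  haveI : IsLocalization ((Submonoid.powers a).map mk) G := by rw [hmap]; infer_instance
  have hτs : Function.Surjective τ := IsLocalization.map_surjective_of_surjective (M := Submonoid.powers a) (g := mk)
    (S := Localization.Away a) (Q := G) Ideal.Quotient.mk_surjective
  have hτk : RingHom.ker τ = Ideal.ofList l := by
    refine (IsLocalization.ker_map (S := Localization.Away a) G mk hmap).trans ?_
    rw [Ideal.mk_ker]; exact hspan
  let Φ : MvPolynomial (Fin (n + 1)) A →ₐ[A] G :=
    { (τ.comp σ).comp E.toRingEquiv.toRingHom with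
      commutes' := fun r => by
        show τ (σ (E (algebraMap A _ r))) = _
        rw [AlgEquiv.commutes, show algebraMap A (Polynomial R) r = Polynomial.C (algebraMap A R r) from rfl, hσC]
        show IsLocalization.map _ mk _ (algebraMap R _ (algebraMap A R r)) = _
        rw [IsLocalization.map_eq, IsScalarTower.algebraMap_apply A (R ⧸ I) G]
        rfl }
  have hΦs : Function.Surjective Φ := (hτs.comp hσs).comp E.surjective
  have hΦk : RingHom.ker Φ.toRingHom = Ideal.ofList L := by
    show RingHom.ker ((τ.comp σ).comp E.toRingEquiv.toRingHom) = _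
    rw [← RingHom.comap_ker, ← RingHom.comap_ker, hτk]
    conv_lhs => rw [← hlift, ← Ideal.map_ofList, Ideal.comap_map_of_surjective σ hσs, ← RingHom.ker_eq_comap_bot, hσk,
      sup_comm, ← Ideal.ofList_cons]
    rw [show L = (f :: l.map li).map E.toRingEquiv.symm.toRingHom from rfl, ← Ideal.map_ofList]
    exact (Ideal.map_symm E.toRingEquiv).symm
  refine ⟨mk a, ha, L.length, L.get, ?_, ⟨(Ideal.quotientKerAlgEquivOfSurjective hΦs).symm.trans
    (Ideal.quotientEquivAlgOfEq A (by rw [List.ofFn_get]; exact hΦk))⟩⟩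
  rw [List.ofFn_get]
  refine ⟨hwrL, ?_⟩
  rw [smul_eq_mul, Ideal.mul_top, ← hΦk]
  haveI : Nontrivial G := by
    refine ⟨0, 1, fun h0 => ?_⟩
    obtain ⟨⟨t, k, rfl⟩, hk⟩ := (IsLocalization.map_eq_zero_iff (Submonoid.powers (mk a)) G (1 : R ⧸ I)).1
      (by rw [map_one]; exact h0.symm)
    rw [mul_one] at hk
    exact ha (q.2.mem_of_pow_mem k (show mk a ^ k ∈ q.asIdeal from (show mk a ^ k = 0 from hk).symm ▸ zero_mem _))
  exact (RingHom.ker_ne_top Φ.toRingHom).symm

end Groth.Agent.S18937
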