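import Groth.Statements.S18938
import Groth.Agent.Lib.CI2.SyntLocal
import Groth.Agent.Lib.CI2.Gci
import Groth.Prelude.Def_RegImm
import Mathlib

set_option autoImplicit false
universe u
open Synt

namespace Groth.Agent.S18938
open MvPolynomial RingTheory.Sequence

/-- killing the obstructions to weak regularity -/
theorem exists_clear {P : Type u} [CommRing P] [IsNoetherianRing P] (q : Ideal P) [q.IsPrime] (l : List P)
    (h : IsWeaklyRegular (Localization.AtPrime q) (l.map (algebraMap P (Localization.AtPrime q)))) :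
    ∃ s ∉ q, ∀ (i : ℕ) (hi : i < l.length) (a : P), a * l[i] ∈ Ideal.ofList (l.take i) → s * a ∈ Ideal.ofList (l.take i) := by
  classical
  rw [Groth.Agent.EmbDef.isWeaklyRegular_self_iff] at h
  have key : ∀ i : Fin l.length, ∃ s ∉ q, ∀ a : P, a * l[(i : ℕ)] ∈ Ideal.ofList (l.take i) → s * a ∈ Ideal.ofList (l.take i) := by
    intro i
    let J := Ideal.ofList (l.take (i : ℕ))
    let K : Ideal P := J.colon {l[(i : ℕ)]}
    have hK : ∀ a ∈ K, ∃ s ∉ q, s * a ∈ J := by
      intro a ha
      have ha' : a * l[(i : ℕ)] ∈ J := by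
        have := Submodule.mem_colon_singleton.mp ha
        rwa [smul_eq_mul] at this
      have hmem := h i (by rw [List.length_map]; exact i.2) (algebraMap P _ a) (by
        rw [List.getElem_map, ← map_mul, ← List.map_take, ← Ideal.map_ofList]
        exact Ideal.mem_map_of_mem _ ha')
      rw [← List.map_take, ← Ideal.map_ofList] at hmem
      obtain ⟨s, hs, hsa⟩ := (IsLocalization.algebraMap_mem_map_algebraMap_iff q.primeCompl (Localization.AtPrime q) J a).mp hmem
      exact ⟨s, hs, hsa⟩
    obtain ⟨G, hG⟩ := IsNoetherian.noetherian K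
    choose! s hs hsa using hK
    refine ⟨∏ a ∈ G, s a, fun hm => ?_, fun a ha => ?_⟩
    · obtain ⟨b, hb, hbm⟩ := (inferInstance : q.IsPrime).prod_mem_iff.mp hm
      exact hs b (hG.le (Submodule.subset_span hb)) hbm
    · have hle : K ≤ J.colon {∏ a ∈ G, s a} := by
        rw [show K = Submodule.span P (G : Set P) from hG.symm, Submodule.span_le]
        intro b hb
        rw [SetLike.mem_coe, Submodule.mem_colon_singleton, smul_eq_mul, mul_comm, ← Finset.prod_erase_mul _ _ hb, mul_assoc]
        exact Ideal.mul_mem_left _ _ (hsa b (hG.le (Submodule.subset_span hb)))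
      have := Submodule.mem_colon_singleton.mp (hle (Submodule.mem_colon_singleton.mpr (by rwa [smul_eq_mul])))
      rwa [smul_eq_mul, mul_comm] at this
  choose s hs hsa using key
  refine ⟨∏ i, s i, fun hm => ?_, fun i hi a ha => ?_⟩
  · obtain ⟨i, -, him⟩ := (inferInstance : q.IsPrime).prod_mem_iff.mp hm
    exact hs i him
  · rw [← Finset.prod_erase_mul _ _ (Finset.mem_univ (⟨i, hi⟩ : Fin l.length)), mul_assoc]
    exact Ideal.mul_mem_left _ _ (hsa ⟨i, hi⟩ a ha)

theorem finSuccEquiv_rename {A : Type u} [CommRing A] {n : ℕ} (p : MvPolynomial (Fin n) A) :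
    finSuccEquiv A n (rename Fin.succ p) = Polynomial.C p := by
  induction p using MvPolynomial.induction_on with
  | C a =>
    rw [rename_C]
    exact RingHom.congr_fun (finSuccEquiv_comp_C_eq_C n) a ▸ (by simp)
  | add p q hp hq => simp only [map_add, hp, hq]
  | mul_X p i hp => rw [map_mul, map_mul, hp, rename_X, finSuccEquiv_X_succ, Polynomial.C_mul]

theorem mul_sub_one_eq_zero {P : Type u} [CommRing P] (h : P) (x : Polynomial P)
    (hx : x * (Polynomial.C h * Polynomial.X - 1) = 0) : x = 0 := by
  have e : x = Polynomial.C h * x * Polynomial.X := by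
    rw [mul_sub, mul_one, sub_eq_zero] at hx
    exact hx.symm.trans (by ring)
  ext k
  induction k with
  | zero => rw [e]; simp
  | succ k ih => rw [e, Polynomial.coeff_mul_X, Polynomial.coeff_C_mul, ih]; simp

theorem exists_regular_presentation {A : Type u} [CommRing A] {n c : ℕ} (F : Fin c → MvPolynomial (Fin n) A)
    (h : MvPolynomial (Fin n) A)
    (hclear : ∀ (i : ℕ) (hi : i < (List.ofFn F).length) (a : MvPolynomial (Fin n) A),
      a * (List.ofFn F)[i] ∈ Ideal.ofList ((List.ofFn F).take i) → h * a ∈ Ideal.ofList ((List.ofFn F).take i))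
    (hnt : Nontrivial (Localization.Away (Ideal.Quotient.mk (Ideal.span (Set.range F)) h))) :
    ∃ P : Fin (c + 1) → MvPolynomial (Fin (n + 1)) A,
      RingTheory.Sequence.IsRegular (MvPolynomial (Fin (n + 1)) A) (List.ofFn P) ∧
      Nonempty (Localization.Away (Ideal.Quotient.mk (Ideal.span (Set.range F)) h) ≃ₐ[A]
        (MvPolynomial (Fin (n + 1)) A ⧸ Ideal.ofList (List.ofFn P))) := by
  let f0 : MvPolynomial (Fin (n + 1)) A := rename Fin.succ h * X 0 - 1
  let P : Fin (c + 1) → MvPolynomial (Fin (n + 1)) A := Fin.cons f0 fun i => rename Fin.succ (F i)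
  refine ⟨P, ?_, ?_⟩
  swap
  · obtain ⟨e⟩ := Groth.Agent.CI2.nonempty_awayEquiv F h
    let σ : Fin (n + 1) ≃ Fin (n + 1) := finSuccEquivLast.trans (_root_.finSuccEquiv n).symm
    have hσ : (σ : Fin (n + 1) → Fin (n + 1)) ∘ Fin.castSucc = Fin.succ := funext fun i => by simp [σ]
    have hσl : σ (Fin.last n) = 0 := by simp [σ]
    let r := renameEquiv A σ
    have hr : ∀ p, r p = rename σ p := fun p => rfl
    refine ⟨e.trans (Ideal.quotientEquivAlg _ _ r ?_)⟩
    rw [Ideal.map_span, Groth.Agent.CI2.ofList_ofFn, ← Set.range_comp]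
    congr 1
    ext z
    simp only [Set.mem_range, Function.comp_apply]
    constructor
    · rintro ⟨i, rfl⟩
      refine Fin.cases ⟨Fin.last c, ?_⟩ (fun i => ⟨i.castSucc, ?_⟩) i
      · show r (Groth.Agent.CI2.awayRel F h (Fin.last c)) = f0
        simp [hr, f0, rename_rename, hσ, hσl]
      · show r (Groth.Agent.CI2.awayRel F h i.castSucc) = rename Fin.succ (F i)
        simp [hr, rename_rename, hσ]
    · rintro ⟨i, rfl⟩
      refine Fin.lastCases ⟨0, ?_⟩ (fun i => ⟨i.succ, ?_⟩) i
      · show f0 = r (Groth.Agent.CI2.awayRel F h (Fin.last c))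
        simp [hr, f0, rename_rename, hσ, hσl]
      · show rename Fin.succ (F i) = r (Groth.Agent.CI2.awayRel F h i.castSucc)
        simp [hr, rename_rename, hσ]
  have hlist : List.ofFn P = f0 :: (List.ofFn F).map (rename Fin.succ) := by
    rw [List.ofFn_succ, List.map_ofFn]
    rfl
  let B := MvPolynomial (Fin n) A
  let L := Localization.Away h
  let ψ : MvPolynomial (Fin (n + 1)) A →ₐ[A] L :=
    aeval (Fin.cons (IsLocalization.Away.invSelf h) fun i => algebraMap B L (X i) : Fin (n + 1) → L)
  have hψ : ∀ p, ψ (rename Fin.succ p) = algebraMap B L p := fun p => by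
    have : ψ.comp (rename Fin.succ) = IsScalarTower.toAlgHom A B L := algHom_ext fun i => by simp [ψ, B]
    exact DFunLike.congr_fun this p
  have hψ0 : ψ f0 = 0 := by
    rw [map_sub, map_mul, hψ, map_one, show ψ (X 0) = IsLocalization.Away.invSelf h by simp [ψ],
      IsLocalization.Away.mul_invSelf, sub_self]
  have hker : ∀ x, ψ x = 0 → x ∈ Ideal.span {f0} := by
    let Q := MvPolynomial (Fin (n + 1)) A ⧸ Ideal.span {f0}
    let m : MvPolynomial (Fin (n + 1)) A →ₐ[A] Q := Ideal.Quotient.mkₐ A (Ideal.span {f0})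
    have hone : m (rename Fin.succ h) * m (X 0) = 1 := by
      rw [← map_mul, ← map_one m]
      exact Ideal.Quotient.eq.mpr (Ideal.subset_span rfl)
    let Φ : L →ₐ[A] Q := IsLocalization.liftAlgHom (M := Submonoid.powers h) (f := m.comp (rename Fin.succ)) (by
      rintro ⟨_, i, rfl⟩
      show IsUnit (m.comp (rename Fin.succ) (h ^ i))
      rw [map_pow]
      exact (IsUnit.of_mul_eq_one _ hone).pow i)
    have hΦ : ∀ b, Φ (algebraMap B L b) = m (rename Fin.succ b) := fun b => IsLocalization.lift_eq _ b
    have hcomp : Φ.comp ψ = m := algHom_ext fun i => by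
      refine Fin.cases ?_ (fun i => ?_) i
      · show Φ (ψ (X 0)) = m (X 0)
        rw [show ψ (X 0) = IsLocalization.Away.invSelf h by simp [ψ]]
        refine (IsUnit.of_mul_eq_one _ hone).mul_left_cancel ?_
        rw [hone, ← hΦ, ← map_mul, IsLocalization.Away.mul_invSelf, map_one]
      · show Φ (ψ (X i.succ)) = m (X i.succ)
        rw [← rename_X Fin.succ i, hψ, hΦ]
    intro x hx
    rw [← Ideal.Quotient.eq_zero_iff_mem]
    show m x = 0
    rw [← hcomp]
    show Φ (ψ x) = 0
    rw [hx, map_zero]
  have hsurj : Function.Surjective ψ := fun y => by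
    obtain ⟨b, ⟨_, i, rfl⟩, rfl⟩ := IsLocalization.exists_mk'_eq (Submonoid.powers h) y
    refine ⟨rename Fin.succ b * X 0 ^ i, (IsLocalization.eq_mk'_iff_mul_eq).mpr ?_⟩
    rw [map_mul, hψ, map_pow, show ψ (X 0) = IsLocalization.Away.invSelf h by simp [ψ]]
    show algebraMap B L b * IsLocalization.Away.invSelf h ^ i * algebraMap B L (h ^ i) = algebraMap B L b
    rw [map_pow, mul_assoc, ← mul_pow, mul_comm (IsLocalization.Away.invSelf h), IsLocalization.Away.mul_invSelf,
      one_pow, mul_one]
  have htake : ∀ i, Ideal.ofList ((List.ofFn P).take (i + 1)) =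
      Ideal.span {f0} ⊔ (Ideal.ofList ((List.ofFn F).take i)).map (rename Fin.succ : B →ₐ[A] _).toRingHom := fun i => by
    rw [hlist, List.take_succ_cons, Ideal.ofList_cons, ← List.map_take, Ideal.map_ofList]
    rfl
  have hmapψ : ∀ i, (Ideal.ofList ((List.ofFn P).take (i + 1))).map ψ.toRingHom =
      (Ideal.ofList ((List.ofFn F).take i)).map (algebraMap B L) := fun i => by
    rw [htake, Ideal.map_sup, Ideal.map_map, Ideal.map_span, Set.image_singleton,
      show ψ.toRingHom f0 = 0 from hψ0, Ideal.span_singleton_eq_bot.mpr rfl, bot_sup_eq]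
    exact congrArg (fun φ => Ideal.map φ _) (RingHom.ext hψ)
  have hback : ∀ i x, ψ x ∈ (Ideal.ofList ((List.ofFn F).take i)).map (algebraMap B L) →
      x ∈ Ideal.ofList ((List.ofFn P).take (i + 1)) := fun i x hx => by
    rw [← hmapψ] at hx
    obtain ⟨y, hy, hyx⟩ := (Ideal.mem_map_iff_of_surjective ψ.toRingHom hsurj).mp hx
    have hk : x - y ∈ Ideal.span {f0} := hker _ (by rw [map_sub]; exact sub_eq_zero.mpr hyx.symm)
    have : x - y ∈ Ideal.ofList ((List.ofFn P).take (i + 1)) := by
      rw [htake]; exact Submodule.mem_sup_left hk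
    simpa using add_mem this hy
  refine ⟨?_, ?_⟩
  · rw [Groth.Agent.EmbDef.isWeaklyRegular_self_iff]
    intro i hi a ha
    cases i with
    | zero =>
      rw [List.take_zero, Ideal.ofList_nil, Ideal.mem_bot] at ha ⊢
      simp only [hlist, List.getElem_cons_zero] at ha
      apply (MvPolynomial.finSuccEquiv A n).injective
      rw [map_zero]
      refine mul_sub_one_eq_zero h _ ?_
      have := congrArg (MvPolynomial.finSuccEquiv A n) ha
      rwa [map_mul, map_zero, map_sub, map_mul, map_one, finSuccEquiv_rename, finSuccEquiv_X_zero] at this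
    | succ i =>
      have hi' : i < (List.ofFn F).length := by
        rw [List.length_ofFn] at hi ⊢; omega
      simp only [hlist, List.getElem_cons_succ, List.getElem_map] at ha
      replace ha : a * rename Fin.succ (List.ofFn F)[i] ∈ Ideal.ofList ((List.ofFn P).take (i + 1)) := by
        simp only [hlist]; exact ha
      refine hback i a ?_
      have h1 : ψ a * algebraMap B L (List.ofFn F)[i] ∈ (Ideal.ofList ((List.ofFn F).take i)).map (algebraMap B L) := by
        rw [← hmapψ, ← hψ, ← map_mul]
        exact Ideal.mem_map_of_mem _ ha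
      obtain ⟨⟨b, s⟩, hbs⟩ := IsLocalization.surj (Submonoid.powers h) (ψ a)
      rw [← Ideal.unit_mul_mem_iff_mem _ (IsLocalization.map_units L s), mul_comm, hbs]
      have h2 := Ideal.mul_mem_right (algebraMap B L (s : B)) _ h1
      rw [mul_right_comm, hbs, ← map_mul] at h2
      obtain ⟨t, ⟨j, rfl⟩, ht⟩ := (IsLocalization.algebraMap_mem_map_algebraMap_iff (Submonoid.powers h) L _ _).mp h2
      have h3 := hclear i hi' (h ^ j * b) (by rwa [mul_assoc])
      exact (IsLocalization.algebraMap_mem_map_algebraMap_iff (Submonoid.powers h) L _ _).mpr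
        ⟨h ^ (j + 1), ⟨j + 1, rfl⟩, by rwa [pow_succ', mul_assoc]⟩
  · intro htop
    obtain ⟨e⟩ := Groth.Agent.CI2.nonempty_awayEquiv F h
    rw [smul_eq_mul, Ideal.mul_top] at htop
    have h1 : ψ 1 ∈ (Ideal.ofList ((List.ofFn F).take c)).map (algebraMap B L) := by
      rw [← hmapψ]
      refine Ideal.mem_map_of_mem _ ?_
      rw [List.take_of_length_le (by simp)]
      exact htop ▸ Submodule.mem_top
    rw [map_one, List.take_of_length_le (by simp), Groth.Agent.CI2.ofList_ofFn] at h1
    rw [← map_one (algebraMap B L)] at h1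
    obtain ⟨t, ⟨j, rfl⟩, ht⟩ := (IsLocalization.algebraMap_mem_map_algebraMap_iff (Submonoid.powers h) L _ _).mp h1
    rw [mul_one] at ht
    refine not_subsingleton (Localization.Away (Ideal.Quotient.mk (Ideal.span (Set.range F)) h)) ?_
    have hu := (IsLocalization.Away.algebraMap_isUnit (S := Localization.Away (Ideal.Quotient.mk (Ideal.span (Set.range F)) h))
      (Ideal.Quotient.mk (Ideal.span (Set.range F)) h)).pow j
    rw [← map_pow, ← map_pow, Ideal.Quotient.eq_zero_iff_mem.mpr ht, map_zero] at hu
    exact subsingleton_of_zero_eq_one (isUnit_zero_iff.mp hu)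

/-- Let A be a Noetherian commutative ring and B a syntomic A-algebra. Then Spec B is covered by basic
opens D(g) with B[1/g] isomorphic, as an A-algebra, to A[T_1, …, T_n]/(P_1, …, P_d) for a regular
sequence P_1, …, P_d (successive non-zero-divisors with nonzero last quotient) in the polynomial
ring A[T_1, …, T_n]. (The source states this for a syntomic scheme over Spec A, syntomic meaning
flat, locally of finite presentation and locally a Koszul-regular immersion into a smooth scheme;
here syntomic is the ring-map notion with local complete intersection fibres, which agrees with it.) -/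
theorem result
    (A : Type u) [CommRing A] [IsNoetherianRing A] (B : Type u) [CommRing B] [Algebra A B]
    (h : Synt.IsSyntomic A B) (q : PrimeSpectrum B) :
    ∃ g : B, g ∉ q.asIdeal ∧
      ∃ (n d : ℕ) (P : Fin d → MvPolynomial (Fin n) A),
        RingTheory.Sequence.IsRegular (MvPolynomial (Fin n) A) (List.ofFn P) ∧
        Nonempty (Localization.Away g ≃ₐ[A] (MvPolynomial (Fin n) A ⧸ Ideal.ofList (List.ofFn P))) := by
  obtain ⟨g, hg, n, c, F, hF, ⟨e⟩⟩ := Groth.Agent.CI2.exists_relGCI_of_isSyntomic h q
  obtain ⟨qT, hqT, hqTc⟩ := Groth.Agent.CI2.exists_prime_over (T := Localization.Away g) g q.asIdeal hg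
  let q0 : Ideal (Synt.RelGCIRing A n c F) := qT.comap e.symm.toRingEquiv.toRingHom
  haveI : q0.IsPrime := Ideal.comap_isPrime _ _
  let q' := q0.comap (Ideal.Quotient.mk (Ideal.span (Set.range F)))
  have hq' : Ideal.span (Set.range F) ≤ q' := fun x hx => by
    show Ideal.Quotient.mk _ x ∈ q0
    rw [Ideal.Quotient.eq_zero_iff_mem.mpr hx]
    exact zero_mem _
  obtain ⟨hc, hd⟩ := Groth.Agent.CI2.fibre_bound hF q' hq'
  obtain ⟨s, hs, hclear⟩ := exists_clear q' (List.ofFn F)
    (Groth.Agent.CI2.rel_isWeaklyRegular (List.ofFn F) q' (by rwa [Groth.Agent.CI2.ofList_ofFn]) hc hd)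
  let sb : Localization.Away g := e.symm (Ideal.Quotient.mk _ s)
  have hsb : sb ∉ qT := hs
  obtain ⟨⟨a, w⟩, ha⟩ := IsLocalization.surj (Submonoid.powers g) sb
  have has : Associated sb (algebraMap B (Localization.Away g) a) := ⟨(IsLocalization.map_units _ w).unit, ha⟩
  have hag : a * g ∉ q.asIdeal := fun hm => (q.2.mem_or_mem hm).elim
    (fun hm => hsb ((qT.mem_iff_of_associated has).2 (by rw [← hqTc] at hm; exact hm))) hg
  let T' := Localization.Away (algebraMap B (Localization.Away g) a)
  haveI : IsLocalization.Away (a * g) T' := by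
    rw [mul_comm]; exact IsLocalization.Away.mul' (Localization.Away g) T' g a
  haveI : IsLocalization.Away (algebraMap B (Localization.Away g) a) (Localization.Away sb) :=
    IsLocalization.Away.of_associated has
  obtain ⟨e1⟩ := Groth.Agent.CI2.nonempty_away_equiv_of_surjective e.symm.toAlgHom e.symm.surjective
    (Ideal.Quotient.mk _ s) (fun x hx => ⟨0, by rw [pow_zero, one_mul]; exact e.symm.injective (hx.trans (map_zero _).symm)⟩)
  let e2 : Localization.Away (a * g) ≃ₐ[A] Localization.Away (Ideal.Quotient.mk (Ideal.span (Set.range F)) s) :=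
    (((IsLocalization.algEquiv (Submonoid.powers (a * g)) (Localization.Away (a * g)) T').restrictScalars A).trans
      ((IsLocalization.algEquiv (Submonoid.powers (algebraMap B (Localization.Away g) a)) T'
        (Localization.Away sb)).restrictScalars A)).trans e1
  have hnt : Nontrivial (Localization.Away (Ideal.Quotient.mk (Ideal.span (Set.range F)) s)) := by
    obtain ⟨Q, hQ, -⟩ := Groth.Agent.CI2.exists_prime_over (T := Localization.Away (a * g)) (a * g) q.asIdeal hag
    haveI : Nontrivial (Localization.Away (a * g)) := PrimeSpectrum.nonempty_iff_nontrivial.1 ⟨⟨Q, hQ⟩⟩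
    exact e2.symm.toEquiv.nontrivial
  obtain ⟨P, hP, ⟨e3⟩⟩ := exists_regular_presentation F s hclear hnt
  exact ⟨a * g, hag, n + 1, c + 1, P, hP, ⟨e2.trans e3⟩⟩

end Groth.Agent.S18938
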