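import Groth.Statements.S18939
import Groth.Agent.Lib.CI2.Conormal

set_option autoImplicit false
universe u
open LCI

namespace Groth.Agent.S18939

/-- Let R be a commutative ring, I a proper ideal of R and f_1, …, f_r a Koszul-regular sequence of
elements of I generating I. Then I/I² is a free R/I-module of rank r, with basis the classes of f_1,
…, f_r. -/
theorem result {R : Type u} [CommRing R] {I : Ideal R} (hI : I ≠ ⊤)
    (r : ℕ) (f : Fin r → I) (hf : LCI.IsKoszulRegularSeq R (List.ofFn (fun i => (f i : R))))
    (hfI : Ideal.span (Set.range (fun i => (f i : R))) = I) :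
    ∃ b : Module.Basis (Fin r) (R ⧸ I) I.Cotangent, ∀ i, b i = I.toCotangent (f i) := by
  classical
  have hex := (Groth.Agent.CI2.isKoszulRegularSeq_iff_ex _).mp hf
  have hli : LinearIndependent (R ⧸ I) fun i => I.toCotangent (f i) := by
    rw [Fintype.linearIndependent_iff]
    intro g hg i
    choose a ha using fun i => Ideal.Quotient.mk_surjective (g i)
    have h0 : I.toCotangent (∑ i, a i • f i) = 0 := by
      rw [map_sum, ← hg]
      refine Finset.sum_congr rfl fun j _ => ?_
      rw [map_smul, ← ha j]
      rfl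
    rw [Ideal.toCotangent_eq_zero] at h0
    rw [← ha i, Ideal.Quotient.eq_zero_iff_mem, ← hfI]
    refine Groth.Agent.CI2.mem_of_sq_relation hex a ?_ i
    rw [hfI]
    simpa using h0
  refine ⟨Module.Basis.mk hli ?_, fun i => Module.Basis.mk_apply _ _ i⟩
  rintro x -
  obtain ⟨⟨y, hy⟩, rfl⟩ := I.toCotangent_surjective x
  have hy' := hy
  rw [← hfI, Ideal.mem_span_range_iff_exists_fun] at hy'
  obtain ⟨c, hc⟩ := hy'
  have : (⟨y, hy⟩ : I) = ∑ i, c i • f i := Subtype.ext (by simp [hc])
  rw [this, map_sum]
  refine sum_mem fun i _ => ?_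
  rw [map_smul]
  exact Submodule.smul_of_tower_mem _ (c i) (Submodule.subset_span ⟨i, rfl⟩)

end Groth.Agent.S18939
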