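import Groth.Statements.S1894
import Groth.Agent.Lib.GrpdB.Calc
import Groth.Agent.Lib.GrpdB.Topology

set_option autoImplicit false
universe u
open CategoryTheory CategoryTheory.Limits AlgebraicGeometry
open Grpd

namespace Groth.Agent.S1894

/-- Let (U, R, s, t, c) be a groupoid scheme over S with s, t quasi-compact and flat and U
quasi-separated, and W ⊆ U a quasi-compact open. Then there are an R-invariant open V (s⁻¹V = t⁻¹V)
and a quasi-compact open W' with W ⊆ V ⊆ W'. (A groupoid scheme carries U, R, s, t, c, e, i over S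
with the groupoid axioms on T-points; 'finite locally free' is finite, flat and locally of finite
presentation; C ⊂ Γ(U) is the ring of functions a with s♯(a) = t♯(a) and M = Spec C.) -/
theorem result (S : Scheme.{u}) (G : Grpd.GroupoidScheme S) [QuasiCompact G.s] [Flat G.s] [QuasiCompact G.t] [Flat G.t] [QuasiSeparatedSpace G.U] (W : G.U.Opens) (hW : IsCompact (W : Set G.U)) : ∃ V W' : G.U.Opens, G.s ⁻¹ᵁ V = G.t ⁻¹ᵁ V ∧ IsCompact (W' : Set G.U) ∧ W ≤ V ∧ V ≤ W' := by
  set T := ⇑G.t '' (⇑G.s ⁻¹' (W : Set G.U)) with hTdef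
  have hT : IsCompact T := (G.s.isCompact_preimage hW).image G.t.continuous
  obtain ⟨J, hJ, V, hV, hTV⟩ := Groth.Agent.GrpdB.exists_iInter_eq hT fun x y hxy hy => by
    obtain ⟨r, hr, rfl⟩ := hy
    obtain ⟨r', hr', hr'x⟩ := Flat.generalizingMap (f := G.t) hxy
    exact ⟨r', (hr'.map G.s.continuous |>.mem_open W.2 hr), hr'x⟩
  let j := Classical.arbitrary J
  let W' := V j
  have hTW' : T ⊆ W' := hTV.trans_subset (Set.iInter_subset _ j)
  let Z : Set G.U := (W' : Set G.U)ᶜ
  let E := ⇑G.t '' (⇑G.s ⁻¹' Z)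
  have hE : ∀ y, y ∈ closure E → ∀ r : G.R, G.t r = y → G.s r ∈ closure E := by
    intro y hy r hr
    obtain ⟨x, hx, hxy⟩ := Groth.Agent.GrpdB.exists_specializes_of_mem_closure_image G.t
      (W'.2.isClosed_compl.preimage G.s.continuous) hy
    obtain ⟨r', hr', hr'x⟩ := Flat.generalizingMap (f := G.t) (hr ▸ hxy)
    obtain ⟨z, h1, h2⟩ := Groth.Agent.GrpdB.exists_comp_point (G := G) (G.i r') x (by rw [Groth.Agent.GrpdB.s_i, hr'x])
    have hz : G.s r' ∈ E := ⟨z, show G.s z ∈ Z by rw [h2]; exact hx, by rw [h1, Groth.Agent.GrpdB.t_i]⟩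
    exact specializes_iff_mem_closure.1 (hr'.map G.s.continuous) |> fun h =>
      closure_minimal (Set.singleton_subset_iff.2 (subset_closure hz)) isClosed_closure h
  refine ⟨⟨(closure E)ᶜ, isClosed_closure.isOpen_compl⟩, W', ?_, hV j, ?_, ?_⟩
  · refine TopologicalSpace.Opens.ext (Set.ext fun r => not_congr ⟨fun h => ?_, fun h => hE _ h r rfl⟩)
    have := hE (G.s r) h (G.i r) (Groth.Agent.GrpdB.t_i r)
    rwa [Groth.Agent.GrpdB.s_i] at this
  · intro w hw hwE
    obtain ⟨-, hwW, r, hr, rfl⟩ := mem_closure_iff.1 hwE W W.2 hw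
    refine hr (hTW' ⟨G.i r, ?_, Groth.Agent.GrpdB.t_i r⟩)
    show G.s (G.i r) ∈ W
    rw [Groth.Agent.GrpdB.s_i]
    exact hwW
  · intro v hv
    by_contra h
    exact hv (subset_closure (Groth.Agent.GrpdB.subset_saturation Z h))

end Groth.Agent.S1894
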