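import Groth.Statements.S18942
import Mathlib.RingTheory.WittVector.TeichmullerSeries

set_option autoImplicit false
universe u
open DPow

namespace Groth.Agent.S18942

/-- Let p be a prime, k a perfect field of characteristic p, n a natural number and x an element of
W_n(k), written here as the truncation of a Witt vector x over k. For any Witt vectors y_0, …,
y_{n−1} over k lifting the components of x under the map y ↦ (y_0)^(p^n) (that is, (y_i)_0^(p^n) =
x_i), one has x = Σ_{i<n} p^i y_i^(p^(n−i)) in W_n(k). -/
theorem result (p : ℕ) [Fact p.Prime]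
    (k : Type u) [Field k] [CharP k p] [PerfectRing k p] (n : ℕ) (x : WittVector p k)
    (y : Fin n → WittVector p k) (hy : ∀ i : Fin n, ((y i).coeff 0) ^ (p ^ n) = x.coeff i) :
    WittVector.truncate n x =
      WittVector.truncate n (∑ i : Fin n, (p : WittVector p k) ^ (i : ℕ) * (y i) ^ (p ^ (n - i))) := by
  classical
  have : Fact p.Prime := inferInstance
  rcases n with _ | m
  · ext i; exact i.elim0
  rw [← sub_eq_zero, ← map_sub, ← RingHom.mem_ker, WittVector.mem_ker_truncate]
  apply (WittVector.mem_span_p_pow_iff_le_coeff_eq_zero _ (m + 1)).1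
  rw [Ideal.mem_span_singleton]
  have h1 := WittVector.dvd_sub_sum_teichmuller_iterateFrobeniusEquiv_coeff x m
  have h2 : (p : WittVector p k) ^ (m + 1) ∣
      (∑ i ≤ m, WittVector.teichmuller p (((_root_.frobeniusEquiv k p).symm ^ i) (x.coeff i)) * (p : WittVector p k) ^ i) -
        ∑ i : Fin (m + 1), (p : WittVector p k) ^ (i : ℕ) * (y i) ^ (p ^ (m + 1 - (i : ℕ))) := by
    rw [← Nat.range_succ_eq_Iic, Finset.sum_range, ← Finset.sum_sub_distrib]
    refine Finset.dvd_sum fun i _ => ?_
    have hi : (i : ℕ) < m + 1 := i.isLt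
    have hd : (p : WittVector p k) ∣ WittVector.teichmuller p ((y i).coeff 0) - y i := by
      rw [← Ideal.mem_span_singleton, WittVector.mem_span_p_iff_coeff_zero_eq_zero]
      rw [← WittVector.constantCoeff_apply, map_sub]
      simp [WittVector.constantCoeff_apply, WittVector.teichmuller_coeff_zero]
    have hd' := dvd_sub_pow_of_dvd_sub hd (m + 1 - (i : ℕ))
    rw [← map_pow] at hd'
    have he : ((_root_.frobeniusEquiv k p).symm ^ (i : ℕ)) (x.coeff i) = (y i).coeff 0 ^ (p ^ (m + 1 - (i : ℕ))) := by
      apply ((_root_.frobeniusEquiv k p) ^ (i : ℕ)).injective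
      have hinv : ((_root_.frobeniusEquiv k p) ^ (i : ℕ)) (((_root_.frobeniusEquiv k p).symm ^ (i : ℕ)) (x.coeff i)) = x.coeff i := by
        change ((_root_.frobeniusEquiv k p) ^ (i : ℕ) * ((_root_.frobeniusEquiv k p)⁻¹) ^ (i : ℕ)) _ = _
        rw [inv_pow, mul_inv_cancel]; rfl
      have hpow : ∀ (j : ℕ) (z : k), ((_root_.frobeniusEquiv k p) ^ j) z = z ^ (p ^ j) := by
        intro j
        induction j with
        | zero => intro z; simp
        | succ j ih =>
          intro z
          rw [pow_succ, RingAut.mul_apply, ih, frobeniusEquiv_apply, frobenius_def, ← pow_mul, ← pow_succ']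
      rw [hinv, hpow, ← pow_mul, ← pow_add, Nat.sub_add_cancel hi.le, hy i]
    rw [he, mul_comm ((p : WittVector p k) ^ (i : ℕ)), ← sub_mul]
    refine dvd_trans ?_ (mul_dvd_mul_right hd' _)
    rw [← pow_add]
    exact pow_dvd_pow _ (by omega)
  have h := dvd_add h1 h2
  rwa [sub_add_sub_cancel] at h

end Groth.Agent.S18942
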