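import Groth.Statements.S18943
import Mathlib.Tactic
import Mathlib.Data.Set.Card
import Mathlib.Algebra.BigOperators.Fin
import Mathlib.Algebra.Order.Chebyshev
import Mathlib.Analysis.Calculus.ContDiff.Deriv
import Mathlib.Analysis.Calculus.ParametricIntervalIntegral
import Mathlib.MeasureTheory.Integral.IntervalIntegral.FundThmCalculus
import Mathlib.RingTheory.Polynomial.Pochhammer
import Mathlib.Algebra.Algebra.Rat
import Mathlib.RingTheory.TensorProduct.Basic
import Mathlib.RingTheory.Localization.BaseChange
import Mathlib.RingTheory.Flat.TorsionFree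
import Mathlib.RingTheory.MvPolynomial.Basic
import Mathlib.RingTheory.Ideal.Quotient.Operations
import Mathlib.RingTheory.LocalRing.Basic
import Mathlib.Algebra.CharP.Lemmas

set_option autoImplicit false
open scoped ContDiff
open CInfGerm

open MeasureTheory intervalIntegral

namespace Groth.Agent.S18943

/-- Let f be an infinitely differentiable real-valued function on the real line with f(0) = 0. Then f(x)
= x·g(x) for an infinitely differentiable function g. (The source phrases this for germs at 0: the
maximal ideal of the local ring of germs of smooth functions at the origin is generated by the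
coordinate t; the global form stated here is what its argument, smooth extension of f(x)/x across 0,
gives.) -/
theorem result (f : ℝ → ℝ) (hf : ContDiff ℝ ∞ f) (h0 : f 0 = 0) :
    ∃ g : ℝ → ℝ, ContDiff ℝ ∞ g ∧ ∀ x : ℝ, f x = x * g x := by
  let G : ℕ → (ℝ → ℝ) → ℝ → ℝ := fun n h x => ∫ t in (0:ℝ)..1, t ^ n * h (t * x)
  have hder : ∀ (n : ℕ) (h : ℝ → ℝ), ContDiff ℝ ∞ h → ∀ x, HasDerivAt (G n h) (G (n + 1) (deriv h) x) x := by
    intro n h hh x
    have hc : Continuous h := hh.continuous
    have hc' : Continuous (deriv h) := (contDiff_infty_iff_deriv.1 hh).2.continuous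
    obtain ⟨C, hC⟩ := (isCompact_Icc (a := -(|x| + 1)) (b := |x| + 1)).exists_bound_of_continuousOn hc'.continuousOn
    refine (intervalIntegral.hasDerivAt_integral_of_dominated_loc_of_deriv_le (𝕜 := ℝ) (bound := fun _ => C)
      (F := fun y t => t ^ n * h (t * y)) (F' := fun y t => t ^ (n + 1) * deriv h (t * y))
      (Metric.ball_mem_nhds x one_pos) ?_ ?_ ?_ ?_ ?_ ?_).2
    · exact Filter.Eventually.of_forall fun y => (Continuous.aestronglyMeasurable (by fun_prop))
    · exact Continuous.intervalIntegrable (by fun_prop) _ _
    · exact Continuous.aestronglyMeasurable (by fun_prop)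
    · refine Filter.Eventually.of_forall fun t ht y hy => ?_
      rw [Set.uIoc_of_le zero_le_one] at ht
      rw [Metric.mem_ball, Real.dist_eq, abs_lt] at hy
      have hty : t * y ∈ Set.Icc (-(|x| + 1)) (|x| + 1) := by
        have : |t * y| ≤ |x| + 1 := by
          rw [abs_mul, abs_of_pos ht.1]
          have : |y| ≤ |x| + 1 := by
            rw [abs_le]; constructor <;> [linarith [neg_abs_le x, hy.1]; linarith [le_abs_self x, hy.2]]
          nlinarith [abs_nonneg y, ht.1, ht.2]
        exact abs_le.1 this
      rw [norm_mul, norm_pow, Real.norm_of_nonneg ht.1.le]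
      calc t ^ (n + 1) * ‖deriv h (t * y)‖ ≤ 1 * C :=
            mul_le_mul (pow_le_one₀ ht.1.le ht.2) (hC _ hty) (norm_nonneg _) zero_le_one
        _ = C := one_mul C
    · exact intervalIntegrable_const
    · refine Filter.Eventually.of_forall fun t _ y _ => ?_
      have h1 : HasDerivAt h (deriv h (t * y)) (t * y) :=
        ((contDiff_infty_iff_deriv.1 hh).1 _).hasDerivAt
      have h2 : HasDerivAt (fun z => h (t * z)) (deriv h (t * y) * t) y :=
        h1.comp y (by simpa using (hasDerivAt_id y).const_mul t)
      have := h2.const_mul (t ^ n)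
      rw [pow_succ]
      exact this.congr_deriv (by ring)
  have hsmooth : ∀ (k : ℕ) (n : ℕ) (h : ℝ → ℝ), ContDiff ℝ ∞ h → ContDiff ℝ k (G n h) := by
    intro k
    induction k with
    | zero =>
      intro n h hh
      rw [Nat.cast_zero, contDiff_zero]
      exact continuous_iff_continuousAt.2 fun x => (hder n h hh x).continuousAt
    | succ k ih =>
      intro n h hh
      rw [Nat.cast_succ, contDiff_succ_iff_deriv]
      refine ⟨fun x => (hder n h hh x).differentiableAt, ?_, ?_⟩
      · intro h'; simp at h'
      · rw [show deriv (G n h) = G (n + 1) (deriv h) from funext fun x => (hder n h hh x).deriv]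
        exact ih _ _ (contDiff_infty_iff_deriv.1 hh).2
  refine ⟨G 0 (deriv f), contDiff_infty.2 fun k => hsmooth k 0 _ (contDiff_infty_iff_deriv.1 hf).2, fun x => ?_⟩
  simp only [G, pow_zero, one_mul]
  rw [← smul_eq_mul x, intervalIntegral.smul_integral_comp_mul_right, zero_mul, one_mul, integral_deriv_eq_sub, h0, sub_zero]
  · exact fun y _ => (contDiff_infty_iff_deriv.1 hf).1 y
  · exact ((contDiff_infty_iff_deriv.1 hf).2.continuous).intervalIntegrable _ _

end Groth.Agent.S18943
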