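import Groth.Statements.S18944
import Groth.Agent.Lib.CI2.RImm
import Groth.Prelude.Def_RegImm
import Mathlib

set_option autoImplicit false
universe u
open CategoryTheory AlgebraicGeometry
open RegImm

namespace Groth.Agent.S18944
open CategoryTheory CategoryTheory.Limits AlgebraicGeometry

/-- Let i : Z → X be a regular immersion of schemes (kind: successive non-zero-divisors). Then for every
point z of Z the kernel of the induced map of local rings O_{X, i(z)} → O_{Z, z} is generated by a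
regular sequence of O_{X, i(z)}. (No Noetherian hypothesis; over a locally Noetherian X the converse
also holds.) -/
theorem result {Z X : Scheme.{u}} (i : Z ⟶ X)
    (h : RegImm.IsRegularImmersion RegImm.Kind.regular i) (z : Z) :
    ∃ rs : List (X.presheaf.stalk (i z)),
      RingTheory.Sequence.IsRegular (X.presheaf.stalk (i z)) rs ∧
        RingHom.ker (i.stalkMap z).hom = Ideal.ofList rs := by
  obtain ⟨U, hz, hcl, rs, hrs, hker⟩ := h.2 z
  haveI := hcl
  obtain ⟨hW, hs⟩ := Groth.Agent.CI2.surjective_app_of_closed i U.2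
  let L := X.presheaf.stalk (i z)
  letI : Algebra Γ(X, U.1) L := X.presheaf.algebra_section_stalk (⟨i z, hz⟩ : U.1)
  haveI : IsLocalization.AtPrime L (U.2.primeIdealOf ⟨i z, hz⟩).asIdeal := U.2.isLocalization_stalk ⟨i z, hz⟩
  haveI : Module.Flat Γ(X, U.1) L := IsLocalization.flat L (U.2.primeIdealOf ⟨i z, hz⟩).asIdeal.primeCompl
  haveI : IsLocalRing L := inferInstance
  letI : Algebra Γ(Z, i ⁻¹ᵁ U.1) (Z.presheaf.stalk z) := Z.presheaf.algebra_section_stalk (⟨z, hz⟩ : (i ⁻¹ᵁ U.1 : Z.Opens))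
  haveI : IsLocalization.AtPrime (Z.presheaf.stalk z) (hW.primeIdealOf ⟨z, hz⟩).asIdeal := hW.isLocalization_stalk ⟨z, hz⟩
  have hgerm : ∀ a : Γ(X, U.1), (i.stalkMap z).hom (algebraMap Γ(X, U.1) L a) =
      algebraMap Γ(Z, i ⁻¹ᵁ U.1) (Z.presheaf.stalk z) ((i.app U.1).hom a) := fun a =>
    Scheme.Hom.germ_stalkMap_apply i U.1 z hz a
  have hp : U.2.primeIdealOf ⟨i z, hz⟩ = (hW.primeIdealOf ⟨z, hz⟩).comap (i.app U.1).hom := by
    rw [← IsAffineOpen.comap_primeIdealOf_appLE U.1 U.2 (i ⁻¹ᵁ U.1) hW le_rfl hz, Scheme.Hom.app_eq_appLE]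
  have hkerL : RingHom.ker (i.stalkMap z).hom = (Ideal.ofList rs).map (algebraMap Γ(X, U.1) L) := by
    refine le_antisymm (fun x hx => ?_) (Ideal.map_le_iff_le_comap.2 fun a ha => ?_)
    · obtain ⟨a, s, rfl⟩ := IsLocalization.exists_mk'_eq (U.2.primeIdealOf ⟨i z, hz⟩).asIdeal.primeCompl x
      rw [IsLocalization.mk'_mem_iff]
      have h0 : (i.stalkMap z).hom (algebraMap Γ(X, U.1) L a) = 0 := by
        rw [← IsLocalization.mk'_spec L a s, map_mul, show (i.stalkMap z).hom (IsLocalization.mk' L a s) = 0 from hx,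
          zero_mul]
      rw [hgerm, IsLocalization.map_eq_zero_iff (hW.primeIdealOf ⟨z, hz⟩).asIdeal.primeCompl] at h0
      obtain ⟨⟨t, ht⟩, hta⟩ := h0
      obtain ⟨t', rfl⟩ := hs t
      have ht' : t' ∈ (U.2.primeIdealOf ⟨i z, hz⟩).asIdeal.primeCompl := by rw [hp]; exact ht
      refine (Ideal.unit_mul_mem_iff_mem _ (IsLocalization.map_units L ⟨t', ht'⟩)).1 ?_
      rw [← map_mul]
      refine Ideal.mem_map_of_mem _ ?_
      rw [← hker, RingHom.mem_ker, map_mul]
      exact hta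
    · rw [← hker, RingHom.mem_ker] at ha
      show (i.stalkMap z).hom (algebraMap Γ(X, U.1) L a) = 0
      rw [hgerm, ha, map_zero]
  refine ⟨rs.map (algebraMap Γ(X, U.1) L), ⟨RingTheory.Sequence.IsWeaklyRegular.of_flat hrs.toIsWeaklyRegular, ?_⟩,
    hkerL.trans (Ideal.map_ofList _ rs)⟩
  rw [← Ideal.map_ofList, smul_eq_mul, Ideal.mul_top, ← hkerL]
  exact (RingHom.ker_ne_top (i.stalkMap z).hom).symm

end Groth.Agent.S18944
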