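import Groth.Statements.S18945
import Groth.Agent.Lib.CI2.SyntScheme
import Groth.Agent.Lib.CI2.RImmBC
import Groth.Agent.S18934
import Groth.Prelude.Def_RegImm
import Mathlib

set_option autoImplicit false
universe u
open CategoryTheory AlgebraicGeometry
open Synt

namespace Groth.Agent.S18945
open CategoryTheory CategoryTheory.Limits AlgebraicGeometry

open Groth.Agent.CI2 in
theorem syntMor_comp_open {X Y Z : Scheme.{u}} (f : X ⟶ Y) (hf : syntMor f) (j : Y ⟶ Z) [IsOpenImmersion j] :
    syntMor (f ≫ j) := by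
  have hsrc : RingHom.StableUnderCompositionWithLocalizationAwaySource @SyntHom.{u} := by
    intro R S T _ _ _ _ r _ g hg
    algebraize [g, g.comp (algebraMap R S)]
    exact syntHom_algebraMap.mpr ((isSyntomic_base_iff r S T).mpr (syntHom_algebraMap.mp hg))
  haveI := HasRingHomProperty.respects_isOpenImmersion (P := syntMor.{u}) hsrc
  exact MorphismProperty.RespectsRight.postcomp (P := syntMor) (Q := @IsOpenImmersion) j inferInstance f hf

theorem pow_comp {P Q R S : CommRingCat.{u}} (f : P ⟶ Q) (g : Q ⟶ R) (h : R ⟶ S) (a : P) (r : R) (n : ℕ)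
    (hr : r ^ n = g (f a)) : (h r) ^ n = (f ≫ g ≫ h) a := by
  rw [← map_pow, hr]
  rfl

open Polynomial in
theorem root_pow {R : Type u} [CommRing R] (p : ℕ) (b : R) :
    (AdjoinRoot.root (Polynomial.X ^ p - C b)) ^ p = AdjoinRoot.of (Polynomial.X ^ p - C b) b := by
  have h2 := AdjoinRoot.eval₂_root (Polynomial.X ^ p - C b)
  rw [eval₂_sub, eval₂_X_pow, eval₂_C, sub_eq_zero] at h2
  exact h2

/-- Let p be a prime, X a scheme and a a global section of the structure sheaf of X. There is a covering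
of X for the syntomic topology, that is a jointly surjective family of syntomic morphisms X_i → X,
such that the restriction of a to each X_i is a p-th power. (The source states the surjectivity of
the p-th power map of the structure sheaf on the small syntomic site of a syntomic scheme over a
perfect field of characteristic p; the covering it uses elsewhere, adjoining a p-th root T^p = a
over affine pieces, gives the statement for every scheme, which is the form given here.) -/
theorem result (p : ℕ) [Fact p.Prime] (X : Scheme.{u}) (a : Γ(X, ⊤)) :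
    ∃ 𝒰 : Scheme.Cover.{u} (Scheme.precoverage @Synt.IsSyntomicMor) X,
      ∀ i : 𝒰.I₀, ∃ b : Γ(𝒰.X i, ⊤), b ^ p = (𝒰.f i).appTop a := by
  let J := {U : X.Opens // IsAffineOpen U}
  let aU : ∀ U : J, Γ(X, U.1) := fun U => (X.presheaf.map (homOfLE (le_top : U.1 ≤ ⊤)).op).hom a
  let A : J → CommRingCat.{u} := fun U => CommRingCat.of (AdjoinRoot (Polynomial.X ^ p - Polynomial.C (aU U)))
  let φ : ∀ U : J, Γ(X, U.1) ⟶ A U := fun U => CommRingCat.ofHom (AdjoinRoot.of _)
  have hsynt : ∀ U, Groth.Agent.CI2.syntMor (Spec.map (φ U) ≫ U.2.fromSpec) := fun U =>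
    syntMor_comp_open _ ((HasRingHomProperty.Spec_iff (P := Groth.Agent.CI2.syntMor)).2
      (Groth.Agent.CI2.syntHom_algebraMap.2 (Groth.Agent.S18934.result p Γ(X, U.1) (aU U)).1)) _
  refine ⟨Scheme.Cover.mkOfCovers J (fun U => Spec (A U)) (fun U => Spec.map (φ U) ≫ U.2.fromSpec) (fun x => ?_) hsynt,
    fun (U : J) => ⟨(Scheme.ΓSpecIso (A U)).inv (AdjoinRoot.root _), ?_⟩⟩
  · obtain ⟨U, hU, hxU, -⟩ := exists_isAffineOpen_mem_and_subset (X := X) (U := ⊤) (x := x) trivial
    haveI := (Groth.Agent.S18934.result p Γ(X, U) (aU ⟨U, hU⟩)).2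
    obtain ⟨q, hq⟩ := PrimeSpectrum.comap_surjective_of_faithfullyFlat
      (B := AdjoinRoot (Polynomial.X ^ p - Polynomial.C (aU ⟨U, hU⟩))) (hU.primeIdealOf ⟨x, hxU⟩)
    refine ⟨⟨U, hU⟩, q, ?_⟩
    show hU.fromSpec (PrimeSpectrum.comap (φ ⟨U, hU⟩).hom q) = x
    rw [show PrimeSpectrum.comap (φ ⟨U, hU⟩).hom q = hU.primeIdealOf ⟨x, hxU⟩ from hq, hU.fromSpec_primeIdealOf]
  · have h1 : (Spec.map (φ U) ≫ U.2.fromSpec).appTop =
        X.presheaf.map (homOfLE (le_top : U.1 ≤ ⊤)).op ≫ φ U ≫ (Scheme.ΓSpecIso (A U)).inv := by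
      have h3 : U.2.fromSpec.appTop = X.presheaf.map (homOfLE (le_top : U.1 ≤ ⊤)).op ≫ (Scheme.ΓSpecIso Γ(X, U.1)).inv := by
        rw [← Groth.Agent.CI2.fromSpec_appLE_self U.2, Scheme.Hom.map_appLE, Scheme.Hom.appTop, Scheme.Hom.app_eq_appLE]
        rfl
      rw [Scheme.Hom.comp_appTop, h3, Category.assoc, ← Scheme.ΓSpecIso_inv_naturality]
    exact (pow_comp (X.presheaf.map (homOfLE (le_top : U.1 ≤ ⊤)).op) (φ U) (Scheme.ΓSpecIso (A U)).inv a
      (AdjoinRoot.root _) p (root_pow p (aU U))).trans (ConcreteCategory.congr_hom h1 a).symm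

end Groth.Agent.S18945
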