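import Groth.Statements.S18946
import Mathlib.Algebra.CharP.Lemmas
import Mathlib.Tactic.Ring

set_option autoImplicit false
universe u
open scoped BigOperators
open InvQ

namespace Groth.Agent.S18946

/-- Let k be an algebraically closed field of characteristic zero and n a natural number, and let the
torus of (n+1)-tuples of units of k with product 1 act on the polynomial ring k[t_0, ..., t_n] by
rescaling each variable t_i by the i-th unit. A polynomial is fixed by every such rescaling if and
only if it lies in the k-subalgebra generated by the product t_0 t_1 ... t_n. (This is the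
computation of the ring of functions on affine (n+1)-space invariant under the maximal diagonal
torus of the special linear group, identified with the polynomial ring in the single coordinate t =
t_0 ... t_n of the line it maps to by the product map; invariance is tested on k-valued points of
the torus, which over an infinite field is the same as invariance under the group scheme.) -/
theorem result
    (k : Type u) [Field k] [IsAlgClosed k] [CharZero k] (n : ℕ)
    (f : MvPolynomial (Fin (n + 1)) k) :
    (∀ σ : Fin (n + 1) → kˣ, ∏ i, (σ i : k) = 1 →
        MvPolynomial.aeval (fun i => MvPolynomial.C (σ i : k) * MvPolynomial.X i) f = f) ↔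
      f ∈ Algebra.adjoin k ({∏ i : Fin (n + 1), MvPolynomial.X i} : Set (MvPolynomial (Fin (n + 1)) k)) := by
  classical
  have hcoeff : ∀ (σ : Fin (n + 1) → kˣ) (p : MvPolynomial (Fin (n + 1)) k) (m : Fin (n + 1) →₀ ℕ),
      MvPolynomial.coeff m (MvPolynomial.aeval (fun i => MvPolynomial.C (σ i : k) * MvPolynomial.X i) p) =
        (∏ i, (σ i : k) ^ m i) * MvPolynomial.coeff m p := by
    intro σ p m
    induction p using MvPolynomial.induction_on' with
    | add p q hp hq => simp only [map_add, MvPolynomial.coeff_add, mul_add, hp, hq]
    | monomial d c =>
      have : MvPolynomial.aeval (fun i => MvPolynomial.C (σ i : k) * MvPolynomial.X i) (MvPolynomial.monomial d c) =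
          MvPolynomial.monomial d ((∏ i, (σ i : k) ^ d i) * c) := by
        rw [MvPolynomial.aeval_monomial, Finsupp.prod_fintype _ _ (fun i => pow_zero _)]
        simp only [mul_pow, Finset.prod_mul_distrib, ← map_pow, ← map_prod, MvPolynomial.algebraMap_eq]
        rw [MvPolynomial.monomial_eq, Finsupp.prod_fintype _ _ (fun i => pow_zero _), map_mul]
        ring
      rw [this, MvPolynomial.coeff_monomial, MvPolynomial.coeff_monomial]
      split_ifs with h
      · subst h; rfl
      · rw [mul_zero]
  constructor
  · intro h
    rw [f.as_sum]
    refine sum_mem fun m hm => ?_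
    have hconst : ∀ i j, m i = m j := by
      intro i j
      by_contra hne
      have hij : i ≠ j := fun h' => hne (by rw [h'])
      let two : kˣ := Units.mk0 (2 : k) two_ne_zero
      let σ : Fin (n + 1) → kˣ := Function.update (Function.update (fun _ => 1) j two⁻¹) i two
      have hj : σ j = two⁻¹ := by simp [σ, hij.symm]
      have hi : σ i = two := by simp [σ]
      have ho : ∀ l, l ≠ i → l ≠ j → σ l = 1 := fun l h1 h2 => by simp [σ, h1, h2]
      have hprod : ∀ e : Fin (n + 1) → ℕ, ∏ l, (σ l : k) ^ e l = (2 : k) ^ e i * ((2 : k)⁻¹) ^ e j := by
        intro e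
        rw [← Finset.prod_subset (Finset.subset_univ {i, j}) (fun l _ hl => by
          simp only [Finset.mem_insert, Finset.mem_singleton, not_or] at hl
          rw [ho l hl.1 hl.2, Units.val_one, one_pow]), Finset.prod_pair hij, hi, hj]
        simp [two, Units.val_inv_eq_inv_val]
      have h1 := congrArg (MvPolynomial.coeff m) (h σ (by
        have := hprod (fun _ => 1)
        simpa using this))
      rw [hcoeff, hprod] at h1
      have hc : MvPolynomial.coeff m f ≠ 0 := MvPolynomial.mem_support_iff.1 hm
      have h2 : (2 : k) ^ m i * ((2 : k)⁻¹) ^ m j = 1 := mul_right_cancel₀ hc (h1.trans (one_mul _).symm)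
      rw [inv_pow, ← div_eq_mul_inv, div_eq_one_iff_eq (pow_ne_zero _ two_ne_zero)] at h2
      have h3 : ((2 ^ m i : ℕ) : k) = ((2 ^ m j : ℕ) : k) := by push_cast; exact h2
      exact hne (Nat.pow_right_injective (le_refl 2) (Nat.cast_injective h3))
    have : MvPolynomial.monomial m (MvPolynomial.coeff m f) =
        MvPolynomial.coeff m f • (∏ i : Fin (n + 1), MvPolynomial.X i) ^ m 0 := by
      rw [← Finset.prod_pow, MvPolynomial.monomial_eq, Finsupp.prod_fintype _ _ (fun i => pow_zero _),
        MvPolynomial.smul_eq_C_mul]
      congr 1
      exact Finset.prod_congr rfl fun i _ => by rw [hconst i 0]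
    rw [this]
    exact Subalgebra.smul_mem _ (Subalgebra.pow_mem _ (Algebra.subset_adjoin (Set.mem_singleton _)) _) _
  · intro hf σ hσ
    induction hf using Algebra.adjoin_induction with
    | mem y hy =>
      rw [Set.mem_singleton_iff.1 hy, map_prod]
      simp only [MvPolynomial.aeval_X, Finset.prod_mul_distrib, ← map_prod, hσ, map_one, one_mul]
    | algebraMap c => simp
    | add p q _ _ hp hq => rw [map_add, hp, hq]
    | mul p q _ _ hp hq => rw [map_mul, hp, hq]

end Groth.Agent.S18946
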