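import Groth.Statements.S18949
import Mathlib.Tactic.Group

set_option autoImplicit false
universe u v
open CExt

namespace Groth.Agent.S18949

/-- Automorphisms over the base: let f : E → G be a surjective homomorphism of groups with central
kernel A. For every homomorphism χ : G → A the map e ↦ χ(f(e)) · e is an endomorphism of E over G
which is the identity on A; and every endomorphism α of E with f ∘ α = f and α equal to the identity
on A is of this form for exactly one χ. (In the source this identifies the automorphisms of a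
central extension fixing its kernel with Hom(G, A), for extensions of profinite étale group schemes
over a field; stated here for abstract groups.) -/
theorem result {E : Type u} {G : Type v} [Group E] [Group G]
    (f : E →* G) (hf : Function.Surjective f) (hker : f.ker ≤ Subgroup.center E) :
    (∀ χ : G →* f.ker, ∃ α : E →* E, f.comp α = f ∧ (∀ a ∈ f.ker, α a = a) ∧
        ∀ e : E, α e = (χ (f e) : E) * e) ∧
      ∀ α : E →* E, f.comp α = f → (∀ a ∈ f.ker, α a = a) →
        ∃! χ : G →* f.ker, ∀ e : E, α e = (χ (f e) : E) * e := by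
  constructor
  · intro χ
    have hc : ∀ (g : G) (e : E), (χ g : E) * e = e * (χ g : E) := fun g e =>
      (Subgroup.mem_center_iff.1 (hker (χ g).2) e).symm
    refine ⟨{ toFun := fun e => (χ (f e) : E) * e, map_one' := by simp, map_mul' := ?_ }, ?_, ?_, fun e => rfl⟩
    · intro a b
      simp only [map_mul, Subgroup.coe_mul]
      rw [mul_assoc, mul_assoc, ← mul_assoc (χ (f b) : E) a, hc (f b) a, mul_assoc]
    · ext e
      have : f (χ (f e) : E) = 1 := (χ (f e)).2
      simp [this]
    · intro a ha
      simp [(MonoidHom.mem_ker.1 ha : f a = 1)]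
  · intro α hα hαA
    have hk : ∀ e, α e * e⁻¹ ∈ f.ker := fun e => by
      have : f (α e) = f e := DFunLike.congr_fun hα e
      simp [MonoidHom.mem_ker, this]
    have hwd : ∀ e e', f e = f e' → α e * e⁻¹ = α e' * e'⁻¹ := by
      intro e e' h
      have h1 : e'⁻¹ * e ∈ f.ker := by simp [MonoidHom.mem_ker, h]
      have h2 := hαA _ h1
      rw [map_mul, map_inv, inv_mul_eq_iff_eq_mul] at h2
      rw [h2]; group
    obtain ⟨s, hs⟩ := hf.hasRightInverse
    let χ : G →* f.ker := MonoidHom.mk' (fun g => ⟨α (s g) * (s g)⁻¹, hk _⟩) (by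
      intro g h
      apply Subtype.ext
      show α (s (g * h)) * (s (g * h))⁻¹ = (α (s g) * (s g)⁻¹) * (α (s h) * (s h)⁻¹)
      rw [hwd (s (g * h)) (s g * s h) (by simp [hs _]), map_mul, mul_inv_rev]
      have hc := Subgroup.mem_center_iff.1 (hker (hk (s h))) (s g)⁻¹
      calc α (s g) * α (s h) * ((s h)⁻¹ * (s g)⁻¹) = α (s g) * ((α (s h) * (s h)⁻¹) * (s g)⁻¹) := by group
      _ = α (s g) * ((s g)⁻¹ * (α (s h) * (s h)⁻¹)) := by rw [hc]
      _ = _ := by group)
    refine ⟨χ, fun e => ?_, ?_⟩
    · show α e = (α (s (f e)) * (s (f e))⁻¹) * e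
      rw [hwd (s (f e)) e (hs _)]; group
    · intro χ' hχ'
      ext g
      show (χ' g : E) = α (s g) * (s g)⁻¹
      rw [hχ' (s g), hs g, mul_inv_cancel_right]

end Groth.Agent.S18949
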