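import Groth.Statements.S18951
import Mathlib
import Groth.Prelude.Def_W4c6brauerbgmalleOrbPic
import Groth.Prelude.Def_W4c5quivmodgenus0Quiv

set_option autoImplicit false
universe u
open OrbPic

namespace Groth.Agent.S18951

open W4c6brauerbgmalle

/-- Let G be a group and C ⊆ G a subset that generates G. Then the projection (χ, w) ↦ w from the group
of geometric partial orbifold line bundles with respect to C to functions G → ℚ is injective, its
image contains every conjugation-invariant integer-valued function vanishing at 1 and outside C, and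
the group is torsion-free. (The source works with the geometric points of a tame finite étale group
scheme, characters with values in roots of unity and weights on conjugacy classes of the Tate twist;
here these are identified with a group, homomorphisms to ℚ/ℤ and class functions as the source does
after choosing roots of unity. The case C = G ∖ {1} is the statement for full orbifold line
bundles.) -/
theorem result (G : Type u) [Group G] (C : Set G)
    (hC : Subgroup.closure C = ⊤) :
    Set.InjOn (fun p : (Additive G →+ W4c6brauerbgmalle.QmodZ) × (G → ℚ) => p.2) (W4c6brauerbgmalle.picOrb G C) ∧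
      (∀ w ∈ W4c6brauerbgmalle.intWeights G C, ((0 : Additive G →+ W4c6brauerbgmalle.QmodZ), w) ∈ W4c6brauerbgmalle.picOrb G C) ∧
      ∀ (n : ℕ) (p : (Additive G →+ W4c6brauerbgmalle.QmodZ) × (G → ℚ)), p ∈ W4c6brauerbgmalle.picOrb G C → n ≠ 0 →
        n • p = 0 → p = 0 := by
  have hinj : Set.InjOn (fun p : (Additive G →+ QmodZ) × (G → ℚ) => p.2) (picOrb G C) := by
    rintro ⟨χ, w⟩ ⟨-, -, -, h4⟩ ⟨χ', w'⟩ ⟨-, -, -, h4'⟩ (hw : w = w')
    subst hw
    have hχ : AddMonoidHom.toMultiplicativeRight χ = AddMonoidHom.toMultiplicativeRight χ' :=
      MonoidHom.eq_of_eqOn_dense hC fun g hg => congrArg Multiplicative.ofAdd ((h4 g hg).symm.trans (h4' g hg))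
    simpa using hχ
  refine ⟨hinj, ?_, ?_⟩
  · rintro w ⟨h1, h2, h3, h4⟩
    refine ⟨h1, h2, h3, fun g _ => ?_⟩
    obtain ⟨n, hn⟩ := h4 g
    simp only [hn, AddMonoidHom.zero_apply, QuotientAddGroup.mk'_apply, QuotientAddGroup.eq_zero_iff]
    exact AddSubgroup.mem_zmultiples_iff.2 ⟨n, by simp⟩
  · intro n p hp hn h
    refine hinj hp (zero_mem _) ?_
    have : n • p.2 = 0 := congrArg Prod.snd h
    funext g
    simpa [hn] using congrFun this g

end Groth.Agent.S18951
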