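import Groth.Statements.S18953
import Mathlib
import Groth.Prelude.Def_W4c6brauerbgmalleOrbPic
import Groth.Prelude.Def_W4c5quivmodgenus0Quiv

set_option autoImplicit false
universe u v
open OrbPic

namespace Groth.Agent.S18953

/-- Let G₁ and G₂ be groups with subsets C₁ ⊆ G₁ and C₂ ⊆ G₂, and let C ⊆ G₁ × G₂ be the union of C₁ ×
{1} and {1} × C₂. Restricting the character and the weight along the two inclusions G₁ → G₁ × G₂ and
G₂ → G₁ × G₂ is a bijection from the geometric partial orbifold line bundles of G₁ × G₂ with respect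
to C onto pairs of geometric partial orbifold line bundles of G₁ with respect to C₁ and of G₂ with
respect to C₂. (As in the source after a choice of roots of unity, each group stands for the
geometric points of a tame finite étale group scheme, characters are homomorphisms to ℚ/ℤ and
weights are class functions; the source states the Galois-equivariant version, which follows by
taking invariants.) -/
theorem result (G₁ : Type u) (G₂ : Type v) [Group G₁] [Group G₂] (C₁ : Set G₁) (C₂ : Set G₂) :
    Set.BijOn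
      (fun p : (Additive (G₁ × G₂) →+ W4c6brauerbgmalle.QmodZ) × (G₁ × G₂ → ℚ) =>
        ((p.1.comp (MonoidHom.toAdditive (MonoidHom.inl G₁ G₂)), fun g => p.2 (g, 1)),
          (p.1.comp (MonoidHom.toAdditive (MonoidHom.inr G₁ G₂)), fun g => p.2 (1, g))))
      (W4c6brauerbgmalle.picOrb (G₁ × G₂) ((fun g => (g, (1 : G₂))) '' C₁ ∪ (fun g => ((1 : G₁), g)) '' C₂))
      ((W4c6brauerbgmalle.picOrb G₁ C₁ : Set _) ×ˢ (W4c6brauerbgmalle.picOrb G₂ C₂ : Set _)) := by
  classical
  refine ⟨?_, ?_, ?_⟩
  · rintro ⟨χ, w⟩ ⟨h1, h2, h3, h4⟩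
    refine ⟨⟨h1, fun g hg => ?_, fun g h => ?_, fun g hg => ?_⟩, h1, fun g hg => ?_, fun g h => ?_, fun g hg => ?_⟩
    · by_cases hg1 : g = 1
      · subst hg1; exact h1
      · refine h2 (g, 1) ?_
        rintro (⟨x, hx, he⟩ | ⟨x, hx, he⟩) <;> simp only [Prod.mk.injEq] at he
        · exact hg (he.1 ▸ hx)
        · exact hg1 he.1.symm
    · simpa using h3 (g, 1) (h, 1)
    · simpa using h4 (g, 1) (Or.inl ⟨g, hg, rfl⟩)
    · by_cases hg1 : g = 1
      · subst hg1; exact h1
      · refine h2 (1, g) ?_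
        rintro (⟨x, hx, he⟩ | ⟨x, hx, he⟩) <;> simp only [Prod.mk.injEq] at he
        · exact hg1 he.2.symm
        · exact hg (he.2 ▸ hx)
    · simpa using h3 (1, g) (1, h)
    · simpa using h4 (1, g) (Or.inr ⟨g, hg, rfl⟩)
  · rintro ⟨χ, w⟩ ⟨-, h2, -, -⟩ ⟨χ', w'⟩ ⟨-, h2', -, -⟩ he
    simp only [Prod.mk.injEq] at he
    obtain ⟨⟨hl, hwl⟩, hr, hwr⟩ := he
    refine Prod.ext (AddMonoidHom.ext fun x => ?_) (funext fun g => ?_)
    · have hx : x = Additive.ofMul (x.toMul.1, (1 : G₂)) + Additive.ofMul ((1 : G₁), x.toMul.2) := by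
        rw [← ofMul_mul]; simp
      have el := DFunLike.congr_fun hl (Additive.ofMul x.toMul.1)
      have er := DFunLike.congr_fun hr (Additive.ofMul x.toMul.2)
      rw [hx, map_add, map_add]
      exact congrArg₂ (· + ·) el er
    · by_cases hg : g ∈ (fun g => (g, (1 : G₂))) '' C₁ ∪ (fun g => ((1 : G₁), g)) '' C₂
      · rcases hg with ⟨x, -, rfl⟩ | ⟨x, -, rfl⟩
        · exact congrFun hwl x
        · exact congrFun hwr x
      · exact (h2 g hg).trans (h2' g hg).symm
  · rintro ⟨⟨χ1, w1⟩, ⟨χ2, w2⟩⟩ ⟨⟨a1, a2, a3, a4⟩, b1, b2, b3, b4⟩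
    refine ⟨(χ1.comp (MonoidHom.toAdditive (MonoidHom.fst G₁ G₂)) + χ2.comp (MonoidHom.toAdditive (MonoidHom.snd G₁ G₂)),
      fun g => (if g.2 = 1 then w1 g.1 else 0) + (if g.1 = 1 then w2 g.2 else 0)), ⟨?_, ?_, ?_, ?_⟩, ?_⟩
    · simp only [Prod.fst_one, Prod.snd_one, if_true] at *
      rw [a1, b1, add_zero]
    · rintro ⟨x, y⟩ hg
      dsimp only
      have e1 : (if y = 1 then w1 x else 0) = 0 := by
        split_ifs with h
        · exact a2 x fun hx => hg (Or.inl ⟨x, hx, by rw [h]⟩)
        · rfl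
      have e2 : (if x = 1 then w2 y else 0) = 0 := by
        split_ifs with h
        · exact b2 y fun hy => hg (Or.inr ⟨y, hy, by rw [h]⟩)
        · rfl
      rw [e1, e2, add_zero]
    · rintro ⟨x, y⟩ ⟨h, k⟩
      simp only [Prod.mk_mul_mk, Prod.inv_mk, mul_inv_eq_one, mul_eq_left] at *
      rw [a3, b3]
    · rintro _ (⟨x, hx, rfl⟩ | ⟨y, hy, rfl⟩)
      · have := a4 x hx
        by_cases h : x = 1
        · subst h; simp_all
        · simp_all
      · have := b4 y hy
        by_cases h : y = 1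
        · subst h; simp_all
        · simp_all
    · refine Prod.ext (Prod.ext (AddMonoidHom.ext fun x => by simp) (funext fun g => ?_))
        (Prod.ext (AddMonoidHom.ext fun x => by simp) (funext fun g => ?_))
      · by_cases h : g = 1
        · subst h; simp_all
        · simp [h]
      · by_cases h : g = 1
        · subst h; simp_all
        · simp [h]

open PtQuiv

end Groth.Agent.S18953
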