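import Groth.Statements.S18954
import Mathlib.Algebra.BigOperators.Group.Finset.Sigma
import Mathlib.Algebra.BigOperators.Ring.Finset
import Mathlib.Tactic.FieldSimp
import Mathlib.Tactic.Ring

set_option autoImplicit false
universe u v w
open Classical
open BGCount

namespace Groth.Agent.S18954

/-- Let a finite group G act on a finite set X, let W be a finite set of orbits and f a function on
orbits with values in a field of characteristic zero. Then Σ_{O ∈ W} f(O)/|Stab(x_O)|, with x_O any
point of O, equals |G|⁻¹ · Σ f(orbit(x)) over the points x of X whose orbit lies in W. (In the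
source X is the set of 1-cocycles of the absolute Galois group of a field in a finite étale group
scheme G, acted on by the geometric points of G, the orbits are the isomorphism classes of G-torsors
and the stabilisers their automorphism groups; stated here for an arbitrary action of a finite group
on a finite set, the representative x_O being chosen by Quotient.out.) -/
theorem result {G : Type u} {X : Type v} (𝕜 : Type w)
    [Group G] [Fintype G] [MulAction G X] [Fintype X] [Field 𝕜] [CharZero 𝕜]
    (W : Finset (MulAction.orbitRel.Quotient G X)) (f : MulAction.orbitRel.Quotient G X → 𝕜) :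
    (∑ O ∈ W, f O / (Nat.card (MulAction.stabilizer G O.out) : 𝕜)) =
      (Fintype.card G : 𝕜)⁻¹ *
        ∑ x ∈ Finset.univ.filter (fun x : X => (Quotient.mk (MulAction.orbitRel G X) x) ∈ W),
          f (Quotient.mk (MulAction.orbitRel G X) x) := by
  classical
  rw [Finset.mul_sum]
  have hmaps : ∀ x ∈ Finset.univ.filter (fun x : X => (Quotient.mk (MulAction.orbitRel G X) x) ∈ W), (Quotient.mk (MulAction.orbitRel G X) x) ∈ W := fun x hx => (Finset.mem_filter.1 hx).2
  rw [← Finset.sum_fiberwise_of_maps_to hmaps]
  refine Finset.sum_congr rfl fun O hO => ?_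
  rw [Finset.filter_filter, Finset.sum_congr rfl (fun x hx => by rw [(Finset.mem_filter.1 hx).2.2]), Finset.sum_const]
  have hset : (Finset.univ.filter fun x : X => (Quotient.mk (MulAction.orbitRel G X) x) ∈ W ∧ Quotient.mk (MulAction.orbitRel G X) x = O).card = Nat.card (MulAction.orbit G O.out) := by
    rw [Nat.card_eq_fintype_card, Fintype.card_of_subtype]
    intro x
    simp only [Finset.mem_filter, Finset.mem_univ, true_and]
    constructor
    · rintro ⟨-, rfl⟩
      exact (MulAction.orbitRel_apply (G := G)).1 ((MulAction.orbitRel G X).symm (@Quotient.mk_out _ (MulAction.orbitRel G X) x))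
    · intro h
      have : Quotient.mk (MulAction.orbitRel G X) x = O := (@Quotient.sound _ (MulAction.orbitRel G X) _ _ ((MulAction.orbitRel_apply (G := G)).2 h)).trans O.out_eq
      exact ⟨this ▸ hO, this⟩
  rw [hset, nsmul_eq_mul]
  have hcard := MulAction.card_orbit_mul_card_stabilizer_eq_card_group G O.out
  rw [← Nat.card_eq_fintype_card, ← Nat.card_eq_fintype_card, ← Nat.card_eq_fintype_card] at hcard
  have h1 : (Fintype.card G : 𝕜) ≠ 0 := Nat.cast_ne_zero.2 Fintype.card_ne_zero
  rw [← Nat.card_eq_fintype_card, ← hcard, Nat.cast_mul] at h1 ⊢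
  have := (mul_ne_zero_iff.1 h1).1
  have := (mul_ne_zero_iff.1 h1).2
  field_simp

end Groth.Agent.S18954
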