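import Groth.Statements.S18957
import Mathlib.AlgebraicGeometry.Morphisms.SchemeTheoreticallyDominant
import Mathlib.AlgebraicGeometry.Morphisms.Flat
import Groth.Agent.Lib.AlgSpace.ValLift

set_option autoImplicit false
universe u
open CategoryTheory MonoidalCategory CartesianMonoidalCategory MonObj AlgebraicGeometry Opposite
open Magnet

namespace Groth.Agent.S18957
set_option linter.style.haveILetI false
set_option backward.isDefEq.respectTransparency false
set_option backward.isDefEq.respectTransparency.types false


/-- Let k be a field, M a monoid k-scheme with an action a on a k-scheme X, G a group k-scheme and i : G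
→ M a homomorphism of monoids which is a quasi-compact open immersion with scheme-theoretically
dense image. Let j : Z → X be a closed immersion and b an action of G on Z for which j is
equivariant, G acting on X through i and a (a closed G-stable subscheme). Then the G-action on Z
extends to an M-action making j equivariant: there is an action c of M on Z such that j is
equivariant for c and a and the restriction of c along i is b. (The published statement takes G to
be the group of units of M, schematically dense in M; here it is assumed only that i is a
homomorphism of monoids and a quasi-compact, scheme-theoretically dominant open immersion.) -/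
theorem result (k : Type u) [Field k]
    (M G X Z : Over (Spec (CommRingCat.of k))) [MonObj M] [GrpObj G]
    (i : G ⟶ M) [IsMonHom i] [IsOpenImmersion i.left] [QuasiCompact i.left]
    [IsSchemeTheoreticallyDominant i.left]
    (a : Magnet.MonAct M X) (b : AlgGrp.Action G Z) (j : Z ⟶ X) [IsClosedImmersion j.left]
    (hj : Magnet.MonAct.IsEquivariant (Magnet.MonAct.ofAction b) (a.restrict i) j) :
    ∃ c : Magnet.MonAct M Z, Magnet.MonAct.IsEquivariant c a j ∧ c.restrict i = Magnet.MonAct.ofAction b := by
  let S := Spec (CommRingCat.of k)
  haveI : Flat Z.hom := inferInstance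
  haveI : Flat (fst M Z).left := by
    change Flat (Limits.pullback.fst M.hom Z.hom)
    infer_instance
  have hP : IsPullback (i ▷ Z).left (fst G Z).left (fst M Z).left i.left := by
    have h₁ : IsPullback (snd G Z).left (fst G Z).left Z.hom G.hom := (IsPullback.of_hasPullback G.hom Z.hom).flip
    have h₂ : IsPullback (snd M Z).left (fst M Z).left Z.hom M.hom := (IsPullback.of_hasPullback M.hom Z.hom).flip
    refine IsPullback.of_right ?_ (congrArg CommaMorphism.left (whiskerRight_fst i Z)) h₂
    rw [← Over.comp_left, whiskerRight_snd, Over.w i]
    exact h₁
  haveI : IsSchemeTheoreticallyDominant (i ▷ Z).left :=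
    IsSchemeTheoreticallyDominant.of_isPullback hP.flip
  let F : M ⊗ Z ⟶ X := (M ◁ j) ≫ a.act
  have hF : (i ▷ Z) ≫ F = b.act ≫ j := by
    have := hj
    unfold Magnet.MonAct.IsEquivariant at this
    rw [Magnet.MonAct.restrict_act, ← Category.assoc, whisker_exchange, Category.assoc] at this
    exact this.symm
  have hle : j.left.ker ≤ F.left.ker := by
    rw [← AlgSpace.ker_comp_of_schDom (i ▷ Z).left F.left, ← Over.comp_left, hF, Over.comp_left]
    exact Scheme.Hom.le_ker_comp _ _
  let act : M ⊗ Z ⟶ Z := Over.homMk (IsClosedImmersion.lift j.left F.left hle) (by
    rw [← Over.w j, ← Category.assoc, IsClosedImmersion.lift_fac, Over.w F])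
  have hact : act ≫ j = (M ◁ j) ≫ a.act := by
    ext : 1
    exact IsClosedImmersion.lift_fac _ _ _
  haveI : Mono j.left := inferInstance
  haveI : Mono j := (Over.forget _).mono_of_mono_map (show Mono j.left from inferInstance)
  let c : Magnet.MonAct M Z := Magnet.MonAct.mk' act
    (fun T x => by
      rw [← cancel_mono j, Category.assoc, hact, lift_whiskerLeft_assoc, a.lift_one_act])
    (fun T g h x => by
      simp only [← cancel_mono j, Category.assoc, hact, lift_whiskerLeft_assoc]
      rw [a.lift_mul_act])
  refine ⟨c, hact, Magnet.MonAct.ext' ?_⟩
  rw [← cancel_mono j, Magnet.MonAct.restrict_act, Category.assoc]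
  change (i ▷ Z) ≫ act ≫ j = b.act ≫ j
  rw [hact]
  exact hF

end Groth.Agent.S18957
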