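import Groth.Statements.S18960

set_option autoImplicit false
set_option backward.isDefEq.respectTransparency false
set_option backward.isDefEq.respectTransparency.types false
universe w' w v u
open CategoryTheory Limits
open CatLim

namespace Groth.Agent.S18960
open CategoryTheory CategoryTheory.Limits



/-- Let C be a category and T an endofunctor of C; let C(T) be the category whose objects are pairs (X,
u) with u : T X → X an isomorphism and whose morphisms (X, u) → (Y, w) are the morphisms X → Y
compatible with u and w — the full subcategory of T-algebras with invertible structure map — and let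
π : C(T) → C be the forgetful functor. If T preserves colimits of shape J then π creates colimits of
shape J. (The source assumes T preserves all small colimits and concludes for all small shapes; the
argument is shape by shape.) -/
theorem result {C : Type u} [Category.{v} C] (T : C ⥤ C)
    (J : Type w) [Category.{w'} J] [PreservesColimitsOfShape J T] :
    Nonempty (CreatesColimitsOfShape J
      ((ObjectProperty.ι (fun A : Endofunctor.Algebra T => IsIso A.str)) ⋙ Endofunctor.Algebra.forget T)) := by
  let P : ObjectProperty (Endofunctor.Algebra T) := fun A => IsIso A.str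
  let U : P.FullSubcategory ⥤ C := P.ι ⋙ Endofunctor.Algebra.forget T
  suffices hK : ∀ K : J ⥤ P.FullSubcategory, CreatesColimit K U from ⟨⟨fun {K} => hK K⟩⟩
  intro K
  haveI : U.ReflectsIsomorphisms := inferInstanceAs ((P.ι ⋙ Endofunctor.Algebra.forget T).ReflectsIsomorphisms)
  refine createsColimitOfReflectsIso fun c t => ?_
  haveI : ∀ j, IsIso (K.obj j).obj.str := fun j => (K.obj j).property
  let σ : (K ⋙ U) ⋙ T ≅ K ⋙ U := NatIso.ofComponents (fun j => asIso (K.obj j).obj.str)
    (fun {i j} f => (K.map f).hom.h)
  let hT : IsColimit (T.mapCocone c) := isColimitOfPreserves T t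
  let e : T.obj c.pt ≅ c.pt := IsColimit.coconePointsIsoOfNatIso hT t σ
  have he : ∀ j, T.map (c.ι.app j) ≫ e.hom = (K.obj j).obj.str ≫ c.ι.app j :=
    fun j => IsColimit.comp_coconePointsIsoOfNatIso_hom hT t σ j
  let A : P.FullSubcategory := ⟨⟨c.pt, e.hom⟩, (inferInstance : IsIso e.hom)⟩
  let lift : Cocone K :=
    { pt := A
      ι :=
        { app := fun j => ObjectProperty.homMk ⟨c.ι.app j, he j⟩
          naturality := fun i j f => ObjectProperty.hom_ext _ (Endofunctor.Algebra.Hom.ext
            (show (K.map f).hom.f ≫ c.ι.app j = c.ι.app i ≫ 𝟙 c.pt from c.ι.naturality f)) } }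
  refine { liftedCocone := lift
           validLift := Cocone.ext (Iso.refl _) (fun j => Category.comp_id _)
           makesColimit :=
            { desc := fun s => ObjectProperty.homMk ⟨t.desc (U.mapCocone s), hT.hom_ext fun j => ?_⟩
              fac := fun s j => ObjectProperty.hom_ext _ (Endofunctor.Algebra.Hom.ext (t.fac (U.mapCocone s) j))
              uniq := fun s m hm => ObjectProperty.hom_ext _ (Endofunctor.Algebra.Hom.ext
                (t.uniq (U.mapCocone s) m.hom.f fun j => congrArg (fun f => f.hom.f) (hm j))) } }
  show T.map (c.ι.app j) ≫ T.map (t.desc (U.mapCocone s)) ≫ s.pt.obj.str =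
    T.map (c.ι.app j) ≫ e.hom ≫ t.desc (U.mapCocone s)
  rw [← T.map_comp_assoc, reassoc_of% (he j), t.fac]
  exact (s.ι.app j).hom.h


end Groth.Agent.S18960
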