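import Groth.Statements.S18962
import Mathlib

set_option autoImplicit false
universe u
open BBDec

namespace Groth.Agent.S18962


open KaehlerDifferential IsLocalRing

/-- The derivation `b ↦ [b - σ b]`. -/
noncomputable def cotDer {A B : Type u} [CommRing A] [CommRing B] [Algebra A B] (σ : B →ₐ[A] A) :
    Derivation A B (RingHom.ker σ).Cotangent :=
  Derivation.mk'
    { toFun := fun b => Ideal.toCotangent (RingHom.ker σ)
        ⟨b - algebraMap A B (σ b), by simp [RingHom.mem_ker]⟩
      map_add' := fun x y => by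
        rw [← map_add]; congr 1; ext; simp; ring
      map_smul' := fun r x => by
        rw [RingHom.id_apply, ← LinearMap.map_smul_of_tower]
        congr 1; ext; simp [Algebra.smul_def, mul_sub] }
    fun b c => by
      simp only [LinearMap.coe_mk, AddHom.coe_mk]
      rw [← map_smul, ← map_smul, ← map_add, Ideal.toCotangent_eq]
      have h : ∀ z : B, z - algebraMap A B (σ z) ∈ RingHom.ker σ := fun z => by simp [RingHom.mem_ker]
      have := Ideal.mul_mem_mul (h b) (h c)
      rw [sq]
      refine (Ideal.neg_mem_iff _).1 ?_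
      convert this using 1
      simp only [map_mul, Submodule.coe_add, SetLike.val_smul, smul_eq_mul]
      ring

theorem cotDer_apply_ker {A B : Type u} [CommRing A] [CommRing B] [Algebra A B] (σ : B →ₐ[A] A)
    (x : RingHom.ker σ) : cotDer σ x.1 = (RingHom.ker σ).toCotangent x := by
  show Ideal.toCotangent _ _ = _
  congr 1; ext; simp [RingHom.mem_ker.1 x.2]

theorem smul_cotangent {A B : Type u} [CommRing A] [CommRing B] [Algebra A B] (σ : B →ₐ[A] A)
    (b : B) (z : (RingHom.ker σ).Cotangent) : b • z = σ b • z := by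
  obtain ⟨x, rfl⟩ := (RingHom.ker σ).toCotangent_surjective z
  rw [← algebraMap_smul B (σ b), ← map_smul, ← map_smul, Ideal.toCotangent_eq, sq]
  have h : b - algebraMap A B (σ b) ∈ RingHom.ker σ := by simp [RingHom.mem_ker]
  convert Ideal.mul_mem_mul h x.2 using 1
  simp [sub_mul, Algebra.smul_def]

theorem D_sq_mem {A B : Type u} [CommRing A] [CommRing B] [Algebra A B] {I : Ideal B} {M : Type u}
    [AddCommGroup M] [Module B M] [Module A M] (d : Derivation A B M) {x : B} (hx : x ∈ I ^ 2) :
    d x ∈ I • (⊤ : Submodule B M) := by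
  rw [sq] at hx
  refine Submodule.mul_induction_on hx (fun a ha b hb => ?_) fun a b ha hb => ?_
  · rw [Derivation.leibniz]
    exact add_mem (Submodule.smul_mem_smul ha trivial) (Submodule.smul_mem_smul hb trivial)
  · rw [map_add]; exact add_mem ha hb

theorem smul_top_le {B S M : Type u} [CommRing B] [CommRing S] [Algebra B S] [AddCommGroup M]
    [Module B M] [Module S M] [IsScalarTower B S M] (P : Ideal B) [P.IsPrime]
    [IsLocalization.AtPrime S P] [IsLocalRing S] {I : Ideal B} (hI : I ≤ P) {z : M}
    (hz : z ∈ I • (⊤ : Submodule B M)) : z ∈ maximalIdeal S • (⊤ : Submodule S M) := by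
  refine Submodule.smul_induction_on hz (fun r hr m _ => ?_) fun a b ha hb => add_mem ha hb
  rw [← algebraMap_smul S r m]
  exact Submodule.smul_mem_smul
    ((IsLocalization.AtPrime.to_map_mem_maximal_iff S P r).2 (hI hr)) trivial

/-- Let A be a commutative ring (the base V = Spec A) and B₁, B₂ commutative A-algebras (V-schemes X₁,
X₂) with A-algebra maps σ₁ : B₁ → A and σ₂ : B₂ → A (sections s₁, s₂ of the structure maps, closed
immersions with ideals b₁ = ker σ₁, b₂ = ker σ₂), and let B₂ → B₁ be an A-algebra map (a V-morphism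
f : X₁ → X₂) with σ₁ ∘ (B₂ → B₁) = σ₂ (f s₁ = s₂). Assume B₁ is finitely presented over A and smooth
over A at every prime containing b₁ (r₁ smooth along s₁(V)), B₂ is of finite type over A, and the
induced map b₂/b₂² → b₁/b₁² of conormal modules is bijective. Then B₂ → B₁ is étale at every prime
of B₁ containing b₁ (f étale along s₁(V)). (The published statement puts no finiteness condition on
B₂ over A, and in that generality the conclusion fails: over a field k, the square-zero extension of
k[x] by k[x, 1/x] mapping onto k[y] by x ↦ y, with the zero sections, satisfies every other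
hypothesis and is not étale at the origin. Here B₂ is assumed of finite type over A.) -/
theorem result (A B₁ B₂ : Type u)
    [CommRing A] [CommRing B₁] [CommRing B₂] [Algebra A B₁] [Algebra A B₂] [Algebra B₂ B₁]
    [IsScalarTower A B₂ B₁] [Algebra.FinitePresentation A B₁] [Algebra.FiniteType A B₂]
    (σ₁ : B₁ →ₐ[A] A) (σ₂ : B₂ →ₐ[A] A) (hσ : σ₁.comp (IsScalarTower.toAlgHom A B₂ B₁) = σ₂)
    (hle : RingHom.ker σ₂ ≤ (RingHom.ker σ₁).comap (IsScalarTower.toAlgHom A B₂ B₁))
    (hcot : Function.Bijective
      (Ideal.mapCotangent (RingHom.ker σ₂) (RingHom.ker σ₁) (IsScalarTower.toAlgHom A B₂ B₁) hle))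
    (hsm : ∀ (P : Ideal B₁) [P.IsPrime], RingHom.ker σ₁ ≤ P → Algebra.IsSmoothAt A P)
    (P : Ideal B₁) [P.IsPrime] (hP : RingHom.ker σ₁ ≤ P) : Algebra.IsEtaleAt B₂ P := by
  classical
  let φ := IsScalarTower.toAlgHom A B₂ B₁
  have hσφ : ∀ b : B₂, σ₁ (algebraMap B₂ B₁ b) = σ₂ b := fun b => AlgHom.congr_fun hσ b
  haveI := hsm P hP
  let S := Localization.AtPrime P
  -- spanning by differentials of `ker σ₂`
  let v : RingHom.ker σ₂ → Ω[S⁄A] := fun x => D A S (algebraMap B₁ S (algebraMap B₂ B₁ x.1))
  let L : Submodule S (Ω[S⁄A]) := Submodule.span S (Set.range v)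
  have hspan : L = ⊤ := by
    refine eq_top_iff.2 (Submodule.le_of_le_smul_of_le_jacobson_bot (I := maximalIdeal S)
      Module.Finite.fg_top (IsLocalRing.jacobson_eq_maximalIdeal ⊥ bot_ne_top).ge ?_)
    conv_lhs => rw [← span_range_map_derivation_of_isLocalization A B₁ S P.primeCompl]
    rw [Submodule.span_le]
    rintro _ ⟨b, rfl⟩
    rw [Function.comp_apply, map_D]
    let b' : RingHom.ker σ₁ := ⟨b - algebraMap A B₁ (σ₁ b), by simp [RingHom.mem_ker]⟩
    obtain ⟨y, hy⟩ := hcot.2 ((RingHom.ker σ₁).toCotangent b')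
    obtain ⟨x, rfl⟩ := (RingHom.ker σ₂).toCotangent_surjective y
    rw [Ideal.mapCotangent_toCotangent, Ideal.toCotangent_eq] at hy
    let d : Derivation A B₁ Ω[S⁄A] := (D A S).compAlgebraMap B₁
    have h2 := D_sq_mem d hy
    have h3 := smul_top_le (S := S) P hP h2
    have e : D A S (algebraMap B₁ S b) = v x - d (algebraMap B₂ B₁ x.1 - b') := by
      show _ = v x - D A S (algebraMap B₁ S (algebraMap B₂ B₁ x.1 - (b - algebraMap A B₁ (σ₁ b))))
      simp only [v, b', map_sub, ← IsScalarTower.algebraMap_apply A B₁ S, Derivation.map_algebraMap]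
      abel
    rw [SetLike.mem_coe, e]
    exact sub_mem (Submodule.mem_sup_left (Submodule.subset_span ⟨x, rfl⟩))
      (Submodule.mem_sup_right h3)
  haveI : Module.FinitePresentation S Ω[S⁄A] := Module.finitePresentation_of_projective S _
  obtain ⟨κ, a, bas, hbas⟩ := Module.exists_basis_of_span_of_flat v hspan
  haveI : Finite κ := Module.Finite.finite_basis bas
  haveI := Fintype.ofFinite κ
  -- the chart
  let R := MvPolynomial κ A
  letI : Algebra R B₂ := (MvPolynomial.aeval (R := A) fun k => ((a k).1 : B₂)).toRingHom.toAlgebra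
  haveI : IsScalarTower A R B₂ := IsScalarTower.of_algebraMap_eq fun r =>
    ((MvPolynomial.aeval (R := A) fun k => ((a k).1 : B₂)).commutes r).symm
  letI : Algebra R B₁ := ((algebraMap B₂ B₁).comp (algebraMap R B₂)).toAlgebra
  haveI : IsScalarTower R B₂ B₁ := IsScalarTower.of_algebraMap_eq' rfl
  haveI : IsScalarTower A R B₁ := IsScalarTower.of_algebraMap_eq fun r => by
    rw [IsScalarTower.algebraMap_apply A B₂ B₁, IsScalarTower.algebraMap_apply A R B₂]
    rfl
  have hX : ∀ k, algebraMap R B₂ (MvPolynomial.X k) = (a k).1 := fun k =>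
    MvPolynomial.aeval_X (R := A) _ k
  have hS : Algebra.FormallyEtale R S := by
    let bR := (mvPolynomialBasis A κ).baseChange S
    have hbij : Function.Bijective (mapBaseChange A R S) := by
      have : mapBaseChange A R S = (bR.equiv bas (Equiv.refl _)).toLinearMap := bR.ext fun k => by
        rw [LinearEquiv.coe_coe, Module.Basis.equiv_apply, Equiv.refl_apply, hbas]
        simp only [bR, Module.Basis.baseChange_apply, mvPolynomialBasis_apply]
        erw [mapBaseChange_tmul]
        rw [one_smul, map_D, IsScalarTower.algebraMap_apply R B₁ S,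
          IsScalarTower.algebraMap_apply R B₂ B₁, hX]
      rw [this]; exact (bR.equiv bas (Equiv.refl _)).bijective
    refine ⟨?_, ?_⟩
    · refine subsingleton_of_forall_eq 0 fun z => ?_
      obtain ⟨y, rfl⟩ := map_surjective A R S z
      exact (exact_mapBaseChange_map A R S y).2 (hbij.2 y)
    · refine subsingleton_of_forall_eq 0 fun z => ?_
      have h0 : Algebra.H1Cotangent.δ A R S z = 0 := hbij.1
        (((Algebra.H1Cotangent.exact_δ_mapBaseChange A R S).apply_apply_eq_zero z).trans
          (map_zero _).symm)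
      obtain ⟨y, rfl⟩ := (Algebra.H1Cotangent.exact_map_δ A R S z).1 h0
      rw [Subsingleton.elim y 0, map_zero]
  let Q : Ideal B₂ := P.comap (algebraMap B₂ B₁)
  let T := Localization.AtPrime Q
  have hQ : RingHom.ker σ₂ ≤ Q := fun b hb => hP (hle hb)
  haveI : Algebra.FiniteType R B₂ := Algebra.FiniteType.of_restrictScalars_finiteType A R B₂
  haveI : Algebra.EssFiniteType R T := Algebra.EssFiniteType.comp R B₂ T
  have hT : Algebra.FormallyUnramified R T := by
    refine ⟨Submodule.subsingleton_iff T |>.1 (subsingleton_of_bot_eq_top ?_)⟩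
    refine (Submodule.eq_bot_of_le_smul_of_le_jacobson_bot (maximalIdeal T) ⊤ Module.Finite.fg_top ?_
      (IsLocalRing.jacobson_eq_maximalIdeal ⊥ bot_ne_top).ge).symm
    conv_lhs => rw [← span_range_map_derivation_of_isLocalization R B₂ T Q.primeCompl]
    rw [Submodule.span_le]
    rintro _ ⟨b, rfl⟩
    rw [Function.comp_apply, map_D]
    -- reduce to elements of `ker σ₂`
    let b' : RingHom.ker σ₂ := ⟨b - algebraMap A B₂ (σ₂ b), by simp [RingHom.mem_ker]⟩
    have hb : D R T (algebraMap B₂ T b) = D R T (algebraMap B₂ T b'.1) := by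
      simp only [b', map_sub, ← IsScalarTower.algebraMap_apply A B₂ T,
        IsScalarTower.algebraMap_apply A R T, Derivation.map_algebraMap, sub_zero]
    rw [SetLike.mem_coe, hb]
    -- coordinates of `b'` in the localised differentials of `B₁`
    let m : RingHom.ker σ₂ → Ω[B₁⁄A] := fun x => D A B₁ (algebraMap B₂ B₁ x.1)
    have hm : ∀ x, map A A B₁ S (m x) = v x := fun x => map_D A A B₁ S _
    obtain ⟨⟨s, hs⟩, hint⟩ := IsLocalization.exist_integer_multiples_of_finite P.primeCompl
      (fun k => bas.repr (v b') k)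
    choose c hc using hint
    have h0 : map A A B₁ S (s • m b' - ∑ k, c k • m (a k)) = map A A B₁ S 0 := by
      rw [map_sub, map_sum, LinearMap.map_smul_of_tower, map_zero, sub_eq_zero, hm]
      conv_lhs => rw [← bas.sum_repr (v b'), Finset.smul_sum]
      refine Finset.sum_congr rfl fun k _ => ?_
      rw [LinearMap.map_smul_of_tower, hm, hbas, ← smul_assoc, ← algebraMap_smul S (c k), hc]
    obtain ⟨⟨t, ht⟩, htt⟩ := IsLocalizedModule.exists_of_eq (S := P.primeCompl) h0
    rw [Submonoid.smul_def, Submonoid.smul_def, smul_zero] at htt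
    have hcd := congrArg (cotDer σ₁).liftKaehlerDifferential htt
    simp only [map_smul, map_sub, map_sum, map_zero, m, Derivation.liftKaehlerDifferential_comp_D] at hcd
    have hk : ∀ x : RingHom.ker σ₂, cotDer σ₁ (algebraMap B₂ B₁ x.1) =
        Ideal.mapCotangent (RingHom.ker σ₂) (RingHom.ker σ₁) φ hle ((RingHom.ker σ₂).toCotangent x) :=
      fun x => cotDer_apply_ker σ₁ ⟨_, hle x.2⟩
    simp only [hk, smul_cotangent σ₁, ← map_smul, ← map_sum, ← map_sub] at hcd
    have hz0 := hcot.1 (hcd.trans (map_zero _).symm)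
    simp only [← LinearMap.map_smul_of_tower, ← map_sum, ← map_sub] at hz0
    have hz := (Ideal.toCotangent_eq_zero (RingHom.ker σ₂) _).1 hz0
    push_cast at hz
    let d : Derivation A B₂ Ω[T⁄R] := ((D R T).restrictScalars A).compAlgebraMap B₂
    have hd : ∀ y, d y = D R T (algebraMap B₂ T y) := fun _ => rfl
    have hda : ∀ k, d (a k).1 = 0 := fun k => by
      rw [hd, ← hX, ← IsScalarTower.algebraMap_apply R B₂ T, Derivation.map_algebraMap]
    have hmem := smul_top_le (S := T) Q hQ (D_sq_mem d hz)
    rw [Derivation.map_smul, Derivation.map_sub, Derivation.map_smul, map_sum,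
      Finset.sum_eq_zero (fun k _ => by rw [Derivation.map_smul, hda, smul_zero]), sub_zero,
      smul_smul] at hmem
    have hu : ∀ r : B₁, r ∉ P → IsUnit (algebraMap A T (σ₁ r)) := fun r hr => by
      rw [IsScalarTower.algebraMap_apply A B₂ T, IsLocalization.AtPrime.isUnit_to_map_iff T Q]
      intro hmemQ
      apply hr
      have h1 : algebraMap B₂ B₁ (algebraMap A B₂ (σ₁ r)) ∈ P := hmemQ
      rw [← IsScalarTower.algebraMap_apply] at h1
      have h2 : r - algebraMap A B₁ (σ₁ r) ∈ P := hP (by simp [RingHom.mem_ker])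
      simpa using add_mem h2 h1
    rw [hd, ← algebraMap_smul T (σ₁ t * σ₁ s), map_mul] at hmem
    exact (Submodule.smul_mem_iff_of_isUnit _ ((hu t ht).mul (hu s hs))).1 hmem
  letI : Algebra T S := (Localization.localRingHom Q P (algebraMap B₂ B₁) rfl).toAlgebra
  haveI : IsScalarTower B₂ T S := IsScalarTower.of_algebraMap_eq fun b => by
    rw [RingHom.algebraMap_toAlgebra, Localization.localRingHom_to_map,
      ← IsScalarTower.algebraMap_apply]
  haveI : IsScalarTower R T S := IsScalarTower.of_algebraMap_eq fun r => by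
    rw [IsScalarTower.algebraMap_apply R B₂ T, ← IsScalarTower.algebraMap_apply B₂ T S,
      ← IsScalarTower.algebraMap_apply]
  haveI : Algebra.FormallyEtale T S := Algebra.FormallyEtale.of_restrictScalars (R := R)
  haveI : Algebra.FormallyEtale B₂ T := Algebra.FormallyEtale.of_isLocalization Q.primeCompl
  exact Algebra.FormallyEtale.comp B₂ T S

end Groth.Agent.S18962
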