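import Groth.Statements.S18967
import Groth.Agent.Lib.ShStab28.Positive

set_option autoImplicit false
open CategoryTheory CategoryTheory.Limits AlgebraicGeometry Polynomial
universe u
open ShStab

namespace Groth.Agent.S18967

/-- Let k be an algebraically closed field of characteristic zero, X a smooth projective integral
variety of dimension n ≥ 1 over k polarised by an ample invertible sheaf L, and 0 → F → H → G → 0 a
short exact sequence of O_X-modules with F and G torsion-free coherent (pure of dimension n) and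
slope-semistable with respect to L of the same slope μ. Then H is slope-semistable of slope μ; in
particular this applies to H = F ⊕ G. Slopes are compared through the quantity α_(n−1)/α_n of the
Hilbert polynomials with respect to L, an increasing affine function of the slope det ·
L^(n−1)/rank. -/
theorem result (k : Type u) [Field k] [IsAlgClosed k] [CharZero k]
    (X : Scheme.{u}) [X.Over (Spec (CommRingCat.of k))] [IsIntegral X]
    [IsProper (X ↘ Spec (CommRingCat.of k))] [Smooth (X ↘ Spec (CommRingCat.of k))]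
    (n : ℕ) (hn : 1 ≤ n) (hX : topologicalKrullDim X = (n : WithBot ℕ∞))
    (L : X.Modules) (hLi : PicF.IsInvertible L) (hL : CohB1.IsAmple L)
    (T : ShortComplex X.Modules) (hT : T.ShortExact)
    (hFt : ShStab.IsPure X T.X₁ n) (hGt : ShStab.IsPure X T.X₃ n)
    (hF : ShStab.IsMuSemistable k X L T.X₁ n) (hG : ShStab.IsMuSemistable k X L T.X₃ n)
    (pF pG : ℚ[X]) (hpF : ShStab.IsHilbPoly k X L T.X₁ pF) (hpG : ShStab.IsHilbPoly k X L T.X₃ pG)
    (hμ : StabCat.hatSlope n pF = StabCat.hatSlope n pG) :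
    ShStab.IsMuSemistable k X L T.X₂ n ∧
      ∀ pH : ℚ[X], ShStab.IsHilbPoly k X L T.X₂ pH → StabCat.hatSlope n pH = StabCat.hatSlope n pF := by
  have hi := hLi
  have hpos := Agent.ShStab28.positive k hL
  let S := Agent.ShStab28.sys k X L hi hpos
  obtain ⟨hF0, hF'⟩ := (Agent.ShStab28.ss_one_iff hi hpos hn hFt).mp hF
  obtain ⟨hG0, hG'⟩ := (Agent.ShStab28.ss_one_iff hi hpos hn hGt).mp hG
  rw [(Agent.ShStab28.hp_iff hi hF.1).mp hpF, (Agent.ShStab28.hp_iff hi hG.1).mp hpG] at hμ
  have hH : Coh.IsCoh T.X₂ := S.ok_ext hT hF.1 hG.1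
  have hsum : Agent.ShStab28.hilb k X L T.X₂ = Agent.ShStab28.hilb k X L T.X₁ + Agent.ShStab28.hilb k X L T.X₃ :=
    S.hp_add hT hF.1 hH hG.1
  haveI := hT.mono_f
  haveI := hT.epi_g
  have a1 := hF'.1.alpha_pos hF0
  have a3 := hG'.1.alpha_pos hG0
  have heqv : Agent.ShStab28.Eqv n 1 (Agent.ShStab28.hilb k X L T.X₁) (Agent.ShStab28.hilb k X L T.X₃) :=
    Agent.ShStab28.eqv_iff.mpr ⟨(Agent.ShStab28.hatSlope_le_iff hn a1 a3).mp hμ.le, (Agent.ShStab28.hatSlope_le_iff hn a3 a1).mp hμ.ge⟩
  have hdeg : (Agent.ShStab28.hilb k X L T.X₂).natDegree ≤ n := by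
    rw [hsum]
    exact (Polynomial.natDegree_add_le _ _).trans (max_le hF'.1.2.1 hG'.1.2.1)
  have key : ∀ (A : X.Modules) (ι : A ⟶ T.X₂), Mono ι → Coh.IsCoh A → ¬ IsZero A →
      0 < StabCat.alpha n (Agent.ShStab28.hilb k X L A) ∧
        Agent.ShStab28.Le n 1 (Agent.ShStab28.hilb k X L A) (Agent.ShStab28.hilb k X L T.X₂) := by
    intro A ι hm hA hA0
    haveI := hm
    let g := ι ≫ T.g
    have hK : Coh.IsCoh (kernel g) := S.ok_ker g hA hG.1
    have hI : Coh.IsCoh (Abelian.image g) := Agent.ShStab28.Sys.ok_image S g hA hG.1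
    let l : kernel g ⟶ T.X₁ := hT.exact.lift (kernel.ι g ≫ ι) (by rw [Category.assoc]; exact kernel.condition g)
    haveI : Mono l := mono_of_mono_fac (hT.exact.lift_f _ _ : l ≫ T.f = kernel.ι g ≫ ι)
    have e : Agent.ShStab28.hilb k X L A = Agent.ShStab28.hilb k X L (kernel g) + Agent.ShStab28.hilb k X L (Abelian.image g) := by
      refine Agent.ShStab28.Sys.hp_of_ker S (kernel.ι g) (Abelian.factorThruImage g) ?_ (fun t ht => ?_) hA hI
      · rw [← cancel_mono (Abelian.image.ι g), Category.assoc, Abelian.image.fac, kernel.condition, Limits.zero_comp]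
      · exact ⟨kernel.lift g t (by rw [← Abelian.image.fac g, ← Category.assoc, ht, Limits.zero_comp]), kernel.lift_ι _ _ _⟩
    have hKn : 0 ≤ StabCat.alpha n (Agent.ShStab28.hilb k X L (kernel g)) :=
      Agent.ShStab28.alpha_nonneg (hF'.1.sub l hK).2.1 (Agent.ShStab28.Sys.lc_nonneg S hK)
    have hIn : 0 ≤ StabCat.alpha n (Agent.ShStab28.hilb k X L (Abelian.image g)) :=
      Agent.ShStab28.alpha_nonneg (hG'.1.sub (Abelian.image.ι g) hI).2.1 (Agent.ShStab28.Sys.lc_nonneg S hI)
    have hKle : Agent.ShStab28.Le n 1 (Agent.ShStab28.hilb k X L (kernel g)) (Agent.ShStab28.hilb k X L T.X₁) := by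
      by_cases hz : IsZero (kernel g)
      · rw [show Agent.ShStab28.hilb k X L (kernel g) = 0 from Agent.ShStab28.Sys.hp_zero S hz]
        exact Agent.ShStab28.le_zero_fst _ _ _
      · exact hF'.2 _ l inferInstance hK hz
    have hIle : Agent.ShStab28.Le n 1 (Agent.ShStab28.hilb k X L (Abelian.image g)) (Agent.ShStab28.hilb k X L T.X₃) := by
      by_cases hz : IsZero (Abelian.image g)
      · rw [show Agent.ShStab28.hilb k X L (Abelian.image g) = 0 from Agent.ShStab28.Sys.hp_zero S hz]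
        exact Agent.ShStab28.le_zero_fst _ _ _
      · exact hG'.2 _ (Abelian.image.ι g) inferInstance hI hz
    refine ⟨?_, by rw [e, hsum]; exact Agent.ShStab28.le_add_of_eqv a1 a3 hKn hIn hKle hIle heqv⟩
    rw [e, Agent.ShStab28.alpha_add]
    by_cases hz : IsZero (Abelian.image g)
    · have hKpos : 0 < StabCat.alpha n (Agent.ShStab28.hilb k X L (kernel g)) := by
        refine hF'.1.2.2 _ l inferInstance hK fun hk => hA0 <| Agent.ShStab28.Sys.isZero_of_hp S hA ?_
        show Agent.ShStab28.hilb k X L A = 0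
        rw [e, show Agent.ShStab28.hilb k X L (kernel g) = 0 from Agent.ShStab28.Sys.hp_zero S hk,
          show Agent.ShStab28.hilb k X L (Abelian.image g) = 0 from Agent.ShStab28.Sys.hp_zero S hz, add_zero]
      linarith
    · linarith [show 0 < StabCat.alpha n (Agent.ShStab28.hilb k X L (Abelian.image g)) from
        hG'.1.2.2 _ (Abelian.image.ι g) inferInstance hI hz]
  have hP2 : Agent.ShStab28.Sys.Pure S T.X₂ n := ⟨hH, hdeg, fun A ι hm hA hA0 => (key A ι hm hA hA0).1⟩
  have h20 : ¬ IsZero T.X₂ := fun hz => hF0 (IsZero.of_mono T.f hz)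
  refine ⟨(Agent.ShStab28.ss_one_iff hi hpos hn (Agent.ShStab28.isPure_of_pure hi hpos hP2)).mpr
    ⟨h20, hP2, fun A ι hm hA hA0 => (key A ι hm hA hA0).2⟩, fun pH hpH => ?_⟩
  rw [(Agent.ShStab28.hp_iff hi hH).mp hpH, (Agent.ShStab28.hp_iff hi hF.1).mp hpF, hsum]
  exact Agent.ShStab28.hatSlope_add a1 a3 hμ

end Groth.Agent.S18967
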