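import Groth.Statements.S18974
import Mathlib

set_option autoImplicit false
universe u
open CAlg

namespace Groth.Agent.S18974
open CAlg

open Polynomial

variable {A : Type u} [CommRing A] [Algebra ℚ A]

/-- `D ^ n` -/
noncomputable abbrev It (D : Derivation ℚ A A) (n : ℕ) (x : A) : A := ((D : A →ₗ[ℚ] A) ^ n) x

theorem it_succ (D : Derivation ℚ A A) (n : ℕ) (x : A) : It D (n + 1) x = It D n (D x) := by
  show ((D : A →ₗ[ℚ] A) ^ (n + 1)) x = _
  rw [pow_succ, Module.End.mul_apply]; rfl

theorem it_succ' (D : Derivation ℚ A A) (n : ℕ) (x : A) : It D (n + 1) x = D (It D n x) := by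
  show ((D : A →ₗ[ℚ] A) ^ (n + 1)) x = _
  rw [pow_succ', Module.End.mul_apply]; rfl

theorem it_zero_of_le (D : Derivation ℚ A A) {N n : ℕ} {x : A} (h : It D N x = 0) (hn : N ≤ n) : It D n x = 0 := by
  obtain ⟨m, rfl⟩ := Nat.exists_eq_add_of_le hn
  induction m with
  | zero => exact h
  | succ m ih => rw [← Nat.add_assoc, it_succ', ih (Nat.le_add_right _ _), map_zero]

/-- Let A be a commutative algebra over the rationals, D a locally nilpotent derivation of A and a an
element with D a = 1; write A' for the quotient of A by the ideal generated by a. Then there is a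
ring isomorphism from A onto the polynomial ring A'[Y] which sends every x to the (finite) sum over
n of (1/n!) (class of D^n x) Y^n; its inverse sends Y to a and the constant polynomial on the class
of x to the sum over n of ((-1)^n/n!) (D^n x) a^n, and under it D corresponds to the derivative
d/dY. (The source says only that A is a ring, in a setting over a field of characteristic zero; the
rational coefficients 1/n! require an algebra over the rationals, which is the hypothesis taken
here. Both sums are written over any range beyond which the iterates of D vanish at x.) -/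
theorem result
    (A : Type u) [CommRing A] [Algebra ℚ A] (D : Derivation ℚ A A)
    (hnil : ∀ x : A, ∃ n : ℕ, ((D : A →ₗ[ℚ] A) ^ n) x = 0) (a : A) (ha : D a = 1) :
    ∃ χ : A ≃+* Polynomial (A ⧸ Ideal.span ({a} : Set A)),
      (∀ (x : A) (N : ℕ), ((D : A →ₗ[ℚ] A) ^ N) x = 0 →
        χ x = ∑ n ∈ Finset.range N,
          ((n.factorial : ℚ)⁻¹ • Polynomial.C (Ideal.Quotient.mk (Ideal.span ({a} : Set A)) (((D : A →ₗ[ℚ] A) ^ n) x))) *
            Polynomial.X ^ n) ∧
      χ.symm Polynomial.X = a ∧
      (∀ (x : A) (N : ℕ), ((D : A →ₗ[ℚ] A) ^ N) x = 0 →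
        χ.symm (Polynomial.C (Ideal.Quotient.mk (Ideal.span ({a} : Set A)) x)) =
          ∑ n ∈ Finset.range N, (((-1 : ℚ) ^ n * (n.factorial : ℚ)⁻¹) • ((((D : A →ₗ[ℚ] A) ^ n) x) * a ^ n))) ∧
      ∀ p : Polynomial (A ⧸ Ideal.span ({a} : Set A)), χ (D (χ.symm p)) = Polynomial.derivative p := by
  classical
  set B := A ⧸ Ideal.span ({a} : Set A)
  let q : A →+* B := Ideal.Quotient.mk _
  let S : A → ℕ → B[X] := fun x N => ∑ n ∈ Finset.range N, ((n.factorial : ℚ)⁻¹ • C (q (It D n x))) * X ^ n
  have hS : ∀ x N n, It D N x = 0 → (S x N).coeff n = (n.factorial : ℚ)⁻¹ • q (It D n x) := by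
    intro x N n h
    simp only [S, finsetSum_coeff, smul_C, coeff_C_mul_X_pow, Finset.sum_ite_eq, Finset.mem_range]
    split_ifs with hn
    · rfl
    · rw [it_zero_of_le D h (le_of_not_gt hn), map_zero, smul_zero]
  choose N hN using hnil
  let E : A → B[X] := fun x => S x (N x)
  have hE : ∀ x n, (E x).coeff n = (n.factorial : ℚ)⁻¹ • q (It D n x) := fun x n => hS x (N x) n (hN x)
  have hES : ∀ x M, It D M x = 0 → E x = S x M := fun x M h => Polynomial.ext fun n => by rw [hE, hS x M n h]
  have hEd : ∀ x, derivative (E x) = E (D x) := fun x => Polynomial.ext fun n => by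
    rw [coeff_derivative, hE, hE, it_succ, Nat.factorial_succ, Nat.cast_mul, mul_inv, Algebra.smul_def, Algebra.smul_def,
      map_mul]
    have : algebraMap ℚ B ((n + 1 : ℕ) : ℚ)⁻¹ * ((n : B) + 1) = 1 := by
      rw [show ((n : B) + 1) = algebraMap ℚ B ((n + 1 : ℕ) : ℚ) by simp, ← map_mul, inv_mul_cancel₀ (by positivity), map_one]
    linear_combination (algebraMap ℚ B ((n.factorial : ℚ))⁻¹ * q (It D n (D x))) * this
  have hadd : ∀ x y, E (x + y) = E x + E y := fun x y => Polynomial.ext fun n => by
    simp only [hE, coeff_add, It, map_add, smul_add]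
  have hmul : ∀ x y, E (x * y) = E x * E y := by
    suffices h : ∀ n x y, (E (x * y)).coeff n = (E x * E y).coeff n from fun x y => Polynomial.ext fun n => h n x y
    intro n
    induction n with
    | zero => intro x y; simp [mul_coeff_zero, hE, It]
    | succ n ih =>
      intro x y
      have h1 : (derivative (E (x * y))).coeff n = (derivative (E x * E y)).coeff n := by
        rw [hEd, derivative_mul, hEd, hEd, D.leibniz, smul_eq_mul, smul_eq_mul, hadd, coeff_add, coeff_add,
          ih, ih, add_comm, mul_comm (E y) (E (D x))]
      rw [coeff_derivative, coeff_derivative] at h1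
      have hu : IsUnit ((n : B) + 1) := by
        rw [show ((n : B) + 1) = algebraMap ℚ B ((n + 1 : ℕ) : ℚ) by simp]
        exact (IsUnit.mk0 _ (by positivity)).map _
      exact hu.mul_left_injective h1
  have hone : E 1 = 1 := by
    refine Polynomial.ext fun n => ?_
    rw [hE, coeff_one]
    rcases n with _ | n
    · simp [It]
    · rw [it_succ, D.map_one_eq_zero]
      simp [It]
  let Eh : A →+* B[X] :=
    { toFun := E
      map_one' := hone
      map_mul' := hmul
      map_zero' := by simpa using hadd 0 0
      map_add' := hadd }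
  let s : A → ℕ → A := fun x M => ∑ n ∈ Finset.range M, ((-1 : ℚ) ^ n * (n.factorial : ℚ)⁻¹) • (It D n x * a ^ n)
  have hs : ∀ x M, It D M x = 0 → E (s x M) = C (q x) := by
    intro x M hM
    rcases M with _ | M
    · have hx : x = 0 := hM
      refine Polynomial.ext fun n => ?_
      simp [s, hx, hE, It]
    have hD : D (s x (M + 1)) = 0 := by
      have hterm : ∀ n, D (((-1 : ℚ) ^ n * (n.factorial : ℚ)⁻¹) • (It D n x * a ^ n)) =
          ((-1 : ℚ) ^ n * (n.factorial : ℚ)⁻¹) • (It D (n + 1) x * a ^ n) -
            (if n = 0 then 0 else ((-1 : ℚ) ^ (n - 1) * ((n - 1).factorial : ℚ)⁻¹) • (It D n x * a ^ (n - 1))) := by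
        intro n
        rcases n with _ | n
        · simp [It]
        · rw [D.map_smul, D.leibniz, D.leibniz_pow, ha, ← it_succ', if_neg (Nat.succ_ne_zero n), Nat.add_sub_cancel,
            pow_succ, Nat.factorial_succ, Nat.cast_mul, mul_inv]
          simp only [smul_eq_mul, nsmul_eq_mul, mul_one, Algebra.smul_def, map_mul, map_neg, map_one, map_pow]
          have : algebraMap ℚ A ((n + 1 : ℕ) : ℚ)⁻¹ * ((n + 1 : ℕ) : A) = 1 := by
            rw [← map_natCast (algebraMap ℚ A), ← map_mul, inv_mul_cancel₀ (by positivity), map_one]
          push_cast at this ⊢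
          linear_combination (-((-1 : A) ^ n * algebraMap ℚ A (n.factorial : ℚ)⁻¹ * It D (n + 1) x * a ^ n)) * this
      rw [map_sum, Finset.sum_congr rfl (fun n _ => hterm n), Finset.sum_sub_distrib,
        Finset.sum_range_succ (fun n => ((-1 : ℚ) ^ n * (n.factorial : ℚ)⁻¹) • (It D (n + 1) x * a ^ n)),
        Finset.sum_range_succ' (fun n => if n = 0 then (0 : A) else ((-1 : ℚ) ^ (n - 1) * ((n - 1).factorial : ℚ)⁻¹) • (It D n x * a ^ (n - 1))), hM]
      simp
    refine Polynomial.ext fun n => ?_
    rw [hE, coeff_C]
    rcases n with _ | n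
    · rw [if_pos rfl, Nat.factorial_zero, Nat.cast_one, inv_one, one_smul]
      show q (s x (M + 1)) = q x
      simp only [s, Finset.sum_range_succ', map_add, map_sum]
      rw [Finset.sum_eq_zero]
      · simp [It]
      · intro n _
        rw [Ideal.Quotient.eq_zero_iff_mem, Algebra.smul_def, pow_succ a]
        exact Ideal.mul_mem_left _ _ (Ideal.mul_mem_left _ _ (Ideal.mul_mem_left _ _ (Ideal.mem_span_singleton_self a)))
    · rw [if_neg (Nat.succ_ne_zero n), it_succ, hD]
      simp [It]
  have hX : E a = X := by
    refine Polynomial.ext fun n => ?_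
    rw [hE, coeff_X]
    rcases n with _ | _ | n
    · rw [if_neg (by omega), Nat.factorial_zero, Nat.cast_one, inv_one, one_smul]
      exact Ideal.Quotient.eq_zero_iff_mem.2 (Ideal.mem_span_singleton_self a)
    · simp [It, ha]
    · rw [it_succ, ha, it_succ, D.map_one_eq_zero]
      simp [It]
  have hinj : Function.Injective Eh := by
    rw [injective_iff_map_eq_zero]
    have key : ∀ M x, It D M x = 0 → E x = 0 → x = 0 := by
      intro M
      induction M with
      | zero => exact fun x h _ => h
      | succ M ih =>
        intro x h he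
        have hDx : D x = 0 := ih (D x) (by rw [← it_succ]; exact h) (by rw [← hEd, he, derivative_zero])
        have h0 := congrArg (fun p => p.coeff 0) he
        simp only [hE, coeff_zero, Nat.factorial_zero, Nat.cast_one, inv_one, one_smul] at h0
        obtain ⟨w, hw⟩ := Ideal.mem_span_singleton'.1 (Ideal.Quotient.eq_zero_iff_mem.1 h0)
        have hw' : w * a = x := hw
        have hj : ∀ j : ℕ, It D (j + 1) w * a + ((j + 1 : ℕ) : A) * It D j w = 0 := by
          intro j
          induction j with
          | zero =>
            have := hDx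
            rw [← hw', D.leibniz, ha] at this
            simp only [smul_eq_mul, mul_one] at this
            simp [It]
            linear_combination this
          | succ j ihj =>
            have := congrArg D ihj
            rw [map_add, D.leibniz, D.leibniz, map_zero, ha, D.map_natCast, ← it_succ', ← it_succ'] at this
            simp only [smul_eq_mul, mul_one, mul_zero, add_zero] at this
            push_cast at this ⊢
            linear_combination this
        have hdown : ∀ j, It D j w = 0 → w = 0 := by
          intro j
          induction j with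
          | zero => exact id
          | succ j ihj =>
            intro hjw
            refine ihj ?_
            have := hj j
            rw [hjw, zero_mul, zero_add] at this
            have hu : IsUnit ((j + 1 : ℕ) : A) := by
              rw [← map_natCast (algebraMap ℚ A)]
              exact (IsUnit.mk0 _ (by positivity)).map _
            exact hu.mul_right_eq_zero.1 this
        rw [← hw', hdown (N w) (hN w), zero_mul]
    exact fun x hx => key (N x) x (hN x) hx
  have hsurj : Function.Surjective Eh := by
    intro p
    induction p using Polynomial.induction_on' with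
    | add p r hp hr =>
      obtain ⟨x, rfl⟩ := hp
      obtain ⟨y, rfl⟩ := hr
      exact ⟨x + y, map_add _ _ _⟩
    | monomial n b =>
      obtain ⟨x, rfl⟩ := Ideal.Quotient.mk_surjective b
      refine ⟨s x (N x) * a ^ n, ?_⟩
      rw [map_mul, map_pow]
      show E (s x (N x)) * E a ^ n = _
      rw [hs x _ (hN x), hX, C_mul_X_pow_eq_monomial]
  let χ := RingEquiv.ofBijective Eh ⟨hinj, hsurj⟩
  refine ⟨χ, fun x M h => hES x M h, χ.symm_apply_eq.2 hX.symm, fun x M h => χ.symm_apply_eq.2 (hs x M h).symm,
    fun p => ?_⟩
  obtain ⟨x, rfl⟩ := χ.surjective p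
  rw [RingEquiv.symm_apply_apply]
  exact (hEd x).symm

end Groth.Agent.S18974
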