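import Groth.Statements.S18976
import Groth.Agent.S18975
import Groth.Agent.Lib.AssocBdl21.Basic
import Groth.Agent.Lib.TorsorSch25.Basic
import Groth.Agent.Lib.GITQuot.Torsor
-- import your own Groth.Agent.* helpers here

set_option autoImplicit false
universe u
open CategoryTheory MonoidalCategory CartesianMonoidalCategory MonObj AlgebraicGeometry
open GIT

namespace Groth.Agent.S18976

/-- The associated fibre bundle exists. Over an algebraically closed field k of characteristic zero, let
G be an affine group scheme of finite type over k acting on a k-scheme X, let φ : X → Y be a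
G-torsor over Y (the square formed by the action, the second projection and φ twice is cartesian,
and φ acquires sections on the members of some fpqc covering family of Y), and let G act on an
affine k-scheme F. Give X ×_k F the diagonal action. Then there are a k-scheme Q with a morphism to
Y and a morphism q : X ×_k F → Q compatible with the projection to Y such that q is a G-torsor over
Q in the same sense; moreover q is affine and a geometric quotient. (The source writes the torsor
with a right action and lets g act on X × F by (x g⁻¹, g f); with the left action g x := x g⁻¹ this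
is the diagonal action used here. The last assertion of the source, on the case where F is a larger
affine group containing G, is not part of this row.) -/
theorem result
    (k : Type u) [Field k] [IsAlgClosed k] [CharZero k]
    (G X Y F : Over (Spec (CommRingCat.of k))) [GrpObj G] [IsAffine G.left] [LocallyOfFiniteType G.hom]
    (a : AlgGrp.Action G X) (φ : X ⟶ Y)
    (hcart : IsPullback a.act (snd G X) φ φ)
    (hloc : NonAbH1.IsLocallyTrivialFor Scheme.fpqcPrecoverage (Over.mk φ.left : Over Y.left))
    [IsAffine F.left] (b : AlgGrp.Action G F) :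
    ∃ (Q : Over (Spec (CommRingCat.of k))) (q : X ⊗ F ⟶ Q) (r : Q ⟶ Y),
      q ≫ r = fst X F ≫ φ ∧
      IsPullback (a.prod b).act (snd G (X ⊗ F)) q q ∧
      NonAbH1.IsLocallyTrivialFor Scheme.fpqcPrecoverage (Over.mk q.left : Over Q.left) ∧
      IsAffineHom q.left ∧ GIT.IsGeomQuot (a.prod b) q := by

  obtain ⟨h1, h2, h3⟩ := Groth.Agent.GITQuot.isAffineHom_flat_surjective hcart hloc
  have hsq : IsPullback a.act.left (snd G X).left φ.left φ.left := hcart.map (Over.forget _)
  haveI : IsAffineHom F.hom := inferInstance
  haveI : QuasiCompact φ.left := inferInstance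
  obtain ⟨Q, q, r, hr, hq, hpb⟩ := Groth.Agent.AssocBdl21.exists_bundle a b φ hsq
  have hw : q ≫ r = fst X F ≫ φ := Over.OverMorphism.ext (by simpa using hpb.w.symm)
  have houter : IsPullback (Groth.Agent.AssocBdl21.diag a b ≫ fst X F).left (snd G (X ⊗ F)).left φ.left
      (fst X F ≫ φ).left := Groth.Agent.AssocBdl21.isPullback_diag a b φ hsq
  have hsqQ : IsPullback (Groth.Agent.AssocBdl21.diag a b).left (snd G (X ⊗ F)).left q.left q.left := by
    refine IsPullback.of_right (h₁₂ := (fst X F).left) (v₁₃ := φ.left) (h₂₂ := r.left) ?_ ?_ hpb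
    · rw [← Over.comp_left, ← Over.comp_left, hw]; exact houter
    · rw [← Over.comp_left, ← Over.comp_left, hq]
  have hsqO : IsPullback (a.prod b).act (snd G (X ⊗ F)) q q :=
    IsPullback.of_map (Over.forget _) hq hsqQ
  have hlocQ : NonAbH1.IsLocallyTrivialFor Scheme.fpqcPrecoverage (Over.mk q.left : Over Q.left) := by
    obtain ⟨R, hR, hs⟩ := hloc
    refine ⟨_, Precoverage.pullbackArrows_mem r.left hR, ?_⟩
    intro S' f hf
    obtain ⟨W, v, hv, p, hp⟩ := Groth.Agent.TorsorSch25.exists_of_pullbackArrows hf
    obtain ⟨s, hs'⟩ := hs v hv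
    have hs'' : s ≫ φ.left = v := hs'
    have hcond : (p ≫ s) ≫ φ.left = f ≫ r.left := by rw [Category.assoc, hs'', hp]
    exact ⟨hpb.lift (p ≫ s) f hcond, hpb.lift_snd _ _ _⟩
  obtain ⟨hA, hG⟩ := Groth.Agent.S18975.result k G (X ⊗ F) Q (a.prod b) q hsqO hlocQ
  exact ⟨Q, q, r, hw, hsqO, hlocQ, hA, hG⟩


end Groth.Agent.S18976
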