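import Groth.Statements.S18977
import Groth.Agent.Lib.AssocBundle19.Basic
import Groth.Agent.Lib.TorsorSch25.Basic

set_option autoImplicit false
universe u
open CategoryTheory MonoidalCategory CartesianMonoidalCategory MonObj AlgebraicGeometry
open GIT

namespace Groth.Agent.S18977

set_option backward.isDefEq.respectTransparency.types false
open CategoryTheory.Limits Groth.Agent.TorsorSch25 Groth.Agent.AlgGrpBasic19


/-- Composition of torsors. Over an algebraically closed field k of characteristic zero, let G be an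
affine group scheme of finite type over k, N a closed normal subgroup scheme which is the kernel of
a homomorphism q : G → Q, and H a closed subgroup scheme of G which q maps isomorphically onto Q (so
G is the inner semidirect product N H). Let G act on a k-scheme X and let φ₁ : X → Y be a torsor
over Y under the restricted action of N (the square formed by the N-action, the second projection
and φ₁ twice is cartesian, and φ₁ acquires sections on the members of some fpqc covering family of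
Y); let Q act on Y so that φ₁ is equivariant along q, and let φ₂ : Y → Z be a Q-torsor over Z in the
same sense. Then φ₂ ∘ φ₁ is a G-torsor over Z: the square formed by the G-action, the second
projection and φ₂ ∘ φ₁ twice is cartesian, and φ₂ ∘ φ₁ acquires sections fpqc-locally on Z. (The
induced action of the factor group on Y is taken as a datum together with the equivariance of φ₁;
the source's second assertion, that the composite of trivial torsors is trivial, amounts to
composing sections and is not restated.) -/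
theorem result
    (k : Type u) [Field k] [IsAlgClosed k] [CharZero k]
    (G N Q H X Y Z : Over (Spec (CommRingCat.of k))) [GrpObj G] [GrpObj N] [GrpObj Q] [GrpObj H]
    [IsAffine G.left] [LocallyOfFiniteType G.hom]
    (iN : N ⟶ G) [IsMonHom iN] [IsClosedImmersion iN.left] (hnorm : AlgGrp.IsNormalHom iN)
    (q : G ⟶ Q) [IsMonHom q] (hker : AlgGrp.IsKernel iN q)
    (iH : H ⟶ G) [IsMonHom iH] [IsClosedImmersion iH.left] [IsIso (iH ≫ q)]
    (a : AlgGrp.Action G X) (φ₁ : X ⟶ Y)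
    (h₁ : IsPullback (a.restrict iN).act (snd N X) φ₁ φ₁)
    (h₁loc : NonAbH1.IsLocallyTrivialFor Scheme.fpqcPrecoverage (Over.mk φ₁.left : Over Y.left))
    (aY : AlgGrp.Action Q Y) (hequiv : (q ⊗ₘ φ₁) ≫ aY.act = a.act ≫ φ₁)
    (φ₂ : Y ⟶ Z) (h₂ : IsPullback aY.act (snd Q Y) φ₂ φ₂)
    (h₂loc : NonAbH1.IsLocallyTrivialFor Scheme.fpqcPrecoverage (Over.mk φ₂.left : Over Z.left)) :
    IsPullback a.act (snd G X) (φ₁ ≫ φ₂) (φ₁ ≫ φ₂) ∧
      NonAbH1.IsLocallyTrivialFor Scheme.fpqcPrecoverage (Over.mk (φ₁ ≫ φ₂).left : Over Z.left) := by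
  have hr : ∀ {T : Over (Spec (CommRingCat.of k))} (n : T ⟶ N) (x : T ⟶ X),
      lift n x ≫ (a.restrict iN).act = lift (n ≫ iN) x ≫ a.act := fun {T} n x => AlgGrp.Action.lift_restrict_act iN a n x
  have hφ : ∀ {T : Over (Spec (CommRingCat.of k))} (g : T ⟶ G) (x : T ⟶ X),
      (lift g x ≫ a.act) ≫ φ₁ = lift (g ≫ q) (x ≫ φ₁) ≫ aY.act := fun {T} g x => by
    rw [Category.assoc, ← hequiv, lift_map_assoc]
  have hN1 : ∀ {T : Over (Spec (CommRingCat.of k))} (n : T ⟶ N), (n ≫ iN) ≫ q = 1 := fun {T} n => by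
    rw [Category.assoc, hker.w, ← Category.assoc, comp_toUnit, Hom.one_def]
  have huN : ∀ {T : Over (Spec (CommRingCat.of k))} (x x' : T ⟶ X), x ≫ φ₁ = x' ≫ φ₁ →
      ∃! n : T ⟶ N, lift (n ≫ iN) x ≫ a.act = x' := by
    intro T x x' e
    let l := h₁.lift x' x e.symm
    refine ⟨l ≫ fst N X, ?_, fun n hn => ?_⟩
    · show _ = x'
      rw [← hr]
      have : lift (l ≫ fst N X) x = l := by
        rw [← h₁.lift_snd x' x e.symm, ← comp_lift, lift_fst_snd, Category.comp_id]
      rw [this]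
      exact h₁.lift_fst _ _ _
    · have : lift n x = l := h₁.hom_ext (by rw [h₁.lift_fst, hr, hn]) (by rw [h₁.lift_snd, lift_snd])
      rw [← this, lift_fst]
  have huQ : ∀ {T : Over (Spec (CommRingCat.of k))} (y y' : T ⟶ Y), y ≫ φ₂ = y' ≫ φ₂ →
      ∃! h : T ⟶ Q, lift h y ≫ aY.act = y' := by
    intro T y y' e
    let l := h₂.lift y' y e.symm
    refine ⟨l ≫ fst Q Y, ?_, fun n hn => ?_⟩
    · show _ = y'
      have : lift (l ≫ fst Q Y) y = l := by
        rw [← h₂.lift_snd y' y e.symm, ← comp_lift, lift_fst_snd, Category.comp_id]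
      rw [this]
      exact h₂.lift_fst _ _ _
    · have : lift n y = l := h₂.hom_ext (by rw [h₂.lift_fst, hn]) (by rw [h₂.lift_snd, lift_snd])
      rw [← this, lift_fst]
  have hu : ∀ {T : Over (Spec (CommRingCat.of k))} (x x' : T ⟶ X), x ≫ φ₁ ≫ φ₂ = x' ≫ φ₁ ≫ φ₂ →
      ∃! g : T ⟶ G, lift g x ≫ a.act = x' := by
    intro T x x' e
    obtain ⟨h, hh, hhu⟩ := huQ (x ≫ φ₁) (x' ≫ φ₁) (by rw [Category.assoc, Category.assoc, e])
    let g₀ := h ≫ inv (iH ≫ q) ≫ iH
    have hg₀ : g₀ ≫ q = h := by simp [g₀]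
    obtain ⟨n, hn, hnu⟩ := huN (lift g₀ x ≫ a.act) x' (by rw [hφ, hg₀, hh])
    refine ⟨(n ≫ iN) * g₀, ?_, fun g hg => ?_⟩
    · show _ = x'
      rw [act_mul, hn]
    · have hgq : g ≫ q = h := hhu _ (show lift (g ≫ q) (x ≫ φ₁) ≫ aY.act = x' ≫ φ₁ by rw [← hφ, hg])
      let n' := hker.lift (g * g₀⁻¹) (toUnit T) (by
        rw [MonObj.mul_comp, GrpObj.inv_comp, hgq, hg₀, mul_inv_cancel, Hom.one_def])
      have hn' : n' ≫ iN = g * g₀⁻¹ := hker.lift_fst _ _ _
      have hn'' : n' = n := hnu _ (show lift (n' ≫ iN) _ ≫ a.act = x' by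
        rw [← act_mul, hn', inv_mul_cancel_right, hg])
      rw [← hn'', hn', inv_mul_cancel_right]
  have hw : a.act ≫ φ₁ ≫ φ₂ = snd G X ≫ φ₁ ≫ φ₂ := by
    rw [← reassoc_of% hequiv, h₂.w, tensorHom_snd_assoc]
  constructor
  · refine ⟨⟨hw⟩, ⟨PullbackCone.IsLimit.mk hw
      (fun s => lift (hu s.snd s.fst s.condition.symm).choose s.snd)
      (fun s => (hu s.snd s.fst s.condition.symm).choose_spec.1) (fun s => lift_snd _ _) (fun s m h1 h2 => ?_)⟩⟩
    have hm : m = lift (m ≫ fst G X) (m ≫ snd G X) := by rw [← comp_lift, lift_fst_snd, Category.comp_id]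
    have hgm := (hu s.snd s.fst s.condition.symm).choose_spec.2 (m ≫ fst G X)
      (show lift (m ≫ fst G X) s.snd ≫ a.act = s.fst by rw [← h2, ← hm]; exact h1)
    rw [hm, h2, hgm]
  · obtain ⟨R₁, hR₁, hs₁⟩ := h₁loc
    obtain ⟨R₂, hR₂, hs₂⟩ := h₂loc
    obtain ⟨ι₂, Z₂, f₂, rfl⟩ := Presieve.exists_eq_ofArrows R₂
    choose s₂ hs₂' using fun i => hs₂ (f₂ i) (Presieve.ofArrows.mk i)
    have hR₁' : ∀ i, R₁.pullbackArrows (s₂ i) ∈ Scheme.fpqcPrecoverage (Z₂ i) := fun i =>
      Precoverage.pullbackArrows_mem (s₂ i) hR₁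
    choose ι₁ Z₁ f₁ hf₁ using fun i => Presieve.exists_eq_ofArrows (R₁.pullbackArrows (s₂ i))
    refine ⟨_, Precoverage.comp_mem_coverings f₂ hR₂ f₁ (fun i => hf₁ i ▸ hR₁' i), ?_⟩
    rintro S' f ⟨⟨i, j⟩⟩
    obtain ⟨W, v, hv, p, hp⟩ := exists_of_pullbackArrows (R := R₁) (p := s₂ i) (f := f₁ i j) (by
      rw [hf₁ i]; exact Presieve.ofArrows.mk j)
    obtain ⟨s, hs⟩ := hs₁ v hv
    refine ⟨p ≫ s, ?_⟩
    have hs' : s ≫ φ₁.left = v := hs
    have h2' : s₂ i ≫ φ₂.left = f₂ i := hs₂' i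
    show (p ≫ s) ≫ (φ₁ ≫ φ₂).left = f₁ i j ≫ f₂ i
    rw [Category.assoc, Over.comp_left, reassoc_of% hs', reassoc_of% hp, h2']

end Groth.Agent.S18977
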