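import Groth.Statements.S18978
import Groth.Agent.S18975
import Groth.Agent.Lib.NRGIT21.Stab
-- import your own Groth.Agent.* helpers here

set_option autoImplicit false
universe u
open CategoryTheory MonoidalCategory CartesianMonoidalCategory MonObj AlgebraicGeometry
open GIT

namespace Groth.Agent.S18978

/-- Over an algebraically closed field k of characteristic zero, let G be an affine group scheme of
finite type over k with a closed normal subgroup scheme N, the kernel of a surjective homomorphism q
: G → H onto an affine group scheme H of finite type over k (the factor group G/N). Let G act on a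
separated k-scheme X of finite type, let φ : X → Y be a torsor over Y under the restricted action of
N (cartesian action square, sections on the members of some fpqc covering family of Y), and let H
act on Y so that φ is equivariant along q. Then for every geometric point x of X (a point with
values in an algebraically closed field Ω) with image y in Y: the G-orbit of x is closed in X_Ω and
the stabiliser of x in G is finite if and only if the H-orbit of y is closed in Y_Ω and the
stabiliser of y in H is finite. (The induced action of the factor group on Y is taken as a datum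
together with the equivariance of φ; the points of the published statement are rendered as geometric
points.) -/
theorem result
    (k : Type u) [Field k] [IsAlgClosed k] [CharZero k]
    (G N H X Y : Over (Spec (CommRingCat.of k))) [GrpObj G] [GrpObj N] [GrpObj H]
    [IsAffine G.left] [LocallyOfFiniteType G.hom]
    (iN : N ⟶ G) [IsMonHom iN] [IsClosedImmersion iN.left] (hnorm : AlgGrp.IsNormalHom iN)
    (q : G ⟶ H) [IsMonHom q] [Surjective q.left] [IsAffine H.left] [LocallyOfFiniteType H.hom]
    (hker : AlgGrp.IsKernel iN q)
    [LocallyOfFiniteType X.hom] [QuasiCompact X.hom] [IsSeparated X.hom]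
    (a : AlgGrp.Action G X) (φ : X ⟶ Y)
    (hcart : IsPullback (a.restrict iN).act (snd N X) φ φ)
    (hloc : NonAbH1.IsLocallyTrivialFor Scheme.fpqcPrecoverage (Over.mk φ.left : Over Y.left))
    (aY : AlgGrp.Action H Y) (hequiv : (q ⊗ₘ φ) ≫ aY.act = a.act ≫ φ)
    (Ω : Type u) [Field Ω] [IsAlgClosed Ω] (P : Over (Spec (CommRingCat.of k)))
    (e : P.left ≅ Spec (CommRingCat.of Ω)) (x : P ⟶ X) :
    (IsClosed (Set.range (GIT.psi a x).left.base) ∧ IsFinite (GLinSh.stabTo a x)) ↔
      (IsClosed (Set.range (GIT.psi aY (x ≫ φ)).left.base) ∧ IsFinite (GLinSh.stabTo aY (x ≫ φ))) := by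

  haveI : IsAffineHom iN.left := inferInstance
  haveI : IsAffine N.left := isAffine_of_isAffineHom iN.left
  haveI : LocallyOfFiniteType N.hom := by rw [← Over.w iN]; infer_instance
  obtain ⟨hφa, hπ⟩ := Groth.Agent.S18975.result k N X Y (a.restrict iN) φ hcart hloc
  haveI : Surjective φ.left := ⟨hπ.surj⟩
  have haN : (a.restrict iN).act = (iN ▷ X) ≫ a.act := rfl
  have hqT : Topology.IsQuotientMap (φ ▷ P).left.base :=
    MorphismProperty.universally_le (topologically @Topology.IsQuotientMap) _
      (MorphismProperty.of_isPullback (P := (topologically @Topology.IsQuotientMap).universally)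
        (Groth.Agent.GITQuot.isPullback_whiskerRight φ P).flip hπ.subm)
  have hclosed : IsClosed (Set.range (GIT.psi a x).left.base) ↔
      IsClosed (Set.range (GIT.psi aY (x ≫ φ)).left.base) := by
    rw [Groth.Agent.NRGIT21.range_psi_eq haN hπ hequiv x]
    exact hqT.isClosed_preimage
  -- stabilisers are identified
  have hq : ∀ {T : Over (Spec (CommRingCat.of k))} (g : T ⟶ G) (y : T ⟶ X),
      (lift g y ≫ a.act) ≫ φ = lift (g ≫ q) (y ≫ φ) ≫ aY.act := fun g y => by
    rw [Category.assoc, ← hequiv, lift_map_assoc]
  have hN1 : ∀ {T : Over (Spec (CommRingCat.of k))} (n : T ⟶ N), (n ≫ iN) ≫ q = 1 := fun {T} n => by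
    rw [Category.assoc, hker.w, ← Category.assoc, comp_toUnit, Hom.one_def]
  haveI : LocallyOfFiniteType (q.left ≫ H.hom) := by rw [Over.w q]; infer_instance
  haveI : LocallyOfFiniteType q.left := locallyOfFiniteType_of_comp q.left H.hom
  have hbij : Function.Bijective (fun g : Groth.Agent.NRGIT21.StabPt a x =>
      (⟨g.1 ≫ q, by rw [← hq, g.2]⟩ : Groth.Agent.NRGIT21.StabPt aY (x ≫ φ))) := by
    constructor
    · rintro ⟨g, hg⟩ ⟨g', hg'⟩ h
      have h' : g ≫ q = g' ≫ q := congrArg Subtype.val h
      let n : P ⟶ N := hker.lift (g' * g⁻¹) (toUnit P) (by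
        rw [MonObj.mul_comp, GrpObj.inv_comp, h', mul_inv_cancel, Hom.one_def])
      have hn : n ≫ iN = g' * g⁻¹ := hker.lift_fst _ _ _
      have hfix : lift n x ≫ (a.restrict iN).act = lift 1 x ≫ (a.restrict iN).act := by
        rw [AlgGrp.Action.lift_restrict_act, AlgGrp.Action.lift_restrict_act, hn, MonObj.one_comp]
        conv_lhs => rw [← hg]
        rw [← Groth.Agent.AlgGrpBasic19.act_mul, inv_mul_cancel_right, hg', Groth.Agent.AlgGrpBasic19.act_one]
      have hl : lift n x = lift 1 x := hcart.hom_ext hfix (by simp)
      have hn1 : n = 1 := by simpa using congrArg (· ≫ fst N X) hl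
      rw [hn1, MonObj.one_comp] at hn
      exact Subtype.ext (mul_inv_eq_one.1 hn.symm).symm
    · rintro ⟨h, hh⟩
      obtain ⟨g, hg⟩ := Groth.Agent.NRGIT21.exists_lift_point e q.left (Over.w q) h
      have hg' : g ≫ q = h := Over.OverMorphism.ext hg
      have himg : x ≫ φ = (lift g x ≫ a.act) ≫ φ := by rw [hq, hg', hh]
      let l := hcart.lift x (lift g x ≫ a.act) himg
      have hl : lift (l ≫ fst N X) (lift g x ≫ a.act) = l :=
        CartesianMonoidalCategory.hom_ext _ _ (by simp) (by rw [lift_snd]; exact (hcart.lift_snd _ _ _).symm)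
      have hl' : lift ((l ≫ fst N X) ≫ iN * g) x ≫ a.act = x := by
        rw [Groth.Agent.AlgGrpBasic19.act_mul, ← AlgGrp.Action.lift_restrict_act, hl]
        exact hcart.lift_fst _ _ _
      exact ⟨⟨_, hl'⟩, Subtype.ext (by show _ ≫ q = h; rw [MonObj.mul_comp, hN1, _root_.one_mul, hg'])⟩
  haveI : QuasiCompact G.hom := inferInstance
  haveI : QuasiSeparatedSpace Y.left := by
    haveI : QuasiSeparatedSpace X.left := (HasAffineProperty.iff_of_isAffine (P := @QuasiSeparated)).1 (inferInstance : QuasiSeparated X.hom)
    refine ⟨fun U V hU hU' hV hV' => ?_⟩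
    have h1 : IsCompact (φ.left ⁻¹' (U ∩ V)) := QuasiSeparatedSpace.inter_isCompact _ _
      (hU.preimage φ.left.continuous) (QuasiCompact.isCompact_preimage _ hU hU')
      (hV.preimage φ.left.continuous) (QuasiCompact.isCompact_preimage _ hV hV')
    rw [← Set.image_preimage_eq (U ∩ V) φ.left.surjective]
    exact h1.image φ.left.continuous
  haveI : QuasiSeparated Y.hom := (HasAffineProperty.iff_of_isAffine (P := @QuasiSeparated)).2 ‹QuasiSeparatedSpace Y.left›
  haveI hqc : QuasiCompact (GIT.psi aY (x ≫ φ)).left := by
    haveI : QuasiSeparated (snd Y P).left := by rw [Over.snd_left]; infer_instance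
    haveI : QuasiCompact (snd H P).left := by rw [Over.snd_left]; infer_instance
    haveI : QuasiCompact ((GIT.psi aY (x ≫ φ)).left ≫ (snd Y P).left) := by
      rw [← Over.comp_left, GIT.psi, lift_snd]; infer_instance
    exact QuasiCompact.of_comp (GIT.psi aY (x ≫ φ)).left (snd Y P).left
  haveI : QuasiCompact (GLinSh.stabTo aY (x ≫ φ)) := MorphismProperty.pullback_snd _ _ hqc
  haveI := Groth.Agent.NRGIT21.locallyOfFiniteType_stabTo aY (x ≫ φ)
  rw [hclosed, Groth.Agent.NRGIT21.isFinite_stabTo_iff a e x, (Equiv.ofBijective _ hbij).finite_iff,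
    ← Groth.Agent.NRGIT21.finite_sections_iff aY e (x ≫ φ), ← Groth.Agent.NRGIT21.isFinite_iff_finite_sections,
    MorphismProperty.cancel_right_of_respectsIso @IsFinite]


end Groth.Agent.S18978
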