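import Groth.Statements.S18980
-- import your own Groth.Agent.* helpers here

set_option autoImplicit false
universe u
open CategoryTheory MonoidalCategory CartesianMonoidalCategory MonObj AlgebraicGeometry Topology
open NRQuot

namespace Groth.Agent.S18980

/-- Over an algebraically closed field k of characteristic zero, let G be an affine group scheme of
finite type over k acting on a k-scheme X and let φ : X → Y be a good quotient: φ is affine and
invariant, over every open of Y the functions on Y are exactly the invariant functions on the
preimage, invariant closed subsets of X have closed images, and the image of the intersection of any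
family of invariant closed subsets is the intersection of the images. Then φ is submersive: a subset
of Y is open exactly when its preimage is, and φ is surjective (the underlying map is a topological
quotient map). -/
theorem result
    (k : Type u) [Field k] [IsAlgClosed k] [CharZero k]
    (G X Y : Over (Spec (CommRingCat.of k))) [GrpObj G] [IsAffine G.left] [LocallyOfFiniteType G.hom]
    (a : AlgGrp.Action G X) (φ : X ⟶ Y) (h : NRQuot.IsGoodQuot a φ) :
    IsQuotientMap φ.left.base := by
  have hsurj : Function.Surjective φ.left.base := by
    have h' := h.inter PEmpty (fun i => i.elim) (fun i => i.elim) (fun i => i.elim)
    rw [Set.iInter_of_empty, Set.iInter_of_empty, Set.image_univ] at h'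
    exact Set.range_eq_univ.mp h'
  refine isQuotientMap_iff_isClosed.mpr ⟨hsurj, fun s => ⟨fun hs => hs.preimage φ.left.base.hom.continuous, fun hs => ?_⟩⟩
  rw [← Set.image_preimage_eq s hsurj]
  refine h.closed _ hs fun p hp => ?_
  have e := congrArg (fun f => f.base p) h.inv.left
  simp only [Scheme.Hom.comp_base, TopCat.comp_app] at e
  change φ.left.base (a.act.left.base p) ∈ s
  rw [e]; exact hp

end Groth.Agent.S18980
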