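import Groth.Statements.S18983
import Mathlib

set_option autoImplicit false
universe u v w
open CAlg

namespace Groth.Agent.S18983
open CAlg Submodule

variable {k : Type u} [Field k] {Λ : Type v} [AddCommGroup Λ] {V : Type w} [AddCommGroup V] [Module k V]
  (𝒱 : Λ → Submodule k V) (A : Module.End k V) (χ : Λ)

/-- A submodule spanned by its homogeneous elements. -/
def Graded (W : Submodule k V) : Prop := W ≤ ⨆ μ, W ⊓ 𝒱 μ

variable {𝒱 A χ} (hind : iSupIndep 𝒱) (hhom : ∀ (μ : Λ) (v : V), v ∈ 𝒱 μ → A v ∈ 𝒱 (μ + χ))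

include hhom in
theorem graded_map {W : Submodule k V} (hW : Graded 𝒱 W) : Graded 𝒱 (W.map A) := by
  refine (map_mono hW).trans ?_
  rw [Submodule.map_iSup]
  refine iSup_le fun μ => le_trans ?_ (le_iSup _ (μ + χ))
  rintro _ ⟨v, ⟨hv, hv'⟩, rfl⟩
  exact ⟨⟨v, hv, rfl⟩, hhom μ v hv'⟩

include hind in
theorem component_unique {μ : Λ} {a b : V} (ha : a ∈ 𝒱 μ) (hb : b ∈ ⨆ ν ≠ μ, 𝒱 ν) (h : a = b) : a = 0 :=
  Submodule.disjoint_def.1 (hind μ) a ha (h ▸ hb)

include hind hhom in
theorem exists_homogeneous_preimage {W : Submodule k V} (hW : Graded 𝒱 W) {μ : Λ} {b : V}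
    (hb : b ∈ W.map A) (hbμ : b ∈ 𝒱 μ) : ∃ y ∈ W ⊓ 𝒱 (μ - χ), A y = b := by
  classical
  have hb' : b ∈ ⨆ ν, (W ⊓ 𝒱 ν).map A := by
    rw [← Submodule.map_iSup]; exact map_mono hW hb
  rw [iSup_split_single (fun ν => (W ⊓ 𝒱 ν).map A) (μ - χ), mem_sup] at hb'
  obtain ⟨_, ⟨y, hy, rfl⟩, r, hr, hsum⟩ := hb'
  refine ⟨y, hy, ?_⟩
  have hr' : r ∈ ⨆ ν ≠ μ, 𝒱 ν := by
    refine (iSup₂_le fun ν hν => ?_ : (⨆ ν ≠ μ - χ, (W ⊓ 𝒱 ν).map A) ≤ _) hr
    refine le_trans ?_ (le_iSup₂ (f := fun ν _ => 𝒱 ν) (ν + χ) (fun h => hν (eq_sub_of_add_eq h)))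
    rintro _ ⟨v, ⟨_, hv⟩, rfl⟩
    exact hhom ν v hv
  have hyμ : A y ∈ 𝒱 μ := by simpa using hhom _ y hy.2
  have hr0 : b - A y = 0 := component_unique hind (sub_mem hbμ hyμ) hr' (by rw [← hsum]; abel)
  exact (sub_eq_zero.1 hr0).symm

include hind hhom in
theorem graded_ker {W : Submodule k V} (hW : Graded 𝒱 W) : Graded 𝒱 (W ⊓ LinearMap.ker A) := by
  classical
  rintro x ⟨hxW, hxA⟩
  obtain ⟨f, hf, hfx⟩ := (mem_iSup_iff_exists_finsupp _ x).1 (hW hxW)
  have hzero : ∀ μ, A (f μ) = 0 := by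
    intro μ
    by_cases hμ : μ ∈ f.support
    · have hx0 : A x = 0 := hxA
      rw [← hfx, Finsupp.sum, map_sum, ← Finset.add_sum_erase _ _ hμ, add_eq_zero_iff_eq_neg] at hx0
      refine component_unique hind (hhom μ _ (hf μ).2) (neg_mem (sum_mem fun ν hν => ?_)) hx0
      exact (le_iSup₂ (f := fun ν _ => 𝒱 ν) (ν + χ)
        (fun h => (Finset.mem_erase.1 hν).1 (add_right_cancel h))) (hhom ν _ (hf ν).2)
    · rw [Finsupp.notMem_support_iff.1 hμ, map_zero]
  rw [← hfx]
  exact sum_mem fun μ _ => mem_iSup_of_mem μ ⟨⟨(hf μ).1, hzero μ⟩, (hf μ).2⟩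

/-- A homogeneous Jordan family spanning `W`. -/
def HasChains (𝒱 : Λ → Submodule k V) (A : Module.End k V) (W : Submodule k V) : Prop :=
  ∃ (ι : Type w) (_ : Finite ι) (n : ι → ℕ) (c : (Σ i : ι, Fin (n i + 1)) → V),
    LinearIndependent k c ∧ span k (Set.range c) = W ∧
    (∀ (i : ι) (l : Fin (n i + 1)), ∃ μ : Λ, c ⟨i, l⟩ ∈ 𝒱 μ) ∧
    (∀ i : ι, A (c ⟨i, 0⟩) = 0) ∧ ∀ (i : ι) (l : Fin (n i)), A (c ⟨i, l.succ⟩) = c ⟨i, l.castSucc⟩

include hind hhom in
theorem hasChains [FiniteDimensional k V] (hA : IsNilpotent A) :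
    ∀ W : Submodule k V, W.map A ≤ W → Graded 𝒱 W → HasChains 𝒱 A W := by
  classical
  intro W
  induction W using WellFoundedLT.induction with
  | ind W ih =>
  intro hAW hW
  by_cases hbot : W = ⊥
  · refine ⟨PEmpty, inferInstance, fun i => i.elim, fun x => x.1.elim, linearIndependent_empty_type,
      ?_, fun i => i.elim, fun i => i.elim, fun i => i.elim⟩
    rw [Set.range_eq_empty, span_empty, hbot]
  have hlt : W.map A < W := by
    refine lt_of_le_of_ne hAW fun heq => hbot ?_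
    obtain ⟨N, hN⟩ := hA
    have hpow : ∀ m : ℕ, W.map (A ^ m) = W := by
      intro m
      induction m with
      | zero => rw [pow_zero]; exact Submodule.map_id W
      | succ m ihm => rw [pow_succ, Module.End.mul_eq_comp, Submodule.map_comp, heq, ihm]
    rw [← hpow N, hN]
    exact Submodule.map_zero W
  obtain ⟨ι, hι, n, c, hli, hspan, hhc, h0, hsucc⟩ :=
    ih (W.map A) hlt (map_mono hAW) (graded_map hhom hW)
  haveI := Fintype.ofFinite ι
  have hcmem : ∀ x, c x ∈ W.map A := fun x => hspan ▸ subset_span (Set.mem_range_self x)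
  have hy : ∀ i : ι, ∃ y, y ∈ W ∧ (∃ μ, y ∈ 𝒱 μ) ∧ A y = c ⟨i, Fin.last _⟩ := by
    intro i
    obtain ⟨μ, hμ⟩ := hhc i (Fin.last _)
    obtain ⟨y, hy, hAy⟩ := exists_homogeneous_preimage hind hhom hW (hcmem _) hμ
    exact ⟨y, hy.1, ⟨_, hy.2⟩, hAy⟩
  choose y hyW hyh hAy using hy
  -- complete the bottoms to a homogeneous basis of the kernel
  let H : Set V := {v | v ∈ W ⊓ LinearMap.ker A ∧ ∃ μ, v ∈ 𝒱 μ}
  let bot : ι → V := fun i => c ⟨i, 0⟩
  have hbot_li : LinearIndependent k bot :=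
    hli.comp (fun i => (⟨i, 0⟩ : Σ i : ι, Fin (n i + 1))) (fun a b h => congrArg Sigma.fst h)
  have hbotH : Set.range bot ⊆ H := by
    rintro _ ⟨i, rfl⟩
    exact ⟨⟨hAW (hcmem _), h0 i⟩, hhc i 0⟩
  obtain ⟨E, hEH, hbE, hHE, hEli⟩ := exists_linearIndepOn_extension (v := id) hbot_li.linearIndepOn_id hbotH
  let Z : Type w := ↥(E \ Set.range bot)
  haveI hEfin : Finite E := (LinearIndependent.finite hEli :)
  haveI : Finite Z := Finite.of_injective (fun z : Z => (⟨z.1, z.2.1⟩ : E)) (fun a b h => Subtype.ext (congrArg (fun x : E => x.1) h))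
  haveI := Fintype.ofFinite Z
  let n' : ι ⊕ Z → ℕ := Sum.elim (fun i => n i + 1) (fun _ => 0)
  let cl : ∀ i : ι, Fin (n i + 1 + 1) → V := fun i => Fin.snoc (fun l => c ⟨i, l⟩) (y i)
  let c' : (Σ i : ι ⊕ Z, Fin (n' i + 1)) → V := fun x => match x with
    | ⟨Sum.inl i, l⟩ => cl i l
    | ⟨Sum.inr z, _⟩ => z.1
  have hclast : ∀ i, cl i (Fin.last (n i + 1)) = y i := fun i => by simp [cl]
  have hclcast : ∀ i (l : Fin (n i + 1)), cl i l.castSucc = c ⟨i, l⟩ := fun i l => by simp [cl]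
  have hcl0 : ∀ i, cl i 0 = bot i := fun i => hclcast i 0
  have hclW : ∀ i l, cl i l ∈ W := by
    intro i l
    cases l using Fin.lastCases with
    | last => rw [hclast]; exact hyW i
    | cast l => rw [hclcast]; exact hAW (hcmem _)
  have hclh : ∀ i l, ∃ μ, cl i l ∈ 𝒱 μ := by
    intro i l
    cases l using Fin.lastCases with
    | last => rw [hclast]; exact hyh i
    | cast l => rw [hclcast]; exact hhc i l
  have hclA : ∀ i (l : Fin (n i + 1)), A (cl i l.succ) = c ⟨i, l⟩ := by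
    intro i l
    cases l using Fin.lastCases with
    | last => rw [Fin.succ_last, hclast]; exact hAy i
    | cast l => rw [Fin.succ_castSucc, hclcast]; exact hsucc i l
  refine ⟨ι ⊕ Z, inferInstance, n', c', ?_, ?_, ?_, ?_, ?_⟩
  · rw [Fintype.linearIndependent_iff]
    intro g hg
    rw [Fintype.sum_sigma, Fintype.sum_sum_type] at hg
    have hsplit : (∑ i, (g ⟨Sum.inl i, (0 : Fin (n i + 1 + 1))⟩ • bot i +
        ∑ l : Fin (n i + 1), g ⟨Sum.inl i, (l.succ : Fin (n i + 1 + 1))⟩ • cl i l.succ)) +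
        ∑ z : Z, g ⟨Sum.inr z, (0 : Fin 1)⟩ • z.1 = 0 := by
      refine Eq.trans ?_ hg
      congr 1
      · refine Finset.sum_congr rfl fun i _ => ?_
        rw [← hcl0]
        exact (Fin.sum_univ_succ (fun l : Fin (n i + 1 + 1) => g ⟨Sum.inl i, l⟩ • cl i l)).symm
      · refine Finset.sum_congr rfl fun z _ => ?_
        exact (Fin.sum_univ_one (fun l : Fin 1 => g ⟨Sum.inr z, l⟩ • (z.1 : V))).symm
    have hA0 := congrArg A hsplit
    have hzA : ∀ z : Z, A z.1 = 0 := fun z => (hEH z.2.1).1.2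
    have hbA : ∀ i, A (bot i) = 0 := h0
    simp only [map_add, map_sum, map_smul, hzA, hbA, hclA, smul_zero, Finset.sum_const_zero, zero_add, add_zero,
      map_zero] at hA0
    rw [← Fintype.sum_sigma (fun x : Σ i : ι, Fin (n i + 1) => g ⟨Sum.inl x.1, x.2.succ⟩ • c x)] at hA0
    have hg1 : ∀ i (l : Fin (n i + 1)), g ⟨Sum.inl i, l.succ⟩ = 0 := fun i l =>
      Fintype.linearIndependent_iff.1 hli _ hA0 ⟨i, l⟩
    simp only [hg1, zero_smul, Finset.sum_const_zero, add_zero] at hsplit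
    have hf : LinearIndependent k (Sum.elim bot (fun z : Z => z.1)) := by
      let emb : ι ⊕ Z → E := Sum.elim (fun i => ⟨bot i, hbE (Set.mem_range_self i)⟩) (fun z => ⟨z.1, z.2.1⟩)
      have hinj : Function.Injective emb := by
        rintro (a | a) (b | b) h <;> simp only [emb, Sum.elim_inl, Sum.elim_inr, Subtype.mk.injEq] at h
        · exact congrArg Sum.inl (hbot_li.injective h)
        · exact absurd ⟨a, h⟩ b.2.2
        · exact absurd ⟨b, h.symm⟩ a.2.2
        · exact congrArg Sum.inr (Subtype.ext h)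
      convert (hEli.linearIndependent.comp emb hinj) using 1
      funext x; cases x <;> rfl
    have hg0 := Fintype.linearIndependent_iff.1 hf
      (Sum.elim (fun i => g ⟨Sum.inl i, (0 : Fin (n i + 1 + 1))⟩) (fun z => g ⟨Sum.inr z, (0 : Fin 1)⟩))
      (by rw [Fintype.sum_sum_type]; exact hsplit)
    rintro ⟨i | z, l⟩
    · cases l using Fin.cases with
      | zero => exact hg0 (Sum.inl i)
      | succ l => exact hg1 i l
    · obtain rfl : l = 0 := Subsingleton.elim (α := Fin 1) _ _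
      exact hg0 (Sum.inr z)
  · apply le_antisymm
    · refine span_le.2 ?_
      rintro _ ⟨⟨i | z, l⟩, rfl⟩
      · exact hclW i l
      · exact (hEH z.2.1).1.1
    · intro x hx
      have hker : W ⊓ LinearMap.ker A ≤ span k (Set.range c') := by
        refine (graded_ker hind hhom hW).trans (iSup_le fun μ v hv => ?_)
        have hv' : v ∈ span k E := by simpa using hHE (Set.mem_image_of_mem id ⟨hv.1, μ, hv.2⟩)
        refine span_mono (fun e he => ?_) hv'
        by_cases hr : e ∈ Set.range bot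
        · obtain ⟨i, rfl⟩ := hr
          exact ⟨⟨Sum.inl i, (0 : Fin (n i + 1 + 1))⟩, hcl0 i⟩
        · exact ⟨⟨Sum.inr ⟨e, he, hr⟩, (0 : Fin 1)⟩, rfl⟩
      have hAx : A x ∈ span k (Set.range c) := hspan ▸ mem_map_of_mem hx
      obtain ⟨a, ha⟩ := (mem_span_range_iff_exists_fun k).1 hAx
      let x' := ∑ z : (Σ i : ι, Fin (n i + 1)), a z • cl z.1 z.2.succ
      have hx'W : x' ∈ W := sum_mem fun z _ => smul_mem _ _ (hclW _ _)
      have hx's : x' ∈ span k (Set.range c') := sum_mem fun z _ => smul_mem _ _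
        (subset_span ⟨⟨Sum.inl z.1, (z.2.succ : Fin (n z.1 + 1 + 1))⟩, rfl⟩)
      have hd : x - x' ∈ W ⊓ LinearMap.ker A := ⟨sub_mem hx hx'W, by
        show A (x - x') = 0
        rw [map_sub, ← ha, map_sum, sub_eq_zero]
        exact Finset.sum_congr rfl fun z _ => by rw [map_smul, hclA]⟩
      rw [← sub_add_cancel x x']
      exact add_mem (hker hd) hx's
  · rintro (i | z) l
    · exact hclh i l
    · exact (hEH z.2.1).2
  · rintro (i | z)
    · show A (cl i 0) = 0
      rw [hcl0]; exact h0 i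
    · exact (hEH z.2.1).1.2
  · rintro (i | z) l
    · show A (cl i (l : Fin (n i + 1)).succ) = cl i (l : Fin (n i + 1)).castSucc
      exact (hclA i l).trans (hclcast i l).symm
    · exact Fin.elim0 l

/-- Let k be a field, Λ an additive commutative group, V a finite-dimensional k-vector space which is
the internal direct sum of subspaces V_μ indexed by Λ (a representation of a torus with character
group Λ), and A a nilpotent endomorphism of V mapping each V_μ into V_{μ+χ} for a fixed χ (the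
infinitesimal generator of an action of the additive group on which the torus acts through the
character χ). Then V has a basis consisting of homogeneous vectors e_{i,l}, 0 ≤ l ≤ n_i, with A
e_{i,0} = 0 and A e_{i,l+1} = e_{i,l}: a weight basis bringing A into Jordan normal form. (The
source states this, over an algebraically closed field of characteristic zero, as a decomposition of
every representation of the semidirect product of the additive group with a torus into twists of
symmetric powers of the standard two-dimensional representation by characters; the first line of its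
proof reduces that to the present statement, which is what is proved, and which holds over any
field.) -/
theorem result
    (k : Type u) [Field k] (Λ : Type v) [AddCommGroup Λ] [DecidableEq Λ]
    (V : Type w) [AddCommGroup V] [Module k V] [FiniteDimensional k V]
    (𝒱 : Λ → Submodule k V) (h𝒱 : DirectSum.IsInternal 𝒱)
    (A : Module.End k V) (hA : IsNilpotent A) (χ : Λ)
    (hhom : ∀ (μ : Λ) (v : V), v ∈ 𝒱 μ → A v ∈ 𝒱 (μ + χ)) :
    ∃ (ι : Type w) (_ : Finite ι) (n : ι → ℕ) (b : Module.Basis (Σ i : ι, Fin (n i + 1)) k V),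
      (∀ (i : ι) (l : Fin (n i + 1)), ∃ μ : Λ, b ⟨i, l⟩ ∈ 𝒱 μ) ∧
      (∀ i : ι, A (b ⟨i, 0⟩) = 0) ∧
      ∀ (i : ι) (l : Fin (n i)), A (b ⟨i, l.succ⟩) = b ⟨i, l.castSucc⟩ := by
  have hG : Graded 𝒱 (⊤ : Submodule k V) := by
    simp only [Graded, top_inf_eq]
    exact le_of_eq h𝒱.submodule_iSup_eq_top.symm
  obtain ⟨ι, hι, n, c, hli, hspan, h1, h2, h3⟩ :=
    hasChains h𝒱.submodule_iSupIndep hhom hA ⊤ le_top hG
  refine ⟨ι, hι, n, Module.Basis.mk hli hspan.ge, ?_, ?_, ?_⟩
  · intro i l; rw [Module.Basis.mk_apply]; exact h1 i l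
  · intro i; rw [Module.Basis.mk_apply]; exact h2 i
  · intro i l; rw [Module.Basis.mk_apply, Module.Basis.mk_apply]; exact h3 i l

end Groth.Agent.S18983
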