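import Groth.Statements.S18984
import Groth.Agent.Lib.FreeTors15.Main
-- import your own Groth.Agent.* helpers here

set_option autoImplicit false
universe u
open CategoryTheory MonoidalCategory CartesianMonoidalCategory MonObj AlgebraicGeometry
open GIT

namespace Groth.Agent.S18984

/-- Over an algebraically closed field k of characteristic zero, let G be a connected reductive group
over k acting on a reduced separated k-scheme X of finite type, and let φ : X → Y be a geometric
quotient which is an affine morphism (invariant and surjective, G ×_k X → X ×_Y X surjective,
universally submersive, and the functions on every open of Y are exactly the invariant functions on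
its preimage). Then φ is a G-torsor over Y — the square formed by the action, the second projection
and φ twice is cartesian and φ acquires sections on the members of some fpqc covering family of Y —
if and only if the stabiliser of every geometric point of X is the trivial group scheme. (The source
allows any reductive G, not necessarily connected, and its geometric quotients are affine and
submersive rather than universally submersive; this row takes G connected reductive and a
universally submersive affine geometric quotient.) -/
theorem result
    (k : Type u) [Field k] [IsAlgClosed k] [CharZero k]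
    (G X Y : Over (Spec (CommRingCat.of k))) [GrpObj G] (hG : Red.IsReductiveOver k G)
    [LocallyOfFiniteType X.hom] [QuasiCompact X.hom] [IsSeparated X.hom] [AlgebraicGeometry.IsReduced X.left]
    (a : AlgGrp.Action G X) (φ : X ⟶ Y) (hq : GIT.IsGeomQuot a φ) [IsAffineHom φ.left] :
    (IsPullback a.act (snd G X) φ φ ∧
        NonAbH1.IsLocallyTrivialFor Scheme.fpqcPrecoverage (Over.mk φ.left : Over Y.left)) ↔
      ∀ (Ω : Type u) [Field Ω] [IsAlgClosed Ω] (P : Over (Spec (CommRingCat.of k)))
        (_ : P.left ≅ Spec (CommRingCat.of Ω)) (x : P ⟶ X), IsIso (GLinSh.stabTo a x) := by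
  constructor
  · rintro ⟨hcart, -⟩ Ω _ _ P _ x
    haveI : Mono (GIT.psi a (𝟙 X)) := ⟨fun {T} u v huv => by
      have h1 := congrArg (· ≫ fst X X) huv
      have h2 := congrArg (· ≫ snd X X) huv
      simp only [GIT.psi, Category.assoc, lift_fst, lift_snd, whiskerLeft_id, Category.id_comp,
        Category.comp_id] at h1 h2
      exact hcart.hom_ext h1 h2⟩
    exact Groth.Agent.FreeTors15.isIso_stabTo_of_mono a x
  · intro h
    haveI := hG.1
    haveI := hG.2.1
    haveI : LocallyOfFiniteType G.hom := inferInstance
    haveI := Groth.Agent.FreeTors15.isIso_stabTo_id a h
    obtain ⟨A, _, _, f, hf, hfm, hLR⟩ := Groth.Agent.GModComod21.exists_model_LR hG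
    haveI := hf
    haveI := hfm
    haveI : IsIso f.left := inferInstanceAs (IsIso ((Over.forget _).map f))
    haveI : Algebra.FiniteType k A := by
      have h' : LocallyOfFiniteType (CoactBr.sp k A).hom := by
        rw [← Over.w f]
        infer_instance
      exact RingHom.finiteType_algebraMap.1 ((HasRingHomProperty.Spec_iff (P := @LocallyOfFiniteType)).1 h')
    obtain ⟨hflat, hcart⟩ := Groth.Agent.FreeTors15.torsor_of_free f hLR a φ hq.inv hq.sections
      fun T g y hgy => Groth.Agent.FreeTors15.eq_one_of_isIso a (𝟙 X) y g (by simpa using hgy)
    haveI := hflat
    haveI : Surjective φ.left := ⟨hq.surj⟩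
    refine ⟨hcart, Presieve.singleton φ.left, Scheme.Hom.singleton_mem_fpqcPrecoverage φ.left, ?_⟩
    rintro S' g ⟨⟩
    exact ⟨𝟙 _, Category.id_comp _⟩

end Groth.Agent.S18984
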