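import Groth.Statements.S18987
import Groth.Agent.Lib.UnipLie23.Basic
-- import your own Groth.Agent.* helpers here

set_option autoImplicit false
universe u
open TensorProduct
open HopfRep

namespace Groth.Agent.S18987

/-- In Hopf-algebra form, over an algebraically closed field k of characteristic zero, let A be a
finitely generated commutative Hopf algebra which is unipotent in the fixed-vector sense (the
coordinate ring of a unipotent group U), coacting multiplicatively on a finitely generated
commutative k-algebra R (an action of U on the affine scheme Spec R). Then an element f of R is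
invariant if and only if, for every ε-derivation ξ : A → k (every element of the Lie algebra of U),
applying ξ to the A-factor of the coaction of f gives zero (the infinitesimal action of ξ kills f). -/
theorem result
    (k : Type u) [Field k] [IsAlgClosed k] [CharZero k]
    (A : Type u) [CommRing A] [HopfAlgebra k A] [Algebra.FiniteType k A] (hU : HopfRep.IsUnipotent k A)
    (R : Type u) [CommRing R] [Algebra k R] [Algebra.FiniteType k R]
    [HopfRep.Comod k A R] [GLin.IsCoactAlg k A R] (f : R) :
    f ∈ GLin.invariants k A R ↔
      ∀ ξ : LieHopf.Lie k A,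
        LinearMap.lTensor R (ξ.toLinearMap.restrictScalars k) (HopfRep.Comod.coact (k := k) (A := A) f) = 0 := by
  constructor
  · intro hf ξ
    rw [(GLin.mem_invariants_iff k A R f).mp hf, LinearMap.lTensor_tmul]
    have h1 : (ξ.toLinearMap.restrictScalars k) (1 : A) = 0 := ξ.map_one_eq_zero
    rw [h1, TensorProduct.tmul_zero]
  · intro hf
    let Φ : R →ₗ[k] R ⊗[k] A :=
      HopfRep.Comod.coact (k := k) (A := A) - (TensorProduct.mk k R A).flip 1
    let M := {g : R // ∀ ξ : LieHopf.Lie k A, Groth.Agent.UnipLie23.act (A := A) ξ g = 0}
    have key : ∀ g : M, Φ g.1 = 0 := by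
      refine Groth.Agent.UnipLie23.eq_zero_of_derivation_closed hU (fun g : M => Φ g.1) (fun g => ?_) (fun ξ g => ?_)
      · simp only [Φ, LinearMap.sub_apply, map_sub, Groth.Agent.UnipLie23.counit_coact]
        simp
      · refine ⟨⟨0, fun η => map_zero _⟩, ?_⟩
        simp only [Φ, LinearMap.sub_apply, map_sub, Groth.Agent.UnipLie23.invDer_coact, g.2 ξ, map_zero, zero_sub, sub_zero]
        have h1 : Groth.Agent.UnipLie23.invDer ξ (1 : A) = 0 := by
          have h2 := Groth.Agent.UnipLie23.invDer_mul ξ (1 : A) 1
          simp only [mul_one, one_mul] at h2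
          exact left_eq_add.mp h2
        simp [h1]
    have hf' : ∀ ξ : LieHopf.Lie k A, Groth.Agent.UnipLie23.act (A := A) ξ f = 0 := fun ξ => by
      have := congrArg (TensorProduct.rid k R) (show LinearMap.lTensor R (ξ.toLinearMap.restrictScalars k : A →ₗ[k] k)
        (HopfRep.Comod.coact (k := k) (A := A) f) = 0 from hf ξ)
      exact this.trans (map_zero _)
    exact (GLin.mem_invariants_iff k A R f).mpr (sub_eq_zero.mp (key ⟨f, hf'⟩))
end Groth.Agent.S18987
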