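import Groth.Statements.S18988
import Groth.Agent.Lib.UnipLie23.Basic
-- import your own Groth.Agent.* helpers here

set_option autoImplicit false
universe u
open TensorProduct
open HopfRep

namespace Groth.Agent.S18988

/-- In Hopf-algebra form, over an algebraically closed field k of characteristic zero, let A be a
finitely generated commutative Hopf algebra which is unipotent in the fixed-vector sense (the
coordinate ring of a unipotent group U), coacting multiplicatively on a finitely generated
commutative k-algebra R. Then a k-subspace V of R is a subcomodule (is invariant under U) if and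
only if it is stable under the infinitesimal action of every ε-derivation ξ : A → k: for every v in
V, applying ξ to the A-factor of the coaction of v gives an element of the image of V ⊗ k in R ⊗ k. -/
theorem result
    (k : Type u) [Field k] [IsAlgClosed k] [CharZero k]
    (A : Type u) [CommRing A] [HopfAlgebra k A] [Algebra.FiniteType k A] (hU : HopfRep.IsUnipotent k A)
    (R : Type u) [CommRing R] [Algebra k R] [Algebra.FiniteType k R]
    [HopfRep.Comod k A R] [GLin.IsCoactAlg k A R] (V : Submodule k R) :
    HopfRep.IsSubcomod (k := k) (A := A) V ↔
      ∀ (ξ : LieHopf.Lie k A) (v : R), v ∈ V →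
        LinearMap.lTensor R (ξ.toLinearMap.restrictScalars k) (HopfRep.Comod.coact (k := k) (A := A) v) ∈
          LinearMap.range (LinearMap.rTensor (LieHopf.K k A) V.subtype) := by
  constructor
  · intro hV ξ v hv
    obtain ⟨w, hw⟩ := hV v hv
    rw [← hw, ← LinearMap.comp_apply, LinearMap.lTensor_comp_rTensor, ← LinearMap.rTensor_comp_lTensor]
    exact ⟨_, rfl⟩
  · intro h v hv
    let π : R →ₗ[k] R ⧸ V := V.mkQ
    have hex : Function.Exact V.subtype π := LinearMap.exact_subtype_mkQ V
    have hc : ∀ v : V, π.rTensor A (HopfRep.Comod.coact (k := k) (A := A) (v : R)) = 0 := by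
      refine Groth.Agent.UnipLie23.eq_zero_of_derivation_closed hU
        (fun v : V => π.rTensor A (HopfRep.Comod.coact (k := k) (A := A) (v : R))) (fun v => ?_) (fun ξ v => ?_)
      · have e : ∀ z : R ⊗[k] A, TensorProduct.rid k (R ⧸ V)
            ((Coalgebra.counit (R := k) (A := A)).lTensor (R ⧸ V) (π.rTensor A z)) =
            π (TensorProduct.rid k R ((Coalgebra.counit (R := k) (A := A)).lTensor R z)) := by
          intro z
          induction z using TensorProduct.induction_on with
          | zero => simp
          | add s t hs ht => simp only [map_add, hs, ht]
          | tmul p q => simp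
        rw [e, Groth.Agent.UnipLie23.counit_coact]
        exact (Submodule.Quotient.mk_eq_zero V).mpr v.2
      · refine ⟨⟨Groth.Agent.UnipLie23.act (A := A) ξ (v : R), ?_⟩, ?_⟩
        · obtain ⟨w, hw⟩ := h ξ v v.2
          have e : Groth.Agent.UnipLie23.act (A := A) ξ (v : R) =
              TensorProduct.rid k R (LinearMap.rTensor k V.subtype w) :=
            congrArg (TensorProduct.rid k R) hw.symm
          rw [e]
          have e2 : ∀ w : V ⊗[k] k, TensorProduct.rid k R (LinearMap.rTensor k V.subtype w) =
              V.subtype (TensorProduct.rid k V w) := by
            intro w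
            induction w using TensorProduct.induction_on with
            | zero => simp
            | add s t hs ht => simp only [map_add, hs, ht]
            | tmul p q => simp
          exact (e2 w).symm ▸ (TensorProduct.rid k V w).2
        · show (Groth.Agent.UnipLie23.invDer ξ).lTensor (R ⧸ V) (π.rTensor A _) = π.rTensor A _
          rw [← LinearMap.comp_apply, LinearMap.lTensor_comp_rTensor, ← LinearMap.rTensor_comp_lTensor,
            LinearMap.comp_apply, Groth.Agent.UnipLie23.invDer_coact]
    exact (rTensor_exact A hex (Submodule.mkQ_surjective V) _).mp (hc ⟨v, hv⟩)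
end Groth.Agent.S18988
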