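import Groth.Statements.S18989
import Groth.Agent.Lib.UnipLie23.Basic
-- import your own Groth.Agent.* helpers here

set_option autoImplicit false
universe u
open TensorProduct
open HopfRep

namespace Groth.Agent.S18989

/-- An action of a unipotent group on an affine scheme is determined by its infinitesimal action. Over
an algebraically closed field k of characteristic zero, let A be a finitely generated commutative
Hopf algebra, unipotent in the fixed-vector sense, coacting multiplicatively on two finitely
generated commutative k-algebras R₁ and R₂, and let e : R₁ → R₂ be an algebra isomorphism which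
intertwines the two infinitesimal actions: for every ε-derivation ξ : A → k and every f in R₁,
applying ξ to the A-factor of the coaction of e(f) equals e ⊗ id applied to the same for f. Then e
intertwines the coactions: the coaction of e(f) is (e ⊗ id) of the coaction of f for all f. (With R₁
= R₂ and e the identity this says that two actions with the same infinitesimal action coincide,
which is the printed assertion.) -/
theorem result
    (k : Type u) [Field k] [IsAlgClosed k] [CharZero k]
    (A : Type u) [CommRing A] [HopfAlgebra k A] [Algebra.FiniteType k A] (hU : HopfRep.IsUnipotent k A)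
    (R₁ R₂ : Type u) [CommRing R₁] [Algebra k R₁] [Algebra.FiniteType k R₁]
    [HopfRep.Comod k A R₁] [GLin.IsCoactAlg k A R₁]
    [CommRing R₂] [Algebra k R₂] [Algebra.FiniteType k R₂]
    [HopfRep.Comod k A R₂] [GLin.IsCoactAlg k A R₂]
    (e : R₁ ≃ₐ[k] R₂)
    (h : ∀ (ξ : LieHopf.Lie k A) (f : R₁),
      LinearMap.lTensor R₂ (ξ.toLinearMap.restrictScalars k) (HopfRep.Comod.coact (k := k) (A := A) (e f)) =
        LinearMap.rTensor (LieHopf.K k A) e.toLinearMap
          (LinearMap.lTensor R₁ (ξ.toLinearMap.restrictScalars k) (HopfRep.Comod.coact (k := k) (A := A) f))) :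
    ∀ f : R₁, HopfRep.Comod.coact (k := k) (A := A) (e f) =
      LinearMap.rTensor A e.toLinearMap (HopfRep.Comod.coact (k := k) (A := A) f) := by
  intro f
  refine sub_eq_zero.mp ?_
  refine Groth.Agent.UnipLie23.eq_zero_of_derivation_closed hU
    (fun f : R₁ => HopfRep.Comod.coact (k := k) (A := A) (e f) -
      LinearMap.rTensor A e.toLinearMap (HopfRep.Comod.coact (k := k) (A := A) f)) (fun f => ?_) (fun ξ f => ?_) f
  · have e1 : ∀ z : R₁ ⊗[k] A, TensorProduct.rid k R₂
        ((Coalgebra.counit (R := k) (A := A)).lTensor R₂ (LinearMap.rTensor A e.toLinearMap z)) =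
        e (TensorProduct.rid k R₁ ((Coalgebra.counit (R := k) (A := A)).lTensor R₁ z)) := by
      intro z
      induction z using TensorProduct.induction_on with
      | zero => simp
      | add s t hs ht => simp only [map_add, hs, ht]
      | tmul p q => simp
    simp only [map_sub, e1, Groth.Agent.UnipLie23.counit_coact, sub_self]
  · refine ⟨Groth.Agent.UnipLie23.act (A := A) ξ f, ?_⟩
    have h2 : Groth.Agent.UnipLie23.act (A := A) ξ (e f) = e (Groth.Agent.UnipLie23.act (A := A) ξ f) := by
      refine (congrArg (TensorProduct.rid k R₂) (h ξ f)).trans ?_
      show TensorProduct.rid k R₂ (LinearMap.rTensor k e.toLinearMap _) = _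
      have e2 : ∀ z : R₁ ⊗[k] k, TensorProduct.rid k R₂ (LinearMap.rTensor k e.toLinearMap z) =
          e (TensorProduct.rid k R₁ z) := by
        intro z
        induction z using TensorProduct.induction_on with
        | zero => simp
        | add s t hs ht => simp only [map_add, hs, ht]
        | tmul p q => simp
      exact e2 _
    rw [map_sub, Groth.Agent.UnipLie23.invDer_coact, h2, ← LinearMap.comp_apply,
      LinearMap.lTensor_comp_rTensor, ← LinearMap.rTensor_comp_lTensor, LinearMap.comp_apply,
      Groth.Agent.UnipLie23.invDer_coact]
end Groth.Agent.S18989
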