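import Groth.Statements.S18994
import Mathlib.RingTheory.MvPolynomial.Homogeneous
import Mathlib.RingTheory.FiniteType
import Mathlib.RingTheory.Finiteness.Cardinality
import Mathlib.Tactic

set_option autoImplicit false
universe u
open TernForm

namespace Groth.Agent.S18994

/-- Let R be a commutative ring, j ∈ {0, 1, 2}, q a homogeneous polynomial of degree 2 in R[X_0, X_1,
X_2] whose coefficient of X_j^2 is a unit, and n a natural number. Then the family consisting of the
monomials of degree n not divisible by X_j^2 (exponent of X_j at most 1) together with the products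
q · m, m running over the monomials of degree n − 2 (indexed by exponents m with |m| + 2 = n), is
linearly independent over R and spans exactly the homogeneous polynomials of degree n; in particular
it is a basis of that module and the two parts are disjoint. (The published lemma is stated over a
field with the coefficient nonzero, the special case of a field R here; the version over a ring with
the coefficient invertible is what its change-of-basis argument gives — ordering monomials by
decreasing exponent of X_j makes the matrix triangular with diagonal entries 1 and that coefficient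
— and is the form used to trivialise the bundle of degree-n forms modulo multiples of q over the
locus where the coefficient is invertible. The published lemma also allows an arbitrary monomial of
degree 2 in place of X_j^2; for the mixed monomial X_1X_2, the form q = X_1^2 + X_1X_2 + X_2^2 and n
= 3 give the linear relation q·X_1 − q·X_2 = X_1^3 − X_2^3 among members of the family, so the claim
fails there and is stated here for the square of a variable.) -/
theorem result
    (R : Type u) [CommRing R] (j : Fin 3) (q : MvPolynomial (Fin 3) R)
    (hq : q.IsHomogeneous 2) (hqj : IsUnit (q.coeff (Finsupp.single j 2))) (n : ℕ) :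
    LinearIndependent R (Sum.elim (fun m : {m : Fin 3 →₀ ℕ // m.degree = n ∧ m j < 2} => MvPolynomial.monomial m.1 (1 : R)) (fun m : {m : Fin 3 →₀ ℕ // m.degree + 2 = n} => q * MvPolynomial.monomial m.1 (1 : R))) ∧
      Submodule.span R (Set.range (Sum.elim (fun m : {m : Fin 3 →₀ ℕ // m.degree = n ∧ m j < 2} => MvPolynomial.monomial m.1 (1 : R)) (fun m : {m : Fin 3 →₀ ℕ // m.degree + 2 = n} => q * MvPolynomial.monomial m.1 (1 : R)))) = MvPolynomial.homogeneousSubmodule (Fin 3) R n := by
  classical
  let B := {α : Fin 3 →₀ ℕ // α.degree = n}
  haveI : Finite B := ((Finset.finsuppAntidiag (Finset.univ : Finset (Fin 3)) n).finite_toSet.subset fun α (hα : α.degree = n) => by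
    rw [Finset.mem_coe, Finset.mem_finsuppAntidiag]
    refine ⟨?_, Finset.subset_univ _⟩
    rw [← hα, Finsupp.degree_apply]
    exact (Finset.sum_subset (Finset.subset_univ _) fun i _ hi => Finsupp.notMem_support_iff.mp hi).symm).to_subtype
  set F := Sum.elim (fun m : {m : Fin 3 →₀ ℕ // m.degree = n ∧ m j < 2} => MvPolynomial.monomial m.1 (1 : R)) (fun m : {m : Fin 3 →₀ ℕ // m.degree + 2 = n} => q * MvPolynomial.monomial m.1 (1 : R)) with hF
  have hle : Submodule.span R (Set.range F) ≤ MvPolynomial.homogeneousSubmodule (Fin 3) R n := by
    rw [Submodule.span_le]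
    rintro _ ⟨m | m, rfl⟩
    · exact MvPolynomial.isHomogeneous_monomial _ m.2.1
    · have := hq.mul (MvPolynomial.isHomogeneous_monomial (1 : R) (rfl : m.1.degree = m.1.degree))
      rw [show 2 + m.1.degree = n by have := m.2; omega] at this
      exact this
  have hmon : ∀ (e : ℕ) (α : Fin 3 →₀ ℕ), α j = e → α.degree = n →
      MvPolynomial.monomial α (1 : R) ∈ Submodule.span R (Set.range F) := by
    intro e
    induction e using Nat.strong_induction_on with
    | _ e ih =>
      intro α hαj hα
      by_cases he : α j < 2
      · exact Submodule.subset_span ⟨Sum.inl ⟨α, hα, he⟩, rfl⟩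
      · obtain ⟨m, hm⟩ : ∃ m, α = m + Finsupp.single j 2 := ⟨α - Finsupp.single j 2, by
          refine Finsupp.ext fun i => ?_
          rw [Finsupp.add_apply, Finsupp.tsub_apply, Finsupp.single_apply]
          split_ifs with h
          · subst h; omega
          · omega⟩
        have hmdeg : m.degree + 2 = n := by rw [← hα, hm, map_add, Finsupp.degree_single]
        have hsum : q * MvPolynomial.monomial m (1 : R) = MvPolynomial.coeff (Finsupp.single j 2) q • MvPolynomial.monomial α (1 : R) +
            ∑ β ∈ q.support.erase (Finsupp.single j 2), MvPolynomial.coeff β q • MvPolynomial.monomial (m + β) (1 : R) := by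
          have hbig : q * MvPolynomial.monomial m (1 : R) = ∑ β ∈ insert (Finsupp.single j 2) q.support,
              MvPolynomial.coeff β q • MvPolynomial.monomial (m + β) (1 : R) := by
            conv_lhs => rw [q.as_sum, Finset.sum_mul]
            rw [Finset.sum_subset (Finset.subset_insert _ _) fun β _ hβ => by
              rw [MvPolynomial.notMem_support_iff.mp hβ, map_zero, zero_mul]]
            refine Finset.sum_congr rfl fun β _ => ?_
            rw [MvPolynomial.monomial_mul, MvPolynomial.smul_monomial, smul_eq_mul, add_comm β m]
          rw [hbig, ← Finset.add_sum_erase _ _ (Finset.mem_insert_self _ _), ← hm]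
          congr 1
          refine Finset.sum_congr ?_ fun _ _ => rfl
          ext β; simp +contextual
        obtain ⟨c, hc⟩ := hqj.exists_left_inv
        have hα' : MvPolynomial.monomial α (1 : R) = c • (q * MvPolynomial.monomial m (1 : R) -
            ∑ β ∈ q.support.erase (Finsupp.single j 2), MvPolynomial.coeff β q • MvPolynomial.monomial (m + β) (1 : R)) := by
          rw [hsum, add_sub_cancel_right, smul_smul, hc, one_smul]
        rw [hα']
        refine Submodule.smul_mem _ _ (sub_mem (Submodule.subset_span ⟨Sum.inr ⟨m, hmdeg⟩, rfl⟩) (Submodule.sum_mem _ fun β hβ => ?_))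
        rw [Finset.mem_erase] at hβ
        have hβ2 : β.degree = 2 := by
          have := hq (MvPolynomial.mem_support_iff.mp hβ.2); rwa [Finsupp.degree_eq_weight_one]
        have hβj : β j ≤ 1 := by
          by_contra hlt
          apply hβ.1
          rw [Finsupp.degree_eq_sum] at hβ2
          refine Finsupp.ext fun i => ?_
          rw [Finsupp.single_apply]
          have h3 := Fin.sum_univ_three (fun i => β i)
          fin_cases j <;> fin_cases i <;> simp at h3 hlt ⊢ <;> omega
        refine Submodule.smul_mem _ _ (ih _ ?_ _ rfl (by rw [map_add, hβ2, hmdeg]))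
        rw [← hαj, hm, Finsupp.add_apply, Finsupp.add_apply, Finsupp.single_eq_same]
        omega
  have hspan : Submodule.span R (Set.range F) = MvPolynomial.homogeneousSubmodule (Fin 3) R n := by
    refine le_antisymm hle fun x hx => ?_
    rw [x.as_sum]
    refine Submodule.sum_mem _ fun α hα => ?_
    rw [show MvPolynomial.monomial α (MvPolynomial.coeff α x) = MvPolynomial.coeff α x • MvPolynomial.monomial α (1 : R) by
      rw [MvPolynomial.smul_monomial, smul_eq_mul, mul_one]]
    refine Submodule.smul_mem _ _ (hmon _ α rfl ?_)
    have := (MvPolynomial.mem_homogeneousSubmodule n x).mp hx (MvPolynomial.mem_support_iff.mp hα)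
    rwa [Finsupp.degree_eq_weight_one]
  refine ⟨?_, hspan⟩
  let ι' := {m : Fin 3 →₀ ℕ // m.degree = n ∧ m j < 2} ⊕ {m : Fin 3 →₀ ℕ // m.degree + 2 = n}
  let g : ι' → B := Sum.elim (fun m => ⟨m.1, m.2.1⟩) (fun m => ⟨m.1 + Finsupp.single j 2, by rw [map_add, Finsupp.degree_single]; exact m.2⟩)
  have hg : Function.Injective g := by
    rintro (a | a) (b | b) h <;> replace h := congrArg Subtype.val h <;> simp only [g, Sum.elim_inl, Sum.elim_inr] at h
    · exact congrArg Sum.inl (Subtype.ext h)
    · exfalso; have := DFunLike.congr_fun h j; rw [Finsupp.add_apply, Finsupp.single_eq_same] at this; have := a.2.2; omega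
    · exfalso; have := DFunLike.congr_fun h j; rw [Finsupp.add_apply, Finsupp.single_eq_same] at this; have := b.2.2; omega
    · exact congrArg Sum.inr (Subtype.ext (add_right_cancel h))
  let C : MvPolynomial (Fin 3) R →ₗ[R] (B → R) := LinearMap.pi fun β => MvPolynomial.lcoeff R β.1
  let L : (ι' →₀ R) →ₗ[R] (B → R) := C ∘ₗ Finsupp.linearCombination R F
  let φ : (B → R) →ₗ[R] (B → R) :=
    L ∘ₗ (Finsupp.lcomapDomain g hg) ∘ₗ (Finsupp.linearEquivFunOnFinite R R B).symm.toLinearMap
  haveI : Finite ι' := Finite.of_injective g hg
  have hsurjL : Function.Surjective L := by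
    haveI := Fintype.ofFinite B
    intro y
    have hmem : ∑ β : B, y β • MvPolynomial.monomial β.1 (1 : R) ∈ Submodule.span R (Set.range F) :=
      Submodule.sum_mem _ fun β _ => Submodule.smul_mem _ _ (hmon _ _ rfl β.2)
    rw [Finsupp.mem_span_range_iff_exists_finsupp] at hmem
    obtain ⟨l, hl⟩ := hmem
    refine ⟨l, funext fun β => ?_⟩
    rw [show L l = C (Finsupp.linearCombination R F l) from rfl, Finsupp.linearCombination_apply, hl]
    simp only [C, LinearMap.pi_apply, MvPolynomial.lcoeff_apply, MvPolynomial.coeff_sum, MvPolynomial.coeff_smul, MvPolynomial.coeff_monomial]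
    rw [Finset.sum_eq_single β (fun b _ hb => by rw [if_neg (fun h => hb (Subtype.ext h)), smul_zero]) (by simp), if_pos rfl, smul_eq_mul, mul_one]
  have hcs : ∀ l : ι' →₀ R, Finsupp.lcomapDomain (M := R) (R := R) g hg (Finsupp.mapDomain g l) = l := fun l =>
    Finsupp.comapDomain_mapDomain g hg l
  have hφ : Function.Surjective φ := by
    intro y
    obtain ⟨l, rfl⟩ := hsurjL y
    exact ⟨Finsupp.linearEquivFunOnFinite R R B (Finsupp.mapDomain g l), by simp [φ, hcs l]⟩
  have hinj := OrzechProperty.injective_of_surjective_endomorphism φ hφ
  refine linearIndependent_iff.mpr fun l hl => ?_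
  have h0 : φ (Finsupp.linearEquivFunOnFinite R R B (Finsupp.mapDomain g l)) = φ 0 := by
    simp [φ, L, hcs l, hl]
  have := (LinearEquiv.map_eq_zero_iff _).mp (hinj h0)
  exact Finsupp.mapDomain_injective hg (this.trans Finsupp.mapDomain_zero.symm)

end Groth.Agent.S18994
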