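import Groth.Statements.S18995
import Groth.Agent.Lib.KFlat.Pullback
import Groth.Agent.Lib.Residual14.OnePoint
import Groth.Agent.Lib.CurveCoh17.Bases
import Groth.Agent.Lib.Grass.QuotBC

set_option autoImplicit false
set_option backward.isDefEq.respectTransparency false
set_option linter.style.haveILetI false
universe u
open CategoryTheory AlgebraicGeometry
open ProjBd

namespace Groth.Agent.S18995

open CategoryTheory CategoryTheory.Limits AlgebraicGeometry
open Groth.Agent.M2 Groth.Agent.KFlat.Sch
open scoped TensorProduct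

theorem hom_eq_zero {X : Scheme.{u}} {M N : X.Modules} (φ : M ⟶ N)
    (h : ∀ (x : X) (a : M.presheaf.stalk x), (M1.stalkAb x).map φ a = 0) : φ = 0 := by
  refine Scheme.Modules.hom_ext _ _ fun U => ?_
  ext s
  refine (M1.section_ext (φ.app U s) 0 fun x hx => ?_).trans rfl
  rw [← M1.germ_naturality, h, map_zero]

theorem quotBC_map {X F T : Scheme.{u}} {π : F ⟶ X} {E E' : X.Modules} {Q : F.Modules} {g : T ⟶ X} {h : T ⟶ F}
    (hg : h ≫ π = g) (a : E ⟶ E') (q : (Scheme.Modules.pullback π).obj E' ⟶ Q) :
    Grass.quotBC hg ((Scheme.Modules.pullback π).map a ≫ q) =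
      (Scheme.Modules.pullback g).map a ≫ Grass.quotBC hg q := by
  subst hg
  have hn := (Scheme.Modules.pullbackComp h π).inv.naturality a
  simp only [Grass.quotBC, Scheme.Modules.pullbackCongr, eqToIso_refl, Iso.refl_inv, NatTrans.id_app,
    Category.id_comp, Functor.map_comp]
  rw [← Category.assoc, ← Category.assoc]
  exact congrArg (· ≫ _) hn.symm

theorem pullback_map_eq_zero {P T : Scheme.{u}} {A O1 : P.Modules} (hO : FlatMod.IsFinLocFreeOfRank 1 O1)
    (v : A ⟶ O1) (j : T ⟶ P) (hT : ∀ y : T, IsField (T.presheaf.stalk y))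
    (h : ∀ y : T, ¬ Function.Surjective (stk v (j y))) : (Scheme.Modules.pullback j).map v = 0 := by
  refine hom_eq_zero _ fun y a => ?_
  obtain ⟨b, rfl⟩ := (pullStalkEquiv j y A).surjective a
  rw [pullStalkEquiv_naturality]
  refine (congrArg (pullStalkEquiv j y O1) ?_).trans (map_zero _)
  obtain ⟨e⟩ := CurveCoh17.nonempty_stalk_equiv hO (j y)
  let c := e ≪≫ₗ LinearEquiv.funUnique (Fin 1) _ _
  haveI : IsLocalHom (algebraMap (P.presheaf.stalk (j y)) (T.presheaf.stalk y)) :=
    inferInstanceAs (IsLocalHom (j.stalkMap y).hom)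
  have hm : ∀ m, algebraMap (P.presheaf.stalk (j y)) (T.presheaf.stalk y) (c (stk v (j y) m)) = 0 :=
    fun m => by
    by_contra hne
    letI := (hT y).toField
    have hu : IsUnit (c (stk v (j y) m)) :=
      IsUnit.of_map (algebraMap (P.presheaf.stalk (j y)) (T.presheaf.stalk y)) _ (isUnit_iff_ne_zero.2 hne)
    obtain ⟨r, hr⟩ := hu
    refine h y fun z => ⟨(c z * ↑r⁻¹) • m, c.injective ?_⟩
    rw [map_smul, map_smul, ← hr, smul_eq_mul, mul_assoc, Units.inv_mul, mul_one]
  induction b using TensorProduct.induction_on with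
  | zero => exact map_zero _
  | tmul k m =>
    rw [LinearMap.lTensor_tmul, ← c.symm_apply_apply (stk v (j y) m)]
    have e1 : c.symm (c (stk v (j y) m)) = c (stk v (j y) m) • c.symm 1 := by
      rw [← map_smul, smul_eq_mul, mul_one]
    rw [e1, TensorProduct.tmul_smul, ← algebraMap_smul (T.presheaf.stalk y) (c (stk v (j y) m)), hm, zero_smul]
  | add p q hp hq => rw [map_add, hp, hq, add_zero]

/-- Let X be a scheme and 0 → A → E → B → 0 a short exact sequence of finite locally free O_X-modules.
Let (π : P → X, O(1), q) be the projective bundle of rank-one quotients of E and (π_B : P_B → X,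
O_B(1), q_B) that of B, each given through its universal property, and let c : P_B → P be the
morphism over X together with an isomorphism c^*O(1) ≅ O_B(1) identifying c^*q with π_B^*E → π_B^*B
→ O_B(1); thus c is the closed sub-bundle P(B) ⊂ P(E). Then for every open subset W of P that does
not meet the image of c, the restriction to W of the composite π^*A → π^*E → O(1) is an epimorphism
of O_W-modules. Consequently W carries an invertible quotient of the pull-back of A and hence a
morphism to P(A) over X, the projection away from the sub-bundle. (In the convention where a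
projective bundle parametrises lines rather than rank-one quotients, this is the statement that for
an exact sequence 0 → F → E → G → 0 of locally free sheaves the tautological line sub-bundle of E
restricted to the complement of P(F) in P(E) maps isomorphically onto a line sub-bundle of the
pull-back of G, giving the canonical morphism from that complement to P(G); A, E, B here are the
duals of G, E, F there. The published statement takes X of finite type over a field; the row is
stated for an arbitrary scheme X, which the argument allows.) -/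
theorem result
    (X P PB : Scheme.{u}) (S : ShortComplex X.Modules) (hS : S.ShortExact)
    (hA : FlatMod.IsFinLocFree S.X₁) (hE : FlatMod.IsFinLocFree S.X₂) (hB : FlatMod.IsFinLocFree S.X₃)
    (π : P ⟶ X) (O1 : P.Modules) (q : (Scheme.Modules.pullback π).obj S.X₂ ⟶ O1)
    (hP : KRR.IsProjBundle π S.X₂ O1 q)
    (πB : PB ⟶ X) (O1B : PB.Modules) (qB : (Scheme.Modules.pullback πB).obj S.X₃ ⟶ O1B)
    (hPB : KRR.IsProjBundle πB S.X₃ O1B qB)
    (c : PB ⟶ P) (hc : c ≫ π = πB) (ec : (Scheme.Modules.pullback c).obj O1 ≅ O1B)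
    (hcq : (Scheme.Modules.pullbackCongr hc).inv.app S.X₂ ≫ (Scheme.Modules.pullbackComp c π).inv.app S.X₂ ≫
      (Scheme.Modules.pullback c).map q ≫ ec.hom = (Scheme.Modules.pullback πB).map S.g ≫ qB)
    (W : P.Opens) (hW : Disjoint (W : Set P) (Set.range c.base)) :
    Epi ((Scheme.Modules.pullback W.ι).map ((Scheme.Modules.pullback π).map S.f ≫ q)) := by
  haveI := hS.epi_g
  haveI : (Scheme.Modules.pullback W.ι).PreservesEpimorphisms :=
    Functor.preservesEpimorphisms_of_adjunction (Scheme.Modules.pullbackPushforwardAdjunction W.ι)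
  let u₀ := (Scheme.Modules.pullback π).map S.f ≫ q
  refine (M1.epi_iff_stalk _).2 fun w b => ?_
  obtain ⟨t, rfl⟩ := (pullStalkEquiv W.ι w O1).surjective b
  suffices hs : Function.Surjective (stk u₀ (W.ι w)) by
    obtain ⟨a, ha⟩ := LinearMap.lTensor_surjective ((W : Scheme.{_}).presheaf.stalk w) hs t
    exact ⟨pullStalkEquiv W.ι w _ a, (pullStalkEquiv_naturality W.ι u₀ w a).trans (congrArg _ ha)⟩
  by_contra hns
  let j := P.fromSpecResidueField (W.ι w)
  have hj : ∀ y, j y = W.ι w := fun y => Scheme.fromSpecResidueField_apply _ _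
  have hz : (Scheme.Modules.pullback j).map u₀ = 0 := pullback_map_eq_zero hP.invertible u₀ j
    (fun y => Residual14.isField_stalk_of_etale_field (𝟙 (Spec (CommRingCat.of (P.residueField (W.ι w))))) y)
    (fun y => by rw [hj y]; exact hns)
  let g₀ := j ≫ π
  let G := Scheme.Modules.pullback g₀
  haveI : G.PreservesEpimorphisms :=
    Functor.preservesEpimorphisms_of_adjunction (Scheme.Modules.pullbackPushforwardAdjunction g₀)
  haveI : (Scheme.Modules.pullback j).PreservesEpimorphisms :=
    Functor.preservesEpimorphisms_of_adjunction (Scheme.Modules.pullbackPushforwardAdjunction j)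
  haveI := hP.epi
  let s : G.obj S.X₂ ⟶ (Scheme.Modules.pullback j).obj O1 := Grass.quotBC (rfl : j ≫ π = g₀) q
  haveI hsepi : Epi s := by dsimp only [s, Grass.quotBC]; infer_instance
  have hs0 : G.map S.f ≫ s = 0 := by
    show G.map S.f ≫ Grass.quotBC _ q = 0
    rw [← quotBC_map]
    dsimp only [Grass.quotBC]
    rw [show (Scheme.Modules.pullback j).map ((Scheme.Modules.pullback π).map S.f ≫ q) = 0 from hz,
      comp_zero, comp_zero]
  let hC := isColimitCoforkMapOfIsColimit' G S.zero hS.gIsCokernel
  obtain ⟨sB, hsB⟩ := Cofork.IsColimit.desc' hC s (by rw [hs0, zero_comp])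
  haveI : Epi sB := epi_of_epi_fac (show G.map S.g ≫ sB = s from hsB)
  have hL : FlatMod.IsFinLocFreeOfRank 1 ((Scheme.Modules.pullback j).obj O1) :=
    M2.isFinLocFreeOfRank_pullback j hP.invertible
  obtain ⟨h, ⟨hh, e, he⟩, -⟩ := hPB.univ _ g₀ _ hL sB inferInstance
  have hhc : (h ≫ c) ≫ π = g₀ := by rw [Category.assoc, hc, hh]
  have key : h ≫ c = j := by
    refine (hP.univ _ g₀ _ hL s inferInstance).unique ⟨hhc,
      ((Scheme.Modules.pullbackComp h c).app O1).symm ≪≫ (Scheme.Modules.pullback h).mapIso ec ≪≫ e, ?_⟩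
      ⟨rfl, Iso.refl _, by simp [s, g₀, Grass.quotBC]⟩
    have h1 := GrassLib.quotBC_comp (h := h) q hc hh hhc
    have h2 : Grass.quotBC hc q ≫ ec.hom = (Scheme.Modules.pullback πB).map S.g ≫ qB := by
      simpa only [Grass.quotBC, Category.assoc] using hcq
    have h3 : Grass.quotBC hh qB ≫ e.hom = sB := by
      simpa only [Grass.quotBC, Category.assoc] using he
    calc _ = Grass.quotBC hhc q ≫ (((Scheme.Modules.pullbackComp h c).app O1).symm ≪≫
          (Scheme.Modules.pullback h).mapIso ec ≪≫ e).hom := by simp only [Grass.quotBC, Category.assoc]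
      _ = Grass.quotBC hh (Grass.quotBC hc q ≫ ec.hom) ≫ e.hom := by
        rw [h1, GrassLib.quotBC_comp_map]
        simp
      _ = G.map S.g ≫ sB := by rw [h2, quotBC_map, Category.assoc, h3]
      _ = s := hsB
  refine Set.disjoint_left.1 hW w.2 ⟨h (IsLocalRing.closedPoint _), ?_⟩
  have := congrArg (fun φ => φ.base (IsLocalRing.closedPoint _)) key
  exact this.trans (hj _)

end Groth.Agent.S18995
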