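import Groth.Statements.S18999
import Groth.Agent.Lib.SerreDual8.RR
import Groth.Agent.Lib.ProjDual12.CMDuality
import Groth.Agent.Lib.DlzSch27.LCI
import Groth.Agent.Lib.Goren.Basic
import Groth.Agent.Lib.SmDim19.RelDimVariety
import Groth.Agent.Lib.ResGerb16.Basic

set_option backward.isDefEq.respectTransparency false
set_option backward.isDefEq.respectTransparency.types false
set_option maxHeartbeats 1000000

set_option autoImplicit false
universe u
open CategoryTheory CategoryTheory.Limits AlgebraicGeometry
open Surf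

namespace Groth.Agent.S18999

noncomputable local instance instLawS18999 (Y : Scheme.{u}) : PicGrp.Law Y := M2.law Y

theorem stalk_gorenstein {k : Type u} [Field k] {X : Scheme.{u}} (f : X ⟶ Spec (CommRingCat.of k))
    (h : Dual3.IsGorensteinMor f) (x : X) : LocCoh.IsGorensteinLocalRing (X.presheaf.stalk x) := by
  have h2 := ((Goren15.isGorensteinAt_iff f x).1 (h x)).2
  haveI : Ring.KrullDimLE 0 ((Spec (CommRingCat.of k)).presheaf.stalk (f x)) :=
    Ring.krullDimLE_iff.2 (Residual14.isField_stalk_of_subsingleton_field (f x)).le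
  have hf : IsField ((Spec (CommRingCat.of k)).presheaf.stalk (f x)) :=
    Ring.KrullDimLE.isField_of_isReduced (R := (Spec (CommRingCat.of k)).presheaf.stalk (f x))
  have h0 : Ideal.map (f.stalkMap x).hom (IsLocalRing.maximalIdeal _) = ⊥ := by
    rw [IsLocalRing.isField_iff_maximalIdeal_eq.1 hf, Ideal.map_bot]
  haveI := h2
  exact Goren15.isGorensteinLocalRing_of_ringEquiv ((Ideal.quotEquivOfEq h0).trans (RingEquiv.quotientBot _))

/-- Let k be a field and X an integral scheme of dimension two admitting a closed immersion into some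
P^n_k over k, such that X → Spec k is a local complete intersection morphism. Let (ω, t) be a
dualizing sheaf for X — ω coherent, t a k-linear form on H^2(X, ω), such that for every coherent F
and every k-linear form ψ on H^2(X, F) there is exactly one φ : F → ω with ψ = t ∘ H^2(φ) — and
assume ω invertible (as it is, X being Gorenstein). Then for every invertible O_X-module L one has
2χ(L) = (L·L) − (L·ω) + 2χ(O_X), where (A·B) = χ(O_X) − χ(A) − χ(B) + χ(A ⊗ B) is the intersection
number (packaged as FGA.intNum) and all dimensions are over k. (The published statement is for a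
proper two-dimensional variety of local complete intersection over k, with Euler characteristics
over the field of global functions; this row assumes X projective over k and counts dimensions over
k, which multiplies both sides by the same degree.) -/
theorem result (k : Type u) [Field k] (X : Scheme.{u}) [X.Over (Spec (CommRingCat.of k))]
    [IsIntegral X] (hdim : topologicalKrullDim X = 2)
    (hproj : ∃ (n : ℕ) (ι : X ⟶ CohB1.ProjSpace n k), IsClosedImmersion ι ∧ ι ≫ CohB1.ProjSpace.toSpec n k = (X ↘ (Spec (CommRingCat.of k))))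
    (hlci : Dual3.IsLCIMor (X ↘ (Spec (CommRingCat.of k))))
    (ω : X.Modules) (hωcoh : Coh.IsCoh ω) (hωinv : PicF.IsInvertible ω) (t : Coh.HH X ω 2 →ₗ[k] k)
    (hdual : ∀ F : X.Modules, Coh.IsCoh F → ∀ ψ : Coh.HH X F 2 →ₗ[k] k,
        ∃! φ : F ⟶ ω, ∀ x : Coh.HH X F 2,
          ψ x = t (Sheaf.H.map ((SheafOfModules.toSheaf X.ringCatSheaf).map φ) 2 x))
    (L : X.Modules) (hL : PicF.IsInvertible L) :
    2 * Curv2.euler k X L = FGA.intNum k X 2 ![L, L] (Coh.structureModule X) - FGA.intNum k X 2 ![L, ω] (Coh.structureModule X) + 2 * Curv2.euler k X (Coh.structureModule X) := by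
  obtain ⟨n, ι, hι1, hι⟩ := hproj
  haveI := hι1
  haveI := NumPoly18.isProper_of_closedImmersion ι hι
  haveI : IsNoetherian X := CohFound.isNoetherian_of_isProper (X ↘ Spec (CommRingCat.of k))
  have hd2 : topologicalKrullDim X = ((2 : ℕ) : WithBot ℕ∞) := by rw [hdim]; rfl
  haveI : Flat (X ↘ Spec (CommRingCat.of k)) := inferInstance
  have hG := DlzSch27.isGorensteinMor_of_isLCIMor hlci
  have hneg : ∀ p, p < 2 → ProjDual12.NegX ι p := fun p hp => ProjDual12.negX_of_depth ι (fun x hx => by
    haveI := stalk_gorenstein _ hG x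
    have h := (GorenLib.isCohenMacaulayLocalRing_of_gorenstein (S := X.presheaf.stalk x)).supportDim_eq_depth
    rw [Module.supportDim_self_eq_ringKrullDim,
      SmDim19.ringKrullDim_stalk_closed (X ↘ Spec (CommRingCat.of k)) hd2 hx] at h
    exact le_of_eq (WithBot.coe_eq_coe.1 (by exact h))) hp
  have hD : ∀ (c : PicLoc.PicSet X) (p : ℕ), p ≤ 2 →
      HypSq10.hh k p c = HypSq10.hh k (2 - p) (PicGrp.cls ω hωinv * c⁻¹) := fun c p hp => by
    obtain ⟨M, hM, ⟨a⟩⟩ := M2.exists_inverse (HypSq10.rep_inv c)
    have hc : PicGrp.cls M hM = c⁻¹ := by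
      have h := (PicGrp.cls_mul_cls_eq_one_iff (HypSq10.rep_inv c) hM).2 ⟨a⟩
      rw [HypSq10.cls_rep] at h
      exact eq_inv_of_mul_eq_one_right h
    obtain ⟨E⟩ := ProjDual12.nonempty_ext_dual ι t hι hωcoh hdual (s := 2) (fun q hq _ => hneg q hq)
      (Snapper.isCoh_of_isInvertible (HypSq10.rep_inv c)) (i := 2 - p) (by omega) (Nat.add_sub_cancel' hp)
    obtain ⟨e₃⟩ := ProjDual12.nonempty_ext_linearEquiv_HH (k := k)
      (M2.isFinLocFree_of_isInvertible (HypSq10.rep_inv c)) ω (2 - p)
    obtain ⟨j⟩ := ProjDual12.nonempty_ihom_invertible_iso (HypSq10.rep_inv c) (M2.tensorComm _ _ ≪≫ a) ω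
    have h := (e₃ ≪≫ₗ CurveCoh17.hequiv k j (2 - p)).finrank_eq
    rw [E.finrank_eq, Subspace.dual_finrank_eq, HypSq10.finrank_eq_hh (M2.isInvertible_tensor hωinv hM),
      ← AlgEquiv22.cls_tensor hωinv hM, hc] at h
    exact h
  rw [SymSq10.intNum_eq' hd2.le hL hL, SymSq10.intNum_eq' hd2.le hL hωinv, HypSq10.euler_eq_chi hL,
    ← HypSq10.chi_one]
  exact SerreDual8.rr_of_duality hd2.le _ hD _

end Groth.Agent.S18999
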