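import Groth.Statements.S1900
import Groth.Agent.Lib.Cyc26.P1Sub
-- import your own Groth.Agent.* helpers here

set_option autoImplicit false
universe u
open CategoryTheory AlgebraicGeometry
open CategoryTheory.Limits
open Cyc

namespace Groth.Agent.S1900

/-- Let W → P^1_X be a closed immersion with W integral of δ-dimension k + 1 (for the dimension function
on P^1_X induced from δ on X), whose generic point lies neither over the zero section nor over the
section at infinity. Let W_0, W_∞ → X be the pullbacks of W along the two sections X → P^1_X (closed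
subschemes of X). Then [W_0]_k ∼_rat [W_∞]_k on X. A pair (X, δ) with Cyc.IsSetup plays the role of
a scheme locally of finite type over a fixed base with a dimension function (X locally Noetherian
with universally catenary local rings, δ a dimension function), and Cyc.DeltaCompat records that the
dimension function upstairs is the induced one. -/
theorem result (X : Scheme.{u}) (δ : X → ℤ) (hX : Cyc.IsSetup X δ) (δP : ↥(CohB1.ProjSpaceOver 1 X) → ℤ) (hP : Cyc.DeltaCompat (CohB1.ProjSpaceOver.toBase 1 X) δP δ) (k : ℤ) (W : Scheme.{u}) [IsIntegral W] (ι : W ⟶ CohB1.ProjSpaceOver 1 X) [IsClosedImmersion ι] (hW : δP (ι (genericPoint W)) = k + 1) (h0 : ι (genericPoint W) ∉ Set.range ⇑(P1.sect X 0)) (h1 : ι (genericPoint W) ∉ Set.range ⇑(P1.sect X 1)) (α β : AlgebraicCycle X ℤ) (hα : ⇑α = Cyc.subschemeFun δ k (pullback.snd ι (P1.sect X 0))) (hβ : ⇑β = Cyc.subschemeFun δ k (pullback.snd ι (P1.sect X 1))) : Cyc.RatEquiv δ k α β := by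
  haveI := hX.1
  haveI : IsLocallyNoetherian (CohB1.ProjSpaceOver 1 X) :=
    LocallyOfFiniteType.isLocallyNoetherian (CohB1.ProjSpaceOver.toBase 1 X)
  haveI : IsLocallyNoetherian W := LocallyOfFiniteType.isLocallyNoetherian ι
  have hdP : Cyc.IsDimFun (CohB1.ProjSpaceOver 1 X) δP :=
    UCat26.isDimFun_of_deltaCompat (CohB1.ProjSpaceOver.toBase 1 X) hX.2.1 hX.2.2 hP
  refine P1S26.ratEquiv_subscheme X ι hX.2.1 hX.2.2 hP k (fun z => ?_) (fun z hz => ?_) (fun z hass => ?_) α β hα hβ
  · exact (UCat26.delta_le_of_specializes hdP ((genericPoint_specializes z).map ι.continuous)).trans hW.le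
  · have hne : ι z ≠ ι (genericPoint W) := by
      intro e
      rw [e] at hz
      exact hz.elim h0 h1
    have := (hdP (ι (genericPoint W)) (ι z) ((genericPoint_specializes z).map ι.continuous) hne.symm).1
    omega
  · left
    have hbot : IsLocalRing.maximalIdeal (W.presheaf.stalk z) = ⊥ := by
      rw [eq_bot_iff]
      intro r hr
      by_contra hr0
      have h2 : r ∈ ((nonZeroDivisors (W.presheaf.stalk z) : Set (W.presheaf.stalk z)))ᶜ := by
        rw [← biUnion_associatedPrimes_eq_compl_nonZeroDivisors]
        exact Set.mem_biUnion hass hr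
      exact h2 (mem_nonZeroDivisors_of_ne_zero hr0)
    have hz : z = genericPoint W := by
      have hm : genericPoint W ∈ Set.range (W.fromSpecStalk z) := by
        rw [Scheme.range_fromSpecStalk]
        exact genericPoint_specializes z
      obtain ⟨q, hq⟩ := hm
      have hq' : q = IsLocalRing.closedPoint (W.presheaf.stalk z) := by
        apply PrimeSpectrum.ext
        have hle : q.asIdeal ≤ IsLocalRing.maximalIdeal (W.presheaf.stalk z) := IsLocalRing.le_maximalIdeal q.isPrime.ne_top
        rw [hbot, le_bot_iff] at hle
        exact hle.trans hbot.symm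
      rw [← hq, hq', Scheme.fromSpecStalk_closedPoint]
    subst hz
    exact fun h => h.elim h0 h1

end Groth.Agent.S1900
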