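import Mathlib.AlgebraicGeometry.FunctionField
import Mathlib.AlgebraicGeometry.ResidueField
import Mathlib.AlgebraicGeometry.Morphisms.Proper
import Mathlib.AlgebraicGeometry.Morphisms.Finite
import Mathlib.LinearAlgebra.Dimension.Finrank
import Mathlib.RingTheory.IntegralClosure.IntegrallyClosed
import Groth.Agent.Lib.GeomFF26.Regular
import Groth.Agent.Lib.VarDim.Normal
import Groth.Agent.Lib.UnibrConn6.Local
import Mathlib.AlgebraicGeometry.Pullbacks
-- import your own Groth.Agent.* helpers here

namespace FBase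
end FBase

set_option autoImplicit false
universe u
open CategoryTheory CategoryTheory.Limits AlgebraicGeometry
open FBase

namespace Groth.Agent.S19001

open scoped TensorProduct

/-- A geometrically reduced, algebraically closed base field gives divisibility of degrees. -/
theorem dvd_finrank {k' k'' K L : Type u} [Field k'] [Field k''] [Field K] [Field L] [Algebra k' k'']
    [Algebra k' K] [Algebra k' L] [Algebra k'' L] [Algebra K L] [IsScalarTower k' k'' L] [IsScalarTower k' K L]
    [FiniteDimensional k' k''] (hcl : ∀ y : K, IsAlgebraic k' y → y ∈ Set.range (algebraMap k' K))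
    [_root_.IsReduced (k'' ⊗[k'] K)] : Module.finrank k' k'' ∣ Module.finrank K L := by
  have hF : IsField (k'' ⊗[k'] K) :=
    Groth.Agent.GeomFF26.isField_of_purelyInseparable (separableClosure k' k'') k'' K
      (Groth.Agent.GeomFF26.isField_tensor hcl _)
  have hT : IsField (K ⊗[k'] k'') := (Algebra.TensorProduct.comm k' K k'').toMulEquiv.isField hF
  let ψ : K ⊗[k'] k'' →ₐ[K] L := Algebra.TensorProduct.lift (Algebra.ofId K L)
    (IsScalarTower.toAlgHom k' k'' L) fun a b => Commute.all _ _
  letI : Field (K ⊗[k'] k'') := hT.toField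
  letI : Algebra (K ⊗[k'] k'') L := ψ.toRingHom.toAlgebra
  haveI : IsScalarTower K (K ⊗[k'] k'') L := IsScalarTower.of_algebraMap_eq fun a => (ψ.commutes a).symm
  rw [← Module.finrank_mul_finrank K (K ⊗[k'] k'') L, Module.finrank_baseChange]
  exact dvd_mul_right _ _

/-- A normal integral scheme: constants algebraically closed in the residue field at the generic point. -/
theorem exists_eval_eq {X : Scheme.{u}} [IsIntegral X] (hn : ∀ x : X, IsIntegrallyClosed (X.presheaf.stalk x))
    {ξ : X} (hξ : ξ = genericPoint X) {y : X.residueField ξ} (hy : (X.Γevaluation ξ).hom.IsIntegralElem y) :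
    ∃ s, X.Γevaluation ξ s = y := by
  subst hξ
  haveI : Nonempty (⊤ : X.Opens) := ⟨⟨genericPoint X, trivial⟩⟩
  obtain ⟨p, hp, hp0⟩ := hy
  obtain ⟨z, rfl⟩ := X.residue_surjective (genericPoint X) y
  have hinj : Function.Injective (X.residue (genericPoint X)) :=
    RingHom.injective (R := X.functionField) (X.residue (genericPoint X)).hom
  obtain ⟨a, ha⟩ := Groth.Agent.VarDim.exists_section_of_integral hn ⊤ z ⟨p, hp, hinj (by
    rw [map_zero, ← hp0]
    exact Polynomial.hom_eval₂ p _ (X.residue (genericPoint X)).hom z)⟩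
  exact ⟨a, congrArg (X.residue (genericPoint X)) ha⟩

/-- Reduced base change of the residue field at the generic point. -/
theorem isReduced_tensor_residueField {X : Scheme.{u}} [IsIntegral X] (E : Type u) [CommRing E]
    [Algebra Γ(X, ⊤) E]
    [AlgebraicGeometry.IsReduced (pullback X.toSpecΓ (Spec.map (CommRingCat.ofHom (algebraMap Γ(X, ⊤) E))))]
    {ξ : X} (hξ : ξ = genericPoint X) [Algebra Γ(X, ⊤) (X.residueField ξ)]
    (halg : algebraMap Γ(X, ⊤) (X.residueField ξ) = (X.Γevaluation ξ).hom) :
    _root_.IsReduced (E ⊗[Γ(X, ⊤)] X.residueField ξ) := by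
  subst hξ
  obtain ⟨U, hU, hξU, -⟩ := exists_isAffineOpen_mem_and_subset (U := (⊤ : X.Opens)) (x := genericPoint X) trivial
  haveI : Nonempty U := ⟨⟨_, hξU⟩⟩
  let res := X.presheaf.map (homOfLE le_top : U ⟶ ⊤).op
  letI : Algebra Γ(X, ⊤) Γ(X, U) := res.hom.toAlgebra
  letI : Algebra Γ(X, U) (X.residueField (genericPoint X)) :=
    (X.evaluation U (genericPoint X) hξU).hom.toAlgebra
  haveI : IsScalarTower Γ(X, ⊤) Γ(X, U) (X.residueField (genericPoint X)) :=
    IsScalarTower.of_algebraMap_eq fun a => by
      rw [halg]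
      exact (congrArg (X.residue (genericPoint X))
        (TopCat.Presheaf.germ_res_apply X.presheaf (homOfLE le_top : U ⟶ ⊤) _ hξU a)).symm
  let e : X.functionField ≃+* X.residueField (genericPoint X) :=
    RingEquiv.ofBijective (X.residue (genericPoint X)).hom
      ⟨RingHom.injective (R := X.functionField) (X.residue (genericPoint X)).hom, X.residue_surjective _⟩
  haveI := functionField_isFractionRing_of_isAffineOpen X U hU
  haveI : IsLocalization (nonZeroDivisors Γ(X, U)) (X.residueField (genericPoint X)) :=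
    IsLocalization.isLocalization_of_algEquiv _
      (AlgEquiv.ofRingEquiv (f := e) (fun a => rfl) :
        X.functionField ≃ₐ[Γ(X, U)] X.residueField (genericPoint X))
  haveI : _root_.IsReduced (Γ(X, U) ⊗[Γ(X, ⊤)] E) := by
    let g := Spec.map (CommRingCat.ofHom (algebraMap Γ(X, ⊤) E))
    let j := (pullbackRightPullbackFstIso X.toSpecΓ g hU.fromSpec).inv ≫
      pullback.snd hU.fromSpec (pullback.fst X.toSpecΓ g)
    haveI : AlgebraicGeometry.IsReduced (pullback (hU.fromSpec ≫ X.toSpecΓ) g) := isReduced_of_isOpenImmersion j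
    have h : AlgebraicGeometry.IsReduced
        (Spec (CommRingCat.of (Γ(X, U) ⊗[Γ(X, ⊤)] E))) := by
      let i := (pullbackSpecIso Γ(X, ⊤) Γ(X, U) E).inv ≫
        (pullback.congrHom hU.fromSpec_toSpecΓ (Eq.refl g)).inv
      exact isReduced_of_isOpenImmersion i
    exact (affine_isReduced_iff _).mp h
  haveI : _root_.IsReduced (E ⊗[Γ(X, ⊤)] Γ(X, U)) :=
    isReduced_of_injective (Algebra.TensorProduct.comm Γ(X, ⊤) E Γ(X, U))
      (Algebra.TensorProduct.comm Γ(X, ⊤) E Γ(X, U)).injective
  exact Groth.Agent.UnibrConn6.isReduced_tensor_localization (nonZeroDivisors Γ(X, U)) E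

/-- Let f : Z → X be a finite surjective morphism of integral schemes proper over a field k, with X
normal, and let d = [k(Z) : k(X)] be its degree on function fields (the residue fields at the
generic point of Z and at its image, the generic point of X). Write k_X = H^0(X, O_X) and k_Z =
H^0(Z, O_Z) (fields, finite over k). If X is geometrically reduced over k_X — X ×_{k_X} E is reduced
for every field E over k_X, i.e. k(X) is separable over k_X — then [k_Z : k_X] divides d. (The
published statement does not assume that X is geometrically reduced over k_X; without that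
hypothesis the divisibility fails: for k_0 = F_p(s, t), X the normal proper curve with function
field k_0(x, y), y^p = s + t x^p, and Z the projective line over k_0(s^{1/p}, t^{1/p}) mapping to X,
one has d = p but [k_Z : k_X] = p^2.) -/
theorem result (k : Type u) [Field k]
    (X Z : Scheme.{u}) [X.Over (Spec (CommRingCat.of k))] [Z.Over (Spec (CommRingCat.of k))]
    [IsIntegral X] [IsIntegral Z]
    [IsProper (X ↘ Spec (CommRingCat.of k))] [IsProper (Z ↘ Spec (CommRingCat.of k))]
    (hXn : ∀ x : X, IsIntegrallyClosed (X.presheaf.stalk x))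
    (f : Z ⟶ X) (hf : f ≫ (X ↘ Spec (CommRingCat.of k)) = Z ↘ Spec (CommRingCat.of k))
    [IsFinite f] [Surjective f]
    (hgr : ∀ (E : Type u) [Field E] (i : Γ(X, ⊤) →+* E),
      AlgebraicGeometry.IsReduced (pullback X.toSpecΓ (Spec.map (CommRingCat.ofHom i)))) :
    letI := f.appTop.hom.toAlgebra;
    letI := (f.residueFieldMap (genericPoint Z)).hom.toAlgebra;
    Module.finrank Γ(X, ⊤) Γ(Z, ⊤) ∣ Module.finrank (X.residueField (f.base (genericPoint Z))) (Z.residueField (genericPoint Z)) := by
  letI algΓ := f.appTop.hom.toAlgebra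
  letI algKL := (f.residueFieldMap (genericPoint Z)).hom.toAlgebra
  have hgen : f.base (genericPoint Z) = genericPoint X := by
    refine IsGenericPoint.eq (S := Set.univ) ?_ (genericPoint_spec X)
    have h := (genericPoint_spec Z).image f.continuous
    rwa [Set.image_univ, f.surjective.range_eq, closure_univ] at h
  letI aX : Algebra k Γ(X, ⊤) :=
    ((Scheme.ΓSpecIso (CommRingCat.of k)).inv ≫ (X ↘ Spec (CommRingCat.of k)).appTop).hom.toAlgebra
  letI aZ : Algebra k Γ(Z, ⊤) :=
    ((Scheme.ΓSpecIso (CommRingCat.of k)).inv ≫ (Z ↘ Spec (CommRingCat.of k)).appTop).hom.toAlgebra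
  haveI : IsScalarTower k Γ(X, ⊤) Γ(Z, ⊤) := IsScalarTower.of_algebraMap_eq fun a => by
    have h : (Z ↘ Spec (CommRingCat.of k)).appTop = (X ↘ Spec (CommRingCat.of k)).appTop ≫ f.appTop := by
      rw [← Scheme.Hom.comp_appTop, hf]
    show ((Scheme.ΓSpecIso (CommRingCat.of k)).inv ≫ (Z ↘ Spec (CommRingCat.of k)).appTop).hom a = _
    rw [h]
    rfl
  have hfX : (((Scheme.ΓSpecIso (CommRingCat.of k)).inv ≫ (X ↘ Spec (CommRingCat.of k)).appTop).hom).Finite :=
    finite_appTop_of_universallyClosed k (X ↘ Spec (CommRingCat.of k)) |>.comp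
      (RingHom.Finite.of_surjective _ (Scheme.ΓSpecIso (CommRingCat.of k)).symm.commRingCatIsoToRingEquiv.surjective)
  have hfZ : (((Scheme.ΓSpecIso (CommRingCat.of k)).inv ≫ (Z ↘ Spec (CommRingCat.of k)).appTop).hom).Finite :=
    finite_appTop_of_universallyClosed k (Z ↘ Spec (CommRingCat.of k)) |>.comp
      (RingHom.Finite.of_surjective _ (Scheme.ΓSpecIso (CommRingCat.of k)).symm.commRingCatIsoToRingEquiv.surjective)
  haveI : Nonempty (⊤ : X.Opens) := ⟨⟨genericPoint X, trivial⟩⟩
  haveI : Nonempty (⊤ : Z.Opens) := ⟨⟨genericPoint Z, trivial⟩⟩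
  haveI : IsDomain Γ(X, ⊤) := IsIntegral.component_integral _
  haveI : IsDomain Γ(Z, ⊤) := IsIntegral.component_integral _
  haveI : Module.Finite k Γ(X, ⊤) := hfX
  haveI : Module.Finite k Γ(Z, ⊤) := hfZ
  letI : Field Γ(X, ⊤) := fieldOfFiniteDimensional k Γ(X, ⊤)
  letI : Field Γ(Z, ⊤) := fieldOfFiniteDimensional k Γ(Z, ⊤)
  haveI : Module.Finite Γ(X, ⊤) Γ(Z, ⊤) := Module.Finite.of_restrictScalars_finite k _ _
  letI : Algebra Γ(X, ⊤) (X.residueField (f.base (genericPoint Z))) := (X.Γevaluation _).hom.toAlgebra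
  letI : Algebra Γ(Z, ⊤) (Z.residueField (genericPoint Z)) := (Z.Γevaluation _).hom.toAlgebra
  letI : Algebra Γ(X, ⊤) (Z.residueField (genericPoint Z)) :=
    (f.appTop ≫ Z.Γevaluation (genericPoint Z)).hom.toAlgebra
  haveI : IsScalarTower Γ(X, ⊤) Γ(Z, ⊤) (Z.residueField (genericPoint Z)) :=
    IsScalarTower.of_algebraMap_eq fun _ => rfl
  haveI : IsScalarTower Γ(X, ⊤) (X.residueField (f.base (genericPoint Z))) (Z.residueField (genericPoint Z)) :=
    IsScalarTower.of_algebraMap_eq fun a => (Scheme.Γevaluation_naturality_apply f (genericPoint Z) a).symm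
  haveI := hgr Γ(Z, ⊤) f.appTop.hom
  haveI : _root_.IsReduced (Γ(Z, ⊤) ⊗[Γ(X, ⊤)] X.residueField (f.base (genericPoint Z))) :=
    @isReduced_tensor_residueField X _ Γ(Z, ⊤) _ _ this _ hgen _ rfl
  exact dvd_finrank fun y hy => exists_eval_eq hXn hgen hy.isIntegral

end Groth.Agent.S19001
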