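import Groth.Statements.S19004
import Mathlib.LinearAlgebra.Vandermonde
import Mathlib.Algebra.BigOperators.Fin

set_option autoImplicit false
open GIT

namespace Groth.Agent.S19004

open Finset in
lemma prod_pairwise_eq (n : ℕ) {R : Type*} [CommRing R] (v : Fin n → R) :
    ∏ i, ∏ j ∈ univ.erase i, (v i - v j) =
      (Equiv.Perm.sign (Fin.revPerm (n := n)) : ℤ) * (Matrix.vandermonde v).det * (Matrix.vandermonde v).det := by
  classical
  have hsplit : ∀ i : Fin n, ∏ j ∈ univ.erase i, (v i - v j) = (∏ j ∈ Iio i, (v i - v j)) * ∏ j ∈ Ioi i, (v i - v j) := by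
    intro i
    rw [← prod_union (by simp [disjoint_left]; omega)]
    congr 1; ext j; simp
  simp_rw [hsplit, prod_mul_distrib]
  have h1 : ∏ i, ∏ j ∈ Iio i, (v i - v j) = (Matrix.vandermonde v).det := by
    rw [Matrix.det_vandermonde]
    exact prod_comm' (by simp)
  have h2 : ∏ i, ∏ j ∈ Ioi i, (v i - v j) = (Matrix.vandermonde (v ∘ Fin.rev)).det := by
    rw [Matrix.det_vandermonde]
    have : ∏ i, ∏ j ∈ Ioi i, (v i - v j) = ∏ i : Fin n, ∏ j ∈ Iio i, (v j - v i) := prod_comm' (by simp)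
    rw [this]
    refine Fintype.prod_equiv Fin.revPerm _ _ fun i => ?_
    refine prod_equiv Fin.revPerm (fun j => ?_) (fun j _ => ?_)
    · simp
    · simp
  have h3 : (Matrix.vandermonde (v ∘ Fin.rev)).det = (Equiv.Perm.sign (Fin.revPerm (n := n)) : ℤ) * (Matrix.vandermonde v).det := by
    rw [← Matrix.det_permute]; rfl
  rw [h1, h2, h3]; ring

open Finset in
lemma coeff_det_vandermonde_sq (n : ℕ) :
    MvPolynomial.coeff (Finsupp.equivFunOnFinite.symm (fun _ : Fin n => n - 1))
      ((Matrix.vandermonde (MvPolynomial.X : Fin n → MvPolynomial (Fin n) ℤ)).det *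
        (Matrix.vandermonde (MvPolynomial.X : Fin n → MvPolynomial (Fin n) ℤ)).det) =
      (Equiv.Perm.sign (Fin.revPerm (n := n)) : ℤ) * n.factorial := by
  classical
  have hd : (Matrix.vandermonde (MvPolynomial.X : Fin n → MvPolynomial (Fin n) ℤ)).det =
      ∑ σ : Equiv.Perm (Fin n), MvPolynomial.C ((Equiv.Perm.sign σ : ℤˣ) : ℤ) * ∏ i, MvPolynomial.X i ^ ((σ i : Fin n) : ℕ) := by
    rw [← Matrix.det_transpose, Matrix.det_apply']
    refine sum_congr rfl fun σ _ => ?_
    simp [Matrix.vandermonde]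
  rw [hd, Finset.sum_mul_sum, MvPolynomial.coeff_sum]
  have : ∀ σ τ : Equiv.Perm (Fin n), MvPolynomial.coeff (Finsupp.equivFunOnFinite.symm (fun _ : Fin n => n - 1))
      (MvPolynomial.C ((Equiv.Perm.sign σ : ℤˣ) : ℤ) * (∏ i, MvPolynomial.X i ^ ((σ i : Fin n) : ℕ)) *
        (MvPolynomial.C ((Equiv.Perm.sign τ : ℤˣ) : ℤ) * (∏ i, MvPolynomial.X i ^ ((τ i : Fin n) : ℕ)))) =
      if τ = σ.trans Fin.revPerm then ((Equiv.Perm.sign σ : ℤˣ) : ℤ) * ((Equiv.Perm.sign τ : ℤˣ) : ℤ) else 0 := by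
    intro σ τ
    rw [show ∀ a b c d : MvPolynomial (Fin n) ℤ, a * b * (c * d) = a * c * (b * d) by intros; ring,
      ← map_mul, ← prod_mul_distrib]
    simp_rw [← pow_add]
    rw [MvPolynomial.coeff_C_mul, MvPolynomial.coeff_prod_X_pow, mul_ite, mul_one, mul_zero]
    refine if_congr ?_ rfl rfl
    rw [DFunLike.ext_iff, Equiv.ext_iff]
    refine forall_congr' fun i => ?_
    simp only [Finsupp.equivFunOnFinite_symm_apply_apply, Finsupp.indicator_apply, mem_univ, dite_true,
      Equiv.trans_apply, Fin.revPerm_apply, Fin.ext_iff, Fin.val_rev]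
    omega
  simp_rw [MvPolynomial.coeff_sum, this, sum_ite_eq', mem_univ, if_true]
  have hs : ∀ σ : Equiv.Perm (Fin n), ((Equiv.Perm.sign σ : ℤˣ) : ℤ) * ((Equiv.Perm.sign (σ.trans Fin.revPerm) : ℤˣ) : ℤ) = (Equiv.Perm.sign (Fin.revPerm (n := n)) : ℤ) := by
    intro σ
    rw [Equiv.Perm.sign_trans, Units.val_mul, mul_comm, mul_assoc, ← Units.val_mul, Int.units_mul_self, Units.val_one, mul_one]
  rw [Finset.sum_congr rfl fun σ _ => hs σ]
  simp [Fintype.card_perm, mul_comm]


/-- For the group PGL(n) acting on the space of n × n matrices the T-quotient is (P^{n−1})^n with Chow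
ring ℚ[t_1,…,t_n]/(t_1^n,…,t_n^n), the class c_top(g/t) is the product of all roots t_i − t_j (i ≠
j), and the computation in the proof shows that this product equals n!·t_1^{n−1}⋯t_n^{n−1} in that
ring. Stated here as the equivalent coefficient identity in ℤ[t_1,…,t_n]: the coefficient of
t_1^{n−1}⋯t_n^{n−1} in the product over ordered pairs i ≠ j of (t_i − t_j) is n!. -/
theorem result (n : ℕ) :
    MvPolynomial.coeff (Finsupp.equivFunOnFinite.symm (fun _ : Fin n => n - 1))
      (∏ i : Fin n, ∏ j ∈ Finset.univ.erase i, (MvPolynomial.X i - MvPolynomial.X j : MvPolynomial (Fin n) ℤ)) = (n.factorial : ℤ) := by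
  rw [prod_pairwise_eq, mul_assoc, ← map_intCast (MvPolynomial.C : ℤ →+* MvPolynomial (Fin n) ℤ), MvPolynomial.coeff_C_mul, coeff_det_vandermonde_sq]
  rw [Int.cast_id, ← mul_assoc, ← Units.val_mul, Int.units_mul_self, Units.val_one, one_mul]

end Groth.Agent.S19004
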