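import Groth.Statements.S19005
import Mathlib.Tactic.Abel
import Mathlib.Tactic.Linarith
import Mathlib.Tactic.Ring

set_option autoImplicit false
open scoped TensorProduct
open K2Cent

namespace Groth.Agent.S19005

/-- For abelian groups X and M and ε in M with 2ε = 0 (in the source X is the character group of a split
torus and ε is the class of −1 among the units), the map x ↦ (x ⊗ x, −(x ⊗ ε)) into (X ⊗ X) × (X ⊗
M) is quadratic over ℤ, i.e. it underlies an integer quadratic map with exactly these values. -/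
theorem result (X M : Type*) [AddCommGroup X]
    [AddCommGroup M] (ε : M) (hε : 2 • ε = 0) :
    ∃ R : QuadraticMap ℤ X (TensorProduct ℤ X X × TensorProduct ℤ X M),
      ∀ x : X, R x = (x ⊗ₜ[ℤ] x, -(x ⊗ₜ[ℤ] ε)) := by
  have hsc : ∀ (a : ℤ) (z : TensorProduct ℤ X M), 2 • z = 0 → a • z = (a * a) • z := by
    intro a z hz
    obtain ⟨k, hk⟩ := Int.even_mul_pred_self a
    have : a * a = a + k * 2 := by linarith [mul_sub a a 1]
    rw [this, add_smul, mul_smul, show (2 : ℤ) • z = 0 by rw [← hz]; exact natCast_zsmul z 2, smul_zero, add_zero]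
  have h2 : ∀ x : X, 2 • (-(x ⊗ₜ[ℤ] ε) : TensorProduct ℤ X M) = 0 := by
    intro x
    rw [smul_neg, ← TensorProduct.tmul_smul, hε, TensorProduct.tmul_zero, neg_zero]
  refine ⟨{ toFun := fun x => (x ⊗ₜ[ℤ] x, -(x ⊗ₜ[ℤ] ε))
            toFun_smul := ?_
            exists_companion' := ⟨LinearMap.mk₂ ℤ (fun x y => ((x ⊗ₜ[ℤ] y + y ⊗ₜ[ℤ] x : TensorProduct ℤ X X), (0 : TensorProduct ℤ X M))) ?_ ?_ ?_ ?_, ?_⟩ }, fun x => rfl⟩
  · intro a x
    refine Prod.ext ?_ ?_
    · show (a • x) ⊗ₜ[ℤ] (a • x) = (a * a) • (x ⊗ₜ[ℤ] x)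
      rw [← TensorProduct.smul_tmul', TensorProduct.tmul_smul, smul_smul]
    · show -((a • x) ⊗ₜ[ℤ] ε) = (a * a) • -(x ⊗ₜ[ℤ] ε)
      rw [← hsc a _ (h2 x), smul_neg, TensorProduct.smul_tmul']
  · intro a b c; simp [TensorProduct.add_tmul, TensorProduct.tmul_add]; abel
  · intro a b c; simp [← TensorProduct.smul_tmul', TensorProduct.tmul_smul, smul_add]
  · intro a b c; simp [TensorProduct.add_tmul, TensorProduct.tmul_add]; abel
  · intro a b c; simp [← TensorProduct.smul_tmul', TensorProduct.tmul_smul, smul_add]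
  · intro x y
    refine Prod.ext ?_ ?_ <;> simp [TensorProduct.add_tmul, TensorProduct.tmul_add] <;> abel

end Groth.Agent.S19005
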