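import Groth.Statements.S19007
import Groth.Agent.Lib.RootD.Quad
-- import your own Groth.Agent.* helpers here

set_option autoImplicit false
universe u v w x
open RootD

namespace Groth.Agent.S19007

/-- Let P be a finite reduced crystallographic root pairing over an integral domain of characteristic
zero, b a base of P (a system of simple roots) and Q a quadratic form on the coweight module with
polar form B. Then Q is invariant under all root reflections (equivalently under the Weyl group) on
the span of the coroots if and only if for all pairs of distinct simple roots α_i ≠ α_j one has
B(α_i^∨, α_j^∨) = ⟨α_j, α_i^∨⟩ Q(α_j^∨). (In the source the form is integer-valued on the lattice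
spanned by the coroots and the condition says that the bilinear form lies in the kernel of the last
map of a three-term complex built from the Bruhat cells of codimension at most two; here the form
takes values in the base ring.) -/
theorem result {ι : Type u} {R : Type v} {M : Type w} {N : Type x} [CommRing R] [IsDomain R] [CharZero R]
    [AddCommGroup M] [Module R M] [AddCommGroup N] [Module R N] (P : RootPairing ι R M N)
    [Finite ι] [P.IsCrystallographic] [P.IsReduced] (b : P.Base) (Q : QuadraticMap R N R) :
    (∀ i : ι, ∀ y ∈ Submodule.span R (Set.range P.coroot), Q (P.coreflection i y) = Q y) ↔
      ∀ i ∈ b.support, ∀ j ∈ b.support, i ≠ j →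
        QuadraticMap.polar Q (P.coroot i) (P.coroot j) = P.pairing j i * Q (P.coroot j) := by
  constructor
  · intro h i hi j hj _
    rw [Groth.Agent.RootQuad.polar_of_invariant P Q _ (Submodule.subset_span (Set.mem_range_self j))
      (h j) (Submodule.subset_span (Set.mem_range_self i))]
    rfl
  · intro h
    refine Groth.Agent.RootQuad.invariant_all Q b _ (fun i => Submodule.subset_span (Set.mem_range_self i)) ?_
    intro j hj y hy
    refine Groth.Agent.RootQuad.invariant_of_polar P Q ?_
    have hy' : y ∈ Submodule.span R (P.coroot '' (b.support : Set ι)) := by
      have hle : Submodule.span R (Set.range P.coroot) ≤ Submodule.span R (P.coroot '' (b.support : Set ι)) :=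
        Submodule.span_le.2 (by
          rintro _ ⟨k, rfl⟩
          exact Submodule.span_le_restrictScalars ℤ R _ (b.coroot_mem_span_int k))
      exact hle hy
    induction hy' using Submodule.span_induction with
    | mem z hz =>
      obtain ⟨i, hi, rfl⟩ := hz
      rcases eq_or_ne i j with rfl | hne
      · rw [QuadraticMap.polar_self, Groth.Agent.RootQuad.root'_coroot_self, nsmul_eq_mul]
        norm_num
      · exact h i hi j hj hne
    | zero => simp
    | add a c ha hc iha ihc =>
      have hle : Submodule.span R (P.coroot '' (b.support : Set ι)) ≤ Submodule.span R (Set.range P.coroot) :=
        Submodule.span_mono (Set.image_subset_range _ _)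
      rw [QuadraticMap.polar_add_left, iha (hle ha), ihc (hle hc), map_add, add_mul]
    | smul r a ha iha =>
      have hle : Submodule.span R (P.coroot '' (b.support : Set ι)) ≤ Submodule.span R (Set.range P.coroot) :=
        Submodule.span_mono (Set.image_subset_range _ _)
      rw [QuadraticMap.polar_smul_left, iha (hle ha), map_smul, smul_eq_mul, smul_eq_mul, mul_assoc]

end Groth.Agent.S19007
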