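import Groth.Statements.S19008
import Mathlib.Data.Real.Sqrt
import Mathlib.LinearAlgebra.RootSystem.CartanMatrix
import Mathlib.LinearAlgebra.Matrix.ToLinearEquiv
import Mathlib.Tactic

set_option autoImplicit false
universe u v w x
open RootD

namespace Groth.Agent.S19008

lemma cartanDiag_exists {κ : Type*} (a : κ → κ → ℤ) (d : κ → κ → ℤ) (V : Finset κ)
    (hsym : ∀ i ∈ V, ∀ j ∈ V, i ≠ j → a i j = 0 → a j i = 0)
    (hd : ∀ i ∈ V, ∀ j ∈ V, i ≠ j → a i j = 0 → d i j = d j i)
    (hgood : ∀ S : Finset κ, S ⊆ V → S.Nonempty → ∃ v ∈ S, ∀ u ∈ S, u ≠ v → a v u ≠ 0 →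
      a v u = -1 ∧ ∀ w ∈ S, w ≠ v → a v w ≠ 0 → w = u) :
    ∃ C : κ → κ → ℤ, ∀ i ∈ V, ∀ j ∈ V, i ≠ j → C i j + C j i - a j i * C j j = d i j := by
  classical
  induction V using Finset.strongInduction with
  | _ V ih =>
    rcases V.eq_empty_or_nonempty with rfl | hne
    · exact ⟨fun _ _ => 0, by simp⟩
    obtain ⟨v, hv, hvg⟩ := hgood V le_rfl hne
    obtain ⟨C, hC⟩ := ih (V.erase v) (Finset.erase_ssubset hv)
      (fun i hi j hj => hsym i (Finset.mem_of_mem_erase hi) j (Finset.mem_of_mem_erase hj))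
      (fun i hi j hj => hd i (Finset.mem_of_mem_erase hi) j (Finset.mem_of_mem_erase hj))
      (fun S hS => hgood S (hS.trans (Finset.erase_subset _ _)))
    by_cases hn : ∃ u ∈ V, u ≠ v ∧ a v u ≠ 0
    · obtain ⟨u, hu, huv, hau⟩ := hn
      obtain ⟨h1, huniq⟩ := hvg u hu huv hau
      refine ⟨fun i j => if i = v then (if j = v then d u v - (d v u + a u v * C u u) else
        if j = u then d v u + a u v * C u u else d v j) else (if j = v then 0 else C i j), fun i hi j hj hij => ?_⟩
      by_cases hiv : i = v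
      · subst hiv
        have hjv : j ≠ i := Ne.symm hij
        by_cases hju : j = u
        · subst hju; simp [hjv]
        · have h0 : a i j = 0 := by
            by_contra h; exact hju (huniq j hj hjv h)
          simp [hjv, hju, hsym i hi j hj hij h0]
      · by_cases hjv : j = v
        · subst hjv
          by_cases hiu : i = u
          · subst hiu; simp [hij, Ne.symm hij, h1] <;> ring
          · have h0 : a j i = 0 := by
              by_contra h; exact hiu (huniq i hi hij h)
            simp [hij, hiu, h0, hd j hj i hi (Ne.symm hij) h0]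
        · simp only [if_neg hiv, if_neg hjv]
          exact hC i (Finset.mem_erase.mpr ⟨hiv, hi⟩) j (Finset.mem_erase.mpr ⟨hjv, hj⟩) hij
    · push Not at hn
      refine ⟨fun i j => if i = v then (if j = v then 0 else d v j) else (if j = v then 0 else C i j), fun i hi j hj hij => ?_⟩
      by_cases hiv : i = v
      · subst hiv
        simp [Ne.symm hij, hsym i hi j hj hij (hn j hj (Ne.symm hij))]
      · by_cases hjv : j = v
        · subst hjv
          have h0 := hn i hi hij
          simp [hij, h0, hd j hj i hi (Ne.symm hij) h0]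
        · simp only [if_neg hiv, if_neg hjv]
          exact hC i (Finset.mem_erase.mpr ⟨hiv, hi⟩) j (Finset.mem_erase.mpr ⟨hjv, hj⟩) hij

lemma exists_good_vertex {κ : Type*} (a : κ → κ → ℤ) (G : κ → κ → ℝ) (S : Finset κ) (hS : S.Nonempty)
    (ha : ∀ i ∈ S, ∀ j ∈ S, i ≠ j → a i j ≤ 0)
    (hsym : ∀ i ∈ S, ∀ j ∈ S, i ≠ j → a i j = 0 → a j i = 0)
    (hGd : ∀ i ∈ S, 0 < G i i) (hGs : ∀ i ∈ S, ∀ j ∈ S, G i j = G j i)
    (hG : ∀ i ∈ S, ∀ j ∈ S, 2 * G i j = a i j * G j j)
    (hpos : ∀ x : κ → ℝ, (∃ i ∈ S, x i ≠ 0) → 0 < ∑ i ∈ S, ∑ j ∈ S, x i * x j * G i j) :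
    ∃ v ∈ S, ∀ u ∈ S, u ≠ v → a v u ≠ 0 → a v u = -1 ∧ ∀ w ∈ S, w ≠ v → a v w ≠ 0 → w = u := by
  classical
  by_contra hcon
  push Not at hcon
  let N : κ → Finset κ := fun v => {w ∈ S.erase v | a v w ≠ 0}
  let c : κ → ℝ := fun v => if (N v).card = 1 then 1 / 2 else 1
  have hN : ∀ v ∈ S, 1 ≤ (N v).card ∧ ((N v).card = 1 → ∀ u ∈ N v, a v u ≤ -2) := by
    intro v hv
    obtain ⟨u, hu, huv, hau, hrest⟩ := hcon v hv
    have hum : u ∈ N v := by simp [N, hu, huv, hau]
    refine ⟨Finset.card_pos.mpr ⟨u, hum⟩, fun h1 w hw => ?_⟩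
    obtain rfl : w = u := Finset.card_le_one.mp h1.le w hw u hum
    have h2 : a v w ≠ -1 := by
      intro h
      obtain ⟨z, hz, hzv, haz, hzw⟩ := hrest h
      exact hzw (Finset.card_le_one.mp h1.le z (by simp [N, hz, hzv, haz]) w hw)
    have := ha v hv w hu (Ne.symm huv)
    omega
  have hc : ∀ v, 0 < c v := fun v => by simp only [c]; split_ifs <;> norm_num
  let x : κ → ℝ := fun v => Real.sqrt (c v / G v v)
  have hterm : ∀ v ∈ S, ∀ w ∈ N v, x v * x w * G v w ≤ -(1 / 2) := by
    intro v hv w hw
    simp only [N, Finset.mem_filter, Finset.mem_erase] at hw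
    obtain ⟨⟨hwv, hwS⟩, haw⟩ := hw
    have haw' : a w v ≠ 0 := fun h => haw (hsym w hwS v hv hwv h)
    have ha1 : (a v w : ℝ) ≤ -1 := by
      have := ha v hv w hwS (Ne.symm hwv); exact_mod_cast (show a v w ≤ -1 by omega)
    have ha2 : (a w v : ℝ) ≤ -1 := by
      have := ha w hwS v hv hwv; exact_mod_cast (show a w v ≤ -1 by omega)
    have hGv := hGd v hv
    have hGw := hGd w hwS
    have hsq : (x v * x w * G v w) ^ 2 = c v * c w * ((a v w : ℝ) * a w v) / 4 := by
      simp only [x, mul_pow, Real.sq_sqrt (div_nonneg (hc _).le hGv.le), Real.sq_sqrt (div_nonneg (hc _).le hGw.le)]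
      have e1 := hG v hv w hwS
      have e2 := hG w hwS v hv
      rw [hGs w hwS v hv] at e2
      field_simp
      linear_combination (c v * c w * (2 * G v w)) * e1 + (c v * c w * (a v w : ℝ) * G w w) * e2
    have hle : x v * x w * G v w ≤ 0 := by
      refine mul_nonpos_of_nonneg_of_nonpos (mul_nonneg (Real.sqrt_nonneg _) (Real.sqrt_nonneg _)) ?_
      nlinarith [hG v hv w hwS]
    have hwn : v ∈ N w := by simp [N, hv, Ne.symm hwv, haw']
    have hcc : 1 ≤ c v * c w * ((a v w : ℝ) * a w v) := by
      have h1 : c v * -(a v w : ℝ) ≥ 1 := by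
        simp only [c]
        split_ifs with h
        · have : (a v w : ℝ) ≤ -2 := by exact_mod_cast (hN v hv).2 h w (by simp [N, hwS, hwv, haw])
          linarith
        · linarith
      have h2 : c w * -(a w v : ℝ) ≥ 1 := by
        simp only [c]
        split_ifs with h
        · have : (a w v : ℝ) ≤ -2 := by exact_mod_cast (hN w hwS).2 h v hwn
          linarith
        · linarith
      nlinarith [mul_le_mul h1 h2 zero_le_one (by linarith)]
    nlinarith
  obtain ⟨v₀, hv₀⟩ := hS
  have hp := hpos x ⟨v₀, hv₀, (Real.sqrt_pos.mpr (div_pos (hc _) (hGd _ hv₀))).ne'⟩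
  refine absurd hp (not_lt.mpr ?_)
  refine Finset.sum_nonpos fun v hv => ?_
  rw [← Finset.add_sum_erase _ _ hv]
  have hdiag : x v * x v * G v v = c v := by
    simp only [x]
    rw [Real.mul_self_sqrt (div_nonneg (hc _).le (hGd v hv).le), div_mul_cancel₀ _ (hGd v hv).ne']
  have hrest : ∑ w ∈ S.erase v, x v * x w * G v w ≤ -((N v).card : ℝ) / 2 := by
    rw [← Finset.sum_filter_add_sum_filter_not (S.erase v) (fun w => a v w ≠ 0)]
    have h0 : ∑ w ∈ (S.erase v).filter (fun w => ¬ a v w ≠ 0), x v * x w * G v w = 0 := by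
      refine Finset.sum_eq_zero fun w hw => ?_
      simp only [Finset.mem_filter, not_not] at hw
      have := hG v hv w (Finset.mem_of_mem_erase hw.1)
      rw [hw.2, Int.cast_zero, zero_mul] at this
      simp [show G v w = 0 by linarith]
    rw [h0, add_zero]
    refine (Finset.sum_le_card_nsmul _ _ _ fun w hw => hterm v hv w hw).trans_eq ?_
    rw [nsmul_eq_mul]; ring
  have : c v ≤ ((N v).card : ℝ) / 2 := by
    simp only [c]
    split_ifs with h
    · rw [h]; norm_num
    · have := (hN v hv).1
      have : (2 : ℝ) ≤ ((N v).card : ℝ) := by exact_mod_cast (show 2 ≤ (N v).card by omega)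
      linarith
  linarith

/-- Let P be a finite reduced crystallographic root pairing over an integral domain of characteristic
zero and b a base (simple roots α_i, i in the support of b), with Cartan integers a_ij = ⟨α_i,
α_j^∨⟩. An integer-valued bilinear form C on the lattice with basis the simple coroots is an integer
matrix C_ij = C(α_i^∨, α_j^∨), and the component of the last map of the complex at the pair (i, j),
i ≠ j, is C ↦ C(α_i^∨, α_j^∨) + C(α_j^∨, s_j(α_i^∨)) = C_ij + C_ji − a_ji C_jj; the pairs (i, j) and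
(j, i) index the same component exactly when α_i and α_j are orthogonal. This map is surjective: for
every family of integers d_ij (i ≠ j in the support) with d_ij = d_ji whenever a_ij = 0 there is an
integer matrix C with C_ij + C_ji − a_ji C_jj = d_ij for all i ≠ j in the support. -/
theorem result {ι : Type u} {R : Type v} {M : Type w} {N : Type x} [CommRing R] [IsDomain R] [CharZero R]
    [AddCommGroup M] [Module R M] [AddCommGroup N] [Module R N] (P : RootPairing ι R M N)
    [Finite ι] [P.IsCrystallographic] [P.IsReduced] (b : P.Base) (d : ι → ι → ℤ)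
    (hd : ∀ i ∈ b.support, ∀ j ∈ b.support, i ≠ j → P.pairingIn ℤ i j = 0 → d i j = d j i) :
    ∃ C : ι → ι → ℤ, ∀ i ∈ b.support, ∀ j ∈ b.support, i ≠ j →
      C i j + C j i - P.pairingIn ℤ j i * C j j = d i j := by
  classical
  haveI := Fintype.ofFinite ι
  haveI : Module.IsReflexive R M := .of_isPerfPair P.toLinearMap
  haveI : Module.IsReflexive R N := .of_isPerfPair P.flip.toLinearMap
  let a : ι → ι → ℤ := fun i j => P.pairingIn ℤ i j
  let Gz : ι → ι → ℤ := fun i j => ∑ k, a i k * a j k
  have hGR : ∀ i j, (Gz i j : R) = P.RootForm (P.root i) (P.root j) := fun i j => by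
    simp only [Gz, a, Int.cast_sum, Int.cast_mul, RootPairing.rootForm_apply_apply, ← algebraMap_int_eq,
      RootPairing.algebraMap_pairingIn]
    refine Finset.sum_congr rfl fun k _ => ?_
    rw [RootPairing.root_coroot'_eq_pairing, RootPairing.root_coroot'_eq_pairing,
      ← P.algebraMap_pairingIn ℤ i k, ← P.algebraMap_pairingIn ℤ j k]
    simp
  have hG2 : ∀ i j, 2 * Gz i j = a i j * Gz j j := fun i j => by
    apply Int.cast_injective (α := R)
    have h : 2 * P.RootForm (P.root i) (P.root j) = P.pairing i j * P.RootForm (P.root j) (P.root j) :=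
      P.toInvariantForm.two_mul_apply_root_root i j
    push_cast
    rw [hGR, hGR, h, ← P.algebraMap_pairingIn ℤ i j]
    simp [a]
  have hGd : ∀ i, 0 < Gz i i := fun i => Finset.sum_pos' (fun k _ => mul_self_nonneg _)
    ⟨i, Finset.mem_univ i, by simp [a, P.pairingIn_same]⟩
  have hinjZ : ∀ y : b.support → ℤ, (∀ k, ∑ i : b.support, y i * a i k = 0) → y = 0 := by
    intro y hy
    have hmem : ∑ i : b.support, (y i : R) • P.root i ∈ P.rootSpan R ⊓ LinearMap.ker P.RootForm := by
      refine ⟨Submodule.sum_mem _ fun i _ => Submodule.smul_mem _ _ (Submodule.subset_span ⟨_, rfl⟩), ?_⟩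
      rw [SetLike.mem_coe, LinearMap.mem_ker]
      refine LinearMap.ext fun z => ?_
      rw [RootPairing.rootForm_apply_apply, LinearMap.zero_apply]
      refine Finset.sum_eq_zero fun k _ => ?_
      rw [map_sum]
      have : ∑ i : b.support, P.coroot' k ((y i : R) • P.root i) = ((∑ i : b.support, y i * a i k : ℤ) : R) := by
        push_cast
        refine Finset.sum_congr rfl fun i _ => ?_
        rw [map_smul, smul_eq_mul, RootPairing.root_coroot'_eq_pairing, ← P.algebraMap_pairingIn ℤ i k]
        rfl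
      rw [this, hy k, Int.cast_zero, zero_mul]
    rw [P.disjoint_rootSpan_ker_rootForm.eq_bot, Submodule.mem_bot] at hmem
    have h := Fintype.linearIndependent_iff.mp b.linearIndepOn_root (fun i => (y i : R)) hmem
    exact funext fun i => Int.cast_injective (α := R) ((h i).trans Int.cast_zero.symm)
  let Gm : Matrix b.support b.support ℤ := Matrix.of fun i j => Gz i j
  have hdet : Gm.det ≠ 0 := by
    intro h
    obtain ⟨y, hy0, hy⟩ := Matrix.exists_mulVec_eq_zero_iff.mpr h
    refine hy0 (hinjZ y fun k => ?_)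
    have hsum : ∑ k, (∑ i : b.support, y i * a i k) * (∑ j : b.support, y j * a j k) = 0 := by
      calc _ = ∑ i : b.support, y i * (Gm.mulVec y) i := by
            simp only [Matrix.mulVec, dotProduct, Gm, Matrix.of_apply, Gz, Finset.mul_sum, Finset.sum_mul]
            rw [Finset.sum_comm]
            conv_rhs => rw [Finset.sum_comm]
            refine Finset.sum_congr rfl fun i _ => ?_
            rw [Finset.sum_comm]
            exact Finset.sum_congr rfl fun j _ => Finset.sum_congr rfl fun k _ => by ring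
        _ = 0 := by simp [hy]
    exact mul_self_eq_zero.mp ((Finset.sum_eq_zero_iff_of_nonneg fun k _ => mul_self_nonneg _).mp hsum k (Finset.mem_univ k))
  refine cartanDiag_exists a d b.support ?_ hd fun S hS hne => exists_good_vertex a (fun i j => (Gz i j : ℝ)) S hne ?_ ?_ ?_ ?_ ?_ ?_
  · intro i _ j _ _ h
    exact P.pairingIn_eq_zero_iff.mp h
  · exact fun i hi j hj hij => b.pairingIn_le_zero_of_ne hij (hS hi) (hS hj)
  · intro i _ j _ _ h
    exact P.pairingIn_eq_zero_iff.mp h
  · exact fun i _ => by exact_mod_cast hGd i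
  · exact fun i _ j _ => by simp only [Gz, mul_comm]
  · exact fun i _ j _ => by exact_mod_cast hG2 i j
  · intro x ⟨i₀, hi₀, hx₀⟩
    let x' : b.support → ℝ := fun i => if (i : ι) ∈ S then x i else 0
    have hext : ∀ f : ι → ℝ, ∑ i : b.support, (if (i : ι) ∈ S then f i else 0) = ∑ i ∈ S, f i := by
      intro f
      rw [Finset.sum_coe_sort b.support (fun i => if i ∈ S then f i else 0), Finset.sum_ite_mem,
        Finset.inter_eq_right.mpr hS]
    have hq : ∑ i ∈ S, ∑ j ∈ S, x i * x j * (Gz i j : ℝ) = ∑ k, (∑ i ∈ S, x i * (a i k : ℝ)) ^ 2 := by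
      simp only [Gz, Int.cast_sum, Int.cast_mul, Finset.mul_sum, pow_two, Finset.sum_mul]
      conv_rhs => rw [Finset.sum_comm]
      refine Finset.sum_congr rfl fun i _ => ?_
      rw [Finset.sum_comm]
      exact Finset.sum_congr rfl fun k _ => Finset.sum_congr rfl fun j _ => by ring
    rw [hq]
    refine lt_of_le_of_ne (Finset.sum_nonneg fun k _ => sq_nonneg _) fun h0 => ?_
    have hk := fun k => pow_eq_zero_iff two_ne_zero |>.mp
      ((Finset.sum_eq_zero_iff_of_nonneg fun k _ => sq_nonneg _).mp h0.symm k (Finset.mem_univ k))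
    have hker : (Gm.map (Int.cast : ℤ → ℝ)).mulVec x' = 0 := by
      funext i
      simp only [Matrix.mulVec, dotProduct, Matrix.map_apply, Gm, Matrix.of_apply, x', mul_ite, mul_zero, Pi.zero_apply]
      rw [hext fun j => (Gz i j : ℝ) * x j]
      simp only [Gz, Int.cast_sum, Int.cast_mul, Finset.sum_mul]
      rw [Finset.sum_comm]
      refine Finset.sum_eq_zero fun k _ => ?_
      rw [show (0 : ℝ) = (a i k : ℝ) * 0 by ring, ← hk k, Finset.mul_sum]
      exact Finset.sum_congr rfl fun j _ => by ring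
    have hdetR : (Gm.map (Int.cast : ℤ → ℝ)).det ≠ 0 := by
      rw [show (Gm.map (Int.cast : ℤ → ℝ)).det = ((Gm.det : ℤ) : ℝ) from ((Int.castRingHom ℝ).map_det Gm).symm]
      exact_mod_cast hdet
    have := congrFun (Matrix.eq_zero_of_mulVec_eq_zero hdetR hker) ⟨i₀, hS hi₀⟩
    exact hx₀ (by simpa [x', hi₀] using this)

end Groth.Agent.S19008
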