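import Groth.Statements.S19009
import Groth.Agent.Lib.RootD.Quad
-- import your own Groth.Agent.* helpers here

set_option autoImplicit false
universe u v w x
open RootD

namespace Groth.Agent.S19009

/-- Let P be a root pairing over an integral domain R of characteristic zero (roots α acting on the
coweight module N through reflections y ↦ y − ⟨α, y⟩ α^∨), D ⊆ N a submodule containing every coroot
and such that every element of D has a positive integer multiple in the span of the coroots (the
derived part), and Y₀ a complement of D in N. Let Q_d be a quadratic form on N whose restriction to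
D is invariant under all root reflections. Then there is a quadratic form on N, invariant under all
root reflections and agreeing with Q_d on D, if and only if there is an R-bilinear form Φ on N with
Φ(y₀, α^∨) = ⟨α, y₀⟩ Q_d(α^∨) for all y₀ in Y₀ and all roots α. (In the source R = ℤ, N = Y₀ ⊕ Y_der
is the cocharacter lattice of a split reductive group, and the condition is phrased as integrality
on Y₀ × Y_der of the pairing y₀, y ↦ B(q(y₀), y) deduced from the polar form B of Q_d; that pairing
is characterised by the displayed values on coroots, only the values of Φ on Y₀ × D matter, and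
forms take values in R here.) -/
theorem result {ι : Type u} {R : Type v} {M : Type w} {N : Type x} [CommRing R] [IsDomain R] [CharZero R]
    [AddCommGroup M] [Module R M] [AddCommGroup N] [Module R N] (P : RootPairing ι R M N)
    (D Y₀ : Submodule R N) (hD : ∀ i : ι, P.coroot i ∈ D)
    (hDsat : ∀ y ∈ D, ∃ n : ℕ, 0 < n ∧ n • y ∈ Submodule.span R (Set.range P.coroot))
    (hc : IsCompl Y₀ D)
    (Qd : QuadraticMap R N R) (hQd : ∀ i : ι, ∀ y ∈ D, Qd (P.coreflection i y) = Qd y) :
    (∃ Q : QuadraticMap R N R, (∀ (i : ι) (y : N), Q (P.coreflection i y) = Q y) ∧ ∀ y ∈ D, Q y = Qd y) ↔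
      ∃ Φ : N →ₗ[R] N →ₗ[R] R, ∀ y₀ ∈ Y₀, ∀ i : ι,
        Φ y₀ (P.coroot i) = P.root' i y₀ * Qd (P.coroot i) := by
  constructor
  · rintro ⟨Q, hQ, hQD⟩
    refine ⟨Q.polarBilin, fun y₀ _ i => ?_⟩
    change QuadraticMap.polar Q y₀ (P.coroot i) = _
    rw [Groth.Agent.RootQuad.polar_of_invariant P Q ⊤ trivial (fun z _ => hQ i z) trivial, hQD _ (hD i)]
  · rintro ⟨Φ, hΦ⟩
    let pD : N →ₗ[R] N := D.subtype.comp (D.projectionOnto Y₀ hc.symm)
    let pY : N →ₗ[R] N := Y₀.subtype.comp (Y₀.projectionOnto D hc)
    have hpYmem : ∀ y, pY y ∈ Y₀ := fun y => Subtype.coe_prop _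
    have hpDmem : ∀ y, pD y ∈ D := fun y => Subtype.coe_prop _
    have hDY : ∀ y ∈ D, pY y = 0 := fun y hy => by
      simp [pY, (Submodule.projectionOnto_apply_eq_zero_iff hc).2 hy]
    have hDD : ∀ y ∈ D, pD y = y := fun y hy =>
      congrArg Subtype.val (Submodule.projectionOnto_apply_left hc.symm ⟨y, hy⟩)
    have hsum : ∀ y, pD y + pY y = y := fun y => by
      obtain ⟨d, hd, y₀, hy₀, rfl⟩ := Submodule.mem_sup.1 (show y ∈ D ⊔ Y₀ by rw [hc.symm.sup_eq_top]; trivial)
      have h1 : pD y₀ = 0 := by simp [pD, (Submodule.projectionOnto_apply_eq_zero_iff hc.symm).2 hy₀]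
      have h2 : pY y₀ = y₀ := congrArg Subtype.val (Submodule.projectionOnto_apply_left hc ⟨y₀, hy₀⟩)
      rw [map_add, map_add, hDD d hd, hDY d hd, h1, h2, add_zero, zero_add]
    refine ⟨Qd.comp pD + LinearMap.BilinMap.toQuadraticMap ((Φ.comp pY).compl₂ pD), fun i y => ?_,
      fun y hy => ?_⟩
    · have hq : QuadraticMap.polar Qd (pD y) (P.coroot i) = P.root' i (pD y) * Qd (P.coroot i) :=
        Groth.Agent.RootQuad.polar_of_invariant P Qd D (hD i) (hQd i) (hpDmem y)
      have hr : P.root' i (pD y) + P.root' i (pY y) = P.root' i y := by rw [← map_add, hsum]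
      have e : ∀ z, pY (P.coreflection i z) = pY z ∧ pD (P.coreflection i z) =
          pD z + (-(P.root' i z)) • P.coroot i := fun z => by
        rw [P.coreflection_apply]
        constructor
        · rw [map_sub, map_smul, hDY _ (hD i), smul_zero, sub_zero]
        · rw [map_sub, map_smul, hDD _ (hD i), sub_eq_add_neg, neg_smul]
      simp only [add_apply, QuadraticMap.comp_apply, LinearMap.BilinMap.toQuadraticMap_apply,
        LinearMap.compl₂_apply, LinearMap.comp_apply, QuadraticMap.add_apply, (e y).1, (e y).2, map_add, map_smul,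
        smul_eq_mul, hΦ _ (hpYmem y) i]
      rw [QuadraticMap.map_add (Qd : N → R), QuadraticMap.map_smul, QuadraticMap.polar_smul_right, hq,
        smul_eq_mul, smul_eq_mul]
      linear_combination (P.root' i y * Qd (P.coroot i)) * (- hr)
    · simp [QuadraticMap.comp_apply, hDY y hy, hDD y hy]

end Groth.Agent.S19009
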