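import Groth.Statements.S19010
import Groth.Agent.Lib.RootD.Quad
-- import your own Groth.Agent.* helpers here

set_option autoImplicit false
universe u v w x
open RootD

namespace Groth.Agent.S19010

/-- Let P be a root pairing over an integral domain R of characteristic zero (roots α acting on the
coweight module N through reflections y ↦ y − ⟨α, y⟩ α^∨), D ⊆ N a submodule containing every coroot
and such that every element of D has a positive integer multiple in the span of the coroots (the
derived part), and Y₀ a complement of D in N. Let Q' be a quadratic form on N invariant under all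
root reflections. Then restriction to Y₀ is a bijection from the set of quadratic forms on N that
are invariant under all root reflections and agree with Q' on D onto the set of all quadratic forms
on Y₀. (In the source R = ℤ and N = Y₀ ⊕ Y_der is the cocharacter lattice of a split reductive
group; forms take values in R here.) -/
theorem result {ι : Type u} {R : Type v} {M : Type w} {N : Type x} [CommRing R] [IsDomain R] [CharZero R]
    [AddCommGroup M] [Module R M] [AddCommGroup N] [Module R N] (P : RootPairing ι R M N)
    (D Y₀ : Submodule R N) (hD : ∀ i : ι, P.coroot i ∈ D)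
    (hDsat : ∀ y ∈ D, ∃ n : ℕ, 0 < n ∧ n • y ∈ Submodule.span R (Set.range P.coroot))
    (hc : IsCompl Y₀ D)
    (Q' : QuadraticMap R N R) (hQ' : ∀ (i : ι) (y : N), Q' (P.coreflection i y) = Q' y) :
    Set.BijOn (fun Q : QuadraticMap R N R => Q.comp Y₀.subtype)
      {Q | (∀ (i : ι) (y : N), Q (P.coreflection i y) = Q y) ∧ ∀ y ∈ D, Q y = Q' y} Set.univ := by
  let pD : N →ₗ[R] N := D.subtype.comp (D.projectionOnto Y₀ hc.symm)
  let qY : N →ₗ[R] Y₀ := Y₀.projectionOnto D hc
  have hDY : ∀ y ∈ D, qY y = 0 := fun y hy => (Submodule.projectionOnto_apply_eq_zero_iff hc).2 hy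
  refine ⟨fun _ _ => Set.mem_univ _, fun Q hQ Q₁ hQ₁ he => ?_, fun Q₀ _ => ?_⟩
  · ext y
    have hsum : pD y + (qY y : N) = y :=
      by
        obtain ⟨d, hd, y₀, hy₀, rfl⟩ := Submodule.mem_sup.1 (show y ∈ D ⊔ Y₀ by rw [hc.symm.sup_eq_top]; trivial)
        have h1 : pD y₀ = 0 := by simp [pD, (Submodule.projectionOnto_apply_eq_zero_iff hc.symm).2 hy₀]
        have h2 : (qY y₀ : N) = y₀ := congrArg Subtype.val (Submodule.projectionOnto_apply_left hc ⟨y₀, hy₀⟩)
        have h3 : pD d = d := congrArg Subtype.val (Submodule.projectionOnto_apply_left hc.symm ⟨d, hd⟩)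
        rw [map_add, map_add, Submodule.coe_add, h3, hDY d hd, h1, h2, Submodule.coe_zero, add_zero, zero_add]
    have hd : pD y ∈ D := Subtype.coe_prop _
    obtain ⟨n, hn, hmem⟩ := hDsat _ hd
    have h0 : Q (qY y : N) = Q₁ (qY y : N) := congrArg (fun q : QuadraticMap R Y₀ R => q (qY y)) he
    have hp : ∀ z ∈ Submodule.span R (Set.range P.coroot),
        QuadraticMap.polar Q (qY y : N) z = QuadraticMap.polar Q₁ (qY y : N) z := by
      intro z hz
      induction hz using Submodule.span_induction with
      | mem z hz =>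
        obtain ⟨i, rfl⟩ := hz
        rw [Groth.Agent.RootQuad.polar_of_invariant P Q ⊤ trivial (fun w _ => hQ.1 i w) trivial,
          Groth.Agent.RootQuad.polar_of_invariant P Q₁ ⊤ trivial (fun w _ => hQ₁.1 i w) trivial,
          hQ.2 _ (hD i), hQ₁.2 _ (hD i)]
      | zero => simp
      | add a c _ _ ha hc => rw [QuadraticMap.polar_add_right, QuadraticMap.polar_add_right, ha, hc]
      | smul r a _ ha => rw [QuadraticMap.polar_smul_right, QuadraticMap.polar_smul_right, ha]
    have h1 := hp _ hmem
    rw [← Nat.cast_smul_eq_nsmul R, QuadraticMap.polar_smul_right, QuadraticMap.polar_smul_right,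
      smul_eq_mul, smul_eq_mul] at h1
    have h2 := mul_left_cancel₀ (Nat.cast_ne_zero.2 (Nat.pos_iff_ne_zero.1 hn)) h1
    rw [← hsum, add_comm, QuadraticMap.map_add (Q : N → R), QuadraticMap.map_add (Q₁ : N → R),
      h0, h2, hQ.2 _ hd, hQ₁.2 _ hd]
  · refine ⟨Q' + (Q₀ - Q'.comp Y₀.subtype).comp qY, ⟨fun i y => ?_, fun y hy => ?_⟩, ?_⟩
    · have e : qY (P.coreflection i y) = qY y := by
        rw [P.coreflection_apply, map_sub, map_smul, hDY _ (hD i), smul_zero, sub_zero]
      simp only [QuadraticMap.add_apply, QuadraticMap.comp_apply, e, hQ' i y]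
    · simp only [QuadraticMap.add_apply, QuadraticMap.comp_apply, hDY y hy, QuadraticMap.map_zero, add_zero]
    · ext ⟨y, hy⟩
      have : qY y = ⟨y, hy⟩ := Submodule.projectionOnto_apply_left hc ⟨y, hy⟩
      simp [QuadraticMap.comp_apply, this]

end Groth.Agent.S19010
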