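import Groth.Statements.S19011
import Groth.Agent.Lib.RootD.Transfer
-- import your own Groth.Agent.* helpers here

set_option autoImplicit false
universe u v w x
open RootD

namespace Groth.Agent.S19011

/-- For a finite reduced crystallographic root pairing over an integral domain of characteristic zero,
the additive group generated by the coroots admits the presentation with one generator [β] for each
root β and the relations [s_α(β)] = [β] − ⟨α, β^∨⟩ [α] for all roots α, β, where ⟨α, β^∨⟩ is the
Cartan integer. Concretely: the kernel of the ℤ-linear map from the free abelian group on the index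
type of the roots to the coweight module sending the generator of index β to the coroot β^∨ is the
subgroup generated by the elements [s_α(β)] − [β] + ⟨α, β^∨⟩ [α]. (The source states this for the
cocharacter lattice of a split semi-simple simply connected group, which is the group generated by
the coroots.) -/
theorem result {ι : Type u} {R : Type v} {M : Type w} {N : Type x} [CommRing R] [IsDomain R] [CharZero R]
    [AddCommGroup M] [Module R M] [AddCommGroup N] [Module R N] (P : RootPairing ι R M N)
    [Finite ι] [P.IsCrystallographic] [P.IsReduced] :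
    LinearMap.ker (Finsupp.linearCombination ℤ (fun i : ι => (P.coroot i : N))) =
      Submodule.span ℤ (Set.range fun p : ι × ι =>
        Finsupp.single (P.reflectionPerm p.1 p.2) (1 : ℤ) - Finsupp.single p.2 1 +
          P.pairingIn ℤ p.1 p.2 • Finsupp.single p.1 1) := by
  classical
  set L := Finsupp.linearCombination ℤ (fun i : ι => (P.coroot i : N)) with hL
  set Rel := Submodule.span ℤ (Set.range fun p : ι × ι =>
    Finsupp.single (P.reflectionPerm p.1 p.2) (1 : ℤ) - Finsupp.single p.2 1 +
      P.pairingIn ℤ p.1 p.2 • Finsupp.single p.1 1) with hRel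
  have hle : Rel ≤ LinearMap.ker L := by
    refine Submodule.span_le.2 ?_
    rintro _ ⟨⟨a, c⟩, rfl⟩
    change L _ = 0
    simp only [map_add, map_sub, map_smul, hL, Finsupp.linearCombination_single, one_smul]
    rw [P.coroot_reflectionPerm, P.coreflection_apply_coroot, ← P.algebraMap_pairingIn ℤ, eq_intCast,
      Int.cast_smul_eq_zsmul]
    abel
  refine le_antisymm ?_ hle
  rcases isEmpty_or_nonempty ι with hι | hι
  · intro z _
    rw [Subsingleton.elim z 0]
    exact Submodule.zero_mem _
  have hrel : ∀ a c, Finsupp.single (P.reflectionPerm a c) (1 : ℤ) - Finsupp.single c 1 +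
      P.pairingIn ℤ a c • Finsupp.single a 1 ∈ Rel := fun a c => Submodule.subset_span ⟨(a, c), rfl⟩
  have : Module.IsReflexive R N := .of_isPerfPair P.flip.toLinearMap
  have : Module.IsTorsionFree R N := inferInstance
  have : Module.IsReflexive R M := .of_isPerfPair P.toLinearMap
  have : P.flip.IsReduced := inferInstance
  obtain ⟨Δ, hΔ⟩ :=
    Groth.Agent.RootDLib.exists_isSimpleSys (P := Groth.Agent.RootDLib.intModel P.flip)
  let S : Submodule ℤ (ι →₀ ℤ) := Finsupp.supported ℤ ℤ Δ ⊔ Rel
  have hΔS : ∀ a ∈ Δ, Finsupp.single a (1 : ℤ) ∈ S := fun a ha =>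
    Submodule.mem_sup_left (Finsupp.single_mem_supported ℤ 1 ha)
  have hS : ∀ k, Finsupp.single k (1 : ℤ) ∈ S := by
    intro k
    obtain ⟨g, hg, δ, hδ, he⟩ := Groth.Agent.RootDLib.exists_conj_simple hΔ
      (Groth.Agent.RootDLib.intModel_isIndiv (P := P.flip) k)
    obtain ⟨l, hl, rfl⟩ := Groth.Agent.RootDLib.exists_word hg
    subst he
    induction l with
    | nil => simpa using hΔS δ hδ
    | cons a t ih =>
      have hc := ih (fun x hx => hl x (List.mem_cons_of_mem _ hx))
        (Groth.Agent.RootDLib.wprod_mem (fun x hx => hl x (List.mem_cons_of_mem _ hx)))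
      rw [Groth.Agent.RootDLib.wprod_cons, mul_smul, Groth.Agent.RootDLib.refl_smul]
      generalize Groth.Agent.RootDLib.wprod (Groth.Agent.RootDLib.intModel P.flip) t • δ = c at hc ⊢
      have ha := hΔS a (hl a (by simp))
      have h := Submodule.mem_sup_right (T := Rel) (S := Finsupp.supported ℤ ℤ Δ) (hrel a c)
      change Finsupp.single (P.reflectionPerm a c) (1 : ℤ) ∈ S
      have h2 := S.sub_mem (S.add_mem h hc) (S.smul_mem (P.pairingIn ℤ a c) ha)
      convert h2 using 1
      module
  intro z hz
  have hzS : z ∈ S := by
    rw [← Finsupp.sum_single z]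
    refine Submodule.sum_mem _ fun k _ => ?_
    have h := S.smul_mem (z k) (hS k)
    rwa [Finsupp.smul_single, smul_eq_mul, mul_one] at h
  obtain ⟨w, hw, r, hr, rfl⟩ := Submodule.mem_sup.1 hzS
  have hw0 : L w = 0 := by
    have h1 : L (w + r) = 0 := hz
    rwa [map_add, LinearMap.mem_ker.1 (hle hr), add_zero] at h1
  have hli : LinearIndepOn ℤ P.coroot Δ :=
    hΔ.1.map' (P.flip.rootSpan ℤ).subtype (Submodule.ker_subtype _)
  rw [linearIndepOn_iff.1 hli w hw hw0, zero_add]
  exact hr

end Groth.Agent.S19011
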