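import Groth.Statements.S19012
import Groth.Agent.Lib.RootD.Quad
-- import your own Groth.Agent.* helpers here

set_option autoImplicit false
universe u v w x
open RootD

namespace Groth.Agent.S19012

/-- Let P be a finite reduced crystallographic root pairing over a field of characteristic zero which is
irreducible, and b a base. A quadratic form on the coweight module that is invariant under all root
reflections and vanishes on some simple coroot is zero; in other words an invariant form is
determined by its value on a single simple coroot. (The source proves, component by component of the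
Dynkin diagram, that an invariant integer-valued form on the coroot lattice with prescribed value on
the first simple coroot of each component is unique; here the system is irreducible, the coroots
span the coweight module, and forms take values in the base field.) -/
theorem result {ι : Type u} {K : Type v} {M : Type w} {N : Type x} [Field K] [CharZero K]
    [AddCommGroup M] [Module K M] [AddCommGroup N] [Module K N] (P : RootPairing ι K M N)
    [Finite ι] [P.IsCrystallographic] [P.IsReduced] [P.IsIrreducible] (b : P.Base)
    (Q : QuadraticMap K N K) (hQ : ∀ (i : ι) (y : N), Q (P.coreflection i y) = Q y)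
    (i₀ : ι) (hi₀ : i₀ ∈ b.support) (h0 : Q (P.coroot i₀) = 0) : Q = 0 := by
  classical
  have : Nonempty ι := ⟨i₀⟩
  have hpol : ∀ j y, QuadraticMap.polar Q y (P.coroot j) = P.root' j y * Q (P.coroot j) := fun j y =>
    Groth.Agent.RootQuad.polar_of_invariant P Q ⊤ trivial (fun z _ => hQ j z) trivial
  let Z : Set ι := {i | i ∈ b.support ∧ Q (P.coroot i) = 0}
  let U : Submodule K M := Submodule.span K (P.root '' Z)
  have hmem : ∀ i : ι, U ∈ Module.End.invtSubmodule (P.reflection i : M →ₗ[K] M) := by
    refine (b.forall_mem_support_invtSubmodule_iff U).1 fun j hj => ?_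
    intro x hx
    change P.reflection j x ∈ U
    rw [P.reflection_apply]
    by_cases hjZ : j ∈ Z
    · exact U.sub_mem hx (U.smul_mem _ (Submodule.subset_span ⟨j, hjZ, rfl⟩))
    · have h0' : ∀ z ∈ U, P.coroot' j z = 0 := by
        have hle : U ≤ LinearMap.ker (P.coroot' j) := Submodule.span_le.2 (by
          rintro _ ⟨i, hi, rfl⟩
          have h1 := hpol j (P.coroot i)
          rw [QuadraticMap.polar_comm, hpol i, hi.2, mul_zero] at h1
          have h2 : P.root' j (P.coroot i) = 0 :=
            (mul_eq_zero.1 h1.symm).resolve_right fun h => hjZ ⟨hj, h⟩
          change P.pairing i j = 0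
          exact P.pairing_eq_zero_iff'.1 h2)
        exact fun z hz => hle hz
      rw [h0' x hx, zero_smul, sub_zero]
      exact hx
  have htop : U = ⊤ := RootPairing.IsIrreducible.eq_top_of_invtSubmodule_reflection (P := P) U hmem fun h => by
    have h1 : P.root i₀ ∈ U := Submodule.subset_span ⟨i₀, ⟨hi₀, h0⟩, rfl⟩
    rw [h] at h1
    exact P.ne_zero i₀ (by simpa using h1)
  have hall : ∀ j ∈ b.support, Q (P.coroot j) = 0 := by
    intro j hj
    by_contra hne
    refine b.linearIndepOn_root.notMem_span hj ?_
    refine Submodule.span_mono (Set.image_mono ?_) (show P.root j ∈ U by rw [htop]; trivial)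
    exact fun i hi => ⟨hi.1, fun e => hne (e ▸ hi.2)⟩
  have hspan : ∀ y : N, y ∈ Submodule.span K (P.coroot '' (b.support : Set ι)) := fun y => by
    have h1 : (⊤ : Submodule K N) ≤ Submodule.span K (P.coroot '' (b.support : Set ι)) := by
      rw [← RootPairing.IsRootSystem.span_coroot_eq_top (P := P), Submodule.span_le]
      rintro _ ⟨k, rfl⟩
      exact Submodule.span_le_restrictScalars ℤ K _ (b.coroot_mem_span_int k)
    exact h1 trivial
  have hzero : ∀ z ∈ Submodule.span K (P.coroot '' (b.support : Set ι)), Q z = 0 := by
    intro z hz
    induction hz using Submodule.span_induction with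
    | mem z hz => obtain ⟨j, hj, rfl⟩ := hz; exact hall j hj
    | zero => exact QuadraticMap.map_zero Q
    | add a c _ hc' ha hc =>
      rw [QuadraticMap.map_add (Q : N → K), ha, hc]
      suffices QuadraticMap.polar Q a c = 0 by rw [this]; simp
      clear hc
      induction hc' using Submodule.span_induction with
      | mem z hz => obtain ⟨j, hj, rfl⟩ := hz; rw [hpol, hall j hj, mul_zero]
      | zero => simp
      | add p q _ _ hp hq => rw [QuadraticMap.polar_add_right, hp, hq, add_zero]
      | smul r p _ hp => rw [QuadraticMap.polar_smul_right, hp, smul_zero]
    | smul r a _ ha => rw [QuadraticMap.map_smul, ha, smul_zero]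
  exact QuadraticMap.ext fun y => by rw [hzero y (hspan y)]; rfl

end Groth.Agent.S19012
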