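import Groth.Statements.S19013
import Groth.Agent.Lib.MilnorK.Valuation

set_option autoImplicit false
universe u v
open MilnorK

namespace Groth.Agent.S19013

/-- Let A ⊆ B be discrete valuation rings, the inclusion being a local homomorphism, with fraction
fields E ⊆ F compatibly, with the induced homomorphism of residue fields κ(A) → κ(B), and with
ramification index e, the natural number such that the maximal ideal of A generates the e-th power
of the maximal ideal of B. Let ∂_A : K_{n+1}(E) → K_n(κ(A)) and ∂_B : K_{n+1}(F) → K_n(κ(B)) be the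
residue maps (tame symbols) on Milnor K-groups. Then for every x in K_{n+1}(E) one has ∂_B(x_F) = e
· (∂_A x)_{κ(B)}, where the subscripts denote the change-of-fields maps along E → F and κ(A) → κ(B).
(The published statement concerns discrete valuations of geometric type on fields finitely generated
over a base field; it is stated here for an arbitrary pair of discrete valuation rings, which is all
the printed computation uses.) -/
theorem result
    (A B : Type u) [CommRing A] [IsDomain A] [IsDiscreteValuationRing A]
    [CommRing B] [IsDomain B] [IsDiscreteValuationRing B] [Algebra A B] [IsLocalHom (algebraMap A B)]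
    (E F : Type v) [Field E] [Field F] [Algebra A E] [IsFractionRing A E] [Algebra B F] [IsFractionRing B F]
    [Algebra E F] [Algebra A F] [IsScalarTower A E F] [IsScalarTower A B F]
    (e : ℕ) (he : Ideal.map (algebraMap A B) (IsLocalRing.maximalIdeal A) = IsLocalRing.maximalIdeal B ^ e)
    (n : ℕ) (dA : MilK.K E (n + 1) →+ MilK.K (IsLocalRing.ResidueField A) n) (hdA : MilK.IsTameSymbol A E n dA)
    (dB : MilK.K F (n + 1) →+ MilK.K (IsLocalRing.ResidueField B) n) (hdB : MilK.IsTameSymbol B F n dB)
    (x : MilK.K E (n + 1)) :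
    dB (MilK.map (algebraMap E F) (n + 1) x) =
      e • MilK.map (IsLocalRing.ResidueField.map (algebraMap A B)) n (dA x) := by
  obtain ⟨ϖ, hϖ⟩ := IsDiscreteValuationRing.exists_irreducible A
  obtain ⟨π, hπ⟩ := IsDiscreteValuationRing.exists_irreducible B
  rw [MilnorK.tameSymbol_eq hϖ hdA, MilnorK.tameSymbol_eq hπ hdB]
  obtain ⟨w, hw⟩ : Associated (π ^ e) (algebraMap A B ϖ) := by
    rw [← Ideal.span_singleton_eq_span_singleton, ← Ideal.span_singleton_pow, ← hπ.maximalIdeal_eq, ← he,
      hϖ.maximalIdeal_eq, Ideal.map_span, Set.image_singleton]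
  let ua : Aˣ →* Bˣ := Units.map (algebraMap A B : A →* B)
  have hu : ∀ u : Aˣ, Units.map (algebraMap E F : E →* F) (MilK.unitToFrac A E u) =
      MilK.unitToFrac B F (ua u) := fun u => Units.ext <| by
    simp [ua, MilK.unitToFrac, ← IsScalarTower.algebraMap_apply]
  have hU : ∀ {k : ℕ}, ∀ z ∈ MilnorK.U A E k, MilK.map (algebraMap E F) k z ∈ MilnorK.U B F k ∧
      MilnorK.S F hπ k (MilK.map (algebraMap E F) k z) =
        MilK.map (IsLocalRing.ResidueField.map (algebraMap A B)) k (MilnorK.S E hϖ k z) := by
    intro k z hz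
    induction hz using AddSubgroup.closure_induction with
    | mem z hz =>
      obtain ⟨u, rfl⟩ := hz
      simp only [MilK.map_symbol, hu, MilnorK.S_symbol, MilnorK.r_unit]
      refine ⟨MilnorK.symbol_mem_U _, congrArg MilK.symbol (funext fun i => Units.ext ?_)⟩
      simp [MilK.unitResidue, ua, IsLocalRing.ResidueField.map_residue]
    | zero => simp
    | add a b _ _ ha hb => simp only [map_add, ha.2, hb.2]; exact ⟨add_mem ha.1 hb.1, trivial⟩
    | neg a _ ha => simp only [map_neg, ha.2]; exact ⟨neg_mem ha.1, trivial⟩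
  obtain ⟨y, hy, z, hz, rfl⟩ := MilnorK.exists_decomp_K hϖ x
  have hv : MilnorK.v hπ (Units.map (algebraMap E F : E →* F) (MilnorK.pi E hϖ)) = (e : ℤ) := by
    have : Units.map (algebraMap E F : E →* F) (MilnorK.pi E hϖ) =
        MilnorK.pi F hπ ^ (e : ℤ) * MilK.unitToFrac B F w := Units.ext <| by
      simp [MilnorK.pi, MilK.unitToFrac, ← IsScalarTower.algebraMap_apply,
        IsScalarTower.algebraMap_apply A B F, ← hw]
    rw [this, MilnorK.v_decomp]
  simp only [map_add, MilnorK.map_cons]
  rw [MilnorK.D_eq_zero_of_mem_U hπ (hU y hy).1, MilnorK.D_eq_zero_of_mem_U hϖ hy,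
    MilnorK.D_cons_of_mem_U hπ _ (hU z hz).1, MilnorK.D_cons_of_mem_U hϖ _ hz, hv, MilnorK.v_pi,
    one_zsmul, (hU z hz).2, natCast_zsmul, map_zero, zero_add, zero_add]
end Groth.Agent.S19013
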