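import Groth.Statements.S19015
import Groth.Agent.Lib.MilnorK.Valuation

set_option autoImplicit false
universe u v
open MilnorK

namespace Groth.Agent.S19015

/-- Let B be a discrete valuation ring with fraction field F, residue field κ and uniformizer π, and let
E be a field with a ring homomorphism into B, hence into F and into κ. Let ∂ : K_{n+1}(F) → K_n(κ)
be the residue map (tame symbol) on Milnor K-groups and s^π(ρ) = ∂({−π} · ρ) the specialization map
attached to π. Then s^π(x_F) = x_κ for every x in K_n(E): the product {−π} · x_F in K_{1+n}(F),
regarded in K_{n+1}(F), has residue the image of x in K_n(κ). (The published statement concerns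
discrete valuations of geometric type on fields finitely generated over a base field; it is stated
here for an arbitrary discrete valuation ring, which is all the printed computation uses.) -/
theorem result
    (B : Type u) [CommRing B] [IsDomain B] [IsDiscreteValuationRing B]
    (E F : Type v) [Field E] [Field F] [Algebra B F] [IsFractionRing B F]
    [Algebra E B] [Algebra E F] [IsScalarTower E B F]
    (n : ℕ) (d : MilK.K F (n + 1) →+ MilK.K (IsLocalRing.ResidueField B) n) (hd : MilK.IsTameSymbol B F n d)
    (ϖ : B) (hϖ : Irreducible ϖ) (x : MilK.K E n) :
    d (MilK.cast F (Nat.add_comm 1 n)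
        (MilK.mul F 1 n (MilK.symbol ![-MilK.unitFrac B F ϖ hϖ.ne_zero]) (MilK.map (algebraMap E F) n x))) =
      MilK.map ((IsLocalRing.residue B).comp (algebraMap E B)) n x := by
  rw [MilnorK.tameSymbol_eq hϖ hd, MilnorK.cast_mul_one_eq_cons]
  erw [MilnorK.D_cons_neg_pi hϖ]
  suffices (MilnorK.S F hϖ n).comp (MilK.map (algebraMap E F) n) =
      MilK.map ((IsLocalRing.residue B).comp (algebraMap E B)) n from DFunLike.congr_fun this x
  refine MilnorK.hom_ext fun u => ?_
  simp only [AddMonoidHom.comp_apply, MilK.map_symbol, MilnorK.S_symbol]
  refine congrArg MilK.symbol (funext fun i => ?_)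
  rw [show Units.map (algebraMap E F : E →* F) (u i) =
      MilK.unitToFrac B F (Units.map (algebraMap E B : E →* B) (u i)) from Units.ext <| by
    simp [MilK.unitToFrac, ← IsScalarTower.algebraMap_apply], MilnorK.r_unit]
  rfl
end Groth.Agent.S19015
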