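import Groth.Statements.S19017
import Groth.Agent.Lib.Cyc26.MVExact
import Groth.Agent.Lib.Cyc26.RatAlg
import Groth.Agent.Lib.UCat26.DimFun
import Groth.Agent.Lib.Cyc26.Special
-- import your own Groth.Agent.* helpers here

set_option autoImplicit false
universe u
open CategoryTheory AlgebraicGeometry
open IntTh

namespace Groth.Agent.S19017

/-- Let k be an arbitrary field and X a scheme separated and of finite type over k, with the dimension
function δ induced from Spec k. Let i_1 : X_1 → X and i_2 : X_2 → X be closed subschemes whose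
images cover X, and let Y be their intersection: closed immersions j_1 : Y → X_1, j_2 : Y → X_2 with
i_1 ∘ j_1 = i_2 ∘ j_2 whose image in X is the intersection of the images of X_1 and X_2. Then the
sequence CH_n(Y) → CH_n(X_1) ⊕ CH_n(X_2) → CH_n(X) → 0, with first map γ ↦ (j_{1*}γ, −j_{2*}γ) and
second map the sum of the push-forwards, is exact for every integer n: every n-cycle on X is a sum
i_{1*}α_1 + i_{2*}α_2 of n-cycles on X_1 and X_2, and whenever such a sum is rationally equivalent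
to zero on X there is an n-cycle γ on Y with α_1 rationally equivalent to j_{1*}γ on X_1 and α_2
rationally equivalent to −j_{2*}γ on X_2. (The published statement does not require the two closed
subschemes to cover X; without that requirement the surjectivity fails already for two empty closed
subschemes of a point, and the printed argument uses the covering, so it is assumed here. The
published statement also calls the sequence one of rings graded by codimension; stated here is the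
additive sequence graded by dimension, which is what the printed argument gives.) -/
theorem result (k : Type u) [Field k]
    (X : Scheme.{u}) [X.Over (Spec (CommRingCat.of k))]
    [IsSeparated (X ↘ Spec (CommRingCat.of k))] [LocallyOfFiniteType (X ↘ Spec (CommRingCat.of k))]
    [QuasiCompact (X ↘ Spec (CommRingCat.of k))]
    (δ : X → ℤ) (hδ : Cyc.DeltaCompat (X ↘ Spec (CommRingCat.of k)) δ (fun _ => 0))
    {X₁ X₂ Y : Scheme.{u}} (i₁ : X₁ ⟶ X) (i₂ : X₂ ⟶ X) [IsClosedImmersion i₁] [IsClosedImmersion i₂]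
    (hcov : Set.range i₁ ∪ Set.range i₂ = Set.univ)
    (j₁ : Y ⟶ X₁) (j₂ : Y ⟶ X₂) [IsClosedImmersion j₁] [IsClosedImmersion j₂]
    (hcomm : j₁ ≫ i₁ = j₂ ≫ i₂) (hY : Set.range (j₁ ≫ i₁) = Set.range i₁ ∩ Set.range i₂) (n : ℤ) :
    (∀ α : AlgebraicCycle X ℤ, α ∈ Cyc.Zk X δ n →
      ∃ (α₁ : AlgebraicCycle X₁ ℤ) (α₂ : AlgebraicCycle X₂ ℤ),
        α₁ ∈ Cyc.Zk X₁ (fun x => δ (i₁ x)) n ∧ α₂ ∈ Cyc.Zk X₂ (fun x => δ (i₂ x)) n ∧
        α = AlgebraicCycle.map i₁ (fun x => δ (i₁ x)) δ α₁ + AlgebraicCycle.map i₂ (fun x => δ (i₂ x)) δ α₂) ∧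
    (∀ (α₁ : AlgebraicCycle X₁ ℤ) (α₂ : AlgebraicCycle X₂ ℤ),
      α₁ ∈ Cyc.Zk X₁ (fun x => δ (i₁ x)) n → α₂ ∈ Cyc.Zk X₂ (fun x => δ (i₂ x)) n →
      Cyc.RatEquivZero δ n
        (AlgebraicCycle.map i₁ (fun x => δ (i₁ x)) δ α₁ + AlgebraicCycle.map i₂ (fun x => δ (i₂ x)) δ α₂) →
      ∃ γ : AlgebraicCycle Y ℤ, γ ∈ Cyc.Zk Y (fun y => δ (i₁ (j₁ y))) n ∧
        Cyc.RatEquiv (fun x => δ (i₁ x)) n α₁
          (AlgebraicCycle.map j₁ (fun y => δ (i₁ (j₁ y))) (fun x => δ (i₁ x)) γ) ∧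
        Cyc.RatEquiv (fun x => δ (i₂ x)) n α₂
          (-AlgebraicCycle.map j₂ (fun y => δ (i₁ (j₁ y))) (fun x => δ (i₂ x)) γ)) := by
  have hk : ∀ a b : Spec (CommRingCat.of k), a = b := fun a b => Subsingleton.elim _ _
  haveI : IsLocallyNoetherian X := LocallyOfFiniteType.isLocallyNoetherian (X ↘ Spec (CommRingCat.of k))
  have hd : Cyc.IsDimFun X δ := UCat26.isDimFun_of_deltaCompat (X ↘ Spec (CommRingCat.of k))
    (Groth.Agent.Cyc26.isUniversallyCatenary_stalk_field k) (fun a b _ hne => absurd (hk a b) hne) hδ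
  refine ⟨fun α hα => Groth.Agent.Cyc26.mv_surjective i₁ i₂ hcov α hα, fun α₁ α₂ h₁ h₂ h => ?_⟩
  obtain ⟨β, hβ, ⟨c₁, hc₁, e₁⟩, ⟨c₂, hc₂, e₂⟩⟩ := Groth.Agent.Cyc26.mv_exact hd i₁ i₂ hcov j₁ j₂ hcomm hY.ge
    α₁ (-α₂) h₁ (Groth.Agent.Cyc26.ratEquivZero_iff.1 h) (fun x => by
      show AlgebraicCycle.map i₁ _ δ α₁ x + AlgebraicCycle.map i₂ _ δ α₂ x = _
      by_cases hx : x ∈ Set.range i₂
      · obtain ⟨z, rfl⟩ := hx
        rw [Groth.Agent.Cyc26.map_closed_apply, Groth.Agent.Cyc26.map_closed_apply]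
        show _ = _ - -(α₂ z)
        rw [sub_neg_eq_add]
      · rw [Groth.Agent.Cyc26.map_closed_notMem i₂ _ α₂ hx, Groth.Agent.Cyc26.map_closed_notMem i₂ _ (-α₂) hx, add_zero, sub_zero])
  refine ⟨β, hβ, Groth.Agent.Cyc26.ratEquivZero_congr e₁ hc₁, ?_⟩
  refine (Groth.Agent.Cyc26.ratEquivZero_iff.1 hc₂).neg.ratEquivZero fun x => ?_
  rw [e₂]
  show α₂ x - -(AlgebraicCycle.map j₂ _ _ β x) = -(-(α₂ x) - AlgebraicCycle.map j₂ _ _ β x)
  ring

end Groth.Agent.S19017
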