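import Groth.Statements.S19018
import Mathlib

set_option autoImplicit false
universe u
open TensorProduct
open SymTen

namespace Groth.Agent.S19018

open Finset

/-- Suppose k is a field in which 2 ≠ 0 and R is a commutative k-algebra. Write I for the ideal of the
diagonal, i.e. the kernel of multiplication R ⊗_k R → R, and write S for the subalgebra of R ⊗_k R
consisting of elements invariant under interchanging the two tensor factors. Then, viewed as ideals
of S, the swap-invariant elements of I^4 form precisely the square of the ideal of swap-invariant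
elements of I^2. (The source is stated over the complex numbers; the proof needs only that 2 is
invertible.) -/
theorem result
    (k R : Type u) [Field k] [NeZero (2 : k)] [CommRing R] [Algebra k R] :
    Ideal.comap
        (AlgHom.equalizer ((Algebra.TensorProduct.comm k R R : R ⊗[k] R ≃ₐ[k] R ⊗[k] R) : R ⊗[k] R →ₐ[k] R ⊗[k] R)
          (AlgHom.id k (R ⊗[k] R))).val
        (KaehlerDifferential.ideal k R ^ 4) =
      (Ideal.comap
        (AlgHom.equalizer ((Algebra.TensorProduct.comm k R R : R ⊗[k] R ≃ₐ[k] R ⊗[k] R) : R ⊗[k] R →ₐ[k] R ⊗[k] R)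
          (AlgHom.id k (R ⊗[k] R))).val
        (KaehlerDifferential.ideal k R ^ 2)) ^ 2 := by
  set σ : R ⊗[k] R →ₐ[k] R ⊗[k] R := ((Algebra.TensorProduct.comm k R R : R ⊗[k] R ≃ₐ[k] R ⊗[k] R) : R ⊗[k] R →ₐ[k] R ⊗[k] R) with hσdef
  set S := AlgHom.equalizer σ (AlgHom.id k (R ⊗[k] R))
  set I := KaehlerDifferential.ideal k R
  refine le_antisymm (fun x hx => ?_) ?_
  · have h2 : (2 : k) ≠ 0 := two_ne_zero
    let g : R → R ⊗[k] R := fun a => 1 ⊗ₜ[k] a - a ⊗ₜ[k] 1
    have hσσ : ∀ z, σ (σ z) = z := fun z => by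
      induction z with
      | zero => simp
      | tmul a b => simp [σ]
      | add a b ha hb => rw [map_add, map_add, ha, hb]
    have hσg : ∀ a, σ (g a) = -g a := fun a => by simp [σ, g]
    have hgI : ∀ a, g a ∈ I := fun a => by
      rw [show I = Ideal.span (Set.range g) from (KaehlerDifferential.span_range_eq_ideal k R).symm]
      exact Ideal.subset_span ⟨a, rfl⟩
    set J := Ideal.comap S.val (I ^ 2)
    have hkey : ∀ y ∈ I ^ 4, ∀ hy : σ ((2 : k)⁻¹ • (y + σ y)) = (2 : k)⁻¹ • (y + σ y),
        (⟨(2 : k)⁻¹ • (y + σ y), hy⟩ : S) ∈ J ^ 2 := by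
      have hmem : ∀ y ∈ I ^ 4, ∀ c, ∃ hy : σ ((2 : k)⁻¹ • (c * y + σ (c * y))) = (2 : k)⁻¹ • (c * y + σ (c * y)),
          (⟨(2 : k)⁻¹ • (c * y + σ (c * y)), hy⟩ : S) ∈ J ^ 2 := by
        intro y hy
        have h4 : I ^ 4 = Ideal.span (Set.range fun t : R × R × R × R => g t.1 * g t.2.1 * (g t.2.2.1 * g t.2.2.2)) := by
          rw [show I = Ideal.span (Set.range g) from (KaehlerDifferential.span_range_eq_ideal k R).symm,
            show (4 : ℕ) = (1 + 1) + (1 + 1) from rfl, pow_add, pow_add, pow_one, Ideal.span_mul_span',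
            Ideal.span_mul_span']
          congr 1
          ext z
          simp only [Set.mem_mul, Set.mem_range]
          constructor
          · rintro ⟨_, ⟨_, ⟨a, rfl⟩, _, ⟨b, rfl⟩, rfl⟩, _, ⟨_, ⟨c, rfl⟩, _, ⟨d, rfl⟩, rfl⟩, rfl⟩
            exact ⟨(a, b, c, d), rfl⟩
          · rintro ⟨⟨a, b, c, d⟩, rfl⟩
            exact ⟨_, ⟨_, ⟨a, rfl⟩, _, ⟨b, rfl⟩, rfl⟩, _, ⟨_, ⟨c, rfl⟩, _, ⟨d, rfl⟩, rfl⟩, rfl⟩
        rw [h4] at hy
        induction hy using Submodule.span_induction with
        | mem z hz =>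
          obtain ⟨⟨a, b, c', d⟩, rfl⟩ := hz
          intro c
          have hinv : σ ((2 : k)⁻¹ • (c + σ c)) = (2 : k)⁻¹ • (c + σ c) := by
            rw [map_smul, map_add, hσσ, add_comm]
          have hpair : ∀ a b, σ (g a * g b) = g a * g b := fun a b => by rw [map_mul, hσg, hσg, neg_mul_neg]
          have hJ : ∀ a b, (⟨g a * g b, hpair a b⟩ : S) ∈ J := fun a b => by
            show g a * g b ∈ I ^ 2
            rw [pow_two]; exact Ideal.mul_mem_mul (hgI a) (hgI b)
          have e : (2 : k)⁻¹ • (c * (g a * g b * (g c' * g d)) + σ (c * (g a * g b * (g c' * g d)))) =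
              ((2 : k)⁻¹ • (c + σ c)) * (g a * g b * (g c' * g d)) := by
            rw [map_mul, map_mul σ (g a * g b), hpair, hpair, ← add_mul, smul_mul_assoc]
          refine ⟨by rw [e, map_mul, map_mul σ (g a * g b), hinv, hpair, hpair], ?_⟩
          have hm : (⟨(2 : k)⁻¹ • (c + σ c), hinv⟩ : S) * (⟨g a * g b, hpair a b⟩ * ⟨g c' * g d, hpair c' d⟩) ∈ J ^ 2 := by
            rw [pow_two]; exact Ideal.mul_mem_left _ _ (Ideal.mul_mem_mul (hJ a b) (hJ c' d))
          convert hm using 1
          exact Subtype.ext e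
        | zero => intro c; exact ⟨by simp, by convert zero_mem (J ^ 2) using 1; exact Subtype.ext (by simp)⟩
        | add y z _ _ hy hz =>
          intro c
          obtain ⟨h1, h1'⟩ := hy c
          obtain ⟨h3, h3'⟩ := hz c
          have e : (2 : k)⁻¹ • (c * (y + z) + σ (c * (y + z))) = (2 : k)⁻¹ • (c * y + σ (c * y)) + (2 : k)⁻¹ • (c * z + σ (c * z)) := by
            rw [← smul_add, mul_add, map_add]; congr 1; abel
          refine ⟨by rw [e, map_add, h1, h3], ?_⟩
          convert add_mem h1' h3' using 1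
          exact Subtype.ext e
        | smul a y _ hy =>
          intro c
          simp only [smul_eq_mul, ← mul_assoc]
          exact hy (c * a)
      intro y hy hy'
      obtain ⟨h1, h1'⟩ := hmem y hy 1
      convert h1' using 1
      exact Subtype.ext (by simp)
    have hxσ : σ (x : R ⊗[k] R) = x := x.2
    have e : (2 : k)⁻¹ • ((x : R ⊗[k] R) + σ x) = x := by
      rw [hxσ, ← two_smul k (x : R ⊗[k] R), inv_smul_smul₀ h2]
    convert hkey x hx (by rw [e]; exact hxσ) using 1
    exact Subtype.ext e.symm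
  · rw [pow_two, Ideal.mul_le]
    intro a ha b hb
    show (a : R ⊗[k] R) * b ∈ I ^ 4
    rw [show (4 : ℕ) = 2 + 2 from rfl, pow_add]
    exact Ideal.mul_mem_mul ha hb

end Groth.Agent.S19018
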