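import Groth.Statements.S19019
import Mathlib.LinearAlgebra.Matrix.PosDef
import Mathlib.Analysis.Matrix.Hermitian
import Mathlib.Analysis.SpecialFunctions.Integrals.Basic
import Mathlib.Analysis.SpecialFunctions.Complex.Log
import Mathlib.Algebra.Polynomial.Roots

set_option autoImplicit false
open scoped ComplexOrder
open Toeplitz

namespace Groth.Agent.S19019

open MeasureTheory Complex in
theorem integral_exp_int (k : ℤ) :
    ∫ y : ℝ in (0:ℝ)..(2 * Real.pi), Complex.exp (Complex.I * (k : ℂ) * (y : ℂ)) =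
      if k = 0 then ((2 * Real.pi : ℝ) : ℂ) else 0 := by
  split_ifs with h
  · subst h; simp
  · have hc : Complex.I * (k : ℂ) ≠ 0 := by simp [h]
    rw [integral_exp_mul_complex hc]
    have : Complex.exp (Complex.I * (k : ℂ) * ((2 * Real.pi : ℝ) : ℂ)) = 1 := by
      rw [Complex.exp_eq_one_iff]
      exact ⟨k, by push_cast; ring⟩
    simp only [Complex.ofReal_mul, Complex.ofReal_ofNat] at this
    simp [this]

open MeasureTheory Complex in
theorem quad_eq (m : ℕ) (t : ℤ → ℂ) (x : Fin m → ℂ) :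
    ∫ y : ℝ in (0:ℝ)..(2 * Real.pi),
      (∑ k ∈ Finset.Ioo (-(m : ℤ)) (m : ℤ), t k * Complex.exp (Complex.I * (k : ℂ) * (y : ℂ))) *
      ((starRingEnd ℂ) (∑ j : Fin m, x j * Complex.exp (Complex.I * ((-(j : ℤ) : ℤ) : ℂ) * (y : ℂ))) *
        (∑ j : Fin m, x j * Complex.exp (Complex.I * ((-(j : ℤ) : ℤ) : ℂ) * (y : ℂ)))) =
      ((2 * Real.pi : ℝ) : ℂ) * ∑ i : Fin m, ∑ j : Fin m,
        (starRingEnd ℂ) (x i) * t ((j : ℤ) - (i : ℤ)) * x j := by
  have hexp : ∀ (y : ℝ),
      (∑ k ∈ Finset.Ioo (-(m : ℤ)) (m : ℤ), t k * Complex.exp (Complex.I * (k : ℂ) * (y : ℂ))) *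
      ((starRingEnd ℂ) (∑ j : Fin m, x j * Complex.exp (Complex.I * ((-(j : ℤ) : ℤ) : ℂ) * (y : ℂ))) *
        (∑ j : Fin m, x j * Complex.exp (Complex.I * ((-(j : ℤ) : ℤ) : ℂ) * (y : ℂ)))) =
      ∑ i : Fin m, ∑ j : Fin m, ∑ k ∈ Finset.Ioo (-(m : ℤ)) (m : ℤ),
        (starRingEnd ℂ) (x i) * t k * x j *
          Complex.exp (Complex.I * ((k + (i : ℤ) - (j : ℤ) : ℤ) : ℂ) * (y : ℂ)) := by
    intro y
    rw [map_sum, Finset.sum_mul_sum, Finset.mul_sum]
    refine Finset.sum_congr rfl fun i _ => ?_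
    rw [Finset.mul_sum]
    refine Finset.sum_congr rfl fun j _ => ?_
    rw [Finset.sum_mul]
    refine Finset.sum_congr rfl fun k _ => ?_
    rw [map_mul, ← Complex.exp_conj, map_mul, map_mul, Complex.conj_I, Complex.conj_ofReal,
      map_intCast]
    rw [show Complex.I * ((k + (i : ℤ) - (j : ℤ) : ℤ) : ℂ) * (y : ℂ) =
      Complex.I * (k : ℂ) * (y : ℂ) + (-Complex.I * ((-(i : ℤ) : ℤ) : ℂ) * (y : ℂ) +
        Complex.I * ((-(j : ℤ) : ℤ) : ℂ) * (y : ℂ)) by push_cast; ring,
      Complex.exp_add, Complex.exp_add]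
    ring
  simp only [hexp]
  have hi : ∀ (c : ℂ) (l : ℤ), IntervalIntegrable
      (fun y : ℝ => c * Complex.exp (Complex.I * (l : ℂ) * (y : ℂ))) volume 0 (2 * Real.pi) :=
    fun c l => Continuous.intervalIntegrable (by fun_prop) _ _
  rw [intervalIntegral.integral_finsetSum, Finset.mul_sum]
  swap
  · exact fun i _ => Continuous.intervalIntegrable (by fun_prop) _ _
  refine Finset.sum_congr rfl fun i _ => ?_
  rw [intervalIntegral.integral_finsetSum, Finset.mul_sum]
  swap
  · exact fun j _ => Continuous.intervalIntegrable (by fun_prop) _ _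
  refine Finset.sum_congr rfl fun j _ => ?_
  rw [intervalIntegral.integral_finsetSum]
  swap
  · exact fun k _ => hi _ _
  simp only [intervalIntegral.integral_const_mul, integral_exp_int]
  rw [Finset.sum_eq_single ((j : ℤ) - (i : ℤ))]
  · rw [if_pos (by ring)]; ring
  · intro k _ hk
    rw [if_neg (by omega), mul_zero]
  · intro h
    exact absurd (Finset.mem_Ioo.2 ⟨by omega, by omega⟩) h

/-- Let A be an m × m complex Hermitian Toeplitz matrix, with entries A i j = t (j - i) constant along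
diagonals, and let f(y) = Σ_{-m < k < m} t k · exp(i k y) be the trigonometric polynomial attached
to it. If f has positive real part at every real y outside a countable set, then A is positive
definite (hence nondegenerate). (The source also states the mirror case: f negative off a countable
set gives A negative definite, which is this statement for -A.) -/
theorem result
    (m : ℕ) (t : ℤ → ℂ) (A : Matrix (Fin m) (Fin m) ℂ)
    (hA : ∀ i j : Fin m, A i j = t ((j : ℤ) - (i : ℤ))) (hH : A.IsHermitian)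
    (hpos : Set.Countable {y : ℝ | ¬ 0 < (∑ k ∈ Finset.Ioo (-(m : ℤ)) (m : ℤ),
        t k * Complex.exp (Complex.I * (k : ℂ) * (y : ℂ))).re}) :
    A.PosDef := by
  classical
  refine Matrix.posDef_iff_dotProduct_mulVec.2 ⟨hH, fun x hx => ?_⟩
  rw [Complex.lt_def]
  refine ⟨?_, (hH.im_star_dotProduct_mulVec_self x).symm⟩
  have hquad : star x ⬝ᵥ A.mulVec x = ∑ i : Fin m, ∑ j : Fin m,
      (starRingEnd ℂ) (x i) * t ((j : ℤ) - (i : ℤ)) * x j := by
    simp [dotProduct, Matrix.mulVec, hA, Finset.mul_sum, mul_assoc]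
  rw [hquad, Complex.zero_re]
  set F : ℝ → ℂ := fun y =>
    ∑ k ∈ Finset.Ioo (-(m : ℤ)) (m : ℤ), t k * Complex.exp (Complex.I * (k : ℂ) * (y : ℂ)) with hF
  set P : ℝ → ℂ := fun y =>
    ∑ j : Fin m, x j * Complex.exp (Complex.I * ((-(j : ℤ) : ℤ) : ℂ) * (y : ℂ)) with hP
  have hq := quad_eq m t x
  have hFc : Continuous F := by simp only [hF]; fun_prop
  have hPc : Continuous P := by simp only [hP]; fun_prop
  have hre : ∫ y : ℝ in (0:ℝ)..(2 * Real.pi), (F y).re * Complex.normSq (P y) =
      (2 * Real.pi) * (∑ i : Fin m, ∑ j : Fin m,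
        (starRingEnd ℂ) (x i) * t ((j : ℤ) - (i : ℤ)) * x j).re := by
    rw [← Complex.re_ofReal_mul, ← hq, ← Complex.reCLM_apply,
      ← Complex.reCLM.intervalIntegral_comp_comm]
    · refine intervalIntegral.integral_congr fun y _ => ?_
      simp only [Complex.reCLM_apply, hF, hP]
      rw [← Complex.normSq_eq_conj_mul_self, Complex.re_mul_ofReal]
    · exact (hFc.mul ((Complex.continuous_conj.comp hPc).mul hPc)).intervalIntegrable _ _
  have hzero : Set.Countable {y : ℝ | P y = 0} := by
    let q : Polynomial ℂ := ∑ j : Fin m, Polynomial.C (x j) * Polynomial.X ^ (j : ℕ)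
    have hq0 : q ≠ 0 := by
      intro h
      apply hx
      funext j
      have := congrArg (fun p => Polynomial.coeff p (j : ℕ)) h
      simpa [q, Polynomial.finset_sum_coeff, Polynomial.coeff_X_pow, ← Fin.ext_iff] using this
    have hPq : ∀ y : ℝ, P y = q.eval (Complex.exp (-(Complex.I * (y : ℂ)))) := by
      intro y
      simp only [hP, q, Polynomial.eval_finset_sum, Polynomial.eval_mul, Polynomial.eval_C,
        Polynomial.eval_pow, Polynomial.eval_X, ← Complex.exp_nat_mul]
      refine Finset.sum_congr rfl fun j _ => ?_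
      congr 2
      push_cast; ring
    refine Set.Countable.mono (s₂ := ⋃ z ∈ q.roots.toFinset,
      {y : ℝ | Complex.exp (-(Complex.I * (y : ℂ))) = z}) ?_ ?_
    · intro y hy
      rw [Set.mem_setOf_eq, hPq] at hy
      simp only [Set.mem_iUnion, Set.mem_setOf_eq, Multiset.mem_toFinset, Polynomial.mem_roots hq0,
        Polynomial.IsRoot.def]
      exact ⟨_, hy, rfl⟩
    · refine Set.Countable.biUnion (Finset.countable_toSet _) fun z _ => ?_
      rcases Set.eq_empty_or_nonempty {y : ℝ | Complex.exp (-(Complex.I * (y : ℂ))) = z} with h | ⟨y₀, hy₀⟩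
      · rw [h]; exact Set.countable_empty
      · refine (Set.countable_range fun n : ℤ => y₀ - n * (2 * Real.pi)).mono fun y hy => ?_
        rw [Set.mem_setOf_eq] at hy hy₀
        rw [← hy₀, Complex.exp_eq_exp_iff_exists_int] at hy
        obtain ⟨n, hn⟩ := hy
        refine ⟨n, ?_⟩
        have h2 := congrArg Complex.im hn
        simp at h2
        simp; linarith
  have hD := hpos.union hzero
  have hpt : ∀ y ∉ ({y : ℝ | ¬ 0 < (F y).re} ∪ {y : ℝ | P y = 0}),
      0 < (F y).re * Complex.normSq (P y) := by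
    intro y hy
    simp only [Set.mem_union, Set.mem_setOf_eq, not_or, not_not] at hy
    exact mul_pos hy.1 (Complex.normSq_pos.2 hy.2)
  have hgpos : 0 < ∫ y : ℝ in (0:ℝ)..(2 * Real.pi), (F y).re * Complex.normSq (P y) := by
    rw [intervalIntegral.integral_pos_iff_support_of_nonneg_ae]
    · refine ⟨by positivity, ?_⟩
      refine lt_of_lt_of_le ?_ (MeasureTheory.measure_mono (s := Set.Ioc 0 (2 * Real.pi) \
        ({y : ℝ | ¬ 0 < (F y).re} ∪ {y : ℝ | P y = 0})) fun y hy => ⟨(hpt y hy.2).ne', hy.1⟩)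
      rw [MeasureTheory.measure_sdiff_null (hD.measure_zero _), Real.volume_Ioc]
      simp [Real.pi_pos]
    · rw [Filter.EventuallyLE]
      filter_upwards [hD.ae_notMem MeasureTheory.volume] with y hy
      exact (hpt y hy).le
    · exact ((Complex.continuous_re.comp hFc).mul (Complex.continuous_normSq.comp hPc)).intervalIntegrable _ _
  rw [hre] at hgpos
  exact pos_of_mul_pos_right hgpos (by positivity)

end Groth.Agent.S19019
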