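import Groth.Statements.S19021
import Groth.Agent.Lib.Toeplitz.Binom
import Mathlib.LinearAlgebra.Matrix.ToLinearEquiv

set_option autoImplicit false
open Toeplitz

namespace Groth.Agent.S19021

/-- For natural numbers n and m, the m × m integer Toeplitz matrix with (i, j) entry (-1)^(i+j) ·
C(2n+1, n+1+i-j) (the binomial coefficient being 0 outside the range 0 ≤ n+1+i-j ≤ 2n+1;
equivalently s_k = (-1)^k C(2n+1, n+k+1) on the diagonal i - j = k for -n-1 ≤ k ≤ n and zero beyond)
is nondegenerate: its determinant is nonzero (m = 0 is the empty matrix, of determinant 1). -/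
theorem result (n m : ℕ) :
    (Matrix.of fun i j : Fin m =>
        (-1 : ℤ) ^ ((i : ℕ) + (j : ℕ)) *
          (if (j : ℕ) ≤ (i : ℕ) then (Nat.choose (2 * n + 1) (n + 1 + ((i : ℕ) - (j : ℕ))) : ℤ)
            else (Nat.choose (2 * n + 1) (n + ((j : ℕ) - (i : ℕ))) : ℤ))).det ≠ 0 := by
  set A : Matrix (Fin m) (Fin m) ℤ := Matrix.of fun i j : Fin m =>
    (-1 : ℤ) ^ ((i : ℕ) + (j : ℕ)) *
      (if (j : ℕ) ≤ (i : ℕ) then (Nat.choose (2 * n + 1) (n + 1 + ((i : ℕ) - (j : ℕ))) : ℤ)
        else (Nat.choose (2 * n + 1) (n + ((j : ℕ) - (i : ℕ))) : ℤ)) with hA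
  intro hdet
  set B : Matrix (Fin m) (Fin m) ℝ := A.map (Int.cast : ℤ → ℝ) with hB
  have hBdet : B.det = 0 := by
    rw [hB, show A.map (Int.cast : ℤ → ℝ) = (Int.castRingHom ℝ).mapMatrix A from rfl,
      ← RingHom.map_det, hdet, map_zero]
  obtain ⟨v, hv, hBv⟩ := Matrix.exists_mulVec_eq_zero_iff.2 hBdet
  have hkey : ∀ d : ℕ, (2 * (n + 1)).choose (n + 1 + d) =
      (2 * n + 1).choose (n + d) + (2 * n + 1).choose (n + 1 + d) := by
    intro d
    rw [show 2 * (n + 1) = (2 * n + 1) + 1 by ring, show n + 1 + d = (n + d) + 1 by ring,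
      Nat.choose_succ_succ]
  have hsum : B + Matrix.transpose B = Matrix.of fun i j : Fin m => (-1 : ℝ) ^ ((i : ℕ) + (j : ℕ)) *
      ((2 * (n + 1)).choose (n + 1 + Nat.dist i j) : ℝ) := by
    ext i j
    rw [Matrix.of_apply, hkey, hB, hA]
    simp only [Matrix.add_apply, Matrix.transpose_apply, Matrix.map_apply, Matrix.of_apply,
      add_comm (j : ℕ) (i : ℕ)]
    rcases lt_trichotomy (i : ℕ) (j : ℕ) with h | h | h
    · rw [Nat.dist_eq_sub_of_le h.le, if_neg (by omega), if_pos h.le]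
      push_cast; ring
    · rw [Nat.dist_eq_zero h, if_pos h.ge, if_pos h.le, h, Nat.sub_self]
      push_cast
      rw [show (2 * n + 1).choose (n + 0) = (2 * n + 1).choose (n + 1 + 0) by
        rw [← Nat.choose_symm (show n + 0 ≤ 2 * n + 1 by omega)]; congr 1; omega]
      ring
    · rw [Nat.dist_eq_sub_of_le_right h.le, if_pos h.le, if_neg (by omega)]
      push_cast; ring
  have hpos := (Groth.Agent.ToeplitzBinom.posDef (n + 1) m).dotProduct_mulVec_pos hv
  rw [← hsum, Matrix.add_mulVec, hBv, Matrix.mulVec_transpose, zero_add, star_trivial,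
    dotProduct_comm, ← Matrix.dotProduct_mulVec, hBv, dotProduct_zero] at hpos
  exact lt_irrefl 0 hpos

end Groth.Agent.S19021
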