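import Groth.Statements.S19022
import Groth.Agent.Lib.RelAmple18.Basic
import Groth.Agent.Lib.Twist.Gen
import Groth.Agent.Lib.Twist.Triv
-- import your own Groth.Agent.* helpers here

set_option autoImplicit false
universe u
open CategoryTheory AlgebraicGeometry
open PicF

namespace Groth.Agent.S19022

/-- Let X be a scheme, L an invertible O_X-module and T a finite set of closed points of X that lies in
some affine open of X. Then T lies in an affine open U of X on which L is trivial (L restricted to U
is isomorphic to the structure sheaf). (The source states this for a smooth quasi-projective complex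
surface, where every finite set of points lies in an affine open, and phrases it as: X^n and the
symmetric product S^n X are covered by the opens U^n and S^n U with U affine and L trivial on U; the
printed argument uses only that the finitely many points lie in one affine open, which is taken as
the hypothesis here.) -/
theorem result
    (X : Scheme.{u}) (L : X.Modules) (hL : PicF.IsInvertible L)
    (T : Finset X) (hT : ∀ x ∈ T, IsClosed ({x} : Set X))
    (hU : ∃ U : X.Opens, IsAffineOpen U ∧ ∀ x ∈ T, x ∈ U) :
    ∃ U : X.Opens, IsAffineOpen U ∧ (∀ x ∈ T, x ∈ U) ∧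
      Nonempty (L.restrict U.ι ≅ Coh.structureModule (↑U : Scheme.{u})) := by
  obtain ⟨U, hU, hTU⟩ := hU
  haveI : IsAffine (U : Scheme.{u}) := hU
  have hL' : PicF.IsInvertible (L.restrict U.ι) := Twist.isInvertible_restrict L U.ι fun y => hL (U.ι y)
  obtain ⟨s, hG, hTG, -⟩ := Amp.exists_affine_section_finite hL' (Z := U.ι ⁻¹' (T : Set X))
    (T.finite_toSet.preimage U.ι.isOpenEmbedding.injective.injOn) (W := ⊤) (fun _ _ => trivial)
  obtain ⟨t, ht⟩ := RA.exists_sec_of_restrict hL U s
  have hGU : U.ι ''ᵁ CohB1.genLocus (L.restrict U.ι) s ≤ U := U.ι_image_le _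
  refine ⟨U.ι ''ᵁ CohB1.genLocus (L.restrict U.ι) s, hG.image_of_isOpenImmersion U.ι,
    fun x hx => ⟨⟨x, hTU x hx⟩, hTG hx, rfl⟩, ?_⟩
  refine Twist.nonempty_restrict_iso L _ (M2.res L hGU t) (Twist.isGen_of_stalk fun x hx => ?_)
  obtain ⟨y, hy, hyx⟩ := hx
  have h1 := (ht y).mp hy
  subst hyx
  have hmem : U.ι y ∈ U.ι ''ᵁ CohB1.genLocus (L.restrict U.ι) s := ⟨y, hy, rfl⟩
  have h2 : Amp.gm L (U.ι y) hmem (M2.res L hGU t) = Amp.gm L y.1 y.2 t := Amp.gm_res hGU _ t
  change Amp.Gen (Amp.gm L (U.ι y) hmem (M2.res L hGU t))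
  rw [h2]
  exact h1

end Groth.Agent.S19022
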