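import Groth.Statements.S19025
import Mathlib

set_option autoImplicit false
universe u
open HigherRestr

namespace Groth.Agent.S19025

/-- In abstract form, the estimate its proof establishes. Let S be a commutative ring, I an ideal of S,
g₀ and g₁ elements with g₁ - g₀ ∈ I, N a natural number and y a sequence in S such that, for 1 ≤ i ≤
N, the (N-i)-fold unit-step forward difference of y taken at i lies in I^(N-i). Then g₀^N times the
N-fold forward difference of y at 0, minus the N-fold forward difference at 0 of the twisted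
sequence j ↦ g₀^(N-j) g₁^j y_j, lies in I^N. (In the source S is the ring of functions on an affine
chart of X^n, I the ideal of a pairwise diagonal, g₀ and g₁ the two pullbacks of a transition unit
of L, and y_j the components x_λ along the compositions a₀^(N-j) a₁^j μ; the estimate is what makes
the higher order restrictions D^l_L well defined on ker D^(l-1)_L independently of the
trivialisation.) -/
theorem result
    (S : Type u) [CommRing S] (I : Ideal S) (g₀ g₁ : S) (hg : g₁ - g₀ ∈ I)
    (N : ℕ) (y : ℕ → S)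
    (hy : ∀ i : ℕ, 1 ≤ i → i ≤ N → (fwdDiff (1 : ℕ))^[N - i] y i ∈ I ^ (N - i)) :
    g₀ ^ N * (fwdDiff (1 : ℕ))^[N] y 0 -
        (fwdDiff (1 : ℕ))^[N] (fun j : ℕ => g₀ ^ (N - j) * g₁ ^ j * y j) 0 ∈ I ^ N := by
  classical
  set u := g₁ - g₀ with hu
  have hexp : (fwdDiff (1 : ℕ))^[N] (fun j : ℕ => g₀ ^ (N - j) * g₁ ^ j * y j) 0 =
      ∑ i ∈ Finset.range (N + 1), u ^ i * g₀ ^ (N - i) * (N.choose i : S) * (fwdDiff (1 : ℕ))^[N - i] y i := by
    simp only [fwdDiff_iter_eq_sum_shift, smul_eq_mul, mul_one, zero_add, Finset.mul_sum, zsmul_eq_mul, Int.cast_mul, Int.cast_pow, Int.cast_neg, Int.cast_one, Int.cast_natCast]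
    rw [Finset.sum_sigma', Finset.sum_congr rfl fun j _ => show _ = ∑ i ∈ Finset.range (j + 1), (-1 : S) ^ (N - j) * (N.choose j : S) * ((j.choose i : S) * u ^ i * g₀ ^ (j - i)) * (g₀ ^ (N - j) * y j) by
      rw [show g₁ = u + g₀ by rw [hu]; ring, add_pow, Finset.mul_sum, Finset.sum_mul, Finset.mul_sum]
      exact Finset.sum_congr rfl fun i _ => by ring]
    rw [Finset.sum_sigma']
    refine Finset.sum_nbij' (fun x => ⟨x.2, x.1 - x.2⟩) (fun x => ⟨x.1 + x.2, x.1⟩) ?_ ?_ ?_ ?_ ?_
    · intro x hx; simp only [Finset.mem_sigma, Finset.mem_range] at hx ⊢; omega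
    · intro x hx; simp only [Finset.mem_sigma, Finset.mem_range] at hx ⊢; omega
    · rintro ⟨a, b⟩ hx; simp only [Finset.mem_sigma, Finset.mem_range] at hx
      simp only [Sigma.mk.injEq, heq_eq_eq, and_true]; omega
    · rintro ⟨a, b⟩ hx; simp only [Finset.mem_sigma, Finset.mem_range] at hx
      simp only [Sigma.mk.injEq, heq_eq_eq, true_and]; omega
    · rintro ⟨j, i⟩ hx
      simp only [Finset.mem_sigma, Finset.mem_range] at hx
      simp only [show i + (j - i) = j by omega, show N - i - (j - i) = N - j by omega]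
      have hc : (N.choose j : S) * (j.choose i : S) = (N.choose i : S) * ((N - i).choose (j - i) : S) := by
        rw [← Nat.cast_mul, ← Nat.cast_mul, Nat.choose_mul (by omega)]
      rw [show N - i = (N - j) + (j - i) by omega, pow_add] at *
      linear_combination (-1 : S) ^ (N - j) * u ^ i * g₀ ^ (N - j) * g₀ ^ (j - i) * y j * hc
  rw [hexp, Finset.sum_range_succ']
  simp only [pow_zero, Nat.sub_zero, Nat.choose_zero_right, Nat.cast_one, one_mul, mul_one]
  rw [sub_add_cancel_right, ← Finset.sum_neg_distrib]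
  refine Submodule.sum_mem _ fun i hi => neg_mem ?_
  rw [Finset.mem_range] at hi
  have h1 : u ^ (i + 1) ∈ I ^ (i + 1) := Ideal.pow_mem_pow hg _
  have h2 := hy (i + 1) (by omega) (by omega)
  have h3 := Ideal.mul_mem_mul h1 h2
  rw [← pow_add, show i + 1 + (N - (i + 1)) = N by omega] at h3
  rw [show u ^ (i + 1) * g₀ ^ (N - (i + 1)) * (N.choose (i + 1) : S) * (fwdDiff (1 : ℕ))^[N - (i + 1)] y (i + 1) = (g₀ ^ (N - (i + 1)) * (N.choose (i + 1) : S)) * (u ^ (i + 1) * (fwdDiff (1 : ℕ))^[N - (i + 1)] y (i + 1)) by ring]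
  exact Ideal.mul_mem_left _ _ h3

end Groth.Agent.S19025
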