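import Groth.Statements.S19033
import Groth.Agent.Lib.LabBIH28.Basic

set_option autoImplicit false
universe u
open LabGraph

namespace Groth.Agent.S19033

set_option maxHeartbeats 2000000

open Finset

open LabGraph in
/-- Let X be a quasi-wp-stable curve of genus g ≥ 2 over an algebraically closed field, encoded by a
weighted multigraph: vertices are the irreducible components C_v, with the weight w v and the loops
at v chosen so that w v plus the number of loops at v is the arithmetic genus of C_v; two distinct
components are joined by one edge for each node and by two edges for each tacnode at which they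
meet. For a set Y of vertices (a subcurve) canDeg Y is then deg_Y ω_X = 2 g_Y − 2 + k_Y and cut Y is
k_Y, the length of the intersection of Y with its complementary subcurve; a vertex is exceptional
(weight zero, loopless, exactly two edges to other vertices) exactly when C_v is an exceptional
component; the twist of the indicator function of Y is the multidegree Σ_{C ⊆ Y} C of the degree
class group construction; and the graph is a connected quasistable graph. Let d, d' be properly
balanced multidegrees of the same total degree D (each satisfies the Basic Inequality 2·|K·d_Y −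
D·canDeg Y| ≤ cut Y·K for every Y, where K = 2g − 2 = canDeg of the whole graph, and takes the value
1 on every exceptional vertex), with d strictly balanced: for every nonempty proper Y with d_Y equal
to the upper extreme, i.e. 2(K·d_Y − D·canDeg Y) = K·cut Y, every edge with exactly one endpoint in
Y has an exceptional endpoint. Suppose d' = d + Σ_i twist(1_{Z_i}) for nested vertex sets Z_1 ⊆ ⋯ ⊆
Z_m, each with d at its upper extreme, such that for j < i no edge joins a vertex of Z_j to a vertex
outside Z_i. Then d = d'. (The source assumes only that d − d' lies in the lattice generated by the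
multidegrees of the components and takes the existence of such a nested family from an earlier paper
it cites without proof; this row carries that description as its hypothesis.) -/
theorem result {V E : Type u} [Fintype V] [Fintype E]
    [DecidableEq V] [DecidableEq E] (ends : E → V × V) (w : V → ℕ) (hX : IsQuasistableGraph ends w)
    (hg : 2 ≤ genus ends w) (d d' : V → ℤ) (hD : ∑ v, d v = ∑ v, d' v)
    (hBI : SatisfiesBI ends w d) (hBI' : SatisfiesBI ends w d')
    (hone : ∀ v : V, IsExceptional ends w v → d v = 1) (hone' : ∀ v : V, IsExceptional ends w v → d' v = 1)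
    (hstrict : ∀ Y : Finset V, Y.Nonempty → Y ≠ Finset.univ →
      2 * (canDeg ends w Finset.univ * (∑ v ∈ Y, d v) - (∑ v, d v) * canDeg ends w Y)
          = (cut ends Y : ℤ) * canDeg ends w Finset.univ →
      ∀ e : E, (((ends e).1 ∈ Y ∧ (ends e).2 ∉ Y) ∨ ((ends e).1 ∉ Y ∧ (ends e).2 ∈ Y)) →
        (IsExceptional ends w (ends e).1 ∨ IsExceptional ends w (ends e).2))
    (m : ℕ) (Z : Fin m → Finset V) (hmono : ∀ i j : Fin m, i ≤ j → Z i ⊆ Z j)
    (hext : ∀ i : Fin m, 2 * (canDeg ends w Finset.univ * (∑ v ∈ Z i, d v) - (∑ v, d v) * canDeg ends w (Z i))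
          = (cut ends (Z i) : ℤ) * canDeg ends w Finset.univ)
    (hsep : ∀ i j : Fin m, j < i → ∀ e : E,
      ¬ (((ends e).1 ∈ Z j ∧ (ends e).2 ∉ Z i) ∨ ((ends e).2 ∈ Z j ∧ (ends e).1 ∉ Z i)))
    (hsum : ∀ v : V, d' v = d v + ∑ i : Fin m, twist ends (fun u => if u ∈ Z i then (1 : ℤ) else 0) v) :
    d = d' := by
  classical
  set K := canDeg ends w univ with hKdef
  have hK : 0 < K := by rw [hKdef, Groth.Agent.LabBIH28.canDeg_univ]; omega
  -- no edge leaves a level set
  suffices hno : ∀ i e, ¬ (((ends e).1 ∈ Z i ∧ (ends e).2 ∉ Z i) ∨ ((ends e).1 ∉ Z i ∧ (ends e).2 ∈ Z i)) by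
    funext v
    rw [hsum v, Finset.sum_eq_zero, add_zero]
    intro i _
    refine Finset.sum_eq_zero fun e _ => ?_
    have := hno i e
    by_cases h1 : (ends e).1 ∈ Z i <;> by_cases h2 : (ends e).2 ∈ Z i <;>
      by_cases p : (ends e).1 = v <;> by_cases q : (ends e).2 = v <;> simp_all
  intro i₀ e₀ hcross
  have hne : (Z i₀).Nonempty := by rcases hcross with h | h <;> exact ⟨_, by first | exact h.1 | exact h.2⟩
  have hnu : Z i₀ ≠ univ := fun h => by rw [h] at hcross; simp at hcross
  obtain ⟨v, hv, hvex⟩ : ∃ v, ((ends e₀).1 = v ∨ (ends e₀).2 = v) ∧ IsExceptional ends w v := by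
    rcases hstrict (Z i₀) hne hnu (hext i₀) e₀ hcross with h | h
    · exact ⟨_, Or.inl rfl, h⟩
    · exact ⟨_, Or.inr rfl, h⟩
  let h : V → ℤ := fun u => ∑ i : Fin m, (if u ∈ Z i then 1 else 0)
  have htw : twist ends h v = 0 := by
    have h1 : ∑ i : Fin m, twist ends (fun u => if u ∈ Z i then (1 : ℤ) else 0) v = twist ends h v := by
      simp only [LabGraph.twist]
      rw [Finset.sum_comm]
      refine Finset.sum_congr rfl fun e _ => ?_
      simp only [h]
      rw [Finset.sum_add_distrib, ← Finset.sum_sub_distrib, ← Finset.sum_sub_distrib]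
      congr 1 <;> split_ifs <;> simp
    have h2 := hsum v
    rw [hone v hvex, hone' v hvex, h1] at h2
    linarith
  -- the two edges at `v`
  obtain ⟨e₁, e₂, he12, hset⟩ := Finset.card_eq_two.1 hvex.2.2
  have hmem : ∀ e, e = e₁ ∨ e = e₂ ↔ (((ends e).1 = v ∧ (ends e).2 ≠ v) ∨ ((ends e).1 ≠ v ∧ (ends e).2 = v)) := by
    intro e
    have := Finset.ext_iff.1 hset e
    simp only [mem_filter, mem_univ, true_and, mem_singleton, mem_insert] at this
    exact this.symm
  let oth : E → V := fun e => if (ends e).1 = v then (ends e).2 else (ends e).1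
  have htw2 : twist ends h v = (h (oth e₁) - h v) + (h (oth e₂) - h v) := by
    rw [LabGraph.twist, ← Finset.sum_subset (subset_univ {e₁, e₂}), Finset.sum_pair he12]
    · have a1 := (hmem e₁).1 (Or.inl rfl)
      have a2 := (hmem e₂).1 (Or.inr rfl)
      rcases a1 with ⟨p, q⟩ | ⟨p, q⟩ <;> rcases a2 with ⟨p', q'⟩ | ⟨p', q'⟩ <;> simp [oth, p, q, p', q']
    · intro e _ he
      simp only [mem_insert, mem_singleton] at he
      have := mt (hmem e).2 he
      by_cases p : (ends e).1 = v <;> by_cases q : (ends e).2 = v <;> simp_all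
  -- `v` is strictly below one of its neighbours
  have hlt : h v < h (oth e₁) ∨ h v < h (oth e₂) := by
    have he0 : e₀ = e₁ ∨ e₀ = e₂ := (hmem e₀).2 (by
      rcases hv with p | p
      · exact Or.inl ⟨p, fun q => hvex.2.1 e₀ (Prod.ext p q)⟩
      · exact Or.inr ⟨fun q => hvex.2.1 e₀ (Prod.ext q p), p⟩)
    have hne0 : h (oth e₀) ≠ h v := by
      have hcases : (v ∈ Z i₀ ∧ oth e₀ ∉ Z i₀) ∨ (v ∉ Z i₀ ∧ oth e₀ ∈ Z i₀) := by
        by_cases p : (ends e₀).1 = v
        · simp only [oth, p, if_true]; rw [← p]; tauto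
        · simp only [oth, p, if_false]; rw [← hv.resolve_left p]; tauto
      have hsep' : ∀ i j, j < i → ¬ (v ∈ Z j ∧ oth e₀ ∉ Z i) ∧ ¬ (oth e₀ ∈ Z j ∧ v ∉ Z i) := by
        intro i j hji
        have := hsep i j hji e₀
        by_cases p : (ends e₀).1 = v
        · simp only [oth, p, if_true]; rw [← p]; tauto
        · simp only [oth, p, if_false]; rw [← hv.resolve_left p]; tauto
      intro heq
      rcases hcases with ⟨a, b⟩ | ⟨a, b⟩
      · have : h (oth e₀) < h v := by
          refine Finset.sum_lt_sum (fun i _ => ?_) ⟨i₀, mem_univ _, by simp [a, b]⟩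
          by_cases hu : oth e₀ ∈ Z i
          · have : v ∈ Z i := by
              rcases lt_trichotomy i₀ i with hl | hl | hl
              · exact hmono i₀ i hl.le a
              · exact hl ▸ a
              · exact absurd (hmono i i₀ hl.le hu) b
            simp [hu, this]
          · simp [hu]; split_ifs <;> norm_num
        omega
      · have : h v < h (oth e₀) := by
          refine Finset.sum_lt_sum (fun i _ => ?_) ⟨i₀, mem_univ _, by simp [a, b]⟩
          by_cases hu : v ∈ Z i
          · have : oth e₀ ∈ Z i := by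
              rcases lt_trichotomy i₀ i with hl | hl | hl
              · exact hmono i₀ i hl.le b
              · exact hl ▸ b
              · exact absurd (hmono i i₀ hl.le hu) a
            simp [hu, this]
          · simp [hu]; split_ifs <;> norm_num
        omega
    rw [htw2] at htw
    rcases he0 with rfl | rfl <;> omega
  obtain ⟨i, hvi, hin, hout⟩ : ∃ i, v ∉ Z i ∧ ((oth e₁ ∈ Z i ∧ oth e₂ ∉ Z i) ∨ (oth e₂ ∈ Z i ∧ oth e₁ ∉ Z i)) ∧ True := by
    rw [htw2] at htw
    have key : ∀ a b : V, h v < h a → h b < h v → ∃ i, v ∉ Z i ∧ a ∈ Z i ∧ b ∉ Z i := by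
      intro a b ha hb
      by_contra hc
      push Not at hc
      obtain ⟨i, -, hi⟩ : ∃ i ∈ (univ : Finset (Fin m)), ¬ ((if a ∈ Z i then (1 : ℤ) else 0) ≤ if v ∈ Z i then 1 else 0) := by
        by_contra hc'
        push Not at hc'
        exact absurd (Finset.sum_le_sum hc') (not_le.2 ha)
      have hai : a ∈ Z i ∧ v ∉ Z i := by
        by_cases p : a ∈ Z i <;> by_cases q : v ∈ Z i <;> simp_all
      have hbi := hc i hai.2 hai.1
      obtain ⟨j, -, hj⟩ : ∃ j ∈ (univ : Finset (Fin m)), ¬ ((if v ∈ Z j then (1 : ℤ) else 0) ≤ if b ∈ Z j then 1 else 0) := by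
        by_contra hc'
        push Not at hc'
        exact absurd (Finset.sum_le_sum hc') (not_le.2 hb)
      have hbj : v ∈ Z j ∧ b ∉ Z j := by
        by_cases p : v ∈ Z j <;> by_cases q : b ∈ Z j <;> simp_all
      rcases le_total i j with hl | hl
      · exact hbj.2 (hmono i j hl hbi)
      · exact hai.2 (hmono j i hl hbj.1)
    rcases hlt with hl | hl
    · obtain ⟨i, a, b, c⟩ := key _ (oth e₂) hl (by omega)
      exact ⟨i, a, Or.inl ⟨b, c⟩, trivial⟩
    · obtain ⟨i, a, b, c⟩ := key _ (oth e₁) hl (by omega)
      exact ⟨i, a, Or.inr ⟨b, c⟩, trivial⟩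
  -- adding `v` beats the upper extreme
  have hbi := (Groth.Agent.LabBIH28.bi_iff ends w d).1 hBI (insert v (Z i))
  have hdev : Groth.Agent.LabBIH28.dev ends w d (insert v (Z i)) = (cut ends (Z i) : ℤ) * K + 2 * K := by
    have hcd : canDeg ends w (insert v (Z i)) = canDeg ends w (Z i) + (2 * (w v : ℤ) - 2 + (endCount ends univ v : ℤ)) := by
      simp [canDeg, Finset.sum_insert hvi]; ring
    rw [← hext i, Groth.Agent.LabBIH28.dev, Finset.sum_insert hvi, hcd, hone v hvex, ← hKdef]
    have hcnt : (endCount ends univ v : ℤ) = 2 := by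
      rw [show (2 : ℤ) = ((2 : ℕ) : ℤ) from rfl, ← hvex.2.2, Nat.cast_inj, LabGraph.endCount, LabGraph.cut, Finset.card_filter]
      refine Finset.sum_congr rfl fun e _ => ?_
      have := hvex.2.1 e
      by_cases p : (ends e).1 = v <;> by_cases q : (ends e).2 = v <;> simp_all [Prod.ext_iff]
    rw [hvex.1, hcnt]
    push_cast
    ring
  have hcut : (cut ends (insert v (Z i)) : ℤ) = cut ends (Z i) := by
    rw [Groth.Agent.LabBIH28.cut_eq, Groth.Agent.LabBIH28.cut_eq,
      ← Finset.sum_sdiff (subset_univ ({e₁, e₂} : Finset E)), ← Finset.sum_sdiff (subset_univ ({e₁, e₂} : Finset E))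
        (f := fun e => (Groth.Agent.LabBIH28.ind (Z i) (ends e).1 - Groth.Agent.LabBIH28.ind (Z i) (ends e).2) ^ 2)]
    congr 1
    · refine Finset.sum_congr rfl fun e he => ?_
      simp only [mem_sdiff, mem_univ, true_and, mem_insert, mem_singleton] at he
      have hnot := mt (hmem e).2 he
      have := hvex.2.1 e
      have p : (ends e).1 ≠ v := fun p => hnot (Or.inl ⟨p, fun q => this (Prod.ext p q)⟩)
      have q : (ends e).2 ≠ v := fun q => hnot (Or.inr ⟨p, q⟩)
      simp [Groth.Agent.LabBIH28.ind, p, q]
    · rw [Finset.sum_pair he12, Finset.sum_pair he12]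
      have a1 := (hmem e₁).1 (Or.inl rfl)
      have a2 := (hmem e₂).1 (Or.inr rfl)
      rcases a1 with ⟨p, q⟩ | ⟨p, q⟩ <;> rcases a2 with ⟨p', q'⟩ | ⟨p', q'⟩ <;>
        simp only [oth, p, p', if_true, if_false] at hin <;>
        rcases hin with ⟨r, r'⟩ | ⟨r, r'⟩ <;> simp [Groth.Agent.LabBIH28.ind, p, q, p', q', r, r', hvi]
  rw [hdev, hcut] at hbi
  have := (abs_le.1 hbi).2
  linarith

end Groth.Agent.S19033
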