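import Groth.Statements.S19034
import Groth.Agent.Lib.LabBIH28.Basic

set_option autoImplicit false
universe u
open LabGraph

namespace Groth.Agent.S19034

open Finset

open LabGraph in
/-- Let σ : Z → X be the contraction of some exceptional components of a quasi-wp-stable curve Z of
genus g ≥ 2 onto a quasi-wp-stable curve X, and d a properly balanced multidegree on X; then the
pull-back d̃ of d to Z (d̃_W = d_{σ(W)} when σ(W) is a curve, d̃ = 0 on contracted components) is
balanced. Encode Z by its weighted multigraph (vertices = irreducible components, weight plus number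
of loops = arithmetic genus of the component, one edge per node and two per tacnode joining distinct
components; canDeg Y = deg_Y ω_Z, cut Y = k_Y, K = canDeg of all vertices = 2g − 2; exceptional
vertex = exceptional component), and let S be the set of contracted components, each an exceptional
vertex. The components of X are the vertices outside S; for a set W of them, the subcurve σ(W) of X
has deg ω_X equal to canDeg Ŵ and k equal to cut Ŵ, where Ŵ is W together with the vertices of S all
of whose edges end in W, and the exceptional components of X are the exceptional vertices outside S.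
So the hypotheses below say that d̃ vanishes on S and that d = d̃|_{V∖S} is properly balanced on X
(Basic Inequality 2·|K·d_W − D·canDeg Ŵ| ≤ cut Ŵ·K for every W disjoint from S, D the total degree,
and value 1 on exceptional vertices outside S); the conclusion is the Basic Inequality for d̃ on Z,
for every set of vertices. -/
theorem result {V E : Type u} [Fintype V] [Fintype E]
    [DecidableEq V] [DecidableEq E] (ends : E → V × V) (w : V → ℕ) (hZ : IsQuasistableGraph ends w)
    (hg : 2 ≤ genus ends w) (S : Finset V) (hS : ∀ v ∈ S, IsExceptional ends w v)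
    (dt : V → ℤ) (hzero : ∀ v ∈ S, dt v = 0)
    (hBI : ∀ W : Finset V, Disjoint W S →
      2 * |canDeg ends w Finset.univ * (∑ v ∈ W, dt v) - (∑ v, dt v) * canDeg ends w (Finset.univ.filter (fun v : V => v ∈ W ∨ (v ∈ S ∧ ∀ e : E, ((ends e).1 = v → (ends e).2 ∈ W) ∧ ((ends e).2 = v → (ends e).1 ∈ W))))|
        ≤ (cut ends (Finset.univ.filter (fun v : V => v ∈ W ∨ (v ∈ S ∧ ∀ e : E, ((ends e).1 = v → (ends e).2 ∈ W) ∧ ((ends e).2 = v → (ends e).1 ∈ W)))) : ℤ) * canDeg ends w Finset.univ)
    (hone : ∀ v : V, v ∉ S → IsExceptional ends w v → dt v = 1) :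
    SatisfiesBI ends w dt := by
  classical
  rw [Groth.Agent.LabBIH28.bi_iff]
  intro Y
  set K := canDeg ends w univ with hKdef
  have hK : 0 < K := by rw [hKdef, Groth.Agent.LabBIH28.canDeg_univ]; omega
  set W := Y \ S
  set Wh := Finset.univ.filter (fun v : V => v ∈ W ∨ (v ∈ S ∧ ∀ e : E, ((ends e).1 = v → (ends e).2 ∈ W) ∧ ((ends e).2 = v → (ends e).1 ∈ W))) with hWh
  have hb := hBI W (Finset.sdiff_disjoint)
  rw [← hWh] at hb
  have hcS : ∀ v ∈ S, 2 * (w v : ℤ) - 2 + (endCount ends univ v : ℤ) = 0 := by
    intro v hv
    obtain ⟨h0, h1, h2⟩ := hS v hv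
    have hcnt : (endCount ends univ v : ℤ) = 2 := by
      rw [show (2 : ℤ) = ((2 : ℕ) : ℤ) from rfl, ← h2, Nat.cast_inj, LabGraph.endCount, LabGraph.cut, Finset.card_filter]
      refine Finset.sum_congr rfl fun e _ => ?_
      have := h1 e
      by_cases p : (ends e).1 = v <;> by_cases q : (ends e).2 = v <;> simp_all [Prod.ext_iff]
    rw [h0, hcnt]; norm_num
  have hsub : W ⊆ Wh := fun v hv => mem_filter.2 ⟨mem_univ v, Or.inl hv⟩
  have hdt : ∑ v ∈ Y, dt v = ∑ v ∈ W, dt v :=
    (Finset.sum_subset Finset.sdiff_subset fun v hv hnv => hzero v (by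
      by_contra h; exact hnv (mem_sdiff.2 ⟨hv, h⟩))).symm
  have hcd : canDeg ends w Y = canDeg ends w Wh := by
    have h1 : ∀ T : Finset V, W ⊆ T → T ⊆ W ∪ S → canDeg ends w W = canDeg ends w T := fun T hT hT' =>
      Finset.sum_subset hT fun v hv hnv => hcS v ((mem_union.1 (hT' hv)).resolve_left hnv)
    rw [← h1 Y Finset.sdiff_subset, h1 Wh hsub]
    · intro v hv
      rcases (mem_filter.1 hv).2 with h | h
      · exact mem_union_left _ h
      · exact mem_union_right _ h.1
    · intro v hv
      by_cases h : v ∈ S
      · exact mem_union_right _ h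
      · exact mem_union_left _ (mem_sdiff.2 ⟨hv, h⟩)
  have hnadj : ∀ e, ¬ ((ends e).1 ∈ S ∧ (ends e).2 ∈ S) := fun e ⟨h1, h2⟩ => by
    by_cases h : (ends e).1 = (ends e).2
    · exact (hS _ h1).2.1 e (Prod.ext rfl h.symm)
    · exact hZ.2 e h ⟨hS _ h1, hS _ h2⟩
  have hcut : (cut ends Wh : ℤ) ≤ cut ends Y := by
    rw [Groth.Agent.LabBIH28.cut_eq, Groth.Agent.LabBIH28.cut_eq]
    let key : E → Option V := fun e =>
      if (ends e).1 ∈ S then some (ends e).1 else if (ends e).2 ∈ S then some (ends e).2 else none
    rw [← Finset.sum_fiberwise univ key, ← Finset.sum_fiberwise univ key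
      (fun e => (Groth.Agent.LabBIH28.ind Y (ends e).1 - Groth.Agent.LabBIH28.ind Y (ends e).2) ^ 2)]
    refine Finset.sum_le_sum fun o _ => ?_
    have hout : ∀ u, u ∉ S → Groth.Agent.LabBIH28.ind Wh u = Groth.Agent.LabBIH28.ind Y u := fun u hu => by
      simp [Groth.Agent.LabBIH28.ind, hWh, W, hu]
    cases o with
    | none =>
      refine Finset.sum_le_sum fun e he => le_of_eq ?_
      simp only [mem_filter, mem_univ, true_and, key] at he
      split_ifs at he with p q
      rw [hout _ p, hout _ q]
    | some s =>
      by_cases hsS : s ∈ S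
      · obtain ⟨h0, h1, h2⟩ := hS s hsS
        obtain ⟨e₁, e₂, he12, hset⟩ := Finset.card_eq_two.1 h2
        have hfib : univ.filter (fun e => key e = some s) = {e₁, e₂} := by
          rw [← hset]
          ext e
          simp only [mem_filter, mem_univ, true_and, key, mem_singleton]
          have := h1 e
          have := hnadj e
          constructor
          · intro h
            split_ifs at h with p q
            · cases Option.some.inj h
              exact Or.inl ⟨rfl, fun q => h1 e (Prod.ext rfl q)⟩
            · cases Option.some.inj h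
              exact Or.inr ⟨fun q' => p (q' ▸ hsS), rfl⟩
          · rintro (⟨p, q⟩ | ⟨p, q⟩)
            · simp [p, hsS]
            · have : (ends e).1 ∉ S := fun h => hnadj e ⟨h, q ▸ hsS⟩
              simp [this, q, hsS]
        rw [hfib, Finset.sum_pair he12, Finset.sum_pair he12]
        let oth : E → V := fun e => if (ends e).1 = s then (ends e).2 else (ends e).1
        have hat : ∀ e, (e = e₁ ∨ e = e₂) → oth e ∉ S ∧ ∀ T : Finset V,
            (Groth.Agent.LabBIH28.ind T (ends e).1 - Groth.Agent.LabBIH28.ind T (ends e).2) ^ 2 =
            (Groth.Agent.LabBIH28.ind T s - Groth.Agent.LabBIH28.ind T (oth e)) ^ 2 := by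
          intro e he
          have hh := Finset.ext_iff.1 hset e
          simp only [mem_filter, mem_univ, true_and, mem_singleton, mem_insert] at hh
          rcases hh.2 he with ⟨p, q⟩ | ⟨p, q⟩
          · simp only [oth, p, if_true]
            exact ⟨fun h => hnadj e ⟨p ▸ hsS, h⟩, fun T => trivial⟩
          · simp only [oth, p, if_false, q]
            exact ⟨fun h => hnadj e ⟨h, q ▸ hsS⟩, fun T => by ring⟩
        obtain ⟨o1, f1⟩ := hat e₁ (Or.inl rfl)
        obtain ⟨o2, f2⟩ := hat e₂ (Or.inr rfl)
        rw [f1, f1, f2, f2, hout _ o1, hout _ o2]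
        have hs' : s ∈ Wh ↔ oth e₁ ∈ Y ∧ oth e₂ ∈ Y := by
          rw [hWh, mem_filter]
          simp only [mem_univ, true_and, W, mem_sdiff, hsS, not_true_eq_false, and_false, false_or]
          constructor
          · intro hall
            have hw : ∀ e, (e = e₁ ∨ e = e₂) → oth e ∈ Y := by
              intro e he
              have hh := Finset.ext_iff.1 hset e
              simp only [mem_filter, mem_univ, true_and, mem_singleton, mem_insert] at hh
              rcases hh.2 he with ⟨p, -⟩ | ⟨p, q⟩
              · simp only [oth, p, if_true]; exact ((hall e).1 p).1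
              · simp only [oth, p, if_false]; exact ((hall e).2 q).1
            exact ⟨hw e₁ (Or.inl rfl), hw e₂ (Or.inr rfl)⟩
          · intro hh e
            have hh' := Finset.ext_iff.1 hset e
            simp only [mem_filter, mem_univ, true_and, mem_singleton, mem_insert] at hh'
            constructor <;> intro p
            · have q : (ends e).2 ≠ s := fun q => h1 e (Prod.ext p q)
              refine ⟨?_, fun h => hnadj e ⟨p ▸ hsS, h⟩⟩
              rcases hh'.1 (Or.inl ⟨p, q⟩) with rfl | rfl
              · have := hh.1; simpa [oth, p] using this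
              · have := hh.2; simpa [oth, p] using this
            · have q : (ends e).1 ≠ s := fun q => h1 e (Prod.ext q p)
              refine ⟨?_, fun h => hnadj e ⟨h, p ▸ hsS⟩⟩
              rcases hh'.1 (Or.inr ⟨q, p⟩) with rfl | rfl
              · have := hh.1; simpa [oth, q] using this
              · have := hh.2; simpa [oth, q] using this
        unfold Groth.Agent.LabBIH28.ind
        by_cases a : oth e₁ ∈ Y <;> by_cases b : oth e₂ ∈ Y <;> by_cases c : s ∈ Y <;>
          simp [hs', a, b, c]
      · have : univ.filter (fun e => key e = some s) = ∅ := by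
          refine Finset.filter_eq_empty_iff.2 fun e _ he => hsS ?_
          simp only [key] at he
          split_ifs at he with p q <;> cases Option.some.inj he <;> assumption
        simp [this]
  rw [Groth.Agent.LabBIH28.dev, hdt, hcd, abs_mul, abs_two]
  exact hb.trans (mul_le_mul_of_nonneg_right hcut hK.le)

end Groth.Agent.S19034
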