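import Groth.Statements.S19035
import Mathlib.RingTheory.FiniteType
import Mathlib.RingTheory.Polynomial.Basic

set_option autoImplicit false
universe u v w x
open CAlg

namespace Groth.Agent.S19035

/-- Let p be a prime and k a perfect field of characteristic p. Let (A_i) be a directed system of
finitely generated commutative k-algebras, indexed by a nonempty directed preorder, with compatible
k-algebra transition maps, and let B be a finitely generated k-algebra with compatible k-algebra
maps A_i → B which present B as the direct limit of the system (every element of B is the image of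
an element of some A_i, and two elements of some A_i with the same image in B have the same image in
some A_j). Then the p-typical Witt vectors commute with this direct limit: every Witt vector over B
is the image of a Witt vector over some A_i, and two Witt vectors over some A_i with the same image
over B already have the same image over some A_j. (Both finiteness hypotheses matter: for an
arbitrary filtered direct limit of commutative rings either assertion can fail.) -/
theorem result
    (p : ℕ) [Fact p.Prime] (k : Type u) [Field k] [CharP k p] [PerfectRing k p]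
    {ι : Type v} [Preorder ι] [IsDirected ι (· ≤ ·)] [Nonempty ι]
    (A : ι → Type w) [∀ i, CommRing (A i)] [∀ i, Algebra k (A i)]
    [∀ i, Algebra.FiniteType k (A i)]
    (f : ∀ i j, i ≤ j → (A i →ₐ[k] A j))
    (hf : ∀ i j l (hij : i ≤ j) (hjl : j ≤ l) (x : A i),
      f j l hjl (f i j hij x) = f i l (hij.trans hjl) x)
    (B : Type x) [CommRing B] [Algebra k B] [Algebra.FiniteType k B]
    (g : ∀ i, A i →ₐ[k] B)
    (hfg : ∀ i j (hij : i ≤ j) (x : A i), g j (f i j hij x) = g i x)
    (hsurj : ∀ b : B, ∃ i, ∃ x : A i, g i x = b)
    (hinj : ∀ i (x y : A i), g i x = g i y → ∃ j, ∃ hij : i ≤ j, f i j hij x = f i j hij y) :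
    (∀ w : WittVector p B, ∃ i, ∃ v : WittVector p (A i),
        WittVector.map (g i).toRingHom v = w) ∧
    (∀ i (v v' : WittVector p (A i)),
        WittVector.map (g i).toRingHom v = WittVector.map (g i).toRingHom v' →
        ∃ j, ∃ hij : i ≤ j,
          WittVector.map (f i j hij).toRingHom v = WittVector.map (f i j hij).toRingHom v') := by
  classical
  have hker : ∀ i (s : Finset (A i)), (∀ x ∈ s, g i x = 0) → ∃ j, ∃ hij : i ≤ j, ∀ x ∈ s, f i j hij x = 0 := by
    intro i s
    induction s using Finset.induction with
    | empty => exact fun _ => ⟨i, le_rfl, by simp⟩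
    | insert a s ha ih =>
      intro hs
      obtain ⟨j, hij, hj⟩ := ih fun x hx => hs x (Finset.mem_insert_of_mem hx)
      obtain ⟨l, hjl, hl⟩ := hinj j (f i j hij a) 0 (by rw [hfg, hs a (Finset.mem_insert_self a s), map_zero])
      refine ⟨l, hij.trans hjl, fun x hx => ?_⟩
      rw [← hf i j l hij hjl]
      rcases Finset.mem_insert.1 hx with rfl | hx
      · rw [hl, map_zero]
      · rw [hj x hx, map_zero]
  have hsur : ∀ s : Finset B, ∃ i, ∀ b ∈ s, b ∈ (g i).range := by
    intro s
    induction s using Finset.induction with
    | empty => exact ⟨Classical.arbitrary ι, by simp⟩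
    | insert a s ha ih =>
      obtain ⟨i, hi⟩ := ih
      obtain ⟨i', y, hy⟩ := hsurj a
      obtain ⟨j, hij, hi'j⟩ := directed_of (· ≤ ·) i i'
      refine ⟨j, fun b hb => ?_⟩
      rcases Finset.mem_insert.1 hb with rfl | hb
      · exact ⟨f i' j hi'j y, (hfg i' j hi'j y).trans hy⟩
      · obtain ⟨x, hx⟩ := hi b hb
        exact ⟨f i j hij x, (hfg i j hij x).trans hx⟩
  obtain ⟨S, hS⟩ := (inferInstance : Algebra.FiniteType k B).out
  obtain ⟨i₀, hi₀⟩ := hsur S
  have htop : (g i₀).range = ⊤ := by
    rw [eq_top_iff, ← hS, Algebra.adjoin_le_iff]
    exact fun b hb => hi₀ b hb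
  have hg0 : Function.Surjective (g i₀) := (AlgHom.range_eq_top _).1 htop
  refine ⟨fun w => ?_, fun i v v' h => ?_⟩
  · exact ⟨i₀, WittVector.map_surjective (g i₀).toRingHom hg0 w⟩
  · haveI : IsNoetherianRing (A i) := Algebra.FiniteType.isNoetherianRing k (A i)
    obtain ⟨s, hs⟩ := IsNoetherian.noetherian (RingHom.ker (g i).toRingHom)
    obtain ⟨j, hij, hj⟩ := hker i s fun x hx => by
      have : x ∈ RingHom.ker (g i).toRingHom := hs ▸ Submodule.subset_span hx
      exact this
    refine ⟨j, hij, WittVector.ext fun n => ?_⟩
    rw [WittVector.map_coeff, WittVector.map_coeff]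
    have hn : v.coeff n - v'.coeff n ∈ RingHom.ker (g i).toRingHom := by
      have := congrArg (fun w => WittVector.coeff w n) h
      simp only [WittVector.map_coeff] at this
      rw [RingHom.mem_ker, map_sub, this, sub_self]
    rw [← hs] at hn
    have hle : Submodule.span (A i) (s : Set (A i)) ≤ RingHom.ker (f i j hij).toRingHom :=
      Submodule.span_le.2 fun x hx => hj x hx
    exact sub_eq_zero.1 (by rw [← map_sub]; exact hle hn)

end Groth.Agent.S19035
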