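import Groth.Statements.S19037
import Mathlib

set_option autoImplicit false
universe u v
open scoped Polynomial LaurentPolynomial
open Instab

namespace Groth.Agent.S19037

/-- Affine form over a ring R. Let A be a commutative ℤ-graded R-algebra and t an element of degree −1
(so A is a graded algebra over R[t] with t in degree −1), and let ψ : A[1/t] → R[T, T⁻¹] be an
R-algebra map sending t to T which is graded, in the sense that each homogeneous element of degree n
of A goes to an element of R times T^(−n). Then ψ is obtained by inverting t from an R-algebra map χ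
: A → R[T] (compared through the inclusion of R[T] in R[T, T⁻¹]) if and only if ψ kills t·a for
every homogeneous a of degree 1; such a χ is unique. (The source states this for quasi-coherent
graded algebras over an arbitrary base scheme; the statement is local on the base and is given here
over an affine base.) -/
theorem result
    {R : Type u} {A : Type v} [CommRing R] [CommRing A] [Algebra R A]
    (𝒜 : ℤ → Submodule R A) [GradedAlgebra 𝒜] (t : A) (ht : t ∈ 𝒜 (-1))
    (ψ : Localization.Away t →ₐ[R] R[T;T⁻¹])
    (hψt : ψ (algebraMap A (Localization.Away t) t) = LaurentPolynomial.T 1)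
    (hψ : ∀ (n : ℤ) (a : A), a ∈ 𝒜 n →
      ∃ r : R, ψ (algebraMap A (Localization.Away t) a) = LaurentPolynomial.C r * LaurentPolynomial.T (-n)) :
    (∃! χ : A →ₐ[R] R[X], ∀ a : A,
        ψ (algebraMap A (Localization.Away t) a) = Polynomial.toLaurentAlg (χ a)) ↔
      ∀ a ∈ 𝒜 1, ψ (algebraMap A (Localization.Away t) (t * a)) = 0 := by
  let φ : A →ₐ[R] LaurentPolynomial R := ψ.comp (IsScalarTower.toAlgHom R A (Localization.Away t))
  have hinj : Function.Injective (Polynomial.toLaurentAlg : Polynomial R →ₐ[R] LaurentPolynomial R) := fun a b h =>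
    Polynomial.toLaurent_injective (by simpa [Polynomial.toLaurentAlg_apply] using h)
  constructor
  · rintro ⟨χ, hχ, -⟩ a ha
    obtain ⟨r, hr⟩ := hψ 1 a ha
    have hr0 : r = 0 := by
      have h1 := congrArg (fun f => f.coeff (-1)) ((hχ a).symm.trans hr)
      simp only [Polynomial.toLaurentAlg_apply] at h1
      rw [← LaurentPolynomial.single_eq_C_mul_T] at h1
      have h2 : (Polynomial.toLaurent (χ a)).coeff (-1) = 0 := by
        simp [Polynomial.toLaurent, Finsupp.mapDomain_notin_range]
      rw [h2] at h1
      rw [AddMonoidAlgebra.coeff_single, Finsupp.single_eq_same] at h1; exact h1.symm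
    rw [map_mul, map_mul, hr, hr0, map_zero, zero_mul, mul_zero]
  · intro hvan
    have hrange : ∀ a, φ a ∈ (Polynomial.toLaurentAlg : Polynomial R →ₐ[R] LaurentPolynomial R).range := by
      intro a
      induction a using DirectSum.Decomposition.inductionOn 𝒜 with
      | zero => rw [map_zero]; exact zero_mem _
      | @homogeneous n a =>
        obtain ⟨r, hr⟩ := hψ n a a.2
        show ψ (algebraMap A _ (a : A)) ∈ _
        rcases le_or_gt n 0 with hn | hn
        · refine ⟨Polynomial.C r * Polynomial.X ^ (-n).toNat, ?_⟩
          show Polynomial.toLaurentAlg _ = _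
          rw [hr, Polynomial.toLaurentAlg_apply, Polynomial.toLaurent_C_mul_X_pow, Int.toNat_of_nonneg (by omega)]
        · obtain ⟨j, rfl⟩ : ∃ j : ℕ, n = j + 1 := ⟨(n - 1).toNat, by omega⟩
          have hm : t ^ j * (a : A) ∈ 𝒜 1 := by
            have := SetLike.GradedMul.mul_mem (SetLike.pow_mem_graded j ht) a.2
            rwa [show j • (-1 : ℤ) + ((j : ℤ) + 1) = 1 by simp] at this
          have h0 := hvan _ hm
          simp only [map_mul, map_pow] at h0
          rw [hψt, hr, ← mul_assoc, ← pow_succ'] at h0
          have hz : LaurentPolynomial.C r * LaurentPolynomial.T (-((j : ℤ) + 1)) = 0 :=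
            ((LaurentPolynomial.isUnit_T (R := R) 1).pow (j + 1)).mul_right_eq_zero.1 h0
          rw [hr, hz]; exact zero_mem _
      | add a b ha hb => rw [map_add]; exact add_mem ha hb
    choose χ hχ using fun a => hrange a
    have hχ' : ∀ a, Polynomial.toLaurentAlg (χ a) = φ a := hχ
    let χ' : A →ₐ[R] Polynomial R :=
      { toFun := χ
        map_one' := hinj (by rw [hχ', map_one, map_one])
        map_mul' := fun a b => hinj (by rw [map_mul, hχ', hχ', hχ', map_mul])
        map_zero' := hinj (by rw [hχ', map_zero, map_zero])
        map_add' := fun a b => hinj (by rw [map_add, hχ', hχ', hχ', map_add])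
        commutes' := fun r => hinj (by rw [hχ', AlgHom.commutes, AlgHom.commutes]) }
    exact ⟨χ', fun a => (hχ' a).symm, fun ρ hρ => AlgHom.ext fun a => hinj ((hρ a).symm.trans (hχ' a).symm)⟩

end Groth.Agent.S19037
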