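import Groth.Statements.S19039
import Groth.Agent.Lib.LineDense28.Basic

set_option autoImplicit false
universe u
open Instab

namespace Groth.Agent.S19039

open CategoryTheory MonoidalCategory CartesianMonoidalCategory MonObj GrpObj AlgebraicGeometry in
/-- The case n = 1 for a scheme X separated over an affine base Spec R, stated as the two facts that
identify equivariant families with maps whose orbit map extends. Let G_m act on X (a left action a :
G_m × X → X over Spec R) and on A¹ × T through the scaling action on A¹, for an R-scheme T; write j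
: G_m → A¹ for the inclusion t ↦ t. (a) If u, v : A¹ × T → X are G_m-equivariant R-morphisms with
the same restriction to the section {1} × T, then u = v. (b) If x : T → X is an R-morphism and u :
A¹ × T → X is an R-morphism whose restriction along j × T is the orbit family (g, t) ↦ g · x(t),
then u is G_m-equivariant. (The source works with an algebraic space X quasi-separated and locally
of finite presentation over a base B with an action of G_mⁿ and deduces that X⁺ → X is a locally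
finitely presented unramified monomorphism; only the elementary identification for n = 1 is stated
here, which uses separatedness alone.) -/
theorem result
    (R : Type u) [CommRing R] (X : Over (Spec (CommRingCat.of R))) [IsSeparated X.hom]
    (a : AlgGrp.Action (ThetaS.Gm R) X) (T : Over (Spec (CommRingCat.of R))) :
    (∀ u v : ThetaS.Line R ⊗ T ⟶ X,
        (α_ (ThetaS.Gm R) (ThetaS.Line R) T).inv ≫ ((ThetaS.lineAction R).act ▷ T) ≫ u = (ThetaS.Gm R ◁ u) ≫ a.act →
        (α_ (ThetaS.Gm R) (ThetaS.Line R) T).inv ≫ ((ThetaS.lineAction R).act ▷ T) ≫ v = (ThetaS.Gm R ◁ v) ≫ a.act →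
        lift ((1 : T ⟶ ThetaS.Gm R) ≫ (CoactBr.pt (ThetaS.linePt (ThetaS.zPow R 1)) : ThetaS.Gm R ⟶ ThetaS.Line R)) (𝟙 T) ≫ u =
          lift ((1 : T ⟶ ThetaS.Gm R) ≫ (CoactBr.pt (ThetaS.linePt (ThetaS.zPow R 1)) : ThetaS.Gm R ⟶ ThetaS.Line R)) (𝟙 T) ≫ v →
        u = v) ∧
    (∀ (x : T ⟶ X) (u : ThetaS.Line R ⊗ T ⟶ X),
        ((CoactBr.pt (ThetaS.linePt (ThetaS.zPow R 1)) : ThetaS.Gm R ⟶ ThetaS.Line R) ▷ T) ≫ u = (ThetaS.Gm R ◁ x) ≫ a.act →
        (α_ (ThetaS.Gm R) (ThetaS.Line R) T).inv ≫ ((ThetaS.lineAction R).act ▷ T) ≫ u =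
          (ThetaS.Gm R ◁ u) ≫ a.act) := by
  open Groth.Agent.LineDense28 in
  have hequiv : ∀ (w : ThetaS.Line R ⊗ T ⟶ X),
      (α_ (ThetaS.Gm R) (ThetaS.Line R) T).inv ≫ ((ThetaS.lineAction R).act ▷ T) ≫ w = (ThetaS.Gm R ◁ w) ≫ a.act →
      (jG R ▷ T) ≫ w = (ThetaS.Gm R ◁ (lift ((1 : T ⟶ ThetaS.Gm R) ≫ jG R) (𝟙 T) ≫ w)) ≫ a.act := by
    intro w hw
    have h1 : (lift (fst (ThetaS.Gm R) T) (lift ((1 : _ ⟶ ThetaS.Gm R) ≫ jG R) (snd (ThetaS.Gm R) T))) ≫
        (α_ (ThetaS.Gm R) (ThetaS.Line R) T).inv ≫ ((ThetaS.lineAction R).act ▷ T) = jG R ▷ T := by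
      rw [lift_lift_associator_inv_assoc, lift_whiskerRight, ← lift_whiskerLeft_assoc, jG_act, ← Category.assoc,
        ← Hom.mul_def, _root_.mul_one]
      exact hom_ext _ _ (by simp) (by simp)
    have h2 : lift (fst (ThetaS.Gm R) T) (lift ((1 : _ ⟶ ThetaS.Gm R) ≫ jG R) (snd (ThetaS.Gm R) T)) =
        ThetaS.Gm R ◁ lift ((1 : T ⟶ ThetaS.Gm R) ≫ jG R) (𝟙 T) :=
      hom_ext _ _ (by simp) (by
        simp only [lift_snd, whiskerLeft_snd, comp_lift, Category.comp_id, ← Category.assoc, MonObj.comp_one])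
    rw [← h1, Category.assoc, Category.assoc, hw, h2, ← MonoidalCategory.whiskerLeft_comp_assoc]
  refine ⟨fun u v hu hv huv => Groth.Agent.LineDense28.eq_of_jG R u v ?_, fun x u h => ?_⟩
  · rw [hequiv u hu, hequiv v hv]
    exact congrArg (fun t => (ThetaS.Gm R ◁ t) ≫ a.act) huv
  · let σ : ThetaS.Line R ⊗ (ThetaS.Gm R ⊗ T) ≅ ThetaS.Gm R ⊗ (ThetaS.Line R ⊗ T) :=
      { hom := lift (snd _ _ ≫ fst _ _) (lift (fst _ _) (snd _ _ ≫ snd _ _))
        inv := lift (snd _ _ ≫ fst _ _) (lift (fst _ _) (snd _ _ ≫ snd _ _))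
        hom_inv_id := hom_ext _ _ (by simp) (hom_ext _ _ (by simp) (by simp))
        inv_hom_id := hom_ext _ _ (by simp) (hom_ext _ _ (by simp) (by simp)) }
    haveI : IsIso σ.hom := ⟨σ.inv, σ.hom_inv_id, σ.inv_hom_id⟩
    rw [← cancel_epi σ.hom]
    refine Groth.Agent.LineDense28.eq_of_jG R _ _ ?_
    let g := snd (ThetaS.Gm R) (ThetaS.Gm R ⊗ T) ≫ fst _ _
    let g' := fst (ThetaS.Gm R) (ThetaS.Gm R ⊗ T)
    let t := snd (ThetaS.Gm R) (ThetaS.Gm R ⊗ T) ≫ snd _ _
    have e : (Groth.Agent.LineDense28.jG R ▷ (ThetaS.Gm R ⊗ T)) ≫ σ.hom =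
        lift g (lift (g' ≫ Groth.Agent.LineDense28.jG R) t) :=
      hom_ext _ _ (by simp [σ, g]) (hom_ext _ _ (by simp [σ, g']) (by simp [σ, t]))
    have hact : lift g (g' ≫ Groth.Agent.LineDense28.jG R) ≫ (ThetaS.lineAction R).act =
        (g * g') ≫ Groth.Agent.LineDense28.jG R := by
      rw [← lift_whiskerLeft_assoc, Groth.Agent.LineDense28.jG_act, ← Category.assoc, ← Hom.mul_def]
    rw [reassoc_of% e, reassoc_of% e, lift_lift_associator_inv_assoc]
    refine (lift_whiskerRight_assoc _ _ _ _).trans ?_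
    refine Eq.trans ?_ (lift_whiskerLeft_assoc _ _ _ _).symm
    rw [hact]
    have hp : ∀ (p : ThetaS.Gm R ⊗ (ThetaS.Gm R ⊗ T) ⟶ ThetaS.Gm R),
        lift (p ≫ Groth.Agent.LineDense28.jG R) t ≫ u = lift p (t ≫ x) ≫ a.act := fun p => by
      rw [← lift_whiskerRight_assoc]
      exact (congrArg (lift p t ≫ ·) h).trans (lift_whiskerLeft_assoc _ _ _ _)
    rw [hp, hp]
    have := congrArg (lift (lift g g') (t ≫ x) ≫ ·) a.mul_act
    simpa only [lift_whiskerRight_assoc, lift_lift_associator_hom_assoc, lift_whiskerLeft_assoc, ← Hom.mul_def] using this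

end Groth.Agent.S19039
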