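import Groth.Statements.S19040
import Groth.Agent.Lib.Cyc26.UnivEquidim
import Groth.Agent.Lib.P1Pow11.Base
import Groth.Agent.Lib.ProjSpace.Basic
import Groth.Agent.S2768
import Groth.Agent.S2516

set_option autoImplicit false
universe u
open CategoryTheory CategoryTheory.Limits AlgebraicGeometry
open Cyc

namespace Groth.Agent.S19040

/-- Let X be an integral Noetherian scheme and n a natural number, let P be the n-fold fibre product
over X of copies of the projective line over X, with structure map to X, and let W be an integral
closed subscheme of P of codimension n, in the sense that the local ring of P at the generic point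
of W has Krull dimension n. If the induced morphism f : W → X is dominant and flat, then f is finite
and surjective, so finite and faithfully flat. (The source works with a Noetherian separated scheme
X of finite dimension over a field k, takes W to be the closure in X ×_k (P^1_k)^n of an integral
closed subscheme Z of codimension n of X × (P^1 minus the point 1)^n, and assumes the closure
dominant and flat over X; such a closure is an integral closed subscheme of codimension n of the
n-fold product of projective lines over X, which is the form stated here, and the field k plays no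
role.) -/
theorem result
    (X : Scheme.{u}) [IsIntegral X] [IsNoetherian X] (n : ℕ)
    (W : Scheme.{u}) [IsIntegral W]
    (i : W ⟶ widePullback X (fun _ : Fin n => CohB1.ProjSpaceOver 1 X)
      (fun _ => CohB1.ProjSpaceOver.toBase 1 X))
    [IsClosedImmersion i]
    (hcodim : ringKrullDim
      ((widePullback X (fun _ : Fin n => CohB1.ProjSpaceOver 1 X)
        (fun _ => CohB1.ProjSpaceOver.toBase 1 X)).presheaf.stalk (i.base (genericPoint W))) = n)
    (f : W ⟶ X)
    (hf : i ≫ WidePullback.base (fun _ : Fin n => CohB1.ProjSpaceOver.toBase 1 X) = f)
    [IsDominant f] [Flat f] :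
    IsFinite f ∧ Surjective f := by
  let π := WidePullback.base (fun _ : Fin n => CohB1.ProjSpaceOver.toBase 1 X)
  obtain ⟨φ, hφfin, hφsurj, hφ⟩ := P1Pow11.exists_finite_surjective_wide X n
  haveI := hφfin
  haveI : IsProper (CohB1.ProjSpaceOver.toBase n X) := ProjSpace.isProper_toBase n X
  haveI : IsProper π := by show IsProper (WidePullback.base _); rw [← hφ]; infer_instance
  haveI : IsProper f := by subst hf; infer_instance
  haveI : LocallyOfFinitePresentation f := LocallyOfFinitePresentation.iff_locallyOfFiniteType.2 inferInstance
  haveI hsurj : Surjective f :=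
    ⟨Set.range_eq_univ.1 (f.isClosedMap.isClosed_range.closure_eq.symm.trans f.denseRange.closure_range)⟩
  have hfib : ∀ v, FlatMor.fibreDimAt π v ≤ n := by
    intro v
    show FlatMor.fibreDimAt (WidePullback.base _) v ≤ _
    rw [← hφ]
    refine (FibDim14.fibreDimAt_comp_le φ _ v).trans ?_
    rw [FibDim14.fibreDimAt_eq_zero φ v, zero_add]
    haveI := ProjSpace.smoothOfRelativeDimension_toBase n X
    exact (Groth.Agent.S2768.result n (CohB1.ProjSpaceOver.toBase n X) _).le
  -- the generic point of W is closed in the generic fibre
  let w := i (genericPoint W)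
  have hgen : f (genericPoint W) = genericPoint X := by
    obtain ⟨y, hy⟩ := f.surjective (genericPoint X)
    have h1 : f (genericPoint W) ⤳ genericPoint X := hy ▸ (genericPoint_specializes y).map f.continuous
    exact ((genericPoint_specializes (f (genericPoint W))).antisymm h1).eq.symm
  have hw : π w = genericPoint X := by
    show π (i (genericPoint W)) = _
    rw [← Scheme.Hom.comp_apply, hf, hgen]
  have hdim : ringKrullDim ((π.fiber (π w)).presheaf.stalk (π.asFiber w)) = n := by
    let j := π.fiberι (π w)
    haveI : Flat j := by
      haveI : Flat (X.fromSpecResidueField (π w)) := by rw [hw]; exact S2516.flat_fromSpecResidueField_genericPoint X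
      exact MorphismProperty.pullback_fst (P := @Flat) π _ inferInstance
    let σ := (j.stalkMap (π.asFiber w)).hom
    letI := σ.toAlgebra
    haveI : Module.Flat _ _ := (Flat.iff_flat_stalkMap j).1 inferInstance (π.asFiber w)
    haveI : IsLocalHom (algebraMap ((widePullback X (fun _ : Fin n => CohB1.ProjSpaceOver 1 X) (fun _ => CohB1.ProjSpaceOver.toBase 1 X)).presheaf.stalk (j (π.asFiber w))) ((π.fiber (π w)).presheaf.stalk (π.asFiber w))) := inferInstanceAs (IsLocalHom (j.stalkMap (π.asFiber w)).hom)
    haveI := Module.FaithfullyFlat.of_flat_of_isLocalHom (A := (widePullback X (fun _ : Fin n => CohB1.ProjSpaceOver 1 X) (fun _ => CohB1.ProjSpaceOver.toBase 1 X)).presheaf.stalk (j (π.asFiber w))) (B := (π.fiber (π w)).presheaf.stalk (π.asFiber w))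
    have hbij : Function.Bijective σ := ⟨FaithfulSMul.algebraMap_injective _ _, j.stalkMap_surjective _⟩
    rw [← ringKrullDim_eq_of_ringEquiv (RingEquiv.ofBijective σ hbij)]
    have e : j (π.asFiber w) = w := π.fiberι_asFiber w
    rw [e]
    exact hcodim
  have hrd : FibDim14.rd π w = 0 := by
    have h := (hfib w)
    rw [FibDim14.localDim_asFiber_eq, hdim] at h
    have h' : n + FibDim14.rd π w ≤ n := by exact_mod_cast h
    omega
  have hrdf : FibDim14.rd f (genericPoint W) = 0 := by
    subst hf
    rw [FibDim14.rd_comp, FibDim14.rd_of_surjectiveOnStalks i, add_zero]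
    exact hrd
  have hzero : ∀ a, FlatMor.fibreDimAt f a = 0 := by
    refine fun a => Cyc26.UnivEquidim.fibreDimAt_eq_of_maximal f 0 (fun b hb => ?_) a
    have hb' : f b = genericPoint X := (hb _ (genericPoint_specializes _)).symm
    obtain ⟨b', hb'1, hb'2, hb'max, hd⟩ := FibGen4.exists_isMaxFib f b
    have : genericPoint W = b' := hb'max _ (genericPoint_specializes b') (hgen.trans (hb'.symm.trans hb'2.symm))
    rw [← hd, FibGen4.fibreDimAt_eq_rd_of_isMaxFib f hb'max, ← this, hrdf]
  haveI : LocallyQuasiFinite f :=
    f.quasiFiniteLocus_eq_top_iff.1 (top_le_iff.1 fun a _ => (FibDim14.fibreDimAt_eq_zero_iff f a).1 (hzero a))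
  exact ⟨IsFinite.of_isProper_of_locallyQuasiFinite f, hsurj⟩
end Groth.Agent.S19040
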