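import Groth.Statements.S19043
import Groth.Agent.Lib.DieuGc29.Basic
import Mathlib.LinearAlgebra.Quotient.Basic

set_option autoImplicit false
universe u
open Dieu

namespace Groth.Agent.S19043

/-- Let `k` be a perfect field of characteristic `2` and `c` a natural number, and let `M` be the
explicit `2c`-dimensional `k`-space on `X_1, …, X_c, Y_1, …, Y_c` with its operators `F` and `V` (`F
Y_j = 0`; `F X_j = X_{j/2}` for `j` even and `Y_{c-(j-1)/2}` for `j` odd; `V Y_j = Y_{2j}` when `2j
≤ c`, else `0`; `V X_j = Y_{2c-2j+1}` when `2j > c`, else `0`). The classes of the `X_j` with `c <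
2j ≤ 2c` in the quotient of `M` by the `k`-span of `F(M) ∪ V(M)` are linearly independent and span
that quotient. (Stated over any perfect field of characteristic `2`; the source works over an
algebraically closed one.) -/
theorem result (c : ℕ) (k : Type u) [Field k] [CharP k 2] [PerfectRing k 2] :
    LinearIndependent k (fun j : {j : ℕ // c < 2 * j ∧ j ≤ c} =>
        Submodule.mkQ (Submodule.span k (Set.range (W4c6eohyperellchar2.F c k) ∪ Set.range (W4c6eohyperellchar2.V c k))) (W4c6eohyperellchar2.X c k j.1)) ∧
      Submodule.span k (Set.range (fun j : {j : ℕ // c < 2 * j ∧ j ≤ c} =>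
        Submodule.mkQ (Submodule.span k (Set.range (W4c6eohyperellchar2.F c k) ∪ Set.range (W4c6eohyperellchar2.V c k))) (W4c6eohyperellchar2.X c k j.1))) = ⊤ := by
  classical
  obtain ⟨hker, hY, hXlow⟩ := DieuGc29.span_range_le_and_mem (c := c) (k := k) _ rfl
  constructor
  · rw [linearIndependent_iff']
    intro s a ha j hj
    rw [← Finset.sum_congr rfl (fun i _ => map_smul _ (a i) _), ← map_sum, Submodule.mkQ_apply,
      Submodule.Quotient.mk_eq_zero] at ha
    have hj2 := j.2
    have h := hker _ ha ⟨j.1 - 1, by omega⟩ (by show c < 2 * (j.1 - 1 + 1); omega)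
    rw [Prod.fst_sum, Finset.sum_apply, Finset.sum_eq_single j] at h
    · simp only [Prod.smul_fst, Pi.smul_apply, W4c6eohyperellchar2.X, smul_eq_mul] at h
      rwa [if_pos (by omega), mul_one] at h
    · intro i _ hne
      have hi2 := i.2
      have : i.1 ≠ j.1 := fun h => hne (Subtype.ext h)
      simp only [Prod.smul_fst, Pi.smul_apply, W4c6eohyperellchar2.X, smul_eq_mul]
      rw [if_neg (by omega), mul_zero]
    · exact fun h => absurd hj h
  · refine eq_top_iff.2 fun z _ => ?_
    obtain ⟨v, rfl⟩ := Submodule.Quotient.mk_surjective _ z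
    rw [DieuGc29.decompose v, ← Submodule.mkQ_apply, map_add, map_sum, map_sum]
    refine add_mem (Submodule.sum_mem _ fun i _ => ?_) (Submodule.sum_mem _ fun i _ => ?_)
    · rw [map_smul]
      refine Submodule.smul_mem _ _ ?_
      by_cases h : c < 2 * (i.val + 1)
      · exact Submodule.subset_span ⟨⟨i.val + 1, h, i.isLt⟩, rfl⟩
      · rw [Submodule.mkQ_apply, (Submodule.Quotient.mk_eq_zero _).2 (hXlow i (by omega))]
        exact zero_mem _
    · rw [map_smul, Submodule.mkQ_apply, (Submodule.Quotient.mk_eq_zero _).2 (hY i), smul_zero]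
      exact zero_mem _

end Groth.Agent.S19043
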