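import Groth.Statements.S19045
import Groth.Agent.Lib.FunField.DXPartial26
-- import your own Groth.Agent.* helpers here

set_option autoImplicit false
universe u v
open FunFld

namespace Groth.Agent.S19045

/-- Let `k` be algebraically closed of characteristic `2` and `K = k(x, y)` with `y² + y = f(x)`, `K`
separable of degree `2` over `k(x)`; let `B ⊆ k` be a finite set containing `0` such that `f` has a
pole of odd order `d_β` at `x = β` for every `β ∈ B` and is integral at all other places of `k(x)`.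
Then `y` is integral at the places of `K` above `x = ∞` and has order `0` at one of them, and for `α
∈ B` and `j ∈ ℤ` the divisor of poles of `y (x - α)^j` consists of: order `max(d_α - 2j, 0)` at the
place above `α`, order exactly `d_β` above every other `β ∈ B`, order `max(j - ord_P y, 0)` at each
place `P` above `∞`, and nothing elsewhere. -/
theorem result (k : Type u) (K : Type v)
    [Field k] [IsAlgClosed k] [CharP k 2] [Field K] [Algebra k K] [Algebra (RatFunc k) K] [IsScalarTower k (RatFunc k) K]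
    (hK : FunFld.IsFunctionField k K) (hdeg : Module.finrank (RatFunc k) K = 2) [Algebra.IsSeparable (RatFunc k) K]
    (y : K) (hy : y ∉ Set.range (algebraMap (RatFunc k) K)) (f : RatFunc k)
    (heq : y ^ 2 + y = algebraMap (RatFunc k) K f)
    (B : Finset k) (h0 : (0 : k) ∈ B) (d : k → ℕ) (hd : ∀ β ∈ B, Odd (d β))
    (hpole : ∀ (p : FunFld.Place k (RatFunc k)) (β : k), β ∈ B →
      p.1 ((RatFunc.X : RatFunc k) - RatFunc.C β) < 1 → p.ord f = -(d β : ℤ))
    (hint : ∀ p : FunFld.Place k (RatFunc k), (∀ β ∈ B, 1 ≤ p.1 ((RatFunc.X : RatFunc k) - RatFunc.C β)) → p.1 f ≤ 1) :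
    (∀ P : FunFld.Place k K, 1 < P.1 (algebraMap (RatFunc k) K RatFunc.X) → 0 ≤ P.ord y) ∧
    (∃ P : FunFld.Place k K, 1 < P.1 (algebraMap (RatFunc k) K RatFunc.X) ∧ P.ord y = 0) ∧
    ∀ (α : k), α ∈ B → ∀ (j : ℤ) (P : FunFld.Place k K),
      (P.1 ((algebraMap (RatFunc k) K RatFunc.X) - (algebraMap k K α)) < 1 →
        max (-(P.ord (y * ((algebraMap (RatFunc k) K RatFunc.X) - (algebraMap k K α)) ^ j))) 0 = max ((d α : ℤ) - 2 * j) 0) ∧
      (∀ β : k, β ∈ B → β ≠ α → P.1 ((algebraMap (RatFunc k) K RatFunc.X) - (algebraMap k K β)) < 1 →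
        P.ord (y * ((algebraMap (RatFunc k) K RatFunc.X) - (algebraMap k K α)) ^ j) = -(d β : ℤ)) ∧
      (1 < P.1 (algebraMap (RatFunc k) K RatFunc.X) → max (-(P.ord (y * ((algebraMap (RatFunc k) K RatFunc.X) - (algebraMap k K α)) ^ j))) 0 = max (j - P.ord y) 0) ∧
      (P.1 (algebraMap (RatFunc k) K RatFunc.X) ≤ 1 → (∀ β : k, β ∈ B → 1 ≤ P.1 ((algebraMap (RatFunc k) K RatFunc.X) - (algebraMap k K β))) → 0 ≤ P.ord (y * ((algebraMap (RatFunc k) K RatFunc.X) - (algebraMap k K α)) ^ j)) := by
  haveI : FiniteDimensional (RatFunc k) K := Module.finite_of_finrank_eq_succ hdeg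
  have H : Groth.Agent.FunField.AS y f := ⟨by rw [← Nat.cast_two]; exact CharP.cast_eq_zero k 2, hdeg, heq, hy⟩
  have D : Groth.Agent.FunField.PoleData f B d := ⟨h0, hd, hpole, hint⟩
  have hmap : ∀ β : k, algebraMap (RatFunc k) K RatFunc.X - algebraMap k K β =
      algebraMap (RatFunc k) K (RatFunc.X - RatFunc.C β) := fun β => by
    rw [map_sub, ← RatFunc.algebraMap_eq_C, ← IsScalarTower.algebraMap_apply]
  have hy0 : y ≠ 0 := fun h => hy ⟨0, by rw [h, map_zero]⟩
  have hinf : ∀ P : FunFld.Place k K, 1 < P.1 (algebraMap (RatFunc k) K RatFunc.X) →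
      ∃ p e, FunFld.IsOverWith P p e ∧ 1 < p.1 RatFunc.X ∧ 0 ≤ p.ord f ∧ e = 1 := by
    intro P hP
    obtain ⟨e, he⟩ := Groth.Agent.FunField.isOver_under Groth.Agent.FunField.ff_ratFunc P
    have hX : 1 < (Groth.Agent.FunField.under Groth.Agent.FunField.ff_ratFunc P).1 RatFunc.X := by
      by_contra hc
      exact absurd (pow_le_one₀ zero_le (not_lt.1 hc)) (he RatFunc.X ▸ hP).not_ge
    exact ⟨_, e, he, hX, D.infinite _ hX, H.unramified he (D.infinite _ hX)⟩
  have hyle : ∀ P : FunFld.Place k K, ∀ p e, FunFld.IsOverWith P p e → 0 ≤ p.ord f → 0 ≤ P.ord y := by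
    intro P p e he hf
    rw [Groth.Agent.FunField.ord_nonneg_iff] at hf ⊢
    by_contra hc
    rw [not_le] at hc
    have h := congrArg P.1 heq
    rw [Valuation.map_add_eq_of_lt_left _ (by
      rw [map_pow]; exact lt_self_pow₀ hc one_lt_two), map_pow, he] at h
    exact absurd (h ▸ one_lt_pow₀ hc two_ne_zero) (pow_le_one₀ zero_le hf).not_gt
  refine ⟨fun P hP => ?_, ?_, fun α hα j P => ?_⟩
  · obtain ⟨p, e, he, -, hf, -⟩ := hinf P hP
    exact hyle P p e he hf
  · obtain ⟨Pi, hPi⟩ := Groth.Agent.FunField.exists_infinite_place (k := k)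
    obtain ⟨P, e, he⟩ := Groth.Agent.FunField.exists_over (K' := K) Groth.Agent.FunField.ff_ratFunc Pi
    have hP : 1 < P.1 (algebraMap (RatFunc k) K RatFunc.X) := by
      rw [he]; exact one_lt_pow₀ hPi (Groth.Agent.FunField.isOverWith_pos he).ne'
    by_contra hcon
    push Not at hcon
    have hpos : ∀ Q : FunFld.Place k K, FunFld.IsOverWith Q Pi e → Q.1 y < 1 := fun Q hQ => by
      have h1 := hyle Q Pi e hQ (D.infinite Pi hPi)
      have h2 := hcon Q (by rw [hQ]; exact one_lt_pow₀ hPi (Groth.Agent.FunField.isOverWith_pos he).ne')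
      exact (Groth.Agent.FunField.val_lt_one_iff' Q hy0).2 (lt_of_le_of_ne h1 (Ne.symm h2))
    have h1 := hpos P he
    have h2 := hpos (Groth.Agent.FunField.mapPlace H.conj P) (Groth.Agent.FunField.isOverWith_mapPlace H.conj he)
    rw [Groth.Agent.FunField.mapPlace_apply, H.conj_y] at h2
    have h3 := P.1.map_sub_lt h2 h1
    rw [add_sub_cancel_left, map_one] at h3
    exact lt_irrefl _ h3
  · obtain ⟨e, he⟩ := Groth.Agent.FunField.isOver_under Groth.Agent.FunField.ff_ratFunc P
    set p := Groth.Agent.FunField.under Groth.Agent.FunField.ff_ratFunc P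
    have hpos := Groth.Agent.FunField.isOverWith_pos he
    have hne : ∀ β : k, (RatFunc.X : RatFunc k) - RatFunc.C β ≠ 0 := fun β => by
      rw [← Groth.Agent.FunField.algebraMap_X_sub_C]
      exact RatFunc.algebraMap_ne_zero (Polynomial.X_sub_C_ne_zero β)
    have hneK : (algebraMap (RatFunc k) K (RatFunc.X - RatFunc.C α)) ≠ 0 :=
      (_root_.map_ne_zero _).2 (hne α)
    have hlt : ∀ β : k, P.1 (algebraMap (RatFunc k) K RatFunc.X - algebraMap k K β) < 1 →
        p.1 (RatFunc.X - RatFunc.C β) < 1 := fun β h => by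
      rw [hmap, he, pow_lt_one_iff_of_nonneg zero_le hpos.ne'] at h
      exact h
    have hord : P.ord (y * (algebraMap (RatFunc k) K RatFunc.X - algebraMap k K α) ^ j) =
        P.ord y + j * ((e : ℤ) * p.ord (RatFunc.X - RatFunc.C α)) := by
      rw [hmap, Groth.Agent.FunField.ord_mul P hy0 (zpow_ne_zero j hneK), Groth.Agent.FunField.ord_zpow, Groth.Agent.FunField.ord_of_isOverWith he]
    have hpoleY : ∀ β ∈ B, p.1 (RatFunc.X - RatFunc.C β) < 1 → e = 2 ∧ P.ord y = -(d β : ℤ) := by
      intro β hβ hb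
      have h1 := hpole p β hβ hb
      obtain ⟨r, hr⟩ := hd β hβ
      have hneg : p.ord f < 0 := by omega
      obtain ⟨he2, -, -⟩ := H.ramified he hneg (D.ord_odd p hneg)
      have h2 := H.ord_y he hneg
      subst he2
      push_cast at h2
      exact ⟨rfl, by omega⟩
    refine ⟨fun hP => ?_, fun β hβ hne' hP => ?_, fun hP => ?_, fun hP hB => ?_⟩
    · obtain ⟨he2, hY⟩ := hpoleY α hα (hlt α hP)
      have h1 := Groth.Agent.FunField.ord_eq_of_val_eq p (Groth.Agent.FunField.val_X_sub_C_same p (hlt α hP))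
      rw [hord, hY, h1, he2]
      push_cast
      congr 1
      ring
    · obtain ⟨-, hY⟩ := hpoleY β hβ (hlt β hP)
      have h1 : p.ord (RatFunc.X - RatFunc.C α) = 0 := Groth.Agent.FunField.ord_eq_of_val_eq p (n := 0) (by
        rw [Groth.Agent.FunField.val_X_sub_C_ne p (hlt β hP) (Ne.symm hne'), WithZero.exp_zero])
      rw [hord, hY, h1]; ring
    · obtain ⟨p', e', he', hX, -, he1⟩ := hinf P hP
      obtain ⟨rfl, rfl⟩ := Groth.Agent.FunField.isOverWith_unique he he'
      have h1 := Groth.Agent.FunField.ord_eq_of_val_eq p (Groth.Agent.FunField.val_X_sub_C_infinite p hX α)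
      rw [hord, h1, he1]
      push_cast
      congr 1
      ring
    · have hX : p.1 RatFunc.X ≤ 1 := by
        rw [he, pow_le_one_iff_of_nonneg zero_le hpos.ne'] at hP
        exact hP
      have hge : ∀ β ∈ B, 1 ≤ p.1 (RatFunc.X - RatFunc.C β) := fun β hβ => by
        by_contra hc
        rw [not_le] at hc
        have := hB β hβ
        rw [hmap, he] at this
        exact this.not_gt (pow_lt_one₀ zero_le hc hpos.ne')
      have h1 : p.ord (RatFunc.X - RatFunc.C α) = 0 := Groth.Agent.FunField.ord_eq_of_val_eq p (n := 0) (by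
        rw [WithZero.exp_zero]; exact le_antisymm (Groth.Agent.FunField.val_X_sub_C_le p hX α) (hge α hα))
      rw [hord, h1, mul_zero, mul_zero, add_zero]
      exact hyle P p e he (D.ord_nonneg p hge)

end Groth.Agent.S19045
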