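import Groth.Statements.S19046
import Groth.Agent.Lib.FunField.ASH1_26
-- import your own Groth.Agent.* helpers here

set_option autoImplicit false
universe u v
open Classical
open FunFld

namespace Groth.Agent.S19046

/-- Let `k` be algebraically closed of characteristic `2`, `K = k(x, y)` with `y² + y = f(x)` separable
of degree `2` over `k(x)`, `B ⊆ k` a finite set containing `0` with `f` having a pole of odd order
`d_β` at `x = β` for `β ∈ B` and integral elsewhere, `c_β = (d_β - 1)/2`, and `P_β` a place of `K`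
above `x = β`. Identify `H¹(X, O)` of the smooth projective model with the repartitions (adeles with
components in `K`) modulo `W = A(0) + K` (everywhere-integral repartitions plus constants), a Čech
class with defining component `h` at `β` corresponding to the repartition with component `h` at
`P_β` and `0` elsewhere. Then the repartitions supported at `P_α` with value `y (x - α)^j` (`α ∈ B`,
`1 ≤ j ≤ c_α`) and with value `y` (`α ∈ B`, `α ≠ 0`) are adeles whose classes modulo `W` are
linearly independent over `k` and, together with `W`, span the adeles: they give a basis of `H¹(X,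
O)`. -/
theorem result (k : Type u) (K : Type v)
    [Field k] [IsAlgClosed k] [CharP k 2] [Field K] [Algebra k K] [Algebra (RatFunc k) K] [IsScalarTower k (RatFunc k) K]
    (hK : FunFld.IsFunctionField k K) (hdeg : Module.finrank (RatFunc k) K = 2) [Algebra.IsSeparable (RatFunc k) K]
    (y : K) (hy : y ∉ Set.range (algebraMap (RatFunc k) K)) (f : RatFunc k)
    (heq : y ^ 2 + y = algebraMap (RatFunc k) K f)
    (B : Finset k) (h0 : (0 : k) ∈ B) (d : k → ℕ) (hd : ∀ β ∈ B, Odd (d β))
    (hpole : ∀ (p : FunFld.Place k (RatFunc k)) (β : k), β ∈ B →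
      p.1 ((RatFunc.X : RatFunc k) - RatFunc.C β) < 1 → p.ord f = -(d β : ℤ))
    (hint : ∀ p : FunFld.Place k (RatFunc k), (∀ β ∈ B, 1 ≤ p.1 ((RatFunc.X : RatFunc k) - RatFunc.C β)) → p.1 f ≤ 1)
    (Pl : k → FunFld.Place k K) (hPl : ∀ β ∈ B, (Pl β).1 ((algebraMap (RatFunc k) K RatFunc.X) - (algebraMap k K β)) < 1) :
    (∀ i, (Sum.elim
        (fun a : {a : ↥B × ℕ // 1 ≤ a.2 ∧ 2 * a.2 + 1 ≤ d (a.1 : k)} =>
          (Pi.single (Pl (a.1.1 : k)) (y * ((algebraMap (RatFunc k) K RatFunc.X) - (algebraMap k K (a.1.1 : k))) ^ a.1.2) : FunFld.Place k K → K))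
        (fun b : {b : ↥B // (b : k) ≠ 0} => (Pi.single (Pl (b.1 : k)) y : FunFld.Place k K → K))) i ∈ FunFld.adele k K) ∧
    LinearIndependent k (fun i => Submodule.mkQ (FunFld.AD (0 : FunFld.Divisor k K) ⊔ LinearMap.range (FunFld.diag k K)) ((Sum.elim
        (fun a : {a : ↥B × ℕ // 1 ≤ a.2 ∧ 2 * a.2 + 1 ≤ d (a.1 : k)} =>
          (Pi.single (Pl (a.1.1 : k)) (y * ((algebraMap (RatFunc k) K RatFunc.X) - (algebraMap k K (a.1.1 : k))) ^ a.1.2) : FunFld.Place k K → K))
        (fun b : {b : ↥B // (b : k) ≠ 0} => (Pi.single (Pl (b.1 : k)) y : FunFld.Place k K → K))) i)) ∧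
    ∀ a : FunFld.Place k K → K, a ∈ FunFld.adele k K →
      a ∈ (FunFld.AD (0 : FunFld.Divisor k K) ⊔ LinearMap.range (FunFld.diag k K)) ⊔ Submodule.span k (Set.range (Sum.elim
        (fun a : {a : ↥B × ℕ // 1 ≤ a.2 ∧ 2 * a.2 + 1 ≤ d (a.1 : k)} =>
          (Pi.single (Pl (a.1.1 : k)) (y * ((algebraMap (RatFunc k) K RatFunc.X) - (algebraMap k K (a.1.1 : k))) ^ a.1.2) : FunFld.Place k K → K))
        (fun b : {b : ↥B // (b : k) ≠ 0} => (Pi.single (Pl (b.1 : k)) y : FunFld.Place k K → K)))) := by
  classical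
  haveI : FiniteDimensional (RatFunc k) K := Module.finite_of_finrank_eq_succ hdeg
  have H : Groth.Agent.FunField.AS y f := ⟨by rw [← Nat.cast_two]; exact CharP.cast_eq_zero k 2, hdeg, heq, hy⟩
  have D : Groth.Agent.FunField.PoleData f B d := ⟨h0, hd, hpole, hint⟩
  haveI : Finite (Groth.Agent.FunField.PoleData.Idx B d) := Finite.of_injective
    (fun i => ((⟨Groth.Agent.FunField.PoleData.base i, Groth.Agent.FunField.PoleData.base_mem i⟩ : ↥B),
      (⟨Groth.Agent.FunField.PoleData.expo i, by
        have h1 := D.expo_le i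
        have h2 := Finset.le_sup (f := d) (Groth.Agent.FunField.PoleData.base_mem i)
        omega⟩ : Fin (B.sup d + 1))))
    (fun i j h => by
      simp only [Prod.mk.injEq, Subtype.mk.injEq, Fin.mk.injEq] at h
      exact Groth.Agent.FunField.PoleData.base_expo_injective h.1 h.2)
  letI := Fintype.ofFinite (Groth.Agent.FunField.PoleData.Idx B d)
  let E : Groth.Agent.FunField.PoleData.Idx B d → FunFld.Place k K → K := fun i =>
    Pi.single (Pl (Groth.Agent.FunField.PoleData.base i)) (y * (algebraMap (RatFunc k) K RatFunc.X -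
      algebraMap k K (Groth.Agent.FunField.PoleData.base i)) ^ Groth.Agent.FunField.PoleData.expo i)
  have hfam : (Sum.elim
      (fun a : {a : ↥B × ℕ // 1 ≤ a.2 ∧ 2 * a.2 + 1 ≤ d (a.1 : k)} =>
        (Pi.single (Pl (a.1.1 : k)) (y * ((algebraMap (RatFunc k) K RatFunc.X) - (algebraMap k K (a.1.1 : k))) ^ a.1.2) : FunFld.Place k K → K))
      (fun b : {b : ↥B // (b : k) ≠ 0} => (Pi.single (Pl (b.1 : k)) y : FunFld.Place k K → K))) = E := by
    funext i
    rcases i with a | b
    · rfl
    · simp [E, Groth.Agent.FunField.PoleData.base, Groth.Agent.FunField.PoleData.expo]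
  rw [hfam]
  have hmem : ∀ i, E i ∈ FunFld.adele k K := fun i => by
    show ∀ᶠ P : FunFld.Place k K in Filter.cofinite, P.1 (E i P) ≤ 1
    refine Filter.eventually_cofinite.2 ((Set.finite_singleton (Pl (Groth.Agent.FunField.PoleData.base i))).subset fun P hP => ?_)
    by_contra hne
    apply hP
    simp only [E, Pi.single_eq_of_ne hne, map_zero, zero_le']
  set W : Submodule k (FunFld.Place k K → K) :=
    FunFld.AD (0 : FunFld.Divisor k K) ⊔ LinearMap.range (FunFld.diag k K) with hW
  have hli : LinearIndependent k (fun i => W.mkQ (E i)) := by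
    refine Fintype.linearIndependent_iff.2 fun c hc => D.eq_zero_of_mem H hK hPl c ?_
    have h1 : W.mkQ (∑ i, c i • E i) = 0 := by
      rw [map_sum]; simp only [map_smul]; exact hc
    exact (Submodule.Quotient.mk_eq_zero W).1 h1
  refine ⟨hmem, hli, fun a ha => ?_⟩
  let ψ := W.mkQ ∘ₗ (FunFld.adele k K).subtype
  have hker : LinearMap.ker ψ = FunFld.ADK (0 : FunFld.Divisor k K) := by
    rw [LinearMap.ker_comp, Submodule.ker_mkQ]; rfl
  obtain ⟨hfd, hfr⟩ := Groth.Agent.FunField.finrank_adele_quotient hK (0 : FunFld.Divisor k K)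
  have hrk : Module.finrank k (LinearMap.range ψ) = FunFld.genus k K := by
    rw [← (ψ.quotKerEquivRange).finrank_eq, (Submodule.quotEquivOfEq _ _ hker).finrank_eq]
    have h0' := Groth.Agent.FunField.delta_zero hK
    simp only [FunFld.ell, Groth.Agent.FunField.delta, Groth.Agent.FunField.deg_zero] at hfr h0'
    omega
  haveI : Module.Finite k (LinearMap.range ψ) :=
    Module.Finite.equiv ((Submodule.quotEquivOfEq _ _ hker).symm.trans ψ.quotKerEquivRange)
  have hle : Submodule.span k (Set.range fun i => W.mkQ (E i)) ≤ LinearMap.range ψ :=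
    Submodule.span_le.2 (Set.range_subset_iff.2 fun i => ⟨⟨E i, hmem i⟩, rfl⟩)
  have heqs := Submodule.eq_of_le_of_finrank_le hle (by
    rw [hrk, finrank_span_eq_card hli, D.card_idx H hK])
  have hmema : W.mkQ a ∈ Submodule.span k (Set.range fun i => W.mkQ (E i)) :=
    heqs ▸ ⟨⟨a, ha⟩, rfl⟩
  rw [Set.range_comp' W.mkQ E, Submodule.span_image] at hmema
  rw [← Submodule.comap_map_mkQ]
  exact hmema

end Groth.Agent.S19046
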