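import Groth.Statements.S19047
import Groth.Agent.Lib.FunField.ASH1_26
-- import your own Groth.Agent.* helpers here

set_option autoImplicit false
universe u v
open Classical
open FunFld

namespace Groth.Agent.S19047

/-- Let `k` be algebraically closed of characteristic `2`, `K = k(x, y)` with `y² + y = f(x)` separable
of degree `2` over `k(x)`, `B ⊆ k` a finite set containing `0` with `f` having a pole of odd order
`d_β` at `x = β` for `β ∈ B` and integral elsewhere, `c_β = (d_β - 1)/2`, and `P_β` a place of `K`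
above `x = β`. With `H¹(X, O)` of the smooth projective model written as repartitions modulo `W =
A(0) + K` (everywhere-integral repartitions plus constants) and its Frobenius induced by
componentwise squaring, for `α ∈ B` and `j ≥ 0`: the Frobenius of the class of the repartition
supported at `P_α` with value `y (x - α)^j` is the class of the one with value `y (x - α)^{2j}` when
`2j ≤ c_α`, and is `0` when `2j > c_α`. -/
theorem result (k : Type u) (K : Type v)
    [Field k] [IsAlgClosed k] [CharP k 2] [Field K] [Algebra k K] [Algebra (RatFunc k) K] [IsScalarTower k (RatFunc k) K]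
    (hK : FunFld.IsFunctionField k K) (hdeg : Module.finrank (RatFunc k) K = 2) [Algebra.IsSeparable (RatFunc k) K]
    (y : K) (hy : y ∉ Set.range (algebraMap (RatFunc k) K)) (f : RatFunc k)
    (heq : y ^ 2 + y = algebraMap (RatFunc k) K f)
    (B : Finset k) (h0 : (0 : k) ∈ B) (d : k → ℕ) (hd : ∀ β ∈ B, Odd (d β))
    (hpole : ∀ (p : FunFld.Place k (RatFunc k)) (β : k), β ∈ B →
      p.1 ((RatFunc.X : RatFunc k) - RatFunc.C β) < 1 → p.ord f = -(d β : ℤ))
    (hint : ∀ p : FunFld.Place k (RatFunc k), (∀ β ∈ B, 1 ≤ p.1 ((RatFunc.X : RatFunc k) - RatFunc.C β)) → p.1 f ≤ 1)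
    (Pl : k → FunFld.Place k K) (hPl : ∀ β ∈ B, (Pl β).1 ((algebraMap (RatFunc k) K RatFunc.X) - (algebraMap k K β)) < 1)
    (α : k) (hα : α ∈ B) (j : ℕ) :
    (4 * j + 1 ≤ d α → (Pi.single (Pl α) ((y * ((algebraMap (RatFunc k) K RatFunc.X) - (algebraMap k K α)) ^ j) ^ 2) : FunFld.Place k K → K) - (Pi.single (Pl α) (y * ((algebraMap (RatFunc k) K RatFunc.X) - (algebraMap k K α)) ^ (2 * j)) : FunFld.Place k K → K) ∈ (FunFld.AD (0 : FunFld.Divisor k K) ⊔ LinearMap.range (FunFld.diag k K))) ∧
    (d α < 4 * j + 1 → (Pi.single (Pl α) ((y * ((algebraMap (RatFunc k) K RatFunc.X) - (algebraMap k K α)) ^ j) ^ 2) : FunFld.Place k K → K) ∈ (FunFld.AD (0 : FunFld.Divisor k K) ⊔ LinearMap.range (FunFld.diag k K))) := by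
  classical
  haveI : FiniteDimensional (RatFunc k) K := Module.finite_of_finrank_eq_succ hdeg
  have H : Groth.Agent.FunField.AS y f := ⟨by rw [← Nat.cast_two]; exact CharP.cast_eq_zero k 2, hdeg, heq, hy⟩
  have D : Groth.Agent.FunField.PoleData f B d := ⟨h0, hd, hpole, hint⟩
  obtain ⟨p, hp, he, huniq⟩ := D.over_unique H hPl hα
  obtain ⟨r, hr1, hr2⟩ := Groth.Agent.FunField.exists_principal_part (f * ((RatFunc.X : RatFunc k) - RatFunc.C α) ^ (2 * j)) α
  set u := algebraMap (RatFunc k) K RatFunc.X - algebraMap k K α with hu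
  have hu' : u = algebraMap (RatFunc k) K (RatFunc.X - RatFunc.C α) := Groth.Agent.FunField.PoleData.sub_algebraMap α
  set W : Submodule k (FunFld.Place k K → K) :=
    FunFld.AD (0 : FunFld.Divisor k K) ⊔ LinearMap.range (FunFld.diag k K)
  have hf : (Pi.single (Pl α) (algebraMap (RatFunc k) K f * u ^ (2 * j)) : FunFld.Place k K → K) ∈ W := by
    refine Submodule.mem_sup.2 ⟨Pi.single (Pl α) (algebraMap (RatFunc k) K f * u ^ (2 * j)) -
      FunFld.diag k K (algebraMap (RatFunc k) K r), fun P => ?_, _, LinearMap.mem_range_self _ _, sub_add_cancel _ _⟩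
    rw [Finsupp.zero_apply, WithZero.exp_zero, Pi.sub_apply,
      show FunFld.diag k K (algebraMap (RatFunc k) K r) P = algebraMap (RatFunc k) K r from rfl]
    by_cases hP : P = Pl α
    · subst hP
      rw [Pi.single_eq_same, hu', ← map_pow, ← map_mul, ← map_sub, he]
      exact pow_le_one₀ zero_le (hr2 p hp)
    · rw [Pi.single_eq_of_ne hP, zero_sub, Valuation.map_neg]
      obtain ⟨e, he'⟩ := Groth.Agent.FunField.isOver_under Groth.Agent.FunField.ff_ratFunc P
      rw [he']
      refine pow_le_one₀ zero_le (hr1 _ (not_lt.1 fun hlt => hP (huniq P ?_)))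
      exact ⟨e, (Groth.Agent.FunField.place_ext_of_X_sub_C hlt hp) ▸ he'⟩
  have h2K := H.two_eq
  have hy2 : (y * u ^ j) ^ 2 = algebraMap (RatFunc k) K f * u ^ (2 * j) + y * u ^ (2 * j) := by
    rw [← heq]; linear_combination (-(y * u ^ (2 * j))) * h2K
  rw [hy2, Pi.single_add]
  refine ⟨fun _ => by rwa [add_sub_cancel_right], fun hj => add_mem hf ?_⟩
  refine Submodule.mem_sup_left fun P => ?_
  rw [Finsupp.zero_apply, WithZero.exp_zero]
  by_cases hP : P = Pl α
  · subst hP
    have hneg : p.ord f < 0 := by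
      have := hpole p α hα hp
      obtain ⟨t, ht⟩ := hd α hα
      omega
    have h1 := H.ord_y he hneg
    rw [hpole p α hα hp] at h1
    push_cast at h1
    have hy0 : y ≠ 0 := fun h => hy ⟨0, by rw [h, map_zero]⟩
    rw [Pi.single_eq_same, map_mul, map_pow, hu', he, Groth.Agent.FunField.val_X_sub_C_same p hp,
      Groth.Agent.FunField.val_eq_exp_neg_ord _ hy0, ← WithZero.exp_nsmul, ← WithZero.exp_nsmul, ← WithZero.exp_add,
      ← WithZero.exp_zero, WithZero.exp_le_exp]
    simp only [nsmul_eq_mul]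
    push_cast
    omega
  · simp only [Pi.single_eq_of_ne hP, map_zero, zero_le']

end Groth.Agent.S19047
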