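import Groth.Statements.S19050
import Groth.Agent.Lib.DvrHom8.Rank

set_option autoImplicit false
open CategoryTheory CategoryTheory.Limits AlgebraicGeometry
universe u
open Coherent

namespace Groth.Agent.S19050

/-- Let R be a discrete valuation ring, X a projective R-scheme and I, F coherent O_X-modules flat over
R. Suppose that for each point y of Spec R the κ(y)-vector space of morphisms I_y → F_y between the
restrictions to the fibre X_y = X ×_R Spec κ(y) has the same dimension n. Then the R-module
Hom_{O_X}(I, F) is free of rank n (finitely generated, free, of rank n), and if n ≥ 1 there is a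
morphism I → F whose restriction to each fibre is nonzero. (The published statement is for the base
change to R of a smooth projective variety over a field; it is stated here for any projective
R-scheme, to which the printed argument applies unchanged. The identification of the two fibres of
Hom(I, F) with the Hom spaces on the fibres is not restated; its consequence for n ≥ 1 is.) -/
theorem result
    (R : Type u) [CommRing R] [IsDomain R] [IsDiscreteValuationRing R]
    (X : Scheme.{u}) [X.Over (Spec (CommRingCat.of R))]
    (hproj : ∃ (m : ℕ) (ι : X ⟶ CohB1.ProjSpace m R), IsClosedImmersion ι ∧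
      ι ≫ CohB1.ProjSpace.toSpec m R = X ↘ Spec (CommRingCat.of R))
    (I F : X.Modules) (hI : Coh.IsCoh I) (hF : Coh.IsCoh F)
    (hIfl : FlatMod.IsFlatOver (X ↘ Spec (CommRingCat.of R)) I)
    (hFfl : FlatMod.IsFlatOver (X ↘ Spec (CommRingCat.of R)) F)
    (n : ℕ)
    (hfib : ∀ y : ↥(Spec (CommRingCat.of R)),
      letI : ((X ↘ Spec (CommRingCat.of R)).fiber y).Over
          (Spec (CommRingCat.of ((Spec (CommRingCat.of R)).residueField y))) :=
        ⟨(X ↘ Spec (CommRingCat.of R)).fiberToSpecResidueField y⟩
      Module.finrank ((Spec (CommRingCat.of R)).residueField y)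
        ((Scheme.Modules.pullback ((X ↘ Spec (CommRingCat.of R)).fiberι y)).obj I ⟶
          (Scheme.Modules.pullback ((X ↘ Spec (CommRingCat.of R)).fiberι y)).obj F) = n) :
    Module.Finite R (I ⟶ F) ∧ Module.Free R (I ⟶ F) ∧ Module.finrank R (I ⟶ F) = n ∧
      (0 < n → ∃ φ : I ⟶ F, ∀ y : ↥(Spec (CommRingCat.of R)),
        (Scheme.Modules.pullback ((X ↘ Spec (CommRingCat.of R)).fiberι y)).map φ ≠ 0) := by
  exact Groth.Agent.DvrHom8.main hproj I F hI hF hIfl hFfl n hfib

end Groth.Agent.S19050
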