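import Groth.Statements.S19051
import Groth.Agent.Lib.TensorMod.IdealMod
import Groth.Agent.Lib.KS29.HomFin
import Groth.Agent.Lib.CurveCoh17.Twist
import Groth.Agent.Lib.AbRigid.SmoothGI
import Mathlib.FieldTheory.IsAlgClosed.AlgebraicClosure
-- import your own Groth.Agent.* helpers here

set_option autoImplicit false
set_option maxHeartbeats 1000000
set_option linter.style.haveILetI false
set_option backward.isDefEq.respectTransparency false
set_option backward.isDefEq.respectTransparency.types false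
open CategoryTheory CategoryTheory.Limits AlgebraicGeometry
universe u
open NonPure

namespace Groth.Agent.S19051

open scoped TensorProduct

theorem scalar_of_finite (K A : Type u) [Field K] [CommRing A] [Algebra K A]
    (hd : IsDomain (AlgebraicClosure K ⊗[K] A)) (S : Subalgebra K A) [Module.Finite K S] : S = ⊥ := by
  let C := AlgebraicClosure K
  let ι : C ⊗[K] S →ₐ[C] C ⊗[K] A := Algebra.TensorProduct.map (AlgHom.id C C) S.val
  have hι : Function.Injective ι :=
    Module.Flat.lTensor_preserves_injective_linearMap S.val.toLinearMap Subtype.val_injective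
  haveI : IsDomain (C ⊗[K] S) := Function.Injective.isDomain ι.toRingHom hι
  haveI : Algebra.IsIntegral C (C ⊗[K] S) := Algebra.IsIntegral.of_finite C _
  have h1 : Module.finrank C (C ⊗[K] S) = 1 := by
    rw [← Module.finrank_self C]
    exact (LinearEquiv.ofBijective (Algebra.linearMap C (C ⊗[K] S))
      (IsAlgClosed.algebraMap_bijective_of_isIntegral (k := C) (K := C ⊗[K] S))).finrank_eq.symm
  rw [Module.finrank_baseChange] at h1
  exact Subalgebra.eq_bot_of_finrank_one h1

theorem isDomain_tensor {K : Type u} [Field K] {X : Scheme.{u}} (f : X ⟶ Spec (CommRingCat.of K))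
    [GeometricallyIntegral f] {A : Type u} [CommRing A] [Algebra K A] [Nontrivial A]
    (i : Spec (CommRingCat.of A) ⟶ X) [IsOpenImmersion i]
    (hi : i ≫ f = Spec.map (CommRingCat.ofHom (algebraMap K A))) (L : Type u) [Field L] [Algebra K L] :
    IsDomain (L ⊗[K] A) := by
  let g := Spec.map (CommRingCat.ofHom (algebraMap K L))
  haveI : IsIntegral (pullback f g) := GeometricallyIntegral.geometrically_isIntegral _ _ _ (IsPullback.of_hasPullback f g)
  have h : IsPullback (pullback.fst (i ≫ f) g) (pullback.snd (i ≫ f) g) (i ≫ f) g := IsPullback.of_hasPullback _ _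
  let l : pullback (i ≫ f) g ⟶ pullback f g := pullback.lift (pullback.fst _ _ ≫ i) (pullback.snd _ _)
    (by rw [Category.assoc]; exact pullback.condition)
  have hl : IsPullback l (pullback.fst (i ≫ f) g) (pullback.fst f g) i :=
    IsPullback.of_right (h₁₂ := pullback.snd f g) (h₂₂ := f)
      (by rw [pullback.lift_snd]; exact h.flip) (pullback.lift_fst _ _ _) (IsPullback.of_hasPullback f g).flip
  haveI : IsOpenImmersion l := MorphismProperty.of_isPullback (P := @IsOpenImmersion) hl.flip inferInstance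
  haveI : Nontrivial (L ⊗[K] A) := (Algebra.TensorProduct.includeLeft_injective (R := K) (S := K) (A := L) (B := A)
    (algebraMap K A).injective).nontrivial
  let e : pullback (i ≫ f) g ≅ Spec (CommRingCat.of (A ⊗[K] L)) :=
    pullback.congrHom hi rfl ≪≫ pullbackSpecIso K A L
  haveI : Nontrivial (A ⊗[K] L) := (Algebra.TensorProduct.comm K A L).toEquiv.nontrivial
  haveI : IsIntegral (Spec (CommRingCat.of (A ⊗[K] L))) := isIntegral_of_isOpenImmersion (e.inv ≫ l)
  haveI : IsDomain (A ⊗[K] L) := (affine_isIntegral_iff (CommRingCat.of (A ⊗[K] L))).1 inferInstance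
  exact (Algebra.TensorProduct.comm K L A).toMulEquiv.isDomain _

theorem end_scalar (K : Type u) [Field K] {X : Scheme.{u}} [X.Over (Spec (CommRingCat.of K))]
    [IsIntegral X] [IsProper (X ↘ Spec (CommRingCat.of K))] [GeometricallyIntegral (X ↘ Spec (CommRingCat.of K))]
    (W : X.IdealSheafData) (hW : W ≠ ⊥)
    (hiso : ∀ e : ClSub.idealMod W ⟶ ClSub.idealMod W, e ≠ 0 → IsIso e) :
    𝟙 (ClSub.idealMod W) ≠ 0 ∧ ∀ e : ClSub.idealMod W ⟶ ClSub.idealMod W, ∃ c : K, e = c • 𝟙 _ := by
  obtain ⟨U, hU⟩ : ∃ U : X.affineOpens, W.ideal U ≠ ⊥ := by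
    by_contra h
    push Not at h
    exact hW (Scheme.IdealSheafData.ext (funext fun U => by simpa using h U))
  obtain ⟨s, hs, hs0⟩ := Submodule.exists_mem_ne_zero_of_ne_bot hU
  let V : X.affineOpens := X.affineBasicOpen s
  have hVne : (V.1 : X.Opens) ≠ ⊥ := fun h => hs0 ((basicOpen_eq_bot_iff s).1 h)
  haveI : Nonempty V.1 := by
    obtain ⟨x, hx⟩ := (V.1).ne_bot_iff_nonempty.1 hVne
    exact ⟨⟨x, hx⟩⟩
  have htop : W.ideal V = ⊤ := by
    rw [← W.map_ideal_basicOpen U s]
    exact Ideal.eq_top_of_isUnit_mem _ (Ideal.mem_map_of_mem _ hs)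
      (RingedSpace.isUnit_res_basicOpen X.toLocallyRingedSpace.toRingedSpace s)
  obtain ⟨one, hone⟩ : ∃ one : Γ(ClSub.idealMod W, V.1), M2.idealIncl W one = 1 := by
    have h : (1 : Γ(X, V.1)) ∈ Set.range (M2.idealIncl W (U := V.1)) := by
      rw [M2.range_idealIncl W V, htop]; trivial
    exact h
  let f := X ↘ Spec (CommRingCat.of K)
  let cst : K →+* Γ(X, V.1) := (X.presheaf.map (homOfLE (le_top : V.1 ≤ ⊤)).op).hom.comp (Coh.toGlobal f)
  letI : Algebra K Γ(X, V.1) := cst.toAlgebra
  let ρ : (ClSub.idealMod W ⟶ ClSub.idealMod W) →ₗ[K] Γ(X, V.1) :=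
    { toFun := fun e => M2.idealIncl W (e.app V.1 one)
      map_add' := fun e e' => by rw [Scheme.Modules.Hom.add_app]; exact M2.idealIncl_add W _ _
      map_smul' := fun c e => by
        rw [KLin.smul_app_apply, M2.idealIncl_smul]
        exact (Algebra.smul_def (R := K) (A := Γ(X, V.1)) c _).symm }
  have hρ1 : ρ (𝟙 _) = 1 := hone
  have hρmul : ∀ e e', ρ (e ≫ e') = ρ e * ρ e' := fun e e' => by
    show M2.idealIncl W (e'.app V.1 (e.app V.1 one)) = ρ e * ρ e'
    have h : e.app V.1 one = ρ e • one := M2.idealIncl_injective W V.1 (by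
      rw [M2.idealIncl_smul, hone, mul_one]; rfl)
    rw [h, Scheme.Modules.Hom.app_smul, M2.idealIncl_smul]
    rfl
  have h10 : 𝟙 (ClSub.idealMod W) ≠ 0 := fun h => one_ne_zero (hρ1.symm.trans ((congrArg ρ h).trans (map_zero ρ)))
  have hρinj : Function.Injective ρ := (injective_iff_map_eq_zero ρ).2 fun e he => by
    by_contra h
    haveI := hiso e h
    have h2 := hρmul e (inv e)
    rw [IsIso.hom_inv_id, hρ1, he, zero_mul] at h2
    exact one_ne_zero h2
  haveI : IsNoetherian X := CohFound.isNoetherian_of_isProper f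
  haveI : Module.Finite K (ClSub.idealMod W ⟶ ClSub.idealMod W) :=
    KS29.finite_hom (CurveCoh17.isCoh_idealMod W) (CurveCoh17.isCoh_idealMod W)
  let S : Subalgebra K Γ(X, V.1) := (LinearMap.range ρ).toSubalgebra ⟨_, hρ1⟩ (by
    rintro _ _ ⟨e, rfl⟩ ⟨e', rfl⟩; exact ⟨_, hρmul e e'⟩)
  haveI : Module.Finite K S := inferInstanceAs (Module.Finite K (LinearMap.range ρ))
  have hmap : V.2.fromSpec ≫ f = Spec.map (CommRingCat.ofHom (algebraMap K Γ(X, V.1))) := by
    rw [← IsAffineOpen.SpecMap_appLE_fromSpec f (isAffineOpen_top _) V.2 le_top,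
      IsAffineOpen.fromSpec_top, Scheme.isoSpec_Spec_inv, ← Spec.map_comp]
    rfl
  have hS := scalar_of_finite K _ (isDomain_tensor f V.2.fromSpec hmap (AlgebraicClosure K)) S
  refine ⟨h10, fun e => ?_⟩
  have he : ρ e ∈ S := ⟨e, rfl⟩
  rw [hS, Algebra.mem_bot] at he
  obtain ⟨c, hc⟩ := he
  exact ⟨c, hρinj (by rw [map_smul, hρ1, ← hc, Algebra.algebraMap_eq_smul_one])⟩



/-- Let K be a field and X an integral K-scheme, smooth, proper and geometrically irreducible over K, of
dimension at least 2, with an invertible ample O_X-module L (the polarisation for Hilbert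
polynomials) and an integer ℓ ≥ 1. Let A_j (j ∈ J) be sets of closed subschemes of X (quasi-coherent
ideal sheaves), each member integral and different from X. Assume condition (†)(1) over K — every
nonzero morphism I_{W'} → I_W between the ideal sheaves (as O_X-modules) of members W ∈ A_j, W' ∈
A_{j'} is an isomorphism — and condition (†)(2) over K: for W ∈ A_j, Y ∈ A_{j'} and every coherent
torsion-free O_Y-module G of generic rank one whose Hilbert polynomial is P_{O_Y} − ℓ, every
morphism I_W → i_*G vanishes (I_W the ideal sheaf of W as an O_X-module, i : Y → X the inclusion).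
Let F be a sheaf of torsion type: a short exact sequence 0 → i_*G → F → I_W → 0 with W and Y in the
same A_j and G a coherent torsion-free O_Y-module of generic rank one with Hilbert polynomial
P_{O_Y} − ℓ. If for some W' ∈ A_{j'} there is a nonzero morphism I_{W'} → F, then: the sequence
splits; I_W ≅ I_{W'} (existence of an isomorphism); Hom(I_W, F) is a one-dimensional K-vector space;
and every morphism I_{W'} → F factors through any splitting I_W → F. (In the published statement X
is the base change to K of a fixed smooth projective geometrically connected variety and the A_j are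
the K-points of the connected components α_j of a fixed open and closed α ⊆ Hilb(X) whose points are
geometrically integral and geometrically normal or divisors, with (†) asked over every field
extension; the row keeps exactly what the printed argument uses over K, and makes explicit that
members of α are proper closed subschemes.) -/
theorem result
    (K : Type u) [Field K] (X : Scheme.{u}) [X.Over (Spec (CommRingCat.of K))]
    [IsIntegral X] [Smooth (X ↘ Spec (CommRingCat.of K))] [IsProper (X ↘ Spec (CommRingCat.of K))]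
    [GeometricallyIrreducible (X ↘ Spec (CommRingCat.of K))]
    (hdim : 2 ≤ topologicalKrullDim X)
    (L : X.Modules) (hLi : PicF.IsInvertible L) (hLa : CohB1.IsAmple L)
    (ℓ : ℕ) (hℓ : 0 < ℓ)
    (J : Type u) (A : J → Set X.IdealSheafData)
    (hA : ∀ j, ∀ W ∈ A j, IsIntegral W.subscheme ∧ W ≠ ⊥)
    (dag1 : ∀ j j', ∀ W ∈ A j, ∀ W' ∈ A j', ∀ φ : ClSub.idealMod W' ⟶ ClSub.idealMod W,
      φ ≠ 0 → IsIso φ)
    (dag2 : ∀ j j', ∀ W ∈ A j, ∀ Y ∈ A j', ∀ (hY : IsIntegral Y.subscheme) (G : Y.subscheme.Modules),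
      Coh.IsCoh G → TorSh.IsTorsionFree G →
      (haveI := hY
       Module.finrank (Y.subscheme.presheaf.stalk (genericPoint Y.subscheme))
        (G.presheaf.stalk (genericPoint Y.subscheme)) = 1) →
      (letI : Y.subscheme.Over (Spec (CommRingCat.of K)) := ⟨Y.subschemeι ≫ (X ↘ Spec (CommRingCat.of K))⟩
       ∃ P : Polynomial ℚ,
        ShStab.IsHilbPoly K Y.subscheme ((Scheme.Modules.pullback Y.subschemeι).obj L)
          (Coh.structureModule Y.subscheme) P ∧
        ShStab.IsHilbPoly K Y.subscheme ((Scheme.Modules.pullback Y.subschemeι).obj L) G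
          (P - Polynomial.C (ℓ : ℚ))) →
      ∀ φ : ClSub.idealMod W ⟶ (Coh.push Y.subschemeι).obj G, φ = 0)
    (j : J) (W : X.IdealSheafData) (hW : W ∈ A j) (Y : X.IdealSheafData) (hYA : Y ∈ A j)
    [IsIntegral Y.subscheme] (G : Y.subscheme.Modules) (hGc : Coh.IsCoh G) (hGt : TorSh.IsTorsionFree G)
    (hGr : Module.finrank (Y.subscheme.presheaf.stalk (genericPoint Y.subscheme))
        (G.presheaf.stalk (genericPoint Y.subscheme)) = 1)
    (hGP : letI : Y.subscheme.Over (Spec (CommRingCat.of K)) := ⟨Y.subschemeι ≫ (X ↘ Spec (CommRingCat.of K))⟩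
       ∃ P : Polynomial ℚ,
        ShStab.IsHilbPoly K Y.subscheme ((Scheme.Modules.pullback Y.subschemeι).obj L)
          (Coh.structureModule Y.subscheme) P ∧
        ShStab.IsHilbPoly K Y.subscheme ((Scheme.Modules.pullback Y.subschemeι).obj L) G
          (P - Polynomial.C (ℓ : ℚ)))
    (F : X.Modules) (a : (Coh.push Y.subschemeι).obj G ⟶ F) (q : F ⟶ ClSub.idealMod W)
    (w : a ≫ q = 0) (hex : (ShortComplex.mk a q w).ShortExact)
    (j' : J) (W' : X.IdealSheafData) (hW' : W' ∈ A j')
    (hne : ∃ φ : ClSub.idealMod W' ⟶ F, φ ≠ 0) :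
    (∃ σ : ClSub.idealMod W ⟶ F, σ ≫ q = 𝟙 _) ∧
    Nonempty (ClSub.idealMod W ≅ ClSub.idealMod W') ∧
    Module.Finite K (ClSub.idealMod W ⟶ F) ∧ Module.finrank K (ClSub.idealMod W ⟶ F) = 1 ∧
    (∀ σ : ClSub.idealMod W ⟶ F, σ ≫ q = 𝟙 _ →
      ∀ f : ClSub.idealMod W' ⟶ F, ∃ g : ClSub.idealMod W' ⟶ ClSub.idealMod W, f = g ≫ σ) := by
  haveI : GeometricallyReduced (X ↘ Spec (CommRingCat.of K)) := AbRigid.geometricallyReduced_of_smooth _
  haveI : GeometricallyIntegral (X ↘ Spec (CommRingCat.of K)) :=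
    GeometricallyIntegral.of_geometricallyReduced_of_geometricallyIrreducible _
  obtain ⟨hid, hend⟩ := end_scalar K W (hA j W hW).2 (fun e he => dag1 j j W hW W hW e he)
  have key : ∀ (j'' : J) (V : X.IdealSheafData), V ∈ A j'' → ∀ f : ClSub.idealMod V ⟶ F, f ≫ q = 0 → f = 0 := by
    intro j'' V hV f hf
    haveI := hex.mono_f
    have hl : hex.exact.lift f hf = 0 := dag2 j'' j V hV Y hYA inferInstance G hGc hGt hGr hGP _
    rw [← hex.exact.lift_f f hf]
    exact (congrArg (· ≫ a) hl).trans zero_comp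
  obtain ⟨φ, hφ⟩ := hne
  haveI : IsIso (φ ≫ q) := dag1 j j' W hW W' hW' _ fun h => hφ (key j' W' hW' φ h)
  let σ₀ : ClSub.idealMod W ⟶ F := inv (φ ≫ q) ≫ φ
  have hσ₀ : σ₀ ≫ q = 𝟙 _ := by simp [σ₀]
  have hsur : ∀ f : ClSub.idealMod W ⟶ F, ∃ c : K, c • σ₀ = f := fun f => by
    obtain ⟨c, hc⟩ := hend (f ≫ q)
    refine ⟨c, (sub_eq_zero.1 (key j W hW (f - c • σ₀) ?_)).symm⟩
    rw [Preadditive.sub_comp, Linear.smul_comp, hσ₀, hc, sub_self]
  have hne0 : σ₀ ≠ 0 := fun h => hid (by rw [← hσ₀, h, zero_comp])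
  have hspan : Submodule.span K ({σ₀} : Set (ClSub.idealMod W ⟶ F)) = ⊤ :=
    Submodule.eq_top_iff'.2 fun f => Submodule.mem_span_singleton.2 (hsur f)
  refine ⟨⟨σ₀, hσ₀⟩, ⟨(asIso (φ ≫ q)).symm⟩, ⟨⟨{σ₀}, by simpa using hspan⟩⟩,
    finrank_eq_one σ₀ hne0 hsur, fun σ hσ f => ⟨f ≫ q, sub_eq_zero.1 (key j' W' hW' _ ?_)⟩⟩
  rw [Preadditive.sub_comp, Category.assoc, hσ, Category.comp_id, sub_self]

end Groth.Agent.S19051
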