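import Groth.Statements.S19052
import Groth.Agent.Lib.NonPure4.Basic
import Groth.Agent.Lib.Snapper.Hilb
-- import your own Groth.Agent.* helpers here

set_option autoImplicit false
set_option maxHeartbeats 1000000
set_option linter.style.haveILetI false
set_option backward.isDefEq.respectTransparency false
set_option backward.isDefEq.respectTransparency.types false
open CategoryTheory CategoryTheory.Limits AlgebraicGeometry
universe u
open NonPure

namespace Groth.Agent.S19052

/-- Let K be a field and X an integral K-scheme, smooth, proper and geometrically irreducible over K, of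
dimension at least 2, with an invertible ample O_X-module L (the polarisation for Hilbert
polynomials) and an integer ℓ ≥ 1. Let A_j (j ∈ J) be sets of closed subschemes of X (quasi-coherent
ideal sheaves), each member integral and different from X. Assume that each A_j contains every
closed subscheme whose ideal sheaf is isomorphic, as an O_X-module, to the ideal sheaf of a member
of A_j, and condition (†)(2) over K: for W ∈ A_j, Y ∈ A_{j'} and every coherent torsion-free
O_Y-module G of generic rank one whose Hilbert polynomial is P_{O_Y} − ℓ, every morphism I_W → i_*G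
vanishes (I_W the ideal sheaf of W as an O_X-module, i : Y → X the inclusion). Let Z ⊆ X be a closed
subscheme finite locally free of degree ℓ over K, so that F = I_Z is a sheaf of ideal type. Then for
every W ∈ A_j the K-vector space Hom(I_W, I_Z) is finite-dimensional of dimension at most one. (In
the published statement X is the base change to K of a fixed smooth projective geometrically
connected variety and the A_j are the K-points of the connected components α_j of a fixed open and
closed α ⊆ Hilb(X) whose points are geometrically integral and geometrically normal or divisors,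
with (†) asked over every field extension; the row keeps exactly what the printed argument uses over
K, and makes explicit that members of α are proper closed subschemes.) -/
theorem result
    (K : Type u) [Field K] (X : Scheme.{u}) [X.Over (Spec (CommRingCat.of K))]
    [IsIntegral X] [Smooth (X ↘ Spec (CommRingCat.of K))] [IsProper (X ↘ Spec (CommRingCat.of K))]
    [GeometricallyIrreducible (X ↘ Spec (CommRingCat.of K))]
    (hdim : 2 ≤ topologicalKrullDim X)
    (L : X.Modules) (hLi : PicF.IsInvertible L) (hLa : CohB1.IsAmple L)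
    (ℓ : ℕ) (hℓ : 0 < ℓ)
    (J : Type u) (A : J → Set X.IdealSheafData)
    (hA : ∀ j, ∀ W ∈ A j, IsIntegral W.subscheme ∧ W ≠ ⊥)
    (hAiso : ∀ j, ∀ W ∈ A j, ∀ W'' : X.IdealSheafData,
      Nonempty (ClSub.idealMod W'' ≅ ClSub.idealMod W) → W'' ∈ A j)
    (dag2 : ∀ j j', ∀ W ∈ A j, ∀ Y ∈ A j', ∀ (hY : IsIntegral Y.subscheme) (G : Y.subscheme.Modules),
      Coh.IsCoh G → TorSh.IsTorsionFree G →
      (haveI := hY
       Module.finrank (Y.subscheme.presheaf.stalk (genericPoint Y.subscheme))
        (G.presheaf.stalk (genericPoint Y.subscheme)) = 1) →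
      (letI : Y.subscheme.Over (Spec (CommRingCat.of K)) := ⟨Y.subschemeι ≫ (X ↘ Spec (CommRingCat.of K))⟩
       ∃ P : Polynomial ℚ,
        ShStab.IsHilbPoly K Y.subscheme ((Scheme.Modules.pullback Y.subschemeι).obj L)
          (Coh.structureModule Y.subscheme) P ∧
        ShStab.IsHilbPoly K Y.subscheme ((Scheme.Modules.pullback Y.subschemeι).obj L) G
          (P - Polynomial.C (ℓ : ℚ))) →
      ∀ φ : ClSub.idealMod W ⟶ (Coh.push Y.subschemeι).obj G, φ = 0)
    (Z : X.IdealSheafData) (hZ : Mor2.IsFinLocFreeOfDeg ℓ (Z.subschemeι ≫ (X ↘ Spec (CommRingCat.of K))))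
    (j : J) (W : X.IdealSheafData) (hW : W ∈ A j) :
    Module.Finite K (ClSub.idealMod W ⟶ ClSub.idealMod Z) ∧
      Module.finrank K (ClSub.idealMod W ⟶ ClSub.idealMod Z) ≤ 1 := by
  classical
  haveI : GeometricallyReduced (X ↘ Spec (CommRingCat.of K)) := AbRigid.geometricallyReduced_of_smooth _
  haveI : GeometricallyIntegral (X ↘ Spec (CommRingCat.of K)) :=
    GeometricallyIntegral.of_geometricallyReduced_of_geometricallyIrreducible _
  haveI : IsNoetherian X := CohFound.isNoetherian_of_isProper (X ↘ Spec (CommRingCat.of K))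
  haveI : Mono (ClSub.idealModι Z) := inferInstanceAs (Mono (kernel.ι (ClSub.toSubscheme Z)))
  obtain ⟨hid, hend⟩ := S19051.end_scalar K W (hA j W hW).2 (NonPure4.isIso_of_ne_zero K W)
  suffices hmain : ∀ φ : ClSub.idealMod W ⟶ ClSub.idealMod Z, φ ≠ 0 →
      ∀ ψ : ClSub.idealMod W ⟶ ClSub.idealMod Z, ∃ c : K, c • φ = ψ by
    by_cases h : ∃ φ : ClSub.idealMod W ⟶ ClSub.idealMod Z, φ ≠ 0
    · obtain ⟨φ, hφ⟩ := h
      exact ⟨⟨⟨{φ}, by simpa using (Submodule.eq_top_iff'.2 fun f => Submodule.mem_span_singleton.2 (hmain φ hφ f) :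
        Submodule.span K ({φ} : Set (ClSub.idealMod W ⟶ ClSub.idealMod Z)) = ⊤)⟩⟩, finrank_le_one φ (hmain φ hφ)⟩
    · push Not at h
      haveI : Subsingleton (ClSub.idealMod W ⟶ ClSub.idealMod Z) := ⟨fun a b => (h a).trans (h b).symm⟩
      exact ⟨inferInstance, by rw [Module.finrank_zero_of_subsingleton]; exact zero_le_one⟩
  intro φ hφ ψ
  let φ' := φ ≫ ClSub.idealModι Z
  have hφ' : φ' ≠ 0 := fun h => hφ (zero_of_comp_mono _ h)
  haveI : Mono φ' := NonPure4.mono_of_ne_zero W φ' hφ'
  haveI : Coh.IsQCoh (ClSub.idealMod W) := M2.isQCoh_idealMod W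
  let W'' := SecDiv.ofMono φ'
  obtain ⟨iso⟩ := SecDiv.nonempty_iso_idealMod φ'
  have hW'' : W'' ∈ A j := hAiso j W hW W'' ⟨iso.symm⟩
  haveI : IsIntegral W''.subscheme := (hA j W'' hW'').1
  have hle : W'' ≤ Z := fun V s hs => by
    obtain ⟨a, rfl⟩ := hs
    exact (M2.range_idealIncl Z V).le ⟨φ.app V.1 a, rfl⟩
  have h0 : φ' ≫ ClSub.toSubscheme W'' = 0 := by
    refine (Scheme.Modules.hom_ext _ _ fun U => ?_)
    ext a
    choose V hV hxV hVU using fun x : U => exists_isAffineOpen_mem_and_subset (U := U) x.2
    refine M1.modules_eq_of_locally_eq _ U V hVU (fun x hx => TopologicalSpace.Opens.mem_iSup.mpr ⟨⟨x, hx⟩, hxV ⟨x, hx⟩⟩) _ _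
      fun x => ?_
    refine ((M1.map_app_eq (φ' ≫ ClSub.toSubscheme W'') (hVU x) a).symm.trans ?_).trans (map_zero _).symm
    change W''.subschemeι.app (V x) (φ'.app (V x) _) = 0
    have hm : (show Γ(X, V x) from φ'.app (V x) (M1.mres (ClSub.idealMod W) (hVU x) a)) ∈ W''.ideal ⟨V x, hV x⟩ := ⟨_, rfl⟩
    rw [← W''.ker_subschemeι, Scheme.Hom.ker_apply] at hm
    exact RingHom.mem_ker.mp hm
  let e : ClSub.idealMod W ⟶ ClSub.idealMod W'' := kernel.lift _ φ' h0
  have he : e ≫ ClSub.idealModι W'' = φ' := kernel.lift_ι _ _ _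
  letI : W''.subscheme.Over (Spec (CommRingCat.of K)) := ⟨W''.subschemeι ≫ (X ↘ Spec (CommRingCat.of K))⟩
  haveI : IsProper (W''.subscheme ↘ Spec (CommRingCat.of K)) :=
    show IsProper (W''.subschemeι ≫ (X ↘ Spec (CommRingCat.of K))) from inferInstance
  haveI : IsNoetherian W''.subscheme := CohFound.isNoetherian_of_isProper (W''.subscheme ↘ Spec (CommRingCat.of K))
  let l := Scheme.IdealSheafData.inclusion hle
  have hl : l ≫ W''.subschemeι = Z.subschemeι := Scheme.IdealSheafData.inclusion_subschemeι hle
  haveI : IsClosedImmersion (l ≫ W''.subschemeι) := by rw [hl]; infer_instance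
  haveI : IsClosedImmersion l := IsClosedImmersion.of_comp l W''.subschemeι
  let π := ClSub.unitToPush l
  let χ : ClSub.idealMod W ⟶ ClSub.quotMod W'' := ψ ≫ ClSub.idealModι Z ≫ ClSub.toSubscheme W''
  have hχπ : χ ≫ (Scheme.Modules.pushforward W''.subschemeι).map π = 0 := by
    refine Scheme.Modules.hom_ext _ _ fun U => ?_
    ext a
    show l.app (W''.subschemeι ⁻¹ᵁ U) (W''.subschemeι.app U ((ClSub.idealModι Z).app U (ψ.app U a))) = 0
    have hz : Z.subschemeι.app U (M2.idealIncl Z (ψ.app U a)) = 0 := M2.subschemeι_app_idealIncl Z _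
    rw [Scheme.Hom.congr_app hl.symm U] at hz
    exact (map_eq_zero_iff _ (ConcreteCategory.bijective_of_isIso _).1).1 hz
  have hχ0 : χ = 0 := by
    by_cases hη : genericPoint W''.subscheme ∈ Set.range l
    · haveI : Surjective l := ⟨Set.range_eq_univ.1 (Set.eq_univ_of_univ_subset (fun y _ =>
        (genericPoint_specializes y).mem_closed l.isClosedEmbedding.isClosed_range hη))⟩
      haveI : IsIso l := isIso_of_isClosedImmersion_of_surjective l
      haveI : Mono π := ⟨fun {T} g h hgh => Scheme.Modules.hom_ext _ _ fun U => by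
        ext t
        exact (ConcreteCategory.bijective_of_isIso (l.app U)).1 (congrArg (fun φ => φ.app U t) hgh)⟩
      exact zero_of_comp_mono _ hχπ
    · have hGc : Coh.IsCoh (kernel π) := M1.isCoh_kernel (M1.isCoh_structureModule _)
        (CohFound.isCoh_push_closedImm l (M1.isCoh_structureModule _)).1 π
      have hinj : ∀ y, Function.Injective (CurveCoh17.stalkLin (kernel.ι π) y) := (M1.mono_iff_stalk _).1 inferInstance
      have hGt : TorSh.IsTorsionFree (kernel π) := fun y => by
        obtain ⟨u⟩ := CurveCoh17.nonempty_stalk_equiv_structureModule (X := W''.subscheme) y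
        exact Function.Injective.moduleIsTorsionFree (u.toLinearMap.comp (CurveCoh17.stalkLin (kernel.ι π) y))
          (u.injective.comp (hinj y)) (fun r a => map_smul _ r a)
      have hGr : Module.finrank (W''.subscheme.presheaf.stalk (genericPoint W''.subscheme))
          ((kernel π).presheaf.stalk (genericPoint W''.subscheme)) = 1 := by
        obtain ⟨u⟩ := CurveCoh17.nonempty_stalk_equiv_structureModule (X := W''.subscheme) (genericPoint W''.subscheme)
        have hsurj : Function.Surjective (CurveCoh17.stalkLin (kernel.ι π) (genericPoint W''.subscheme)) := fun a =>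
          (M1.exact_iff_stalk_eq_zero _).1 (ShortComplex.exact_of_f_is_kernel
            (ShortComplex.mk (kernel.ι π) π (kernel.condition π)) (kernelIsKernel π)) _ a (M1.eq_zero_stalk_push l _ hη _)
        rw [((LinearEquiv.ofBijective _ ⟨hinj _, hsurj⟩).trans u).finrank_eq, Module.finrank_fin_fun]
      have hP0 : ∃ P : Polynomial ℚ, ShStab.IsHilbPoly K W''.subscheme ((Scheme.Modules.pullback W''.subschemeι).obj L)
          (Coh.structureModule W''.subscheme) P :=
        Snapper.exists_isHilbPoly K (Twist.isInvertible_pullback _ hLi) (M1.isCoh_structureModule _)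
      obtain ⟨P, hP⟩ := hP0
      have hfac : (Scheme.Modules.pushforward W''.subschemeι).map π ≫ 𝟙 _ = _ := Category.comp_id _
      have hz := dag2 j j W hW W'' hW'' inferInstance (kernel π) hGc hGt hGr ⟨P, hP, fun m => by
        have hZ' : Mor2.IsFinLocFreeOfDeg ℓ (l ≫ (W''.subscheme ↘ Spec (CommRingCat.of K))) := by
          show Mor2.IsFinLocFreeOfDeg ℓ (l ≫ W''.subschemeι ≫ (X ↘ Spec (CommRingCat.of K)))
          rw [← Category.assoc, hl]
          exact hZ
        rw [NonPure4.euler_kernel K l ℓ hZ' _ (Twist.isInvertible_pullback _ hLi) m, Polynomial.eval_sub,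
          Polynomial.eval_C, ← hP m]
        push_cast
        rfl⟩
      haveI : PreservesLimit (parallelPair π 0) (Coh.push W''.subschemeι) := inferInstance
      obtain ⟨χ', hχ'⟩ := KernelFork.IsLimit.lift' (isLimitOfHasKernelOfPreservesLimit (Coh.push W''.subschemeι) π) χ hχπ
      rw [← hχ', hz χ']
      exact zero_comp
  let g : ClSub.idealMod W ⟶ ClSub.idealMod W'' := kernel.lift _ (ψ ≫ ClSub.idealModι Z) (by rw [Category.assoc]; exact hχ0)
  have hg : g ≫ ClSub.idealModι W'' = ψ ≫ ClSub.idealModι Z := kernel.lift_ι _ _ _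
  obtain ⟨a, ha⟩ := hend (e ≫ iso.inv)
  obtain ⟨b, hb⟩ := hend (g ≫ iso.inv)
  have he' : e = a • iso.hom := by
    rw [← Category.id_comp iso.hom, ← Linear.smul_comp, ← ha, Category.assoc, iso.inv_hom_id, Category.comp_id]
  have hg' : g = b • iso.hom := by
    rw [← Category.id_comp iso.hom, ← Linear.smul_comp, ← hb, Category.assoc, iso.inv_hom_id, Category.comp_id]
  have ha0 : a ≠ 0 := fun h => hφ' (by rw [← he, he', h, zero_smul, zero_comp])
  refine ⟨b * a⁻¹, (cancel_mono (ClSub.idealModι Z)).1 ?_⟩
  rw [Linear.smul_comp, ← hg, show φ ≫ ClSub.idealModι Z = φ' from rfl, ← he, he', hg', Linear.smul_comp, Linear.smul_comp,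
    smul_smul, mul_assoc, inv_mul_cancel₀ ha0, mul_one]

end Groth.Agent.S19052
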