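import Groth.Statements.S19055
import Groth.Agent.Lib.SurfRR10.Restrict
import Groth.Agent.Lib.SurfRR10.Proj
import Groth.Agent.Lib.CurveCoh17.Section
import Groth.Agent.Lib.CurveCoh17.GenericZero
import Groth.Agent.Lib.CurveAmple18.Basic
import Groth.Agent.Lib.Growth13.Bound
import Groth.Agent.Lib.NumPoly18.SurfCones

set_option autoImplicit false
set_option maxHeartbeats 1000000
set_option linter.style.haveILetI false
set_option backward.isDefEq.respectTransparency false
set_option backward.isDefEq.respectTransparency.types false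
open CategoryTheory CategoryTheory.Limits AlgebraicGeometry
universe u
open NonPure

namespace Groth.Agent.S19055

open Groth.Agent.CurveCoh17 (stalkLin)
open Groth.Agent.HypSq10 (rep rep_inv cls_rep chi)
open Groth.Agent.SymSq10 (sdot)

noncomputable local instance instLawS19055 (Y : Scheme.{u}) : PicGrp.Law Y := M2.law Y

theorem torsionFree_of_invertible {C : Scheme.{u}} {L : C.Modules} (hL : PicF.IsInvertible L) :
    TorSh.IsTorsionFree L := fun x => by
  obtain ⟨e⟩ := CurveCoh17.nonempty_stalk_equiv ((M2.isInvertible_iff_isFinLocFreeOfRank_one L).1 hL) x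
  exact Function.Injective.moduleIsTorsionFree e e.injective (fun r a => e.map_smul r a)

/-- A map from an invertible module to a torsion-free module on an integral scheme is zero or injective. -/
theorem eq_zero_or_mono {C : Scheme.{u}} [IsIntegral C] [IsNoetherian C] {L G : C.Modules}
    (hL : PicF.IsInvertible L) (hG : Coh.IsCoh G) (hGt : TorSh.IsTorsionFree G) (ψ : L ⟶ G) :
    ψ = 0 ∨ (Mono ψ ∧ Function.Injective (stalkLin ψ (genericPoint C))) := by
  haveI : Coh.IsQCoh G := hG.1
  haveI : Coh.IsQCoh L := (Snapper.isCoh_of_isInvertible hL).1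
  have hmax : ∀ {z : C}, FlatH4.IsMaxPt z → z = genericPoint C := fun {z} hz =>
    CurveCoh17.eq_genericPoint_of_maximal hz
  obtain ⟨e⟩ := CurveCoh17.nonempty_stalk_equiv
    ((M2.isInvertible_iff_isFinLocFreeOfRank_one L).1 hL) (genericPoint C)
  let a₀ := e.symm (fun _ => 1)
  have hspan : ∀ a, a = (e a 0) • a₀ := fun a => e.injective (by
    rw [map_smul, LinearEquiv.apply_symm_apply]
    funext i
    rw [Pi.smul_apply, smul_eq_mul, mul_one, Subsingleton.elim i 0])
  by_cases h0 : stalkLin ψ (genericPoint C) a₀ = 0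
  · left
    refine Scheme.Modules.hom_ext _ _ fun U => ?_
    ext s
    refine GenericZero.eq_zero_of_maxPt hGt _ fun z hz hzm => ?_
    obtain rfl := hmax hzm
    rw [← M1.germ_naturality]
    show stalkLin ψ (genericPoint C) (L.presheaf.germ U _ hz s) = 0
    rw [hspan (L.presheaf.germ U _ hz s), map_smul, h0, smul_zero]
  · right
    have hinj : Function.Injective (stalkLin ψ (genericPoint C)) := by
      refine (injective_iff_map_eq_zero _).2 fun a ha => ?_
      rw [hspan a, map_smul] at ha
      haveI := hGt (genericPoint C)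
      rcases smul_eq_zero.1 ha with h | h
      · rw [hspan a, h, zero_smul]
      · exact absurd h h0
    refine ⟨(M1.mono_iff_stalk ψ).2 fun x => ?_, hinj⟩
    refine (injective_iff_map_eq_zero _).2 fun a ha => ?_
    obtain ⟨U, hxU, s, rfl⟩ := L.presheaf.exists_germ_eq a
    rw [M1.germ_naturality] at ha
    obtain ⟨V, hxV, i₁, i₂, he⟩ := G.presheaf.germ_eq x hxU hxU (ψ.app U s) 0 (ha.trans (map_zero _).symm)
    have hs : M1.mres L i₁.le s = 0 := by
      refine GenericZero.eq_zero_of_maxPt (torsionFree_of_invertible hL) _ fun z hz hzm => ?_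
      obtain rfl := hmax hzm
      apply hinj
      rw [map_zero]
      show (M1.stalkAb (genericPoint C)).map ψ (L.presheaf.germ V _ hz (M1.mres L i₁.le s)) = 0
      rw [M1.germ_mres L i₁.le hz, M1.germ_naturality, ← M1.germ_mres G i₁.le hz,
        show M1.mres G i₁.le (ψ.app U s) = 0 from he.trans (map_zero _), map_zero]
    rw [← M1.germ_mres L i₁.le hxV, hs, map_zero]


/-- Let K be an algebraically closed field and X a smooth projective surface over K — an integral
K-scheme, smooth, proper and projective over K, of dimension 2 — polarised by an invertible ample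
O_X-module L. Let C₁, C₂ ⊆ X be closed subschemes which are integral of dimension one, with
intersection number I = C₁ · C₂ (computed as χ(O_X) − χ(I_{C₁}) − χ(I_{C₂}) + χ(I_{C₁} ⊗ I_{C₂})),
and let ℓ be a natural number with I < ℓ. If G is a coherent torsion-free O_{C₂}-module of generic
rank one whose Hilbert polynomial with respect to L|_{C₂} is P_{O_{C₂}} − ℓ, then every morphism of
O_X-modules I_{C₁} → i_*G is zero, i : C₂ → X being the inclusion. (This is the verification, at the
start of the printed proof, that a family of integral curves with constant intersection number I(α)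
< ℓ satisfies part (2) of condition (†); the contraction statement of the result itself rests on the
existence of the good moduli space and is not restated.) -/
theorem result
    (K : Type u) [Field K] [IsAlgClosed K] (X : Scheme.{u}) [X.Over (Spec (CommRingCat.of K))]
    [IsIntegral X] [Smooth (X ↘ Spec (CommRingCat.of K))] [IsProper (X ↘ Spec (CommRingCat.of K))]
    (hproj : ∃ (n : ℕ) (ι : X ⟶ CohB1.ProjSpace n K), IsClosedImmersion ι ∧
      ι ≫ CohB1.ProjSpace.toSpec n K = X ↘ Spec (CommRingCat.of K))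
    (hdim : topologicalKrullDim X = 2)
    (L : X.Modules) (hLi : PicF.IsInvertible L) (hLa : CohB1.IsAmple L)
    (C₁ C₂ : X.IdealSheafData) [IsIntegral C₁.subscheme] [IsIntegral C₂.subscheme]
    (hC₁ : topologicalKrullDim ↥C₁.subscheme = 1) (hC₂ : topologicalKrullDim ↥C₂.subscheme = 1)
    (ℓ : ℕ)
    (hℓ : FGA.intNum K X 2 (fun i : Fin 2 => if i = 0 then ClSub.idealMod C₁ else ClSub.idealMod C₂)
      (Coh.structureModule X) < (ℓ : ℤ))
    (G : C₂.subscheme.Modules) (hGc : Coh.IsCoh G) (hGt : TorSh.IsTorsionFree G)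
    (hGr : Module.finrank (C₂.subscheme.presheaf.stalk (genericPoint C₂.subscheme))
        (G.presheaf.stalk (genericPoint C₂.subscheme)) = 1)
    (hGP : letI : C₂.subscheme.Over (Spec (CommRingCat.of K)) := ⟨C₂.subschemeι ≫ (X ↘ Spec (CommRingCat.of K))⟩
       ∃ P : Polynomial ℚ,
        ShStab.IsHilbPoly K C₂.subscheme ((Scheme.Modules.pullback C₂.subschemeι).obj L)
          (Coh.structureModule C₂.subscheme) P ∧
        ShStab.IsHilbPoly K C₂.subscheme ((Scheme.Modules.pullback C₂.subschemeι).obj L) G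
          (P - Polynomial.C (ℓ : ℚ)))
    (φ : ClSub.idealMod C₁ ⟶ (Coh.push C₂.subschemeι).obj G) : φ = 0 := by
  haveI : IsNoetherian X := CohFound.isNoetherian_of_isProper (X ↘ Spec (CommRingCat.of K))
  have hd : topologicalKrullDim X = ((2 : ℕ) : WithBot ℕ∞) := by rw [hdim]; rfl
  have hcart : ∀ (C : X.IdealSheafData), IsIntegral C.subscheme → topologicalKrullDim ↥C.subscheme = 1 →
      BlowUp.IsEffCartierIdeal C := fun C hC h1 => by
    have h : topologicalKrullDim (C.support : Set X) = 1 := by
      rw [← Scheme.IdealSheafData.range_subschemeι, ← h1]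
      exact (C.subschemeι.isClosedEmbedding.isEmbedding.toHomeomorph).symm.isHomeomorph.topologicalKrullDim_eq
    obtain ⟨ξ, rfl, hξ⟩ := SurfR.exists_eq_ptIdeal C hC h
    exact NumPoly18.isEffCartier_ptIdeal (k := K) hd hξ
  have hI1 := M2.isInvertible_idealMod C₁ (hcart C₁ inferInstance hC₁)
  have hE2 := hcart C₂ inferInstance hC₂
  have hI2 := M2.isInvertible_idealMod C₂ hE2
  have hI : FGA.intNum K X 2 (fun i : Fin 2 => if i = 0 then ClSub.idealMod C₁ else ClSub.idealMod C₂)
      (Coh.structureModule X) = sdot K (PicGrp.cls _ hI1) (PicGrp.cls _ hI2) := by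
    rw [show (fun i : Fin 2 => if i = 0 then ClSub.idealMod C₁ else ClSub.idealMod C₂) =
      ![ClSub.idealMod C₁, ClSub.idealMod C₂] from funext fun i => by fin_cases i <;> rfl]
    exact SymSq10.intNum_eq' hd.le hI1 hI2
  rw [hI] at hℓ
  letI : C₂.subscheme.Over (Spec (CommRingCat.of K)) := ⟨C₂.subschemeι ≫ (X ↘ Spec (CommRingCat.of K))⟩
  haveI : IsProper (C₂.subscheme ↘ Spec (CommRingCat.of K)) :=
    show IsProper (C₂.subschemeι ≫ (X ↘ Spec (CommRingCat.of K))) from inferInstance
  haveI : IsNoetherian C₂.subscheme := CohFound.isNoetherian_of_isProper (C₂.subscheme ↘ Spec (CommRingCat.of K))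
  obtain ⟨N, hN, hinv⟩ := M2.exists_inverse hI2
  have hinv' : ClSub.IsInverseOf N (ClSub.idealMod C₂.subschemeι.ker) := by
    rw [Scheme.IdealSheafData.ker_subschemeι]
    obtain ⟨e⟩ := hinv
    exact ⟨M2.tensorComm _ _ ≪≫ e⟩
  have hch := SurfRR10.chi_restrict (k := K) C₂.subschemeι rfl
    (by rw [Scheme.IdealSheafData.ker_subschemeι]; exact hE2) hN hinv'
    (PicGrp.cls _ hI1 * PicGrp.cls _ hI2)
  have hmul : PicGrp.cls (ClSub.idealMod C₁) hI1 * PicGrp.cls (ClSub.idealMod C₂) hI2 * PicGrp.cls N hN =
      PicGrp.cls (ClSub.idealMod C₁) hI1 := by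
    rw [mul_assoc, (PicGrp.cls_mul_cls_eq_one_iff hI2 hN).2 hinv, mul_one]
  rw [hmul] at hch
  have hq := SurfRR10.euler_quot (k := K) (X := X) hdim hE2
  rw [SurfRR10.euler_quot_eq (k := K) (X := X) hdim C₂] at hq
  let ψ := ((Scheme.Modules.pullbackPushforwardAdjunction C₂.subschemeι).homEquiv _ _).symm φ
  suffices hψ : ψ = 0 by
    have := congrArg ((Scheme.Modules.pullbackPushforwardAdjunction C₂.subschemeι).homEquiv _ _) hψ
    rw [Equiv.apply_symm_apply] at this
    rw [this, Adjunction.homEquiv_unit]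
    simp
  have hL' := PicLoc.isInvertible_pullback C₂.subschemeι hI1
  rcases eq_zero_or_mono hL' hGc hGt ψ with h | ⟨hmono, hinj⟩
  · exact h
  exfalso
  have hd1 : topologicalKrullDim C₂.subscheme ≤ 1 := hC₂.le
  have hcl := CurveAmple18.curveLike K C₂.subscheme hd1
  haveI := hmono
  have hK : IsZero (kernel ψ) := isZero_kernel_of_mono ψ
  have hLc := Snapper.isCoh_of_isInvertible hL'
  have hGR : Nonempty (G.presheaf.stalk (genericPoint C₂.subscheme) ≃ₗ[C₂.subscheme.presheaf.stalk
      (genericPoint C₂.subscheme)] (Fin 1 → C₂.subscheme.presheaf.stalk (genericPoint C₂.subscheme))) := by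
    letI : Field (C₂.subscheme.presheaf.stalk (genericPoint C₂.subscheme)) :=
      inferInstanceAs (Field C₂.subscheme.functionField)
    haveI := Module.finite_of_finrank_eq_succ hGr
    exact ⟨(Module.finBasisOfFinrankEq _ _ hGr).equivFun⟩
  obtain ⟨S, hS⟩ := CurveCoh17.exists_suppIn_of_maximal hd1
    (M1.isCoh_cokernel hLc.1 hGc ψ) fun g hg =>
    CurveCoh17.eq_genericPoint_of_maximal hg ▸ CurveCoh17.eq_zero_stalk_cokernel _ _
      (CurveCoh17.surjective_stalkLin_genericPoint
        (CurveCoh17.nonempty_stalk_equiv ((M2.isInvertible_iff_isFinLocFreeOfRank_one _).1 hL') _)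
        hGR ψ hinj)
  obtain ⟨-, -, he⟩ := CurveCoh17.euler_sub (k := K) ψ (hcl.adm hLc) (hcl.adm hGc)
    (show CurveCoh17.SuppIn (kernel ψ) S from ⟨hS.1, fun x _ => CurveCoh17.eq_zero_stalk_kernel _ _
      ((M1.mono_iff_stalk ψ).1 hmono x)⟩) hS
  haveI := Growth13.subsingleton_HH_of_isZero hK 0
  rw [Module.finrank_zero_of_subsingleton (R := K) (M := Coh.HH C₂.subscheme (kernel ψ) 0)] at he
  obtain ⟨P, hP1, hP2⟩ := hGP
  have h1 := hP1 0
  have h2 := hP2 0
  rw [CurveCoh17.euler_iso (show ShStab.twist _ ((Scheme.Modules.pullback C₂.subschemeι).obj L)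
    (Coh.structureModule C₂.subscheme) 0 ≅ _ from M2.tensorLUnit (Coh.structureModule C₂.subscheme))] at h1
  rw [CurveCoh17.euler_iso (show ShStab.twist _ ((Scheme.Modules.pullback C₂.subschemeι).obj L)
    G 0 ≅ _ from M2.tensorRUnit G), Polynomial.eval_sub, Polynomial.eval_C, ← h1] at h2
  have h2' : Curv2.euler K C₂.subscheme G =
      Curv2.euler K C₂.subscheme (Coh.structureModule C₂.subscheme) - ℓ := by exact_mod_cast h2
  have h3 : chi K (Abel10.pc C₂.subschemeι (PicGrp.cls _ hI1)) =
      Curv2.euler K C₂.subscheme ((Scheme.Modules.pullback C₂.subschemeι).obj (ClSub.idealMod C₁)) := by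
    rw [HypSq10.euler_eq_chi hL']
    congr 1
  rw [h3] at hch
  rw [SymSq10.sdot] at hℓ
  have hge : (0 : ℤ) ≤ Module.finrank K (Coh.HH C₂.subscheme (cokernel ψ) 0) := Int.natCast_nonneg _
  push_cast at he
  linarith

end Groth.Agent.S19055
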