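import Groth.Statements.S19060
import Groth.Agent.Lib.H0Proj1.Basic
import Groth.Agent.Lib.VanFib13.Apply
import Groth.Agent.Lib.CohFound.HHBridge
import Mathlib.RingTheory.Flat.EquationalCriterion

set_option autoImplicit false
universe u
open CategoryTheory CategoryTheory.Limits AlgebraicGeometry Opposite
open Curves

namespace Groth.Agent.S19060

/-- Let R be a Noetherian ring and X a relative curve over Spec R (proper and smooth, with geometrically
connected fibres of dimension one, and projective: X carries an ample invertible module). Let F be a
coherent O_X-module which is flat over Spec R (every stalk is a flat module over the local ring of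
the base). If H^1(X, F) is a projective R-module, then H^0(X, F) is a projective R-module. (The
source says only that F is an O_X-module flat over the base; F is taken coherent here, as the
finiteness of its cohomology over R used there requires.) -/
theorem result (R : Type u) [CommRing R] [IsNoetherianRing R]
    (X : Scheme.{u}) [X.Over (Spec (CommRingCat.of R))] [IsProper (X ↘ Spec (CommRingCat.of R))]
    [Smooth (X ↘ Spec (CommRingCat.of R))] [GeometricallyConnected (X ↘ Spec (CommRingCat.of R))]
    (hdim : ∀ s : Spec (CommRingCat.of R), topologicalKrullDim ↥((X ↘ Spec (CommRingCat.of R)).fiber s) = 1)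
    (hproj : ∃ M : X.Modules, CohB1.IsAmple M)
    (F : X.Modules) (hF : Coh.IsCoh F) (hfl : FlatMod.IsFlatOver (X ↘ Spec (CommRingCat.of R)) F)
    (h1 : Module.Projective R (Coh.HH X F 1)) :
    Module.Projective R (Coh.HH X F 0) := by
  haveI : X.IsSeparated :=
    ⟨by rw [← terminal.comp_from (X ↘ Spec (CommRingCat.of R))]; infer_instance⟩
  haveI : CompactSpace X := QuasiCompact.compactSpace_of_compactSpace (X ↘ Spec (CommRingCat.of R))
  haveI := h1
  have hvan : ∀ p : ℕ, 1 < p → Subsingleton (Coh.HH X F p) := fun p hp => by
    rw [Groth.Agent.CohFound.subsingleton_HH_iff]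
    exact Groth.Agent.VanFib13.subsingleton_hc_affine (X ↘ Spec (CommRingCat.of R))
      (isAffineOpen_top _) 1
      (fun w _ => by rw [← Groth.Agent.VanFib13.dim_fiber _ w]; exact le_of_eq (hdim w)) hF.1 (n := p) (by omega)
  haveI : Module.Flat R (Coh.HH X F 0) :=
    Groth.Agent.H0Proj1.flat_HH_zero hF.1 hfl hvan Module.Flat.of_projective
  haveI : Module.Finite R (Coh.HH X F 0) := Groth.Agent.CohFound.finite_HH_of_isProper (A := R) F hF 0
  haveI : Module.FinitePresentation R (Coh.HH X F 0) := Module.finitePresentation_of_finite R _
  exact Module.Flat.projective_of_finitePresentation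

end Groth.Agent.S19060
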