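import Groth.Statements.S19073
import Groth.Agent.Lib.NumPoly18.NumTriv

set_option autoImplicit false
universe u
open CategoryTheory CategoryTheory.Limits AlgebraicGeometry
open Surf

open Groth.Agent Groth.Agent.NumPoly18
namespace Groth.Agent.S19073

/-- Let X be a surface over an algebraically closed field k (an integral scheme of dimension two all of
whose local rings are regular, with a closed immersion into some P^n_k over k), and let L₁, L₂ be
invertible O_X-modules which are numerically equivalent: (L₁·M) = (L₂·M) for every invertible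
O_X-module M, where (L·M) = χ(O_X) − χ(L) − χ(M) + χ(L ⊗ M) is the intersection number. Then χ(X,
L₁) = χ(X, L₂). -/
theorem result (k : Type u) [Field k] [IsAlgClosed k] (X : Scheme.{u}) [X.Over (Spec (CommRingCat.of k))]
    [AlgebraicGeometry.IsIntegral X] (hdim : topologicalKrullDim X = 2) (hreg : ∀ x : X, IsRegularLocalRing (X.presheaf.stalk x))
    (hproj : ∃ (n : ℕ) (ι : X ⟶ CohB1.ProjSpace n k), IsClosedImmersion ι ∧ ι ≫ CohB1.ProjSpace.toSpec n k = (X ↘ (Spec (CommRingCat.of k))))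
    (L₁ L₂ : X.Modules) (hL₁ : PicF.IsInvertible L₁) (hL₂ : PicF.IsInvertible L₂)
    (hnum : ∀ M : X.Modules, PicF.IsInvertible M →
      FGA.intNum k X 2 ![L₁, M] (Coh.structureModule X) = FGA.intNum k X 2 ![L₂, M] (Coh.structureModule X)) :
    Curv2.euler k X L₁ = Curv2.euler k X L₂ := by
  obtain ⟨n₀, ι, hι, hιk⟩ := hproj
  haveI := hι
  haveI : IsProper (X ↘ (Spec (CommRingCat.of k))) := isProper_of_closedImmersion ι hιk
  have hd : topologicalKrullDim X = ((2 : ℕ) : WithBot ℕ∞) := by simpa using hdim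
  have hH : CohB1.IsAmple ((Scheme.Modules.pullback ι).obj (Twist.twistProjSpace n₀ k 1)) :=
    isAmple_pullback_twistProjSpace ι
  obtain ⟨J, hJ, ⟨e⟩⟩ := M2.exists_inverse hL₂
  have hN := M2.isInvertible_tensor hL₁ hJ
  have h0 : ∀ M, PicF.IsInvertible M → dot k (CohB1.tensorMod L₁ J) M = 0 := fun M hM => by
    rw [dot_tensor hd.le hL₁ hJ hM, dot_inverse hd.le hL₂ hJ e hM, ← intNum2 hd.le hL₁ hM, ← intNum2 hd.le hL₂ hM,
      hnum M hM, add_neg_cancel]
  have h1 := euler_eq_of_numTriv (k := k) hd hH hN h0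
  have h2 := euler_tensor_eq (k := k) (CohB1.tensorMod L₁ J) L₂
  rw [CurveCoh17.euler_iso (M2.tensorAssoc _ _ _ ≪≫ M2.tensorIso (Iso.refl L₁) (M2.tensorComm J L₂ ≪≫ e) ≪≫
    M2.tensorRUnit L₁), h1, h0 L₂ hL₂, add_zero] at h2
  have h3 : (Curv2.euler k X L₁ : ℚ) = (Curv2.euler k X L₂ : ℚ) := by rw [h2]; ring
  exact_mod_cast h3

end Groth.Agent.S19073
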