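import Groth.Statements.S1908
import Groth.Agent.Lib.GrpdThick19.Fp

set_option autoImplicit false
universe u
open CategoryTheory CategoryTheory.Limits AlgebraicGeometry
open Grpd

namespace Groth.Agent.S1908

/-- Let (U, R, s, t, c) be a groupoid scheme over S (with identity e and inverse i, the groupoid axioms
holding on T-valued points for every S-scheme T) whose morphisms s, t : R → U are finite. Then there
are an open subscheme W ⊆ U and a closed subscheme W' ⊆ W with the same underlying set as W (so that
W is a thickening of W'), with inclusion ι' : W' → U, such that: W is R-invariant, that is s⁻¹W =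
t⁻¹W as opens of R; W' is R-invariant, expressed as an isomorphism s⁻¹(W') ≅ t⁻¹(W') between the
pullbacks of ι' along s and along t which is compatible with their projections to R;
set-theoretically U = t(s⁻¹(closure of W)), that is, every point of U is t(r) for some point r of R
with s(r) in the closure of W; and the base changes s⁻¹(W') → W' and t⁻¹(W') → W' of s and t along
ι' are finite locally free (finite, flat and locally of finite presentation). -/
theorem result (S : Scheme.{u}) (G : Grpd.GroupoidScheme S) [IsFinite G.s] [IsFinite G.t] : ∃ (W : G.U.Opens) (W' : (↑W : Scheme.{u}).IdealSheafData), G.s ⁻¹ᵁ W = G.t ⁻¹ᵁ W ∧ W'.support = ⊤ ∧ (∃ φ : pullback G.s (W'.subschemeι ≫ W.ι) ≅ pullback G.t (W'.subschemeι ≫ W.ι), φ.hom ≫ pullback.fst G.t (W'.subschemeι ≫ W.ι) = pullback.fst G.s (W'.subschemeι ≫ W.ι)) ∧ (∀ u : G.U, ∃ r : G.R, G.t r = u ∧ G.s r ∈ closure (W : Set G.U)) ∧ Mor2.IsFinLocFree (pullback.snd G.s (W'.subschemeι ≫ W.ι)) ∧ Mor2.IsFinLocFree (pullback.snd G.t (W'.subschemeι ≫ W.ι)) := by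
  obtain ⟨W', hW'⟩ := Groth.Agent.GrpdThick19.exists_isThick G (Groth.Agent.GrpdThick19.good_le G)
  exact ⟨_, W', Groth.Agent.GrpdThick19.good_invariant G, hW'.support_eq (Groth.Agent.GrpdThick19.good_le G),
    hW'.exists_iso (Groth.Agent.GrpdThick19.good_invariant G) (Groth.Agent.GrpdThick19.good_le G),
    Groth.Agent.GrpdThick19.exists_mem_closure G, hW'.isFinLocFree_s (Groth.Agent.GrpdThick19.good_le G),
    hW'.isFinLocFree_t (Groth.Agent.GrpdThick19.good_le G)⟩

end Groth.Agent.S1908
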