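import Groth.Statements.S19080
import Groth.Agent.Lib.Riemann22.PrincipalInv

set_option linter.style.haveILetI false
set_option backward.isDefEq.respectTransparency false
set_option backward.isDefEq.respectTransparency.types false
set_option maxHeartbeats 1000000
set_option autoImplicit false
universe u
open CategoryTheory CategoryTheory.Limits AlgebraicGeometry MonoidalCategory CartesianMonoidalCategory MonObj
open JacVar

namespace Groth.Agent.S19080

open Groth.Agent

/-- Let k be an algebraically closed field, C a smooth proper connected curve of genus g ≥ 1 over k, and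
(J, ψ) its Jacobian: a commutative group scheme over k, proper and smooth, which is a coarse moduli
scheme on all k-schemes for line bundles of degree 0 on C modulo twisting from the base, with group
law induced by the tensor product. Let N be an invertible O_C-module of degree g − 1 and Θ the theta
line bundle on J attached to N (an invertible module inverse to the ideal of the reduced closure of
the locus of classes ξ with H^0(ξ ⊗ N) ≠ 0 — a translate of the image W^{g−1} of the (g−1)-st
symmetric power of C, the source's theta divisor). Let M be an invertible O_J-module inverse to Θ (M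
⊗ Θ ≅ O_J). Then the g-fold self-intersection number of Θ on the g-dimensional J is (Θ^g) = g!
(intersection number taken as the alternating sum Σ_I (−1)^|I| χ(⊗_{i ∈ I} M) over subsets I of a
g-element index set, in g copies of the inverse M of Θ), and for every m ≥ 1 one has dim_k H^0(J,
Θ^m) = m^g (which is also χ(Θ^m), the higher cohomology of Θ^m vanishing). -/
theorem result (k : Type u) [Field k] [IsAlgClosed k]
    (C : Scheme.{u}) [C.Over (Spec (CommRingCat.of k))]
    [IsProper (C ↘ Spec (CommRingCat.of k))] [Smooth (C ↘ Spec (CommRingCat.of k))] [GeometricallyConnected (C ↘ Spec (CommRingCat.of k))]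
    (hdim : topologicalKrullDim ↥C = 1)
    (g : ℕ) (hg : Curv2.genus k C = g) (hg1 : 1 ≤ g)
    (J : Over (Spec (CommRingCat.of k))) [GrpObj J] [IsCommMonObj J] [IsProper J.hom] [Smooth J.hom]
    (ψ : (ModFun.PicDeg (C ↘ Spec (CommRingCat.of k)) 0).Hom ⊤ J) (hJ : Jac.IsJacobian (C ↘ Spec (CommRingCat.of k)) ⊤ J ψ)
    (N : C.Modules) (hN : PicF.IsInvertible N) (hNdeg : Curv2.deg k C N 1 = (g : ℤ) - 1)
    (ΘJ : J.left.Modules) (hΘJ : Jac.IsThetaLB (C ↘ Spec (CommRingCat.of k)) 0 ψ N ΘJ)
    (M : J.left.Modules) (hM : PicF.IsInvertible M) (hMΘ : ClSub.IsInverseOf M ΘJ) :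
    letI : J.left.Over (Spec (CommRingCat.of k)) := ⟨J.hom⟩
    FGA.intNum k J.left g (fun _ : Fin g => M) (Coh.structureModule J.left) = (Nat.factorial g : ℤ) ∧
      ∀ m : ℕ, 1 ≤ m → Module.finrank k (Coh.HH J.left (CohB1.tensorPow ΘJ m) 0) = m ^ g := by
  letI : J.left.Over (Spec (CommRingCat.of k)) := ⟨J.hom⟩
  exact ⟨Riemann22.theta_intNum hdim g hg hg1 hJ N hN hNdeg ΘJ hΘJ M hM hMΘ,
    fun m hm => (Riemann22.theta_pow hdim g hg hg1 hJ N hN hNdeg ΘJ hΘJ m hm).2.2⟩

end Groth.Agent.S19080
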