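import Groth.Statements.S19084
-- import your own Groth.Agent.* helpers here
import Groth.Agent.Lib.SymSq10.Main

set_option linter.style.haveILetI false
set_option backward.isDefEq.respectTransparency false
set_option backward.isDefEq.respectTransparency.types false


set_option autoImplicit false
universe u
open CategoryTheory CategoryTheory.Limits AlgebraicGeometry Opposite
open SymSq

namespace Groth.Agent.S19084

open Groth.Agent.HypSq10 (isIntegral_curve sq_eq_id euler_eq_chi finrank_eq_hh subsingleton_of_van)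
open Groth.Agent.SymSq10

noncomputable local instance instLawS19084 (Y : Scheme.{u}) : PicGrp.Law Y := M2.law Y

attribute [local instance] HypSq10.overSq

/-- Let k be an algebraically closed field of characteristic ≠ 2 and C a hyperelliptic curve of genus g
≥ 2 over k: C ⟶ Spec k proper and smooth, C connected of dimension one with dim_k H^1(C, O_C) = g,
with a double cover κ : C ⟶ P^1_k over k (finite, flat, of rank 2 everywhere) and hyperelliptic
involution σ (σ ≫ κ = κ, σ ≠ id). On X = C ×_k C let L = κ^*O(1), F_m = p_1^*L^m ⊗ p_2^*L^m and N an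
invertible O_X-module inverse to the ideal sheaf of the graph Γ_σ = (id, σ) : C ⟶ X. Let S = Sym²(C)
be the symmetric square: π : X ⟶ S is a quotient (affine, invariant, sections of S = invariant
sections) for the action of the symmetric group on two letters in which the transposition acts by
the swap of the two factors, and q : S ⟶ Spec k its structure morphism with π over Spec k. If M is
an invertible O_S-module with π^*M ≅ F_m (the divisor class 2mΘ_S, Θ_S the image of a fibre {x} × C)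
and m ≥ g, then dim_k H^0(S, M) is the binomial coefficient C(2m − γ + 1, 2), γ = g − 1; stated as 2
· dim_k H^0(S, M) = (2m − γ + 1)(2m − γ). -/
theorem result (k : Type u) [Field k] [IsAlgClosed k] (h2 : (2 : k) ≠ 0)
    (C : Scheme.{u}) [C.Over (Spec (CommRingCat.of k))] [IsProper (C ↘ Spec (CommRingCat.of k))] [Smooth (C ↘ Spec (CommRingCat.of k))] [ConnectedSpace ↥C]
    (hdim : topologicalKrullDim ↥C = 1) (g : ℕ) (hg : 2 ≤ g) (hgen : Curv2.genus k C = g)
    (κ : C ⟶ CohB1.ProjSpace 1 k) (hκ : κ ≫ CohB1.ProjSpace.toSpec 1 k = (C ↘ Spec (CommRingCat.of k)))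
    [IsFinite κ] [Flat κ] (hκ2 : ∀ y : ↥(CohB1.ProjSpace 1 k), κ.finrank y = 2)
    (σ : C ⟶ C) (hσ : σ ≫ κ = κ) (hσ1 : σ ≠ 𝟙 C) (hσp : σ ≫ (C ↘ Spec (CommRingCat.of k)) = (C ↘ Spec (CommRingCat.of k)))
    (N : (pullback (C ↘ Spec (CommRingCat.of k)) (C ↘ Spec (CommRingCat.of k))).Modules) (hN : PicF.IsInvertible N)
    (hNinv : ClSub.IsInverseOf N (ClSub.idealMod (pullback.lift (𝟙 C) σ ((Category.id_comp (C ↘ Spec (CommRingCat.of k))).trans hσp.symm)).ker))
    (ρ : ULift.{u} (Equiv.Perm (Fin 2)) →* Aut (pullback (C ↘ Spec (CommRingCat.of k)) (C ↘ Spec (CommRingCat.of k)))) (hρ : (ρ (ULift.up (Equiv.swap 0 1))).hom = (pullbackSymmetry (C ↘ Spec (CommRingCat.of k)) (C ↘ Spec (CommRingCat.of k))).hom)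
    (Sq : Scheme.{u}) (π : (pullback (C ↘ Spec (CommRingCat.of k)) (C ↘ Spec (CommRingCat.of k))) ⟶ Sq) (hπ : SGA1.IsQuot ρ π) (q : Sq ⟶ Spec (CommRingCat.of k)) (hq : π ≫ q = pullback.fst (C ↘ Spec (CommRingCat.of k)) (C ↘ Spec (CommRingCat.of k)) ≫ (C ↘ Spec (CommRingCat.of k)))
    (M : Sq.Modules) (hM : PicF.IsInvertible M) (m : ℕ) (hm : g ≤ m)
    (hMpull : Nonempty ((Scheme.Modules.pullback π).obj M ≅ (CohB1.tensorMod ((Scheme.Modules.pullback (pullback.fst (C ↘ Spec (CommRingCat.of k)) (C ↘ Spec (CommRingCat.of k)))).obj (CohB1.tensorPow ((Scheme.Modules.pullback κ).obj (Twist.twistProjSpace 1 k 1)) m)) ((Scheme.Modules.pullback (pullback.snd (C ↘ Spec (CommRingCat.of k)) (C ↘ Spec (CommRingCat.of k)))).obj (CohB1.tensorPow ((Scheme.Modules.pullback κ).obj (Twist.twistProjSpace 1 k 1)) m))))) :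
    letI : Sq.Over (Spec (CommRingCat.of k)) := ⟨q⟩
    2 * (Module.finrank k (Coh.HH Sq M 0) : ℤ) = (2 * (m : ℤ) - ((g : ℤ) - 1) + 1) * (2 * (m : ℤ) - ((g : ℤ) - 1)) := by
  haveI := isIntegral_curve k C
  have hσσ := sq_eq_id hdim h2 (hgen ▸ hg) κ hκ hκ2 σ hσ hσ1 hσp
  subst hgen
  letI : Sq.Over (Spec (CommRingCat.of k)) := ⟨q⟩
  have hS := SymSq10.isSymSq h2 hdim hρ hπ hq
  haveI := hS.proper
  have hc : Abel10.pc π (PicGrp.cls M hM) = HypSq10.Fm κ m := ((PicGrp.pullHom_cls π _ M hM).trans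
    ((PicGrp.cls_eq_cls_iff _ (HypSq10.inv_Fm κ m)).2 hMpull)).trans (HypSq10.cls_Fm κ m)
  have h4 := four_mul_chi hS hdim κ hκ hκ2 hg σ hσ hσp hσσ hN hNinv (PicGrp.cls M hM)
  have hv : ∀ n, 0 < n → HypSq10.Van n (PicGrp.cls M hM) := fun n hn => by
    refine (van_of_pullback_van hS hdim ?_).1
    rw [hc]
    exact HypSq10.van_Fm hdim κ hκ hκ2 hg m hm hn
  have hX := HypSq10.chi_FN hdim κ hκ hκ2 hg σ hσ hσp hσσ hN hNinv m 0
  rw [pow_zero, mul_one] at hX
  rw [hc, hX, HypSq10.Fm, deg_diag_box hS hdim,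
    HypSq10.deg_pow hdim, HypSq10.deg_lc hdim κ hκ hκ2, chi_eq_hh2 hS.dim,
    HypSq10.hh_of_van (hv 1 one_pos), HypSq10.hh_of_van (hv 2 two_pos)] at h4
  rw [finrank_eq_hh hM 0]
  push_cast at h4 ⊢
  linarith

end Groth.Agent.S19084
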