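import Groth.Statements.S19087
-- import your own Groth.Agent.* helpers here
import Groth.Agent.Lib.SymSq10.Main

set_option linter.style.haveILetI false
set_option backward.isDefEq.respectTransparency false
set_option backward.isDefEq.respectTransparency.types false


set_option autoImplicit false
universe u
open CategoryTheory CategoryTheory.Limits AlgebraicGeometry Opposite
open SymSq

namespace Groth.Agent.S19087

open Groth.Agent.HypSq10 (isIntegral_curve sq_eq_id euler_eq_chi finrank_eq_hh subsingleton_of_van)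
open Groth.Agent.SymSq10

noncomputable local instance instLawS19087 (Y : Scheme.{u}) : PicGrp.Law Y := M2.law Y

attribute [local instance] HypSq10.overSq

/-- Let k be an algebraically closed field of characteristic ≠ 2 and C a hyperelliptic curve of genus g
≥ 2 over k: C ⟶ Spec k proper and smooth, C connected of dimension one with dim_k H^1(C, O_C) = g,
with a double cover κ : C ⟶ P^1_k over k (finite, flat, of rank 2 everywhere) and hyperelliptic
involution σ (σ ≫ κ = κ, σ ≠ id). On X = C ×_k C let L = κ^*O(1), F_m = p_1^*L^m ⊗ p_2^*L^m and N an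
invertible O_X-module inverse to the ideal sheaf of the graph Γ_σ = (id, σ) : C ⟶ X. Let S = Sym²(C)
be the symmetric square: π : X ⟶ S is a quotient (affine, invariant, sections of S = invariant
sections) for the action of the symmetric group on two letters in which the transposition acts by
the swap of the two factors, and q : S ⟶ Spec k its structure morphism with π over Spec k; let x :
Spec k ⟶ C be a k-point and A = O_C(x) an invertible O_C-module inverse to the ideal sheaf of x. If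
M is an invertible O_S-module with π^*M ≅ p_1^*A^m ⊗ p_2^*A^m ⊗ N^r (the divisor class mΘ_S + r∇_S
with Θ_S the image of {x} × C), then 2 χ(S, M) = (m − γ)(m − γ + 1) + 2 r (m + 1) − γ r (r + 1), γ =
g − 1. -/
theorem result (k : Type u) [Field k] [IsAlgClosed k] (h2 : (2 : k) ≠ 0)
    (C : Scheme.{u}) [C.Over (Spec (CommRingCat.of k))] [IsProper (C ↘ Spec (CommRingCat.of k))] [Smooth (C ↘ Spec (CommRingCat.of k))] [ConnectedSpace ↥C]
    (hdim : topologicalKrullDim ↥C = 1) (g : ℕ) (hg : 2 ≤ g) (hgen : Curv2.genus k C = g)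
    (κ : C ⟶ CohB1.ProjSpace 1 k) (hκ : κ ≫ CohB1.ProjSpace.toSpec 1 k = (C ↘ Spec (CommRingCat.of k)))
    [IsFinite κ] [Flat κ] (hκ2 : ∀ y : ↥(CohB1.ProjSpace 1 k), κ.finrank y = 2)
    (σ : C ⟶ C) (hσ : σ ≫ κ = κ) (hσ1 : σ ≠ 𝟙 C) (hσp : σ ≫ (C ↘ Spec (CommRingCat.of k)) = (C ↘ Spec (CommRingCat.of k)))
    (N : (pullback (C ↘ Spec (CommRingCat.of k)) (C ↘ Spec (CommRingCat.of k))).Modules) (hN : PicF.IsInvertible N)
    (hNinv : ClSub.IsInverseOf N (ClSub.idealMod (pullback.lift (𝟙 C) σ ((Category.id_comp (C ↘ Spec (CommRingCat.of k))).trans hσp.symm)).ker))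
    (x : Spec (CommRingCat.of k) ⟶ C) (hx : x ≫ (C ↘ Spec (CommRingCat.of k)) = 𝟙 (Spec (CommRingCat.of k)))
    (A : C.Modules) (hA : PicF.IsInvertible A) (hAinv : ClSub.IsInverseOf A (ClSub.idealMod x.ker))
    (ρ : ULift.{u} (Equiv.Perm (Fin 2)) →* Aut (pullback (C ↘ Spec (CommRingCat.of k)) (C ↘ Spec (CommRingCat.of k)))) (hρ : (ρ (ULift.up (Equiv.swap 0 1))).hom = (pullbackSymmetry (C ↘ Spec (CommRingCat.of k)) (C ↘ Spec (CommRingCat.of k))).hom)
    (Sq : Scheme.{u}) (π : (pullback (C ↘ Spec (CommRingCat.of k)) (C ↘ Spec (CommRingCat.of k))) ⟶ Sq) (hπ : SGA1.IsQuot ρ π) (q : Sq ⟶ Spec (CommRingCat.of k)) (hq : π ≫ q = pullback.fst (C ↘ Spec (CommRingCat.of k)) (C ↘ Spec (CommRingCat.of k)) ≫ (C ↘ Spec (CommRingCat.of k)))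
    (M : Sq.Modules) (hM : PicF.IsInvertible M) (m r : ℕ)
    (hMpull : Nonempty ((Scheme.Modules.pullback π).obj M ≅ CohB1.tensorMod (CohB1.tensorMod ((Scheme.Modules.pullback (pullback.fst (C ↘ Spec (CommRingCat.of k)) (C ↘ Spec (CommRingCat.of k)))).obj (CohB1.tensorPow A m)) ((Scheme.Modules.pullback (pullback.snd (C ↘ Spec (CommRingCat.of k)) (C ↘ Spec (CommRingCat.of k)))).obj (CohB1.tensorPow A m))) (CohB1.tensorPow N r))) :
    letI : Sq.Over (Spec (CommRingCat.of k)) := ⟨q⟩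
    2 * Curv2.euler k Sq M = ((m : ℤ) - ((g : ℤ) - 1)) * ((m : ℤ) - ((g : ℤ) - 1) + 1) + 2 * (r : ℤ) * (m + 1) - ((g : ℤ) - 1) * r * (r + 1) := by
  haveI := isIntegral_curve k C
  have hσσ := sq_eq_id hdim h2 (hgen ▸ hg) κ hκ hκ2 σ hσ hσ1 hσp
  subst hgen
  letI : Sq.Over (Spec (CommRingCat.of k)) := ⟨q⟩
  have hS := SymSq10.isSymSq h2 hdim hρ hπ hq
  haveI := hS.proper
  have hdA : HypSq10.deg k (PicGrp.cls A hA) = 1 := by
    have hI := Abel10.isInvertible_point (k := k) hdim x hx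
    have h := (PicGrp.cls_mul_cls_eq_one_iff hA hI).2 hAinv
    have h' := congrArg (HypSq10.deg k) h
    rw [HypSq10.deg_mul hdim, HypSq10.deg_one (k := k) hdim, ← HypSq10.deg_eq hI, Abel10.deg_point hdim x hx] at h'
    omega
  have hc : Abel10.pc π (PicGrp.cls M hM) = Abel10.pc (pullback.fst _ _) (PicGrp.cls A hA ^ m) *
      Abel10.pc (pullback.snd _ _) (PicGrp.cls A hA ^ m) * PicGrp.cls N hN ^ r := ((PicGrp.pullHom_cls π _ M hM).trans
    ((PicGrp.cls_eq_cls_iff _ (HypSq10.inv_boxN hA hA hN m m r)).2 hMpull)).trans (HypSq10.cls_boxN hA hA hN m m r)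
  have h4 := four_mul_chi hS hdim κ hκ hκ2 hg σ hσ hσp hσσ hN hNinv (PicGrp.cls M hM)
  rw [hc,
    HypSq10.chi_box_gr κ hdim hκ hκ2 hg σ hσ hσp hσσ hN hNinv,
    deg_diag_boxN hS hdim κ hκ hκ2 hg σ hσ hσp hσσ hN hNinv hσ1, HypSq10.deg_pow hdim, hdA] at h4
  rw [euler_eq_chi hM]
  linarith

end Groth.Agent.S19087
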