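import Groth.Statements.S19088
-- import your own Groth.Agent.* helpers here
import Groth.Agent.Lib.SymSq10.Main

set_option linter.style.haveILetI false
set_option backward.isDefEq.respectTransparency false
set_option backward.isDefEq.respectTransparency.types false


set_option autoImplicit false
universe u
open CategoryTheory CategoryTheory.Limits AlgebraicGeometry Opposite
open SymSq

namespace Groth.Agent.S19088

open Groth.Agent.HypSq10 (isIntegral_curve sq_eq_id euler_eq_chi finrank_eq_hh subsingleton_of_van)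
open Groth.Agent.SymSq10

noncomputable local instance instLawS19088 (Y : Scheme.{u}) : PicGrp.Law Y := M2.law Y

attribute [local instance] HypSq10.overSq

/-- Let k be an algebraically closed field of characteristic ≠ 2 and C a hyperelliptic curve of genus g
≥ 2 over k: C ⟶ Spec k proper and smooth, C connected of dimension one with dim_k H^1(C, O_C) = g,
with a double cover κ : C ⟶ P^1_k over k (finite, flat, of rank 2 everywhere) and hyperelliptic
involution σ (σ ≫ κ = κ, σ ≠ id). On X = C ×_k C let L = κ^*O(1), F_m = p_1^*L^m ⊗ p_2^*L^m and N an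
invertible O_X-module inverse to the ideal sheaf of the graph Γ_σ = (id, σ) : C ⟶ X. Let S = Sym²(C)
be the symmetric square: π : X ⟶ S is a quotient (affine, invariant, sections of S = invariant
sections) for the action of the symmetric group on two letters in which the transposition acts by
the swap of the two factors, and q : S ⟶ Spec k its structure morphism with π over Spec k; let N_Δ
be an invertible module on X inverse to the ideal sheaf of the diagonal, x : Spec k ⟶ C a k-point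
with A = O_C(x), and MΘ, MΔ, M∇ invertible O_S-modules with π^*MΘ ≅ p_1^*A ⊗ p_2^*A, π^*MΔ ≅ N_Δ ⊗
N_Δ and π^*M∇ ≅ N (the classes Θ_S = π({x} × C), Δ_S = π(Δ) with π^*Δ_S = 2Δ, and ∇_S = π(Γ_σ)).
Then (Θ_S·Θ_S) = 1, (Θ_S·Δ_S) = 2, (Θ_S·∇_S) = 1, (Δ_S·Δ_S) = 4 − 4g, (∇_S·∇_S) = 1 − g and
(Δ_S·∇_S) = 2g + 2, intersection numbers being (M·M') = χ(O_S) − χ(M) − χ(M') + χ(M ⊗ M'). -/
theorem result (k : Type u) [Field k] [IsAlgClosed k] (h2 : (2 : k) ≠ 0)
    (C : Scheme.{u}) [C.Over (Spec (CommRingCat.of k))] [IsProper (C ↘ Spec (CommRingCat.of k))] [Smooth (C ↘ Spec (CommRingCat.of k))] [ConnectedSpace ↥C]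
    (hdim : topologicalKrullDim ↥C = 1) (g : ℕ) (hg : 2 ≤ g) (hgen : Curv2.genus k C = g)
    (κ : C ⟶ CohB1.ProjSpace 1 k) (hκ : κ ≫ CohB1.ProjSpace.toSpec 1 k = (C ↘ Spec (CommRingCat.of k)))
    [IsFinite κ] [Flat κ] (hκ2 : ∀ y : ↥(CohB1.ProjSpace 1 k), κ.finrank y = 2)
    (σ : C ⟶ C) (hσ : σ ≫ κ = κ) (hσ1 : σ ≠ 𝟙 C) (hσp : σ ≫ (C ↘ Spec (CommRingCat.of k)) = (C ↘ Spec (CommRingCat.of k)))
    (N : (pullback (C ↘ Spec (CommRingCat.of k)) (C ↘ Spec (CommRingCat.of k))).Modules) (hN : PicF.IsInvertible N)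
    (hNinv : ClSub.IsInverseOf N (ClSub.idealMod (pullback.lift (𝟙 C) σ ((Category.id_comp (C ↘ Spec (CommRingCat.of k))).trans hσp.symm)).ker))
    (ND : (pullback (C ↘ Spec (CommRingCat.of k)) (C ↘ Spec (CommRingCat.of k))).Modules) (hND : PicF.IsInvertible ND)
    (hNDinv : ClSub.IsInverseOf ND (ClSub.idealMod (pullback.diagonal (C ↘ Spec (CommRingCat.of k))).ker))
    (x : Spec (CommRingCat.of k) ⟶ C) (hx : x ≫ (C ↘ Spec (CommRingCat.of k)) = 𝟙 (Spec (CommRingCat.of k)))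
    (A : C.Modules) (hA : PicF.IsInvertible A) (hAinv : ClSub.IsInverseOf A (ClSub.idealMod x.ker))
    (ρ : ULift.{u} (Equiv.Perm (Fin 2)) →* Aut (pullback (C ↘ Spec (CommRingCat.of k)) (C ↘ Spec (CommRingCat.of k)))) (hρ : (ρ (ULift.up (Equiv.swap 0 1))).hom = (pullbackSymmetry (C ↘ Spec (CommRingCat.of k)) (C ↘ Spec (CommRingCat.of k))).hom)
    (Sq : Scheme.{u}) (π : (pullback (C ↘ Spec (CommRingCat.of k)) (C ↘ Spec (CommRingCat.of k))) ⟶ Sq) (hπ : SGA1.IsQuot ρ π) (q : Sq ⟶ Spec (CommRingCat.of k)) (hq : π ≫ q = pullback.fst (C ↘ Spec (CommRingCat.of k)) (C ↘ Spec (CommRingCat.of k)) ≫ (C ↘ Spec (CommRingCat.of k)))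
    (MΘ MΔ MV : Sq.Modules) (hMΘ : PicF.IsInvertible MΘ) (hMΔ : PicF.IsInvertible MΔ) (hMV : PicF.IsInvertible MV)
    (hΘ : Nonempty ((Scheme.Modules.pullback π).obj MΘ ≅ CohB1.tensorMod ((Scheme.Modules.pullback (pullback.fst (C ↘ Spec (CommRingCat.of k)) (C ↘ Spec (CommRingCat.of k)))).obj A) ((Scheme.Modules.pullback (pullback.snd (C ↘ Spec (CommRingCat.of k)) (C ↘ Spec (CommRingCat.of k)))).obj A)))
    (hΔ : Nonempty ((Scheme.Modules.pullback π).obj MΔ ≅ CohB1.tensorMod ND ND))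
    (hV : Nonempty ((Scheme.Modules.pullback π).obj MV ≅ N)) :
    letI : Sq.Over (Spec (CommRingCat.of k)) := ⟨q⟩
    FGA.intNum k Sq 2 ![MΘ, MΘ] (Coh.structureModule Sq) = 1 ∧ FGA.intNum k Sq 2 ![MΘ, MΔ] (Coh.structureModule Sq) = 2 ∧ FGA.intNum k Sq 2 ![MΘ, MV] (Coh.structureModule Sq) = 1 ∧
      FGA.intNum k Sq 2 ![MΔ, MΔ] (Coh.structureModule Sq) = 4 - 4 * (g : ℤ) ∧ FGA.intNum k Sq 2 ![MV, MV] (Coh.structureModule Sq) = 1 - (g : ℤ) ∧
      FGA.intNum k Sq 2 ![MΔ, MV] (Coh.structureModule Sq) = 2 * (g : ℤ) + 2 := by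
  haveI := isIntegral_curve k C
  have hσσ := sq_eq_id hdim h2 (hgen ▸ hg) κ hκ hκ2 σ hσ hσ1 hσp
  subst hgen
  letI : Sq.Over (Spec (CommRingCat.of k)) := ⟨q⟩
  have hS := SymSq10.isSymSq h2 hdim hρ hπ hq
  haveI := hS.proper
  have hdA : HypSq10.deg k (PicGrp.cls A hA) = 1 := by
    have hI := Abel10.isInvertible_point (k := k) hdim x hx
    have h := (PicGrp.cls_mul_cls_eq_one_iff hA hI).2 hAinv
    have h' := congrArg (HypSq10.deg k) h
    rw [HypSq10.deg_mul hdim, HypSq10.deg_one (k := k) hdim, ← HypSq10.deg_eq hI, Abel10.deg_point hdim x hx] at h'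
    omega
  have h1 := PicLoc.isInvertible_pullback (pullback.fst (C ↘ Spec (CommRingCat.of k)) (C ↘ Spec (CommRingCat.of k))) hA
  have h2' := PicLoc.isInvertible_pullback (pullback.snd (C ↘ Spec (CommRingCat.of k)) (C ↘ Spec (CommRingCat.of k))) hA
  set a := PicGrp.cls A hA with ha
  set t := Abel10.pc (pullback.fst (C ↘ Spec (CommRingCat.of k)) (C ↘ Spec (CommRingCat.of k))) a *
    Abel10.pc (pullback.snd (C ↘ Spec (CommRingCat.of k)) (C ↘ Spec (CommRingCat.of k))) a with ht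
  have cΘ : Abel10.pc π (PicGrp.cls MΘ hMΘ) = t :=
    ((PicGrp.pullHom_cls π _ MΘ hMΘ).trans ((PicGrp.cls_eq_cls_iff _ (M2.isInvertible_tensor h1 h2')).2 hΘ)).trans
      ((AlgEquiv22.cls_tensor h1 h2').symm.trans
        (congrArg₂ (· * ·) (PicGrp.pullHom_cls _ _ _ _).symm (PicGrp.pullHom_cls _ _ _ _).symm))
  have cΔ : Abel10.pc π (PicGrp.cls MΔ hMΔ) = PicGrp.cls ND hND * PicGrp.cls ND hND :=
    ((PicGrp.pullHom_cls π _ MΔ hMΔ).trans ((PicGrp.cls_eq_cls_iff _ (M2.isInvertible_tensor hND hND)).2 hΔ)).trans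
      (AlgEquiv22.cls_tensor hND hND).symm
  have cV : Abel10.pc π (PicGrp.cls MV hMV) = PicGrp.cls N hN :=
    (PicGrp.pullHom_cls π _ MV hMV).trans ((PicGrp.cls_eq_cls_iff _ hN).2 hV)
  have key := fun u v => sdot_pc hS hdim u v
  have tt : HypSq10.dot (k := k) t t = 2 := by
    have e : t * t = Abel10.pc (pullback.fst (C ↘ Spec (CommRingCat.of k)) (C ↘ Spec (CommRingCat.of k))) (a * a) *
        Abel10.pc (pullback.snd (C ↘ Spec (CommRingCat.of k)) (C ↘ Spec (CommRingCat.of k))) (a * a) := by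
      rw [ht, map_mul, map_mul, mul_mul_mul_comm]
    have x2 := HypSq10.chi_box_gr κ hdim hκ hκ2 hg σ hσ hσp hσσ hN hNinv (a * a) (a * a) 0
    have x1 := HypSq10.chi_box_gr κ hdim hκ hκ2 hg σ hσ hσp hσσ hN hNinv a a 0
    have x0 := HypSq10.chi_box_gr κ hdim hκ hκ2 hg σ hσ hσp hσσ hN hNinv 1 1 0
    simp only [pow_zero, mul_one, map_one, one_mul, HypSq10.deg_mul hdim, HypSq10.deg_one (k := k) hdim, hdA]
      at x2 x1 x0
    rw [HypSq10.dot, e, x2, ← ht] at *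
    rw [x1, x0]
    push_cast
    ring
  have dt : HypSq10.dot (k := k) (PicGrp.cls ND hND) t = 2 := by
    rw [HypSq10.dot_diag κ hdim hκ hκ2 hg hND hNDinv, ht, deg_diag_box hS hdim, hdA]; norm_num
  have nt : HypSq10.dot (k := k) (PicGrp.cls N hN) t = 2 := by
    rw [HypSq10.dot_gr κ hdim hκ hκ2 hg σ hσ hσp hσσ hN hNinv, ht,
      HypSq10.deg_gr_box κ hdim hκ hκ2 hg σ hσ hσp hσσ, hdA]; norm_num
  have dd := HypSq10.dot_diag_diag κ hdim hκ hκ2 hg hND hNDinv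
  have nn := HypSq10.dot_gr_gr κ hdim hκ hκ2 hg σ hσ hσp hσσ hN hNinv
  have nd := HypSq10.dot_gr_diag κ hdim hκ hκ2 hg hND hNDinv σ hσ hσp hσσ hN hNinv hσ1
  refine ⟨?_, ?_, ?_, ?_, ?_, ?_⟩
  · rw [intNum_eq' hS.dim hMΘ hMΘ]
    have h := key (PicGrp.cls MΘ hMΘ) (PicGrp.cls MΘ hMΘ)
    rw [cΘ, tt] at h
    omega
  · rw [intNum_eq' hS.dim hMΘ hMΔ]
    have h := key (PicGrp.cls MΘ hMΘ) (PicGrp.cls MΔ hMΔ)
    rw [cΘ, cΔ, HypSq10.dot_comm, HypSq10.dot_mul hdim, dt] at h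
    omega
  · rw [intNum_eq' hS.dim hMΘ hMV]
    have h := key (PicGrp.cls MΘ hMΘ) (PicGrp.cls MV hMV)
    rw [cΘ, cV, HypSq10.dot_comm, nt] at h
    omega
  · rw [intNum_eq' hS.dim hMΔ hMΔ]
    have h := key (PicGrp.cls MΔ hMΔ) (PicGrp.cls MΔ hMΔ)
    rw [cΔ, HypSq10.dot_mul hdim, HypSq10.dot_comm, HypSq10.dot_mul hdim, dd] at h
    omega
  · rw [intNum_eq' hS.dim hMV hMV]
    have h := key (PicGrp.cls MV hMV) (PicGrp.cls MV hMV)
    rw [cV, nn] at h
    omega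
  · rw [intNum_eq' hS.dim hMΔ hMV]
    have h := key (PicGrp.cls MΔ hMΔ) (PicGrp.cls MV hMV)
    rw [cΔ, cV, HypSq10.dot_mul hdim, HypSq10.dot_comm, nd] at h
    omega

end Groth.Agent.S19088
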