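import Groth.Statements.S1909
import Groth.Agent.Lib.GrpdThick19.Fp

set_option autoImplicit false
universe u
open CategoryTheory CategoryTheory.Limits AlgebraicGeometry
open Grpd

namespace Groth.Agent.S1909

/-- Let (U, R, s, t, c) be a groupoid scheme over S with s and t finite and locally of finite
presentation. Then there are an R-invariant open W ⊆ U (s⁻¹(W) = t⁻¹(W)) and an R-invariant closed
subscheme W' ⊆ W with the same underlying set (so W is a thickening of W') such that U =
t(s⁻¹(closure of W)) set-theoretically, the restrictions of s and t to W' are finite locally free,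
the closed immersion W' → W is locally of finite presentation, and W contains every point u of U all
of whose R-translates (the points t(r) for r ∈ R with s(r) = u) are generic points of irreducible
components of U. Here ι' : W' → U is the inclusion; R-invariance of W' is expressed as an
isomorphism s⁻¹(W') ≅ t⁻¹(W') of the two pullbacks along ι' compatible with the projections to R,
and the restricted source and target maps are the base changes of s and t along ι'. (A groupoid
scheme carries U, R, s, t, c, e, i over S with the groupoid axioms on T-points; 'finite locally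
free' is finite, flat and locally of finite presentation.) -/
theorem result (S : Scheme.{u}) (G : Grpd.GroupoidScheme S) [IsFinite G.s] [IsFinite G.t] [LocallyOfFinitePresentation G.s] [LocallyOfFinitePresentation G.t] : ∃ (W : G.U.Opens) (W' : (↑W : Scheme.{u}).IdealSheafData), G.s ⁻¹ᵁ W = G.t ⁻¹ᵁ W ∧ W'.support = ⊤ ∧ (∃ φ : pullback G.s (W'.subschemeι ≫ W.ι) ≅ pullback G.t (W'.subschemeι ≫ W.ι), φ.hom ≫ pullback.fst G.t (W'.subschemeι ≫ W.ι) = pullback.fst G.s (W'.subschemeι ≫ W.ι)) ∧ (∀ u : G.U, ∃ r : G.R, G.t r = u ∧ G.s r ∈ closure (W : Set G.U)) ∧ Mor2.IsFinLocFree (pullback.snd G.s (W'.subschemeι ≫ W.ι)) ∧ Mor2.IsFinLocFree (pullback.snd G.t (W'.subschemeι ≫ W.ι)) ∧ LocallyOfFinitePresentation W'.subschemeι ∧ ∀ u : G.U, (∀ r : G.R, G.s r = u → ∀ x : G.U, x ⤳ G.t r → x = G.t r) → u ∈ W := by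
  obtain ⟨W', hW'⟩ := Groth.Agent.GrpdThick19.exists_isThick G (Groth.Agent.GrpdThick19.good_le G)
  exact ⟨_, W', Groth.Agent.GrpdThick19.good_invariant G, hW'.support_eq (Groth.Agent.GrpdThick19.good_le G),
    hW'.exists_iso (Groth.Agent.GrpdThick19.good_invariant G) (Groth.Agent.GrpdThick19.good_le G),
    Groth.Agent.GrpdThick19.exists_mem_closure G, hW'.isFinLocFree_s (Groth.Agent.GrpdThick19.good_le G),
    hW'.isFinLocFree_t (Groth.Agent.GrpdThick19.good_le G),
    hW'.locallyOfFinitePresentation (Groth.Agent.GrpdThick19.good_le G),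
    fun u hu => Groth.Agent.GrpdThick19.mem_good G hu⟩

end Groth.Agent.S1909
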