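import Groth.Statements.S19091
-- import your own Groth.Agent.* helpers here
import Groth.Agent.Lib.SymSq10.Inj

set_option linter.style.haveILetI false
set_option backward.isDefEq.respectTransparency false
set_option backward.isDefEq.respectTransparency.types false


set_option autoImplicit false
universe u
open CategoryTheory CategoryTheory.Limits AlgebraicGeometry Opposite
open SymSq

namespace Groth.Agent.S19091

open Groth.Agent.HypSq10 (isIntegral_curve sq_eq_id euler_eq_chi finrank_eq_hh subsingleton_of_van)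
open Groth.Agent.SymSq10

noncomputable local instance instLawS19091 (Y : Scheme.{u}) : PicGrp.Law Y := M2.law Y

attribute [local instance] HypSq10.overSq

/-- Let k be an algebraically closed field of characteristic ≠ 2 and C a hyperelliptic curve of genus g
≥ 2 over k: C ⟶ Spec k proper and smooth, C connected of dimension one with dim_k H^1(C, O_C) = g,
with a double cover κ : C ⟶ P^1_k over k (finite, flat, of rank 2 everywhere) and hyperelliptic
involution σ (σ ≫ κ = κ, σ ≠ id). On X = C ×_k C let L = κ^*O(1), F_m = p_1^*L^m ⊗ p_2^*L^m and N an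
invertible O_X-module inverse to the ideal sheaf of the graph Γ_σ = (id, σ) : C ⟶ X. Let S = Sym²(C)
be the symmetric square: π : X ⟶ S is a quotient (affine, invariant, sections of S = invariant
sections) for the action of the symmetric group on two letters in which the transposition acts by
the swap of the two factors, and q : S ⟶ Spec k its structure morphism with π over Spec k; let N_Δ
be an invertible module on X inverse to the ideal sheaf of the diagonal, x : Spec k ⟶ C a k-point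
with A = O_C(x), and MΘ, MΔ, M∇ invertible O_S-modules with π^*MΘ ≅ p_1^*A ⊗ p_2^*A, π^*MΔ ≅ N_Δ ⊗
N_Δ and π^*M∇ ≅ N (the classes Θ_S = π({x} × C), Δ_S = π(Δ) with π^*Δ_S = 2Δ, and ∇_S = π(Γ_σ)).
Assume moreover that x is a Weierstrass point: σ fixes x. Then 4Θ_S ~ Δ_S + 2∇_S in Pic S: MΘ^4 ≅ MΔ
⊗ M∇^2 (existence of an isomorphism). -/
theorem result (k : Type u) [Field k] [IsAlgClosed k] (h2 : (2 : k) ≠ 0)
    (C : Scheme.{u}) [C.Over (Spec (CommRingCat.of k))] [IsProper (C ↘ Spec (CommRingCat.of k))] [Smooth (C ↘ Spec (CommRingCat.of k))] [ConnectedSpace ↥C]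
    (hdim : topologicalKrullDim ↥C = 1) (g : ℕ) (hg : 2 ≤ g) (hgen : Curv2.genus k C = g)
    (κ : C ⟶ CohB1.ProjSpace 1 k) (hκ : κ ≫ CohB1.ProjSpace.toSpec 1 k = (C ↘ Spec (CommRingCat.of k)))
    [IsFinite κ] [Flat κ] (hκ2 : ∀ y : ↥(CohB1.ProjSpace 1 k), κ.finrank y = 2)
    (σ : C ⟶ C) (hσ : σ ≫ κ = κ) (hσ1 : σ ≠ 𝟙 C) (hσp : σ ≫ (C ↘ Spec (CommRingCat.of k)) = (C ↘ Spec (CommRingCat.of k)))
    (N : (pullback (C ↘ Spec (CommRingCat.of k)) (C ↘ Spec (CommRingCat.of k))).Modules) (hN : PicF.IsInvertible N)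
    (hNinv : ClSub.IsInverseOf N (ClSub.idealMod (pullback.lift (𝟙 C) σ ((Category.id_comp (C ↘ Spec (CommRingCat.of k))).trans hσp.symm)).ker))
    (ND : (pullback (C ↘ Spec (CommRingCat.of k)) (C ↘ Spec (CommRingCat.of k))).Modules) (hND : PicF.IsInvertible ND)
    (hNDinv : ClSub.IsInverseOf ND (ClSub.idealMod (pullback.diagonal (C ↘ Spec (CommRingCat.of k))).ker))
    (x : Spec (CommRingCat.of k) ⟶ C) (hx : x ≫ (C ↘ Spec (CommRingCat.of k)) = 𝟙 (Spec (CommRingCat.of k)))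
    (A : C.Modules) (hA : PicF.IsInvertible A) (hAinv : ClSub.IsInverseOf A (ClSub.idealMod x.ker))
    (ρ : ULift.{u} (Equiv.Perm (Fin 2)) →* Aut (pullback (C ↘ Spec (CommRingCat.of k)) (C ↘ Spec (CommRingCat.of k)))) (hρ : (ρ (ULift.up (Equiv.swap 0 1))).hom = (pullbackSymmetry (C ↘ Spec (CommRingCat.of k)) (C ↘ Spec (CommRingCat.of k))).hom)
    (Sq : Scheme.{u}) (π : (pullback (C ↘ Spec (CommRingCat.of k)) (C ↘ Spec (CommRingCat.of k))) ⟶ Sq) (hπ : SGA1.IsQuot ρ π) (q : Sq ⟶ Spec (CommRingCat.of k)) (hq : π ≫ q = pullback.fst (C ↘ Spec (CommRingCat.of k)) (C ↘ Spec (CommRingCat.of k)) ≫ (C ↘ Spec (CommRingCat.of k)))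
    (hxW : x ≫ σ = x)
    (MΘ MΔ MV : Sq.Modules) (hMΘ : PicF.IsInvertible MΘ) (hMΔ : PicF.IsInvertible MΔ) (hMV : PicF.IsInvertible MV)
    (hΘ : Nonempty ((Scheme.Modules.pullback π).obj MΘ ≅ CohB1.tensorMod ((Scheme.Modules.pullback (pullback.fst (C ↘ Spec (CommRingCat.of k)) (C ↘ Spec (CommRingCat.of k)))).obj A) ((Scheme.Modules.pullback (pullback.snd (C ↘ Spec (CommRingCat.of k)) (C ↘ Spec (CommRingCat.of k)))).obj A)))
    (hΔ : Nonempty ((Scheme.Modules.pullback π).obj MΔ ≅ CohB1.tensorMod ND ND))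
    (hV : Nonempty ((Scheme.Modules.pullback π).obj MV ≅ N)) :
    Nonempty (CohB1.tensorPow MΘ 4 ≅ CohB1.tensorMod MΔ (CohB1.tensorPow MV 2)) := by
  haveI := isIntegral_curve k C
  have hσσ := sq_eq_id hdim h2 (hgen ▸ hg) κ hκ hκ2 σ hσ hσ1 hσp
  subst hgen
  letI : Sq.Over (Spec (CommRingCat.of k)) := ⟨q⟩
  have hS := SymSq10.isSymSq h2 hdim hρ hπ hq
  haveI := hS.proper
  have h1 := PicLoc.isInvertible_pullback (pullback.fst (C ↘ Spec (CommRingCat.of k)) (C ↘ Spec (CommRingCat.of k))) hA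
  have h2' := PicLoc.isInvertible_pullback (pullback.snd (C ↘ Spec (CommRingCat.of k)) (C ↘ Spec (CommRingCat.of k))) hA
  have cΘ : Abel10.pc π (PicGrp.cls MΘ hMΘ) =
      Abel10.pc (pullback.fst (C ↘ Spec (CommRingCat.of k)) (C ↘ Spec (CommRingCat.of k))) (PicGrp.cls A hA) *
        Abel10.pc (pullback.snd (C ↘ Spec (CommRingCat.of k)) (C ↘ Spec (CommRingCat.of k))) (PicGrp.cls A hA) :=
    ((PicGrp.pullHom_cls π _ MΘ hMΘ).trans ((PicGrp.cls_eq_cls_iff _ (M2.isInvertible_tensor h1 h2')).2 hΘ)).trans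
      ((AlgEquiv22.cls_tensor h1 h2').symm.trans
        (congrArg₂ (· * ·) (PicGrp.pullHom_cls _ _ _ _).symm (PicGrp.pullHom_cls _ _ _ _).symm))
  have cΔ : Abel10.pc π (PicGrp.cls MΔ hMΔ) = PicGrp.cls ND hND * PicGrp.cls ND hND :=
    ((PicGrp.pullHom_cls π _ MΔ hMΔ).trans ((PicGrp.cls_eq_cls_iff _ (M2.isInvertible_tensor hND hND)).2 hΔ)).trans
      (AlgEquiv22.cls_tensor hND hND).symm
  have cV : Abel10.pc π (PicGrp.cls MV hMV) = PicGrp.cls N hN :=
    (PicGrp.pullHom_cls π _ MV hMV).trans ((PicGrp.cls_eq_cls_iff _ hN).2 hV)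
  refine (PicGrp.cls_eq_cls_iff (M2.isInvertible_tensorPow hMΘ 4)
    (M2.isInvertible_tensor hMΔ (M2.isInvertible_tensorPow hMV 2))).1 ?_
  rw [← AlgEquiv22.cls_tensor hMΔ (M2.isInvertible_tensorPow hMV 2), HypSq10.cls_pow_eq hMΘ, HypSq10.cls_pow_eq hMV]
  refine mul_inv_eq_one.1 (eq_one_of_pc_eq_one hS hdim κ hκ hκ2 hg ?_)
  have hdn := HypSq10.cls_diag_mul_gr κ hdim hκ hκ2 hg hND hNDinv σ hσ hσp hσσ hN hNinv hσ1
  rw [map_mul, map_inv, map_mul, map_pow, map_pow, cΘ, cΔ, cV, mul_inv_eq_one,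
    show PicGrp.cls ND hND * PicGrp.cls ND hND * PicGrp.cls N hN ^ 2 = (PicGrp.cls ND hND * PicGrp.cls N hN) ^ 2 by
      rw [mul_pow, pow_two (PicGrp.cls ND hND)],
    hdn, HypSq10.Fm, pow_one, lc_eq_sq hdim κ hκ hκ2 hg σ hσ hσ1 hσp hσσ x hx hxW hA hAinv, ← pow_two,
    map_pow, map_pow, ← mul_pow, ← pow_mul]

end Groth.Agent.S19091
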