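import Groth.Statements.S19092
import Groth.Agent.Lib.FFinite23.Basic

set_option autoImplicit false
universe u
open FrobAlg

namespace Groth.Agent.S19092

/-- Let p be a prime and A a commutative ring of characteristic p whose absolute Frobenius a ↦ a^p is a
finite ring homomorphism. Then the same holds for every quotient and every localization of A: for
every ideal I of A such that A ⧸ I has characteristic p (every proper ideal) the absolute Frobenius
of A ⧸ I is finite, and for every submonoid S of A and every localization B of A at S of
characteristic p (every nonzero localization) the absolute Frobenius of B is finite. -/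
theorem result (p : ℕ) [Fact p.Prime]
    (A : Type u) [CommRing A] [CharP A p] (hF : (frobenius A p).Finite) :
    (∀ (I : Ideal A) [CharP (A ⧸ I) p], (frobenius (A ⧸ I) p).Finite) ∧
      ∀ (S : Submonoid A) (B : Type u) [CommRing B] [Algebra A B] [IsLocalization S B] [CharP B p],
        (frobenius B p).Finite := by

  exact ⟨fun I _ => Groth.Agent.FFinite23.finite_frobenius_quotient p hF I,
    fun S B _ _ _ _ => Groth.Agent.FFinite23.finite_frobenius_localization p hF S B⟩


end Groth.Agent.S19092
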