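import Groth.Statements.S19093
import Groth.Agent.Lib.FFinite23.Basic
import Mathlib.RingTheory.PowerSeries.Expand
import Mathlib.RingTheory.MvPowerSeries.Expand
import Mathlib.RingTheory.FiniteType

set_option autoImplicit false
universe u
open FrobAlg

namespace Groth.Agent.S19093

/-- Let p be a prime, k a finite field of characteristic p, A a commutative k[[t]]-algebra of finite
type over the power series ring k[[t]], and P a prime ideal of A. Then the absolute Frobenius a ↦
a^p of the local ring A_P is a finite ring homomorphism. In particular every local ring of a scheme
of finite type over k[[t]] has finite absolute Frobenius. (The instance hypothesis that A_P has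
characteristic p always holds, A_P being a nonzero algebra over k.) The published statement is for
the local rings of a projective strictly semistable scheme over k[[t]] and adds that such a scheme
is regular with F-finite local rings; its proof uses only that the scheme is of finite type over
k[[t]], which is the form stated here. -/
theorem result (p : ℕ) [Fact p.Prime]
    (k : Type u) [Field k] [Finite k] [CharP k p]
    (A : Type u) [CommRing A] [Algebra (PowerSeries k) A] [Algebra.FiniteType (PowerSeries k) A]
    (P : Ideal A) [P.IsPrime] [CharP (Localization.AtPrime P) p] :
    (frobenius (Localization.AtPrime P) p).Finite := by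

  classical
  have hp := (Fact.out : p.Prime)
  haveI : PerfectRing k p := PerfectField.toPerfectRing p
  haveI : CharP (PowerSeries k) p :=
    charP_of_injective_ringHom (f := PowerSeries.C) PowerSeries.C_injective p
  have hfe : ∀ g : PowerSeries k,
      PowerSeries.map (frobenius k p) (PowerSeries.expand p hp.ne_zero g) = g ^ p :=
    fun g => MvPowerSeries.map_frobenius_expand p hp.ne_zero
  have hR : (frobenius (PowerSeries k) p).Finite := by
    refine Groth.Agent.FFinite23.finite_frobenius_of_generators p
      (Groth.Agent.FFinite23.finite_frobenius_of_perfectRing p k) PowerSeries.C
      ((Finset.range p).image fun j => (PowerSeries.X : PowerSeries k) ^ j) ?_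
    rw [Subring.eq_top_iff']
    intro f
    have hf : f = ∑ j ∈ Finset.range p, PowerSeries.X ^ j *
        frobenius (PowerSeries k) p
          (PowerSeries.mk fun n => (frobeniusEquiv k p).symm (PowerSeries.coeff (p * n + j) f)) := by
      ext N
      rw [map_sum, Finset.sum_eq_single (N % p)]
      · rw [PowerSeries.coeff_X_pow_mul', if_pos (Nat.mod_le N p)]
        have hN : N - N % p = p * (N / p) := by have := Nat.mod_add_div N p; omega
        rw [hN, frobenius_def, ← hfe, PowerSeries.map_expand,
          PowerSeries.coeff_expand_mul, PowerSeries.coeff_map, PowerSeries.coeff_mk,
          frobenius_apply_frobeniusEquiv_symm, Nat.div_add_mod]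
      · intro j hj hne
        rw [PowerSeries.coeff_X_pow_mul']
        split_ifs with hjN
        · rw [frobenius_def, ← hfe, PowerSeries.map_expand,
            PowerSeries.coeff_expand_of_not_dvd]
          intro hdvd
          apply hne
          obtain ⟨c, hc⟩ := hdvd
          rw [Finset.mem_range] at hj
          rw [show N = j + p * c by omega, Nat.add_mul_mod_self_left, Nat.mod_eq_of_lt hj]
        · rfl
      · intro h
        exact absurd (Finset.mem_range.mpr (Nat.mod_lt N hp.pos)) h
    rw [hf]
    refine sum_mem fun j hj => mul_mem
      (Subring.subset_closure (Or.inl (Or.inr (Finset.mem_image_of_mem _ hj))))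
      (Subring.subset_closure (Or.inr ⟨_, rfl⟩))
  rcases subsingleton_or_nontrivial A with hA | hA
  · exact absurd (Subsingleton.elim (1 : Localization.AtPrime P) 0)
      (by
        intro h
        haveI : Subsingleton (Localization.AtPrime P) :=
          (algebraMap A (Localization.AtPrime P)).codomain_trivial
        exact (not_subsingleton_iff_nontrivial.mpr (CharP.nontrivial_of_char_ne_one (R := Localization.AtPrime P) hp.ne_one)) this)
  haveI : CharP A p := (CharP.charP_iff_prime_eq_zero hp).mpr
    (by rw [← map_natCast (algebraMap (PowerSeries k) A), CharP.cast_eq_zero, map_zero])
  obtain ⟨X, hX⟩ := (inferInstance : Algebra.FiniteType (PowerSeries k) A).out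
  have hA : (frobenius A p).Finite := by
    refine Groth.Agent.FFinite23.finite_frobenius_of_generators p hR (algebraMap _ A) X ?_
    rw [Subring.eq_top_iff']
    intro a
    have ha : a ∈ Algebra.adjoin (PowerSeries k) (↑X : Set A) := by rw [hX]; trivial
    rw [← Subalgebra.mem_toSubring, Algebra.adjoin_eq_ring_closure] at ha
    exact Subring.closure_mono Set.subset_union_left ha
  exact Groth.Agent.FFinite23.finite_frobenius_localization p hA P.primeCompl _


end Groth.Agent.S19093
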