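import Groth.Statements.S19101
import Groth.Agent.Lib.GrMap12.Conormal
-- import your own Groth.Agent.* helpers here

set_option autoImplicit false
open CategoryTheory MonoidalCategory CartesianMonoidalCategory MonObj AlgebraicGeometry Limits
open Omega
set_option backward.isDefEq.respectTransparency false
set_option backward.isDefEq.respectTransparency.types false
set_option linter.style.haveILetI false

namespace Groth.Agent.S19101

/-- Over S = Spec ℂ let G be an affine group scheme of finite type, Y a scheme over ℂ, and X a scheme
over Y carrying an action, over Y, of the base change G_Y of G to Y which makes X an fppf torsor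
under G over Y. Let g : X ×_Y X → G be the morphism determined by g(h x, x) = h, i.e. the composite
of the inverse of the isomorphism G_Y ×_Y X → X ×_Y X, (h, x) ↦ (h x, x), with the projection to G;
the diagonal X → X ×_Y X and the unit section Spec ℂ → G then form a commutative (indeed cartesian)
square with g and X → Spec ℂ. Then there is a map of conormal sheaves for this square, from the
pullback to X of the conormal sheaf m_e/m_e² of the unit section (the trivial bundle with fibre the
dual of the Lie algebra 𝔤) to the conormal sheaf of the diagonal, which is the sheaf of relative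
differentials Ω_{X/Y}, characterised by sending the class of a local equation of the unit section to
the class of its pullback under g, and this map is an isomorphism: Ω_{X/Y} ≅ O_X ⊗ 𝔤^∨ canonically.
(The source states the dual form T_f = X × 𝔤 for algebraic spaces and moreover as G-equivariant
bundles for the adjoint action; the equivariance is not expressed here, and X, Y are schemes.) -/
theorem result
    {G Y : Over (Spec (CommRingCat.of ℂ))} [GrpObj G] [IsAffine G.left] [LocallyOfFiniteType G.hom]
    {X : Over Y.left} (a : AlgGrp.Action (Red.bc Y.hom G) X)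
    (hX : NonAbH1.IsTorsorFor Scheme.fppfPrecoverage a)
    (g : pullback X.hom X.hom ⟶ G.left)
    (hg : (lift a.act (snd (Red.bc Y.hom G) X)).left ≫ g =
      (fst (Red.bc Y.hom G) X).left ≫ pullback.fst G.hom Y.hom) :
    ∃ φ : (Scheme.Modules.pullback (toUnit (Over.mk (X.hom ≫ Y.hom) : Over (Spec (CommRingCat.of ℂ)))).left).obj
        (Omega.conormal (η[G]).left) ⟶ Omega.conormal (pullback.diagonal X.hom),
      OmegaSh.IsConormalMap (pullback.diagonal X.hom) (η[G]).left g
        (toUnit (Over.mk (X.hom ≫ Y.hom) : Over (Spec (CommRingCat.of ℂ)))).left φ ∧ IsIso φ := by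
  let gZ := (toUnit (Over.mk (X.hom ≫ Y.hom) : Over (Spec (CommRingCat.of ℂ)))).left
  let GY := Red.bc Y.hom G
  let e := (lift a.act (snd GY X)).left
  let ψ := (fst GY X).left ≫ pullback.fst G.hom Y.hom
  haveI : IsIso (lift a.act (snd GY X)) := hX.1
  haveI : IsIso e := (Over.forget Y.left).map_isIso (lift a.act (snd GY X))
  -- the action square
  have hP : IsPullback ψ (snd GY X).left G.hom (X.hom ≫ Y.hom) :=
    (IsPullback.of_hasPullback GY.hom X.hom).paste_horiz (IsPullback.of_hasPullback G.hom Y.hom)
  let u : X ⟶ GY ⊗ X := lift (toUnit X ≫ η[GY]) (𝟙 X)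
  have hu1 : u.left ≫ ψ = gZ ≫ η[G].left := by
    show u.left ≫ (fst GY X).left ≫ pullback.fst G.hom Y.hom = _
    rw [← Category.assoc, ← Over.comp_left, lift_fst, Over.comp_left, Category.assoc]
    have h2 : η[GY].left ≫ pullback.fst G.hom Y.hom = Y.hom ≫ η[G].left := by
      show (Functor.LaxMonoidal.ε (Over.pullback Y.hom) ≫ (Over.pullback Y.hom).map η[G]).left ≫ _ = _
      simp
    rw [h2]
    show (toUnit X).left ≫ Y.hom ≫ η[G].left = (toUnit (Over.mk (X.hom ≫ Y.hom))).left ≫ η[G].left
    rw [Over.toUnit_left, Over.toUnit_left, ← Category.assoc]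
    rfl
  have hu2 : u.left ≫ (snd GY X).left = 𝟙 _ := by
    rw [← Over.comp_left, lift_snd]; rfl
  have hη : η[G].left ≫ G.hom = 𝟙 _ := Over.w η[G]
  have hgZ : gZ = X.hom ≫ Y.hom := Over.toUnit_left
  have hsq : IsPullback gZ u.left η[G].left ψ := by
    refine IsPullback.of_bot ?_ hu1.symm hP.flip.flip
    rw [hu2, hη, hgZ]
    haveI : IsIso (𝟙 X.left) := IsIso.id _
    exact IsPullback.of_vert_isIso ⟨(Category.comp_id _).trans (Category.id_comp _).symm⟩
  have hue : u.left ≫ e = pullback.diagonal X.hom := by
    show u.left ≫ (lift a.act (snd GY X)).left = _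
    have h1 : u ≫ a.act = 𝟙 X := by
      have := congrArg ((λ_ X).inv ≫ ·) a.one_act
      simp only [Iso.inv_hom_id] at this
      refine Eq.trans ?_ this
      rw [← Category.assoc]
      congr 1
      apply CartesianMonoidalCategory.hom_ext
      · rw [lift_fst, Category.assoc, whiskerRight_fst, ← Category.assoc, leftUnitor_inv_fst]
      · rw [lift_snd, Category.assoc, whiskerRight_snd, leftUnitor_inv_snd]
    rw [← Over.comp_left, comp_lift, h1, lift_snd]
    apply pullback.hom_ext
    · rw [pullback.diagonal_fst]
      exact congrArg CommaMorphism.left (lift_fst (𝟙 X) (𝟙 X))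
    · rw [pullback.diagonal_snd]
      exact congrArg CommaMorphism.left (lift_snd (𝟙 X) (𝟙 X))
  have hg' : g = inv e ≫ ψ := (IsIso.eq_inv_comp e).2 hg
  have H : IsPullback gZ (pullback.diagonal X.hom) η[G].left g :=
    hsq.of_iso (Iso.refl _) (Iso.refl _) (asIso e) (Iso.refl _) (by simp) (by simpa using hue)
      (by simp) (by simp [hg'])
  haveI : Flat (X.hom ≫ Y.hom) := inferInstance
  haveI : Flat ψ := MorphismProperty.of_isPullback hP.flip inferInstance
  haveI : Flat g := by rw [hg']; infer_instance
  haveI : IsClosedImmersion η[G].left := by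
    haveI : IsSeparated G.hom := inferInstance
    haveI : IsClosedImmersion (η[G].left ≫ G.hom) := by rw [hη]; infer_instance
    exact IsClosedImmersion.of_comp η[G].left G.hom
  obtain ⟨φ, hφ, -⟩ := Groth.Agent.GrMap12.existsUnique_conormalMap (i := pullback.diagonal X.hom)
    (i' := η[G].left) (g := g) (gZ := gZ) H.w
  exact ⟨φ, hφ, (Groth.Agent.GrMap12.epi_and_isIso_of_isPullback H hφ).2 inferInstance⟩

end Groth.Agent.S19101
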