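import Groth.Prelude.Def_CoactBr
import Groth.Prelude.Def_HopfRep
import Mathlib.RingTheory.FiniteType
import Mathlib.LinearAlgebra.LinearIndependent.Defs
import Mathlib.LinearAlgebra.Pi
import Mathlib.Data.Complex.Basic
import Groth.Agent.Lib.Char3
import Mathlib.Analysis.Complex.Polynomial.Basic
-- import your own Groth.Agent.* helpers here

namespace HopfRep
end HopfRep

set_option autoImplicit false
open CategoryTheory MonoidalCategory CartesianMonoidalCategory MonObj AlgebraicGeometry
open scoped TensorProduct
open HopfRep

namespace Groth.Agent.S19102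

/-- Let A be a finitely generated commutative Hopf algebra over the complex numbers all of whose
finite-dimensional comodules are semisimple (a linearly reductive complex linear algebraic group G =
Spec A, connected or not; over the complex numbers these are the groups whose identity component has
a torus as radical, the reductive groups of the source). For a comodule structure on the coordinate
space ℂ^d with coaction e_i ↦ Σ_j e_j ⊗ a_ji, its character is the element Σ_i a_ii of A. Then (1)
an element f of A is a class function, meaning f(x g x⁻¹) = f(g) for all points x, g of G with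
values in any ℂ-scheme, if and only if f is a ℂ-linear combination of characters; and (2) the
characters of finitely many simple comodule structures on coordinate spaces, pairwise non-isomorphic
(no linear isomorphism intertwines the coactions), are linearly independent over ℂ. In other words
the character map from the complexified representation ring of G to the ring of class functions on G
is bijective. (The source's further assertion that R(G) is a finitely generated algebra for every G
is not restated.) -/
theorem result
    (A : Type) [CommRing A] [HopfAlgebra ℂ A] [Algebra.FiniteType ℂ A]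
    (hred : HopfRep.IsLinearlyReductive ℂ A) :
    (∀ f : A,
      (∀ (T : Over (Spec (CommRingCat.of ℂ))) (x g : T ⟶ CoactBr.sp ℂ A),
          (x * g * x⁻¹).left.appTop ((Scheme.ΓSpecIso (CommRingCat.of A)).inv f) =
            g.left.appTop ((Scheme.ΓSpecIso (CommRingCat.of A)).inv f)) ↔
        f ∈ Submodule.span ℂ (Set.range fun p : (Σ d : ℕ, HopfRep.Comod ℂ A (Fin d → ℂ)) =>
          ∑ i : Fin p.1, TensorProduct.lid ℂ A (LinearMap.rTensor A (LinearMap.proj i)
            (@HopfRep.Comod.coact ℂ A _ _ _ _ (Fin p.1 → ℂ) _ _ p.2 (Pi.single i 1))))) ∧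
    (∀ (n : ℕ) (d : Fin n → ℕ) (c : (i : Fin n) → HopfRep.Comod ℂ A (Fin (d i) → ℂ)),
      (∀ i, @HopfRep.IsSimpleComod ℂ A _ _ _ _ (Fin (d i) → ℂ) _ _ (c i)) →
      (∀ i j, i ≠ j → ∀ P : (Fin (d i) → ℂ) ≃ₗ[ℂ] (Fin (d j) → ℂ),
          LinearMap.rTensor A P.toLinearMap ∘ₗ @HopfRep.Comod.coact ℂ A _ _ _ _ (Fin (d i) → ℂ) _ _ (c i) ≠
            (@HopfRep.Comod.coact ℂ A _ _ _ _ (Fin (d j) → ℂ) _ _ (c j)) ∘ₗ P.toLinearMap) →
      LinearIndependent ℂ (fun i : Fin n => ∑ t : Fin (d i), TensorProduct.lid ℂ A (LinearMap.rTensor A (LinearMap.proj t)
            (@HopfRep.Comod.coact ℂ A _ _ _ _ (Fin (d i) → ℂ) _ _ (c i) (Pi.single t 1))))) := by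
  refine ⟨fun f => Iff.trans (Char3.isClassFunction_iff f) ⟨fun h => ?_, fun h => ?_⟩, fun n d c hs hne => ?_⟩
  · exact Char3.mem_span_char hred f ((Char3.comm_comul_iff f).1 h)
  · induction h using Submodule.span_induction with
    | mem y hy =>
      obtain ⟨p, rfl⟩ := hy
      exact (Char3.comm_comul_iff _).2 (Char3.eval_mul_char p.2)
    | zero => simp
    | add y z _ _ hy hz => simp only [map_add, hy, hz]
    | smul a y _ hy => simp only [map_smul, hy]
  · exact Char3.linearIndependent_char n d c hs hne

end Groth.Agent.S19102
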