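import Groth.Statements.S19106
import Mathlib.Tactic.Linarith

set_option autoImplicit false
open HilbD

namespace Groth.Agent.S19106

/-- Let μ be a non-empty Young diagram, V the number of its cells, E the number of unordered pairs of
cells sharing a side (a cell together with the cell immediately below it, or immediately to its
right, both in μ) and Q the number of 2 × 2 blocks of cells of μ (cells c such that the cell
diagonally below-right of c is in μ, the other two corners being in μ automatically). Then V − E + Q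
− 1 = 0, stated as V + Q = E + 1 in the naturals. (The empty diagram, for which the count reads 0 −
0 + 0 − 1, is excluded.) -/
theorem result (μ : YoungDiagram) (hμ : μ ≠ ⊥) :
    μ.cells.card + (μ.cells.filter (fun c => (c.1 + 1, c.2 + 1) ∈ μ)).card =
      (μ.cells.filter (fun c => (c.1 + 1, c.2) ∈ μ)).card + (μ.cells.filter (fun c => (c.1, c.2 + 1) ∈ μ)).card + 1 := by
  classical
  have hA : (μ.cells.filter (fun c => (c.1 + 1, c.2) ∈ μ)).card = (μ.cells.filter (fun c => 1 ≤ c.1)).card := by
    refine Finset.card_bij' (fun c _ => (c.1 + 1, c.2)) (fun c _ => (c.1 - 1, c.2)) ?_ ?_ ?_ ?_ <;>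
      simp only [Finset.mem_filter, YoungDiagram.mem_cells, and_imp, Prod.forall] <;> intro a b h h'
    · exact ⟨h', by omega⟩
    · refine ⟨μ.up_left_mem (Nat.sub_le a 1) le_rfl h, ?_⟩
      rwa [Nat.sub_add_cancel h']
    · simp
    · simp; omega
  have hB : (μ.cells.filter (fun c => (c.1, c.2 + 1) ∈ μ)).card = (μ.cells.filter (fun c => 1 ≤ c.2)).card := by
    refine Finset.card_bij' (fun c _ => (c.1, c.2 + 1)) (fun c _ => (c.1, c.2 - 1)) ?_ ?_ ?_ ?_ <;>
      simp only [Finset.mem_filter, YoungDiagram.mem_cells, and_imp, Prod.forall] <;> intro a b h h'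
    · exact ⟨h', by omega⟩
    · refine ⟨μ.up_left_mem le_rfl (Nat.sub_le b 1) h, ?_⟩
      rwa [Nat.sub_add_cancel h']
    · simp
    · simp; omega
  have hC : (μ.cells.filter (fun c => (c.1 + 1, c.2 + 1) ∈ μ)).card =
      (μ.cells.filter (fun c => 1 ≤ c.1 ∧ 1 ≤ c.2)).card := by
    refine Finset.card_bij' (fun c _ => (c.1 + 1, c.2 + 1)) (fun c _ => (c.1 - 1, c.2 - 1)) ?_ ?_ ?_ ?_ <;>
      simp only [Finset.mem_filter, YoungDiagram.mem_cells, and_imp, Prod.forall] <;> intro a b h
    · intro h'; exact ⟨h', by omega, by omega⟩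
    · intro h1 h2
      refine ⟨μ.up_left_mem (Nat.sub_le a 1) (Nat.sub_le b 1) h, ?_⟩
      rwa [Nat.sub_add_cancel h1, Nat.sub_add_cancel h2]
    · simp
    · simp; omega
  have h00 : ((0 : ℕ), (0 : ℕ)) ∈ μ.cells := by
    by_contra hh
    apply hμ
    ext ⟨a, b⟩
    simp only [YoungDiagram.mem_cells, YoungDiagram.notMem_bot, iff_false]
    exact fun hab => hh (μ.up_left_mem (Nat.zero_le a) (Nat.zero_le b) hab)
  rw [hA, hB, hC]
  have h3 : μ.cells.filter (fun c => ¬ (1 ≤ c.1 ∨ 1 ≤ c.2)) = {((0 : ℕ), (0 : ℕ))} := by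
    ext ⟨a, b⟩
    simp only [Finset.mem_filter, Finset.mem_singleton, Prod.mk.injEq]
    constructor
    · omega
    · rintro ⟨rfl, rfl⟩; exact ⟨h00, by omega⟩
  have h4 := Finset.card_filter_add_card_filter_not (s := μ.cells) (fun c : ℕ × ℕ => 1 ≤ c.1 ∨ 1 ≤ c.2)
  have h5 := Finset.card_union_add_card_inter (μ.cells.filter (fun c => 1 ≤ c.1)) (μ.cells.filter (fun c => 1 ≤ c.2))
  rw [← Finset.filter_or, ← Finset.filter_and] at h5
  rw [h3, Finset.card_singleton] at h4
  omega

end Groth.Agent.S19106
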