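import Groth.Statements.S19127
import Groth.Agent.Lib.HSL27.Core
import Groth.Agent.S5158
import Groth.Agent.S0315
-- import your own Groth.Agent.* helpers here

set_option autoImplicit false
universe u v
open FrobAlg

namespace Groth.Agent.S19127

/-- Let p be a prime, A a Noetherian local ring of characteristic p with maximal ideal m, and M an
A-module which is cofinite, meaning that every element of M is annihilated by some power of m and
that the socle of M (the elements annihilated by m) is a finitely generated A-module. Let φ : M → M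
be an additive map that is semilinear for the Frobenius of A, φ(a x) = a^p φ(x). If φ is locally
nilpotent, i.e. every element of M is annihilated by some iterate of φ, then φ is nilpotent: one
iterate of φ is zero on all of M. -/
theorem result
    (p : ℕ) [Fact p.Prime] (A : Type u) [CommRing A] [IsNoetherianRing A] [IsLocalRing A] [CharP A p]
    (M : Type v) [AddCommGroup M] [Module A M]
    (htors : LocCoh.IsPowerTorsion (IsLocalRing.maximalIdeal A) M)
    (hsoc : Module.Finite A ↥(LocCoh.torsionBy (IsLocalRing.maximalIdeal A) M))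
    (φ : M →ₛₗ[frobenius A p] M)
    (hloc : ∀ x : M, ∃ n : ℕ, (⇑φ)^[n] x = 0) :
    ∃ n : ℕ, ∀ x : M, (⇑φ)^[n] x = 0 := by
  classical
  let A' := ULift.{v} A
  let M' := ULift.{u} M
  haveI : IsNoetherianRing A' := isNoetherianRing_of_ringEquiv A ULift.ringEquiv.symm
  haveI : IsLocalRing A' := ULift.ringEquiv.symm.isLocalRing
  have hmem : ∀ a : A', a ∈ IsLocalRing.maximalIdeal A' → a.down ∈ IsLocalRing.maximalIdeal A := by
    intro a ha
    rw [IsLocalRing.mem_maximalIdeal, mem_nonunits_iff] at ha ⊢
    exact fun h => ha (h.map (ULift.ringEquiv : A' ≃+* A).symm)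
  have hmem' : ∀ a : A, a ∈ IsLocalRing.maximalIdeal A → (ULift.up a : A') ∈ IsLocalRing.maximalIdeal A' := by
    intro a ha
    rw [IsLocalRing.mem_maximalIdeal, mem_nonunits_iff] at ha ⊢
    exact fun h => ha (h.map (ULift.ringEquiv : A' ≃+* A))
  have htors' : LocCoh.IsPowerTorsion (IsLocalRing.maximalIdeal A') M' := by
    intro m
    obtain ⟨n, hn⟩ := htors m.down
    refine ⟨n, fun a ha => ULift.down_injective ?_⟩
    refine hn a.down (?_ : (ULift.ringEquiv : A' ≃+* A) a ∈ _)
    refine (Ideal.map_pow (ULift.ringEquiv : A' ≃+* A).toRingHom (IsLocalRing.maximalIdeal A') n).trans_le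
      (Ideal.pow_right_mono (Ideal.map_le_iff_le_comap.2 fun b hb => Ideal.mem_comap.2 (hmem b hb)) n)
      (Ideal.mem_map_of_mem (ULift.ringEquiv : A' ≃+* A).toRingHom ha)
  have hart : IsArtinian A' M' := by
    refine (Groth.Agent.S0315.result A' M').2 ⟨htors', ?_⟩
    suffices h : Module.Finite A' ↥(LocCoh.torsionBy (IsLocalRing.maximalIdeal A') M') from
      Module.Finite.of_restrictScalars_finite A' _ _
    obtain ⟨s, hs⟩ := hsoc.fg_top
    let up : ↥(LocCoh.torsionBy (IsLocalRing.maximalIdeal A) M) →
        ↥(LocCoh.torsionBy (IsLocalRing.maximalIdeal A') M') := fun x =>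
      ⟨ULift.up x.1, (Submodule.mem_torsionBySet_iff _ _).2 fun a => ULift.down_injective
        ((Submodule.mem_torsionBySet_iff _ _).1 x.2 ⟨a.1.down, hmem a.1 a.2⟩)⟩
    refine ⟨⟨s.image up, eq_top_iff.2 fun y _ => ?_⟩⟩
    have hy : y.1.down ∈ LocCoh.torsionBy (IsLocalRing.maximalIdeal A) M :=
      (Submodule.mem_torsionBySet_iff _ _).2 fun a =>
        congrArg ULift.down ((Submodule.mem_torsionBySet_iff _ _).1 y.2 ⟨ULift.up a.1, hmem' a.1 a.2⟩)
    suffices h : ∀ x ∈ Submodule.span A (s : Set ↥(LocCoh.torsionBy (IsLocalRing.maximalIdeal A) M)),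
        up x ∈ Submodule.span A' (↑(s.image up) : Set _) by
      exact h ⟨y.1.down, hy⟩ (hs ▸ Submodule.mem_top)
    intro x hx
    induction hx using Submodule.span_induction with
    | mem x hx => exact Submodule.subset_span (Finset.mem_image_of_mem up hx)
    | zero =>
      convert Submodule.zero_mem _
      exact Subtype.ext rfl
    | add a b _ _ ha hb =>
      convert Submodule.add_mem _ ha hb using 1
      exact Subtype.ext rfl
    | smul c a _ ha =>
      convert Submodule.smul_mem _ (ULift.up c : A') ha using 1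
      exact Subtype.ext rfl
  let B := AdicCompletion (IsLocalRing.maximalIdeal A') A'
  haveI : IsNoetherianRing B := Groth.Agent.CplLocH7.isNoetherianRing_cpl A'
  haveI hp : CharP B p := (CharP.charP_iff_prime_eq_zero Fact.out).2 <| by
    have : (p : A') = 0 := ULift.down_injective
      ((map_natCast (ULift.ringEquiv : A' ≃+* A) p).trans (CharP.cast_eq_zero A p))
    rw [← map_natCast (algebraMap A' B), this, map_zero]
  let e : M' ≃ₗ[A'] TensorProduct A' B M' :=
    LinearEquiv.ofBijective (TensorProduct.mk A' B M' 1) (Groth.Agent.S5158.result A' M' htors')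
  letI : Module B M' := AddEquiv.module B e.toAddEquiv
  have hsmul : ∀ (b : B) (x : M'), e (b • x) = b • e x := fun b x => e.apply_symm_apply _
  haveI : IsScalarTower A' B M' := ⟨fun a b x => e.injective (by
    rw [hsmul, LinearEquiv.map_smul, hsmul, smul_assoc])⟩
  haveI : IsArtinian B M' := isArtinian_of_tower A' hart
  let Φ : TensorProduct A' B M' →+ TensorProduct A' B M' := TensorProduct.liftAddHom
    (AddMonoidHom.mk' (fun b : B => AddMonoidHom.mk' (fun y : M' => (b ^ p) ⊗ₜ[A'] (ULift.up (φ y.down) : M'))
      (fun y y' => by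
        rw [← TensorProduct.tmul_add]
        congr 1
        exact ULift.down_injective (map_add φ y.down y'.down)))
      (fun b b' => AddMonoidHom.ext fun y => by
        change ((b + b') ^ p) ⊗ₜ[A'] _ = (b ^ p) ⊗ₜ[A'] _ + (b' ^ p) ⊗ₜ[A'] _
        rw [add_pow_char, TensorProduct.add_tmul]))
    (fun a b y => by
      change ((a • b) ^ p) ⊗ₜ[A'] _ = (b ^ p) ⊗ₜ[A'] _
      rw [smul_pow, ← TensorProduct.smul_tmul', ← TensorProduct.tmul_smul]
      congr 1
      refine ULift.down_injective ?_
      change a.down ^ p • φ y.down = φ (a.down • y.down)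
      rw [LinearMap.map_smulₛₗ, frobenius_def])
  have hΦ : ∀ (b : B) (t : TensorProduct A' B M'), Φ (b • t) = b ^ p • Φ t := by
    intro b t
    induction t using TensorProduct.induction_on with
    | zero => simp
    | tmul c y =>
      rw [TensorProduct.smul_tmul', smul_eq_mul]
      change ((b * c) ^ p) ⊗ₜ[A'] _ = b ^ p • ((c ^ p) ⊗ₜ[A'] _)
      rw [TensorProduct.smul_tmul', smul_eq_mul, mul_pow]
    | add x y hx hy => simp [smul_add, map_add, hx, hy]
  let φ' : M' →ₛₗ[frobenius B p] M' :=
    { toFun := fun x => e.symm (Φ (e x))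
      map_add' := fun x y => by simp
      map_smul' := fun b x => e.injective (by
        simp only [hsmul, e.apply_symm_apply, hΦ, frobenius_def]) }
  have hφ : ∀ x : M', φ' x = ULift.up (φ x.down) := fun x => e.injective (by
    change e (e.symm (Φ (e x))) = _
    rw [e.apply_symm_apply]
    change ((1 : B) ^ p) ⊗ₜ[A'] (ULift.up (φ x.down) : M') = (1 : B) ⊗ₜ[A'] (ULift.up (φ x.down) : M')
    rw [one_pow])
  have hit : ∀ (n : ℕ) (x : M'), (⇑φ')^[n] x = ULift.up ((⇑φ)^[n] x.down) := by
    intro n
    induction n with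
    | zero => intro x; rfl
    | succ n ih => intro x; rw [Function.iterate_succ_apply', ih, hφ, Function.iterate_succ_apply']
  obtain ⟨n, hn⟩ := Groth.Agent.HSL27.exists_iterate_eq_zero p φ' fun x => by
    obtain ⟨n, hn⟩ := hloc x.down
    exact ⟨n, by rw [hit, hn]; rfl⟩
  exact ⟨n, fun x => congrArg ULift.down ((hit n (ULift.up x)).symm.trans (hn _))⟩

end Groth.Agent.S19127
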