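import Groth.Statements.S19128
import Groth.Agent.Lib.BCInj6.DepthRestr
import Groth.Agent.Lib.BCInj6.DepthFEt
import Groth.Agent.Lib.GaCoh3.AS
import Groth.Agent.Lib.GaCoh3.EtZarCompare
import Groth.Agent.Lib.CIPic27.Lift
import Groth.Agent.Lib.ParaFDesc27.Stalkwise


set_option autoImplicit false
set_option backward.isDefEq.respectTransparency false
set_option backward.isDefEq.respectTransparency.types false
set_option maxHeartbeats 1000000
universe u
open CategoryTheory CategoryTheory.Limits AlgebraicGeometry Opposite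
open EtDual

namespace Groth.Agent.S19128

open Groth.Agent CategoryTheory.Abelian

section Degree0

variable {X U : Scheme.{u}} (j : U ⟶ X) [IsOpenImmersion j] [PreservesFiniteLimits (EtCoh.pull j)]

/-- Degree zero pullback along an open immersion is the unit on sections. -/
theorem bij_Hpull_zero (G : EtCoh.Ab X) :
    (Function.Injective (EtCore.Hpull j G 0) ↔ Function.Injective (G.obj.map (BCInj6.trace j (EtCoh.top X)).op)) ∧
      (Function.Bijective (EtCore.Hpull j G 0) ↔ Function.Bijective (G.obj.map (BCInj6.trace j (EtCoh.top X)).op)) := by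
  let P := (EtCoh.pullPushAdj j)
  let e : (EtCoh.const X ℤ ⟶ G) → (EtCoh.const U ℤ ⟶ (EtCoh.pull j).obj G) :=
    fun φ => (EtCore.pullConst j ℤ).inv ≫ (EtCoh.pull j).map φ
  have h1 : ∀ φ, EtCore.Hpull j G 0 (Ext.mk₀ φ) = Ext.mk₀ (e φ) := fun φ => by
    show (Ext.mk₀ (EtCore.pullConst j ℤ).inv).comp ((Ext.mk₀ φ).mapExactFunctor (EtCoh.pull j)) (zero_add 0) = _
    rw [Ext.mapExactFunctor_mk₀]
    exact Ext.mk₀_comp_mk₀ _ _
  let a := fun φ : EtCoh.const X ℤ ⟶ G => φ ≫ EtDual.unitApp j G
  have h2 : ∀ φ, a φ = P.homEquiv _ _ ((EtCore.pullConst j ℤ).hom ≫ e φ) := fun φ => by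
    show φ ≫ EtDual.unitApp j G = P.homEquiv _ _ ((EtCore.pullConst j ℤ).hom ≫ (EtCore.pullConst j ℤ).inv ≫ (EtCoh.pull j).map φ)
    rw [Iso.hom_inv_id_assoc, Adjunction.homEquiv_unit]
    exact P.unit.naturality φ
  let T := StrictLim24.topSecIso X
  have h3 : ∀ φ, T.hom.app _ (a φ) = (EtDual.unitApp j G).hom.app (op (EtCoh.top X)) (T.hom.app _ φ) := fun φ =>
    ConcreteCategory.congr_hom (T.hom.naturality (EtDual.unitApp j G)) φ
  have hT : ∀ M, Function.Bijective (T.hom.app M) := fun M => ConcreteCategory.bijective_of_isIso (T.hom.app M)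
  let c : (EtCoh.const U ℤ ⟶ (EtCoh.pull j).obj G) → (EtCoh.const X ℤ ⟶ (EtCoh.push j).obj ((EtCoh.pull j).obj G)) :=
    fun y => P.homEquiv _ _ ((EtCore.pullConst j ℤ).hom ≫ y)
  have hc : Function.Bijective c := (P.homEquiv _ _).bijective.comp
    ⟨fun y y' h => (cancel_epi (EtCore.pullConst j ℤ).hom).1 h, fun z => ⟨(EtCore.pullConst j ℤ).inv ≫ z, by simp⟩⟩
  have ha : a = c ∘ e := funext h2
  have hm : ∀ {A B : EtCoh.Ab U}, Function.Bijective (Ext.mk₀ (X := A) (Y := B)) := fun {A B} => Ext.mk₀_bijective A B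
  have hm' : ∀ {A B : EtCoh.Ab X}, Function.Bijective (Ext.mk₀ (X := A) (Y := B)) := fun {A B} => Ext.mk₀_bijective A B
  have hh : ⇑(EtCore.Hpull j G 0) ∘ Ext.mk₀ = Ext.mk₀ ∘ e := funext h1
  have ht : ⇑(T.hom.app _) ∘ a = ⇑((EtDual.unitApp j G).hom.app (op (EtCoh.top X))) ∘ ⇑(T.hom.app G) := funext h3
  obtain ⟨hu1, hu2⟩ := BCInj6.unitApp_app_bij_iff j G (EtCoh.top X)
  constructor
  · rw [← hu1, ← Function.Injective.of_comp_iff' _ (hm' (A := EtCoh.const X ℤ) (B := G)), hh,
      Function.Injective.of_comp_iff hm.1, ← Function.Injective.of_comp_iff hc.1 e, ← ha,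
      ← Function.Injective.of_comp_iff (hT _).1 a, ht, Function.Injective.of_comp_iff' _ (hT G)]
  · rw [← hu2, ← Function.Bijective.of_comp_iff _ (hm' (A := EtCoh.const X ℤ) (B := G)), hh,
      Function.Bijective.of_comp_iff' hm, ← Function.Bijective.of_comp_iff' hc e, ← ha,
      ← Function.Bijective.of_comp_iff' (hT _) a, ht, Function.Bijective.of_comp_iff _ (hT G)]

/-- The additive group restricts to the additive group. -/
noncomputable def gaIso : (EtCoh.pull j).obj (EtCoh.Ga X) ≅ EtCoh.Ga U :=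
  ((EtStalk.restrPullIso j).app (EtCoh.Ga X)).symm ≪≫
    (fullyFaithfulSheafToPresheaf _ _).preimageIso (NatIso.ofComponents (fun _ => Iso.refl _) fun {A B} f => by
      ext x
      rfl)

end Degree0

section Punctured

variable (R : Type u) [CommRing R] [LocCoh.IsCohenMacaulayLocalRing R]

theorem natCast_le_depth {n : ℕ} (h : (n : WithBot ℕ∞) ≤ ringKrullDim R) : (n : ℕ∞) ≤ LocCoh.depth R R := by
  have e := LocCoh.IsCohenMacaulayLocalRing.supportDim_eq_depth (R := R)
  rw [Module.supportDim_self_eq_ringKrullDim] at e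
  rw [e] at h
  exact WithBot.coe_le_coe.1 h

theorem punctured_eq : LocCoh.puncturedOpen R (IsLocalRing.maximalIdeal R) = FEt.puncturedSpec R := by
  apply TopologicalSpace.Opens.ext
  refine Set.ext fun q => not_congr ⟨fun h => ?_, fun h => ?_⟩
  · exact PrimeSpectrum.ext ((IsLocalRing.maximalIdeal.isMaximal R).eq_of_le q.2.ne_top h).symm
  · obtain rfl : q = IsLocalRing.closedPoint R := h
    exact le_refl (IsLocalRing.maximalIdeal R)

theorem subsingleton_H_punctured (i : ℕ) (h : ((i + 3 : ℕ) : WithBot ℕ∞) ≤ ringKrullDim R) :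
    Subsingleton (EtCoh.H (FEt.puncturedSpec R : Scheme.{u}) ((EtCoh.pull (FEt.puncturedSpec R).ι).obj
      (EtCoh.Ga (Spec (CommRingCat.of R)))) (i + 1)) := by
  have hv : ParaGr27.Van R R (i + 2) :=
    (ParaGr27.van_iff_natCast_le_depth (A := R) (X := R) (i + 3)).2 (natCast_le_depth R h) (i + 2) (by omega)
  have h0 := CIPic27.subsingleton_HH_punct_self i hv
  rw [punctured_eq R] at h0
  obtain ⟨e, -⟩ := GaCoh3.exists_H_Ga_equiv (X := (FEt.puncturedSpec R : Scheme.{u})) (i + 1)
  haveI := e.toEquiv.subsingleton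
  exact (EtAcyc24.bijective_comp_iso (gaIso (FEt.puncturedSpec R).ι) (i + 1)).1.subsingleton

theorem injective_res (h : (1 : WithBot ℕ∞) ≤ ringKrullDim R) :
    Function.Injective ((Spec (CommRingCat.of R)).presheaf.map
      (homOfLE (le_top : FEt.puncturedSpec R ≤ ⊤)).op) := by
  obtain ⟨rs, ⟨hreg, hmem⟩, hlen⟩ := (DepthLib.natCast_le_idealDepth_iff_exists (I := IsLocalRing.maximalIdeal R)
    (M := R) (by
      intro h'
      refine Submodule.top_ne_ideal_smul_of_le_jacobson_annihilator ?_ h'.symm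
      exact (IsLocalRing.maximalIdeal_le_jacobson _)) 1).1 (natCast_le_depth R (n := 1) (by exact_mod_cast h))
  obtain ⟨a, l, rfl⟩ : ∃ a l, rs = a :: l := by
    cases rs with
    | nil => simp at hlen
    | cons a l => exact ⟨a, l, rfl⟩
  have ha : IsSMulRegular R a := ((RingTheory.Sequence.isWeaklyRegular_cons_iff _ _ _).1 hreg).1
  have ham : a ∈ IsLocalRing.maximalIdeal R := hmem a List.mem_cons_self
  let X := Spec (CommRingCat.of R)
  have hle : PrimeSpectrum.basicOpen a ≤ FEt.puncturedSpec R := fun p hp e => hp (by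
    have e' : p = IsLocalRing.closedPoint R := e
    subst e'
    exact ham)
  have hinj : Function.Injective (X.presheaf.map (homOfLE (le_top : (PrimeSpectrum.basicOpen a : X.Opens) ≤ ⊤)).op) := by
    intro s t hst
    obtain ⟨s', rfl⟩ := (ConcreteCategory.bijective_of_isIso (Scheme.ΓSpecIso (CommRingCat.of R)).inv).2 s
    obtain ⟨t', rfl⟩ := (ConcreteCategory.bijective_of_isIso (Scheme.ΓSpecIso (CommRingCat.of R)).inv).2 t
    refine congrArg _ ?_
    have hloc : Function.Injective (algebraMap R ((Spec.structureSheaf R).1.obj (op (PrimeSpectrum.basicOpen a)))) :=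
      IsLocalization.injective _ (M := Submonoid.powers a) (Submonoid.powers_le.2
        (mem_nonZeroDivisors_iff_right.2 fun x hx => ha (show a • x = a • 0 by rw [smul_zero, smul_eq_mul, mul_comm, hx])))
    exact hloc hst
  intro s t hst
  refine hinj ?_
  have e : ∀ u, X.presheaf.map (homOfLE (le_top : (PrimeSpectrum.basicOpen a : X.Opens) ≤ ⊤)).op u =
      X.presheaf.map (homOfLE hle).op (X.presheaf.map (homOfLE (le_top : FEt.puncturedSpec R ≤ ⊤)).op u) := fun u => by
    rw [← ConcreteCategory.comp_apply, ← Functor.map_comp]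
    rfl
  rw [e, e, hst]

theorem bijective_res (h : (2 : WithBot ℕ∞) ≤ ringKrullDim R) :
    Function.Bijective ((Spec (CommRingCat.of R)).presheaf.map
      (homOfLE (le_top : FEt.puncturedSpec R ≤ ⊤)).op) := by
  have h2 := ParaFDesc27.rb_punctured_of_depth (A := R) (natCast_le_depth R (n := 2) (by exact_mod_cast h)) ⊤
  have e : (⊤ : (Spec (CommRingCat.of R)).Opens) ⊓ FEt.puncturedSpec R = FEt.puncturedSpec R := top_inf_eq _
  have hmap : (Spec (CommRingCat.of R)).presheaf.map (homOfLE (le_top : FEt.puncturedSpec R ≤ ⊤)).op =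
      (Spec (CommRingCat.of R)).presheaf.map (homOfLE inf_le_left).op ≫
        (Spec (CommRingCat.of R)).presheaf.map (eqToHom e.symm).op := by
    rw [← Functor.map_comp]
    rfl
  rw [hmap]
  refine (iff_of_eq (congrArg Function.Bijective (funext fun x => ConcreteCategory.comp_apply _ _ x))).2 ?_
  exact (ConcreteCategory.bijective_of_isIso ((Spec (CommRingCat.of R)).presheaf.map (eqToHom e.symm).op)).comp h2

omit [LocCoh.IsCohenMacaulayLocalRing R] in
/-- Restriction of the additive group along the trace is restriction of functions. -/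
theorem ga_trace {X : Scheme.{u}} (W : X.Opens) :
    (Function.Injective ((EtCoh.Ga X).obj.map (BCInj6.trace W.ι (EtCoh.top X)).op) ↔
      Function.Injective (X.presheaf.map (homOfLE (le_top : W ≤ ⊤)).op)) ∧
    (Function.Bijective ((EtCoh.Ga X).obj.map (BCInj6.trace W.ι (EtCoh.top X)).op) ↔
      Function.Bijective (X.presheaf.map (homOfLE (le_top : W ≤ ⊤)).op)) := by
  let t : pullback (𝟙 X) W.ι ⟶ X := pullback.fst (𝟙 X) W.ι
  haveI : IsIso (pullback.snd (𝟙 X) W.ι) := inferInstance
  have ht : t = pullback.snd (𝟙 X) W.ι ≫ W.ι := by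
    rw [← pullback.condition, Category.comp_id]
  have h1 : ⇑((EtCoh.Ga X).obj.map (BCInj6.trace W.ι (EtCoh.top X)).op) =
      AddEquiv.ulift.symm ∘ ⇑t.appTop ∘ AddEquiv.ulift := rfl
  have h2 : t.appTop = W.ι.appTop ≫ (pullback.snd (𝟙 X) W.ι).appTop := by
    rw [ht, Scheme.Hom.comp_appTop]
  have h3 : W.ι.appTop = X.presheaf.map (homOfLE (le_top : W ≤ ⊤)).op ≫ W.topIso.inv := by
    rw [Iso.eq_comp_inv]
    simp [Scheme.Opens.topIso, Scheme.Opens.ι_app]
    rw [← Functor.map_comp]
    rfl
  haveI : IsIso ((pullback.snd (𝟙 X) W.ι).appTop) := inferInstance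
  have hb : Function.Bijective (W.topIso.inv ≫ (pullback.snd (𝟙 X) W.ι).appTop) :=
    ConcreteCategory.bijective_of_isIso _
  have hcomp : ∀ {A B C : CommRingCat.{u}} (f : A ⟶ B) (g : B ⟶ C),
      ⇑(ConcreteCategory.hom (f ≫ g)) = ⇑(ConcreteCategory.hom g) ∘ ⇑(ConcreteCategory.hom f) :=
    fun f g => funext fun x => ConcreteCategory.comp_apply f g x
  rw [h1, h2, h3, Category.assoc, hcomp]
  constructor
  · rw [Function.Injective.of_comp_iff AddEquiv.ulift.symm.injective,
      Function.Injective.of_comp_iff' _ AddEquiv.ulift.bijective, Function.Injective.of_comp_iff hb.1]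
  · rw [Function.Bijective.of_comp_iff' AddEquiv.ulift.symm.bijective,
      Function.Bijective.of_comp_iff _ AddEquiv.ulift.bijective, Function.Bijective.of_comp_iff' hb]

/-- The additive group has vanishing cohomology with supports below the dimension. -/
theorem subsingleton_ext_Ga (n : ℕ) (hn : (n : WithBot ℕ∞) ≤ ringKrullDim R) (p : ℕ) (hp : p < n) :
    Subsingleton (Ext (BCInj6.zQuot (FEt.puncturedSpec R).ι) (EtCoh.Ga (Spec (CommRingCat.of R))) p) := by
  haveI : PreservesFiniteLimits (EtCoh.pull (FEt.puncturedSpec R).ι) := EtStalk.preservesFiniteLimits_pull _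
  have le : ∀ {m : ℕ}, m ≤ n → (m : WithBot ℕ∞) ≤ ringKrullDim R := fun h => le_trans (by exact_mod_cast h) hn
  refine (BCInj6.subsingleton_ext_zQuot_iff _ _ n).2 ⟨fun q hq => ?_, fun q hq => ?_⟩ p hp
  · cases q with
    | zero => exact (bij_Hpull_zero _ _).2.2 ((ga_trace _).2.2 (bijective_res R (le (m := 2) (by omega))))
    | succ q =>
      haveI := GaCoh3.subsingleton_H_of_acycAff q (EtCoh.Ga (Spec (CommRingCat.of R))) GaCoh3.acycAff_Ga
      haveI := subsingleton_H_punctured R q (le (m := q + 3) (by omega))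
      exact ⟨fun a b _ => Subsingleton.elim a b, fun b => ⟨0, Subsingleton.elim _ _⟩⟩
  · cases q with
    | zero => exact (bij_Hpull_zero _ _).1.2 ((ga_trace _).1.2 (injective_res R (le (m := 1) (by omega))))
    | succ q =>
      haveI := GaCoh3.subsingleton_H_of_acycAff q (EtCoh.Ga (Spec (CommRingCat.of R))) GaCoh3.acycAff_Ga
      exact fun a b _ => Subsingleton.elim a b

end Punctured

/-- Let p be a prime and R a Noetherian local ring of characteristic p which is strictly henselian
(henselian with separably closed residue field) and Cohen–Macaulay, of Krull dimension d; let Y =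
Spec R with closed point y and punctured spectrum U = Y - {y}. Then the local cohomology groups
H^i_y(Y_et, Z/p) of the constant étale sheaf Z/p with support in the closed point (right derived
functors of sections vanishing on U) are zero for every i < d. -/
theorem result
    (p : ℕ) [Fact p.Prime] (R : Type u) [CommRing R] [LocCoh.IsCohenMacaulayLocalRing R]
    [HenselianLocalRing R] [IsSepClosed (IsLocalRing.ResidueField R)] [CharP R p]
    (i : ℕ) (hi : (i : WithBot ℕ∞) < ringKrullDim R) :
    IsZero ((EtDual.HY (FEt.puncturedSpec R).ι i).obj (EtCoh.const (Spec (CommRingCat.of R)) (ZMod p))) := by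
  haveI : IsLocalRing R := inferInstance
  have h0 : (p : Γ(Spec (CommRingCat.of R), ⊤)) = 0 := by
    rw [← map_natCast (Scheme.ΓSpecIso (CommRingCat.of R)).inv.hom, CharP.cast_eq_zero, map_zero]
  have key : ∀ e : WithBot ℕ∞, (i : WithBot ℕ∞) < e → ((i + 1 : ℕ) : WithBot ℕ∞) ≤ e := by
    intro e he
    induction e using WithBot.recBotCoe with
    | bot => exact absurd he not_lt_bot
    | coe e =>
      have he' : (i : ℕ∞) < e := WithBot.coe_lt_coe.1 he
      refine WithBot.coe_le_coe.2 ?_
      push_cast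
      exact Order.add_one_le_of_lt he'
  have hlt := key _ hi
  let Q := BCInj6.zQuot (FEt.puncturedSpec R).ι
  haveI : Subsingleton (Ext Q (EtCoh.const (Spec (CommRingCat.of R)) (ZMod p)) i) := by
    have hS := GaCoh3.asSeq_shortExact (X := Spec (CommRingCat.of R)) p h0
    haveI := hS.mono_f
    cases i with
    | zero =>
      haveI := subsingleton_ext_Ga R 1 hlt 0 one_pos
      refine subsingleton_of_forall_eq 0 fun y => ?_
      obtain ⟨φ, rfl⟩ := (Ext.mk₀_bijective _ _).2 y
      rw [Ext.mk₀_eq_zero_iff, ← cancel_mono (GaCoh3.asι (X := Spec (CommRingCat.of R)) p h0), zero_comp,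
        ← Ext.mk₀_eq_zero_iff]
      exact Subsingleton.elim _ _
    | succ m =>
      haveI := subsingleton_ext_Ga R (m + 2) hlt (m + 1) (by omega)
      haveI := subsingleton_ext_Ga R (m + 2) hlt m (by omega)
      refine subsingleton_of_forall_eq 0 fun y => ?_
      obtain ⟨z, rfl⟩ := Ext.covariant_sequence_exact₁ Q hS y (Subsingleton.elim _ _) (n₀ := m) rfl
      rw [Subsingleton.elim z 0, Ext.zero_comp]
  exact (AddCommGrpCat.isZero_of_subsingleton (AddCommGrpCat.of (Ext Q _ i))).of_iso
    (BCInj6.zQuotExtIso (FEt.puncturedSpec R).ι (EtCoh.const (Spec (CommRingCat.of R)) (ZMod p)) i).symm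

end Groth.Agent.S19128
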