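import Groth.Statements.S1913
import Groth.Agent.Lib.Diag27.DiagMult
import Groth.Agent.Lib.SmoothReg17.Basic
-- import your own Groth.Agent.* helpers here

set_option autoImplicit false
universe u
open CategoryTheory AlgebraicGeometry
attribute [local instance] HasDerivedCategory.standard
open CategoryTheory.Limits
open IntMult

namespace Groth.Agent.S1913

/-- Reduction to the diagonal for intersection multiplicities, coefficientwise: e(X, V·W, Z) = e(X × X,
Δ·(V × W), Δ(Z)), where X × X is the product over K, Δ its diagonal (a closed immersion, X being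
separated) and V × W ⊆ X × X the product closed subscheme. Here X is a nonsingular variety over an
algebraically closed field K (smooth, separated, of finite type, integral), V and W are closed
subvarieties given by quasi-coherent ideal sheaves with integral subschemes, of dimensions r and s
with dim X = n, intersecting properly, and ξ is the generic point of an irreducible component Z of V
∩ W; e(X, V·W, Z) is the alternating sum of lengths of Tor over 𝒪_{X,ξ}. -/
theorem result (K : Type u) [Field K] [IsAlgClosed K] (X : Scheme.{u}) (f : X ⟶ Spec (CommRingCat.of K)) [Smooth f] [IsSeparated f] [QuasiCompact f] [IsIntegral X] (IV IW : X.IdealSheafData) [IsIntegral IV.subscheme] [IsIntegral IW.subscheme] (n r s : ℕ) (hn : topologicalKrullDim X = n) (hr : topologicalKrullDim IV.support = r) (hs : topologicalKrullDim IW.support = s) (hprop : IntMult.ProperInt (IV.support : Set X) (IW.support : Set X) n r s) (ξ : X) (hξV : ξ ∈ IV.support) (hξW : ξ ∈ IW.support) (hmax : ∀ ξ' : X, ξ' ∈ IV.support → ξ' ∈ IW.support → ξ' ⤳ ξ → ξ' = ξ) : IntMult.mult IV IW ξ = IntMult.mult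 (pullback.map (IV.subschemeι ≫ f) (IW.subschemeι ≫ f) f f IV.subschemeι IW.subschemeι (𝟙 _) (Category.comp_id _) (Category.comp_id _)).ker (pullback.diagonal f).ker (pullback.diagonal f ξ) := by
  set p := pullback.fst f f
  set q := pullback.snd f f
  set z := pullback.diagonal f ξ
  have hp : p z = ξ := by
    rw [← Scheme.Hom.comp_apply, pullback.diagonal_fst]
    rfl
  have hq : q z = ξ := by
    rw [← Scheme.Hom.comp_apply, pullback.diagonal_snd]
    rfl
  haveI := SmoothReg17.isRegularLocalRing_stalk f ξ
  haveI := SmoothReg17.isRegularLocalRing_stalk (p ≫ f) z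
  rw [IntMult.mult, IntMult.mult]
  letI : Algebra (X.presheaf.stalk ξ) ((pullback f f).presheaf.stalk z) := (Diag27.locMap p hp).hom.toAlgebra
  haveI : Module.Flat (X.presheaf.stalk ξ) ((pullback f f).presheaf.stalk z) := by
    have h : (Diag27.locMap p hp).hom.Flat := by
      have h' : (p.stalkMap z).hom.Flat := Flat.stalkMap p z
      have e : IsIso (X.presheaf.stalkSpecializes (hp ▸ specializes_refl ξ : p z ⤳ ξ)) :=
        ⟨X.presheaf.stalkSpecializes (hp ▸ specializes_refl ξ), by simp, by simp⟩
      rw [Diag27.locMap, CommRingCat.hom_comp]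
      exact (RingHom.Flat.of_bijective (ConcreteCategory.bijective_of_isIso _)).comp h'
    exact h
  have hι : (Diag27.locMap q hq).hom.Flat := by
    have h' : (q.stalkMap z).hom.Flat := Flat.stalkMap q z
    have e : IsIso (X.presheaf.stalkSpecializes (hq ▸ specializes_refl ξ : q z ⤳ ξ)) :=
      ⟨X.presheaf.stalkSpecializes (hq ▸ specializes_refl ξ), by simp, by simp⟩
    rw [Diag27.locMap, CommRingCat.hom_comp]
    exact (RingHom.Flat.of_bijective (ConcreteCategory.bijective_of_isIso _)).comp h'
  have h1 : Diag27.locMap p hp ≫ (pullback.diagonal f).stalkMap ξ = 𝟙 _ :=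
    Diag27.locMap_unique p hp (𝟙 _) _ (by
      rw [Spec.map_id, Category.id_comp, Scheme.SpecMap_stalkMap_fromSpecStalk_assoc, pullback.diagonal_fst,
        Category.comp_id])
  have h2 : Diag27.locMap q hq ≫ (pullback.diagonal f).stalkMap ξ = 𝟙 _ :=
    Diag27.locMap_unique q hq (𝟙 _) _ (by
      rw [Spec.map_id, Category.id_comp, Scheme.SpecMap_stalkMap_fromSpecStalk_assoc, pullback.diagonal_snd,
        Category.comp_id])
  have hflat : Module.Flat (X.presheaf.stalk ξ)
      ((pullback f f).presheaf.stalk z ⧸ (IntMult.stalkIdeal IW ξ).map (Diag27.locMap q hq).hom) :=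
    RingHom.flat_algebraMap_iff.1 (Diag27.flat_quot_locMap f IW z hp hq hξW)
  rw [Diag27.chi_diag ((pullback.diagonal f).stalkMap ξ).hom (Diag27.locMap q hq).hom
    (fun a => congr($(h1) a)) (fun a => congr($(h2) a)) hι (IntMult.stalkIdeal IV ξ) (IntMult.stalkIdeal IW ξ) hflat,
    ← Diag27.stI_ker, Diag27.ker_pullback_map f f IV IW _ (pullback.lift_fst _ _ _) (pullback.lift_snd _ _ _), Diag27.stI_sup,
    Diag27.stI_map_locMap p IV hp, Diag27.stI_map_locMap q IW hq]
  rfl

end Groth.Agent.S1913
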