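import Groth.Statements.S19130
import Groth.Agent.Lib.NormSep24.ConstUnit

set_option autoImplicit false
universe u
open CategoryTheory CategoryTheory.Limits AlgebraicGeometry Opposite
open EtCoh

namespace Groth.Agent.S19130
open Groth.Agent

/-- Let p be a prime and Y an integral scheme which is normal (every local ring is integrally closed in
its fraction field) and whose function field is algebraically closed. Then the étale cohomology of
the constant sheaf Z/p on Y is Z/p in degree 0 and vanishes in positive degrees: H^0(Y_et, Z/p) has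
exactly p elements and H^i(Y_et, Z/p) = 0 for i > 0. Moreover, for every nonempty open subscheme j :
U → Y, the unit morphism from the constant sheaf Z/p on Y_et to j_* of its restriction to U is an
isomorphism. -/
theorem result
    (p : ℕ) [Fact p.Prime] (Y : Scheme.{u}) [IsIntegral Y]
    (hnorm : ∀ y : Y, IsIntegrallyClosed (Y.presheaf.stalk y)) [IsAlgClosed Y.functionField] :
    Nat.card (EtCoh.H Y (EtCoh.const Y (ZMod p)) 0) = p ∧
      (∀ i : ℕ, 0 < i → Subsingleton (EtCoh.H Y (EtCoh.const Y (ZMod p)) i)) ∧
      ∀ U : Y.Opens, (U : Set Y).Nonempty →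
        IsIso ((EtCoh.pullPushAdj U.ι).unit.app (EtCoh.const Y (ZMod p))) := by
  have hX : NormSep24.Base Y := ⟨hnorm, inferInstance⟩
  refine ⟨?_, fun i hi => ?_, fun U hU => NormSep24.isIso_unit_const_open hnorm U hU (ZMod p)⟩
  · haveI : IrreducibleSpace (EtCoh.top Y).left := (inferInstance : IrreducibleSpace Y)
    let e : EtCoh.H Y (EtCoh.const Y (ZMod p)) 0 ≃ ZMod p :=
      ((Equiv.ofBijective _ (Abelian.Ext.mk₀_bijective (EtCoh.const Y ℤ)
          (EtCoh.const Y (ZMod p)))).symm.trans
        (((EtCore.constAdj Y).homEquiv _ _).trans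
          (AddCommGrpCat.uliftZMultiplesAddEquiv _).toEquiv)).trans
        ((Equiv.ofBijective _ (NormSep24.cst_bijective (ZMod p) (EtCoh.top Y) inferInstance)).symm.trans
          Equiv.ulift)
    rw [Nat.card_congr e, Nat.card_zmod]
  · obtain ⟨n, rfl⟩ := Nat.exists_eq_add_of_le' hi
    exact NormSep24.subsingleton_H_of_flasque (NormSep24.zl_of_base hX) n _
      (NormSep24.flasque_const (NormSep24.zl_of_base hX) (ZMod p))

end Groth.Agent.S19130
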