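import Groth.Statements.S19131
import Mathlib

set_option autoImplicit false
universe v u v' u'
open CategoryTheory CategoryTheory.Limits CategoryTheory.Pretriangulated CategoryTheory.Triangulated
open PervT

namespace Groth.Agent.S19131

open CategoryTheory CategoryTheory.Limits CategoryTheory.Pretriangulated CategoryTheory.Triangulated

noncomputable section
variable {C : Type u} [Category.{v} C] [Preadditive C] [HasZeroObject C] [HasShift C ℤ]
    [∀ n : ℤ, (shiftFunctor C n).Additive] [Pretriangulated C] [IsTriangulated C]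
    (t : TStructure C) (hb : ∀ X : C, t.bounded X)
    (D : ObjectProperty C) [D.IsTriangulated] [D.IsClosedUnderIsomorphisms]
    (h1 : ∀ X : C, D X → ∀ n : ℤ, D ((t.truncGELE n n).obj X))
    (h2 : ∀ (X Y Z : C) (f : X ⟶ Y) (g : Y ⟶ Z) (h : Z ⟶ X⟦(1 : ℤ)⟧),
      Triangle.mk f g h ∈ distTriang C → t.heart X → t.heart Y → t.heart Z → D Y → D X ∧ D Z)

include hb h1 in
theorem truncLT_mem (Z : C) (hZ : D Z) (n : ℤ) : D ((t.truncLT n).obj Z) := by
  obtain ⟨⟨a, ha⟩, ⟨b₀, hb₀⟩⟩ := hb Z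
  suffices H : ∀ (k : ℕ) (Z : C), D Z → ∀ b : ℤ, b ≤ a + k → t.IsGE Z a → t.IsLE Z b →
      ∀ n, D ((t.truncLT n).obj Z) from H (b₀ - a).toNat Z hZ b₀ (by omega) ha hb₀ n
  intro k
  induction k with
  | zero =>
    intro Z hZ b hb' hg hl n
    by_cases hn : a < n
    · haveI : t.IsLE Z (n - 1) := t.isLE_of_le Z b (n - 1) (by omega)
      haveI := (t.isLE_iff_isIso_truncLTι_app (n - 1) n (by omega) Z).1 inferInstance
      exact D.prop_of_iso (asIso ((t.truncLTι n).app Z)).symm hZ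
    · haveI : t.IsGE Z n := t.isGE_of_ge Z n a (by omega)
      exact ObjectProperty.prop_of_isZero D (t.isZero_truncLT_obj_of_isGE n Z)
  | succ k ih =>
    intro Z hZ b hb' hg hl n
    by_cases hn : b < n
    · haveI : t.IsLE Z (n - 1) := t.isLE_of_le Z b (n - 1) (by omega)
      haveI := (t.isLE_iff_isIso_truncLTι_app (n - 1) n (by omega) Z).1 inferInstance
      exact D.prop_of_iso (asIso ((t.truncLTι n).app Z)).symm hZ
    by_cases hn' : n ≤ a
    · haveI : t.IsGE Z n := t.isGE_of_ge Z n a hn'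
      exact ObjectProperty.prop_of_isZero D (t.isZero_truncLT_obj_of_isGE n Z)
    haveI : IsIso ((t.truncLEι b).app Z) := inferInstance
    have htop : D ((t.truncGE b).obj Z) :=
      D.prop_of_iso ((t.truncGE b).mapIso (asIso ((t.truncLEι b).app Z))) (h1 Z hZ b)
    have hL : D ((t.truncLT b).obj Z) :=
      D.ext_of_isTriangulatedClosed₁ _ (t.triangleLTGE_distinguished b Z) hZ htop
    haveI := t.isIso_truncLT_map_truncLTι_app n b (by omega) Z
    exact D.prop_of_iso (asIso ((t.truncLT n).map ((t.truncLTι b).app Z)))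
      (ih _ hL (b - 1) (by omega) (inferInstanceAs (t.IsGE ((t.truncLT b).obj Z) a)) inferInstance n)

include hb h1 h2 in
theorem truncLT_one_mem {Y Y' : C} [t.IsGE Y 1] (s : Y ⟶ Y') (hs : D.trW s) :
    D ((t.truncLT 1).obj Y') := by
  obtain ⟨Z, v, w, hT, hZ⟩ := hs
  let L := (t.truncLT 1).obj Y'
  let L₁ := (t.truncLT 1).obj Z
  let β : L ⟶ L₁ := (t.truncLT 1).map v
  haveI : t.IsLE L 0 := t.isLE_truncLT_obj Y' 1 0 (by omega)
  haveI : t.IsLE L₁ 0 := t.isLE_truncLT_obj Z 1 0 (by omega)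
  obtain ⟨W, γ, δ, hW⟩ := distinguished_cocone_triangle β
  obtain ⟨V, v₁₃, w₁₃, hV⟩ := distinguished_cocone_triangle ((t.truncLTι 1).app Y' ≫ v)
  have hVge : t.IsGE V 0 := by
    have h0 := rot_of_distTriang _ hT
    let O := someOctahedron (rfl : (t.truncLTι 1).app Y' ≫ v = _) (t.triangleLTGE_distinguished 1 Y') h0 hV
    exact t.isGE₂ _ O.mem 0 (t.isGE_of_ge ((t.truncGE 1).obj Y') 0 1)
      (show t.IsGE (Y⟦(1 : ℤ)⟧) 0 from t.isGE_shift Y 1 1 0)
  have hWge : t.IsGE W 0 := by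
    let O := someOctahedron ((t.truncLTι 1).naturality v : β ≫ (t.truncLTι 1).app Z = _) hW
      (t.triangleLTGE_distinguished 1 Z) hV
    refine t.isGE₂ _ (inv_rot_of_distTriang _ O.mem) 0 ?_ hVge
    haveI : t.IsGE (((t.truncGE 1).obj Z)⟦(-1 : ℤ)⟧) 2 := t.isGE_shift _ 1 (-1) 2
    exact t.isGE_of_ge (((t.truncGE 1).obj Z)⟦(-1 : ℤ)⟧) 0 2
  let Lm := (t.truncLT 0).obj L₁
  let H := (t.truncGE 0).obj L₁
  haveI : t.IsLE Lm (-1) := t.isLE_truncLT_obj L₁ 0 (-1) (by omega)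
  haveI := hWge
  obtain ⟨lam, hlam⟩ := Triangle.coyoneda_exact₂ _ hW ((t.truncLTι 0).app L₁)
    (show (t.truncLTι 0).app L₁ ≫ γ = 0 from t.zero (_ : Lm ⟶ W) (-1) 0)
  change Lm ⟶ L at lam
  change (t.truncLTι 0).app L₁ = lam ≫ β at hlam
  obtain ⟨K, κ, κ', hK⟩ := distinguished_cocone_triangle lam
  let O := someOctahedron hlam.symm hK hW (t.triangleLTGE_distinguished 0 L₁)
  have hKle : t.IsLE K 0 := by
    refine t.isLE₂ _ (rot_of_distTriang _ hK) 0 ‹t.IsLE L 0› ?_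
    haveI : t.IsLE (Lm⟦(1 : ℤ)⟧) (-2) := t.isLE_shift _ (-1) 1 (-2)
    exact t.isLE_of_le (Lm⟦(1 : ℤ)⟧) (-2) 0
  have hHge : t.IsGE H 0 := inferInstanceAs (t.IsGE ((t.truncGE 0).obj L₁) 0)
  have hHle : t.IsLE H 0 := inferInstanceAs (t.IsLE ((t.truncGE 0).obj L₁) 0)
  have hWle : t.IsLE W 0 := by
    refine t.isLE₂ _ (rot_of_distTriang _ hW) 0 ‹t.IsLE L₁ 0› ?_
    haveI : t.IsLE (L⟦(1 : ℤ)⟧) (-1) := t.isLE_shift _ 0 1 (-1)
    exact t.isLE_of_le (L⟦(1 : ℤ)⟧) (-1) 0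
  have hKge : t.IsGE K 0 := by
    refine t.isGE₂ _ (inv_rot_of_distTriang _ O.mem) 0 ?_ hHge
    haveI : t.IsGE (W⟦(-1 : ℤ)⟧) 1 := t.isGE_shift _ 0 (-1) 1
    exact t.isGE_of_ge (W⟦(-1 : ℤ)⟧) 0 1
  have hL₁ : D L₁ := truncLT_mem t hb D h1 Z hZ 1
  have hLm : D Lm := truncLT_mem t hb D h1 L₁ hL₁ 0
  have hH : D H := D.ext_of_isTriangulatedClosed₃ _ (t.triangleLTGE_distinguished 0 L₁) hLm hL₁
  have hKD : D K := (h2 _ _ _ _ _ _ O.mem ((t.mem_heart_iff K).2 ⟨hKle, hKge⟩)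
    ((t.mem_heart_iff H).2 ⟨hHle, hHge⟩) ((t.mem_heart_iff W).2 ⟨hWle, hWge⟩) hH).1
  exact D.ext_of_isTriangulatedClosed₂ _ hK hLm hKD

variable {E : Type u'} [Category.{v'} E] [Preadditive E] [HasZeroObject E] [HasShift E ℤ]
    [∀ n : ℤ, (shiftFunctor E n).Additive] [Pretriangulated E]
    (q : C ⥤ E) [q.CommShift ℤ] [q.IsTriangulated] [q.IsLocalization D.trW]

def le' (n : ℤ) : ObjectProperty E := fun Y => ∃ X : C, t.IsLE X n ∧ Nonempty (q.obj X ≅ Y)

def ge' (n : ℤ) : ObjectProperty E := fun Y => ∃ X : C, t.IsGE X n ∧ Nonempty (q.obj X ≅ Y)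

include hb h1 h2 in
theorem hom_zero {X Y : C} [t.IsLE X 0] [t.IsGE Y 1] (φ : q.obj X ⟶ q.obj Y) : φ = 0 := by
  obtain ⟨F, hF⟩ := Localization.exists_leftFraction q D.trW φ
  haveI := Localization.inverts q D.trW _ F.hs
  have hT := t.triangleLTGE_distinguished 1 F.Y'
  have hL := truncLT_one_mem t hb D h1 h2 F.s F.hs
  haveI : IsIso (q.map ((t.truncGEπ 1).app F.Y')) :=
    Localization.inverts q D.trW _ (ObjectProperty.trW.mk' D hT hL)
  have h0 : q.map F.f = 0 := by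
    rw [← cancel_mono (q.map ((t.truncGEπ 1).app F.Y')), zero_comp, ← q.map_comp,
      t.zero (F.f ≫ (t.truncGEπ 1).app F.Y') 0 1]
    exact q.map_zero _ _
  rw [← cancel_mono (q.map F.s), zero_comp, hF, MorphismProperty.LeftFraction.map_comp_map_s, h0]

def tE : TStructure E where
  le := le' t q
  ge := ge' t q
  le_isClosedUnderIsomorphisms n := ⟨fun e => fun ⟨X, hX, ⟨e'⟩⟩ => ⟨X, hX, ⟨e' ≪≫ e⟩⟩⟩
  ge_isClosedUnderIsomorphisms n := ⟨fun e => fun ⟨X, hX, ⟨e'⟩⟩ => ⟨X, hX, ⟨e' ≪≫ e⟩⟩⟩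
  le_shift n a n' h Y := fun ⟨X, hX, ⟨e⟩⟩ =>
    ⟨X⟦a⟧, t.isLE_shift X n a n', ⟨(q.commShiftIso a).app X ≪≫ (shiftFunctor E a).mapIso e⟩⟩
  ge_shift n a n' h Y := fun ⟨X, hX, ⟨e⟩⟩ =>
    ⟨X⟦a⟧, t.isGE_shift X n a n', ⟨(q.commShiftIso a).app X ≪≫ (shiftFunctor E a).mapIso e⟩⟩
  zero' := by
    rintro Y₁ Y₂ f ⟨X₁, hX₁, ⟨e₁⟩⟩ ⟨X₂, hX₂, ⟨e₂⟩⟩
    have := hom_zero t hb D h1 h2 q (e₁.hom ≫ f ≫ e₂.inv)
    rw [← cancel_epi e₁.hom, ← cancel_mono e₂.inv, Category.assoc, this, comp_zero, zero_comp]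
  le_zero_le := fun Y ⟨X, hX, e⟩ => ⟨X, t.isLE_of_le X 0 1, e⟩
  ge_one_le := fun Y ⟨X, hX, e⟩ => ⟨X, t.isGE_of_ge X 0 1, e⟩
  exists_triangle_zero_one := fun A => by
    haveI := Localization.essSurj q D.trW
    obtain ⟨X₁, X₂, h₁, h₂, f, g, h, hT⟩ := t.exists_triangle_zero_one (q.objPreimage A)
    let e := q.objObjPreimageIso A
    have hT' := q.map_distinguished _ hT
    refine ⟨q.obj X₁, q.obj X₂, ⟨X₁, ⟨h₁⟩, ⟨Iso.refl _⟩⟩, ⟨X₂, ⟨h₂⟩, ⟨Iso.refl _⟩⟩, q.map f ≫ e.hom,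
      e.inv ≫ q.map g, q.map h ≫ (q.commShiftIso (1 : ℤ)).hom.app X₁, isomorphic_distinguished _ hT' _ ?_⟩
    exact Triangle.isoMk _ _ (Iso.refl _) e.symm (Iso.refl _)
      ((Category.assoc _ _ _).trans ((congrArg (q.map f ≫ ·) e.hom_inv_id).trans
        ((Category.comp_id _).trans (Category.id_comp _).symm)))
      (Category.comp_id _)
      ((congrArg (_ ≫ ·) (CategoryTheory.Functor.map_id _ _)).trans ((Category.comp_id _).trans (Category.id_comp _).symm))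

end


/-- Let C be a triangulated category (octahedron axiom included) carrying a bounded t-structure t (every
object is ≥ a and ≤ b for some integers a, b), and let D be a strictly full triangulated subcategory
of C (a property of objects containing zero, stable under shifts, extensions and isomorphisms) such
that (1) for X in D and every integer n the n-th cohomology object of X for t, realised as τ^{≥ n}
τ^{≤ n} X, lies in D, and (2) the objects of D in the heart of t are closed under subobjects and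
quotients in the heart: for every distinguished triangle X → Y → Z → X[1] whose three vertices lie
in the heart, if Y is in D then so are X and Z. Let q : C ⥤ E be a triangulated functor to a
pretriangulated category E which exhibits E as the localization of C at the class of morphisms whose
cone lies in D (the Verdier quotient of C by D). Then E carries exactly one t-structure for which q
is t-exact (q sends objects ≤ n to objects ≤ n and objects ≥ n to objects ≥ n), and for this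
t-structure an object of E is ≤ n, respectively ≥ n, if and only if it is isomorphic to q X for some
X ≤ n, respectively X ≥ n, in C. (The source also identifies the heart of this t-structure with the
quotient of the heart of t by its intersection with D; that identification is not asserted here.) -/
theorem result
    {C : Type u} [Category.{v} C] [Preadditive C] [HasZeroObject C] [HasShift C ℤ]
    [∀ n : ℤ, (shiftFunctor C n).Additive] [Pretriangulated C] [IsTriangulated C]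
    (t : TStructure C) (hb : ∀ X : C, t.bounded X)
    (D : ObjectProperty C) [D.IsTriangulated] [D.IsClosedUnderIsomorphisms]
    (h1 : ∀ X : C, D X → ∀ n : ℤ, D ((t.truncGELE n n).obj X))
    (h2 : ∀ (X Y Z : C) (f : X ⟶ Y) (g : Y ⟶ Z) (h : Z ⟶ X⟦(1 : ℤ)⟧),
      Triangle.mk f g h ∈ distTriang C → t.heart X → t.heart Y → t.heart Z → D Y → D X ∧ D Z)
    {E : Type u'} [Category.{v'} E] [Preadditive E] [HasZeroObject E] [HasShift E ℤ]
    [∀ n : ℤ, (shiftFunctor E n).Additive] [Pretriangulated E]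
    (q : C ⥤ E) [q.CommShift ℤ] [q.IsTriangulated] [q.IsLocalization D.trW] :
    ∃ t' : TStructure E,
      (∀ (X : C) (n : ℤ), t.IsLE X n → t'.IsLE (q.obj X) n) ∧
      (∀ (X : C) (n : ℤ), t.IsGE X n → t'.IsGE (q.obj X) n) ∧
      (∀ (Y : E) (n : ℤ), t'.IsLE Y n ↔ ∃ X : C, t.IsLE X n ∧ Nonempty (q.obj X ≅ Y)) ∧
      (∀ (Y : E) (n : ℤ), t'.IsGE Y n ↔ ∃ X : C, t.IsGE X n ∧ Nonempty (q.obj X ≅ Y)) ∧
      ∀ t'' : TStructure E,
        (∀ (X : C) (n : ℤ), t.IsLE X n → t''.IsLE (q.obj X) n) →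
        (∀ (X : C) (n : ℤ), t.IsGE X n → t''.IsGE (q.obj X) n) → t'' = t' := by
  let t' := tE t hb D h1 h2 q
  have hle : ∀ (Y : E) (n : ℤ), t'.IsLE Y n ↔ ∃ X : C, t.IsLE X n ∧ Nonempty (q.obj X ≅ Y) :=
    fun Y n => ⟨fun h => h.le, fun h => ⟨h⟩⟩
  have hge : ∀ (Y : E) (n : ℤ), t'.IsGE Y n ↔ ∃ X : C, t.IsGE X n ∧ Nonempty (q.obj X ≅ Y) :=
    fun Y n => ⟨fun h => h.ge, fun h => ⟨h⟩⟩
  refine ⟨t', fun X n h => (hle _ _).2 ⟨X, h, ⟨Iso.refl _⟩⟩, fun X n h => (hge _ _).2 ⟨X, h, ⟨Iso.refl _⟩⟩,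
    hle, hge, fun t'' hL hG => ?_⟩
  have el : ∀ (Y : E) (n : ℤ), t'.IsLE Y n → t''.IsLE Y n := fun Y n h => by
    obtain ⟨X, hX, ⟨e⟩⟩ := (hle Y n).1 h
    haveI := hL X n hX
    exact t''.isLE_of_iso e n
  have eg : ∀ (Y : E) (n : ℤ), t'.IsGE Y n → t''.IsGE Y n := fun Y n h => by
    obtain ⟨X, hX, ⟨e⟩⟩ := (hge Y n).1 h
    haveI := hG X n hX
    exact t''.isGE_of_iso e n
  have el' : ∀ (Y : E) (n : ℤ), t''.IsLE Y n → t'.IsLE Y n := fun Y n h => by
    rw [t'.isLE_iff_orthogonal n (n + 1) rfl]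
    intro B f hB
    haveI := eg B (n + 1) hB
    exact t''.zero f n (n + 1)
  have eg' : ∀ (Y : E) (n : ℤ), t''.IsGE Y n → t'.IsGE Y n := fun Y n h => by
    rw [t'.isGE_iff_orthogonal (n - 1) n (by omega)]
    intro B f hB
    haveI := el B (n - 1) hB
    exact t''.zero f (n - 1) n
  have hle' : t''.le = t'.le := funext fun n => funext fun Y => propext
    ⟨fun h => (el' Y n ⟨h⟩).le, fun h => (el Y n ⟨h⟩).le⟩
  have hge' : t''.ge = t'.ge := funext fun n => funext fun Y => propext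
    ⟨fun h => (eg' Y n ⟨h⟩).ge, fun h => (eg Y n ⟨h⟩).ge⟩
  clear el eg el' eg' hle hge hL hG
  revert hle' hge'
  obtain ⟨_, _⟩ := t''
  rcases t' with ⟨_, _⟩
  rintro rfl rfl
  rfl


end Groth.Agent.S19131
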