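import Groth.Statements.S19136
import Mathlib.Tactic
import Mathlib.LinearAlgebra.FreeModule.PID
import Mathlib.LinearAlgebra.Dimension.Finrank
import Mathlib.Algebra.MonoidAlgebra.MapDomain
import Mathlib.Algebra.MonoidAlgebra.Basic
import Mathlib.RingTheory.GradedAlgebra.Basic
import Mathlib.RingTheory.FiniteType
import Mathlib.Analysis.Seminorm
import Mathlib.Algebra.Module.CharacterModule
import Mathlib.Topology.Algebra.Group.Basic
import Mathlib.GroupTheory.FiniteAbelian.Basic
import Mathlib.NumberTheory.Padics.PadicVal.Basic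
import Mathlib.Data.Nat.Factorial.BigOperators
import Mathlib.Algebra.CharP.Basic
import Mathlib.Data.Nat.Choose.Sum

set_option autoImplicit false
universe u
open Instab

namespace Groth.Agent.S19136

/-- Let p be a seminorm and ℓ a linear form on a real vector space, let y₀ and y₁ be vectors at which p
is positive and ℓ is non-negative, and let y = t y₀ + (1 - t) y₁ with 0 < t < 1 be a point of the
open segment at which p is positive. Then ℓ(y)/p(y) is at least the smaller of ℓ(y₀)/p(y₀) and
ℓ(y₁)/p(y₁), and if it equals that smaller value then ℓ(y₀)/p(y₀) = ℓ(y₁)/p(y₁). (The published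
lemma concerns the numerical invariant attached to a degree-two cohomology class and a semi-norm on
graded points of a stack; restricted to one rational simplex that invariant is the quotient of a
linear form by a semi-norm on the non-negative orthant of a real coordinate space, and local
quasi-concavity there amounts to this inequality with its equality clause, the set where the linear
form is non-negative being automatically convex; the lemma's further assertion, that the invariant
is positive at no pair of antipodal points, is not stated here. The vector space is arbitrary here.) -/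
theorem result {E : Type u} [AddCommGroup E] [Module ℝ E]
    (p : Seminorm ℝ E) (ℓ : E →ₗ[ℝ] ℝ) (y₀ y₁ : E) (h₀ : 0 < p y₀) (h₁ : 0 < p y₁)
    (hℓ₀ : 0 ≤ ℓ y₀) (hℓ₁ : 0 ≤ ℓ y₁) (t : ℝ) (ht₀ : 0 < t) (ht₁ : t < 1)
    (hy : 0 < p (t • y₀ + (1 - t) • y₁)) :
    min (ℓ y₀ / p y₀) (ℓ y₁ / p y₁) ≤ ℓ (t • y₀ + (1 - t) • y₁) / p (t • y₀ + (1 - t) • y₁) ∧
      (ℓ (t • y₀ + (1 - t) • y₁) / p (t • y₀ + (1 - t) • y₁) = min (ℓ y₀ / p y₀) (ℓ y₁ / p y₁) →
        ℓ y₀ / p y₀ = ℓ y₁ / p y₁) := by
  have hp : p (t • y₀ + (1 - t) • y₁) ≤ t * p y₀ + (1 - t) * p y₁ := by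
    refine (map_add_le_add p _ _).trans (le_of_eq ?_)
    rw [map_smul_eq_mul, map_smul_eq_mul, Real.norm_of_nonneg ht₀.le, Real.norm_of_nonneg (by linarith)]
  have hl : ℓ (t • y₀ + (1 - t) • y₁) = t * ℓ y₀ + (1 - t) * ℓ y₁ := by simp
  obtain ⟨m, hm0, hm, a, ha, b, hb⟩ : ∃ m, 0 ≤ m ∧ m = min (ℓ y₀ / p y₀) (ℓ y₁ / p y₁) ∧
      ∃ a, (ℓ y₀ = m * p y₀ + a ∧ 0 ≤ a) ∧ ∃ b, (ℓ y₁ = m * p y₁ + b ∧ 0 ≤ b) := by
    refine ⟨_, le_min (by positivity) (by positivity), rfl, _, ⟨(add_sub_cancel _ _).symm, ?_⟩, _, (add_sub_cancel _ _).symm, ?_⟩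
    · rw [sub_nonneg, ← le_div_iff₀ h₀]; exact min_le_left _ _
    · rw [sub_nonneg, ← le_div_iff₀ h₁]; exact min_le_right _ _
  rw [← hm]
  have hmp := mul_le_mul_of_nonneg_left hp hm0
  have hta : 0 ≤ t * a := mul_nonneg ht₀.le ha.2
  have htb : 0 ≤ (1 - t) * b := mul_nonneg (by linarith) hb.2
  refine ⟨?_, fun h => ?_⟩
  · rw [le_div_iff₀ hy, hl, ha.1, hb.1]; linarith
  · rw [div_eq_iff hy.ne', hl, ha.1, hb.1] at h
    have h1 : t * a = 0 := by linarith
    have h2 : (1 - t) * b = 0 := by linarith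
    have a0 : a = 0 := (mul_eq_zero.1 h1).resolve_left ht₀.ne'
    have b0 : b = 0 := (mul_eq_zero.1 h2).resolve_left (by linarith)
    rw [ha.1, hb.1, a0, b0, add_zero, add_zero, mul_div_assoc, mul_div_assoc, div_self h₀.ne', div_self h₁.ne']

end Groth.Agent.S19136
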