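import Groth.Statements.S19137
import Mathlib.Tactic
import Mathlib.LinearAlgebra.FreeModule.PID
import Mathlib.LinearAlgebra.Dimension.Finrank
import Mathlib.Algebra.MonoidAlgebra.MapDomain
import Mathlib.Algebra.MonoidAlgebra.Basic
import Mathlib.RingTheory.GradedAlgebra.Basic
import Mathlib.RingTheory.FiniteType
import Mathlib.Analysis.Seminorm
import Mathlib.Algebra.Module.CharacterModule
import Mathlib.Topology.Algebra.Group.Basic
import Mathlib.GroupTheory.FiniteAbelian.Basic
import Mathlib.NumberTheory.Padics.PadicVal.Basic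
import Mathlib.Data.Nat.Factorial.BigOperators
import Mathlib.Algebra.CharP.Basic
import Mathlib.Data.Nat.Choose.Sum

set_option autoImplicit false
universe u
open Instab

namespace Groth.Agent.S19137

/-- Let p be a seminorm on a real vector space whose unit ball is strictly convex in the sense that p(a
+ b) < p(a) + p(b) whenever p(a) and p(b) are non-zero and b is not a positive multiple of a; let ℓ
be a linear form, y₀ and y₁ vectors with p and ℓ positive at both and y₁ not a positive multiple of
y₀, and y = t y₀ + (1 - t) y₁ with 0 < t < 1 a point at which p is positive. Then ℓ(y)/p(y) is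
strictly greater than the smaller of ℓ(y₀)/p(y₀) and ℓ(y₁)/p(y₁). (The published lemma says that
when the norm on graded points is locally a norm with strictly convex unit balls, the numerical
invariant attached to a degree-two class and that norm is strictly quasi-concave on each cone and is
positive at no pair of antipodal points; on one rational simplex the first property is this strict
form of the quasi-concavity inequality for the quotient of a linear form by the norm, at points
where the linear form is positive, and the second property is not stated here. The vector space is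
arbitrary here.) -/
theorem result {E : Type u} [AddCommGroup E] [Module ℝ E]
    (p : Seminorm ℝ E)
    (hp : ∀ a b : E, p a ≠ 0 → p b ≠ 0 → (¬ ∃ c : ℝ, 0 < c ∧ b = c • a) → p (a + b) < p a + p b)
    (ℓ : E →ₗ[ℝ] ℝ) (y₀ y₁ : E) (h₀ : 0 < p y₀) (h₁ : 0 < p y₁)
    (hℓ₀ : 0 < ℓ y₀) (hℓ₁ : 0 < ℓ y₁) (hne : ¬ ∃ c : ℝ, 0 < c ∧ y₁ = c • y₀)
    (t : ℝ) (ht₀ : 0 < t) (ht₁ : t < 1) (hy : 0 < p (t • y₀ + (1 - t) • y₁)) :
    min (ℓ y₀ / p y₀) (ℓ y₁ / p y₁) < ℓ (t • y₀ + (1 - t) • y₁) / p (t • y₀ + (1 - t) • y₁) := by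
  have ht1' : (0:ℝ) < 1 - t := by linarith
  have e0 : p (t • y₀) = t * p y₀ := by rw [map_smul_eq_mul, Real.norm_of_nonneg ht₀.le]
  have e1 : p ((1 - t) • y₁) = (1 - t) * p y₁ := by rw [map_smul_eq_mul, Real.norm_of_nonneg ht1'.le]
  have hp' : p (t • y₀ + (1 - t) • y₁) < t * p y₀ + (1 - t) * p y₁ := by
    rw [← e0, ← e1]
    refine hp _ _ (by rw [e0]; positivity) (by rw [e1]; positivity) ?_
    rintro ⟨c, hc, h⟩
    refine hne ⟨(1-t)⁻¹ * (c * t), by positivity, ?_⟩
    rw [mul_smul, mul_smul, ← h, inv_smul_smul₀ ht1'.ne']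
  have hl : ℓ (t • y₀ + (1 - t) • y₁) = t * ℓ y₀ + (1 - t) * ℓ y₁ := by simp
  rw [lt_div_iff₀ hy, hl]
  have hm0 : 0 < min (ℓ y₀ / p y₀) (ℓ y₁ / p y₁) := lt_min (by positivity) (by positivity)
  have ha := (le_div_iff₀ h₀).1 (min_le_left (ℓ y₀ / p y₀) (ℓ y₁ / p y₁))
  have hb := (le_div_iff₀ h₁).1 (min_le_right (ℓ y₀ / p y₀) (ℓ y₁ / p y₁))
  nlinarith [mul_lt_mul_of_pos_left hp' hm0, mul_le_mul_of_nonneg_left ha ht₀.le, mul_le_mul_of_nonneg_left hb ht1'.le]

end Groth.Agent.S19137
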