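import Groth.Statements.S19138
import Mathlib.Analysis.Convex.StdSimplex
import Mathlib.Analysis.Calculus.LocalExtr.Basic
import Mathlib.Analysis.Calculus.Deriv.Pow
import Mathlib.Analysis.Calculus.Deriv.Mul
import Mathlib.LinearAlgebra.Matrix.NonsingularInverse
import Mathlib.LinearAlgebra.Matrix.ToLinearEquiv
import Mathlib.Topology.Instances.Matrix

set_option autoImplicit false
open Instab

namespace Groth.Agent.S19138

open Matrix in
/-- Let ℓ ∈ ℚⁿ and let B be a rational n × n matrix whose real quadratic form q(y) = y · (B y) is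
non-negative on ℝⁿ and positive at every non-zero point of the non-negative orthant. If ℓ · y > 0 at
some point of the orthant, then the function ℓ · y / √q(y) on the non-zero points of the orthant
attains its maximum at a point with rational coordinates. (The published lemma says that the
numerical invariant attached to a rational degree-two class and such a norm on graded points attains
its maximum on each rational simplex at a rational point whenever it is positive somewhere on that
simplex; on one rational simplex that invariant is this function, so this is what is asked there.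
The case of a piecewise rational linear norm is not stated here.) -/
theorem result (n : ℕ) (ℓ : Fin n → ℚ)
    (B : Matrix (Fin n) (Fin n) ℚ)
    (hnn : ∀ y : Fin n → ℝ, 0 ≤ y ⬝ᵥ (B.map (fun r : ℚ => (r : ℝ))) *ᵥ y)
    (hpos : ∀ y : Fin n → ℝ, (∀ i, 0 ≤ y i) → y ≠ 0 → 0 < y ⬝ᵥ (B.map (fun r : ℚ => (r : ℝ))) *ᵥ y)
    (hℓ : ∃ y : Fin n → ℝ, (∀ i, 0 ≤ y i) ∧ 0 < (fun i => (ℓ i : ℝ)) ⬝ᵥ y) :
    ∃ x : Fin n → ℚ, (∀ i, 0 ≤ x i) ∧ x ≠ 0 ∧
      ∀ y : Fin n → ℝ, (∀ i, 0 ≤ y i) → y ≠ 0 →
        (fun i => (ℓ i : ℝ)) ⬝ᵥ y / Real.sqrt (y ⬝ᵥ (B.map (fun r : ℚ => (r : ℝ))) *ᵥ y) ≤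
          (fun i => (ℓ i : ℝ)) ⬝ᵥ (fun i => (x i : ℝ)) /
            Real.sqrt ((fun i => (x i : ℝ)) ⬝ᵥ (B.map (fun r : ℚ => (r : ℝ))) *ᵥ (fun i => (x i : ℝ))) := by
  classical
  set Bs : Matrix (Fin n) (Fin n) ℝ := B.map (fun r : ℚ => (r : ℝ)) with hBs
  set lR : Fin n → ℝ := fun i => (ℓ i : ℝ) with hlR
  set q : (Fin n → ℝ) → ℝ := fun y => y ⬝ᵥ Bs *ᵥ y with hq
  set G : (Fin n → ℝ) → ℝ := fun y => lR ⬝ᵥ y / Real.sqrt (q y) with hG
  have hG_smul : ∀ (c : ℝ) y, 0 < c → G (c • y) = G y := fun c y hc => by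
    simp only [hG, hq, dotProduct_smul, Matrix.mulVec_smul, smul_dotProduct, smul_eq_mul]
    rw [← mul_assoc, Real.sqrt_mul (mul_self_nonneg c), Real.sqrt_mul_self hc.le,
      mul_div_mul_left _ _ hc.ne']
  -- a maximizer on the simplex
  obtain ⟨y1, hy1, hy1l⟩ := hℓ
  have hy10 : y1 ≠ 0 := by rintro rfl; simp at hy1l
  have hsum : ∀ y : Fin n → ℝ, (∀ i, 0 ≤ y i) → y ≠ 0 → 0 < ∑ i, y i := by
    intro y hy h0
    obtain ⟨i, hi⟩ := Function.ne_iff.mp h0
    exact Finset.sum_pos' (fun i _ => hy i) ⟨i, Finset.mem_univ _, lt_of_le_of_ne (hy i) (Ne.symm hi)⟩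
  have hnorm : ∀ y : Fin n → ℝ, (∀ i, 0 ≤ y i) → y ≠ 0 →
      (∑ i, y i)⁻¹ • y ∈ stdSimplex ℝ (Fin n) := fun y hy h0 => by
    refine ⟨fun i => mul_nonneg (inv_nonneg.mpr (hsum y hy h0).le) (hy i), ?_⟩
    simp only [Pi.smul_apply, smul_eq_mul, ← Finset.mul_sum]
    exact inv_mul_cancel₀ (hsum y hy h0).ne'
  have hne : ∀ y ∈ stdSimplex ℝ (Fin n), y ≠ 0 := fun y hy h => by
    simpa [h] using hy.2
  have hcont : ContinuousOn G (stdSimplex ℝ (Fin n)) := by
    refine ContinuousOn.div (by fun_prop) ((Real.continuous_sqrt.comp ?_).continuousOn) (fun y hy => ?_)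
    · simp only [hq]; fun_prop
    · exact (Real.sqrt_pos.mpr (hpos y hy.1 (hne y hy))).ne'
  obtain ⟨x0, hx0, hmax0⟩ := (isCompact_stdSimplex ℝ (Fin n)).exists_isMaxOn ⟨_, hnorm y1 hy1 hy10⟩ hcont
  have hmax : ∀ y, (∀ i, 0 ≤ y i) → y ≠ 0 → G y ≤ G x0 := fun y hy h0 => by
    rw [← hG_smul _ y (inv_pos.mpr (hsum y hy h0))]
    exact hmax0 (hnorm y hy h0)
  have hM : 0 < G x0 := lt_of_lt_of_le (div_pos hy1l (Real.sqrt_pos.mpr (hpos y1 hy1 hy10))) (hmax y1 hy1 hy10)
  -- one of smallest support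
  let supp : (Fin n → ℝ) → Finset (Fin n) := fun y => Finset.univ.filter (fun i => y i ≠ 0)
  have hex : ∃ m, ∃ y : Fin n → ℝ, (∀ i, 0 ≤ y i) ∧ y ≠ 0 ∧ G y = G x0 ∧ (supp y).card = m :=
    ⟨_, x0, hx0.1, hne x0 hx0, rfl, rfl⟩
  obtain ⟨x', hx', hx'0, hx'G, hx'c⟩ := Nat.find_spec hex
  have hmin : ∀ y, (∀ i, 0 ≤ y i) → y ≠ 0 → G y = G x0 → (supp x').card ≤ (supp y).card :=
    fun y hy h0 hyG => hx'c ▸ Nat.find_min' hex ⟨y, hy, h0, hyG, rfl⟩
  -- rescale so that `q x = ℓ ⬝ x`
  have hq' : 0 < q x' := hpos x' hx' hx'0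
  have hl' : 0 < lR ⬝ᵥ x' := by
    have h : 0 < G x' := hx'G ▸ hM
    rcases div_pos_iff.mp h with ⟨h, -⟩ | ⟨-, h⟩
    · exact h
    · exact absurd h (not_lt.mpr (Real.sqrt_nonneg _))
  set c := lR ⬝ᵥ x' / q x' with hcdef
  have hc : 0 < c := div_pos hl' hq'
  set x := c • x' with hxdef
  have hx : ∀ i, 0 ≤ x i := fun i => mul_nonneg hc.le (hx' i)
  have hx0' : x ≠ 0 := smul_ne_zero hc.ne' hx'0
  have hxG : G x = G x0 := (hG_smul c x' hc).trans hx'G
  have hxs : supp x = supp x' := Finset.filter_congr fun i _ => by simp [hxdef, hc.ne']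
  set m := q x with hmdef
  have hm : 0 < m := hpos x hx hx0'
  have hlm : lR ⬝ᵥ x = m := by
    simp only [hmdef, hq, hxdef, dotProduct_smul, Matrix.mulVec_smul, smul_dotProduct, smul_eq_mul]
    rw [show x' ⬝ᵥ Bs *ᵥ x' = q x' from rfl, hcdef]; field_simp
  set bf : (Fin n → ℝ) → (Fin n → ℝ) → ℝ := fun u w => u ⬝ᵥ Bs *ᵥ w + w ⬝ᵥ Bs *ᵥ u with hbf
  have hexp : ∀ v (t : ℝ), q (x + t • v) = m + t * bf x v + t ^ 2 * q v := fun v t => by
    simp only [hmdef, hq, hbf, Matrix.mulVec_add, Matrix.mulVec_smul, dotProduct_add, add_dotProduct,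
      smul_dotProduct, dotProduct_smul, smul_eq_mul]
    ring
  have hlexp : ∀ v (t : ℝ), lR ⬝ᵥ (x + t • v) = m + t * (lR ⬝ᵥ v) := fun v t => by
    rw [dotProduct_add, hlm, dotProduct_smul, smul_eq_mul]
  -- first order condition
  have hfoc : ∀ v : Fin n → ℝ, (∀ i, x i = 0 → v i = 0) → bf x v = 2 * (lR ⬝ᵥ v) := by
    intro v hv
    let P : ℝ → ℝ := fun t => m * (bf x v - 2 * (lR ⬝ᵥ v)) * t + (m * q v - (lR ⬝ᵥ v) ^ 2) * t ^ 2
    have hloc : IsLocalMin P 0 := by
      have h1 : ∀ᶠ t in nhds (0 : ℝ), 0 < lR ⬝ᵥ (x + t • v) := by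
        refine continuousAt_const.eventually_lt
          (by fun_prop : Continuous fun t : ℝ => lR ⬝ᵥ (x + t • v)).continuousAt ?_
        simpa [hlm] using hm
      have h2 : ∀ᶠ t in nhds (0 : ℝ), ∀ i, 0 ≤ (x + t • v) i := by
        refine Filter.eventually_all.mpr fun i => ?_
        rcases eq_or_ne (x i) 0 with h | h
        · exact Filter.Eventually.of_forall fun t => by simp [h, hv i h]
        · have h3 : ∀ᶠ t in nhds (0 : ℝ), (0 : ℝ) < (x + t • v) i := by
            refine continuousAt_const.eventually_lt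
              (by fun_prop : Continuous fun t : ℝ => (x + t • v) i).continuousAt ?_
            simpa using lt_of_le_of_ne (hx i) (Ne.symm h)
          exact h3.mono fun t ht => ht.le
      filter_upwards [h1, h2] with t ht1 ht2
      have hne' : x + t • v ≠ 0 := fun h => by rw [h, dotProduct_zero] at ht1; exact lt_irrefl _ ht1
      have hqp : 0 < q (x + t • v) := hpos _ ht2 hne'
      have hle := hmax _ ht2 hne'
      rw [← hxG, hG] at hle
      simp only at hle
      rw [hlm, ← hmdef, Real.div_sqrt, div_le_iff₀ (Real.sqrt_pos.mpr hqp), ← Real.sqrt_mul hm.le] at hle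
      have hsq := pow_le_pow_left₀ ht1.le hle 2
      rw [Real.sq_sqrt (mul_nonneg hm.le hqp.le), hlexp, hexp] at hsq
      simp only [P]
      nlinarith
    have hd : HasDerivAt P (m * (bf x v - 2 * (lR ⬝ᵥ v))) 0 := by
      have h := ((hasDerivAt_id (0 : ℝ)).const_mul (m * (bf x v - 2 * (lR ⬝ᵥ v)))).add
        (((hasDerivAt_id (0 : ℝ)).pow 2).const_mul (m * q v - (lR ⬝ᵥ v) ^ 2))
      refine (h.congr_deriv (by simp)).congr_of_eventuallyEq (Filter.Eventually.of_forall fun t => ?_)
      simp [P]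
    have := hloc.hasDerivAt_eq_zero hd
    rcases mul_eq_zero.mp this with h | h
    · exact absurd h hm.ne'
    · linarith
  -- no kernel on the support
  have hker : ∀ v : Fin n → ℝ, (∀ i, x i = 0 → v i = 0) →
      (∀ w : Fin n → ℝ, (∀ i, x i = 0 → w i = 0) → bf v w = 0) → v = 0 := by
    intro v hv hw
    by_contra hv0
    wlog hneg : ∃ i, v i < 0 generalizing v
    · push Not at hneg
      refine this (-v) (fun i hi => by simp [hv i hi]) (fun w hws => ?_) (neg_ne_zero.mpr hv0) ?_
      · have := hw w hws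
        simp only [hbf, neg_dotProduct, Matrix.mulVec_neg, dotProduct_neg] at this ⊢
        linarith
      · obtain ⟨i, hi⟩ := Function.ne_iff.mp hv0
        exact ⟨i, neg_neg_iff_pos.mpr (lt_of_le_of_ne (hneg i) (Ne.symm hi))⟩
    have hb : bf x v = 0 := by
      have := hw x (fun i h => h)
      simp only [hbf] at this ⊢; linarith
    have hqv : q v = 0 := by
      have := hw v hv
      simp only [hbf, hq] at this ⊢; linarith
    have hlv : lR ⬝ᵥ v = 0 := by have := hfoc v hv; linarith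
    obtain ⟨i0, hi0⟩ := hneg
    obtain ⟨j, hj, hjmin⟩ := (Finset.univ.filter (fun i => v i < 0)).exists_min_image
      (fun i => x i / (-v i)) ⟨i0, by simp [hi0]⟩
    have hjneg : v j < 0 := (Finset.mem_filter.mp hj).2
    set t := x j / (-v j) with ht
    have ht0 : 0 ≤ t := div_nonneg (hx j) (by linarith)
    set y := x + t • v with hy
    have hynn : ∀ i, 0 ≤ y i := fun i => by
      simp only [hy, Pi.add_apply, Pi.smul_apply, smul_eq_mul]
      rcases lt_or_ge (v i) 0 with h | h
      · have := hjmin i (by simp [h])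
        rw [le_div_iff₀ (by linarith)] at this
        linarith
      · have := mul_nonneg ht0 h
        linarith [hx i]
    have hly : lR ⬝ᵥ y = m := by rw [hy, hlexp, hlv, mul_zero, add_zero]
    have hy0 : y ≠ 0 := fun h => by rw [h, dotProduct_zero] at hly; exact hm.ne hly
    have hyG : G y = G x0 := by
      rw [← hxG, hG]
      simp only
      rw [hly, hlm, hy, hexp, hb, hqv]; simp [hmdef]
    have hlt : (supp y).card < (supp x').card := by
      rw [← hxs]
      refine Finset.card_lt_card ⟨fun i hi => ?_, fun h => ?_⟩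
      · simp only [supp, Finset.mem_filter, Finset.mem_univ, true_and] at hi ⊢
        intro h0; exact hi (by simp [hy, h0, hv i h0])
      · have hxj : x j ≠ 0 := fun h0 => hjneg.ne (hv j h0)
        have hyj : j ∈ supp y := h (by simp [supp, hxj])
        simp only [supp, Finset.mem_filter, hy, Pi.add_apply, Pi.smul_apply, smul_eq_mul, ht] at hyj
        apply hyj.2
        have := hjneg.ne
        field_simp
        ring
    exact absurd (hmin y hynn hy0 hyG) (not_le.mpr hlt)
  -- the rational linear system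
  let S := {i : Fin n // x i ≠ 0}
  let A : Matrix S S ℚ := fun i j => B i.1 j.1 + B j.1 i.1
  let AR : Matrix S S ℝ := A.map (Rat.castHom ℝ)
  have hrow : ∀ (v : Fin n → ℝ), (∀ i, x i = 0 → v i = 0) → ∀ i : S,
      (AR *ᵥ fun j => v j.1) i = bf v (Pi.single i.1 1) := by
    intro v hv i
    have hs : ∑ j : S, (Bs i.1 j.1 + Bs j.1 i.1) * v j.1 = ∑ j, (Bs i.1 j + Bs j i.1) * v j := by
      rw [← Finset.sum_subtype (Finset.univ.filter (fun j => x j ≠ 0)) (by simp)
        (fun j => (Bs i.1 j + Bs j i.1) * v j)]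
      exact Finset.sum_subset (Finset.subset_univ _) fun j _ hj => by
        rw [hv j (by simpa using hj), mul_zero]
    calc (AR *ᵥ fun j => v j.1) i = ∑ j : S, (Bs i.1 j.1 + Bs j.1 i.1) * v j.1 := by
          simp [AR, A, Matrix.mulVec, dotProduct, hBs] <;> simp [Matrix.map]
      _ = _ := hs
      _ = _ := by
          simp only [hbf, single_dotProduct, Matrix.mulVec_single_one, one_mul]
          simp only [Matrix.mulVec, dotProduct, Matrix.col_apply, add_mul, Finset.sum_add_distrib]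
          rw [add_comm]
          congr 1
          exact Finset.sum_congr rfl fun j _ => mul_comm _ _
  have hsingle : ∀ i : S, ∀ k, x k = 0 → Pi.single (M := fun _ => ℝ) i.1 1 k = 0 := fun i k hk =>
    Pi.single_eq_of_ne (by rintro rfl; exact i.2 hk) _
  have hinj : ∀ u : S → ℝ, AR *ᵥ u = 0 → u = 0 := by
    intro u hu
    let v : Fin n → ℝ := fun i => if h : x i = 0 then 0 else u ⟨i, h⟩
    have hv : ∀ i, x i = 0 → v i = 0 := fun i h => by simp [v, h]
    have hvu : (fun j : S => v j.1) = u := funext fun j => by simp [v, j.2]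
    have h0 : v = 0 := hker v hv fun w hw => by
      have hzero : ∀ i : S, bf v (Pi.single i.1 1) = 0 := fun i => by
        rw [← hrow v hv i, hvu, hu]; rfl
      have hwdec : w = ∑ i : S, w i.1 • Pi.single i.1 (1 : ℝ) := by
        ext k
        rcases eq_or_ne (x k) 0 with hk | hk
        · simp [Finset.sum_apply, hw k hk, hsingle _ k hk]
        · rw [Finset.sum_apply, Finset.sum_eq_single ⟨k, hk⟩ (fun j _ hj => by
            simp [Pi.single_eq_of_ne (fun h : k = j.1 => hj (Subtype.ext h.symm))]) (by simp)]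
          simp
      rw [hwdec]
      simp only [hbf, dotProduct_sum, sum_dotProduct, Matrix.mulVec_sum, ← Finset.sum_add_distrib]
      refine Finset.sum_eq_zero fun i _ => ?_
      have := hzero i
      simp only [hbf] at this
      simp only [Matrix.mulVec_smul, dotProduct_smul, smul_dotProduct, smul_eq_mul, ← mul_add, this,
        mul_zero]
    rw [← hvu, h0]; rfl
  have hdet : IsUnit A.det := by
    refine isUnit_iff_ne_zero.mpr fun h => ?_
    have h' : AR.det = 0 := by
      simp only [AR]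
      rw [← RingHom.mapMatrix_apply, ← RingHom.map_det, h, map_zero]
    obtain ⟨u, hu0, hu⟩ := Matrix.exists_mulVec_eq_zero_iff.mpr h'
    exact hu0 (hinj u hu)
  let z : S → ℚ := A⁻¹ *ᵥ fun i => 2 * ℓ i.1
  have hAz : A *ᵥ z = fun i => 2 * ℓ i.1 := by
    simp only [z, Matrix.mulVec_mulVec, Matrix.mul_nonsing_inv A hdet, Matrix.one_mulVec]
  have hxz : (fun j : S => x j.1) = fun j => (z j : ℝ) := by
    have h1 : AR *ᵥ (fun j : S => x j.1) = fun i => 2 * (ℓ i.1 : ℝ) := funext fun i => by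
      rw [hrow x (fun _ h => h) i, hfoc _ (hsingle i), dotProduct_single, mul_one, hlR]
    have h2 : AR *ᵥ (fun j => (z j : ℝ)) = fun i => 2 * (ℓ i.1 : ℝ) := funext fun i => by
      have := congrArg (Rat.castHom ℝ) (congrFun hAz i)
      rw [RingHom.map_mulVec] at this
      simpa [AR, Function.comp_def] using this
    have := hinj ((fun j : S => x j.1) - fun j => (z j : ℝ)) (by rw [Matrix.mulVec_sub, h1, h2, sub_self])
    exact sub_eq_zero.mp this
  let r : Fin n → ℚ := fun i => if h : x i = 0 then 0 else z ⟨i, h⟩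
  have hr : (fun i => (r i : ℝ)) = x := funext fun i => by
    rcases eq_or_ne (x i) 0 with h | h
    · simp [r, h]
    · simp only [r, dif_neg h]; exact (congrFun hxz ⟨i, h⟩).symm
  refine ⟨r, fun i => ?_, fun h => hx0' (hr ▸ by simp [h]; rfl), fun y hy hy0 => ?_⟩
  · have := hx i
    rw [← congrFun hr i] at this
    exact_mod_cast this
  · rw [hr]
    exact (hmax y hy hy0).trans hxG.ge

end Groth.Agent.S19138
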