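import Groth.Statements.S19144
import Groth.Agent.Lib.MTRigid29.TwConstProps
import Groth.Agent.Lib.MTRigid29.HomDual

set_option autoImplicit false
open CategoryTheory MonoidalCategory CartesianMonoidalCategory MonObj GrpObj AlgebraicGeometry
universe u
open TwC

namespace Groth.Agent.S19144

set_option backward.isDefEq.respectTransparency false
set_option backward.isDefEq.respectTransparency.types false
set_option maxSynthPendingDepth 3
open CategoryTheory.Limits Groth.Agent.MTRigid29

/-- A quasi-isotrivial twisted constant S-scheme X (etale-locally on S isomorphic to a constant scheme)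
is separated and etale over S, and its structure morphism satisfies the valuative criterion of
properness (every valuative square has exactly one lift; X ⟶ S need not be quasi-compact). -/
theorem result {S : Scheme.{u}} (X : Over S)
    (hX : TwC.IsTwConst TwC.Topology.etale X) :
    IsSeparated X.hom ∧ Etale X.hom ∧ ValuativeCriterion X.hom := by
  obtain ⟨V, f, hf, hV, -⟩ := exists_cover_of_etale hX
  haveI : ∀ s, Etale (f s) := fun s => (hV s).1
  have hP : ∀ s, IsSeparated (pullback.snd X.hom (f s)) ∧ Etale (pullback.snd X.hom (f s)) ∧
      ValuativeCriterion.Existence (pullback.snd X.hom (f s)) := fun s => by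
    obtain ⟨I, ⟨e⟩⟩ := (hV s).2.2
    rw [← show e.hom.left ≫ (TwC.const (V s) I).hom = pullback.snd X.hom (f s) from Over.w e.hom]
    haveI : IsIso e.hom.left := (inferInstance : IsIso ((Over.forget _).map e.hom))
    exact ⟨(MorphismProperty.cancel_left_of_respectsIso @IsSeparated _ _).2 isSeparated_const,
      (MorphismProperty.cancel_left_of_respectsIso @Etale _ _).2 etale_const,
      (MorphismProperty.cancel_left_of_respectsIso ValuativeCriterion.Existence _ _).2 existence_const⟩
  haveI : MorphismProperty.DescendsAlong @IsSeparated (@Surjective ⊓ @Flat ⊓ @QuasiCompact) :=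
    FpqcDesc.descendsAlong_isSeparated
  haveI hsep : IsSeparated X.hom := prop_of_fpqc_cover f hf @IsSeparated X.hom fun s => (hP s).1
  refine ⟨hsep, prop_of_fpqc_cover f hf @Etale X.hom fun s => (hP s).2.1, ValuativeCriterion.iff.2 ⟨?_,
    IsSeparated.valuativeCriterion X.hom⟩⟩
  refine existence_of_cover f (fun s => ?_) X.hom fun s => (hP s).2.2
  exact ((Scheme.ofArrows_mem_precoverage_iff _).1 hf.2).1 s

end Groth.Agent.S19144
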