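import Groth.Statements.S19146
import Groth.Agent.Lib.MTRigid29.TwConstHens
import Groth.Agent.Lib.MTRigid29.TwConstFppf
-- import your own Groth.Agent.* helpers here

set_option autoImplicit false
open CategoryTheory MonoidalCategory CartesianMonoidalCategory MonObj GrpObj AlgebraicGeometry
universe u
open TwC

set_option backward.isDefEq.respectTransparency false
set_option backward.isDefEq.respectTransparency.types false
set_option maxSynthPendingDepth 3

namespace Groth.Agent.S19146

/-- Let R be a henselian local ring, s the closed point of S = Spec R, and X a quasi-isotrivial twisted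
constant S-scheme (etale-locally on S isomorphic to a constant scheme). Then X is the disjoint
union, over the points x of the closed fibre X_s, of the local schemes X(x) = Spec O_{X,x}: for each
such x the canonical morphism Spec O_{X,x} ⟶ X is an open and closed immersion and X(x) is a finite
etale cover of S (finite, etale, surjective), every point of X lies in X(x) for exactly one x ∈ X_s,
and restricting a section of X ⟶ S to the closed point is a bijection from the sections of X over S
onto the sections of X_s over s. -/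
theorem result (R : Type u) [CommRing R] [HenselianLocalRing R]
    (X : Over (Spec (CommRingCat.of R))) (hX : TwC.IsTwConst TwC.Topology.etale X) :
    (∀ x : X.left, X.hom.base x = IsLocalRing.closedPoint R →
      IsOpenImmersion (X.left.fromSpecStalk x) ∧ IsClosedImmersion (X.left.fromSpecStalk x) ∧
        IsFinite (X.left.fromSpecStalk x ≫ X.hom) ∧ Etale (X.left.fromSpecStalk x ≫ X.hom) ∧
        Surjective (X.left.fromSpecStalk x ≫ X.hom)) ∧
    (∀ y : X.left, ∃! x : X.left, X.hom.base x = IsLocalRing.closedPoint R ∧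
      y ∈ Set.range (X.left.fromSpecStalk x).base) ∧
    (∀ σ₁ σ₂ : Spec (CommRingCat.of R) ⟶ X.left, σ₁ ≫ X.hom = 𝟙 _ → σ₂ ≫ X.hom = 𝟙 _ →
      Spec.map (CommRingCat.ofHom (IsLocalRing.residue R)) ≫ σ₁ = Spec.map (CommRingCat.ofHom (IsLocalRing.residue R)) ≫ σ₂ → σ₁ = σ₂) ∧
    (∀ τ : Spec (CommRingCat.of (IsLocalRing.ResidueField R)) ⟶ X.left,
      τ ≫ X.hom = Spec.map (CommRingCat.ofHom (IsLocalRing.residue R)) →
      ∃ σ : Spec (CommRingCat.of R) ⟶ X.left, σ ≫ X.hom = 𝟙 _ ∧ Spec.map (CommRingCat.ofHom (IsLocalRing.residue R)) ≫ σ = τ) := by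
  obtain ⟨hsep, het⟩ := MTRigid29.etale_of_twConst X hX
  haveI := hsep
  haveI := het
  have hA := MTRigid29.fromSpecStalk_closed_fibre X hX
  refine ⟨hA, fun y => ?_, fun σ₁ σ₂ h₁ h₂ h => ?_, fun τ hτ => ?_⟩
  · obtain ⟨U, hyU, hUc, hfin⟩ := MTRigid29.exists_finite_clopen X hX y
    haveI := hfin
    let y' : U.toScheme := ⟨y, hyU⟩
    have hcl : IsClosed ((U.ι ≫ X.hom) '' closure {y'}) := (U.ι ≫ X.hom).isClosedMap _ isClosed_closure
    obtain ⟨x', hx', hx's⟩ : IsLocalRing.closedPoint R ∈ (U.ι ≫ X.hom) '' closure {y'} :=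
      (IsLocalRing.specializes_closedPoint _).mem_closed hcl ⟨y', subset_closure rfl, rfl⟩
    have hyx : y ⤳ U.ι x' := (specializes_iff_mem_closure.2 hx').map U.ι.continuous
    refine ⟨U.ι x', ⟨hx's, ?_⟩, ?_⟩
    · show y ∈ Set.range (X.left.fromSpecStalk (U.ι x'))
      rw [Scheme.range_fromSpecStalk]; exact hyx
    · rintro z ⟨hz, hzy⟩
      haveI : LocallyQuasiFinite X.hom := SchDesc12.locallyQuasiFinite_of_etale X.hom
      have hzy' : y ∈ Set.range (X.left.fromSpecStalk z) := hzy
      obtain ⟨-, hcz, -⟩ := hA z hz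
      haveI := hcz
      have hxz := hyx.mem_closed (X.left.fromSpecStalk z).isClosedEmbedding.isClosed_range hzy'
      rw [Scheme.range_fromSpecStalk] at hxz
      haveI : DiscreteTopology ↥(X.hom.base ⁻¹' {IsLocalRing.closedPoint R}) :=
        (X.hom.isDiscrete_preimage_singleton _).to_subtype
      have h' : (⟨U.ι x', hx's⟩ : ↥(X.hom.base ⁻¹' {IsLocalRing.closedPoint R})) ⤳ ⟨z, hz⟩ :=
        (subtype_specializes_iff _ _).2 hxz
      exact (congrArg Subtype.val h'.eq).symm
  · exact MTRigid29.hom_ext_of_connected X.hom σ₁ σ₂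
      (Spec.map (CommRingCat.ofHom (IsLocalRing.residue R))) (h₁.trans h₂.symm) h
  · let x := τ (IsLocalRing.closedPoint (IsLocalRing.ResidueField R))
    have hx : X.hom x = IsLocalRing.closedPoint R := by
      show (τ ≫ X.hom) _ = _
      rw [hτ]
      exact IsLocalRing.comap_closedPoint (IsLocalRing.residue R)
    obtain ⟨ho, -, hfin, het, hsurj⟩ := hA x hx
    haveI := hfin
    haveI := het
    let O := X.left.presheaf.stalk x
    let φ : CommRingCat.of R ⟶ O := Spec.preimage (X.left.fromSpecStalk x ≫ X.hom)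
    have hφ : Spec.map φ = X.left.fromSpecStalk x ≫ X.hom := Spec.map_preimage _
    let ρ : O ⟶ CommRingCat.of (IsLocalRing.ResidueField R) := Scheme.stalkClosedPointTo τ
    have hρ : Spec.map ρ ≫ X.left.fromSpecStalk x = τ := Scheme.Spec_stalkClosedPointTo_fromSpecStalk τ
    have hρφ : φ ≫ ρ = CommRingCat.ofHom (IsLocalRing.residue R) := by
      refine Spec.map_injective ?_
      rw [Spec.map_comp, hφ, reassoc_of% hρ, hτ]
    letI : Algebra R O := φ.hom.toAlgebra
    haveI : IsFinite (Spec.map φ) := by rw [hφ]; exact hfin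
    haveI : Module.Finite R O := RingHom.finite_algebraMap.mp ((IsFinite.SpecMap_iff φ).mp ‹_›)
    haveI : Algebra.Etale R O := (HasRingHomProperty.Spec_iff (P := @Etale)).mp
      (by rw [hφ]; exact het : Etale (Spec.map φ))
    haveI : IsLocalHom (algebraMap R O) := ⟨fun r hr => by
      have h := hr.map ρ.hom
      rw [show ρ.hom (algebraMap R O r) = IsLocalRing.residue R r from congr($(hρφ).hom r)] at h
      exact (IsLocalRing.residue_ne_zero_iff_isUnit r).mp h.ne_zero⟩
    have hbij := Hens.nonempty_retraction_of_finite (R := R) (T := O) fun o => by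
      obtain ⟨o, rfl⟩ := Ideal.Quotient.mk_surjective o
      obtain ⟨r, hr⟩ := IsLocalRing.residue_surjective (ρ o)
      refine ⟨r, ?_⟩
      show Ideal.Quotient.mk _ (algebraMap R O r) = _
      rw [Ideal.Quotient.eq, Algebra.FormallyUnramified.map_maximalIdeal]
      intro hu
      have h0 : ρ.hom (algebraMap R O r - o) = 0 := by
        rw [map_sub, show ρ.hom (algebraMap R O r) = IsLocalRing.residue R r from congr($(hρφ).hom r),
          hr, sub_self]
      exact (hu.map ρ.hom).ne_zero h0
    haveI : IsIso φ := (ConcreteCategory.isIso_iff_bijective φ).mpr hbij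
    refine ⟨Spec.map (inv φ) ≫ X.left.fromSpecStalk x, ?_, ?_⟩
    · rw [Category.assoc, ← hφ, ← Spec.map_comp, IsIso.hom_inv_id, Spec.map_id]
    · rw [← Category.assoc, ← Spec.map_comp, ← hρφ, IsIso.inv_hom_id_assoc]
      exact hρ

end Groth.Agent.S19146
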