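import Groth.Statements.S19148
import Mathlib

set_option autoImplicit false
open scoped TensorProduct
universe u v
open FiltMod

namespace Groth.Agent.S19148
open Finset

/-- In affine form, let R be a commutative ring, M a finitely generated projective R-module (a finite
locally free sheaf on Spec R), F₁ and F₂ direct summands of M and k ≥ 1. Then the images of F₁^{⊗k}
and F₂^{⊗k} in the k-th tensor power M^{⊗k} are equal if and only if F₁ = F₂. (The source states
this for local direct factors of a finite locally free sheaf on a scheme; equality of subsheaves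
being local, this is the affine case with global direct summands, to which it reduces.) -/
theorem result {R : Type u} [CommRing R] {M : Type v} [AddCommGroup M] [Module R M]
    [Module.Finite R M] [Module.Projective R M] (F₁ F₂ : Submodule R M)
    (h₁ : ∃ C : Submodule R M, IsCompl F₁ C) (h₂ : ∃ C : Submodule R M, IsCompl F₂ C) (k : ℕ) (hk : 1 ≤ k) :
    LinearMap.range (PiTensorProduct.map (R := R) (fun _ : Fin k => F₁.subtype)) =
      LinearMap.range (PiTensorProduct.map (R := R) (fun _ : Fin k => F₂.subtype)) ↔ F₁ = F₂ := by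
  refine ⟨fun h => ?_, fun h => by subst h; rfl⟩
  suffices key : ∀ (F G : Submodule R M), (∃ C, IsCompl F C) → (∃ C, IsCompl G C) →
      LinearMap.range (PiTensorProduct.map (R := R) (fun _ : Fin k => F.subtype)) ≤
      LinearMap.range (PiTensorProduct.map (R := R) (fun _ : Fin k => G.subtype)) → F ≤ G from
    le_antisymm (key _ _ h₁ h₂ h.le) (key _ _ h₂ h₁ h.ge)
  intro F G ⟨C, hC⟩ ⟨D, hD⟩ hle x hx
  obtain ⟨k, rfl⟩ : ∃ j, k = j + 1 := ⟨k - 1, by omega⟩
  -- it suffices to kill all functionals vanishing on G
  suffices hφ : ∀ φ : M →ₗ[R] R, (∀ g ∈ G, φ g = 0) → φ x = 0 by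
    let π : M →ₗ[R] M := D.projection G hD.symm
    have h0 : π x = 0 := by
      rw [← Module.forall_dual_apply_eq_zero_iff R]
      intro f
      exact hφ (f ∘ₗ π) fun g hg => by simp [π, (Submodule.projection_apply_eq_zero_iff hD.symm).2 hg]
    exact (Submodule.projection_apply_eq_zero_iff hD.symm).1 h0
  intro φ hφG
  have htop : ∀ (ψ : Fin k → M →ₗ[R] R) (y : Fin k → M), (∀ i, y i ∈ F) → ∀ z ∈ F, φ z * ∏ i, ψ i (y i) = 0 := by
    intro ψ y hy z hz
    let f : Fin (k + 1) → M →ₗ[R] R := Fin.cons φ ψ
    let T : PiTensorProduct R (fun _ : Fin (k + 1) => M) →ₗ[R] R :=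
      PiTensorProduct.lift ((MultilinearMap.mkPiAlgebra R (Fin (k + 1)) R).compLinearMap f)
    have hT : T ∘ₗ PiTensorProduct.map (fun _ : Fin (k + 1) => G.subtype) = 0 := by
      refine PiTensorProduct.ext (MultilinearMap.ext fun g => ?_)
      simp [T, f, Fin.prod_univ_succ, hφG _ (g 0).2]
    let y' : Fin (k + 1) → F := Fin.cons ⟨z, hz⟩ fun j => ⟨y j, hy j⟩
    obtain ⟨t, ht⟩ := hle ⟨PiTensorProduct.tprod R y', rfl⟩
    have := congrArg T ht
    rw [← LinearMap.comp_apply, hT] at this
    simpa [T, f, y', Fin.prod_univ_succ] using this.symm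
  -- trace ideal descent
  obtain ⟨n, p, hp⟩ := Module.Finite.exists_fin' R M
  obtain ⟨g, hg⟩ := Module.projective_lifting_property p LinearMap.id hp
  let π := F.projection C hC
  have hbasis : ∀ z ∈ F, z = ∑ i, g z i • π (p (Pi.single i 1)) := fun z hz => by
    have h1 : π z = z := Submodule.projection_apply_left hC ⟨z, hz⟩
    conv_lhs => rw [← h1, show z = p (g z) from (LinearMap.congr_fun hg z).symm, pi_eq_sum_univ' (g z)]
    simp [map_sum]
  have key : ∀ j, j ≤ k → ∀ (ψ : Fin (k - j) → M →ₗ[R] R) (y : Fin (k - j) → M), (∀ i, y i ∈ F) → ∀ z ∈ F, φ z * ∏ i, ψ i (y i) = 0 := by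
    intro j
    induction j with
    | zero => exact fun _ => htop
    | succ j ih =>
      intro hj ψ y hy z hz
      conv_lhs => rw [hbasis z hz]
      simp only [map_sum, map_smul, smul_eq_mul, sum_mul]
      refine sum_eq_zero fun i _ => ?_
      have e : k - j = k - (j + 1) + 1 := by omega
      have h2 := ih (by omega) ((Fin.cons ((LinearMap.proj i) ∘ₗ g) ψ : Fin (k - (j+1) + 1) → _) ∘ Fin.cast e)
        ((Fin.cons z y : Fin (k - (j+1) + 1) → M) ∘ Fin.cast e)
        (fun l => Fin.cases (motive := fun l => (Fin.cons z y : Fin (k - (j+1) + 1) → M) l ∈ F) (by simpa using hz) (fun m => by simpa using hy m) (Fin.cast e l))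
        (π (p (Pi.single i 1))) (Submodule.projection_apply_mem hC _)
      simp only [Function.comp_apply] at h2
      rw [Fin.prod_congr' (fun l => (Fin.cons ((LinearMap.proj i) ∘ₗ g) ψ : Fin _ → _) l ((Fin.cons z y : Fin _ → M) l)) e,
        Fin.prod_univ_succ] at h2
      simp only [Fin.cons_zero, Fin.cons_succ, LinearMap.comp_apply, LinearMap.proj_apply] at h2
      linear_combination h2
  haveI : IsEmpty (Fin (k - k)) := by rw [Nat.sub_self]; infer_instance
  simpa using key k le_rfl isEmptyElim isEmptyElim isEmptyElim x hx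

end Groth.Agent.S19148
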