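import Groth.Statements.S19154
import Mathlib

set_option autoImplicit false
open scoped TensorProduct
universe u v w
open FiltMod

namespace Groth.Agent.S19154

section
variable {Γ : Type w} [LinearOrder Γ] {R : Type u} [CommRing R] {M : Type v} [AddCommGroup M] [Module R M]

/-- projection onto a summand, as a map to `M` -/
noncomputable def proj {G : Γ → Submodule R M} (hG : DirectSum.IsInternal G) (b : Γ) : M →ₗ[R] M :=
  (G b).subtype ∘ₗ DirectSum.component R Γ (fun i => G i) b ∘ₗ (LinearEquiv.ofBijective (DirectSum.coeLinearMap G) hG).symm.toLinearMap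

theorem proj_of_mem {G : Γ → Submodule R M} (hG : DirectSum.IsInternal G) {a : Γ} {m : M} (hm : m ∈ G a) (b : Γ) :
    proj hG b m = if a = b then m else 0 := by
  have h : (LinearEquiv.ofBijective (DirectSum.coeLinearMap G) hG).symm m =
      DirectSum.lof R Γ (fun i => G i) a ⟨m, hm⟩ := by
    rw [LinearEquiv.symm_apply_eq]
    exact (DirectSum.coeLinearMap_of G a ⟨m, hm⟩).symm
  simp only [proj, LinearMap.comp_apply, LinearEquiv.coe_coe, h]
  by_cases hab : a = b
  · subst hab; simp [DirectSum.component.lof_self]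
  · rw [DirectSum.component.of, dif_neg hab, if_neg hab]; rfl

theorem proj_mem {G : Γ → Submodule R M} (hG : DirectSum.IsInternal G) (b : Γ) (m : M) : proj hG b m ∈ G b :=
  SetLike.coe_mem _

theorem exists_finite_support [Module.Finite R M] {G : Γ → Submodule R M} (hG : DirectSum.IsInternal G) :
    ∃ S : Finset Γ, (∀ a ∉ S, G a = ⊥) ∧ ∀ m, ∑ a ∈ S, proj hG a m = m := by
  classical
  haveI : Module.Finite R (DirectSum Γ fun i => G i) :=
    Module.Finite.equiv (LinearEquiv.ofBijective (DirectSum.coeLinearMap G) hG).symm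
  obtain ⟨t, ht⟩ := (Module.Finite.fg_top : (⊤ : Submodule R (DirectSum Γ fun i => G i)).FG)
  let S := t.biUnion fun v => DFinsupp.support v
  have hout : ∀ a ∉ S, G a = ⊥ := by
    intro a ha
    simp only [S, Finset.mem_biUnion, not_exists, not_and] at ha
    refine (Submodule.eq_bot_iff _).mpr fun m hm => ?_
    have hle : (⊤ : Submodule R (DirectSum Γ fun i => G i)) ≤ LinearMap.ker (DirectSum.component R Γ (fun i => G i) a) := by
      rw [← ht, Submodule.span_le]
      exact fun v hv => LinearMap.mem_ker.mpr (DFinsupp.notMem_support_iff.mp (ha v hv))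
    have h0 := LinearMap.mem_ker.mp (hle (Submodule.mem_top (x := DirectSum.lof R Γ (fun i => G i) a ⟨m, hm⟩)))
    rw [DirectSum.component.lof_self] at h0
    exact congrArg Subtype.val h0
  refine ⟨S, hout, fun m => ?_⟩
  have hm : m ∈ ⨆ a, G a := hG.submodule_iSup_eq_top ▸ Submodule.mem_top
  refine Submodule.iSup_induction G (motive := fun m => ∑ a ∈ S, proj hG a m = m) hm ?_ (by simp) ?_
  · intro b x hx
    simp only [proj_of_mem hG hx, Finset.sum_ite_eq]
    split_ifs with hb
    · rfl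
    · exact ((Submodule.eq_bot_iff _).mp (hout b hb) x hx).symm
  · intro x y hx hy
    simp only [map_add, Finset.sum_add_distrib, hx, hy]

theorem img_iSup {K : Type*} [CommRing K] [Algebra R K] {ι : Sort*} (p : ι → Submodule R M) :
    (⨆ i, p i).baseChange K = ⨆ i, (p i).baseChange K := by
  refine le_antisymm ?_ (iSup_le fun i => ?_)
  · rw [Submodule.baseChange_eq_span, Submodule.span_le, Submodule.map_iSup]
    intro z hz
    refine Submodule.iSup_induction _ (motive := fun z => z ∈ ⨆ i, (p i).baseChange K) hz ?_ (zero_mem _) (fun _ _ => add_mem)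
    rintro i _ ⟨m, hm, rfl⟩
    exact Submodule.mem_iSup_of_mem i (Submodule.tmul_mem_baseChange_of_mem 1 hm)
  · rw [Submodule.baseChange_eq_span, Submodule.baseChange_eq_span]
    exact Submodule.span_mono (Submodule.map_mono (le_iSup p i))

theorem forward_dim [Module.Finite R M] (K : Type u) [Field K] [Algebra R K] (F Fp G : Γ → Submodule R M)
    (hFp : ∀ γ, Fp γ = ⨆ η ∈ Set.Ioi γ, F η) (hG : DirectSum.IsInternal G) (hFG : ∀ γ, F γ = ⨆ η ∈ Set.Ici γ, G η)
    (Fx : Γ → Submodule K (K ⊗[R] M)) (hFx : ∀ γ, Fx γ = LinearMap.range ((F γ).subtype.baseChange K)) :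
    Module.finrank K (K ⊗[R] M) =
      ∑ᶠ γ, (Module.finrank K ↥(Fx γ) - Module.finrank K ↥(⨆ η ∈ Set.Ioi γ, Fx η)) := by
  classical
  have hGF : ∀ γ, G γ ≤ F γ := fun γ => by
    rw [hFG]; exact le_iSup₂_of_le γ (Set.mem_Ici.mpr le_rfl) le_rfl
  have hker : ∀ γ, Fp γ ≤ LinearMap.ker (proj hG γ) := by
    intro γ
    rw [hFp]
    refine iSup₂_le fun η hη => ?_
    rw [hFG]
    refine iSup₂_le fun θ hθ z hz => ?_
    rw [LinearMap.mem_ker, proj_of_mem hG hz, if_neg]
    exact ne_of_gt (lt_of_lt_of_le (Set.mem_Ioi.mp hη) hθ)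
  have hFdec : ∀ γ, F γ = G γ ⊔ Fp γ := by
    intro γ
    refine le_antisymm ?_ (sup_le (hGF γ) ?_)
    · rw [hFG]
      refine iSup₂_le fun η hη => ?_
      rcases eq_or_lt_of_le (Set.mem_Ici.mp hη) with rfl | hlt
      · exact le_sup_left
      · rw [hFp]; exact le_sup_of_le_right (le_iSup₂_of_le η (Set.mem_Ioi.mpr hlt) (hGF η))
    · rw [hFp]
      refine iSup₂_le fun η hη => ?_
      rw [hFG, hFG]
      exact iSup₂_le fun θ hθ => le_iSup₂_of_le θ (Set.mem_Ici.mpr ((le_of_lt hη).trans hθ)) le_rfl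
  let Gx : Γ → Submodule K (K ⊗[R] M) := fun η => (G η).baseChange K
  let pb : Γ → (K ⊗[R] M →ₗ[K] K ⊗[R] M) := fun η => (proj hG η).baseChange K
  have hpb : ∀ η θ, ∀ z ∈ Gx θ, pb η z = if θ = η then z else 0 := by
    intro η θ z hz
    obtain ⟨w, rfl⟩ := hz
    induction w with
    | zero => simp
    | tmul a m => simp [pb, proj_of_mem hG m.2, apply_ite (fun t => a ⊗ₜ[R] t)]
    | add a b ha hb => simp only [map_add, ha, hb]; split_ifs <;> simp
  obtain ⟨S, hS, hsum⟩ := exists_finite_support hG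
  have hFx' : ∀ γ, Fx γ = Gx γ ⊔ (⨆ η ∈ Set.Ioi γ, Fx η) := by
    intro γ
    have h1 : Fx γ = (F γ).baseChange K := hFx γ
    have h2 : (⨆ η ∈ Set.Ioi γ, Fx η) = (Fp γ).baseChange K := by
      rw [hFp, img_iSup (K := K)]
      refine iSup_congr fun η => ?_
      exact (iSup_congr fun _ => hFx η).trans (img_iSup (K := K) fun _ => F η).symm
    rw [h1, h2, hFdec γ, sup_eq_iSup, img_iSup, sup_eq_iSup]
    exact iSup_congr fun b => by cases b <;> rfl
  have hdis : ∀ γ, Disjoint (Gx γ) (⨆ η ∈ Set.Ioi γ, Fx η) := by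
    intro γ
    rw [Submodule.disjoint_def]
    intro z hz hz'
    have h2 : (⨆ η ∈ Set.Ioi γ, Fx η) ≤ LinearMap.ker (pb γ) := by
      refine iSup₂_le fun η hη => ?_
      rw [hFx η]
      rintro _ ⟨w, rfl⟩
      rw [LinearMap.mem_ker]
      induction w with
      | zero => simp
      | tmul a m =>
        have hm : (m : M) ∈ Fp γ := hFp γ ▸ Submodule.mem_iSup_of_mem η (Submodule.mem_iSup_of_mem hη m.2)
        simp [pb, LinearMap.mem_ker.mp (hker γ hm)]
      | add a b ha hb => simp only [map_add, ha, hb, add_zero]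
    have := h2 hz'
    rw [LinearMap.mem_ker, hpb γ γ z hz, if_pos rfl] at this
    exact this
  have hd : ∀ γ, Module.finrank K (Fx γ) - Module.finrank K ↥(⨆ η ∈ Set.Ioi γ, Fx η) = Module.finrank K (Gx γ) := by
    intro γ
    have := Submodule.finrank_sup_add_finrank_inf_eq (Gx γ) (⨆ η ∈ Set.Ioi γ, Fx η)
    rw [(hdis γ).eq_bot, finrank_bot, ← hFx' γ] at this
    omega
  simp only [hd]
  rw [finsum_eq_sum_of_support_subset _ (s := S)]
  · have hsum' : ∀ v, ∑ a ∈ S, pb a v = v := by
      intro v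
      induction v with
      | zero => simp
      | tmul a m => simp only [pb, LinearMap.baseChange_tmul, ← TensorProduct.tmul_sum, hsum]
      | add a b ha hb => simp only [map_add, Finset.sum_add_distrib, ha, hb]
    have hmem : ∀ (a : Γ) v, pb a v ∈ Gx a := by
      intro a v
      induction v with
      | zero => simp
      | tmul c m => exact Submodule.tmul_mem_baseChange_of_mem c (proj_mem hG a m)
      | add x y hx hy => rw [map_add]; exact add_mem hx hy
    let e : (K ⊗[R] M) ≃ₗ[K] ((a : S) → Gx a) :=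
      { toFun := fun v a => ⟨pb a v, hmem _ v⟩
        map_add' := fun x y => funext fun a => Subtype.ext (map_add (pb a) x y)
        map_smul' := fun c x => funext fun a => Subtype.ext (map_smul (pb a) c x)
        invFun := fun f => ∑ a : S, (f a : K ⊗[R] M)
        left_inv := fun v => by
          change ∑ a : S, pb a v = v
          rw [Finset.sum_coe_sort S (fun a => pb a v), hsum']
        right_inv := fun f => funext fun a => Subtype.ext (by
          change pb a (∑ b : S, (f b : K ⊗[R] M)) = _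
          rw [map_sum, Finset.sum_eq_single a (fun b _ hb => by
            rw [hpb _ _ _ (f b).2, if_neg (fun h => hb (Subtype.ext h))]) (fun h => absurd (Finset.mem_univ a) h),
            hpb _ _ _ (f a).2, if_pos rfl]) }
    haveI : ∀ i : S, Module.Free K (Gx i) := fun i => Module.Free.of_basis (Module.Basis.ofVectorSpace K ↥(Gx i))
    rw [e.finrank_eq, Module.finrank_pi_fintype, Finset.sum_coe_sort S (fun a => Module.finrank K (Gx a))]
  · intro a ha
    by_contra haS
    refine ha ?_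
    change Module.finrank K (Gx a) = 0
    have : Gx a = ⊥ := by simp [Gx, hS a haS]
    rw [this, finrank_bot]



theorem forward [Module.Finite R M] [Module.Projective R M] (F Fp G : Γ → Submodule R M)
    (hFp : ∀ γ, Fp γ = ⨆ η ∈ Set.Ioi γ, F η) (hG : DirectSum.IsInternal G) (hFG : ∀ γ, F γ = ⨆ η ∈ Set.Ici γ, G η) :
    (∀ γ, Module.Finite R (↥(F γ) ⧸ Submodule.comap (F γ).subtype (Fp γ)) ∧
        Module.Projective R (↥(F γ) ⧸ Submodule.comap (F γ).subtype (Fp γ))) ∧
      ∀ (p : PrimeSpectrum R) (Fx : Γ → Submodule p.asIdeal.ResidueField (p.asIdeal.ResidueField ⊗[R] M)),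
        (∀ γ, Fx γ = LinearMap.range ((F γ).subtype.baseChange p.asIdeal.ResidueField)) →
        Module.finrank p.asIdeal.ResidueField (p.asIdeal.ResidueField ⊗[R] M) =
          ∑ᶠ γ, (Module.finrank p.asIdeal.ResidueField ↥(Fx γ) -
            Module.finrank p.asIdeal.ResidueField ↥(⨆ η ∈ Set.Ioi γ, Fx η)) := by
  classical
  have hGF : ∀ γ, G γ ≤ F γ := fun γ => by
    rw [hFG]; exact le_iSup₂_of_le γ (Set.mem_Ici.mpr le_rfl) le_rfl
  have hker : ∀ γ, Fp γ ≤ LinearMap.ker (proj hG γ) := by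
    intro γ
    rw [hFp]
    refine iSup₂_le fun η hη => ?_
    rw [hFG]
    refine iSup₂_le fun θ hθ z hz => ?_
    rw [LinearMap.mem_ker, proj_of_mem hG hz, if_neg]
    exact ne_of_gt (lt_of_lt_of_le (Set.mem_Ioi.mp hη) hθ)
  have hFdec : ∀ γ, F γ = G γ ⊔ Fp γ := by
    intro γ
    refine le_antisymm ?_ (sup_le (hGF γ) ?_)
    · rw [hFG]
      refine iSup₂_le fun η hη => ?_
      rcases eq_or_lt_of_le (Set.mem_Ici.mp hη) with rfl | hlt
      · exact le_sup_left
      · rw [hFp]; exact le_sup_of_le_right (le_iSup₂_of_le η (Set.mem_Ioi.mpr hlt) (hGF η))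
    · rw [hFp]
      refine iSup₂_le fun η hη => ?_
      rw [hFG, hFG]
      exact iSup₂_le fun θ hθ => le_iSup₂_of_le θ (Set.mem_Ici.mpr ((le_of_lt hη).trans hθ)) le_rfl
  constructor
  · intro γ
    let P : M →ₗ[R] G γ := (proj hG γ).codRestrict (G γ) (proj_mem hG γ)
    have hP : ∀ m : G γ, P m = m := fun m => Subtype.ext (by
      change proj hG γ (m : M) = _
      rw [proj_of_mem hG m.2, if_pos rfl])
    haveI : Module.Finite R (G γ) := Module.Finite.of_surjective P fun m => ⟨m, hP m⟩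
    haveI : Module.Projective R (G γ) := Module.Projective.of_split (G γ).subtype P (LinearMap.ext hP)
    let j : G γ →ₗ[R] ↥(F γ) ⧸ Submodule.comap (F γ).subtype (Fp γ) :=
      (Submodule.mkQ _).comp (Submodule.inclusion (hGF γ))
    have hj : Function.Bijective j := by
      constructor
      · rw [injective_iff_map_eq_zero]
        intro m hm
        have hm' : (m : M) ∈ Fp γ := (Submodule.Quotient.mk_eq_zero (Submodule.comap (F γ).subtype (Fp γ))).mp hm
        have h0 := hker γ hm'
        rw [LinearMap.mem_ker, proj_of_mem hG m.2, if_pos rfl] at h0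
        exact Subtype.ext h0
      · intro q
        obtain ⟨⟨x, hx⟩, rfl⟩ := Submodule.mkQ_surjective _ q
        have hx' : x ∈ G γ ⊔ Fp γ := (hFdec γ).le hx
        obtain ⟨g, hg, f, hf, rfl⟩ := Submodule.mem_sup.mp hx'
        refine ⟨⟨g, hg⟩, ?_⟩
        simp only [j, LinearMap.comp_apply, Submodule.mkQ_apply, Submodule.Quotient.eq]
        change g - (g + f) ∈ Fp γ
        rw [sub_add_cancel_left]
        exact neg_mem hf
    exact ⟨Module.Finite.equiv (LinearEquiv.ofBijective j hj), Module.Projective.of_equiv (LinearEquiv.ofBijective j hj)⟩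
  · intro p Fx hFx
    exact forward_dim p.asIdeal.ResidueField F Fp G hFp hG hFG Fx hFx

theorem backward_dim [Module.Finite R M] (K : Type u) [Field K] [Algebra R K] (F Fp G : Γ → Submodule R M)
    (hF : Antitone F) (hFp : ∀ γ, Fp γ = ⨆ η ∈ Set.Ioi γ, F η) (hFdec : ∀ γ, F γ ≤ G γ ⊔ Fp γ)
    (W0 : Submodule R M) (hW0 : W0 = ⨆ γ, G γ)
    (Fx : Γ → Submodule K (K ⊗[R] M)) (hFx : ∀ γ, Fx γ = LinearMap.range ((F γ).subtype.baseChange K))
    (hd : Module.finrank K (K ⊗[R] M) =
      ∑ᶠ γ, (Module.finrank K ↥(Fx γ) - Module.finrank K ↥(⨆ η ∈ Set.Ioi γ, Fx η))) :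
    ∀ z : K ⊗[R] (M ⧸ W0), z = 0 := by
  classical
  set W := W0.baseChange K with hW
  have hstep : ∀ γ, Fx γ ≤ W ⊔ (⨆ η ∈ Set.Ioi γ, Fx η) := by
    intro γ
    rw [hFx γ]
    change (F γ).baseChange K ≤ _
    rw [Submodule.baseChange_eq_span, Submodule.span_le]
    rintro _ ⟨x, hx, rfl⟩
    obtain ⟨g, hg, f, hf, rfl⟩ := Submodule.mem_sup.mp (hFdec γ hx)
    rw [map_add]
    refine Submodule.add_mem_sup (Submodule.tmul_mem_baseChange_of_mem 1 (hW0 ▸ Submodule.mem_iSup_of_mem γ hg)) ?_
    rw [hFp] at hf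
    have h3 : (⨆ η ∈ Set.Ioi γ, F η) ≤ ((⨆ η ∈ Set.Ioi γ, Fx η).restrictScalars R).comap (TensorProduct.mk R K M 1) := by
      refine iSup₂_le fun η hη y hy => ?_
      exact Submodule.mem_iSup_of_mem η (Submodule.mem_iSup_of_mem hη ((hFx η).symm ▸ Submodule.tmul_mem_baseChange_of_mem 1 hy))
    exact h3 hf
  have hle : ∀ γ, (⨆ η ∈ Set.Ioi γ, Fx η) ≤ Fx γ := by
    intro γ
    refine iSup₂_le fun η hη => ?_
    rw [hFx γ, hFx η]
    change (F η).baseChange K ≤ (F γ).baseChange K
    rw [Submodule.baseChange_eq_span, Submodule.baseChange_eq_span]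
    exact Submodule.span_mono (Submodule.map_mono (hF (le_of_lt hη)))
  let d : Γ → ℕ := fun γ => Module.finrank K (Fx γ) - Module.finrank K ↥(⨆ η ∈ Set.Ioi γ, Fx η)
  have hS : ∀ (S : Finset Γ) (U : Submodule K (K ⊗[R] M)), (∀ η ∈ S, Fx η ≤ U) →
      ∑ η ∈ S, d η ≤ Module.finrank K ↥(W ⊓ U) := by
    intro S
    induction S using Finset.induction_on_min with
    | empty => intro U _; simp
    | insert a T hlt ih =>
      intro U hU
      rw [Finset.sum_insert (fun h => lt_irrefl a (hlt a h))]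
      set P := ⨆ η ∈ Set.Ioi a, Fx η with hP
      have h1 := ih P fun η hη => le_iSup₂_of_le η (Set.mem_Ioi.mpr (hlt η hη)) le_rfl
      have h2 : Module.finrank K ↥(W ⊓ Fx a) ≤ Module.finrank K ↥(W ⊓ U) :=
        Submodule.finrank_mono (inf_le_inf_left W (hU a (Finset.mem_insert_self a T)))
      have h3 : Fx a = (W ⊓ Fx a) ⊔ P := by
        refine le_antisymm (fun z hz => ?_) (sup_le inf_le_right (hle a))
        obtain ⟨w, hw, q, hq, rfl⟩ := Submodule.mem_sup.mp (hstep a hz)
        exact Submodule.add_mem_sup ⟨hw, by simpa using sub_mem hz (hle a hq)⟩ hq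
      have h4 := Submodule.finrank_sup_add_finrank_inf_eq (W ⊓ Fx a) P
      rw [← h3, show (W ⊓ Fx a) ⊓ P = W ⊓ P by rw [inf_assoc, inf_eq_right.mpr (hle a)]] at h4
      simp only [d] at h1 ⊢
      rw [← hP]
      have h5 : Module.finrank K P ≤ Module.finrank K (Fx a) := Submodule.finrank_mono (hle a)
      omega
  have hWle : Module.finrank K (K ⊗[R] M) ≤ Module.finrank K W := by
    rw [hd]
    by_cases hfin : (Function.support d).Finite
    · rw [finsum_eq_sum _ hfin]
      exact (hS hfin.toFinset ⊤ fun _ _ => le_top).trans (by rw [inf_top_eq])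
    · rw [finsum_of_infinite_support hfin]; exact Nat.zero_le _
  have hWtop : W = ⊤ := Submodule.eq_top_of_finrank_eq (le_antisymm (Submodule.finrank_le W) hWle)
  have hzero : ∀ z : K ⊗[R] (M ⧸ W0), z = 0 := by
    intro z
    obtain ⟨y, rfl⟩ := LinearMap.lTensor_surjective K (Submodule.mkQ_surjective W0) z
    have hy : y ∈ W := hWtop ▸ Submodule.mem_top
    obtain ⟨w, rfl⟩ := hy
    induction w with
    | zero => simp
    | tmul a m => simp [(Submodule.Quotient.mk_eq_zero W0).mpr m.2]
    | add a b ha hb => simp only [map_add, ha, hb, add_zero]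
  exact hzero

theorem backward [Module.Finite R M] (F Fp : Γ → Submodule R M) (hF : Antitone F)
    (hFp : ∀ γ, Fp γ = ⨆ η ∈ Set.Ioi γ, F η)
    (hproj : ∀ γ, Module.Projective R (↥(F γ) ⧸ Submodule.comap (F γ).subtype (Fp γ)))
    (hdim : ∀ (p : PrimeSpectrum R) (Fx : Γ → Submodule p.asIdeal.ResidueField (p.asIdeal.ResidueField ⊗[R] M)),
        (∀ γ, Fx γ = LinearMap.range ((F γ).subtype.baseChange p.asIdeal.ResidueField)) →
        Module.finrank p.asIdeal.ResidueField (p.asIdeal.ResidueField ⊗[R] M) =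
          ∑ᶠ γ, (Module.finrank p.asIdeal.ResidueField ↥(Fx γ) -
            Module.finrank p.asIdeal.ResidueField ↥(⨆ η ∈ Set.Ioi γ, Fx η))) :
    ∃ G : Γ → Submodule R M, DirectSum.IsInternal G ∧ ∀ γ, F γ = ⨆ η ∈ Set.Ici γ, G η := by
  classical
  choose s hs using fun γ => (have := hproj γ; Module.projective_lifting_property (Submodule.comap (F γ).subtype (Fp γ)).mkQ LinearMap.id (Submodule.mkQ_surjective _))
  let G : Γ → Submodule R M := fun γ => LinearMap.range ((F γ).subtype.comp (s γ))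
  have hGF : ∀ γ, G γ ≤ F γ := by
    rintro γ _ ⟨q, rfl⟩; exact (s γ q).2
  have hdis : ∀ γ x, x ∈ G γ → x ∈ Fp γ → x = 0 := by
    rintro γ _ ⟨q, rfl⟩ hq
    have h1 : (Submodule.comap (F γ).subtype (Fp γ)).mkQ (s γ q) = 0 := (Submodule.Quotient.mk_eq_zero _).mpr hq
    have h2 := LinearMap.congr_fun (hs γ) q
    rw [LinearMap.comp_apply, h1, LinearMap.id_apply] at h2
    rw [← h2, map_zero]
  have hFdec : ∀ γ, F γ ≤ G γ ⊔ Fp γ := by
    intro γ x hx
    set q := (Submodule.comap (F γ).subtype (Fp γ)).mkQ ⟨x, hx⟩ with hq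
    refine Submodule.mem_sup.mpr ⟨(s γ q : M), ⟨q, rfl⟩, x - (s γ q : M), ?_, add_sub_cancel _ _⟩
    have h2 := LinearMap.congr_fun (hs γ) q
    rw [LinearMap.comp_apply, LinearMap.id_apply, hq] at h2
    have := (Submodule.Quotient.eq _).mp h2.symm
    exact this
  have hFpF : ∀ γ, Fp γ ≤ F γ := fun γ => by
    rw [hFp]; exact iSup₂_le fun η hη => hF (le_of_lt hη)
  have hinj : Function.Injective (DirectSum.coeLinearMap G) := by
    rw [injective_iff_map_eq_zero]
    intro x hx
    by_contra hx0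
    have hne : (DFinsupp.support x).Nonempty := by
      rw [Finset.nonempty_iff_ne_empty]
      exact fun h => hx0 (DFinsupp.support_eq_empty.mp h)
    set a := (DFinsupp.support x).min' hne
    have hsum : DirectSum.coeLinearMap G x = ∑ b ∈ DFinsupp.support x, (x b : M) :=
      DirectSum.coeLinearMap_eq_dfinsuppSum G x
    rw [hsum, ← Finset.add_sum_erase _ _ ((DFinsupp.support x).min'_mem hne)] at hx
    have hrest : ∑ b ∈ (DFinsupp.support x).erase a, (x b : M) ∈ Fp a := by
      refine sum_mem fun b hb => ?_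
      rw [hFp]
      have hlt : a < b := lt_of_le_of_ne ((DFinsupp.support x).min'_le b (Finset.mem_of_mem_erase hb)) (Finset.ne_of_mem_erase hb).symm
      exact Submodule.mem_iSup_of_mem b (Submodule.mem_iSup_of_mem hlt (hGF b (x b).2))
    have := hdis a (x a : M) (x a).2 (by rw [eq_neg_of_add_eq_zero_left hx]; exact neg_mem hrest)
    exact DFinsupp.mem_support_iff.mp ((DFinsupp.support x).min'_mem hne) (Subtype.ext this)
  have htop : (⨆ γ, G γ) = ⊤ := by
    set W0 := ⨆ γ, G γ
    by_contra hne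
    haveI : Nontrivial (M ⧸ W0) := Submodule.Quotient.nontrivial_iff.mpr hne
    obtain ⟨p, hp⟩ := Module.nonempty_support_of_nontrivial (R := R) (M := M ⧸ W0)
    rw [Module.mem_support_iff_nontrivial_residueField_tensorProduct] at hp
    have hzero := backward_dim p.asIdeal.ResidueField F Fp G hF hFp hFdec W0 rfl _ (fun γ => rfl) (hdim p _ fun γ => rfl)
    obtain ⟨u, v, huv⟩ := hp
    exact huv (by rw [hzero u, hzero v])
  refine ⟨G, ⟨hinj, ?_⟩, fun γ => le_antisymm ?_ (iSup₂_le fun η hη => (hGF η).trans (hF hη))⟩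
  · intro m
    have hr : (⨆ γ, G γ) ≤ LinearMap.range (DirectSum.coeLinearMap G) :=
      iSup_le fun a x hx => ⟨DirectSum.lof R Γ (fun i => G i) a ⟨x, hx⟩, DirectSum.coeLinearMap_of G a ⟨x, hx⟩⟩
    obtain ⟨x, hx⟩ := hr (htop ▸ Submodule.mem_top : m ∈ ⨆ γ, G γ)
    exact ⟨x, hx⟩
  · intro z hz
    have hr : (⨆ γ, G γ) ≤ LinearMap.range (DirectSum.coeLinearMap G) :=
      iSup_le fun a x hx => ⟨DirectSum.lof R Γ (fun i => G i) a ⟨x, hx⟩, DirectSum.coeLinearMap_of G a ⟨x, hx⟩⟩
    obtain ⟨x, rfl⟩ := hr (htop ▸ Submodule.mem_top : z ∈ ⨆ γ, G γ)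
    have hsum : DirectSum.coeLinearMap G x = ∑ b ∈ DFinsupp.support x, (x b : M) :=
      DirectSum.coeLinearMap_eq_dfinsuppSum G x
    rw [hsum] at hz ⊢
    refine sum_mem fun b hb => ?_
    by_cases hbγ : γ ≤ b
    · exact Submodule.mem_iSup_of_mem b (Submodule.mem_iSup_of_mem hbγ (x b).2)
    exfalso
    have hne : (DFinsupp.support x).Nonempty := ⟨b, hb⟩
    set a := (DFinsupp.support x).min' hne
    have haγ : a < γ := lt_of_le_of_lt ((DFinsupp.support x).min'_le b hb) (not_le.mp hbγ)
    have hrest : ∑ c ∈ (DFinsupp.support x).erase a, (x c : M) ∈ Fp a := by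
      refine sum_mem fun c hc => ?_
      rw [hFp]
      have hlt : a < c := lt_of_le_of_ne ((DFinsupp.support x).min'_le c (Finset.mem_of_mem_erase hc)) (Finset.ne_of_mem_erase hc).symm
      exact Submodule.mem_iSup_of_mem c (Submodule.mem_iSup_of_mem hlt (hGF c (x c).2))
    have hz' : ∑ c ∈ DFinsupp.support x, (x c : M) ∈ Fp a := by
      rw [hFp]; exact Submodule.mem_iSup_of_mem γ (Submodule.mem_iSup_of_mem haγ hz)
    rw [← Finset.add_sum_erase _ _ ((DFinsupp.support x).min'_mem hne)] at hz'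
    have := hdis a (x a : M) (x a).2 (by have h := sub_mem hz' hrest; rwa [add_sub_cancel_right] at h)
    exact DFinsupp.mem_support_iff.mp ((DFinsupp.support x).min'_mem hne) (Subtype.ext this)

end


/-- (1) ⇔ (4): in affine form, let Γ be a non-trivial totally ordered commutative group, R a commutative
ring, M a finitely generated projective R-module (a finite locally free sheaf on X = Spec R) and F a
non-increasing Γ-indexed family of submodules of M; write F^γ_+ for the sum of the F^η with η > γ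
and Gr^γ = F^γ/F^γ_+. Then the following are equivalent: (1) there is a Γ-grading M = ⊕_γ G_γ by
submodules (internal direct sum) with F^γ = Σ_{η ≥ γ} G_η for every γ; (4) every Gr^γ is finitely
generated projective over R and, for every prime p of R, dim_{κ(p)} (κ(p) ⊗ M) = Σ_γ dim_{κ(p)} Gr^γ
of the image filtration on κ(p) ⊗ M (whose γ-th term F_x^γ is the image of κ(p) ⊗ F^γ; dim Gr^γ is
written as dim F_x^γ − dim F_x^γ_+, and the sum has finitely many non-zero terms). (The source's
conditions (2), (3) are the Zariski- and fpqc-local forms of (1) on a general scheme; its further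
assertions on F^γ ⊗ κ(x) are not stated.) -/
theorem result
    {Γ : Type w} [AddCommGroup Γ] [LinearOrder Γ] [IsOrderedAddMonoid Γ] [Nontrivial Γ]
    {R : Type u} [CommRing R] {M : Type v} [AddCommGroup M] [Module R M] [Module.Finite R M] [Module.Projective R M]
    (F : Γ → Submodule R M) (hF : Antitone F)
    (Fp : Γ → Submodule R M) (hFp : ∀ γ, Fp γ = ⨆ η ∈ Set.Ioi γ, F η) :
    (∃ G : Γ → Submodule R M, DirectSum.IsInternal G ∧ ∀ γ, F γ = ⨆ η ∈ Set.Ici γ, G η) ↔
    ((∀ γ, Module.Finite R (↥(F γ) ⧸ Submodule.comap (F γ).subtype (Fp γ)) ∧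
        Module.Projective R (↥(F γ) ⧸ Submodule.comap (F γ).subtype (Fp γ))) ∧
      ∀ (p : PrimeSpectrum R) (Fx : Γ → Submodule p.asIdeal.ResidueField (p.asIdeal.ResidueField ⊗[R] M)),
        (∀ γ, Fx γ = LinearMap.range ((F γ).subtype.baseChange p.asIdeal.ResidueField)) →
        Module.finrank p.asIdeal.ResidueField (p.asIdeal.ResidueField ⊗[R] M) =
          ∑ᶠ γ, (Module.finrank p.asIdeal.ResidueField ↥(Fx γ) -
            Module.finrank p.asIdeal.ResidueField ↥(⨆ η ∈ Set.Ioi γ, Fx η))) := by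
  refine ⟨fun ⟨G, hG, hFG⟩ => forward F Fp G hFp hG hFG, fun ⟨h1, h2⟩ => backward F Fp hF hFp (fun γ => (h1 γ).2) h2⟩

end Groth.Agent.S19154
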