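import Groth.Statements.S19155
import Groth.Agent.Lib.RootD.Weyl
-- import your own Groth.Agent.* helpers here

set_option autoImplicit false
open RootPairing
open RootD

namespace Groth.Agent.S19155

/-- Let P be a root datum (root pairing over ℤ with finitely many roots, roots in M), S a system of
positive roots, Γ a non-trivial totally ordered commutative group and f : M → Γ additive. Call f
dominant when f(α) ≥ 0 for every positive root α. Then the dominant maps form a fundamental domain
for the Weyl group W acting on Hom(M, Γ) through M: there is w ∈ W with f ∘ w dominant, and if f and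
f ∘ w are both dominant (w ∈ W) then f ∘ w = f. -/
theorem result {ι M N : Type*} [AddCommGroup M] [AddCommGroup N]
    (P : RootPairing ι ℤ M N) [Finite ι] (S : Set ι) (hS : RootD.IsPosSys P S)
    {Γ : Type*} [AddCommGroup Γ] [LinearOrder Γ] [IsOrderedAddMonoid Γ] [Nontrivial Γ] (f : M →+ Γ) :
    (∃ g : P.Aut, g ∈ P.weylGroup ∧ ∀ i ∈ S, 0 ≤ f (RootPairing.Equiv.weightHom P g (P.root i))) ∧
    (∀ g : P.Aut, g ∈ P.weylGroup → (∀ i ∈ S, 0 ≤ f (P.root i)) →
      (∀ i ∈ S, 0 ≤ f (RootPairing.Equiv.weightHom P g (P.root i))) →
      ∀ m : M, f (RootPairing.Equiv.weightHom P g m) = f m) := by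
  have hw : ∀ (g : P.Aut) (m : M), RootPairing.Equiv.weightHom P g m = g • m := fun _ _ => rfl
  simp only [hw]
  constructor
  · obtain ⟨g, hg, hsub⟩ := Groth.Agent.RootDLib.exists_weyl_image_subset (P := P) hS
      (P' := {i | 0 ≤ f (P.root i)}) (fun i => by
        simp only [Set.mem_setOf_eq, Groth.Agent.RootDLib.root_ng, map_neg, neg_nonneg]
        exact le_total _ _)
      (fun a b c ha hb hc => by
        simp only [Set.mem_setOf_eq] at ha hb ⊢
        rw [hc, map_add]; exact add_nonneg ha hb)
    exact ⟨g, hg, fun i hi => by rw [Groth.Agent.RootDLib.smul_root]; exact hsub ⟨i, hi, rfl⟩⟩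
  · intro g hg hf hgf
    have hΔ := Groth.Agent.RootDLib.isSimpleSys_indec hS
    have hp := Groth.Agent.RootDLib.posOf_indec hS
    rw [← Groth.Agent.RootDLib.closure_simple_eq hΔ] at hg
    obtain ⟨l, hl, rfl, hmin⟩ := Groth.Agent.RootDLib.exists_minimal_word hg
    clear hg
    induction l using List.reverseRecOn with
    | nil => simp
    | append_singleton t a ih =>
      have ha := hl a (by simp)
      have hta := fun x hx => hl x (List.mem_append_left [a] hx)
      obtain ⟨hpos, he⟩ := Groth.Agent.RootDLib.minimal_last_neg hΔ subset_rfl hta ha hmin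
      have h1 : 0 ≤ f (P.root (Groth.Agent.RootDLib.wprod P t • a)) := hf _ (hp ▸ hpos :)
      have h2 : 0 ≤ f (P.root (Groth.Agent.RootDLib.wprod P (t ++ [a]) • a)) := by
        rw [← Groth.Agent.RootDLib.smul_root]; exact hgf a ha.1
      have h0 : f (P.root (Groth.Agent.RootDLib.wprod P t • a)) = 0 := by
        rw [he, map_neg, neg_nonneg] at h2
        exact le_antisymm h2 h1
      have hm : ∀ m : M, f (Groth.Agent.RootDLib.wprod P (t ++ [a]) • m) =
          f (Groth.Agent.RootDLib.wprod P t • m) := by
        intro m
        rw [Groth.Agent.RootDLib.wprod_append, Groth.Agent.RootDLib.wprod_cons,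
          Groth.Agent.RootDLib.wprod_nil, mul_one, mul_smul, Equiv.reflection_smul,
          RootPairing.reflection_apply, smul_sub, smul_comm, Groth.Agent.RootDLib.smul_root, map_sub,
          map_zsmul, h0, smul_zero, sub_zero]
      intro m
      rw [hm]
      refine ih hta (fun i hi => ?_) (fun l' hl' he' => ?_) m
      · rw [← hm]; exact hgf i hi
      · have := hmin (l' ++ [a]) (fun x hx => by
          rcases List.mem_append.1 hx with hx | hx
          · exact hl' x hx
          · simp at hx; exact hx ▸ ha) (by simp [he'])
        simp at this; omega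

end Groth.Agent.S19155
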