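import Groth.Statements.S19156
import Groth.Agent.Lib.RootD.Weyl
import Groth.Agent.Lib.RootD.Dual
-- import your own Groth.Agent.* helpers here

set_option autoImplicit false
open RootPairing
open RootD

namespace Groth.Agent.S19156

/-- Let P be a root datum (root pairing over ℤ with finitely many roots indexed by ι), S a system of
positive roots, Γ a non-trivial totally ordered commutative group and f : M → Γ additive. Then f is
dominant (non-negative on the positive roots) if and only if, for every w in the Weyl group, f − f ∘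
w is a combination m ↦ Σ_{α ∈ S} ⟨m, α∨⟩ c_α of the positive coroots with coefficients c_α ≥ 0 in Γ
(f ∘ w is strongly dominated by f); and f is dominant if and only if f(w m) ≤ f(m) for every w ∈ W
and every dominant weight m (weak dominance). -/
theorem result {ι M N : Type*} [AddCommGroup M] [AddCommGroup N]
    (P : RootPairing ι ℤ M N) [Fintype ι] (S : Set ι) (hS : RootD.IsPosSys P S)
    {Γ : Type*} [AddCommGroup Γ] [LinearOrder Γ] [IsOrderedAddMonoid Γ] [Nontrivial Γ] (f : M →+ Γ) :
    ((∀ i ∈ S, 0 ≤ f (P.root i)) ↔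
      ∀ g : P.Aut, g ∈ P.weylGroup → ∃ c : ι → Γ, (∀ i, 0 ≤ c i) ∧ (∀ i, i ∉ S → c i = 0) ∧
        ∀ m : M, f m - f (RootPairing.Equiv.weightHom P g m) = ∑ i, (P.coroot' i m) • c i) ∧
    ((∀ i ∈ S, 0 ≤ f (P.root i)) ↔
      ∀ g : P.Aut, g ∈ P.weylGroup → ∀ m : M, (∀ i ∈ S, 0 ≤ P.coroot' i m) →
        f (RootPairing.Equiv.weightHom P g m) ≤ f m) := by
  classical
  have hw : ∀ (g : P.Aut) (m : M), RootPairing.Equiv.weightHom P g m = g • m := fun _ _ => rfl
  simp only [hw]
  have hΔ := Groth.Agent.RootDLib.isSimpleSys_indec hS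
  have hp := Groth.Agent.RootDLib.posOf_indec hS
  -- dominance gives the decomposition
  have hAB : (∀ i ∈ S, 0 ≤ f (P.root i)) →
      ∀ g : P.Aut, g ∈ P.weylGroup → ∃ c : ι → Γ, (∀ i, 0 ≤ c i) ∧ (∀ i, i ∉ S → c i = 0) ∧
        ∀ m : M, f m - f (g • m) = ∑ i, (P.coroot' i m) • c i := by
    intro hf g hg
    rw [← Groth.Agent.RootDLib.closure_simple_eq hΔ] at hg
    obtain ⟨l, hl, rfl, hmin⟩ := Groth.Agent.RootDLib.exists_minimal_word hg
    clear hg
    induction l using List.reverseRecOn with
    | nil => exact ⟨0, fun i => le_rfl, fun i _ => rfl, fun m => by simp⟩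
    | append_singleton t a ih =>
      have ha := hl a (by simp)
      have hta := fun x hx => hl x (List.mem_append_left [a] hx)
      obtain ⟨hpos, -⟩ := Groth.Agent.RootDLib.minimal_last_neg hΔ subset_rfl hta ha hmin
      have h1 : 0 ≤ f (P.root (Groth.Agent.RootDLib.wprod P t • a)) := hf _ (hp ▸ hpos :)
      obtain ⟨c, hc0, hcS, hc⟩ := ih hta fun l' hl' he' => by
        have := hmin (l' ++ [a]) (fun x hx => by
          rcases List.mem_append.1 hx with hx | hx
          · exact hl' x hx
          · simp at hx; exact hx ▸ ha) (by simp [he'])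
        simp at this; omega
      refine ⟨c + Pi.single a (f (P.root (Groth.Agent.RootDLib.wprod P t • a))), fun i => ?_,
        fun i hi => ?_, fun m => ?_⟩
      · refine add_nonneg (hc0 i) ?_
        rcases eq_or_ne i a with rfl | h
        · simpa using h1
        · simp [h]
      · have hia : i ≠ a := fun h => hi (h ▸ ha.1)
        simp [hcS i hi, hia]
      · rw [Groth.Agent.RootDLib.wprod_append, Groth.Agent.RootDLib.wprod_cons,
          Groth.Agent.RootDLib.wprod_nil, mul_one, mul_smul, Equiv.reflection_smul,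
          RootPairing.reflection_apply, smul_sub, smul_comm, Groth.Agent.RootDLib.smul_root, map_sub,
          map_zsmul, sub_sub_eq_add_sub, add_sub_right_comm, hc m]
        simp only [Pi.add_apply, smul_add, Finset.sum_add_distrib]
        congr 1
        rw [Finset.sum_eq_single a (fun b _ hb => by simp [hb]) (by simp), Pi.single_eq_same]
  have hBC : (∀ g : P.Aut, g ∈ P.weylGroup → ∃ c : ι → Γ, (∀ i, 0 ≤ c i) ∧ (∀ i, i ∉ S → c i = 0) ∧
        ∀ m : M, f m - f (g • m) = ∑ i, (P.coroot' i m) • c i) →
      ∀ g : P.Aut, g ∈ P.weylGroup → ∀ m : M, (∀ i ∈ S, 0 ≤ P.coroot' i m) → f (g • m) ≤ f m := by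
    intro h g hg m hm
    obtain ⟨c, hc0, hcS, hc⟩ := h g hg
    rw [← sub_nonneg, hc m]
    refine Finset.sum_nonneg fun i _ => ?_
    by_cases hi : i ∈ S
    · exact zsmul_nonneg (hc0 i) (hm i hi)
    · rw [hcS i hi, smul_zero]
  -- a regular dominant element
  set ρ : M := ∑ k, (if k ∈ S then P.root k else 0) with hρ
  have hΔpos : ∀ a ∈ Groth.Agent.RootDLib.indec P S, 0 < P.coroot' a ρ := by
    intro a ha
    set T := Finset.univ.filter (fun k => k ∈ S) with hT
    have hsum : P.coroot' a ρ = ∑ k ∈ T, P.pairing k a := by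
      rw [hρ, map_sum, hT, Finset.sum_filter]
      exact Finset.sum_congr rfl fun k _ => by split_ifs <;> simp
    set p : ι → Prop := fun k => k = a ∨ P.root k = (2 : ℤ) • P.root a with hpdef
    rw [hsum, ← Finset.sum_filter_add_sum_filter_not T p]
    have h1 : ∑ k ∈ T.filter (fun k => ¬ p k), P.pairing k a = 0 := by
      refine Finset.sum_involution (fun k _ => P.reflectionPerm a k) (fun k _ => ?_)
        (fun k _ hne h => ?_) (fun k hk => ?_) (fun k _ => P.reflectionPerm_self a k)
      · rw [← P.pairing_reflectionPerm a k a, P.pairing_reflectionPerm_self_right, add_neg_cancel]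
      · have tf := Groth.Agent.RootDLib.torsionFree P
        have := congrArg P.root h
        rw [RootPairing.root_reflectionPerm, RootPairing.reflection_apply_root, sub_eq_self,
          smul_eq_zero] at this
        exact hne (this.resolve_right (Groth.Agent.RootDLib.root_ne_zero P a))
      · simp only [hT, hpdef, Finset.mem_filter, Finset.mem_univ, true_and, not_or] at hk ⊢
        have hk' := Groth.Agent.RootDLib.reflect_mem_posOf ha
          (show k ∈ RootD.posOf P _ from hp.symm ▸ hk.1) hk.2.1 hk.2.2 hΔ
        rw [hp] at hk'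
        refine ⟨hk', fun h => ?_, fun h => ?_⟩
        · have e : k = Groth.Agent.RootDLib.ng P a := by rw [← P.reflectionPerm_self a k, h]
          exact hS.disjoint ha.1 (show Groth.Agent.RootDLib.ng P a ∈ S from e ▸ hk.1)
        · have e : P.root k = -((2 : ℤ) • P.root a) := by
            have h' := congrArg (P.reflection a) h
            rwa [RootPairing.root_reflectionPerm, RootPairing.reflection_same, map_smul,
              RootPairing.reflection_apply_self, smul_neg] at h'
          refine hS.disjoint hk.1 (hS.sat 1 one_pos ?_)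
          rw [one_smul, show P.root (P.reflectionPerm k k) = -P.root k from
            Groth.Agent.RootDLib.root_ng P k, e, neg_neg, two_smul]
          exact add_mem (Groth.Agent.RootDLib.root_mem_natSpan P ha.1)
            (Groth.Agent.RootDLib.root_mem_natSpan P ha.1)
    rw [h1, add_zero]
    refine Finset.sum_pos (fun k hk => ?_) ⟨a, by simp [hT, hpdef, ha.1]⟩
    simp only [hpdef, Finset.mem_filter] at hk
    rcases hk.2 with h | h
    · rw [h, P.pairing_same]; norm_num
    · have := congrArg (P.coroot' a) h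
      simp at this
      omega
  have hρpos : ∀ i ∈ S, 0 < P.coroot' i ρ := by
    intro i hi
    rw [Groth.Agent.RootDLib.coroot'_pos_iff]
    have hi' : i ∈ RootD.posOf P (Groth.Agent.RootDLib.indec P S) := hp.symm ▸ hi
    rw [← Groth.Agent.RootDLib.coeff_sum hΔ i, Finsupp.linearCombination_apply, map_finsuppSum,
      Finsupp.sum]
    refine Finset.sum_pos (fun k hk => ?_)
      (Finsupp.support_nonempty_iff.2 (Groth.Agent.RootDLib.coeff_ne_zero hΔ i))
    rw [map_smul, smul_eq_mul]
    refine mul_pos ((((Groth.Agent.RootDLib.mem_posOf_iff hΔ).1 hi') k).lt_of_ne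
      (Finsupp.mem_support_iff.1 hk).symm) ?_
    exact (Groth.Agent.RootDLib.coroot'_pos_iff P ρ k).1
      (hΔpos k (Groth.Agent.RootDLib.coeff_supp hΔ i hk))
  have hCA : (∀ g : P.Aut, g ∈ P.weylGroup → ∀ m : M, (∀ i ∈ S, 0 ≤ P.coroot' i m) →
      f (g • m) ≤ f m) → ∀ i ∈ S, 0 ≤ f (P.root i) := by
    intro h i hi
    have h1 := h _ (P.reflection_mem_weylGroup i) ρ fun j hj => (hρpos j hj).le
    rw [Equiv.reflection_smul, RootPairing.reflection_apply, map_sub, map_zsmul,
      sub_le_self_iff] at h1
    by_contra hc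
    push Not at hc
    have h2 := zsmul_pos (neg_pos.2 hc) (hρpos i hi)
    rw [smul_neg, Left.neg_pos_iff] at h2
    exact not_lt.2 h1 h2
  exact ⟨⟨hAB, fun h => hCA (hBC h)⟩, ⟨fun h => hBC (hAB h), hCA⟩⟩

end Groth.Agent.S19156
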