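import Groth.Statements.S19157
import Mathlib

set_option autoImplicit false
open scoped TensorProduct
universe u v w
open FiltMod

namespace Groth.Agent.S19157

section
variable {Γ : Type w} [AddCommGroup Γ] [LinearOrder Γ] [IsOrderedAddMonoid Γ]
  {R : Type u} [CommRing R] {M : Type v} [AddCommGroup M] [Module R M]

/-- projection onto a summand, as a map to `M` -/
noncomputable def proj {G : Γ → Submodule R M} (hG : DirectSum.IsInternal G) (b : Γ) : M →ₗ[R] M :=
  (G b).subtype ∘ₗ DirectSum.component R Γ (fun i => G i) b ∘ₗ (LinearEquiv.ofBijective (DirectSum.coeLinearMap G) hG).symm.toLinearMap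

theorem proj_of_mem {G : Γ → Submodule R M} (hG : DirectSum.IsInternal G) {a : Γ} {m : M} (hm : m ∈ G a) (b : Γ) :
    proj hG b m = if a = b then m else 0 := by
  have h : (LinearEquiv.ofBijective (DirectSum.coeLinearMap G) hG).symm m =
      DirectSum.lof R Γ (fun i => G i) a ⟨m, hm⟩ := by
    rw [LinearEquiv.symm_apply_eq]
    exact (DirectSum.coeLinearMap_of G a ⟨m, hm⟩).symm
  simp only [proj, LinearMap.comp_apply, LinearEquiv.coe_coe, h]
  by_cases hab : a = b
  · subst hab; simp [DirectSum.component.lof_self]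
  · rw [DirectSum.component.of, dif_neg hab, if_neg hab]; rfl

theorem proj_mem {G : Γ → Submodule R M} (hG : DirectSum.IsInternal G) (b : Γ) (m : M) : proj hG b m ∈ G b :=
  SetLike.coe_mem _

theorem proj_eq_zero_of_lt {F G : Γ → Submodule R M} (hG : DirectSum.IsInternal G)
    (hF : ∀ γ, F γ = ⨆ η ∈ Set.Ici γ, G η) {b c : Γ} (hbc : b < c) {m : M} (hm : m ∈ F c) : proj hG b m = 0 := by
  have : F c ≤ LinearMap.ker (proj hG b) := by
    rw [hF]
    refine iSup₂_le fun η hη z hz => ?_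
    rw [LinearMap.mem_ker, proj_of_mem hG hz, if_neg]
    exact fun h => (not_lt.mpr (Set.mem_Ici.mp hη)) (h ▸ hbc)
  exact this hm

theorem mem_F_of_proj {F G : Γ → Submodule R M} (hG : DirectSum.IsInternal G)
    (hF : ∀ γ, F γ = ⨆ η ∈ Set.Ici γ, G η) {c : Γ} {m : M} (h : ∀ b < c, proj hG b m = 0) : m ∈ F c := by
  classical
  obtain ⟨x, rfl⟩ := hG.2 m
  have hx : ∀ b, proj hG b (DirectSum.coeAddMonoidHom G x) = (x b : M) := by
    intro b
    have : (LinearEquiv.ofBijective (DirectSum.coeLinearMap G) hG).symm (DirectSum.coeAddMonoidHom G x) = x :=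
      (LinearEquiv.ofBijective (DirectSum.coeLinearMap G) hG).symm_apply_eq.mpr rfl
    simp only [proj, LinearMap.comp_apply, LinearEquiv.coe_coe, this]
    rfl
  have hsum : DirectSum.coeAddMonoidHom G x = ∑ b ∈ DFinsupp.support x, (x b : M) :=
    DirectSum.coeAddMonoidHom_eq_dfinsuppSum _ x
  rw [hsum]
  refine sum_mem fun b _ => ?_
  by_cases hb : b < c
  · rw [← hx, h b hb]; exact zero_mem _
  · rw [hF]
    exact Submodule.mem_iSup_of_mem b (Submodule.mem_iSup_of_mem (not_lt.mp hb) (SetLike.coe_mem _))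

/-- The basic vanishing coming from equality of the tensor filtrations. -/
theorem prod_eq_zero {k : ℕ} (F₁ F₂ G₂ : Γ → Submodule R M) (hG₂ : DirectSum.IsInternal G₂)
    (hF₂ : ∀ γ, F₂ γ = ⨆ η ∈ Set.Ici γ, G₂ η)
    (h : ∀ γ : Γ,
      (⨆ c : {c : Fin k → Γ // ∑ i, c i = γ}, LinearMap.range (PiTensorProduct.map (R := R) (fun i => (F₁ (c.1 i)).subtype))) =
      (⨆ c : {c : Fin k → Γ // ∑ i, c i = γ}, LinearMap.range (PiTensorProduct.map (R := R) (fun i => (F₂ (c.1 i)).subtype))))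
    (c : Fin k → Γ) (m : Fin k → M) (hm : ∀ i, m i ∈ F₁ (c i))
    (b : Fin k → Γ) (hbc : ∑ i, b i < ∑ i, c i) (φ : Fin k → Module.Dual R M) :
    ∏ i, φ i (proj hG₂ (b i) (m i)) = 0 := by
  classical
  let Ψ : PiTensorProduct R (fun _ : Fin k => M) →ₗ[R] R :=
    PiTensorProduct.lift ((MultilinearMap.mkPiAlgebra R (Fin k) R).compLinearMap fun i => (φ i).comp (proj hG₂ (b i)))
  have hmem : PiTensorProduct.tprod R m ∈
      ⨆ c' : {c' : Fin k → Γ // ∑ i, c' i = ∑ i, c i}, LinearMap.range (PiTensorProduct.map (R := R) (fun i => (F₁ (c'.1 i)).subtype)) := by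
    refine Submodule.mem_iSup_of_mem ⟨c, rfl⟩ ⟨PiTensorProduct.tprod R fun i => (⟨m i, hm i⟩ : F₁ (c i)), ?_⟩
    rw [PiTensorProduct.map_tprod]; rfl
  rw [h] at hmem
  have hker : (⨆ c' : {c' : Fin k → Γ // ∑ i, c' i = ∑ i, c i}, LinearMap.range (PiTensorProduct.map (R := R) (fun i => (F₂ (c'.1 i)).subtype))) ≤ LinearMap.ker Ψ := by
    refine iSup_le fun c' => ?_
    rw [LinearMap.range_le_ker_iff]
    ext z
    obtain ⟨i, hi⟩ : ∃ i, b i < c'.1 i := by
      by_contra hcon
      push Not at hcon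
      exact absurd hbc (not_lt.mpr (c'.2 ▸ Finset.sum_le_sum fun i _ => hcon i))
    simp only [LinearMap.compMultilinearMap_apply, LinearMap.comp_apply, PiTensorProduct.map_tprod, Ψ,
      PiTensorProduct.lift.tprod, MultilinearMap.compLinearMap_apply, MultilinearMap.mkPiAlgebra_apply,
      LinearMap.zero_apply]
    refine Finset.prod_eq_zero (Finset.mem_univ i) ?_
    rw [show proj hG₂ (b i) ((F₂ (c'.1 i)).subtype (z i)) = 0 from proj_eq_zero_of_lt hG₂ hF₂ hi (z i).2, map_zero]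
  have := hker hmem
  rw [LinearMap.mem_ker] at this
  simpa [Ψ] using this

theorem eq_zero_of_dual [Module.Projective R M] {z : M} (h : ∀ φ : Module.Dual R M, φ z = 0) : z = 0 := by
  by_contra hz
  obtain ⟨f, hf⟩ := Module.Projective.exists_dual_ne_zero R hz
  exact hf (h f)

theorem exists_kill [Module.Finite R M] [Module.Projective R M] (p : Ideal R) [p.IsPrime]
    (h : ∀ (z : M) (φ : Module.Dual R M), φ z ∈ p) : ∃ r, r ∉ p ∧ ∀ z : M, r • z = 0 := by
  obtain ⟨r, hr1, hr0⟩ := Submodule.exists_sub_one_mem_and_smul_eq_zero_of_fg_of_le_smul p (⊤ : Submodule R M)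
    Module.Finite.fg_top (by
      intro z _
      obtain ⟨s, hs⟩ := Module.projective_def.mp (inferInstance : Module.Projective R M)
      rw [← hs z, Finsupp.linearCombination_apply]
      exact Submodule.sum_mem _ fun i _ => Submodule.smul_mem_smul (h z ((Finsupp.lapply i).comp s)) Submodule.mem_top)
  refine ⟨r, fun hr => (inferInstance : p.IsPrime).ne_top ((Ideal.eq_top_iff_one p).mpr ?_), fun z => hr0 z Submodule.mem_top⟩
  simpa using p.sub_mem hr hr1

theorem le_of_tensor [Module.Finite R M] [Module.Projective R M] {k : ℕ} (hk : 1 ≤ k)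
    (F₁ F₂ G₁ G₂ : Γ → Submodule R M) (hG₁ : DirectSum.IsInternal G₁) (hF₁ : ∀ γ, F₁ γ = ⨆ η ∈ Set.Ici γ, G₁ η)
    (hG₂ : DirectSum.IsInternal G₂) (hF₂ : ∀ γ, F₂ γ = ⨆ η ∈ Set.Ici γ, G₂ η)
    (h : ∀ γ : Γ,
      (⨆ c : {c : Fin k → Γ // ∑ i, c i = γ}, LinearMap.range (PiTensorProduct.map (R := R) (fun i => (F₁ (c.1 i)).subtype))) =
      (⨆ c : {c : Fin k → Γ // ∑ i, c i = γ}, LinearMap.range (PiTensorProduct.map (R := R) (fun i => (F₂ (c.1 i)).subtype))))
    (γ : Γ) : F₁ γ ≤ F₂ γ := by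
  classical
  intro x hx
  refine mem_F_of_proj hG₂ hF₂ fun η hη => ?_
  set xη := proj hG₂ η x
  -- powers of lower components vanish
  have hA : ∀ (F F' G' : Γ → Submodule R M) (hG' : DirectSum.IsInternal G') (hF' : ∀ γ, F' γ = ⨆ η ∈ Set.Ici γ, G' η)
      (hFF : ∀ γ : Γ,
      (⨆ c : {c : Fin k → Γ // ∑ i, c i = γ}, LinearMap.range (PiTensorProduct.map (R := R) (fun i => (F (c.1 i)).subtype))) =
      (⨆ c : {c : Fin k → Γ // ∑ i, c i = γ}, LinearMap.range (PiTensorProduct.map (R := R) (fun i => (F' (c.1 i)).subtype))))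
      (a b : Γ) (z : M), z ∈ F a → b < a → ∀ φ : Module.Dual R M, IsNilpotent (φ (proj hG' b z)) := by
    intro F F' G' hG' hF' hFF a b z hz hba φ
    refine ⟨k, ?_⟩
    have := prod_eq_zero F F' G' hG' hF' hFF (fun _ => a) (fun _ => z) (fun _ => hz) (fun _ => b)
      (Finset.sum_lt_sum_of_nonempty ⟨⟨0, hk⟩, Finset.mem_univ _⟩ fun i _ => hba) (fun _ => φ)
    simpa using this
  suffices hann : ∀ p : Ideal R, p.IsPrime → ∃ r, r ∉ p ∧ r • xη = 0 by
    have htop : (Submodule.span R {xη}).annihilator = ⊤ := by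
      by_contra hne
      obtain ⟨p, hp, hle⟩ := Ideal.exists_le_maximal _ hne
      obtain ⟨r, hr, hr0⟩ := hann p hp.isPrime
      exact hr (hle ((Submodule.mem_annihilator_span_singleton _ _).mpr hr0))
    have h1 := (Submodule.mem_annihilator_span_singleton xη 1).mp (htop ▸ Submodule.mem_top)
    rwa [one_smul] at h1
  intro p hp
  let S (G : Γ → Submodule R M) : Set Γ := {a | ∃ m ∈ G a, ∃ φ : Module.Dual R M, φ m ∉ p}
  have hfin : ∀ {G : Γ → Submodule R M}, DirectSum.IsInternal G → (S G).Finite := by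
    intro G hG
    haveI : Module.Finite R (DirectSum Γ fun i => G i) :=
      Module.Finite.equiv (LinearEquiv.ofBijective (DirectSum.coeLinearMap G) hG).symm
    obtain ⟨t, ht⟩ := (Module.Finite.fg_top : (⊤ : Submodule R (DirectSum Γ fun i => G i)).FG)
    refine Set.Finite.subset (t.biUnion fun v => DFinsupp.support v).finite_toSet fun a ha => ?_
    obtain ⟨m, hm, φ, hφ⟩ := ha
    by_contra hat
    simp only [Finset.coe_biUnion, Set.mem_iUnion, Finset.mem_coe, not_exists] at hat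
    refine hφ ?_
    have hm0 : (DirectSum.lof R Γ (fun i => G i) a ⟨m, hm⟩) a = 0 := by
      have hle : (⊤ : Submodule R (DirectSum Γ fun i => G i)) ≤ LinearMap.ker (DirectSum.component R Γ (fun i => G i) a) := by
        rw [← ht, Submodule.span_le]
        intro v hv
        exact LinearMap.mem_ker.mpr (DFinsupp.notMem_support_iff.mp (hat v hv))
      exact LinearMap.mem_ker.mp (hle (Submodule.mem_top (x := DirectSum.lof R Γ (fun i => G i) a ⟨m, hm⟩)))
    have : (⟨m, hm⟩ : G a) = 0 := by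
      rw [← hm0, DirectSum.lof_eq_of]
      exact (DirectSum.of_eq_same (β := fun i => G i) a _).symm
    rw [show m = 0 from congrArg Subtype.val this, map_zero]
    exact p.zero_mem
  have hdec : ∀ {G : Γ → Submodule R M} (hG : DirectSum.IsInternal G) (z : M) (φ : Module.Dual R M),
      (∀ b, φ (proj hG b z) ∈ p) → φ z ∈ p := by
    intro G hG z φ hz
    obtain ⟨x, rfl⟩ := hG.2 z
    have hx : ∀ b, proj hG b (DirectSum.coeAddMonoidHom G x) = (x b : M) := by
      intro b
      have : (LinearEquiv.ofBijective (DirectSum.coeLinearMap G) hG).symm (DirectSum.coeAddMonoidHom G x) = x :=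
        (LinearEquiv.ofBijective (DirectSum.coeLinearMap G) hG).symm_apply_eq.mpr rfl
      simp only [proj, LinearMap.comp_apply, LinearEquiv.coe_coe, this]
      rfl
    rw [DirectSum.coeAddMonoidHom_eq_dfinsuppSum, DFinsupp.sum, map_sum]
    exact p.sum_mem fun b _ => hx b ▸ hz b
  by_cases hS : (S G₁).Nonempty
  · obtain ⟨a, ha, hmax⟩ := (hfin hG₁).exists_maximal hS
    obtain ⟨m, hm, φ, hφ⟩ := ha
    have hmF : m ∈ F₁ a := by
      rw [hF₁]; exact Submodule.mem_iSup_of_mem a (Submodule.mem_iSup_of_mem (Set.mem_Ici.mpr le_rfl) hm)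
    have hnot : φ (proj hG₂ a m) ∉ p := by
      intro hpa
      refine hφ (hdec hG₂ m φ fun b => ?_)
      rcases lt_trichotomy b a with hb | hb | hb
      · obtain ⟨N, hN⟩ := hA F₁ F₂ G₂ hG₂ hF₂ h a b m hmF hb φ
        exact hp.mem_of_pow_mem N (hN ▸ p.zero_mem)
      · exact hb ▸ hpa
      · by_contra hb2
        have hbS : b ∈ S G₂ := ⟨_, proj_mem hG₂ b m, φ, hb2⟩
        obtain ⟨B, ⟨m', hm', φ', hφ'⟩, hBmax⟩ := (hfin hG₂).exists_maximal ⟨b, hbS⟩
        have haB : a < B := by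
          rcases le_total b B with h1 | h1
          · exact hb.trans_le h1
          · exact hb.trans_le (hBmax hbS h1)
        have hm'F : m' ∈ F₂ B := by
          rw [hF₂]; exact Submodule.mem_iSup_of_mem B (Submodule.mem_iSup_of_mem (Set.mem_Ici.mpr le_rfl) hm')
        refine hφ' (hdec hG₁ m' φ' fun c => ?_)
        rcases lt_or_ge c B with hc | hc
        · obtain ⟨N, hN⟩ := hA F₂ F₁ G₁ hG₁ hF₁ (fun γ => (h γ).symm) B c m' hm'F hc φ'
          exact hp.mem_of_pow_mem N (hN ▸ p.zero_mem)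
        · by_contra hc2
          have := hmax (⟨_, proj_mem hG₁ c m', φ', hc2⟩ : c ∈ S G₁) (haB.le.trans hc)
          exact absurd (haB.trans_le hc) (not_lt.mpr this)
    obtain ⟨j, rfl⟩ : ∃ j, k = j + 1 := ⟨k - 1, by omega⟩
    refine ⟨φ (proj hG₂ a m) ^ j, fun hmem => hnot (hp.mem_of_pow_mem j hmem), eq_zero_of_dual (R := R) fun ψ => ?_⟩
    have := prod_eq_zero F₁ F₂ G₂ hG₂ hF₂ h (Fin.cons γ fun _ => a) (Fin.cons x fun _ => m)
      (Fin.cases hx fun _ => by simpa using hmF) (Fin.cons η fun _ => a)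
      (by rw [Fin.sum_univ_succ, Fin.sum_univ_succ]; simpa using hη) (Fin.cons ψ fun _ => φ)
    rw [Fin.prod_univ_succ] at this
    simp only [Fin.cons_zero, Fin.cons_succ, Finset.prod_const, Finset.card_univ, Fintype.card_fin] at this
    rw [map_smul, smul_eq_mul, mul_comm]
    exact this
  · obtain ⟨r, hr, hr0⟩ := exists_kill p (M := M) fun z φ => hdec hG₁ z φ fun b => by
      by_contra hb
      exact hS ⟨b, _, proj_mem hG₁ b z, φ, hb⟩
    exact ⟨r, hr, hr0 _⟩

end


/-- In affine form, let Γ be a non-trivial totally ordered commutative group, R a commutative ring, M a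
finitely generated projective R-module, k ≥ 1, and F₁, F₂ two Γ-filtrations of M each admitting a
splitting (a grading M = ⊕_γ G_γ by submodules with F^γ = Σ_{η ≥ γ} G_η). If the filtrations they
induce on the k-th tensor power M^{⊗k} coincide, i.e. for every γ the sum over γ₁ + ⋯ + γ_k = γ of
the images of F₁^{γ₁} ⊗ ⋯ ⊗ F₁^{γ_k} in M^{⊗k} equals the corresponding sum for F₂, then F₁ = F₂.
(The source states this for Γ-filtrations of a finite locally free sheaf on a scheme, which split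
Zariski-locally; this is the affine split case to which it reduces.) -/
theorem result
    {Γ : Type w} [AddCommGroup Γ] [LinearOrder Γ] [IsOrderedAddMonoid Γ] [Nontrivial Γ]
    {R : Type u} [CommRing R] {M : Type v} [AddCommGroup M] [Module R M] [Module.Finite R M] [Module.Projective R M]
    (F₁ F₂ : Γ → Submodule R M)
    (h₁ : ∃ G : Γ → Submodule R M, DirectSum.IsInternal G ∧ ∀ γ, F₁ γ = ⨆ η ∈ Set.Ici γ, G η)
    (h₂ : ∃ G : Γ → Submodule R M, DirectSum.IsInternal G ∧ ∀ γ, F₂ γ = ⨆ η ∈ Set.Ici γ, G η)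
    (k : ℕ) (hk : 1 ≤ k)
    (h : ∀ γ : Γ,
      (⨆ c : {c : Fin k → Γ // ∑ i, c i = γ}, LinearMap.range (PiTensorProduct.map (R := R) (fun i => (F₁ (c.1 i)).subtype))) =
      (⨆ c : {c : Fin k → Γ // ∑ i, c i = γ}, LinearMap.range (PiTensorProduct.map (R := R) (fun i => (F₂ (c.1 i)).subtype)))) :
    F₁ = F₂ := by
  obtain ⟨G₁, hG₁, hF₁⟩ := h₁
  obtain ⟨G₂, hG₂, hF₂⟩ := h₂
  funext γ
  exact le_antisymm (le_of_tensor hk F₁ F₂ G₁ G₂ hG₁ hF₁ hG₂ hF₂ h γ)
    (le_of_tensor hk F₂ F₁ G₂ G₁ hG₂ hF₂ hG₁ hF₁ (fun γ => (h γ).symm) γ)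

end Groth.Agent.S19157
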