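import Groth.Statements.S19158
import Mathlib.LinearAlgebra.DFinsupp
import Mathlib.Algebra.DirectSum.Decomposition
import Mathlib.Algebra.DirectSum.Module
import Mathlib.RingTheory.Finiteness.Basic

set_option autoImplicit false
universe u v w
open FiltMod

namespace Groth.Agent.S19158

/-- Independence from triangular disjointness. -/
lemma iSupIndep_of_lt {Γ : Type*} [LinearOrder Γ] {R : Type*} [Ring R] {N : Type*} [AddCommGroup N]
    [Module R N] (C : Γ → Submodule R N) (h : ∀ γ, Disjoint (C γ) (⨆ η, ⨆ (_ : γ < η), C η)) :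
    iSupIndep C := by
  classical
  rw [iSupIndep_iff_dfinsupp_lsum_injective, ← LinearMap.ker_eq_bot, LinearMap.ker_eq_bot']
  intro m hm
  by_contra hne
  have hs : m.support.Nonempty := by
    rw [Finset.nonempty_iff_ne_empty]
    exact fun h' => hne (DFinsupp.support_eq_empty.mp h')
  let γ := m.support.min' hs
  have hγ : γ ∈ m.support := Finset.min'_mem _ hs
  rw [DFinsupp.lsum_apply_apply, DFinsupp.sumAddHom_apply, DFinsupp.sum,
    ← Finset.add_sum_erase _ _ hγ] at hm
  refine (DFinsupp.mem_support_iff.mp hγ) (Subtype.ext ?_)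
  refine Submodule.disjoint_def.mp (h γ) (m γ : N) (m γ).2 ?_
  have h1 : (m γ : N) = -∑ x ∈ m.support.erase γ, (m x : N) := eq_neg_of_add_eq_zero_left hm
  rw [h1]
  refine neg_mem (sum_mem fun x hx => ?_)
  rw [Finset.mem_erase] at hx
  exact Submodule.mem_iSup_of_mem x (Submodule.mem_iSup_of_mem
    (lt_of_le_of_ne (Finset.min'_le _ _ hx.2) (Ne.symm hx.1)) (m x).2)

/-- In affine form, let Γ be a non-trivial totally ordered commutative group, R a commutative ring and
(M_a) a finite family of finitely generated projective R-modules, each carrying a non-increasing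
Γ-indexed family of submodules F_a; give M = Π_a M_a the family F^γ = Π_a F_a^γ. Then F is split by
a Γ-grading of M (an internal direct sum decomposition M = ⊕_γ G_γ with F^γ = Σ_{η ≥ γ} G_η for all
γ) if and only if each F_a is split by a Γ-grading of M_a. (The published statement is for finite
locally free sheaves on a scheme, where a filtration counts as split when it is split by a grading
locally on the scheme; this row is the affine case, in which that is the same as being split by one
global grading.) -/
theorem result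
    {Γ : Type w} [AddCommGroup Γ] [LinearOrder Γ] [IsOrderedAddMonoid Γ] [Nontrivial Γ]
    {R : Type u} [CommRing R] {A : Type v} [Fintype A] (M : A → Type v) [∀ a, AddCommGroup (M a)] [∀ a, Module R (M a)]
    [∀ a, Module.Finite R (M a)] [∀ a, Module.Projective R (M a)]
    (F : ∀ a, Γ → Submodule R (M a)) (hF : ∀ a, Antitone (F a)) :
    (∃ G : Γ → Submodule R (∀ a, M a), DirectSum.IsInternal G ∧
        ∀ γ, Submodule.pi Set.univ (fun a => F a γ) = ⨆ η ∈ Set.Ici γ, G η) ↔
    ∀ a, ∃ G : Γ → Submodule R (M a), DirectSum.IsInternal G ∧ ∀ γ, F a γ = ⨆ η ∈ Set.Ici γ, G η := by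
  classical
  constructor
  · rintro ⟨G, hG, hFG⟩ a
    have htop : (⊤ : Submodule R (∀ a, M a)) ≤ ⨆ γ, G γ := hG.submodule_iSup_eq_top.ge
    obtain ⟨S, hS⟩ := CompleteLattice.IsCompactElement.exists_finset_of_le_iSup
      (α := Submodule R (∀ a, M a)) ((Submodule.fg_iff_compact _).mp (Module.Finite.fg_top (R := R) (M := ∀ a, M a))) G htop
    have hout : ∀ γ, γ ∉ S → G γ = ⊥ := fun γ hγ =>
      disjoint_self.mp ((hG.submodule_iSupIndep.disjoint_biSup hγ).mono_right (le_trans le_top hS))
    -- the strict part of the filtration on each factor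
    let Fs : Γ → Submodule R (M a) := fun γ => ⨆ η, ⨆ (_ : γ < η), F a η
    let Gs : Γ → Submodule R (∀ a, M a) := fun γ => ⨆ η, ⨆ (_ : γ < η), G η
    have hsingle : ∀ γ x, x ∈ F a γ → Pi.single a x ∈ ⨆ η ∈ Set.Ici γ, G η := by
      intro γ x hx
      rw [← hFG γ, Submodule.mem_pi]
      intro b _
      obtain rfl | hb := eq_or_ne b a
      · simpa using hx
      · simp [hb]
    have hFsGs : ∀ γ x, x ∈ Fs γ → Pi.single a x ∈ Gs γ := by
      intro γ
      have : Fs γ ≤ (Gs γ).comap (LinearMap.single R M a) := iSup₂_le fun η hη x hx => by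
        have h1 : (⨆ μ ∈ Set.Ici η, G μ) ≤ Gs γ := iSup₂_le fun μ hμ =>
          le_iSup₂_of_le μ (lt_of_lt_of_le hη hμ) le_rfl
        exact h1 (hsingle η x hx)
      exact fun x hx => this hx
    have hGsFs : ∀ γ z, z ∈ Gs γ → z a ∈ Fs γ := by
      intro γ
      have : Gs γ ≤ (Fs γ).comap (LinearMap.proj a) := iSup₂_le fun η hη z hz => by
        have : z ∈ Submodule.pi Set.univ (fun a => F a η) := by
          rw [hFG η]; exact Submodule.mem_iSup_of_mem η (Submodule.mem_iSup_of_mem (Set.mem_Ici.mpr le_rfl) hz)
        exact Submodule.mem_iSup_of_mem η (Submodule.mem_iSup_of_mem hη (Submodule.mem_pi.mp this a trivial))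
      exact fun z hz => this hz
    letI := DirectSum.IsInternal.chooseDecomposition G hG
    let π : Γ → ((∀ a, M a) →ₗ[R] (∀ a, M a)) := fun γ =>
      (DirectSum.toModule R Γ _ fun η => if γ < η then (G η).subtype else 0).comp
        (DirectSum.decomposeLinearEquiv G).toLinearMap
    have hπG : ∀ γ η z, z ∈ G η → π γ z = if γ < η then z else 0 := by
      intro γ η z hz
      simp only [π, LinearMap.comp_apply, LinearEquiv.coe_toLinearMap,
        DirectSum.decomposeLinearEquiv_apply, DirectSum.decompose_of_mem G hz]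
      rw [← DirectSum.lof_eq_of R, DirectSum.toModule_lof]
      split_ifs <;> simp
    have hπmem : ∀ γ z, π γ z ∈ Gs γ := by
      intro γ
      have : (⊤ : Submodule R (∀ a, M a)) ≤ (Gs γ).comap (π γ) := htop.trans (iSup_le fun η z hz => by
        show π γ z ∈ Gs γ
        rw [hπG γ η z hz]
        split_ifs with h
        · exact Submodule.mem_iSup_of_mem η (Submodule.mem_iSup_of_mem h hz)
        · exact zero_mem _)
      exact fun z => this trivial
    have hπid : ∀ γ z, z ∈ Gs γ → π γ z = z := by
      intro γ
      have : Gs γ ≤ LinearMap.eqLocus (π γ) LinearMap.id := iSup₂_le fun η hη z hz => by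
        show π γ z = z
        rw [hπG γ η z hz, if_pos hη]
      exact fun z hz => this hz
    let r : Γ → (M a →ₗ[R] M a) := fun γ =>
      (LinearMap.proj a).comp ((π γ).comp (LinearMap.single R M a))
    have hrid : ∀ γ x, x ∈ Fs γ → r γ x = x := fun γ x hx => by
      simp only [r, LinearMap.comp_apply, LinearMap.coe_single, LinearMap.coe_proj,
        Function.eval, hπid γ _ (hFsGs γ x hx), Pi.single_eq_same]
    have hrmem : ∀ γ x, r γ x ∈ Fs γ := fun γ x => hGsFs γ _ (hπmem γ _)
    have hFsle : ∀ γ, Fs γ ≤ F a γ := fun γ => iSup₂_le fun η hη => hF a hη.le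
    let C : Γ → Submodule R (M a) := fun γ => F a γ ⊓ LinearMap.ker (r γ)
    have hsplit : ∀ γ, F a γ ≤ C γ ⊔ Fs γ := fun γ x hx =>
      Submodule.mem_sup.mpr ⟨x - r γ x, ⟨sub_mem hx (hFsle γ (hrmem γ x)), by
        simp [hrid γ _ (hrmem γ x)]⟩, r γ x, hrmem γ x, sub_add_cancel _ _⟩
    -- every piece of `G` projects into the span of the `C η`
    have hkey : ∀ γ, γ ∈ S → ∀ z ∈ G γ, z a ∈ ⨆ η ∈ Set.Ici γ, C η := by
      intro γ
      induction hn : (S.filter (fun η => γ < η)).card using Nat.strong_induction_on generalizing γ with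
      | _ n ih =>
        intro hγ z hz
        have hza : z a ∈ F a γ := by
          have : z ∈ Submodule.pi Set.univ (fun a => F a γ) := by
            rw [hFG γ]; exact Submodule.mem_iSup_of_mem γ (Submodule.mem_iSup_of_mem (Set.mem_Ici.mpr le_rfl) hz)
          exact Submodule.mem_pi.mp this a trivial
        obtain ⟨c, hc, f, hf, hcf⟩ := Submodule.mem_sup.mp (hsplit γ hza)
        rw [← hcf]
        refine add_mem (Submodule.mem_iSup_of_mem γ (Submodule.mem_iSup_of_mem (Set.mem_Ici.mpr le_rfl) hc)) ?_
        have hle : Gs γ ≤ (⨆ η ∈ Set.Ici γ, C η).comap (LinearMap.proj a) := iSup₂_le fun η hη w hw => by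
          by_cases hηS : η ∈ S
          · have hlt : (S.filter (fun μ => η < μ)).card < n := by
              rw [← hn]
              refine Finset.card_lt_card ⟨fun μ hμ => ?_, fun hsub => ?_⟩
              · simp only [Finset.mem_filter] at hμ ⊢
                exact ⟨hμ.1, hη.trans hμ.2⟩
              · have := hsub (Finset.mem_filter.mpr ⟨hηS, hη⟩)
                exact lt_irrefl _ (Finset.mem_filter.mp this).2
            have := ih _ hlt η rfl hηS w hw
            have hmono : (⨆ μ ∈ Set.Ici η, C μ) ≤ ⨆ μ ∈ Set.Ici γ, C μ := iSup₂_le fun μ hμ =>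
              le_iSup₂_of_le μ (le_trans hη.le hμ) le_rfl
            exact hmono this
          · rw [hout η hηS, Submodule.mem_bot] at hw
            subst hw
            exact zero_mem _
        have := hle (hFsGs γ f hf)
        simpa using this
    have hF_eq : ∀ γ, F a γ = ⨆ η ∈ Set.Ici γ, C η := fun γ => by
      refine le_antisymm (fun x hx => ?_) (iSup₂_le fun η hη => inf_le_left.trans (hF a hη))
      have hle : (⨆ η ∈ Set.Ici γ, G η) ≤ (⨆ η ∈ Set.Ici γ, C η).comap (LinearMap.proj a) :=
        iSup₂_le fun η hη w hw => by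
          by_cases hηS : η ∈ S
          · have hmono : (⨆ μ ∈ Set.Ici η, C μ) ≤ ⨆ μ ∈ Set.Ici γ, C μ := iSup₂_le fun μ hμ =>
              le_iSup₂_of_le μ (le_trans hη hμ) le_rfl
            exact hmono (hkey η hηS w hw)
          · rw [hout η hηS, Submodule.mem_bot] at hw
            subst hw
            exact zero_mem _
      simpa using hle (hsingle γ x hx)
    refine ⟨C, DirectSum.isInternal_submodule_of_iSupIndep_of_iSup_eq_top
      (iSupIndep_of_lt C fun γ => Submodule.disjoint_def.mpr fun x hx hx' => ?_) ?_, hF_eq⟩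
    · have hle : (⨆ η, ⨆ (_ : γ < η), C η) ≤ Fs γ := iSup₂_mono fun η _ => inf_le_left
      have hxs : x ∈ Fs γ := hle hx'
      have h2 : r γ x = 0 := hx.2
      exact (hrid γ x hxs).symm.trans h2
    · rw [eq_top_iff]
      intro x _
      have hle : (⊤ : Submodule R (∀ a, M a)) ≤ (⨆ η, C η).comap (LinearMap.proj a) :=
        htop.trans (iSup_le fun η w hw => by
          by_cases hηS : η ∈ S
          · exact (iSup₂_le fun μ _ => le_iSup C μ) (hkey η hηS w hw)
          · rw [hout η hηS, Submodule.mem_bot] at hw
            subst hw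
            exact zero_mem _)
      simpa using hle (show Pi.single a x ∈ (⊤ : Submodule R (∀ a, M a)) from trivial)
  · intro h
    choose G hG hFG using h
    let P : Γ → Submodule R (∀ a, M a) := fun γ => Submodule.pi Set.univ (fun a => G a γ)
    have hsup : ∀ s : Set Γ, Submodule.pi Set.univ (fun a => ⨆ η ∈ s, G a η) = ⨆ η ∈ s, P η := by
      intro s
      refine le_antisymm (fun z hz => ?_) (iSup₂_le fun η hη z hz => Submodule.mem_pi.mpr fun a _ =>
        Submodule.mem_iSup_of_mem η (Submodule.mem_iSup_of_mem hη (Submodule.mem_pi.mp hz a trivial)))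
      rw [← Finset.univ_sum_single z]
      refine sum_mem fun a _ => ?_
      have hle : (⨆ η ∈ s, G a η) ≤ (⨆ η ∈ s, P η).comap (LinearMap.single R M a) :=
        iSup₂_le fun η hη x hx => Submodule.mem_iSup_of_mem η (Submodule.mem_iSup_of_mem hη
          (Submodule.mem_pi.mpr fun b _ => by
            obtain rfl | hb := eq_or_ne b a
            · simpa using hx
            · simp [hb]))
      exact hle (Submodule.mem_pi.mp hz a trivial)
    refine ⟨P, DirectSum.isInternal_submodule_of_iSupIndep_of_iSup_eq_top ?_ ?_, fun γ => ?_⟩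
    · refine fun γ => Submodule.disjoint_def.mpr fun z hz hz' => funext fun a => ?_
      have : z ∈ Submodule.pi Set.univ (fun a => ⨆ η ∈ {η | η ≠ γ}, G a η) := by
        rw [hsup]; exact hz'
      exact Submodule.disjoint_def.mp ((hG a).submodule_iSupIndep γ) _
        (Submodule.mem_pi.mp hz a trivial) (Submodule.mem_pi.mp this a trivial)
    · have := hsup Set.univ
      simp only [Set.mem_univ, iSup_pos] at this
      rw [← this]
      simp [fun a => (hG a).submodule_iSup_eq_top]
    · rw [← hsup]
      simp only [hFG]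

end Groth.Agent.S19158
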