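import Groth.Statements.S19160
import Mathlib
-- import your own Groth.Agent.* helpers here

set_option autoImplicit false
open scoped TensorProduct
universe u
open PureMod

namespace Groth.Agent.S19160

/-- (2) ⇒ (3): in affine form, let R be a commutative ring and i : A → B an R-linear map such that for
every commutative R-algebra R' the base change R' ⊗ A → R' ⊗ B is injective (the pull-back of i to
every affine scheme over Spec R is a monomorphism). Then F ⊗ A → F ⊗ B is injective for every
R-module F, i.e. i is universally injective (pure). (Modules and algebras are taken in the universe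
of R.) -/
theorem result (R : Type u) [CommRing R]
    (A B : Type u) [AddCommGroup A] [Module R A] [AddCommGroup B] [Module R B] (i : A →ₗ[R] B)
    (h : ∀ (R' : Type u) [CommRing R'] [Algebra R R'], Function.Injective (i.baseChange R'))
    (F : Type u) [AddCommGroup F] [Module R F] :
    Function.Injective (i.lTensor F) := by
  letI : Module Rᵐᵒᵖ F := Module.compHom F ((RingHom.id R).fromOpposite mul_comm)
  haveI : IsCentralScalar R F := ⟨fun _ _ => rfl⟩
  let R' := TrivSqZeroExt R F
  have h1 := h R'
  have hret : (TrivSqZeroExt.sndHom R F).comp (TrivSqZeroExt.inrHom R F) = LinearMap.id := by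
    ext x; simp
  have hinj : Function.Injective ((TrivSqZeroExt.inrHom R F).rTensor A) := by
    refine Function.LeftInverse.injective (g := (TrivSqZeroExt.sndHom R F).rTensor A) fun x => ?_
    rw [← LinearMap.comp_apply, ← LinearMap.rTensor_comp, hret]
    simp
  intro x y hxy
  apply hinj
  apply h1
  have hnat : ∀ z, i.baseChange R' ((TrivSqZeroExt.inrHom R F).rTensor A z) =
      (TrivSqZeroExt.inrHom R F).rTensor B (i.lTensor F z) := by
    intro z
    induction z using TensorProduct.induction_on with
    | zero => simp
    | tmul a b => simp
    | add a b ha hb => simp only [map_add, ha, hb]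
  rw [hnat, hnat, hxy]

end Groth.Agent.S19160
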