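import Groth.Statements.S19161
import Groth.Agent.Lib.RootD.Weyl
import Groth.Agent.S19156
-- import your own Groth.Agent.* helpers here

set_option autoImplicit false
open RootPairing
open RootD

namespace Groth.Agent.S19161

/-- Let P be a root datum (root pairing over ℤ, finitely many roots), S a system of positive roots, W
the Weyl group, Γ a non-trivial totally ordered commutative group and f₁, f₂ : M → Γ additive maps
which are dominant (f_i(α) ≥ 0 for α ∈ S). Then f₁ ≤ f₂ in the weak dominance order (f₁(m) ≤ f₂(m)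
for every dominant weight m, i.e. every m with ⟨m, α∨⟩ ≥ 0 for all α ∈ S) if and only if, for every
non-empty finite W-stable subset X ⊆ M, the maximum of f₁ on X is at most the maximum of f₂ on X.
(The source phrases the right-hand side through W-invariant elements x of ℕ[M] and the largest
element of the support of f_i(x) in ℤ[Γ]; for ℕ-coefficients that largest element is the maximum of
f_i over the support of x.) -/
theorem result {ι M N : Type*} [AddCommGroup M] [AddCommGroup N]
    (P : RootPairing ι ℤ M N) [Finite ι] (S : Set ι) (hS : RootD.IsPosSys P S)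
    {Γ : Type*} [AddCommGroup Γ] [LinearOrder Γ] [IsOrderedAddMonoid Γ] [Nontrivial Γ] (f₁ f₂ : M →+ Γ)
    (hf₁ : ∀ i ∈ S, 0 ≤ f₁ (P.root i)) (hf₂ : ∀ i ∈ S, 0 ≤ f₂ (P.root i)) :
    (∀ m : M, (∀ i ∈ S, 0 ≤ P.coroot' i m) → f₁ m ≤ f₂ m) ↔
    ∀ (X : Finset M) (hX : X.Nonempty), (∀ g : P.Aut, g ∈ P.weylGroup → ∀ m ∈ X, RootPairing.Equiv.weightHom P g m ∈ X) →
      X.sup' hX f₁ ≤ X.sup' hX f₂ := by
  classical
  have hw : ∀ (g : P.Aut) (m : M), RootPairing.Equiv.weightHom P g m = g • m := fun _ _ => rfl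
  simp only [hw]
  let _ := Fintype.ofFinite ι
  have hle : ∀ (f : M →+ Γ), (∀ i ∈ S, 0 ≤ f (P.root i)) → ∀ g ∈ P.weylGroup, ∀ m : M,
      (∀ i ∈ S, 0 ≤ P.coroot' i m) → f (g • m) ≤ f m :=
    fun f hf => (Groth.Agent.S19156.result P S hS f).2.1 hf
  have hdom : ∀ m : M, ∃ g ∈ P.weylGroup, ∀ i ∈ S, 0 ≤ P.coroot' i (g • m) := by
    intro m
    have hiff : ∀ i, 0 ≤ P.coroot' i m ↔ 0 ≤ Groth.Agent.RootDLib.form P m (P.root i) := by
      intro i
      have h1 := Groth.Agent.RootDLib.two_form_root P m i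
      have h2 := Groth.Agent.RootDLib.form_root_pos P i
      constructor <;> intro h <;> nlinarith
    obtain ⟨g, hg, hsub⟩ := Groth.Agent.RootDLib.exists_weyl_image_subset (P := P) hS
      (P' := {i | 0 ≤ P.coroot' i m}) (fun i => by
        simp only [Set.mem_setOf_eq, hiff, Groth.Agent.RootDLib.root_ng, map_neg, neg_nonneg]
        exact le_total _ _)
      (fun a b c ha hb hc => by
        simp only [Set.mem_setOf_eq, hiff] at ha hb ⊢
        rw [hc, map_add]; exact add_nonneg ha hb)
    refine ⟨g⁻¹, inv_mem hg, fun i hi => ?_⟩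
    rw [← inv_smul_smul g i, Groth.Agent.RootDLib.coroot'_smul]
    exact hsub ⟨i, hi, rfl⟩
  constructor
  · intro h X hX hstab
    refine Finset.sup'_le hX _ fun x hx => ?_
    obtain ⟨g, hg, hd⟩ := hdom x
    have hx' : g • x ∈ X := hstab g hg x hx
    calc f₁ x = f₁ (g⁻¹ • (g • x)) := by rw [inv_smul_smul]
      _ ≤ f₁ (g • x) := hle f₁ hf₁ _ (inv_mem hg) _ hd
      _ ≤ f₂ (g • x) := h _ hd
      _ ≤ _ := Finset.le_sup' f₂ hx'
  · intro h m hm
    have hfinW : Finite P.weylGroup := Finite.of_injective P.weylGroupToPerm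
      (fun a b hab => Subtype.ext (Groth.Agent.RootDLib.weyl_ext a.2 b.2 fun i => DFunLike.congr_fun hab i))
    let _ := Fintype.ofFinite P.weylGroup
    set X : Finset M := Finset.univ.image fun g : P.weylGroup => (g : P.Aut) • m with hX
    have hmX : m ∈ X := Finset.mem_image.2 ⟨1, Finset.mem_univ _, by rw [OneMemClass.coe_one, one_smul]⟩
    have := h X ⟨m, hmX⟩ fun g hg x hx => by
      obtain ⟨w, -, rfl⟩ := Finset.mem_image.1 hx
      exact Finset.mem_image.2 ⟨⟨g, hg⟩ * w, Finset.mem_univ _, by rw [Subgroup.coe_mul, mul_smul]⟩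
    refine (Finset.le_sup' f₁ hmX).trans (this.trans (Finset.sup'_le _ _ fun x hx => ?_))
    obtain ⟨w, -, rfl⟩ := Finset.mem_image.1 hx
    exact hle f₂ hf₂ _ w.2 m hm

end Groth.Agent.S19161
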