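import Groth.Statements.S19163
import Groth.Agent.Lib.PreWZeroH7.Factor
import Groth.Agent.Lib.SchBasic.Basic

set_option autoImplicit false
open scoped TensorProduct
open CategoryTheory MonoidalCategory CartesianMonoidalCategory MonObj GrpObj AlgebraicGeometry
universe u
open SGA3x

namespace Groth.Agent.S19163

open Limits in
theorem free_pullback {S : Scheme.{u}} (Z₀ B : Type u) [CommRing Z₀] [CommRing B] [Algebra Z₀ B]
    [Module.Free Z₀ B] (t : S ⟶ Spec (CommRingCat.of Z₀)) (A : CommRingCat.{u}) (w : Spec A ⟶ S) :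
    ∃ (E : CommRingCat.{u}) (e : A ⟶ E)
      (q : Spec E ⟶ pullback (Spec.map (CommRingCat.ofHom (algebraMap Z₀ B))) t),
      (@Module.Projective A _ E _ e.hom.toAlgebra.toModule) ∧
        IsPullback q (Spec.map e) (pullback.snd _ t) w := by
  let φ := Spec.preimage (w ≫ t)
  letI : Algebra Z₀ A := φ.hom.toAlgebra
  have hA : w ≫ t = Spec.map (CommRingCat.ofHom (algebraMap Z₀ A)) := (Spec.map_preimage (w ≫ t)).symm
  let dh : Spec (CommRingCat.of B) ⟶ Spec (CommRingCat.of Z₀) :=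
    Spec.map (CommRingCat.ofHom (algebraMap Z₀ B))
  let E := CommRingCat.of ((A : Type u) ⊗[Z₀] B)
  let q₀ : Spec E ⟶ Spec (CommRingCat.of B) :=
    Spec.map (CommRingCat.ofHom Algebra.TensorProduct.includeRight.toRingHom)
  let e : A ⟶ E := CommRingCat.ofHom Algebra.TensorProduct.includeLeftRingHom
  have sq : IsPullback q₀ (Spec.map e) dh (w ≫ t) := by
    rw [hA]
    refine IsPullback.flip (IsPullback.of_iso_pullback ⟨?_⟩
      (pullbackSpecIso Z₀ A B).symm (pullbackSpecIso_inv_fst Z₀ A B) (pullbackSpecIso_inv_snd Z₀ A B))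
    simp only [dh, e, q₀, ← Spec.map_comp]
    congr 1
    ext r
    show algebraMap Z₀ A r ⊗ₜ[Z₀] (1 : B) = (1 : (A : Type u)) ⊗ₜ[Z₀] algebraMap Z₀ B r
    rw [Algebra.algebraMap_eq_smul_one, Algebra.algebraMap_eq_smul_one, TensorProduct.smul_tmul]
  let q : Spec E ⟶ pullback dh t := pullback.lift q₀ (Spec.map e ≫ w)
    (by rw [sq.w]; simp only [Category.assoc])
  refine ⟨E, e, q, ?_, IsPullback.of_right ?_ (pullback.lift_snd _ _ _) (IsPullback.of_hasPullback dh t)⟩
  · have key : e.hom.toAlgebra = (Algebra.TensorProduct.leftAlgebra : Algebra A ((A : Type u) ⊗[Z₀] B)) :=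
      Algebra.algebra_ext _ _ fun _ => rfl
    show @Module.Projective A _ ((A : Type u) ⊗[Z₀] B) _ e.hom.toAlgebra.toModule
    rw [key]
    infer_instance
  · rw [pullback.lift_fst]
    exact sq

open Limits in
theorem hfree {S X : Scheme.{u}} (x : X ⟶ S) (Γ : Type) [AddCommGroup Γ] (A : CommRingCat.{u})
    (v : Spec A ⟶ X) : ∃ (E : CommRingCat.{u}) (e : A ⟶ E) (q : Spec E ⟶ (Red.DS S Γ).left),
      (@Module.Projective A _ E _ e.hom.toAlgebra.toModule) ∧ IsPullback q (Spec.map e) (Red.DS S Γ).hom (v ≫ x) :=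
  free_pullback (ULift.{u} ℤ) (MonoidAlgebra (ULift.{u} ℤ) (Multiplicative Γ))
    (Limits.IsTerminal.from specULiftZIsTerminal S) A (v ≫ x)

open Limits in
theorem factors_iff {S : Scheme.{u}} (F H G X : Over S) (k : H ⟶ G) (m : F ⊗ X ⟶ G) {V : Scheme.{u}}
    (h : V ⟶ X.left) : PreWZeroH7.Factors X.hom F.hom m.left k.left h ↔
      ∃ ψ : F ⊗ Over.mk (h ≫ X.hom) ⟶ H, ψ ≫ k = (F ◁ (Over.homMk h : Over.mk (h ≫ X.hom) ⟶ X)) ≫ m := by
  have hb : PreWZeroH7.bcm X.hom F.hom h = (F ◁ (Over.homMk h : Over.mk (h ≫ X.hom) ⟶ X)).left := by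
    apply pullback.hom_ext
    · rw [pullback.lift_fst]
      exact (congrArg CommaMorphism.left (whiskerLeft_fst F (Over.homMk h : Over.mk (h ≫ X.hom) ⟶ X))).symm
    · rw [pullback.lift_snd]
      exact (congrArg CommaMorphism.left (whiskerLeft_snd F (Over.homMk h : Over.mk (h ≫ X.hom) ⟶ X))).symm
  constructor
  · rintro ⟨ψ, hψ⟩
    rw [hb] at hψ
    exact ⟨Over.homMk ψ (by
      show ψ ≫ H.hom = _
      rw [← Over.w k, ← Category.assoc, hψ, ← Over.comp_left]
      exact Over.w ((F ◁ (Over.homMk h : Over.mk (h ≫ X.hom) ⟶ X)) ≫ m)), Over.OverMorphism.ext hψ⟩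
  · rintro ⟨ψ, hψ⟩
    exact ⟨ψ.left, (congrArg CommaMorphism.left hψ).trans (congrArg (fun z => z ≫ m.left) hb.symm)⟩

/-- Let Γ be a non-trivial totally ordered commutative group and H ⟶ G a closed immersion of reductive
S-groups (a homomorphism which is a closed immersion). Let A_H with υ_H, resp. A_G with υ_G,
represent the functor of group homomorphisms D_S(Γ) ⟶ H, resp. D_S(Γ) ⟶ G, and let φ : A_H ⟶ A_G be
the S-morphism induced by composing with H ⟶ G (the universal family over A_H followed by H ⟶ G is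
the pull-back of υ_G along φ). Then φ is a closed immersion, locally of finite presentation. -/
theorem result {S : Scheme.{u}}
    (Γ : Type) [AddCommGroup Γ] [LinearOrder Γ] [IsOrderedAddMonoid Γ] [Nontrivial Γ]
    (H G : Over S) [GrpObj H] [GrpObj G] (hH : Red.IsReductive H) (hG : Red.IsReductive G)
    (k : H ⟶ G) [IsMonHom k] (hk : IsClosedImmersion k.left)
    (AH : Over S) (υH : Red.DS S Γ ⊗ AH ⟶ H) (hAH : AutFam.RepresentsHom (Red.DS S Γ) H AH υH)
    (AG : Over S) (υG : Red.DS S Γ ⊗ AG ⟶ G) (hAG : AutFam.RepresentsHom (Red.DS S Γ) G AG υG)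
    (φ : AH ⟶ AG) (hφ : (Red.DS S Γ ◁ φ) ≫ υG = υH ≫ k) :
    IsClosedImmersion φ.left ∧ LocallyOfFinitePresentation φ.left := by
  have : IsClosedImmersion k.left := hk
  haveI : Smooth H.hom := hH.2.1
  haveI : Smooth G.hom := hG.2.1
  haveI : LocallyOfFinitePresentation (k.left ≫ G.hom) := by rw [Over.w k]; infer_instance
  haveI : LocallyOfFinitePresentation k.left := SchBasic.locallyOfFinitePresentation_of_comp k.left G.hom
  haveI : Mono k := Over.mono_of_mono_left k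
  obtain ⟨Z, j, hj, hjfp, hiff⟩ := PreWZeroH7.exists_factor_closed (x := AG.hom) (f := (Red.DS S Γ).hom)
    (m := υG.left) (i := k.left) (fun A v => hfree AG.hom Γ A v)
  let Zo : Over S := Over.mk (j ≫ AG.hom)
  let jo : Zo ⟶ AG := Over.homMk j
  haveI : Mono jo.left := inferInstanceAs (Mono j)
  haveI : Mono jo := Over.mono_of_mono_left jo
  obtain ⟨ψ, hψ⟩ := (factors_iff (Red.DS S Γ) H G AG k υG j).mp
    ((hiff _ j).mpr ⟨𝟙 _, Category.id_comp j⟩)
  have hfam : AutFam.IsHomFamily (Red.DS S Γ) H ψ := by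
    intro X g₁ g₂ t
    rw [← cancel_mono k, MonObj.mul_comp]
    simp only [Category.assoc, hψ, lift_whiskerLeft_assoc]
    exact hAG.1 X g₁ g₂ (t ≫ jo)
  obtain ⟨a, ha, -⟩ := hAH.2 Zo ψ hfam
  let iφ : Over.mk (φ.left ≫ AG.hom) ⟶ AH := Over.homMk (𝟙 _) (by simp)
  obtain ⟨b, hb⟩ := (hiff _ φ.left).mp ((factors_iff (Red.DS S Γ) H G AG k υG φ.left).mpr
    ⟨(Red.DS S Γ ◁ iφ) ≫ υH, by
      rw [Category.assoc, ← hφ, ← Category.assoc, ← MonoidalCategory.whiskerLeft_comp]
      congr 2⟩)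
  let bo : AH ⟶ Zo := Over.homMk b (by
    show b ≫ j ≫ AG.hom = AH.hom
    rw [reassoc_of% hb, Over.w φ])
  have hbo : bo ≫ jo = φ := Over.OverMorphism.ext hb
  have h1 : a ≫ φ = jo := by
    refine (hAG.2 Zo ((Red.DS S Γ ◁ jo) ≫ υG) ?_).unique ?_ rfl
    · intro X g₁ g₂ t
      simp only [lift_whiskerLeft_assoc]
      exact hAG.1 X g₁ g₂ (t ≫ jo)
    · rw [MonoidalCategory.whiskerLeft_comp, Category.assoc, hφ, ← Category.assoc, ha, hψ]
  have hid1 : a ≫ bo = 𝟙 Zo := by
    rw [← cancel_mono jo, Category.assoc, hbo, h1, Category.id_comp]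
  have hid2 : bo ≫ a = 𝟙 AH := by
    refine (hAH.2 AH υH hAH.1).unique ?_ (by rw [MonoidalCategory.whiskerLeft_id, Category.id_comp])
    rw [MonoidalCategory.whiskerLeft_comp, Category.assoc, ha, ← cancel_mono k, Category.assoc, hψ,
      ← Category.assoc, ← MonoidalCategory.whiskerLeft_comp, hbo, hφ]
  let ε : AH ≅ Zo := ⟨bo, a, hid2, hid1⟩
  haveI : IsIso bo := ⟨a, hid2, hid1⟩
  haveI : IsIso bo.left := inferInstanceAs (IsIso ((Over.forget S).map bo))
  have hφl : φ.left = bo.left ≫ j := hb.symm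
  rw [hφl]
  haveI := hj
  haveI := hjfp
  exact ⟨inferInstance, inferInstance⟩

end Groth.Agent.S19163
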