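import Groth.Statements.S1917
import Groth.Agent.Lib.IntMult26.ExtProdRat

set_option autoImplicit false
universe u
open CategoryTheory CategoryTheory.Limits AlgebraicGeometry
open IntMult

namespace Groth.Agent.S1917

/-- Let X, Y be varieties over an algebraically closed field K (integral, separated, of finite type), α
an r-cycle on X and β an s-cycle on Y. If α or β is rationally equivalent to zero then so is the
exterior product α × β, an (r + s)-cycle on X ×_K Y (any cycle with the exterior-product
coefficients). Dimension functions are transcendence degrees of residue fields over K. -/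
theorem result (K : Type u) [Field K] [IsAlgClosed K] (X Y : Scheme.{u}) (f : X ⟶ Spec (CommRingCat.of K)) (g : Y ⟶ Spec (CommRingCat.of K)) [IsIntegral X] [IsIntegral Y] [IsSeparated f] [IsSeparated g] [LocallyOfFiniteType f] [LocallyOfFiniteType g] [QuasiCompact f] [QuasiCompact g] (δX : X → ℤ) (δY : Y → ℤ) (δ : ↥(pullback f g) → ℤ) (hX : Cyc.DeltaCompat f δX (fun _ => 0)) (hY : Cyc.DeltaCompat g δY (fun _ => 0)) (hXY : Cyc.DeltaCompat (pullback.fst f g ≫ f) δ (fun _ => 0)) (r s : ℤ) (α : AlgebraicCycle X ℤ) (β : AlgebraicCycle Y ℤ) (hα : α ∈ Cyc.Zk X δX r) (hβ : β ∈ Cyc.Zk Y δY s) (h0 : Cyc.RatEquivZero δX r α ∨ Cyc.RatEquivZero δY s β) (γ : AlgebraicCycle (pullback f g) ℤ) (hγ : ⇑γ = IntMult.extProd f g δX δY δ ⇑α ⇑β) : Cyc.RatEquivZero δ (r + s) γ := by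
  rcases h0 with h0 | h0
  · exact Groth.Agent.IntMult26.ratEquivZero_ext (IsPullback.of_hasPullback f g) hX hY hXY h0 hβ γ hγ
  · have hY' := Groth.Agent.IntMult26.deltaCompat_snd_aux (IsPullback.of_hasPullback f g) hXY
    have h := Groth.Agent.IntMult26.ratEquivZero_ext (IsPullback.of_hasPullback f g).flip hY hX hY' h0 hα γ
      (hγ.trans (Groth.Agent.IntMult26.ext_symm δX δY δ ⇑α ⇑β))
    rwa [add_comm] at h

end Groth.Agent.S1917
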