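import Groth.Statements.S19170
import Mathlib.Tactic
import Mathlib.LinearAlgebra.FreeModule.PID
import Mathlib.LinearAlgebra.Dimension.Finrank
import Mathlib.Algebra.MonoidAlgebra.MapDomain
import Mathlib.Algebra.MonoidAlgebra.Basic
import Mathlib.RingTheory.GradedAlgebra.Basic
import Mathlib.RingTheory.FiniteType
import Mathlib.Analysis.Seminorm
import Mathlib.Algebra.Module.CharacterModule
import Mathlib.Topology.Algebra.Group.Basic
import Mathlib.GroupTheory.FiniteAbelian.Basic
import Mathlib.NumberTheory.Padics.PadicVal.Basic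
import Mathlib.Data.Nat.Factorial.BigOperators
import Mathlib.Algebra.CharP.Basic
import Mathlib.Data.Nat.Choose.Sum

set_option autoImplicit false
universe u
open ProCompl

namespace Groth.Agent.S19170

/-- Let B be a topological abelian group generated as a group by a compact subset. Then every character
χ : B → ℚ/ℤ with open kernel (a continuous character for discrete ℚ/ℤ) has kernel of finite index;
consequently each such character factors through B^∧, the completion of B taken along its
finite-index open subgroups, i.e. (B^∧)^D = B^D. (The published statement assumes moreover that B is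
Hausdorff, locally compact and totally disconnected; only compact generation is needed for this
assertion, so those assumptions are dropped here.) -/
theorem result
    {B : Type u} [AddCommGroup B] [TopologicalSpace B] [IsTopologicalAddGroup B]
    (hcg : ∃ K : Set B, IsCompact K ∧ AddSubgroup.closure K = ⊤)
    (χ : B →+ ℚ ⧸ AddSubgroup.zmultiples (1 : ℚ)) (hχ : IsOpen (χ.ker : Set B)) : χ.ker.FiniteIndex := by
  obtain ⟨K, hK, hgen⟩ := hcg
  have hfib : ∀ y, IsOpen (χ ⁻¹' {y}) := by
    intro y
    rw [isOpen_iff_mem_nhds]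
    intro b hb
    have : (fun z => z - b) ⁻¹' (χ.ker : Set B) ∈ nhds b :=
      (hχ.preimage (continuous_id.sub continuous_const)).mem_nhds (by simp)
    filter_upwards [this] with z hz
    simp only [Set.mem_preimage, SetLike.mem_coe, AddMonoidHom.mem_ker, map_sub, sub_eq_zero] at hz
    simp only [Set.mem_preimage, Set.mem_singleton_iff] at hb ⊢
    rw [hz, hb]
  obtain ⟨t, ht⟩ := hK.elim_finite_subcover (fun y => χ ⁻¹' {y}) hfib (fun b _ => Set.mem_iUnion.2 ⟨χ b, rfl⟩)
  have hrange : χ.range ≤ AddSubgroup.closure (t : Set _) := by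
    rw [AddMonoidHom.range_eq_map, ← hgen, AddMonoidHom.map_closure]
    apply AddSubgroup.closure_mono
    rintro _ ⟨b, hb, rfl⟩
    obtain ⟨y, hy, hby⟩ := Set.mem_iUnion₂.1 (ht hb)
    rw [show χ b = y from hby]; exact hy
  have : Finite (AddSubgroup.closure (t : Set (ℚ ⧸ AddSubgroup.zmultiples (1 : ℚ)))) := by
    have : AddGroup.FG (AddSubgroup.closure (t : Set (ℚ ⧸ AddSubgroup.zmultiples (1 : ℚ)))) :=
      (AddGroup.fg_iff_addSubgroup_fg _).2 ⟨t, rfl⟩
    refine AddCommGroup.finite_of_fg_torsion _ ?_
    intro z
    rw [← AddSubmonoid.isOfFinAddOrder_coe]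
    obtain ⟨q, hq⟩ := QuotientAddGroup.mk_surjective (z : ℚ ⧸ AddSubgroup.zmultiples (1 : ℚ))
    rw [isOfFinAddOrder_iff_nsmul_eq_zero, ← hq]
    refine ⟨q.den, q.den_pos, ?_⟩
    rw [← QuotientAddGroup.mk_nsmul, QuotientAddGroup.eq_zero_iff, AddSubgroup.mem_zmultiples_iff]
    exact ⟨q.num, by rw [nsmul_eq_mul, zsmul_one, mul_comm, Rat.mul_den_eq_num]⟩
  have : Finite χ.range := Finite.of_injective _ (AddSubgroup.inclusion_injective hrange)
  have : Finite (B ⧸ χ.ker) := Finite.of_equiv _ (QuotientAddGroup.quotientKerEquivRange χ).symm.toEquiv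
  exact AddSubgroup.finiteIndex_of_finite_quotient

end Groth.Agent.S19170
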