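import Groth.Statements.S19174
import Groth.Agent.Lib.CurveH1Min27.Contracted
import Groth.Agent.Lib.Twist.Ample
import Groth.Agent.Lib.Twist.ProjSpace
-- import your own Groth.Agent.* helpers here

set_option autoImplicit false
universe u
open CategoryTheory CategoryTheory.Limits AlgebraicGeometry
open Curves

namespace Groth.Agent.S19174

/-- Let k be an algebraically closed field of characteristic zero and C a proper reduced connected
one-dimensional scheme over k with at-worst-nodal singularities and dim_k H^1(C, O_C) = 1 (a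
connected nodal curve of arithmetic genus one). Let π : C → P^1_k be a morphism over k contracting
no connected subcurve of arithmetic genus one: for every reduced connected one-dimensional closed
subscheme Y of C on which π is constant, dim_k H^1(Y, O_Y) = 0. Then H^1(C, π^*O(1)) = 0 and H^1(C,
π^*O(2)) = 0, where O(d) is the d-th twisting sheaf of P^1_k. -/
theorem result (k : Type u) [Field k] [IsAlgClosed k] [CharZero k]
    (C : Scheme.{u}) [C.Over (Spec (CommRingCat.of k))] [IsProper (C ↘ (Spec (CommRingCat.of k)))]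
    [AlgebraicGeometry.IsReduced C] [ConnectedSpace C] (hdim : topologicalKrullDim C = 1)
    (hC : Curv2.AtWorstNodal k C) (hg : Curv2.genus k C = 1)
    (π : C ⟶ CohB1.ProjSpace 1 k) (hπ : π ≫ CohB1.ProjSpace.toSpec 1 k = C ↘ (Spec (CommRingCat.of k)))
    (hcontr : ∀ J : C.IdealSheafData, AlgebraicGeometry.IsReduced J.subscheme → ConnectedSpace J.subscheme →
      topologicalKrullDim J.subscheme = 1 →
      (∀ x y : J.subscheme, (J.subschemeι ≫ π).base x = (J.subschemeι ≫ π).base y) →
      @Curv2.genus k _ J.subscheme ⟨J.subschemeι ≫ (C ↘ (Spec (CommRingCat.of k)))⟩ = 0) :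
    Subsingleton (Coh.HH C ((Scheme.Modules.pullback π).obj (Twist.twistProjSpace 1 k 1)) 1) ∧
      Subsingleton (Coh.HH C ((Scheme.Modules.pullback π).obj (Twist.twistProjSpace 1 k 2)) 1) := by
  haveI := CohFound.isNoetherian_of_isProper (C ↘ (Spec (CommRingCat.of k)))
  letI : (CohB1.ProjSpace 1 k).Over (Spec (CommRingCat.of k)) := ⟨CohB1.ProjSpace.toSpec 1 k⟩
  haveI : IsProper ((CohB1.ProjSpace 1 k) ↘ Spec (CommRingCat.of k)) := ProjSpace.isProper_toSpec 1 k
  have key : ∀ d : ℕ, 0 < d → Subsingleton (Coh.HH C ((Scheme.Modules.pullback π).obj (Twist.twistProjSpace 1 k (d : ℤ))) 1) := by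
    intro d hd
    let A := _root_.Twist.twistProjSpace 1 k (d : ℤ)
    have hA : CohB1.IsAmple A := Twist.isAmple_twist (CohB1.polyGrading 1 k) _ (fun i => ProjSpace.X_mem' 1 k i)
      (ProjSpace.irrelevant_le_span 1 k) hd
    let L := (Scheme.Modules.pullback π).obj A
    have hL : PicF.IsInvertible L := Twist.isInvertible_pullback π hA.1
    by_contra hne
    haveI : Nontrivial (Coh.HH C L 1) := not_subsingleton_iff_nontrivial.mp hne
    let Z : C.IdealSheafData := ⊤
    have hZs : ∀ z : C, z ∉ (Z.support : Set C) := fun z hz => by simp [Z] at hz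
    haveI : IsIso (ClSub.idealModι Z) := (M1.isIso_iff_stalk _).2 fun x =>
      ⟨(M1.mono_iff_stalk _).1 (inferInstanceAs (Mono (kernel.ι (ClSub.toSubscheme Z)))) x,
        CurveH1Min27.surjective_stalk_idealModι Z (hZs x)⟩
    have h1 : Nontrivial (Coh.HH C (CohB1.tensorMod (ClSub.idealMod Z) L) 1) :=
      (CurveCoh17.hequiv k (M2.tensorIso (asIso (ClSub.idealModι Z)) (Iso.refl L) ≪≫ M2.tensorLUnit L) 1).toEquiv.nontrivial
    haveI : IsEmpty (Z.support : Set C) := ⟨fun z => hZs z.1 z.2⟩
    haveI : IsEmpty (TopologicalSpace.IrreducibleCloseds (Z.support : Set C)) :=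
      ⟨fun a => a.isIrreducible.nonempty.elim fun z _ => hZs z.1 z.2⟩
    obtain ⟨T, hT, -, hconn, hdimT, hle⟩ := CurveH1Min27.exists_degree_bound (k := k) hdim hL Z
      Order.krullDim_nonpos_of_subsingleton h1
    rw [CurveH1Min27.finrank_h0_quot_eq_zero (k := k) _ fun z hz =>
      hZs z (Scheme.IdealSheafData.support_antitone (le_sup_left : Z ≤ _) hz)] at hle
    let i := VecSt.subschι C T hT
    letI : (VecSt.subsch C T hT).Over (Spec (CommRingCat.of k)) := ⟨i ≫ (C ↘ Spec (CommRingCat.of k))⟩
    haveI : IsProper ((VecSt.subsch C T hT) ↘ Spec (CommRingCat.of k)) :=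
      inferInstanceAs (IsProper (i ≫ (C ↘ Spec (CommRingCat.of k))))
    haveI := hconn
    let g := Module.finrank k (Coh.HH (VecSt.subsch C T hT) (Coh.structureModule _) 1)
    have hf : (i ≫ π) ≫ ((CohB1.ProjSpace 1 k) ↘ Spec (CommRingCat.of k)) =
        (VecSt.subsch C T hT) ↘ Spec (CommRingCat.of k) := by
      show (i ≫ π) ≫ CohB1.ProjSpace.toSpec 1 k = i ≫ _
      rw [Category.assoc, hπ]
    obtain ⟨h0, hconst⟩ := CurveH1Min27.deg_pullback_ample hdimT (i ≫ π) hf hA
    have he := CurveCoh17.deg_iso (k := k) (r := 1) ((Scheme.Modules.pullbackComp i π).app A)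
    rw [TFOne27.delta_OT k T hT ((M2.isInvertible_iff_isFinLocFreeOfRank_one L).1 hL),
      CurveH1Min27.euler_OT_eq (k := k) hT hdim.le] at hle
    change Curv2.deg k (VecSt.subsch C T hT) ((Scheme.Modules.pullback i).obj ((Scheme.Modules.pullback π).obj A)) 1 ≤ _ at hle
    have hpos := CurveH1Min27.h0_structure_pos (CurveAmple18.curveLike k (VecSt.subsch C T hT) hdimT.le)
    have hX := CurveAmple18.curveLike k C hdim.le
    haveI := hX.separated
    have hgT : g ≤ 1 := by
      let J := Scheme.IdealSheafData.vanishingIdeal (⟨T, hT⟩ : TopologicalSpace.Closeds C)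
      haveI := hX.fin _ (CurveCoh17.isCoh_structureModule (X := C)) 1
      haveI : Subsingleton (Coh.HH C (ClSub.idealMod J) (1 + 1)) :=
        CurveCoh17.subsingleton_HH_of_dim hdim.le _ (CurveCoh17.isCoh_kernel CurveCoh17.isCoh_structureModule
          (M1.isQCoh_push _ (M1.isQCoh_structureModule _)) _).1 0
      have hsurj : Function.Surjective (CurveCoh17.hmap k (ClSub.toSubscheme J) 1) := fun x =>
        (CurveCoh17.exact_hmap_hdelta k (M2.shortExact_idealMod (I := J)) 1 x).1 (Subsingleton.elim _ _)
      haveI : (Coh.structureModule (VecSt.subsch C T hT)).IsQuasicoherent := M1.isQCoh_structureModule _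
      have e2 : Module.finrank k (Coh.HH C (TFOne27.OT T hT) 1) = g :=
        (CurveCoh17.nonempty_hequiv_push k i rfl (Coh.structureModule (VecSt.subsch C T hT)) 1).some.finrank_eq
      rw [← e2]
      exact (LinearMap.finrank_le_finrank_of_surjective hsurj).trans hg.le
    have hg0 : g = 0 := hcontr (Scheme.IdealSheafData.vanishingIdeal ⟨T, hT⟩) (TFOne27.isReduced_sub T hT) hconn hdimT
      (hconst (by
        rw [← he]
        refine le_trans hle ?_
        omega))
    rw [← he] at h0
    have := h0.trans hle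
    omega
  exact ⟨key 1 one_pos, key 2 two_pos⟩

end Groth.Agent.S19174
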