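import Groth.Statements.S19175
import Groth.Agent.S11864
import Groth.Agent.Lib.AlgEquiv22.Closed
import Groth.Agent.Lib.PicPn.TrivialFibres
import Groth.Agent.Lib.PicPn.TrivialLocus
import Groth.Agent.Lib.NumPoly18.SurfCartier

set_option autoImplicit false
set_option maxHeartbeats 1000000
set_option linter.style.haveILetI false
set_option backward.isDefEq.respectTransparency false
set_option backward.isDefEq.respectTransparency.types false
universe u
open CategoryTheory CategoryTheory.Limits AlgebraicGeometry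
open Surf

namespace Groth.Agent.S19175

open TopologicalSpace Opposite
open Groth.Agent Groth.Agent.NumConn10
open Groth.Agent.NumPoly18 (ptIdeal ptMod isIntegral_pt cdeg NumEq dot)
open Groth.Agent.SymSq10 (sdot)
open Groth.Agent.SurfRR10 (ncl)
open Groth.Agent.HypSq10 (rep rep_inv cls_rep)

noncomputable local instance instLawEll (Y : Scheme.{u}) : PicGrp.Law Y := M2.law Y

variable {k : Type u} [Field k] [IsAlgClosed k] {X B : Scheme.{u}} [X.Over (Spec (CommRingCat.of k))]
  [B.Over (Spec (CommRingCat.of k))] [IsProper (X ↘ Spec (CommRingCat.of k))] [IsIntegral X]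
  [IsProper (B ↘ Spec (CommRingCat.of k))] [IsIntegral B] (f : X ⟶ B) [Flat f]
  (hf : f ≫ (B ↘ Spec (CommRingCat.of k)) = X ↘ Spec (CommRingCat.of k))
  (hfi : ∀ b : B, IsClosed ({b} : Set B) → IsIntegral (f.fiber b))

include hf hfi

omit [IsIntegral X] [Flat f] [IsIntegral B] in
/-- Constants on the closed fibres. -/
theorem fibre_const {b : B} (hb : IsClosed ({b} : Set B)) :
    Function.Bijective (f.fiberToSpecResidueField b).appTop := by
  haveI := hfi b hb
  letI : (f.fiber b).Over (Spec (CommRingCat.of k)) := ⟨f.fiberι b ≫ (X ↘ Spec (CommRingCat.of k))⟩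
  haveI : IsClosedImmersion (B.fromSpecResidueField b) := isClosed_singleton_iff_isClosedImmersion.1 hb
  have sq : IsPullback (f.fiberι b) (f.fiberToSpecResidueField b) f (B.fromSpecResidueField b) :=
    IsPullback.of_hasPullback _ _
  haveI : IsClosedImmersion (f.fiberι b) :=
    MorphismProperty.of_isPullback (P := @IsClosedImmersion) sq.flip inferInstance
  haveI : IsProper ((f.fiber b) ↘ Spec (CommRingCat.of k)) :=
    inferInstanceAs (IsProper (f.fiberι b ≫ (X ↘ Spec (CommRingCat.of k))))
  have h0 := SurfRR10.finrank_h0_eq_one (k := k) (X := f.fiber b)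
  have hb0 := CurveR1_10.bijective_appTop_of_hRank (f.fiberι b ≫ (X ↘ Spec (CommRingCat.of k))) h0
  let v : Spec (B.residueField b) ⟶ Spec (CommRingCat.of k) :=
    B.fromSpecResidueField b ≫ (B ↘ Spec (CommRingCat.of k))
  have hv : IsIso v := by
    rw [show v = Spec.map (residueFieldIsoBase (B ↘ Spec (CommRingCat.of k)) b hb).inv from
      (SpecMap_residueFieldIsoBase_inv (B ↘ Spec (CommRingCat.of k)) b hb).symm]
    infer_instance
  haveI := hv
  have heq : f.fiberι b ≫ (X ↘ Spec (CommRingCat.of k)) = f.fiberToSpecResidueField b ≫ v := by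
    rw [← hf, ← Category.assoc, ← Category.assoc, f.fiber_fac b]
  rw [heq, Scheme.Hom.comp_appTop] at hb0
  exact (Function.Bijective.of_comp_iff _ (ConcreteCategory.bijective_of_isIso v.appTop)).1 hb0

omit [IsIntegral X] in
/-- `O_B = f_* O_X`. -/
theorem bijective_app (V : B.Opens) : Function.Bijective (f.app V) := by
  haveI : IsProper f := Ruled10.isProper_of_over f hf
  haveI : IsNoetherian X := CohFound.isNoetherian_of_isProper (X ↘ Spec (CommRingCat.of k))
  haveI : IsNoetherian B := CohFound.isNoetherian_of_isProper (B ↘ Spec (CommRingCat.of k))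
  haveI : LocallyOfFinitePresentation f := inferInstance
  haveI : JacobsonSpace B := LocallyOfFiniteType.jacobsonSpace (B ↘ Spec (CommRingCat.of k))
  choose U hyU hU using fun y : {y : B // IsClosed ({y} : Set B)} =>
    CurveR1_10.exists_nhd_bijective_app f y.1 (fibre_const f hf hfi y.2)
  have hcov : ∀ x : B, ∃ y, x ∈ U y := fun x => by
    by_contra hx
    have hne : ((⋃ y, (U y : Set B))ᶜ).Nonempty := ⟨x, fun hm => hx (Set.mem_iUnion.1 hm)⟩
    obtain ⟨c, hc, hcl⟩ := nonempty_inter_closedPoints hne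
      (isOpen_iUnion fun y => (U y).2).isClosed_compl.isLocallyClosed
    exact hc (Set.mem_iUnion.2 ⟨⟨c, hcl⟩, hyU ⟨c, hcl⟩⟩)
  choose y hy using hcov
  refine AffGrp19.bijective_app_of_isBasis f
    (fun p : {W : B.Opens // ∃ s, W ≤ U s} => p.1) ?_ (fun p => ?_) V
  · refine Opens.isBasis_iff_nbhd.2 fun {W x} hxW => ?_
    exact ⟨W ⊓ U (y x), ⟨⟨W ⊓ U (y x), y x, inf_le_right⟩, rfl⟩, ⟨hxW, hy x⟩, inf_le_left⟩
  · obtain ⟨W, s, hW⟩ := p
    exact hU s W hW

omit [IsIntegral X] in
/-- A module trivial on general fibres is pulled back from the base. -/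
theorem exists_pullback (hdimB : topologicalKrullDim B = 1) {D : X.Modules} (hD : PicF.IsInvertible D)
    (hgen : ∃ U : B.Opens, (U : Set B).Nonempty ∧ ∀ b ∈ U, IsClosed ({b} : Set B) →
      Nonempty ((Scheme.Modules.pullback (f.fiberι b)).obj D ≅ Coh.structureModule (f.fiber b))) :
    ∃ N : B.Modules, PicF.IsInvertible N ∧ Nonempty (D ≅ (Scheme.Modules.pullback f).obj N) := by
  classical
  obtain ⟨U₀, hU₀, hU⟩ := hgen
  haveI : IsProper f := Ruled10.isProper_of_over f hf
  haveI : IsNoetherian X := CohFound.isNoetherian_of_isProper (X ↘ Spec (CommRingCat.of k))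
  haveI : IsNoetherian B := CohFound.isNoetherian_of_isProper (B ↘ Spec (CommRingCat.of k))
  haveI : LocallyOfFinitePresentation f := inferInstance
  haveI : JacobsonSpace B := LocallyOfFiniteType.jacobsonSpace (B ↘ Spec (CommRingCat.of k))
  obtain ⟨D', hD', ⟨e⟩⟩ := M2.exists_inverse hD
  let T : Set B := {y | Nontrivial (CohIII.fiberH f D y 0)} ∩ {y | Nontrivial (CohIII.fiberH f D' y 0)}
  have hTcl : IsClosed T :=
    (AlgEquiv22.isClosed_nontrivial_fiber f hD).inter (AlgEquiv22.isClosed_nontrivial_fiber f hD')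
  have hT : ∀ y : B, y ∈ T := by
    have hsub : closure ((U₀ : Set B) ∩ closedPoints B) ⊆ T := closure_minimal (fun b hb => by
      haveI := hfi b hb.2
      exact (PicPn.fibre_trivial_iff f b hD hD' e).1 (hU b hb.1 hb.2)) hTcl
    obtain ⟨c, hc, hcl⟩ := nonempty_inter_closedPoints (X := B) hU₀ U₀.isOpen.isLocallyClosed
    intro y
    have hη : genericPoint B ∈ T := by
      by_contra hη
      obtain ⟨c', hc', hcl'⟩ := nonempty_inter_closedPoints (X := B) (Z := (U₀ : Set B) ∩ Tᶜ)
        ⟨genericPoint B, (genericPoint_spec B).mem_open_set_iff U₀.isOpen |>.2 (by simpa using hU₀), hη⟩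
        (U₀.isOpen.inter hTcl.isOpen_compl).isLocallyClosed
      exact hc'.2 (hsub (subset_closure ⟨hc'.1, hcl'⟩))
    exact (genericPoint_specializes y).mem_closed hTcl hη
  have htriv : ∀ y : B, IsClosed ({y} : Set B) →
      Nonempty ((Scheme.Modules.pullback (f.fiberι y)).obj D ≅ Coh.structureModule (f.fiber y)) := fun y hy => by
    haveI := hfi y hy
    exact (PicPn.fibre_trivial_iff f y hD hD' e).2 (hT y)
  have hrk : ∀ y : B, IsClosed ({y} : Set B) → CohIII.fiberRank f D 0 y = 1 := fun y hy => by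
    rw [PicPn.fiberRank_zero_eq_finrank f D y (htriv y hy).some]
    haveI := hfi y hy
    letI : Algebra (B.residueField y) Γ(f.fiber y, ⊤) :=
      ((f.fiberToSpecResidueField y).appTop.hom.comp (Scheme.ΓSpecIso (B.residueField y)).inv.hom).toAlgebra
    exact (LinearEquiv.ofBijective (Algebra.linearMap (B.residueField y) Γ(f.fiber y, ⊤))
      ((fibre_const f hf hfi hy).comp
        (ConcreteCategory.bijective_of_isIso (Scheme.ΓSpecIso (B.residueField y)).inv))).finrank_eq.symm.trans
      (Module.finrank_self _)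
  haveI hq : Coh.IsQCoh D := Twist.isQCoh_of_isInvertible hD
  have hfl : FlatMod.IsFlatOver f D := DPerf.isFlatOver_of_isFlat f (M := D) fun x =>
    KFlat.Sch.isFlat_of_isFinLocFree (M2.isFinLocFree_of_isInvertible hD) x
  have key : ∀ y : {y : B // IsClosed ({y} : Set B)}, ∃ (U : B.Opens) (σ : Γ(D, f ⁻¹ᵁ U)),
      y.1 ∈ U ∧ Twist.IsGen D (f ⁻¹ᵁ U) σ := fun ⟨y, hy⟩ => by
    obtain ⟨V, -, M, hyV⟩ := CBC10.exists_model_at f D (LimShf14.isFP_of_isInvertible hD) hfl (U := ⊤) (s := y) trivial
    haveI : IsNoetherianRing Γ(B, V) := IsLocallyNoetherian.component_noetherian ⟨V, M.isAffine⟩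
    have hlc : IsLocallyConstant (CohIII.dRank M.P 0) := by
      have hrank : ∀ z : Spec Γ(B, V), CohIII.dRank M.P 0 z = 1 := fun z => by
        let hV := M.isAffine
        have hzV : ∀ w, hV.fromSpec w ∈ V := fun w => by
          rw [← SetLike.mem_coe, ← hV.range_fromSpec]; exact ⟨w, rfl⟩
        have hz : ∀ w, hV.primeIdealOf ⟨hV.fromSpec w, hzV w⟩ = w := fun w =>
          hV.fromSpec.isOpenEmbedding.injective (hV.fromSpec_primeIdealOf _)
        have hfr : ∀ w, CohIII.fiberRank f D 0 (hV.fromSpec w) = CohIII.dRank M.P 0 w := fun w => by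
          have h := M.fiberRank_eq hq 0 ⟨hV.fromSpec w, hzV w⟩
          rw [hz w] at h
          simpa using h
        by_cases hzc : IsClosed ({hV.fromSpec z} : Set B)
        · rw [← hfr z, hrk _ hzc]
        have hgen' : hV.fromSpec z = genericPoint B :=
          (Curve17.eq_of_specializes hdimB.le hzc (genericPoint_specializes _)).symm
        obtain ⟨c, hc, hcl⟩ := nonempty_inter_closedPoints (X := B) (Z := (V : Set B))
          ⟨_, hzV z⟩ V.isOpen.isLocallyClosed
        refine le_antisymm ?_ ?_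
        · let w := hV.primeIdealOf ⟨c, hc⟩
          have hw : hV.fromSpec w = c := hV.fromSpec_primeIdealOf _
          have hzw : z ⤳ w := hV.fromSpec.isOpenEmbedding.isInducing.specializes_iff.1
            (by rw [hw, hgen']; exact genericPoint_specializes c)
          have h1 : CohIII.dRank M.P 0 w < 2 := by rw [← hfr w, hw, hrk c hcl]; norm_num
          obtain ⟨O, hO1, hO2, hwO⟩ := mem_nhds_iff.1 (FlatCxLib.upperSemicontinuous_dRank M.P 0 w 2 h1)
          have := hO1 (hzw.mem_open hO2 hwO)
          exact Nat.le_of_lt_succ this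
        · rw [← hfr z]
          have hnt := (hT (hV.fromSpec z)).1
          haveI : Nontrivial (CohIII.fiberH f D (hV.fromSpec z) 0) := hnt
          haveI : IsProper (f.fiberToSpecResidueField (hV.fromSpec z)) :=
            MorphismProperty.of_isPullback (P := @IsProper)
              (IsPullback.of_hasPullback f (B.fromSpecResidueField _)) inferInstance
          letI : (f.fiber (hV.fromSpec z)).Over (Spec (CommRingCat.of (B.residueField (hV.fromSpec z)))) :=
            ⟨f.fiberToSpecResidueField _⟩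
          haveI : IsProper (f.fiber (hV.fromSpec z) ↘ Spec (CommRingCat.of (B.residueField (hV.fromSpec z)))) :=
            inferInstanceAs (IsProper (f.fiberToSpecResidueField _))
          haveI : IsNoetherian (f.fiber (hV.fromSpec z)) :=
            CohFound.isNoetherian_of_isProper (f.fiber (hV.fromSpec z) ↘ Spec (CommRingCat.of (B.residueField (hV.fromSpec z))))
          haveI : Module.Finite (B.residueField (hV.fromSpec z)) (CohIII.fiberH f D (hV.fromSpec z) 0) :=
            CohFound.finite_HH_of_isProper (A := B.residueField (hV.fromSpec z)) _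
              (Snapper.isCoh_of_isInvertible (PicLoc.isInvertible_pullback _ hD)) 0
          exact Module.finrank_pos
      rw [show CohIII.dRank M.P 0 = fun _ => 1 from funext hrank]
      exact IsLocallyConstant.const 1
    obtain ⟨-, hq'⟩ := CBC10.mem_freeLocus_of_isLocallyConstant M.P (show (-1 : ℤ) + 1 = 0 by norm_num) hlc
      (M.isAffine.primeIdealOf ⟨y, hyV⟩)
    obtain ⟨V', -, M', hyV', hflat⟩ := CBC10.exists_flat_model M hyV [-1] (by
      intro i hi
      obtain rfl := List.mem_singleton.1 hi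
      exact ⟨hyV, hq'⟩)
    exact PicPn.exists_gen_of_model f hD M' hyV' (hflat _ (by simp)) (htriv y hy)
  choose U σ hy hσ using key
  refine PicPn.exists_descend f (bijective_app f hf hfi) U ?_ σ hσ
  refine top_le_iff.1 fun x _ => ?_
  by_contra hx
  obtain ⟨c, hc, hcl⟩ := nonempty_inter_closedPoints (Z := ((⨆ y, U y : B.Opens) : Set B)ᶜ) ⟨x, hx⟩
    (⨆ y, U y).isOpen.isClosed_compl.isLocallyClosed
  exact hc (Opens.mem_iSup.2 ⟨⟨c, hcl⟩, hy ⟨c, hcl⟩⟩)

omit f hf hfi in
theorem sdot_zpow_right [Smooth (X ↘ Spec (CommRingCat.of k))] (hdim : topologicalKrullDim X = 2)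
    (x y : PicLoc.PicSet X) : ∀ b : ℤ, sdot k x (y ^ b) = b * sdot k x y
  | Int.ofNat m => by
    rw [Int.ofNat_eq_natCast, zpow_natCast, SymSq10.sdot_comm x, SurfRR10.sdot_pow_left (k := k) hdim,
      SymSq10.sdot_comm y]
  | Int.negSucc m => by
    rw [zpow_negSucc, SurfRR10.sdot_inv_right (k := k) hdim, SymSq10.sdot_comm x,
      SurfRR10.sdot_pow_left (k := k) hdim, SymSq10.sdot_comm y, Int.negSucc_eq]
    push_cast; ring


/-- Let k be an algebraically closed field of characteristic zero, X a smooth proper integral surface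
over k and B a smooth proper integral curve over k, and f : X → B a k-morphism each of whose fibres
over a closed point is an integral one-dimensional scheme with at-worst-nodal singularities and
arithmetic genus one (an elliptic fibration all of whose fibres are smooth elliptic or irreducible
nodal). Let s be a section of f and L_S an invertible O_X-module inverse to the ideal of the closed
immersion s (the class of the curve S = s(B)); let L_F be the pullback along f of an invertible
O_B-module inverse to the ideal of a closed point (the class of a fibre); and let L_C be an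
invertible O_X-module whose restriction to the fibre over every closed point of some nonempty open
subset of B is isomorphic to the restriction of L_S (a class agreeing with S on the general fibre).
Then there is an integer m with 2m = (L_S·L_S) − (L_C·L_C) and (L_S·N) = (L_C·N) + m·(L_F·N) for
every invertible O_X-module N: numerically S ≡ C + ((S² − C²)/2)·F. Here (L·N) = χ(O_X) − χ(L) −
χ(N) + χ(L ⊗ N) is the intersection number of invertible modules on the proper surface X. -/
theorem result (k : Type u) [Field k] [IsAlgClosed k] [CharZero k]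
    (X B : Scheme.{u}) [X.Over (Spec (CommRingCat.of k))] [B.Over (Spec (CommRingCat.of k))]
    [IsProper (X ↘ (Spec (CommRingCat.of k)))] [Smooth (X ↘ (Spec (CommRingCat.of k)))] [AlgebraicGeometry.IsIntegral X] (hX2 : topologicalKrullDim X = 2)
    [IsProper (B ↘ (Spec (CommRingCat.of k)))] [Smooth (B ↘ (Spec (CommRingCat.of k)))] [AlgebraicGeometry.IsIntegral B] (hB1 : topologicalKrullDim B = 1)
    (f : X ⟶ B) (hf : f ≫ (B ↘ (Spec (CommRingCat.of k))) = X ↘ (Spec (CommRingCat.of k)))
    (hfib : ∀ b : B, IsClosed ({b} : Set B) →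
      AlgebraicGeometry.IsIntegral (f.fiber b) ∧ topologicalKrullDim (f.fiber b) = 1 ∧
        @Curv2.AtWorstNodal (B.residueField b) _ (f.fiber b) ⟨f.fiberToSpecResidueField b⟩ ∧
        @Curv2.genus (B.residueField b) _ (f.fiber b) ⟨f.fiberToSpecResidueField b⟩ = 1)
    (s : B ⟶ X) (hs : s ≫ f = 𝟙 B)
    (LS : X.Modules) (hLS : PicF.IsInvertible LS) (hLSinv : ClSub.IsInverseOf LS (ClSub.idealMod s.ker))
    (b₀ : B) (hb₀ : IsClosed ({b₀} : Set B)) (M : B.Modules) (hM : PicF.IsInvertible M)
    (hMinv : ClSub.IsInverseOf M (ClSub.idealMod (Scheme.IdealSheafData.vanishingIdeal ⟨{b₀}, hb₀⟩)))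
    (LC : X.Modules) (hLC : PicF.IsInvertible LC)
    (hgen : ∃ U : B.Opens, (U : Set B).Nonempty ∧ ∀ b ∈ U, IsClosed ({b} : Set B) →
      Nonempty ((Scheme.Modules.pullback (f.fiberι b)).obj LC ≅ (Scheme.Modules.pullback (f.fiberι b)).obj LS)) :
    ∃ m : ℤ, 2 * m = FGA.intNum k X 2 ![LS, LS] (Coh.structureModule X) - FGA.intNum k X 2 ![LC, LC] (Coh.structureModule X) ∧
      ∀ N : X.Modules, PicF.IsInvertible N →
        FGA.intNum k X 2 ![LS, N] (Coh.structureModule X) =
          FGA.intNum k X 2 ![LC, N] (Coh.structureModule X) +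
            m * FGA.intNum k X 2 ![(Scheme.Modules.pullback f).obj M, N] (Coh.structureModule X) := by
  classical
  haveI : IsNoetherian X := CohFound.isNoetherian_of_isProper (X ↘ Spec (CommRingCat.of k))
  haveI : IsNoetherian B := CohFound.isNoetherian_of_isProper (B ↘ Spec (CommRingCat.of k))
  haveI : JacobsonSpace B := LocallyOfFiniteType.jacobsonSpace (B ↘ Spec (CommRingCat.of k))
  have hd := SurfRR10.dim_eq (k := k) (X := X) hX2
  have hregB : ∀ x : B, IsRegularLocalRing (B.presheaf.stalk x) := SurfRR10.regular (k := k)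
  have hsurj : Function.Surjective f := fun b => ⟨s b, by rw [← Scheme.Hom.comp_apply, hs]; rfl⟩
  haveI : IsProper f := Ruled10.isProper_of_over f hf
  haveI : Flat f := Ruled10.flat_of_surj hB1 hregB f hsurj
  have hfi : ∀ b : B, IsClosed ({b} : Set B) → IsIntegral (f.fiber b) := fun b hb => (hfib b hb).1
  haveI : IsClosedImmersion (s ≫ f) := by rw [hs]; infer_instance
  haveI : IsClosedImmersion s := IsClosedImmersion.of_comp s f
  -- the class of the section
  have hsk : s ≫ (X ↘ Spec (CommRingCat.of k)) = B ↘ Spec (CommRingCat.of k) := by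
    rw [← hf, ← Category.assoc, hs, Category.id_comp]
  obtain ⟨ξ, hker, hξ, -⟩ := S11864.exists_point (k := k) hX2 s hB1
  obtain ⟨hLS', hLSc⟩ := SurfRR10.cls_of_isInverse (k := k) hX2 hξ (N := LS) (hker ▸ hLSinv)
  set S := ncl (k := k) hX2 hξ with hSdef
  have hLSS : PicGrp.cls LS hLS = S := hLSc
  -- the fibre class
  have hFi : PicF.IsInvertible ((Scheme.Modules.pullback f).obj M) := Twist.isInvertible_pullback f hM
  set F := PicGrp.cls _ hFi with hFdef
  have hSN : ∀ {N : B.Modules} (hN : PicF.IsInvertible N),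
      sdot k S (PicGrp.cls _ (Twist.isInvertible_pullback f hN)) = Curv2.deg k B N 1 := by
    intro N hN
    have hP := Twist.isInvertible_pullback f hN
    rw [hSdef, ← SurfRR10.cdeg_quot (k := k) hX2 hξ hP, ← hker]
    obtain ⟨q⟩ := NumPoly18.nonempty_quotMod_ker s
    obtain ⟨P', hP', ⟨eP⟩⟩ := M2.exists_inverse hP
    let j : CohB1.tensorMod (ClSub.quotMod s.ker) ((Scheme.Modules.pullback f).obj N) ≅
        (Scheme.Modules.pushforward s).obj N :=
      M2.tensorIso q (Iso.refl _) ≪≫ (Kunneth22.projIso s eP).app (Coh.structureModule _) ≪≫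
        (Scheme.Modules.pushforward s).mapIso (M2.tensorLUnit _ ≪≫ (Scheme.Modules.pullbackComp s f).app N ≪≫
          (Scheme.Modules.pullbackCongr hs).app N ≪≫ (Scheme.Modules.pullbackId B).app N)
    rw [Curv2.deg, Nat.cast_one, one_mul, CurveCoh17.euler_iso j, CurveCoh17.euler_iso q,
      AmpleFin18.euler_push s hsk _ (M1.isCoh_structureModule _).1,
      AmpleFin18.euler_push s hsk _ (Snapper.isCoh_of_isInvertible hN).1]
  have hdegM : Curv2.deg k B M 1 = 1 := by
    have hP := CurveCoh17.isInvertible_pointIdeal hB1 hregB hb₀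
    obtain ⟨eM⟩ := hMinv
    have h1 := (CurveAmple18.curveLike k B hB1.le).deg_of_tensor_iso hM hP eM
    have h2 := CurveAmple18.deg_pointIdeal (k := k) hB1 hb₀
    omega
  have hSF : sdot k S F = 1 := (hSN hM).trans hdegM
  -- the difference class
  obtain ⟨LS', hLS'', ⟨eS⟩⟩ := M2.exists_inverse hLS
  set D := CohB1.tensorMod LC LS' with hDdef
  have hD : PicF.IsInvertible D := M2.isInvertible_tensor hLC hLS''
  have hDc : PicGrp.cls D hD = PicGrp.cls LC hLC * S⁻¹ := by
    refine (AlgEquiv22.cls_tensor hLC hLS'').symm.trans ?_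
    rw [← hLSS]
    congr 1
    exact eq_inv_of_mul_eq_one_right ((PicGrp.cls_mul_cls_eq_one_iff hLS hLS'').2 ⟨eS⟩)
  obtain ⟨U, hU, hUe⟩ := hgen
  obtain ⟨N₀, hN₀, ⟨φ⟩⟩ := exists_pullback (k := k) f hf hfi hB1 hD ⟨U, hU, fun b hb hbc => by
    obtain ⟨e⟩ := hUe b hb hbc
    exact ⟨M2.pullTensorIso (f.fiberι b) LC LS' ≪≫ M2.tensorIso e (Iso.refl _) ≪≫
      (M2.pullTensorIso (f.fiberι b) LS LS').symm ≪≫ (Scheme.Modules.pullback (f.fiberι b)).mapIso eS ≪≫
      Twist.pullbackUnitIso _⟩⟩
  have hPN := Twist.isInvertible_pullback f hN₀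
  have hDN : PicGrp.cls D hD = PicGrp.cls _ hPN := (PicGrp.cls_eq_cls_iff _ _).2 ⟨φ⟩
  set d := Curv2.deg k B N₀ 1 with hd0
  have hSD : sdot k S (PicGrp.cls D hD) = d := by rw [hDN]; exact hSN hN₀
  -- degrees on curves
  have hsq : ∀ {η : X} (hη : topologicalKrullDim (closure ({η} : Set X)) = 1) {L : X.Modules}
      (hL : PicF.IsInvertible L), cdeg k L (ptMod η) = (sdot k (ncl (k := k) hX2 hη) (PicGrp.cls L hL) : ℚ) :=
    fun {η} hη {L} hL => Goodman10.cdeg_eq_sdot (k := k) (SurfRR10.regular (k := k)) hd hη hL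
  have hcurve : ∀ {η : X} (hη : topologicalKrullDim (closure ({η} : Set X)) = 1),
      sdot k (ncl (k := k) hX2 hη) (PicGrp.cls _ hPN) = d * sdot k (ncl (k := k) hX2 hη) F := by
    -- through the generic point of the base
    have hgen : ∀ {η : X} (hη : topologicalKrullDim (closure ({η} : Set X)) = 1),
        (∀ (N : B.Modules) (hN : PicF.IsInvertible N),
          sdot k (ncl (k := k) hX2 hη) (PicGrp.cls _ (Twist.isInvertible_pullback f hN)) = 0) ∨
        ∃ c : ℕ, 0 < c ∧ ∀ (N : B.Modules) (hN : PicF.IsInvertible N),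
          (sdot k (ncl (k := k) hX2 hη) (PicGrp.cls _ (Twist.isInvertible_pullback f hN)) : ℚ) =
            (c : ℚ) * cdeg k N (ptMod (genericPoint B)) := by
      intro η hη
      rcases NumPoly18.cdeg_pullback f hf hη with ⟨h, -⟩ | ⟨h1, c, hc, h⟩
      · refine Or.inl fun N hN => ?_
        have h2 := (hsq hη (Twist.isInvertible_pullback f hN)).symm.trans (h N hN)
        exact_mod_cast h2
      · refine Or.inr ⟨c, hc, fun N hN => ?_⟩
        have hg : f η = genericPoint B := by
          refine (Curve17.eq_of_specializes hB1.le (fun hcl => ?_) (genericPoint_specializes (f η))).symm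
          rw [hcl.closure_eq] at h1
          have h0 : topologicalKrullDim ({f η} : Set B) ≤ 0 := topologicalKrullDim_zero_of_discreteTopology _
          rw [h1] at h0
          exact absurd h0 (by simp)
        rw [← hg]
        exact (hsq hη (Twist.isInvertible_pullback f hN)).symm.trans (h N hN)
    obtain h | ⟨c₀, hc₀, hS⟩ := hgen hξ
    · have := h M hM
      intro η hη
      exact absurd (hSF.symm.trans this) one_ne_zero
    have hM1 := hS M hM
    have hN1 := hS N₀ hN₀
    rw [← hSdef] at hM1 hN1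
    rw [hSN hM, hdegM] at hM1
    rw [hSN hN₀] at hN1
    push_cast at hM1
    intro η hη
    obtain h | ⟨c, hc, h⟩ := hgen hη
    · rw [h N₀ hN₀, show sdot k (ncl (k := k) hX2 hη) F = 0 from h M hM, mul_zero]
    · have hc' : (c₀ : ℚ) ≠ 0 := by exact_mod_cast hc₀.ne'
      have e : cdeg k N₀ (ptMod (genericPoint B)) = (d : ℚ) * cdeg k M (ptMod (genericPoint B)) := by
        apply mul_left_cancel₀ hc'
        rw [← hN1, mul_left_comm, ← hM1, mul_one]
      have h3 := h N₀ hN₀
      rw [e, mul_left_comm, ← h M hM] at h3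
      exact_mod_cast h3
  -- numerical equivalence
  have hnum : ∀ x : PicLoc.PicSet X, sdot k (PicGrp.cls D hD) x = d * sdot k F x := by
    intro x
    have hR := rep_inv (F ^ d)
    have hne : NumEq k ((Scheme.Modules.pullback f).obj N₀) (rep (F ^ d)) := fun η hη => by
      rw [hsq hη hPN, hsq hη hR, cls_rep, sdot_zpow_right (k := k) hX2, hcurve hη]
    have hZ := rep_inv x
    have h2 := NumPoly18.md_eq_of_numEq (k := k) 2 ![(Scheme.Modules.pullback f).obj N₀, rep x] ![rep (F ^ d), rep x]
      (Fin.forall_fin_two.2 ⟨hPN, hZ⟩) (Fin.forall_fin_two.2 ⟨hR, hZ⟩) (Fin.forall_fin_two.2 ⟨hne, fun _ _ => rfl⟩)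
      (Coh.structureModule X) (M1.isCoh_structureModule X)
      (Topology.IsInducing.subtypeVal.topologicalKrullDim_le.trans hd.le)
    have e1 := SurfRR10.dot_eq_sdot (k := k) hX2 hPN hZ
    have e2 := SurfRR10.dot_eq_sdot (k := k) hX2 hR hZ
    have h3 : dot k ((Scheme.Modules.pullback f).obj N₀) (rep x) = dot k (rep (F ^ d)) (rep x) := h2
    rw [e1, e2, cls_rep, cls_rep] at h3
    have h4 : sdot k (PicGrp.cls _ hPN) x = sdot k (F ^ d) x := by exact_mod_cast h3
    rw [hDN, h4, SymSq10.sdot_comm, sdot_zpow_right (k := k) hX2, SymSq10.sdot_comm]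
  -- the fibre class has square zero
  have hFF : sdot k F F = 0 := by
    obtain ⟨hfb, hdb, -, -⟩ := hfib b₀ hb₀
    haveI := hfb
    haveI : IsClosedImmersion (B.fromSpecResidueField b₀) := isClosed_singleton_iff_isClosedImmersion.1 hb₀
    have sq : IsPullback (f.fiberι b₀) (f.fiberToSpecResidueField b₀) f (B.fromSpecResidueField b₀) :=
      IsPullback.of_hasPullback _ _
    haveI : IsClosedImmersion (f.fiberι b₀) :=
      MorphismProperty.of_isPullback (P := @IsClosedImmersion) sq.flip inferInstance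
    obtain ⟨ζ, hkerζ, hζ, -⟩ := S11864.exists_point (k := k) hX2 (f.fiberι b₀) hdb
    have hP : (Scheme.IdealSheafData.vanishingIdeal ⟨{b₀}, hb₀⟩).comap f = ptIdeal ζ := by
      rw [← hkerζ, ← P1Bun1.ker_comap_of_isPullback sq]
      congr 1
      rw [SchImage.ker_eq_vanishingIdeal (B.fromSpecResidueField b₀)]
      congr 1
      refine Closeds.ext ?_
      show ({b₀} : Set B) = closure (Set.range (B.fromSpecResidueField b₀))
      rw [Scheme.range_fromSpecResidueField, hb₀.closure_eq]
    have hI := cartier_pt (k := k) hX2 hζ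
    have hPi := CurveCoh17.isInvertible_pointIdeal hB1 hregB hb₀
    have hPc : BlowUp.IsEffCartierIdeal (Scheme.IdealSheafData.vanishingIdeal (⟨{b₀}, hb₀⟩ : Closeds B)) :=
      SecDiv.isEffCartierIdeal_of_isInvertible _ hPi
    have hFc : BlowUp.IsEffCartierIdeal ((Scheme.IdealSheafData.vanishingIdeal (⟨{b₀}, hb₀⟩ : Closeds B)).comap f) := by
      rw [hP]; exact hI
    obtain ⟨eF⟩ := ArInter.nonempty_pullback_idealMod f hPc hFc
    have hcl : icl hI = PicGrp.cls _ (Twist.isInvertible_pullback f hPi) := by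
      rw [← icl_congr hFc hI hP]
      exact (PicGrp.cls_eq_cls_iff _ _).2 ⟨eF.symm⟩
    have hFinv : F = ccl (k := k) hX2 ζ := by
      obtain ⟨eM⟩ := hMinv
      have h1 : F * PicGrp.cls _ (Twist.isInvertible_pullback f hPi) = 1 :=
        (PicGrp.cls_mul_cls_eq_one_iff hFi (Twist.isInvertible_pullback f hPi)).2
          ⟨(M2.pullTensorIso f _ _).symm ≪≫ (Scheme.Modules.pullback f).mapIso eM ≪≫ Twist.pullbackUnitIso f⟩
      rw [← hcl, icl_pt' (k := k) hX2 hζ] at h1
      exact (mul_inv_eq_one.1 h1)
    have h0 := sdot_pullback_eq_zero (k := k) hX2 f hM hζ (f ζ) (fun x hx => by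
      have hr : ∀ z, ζ ⤳ z → f z = b₀ := fun z hz => by
        have hm : z ∈ (((Scheme.IdealSheafData.vanishingIdeal ⟨{b₀}, hb₀⟩).comap f).support : Set X) := by
          rw [hP, Scheme.IdealSheafData.coe_support_vanishingIdeal]
          exact specializes_iff_mem_closure.1 hz
        rw [Scheme.IdealSheafData.support_comap] at hm
        simpa [Closeds.coe_preimage] using hm
      rw [hr x hx, hr ζ specializes_rfl])
    rw [← hFdef, ← hFinv] at h0
    exact h0
  refine ⟨-d, ?_, fun N hN => ?_⟩
  · rw [SymSq10.intNum_eq' hd.le hLS hLS, SymSq10.intNum_eq' hd.le hLC hLC]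
    show 2 * (-d) = sdot k _ _ - sdot k _ _
    rw [show PicGrp.cls LC hLC = PicGrp.cls D hD * S by rw [hDc, inv_mul_cancel_right], hLSS,
      SymSq10.sdot_mul hd.le, SurfRR10.sdot_mul_right (k := k) hX2, SurfRR10.sdot_mul_right (k := k) hX2,
      hSD, SymSq10.sdot_comm (PicGrp.cls D hD) S, hSD, hnum, SymSq10.sdot_comm F (PicGrp.cls D hD), hnum, hFF]
    ring
  · rw [SymSq10.intNum_eq' hd.le hLS hN, SymSq10.intNum_eq' hd.le hLC hN, SymSq10.intNum_eq' hd.le hFi hN]
    show sdot k _ _ = sdot k _ _ + -d * sdot k _ _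
    rw [show PicGrp.cls LC hLC = PicGrp.cls D hD * S by rw [hDc, inv_mul_cancel_right], hLSS,
      SymSq10.sdot_mul hd.le, hnum, ← hFdef]
    ring

end Groth.Agent.S19175
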