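import Groth.Statements.S19176
import Mathlib

set_option autoImplicit false
universe u
open PlaneCurve

namespace Groth.Agent.S19176
open Finset

open MvPolynomial in
/-- Let k be a field of characteristic p (p = 0 allowed) and F = y² − x³ in k[x, y] (x the variable of
index 0, y of index 1). The singular subscheme of the plane curve F = 0, cut out by F and its two
partial derivatives, is finite over k of degree 4 when p = 2, of degree 3 when p = 3, and of degree
2 otherwise: the k-dimension of k[x, y]/(F, ∂F/∂x, ∂F/∂y) is that number. (The source phrases this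
through the complete local ring of a cusp; the row is the computation for the standard cusp y² =
x³.) -/
theorem result (k : Type u) [Field k] (p : ℕ) [CharP k p] :
    Module.finrank k (MvPolynomial (Fin 2) k ⧸ Ideal.span
      ({X 1 ^ 2 - X 0 ^ 3, pderiv 0 (X 1 ^ 2 - X 0 ^ 3), pderiv 1 (X 1 ^ 2 - X 0 ^ 3)} :
        Set (MvPolynomial (Fin 2) k))) = (if p = 2 then 4 else if p = 3 then 3 else 2) := by
  classical
  have hmon : ∀ a b : ℕ, Module.finrank k (MvPolynomial (Fin 2) k ⧸ Ideal.span ({X 0 ^ a, X 1 ^ b} : Set (MvPolynomial (Fin 2) k))) = a * b := by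
    intro a b
    let ix : Fin a × Fin b → (Fin 2 →₀ ℕ) := fun t => Finsupp.single 0 (t.1 : ℕ) + Finsupp.single 1 (t.2 : ℕ)
    let L : MvPolynomial (Fin 2) k →ₗ[k] (Fin a × Fin b → k) := LinearMap.pi fun t => MvPolynomial.lcoeff k (ix t)
    have hix : ∀ t, ix t 0 = t.1 ∧ ix t 1 = t.2 := fun t => by simp [ix]
    have hker : LinearMap.ker L = (Ideal.span ({X 0 ^ a, X 1 ^ b} : Set (MvPolynomial (Fin 2) k))).restrictScalars k := by
      have hs : ({X 0 ^ a, X 1 ^ b} : Set (MvPolynomial (Fin 2) k)) = (fun s => monomial s 1) '' {Finsupp.single 0 a, Finsupp.single 1 b} := by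
        simp [Set.image_insert_eq, X_pow_eq_monomial]
      ext f
      rw [LinearMap.mem_ker, Submodule.restrictScalars_mem, hs, MvPolynomial.mem_ideal_span_monomial_image]
      constructor
      · intro hf m hm
        by_contra hcon
        simp only [Set.mem_insert_iff, Set.mem_singleton_iff, exists_eq_or_imp, exists_eq_left, Finsupp.single_le_iff, not_or, not_le] at hcon
        have := congrFun hf (⟨m 0, hcon.1⟩, ⟨m 1, hcon.2⟩)
        rw [mem_support_iff] at hm
        refine hm (Eq.trans ?_ this)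
        show coeff m f = coeff (ix _) f
        congr 1
        ext i; fin_cases i <;> simp [ix]
      · intro hf
        funext t
        show coeff (ix t) f = 0
        by_contra hne
        obtain ⟨s, hs, hle⟩ := hf _ (mem_support_iff.2 hne)
        rcases hs with rfl | rfl <;> rw [Finsupp.single_le_iff] at hle
        · rw [(hix t).1] at hle; exact absurd t.1.isLt (not_lt.2 hle)
        · rw [(hix t).2] at hle; exact absurd t.2.isLt (not_lt.2 hle)
    have hsurj : Function.Surjective L := fun v => by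
      refine ⟨∑ t, monomial (ix t) (v t), funext fun t => ?_⟩
      show coeff (ix t) _ = _
      rw [coeff_sum, Finset.sum_eq_single t (fun s _ hst => ?_) (by simp), coeff_monomial, if_pos rfl]
      rw [coeff_monomial, if_neg]
      intro e
      exact hst (Prod.ext (Fin.ext (by rw [← (hix s).1, e, (hix t).1])) (Fin.ext (by rw [← (hix s).2, e, (hix t).2])))
    rw [← (Submodule.Quotient.restrictScalarsEquiv k _).finrank_eq,
      ((Submodule.quotEquivOfEq _ _ hker.symm).trans (L.quotKerEquivOfSurjective hsurj)).finrank_eq]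
    simp
  set F : MvPolynomial (Fin 2) k := X 1 ^ 2 - X 0 ^ 3
  have d0 : pderiv 0 F = - C (3 : k) * X 0 ^ 2 := by
    simp [F, pderiv_X]; rfl
  have d1 : pderiv 1 F = C (2 : k) * X 1 := by
    simp [F, pderiv_X]; rfl
  rw [d0, d1]
  have hI : ∀ a b, (Ideal.span ({F, - C (3 : k) * X 0 ^ 2, C (2 : k) * X 1} : Set (MvPolynomial (Fin 2) k))) = Ideal.span {X 0 ^ a, X 1 ^ b} →
      Module.finrank k (MvPolynomial (Fin 2) k ⧸ Ideal.span ({F, - C (3 : k) * X 0 ^ 2, C (2 : k) * X 1} : Set (MvPolynomial (Fin 2) k))) = a * b :=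
    fun a b h => by rw [h]; exact hmon a b
  have hcancel : ∀ (c : k) (t : MvPolynomial (Fin 2) k) (J : Ideal (MvPolynomial (Fin 2) k)), c ≠ 0 → C c * t ∈ J → t ∈ J := fun c t J hc h => by
    have := J.mul_mem_left (C c⁻¹) h
    rwa [← mul_assoc, ← map_mul, inv_mul_cancel₀ hc, map_one, one_mul] at this
  set I := Ideal.span ({F, - C (3 : k) * X 0 ^ 2, C (2 : k) * X 1} : Set (MvPolynomial (Fin 2) k))
  have gF : F ∈ I := Ideal.subset_span (by simp)
  have g3 : C (3 : k) * X 0 ^ 2 ∈ I := by
    rw [← neg_mem_iff, ← neg_mul]; exact Ideal.subset_span (by simp)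
  have g2 : C (2 : k) * X 1 ∈ I := Ideal.subset_span (by simp)
  have cast0 : ∀ q : ℕ, q.Prime → ((q : k) = 0 ↔ p = q) := fun q hq => by
    rw [CharP.cast_eq_zero_iff k p q, Nat.dvd_prime hq]
    exact ⟨fun h => h.resolve_left fun h1 => (CharP.char_ne_one k p) h1, Or.inr⟩
  split_ifs with h2 h3
  · have e2 : (2 : k) = 0 := by exact_mod_cast (cast0 2 Nat.prime_two).2 h2
    have e3 : (3 : k) ≠ 0 := fun h => by
      have := (cast0 3 Nat.prime_three).1 (by exact_mod_cast h); omega
    refine hI 2 2 (le_antisymm (Ideal.span_le.2 ?_) (Ideal.span_le.2 ?_))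
    · rintro _ (rfl | rfl | rfl) <;> rw [SetLike.mem_coe, Ideal.mem_span_pair]
      · exact ⟨- X 0, 1, by ring⟩
      · exact ⟨- C 3, 0, by ring⟩
      · exact ⟨0, 0, by simp [e2]⟩
    · have hx := hcancel _ _ _ e3 g3
      rintro _ (rfl | rfl)
      · exact hx
      · exact (show X 1 ^ 2 = F + X 0 * X 0 ^ 2 by ring) ▸ I.add_mem gF (I.mul_mem_left _ hx)
  · have e3 : (3 : k) = 0 := by exact_mod_cast (cast0 3 Nat.prime_three).2 h3
    have e2 : (2 : k) ≠ 0 := fun h => h2 ((cast0 2 Nat.prime_two).1 (by exact_mod_cast h))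
    refine hI 3 1 (le_antisymm (Ideal.span_le.2 ?_) (Ideal.span_le.2 ?_))
    · rintro _ (rfl | rfl | rfl) <;> rw [SetLike.mem_coe, Ideal.mem_span_pair]
      · exact ⟨-1, X 1, by ring⟩
      · exact ⟨0, 0, by simp [e3]⟩
      · exact ⟨0, C 2, by ring⟩
    · have hy := hcancel _ _ _ e2 g2
      rintro _ (rfl | rfl)
      · exact (show X 0 ^ 3 = X 1 * X 1 - F by ring) ▸ I.sub_mem (I.mul_mem_left _ hy) gF
      · rw [pow_one]; exact hy
  · have e2 : (2 : k) ≠ 0 := fun h => h2 ((cast0 2 Nat.prime_two).1 (by exact_mod_cast h))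
    have e3 : (3 : k) ≠ 0 := fun h => h3 ((cast0 3 Nat.prime_three).1 (by exact_mod_cast h))
    refine hI 2 1 (le_antisymm (Ideal.span_le.2 ?_) (Ideal.span_le.2 ?_))
    · rintro _ (rfl | rfl | rfl) <;> rw [SetLike.mem_coe, Ideal.mem_span_pair]
      · exact ⟨- X 0, X 1, by ring⟩
      · exact ⟨- C 3, 0, by ring⟩
      · exact ⟨0, C 2, by ring⟩
    · rintro _ (rfl | rfl)
      · exact hcancel _ _ _ e3 g3
      · rw [pow_one]; exact hcancel _ _ _ e2 g2

end Groth.Agent.S19176
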