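import Groth.Statements.S19177
import Mathlib
import Groth.Agent.Lib.CI2.TameLinear

set_option autoImplicit false
universe u
open CAlg

namespace Groth.Agent.S19177
open scoped TensorProduct

/-- Let S → R be a homomorphism of commutative rings making R a finitely generated projective S-module
of rank 2 at every prime of S (the affine form of a finite locally free morphism of degree 2). Then
the cokernel of the (injective) structure map S → R, the S-module R/S, is a projective S-module of
rank 1 at every prime of S (locally free of rank 1). -/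
theorem result
    (S R : Type u) [CommRing S] [CommRing R] [Algebra S R] [Module.Finite S R] [Module.Projective S R]
    (h2 : ∀ p : PrimeSpectrum S, Module.rankAtStalk (R := S) R p = 2) :
    Module.Projective S (R ⧸ LinearMap.range (Algebra.linearMap S R)) ∧
      ∀ p : PrimeSpectrum S,
        Module.rankAtStalk (R := S) (R ⧸ LinearMap.range (Algebra.linearMap S R)) p = 1 := by
  classical
  let ev : (R →ₗ[S] S) →ₗ[S] S := LinearMap.applyₗ (1 : R)
  have hev : LinearMap.range ev = ⊤ := by
    by_contra hne
    obtain ⟨m, hm, hle⟩ := Ideal.exists_le_maximal _ hne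
    haveI : Nontrivial (m.ResidueField ⊗[S] R) := Module.nontrivial_of_finrank_pos (R := m.ResidueField) (by
      show 0 < Module.finrank m.ResidueField (m.Fiber R)
      rw [Ideal.finrank_fiber_eq_rankAtStalk, h2]
      norm_num)
    have h1 : (1 : m.ResidueField ⊗[S] R) ≠ 0 := one_ne_zero
    obtain ⟨ψ, hψ⟩ := Module.Projective.exists_dual_ne_zero m.ResidueField h1
    let e : (S ⧸ m) ≃ₗ[S] m.ResidueField :=
      LinearEquiv.ofBijective (IsScalarTower.toAlgHom S (S ⧸ m) m.ResidueField).toLinearMap
        (Ideal.bijective_algebraMap_quotient_residueField m)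
    let g : R →ₗ[S] S ⧸ m :=
      e.symm.toLinearMap.comp ((ψ.restrictScalars S).comp (Algebra.TensorProduct.includeRight (R := S) (A := m.ResidueField)).toLinearMap)
    obtain ⟨G, hG⟩ := Module.projective_lifting_property m.mkQ g m.mkQ_surjective
    have h3 : G 1 ∈ m := hle ⟨G, rfl⟩
    have h4 : g 1 = 0 := by
      rw [← hG, LinearMap.comp_apply, Submodule.mkQ_apply, Submodule.Quotient.mk_eq_zero]; exact h3
    apply hψ
    exact e.symm.injective (h4.trans (map_zero _).symm)
  obtain ⟨F, hF⟩ : ∃ F : R →ₗ[S] S, F 1 = 1 := LinearMap.range_eq_top.1 hev 1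
  let i := Algebra.linearMap S R
  have hFi : ∀ s, F (i s) = s := fun s => by
    rw [Algebra.linearMap_apply, Algebra.algebraMap_eq_smul_one, map_smul, hF, smul_eq_mul, mul_one]
  let Q := R ⧸ LinearMap.range i
  let P : R →ₗ[S] R := LinearMap.id - i.comp F
  let e : (S × Q) ≃ₗ[S] R := LinearEquiv.ofLinear
    (LinearMap.coprod i ((LinearMap.range i).liftQ P (by
      rintro _ ⟨s, rfl⟩; show i s - i (F (i s)) = 0; rw [hFi, sub_self])))
    (LinearMap.prod F (LinearMap.range i).mkQ)
    (LinearMap.ext fun r => by show i (F r) + (r - i (F r)) = r; abel)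
    (by
      refine LinearMap.ext fun ⟨s, q⟩ => ?_
      obtain ⟨r, rfl⟩ := Submodule.Quotient.mk_surjective _ q
      refine Prod.ext ?_ ?_
      · show F (i s + (r - i (F r))) = s
        rw [map_add, map_sub, hFi, hFi, sub_self, add_zero]
      · show Submodule.Quotient.mk (i s + (r - i (F r))) = Submodule.Quotient.mk r
        rw [Submodule.Quotient.eq]
        exact ⟨s - F r, by rw [map_sub]; abel⟩)
  haveI : Module.Projective S Q := Module.Projective.of_split (LinearMap.inr S S Q ∘ₗ LinearMap.id |> fun f => e.toLinearMap ∘ₗ f)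
    ((LinearMap.snd S S Q) ∘ₗ e.symm.toLinearMap) (LinearMap.ext fun q => by simp)
  refine ⟨inferInstance, fun p => ?_⟩
  haveI : Nontrivial S := ⟨⟨0, 1, fun h => p.isPrime.ne_top ((Ideal.eq_top_iff_one _).2 (h ▸ zero_mem _))⟩⟩
  have h3 := h2 p
  rw [← Module.rankAtStalk_eq_of_equiv e, Module.rankAtStalk_prod, Module.rankAtStalk_self] at h3
  simp only [Pi.add_apply, Pi.one_apply] at h3
  show Module.rankAtStalk Q p = 1
  omega

end Groth.Agent.S19177
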