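import Groth.Statements.S19178
import Groth.Agent.Lib.Homog17.Factor
import Mathlib.AlgebraicGeometry.EllipticCurve.Affine.Basic
import Mathlib.Tactic
-- import your own Groth.Agent.* helpers here

set_option autoImplicit false
universe u
open Curves

namespace Groth.Agent.S19178
open Groth.Agent
set_option linter.style.haveILetI false

/-- For every field k and every choice of coefficients a₁, a₂, a₃, a₄, a₆ in k, the homogeneous
Weierstrass cubic Y²Z + a₁XYZ + a₃YZ² − (X³ + a₂X²Z + a₄XZ² + a₆Z³) is an irreducible polynomial in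
k[X, Y, Z]. Applied to all fields, this says every fibre of the Weierstrass family over the affine
space of coefficients is geometrically integral. -/
theorem result (k : Type u) [Field k]
    (W : WeierstrassCurve k) :
    Irreducible (WeierstrassCurve.Projective.polynomial W) := by
  let ψ : MvPolynomial (Fin 3) k →ₐ[k] Polynomial (Polynomial k) :=
    MvPolynomial.aeval ![Polynomial.C Polynomial.X, Polynomial.X, 1]
  set F := WeierstrassCurve.Projective.polynomial W with hFdef
  have hC : ∀ c : k, ψ (MvPolynomial.C c) = Polynomial.C (Polynomial.C c) := fun c => by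
    simp [ψ, Polynomial.algebraMap_apply]
  have hψF : ψ F = W.toAffine.polynomial := by
    simp only [hFdef, WeierstrassCurve.Projective.polynomial, map_sub, map_add, map_mul, map_pow, hC]
    simp only [ψ, MvPolynomial.aeval_X, WeierstrassCurve.Affine.polynomial, WeierstrassCurve.toAffine]
    simp
    ring
  have hirr : Irreducible (ψ F) := hψF ▸ WeierstrassCurve.Affine.irreducible_polynomial
  have hev : MvPolynomial.eval ![1, 0, 0] F = -1 := by
    simp [hFdef, WeierstrassCurve.Projective.polynomial]
  have hF0 : F ≠ 0 := fun h => by simp [h] at hev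
  have hFh : F.IsHomogeneous 3 := by
    have hX : ∀ i : Fin 3, (MvPolynomial.X i : MvPolynomial (Fin 3) k).IsHomogeneous 1 :=
      fun i => MvPolynomial.isHomogeneous_X k i
    have hC' : ∀ a : k, (MvPolynomial.C a : MvPolynomial (Fin 3) k).IsHomogeneous 0 :=
      fun a => MvPolynomial.isHomogeneous_C _ a
    rw [hFdef, WeierstrassCurve.Projective.polynomial]
    refine MvPolynomial.IsHomogeneous.sub
      (((((hX 1).pow 2).mul (hX 2)).add ((((hC' _).mul (hX 0)).mul (hX 1)).mul (hX 2))).add
        (((hC' _).mul (hX 1)).mul ((hX 2).pow 2))) ?_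
    exact ((((hX 0).pow 3).add (((hC' _).mul ((hX 0).pow 2)).mul (hX 2))).add
      (((hC' _).mul (hX 0)).mul ((hX 2).pow 2))).add ((hC' _).mul ((hX 2).pow 3))
  refine ⟨fun h => hirr.not_isUnit (h.map ψ), fun G H hGH => ?_⟩
  suffices key : ∀ G H : MvPolynomial (Fin 3) k, F = G * H → IsUnit (ψ G) → IsUnit G by
    rcases hirr.isUnit_or_isUnit (show ψ F = ψ G * ψ H by rw [hGH, map_mul]) with h | h
    · exact Or.inl (key G H hGH h)
    · exact Or.inr (key H G (hGH.trans (mul_comm _ _)) h)
  clear hGH G H
  intro G H hGH hu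
  obtain ⟨p, hp, hpc⟩ := Polynomial.isUnit_iff.1 hu
  obtain ⟨c, hc, rfl⟩ := Polynomial.isUnit_iff.1 hp
  obtain ⟨e, hGe⟩ := Homog17.isHomogeneous_of_mul (hGH ▸ hFh) (hGH ▸ hF0)
  -- a homogeneous polynomial is determined by its dehomogenization
  have hinj : ∀ Q : MvPolynomial (Fin 3) k, Q.IsHomogeneous e → ψ Q = 0 → Q = 0 := by
    intro Q hQ hQ0
    classical
    apply MvPolynomial.ext
    intro d
    rw [MvPolynomial.coeff_zero]
    by_contra hd
    have hψm : ∀ (v : Fin 3 →₀ ℕ) (a : k), ψ (MvPolynomial.monomial v a) =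
        Polynomial.monomial (v 1) (Polynomial.monomial (v 0) a) := by
      intro v a
      rw [MvPolynomial.aeval_monomial, Finsupp.prod_fintype _ _ (fun i => pow_zero _), Fin.prod_univ_three]
      simp [← Polynomial.C_mul_X_pow_eq_monomial, Polynomial.algebraMap_apply, mul_assoc]
    rw [Q.as_sum, map_sum] at hQ0
    have := congrArg (fun x => (x.coeff (d 1)).coeff (d 0)) hQ0
    simp only [hψm, Polynomial.finsetSum_coeff, Polynomial.coeff_monomial, Polynomial.coeff_zero] at this
    rw [Finset.sum_eq_single d] at this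
    · simp only [if_pos rfl, Polynomial.coeff_monomial, if_true] at this
      exact hd this
    · intro v hv hne
      by_cases h1 : v 1 = d 1
      · rw [if_pos h1, Polynomial.coeff_monomial, if_neg]
        intro h0
        apply hne
        have hdeg : ∀ w : Fin 3 →₀ ℕ, Q.coeff w ≠ 0 → w 0 + w 1 + w 2 = e := fun w hw => by
          rw [← hQ hw, Finsupp.weight_apply, Finsupp.sum_fintype _ _ (fun i => by simp), Fin.sum_univ_three]
          simp
        have e1 := hdeg v (MvPolynomial.mem_support_iff.1 hv)
        have e2 := hdeg d hd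
        ext i
        fin_cases i <;> simp only [Fin.mk_one, Fin.zero_eta, Fin.reduceFinMk] <;> omega
      · rw [if_neg h1, Polynomial.coeff_zero]
    · exact fun h => absurd (MvPolynomial.mem_support_iff.2 hd) h
  have hG : G = MvPolynomial.C c * MvPolynomial.X 2 ^ e := by
    refine sub_eq_zero.1 (hinj _ (hGe.sub (by simpa using ((MvPolynomial.isHomogeneous_X k (2 : Fin 3)).pow e).C_mul c)) ?_)
    rw [map_sub, map_mul, map_pow, hC, show ψ (MvPolynomial.X 2) = 1 by simp [ψ], one_pow, mul_one,
      hpc, sub_self]
  rcases Nat.eq_zero_or_pos e with he | he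
  · rw [hG, he, pow_zero, mul_one]
    exact hc.map MvPolynomial.C
  · exfalso
    rw [hGH, hG, map_mul, map_mul, map_pow, MvPolynomial.eval_X] at hev
    simp [he.ne'] at hev

end Groth.Agent.S19178
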