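import Groth.Statements.S19180
import Groth.Agent.Lib.CohFound.ProjRelVan
import Groth.Agent.Lib.ModM1.Local
import Groth.Agent.Lib.CohFound.DimShift

set_option autoImplicit false
universe u
open Coherent

namespace Groth.Agent.S19180

open CategoryTheory AlgebraicGeometry in
/-- Let R be a local ring and m ≥ 1, and consider the projective line P¹_R with its structure sheaf O
and twisting sheaf O(m). For every O-module F and every short exact sequence 0 → O(m) → F → O → 0 of
O-modules, the surjection F → O admits a section; consequently F is isomorphic to O(m) ⊕ O. -/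
theorem result (R : Type u) [CommRing R] [IsLocalRing R]
    (m : ℕ) (hm : 1 ≤ m) (F : (CohB1.ProjSpace 1 R).Modules)
    (i : Twist.twistProjSpace 1 R (m : ℤ) ⟶ F) (p : F ⟶ Coh.structureModule (CohB1.ProjSpace 1 R))
    (w : i ≫ p = 0) (hex : (ShortComplex.mk i p w).ShortExact) :
    ∃ s : Coh.structureModule (CohB1.ProjSpace 1 R) ⟶ F, s ≫ p = 𝟙 _ := by
  classical
  haveI hH : Subsingleton (Groth.Agent.CohFound.Hc
      ((Groth.Agent.CohFound.abF (CohB1.ProjSpace 1 R)).obj (Twist.twistProjSpace 1 R (m : ℤ))) 1 ⊤) :=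
    Groth.Agent.CohFound.ProjNum.subsingleton_hc_Od (n := 1) (R := R) (d := (m : ℤ)) 1 Nat.one_pos
      (Or.inl (by omega))
  have hsurj : Function.Surjective (p.app ⊤) :=
    Groth.Agent.CohFound.app_surjective_of_subsingleton
      (Groth.Agent.CohFound.shortExact_abF hex) ⊤ hH
  obtain ⟨t, ht⟩ := hsurj (Groth.Agent.M1.one ⊤)
  refine ⟨Groth.Agent.M1.secHom t, Groth.Agent.M1.unit_hom_ext ?_⟩
  show p.app ⊤ ((Groth.Agent.M1.secHom t).app ⊤ (Groth.Agent.M1.one ⊤)) = Groth.Agent.M1.one ⊤
  rw [Groth.Agent.M1.secHom_app_one]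
  exact ht

end Groth.Agent.S19180
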