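import Groth.Statements.S19181
import Mathlib
import Groth.Agent.Lib.Compl.Complete

set_option autoImplicit false
universe u
open CAlg

namespace Groth.Agent.S19181
open CategoryTheory

open MvPolynomial in
theorem sat {R : Type u} [CommRing R] (g : MvPolynomial (Fin 2) R) (k : ℕ)
    (hg : ∀ p : Polynomial R, p * aeval ![0, Polynomial.X] g = 0 → p = 0) (s : MvPolynomial (Fin 2) R) :
    (∃ n : ℕ, X 0 ^ n * s ∈ Ideal.span ({X 0 ^ k * g} : Set (MvPolynomial (Fin 2) R))) ↔
      s ∈ Ideal.span ({g} : Set (MvPolynomial (Fin 2) R)) := by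
  constructor
  · rintro ⟨n, hn⟩
    obtain ⟨h, hh⟩ := Ideal.mem_span_singleton'.1 hn
    have : ∀ (n : ℕ) (s h : MvPolynomial (Fin 2) R), X 0 ^ n * s = h * g → ∃ h', s = h' * g := by
      intro n
      induction n with
      | zero => intro s h e; exact ⟨h, by simpa using e⟩
      | succ n ih =>
        intro s h e
        have h0 : aeval ![0, Polynomial.X] h = (0 : Polynomial R) := by
          apply hg
          rw [← map_mul, ← e, map_mul, map_pow, aeval_X]
          simp
        have hd : (X 0 : MvPolynomial (Fin 2) R) ∣ h := by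
          rw [← Ideal.mem_span_singleton, ← Ideal.Quotient.eq_zero_iff_mem]
          have key : (Ideal.Quotient.mkₐ R (Ideal.span {(X 0 : MvPolynomial (Fin 2) R)})) =
              ((Ideal.Quotient.mkₐ R _).comp (Polynomial.aeval (X 1 : MvPolynomial (Fin 2) R))).comp (aeval ![0, Polynomial.X]) := by
            apply MvPolynomial.algHom_ext
            intro i
            fin_cases i
            · simpa [Ideal.Quotient.eq_zero_iff_mem] using Ideal.mem_span_singleton_self (X 0 : MvPolynomial (Fin 2) R)
            · simp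
          have := AlgHom.congr_fun key h
          rw [AlgHom.comp_apply, h0, map_zero] at this
          exact this
        obtain ⟨h', rfl⟩ := hd
        refine ih s h' ?_
        have e' : X 0 * (X 0 ^ n * s) = X 0 * (h' * g) := by rw [← mul_assoc, ← pow_succ', e, mul_assoc]
        exact (MvPolynomial.isRegular_X (R := R) (n := 0)).left e'
    exact Ideal.mem_span_singleton'.2 ((this n s (h * X 0 ^ k) (by rw [mul_assoc, hh])).imp fun _ => Eq.symm)
  · intro hs
    obtain ⟨h, rfl⟩ := Ideal.mem_span_singleton'.1 hs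
    exact ⟨k, Ideal.mem_span_singleton'.2 ⟨h, by ring⟩⟩

open MvPolynomial in

open MvPolynomial in
/-- Let R be a commutative ring, a₁, a₂ ∈ R, and C ⊂ A²_R the curve y² + a₁xy = x³ + a₂x², blown up at
the section x = y = 0. In the chart where x = yα (variables y = X 0, α = X 1) the equation of C
becomes y²·g₁ with g₁ = 1 + a₁α − yα³ − a₂α², and the y-saturation of the ideal (y²g₁) is (g₁): for
s ∈ R[y, α], some yⁿs lies in (y²g₁) if and only if s ∈ (g₁). In the chart where y = xβ (variables x
= X 0, β = X 1) the equation becomes x²·g₂ with g₂ = β² + a₁β − x − a₂, and some xⁿs lies in (x²g₂)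
if and only if s ∈ (g₂). In other words the strict transform of C is cut out by g₁, resp. g₂, in the
two charts. -/
theorem result (R : Type u) [CommRing R] (a₁ a₂ : R) :
    (∀ s : MvPolynomial (Fin 2) R,
      (∃ n : ℕ, X 0 ^ n * s ∈ Ideal.span ({X 0 ^ 2 * (1 + C a₁ * X 1 - X 0 * X 1 ^ 3 - C a₂ * X 1 ^ 2)} :
        Set (MvPolynomial (Fin 2) R))) ↔
      s ∈ Ideal.span ({1 + C a₁ * X 1 - X 0 * X 1 ^ 3 - C a₂ * X 1 ^ 2} : Set (MvPolynomial (Fin 2) R))) ∧
    (∀ s : MvPolynomial (Fin 2) R,
      (∃ n : ℕ, X 0 ^ n * s ∈ Ideal.span ({X 0 ^ 2 * (X 1 ^ 2 + C a₁ * X 1 - X 0 - C a₂)} :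
        Set (MvPolynomial (Fin 2) R))) ↔
      s ∈ Ideal.span ({X 1 ^ 2 + C a₁ * X 1 - X 0 - C a₂} : Set (MvPolynomial (Fin 2) R))) := by
  refine ⟨sat _ 2 ?_, sat _ 2 ?_⟩
  · intro p hp
    by_contra hne
    have h2 := congrArg (fun q => Polynomial.coeff q p.natTrailingDegree) hp
    have he : (aeval ![(0 : Polynomial R), Polynomial.X]) (1 + C a₁ * X 1 - X 0 * X 1 ^ 3 - C a₂ * X 1 ^ 2 : MvPolynomial (Fin 2) R) =
        1 + Polynomial.X * (Polynomial.C a₁ - Polynomial.C a₂ * Polynomial.X) := by
      simp; ring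
    simp only [he, mul_add, mul_one, Polynomial.coeff_add, Polynomial.coeff_zero, ← mul_assoc] at h2
    have h3 : (p * Polynomial.X * (Polynomial.C a₁ - Polynomial.C a₂ * Polynomial.X)).coeff p.natTrailingDegree = 0 := by
      rw [Polynomial.coeff_mul]
      refine Finset.sum_eq_zero fun ij hij => ?_
      have hle : ij.1 ≤ p.natTrailingDegree := by
        have := Finset.HasAntidiagonal.mem_antidiagonal.1 hij; omega
      rcases Nat.eq_zero_or_pos ij.1 with h | h
      · rw [h]; simp
      · obtain ⟨j, hj⟩ := Nat.exists_eq_succ_of_ne_zero h.ne'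
        rw [hj, Polynomial.coeff_mul_X, Polynomial.coeff_eq_zero_of_lt_natTrailingDegree (by omega), zero_mul]
    rw [h3, add_zero] at h2
    exact Polynomial.trailingCoeff_nonzero_iff_nonzero.2 hne h2
  · intro p hp
    have he : (aeval ![(0 : Polynomial R), Polynomial.X]) (X 1 ^ 2 + C a₁ * X 1 - X 0 - C a₂ : MvPolynomial (Fin 2) R) =
        Polynomial.X ^ 2 + (Polynomial.C a₁ * Polynomial.X - Polynomial.C a₂) := by
      simp; ring
    rw [he] at hp
    rcases subsingleton_or_nontrivial R with h | h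
    · exact Subsingleton.elim _ _
    have hm : (Polynomial.X ^ 2 + (Polynomial.C a₁ * Polynomial.X - Polynomial.C a₂)).Monic := by
      monicity!
    exact hm.mul_left_eq_zero_iff.1 hp

end Groth.Agent.S19181
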