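import Groth.Statements.S19182
import Mathlib
import Groth.Agent.S12524

set_option autoImplicit false
universe u
open CAlg

namespace Groth.Agent.S19182

open MvPolynomial in

open MvPolynomial in
/-- Let R be a commutative ring and a₁, a₂ ∈ R. The two affine charts of the blow-up of the plane curve
y² + a₁xy = x³ + a₂x² at the section x = y = 0, with coordinate rings R[y, α]/(1 + a₁α − yα³ − a₂α²)
and R[x, β]/(β² + a₁β − x − a₂) (variables indexed 0 and 1 in this order), are smooth R-algebras
(formally smooth of finite presentation). This is the local computation behind the statement that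
the blow-up of a Weierstrass curve along a section through its singular locus is a smooth proper
curve of genus 0. -/
theorem result (R : Type u) [CommRing R] (a₁ a₂ : R) :
    Algebra.Smooth R (MvPolynomial (Fin 2) R ⧸
      Ideal.span ({1 + C a₁ * X 1 - X 0 * X 1 ^ 3 - C a₂ * X 1 ^ 2} : Set (MvPolynomial (Fin 2) R))) ∧
    Algebra.Smooth R (MvPolynomial (Fin 2) R ⧸
      Ideal.span ({X 1 ^ 2 + C a₁ * X 1 - X 0 - C a₂} : Set (MvPolynomial (Fin 2) R))) := by
  have hpoly : Algebra.Smooth R (Polynomial R) := ⟨Algebra.FormallySmooth.of_equiv (MvPolynomial.pUnitAlgEquiv.{u, 0} R), Algebra.FinitePresentation.equiv (MvPolynomial.pUnitAlgEquiv.{u, 0} R)⟩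
  constructor
  · set g : MvPolynomial (Fin 2) R := 1 + C a₁ * X 1 - X 0 * X 1 ^ 3 - C a₂ * X 1 ^ 2 with hg
    let L := Localization.Away (Polynomial.X : Polynomial R)
    let t : L := algebraMap (Polynomial R) L Polynomial.X
    obtain ⟨u, hu⟩ : ∃ u : L, t * u = 1 :=
      ⟨_, IsLocalization.Away.mul_invSelf (Polynomial.X : Polynomial R)⟩
    let x0 : L := u ^ 3 * (1 + algebraMap R L a₁ * t - algebraMap R L a₂ * t ^ 2)
    let F : MvPolynomial (Fin 2) R →ₐ[R] L := MvPolynomial.aeval ![x0, t]
    have hFg : F g = 0 := by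
      simp only [F, g, map_sub, map_add, map_mul, map_pow, map_one, MvPolynomial.aeval_C, MvPolynomial.aeval_X]
      simp only [Matrix.cons_val_zero, Matrix.cons_val_one, x0]
      linear_combination (-(1 + algebraMap R L a₁ * t - algebraMap R L a₂ * t ^ 2) * (t ^ 2 * u ^ 2 + t * u + 1)) * hu
    let Q := MvPolynomial (Fin 2) R ⧸ Ideal.span ({g} : Set (MvPolynomial (Fin 2) R))
    let φ : Q →ₐ[R] L := Ideal.Quotient.liftₐ _ F (by
      intro a ha
      obtain ⟨c, rfl⟩ := Ideal.mem_span_singleton'.1 ha
      rw [map_mul, hFg, mul_zero])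
    let m := Ideal.Quotient.mk (Ideal.span ({g} : Set (MvPolynomial (Fin 2) R)))
    have hrel : m g = 0 := Ideal.Quotient.eq_zero_iff_mem.2 (Ideal.mem_span_singleton_self g)
    have hunit : IsUnit ((Polynomial.aeval (R := R) (m (X 1))) (Polynomial.X : Polynomial R)) := by
      rw [Polynomial.aeval_X]
      refine IsUnit.of_mul_eq_one (m (X 0 * X 1 ^ 2 + C a₂ * X 1 - C a₁)) ?_
      rw [← map_mul, ← map_one m, ← sub_eq_zero, ← map_sub,
        show X 1 * (X 0 * X 1 ^ 2 + C a₂ * X 1 - C a₁) - 1 = -g by rw [hg]; ring, map_neg, hrel, neg_zero]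
    let ψ : L →ₐ[R] Q :=
      { IsLocalization.Away.lift (Polynomial.X : Polynomial R) (g := (Polynomial.aeval (R := R) (m (X 1))).toRingHom) hunit with
        commutes' := fun r => by
          show IsLocalization.Away.lift (Polynomial.X : Polynomial R) hunit (algebraMap R L r) = _
          rw [IsScalarTower.algebraMap_apply R (Polynomial R) L, IsLocalization.Away.lift_eq]
          exact (Polynomial.aeval (R := R) (m (X 1))).commutes r }
    have hψt : ψ t = m (X 1) := by
      show IsLocalization.Away.lift (Polynomial.X : Polynomial R) hunit (algebraMap (Polynomial R) L Polynomial.X) = _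
      rw [IsLocalization.Away.lift_eq]
      exact Polynomial.aeval_X _
    have hψu : m (X 1) * ψ u = 1 := by rw [← hψt, ← map_mul, hu, map_one]
    have hψ0 : ψ x0 = m (X 0) := by
      have hr : 1 + algebraMap R Q a₁ * m (X 1) - m (X 0) * m (X 1) ^ 3 - algebraMap R Q a₂ * m (X 1) ^ 2 = 0 := by
        rw [← hrel, show m g = m (1 + C a₁ * X 1 - X 0 * X 1 ^ 3 - C a₂ * X 1 ^ 2) from rfl, map_sub, map_sub, map_add, map_mul, map_mul, map_mul, map_pow, map_pow, map_one]
        rfl
      simp only [x0, map_mul, map_pow, map_sub, map_add, map_one, hψt, AlgHom.commutes]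
      linear_combination (ψ u ^ 3) * hr + (m (X 0) * ((m (X 1)) ^ 2 * ψ u ^ 2 + m (X 1) * ψ u + 1)) * hψu
    have h1 : φ.comp ψ = AlgHom.id R L := by
      apply AlgHom.coe_ringHom_injective
      apply IsLocalization.ringHom_ext (Submonoid.powers (Polynomial.X : Polynomial R))
      apply Polynomial.ringHom_ext
      · intro r
        have := (φ.comp ψ).commutes r
        simpa [IsScalarTower.algebraMap_apply R (Polynomial R) L] using this
      · show φ (ψ t) = t
        rw [hψt]
        show F (X 1) = t
        simp [F]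
    have h2 : ψ.comp φ = AlgHom.id R Q := by
      apply Ideal.Quotient.algHom_ext
      apply MvPolynomial.algHom_ext
      intro i
      fin_cases i
      · show ψ (F (X 0)) = m (X 0)
        simp [F, hψ0]
      · show ψ (F (X 1)) = m (X 1)
        simp [F, hψt]
    have : Algebra.Smooth (Polynomial R) L := Algebra.Smooth.of_isLocalization_Away (Polynomial.X : Polynomial R)
    have : Algebra.Smooth R L := Algebra.Smooth.comp R (Polynomial R) L
    exact Algebra.Smooth.of_equiv (AlgEquiv.ofAlgHom φ ψ h1 h2).symm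
  · set g : MvPolynomial (Fin 2) R := X 1 ^ 2 + C a₁ * X 1 - X 0 - C a₂ with hg
    let Q := MvPolynomial (Fin 2) R ⧸ Ideal.span ({g} : Set (MvPolynomial (Fin 2) R))
    let F : MvPolynomial (Fin 2) R →ₐ[R] Polynomial R :=
      MvPolynomial.aeval ![Polynomial.X ^ 2 + Polynomial.C a₁ * Polynomial.X - Polynomial.C a₂, Polynomial.X]
    have hFg : F g = 0 := by simp [F, g]
    let φ : Q →ₐ[R] Polynomial R := Ideal.Quotient.liftₐ _ F (by
      intro a ha
      obtain ⟨c, rfl⟩ := Ideal.mem_span_singleton'.1 ha
      rw [map_mul, hFg, mul_zero])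
    let m := Ideal.Quotient.mkₐ R (Ideal.span ({g} : Set (MvPolynomial (Fin 2) R)))
    let ψ : Polynomial R →ₐ[R] Q := Polynomial.aeval (m (X 1))
    have h1 : φ.comp ψ = AlgHom.id R (Polynomial R) := by
      apply Polynomial.algHom_ext
      show φ (ψ Polynomial.X) = Polynomial.X
      simp [ψ]
      show F (X 1) = Polynomial.X
      simp [F]
    have h2 : ψ.comp φ = AlgHom.id R Q := by
      apply Ideal.Quotient.algHom_ext
      apply MvPolynomial.algHom_ext
      intro i
      fin_cases i
      · show ψ (F (X 0)) = m (X 0)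
        rw [show F (X 0) = Polynomial.X ^ 2 + Polynomial.C a₁ * Polynomial.X - Polynomial.C a₂ by simp [F],
          map_sub, map_add, map_mul, map_pow, Polynomial.aeval_X, Polynomial.aeval_C, Polynomial.aeval_C,
          ← m.commutes a₁, ← m.commutes a₂, ← map_pow, ← map_mul, ← map_add, ← map_sub]
        refine Ideal.Quotient.eq.2 (Ideal.mem_span_singleton'.2 ⟨1, ?_⟩)
        rw [hg, MvPolynomial.algebraMap_eq]; ring
      · show ψ (F (X 1)) = m (X 1)
        simp [F, ψ]
    exact Algebra.Smooth.of_equiv (AlgEquiv.ofAlgHom φ ψ h1 h2).symm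

end Groth.Agent.S19182
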