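import Groth.Statements.S19183
import Mathlib
import Groth.Agent.Lib.Compl.Complete

set_option autoImplicit false
universe u
open CAlg

namespace Groth.Agent.S19183
open CategoryTheory

/-- Let A be a non-zero commutative ring and f ∈ A a non-zero-divisor. The fibre product A ×_{A/(f)} A
of two copies of A over A/(f) — the A-submodule of A × A of pairs (x, y) with x − y ∈ (f), which is
the coordinate ring of two copies of Spec A glued along the Cartier divisor f = 0 — is a free
A-module of rank 2. (This is what makes the gluing of two copies of a curve along an effective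
Cartier divisor finite locally free of degree 2 over the curve.) -/
theorem result (A : Type u) [CommRing A] [Nontrivial A]
    (f : A) (hf : f ∈ nonZeroDivisors A) :
    Module.Free A (Submodule.comap (LinearMap.fst A A A - LinearMap.snd A A A) (Ideal.span ({f} : Set A))) ∧
      Module.finrank A (Submodule.comap (LinearMap.fst A A A - LinearMap.snd A A A) (Ideal.span ({f} : Set A))) = 2 := by
  set P := Submodule.comap (LinearMap.fst A A A - LinearMap.snd A A A) (Ideal.span ({f} : Set A))
  let u : A × A →ₗ[A] A × A := (LinearMap.snd A A A + f • LinearMap.fst A A A).prod (LinearMap.snd A A A)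
  have hu : ∀ p, u p = (p.2 + f * p.1, p.2) := fun p => rfl
  have hmem : ∀ p, u p ∈ P := fun p => by
    show (p.2 + f * p.1) - p.2 ∈ Ideal.span {f}
    simpa using Ideal.mul_mem_right _ _ (Ideal.mem_span_singleton_self f)
  let e : (A × A) ≃ₗ[A] P := LinearEquiv.ofBijective (u.codRestrict P hmem) ⟨fun p q h => by
      have h' : u p = u q := congrArg Subtype.val h
      rw [hu, hu, Prod.mk.injEq] at h'
      refine Prod.ext ?_ h'.2
      rw [h'.2, add_right_inj] at h'
      exact (mul_cancel_left_mem_nonZeroDivisors hf).1 h'.1,
    fun ⟨⟨a, b⟩, hab⟩ => by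
      obtain ⟨c, hc⟩ := Ideal.mem_span_singleton'.1 (show a - b ∈ Ideal.span {f} from hab)
      refine ⟨(c, b), Subtype.ext ?_⟩
      show u (c, b) = (a, b)
      rw [hu, mul_comm, hc]
      simp⟩
  exact ⟨Module.Free.of_equiv e, by rw [← e.finrank_eq]; simp⟩

end Groth.Agent.S19183
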