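import Groth.Statements.S19184
import Mathlib

set_option autoImplicit false
universe u
open CAlg

namespace Groth.Agent.S19184

open Polynomial


open Polynomial in
/-- Let S be a commutative ring, a, b ∈ S, f = x² + ax + b ∈ S[x] and R = S[x]/(f), a free S-algebra of
rank 2. Let A ⊂ S[x] be the S-subalgebra of polynomials whose class in R lies in the image of S → R;
it is the fibre product S[x] ×_R S, the coordinate ring of the affine line over S with the degree-2
subscheme Spec R collapsed onto Spec S. Then A is a free S-module and S[x] is a finitely generated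
A-module. -/
theorem result (S : Type u) [CommRing S] (a b : S) :
    Module.Free S ((⊥ : Subalgebra S (S[X] ⧸ Ideal.span ({X ^ 2 + C a * X + C b} : Set S[X]))).comap
        (Ideal.Quotient.mkₐ S (Ideal.span ({X ^ 2 + C a * X + C b} : Set S[X])))) ∧
      Module.Finite ((⊥ : Subalgebra S (S[X] ⧸ Ideal.span ({X ^ 2 + C a * X + C b} : Set S[X]))).comap
        (Ideal.Quotient.mkₐ S (Ideal.span ({X ^ 2 + C a * X + C b} : Set S[X])))) S[X] := by
  set g : S[X] := X ^ 2 + C a * X + C b
  set T := (⊥ : Subalgebra S (S[X] ⧸ Ideal.span ({g} : Set S[X]))).comap (Ideal.Quotient.mkₐ S (Ideal.span ({g} : Set S[X])))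
  have hg : g.Monic := by
    simp only [g]; monicity!
  have hmem : ∀ p : S[X], p ∈ T ↔ ∃ (s : S) (h : S[X]), C s + g * h = p := by
    intro p
    show Ideal.Quotient.mkₐ S _ p ∈ (⊥ : Subalgebra S _) ↔ _
    rw [Algebra.mem_bot]
    constructor
    · rintro ⟨s, hs⟩
      have h1 : p - C s ∈ Ideal.span ({g} : Set S[X]) := by
        rw [← Ideal.Quotient.eq]
        exact hs.symm
      obtain ⟨h, hh⟩ := Ideal.mem_span_singleton.1 h1
      exact ⟨s, h, by rw [← hh]; ring⟩
    · rintro ⟨s, h, rfl⟩
      refine ⟨s, ?_⟩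
      show Ideal.Quotient.mk _ (C s) = Ideal.Quotient.mk _ (C s + g * h)
      rw [Ideal.Quotient.eq, Ideal.mem_span_singleton]
      exact ⟨-h, by ring⟩
  let L : S × S[X] →ₗ[S] T :=
    { toFun := fun v => ⟨C v.1 + g * v.2, (hmem _).2 ⟨v.1, v.2, rfl⟩⟩
      map_add' := fun v w => Subtype.ext (by simp; ring)
      map_smul' := fun c v => Subtype.ext (by simp [smul_eq_C_mul]; ring) }
  have hdeg : ∀ h : S[X], h ≠ 0 → ∀ s : S, g * h ≠ C s := by
    intro h hh s e
    haveI : Nontrivial S := by
      by_contra hn; rw [not_nontrivial_iff_subsingleton] at hn; exact hh (Subsingleton.elim _ _)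
    have h2 : g.natDegree = 2 := by simp only [g]; compute_degree!
    have := congrArg natDegree e
    rw [hg.natDegree_mul' hh, natDegree_C, h2] at this
    omega
  have hL : Function.Bijective L := by
    constructor
    · rw [← LinearMap.ker_eq_bot]
      refine LinearMap.ker_eq_bot'.2 fun v hv => ?_
      have h0 : C v.1 + g * v.2 = 0 := congrArg Subtype.val hv
      have hv2 : v.2 = 0 := by
        by_contra h
        exact hdeg _ h (-v.1) (by rw [map_neg]; linear_combination h0)
      rw [hv2, mul_zero, add_zero, C_eq_zero] at h0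
      exact Prod.ext h0 hv2
    · rintro ⟨p, hp⟩
      obtain ⟨s, h, rfl⟩ := (hmem p).1 hp
      exact ⟨(s, h), rfl⟩
  classical
  refine ⟨Module.Free.of_equiv (LinearEquiv.ofBijective L hL), ⟨⟨{(1 : S[X]), X}, ?_⟩⟩⟩
  rw [eq_top_iff]
  intro p _
  have h1 : p = p %ₘ g + g * (p /ₘ g) := (modByMonic_add_div p g).symm
  rw [h1]
  rcases subsingleton_or_nontrivial S with hs | hs
  · rw [Subsingleton.elim (p %ₘ g + g * (p /ₘ g)) 0]; exact zero_mem _
  have h2 : g.natDegree = 2 := by simp only [g]; compute_degree!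
  obtain ⟨c, d, hcd⟩ : ∃ c d, p %ₘ g = C d * X + C c := by
    refine ⟨_, _, eq_X_add_C_of_natDegree_le_one ?_⟩
    have h3 := natDegree_modByMonic_lt p hg (fun e => by rw [e, natDegree_one] at h2; omega)
    omega
  have hsub : ∀ t ∈ T, ∀ x ∈ ({(1 : S[X]), X} : Finset S[X]), t * x ∈ Submodule.span T (↑({(1 : S[X]), X} : Finset S[X]) : Set S[X]) :=
    fun t ht x hx => Submodule.smul_mem _ (⟨t, ht⟩ : T) (Submodule.subset_span hx)
  rw [hcd]
  refine add_mem (add_mem (hsub _ ((hmem _).2 ⟨d, 0, by simp⟩) X (by simp)) ?_) ?_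
  · simpa using hsub _ ((hmem _).2 ⟨c, 0, by simp⟩) 1 (by simp)
  · simpa using hsub _ ((hmem _).2 ⟨0, p /ₘ g, by simp⟩) 1 (by simp)

end Groth.Agent.S19184
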