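import Groth.Statements.S19185
import Mathlib.RingTheory.Smooth.Basic
import Mathlib.RingTheory.Localization.Away.Basic
import Mathlib.FieldTheory.IsAlgClosed.AlgebraicClosure
import Mathlib.Algebra.Polynomial.Derivative
import Mathlib.Algebra.Polynomial.Div

set_option autoImplicit false
universe u
open Curves

namespace Groth.Agent.S19185

open Polynomial

variable {k : Type u} [Field k]

/-- the chart equation `a(t) + b(t) w` -/
noncomputable def chartEq (a b : k[X]) : MvPolynomial (Fin 2) k :=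
  aeval (MvPolynomial.X 0) a + aeval (MvPolynomial.X 0) b * MvPolynomial.X 1

abbrev Chart (a b : k[X]) : Type u := MvPolynomial (Fin 2) k ⧸ Ideal.span {chartEq a b}

lemma smooth_chart (a b : k[X]) (h : IsCoprime a b) : Algebra.Smooth k (Chart a b) := by
  let B := Chart a b
  let π : MvPolynomial (Fin 2) k →ₐ[k] B := Ideal.Quotient.mkₐ k _
  let A := Localization.Away b
  haveI : Algebra.Smooth k (MvPolynomial PUnit.{1} k) := ⟨inferInstance, inferInstance⟩
  haveI : Algebra.Smooth k k[X] :=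
    Algebra.Smooth.of_equiv (MvPolynomial.pUnitAlgEquiv.{u, 0} k)
  haveI : Algebra.Smooth k[X] A := Algebra.Smooth.of_isLocalization_Away b
  haveI : Algebra.Smooth k A := Algebra.Smooth.comp k k[X] A
  let t : k[X] →ₐ[k] B := aeval (π (MvPolynomial.X 0))
  let w : B := π (MvPolynomial.X 1)
  have hrel : t a + t b * w = 0 := by
    have h0 : π (chartEq a b) = 0 := Ideal.Quotient.eq_zero_iff_mem.mpr (Ideal.mem_span_singleton_self _)
    simp only [chartEq, map_add, map_mul, ← Polynomial.aeval_algHom_apply] at h0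
    exact h0
  have hb : IsUnit (t b) := by
    obtain ⟨u, v, huv⟩ := h
    have := congrArg t huv
    rw [map_add, map_mul, map_mul, map_one] at this
    exact IsUnit.of_mul_eq_one (t v - t u * w) (by linear_combination this - t u * hrel)
  let i : k[X] →ₐ[k] A := IsScalarTower.toAlgHom k k[X] A
  let ib : A := IsLocalization.Away.invSelf b
  have hib : i b * ib = 1 := IsLocalization.Away.mul_invSelf b
  have hi0 : ∀ c : k[X], aeval (i X) c = i c := fun c => by
    rw [Polynomial.aeval_algHom_apply, Polynomial.aeval_X_left_apply]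
  let φ₀ : MvPolynomial (Fin 2) k →ₐ[k] A := MvPolynomial.aeval ![i X, -(i a * ib)]
  have hφ₀ : φ₀ (chartEq a b) = 0 := by
    simp only [chartEq, map_add, map_mul, ← Polynomial.aeval_algHom_apply, φ₀, MvPolynomial.aeval_X,
      Matrix.cons_val_zero, Matrix.cons_val_one, hi0]
    linear_combination (-(i a)) * hib
  let φ : B →ₐ[k] A := Ideal.Quotient.liftₐ _ φ₀ (fun z hz => by
    obtain ⟨c, rfl⟩ := Ideal.mem_span_singleton.mp hz
    rw [map_mul, hφ₀, zero_mul])
  let ψ₀ : A →+* B := IsLocalization.Away.lift b (g := t.toRingHom) hb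
  have hψ : ∀ c : k[X], ψ₀ (i c) = t c := fun c => IsLocalization.Away.lift_eq b hb c
  let ψ : A →ₐ[k] B := { ψ₀ with
    commutes' := fun r => by
      show ψ₀ (algebraMap k A r) = _
      rw [show algebraMap k A r = i (algebraMap k k[X] r) from (i.commutes r).symm, hψ, t.commutes] }
  have hψ' : ∀ c : k[X], ψ (i c) = t c := hψ
  have hψib : t b * ψ ib = 1 := by rw [← hψ', ← map_mul, hib, map_one]
  refine Algebra.Smooth.of_equiv (A := A) (AlgEquiv.ofAlgHom ψ φ ?_ ?_)
  · apply Ideal.Quotient.algHom_ext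
    apply MvPolynomial.algHom_ext
    intro j
    show ψ (φ₀ (MvPolynomial.X j)) = π (MvPolynomial.X j)
    fin_cases j
    · simp only [φ₀, MvPolynomial.aeval_X]
      show ψ (i X) = _
      rw [hψ']
      simp [t]
    · simp only [φ₀, MvPolynomial.aeval_X]
      show ψ (-(i a * ib)) = w
      rw [map_neg, map_mul, hψ']
      linear_combination (-(ψ ib)) * hrel + w * hψib
  · have hcomp : ∀ c : k[X], (φ.comp ψ) (i c) = i c := fun c => by
      show φ (ψ (i c)) = i c
      rw [hψ']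
      show φ (aeval (π (MvPolynomial.X 0)) c) = i c
      rw [← Polynomial.aeval_algHom_apply, show φ (π (MvPolynomial.X 0)) = i X by
        show φ₀ (MvPolynomial.X 0) = i X
        simp [φ₀], hi0]
    apply AlgHom.coe_ringHom_injective
    exact IsLocalization.ringHom_ext (Submonoid.powers b) (RingHom.ext hcomp)

lemma isCoprime_of_no_root (a b : k[X]) (hne : a ≠ 0 ∨ b ≠ 0)
    (h : ∀ τ : AlgebraicClosure k, ¬ (aeval τ a = 0 ∧ aeval τ b = 0)) : IsCoprime a b := by
  classical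
  by_contra hc
  have hg : ¬ IsUnit (EuclideanDomain.gcd a b) := fun hu => hc (EuclideanDomain.gcd_isUnit_iff.mp hu)
  have hg0 : EuclideanDomain.gcd a b ≠ 0 := by
    intro h0
    obtain ⟨ha, hb⟩ := EuclideanDomain.gcd_eq_zero_iff.mp h0
    rcases hne with h' | h'
    · exact h' ha
    · exact h' hb
  obtain ⟨τ, hτ⟩ := IsAlgClosed.exists_aeval_eq_zero (AlgebraicClosure k) (EuclideanDomain.gcd a b)
    (fun hd => hg (Polynomial.isUnit_iff_degree_eq_zero.mpr hd))
  refine h τ ⟨?_, ?_⟩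
  · obtain ⟨c, hc⟩ := EuclideanDomain.gcd_dvd_left a b
    rw [hc, map_mul, hτ, zero_mul]
  · obtain ⟨c, hc⟩ := EuclideanDomain.gcd_dvd_right a b
    rw [hc, map_mul, hτ, zero_mul]

lemma not_smooth_core {L : Type u} [Field L] [Algebra k L] (a b : k[X]) (τ : L) (m : ℕ) (hm : 1 ≤ m)
    (a₁ b₁ : L[X]) (ha : a.map (algebraMap k L) = (X - C τ) ^ m * a₁)
    (hb : b.map (algebraMap k L) = (X - C τ) ^ m * b₁) (hb₁ : b₁.eval τ ≠ 0) :
    ¬ Algebra.Smooth k (Chart a b) := by
  intro hs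
  obtain ⟨l, rfl⟩ : ∃ l, m = l + 1 := ⟨m - 1, by omega⟩
  let w₀ : L := -a₁.eval τ / b₁.eval τ
  let δ : L := (1 - (a₁.derivative.eval τ + b₁.derivative.eval τ * w₀)) / b₁.eval τ
  have key : ∀ p p' : L[X], ∃ H : L[X], H.eval 0 = 1 ∧
      aeval (C τ + X + p * X ^ (l + 2)) a +
        aeval (C τ + X + p * X ^ (l + 2)) b * (C w₀ + C δ * X + p' * X ^ (l + 2)) =
      X ^ (l + 2) * H := by
    intro p p'
    set T := C τ + X + p * X ^ (l + 2) with hT
    set W := C w₀ + C δ * X + p' * X ^ (l + 2) with hW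
    have hcomp : ∀ c : k[X], aeval T c = (c.map (algebraMap k L)).comp T := fun c => by
      rw [Polynomial.comp, Polynomial.eval₂_map, Polynomial.aeval_def]
      rfl
    let g := a₁.comp T + b₁.comp T * W
    have hT0 : T.eval 0 = τ := by simp [hT]
    have hW0 : W.eval 0 = w₀ := by simp [hW]
    have hg0 : g.eval 0 = 0 := by
      simp only [g, eval_add, eval_mul, eval_comp, hT0, hW0, w₀]
      field_simp
      ring
    obtain ⟨G, hG⟩ : X ∣ g := Polynomial.X_dvd_iff.mpr (by rw [coeff_zero_eq_eval_zero, hg0])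
    have hG1 : G.eval 0 = 1 := by
      have h1 : g.derivative.eval 0 = 1 := by
        simp only [g, derivative_add, derivative_mul, derivative_comp, eval_add, eval_mul, eval_comp,
          hT0, hW0]
        simp only [hT, hW, derivative_add, derivative_C, derivative_X, derivative_mul, derivative_X_pow,
          eval_add, eval_mul, eval_zero, eval_one, eval_C, eval_pow, eval_X]
        simp [δ]
        field_simp
        ring
      rw [hG] at h1
      simpa [derivative_mul] using h1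
    refine ⟨(1 + p * X ^ (l + 1)) ^ (l + 1) * G, by simp [hG1], ?_⟩
    rw [hcomp, hcomp, ha, hb]
    simp only [mul_comp, pow_comp, sub_comp, X_comp, C_comp]
    rw [mul_assoc, ← mul_add, show a₁.comp T + b₁.comp T * W = g from rfl, hG,
      show T - C τ = X * (1 + p * X ^ (l + 1)) by rw [hT]; ring, mul_pow]
    ring
  let A := L[X] ⧸ Ideal.span {(X : L[X]) ^ (l + 3)}
  let ρ : L[X] →ₐ[k] A := Ideal.Quotient.mkₐ k _
  have hρs : Function.Surjective ρ := Ideal.Quotient.mk_surjective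
  let J : Ideal A := Ideal.span {ρ (X ^ (l + 2))}
  have hJ : IsNilpotent J := ⟨2, by
    rw [Ideal.span_singleton_pow, ← map_pow, Ideal.zero_eq_bot, Ideal.span_singleton_eq_bot]
    refine Ideal.Quotient.eq_zero_iff_mem.mpr (Ideal.mem_span_singleton.mpr ?_)
    rw [← pow_mul]
    exact pow_dvd_pow X (by omega)⟩
  let σ : L[X] →ₐ[k] A ⧸ J := (Ideal.Quotient.mkₐ k J).comp ρ
  let g₀ : MvPolynomial (Fin 2) k →ₐ[k] A ⧸ J :=
    σ.comp (MvPolynomial.aeval ![C τ + X + 0 * X ^ (l + 2), C w₀ + C δ * X + 0 * X ^ (l + 2)])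
  have hg₀ : g₀ (chartEq a b) = 0 := by
    obtain ⟨H, -, hH⟩ := key 0 0
    simp only [g₀, AlgHom.comp_apply, chartEq, map_add, map_mul, ← Polynomial.aeval_algHom_apply,
      MvPolynomial.aeval_X, Matrix.cons_val_zero, Matrix.cons_val_one]
    have : σ (X ^ (l + 2) * H) = 0 :=
      Ideal.Quotient.eq_zero_iff_mem.mpr (by
        rw [map_mul]; exact Ideal.mul_mem_right _ _ (Ideal.mem_span_singleton_self _))
    rw [← hH] at this
    simpa only [map_add, map_mul, ← Polynomial.aeval_algHom_apply] using this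
  let g : Chart a b →ₐ[k] A ⧸ J := Ideal.Quotient.liftₐ _ g₀ (fun z hz => by
    obtain ⟨c, rfl⟩ := Ideal.mem_span_singleton.mp hz
    exact RingHom.mem_ker.mp (Ideal.mul_mem_right c (RingHom.ker g₀) (RingHom.mem_ker.mpr hg₀)))
  haveI := hs.formallySmooth
  obtain ⟨f, hf⟩ := Algebra.FormallySmooth.exists_lift J hJ g
  have hlift : ∀ j : Fin 2, ∃ p : L[X],
      f (Ideal.Quotient.mkₐ k _ (MvPolynomial.X j)) =
        ρ (![C τ + X + p * X ^ (l + 2), C w₀ + C δ * X + p * X ^ (l + 2)] j) := by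
    intro j
    have h1 : (Ideal.Quotient.mk J) (f (Ideal.Quotient.mkₐ k _ (MvPolynomial.X j))) =
        g₀ (MvPolynomial.X j) := AlgHom.congr_fun hf _
    simp only [g₀, σ, AlgHom.comp_apply, MvPolynomial.aeval_X, Ideal.Quotient.mkₐ_eq_mk] at h1
    obtain ⟨c, hc⟩ := Ideal.mem_span_singleton.mp (Ideal.Quotient.eq.mp h1)
    obtain ⟨p, rfl⟩ := hρs c
    refine ⟨p, ?_⟩
    rw [sub_eq_iff_eq_add] at hc
    simp only [Ideal.Quotient.mkₐ_eq_mk]
    rw [hc]
    fin_cases j <;> (simp only [Fin.zero_eta, Fin.mk_one, Fin.isValue, Matrix.cons_val_zero,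
      Matrix.cons_val_one, zero_mul, add_zero, map_add, map_mul]; ring)
  obtain ⟨p, hp⟩ := hlift 0
  obtain ⟨p', hp'⟩ := hlift 1
  obtain ⟨H, hH1, hH⟩ := key p p'
  let Fc : MvPolynomial (Fin 2) k →ₐ[k] A := f.comp (Ideal.Quotient.mkₐ k _)
  have h0 : Fc (aeval (MvPolynomial.X (0 : Fin 2)) a +
      aeval (MvPolynomial.X (0 : Fin 2)) b * MvPolynomial.X 1) = 0 := by
    show f (Ideal.Quotient.mkₐ k _ (chartEq a b)) = 0
    rw [show Ideal.Quotient.mkₐ k (Ideal.span {chartEq a b}) (chartEq a b) = 0 from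
      Ideal.Quotient.eq_zero_iff_mem.mpr (Ideal.mem_span_singleton_self _), map_zero]
  have e0 : Fc (MvPolynomial.X 0) = ρ (C τ + X + p * X ^ (l + 2)) := hp
  have e1 : Fc (MvPolynomial.X 1) = ρ (C w₀ + C δ * X + p' * X ^ (l + 2)) := hp'
  rw [map_add, map_mul, ← Polynomial.aeval_algHom_apply, ← Polynomial.aeval_algHom_apply, e0, e1,
    Polynomial.aeval_algHom_apply, Polynomial.aeval_algHom_apply, ← map_mul, ← map_add] at h0
  rw [hH] at h0
  have := Ideal.mem_span_singleton.mp (Ideal.Quotient.eq_zero_iff_mem.mp h0)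
  rw [pow_succ X (l + 2)] at this
  obtain ⟨c, hc⟩ := (mul_dvd_mul_iff_left (pow_ne_zero (l + 2) X_ne_zero)).mp this
  rw [hc] at hH1
  simp at hH1

lemma not_smooth_pair (a b : k[X]) (hne : a ≠ 0 ∨ b ≠ 0) (τ : AlgebraicClosure k)
    (ha : aeval τ a = 0) (hb : aeval τ b = 0) :
    ¬ (Algebra.Smooth k (Chart a b) ∧ Algebra.Smooth k (Chart b a)) := by
  classical
  rintro ⟨hs, hs'⟩
  let L := AlgebraicClosure k
  set A := a.map (algebraMap k L) with hA
  set B := b.map (algebraMap k L) with hB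
  have hAB : A ≠ 0 ∨ B ≠ 0 := hne.imp (Polynomial.map_ne_zero) (Polynomial.map_ne_zero)
  let d := EuclideanDomain.gcd A B
  have hd0 : d ≠ 0 := by
    intro h0
    obtain ⟨h1, h2⟩ := EuclideanDomain.gcd_eq_zero_iff.mp h0
    rcases hAB with h' | h'
    · exact h' h1
    · exact h' h2
  have hdτ : d.IsRoot τ := by
    rw [← Polynomial.dvd_iff_isRoot]
    refine EuclideanDomain.dvd_gcd ?_ ?_ <;>
      rw [Polynomial.dvd_iff_isRoot, Polynomial.IsRoot, Polynomial.eval_map, ← Polynomial.aeval_def]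
    · exact ha
    · exact hb
  obtain ⟨a', ha'⟩ : d ∣ A := EuclideanDomain.gcd_dvd_left A B
  obtain ⟨b', hb'⟩ : d ∣ B := EuclideanDomain.gcd_dvd_right A B
  obtain ⟨G, hG, hGτ⟩ := Polynomial.exists_eq_pow_rootMultiplicity_mul_and_not_dvd d hd0 τ
  have hm : 1 ≤ d.rootMultiplicity τ := (Polynomial.rootMultiplicity_pos hd0).mpr hdτ
  have hGτ' : G.eval τ ≠ 0 := fun h => hGτ (Polynomial.dvd_iff_isRoot.mpr h)
  have hcop : a'.eval τ ≠ 0 ∨ b'.eval τ ≠ 0 := by
    by_contra hh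
    push Not at hh
    have hbez : d = A * EuclideanDomain.gcdA A B + B * EuclideanDomain.gcdB A B :=
      EuclideanDomain.gcd_eq_gcd_ab A B
    have h1 : d * 1 = d * (a' * EuclideanDomain.gcdA A B + b' * EuclideanDomain.gcdB A B) := by
      rw [mul_one]
      conv_lhs => rw [hbez]
      conv_rhs => rw [mul_add, ← mul_assoc, ← mul_assoc, ← ha', ← hb']
    have h2 := congrArg (Polynomial.eval τ) (mul_left_cancel₀ hd0 h1)
    simp [hh.1, hh.2] at h2
  have fA : A = (X - C τ) ^ d.rootMultiplicity τ * (G * a') := by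
    rw [← mul_assoc, ← hG]; exact ha'
  have fB : B = (X - C τ) ^ d.rootMultiplicity τ * (G * b') := by
    rw [← mul_assoc, ← hG]; exact hb'
  rcases hcop with h | h
  · exact not_smooth_core b a τ _ hm _ _ fB fA (by rw [eval_mul]; exact mul_ne_zero hGτ' h) hs'
  · exact not_smooth_core a b τ _ hm _ _ fA fB (by rw [eval_mul]; exact mul_ne_zero hGτ' h) hs

lemma resultant_ne_zero_iff' (q ξ : k[X]) (m n : ℕ) (hq : q.natDegree ≤ m) (hξ : ξ.natDegree ≤ n)
    (hne : q ≠ 0 ∨ ξ ≠ 0) :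
    q.resultant ξ m n ≠ 0 ↔ (q.coeff m ≠ 0 ∨ ξ.coeff n ≠ 0 ∨ (m = 0 ∧ n = 0)) ∧ IsCoprime q ξ := by
  have hcop : IsCoprime q ξ ↔ q.resultant ξ ≠ 0 := by
    constructor
    · exact fun h => Polynomial.resultant_ne_zero _ _ h
    · intro h; by_contra hc; exact h (Polynomial.resultant_eq_zero_iff.mpr ⟨hne, hc⟩)
  rcases eq_or_lt_of_le hq with hqm | hqm
  · obtain ⟨j, rfl⟩ := Nat.le.dest hξ
    rw [Polynomial.resultant_add_right_deg _ _ _ _ _ le_rfl]
    subst hqm
    rw [hcop, Polynomial.coeff_natDegree]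
    by_cases hq0 : q = 0
    · subst hq0
      rcases Nat.eq_zero_or_pos j with rfl | hj
      · simp only [pow_zero, one_mul, add_zero, Polynomial.coeff_natDegree, Polynomial.natDegree_zero]
        exact ⟨fun h => ⟨Or.inr (Or.inl (Polynomial.leadingCoeff_ne_zero.mpr
          (hne.resolve_left (by simp)))), h⟩, fun h => h.2⟩
      · simp [zero_pow hj.ne', Polynomial.coeff_eq_zero_of_natDegree_lt
          (show ξ.natDegree < ξ.natDegree + j by omega)]
        omega
    · simp [Polynomial.leadingCoeff_ne_zero.mpr hq0, hq0]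
  · rcases eq_or_lt_of_le hξ with hξn | hξn
    · obtain ⟨j, rfl⟩ := Nat.le.dest hq
      rw [Polynomial.resultant_add_left_deg _ _ _ _ _ le_rfl]
      subst hξn
      rw [hcop, Polynomial.coeff_natDegree, Polynomial.coeff_eq_zero_of_natDegree_lt hqm]
      by_cases hξ0 : ξ = 0
      · subst hξ0; simp [zero_pow (show j ≠ 0 by omega)]
        omega
      · simp [Polynomial.leadingCoeff_ne_zero.mpr hξ0, hξ0]
    · rw [Polynomial.resultant_eq_zero_of_lt_lt _ _ _ _ hqm hξn,
        Polynomial.coeff_eq_zero_of_natDegree_lt hqm, Polynomial.coeff_eq_zero_of_natDegree_lt hξn]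
      simp
      omega

lemma sum_natDegree_le (n : ℕ) (c : Fin (n + 1) → k) :
    (∑ j : Fin (n + 1), C (c j) * X ^ (j : ℕ)).natDegree ≤ n :=
  natDegree_sum_le_of_forall_le _ _ fun j _ =>
    (natDegree_C_mul_X_pow_le _ _).trans (Nat.lt_succ_iff.mp j.isLt)

lemma sum_coeff (n : ℕ) (c : Fin (n + 1) → k) (i : Fin (n + 1)) :
    (∑ j : Fin (n + 1), C (c j) * X ^ (j : ℕ)).coeff i = c i := by
  rw [finset_sum_coeff, Finset.sum_eq_single i (fun j _ hj => by
    rw [coeff_C_mul_X_pow, if_neg (fun e => hj (Fin.ext e.symm))]) (by simp), coeff_C_mul_X_pow,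
    if_pos rfl]

lemma rev_coeff (n : ℕ) (c : Fin (n + 1) → k) (i : Fin (n + 1)) :
    (∑ j : Fin (n + 1), C (c j) * X ^ (n - (j : ℕ))).coeff (n - i) = c i := by
  rw [finset_sum_coeff, Finset.sum_eq_single i (fun j _ hj => by
    rw [coeff_C_mul_X_pow, if_neg (fun e => hj (Fin.ext (by have := j.isLt; have := i.isLt; omega)))])
    (by simp), coeff_C_mul_X_pow, if_pos rfl]

lemma rev_root {L : Type u} [Field L] [Algebra k L] (n : ℕ) (c : Fin (n + 1) → k) (τ : L) (hτ : τ ≠ 0)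
    (h : aeval τ (∑ j : Fin (n + 1), C (c j) * X ^ (n - (j : ℕ))) = 0) :
    aeval τ⁻¹ (∑ j : Fin (n + 1), C (c j) * X ^ (j : ℕ)) = 0 := by
  have e : aeval τ⁻¹ (∑ j : Fin (n + 1), C (c j) * X ^ (j : ℕ)) =
      (τ⁻¹) ^ n * aeval τ (∑ j : Fin (n + 1), C (c j) * X ^ (n - (j : ℕ))) := by
    simp only [map_sum, map_mul, map_pow, aeval_C, aeval_X, Finset.mul_sum]
    refine Finset.sum_congr rfl fun j _ => ?_
    conv_rhs => rw [show (τ⁻¹) ^ n = τ⁻¹ ^ (j : ℕ) * τ⁻¹ ^ (n - (j : ℕ)) by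
      rw [← pow_add, Nat.add_sub_cancel' (Nat.lt_succ_iff.mp j.isLt)]]
    rw [inv_pow τ (n - (j : ℕ))]
    field_simp
  rw [e, h, mul_zero]

/-- Let k be a field, n ≥ 3, q a binary quadratic form and ξ a binary form of degree n over k, given by
coefficient vectors (q_i the coefficient of x^i y^(2−i), ξ_j that of x^j y^(n−j)), not both zero.
The pair (q, ξ) is a global section of O(2) ⊕ O(n) on P¹_k, i.e. of the line bundle of class e + nf
on the Hirzebruch surface F_{n−2} = P(O ⊕ O(n−2)) → P¹_k, and cuts out the curve W : q·u + ξ·v = 0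
there ([u : v] the fibre coordinates). Over the two standard opens of P¹ (t = x/y, s = y/x) and the
two opens u ≠ 0, v ≠ 0 of the fibres, W is covered by four affine charts with coordinate rings k[t,
w]/(q(t,1) + ξ(t,1)·w), k[t, w]/(q(t,1)·w + ξ(t,1)), k[s, w]/(q(1,s) + ξ(1,s)·w) and k[s,
w]/(q(1,s)·w + ξ(1,s)) (variables indexed 0 for t or s and 1 for w). Then W is smooth over k — all
four chart algebras are smooth k-algebras — if and only if the resultant of q and ξ (the Sylvester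
determinant of the two coefficient vectors with size parameters 2 and n) is nonzero. (The published
statement is over a general base scheme B, for a section (q, ξ) vanishing on no fibre, with 'the
resultant is a unit on B' in place of 'nonzero'; its proof reduces at once to the statement over a
field given here, which is the case B = Spec k.) -/
theorem result (k : Type u) [Field k] (n : ℕ) (hn : 3 ≤ n)
    (q : Fin 3 → k) (ξ : Fin (n + 1) → k) (hqξ : q ≠ 0 ∨ ξ ≠ 0) :
    (Algebra.Smooth k (MvPolynomial (Fin 2) k ⧸ Ideal.span ({(∑ i : Fin 3, MvPolynomial.C (q i) * MvPolynomial.X 0 ^ (i : ℕ)) + (∑ j : Fin (n + 1), MvPolynomial.C (ξ j) * MvPolynomial.X 0 ^ (j : ℕ)) * MvPolynomial.X 1} : Set (MvPolynomial (Fin 2) k))) ∧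
      Algebra.Smooth k (MvPolynomial (Fin 2) k ⧸ Ideal.span ({(∑ i : Fin 3, MvPolynomial.C (q i) * MvPolynomial.X 0 ^ (i : ℕ)) * MvPolynomial.X 1 + (∑ j : Fin (n + 1), MvPolynomial.C (ξ j) * MvPolynomial.X 0 ^ (j : ℕ))} : Set (MvPolynomial (Fin 2) k))) ∧
      Algebra.Smooth k (MvPolynomial (Fin 2) k ⧸ Ideal.span ({(∑ i : Fin 3, MvPolynomial.C (q i) * MvPolynomial.X 0 ^ (2 - (i : ℕ))) + (∑ j : Fin (n + 1), MvPolynomial.C (ξ j) * MvPolynomial.X 0 ^ (n - (j : ℕ))) * MvPolynomial.X 1} : Set (MvPolynomial (Fin 2) k))) ∧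
      Algebra.Smooth k (MvPolynomial (Fin 2) k ⧸ Ideal.span ({(∑ i : Fin 3, MvPolynomial.C (q i) * MvPolynomial.X 0 ^ (2 - (i : ℕ))) * MvPolynomial.X 1 + (∑ j : Fin (n + 1), MvPolynomial.C (ξ j) * MvPolynomial.X 0 ^ (n - (j : ℕ)))} : Set (MvPolynomial (Fin 2) k)))) ↔
    Polynomial.resultant (∑ i : Fin 3, Polynomial.C (q i) * Polynomial.X ^ (i : ℕ))
      (∑ j : Fin (n + 1), Polynomial.C (ξ j) * Polynomial.X ^ (j : ℕ)) 2 n ≠ 0 := by
  classical
  let Q : k[X] := ∑ i : Fin 3, Polynomial.C (q i) * Polynomial.X ^ (i : ℕ)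
  let Ξ : k[X] := ∑ j : Fin (n + 1), Polynomial.C (ξ j) * Polynomial.X ^ (j : ℕ)
  let Q' : k[X] := ∑ i : Fin 3, Polynomial.C (q i) * Polynomial.X ^ (2 - (i : ℕ))
  let Ξ' : k[X] := ∑ j : Fin (n + 1), Polynomial.C (ξ j) * Polynomial.X ^ (n - (j : ℕ))
  have e : ∀ (l : ℕ) (c : Fin l → k) (f : Fin l → ℕ),
      (∑ i, MvPolynomial.C (c i) * MvPolynomial.X (0 : Fin 2) ^ f i) =
        Polynomial.aeval (MvPolynomial.X (0 : Fin 2) : MvPolynomial (Fin 2) k)
          (∑ i, Polynomial.C (c i) * Polynomial.X ^ f i) := by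
    intro l c f
    simp
  rw [e 3 q (fun i => (i : ℕ)), e (n + 1) ξ (fun j => (j : ℕ)), e 3 q (fun i => 2 - (i : ℕ)),
    e (n + 1) ξ (fun j => n - (j : ℕ)), add_comm _ (Polynomial.aeval _ Ξ),
    add_comm _ (Polynomial.aeval _ Ξ')]
  show (Algebra.Smooth k (Chart Q Ξ) ∧ Algebra.Smooth k (Chart Ξ Q) ∧
    Algebra.Smooth k (Chart Q' Ξ') ∧ Algebra.Smooth k (Chart Ξ' Q')) ↔ _
  have hnz : (Q ≠ 0 ∨ Ξ ≠ 0) ∧ (Q' ≠ 0 ∨ Ξ' ≠ 0) := by
    rcases hqξ with h | h
    · obtain ⟨i, hi⟩ := Function.ne_iff.mp h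
      exact ⟨Or.inl fun e0 => hi (by rw [← sum_coeff 2 q i]; exact (congrArg (·.coeff (i : ℕ)) e0).trans (coeff_zero _)),
        Or.inl fun e0 => hi (by rw [← rev_coeff 2 q i]; exact (congrArg (·.coeff (2 - (i : ℕ))) e0).trans (coeff_zero _))⟩
    · obtain ⟨i, hi⟩ := Function.ne_iff.mp h
      exact ⟨Or.inr fun e0 => hi (by rw [← sum_coeff n ξ i]; exact (congrArg (·.coeff (i : ℕ)) e0).trans (coeff_zero _)),
        Or.inr fun e0 => hi (by rw [← rev_coeff n ξ i]; exact (congrArg (·.coeff (n - (i : ℕ))) e0).trans (coeff_zero _))⟩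
  rw [resultant_ne_zero_iff' Q Ξ 2 n (sum_natDegree_le 2 q) (sum_natDegree_le n ξ) hnz.1]
  have hQ2 : Q.coeff 2 = q (Fin.last 2) := sum_coeff 2 q (Fin.last 2)
  have hΞn : Ξ.coeff n = ξ (Fin.last n) := sum_coeff n ξ (Fin.last n)
  have hQ'0 : Q'.coeff 0 = q (Fin.last 2) := rev_coeff 2 q (Fin.last 2)
  have hΞ'0 : Ξ'.coeff 0 = ξ (Fin.last n) := by
    have h := rev_coeff n ξ (Fin.last n)
    rwa [Fin.val_last, Nat.sub_self] at h
  constructor
  · rintro ⟨h1, h2, h3, h4⟩
    refine ⟨?_, isCoprime_of_no_root _ _ hnz.1 fun τ hτ =>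
      not_smooth_pair _ _ hnz.1 τ hτ.1 hτ.2 ⟨h1, h2⟩⟩
    by_contra hh
    push Not at hh
    refine not_smooth_pair Q' Ξ' hnz.2 0 ?_ ?_ ⟨h3, h4⟩
    · rw [Polynomial.aeval_def, Polynomial.eval₂_at_zero, hQ'0, ← hQ2, hh.1, map_zero]
    · rw [Polynomial.aeval_def, Polynomial.eval₂_at_zero, hΞ'0, ← hΞn, hh.2.1, map_zero]
  · rintro ⟨htop, hc⟩
    have hc' : IsCoprime Q' Ξ' := by
      refine isCoprime_of_no_root _ _ hnz.2 ?_
      rintro τ ⟨hτ1, hτ2⟩
      by_cases hτ : τ = 0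
      · subst hτ
        rw [Polynomial.aeval_def, Polynomial.eval₂_at_zero, map_eq_zero] at hτ1 hτ2
        rcases htop with h | h | h
        · exact h (by rw [hQ2, ← hQ'0, hτ1])
        · exact h (by rw [hΞn, ← hΞ'0, hτ2])
        · omega
      · obtain ⟨x, y, hxy⟩ := hc
        have := congrArg (Polynomial.aeval τ⁻¹) hxy
        rw [map_add, map_mul, map_mul, map_one, rev_root 2 q τ hτ hτ1, rev_root n ξ τ hτ hτ2] at this
        simp at this
    exact ⟨smooth_chart _ _ hc, smooth_chart _ _ hc.symm, smooth_chart _ _ hc',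
      smooth_chart _ _ hc'.symm⟩

end Groth.Agent.S19185
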