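import Groth.Statements.S19186
import Mathlib.RingTheory.Coprime.Lemmas
import Mathlib.Algebra.Module.Basic
import Mathlib.Tactic.Abel
import Mathlib.Tactic.Module

set_option autoImplicit false
universe u
open OneMot

namespace Groth.Agent.S19186

/-- Let p and ℓ be distinct prime numbers, r and n natural numbers, and f : A → B a homomorphism of
abelian groups whose kernel and cokernel are annihilated by p^r (f a = 0 implies p^r • a = 0, and
every p^r • b lies in the image of f). Then f induces a bijection between the ℓ^n-torsion subgroups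
of A and B and a bijection A/ℓ^n A → B/ℓ^n B. Spelled out without quotients: every ℓ^n-torsion
element of B has exactly one ℓ^n-torsion preimage; an element of A whose image is an ℓ^n-multiple is
itself an ℓ^n-multiple; and every element of B is the sum of an image and an ℓ^n-multiple. -/
theorem result {A B : Type u} [AddCommGroup A] [AddCommGroup B] (f : A →+ B) (p ℓ r n : ℕ) (hp : p.Prime) (hl : ℓ.Prime) (hne : ℓ ≠ p) (hker : ∀ a : A, f a = 0 → p ^ r • a = 0) (hcoker : ∀ b : B, ∃ a : A, f a = p ^ r • b) : (∀ b : B, ℓ ^ n • b = 0 → ∃! a : A, ℓ ^ n • a = 0 ∧ f a = b) ∧ (∀ a : A, (∃ b' : B, f a = ℓ ^ n • b') → ∃ a' : A, a = ℓ ^ n • a') ∧ (∀ b : B, ∃ (a : A) (b' : B), b = f a + ℓ ^ n • b') := by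
  have hco : Nat.Coprime (p ^ r) (ℓ ^ n) := Nat.Coprime.pow _ _ ((Nat.coprime_primes hp hl).2 (Ne.symm hne))
  obtain ⟨u, v, huv⟩ : IsCoprime ((p ^ r : ℕ) : ℤ) ((ℓ ^ n : ℕ) : ℤ) := Nat.isCoprime_iff_coprime.2 hco
  set P : ℤ := ((p ^ r : ℕ) : ℤ) with hP
  set L : ℤ := ((ℓ ^ n : ℕ) : ℤ) with hL
  have cP : ∀ {C : Type u} [AddCommGroup C] (c : C), p ^ r • c = P • c := fun c => (natCast_zsmul c _).symm
  have cL : ∀ {C : Type u} [AddCommGroup C] (c : C), ℓ ^ n • c = L • c := fun c => (natCast_zsmul c _).symm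
  have split : ∀ {C : Type _} [AddCommGroup C] (c : C), c = u • P • c + v • L • c := fun c => by
    rw [smul_smul, smul_smul, ← add_smul, huv, one_smul]
  simp only [cP, cL] at *
  refine ⟨fun b hb => ?_, fun a ⟨b', hb'⟩ => ?_, fun b => ?_⟩
  · obtain ⟨a, ha⟩ := hcoker b
    refine ⟨u • a - v • L • (u • a), ⟨?_, ?_⟩, ?_⟩
    · have h1 : P • (L • a) = 0 := hker _ (by rw [map_zsmul, ha, smul_comm, hb, smul_zero])
      have h2 := split (L • a)
      rw [h1, smul_zero, zero_add] at h2
      calc L • (u • a - v • L • (u • a)) = u • (L • a - v • L • (L • a)) := by module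
      _ = 0 := by rw [← h2, sub_self, smul_zero]
    · have h2 := split b
      rw [hb, smul_zero, add_zero] at h2
      rw [map_sub, map_zsmul, map_zsmul, map_zsmul, map_zsmul, ha, ← h2, hb, smul_zero, sub_zero]
    · rintro a' ⟨ha'1, ha'2⟩
      have hk : f (a' - u • a) = 0 := by
        have h2 := split b
        rw [hb, smul_zero, add_zero] at h2
        rw [map_sub, map_zsmul, ha, ha'2, ← h2, sub_self]
      have h2 := split (a' - u • a)
      rw [hker _ hk, smul_zero, zero_add, smul_sub L, ha'1, zero_sub, smul_neg] at h2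
      rw [sub_eq_iff_eq_add] at h2
      rw [h2]; abel
  · obtain ⟨a1, ha1⟩ := hcoker b'
    have h1 : P • (P • a - L • a1) = 0 := hker _ (by rw [map_sub, map_zsmul, map_zsmul, ha1, hb', smul_comm, sub_self])
    refine ⟨u • (u • (P • a1)) + (u * v) • (P • a) + v • a, ?_⟩
    have h2 := split a
    have h3 : u • u • P • P • a = u • u • P • L • a1 := by
      rw [← sub_eq_zero, ← smul_sub, ← smul_sub, ← smul_sub, h1, smul_zero, smul_zero]
    calc a = u • P • (u • P • a + v • L • a) + v • L • a := by rw [← split a]; exact split a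
    _ = u • u • P • P • a + (u • P • v • L • a + v • L • a) := by module
    _ = _ := by rw [h3]; module
  · obtain ⟨a, ha⟩ := hcoker b
    exact ⟨u • a, v • b, by rw [map_zsmul, ha, smul_comm L]; exact split b⟩

end Groth.Agent.S19186
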