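import Groth.Statements.S19187
import Mathlib.AlgebraicGeometry.Morphisms.Proper
import Mathlib.AlgebraicGeometry.Morphisms.Etale
import Mathlib.AlgebraicGeometry.Morphisms.Separated
import Mathlib.AlgebraicGeometry.Morphisms.FormallyUnramified
import Mathlib.AlgebraicGeometry.ResidueField
import Mathlib.AlgebraicGeometry.Pullbacks
import Mathlib.AlgebraicTopology.CechNerve
import Mathlib.AlgebraicTopology.SimplicialObject.Coskeletal
import Mathlib.CategoryTheory.Limits.Constructions.Over.Basic
import Mathlib.CategoryTheory.Limits.Filtered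
import Mathlib.CategoryTheory.Limits.Preserves.Filtered
import Mathlib.CategoryTheory.Limits.Shapes.Pullback.Mono
import Mathlib.CategoryTheory.Limits.Types.Pullbacks
import Mathlib.CategoryTheory.Functor.ReflectsIso.Basic
import Mathlib.Tactic

set_option autoImplicit false
universe u
open Cpct

open CategoryTheory CategoryTheory.Limits AlgebraicGeometry

namespace Groth.Agent.S19187

open CategoryTheory AlgebraicGeometry in
/-- Let k be a field, X̄ and Ȳ schemes proper over Spec k, j : X → X̄ an open immersion with dense image
and v : Y → Ȳ an open immersion (compactifications of X and Y), f : X → Y a proper morphism and f̄ :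
X̄ → Ȳ a morphism over Spec k with f̄ ∘ j = v ∘ f. Then the preimage under f̄ of the open v(Y) is
the open j(X); equivalently, the complement of X in X̄ is the preimage of the complement of Y in Ȳ.
(The base field k is arbitrary: no perfectness assumption is needed.) -/
theorem result {k : Type u} [Field k] {X Y Xb Yb : Scheme.{u}} (a : Xb ⟶ Spec (CommRingCat.of k)) (b : Yb ⟶ Spec (CommRingCat.of k)) [IsProper a] [IsProper b] (j : X ⟶ Xb) [IsOpenImmersion j] (hj : Dense (Set.range j.base)) (v : Y ⟶ Yb) [IsOpenImmersion v] (f : X ⟶ Y) [IsProper f] (fb : Xb ⟶ Yb) (hfb : fb ≫ b = a) (hsq : j ≫ fb = f ≫ v) : fb ⁻¹ᵁ v.opensRange = j.opensRange := by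
  haveI : IsSeparated (fb ≫ b) := by rw [hfb]; infer_instance
  haveI : IsSeparated fb := IsSeparated.of_comp fb b
  let P := pullback fb v
  let j' : X ⟶ P := pullback.lift j f hsq
  haveI : IsProper (j' ≫ pullback.snd fb v) := by rw [pullback.lift_snd]; infer_instance
  haveI : IsSeparated (pullback.snd fb v) := inferInstance
  haveI : IsProper j' := IsProper.of_comp j' (pullback.snd fb v)
  have hrange : Set.range (pullback.fst fb v).base = fb.base ⁻¹' Set.range v.base :=
    IsOpenImmersion.range_pullbackFst v fb
  have hcomp : ∀ x, (pullback.fst fb v).base (j'.base x) = j.base x := fun x => by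
    rw [← Scheme.Hom.comp_apply, pullback.lift_fst]
  have hclosed : IsClosed (Set.range j'.base) := j'.isClosedMap.isClosed_range
  apply TopologicalSpace.Opens.ext
  show fb.base ⁻¹' Set.range v.base = Set.range j.base
  refine Set.Subset.antisymm ?_ ?_
  · rw [← hrange]
    rintro _ ⟨z, rfl⟩
    have he : Topology.IsOpenEmbedding (pullback.fst fb v).base := (pullback.fst fb v).isOpenEmbedding
    have hd : Dense ((pullback.fst fb v).base ⁻¹' Set.range j.base) := hj.preimage he.isOpenMap
    have hsub : (pullback.fst fb v).base ⁻¹' Set.range j.base ⊆ Set.range j'.base := by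
      rintro w ⟨x, hx⟩
      exact ⟨x, he.injective ((hcomp x).trans hx)⟩
    have : z ∈ Set.range j'.base := hclosed.closure_subset_iff.2 hsub (hd z)
    obtain ⟨x, rfl⟩ := this
    exact ⟨x, (hcomp x).symm⟩
  · rintro _ ⟨x, rfl⟩
    refine ⟨f.base x, ?_⟩
    rw [← Scheme.Hom.comp_apply, ← Scheme.Hom.comp_apply, hsq]

end Groth.Agent.S19187
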