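import Groth.Statements.S19188
import Groth.Agent.Lib.ResTorus23.Torus
import Groth.Agent.Lib.CohFound.ProperFinite
import Groth.Agent.Lib.CurveCoh17.Skyscraper
import Groth.Agent.Lib.GlobFun18.Sch
import Groth.Agent.Lib.AbRigid.SmoothGI
import Groth.Agent.Lib.MTRigid29.MonoClosedGlobal
import Groth.Agent.Lib.MTRigid29.NormalCentral
import Groth.Agent.Lib.MTRigid29.MapChS

set_option autoImplicit false
set_option linter.style.haveILetI false
set_option backward.isDefEq.respectTransparency.types false
universe u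
open CGrpSh3

namespace Groth.Agent.S19188

section
open CategoryTheory CategoryTheory.Limits AlgebraicGeometry Opposite

theorem finite_toGlobal {A : Type u} [CommRing A] [IsNoetherianRing A] {X : Scheme.{u}}
    (f : X ⟶ Spec (CommRingCat.of A)) [IsProper f] : RingHom.Finite (A := A) (B := Γ(X, ⊤)) (Coh.toGlobal f) := by
  letI : X.Over (Spec (CommRingCat.of A)) := ⟨f⟩
  haveI : IsProper (X ↘ Spec (CommRingCat.of A)) := inferInstanceAs (IsProper f)
  haveI : Module.Finite A (Coh.HH X (Coh.structureModule X) 0) :=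
    CohFound.finite_HH_of_isProper _ (M1.isCoh_structureModule X) 0
  letI : Algebra A Γ(X, ⊤) := RingHom.toAlgebra (R := A) (S := Γ(X, ⊤)) (Coh.toGlobal f)
  let e : Coh.HH X (Coh.structureModule X) 0 →ₗ[A] Γ(X, ⊤) :=
    { toFun := fun z => CurveCoh17.hh0 (Coh.structureModule X) z
      map_add' := fun z w => map_add (CurveCoh17.hh0 (Coh.structureModule X)) z w
      map_smul' := fun a z => CurveCoh17.hh0_smul (Coh.toGlobal f a) z }
  exact Module.Finite.of_surjective e fun s =>
    ⟨(CurveCoh17.hh0 (Coh.structureModule X)).symm s, AddEquiv.apply_symm_apply _ _⟩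

theorem locallyOfFiniteType_Gm (S : Scheme.{u}) : LocallyOfFiniteType (Red.Gm S).hom := by
  haveI : LocallyOfFinitePresentation (Red.diag (ULift.{u} ℤ) ℤ).hom :=
    (HasRingHomProperty.Spec_iff (P := @LocallyOfFinitePresentation)).2
      (RingHom.finitePresentation_algebraMap.2 (MTRigid29.isFP_monoidAlgebra _ ℤ))
  haveI : LocallyOfFinitePresentation (Red.Gm S).hom := MorphismProperty.pullback_snd _ _ inferInstance
  infer_instance

theorem bijective_bcMap {k : Type u} [Field k] {X : Scheme.{u}} (f : X ⟶ Spec (CommRingCat.of k))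
    [QuasiCompact f] [QuasiSeparated f] (g : Spec Γ(X, ⊤) ⟶ Spec (CommRingCat.of k))
    (hπ : X.toSpecΓ ≫ g = f) (T : Over (Spec (CommRingCat.of k))) [IsAffine T.left] :
    Function.Bijective (ResTorus23.bcMap X.toSpecΓ hπ T).appTop := by
  haveI : IsAffineHom T.hom := isAffineHom_of_isAffine _
  haveI : IsAffineHom g := isAffineHom_of_isAffine _
  have sqg := Rigid19.isPushout_appTop (IsPullback.of_hasPullback T.hom g)
  have sqf := Rigid19.isPushout_appTop (IsPullback.of_hasPullback T.hom f)
  haveI : IsIso X.toSpecΓ.appTop := by rw [Scheme.toSpecΓ_appTop]; infer_instance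
  let π' := asIso X.toSpecΓ.appTop
  have sqg' : IsPushout ((Scheme.ΓSpecIso (CommRingCat.of k)).inv ≫ T.hom.appTop)
      ((Scheme.ΓSpecIso (CommRingCat.of k)).inv ≫ f.appTop) (pullback.fst T.hom g).appTop
      (π'.inv ≫ (pullback.snd T.hom g).appTop) := by
    refine sqg.of_iso (Iso.refl _) (Iso.refl _) π' (Iso.refl _) ?_ ?_ ?_ ?_
    · simp
    · simp only [Iso.refl_hom, Category.id_comp, Category.assoc, π', asIso_hom]
      rw [← Scheme.Hom.comp_appTop, hπ]
    · simp
    · simp [π']
  have key : (ResTorus23.bcMap X.toSpecΓ hπ T).appTop = (sqg'.isoIsPushout _ _ sqf).hom := by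
    have h1 : (pullback.fst T.hom g).appTop ≫ (ResTorus23.bcMap X.toSpecΓ hπ T).appTop =
        (pullback.fst T.hom f).appTop := by
      rw [← Scheme.Hom.comp_appTop]
      exact congrArg Scheme.Hom.appTop (pullback.lift_fst _ _ _)
    have h2 : (pullback.snd T.hom g).appTop ≫ (ResTorus23.bcMap X.toSpecΓ hπ T).appTop =
        X.toSpecΓ.appTop ≫ (pullback.snd T.hom f).appTop := by
      rw [← Scheme.Hom.comp_appTop, ← Scheme.Hom.comp_appTop]
      exact congrArg Scheme.Hom.appTop (pullback.lift_snd _ _ _)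
    refine sqg'.hom_ext (h1.trans (IsPushout.inl_isoIsPushout_hom _ _ sqg' sqf).symm) ?_
    rw [Category.assoc, h2, IsPushout.inr_isoIsPushout_hom _ _ sqg' sqf]
    simp [π']
  rw [key]
  exact ConcreteCategory.bijective_of_isIso (sqg'.isoIsPushout _ _ sqf).hom

end

open CategoryTheory AlgebraicGeometry MonObj in
/-- Let k be a field and f : X → Spec k a proper smooth morphism of schemes. Then the direct image f_*
𝔾_{m,X} on the big fppf site of Spec k, the abelian sheaf whose sections over a k-scheme T are the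
invertible functions on X ×_k T, is representable by a torus: there is a commutative k-group scheme
which is a torus and whose sheaf of points is isomorphic to f_* 𝔾_{m,X} (representability is an
existence statement; no particular isomorphism is singled out). -/
theorem result (k : Type u) [Field k] (X : Scheme.{u}) (f : X ⟶ Spec (CommRingCat.of k)) [IsProper f] [Smooth f] : ∃ (T : Over (Spec (CommRingCat.of k))) (_ : GrpObj T) (_ : IsCommMonObj T), Red.IsTorus T ∧ Nonempty (CGrpSh.pts Scheme.fppfPrecoverage T ≅ CGrpSh3.pushGm Scheme.fppfPrecoverage f) := by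
  letI : Algebra k Γ(X, ⊤) := ((Scheme.ΓSpecIso (CommRingCat.of k)).inv ≫ f.appTop).hom.toAlgebra
  have halg : algebraMap k Γ(X, ⊤) = f.appTop.hom.comp (Scheme.ΓSpecIso (CommRingCat.of k)).inv.hom := rfl
  haveI : Module.Finite k Γ(X, ⊤) := finite_toGlobal f
  haveI : GeometricallyReduced f := AbRigid.geometricallyReduced_of_smooth f
  haveI := GlobFun18.isGeometricallyReduced_globalSections f halg
  haveI : _root_.IsReduced (TensorProduct k (AlgebraicClosure k) Γ(X, ⊤)) :=
    (Algebra.isGeometricallyReduced_field_iff _ _).1 inferInstance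
  let g : Spec Γ(X, ⊤) ⟶ Spec (CommRingCat.of k) := Spec.map (CommRingCat.ofHom (algebraMap k Γ(X, ⊤)))
  have hπ : X.toSpecΓ ≫ g = f := by
    show X.toSpecΓ ≫ Spec.map ((Scheme.ΓSpecIso (CommRingCat.of k)).inv ≫ f.appTop) = f
    rw [Spec.map_comp, ← Category.assoc, ← Scheme.toSpecΓ_naturality, Category.assoc, ← SpecMap_ΓSpecIso_hom, ← Spec.map_comp, Iso.inv_hom_id, Spec.map_id, Category.comp_id]
  haveI := locallyOfFiniteType_Gm (Spec Γ(X, ⊤))
  haveI : IsAffineHom (Red.Gm (Spec Γ(X, ⊤))).hom :=
    MTRigid29.isAffineHom_of_isMultTypeFT (MTRigid29.isMultTypeFT_of_chars (DiagGL.charsDS _ ℤ))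
  obtain ⟨R, q, hq⟩ := S17693.result k Γ(X, ⊤) (Red.Gm (Spec Γ(X, ⊤)))
  obtain ⟨i1, i2, hmul⟩ := ResTorus23.exists_grpObj hq
  exact ⟨R, i1, i2, ResTorus23.isTorus_of_isWeilRes (K := AlgebraicClosure k) hq hmul,
    ResTorus23.nonempty_ptsIso hq X.toSpecΓ hπ hmul fun T _ => bijective_bcMap f g hπ T⟩

end Groth.Agent.S19188
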