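import Groth.Statements.S19189
import Groth.Agent.Lib.TriIdem.Basic

set_option autoImplicit false
universe v u
open CategoryTheory CategoryTheory.Limits CategoryTheory.Pretriangulated CategoryTheory.Triangulated
open CohDer

namespace Groth.Agent.S19189


/-- Let `C` be a triangulated category (octahedron axiom included) and `t` a t-structure on `C` which is
bounded, i.e. every object of `C` is both `≥ a` and `≤ b` for some integers `a`, `b`. Then `C` is
idempotent complete (Karoubian): every idempotent endomorphism `p = p ≫ p` of an object splits as `p
= e ≫ i` with `i ≫ e = 𝟙`. -/
theorem result {C : Type u} [Category.{v} C] [Preadditive C]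
    [HasZeroObject C] [HasShift C ℤ] [∀ n : ℤ, (shiftFunctor C n).Additive] [Pretriangulated C]
    [IsTriangulated C] (t : TStructure C) (hb : ∀ X : C, t.bounded X) :
    IsIdempotentComplete C := by
  exact Groth.Agent.TriIdem.isIdempotentComplete t hb


end Groth.Agent.S19189
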