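import Groth.Statements.S1919
import Groth.Agent.Lib.RelCyc15.PerfectPull
-- import your own Groth.Agent.* helpers here

set_option autoImplicit false
universe u
open CategoryTheory AlgebraicGeometry
open CategoryTheory.Limits
open RelCyc

namespace Groth.Agent.S1919

/-- For a scheme X of finite type over a field k of characteristic p > 0, with base change X' = X ×_k k'
to the perfect closure k', the base change map Z_r(X) → Z_r(X') (flat pullback along the projection)
has p-power torsion cokernel: for every r-cycle β on X' some p^n β is the base change of an r-cycle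
on X. Dimension functions are transcendence degrees of residue fields over the ground fields. -/
theorem result (k : Type u) [Field k] (p : ℕ) [Fact p.Prime] [CharP k p] (X : Scheme.{u}) (f : X ⟶ Spec (CommRingCat.of k)) [LocallyOfFiniteType f] [QuasiCompact f] (δ : X → ℤ) (hδ : Cyc.DeltaCompat f δ (fun _ => 0)) (δ' : ↥(pullback f (Spec.map (CommRingCat.ofHom (PerfectClosure.of k p)))) → ℤ) (hδ' : Cyc.DeltaCompat (pullback.snd f (Spec.map (CommRingCat.ofHom (PerfectClosure.of k p)))) δ' (fun _ => 0)) (r : ℤ) (β : AlgebraicCycle (pullback f (Spec.map (CommRingCat.ofHom (PerfectClosure.of k p)))) ℤ) (hβ : β ∈ Cyc.Zk _ δ' r) : ∃ (n : ℕ) (α : AlgebraicCycle X ℤ), α ∈ Cyc.Zk X δ r ∧ (p : ℤ) ^ n • ⇑β = Cyc.pullFun (pullback.fst f (Spec.map (CommRingCat.ofHom (PerfectClosure.of k p)))) δ' δ 0 ⇑α := by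
  classical
  letI : Algebra k (PerfectClosure k p) := (PerfectClosure.of k p).toAlgebra
  haveI : ExpChar k p := ExpChar.prime Fact.out
  haveI : IsPRadical (algebraMap k (PerfectClosure k p)) p := PerfectClosure.isPRadical k p
  haveI : IsPurelyInseparable k (PerfectClosure k p) := IsPRadical.isPurelyInseparable k _ p
  set g := pullback.fst f (Spec.map (CommRingCat.ofHom (PerfectClosure.of k p))) with hgdef
  haveI : UniversallyInjective g := MorphismProperty.pullback_fst _ _
    (Groth.Agent.RelCyc15.universallyInjective_spec k (PerfectClosure k p))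
  haveI : Surjective g := MorphismProperty.pullback_fst _ _
    (Groth.Agent.RelCyc15.surjective_spec k (PerfectClosure k p))
  have hd : ∀ y, δ' y = δ (g y) := fun y =>
    Groth.Agent.RelCyc15.delta_fst_eq k (PerfectClosure k p) f δ hδ δ' hδ' y
  have hm := fun y => Groth.Agent.RelCyc15.exists_length_fibre_eq_pow k (PerfectClosure k p) p f y
  choose m hm using hm
  haveI : CompactSpace X := QuasiCompact.compactSpace_of_compactSpace f
  haveI : CompactSpace ↥(pullback f (Spec.map (CommRingCat.ofHom (PerfectClosure.of k p)))) :=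
    QuasiCompact.compactSpace_of_compactSpace g
  have hfin : Set.Finite (Function.support ⇑β) := by
    have := (Function.locallyFinsupp.locallyFiniteSupport β).finite_inter_support_of_isCompact isCompact_univ
    rwa [Set.univ_inter] at this
  obtain ⟨n, hn⟩ : ∃ n, ∀ y, β y ≠ 0 → m y ≤ n :=
    ⟨hfin.toFinset.sup m, fun y hy => Finset.le_sup (hfin.mem_toFinset.mpr hy)⟩
  let e : _ ≃ X := Equiv.ofBijective g ⟨g.injective, g.surjective⟩
  let a : X → ℤ := fun x => β (e.symm x) * (p : ℤ) ^ (n - m (e.symm x))
  have ha : (Function.support a).Finite := by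
    refine (hfin.image e).subset fun x hx => ⟨e.symm x, fun h => hx ?_, e.apply_symm_apply x⟩
    simp [a, h]
  let α : AlgebraicCycle X ℤ :=
    ⟨a, Set.subset_univ _, fun z _ => ⟨Set.univ, Filter.univ_mem, by rwa [Set.univ_inter]⟩⟩
  refine ⟨n, α, fun x hx => ?_, ?_⟩
  · have h0 : β (e.symm x) = 0 := hβ _ fun h => hx (by
      rw [← h, hd]; exact congrArg δ (e.apply_symm_apply x).symm)
    show a x = 0
    simp [a, h0]
  · funext y
    have hy : e.symm (g y) = y := e.symm_apply_apply y
    rw [Pi.smul_apply, smul_eq_mul]
    unfold Cyc.pullFun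
    rw [if_pos (by rw [hd y, add_zero]), hm y]
    show _ = a (g y) * _
    simp only [a, hy, Nat.cast_pow]
    rcases eq_or_ne (β y) 0 with h0 | h0
    · simp [h0]
    · rw [mul_assoc, ← pow_add, Nat.sub_add_cancel (hn y h0), mul_comm]

end Groth.Agent.S1919
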