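import Groth.Statements.S19190
import Mathlib

set_option autoImplicit false
universe w v u v' u'
open CategoryTheory CategoryTheory.Limits CategoryTheory.Pretriangulated CategoryTheory.Triangulated
open CohDer

namespace Groth.Agent.S19190

open CategoryTheory CategoryTheory.Limits CategoryTheory.Pretriangulated

section
variable {A : Type w} [CommRing A] {T : Type u} [Category.{v} T] [Preadditive T] [Linear A T] [HasZeroObject T]
  [HasShift T ℤ] [∀ n : ℤ, (shiftFunctor T n).Additive] [∀ n : ℤ, (shiftFunctor T n).Linear A]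
  [Pretriangulated T] (S : Submonoid A)

/-- Objects killed by an element of `S`. -/
def Killed : ObjectProperty T := fun X => ∃ s ∈ S, s • 𝟙 X = 0

theorem killed_smul_comp {X Y : T} (s : A) (f : X ⟶ Y) : s • f = (s • 𝟙 X) ≫ f := by
  rw [Linear.smul_comp, Category.id_comp]

instance : (Killed (T := T) S).ContainsZero :=
  ⟨⟨_, isZero_zero T, 1, S.one_mem, (isZero_zero T).eq_of_src _ _⟩⟩

instance : (Killed (T := T) S).IsStableUnderShift ℤ where
  isStableUnderShiftBy n := ⟨fun X ⟨s, hs, h⟩ => ⟨s, hs, by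
    rw [← (shiftFunctor T n).map_id, ← Functor.map_smul, h, Functor.map_zero]⟩⟩

instance : (Killed (T := T) S).IsStableUnderRetracts where
  of_retract {X Y} r := fun ⟨s, hs, h⟩ => ⟨s, hs, by
    have : r.i ≫ (s • 𝟙 Y) ≫ r.r = 0 := by rw [h, zero_comp, comp_zero]
    simpa using this⟩

instance : (Killed (T := T) S).IsClosedUnderIsomorphisms where
  of_iso e := fun h => ObjectProperty.prop_of_retract _ { i := e.inv, r := e.hom } h

instance : (Killed (T := T) S).IsTriangulatedClosed₂ where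
  ext₂' D hD := fun ⟨s, hs, h1⟩ ⟨t, ht, h3⟩ => ObjectProperty.le_isoClosure _ _ ⟨t * s, S.mul_mem ht hs, by
    obtain ⟨k, hk⟩ := Triangle.coyoneda_exact₂ _ hD (t • 𝟙 D.obj₂) (by
      rw [Linear.smul_comp, Category.id_comp, ← Category.comp_id D.mor₂, ← Linear.comp_smul, h3, comp_zero])
    rw [mul_comm, mul_smul, hk, ← Linear.comp_smul, killed_smul_comp s D.mor₁, h1, zero_comp, comp_zero]⟩

instance : (Killed (T := T) S).IsTriangulated where

theorem killed_cone (X : T) (f : A) (hf : f ∈ S) (Z : T) (g : X ⟶ Z) (h : Z ⟶ X⟦(1 : ℤ)⟧)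
    (hD : Triangle.mk (f • 𝟙 X) g h ∈ distTriang T) : Killed S Z := by
  have h1 : f • g = 0 := by
    rw [killed_smul_comp]; exact comp_distTriang_mor_zero₁₂ _ hD
  have h2 : f • h = 0 := by
    have : h ≫ (f • 𝟙 X)⟦(1 : ℤ)⟧' = 0 := comp_distTriang_mor_zero₃₁ _ hD
    rwa [Functor.map_smul, CategoryTheory.Functor.map_id, Linear.comp_smul, Category.comp_id] at this
  obtain ⟨k, hk⟩ := Triangle.yoneda_exact₃ _ hD (f • 𝟙 Z) (by
    show g ≫ (f • 𝟙 Z) = 0
    rw [Linear.comp_smul, Category.comp_id, h1])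
  refine ⟨f * f, S.mul_mem hf hf, ?_⟩
  rw [mul_smul, hk]
  show f • (h ≫ k) = 0
  exact (Linear.smul_comp _ _ _ f h k).symm.trans ((congrArg (· ≫ k) h2).trans zero_comp)

end


/-- Let `A` be a commutative ring, `S` a multiplicative subset of `A` and `T` an `A`-linear triangulated
category (octahedron axiom included; the shift functors are `A`-linear). Call an object of `T`
`S`-torsion when it lies in the smallest thick subcategory `U` of `T` (a property of objects
containing zero, stable under shifts, extensions, isomorphisms and direct factors) containing every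
cone of an endomorphism `f • 𝟙 X` with `f ∈ S`. Let `Q : T ⥤ E` exhibit `E` as the localization of
`T` at the morphisms whose cone lies in `U` (the Verdier quotient `T/U`), where `E` is preadditive
and `A`-linear and `Q` is `A`-linear. Then for all objects `X`, `Y` of `T` the `A`-linear map
`Hom_T(X, Y) → Hom_E(Q X, Q Y)` given by `Q` exhibits its target as the localization of `Hom_T(X,
Y)` at `S`. Since `Q` is essentially surjective, this says that the comparison functor from `T/U` to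
the category having the objects of `T` and morphism modules `Hom_T(X, Y) ⊗_A S⁻¹A` is an
equivalence. -/
theorem result
    {A : Type w} [CommRing A] (S : Submonoid A)
    {T : Type u} [Category.{v} T] [Preadditive T] [Linear A T] [HasZeroObject T] [HasShift T ℤ]
    [∀ n : ℤ, (shiftFunctor T n).Additive] [∀ n : ℤ, (shiftFunctor T n).Linear A]
    [Pretriangulated T] [IsTriangulated T]
    (U : ObjectProperty T) [U.IsTriangulated] [U.IsClosedUnderIsomorphisms] [U.IsStableUnderRetracts]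
    (hU : ∀ (X : T) (f : A), f ∈ S → ∀ (Z : T) (g : X ⟶ Z) (h : Z ⟶ X⟦(1 : ℤ)⟧),
      Triangle.mk (f • 𝟙 X) g h ∈ distTriang T → U Z)
    (hmin : ∀ (U' : ObjectProperty T) [U'.IsTriangulated] [U'.IsClosedUnderIsomorphisms]
      [U'.IsStableUnderRetracts],
      (∀ (X : T) (f : A), f ∈ S → ∀ (Z : T) (g : X ⟶ Z) (h : Z ⟶ X⟦(1 : ℤ)⟧),
        Triangle.mk (f • 𝟙 X) g h ∈ distTriang T → U' Z) → U ≤ U')
    {E : Type u'} [Category.{v'} E] [Preadditive E] [Linear A E]
    (Q : T ⥤ E) [Q.Additive] [Q.Linear A] [Q.IsLocalization U.trW] (X Y : T) :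
    IsLocalizedModule S (Q.mapLinearMap A : (X ⟶ Y) →ₗ[A] (Q.obj X ⟶ Q.obj Y)) := by
  have hUS : U ≤ Killed S := hmin _ (killed_cone S)
  have hmap : ∀ (s : A), s ∈ S → IsIso (s • 𝟙 (Q.obj Y)) := fun s hs => by
    obtain ⟨Z, g, h, hD⟩ := distinguished_cocone_triangle (s • 𝟙 Y)
    have := Localization.inverts Q U.trW (s • 𝟙 Y) ⟨Z, g, h, hD, hU Y s hs Z g h hD⟩
    rwa [Q.map_smul, Q.map_id] at this
  refine ⟨fun s => ?_, fun φ => ?_, fun {f₁ f₂} he => ?_⟩
  · rw [Module.End.isUnit_iff]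
    haveI := hmap s s.2
    have e : ∀ φ : Q.obj X ⟶ Q.obj Y, (s : A) • φ = φ ≫ ((s : A) • 𝟙 (Q.obj Y)) := fun φ => by
      rw [Linear.comp_smul, Category.comp_id]
    refine ⟨fun φ ψ h => ?_, fun φ => ⟨φ ≫ inv ((s : A) • 𝟙 (Q.obj Y)), ?_⟩⟩
    · change (s : A) • φ = (s : A) • ψ at h
      rwa [e, e, cancel_mono] at h
    · show (s : A) • (φ ≫ inv ((s : A) • 𝟙 (Q.obj Y))) = φ
      rw [e, Category.assoc, IsIso.inv_hom_id, Category.comp_id]
  · obtain ⟨F, hF⟩ := Localization.exists_leftFraction Q U.trW φ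
    obtain ⟨Z, g, h, hD, hZ⟩ := F.hs
    obtain ⟨s, hs, hsZ⟩ := hUS Z hZ
    obtain ⟨k, hk⟩ := Triangle.coyoneda_exact₂ _ hD (s • 𝟙 F.Y') (by
      show (s • 𝟙 F.Y') ≫ g = 0
      rw [Linear.smul_comp, Category.id_comp, ← Category.comp_id g, ← Linear.comp_smul, hsZ, comp_zero])
    change F.Y' ⟶ Y at k
    change s • 𝟙 F.Y' = k ≫ F.s at hk
    refine ⟨⟨F.f ≫ k, ⟨s, hs⟩⟩, ?_⟩
    haveI := Localization.inverts Q U.trW _ F.hs
    show s • φ = Q.map (F.f ≫ k)
    apply (cancel_mono (Q.map F.s)).1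
    rw [← Q.map_comp, Category.assoc, Linear.smul_comp, hF,
      MorphismProperty.LeftFraction.map_comp_map_s, ← Q.map_smul]
    refine congrArg Q.map ?_
    exact (Category.comp_id (s • F.f)).symm.trans ((Linear.smul_comp _ _ _ s F.f _).trans
      ((Linear.comp_smul _ _ _ F.f s _).symm.trans (congrArg (F.f ≫ ·) hk)))
  · obtain ⟨Z, g, hg, hfg⟩ := (MorphismProperty.map_eq_iff_postcomp Q U.trW f₁ f₂).1 he
    obtain ⟨W', v', h, hD, hW'⟩ := (ObjectProperty.trW_iff' U g).1 hg
    obtain ⟨s, hs, hsW⟩ := hUS W' hW'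
    obtain ⟨k, hk⟩ := Triangle.coyoneda_exact₂ _ hD (f₁ - f₂) (by
      show (f₁ - f₂) ≫ g = 0
      rw [Preadditive.sub_comp, hfg, sub_self])
    change W' ⟶ Y at v'
    change f₁ - f₂ = k ≫ v' at hk
    refine ⟨⟨s, hs⟩, ?_⟩
    show s • f₁ = s • f₂
    rw [← sub_eq_zero, ← smul_sub, hk]
    exact (Linear.comp_smul _ _ _ k s v').symm.trans ((congrArg (k ≫ ·) ((killed_smul_comp s v').trans
      ((congrArg (· ≫ v') hsW).trans zero_comp))).trans comp_zero)


end Groth.Agent.S19190
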