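import Groth.Statements.S19191
import Mathlib

set_option autoImplicit false
universe w v u v' u'
open CategoryTheory CategoryTheory.Limits CategoryTheory.Pretriangulated CategoryTheory.Triangulated
open CohDer

namespace Groth.Agent.S19191
open CategoryTheory CategoryTheory.Limits CategoryTheory.Pretriangulated


/-- Let `A` be a commutative ring, `T` an `A`-linear triangulated category (octahedron axiom included;
shift functors `A`-linear), `U` a thick subcategory of `T` (a property of objects containing zero,
stable under shifts, extensions, isomorphisms and direct factors), and `Q : T ⥤ E` a localization of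
`T` at the morphisms whose cone lies in `U` (the Verdier quotient `T/U`), where `E` is preadditive
and `A`-linear and `Q` is `A`-linear. For an object `X` of `T` the following two conditions are
equivalent: (i) `X` lies in `U`; (ii) for every maximal ideal `m` of `A` the image of `X` in the
category obtained from `T/U` by tensoring the morphism modules with `A_m` is zero, i.e. some element
of `A` outside `m` annihilates the identity of `Q X`. (The published statement also lists a third
equivalent condition, phrased with idempotent completions of the localized categories; it is not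
asserted here.) -/
theorem result
    {A : Type w} [CommRing A]
    {T : Type u} [Category.{v} T] [Preadditive T] [Linear A T] [HasZeroObject T] [HasShift T ℤ]
    [∀ n : ℤ, (shiftFunctor T n).Additive] [∀ n : ℤ, (shiftFunctor T n).Linear A]
    [Pretriangulated T] [IsTriangulated T]
    (U : ObjectProperty T) [U.IsTriangulated] [U.IsClosedUnderIsomorphisms] [U.IsStableUnderRetracts]
    {E : Type u'} [Category.{v'} E] [Preadditive E] [Linear A E]
    (Q : T ⥤ E) [Q.Additive] [Q.Linear A] [Q.IsLocalization U.trW] (X : T) :
    U X ↔ ∀ m : Ideal A, m.IsMaximal → ∃ s : A, s ∉ m ∧ s • 𝟙 (Q.obj X) = 0 := by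
  haveI : U.trW.HasLeftCalculusOfFractions := inferInstance
  constructor
  · intro hX m hm
    refine ⟨1, fun h => hm.ne_top ((Ideal.eq_top_iff_one m).2 h), ?_⟩
    obtain ⟨O, hO⟩ := HasZeroObject.zero (C := T)
    haveI : IsIso (Q.map (0 : O ⟶ X)) := Localization.inverts Q U.trW _ (by
      obtain ⟨Z, g, h, hD⟩ := distinguished_cocone_triangle (0 : O ⟶ X)
      haveI : IsIso g := (Triangle.isZero₁_iff_isIso₂ _ hD).1 hO
      exact ⟨Z, g, h, hD, U.prop_of_iso (asIso g) hX⟩)
    have hz : IsZero (Q.obj X) := (Q.map_isZero hO).of_iso (asIso (Q.map (0 : O ⟶ X))).symm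
    rw [one_smul]
    exact hz.eq_of_src _ _
  · intro h
    have h1 : (1 : A) • 𝟙 (Q.obj X) = 0 := by
      by_contra hne
      let I : Ideal A := LinearMap.ker (LinearMap.toSpanSingleton A (Q.obj X ⟶ Q.obj X) (𝟙 (Q.obj X)))
      obtain ⟨m, hm, hIm⟩ := Ideal.exists_le_maximal I (fun htop => hne (by
        have : (1 : A) ∈ I := htop ▸ Submodule.mem_top
        simpa [I] using this))
      obtain ⟨s, hs, hs0⟩ := h m hm
      exact hs (hIm (by simpa [I] using hs0))
    rw [one_smul] at h1
    obtain ⟨X', g, hg, hg0⟩ := (MorphismProperty.map_eq_iff_postcomp Q U.trW (𝟙 X) 0).1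
      (by rw [Q.map_id, h1, Q.map_zero])
    rw [Category.id_comp, zero_comp] at hg0
    obtain ⟨Z, u, v, hD, hZ⟩ := hg
    subst hg0
    obtain ⟨s, hs⟩ := Triangle.coyoneda_exact₃ _ (rot_of_distTriang _ hD) (𝟙 (X⟦(1 : ℤ)⟧)) (by
      show 𝟙 (X⟦(1 : ℤ)⟧) ≫ (-(shiftFunctor T (1 : ℤ)).map (0 : X ⟶ X')) = 0
      rw [Functor.map_zero, neg_zero, comp_zero])
    change X⟦(1 : ℤ)⟧ ⟶ Z at s
    change 𝟙 (X⟦(1 : ℤ)⟧) = s ≫ v at hs
    have h1X : U (X⟦(1 : ℤ)⟧) := U.prop_of_retract { i := s, r := v, retract := hs.symm } hZ
    exact U.prop_of_iso ((shiftEquiv T (1 : ℤ)).unitIso.symm.app X) (U.le_shift (-1) _ h1X)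


end Groth.Agent.S19191
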