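import Groth.Statements.S19193
import Mathlib

set_option autoImplicit false
universe u
open CategoryTheory Opposite TopologicalSpace
open CohTop

namespace Groth.Agent.S19193

open W4c6blochformula0cyc in
/-- Let `F` be a presheaf of abelian groups on a topological space `X`, `U` a family of opens of `X`
indexed by a finite type, and suppose given, for every open `V` and every index `α`, an additive map
`E V α : F(V ∩ U_α) → F(V)` such that for every nonempty tuple of indices `t`, with `V = U_{t_0} ∩ ⋯
∩ U_{t_m}`: (i) `∑_α E V α (f|_{V ∩ U_α}) = f` for all `f ∈ F(V)`, and (ii) `(E V α g)|_{V ∩ U_β} =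
E (V ∩ U_β) α (g|_{V ∩ U_β ∩ U_α})` for all indices `α, β` and all `g ∈ F(V ∩ U_α)`. Then the
operator `H` on ordered Čech cochains, `(H f)_t = ∑_α E (U_t) α (f_{(α, t)})`, satisfies `H (δ f) +
δ (H f) = f` for every Čech cochain `f` on tuples of length at least `2`, i.e. in every Čech degree
`≥ 1`. (The published statement takes a flasque sheaf on an open cover and extension maps attached
to pairs of finite intersections; this row takes any presheaf, any finite family of opens, and maps
that may depend on the index, none of which the printed argument needs. The published statement also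
asserts the identity in every degree of the Čech complex without augmentation term, and allows an
infinite index set with finitely supported sums; in Čech degree `0`, where that complex has no term
below and the identity reads `H (δ f) = f`, it fails in general — for the one-member cover of a
point and the constant presheaf `ℤ` with `E` the identity, `δ f` vanishes on the pair while `f` need
not — so it is stated here from degree `1` on, i.e. for cochains on tuples of length at least `2`
(the whole-space term on the empty tuple carried by the cochain groups used here plays no role), and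
for a finite index type.) -/
theorem result {X : Type u} [TopologicalSpace X]
    {ι : Type u} [Fintype ι] (F : (Opens X)ᵒᵖ ⥤ AddCommGrpCat.{u}) (U : ι → Opens X)
    (E : ∀ (V : Opens X) (α : ι), F.obj (op (V ⊓ U α)) →+ F.obj (op V))
    (h2 : ∀ (m : ℕ) (t : Fin (m + 1) → ι) (f : F.obj (op (cechOpen U t))),
      ∑ α, E (cechOpen U t) α (res F inf_le_left f) = f)
    (h3 : ∀ (m : ℕ) (t : Fin (m + 1) → ι) (α β : ι) (g : F.obj (op (cechOpen U t ⊓ U α))),
      res F inf_le_left (E (cechOpen U t) α g) =
        E (cechOpen U t ⊓ U β) α (res F (inf_le_inf_right (U α) inf_le_left) g))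
    (n : ℕ) (f : Cochain F U (n + 2)) :
    homotopy F U E (n + 2) (delta F U (n + 2) f) + delta F U (n + 1) (homotopy F U E (n + 1) f) = f := by
  have resres : ∀ {A B C : Opens X} (h : B ≤ A) (h' : C ≤ B) (x : F.obj (op A)),
      res F h' (res F h x) = res F (h'.trans h) x :=
    fun h h' x => (ConcreteCategory.congr_hom (F.map_comp (homOfLE h).op (homOfLE h').op) x).symm
  have congr' : ∀ {k : ℕ} (p : Cochain F U k) {s s' : Fin k → ι} (_ : s = s') {W : Opens X}
      (h : W ≤ cechOpen U s) (h' : W ≤ cechOpen U s'), res F h (p s) = res F h' (p s') := by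
    rintro k p s s' rfl W h h'
    rfl
  funext t
  change (∑ α : ι, E (cechOpen U t) α (res F (inf_le_cechOpen_cons U t α)
      (∑ j : Fin (n + 3), ((-1 : ℤ) ^ (j : ℕ)) • res F (cechOpen_le_comp U _ j) (f ((Fin.cons α t : Fin (n + 3) → ι) ∘ j.succAbove))))) +
    (∑ k : Fin (n + 2), ((-1 : ℤ) ^ (k : ℕ)) • res F (cechOpen_le_comp U t k)
      (∑ α : ι, E (cechOpen U (t ∘ k.succAbove)) α (res F (inf_le_cechOpen_cons U _ α) (f (Fin.cons α (t ∘ k.succAbove)))))) = f t
  have e0 : ∀ α : ι, (Fin.cons α t : Fin (n + 3) → ι) ∘ (0 : Fin (n + 3)).succAbove = t := fun α => by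
    funext i; simp
  have es : ∀ (α : ι) (k : Fin (n + 2)), (Fin.cons α t : Fin (n + 3) → ι) ∘ k.succ.succAbove = Fin.cons α (t ∘ k.succAbove) := fun α k => by
    funext i
    refine Fin.cases ?_ (fun l => ?_) i
    · simp
    · simp
  have hle : ∀ (α : ι) (k : Fin (n + 2)),
      cechOpen U t ⊓ U α ≤ cechOpen U (Fin.cons α (t ∘ k.succAbove) : Fin (n + 2) → ι) := fun α k =>
    (inf_le_inf_right _ (cechOpen_le_comp U t k)).trans (inf_le_cechOpen_cons U _ α)
  have key : ∀ (α : ι) (k : Fin (n + 2)) (g : F.obj (op (cechOpen U (t ∘ k.succAbove) ⊓ U α))),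
      res F (cechOpen_le_comp U t k) (E _ α g) =
        E (cechOpen U t) α (res F (inf_le_inf_right (U α) (cechOpen_le_comp U t k)) g) := by
    intro α k g
    have gen : ∀ (W : Opens X), W = cechOpen U (t ∘ k.succAbove) ⊓ U (t k) →
        ∀ h : W ≤ cechOpen U (t ∘ k.succAbove), res F h (E _ α g) = E W α (res F (inf_le_inf_right (U α) h) g) := by
      rintro W rfl h
      exact h3 n _ α (t k) g
    refine gen _ (le_antisymm (le_inf (cechOpen_le_comp U t k) (iInf_le (fun i => U (t i)) k)) ?_) _
    refine le_iInf fun i => ?_
    induction i using Fin.succAboveCases k with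
    | x => exact inf_le_right
    | p l => exact inf_le_left.trans (iInf_le (fun i => U ((t ∘ k.succAbove) i)) l)
  have expand : ∀ α : ι, E (cechOpen U t) α (res F (inf_le_cechOpen_cons U t α)
      (∑ j : Fin (n + 3), ((-1 : ℤ) ^ (j : ℕ)) • res F (cechOpen_le_comp U _ j) (f ((Fin.cons α t : Fin (n + 3) → ι) ∘ j.succAbove)))) =
      E (cechOpen U t) α (res F inf_le_left (f t)) -
        ∑ k : Fin (n + 2), ((-1 : ℤ) ^ (k : ℕ)) • E (cechOpen U t) α (res F (hle α k) (f (Fin.cons α (t ∘ k.succAbove)))) := by
    intro α
    rw [Fin.sum_univ_succ, sub_eq_add_neg, ← Finset.sum_neg_distrib]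
    simp only [map_add, map_neg, map_sum, map_zsmul, resres, Fin.val_zero, pow_zero, one_smul, Fin.val_succ, pow_succ,
      mul_neg, mul_one, neg_smul, Finset.sum_neg_distrib]
    rw [congr' f (e0 α) _ inf_le_left]
    refine congrArg₂ _ rfl (congrArg Neg.neg (Finset.sum_congr rfl fun k _ => ?_))
    rw [congr' f (es α k) _ (hle α k)]
  rw [Finset.sum_congr rfl fun α _ => expand α]
  simp only [map_sum, key, resres, Finset.smul_sum, Finset.sum_sub_distrib]
  rw [h2 (n + 1) t (f t), Finset.sum_comm (γ := Fin (n + 2))]
  exact sub_add_cancel _ _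

end Groth.Agent.S19193
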