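import Groth.Statements.S19195
import Groth.Agent.Lib.SchDom.FlatNZD
import Mathlib.RingTheory.Localization.BaseChange
import Mathlib.LinearAlgebra.TensorProduct.Quotient

set_option autoImplicit false
universe u
open TensorProduct
open RelS1

namespace Groth.Agent.S19195

/-- Let A be a commutative ring, B a finitely presented A-algebra and M a finitely presented B-module
which is flat over A. Suppose that for every prime p of A, with residue field κ(p), the fibre module
(B ⊗_A κ(p)) ⊗_B M over the fibre ring B ⊗_A κ(p) satisfies Serre's condition (S_1) in the form: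
each of its associated primes is a minimal prime of its annihilator. Let a be an element of B whose
image a ⊗ 1 in every fibre ring B ⊗_A κ(p) lies in no minimal prime of the annihilator of the fibre
module. Then a is a non-zero-divisor on M. (Since all hypotheses are preserved by base change of A
and by passing to affine opens, this expresses that a flat finitely presented sheaf with (S_1)
fibres is pure relative to the base after every base change. The published statement is an
equivalence for sheaves on a locally finitely presented morphism, quantified over all base changes;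
this row states its direct implication in affine form.) -/
theorem result (A B M : Type u) [CommRing A] [CommRing B] [Algebra A B]
    [Algebra.FinitePresentation A B] [AddCommGroup M] [Module B M] [Module A M]
    [IsScalarTower A B M] [Module.FinitePresentation B M] [Module.Flat A M]
    (hS1 : ∀ (p : Ideal A) [p.IsPrime],
      associatedPrimes (B ⊗[A] p.ResidueField) ((B ⊗[A] p.ResidueField) ⊗[B] M) ⊆
        (Module.annihilator (B ⊗[A] p.ResidueField) ((B ⊗[A] p.ResidueField) ⊗[B] M)).minimalPrimes)
    (a : B)
    (ha : ∀ (p : Ideal A) [p.IsPrime],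
      ∀ P ∈ (Module.annihilator (B ⊗[A] p.ResidueField) ((B ⊗[A] p.ResidueField) ⊗[B] M)).minimalPrimes,
        a ⊗ₜ[A] (1 : p.ResidueField) ∉ P) :
    IsSMulRegular M a := by
  classical
  refine isSMulRegular_iff_right_eq_zero_of_smul.mpr fun y hy => ?_
  have key : ∀ (r : Ideal B) (_ : r.IsPrime), ∃ t' ∉ r, t' • y = 0 := by
    intro r hr
    refine SchDom.eq_zero_of_fibre_nzd (A := A) r a (fun z t ht hz => ?_) y 1
      (fun h1 => hr.ne_top ((Ideal.eq_top_iff_one r).mpr h1)) (by rw [one_smul]; exact hy)
    let p : Ideal A := r.comap (algebraMap A B)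
    haveI : p.IsPrime := Ideal.IsPrime.comap _
    haveI : Algebra.FiniteType p.ResidueField (p.ResidueField ⊗[A] B) := inferInstance
    haveI : IsNoetherianRing (p.ResidueField ⊗[A] B) := Algebra.FiniteType.isNoetherianRing p.ResidueField _
    haveI : IsNoetherianRing (B ⊗[A] p.ResidueField) :=
      isNoetherianRing_of_ringEquiv (p.ResidueField ⊗[A] B)
        (Algebra.TensorProduct.comm A p.ResidueField B).toRingEquiv
    let N := (B ⊗[A] p.ResidueField) ⊗[B] M
    have hreg : IsSMulRegular N (a ⊗ₜ[A] (1 : p.ResidueField) : (B ⊗[A] p.ResidueField)) := by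
      by_contra hn
      have : (a ⊗ₜ[A] (1 : p.ResidueField) : (B ⊗[A] p.ResidueField)) ∈ ⋃ P ∈ associatedPrimes (B ⊗[A] p.ResidueField) N, (P : Set (B ⊗[A] p.ResidueField)) := by
        rw [biUnion_associatedPrimes_eq_compl_regular]; exact hn
      obtain ⟨P, hP, haP⟩ := Set.mem_iUnion₂.mp this
      exact ha p P (hS1 p hP) haP
    let img : M →ₗ[B] N := TensorProduct.mk B (B ⊗[A] p.ResidueField) M 1
    have hp0 : ∀ x ∈ p • (⊤ : Submodule A M), img x = 0 := fun x hx => by
      refine Submodule.smul_induction_on hx (fun c hc w _ => ?_) fun u v hu hv => by rw [map_add, hu, hv, add_zero]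
      rw [LinearMap.map_smul_of_tower, ← algebraMap_smul (B ⊗[A] p.ResidueField) c (img w)]
      have : algebraMap A (B ⊗[A] p.ResidueField) c = 0 := by
        rw [IsScalarTower.algebraMap_apply A B (B ⊗[A] p.ResidueField), Algebra.TensorProduct.algebraMap_apply,
          Algebra.algebraMap_self_apply, Algebra.algebraMap_eq_smul_one, TensorProduct.smul_tmul,
          ← Algebra.algebraMap_eq_smul_one, Ideal.algebraMap_residueField_eq_zero.mpr hc,
          TensorProduct.tmul_zero]
      rw [this, zero_smul]
    have h1 : img (t • z) = 0 := by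
      refine hreg ?_
      show (a ⊗ₜ[A] (1 : p.ResidueField) : B ⊗[A] p.ResidueField) • img (t • z) = (a ⊗ₜ[A] (1 : p.ResidueField) : B ⊗[A] p.ResidueField) • (0 : N)
      rw [smul_zero, show (a ⊗ₜ[A] (1 : p.ResidueField) : (B ⊗[A] p.ResidueField)) = algebraMap B (B ⊗[A] p.ResidueField) a from rfl,
        algebraMap_smul, ← map_smul, smul_comm a t z]
      exact hp0 _ hz
    let γ : B →ₗ[A] p.ResidueField →ₗ[A] M →ₗ[A] p.ResidueField ⊗[A] M :=
      LinearMap.mk₂ A (fun b c => (TensorProduct.mk A p.ResidueField M c).comp ((LinearMap.lsmul B M b).restrictScalars A))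
        (fun b b' c => by ext m; simp [add_smul, TensorProduct.tmul_add])
        (fun e b c => by ext m; simp [smul_assoc, TensorProduct.tmul_smul])
        (fun b c c' => by ext m; simp [TensorProduct.add_tmul])
        (fun e b c => by ext m; simp [TensorProduct.smul_tmul'])
    let δ : (B ⊗[A] p.ResidueField) →ₗ[A] M →ₗ[A] p.ResidueField ⊗[A] M := TensorProduct.lift γ
    let Θ : N →+ p.ResidueField ⊗[A] M := TensorProduct.liftAddHom
      (AddMonoidHom.mk' (fun x => (δ x).toAddMonoidHom) fun x x' => by ext m; simp)
      (fun e x m => by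
        induction x using TensorProduct.induction_on with
        | zero => simp
        | add u v hu hv =>
          simp only [AddMonoidHom.mk'_apply, LinearMap.toAddMonoidHom_coe] at hu hv ⊢
          rw [smul_add, map_add, map_add, LinearMap.add_apply, LinearMap.add_apply, hu, hv]
        | tmul b c => simp [δ, γ, TensorProduct.smul_tmul', mul_comm e b, mul_smul, smul_comm e b])
    have h2 : (1 : p.ResidueField) ⊗ₜ[A] (t • z) = 0 := by
      have := congrArg Θ h1
      rw [map_zero] at this
      refine Eq.trans ?_ this
      show _ = δ ((1 : B) ⊗ₜ[A] (1 : p.ResidueField)) (t • z)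
      simp [δ, γ, -TensorProduct.tmul_smul]
    have h3 : (1 : p.ResidueField) ⊗ₜ[A ⧸ p] ((1 : A ⧸ p) ⊗ₜ[A] (t • z)) = 0 :=
      (TensorProduct.AlgebraTensorModule.cancelBaseChange A (A ⧸ p) p.ResidueField p.ResidueField M).injective
        (by simpa using h2)
    haveI : IsLocalizedModule (nonZeroDivisors (A ⧸ p))
        (TensorProduct.mk (A ⧸ p) p.ResidueField ((A ⧸ p) ⊗[A] M) 1) :=
      (isLocalizedModule_iff_isBaseChange _ p.ResidueField _).mpr (TensorProduct.isBaseChange _ _ _)
    obtain ⟨⟨c, hc⟩, hc0⟩ := (IsLocalizedModule.eq_zero_iff (nonZeroDivisors (A ⧸ p))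
      (TensorProduct.mk (A ⧸ p) p.ResidueField ((A ⧸ p) ⊗[A] M) 1)).mp h3
    obtain ⟨s, rfl⟩ := Ideal.Quotient.mk_surjective c
    have hs : s ∉ p := fun h => nonZeroDivisors.ne_zero hc (Ideal.Quotient.eq_zero_iff_mem.mpr h)
    refine ⟨algebraMap A B s * t, fun h => (hr.mem_or_mem h).elim hs ht, ?_⟩
    have h4 : ((TensorProduct.quotTensorEquivQuotSMul M p) (Ideal.Quotient.mk p s ⊗ₜ[A] (t • z))) = 0 := by
      have : (Ideal.Quotient.mk p s) ⊗ₜ[A] (t • z) = 0 := by
        have h' : Ideal.Quotient.mk p s • ((1 : A ⧸ p) ⊗ₜ[A] (t • z)) = 0 := hc0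
        rwa [TensorProduct.smul_tmul', smul_eq_mul, mul_one] at h'
      rw [this, map_zero]
    rw [TensorProduct.quotTensorEquivQuotSMul_mk_tmul] at h4
    rw [mul_smul, algebraMap_smul]
    exact (Submodule.Quotient.mk_eq_zero _).mp h4
  have hann : (Submodule.span B {y}).annihilator = ⊤ := by
    by_contra hne
    obtain ⟨P, hP, hle⟩ := Ideal.exists_le_maximal _ hne
    obtain ⟨t, ht, hty⟩ := key P hP.isPrime
    exact ht (hle ((Submodule.mem_annihilator_span_singleton y t).mpr hty))
  have := (Submodule.mem_annihilator_span_singleton y 1).mp (hann ▸ Submodule.mem_top)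
  rwa [one_smul] at this

end Groth.Agent.S19195
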