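import Groth.Statements.S19196
import Mathlib.Tactic
import Mathlib.RingTheory.MvPolynomial.Basic
import Mathlib.RingTheory.Ideal.Quotient.Operations
import Mathlib.LinearAlgebra.Basis.Basic
import Mathlib.Data.Matrix.Mul
import Mathlib.NumberTheory.Bernoulli
import Mathlib.RingTheory.PowerSeries.Inverse
import Mathlib.RingTheory.AdicCompletion.Basic
import Mathlib.LinearAlgebra.Matrix.Charpoly.Coeff
import Mathlib.Algebra.Polynomial.Expand
import Mathlib.NumberTheory.Padics.PadicVal.Basic
import Mathlib.RingTheory.IntegralClosure.IsIntegralClosure.Basic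
import Mathlib.GroupTheory.Torsion
import Mathlib.Algebra.MonoidAlgebra.Basic
import Mathlib.RingTheory.Norm.Basic
import Mathlib.LinearAlgebra.Eigenspace.Zero
import Mathlib.RingTheory.LocalRing.ResidueField.Basic
import Mathlib.RingTheory.Artinian.Module
import Mathlib.FieldTheory.IsAlgClosed.Basic
import Mathlib.RingTheory.Ideal.AssociatedPrime.Basic
import Mathlib.RingTheory.Ideal.MinimalPrime.Noetherian
import Mathlib.RingTheory.RegularLocalRing.Defs
import Mathlib.RingTheory.Ideal.KrullsHeightTheorem
import Mathlib.RingTheory.Nakayama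

set_option autoImplicit false
universe u
open RelS1

namespace Groth.Agent.S19196

/-- Let R be a Noetherian commutative ring and N a finitely generated R-module which fails Serre's
condition (S_1), in the sense that some associated prime of N is not a minimal prime of the
annihilator of N. Then there exist an element a of R lying in no minimal prime of the annihilator of
N and a nonzero element b of N with a • b = 0; thus the basic open set D(a) meets the support of N
densely while restriction to it is not injective on N. -/
theorem result (R N : Type u) [CommRing R] [IsNoetherianRing R]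
    [AddCommGroup N] [Module R N] [Module.Finite R N]
    (h : ¬ associatedPrimes R N ⊆ (Module.annihilator R N).minimalPrimes) :
    ∃ (a : R) (b : N), (∀ P ∈ (Module.annihilator R N).minimalPrimes, a ∉ P) ∧ b ≠ 0 ∧ a • b = 0 := by
  obtain ⟨Q, hQ, hQmin⟩ := Set.not_subset.1 h
  have hQ' := isAssociatedPrime_iff.1 (AssociatedPrimes.mem_iff.1 hQ)
  obtain ⟨hQp, b, hb⟩ := hQ'
  have hfin : (Module.annihilator R N).minimalPrimes.Finite := Ideal.finite_minimalPrimes_of_isNoetherianRing R _
  have hann : Module.annihilator R N ≤ Q := Submodule.annihilator_top (R := R) (M := N) ▸ (AssociatedPrimes.mem_iff.1 hQ).annihilator_le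
  have hnot : ¬ ((Q : Set R) ⊆ ⋃ P ∈ (hfin.toFinset : Set (Ideal R)), (P : Set R)) := by
    rw [Ideal.subset_union_prime ⊥ ⊥ (fun P hP _ _ => (hfin.mem_toFinset.1 hP).1.1)]
    rintro ⟨P, hP, hQP⟩
    rw [hfin.mem_toFinset] at hP
    exact hQmin ((le_antisymm hQP (hP.2 ⟨hQp, hann⟩ hQP)) ▸ hP)
  obtain ⟨a, haQ, ha⟩ := Set.not_subset.1 hnot
  refine ⟨a, b, fun P hP haP => ha (Set.mem_biUnion (hfin.mem_toFinset.2 hP) haP), ?_, ?_⟩
  · rintro rfl
    apply hQp.ne_top
    rw [hb, eq_top_iff]; intro x _; simp
  · rw [hb] at haQ; simpa using haQ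

end Groth.Agent.S19196
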