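import Groth.Statements.S19197
import Groth.Agent.Lib.FibDepth5.ProjDim
import Mathlib.Topology.Semicontinuity.Basic

set_option autoImplicit false
universe u
open TensorProduct CategoryTheory
open RelS1 Groth.Agent.FibDepth5

namespace Groth.Agent.S19197

section

variable (A : Type u) {B : Type u} [CommRing A] [CommRing B] [Algebra A B]
  {M : Type u} [AddCommGroup M] [Module B M]

noncomputable def fibEquiv (P : Ideal B) [P.IsPrime] :
    ((Localization.AtPrime P ⧸ (P.under A).map (algebraMap A (Localization.AtPrime P))) ⊗[B] M) ≃ₗ[
      Localization.AtPrime P ⧸ (P.under A).map (algebraMap A (Localization.AtPrime P))]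
    EGA4.FibLocMod A B P M :=
  let L := Localization.AtPrime P
  let I : Ideal L := (P.under A).map (algebraMap A L)
  let Mp := LocalizedModule P.primeCompl M
  let e : L ⊗[B] M ≃ₗ[L] Mp :=
    (IsLocalizedModule.isBaseChange P.primeCompl L (LocalizedModule.mkLinearMap P.primeCompl M)).equiv
  (AlgebraTensorModule.cancelBaseChange B L (L ⧸ I) (L ⧸ I) M).symm.trans
    ((LinearEquiv.baseChange L (L ⧸ I) _ _ e).trans
      (LinearEquiv.extendScalarsOfSurjective (R := L) (S := L ⧸ I) Ideal.Quotient.mk_surjective
        (TensorProduct.quotTensorEquivQuotSMul Mp I)))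

theorem subsingleton_fib_iff [Module.Finite B M] (P : Ideal B) [P.IsPrime] :
    Subsingleton (EGA4.FibLocMod A B P M) ↔ Subsingleton (LocalizedModule P.primeCompl M) := by
  constructor
  · intro h
    rw [Submodule.Quotient.subsingleton_iff] at h
    rw [← (Submodule.subsingleton_iff (Localization.AtPrime P)), ← subsingleton_iff_bot_eq_top]
    symm
    refine Submodule.eq_bot_of_le_smul_of_le_jacobson_bot _ _ Module.Finite.fg_top h.ge ?_
    rw [IsLocalRing.jacobson_eq_maximalIdeal _ bot_ne_top, Ideal.map_le_iff_le_comap,
      IsScalarTower.algebraMap_eq A B (Localization.AtPrime P), ← Ideal.comap_comap,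
      ← Ideal.under_def B (IsLocalRing.maximalIdeal _), IsLocalization.AtPrime.under_maximalIdeal (Localization.AtPrime P) P]
  · intro h; infer_instance

end

/-- In affine form, let A be a commutative ring, B a finitely presented A-algebra which is flat over A,
and M a finitely presented B-module which is flat over A. For a prime P of B lying over the prime p
of A, let B_P/pB_P be the local ring of the fibre at P and M_P/pM_P = (B_P/pB_P) ⊗_B M the fibre
stalk module. Then the function sending P to the projective dimension of M_P/pM_P over B_P/pB_P
(valued in WithBot ℕ∞, the zero module having dimension ⊥) is upper semicontinuous on Spec B: for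
every bound, the set of P where the fibre projective dimension is below the bound is open. -/
theorem result (A B M : Type u) [CommRing A] [CommRing B] [Algebra A B]
    [Algebra.FinitePresentation A B] [Module.Flat A B] [AddCommGroup M] [Module B M] [Module A M]
    [IsScalarTower A B M] [Module.FinitePresentation B M] [Module.Flat A M] :
    UpperSemicontinuous fun P : PrimeSpectrum B => projectiveDimension (ModuleCat.of
      (Localization.AtPrime P.asIdeal ⧸ (P.asIdeal.under A).map (algebraMap A (Localization.AtPrime P.asIdeal)))
      ((Localization.AtPrime P.asIdeal ⧸ (P.asIdeal.under A).map (algebraMap A (Localization.AtPrime P.asIdeal))) ⊗[B] M)) := by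
  rw [upperSemicontinuous_iff_isOpen_preimage]
  have key : ∀ n : ℕ, IsOpen {P : PrimeSpectrum B | projectiveDimension (ModuleCat.of
      (Localization.AtPrime P.asIdeal ⧸ (P.asIdeal.under A).map (algebraMap A (Localization.AtPrime P.asIdeal)))
      ((Localization.AtPrime P.asIdeal ⧸ (P.asIdeal.under A).map (algebraMap A (Localization.AtPrime P.asIdeal))) ⊗[B] M)) < (n : WithBot ℕ∞)} := by
    intro n
    simp only [projectiveDimension_lt_iff]
    cases n with
    | zero =>
      refine (congrArg IsOpen (Set.ext fun P => ?_)).mp (Module.isClosed_support (R := B) (M := M)).isOpen_compl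
      rw [Set.mem_compl_iff, Module.notMem_support_iff, Set.mem_setOf_eq,
        hasProjectiveDimensionLT_zero_iff_isZero, ModuleCat.isZero_iff_subsingleton,
        ← subsingleton_fib_iff A]
      exact (fibEquiv A P.asIdeal).symm.toEquiv.subsingleton_congr
    | succ j =>
      refine (congrArg IsOpen (Set.ext fun P => ?_)).mp (isOpen_pdLoc A j M)
      exact RegLoc.pd_congr (fibEquiv A P.asIdeal).symm
  intro y
  induction y with
  | bot => simp
  | coe y =>
    induction y with
    | top =>
      convert isOpen_iUnion key using 1
      ext P
      simp only [Set.mem_preimage, Set.mem_Iio, Set.mem_iUnion, Set.mem_setOf_eq]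
      refine ⟨fun h => ?_, fun ⟨n, h⟩ => h.trans_le le_top⟩
      cases hd : projectiveDimension (ModuleCat.of
        (Localization.AtPrime P.asIdeal ⧸ (P.asIdeal.under A).map (algebraMap A (Localization.AtPrime P.asIdeal)))
        ((Localization.AtPrime P.asIdeal ⧸ (P.asIdeal.under A).map (algebraMap A (Localization.AtPrime P.asIdeal))) ⊗[B] M)) with
      | bot => exact ⟨0, WithBot.bot_lt_coe _⟩
      | coe d =>
        rw [hd, WithBot.coe_lt_coe] at h
        lift d to ℕ using h.ne
        exact ⟨d + 1, by exact_mod_cast Nat.lt_succ_self d⟩
    | coe m => exact key m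

end Groth.Agent.S19197
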