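import Groth.Statements.S19198
import Groth.Agent.Lib.BiratPt18.Main
import Groth.Agent.Lib.BiratPt18.Global
import Groth.Agent.Lib.Norm11.Dense
import Groth.Agent.Lib.FlatH4.GenPt

set_option autoImplicit false
set_option linter.style.haveILetI false
set_option backward.isDefEq.respectTransparency false
universe u
open CategoryTheory AlgebraicGeometry
open Models

namespace Groth.Agent.S19198

open Groth.Agent.FlatH4 (IsMaxPt)

section
variable {R : Type u} [CommRing R] [IsDomain R]

theorem mem_basicOpen_of_isMaxPt {T : Scheme.{u}} (h : T ⟶ Spec (CommRingCat.of R)) [Flat h] {ϖ : R} (hϖ : ϖ ≠ 0)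
    {t : T} (ht : IsMaxPt t) : t ∈ h ⁻¹ᵁ PrimeSpectrum.basicOpen ϖ := by
  let η : Spec (CommRingCat.of R) := ⟨⊥, Ideal.isPrime_bot⟩
  have hη : η ⤳ h t := (PrimeSpectrum.le_iff_specializes η (h t)).1 (bot_le (a := (h t).asIdeal))
  obtain ⟨w, hw, hwη⟩ := Flat.generalizingMap h hη
  rw [ht w hw] at hwη
  show h t ∈ PrimeSpectrum.basicOpen ϖ
  rw [hwη]
  exact fun h0 => hϖ h0

theorem isIntegral_of_flat {T : Scheme.{u}} (h : T ⟶ Spec (CommRingCat.of R)) [Flat h] {ϖ : R} (hϖ : ϖ ≠ 0)
    [IsIntegral (h ⁻¹ᵁ PrimeSpectrum.basicOpen ϖ : Scheme.{u})] : IsIntegral T := by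
  let O := h ⁻¹ᵁ PrimeSpectrum.basicOpen ϖ
  haveI : IrreducibleSpace T := by
    rw [irreducibleSpace_def]
    have hd : Dense (O : Set T) := fun z => by
      obtain ⟨η, hη, hz⟩ := FlatH4.exists_isMaxPt_specializes z
      exact hz.mem_closed isClosed_closure (subset_closure (mem_basicOpen_of_isMaxPt h hϖ hη))
    have h1 : IsIrreducible (O : Set T) := by
      have := (IrreducibleSpace.isIrreducible_univ (O : Scheme.{u})).image O.ι O.ι.continuous.continuousOn
      rwa [Set.image_univ, Scheme.Opens.range_ι] at this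
    have h2 := h1.closure
    rwa [hd.closure_eq] at h2
  haveI : IsReduced T := by
    haveI : ∀ t : T, _root_.IsReduced (T.presheaf.stalk t) := fun t => by
      obtain ⟨U, hU, htU, -⟩ := exists_isAffineOpen_mem_and_subset (x := t) (U := ⊤) trivial
      have hfl := h.flat_appLE (isAffineOpen_top _) hU (le_top : U ≤ h ⁻¹ᵁ ⊤)
      let a : Γ(T, U) := h.appLE ⊤ U le_top ((Scheme.ΓSpecIso (CommRingCat.of R)).inv ϖ)
      have ha : a ∈ nonZeroDivisors Γ(T, U) := by
        refine mem_nonZeroDivisors_iff_right.2 fun b hb => ?_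
        letI := (h.appLE ⊤ U le_top).hom.toAlgebra
        haveI : Module.Flat Γ(Spec (CommRingCat.of R), ⊤) Γ(T, U) := hfl
        haveI : IsDomain Γ(Spec (CommRingCat.of R), ⊤) :=
          (Scheme.ΓSpecIso (CommRingCat.of R)).commRingCatIsoToRingEquiv.toMulEquiv.isDomain R
        have hne : (Scheme.ΓSpecIso (CommRingCat.of R)).inv ϖ ≠ 0 := fun h0 => hϖ
          ((Scheme.ΓSpecIso (CommRingCat.of R)).commRingCatIsoToRingEquiv.symm.injective (h0.trans (map_zero _).symm))
        have hs := Module.Flat.isSMulRegular_of_isRegular (M := Γ(T, U)) (isRegular_of_ne_zero hne)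
        refine hs (?_ : _ • b = _ • (0 : Γ(T, U)))
        rw [smul_zero, Algebra.smul_def, RingHom.algebraMap_toAlgebra, mul_comm]
        exact hb
      have hle : T.basicOpen a ≤ O := by
        show T.basicOpen (h.appLE ⊤ U le_top ((Scheme.ΓSpecIso (CommRingCat.of R)).inv ϖ)) ≤ _
        rw [Scheme.basicOpen_appLE, basicOpen_eq_of_affine]
        exact inf_le_right
      haveI : IsReduced (T.basicOpen a : Scheme.{u}) := isReduced_of_isOpenImmersion (T.homOfLE hle)
      haveI : _root_.IsReduced Γ(T, T.basicOpen a) := by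
        have := IsReduced.component_reduced (X := (T.basicOpen a : Scheme.{u})) ⊤
        exact isReduced_of_injective (T.basicOpen a).topIso.inv.hom
          (ConcreteCategory.bijective_of_isIso (T.basicOpen a).topIso.inv).1
      haveI := hU.isLocalization_basicOpen a
      haveI : _root_.IsReduced Γ(T, U) := isReduced_of_injective (algebraMap Γ(T, U) Γ(T, T.basicOpen a))
        (IsLocalization.injective _ (Submonoid.powers_le.2 ha))
      let := TopCat.Presheaf.algebra_section_stalk T.presheaf (⟨t, htU⟩ : U)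
      haveI := hU.isLocalization_stalk ⟨t, htU⟩
      exact isReduced_localizationPreserves (hU.primeIdealOf ⟨t, htU⟩).asIdeal.primeCompl _ inferInstance
    exact isReduced_of_isReduced_stalk T
  exact isIntegral_of_irreducibleSpace_of_isReduced T

end

/-- Form over the valuation ring: let R be a discrete valuation ring with a uniformizer ϖ, let C → Spec
R be flat and locally of finite type, f : X → C proper, and Z → X a closed immersion with Z flat
over R such that the composite Z → C restricts to an isomorphism over the generic fibre, the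
preimage of the open set D(ϖ) of Spec R. Then for every point c of C whose local ring is an
integrally closed domain of Krull dimension one (a codimension-one point at which C is normal, for
instance a generic point of the closed fibre lying in the smooth locus), there is an open
neighbourhood V of c over which Z → C is an isomorphism. (The published statement, that the closed
fibre of such a Z maps isomorphically onto the closed fibre of C over every generic point of its
smooth locus, also after a finite extension of R, follows by restriction to the closed fibre and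
flat descent.) -/
theorem result (R : Type u) [CommRing R] [IsDomain R]
    [IsDiscreteValuationRing R] {C X Z : Scheme.{u}} (πC : C ⟶ Spec (CommRingCat.of R)) [Flat πC]
    [LocallyOfFiniteType πC] (f : X ⟶ C) [IsProper f] (i : Z ⟶ X) [IsClosedImmersion i]
    [Flat ((i ≫ f) ≫ πC)] (ϖ : R) (hϖ : Irreducible ϖ)
    (hgen : IsIso ((i ≫ f) ∣_ (πC ⁻¹ᵁ (PrimeSpectrum.basicOpen ϖ))))
    (c : C) (hdom : IsDomain (C.presheaf.stalk c)) (hnorm : IsIntegrallyClosed (C.presheaf.stalk c))
    (hdim : ringKrullDim (C.presheaf.stalk c) = 1) :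
    ∃ V : C.Opens, c ∈ V ∧ IsIso ((i ≫ f) ∣_ V) := by
  haveI : IsLocallyNoetherian C := LocallyOfFiniteType.isLocallyNoetherian πC
  haveI := hdom
  obtain ⟨W, hW, hcW, -, hWd⟩ := Norm11.exists_affine_isDomain (X := C) (W := ⊤) (x := c) trivial
  haveI : IsDomain Γ(C, W) := hWd
  haveI : IsAffine (W : Scheme.{u}) := hW
  haveI : Nonempty (W : Scheme.{u}) := ⟨⟨c, hcW⟩⟩
  haveI : IsDomain Γ((W : Scheme.{u}), ⊤) := W.topIso.commRingCatIsoToRingEquiv.toMulEquiv.isDomain Γ(C, W)
  haveI : IsIntegral (W : Scheme.{u}) := isIntegral_of_isOpenImmersion (W : Scheme.{u}).isoSpec.hom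
  let g := (i ≫ f) ∣_ W
  let O : (W : Scheme.{u}).Opens := W.ι ⁻¹ᵁ (πC ⁻¹ᵁ (PrimeSpectrum.basicOpen ϖ))
  haveI : IsIso (g ∣_ O) := by
    let G := πC ⁻¹ᵁ (PrimeSpectrum.basicOpen ϖ)
    have hle : W.ι ''ᵁ O ≤ G := by
      rintro _ ⟨z, hz, rfl⟩
      exact hz
    have heq : G.ι ''ᵁ (G.ι ⁻¹ᵁ (W.ι ''ᵁ O)) = W.ι ''ᵁ O := by
      rw [Scheme.Hom.image_preimage_eq_opensRange_inf, Scheme.Opens.opensRange_ι, inf_eq_right.2 hle]
    have h1 : IsIso ((i ≫ f) ∣_ (W.ι ''ᵁ O)) := by
      haveI := hgen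
      rw [← heq]
      exact ((MorphismProperty.isomorphisms Scheme).arrow_mk_iso_iff (morphismRestrictRestrict (i ≫ f) G _)).1
        (inferInstance : IsIso (((i ≫ f) ∣_ G) ∣_ (G.ι ⁻¹ᵁ (W.ι ''ᵁ O))))
    exact ((MorphismProperty.isomorphisms Scheme).arrow_mk_iso_iff (morphismRestrictRestrict (i ≫ f) W O)).2 h1
  obtain ⟨η, hη, hηc⟩ := FlatH4.exists_isMaxPt_specializes (X := (W : Scheme.{u})) ⟨c, hcW⟩
  have hηO : η ∈ O := mem_basicOpen_of_isMaxPt (W.ι ≫ πC) hϖ.ne_zero hη
  haveI : Nonempty O := ⟨⟨η, hηO⟩⟩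
  haveI : IsIntegral (O : Scheme.{u}) := isIntegral_of_isOpenImmersion O.ι
  haveI : Nonempty (g ⁻¹ᵁ O : Scheme.{u}) := ⟨(inv (g ∣_ O)).base ⟨η, hηO⟩⟩
  haveI : IsIntegral (g ⁻¹ᵁ O : Scheme.{u}) := isIntegral_of_isOpenImmersion (g ∣_ O)
  have hfac : g ≫ W.ι ≫ πC = ((i ≫ f) ⁻¹ᵁ W).ι ≫ (i ≫ f) ≫ πC := by
    simp only [g, ← Category.assoc, morphismRestrict_ι]
  haveI : Flat (g ≫ W.ι ≫ πC) := hfac ▸ inferInstance
  haveI : IsIntegral ((g ≫ W.ι ≫ πC) ⁻¹ᵁ PrimeSpectrum.basicOpen ϖ : Scheme.{u}) :=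
    inferInstanceAs (IsIntegral (g ⁻¹ᵁ O : Scheme.{u}))
  haveI : IsIntegral ((i ≫ f) ⁻¹ᵁ W : Scheme.{u}) := isIntegral_of_flat (g ≫ W.ι ≫ πC) hϖ.ne_zero
  haveI : IsProper g := inferInstance
  obtain ⟨hg, hb⟩ := BiratPt18.birational_of_isIso_restrict g O ⟨η, hηO⟩ inferInstance
  haveI : IsLocallyNoetherian (W : Scheme.{u}) := isLocallyNoetherian_of_isOpenImmersion W.ι
  obtain ⟨y, hy⟩ := BiratPt18.surjective g hg ⟨c, hcW⟩
  let e := (W.stalkIso ⟨c, hcW⟩).commRingCatIsoToRingEquiv
  have hd : ringKrullDim ((W : Scheme.{u}).presheaf.stalk (g y)) ≤ 1 := by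
    rw [hy, ringKrullDim_eq_of_ringEquiv e, hdim]
  have hn : IsIntegrallyClosed ((W : Scheme.{u}).presheaf.stalk (g y)) := by
    rw [hy]
    haveI := hnorm
    exact IsIntegrallyClosed.of_equiv e.symm
  obtain ⟨V, hcV, hV⟩ := BiratPt18.exists_isIso_restrict g hg hb y hn (BiratPt18.quasiFiniteAt_of_dim_le_one g hb y hd)
  refine ⟨W.ι ''ᵁ V, ⟨g y, hcV, congrArg Subtype.val hy⟩, ?_⟩
  exact ((MorphismProperty.isomorphisms Scheme).arrow_mk_iso_iff (morphismRestrictRestrict (i ≫ f) W V)).1 hV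

end Groth.Agent.S19198
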