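import Groth.Statements.S19202
import Mathlib

set_option autoImplicit false
universe u
open CategoryTheory AlgebraicGeometry
open FlatMor

namespace Groth.Agent.S19202

open AlgebraicGeometry CategoryTheory

set_option backward.isDefEq.respectTransparency.types false

section

variable {R : Type u} [CommRing R] {Z : Scheme.{u}} (p : Z ⟶ Spec (CommRingCat.of R))

/-- The structure map on sections. -/
noncomputable def str (V : Z.Opens) : R →+* Γ(Z, V) :=
  ((Scheme.ΓSpecIso (CommRingCat.of R)).inv ≫ p.appLE ⊤ V le_top).hom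

theorem map_str {V W : Z.Opens} (h : W ≤ V) (r : R) :
    Z.presheaf.map (homOfLE h).op (str p V r) = str p W r := by
  show (((Scheme.ΓSpecIso (CommRingCat.of R)).inv ≫ p.appLE ⊤ V le_top) ≫
    Z.presheaf.map (homOfLE h).op) r = _
  rw [Category.assoc, Scheme.Hom.appLE_map]
  rfl

theorem flat_str [Flat p] {W : Z.Opens} (hW : IsAffineOpen W) : (str p W).Flat := by
  refine RingHom.Flat.comp (RingHom.Flat.of_bijective ?_) ?_
  · exact (Scheme.ΓSpecIso (CommRingCat.of R)).commRingCatIsoToRingEquiv.symm.bijective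
  · exact HasRingHomProperty.appLE @Flat p inferInstance ⟨⊤, isAffineOpen_top _⟩ ⟨W, hW⟩ le_top

theorem regular_str [IsDomain R] [Flat p] {V : Z.Opens} {r : R} (hr : r ≠ 0) (z : Γ(Z, V))
    (h : str p V r * z = 0) : z = 0 := by
  apply Z.IsSheaf.section_ext
  intro x hx
  obtain ⟨W, hW, hxW, hWV⟩ := exists_isAffineOpen_mem_and_subset (X := Z) (x := x) (U := V) hx
  have hWV : W ≤ V := hWV
  refine ⟨W, hWV, hxW, ?_⟩
  have h' := congrArg (Z.presheaf.map (homOfLE hWV).op) h
  rw [map_mul, map_str, map_zero] at h'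
  show Z.presheaf.map (homOfLE hWV).op z = Z.presheaf.map (homOfLE hWV).op 0
  rw [map_zero]
  let _ := (str p W).toAlgebra
  have : Module.Flat R Γ(Z, W) := flat_str p hW
  exact (IsRegular.of_ne_zero hr).isSMulRegular.right_eq_zero_of_smul h'

/-- The sections killed into `J` by a global element. -/
noncomputable def colon (J : Z.IdealSheafData) (r : R) : Z.IdealSheafData where
  ideal U := Submodule.comap (LinearMap.mulLeft Γ(Z, U.1) (str p U.1 r)) (J.ideal U)
  map_ideal_basicOpen U g := by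
    let res := (Z.presheaf.map (homOfLE (Z.basicOpen_le g)).op).hom
    let _ : Algebra Γ(Z, U.1) Γ(Z, Z.basicOpen g) := res.toAlgebra
    have : IsLocalization.Away g Γ(Z, Z.basicOpen g) := U.2.isLocalization_basicOpen g
    refine le_antisymm (Ideal.map_le_iff_le_comap.2 fun x hx => ?_) fun y hy => ?_
    · show str p (Z.basicOpen g) r * res x ∈ J.ideal (Z.affineBasicOpen g)
      rw [← map_str p (Z.basicOpen_le g), ← J.map_ideal_basicOpen U g]
      exact (map_mul res _ x) ▸ Ideal.mem_map_of_mem res hx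
    · have hy' : str p (Z.basicOpen g) r * y ∈ (J.ideal U).map res :=
        (J.map_ideal_basicOpen U g).ge hy
      obtain ⟨⟨x, s⟩, hxs⟩ := IsLocalization.surj (Submonoid.powers g) y
      have h1 : algebraMap Γ(Z, U.1) Γ(Z, Z.basicOpen g) (str p U.1 r * x) ∈
          (J.ideal U).map (algebraMap Γ(Z, U.1) Γ(Z, Z.basicOpen g)) := by
        rw [map_mul, ← hxs, ← mul_assoc,
          show algebraMap Γ(Z, U.1) Γ(Z, Z.basicOpen g) (str p U.1 r) = str p (Z.basicOpen g) r from
            map_str p _ r]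
        exact Ideal.mul_mem_right _ _ hy'
      rw [IsLocalization.algebraMap_mem_map_algebraMap_iff (Submonoid.powers g)] at h1
      obtain ⟨m, hm, hmx⟩ := h1
      have h2 : res (m * x) ∈ Ideal.map res
          (Submodule.comap (LinearMap.mulLeft Γ(Z, U.1) (str p U.1 r)) (J.ideal U)) :=
        Ideal.mem_map_of_mem res (show str p U.1 r * (m * x) ∈ J.ideal U by rwa [mul_left_comm])
      rw [map_mul] at h2
      change algebraMap Γ(Z, U.1) Γ(Z, Z.basicOpen g) m * algebraMap Γ(Z, U.1) Γ(Z, Z.basicOpen g) x ∈ _ at h2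
      rw [Ideal.unit_mul_mem_iff_mem _ (IsLocalization.map_units (M := Submonoid.powers g) _ ⟨m, hm⟩)] at h2
      rw [← hxs, mul_comm] at h2
      exact (Ideal.unit_mul_mem_iff_mem _ (IsLocalization.map_units _ s)).1 h2

end

/-- Let R be a Dedekind domain, X and Y schemes over Spec R with X flat over Spec R, and f : X → Y a
morphism over Spec R. Then the scheme-theoretic image of f, i.e. the closed subscheme of Y cut out
by the kernel ideal sheaf of f, is flat over Spec R. (The published statement takes the base to be a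
non-singular curve and f proper; this row takes the spectrum of any Dedekind domain and any morphism
f over it.) -/
theorem result (R : Type u) [CommRing R] [IsDedekindDomain R]
    {X Y : Scheme.{u}} (p : X ⟶ Spec (CommRingCat.of R)) (q : Y ⟶ Spec (CommRingCat.of R))
    (f : X ⟶ Y) (w : f ≫ q = p) [Flat p] : Flat (f.imageι ≫ q) := by
  subst w
  have hJ : ∀ (U : Y.affineOpens) (r : R), r ≠ 0 → ∀ x, str q U.1 r * x ∈ f.ker.ideal U →
      x ∈ f.ker.ideal U := by
    intro U r hr
    suffices colon q f.ker r ≤ f.ker from fun x hx => this U hx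
    refine Scheme.IdealSheafData.le_ofIdeals_iff.2 fun V x hx => ?_
    have hx' := f.ideal_ker_le V hx
    rw [RingHom.mem_ker, LinearMap.mulLeft_apply, map_mul] at hx'
    have : f.app V.1 (str q V.1 r) = str (f ≫ q) (f ⁻¹ᵁ V.1) r := by
      show (((Scheme.ΓSpecIso (CommRingCat.of R)).inv ≫ q.appLE ⊤ V.1 le_top) ≫ f.app V.1) r = _
      rw [Category.assoc, f.app_eq_appLE, Scheme.Hom.appLE_comp_appLE]
      rfl
    exact regular_str (f ≫ q) hr _ (this ▸ hx')
  rw [HasRingHomProperty.iff_exists_appLE (P := @Flat) (RingHom.Flat.stableUnderComposition.stableUnderCompositionWithLocalizationAway RingHom.Flat.holdsForLocalizationAway).1]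
  intro z
  obtain ⟨V, hV, hzV, -⟩ := exists_isAffineOpen_mem_and_subset (X := Y) (x := f.imageι z) (U := ⊤) trivial
  refine ⟨⟨⊤, isAffineOpen_top _⟩, ⟨f.imageι ⁻¹ᵁ V, hV.preimage f.imageι⟩, hzV, le_top, ?_⟩
  let ψ : R →+* Γ(f.image, f.imageι ⁻¹ᵁ V) := (f.imageι.app V).hom.comp (str q V)
  have hψ : ψ.Flat := by
    let _ := ψ.toAlgebra
    show Module.Flat R Γ(f.image, f.imageι ⁻¹ᵁ V)
    rw [IsDedekindDomain.flat_iff_torsion_eq_bot, eq_bot_iff]
    rintro y ⟨⟨r, hr⟩, hry⟩
    obtain ⟨x, rfl⟩ : ∃ x, f.imageι.app V x = y :=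
      f.imageι.app_surjective V hV y
    have hr0 : r ≠ 0 := nonZeroDivisors.ne_zero hr
    have hx : str q V r * x ∈ f.ker.ideal ⟨V, hV⟩ := by
      rw [← Scheme.IdealSheafData.ker_subschemeι_app f.ker ⟨V, hV⟩, RingHom.mem_ker, map_mul]
      exact hry
    have := hJ ⟨V, hV⟩ r hr0 x hx
    rw [← Scheme.IdealSheafData.ker_subschemeι_app f.ker ⟨V, hV⟩, RingHom.mem_ker] at this
    exact (Submodule.mem_bot R).2 this
  have he : (((f.imageι ≫ q).appLE ⊤ (f.imageι ⁻¹ᵁ V) le_top).hom) =
      ψ.comp (Scheme.ΓSpecIso (CommRingCat.of R)).hom.hom := by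
    have hh : (f.imageι ≫ q).appLE ⊤ (f.imageι ⁻¹ᵁ V) le_top =
        (Scheme.ΓSpecIso (CommRingCat.of R)).hom ≫
          ((Scheme.ΓSpecIso (CommRingCat.of R)).inv ≫ q.appLE ⊤ V le_top) ≫ f.imageι.app V := by
      rw [Category.assoc, Iso.hom_inv_id_assoc, f.imageι.app_eq_appLE, Scheme.Hom.appLE_comp_appLE]
    exact congrArg CommRingCat.Hom.hom hh
  rw [he]
  exact RingHom.Flat.comp
    (RingHom.Flat.of_bijective (Scheme.ΓSpecIso (CommRingCat.of R)).commRingCatIsoToRingEquiv.bijective) hψ

end Groth.Agent.S19202
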