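import Groth.Statements.S19204
import Groth.Agent.Lib.VB17.Proper
import Groth.Agent.Lib.CurveCoh17.Clifford
import Groth.Agent.Lib.CurveCoh17.HZero
-- import your own Groth.Agent.* helpers here

set_option autoImplicit false
universe u
open CategoryTheory AlgebraicGeometry
open Curves

namespace Groth.Agent.S19204

/-- Let C be a smooth projective curve of genus g ≥ 1 over an algebraically closed field k (an integral
scheme, proper over k, of dimension one, all local rings regular) and d an integer with d > 2g. For
every invertible O_C-module M of degree d' ≤ d having at least m + 1 linearly independent global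
sections with m ≥ 1, and with d' < d or m < d − g, one has d·m < d'·(d − g). Linear stability of C
mapped to P^{d−g} by all sections of a line bundle of degree d, which is what the published
statement asserts, follows from this inequality: a projection of that image to P^m has image cycle
of degree d' = deg M for such an M, so its reduced degree d'/m exceeds d/(d − g); linear stability
itself (reduced degrees of projections of an embedded variety) is not formalized here. -/
theorem result (k : Type u) [Field k] [IsAlgClosed k] (X : Scheme.{u})
    [X.Over (Spec (CommRingCat.of k))] [IsIntegral X] [IsProper (X ↘ (Spec (CommRingCat.of k)))]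
    (hdim : topologicalKrullDim X = 1) (hreg : ∀ x : X, IsRegularLocalRing (X.presheaf.stalk x))
    (hg : 1 ≤ Curv2.genus k X) (d : ℤ) (hd : 2 * (Curv2.genus k X : ℤ) < d)
    (M : X.Modules) (hM : PicF.IsInvertible M) (m : ℕ) (hm : 1 ≤ m)
    (hsec : m + 1 ≤ Module.finrank k (Coh.HH X M 0)) (hdeg : Curv2.deg k X M 1 ≤ d)
    (hlt : Curv2.deg k X M 1 < d ∨ (m : ℤ) < d - Curv2.genus k X) :
    d * (m : ℤ) < Curv2.deg k X M 1 * (d - Curv2.genus k X) := by
  have hX := VB17.curveLike (k := k) hdim
  haveI := hX.noetherian
  have h0 := hX.h0_eq_one
  have hF := CurveCoh17.rkOne_of_invertible hdim.le hM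
  have hs : Nontrivial (Coh.HH X M 0) := Module.nontrivial_of_finrank_pos (R := k) (by omega)
  have hrr := hX.rr hF.coh
  rw [h0] at hrr
  set d' := Curv2.deg k X M 1
  by_cases h1 : Nontrivial (Coh.HH X M 1)
  · have hc := hX.clifford hF hs h1
    rw [h0] at hc
    have h2 : 2 * (m : ℤ) ≤ d' := by omega
    nlinarith
  · rw [not_nontrivial_iff_subsingleton] at h1
    rw [Module.finrank_zero_of_subsingleton (M := Coh.HH X M 1)] at hrr
    have h2 : (m : ℤ) + Curv2.genus k X ≤ d' := by omega
    have h3 : (0 : ℤ) < d - Curv2.genus k X - m := by rcases hlt with h | h <;> omega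
    nlinarith [mul_pos (by omega : (0:ℤ) < Curv2.genus k X) h3, mul_le_mul_of_nonneg_right h2 (by omega : (0:ℤ) ≤ d - Curv2.genus k X)]

end Groth.Agent.S19204
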