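import Mathlib.RingTheory.KrullDimension.Basic
import Mathlib.RingTheory.Length
import Mathlib.RingTheory.Ideal.Quotient.Operations
import Mathlib.RingTheory.Noetherian.Defs
import Mathlib.RingTheory.LocalRing.MaximalIdeal.Basic
import Mathlib.Topology.Instances.Real.Lemmas
import Mathlib.Data.Nat.Factorial.Basic
import Mathlib.Order.Filter.AtTopBot.Defs
import Mathlib.Algebra.Algebra.Defs
import Groth.Agent.Lib.Mult6.Samuel

set_option autoImplicit false
universe u
open Filter
namespace LocAlg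
end LocAlg
open LocAlg

namespace Groth.Agent.S19208

/-- Let O be a Noetherian local ring of Krull dimension r containing a field, with maximal ideal m. The
zeroth flat multiplicity e_0(O), the supremum over m-primary ideals I of e(I)/(r!·length(O/I)) with
e(I) the Samuel multiplicity, is at least 1: for every ε > 0 there is an m-primary ideal I (I ⊆ m,
m^N ⊆ I for some N) whose multiplicity e(I), the limit of r!·length(O/I^n)/n^r, satisfies e(I) ≥ (1
− ε)·r!·length(O/I). (The same statement for the power-series rings O[[t_1, …, t_k]] is the bound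
e_k(O) ≥ 1 for the k-th flat multiplicity.) -/
theorem result (O : Type u) [CommRing O] [IsNoetherianRing O]
    [IsLocalRing O] (K : Type u) [Field K] [Algebra K O] (r : ℕ) (hr : ringKrullDim O = r)
    (ε : ℝ) (hε : 0 < ε) :
    ∃ (I : Ideal O) (e : ℝ), I ≤ IsLocalRing.maximalIdeal O ∧
      (∃ N : ℕ, IsLocalRing.maximalIdeal O ^ N ≤ I) ∧
      Tendsto (fun n : ℕ => (r.factorial : ℝ) * ((Module.length O (O ⧸ I ^ n)).toNat : ℝ) / (n : ℝ) ^ r)
        atTop (nhds e) ∧
      (1 - ε) * ((r.factorial : ℝ) * ((Module.length O (O ⧸ I)).toNat : ℝ)) ≤ e := by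
  obtain ⟨q, hq, hpos, -, ht⟩ := Groth.Agent.Mult6.exists_samuel_maximal (A := O) hr
  have hc : (1 - ε) * ((q.coeff r : ℚ) : ℝ) < ((q.coeff r : ℚ) : ℝ) := by
    have : (0 : ℝ) < ((q.coeff r : ℚ) : ℝ) := by exact_mod_cast hpos
    nlinarith
  obtain ⟨n, hn, hn1⟩ := (((ht.const_mul (1 - ε)).eventually_lt_const hc).and
    (Filter.eventually_ge_atTop 1)).exists
  refine ⟨IsLocalRing.maximalIdeal O ^ n, (r.factorial : ℝ) * (((q.coeff r : ℚ) : ℝ) * (n : ℝ) ^ r),
    Ideal.pow_le_self (by omega), ⟨n, le_rfl⟩, ?_, ?_⟩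
  · have h1 := ((ht.comp (Filter.tendsto_atTop_mono (f := fun k : ℕ => k) (g := fun k : ℕ => n * k)
      (fun k => Nat.le_mul_of_pos_left k hn1) Filter.tendsto_id)).mul_const ((n : ℝ) ^ r)).const_mul (r.factorial : ℝ)
    refine h1.congr' ?_
    filter_upwards [Filter.eventually_ge_atTop 1] with k hk
    have hk0 : (k : ℝ) ^ r ≠ 0 := pow_ne_zero _ (by positivity)
    have hn0 : (n : ℝ) ^ r ≠ 0 := pow_ne_zero _ (by positivity)
    simp only [Function.comp_apply]
    rw [← pow_mul, Nat.cast_mul, mul_pow]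
    field_simp
  · have hn0 : (0 : ℝ) < (n : ℝ) ^ r := by positivity
    rw [← mul_div_assoc, div_lt_iff₀ hn0] at hn
    calc (1 - ε) * ((r.factorial : ℝ) * ((Module.length O (O ⧸ IsLocalRing.maximalIdeal O ^ n)).toNat : ℝ))
        = (r.factorial : ℝ) * ((1 - ε) * ((Module.length O (O ⧸ IsLocalRing.maximalIdeal O ^ n)).toNat : ℝ)) := by ring
      _ ≤ _ := mul_le_mul_of_nonneg_left hn.le (Nat.cast_nonneg _)

end Groth.Agent.S19208
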