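import Groth.Statements.S19210
import Mathlib
-- import your own Groth.Agent.* helpers here

set_option autoImplicit false
universe u
open LocAlg

namespace Groth.Agent.S19210

theorem base (b : ℕ) : ∃ C : ℝ, ∀ n : ℕ, 1 ≤ n →
    |(∑ i ∈ Finset.range n, (i : ℝ) ^ b) - 1 / ((b : ℝ) + 1) * (n : ℝ) ^ (b + 1)| ≤
      C * (n : ℝ) ^ b := by
  match b with
  | 0 => exact ⟨0, fun n _ => by simp⟩
  | c + 1 =>
    refine ⟨2 ^ (c + 2), fun n hn => ?_⟩
    let D : ℕ → ℝ := fun i => ∑ k ∈ Finset.range (c + 1), (i : ℝ) ^ k * ((c + 2).choose k : ℝ)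
    have hD : ∀ i : ℕ, ((i + 1 : ℕ) : ℝ) ^ (c + 2) - (i : ℝ) ^ (c + 2) =
        D i + ((c : ℝ) + 2) * (i : ℝ) ^ (c + 1) := by
      intro i
      push_cast
      rw [add_pow, Finset.sum_range_succ, Finset.sum_range_succ]
      simp only [one_pow, mul_one, D]
      rw [Nat.choose_self, show c + 1 + 1 = c + 2 from rfl, Nat.choose_succ_self_right]
      push_cast
      ring
    have htel : (n : ℝ) ^ (c + 2) =
        (∑ i ∈ Finset.range n, D i) + ((c : ℝ) + 2) * ∑ i ∈ Finset.range n, (i : ℝ) ^ (c + 1) := by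
      rw [Finset.mul_sum, ← Finset.sum_add_distrib, ← Finset.sum_congr rfl fun i _ => hD i,
        Finset.sum_range_sub (fun i : ℕ => (i : ℝ) ^ (c + 2))]
      simp
    have hD0 : 0 ≤ ∑ i ∈ Finset.range n, D i :=
      Finset.sum_nonneg fun i _ => Finset.sum_nonneg fun k _ => by positivity
    have hD1 : ∑ i ∈ Finset.range n, D i ≤ (n : ℝ) * (2 ^ (c + 2) * (n : ℝ) ^ c) := by
      have : ∀ i ∈ Finset.range n, D i ≤ 2 ^ (c + 2) * (n : ℝ) ^ c := by
        intro i hi
        calc D i ≤ ∑ k ∈ Finset.range (c + 1), (n : ℝ) ^ c * ((c + 2).choose k : ℝ) := by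
              refine Finset.sum_le_sum fun k hk => ?_
              refine mul_le_mul_of_nonneg_right ?_ (by positivity)
              exact (pow_le_pow_left₀ (by positivity)
                (Nat.cast_le.mpr (Finset.mem_range.mp hi).le) k).trans
                (pow_le_pow_right₀ (by exact_mod_cast hn)
                  (Nat.lt_succ_iff.mp (Finset.mem_range.mp hk)))
          _ ≤ ∑ k ∈ Finset.range (c + 2 + 1), (n : ℝ) ^ c * ((c + 2).choose k : ℝ) :=
              Finset.sum_le_sum_of_subset_of_nonneg (Finset.range_mono (by omega))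
                fun k _ _ => by positivity
          _ = 2 ^ (c + 2) * (n : ℝ) ^ c := by
              rw [← Finset.mul_sum, mul_comm, ← Nat.cast_sum, Nat.sum_range_choose]
              push_cast
              ring
      simpa using Finset.sum_le_sum this
    have key : (∑ i ∈ Finset.range n, (i : ℝ) ^ (c + 1)) -
        1 / (((c + 1 : ℕ) : ℝ) + 1) * (n : ℝ) ^ (c + 1 + 1) =
        -((∑ i ∈ Finset.range n, D i) / ((c : ℝ) + 2)) := by
      rw [show c + 1 + 1 = c + 2 from rfl, htel]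
      push_cast
      field_simp
      ring
    rw [key, abs_neg, abs_of_nonneg (by positivity)]
    refine (div_le_self hD0 (by linarith [(Nat.cast_nonneg c : (0 : ℝ) ≤ c)])).trans (hD1.trans ?_)
    rw [pow_succ]
    exact le_of_eq (by ring)

theorem main (a b : ℕ) : ∃ C : ℝ, ∀ n : ℕ, 1 ≤ n →
    |(∑ i ∈ Finset.range n, ((n : ℝ) - (i : ℝ)) ^ a * (i : ℝ) ^ b) -
      (a.factorial : ℝ) * (b.factorial : ℝ) / ((a + b + 1).factorial : ℝ) * (n : ℝ) ^ (a + b + 1)| ≤
    C * (n : ℝ) ^ (a + b) := by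
  induction a generalizing b with
  | zero =>
    obtain ⟨C, hC⟩ := base b
    refine ⟨C, fun n hn => ?_⟩
    convert hC n hn using 2
    · simp only [pow_zero, one_mul, zero_add]
      congr 1
      rw [Nat.factorial_succ]
      push_cast
      field_simp
      simp
    · simp
  | succ a ih =>
    obtain ⟨C₁, h₁⟩ := ih b
    obtain ⟨C₂, h₂⟩ := ih (b + 1)
    refine ⟨C₁ + C₂, fun n hn => ?_⟩
    have hs : (∑ i ∈ Finset.range n, ((n : ℝ) - (i : ℝ)) ^ (a + 1) * (i : ℝ) ^ b) =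
        (n : ℝ) * (∑ i ∈ Finset.range n, ((n : ℝ) - (i : ℝ)) ^ a * (i : ℝ) ^ b) -
        ∑ i ∈ Finset.range n, ((n : ℝ) - (i : ℝ)) ^ a * (i : ℝ) ^ (b + 1) := by
      rw [Finset.mul_sum, ← Finset.sum_sub_distrib]
      exact Finset.sum_congr rfl fun i _ => by ring
    have hf : ((a + 1).factorial : ℝ) * (b.factorial : ℝ) / ((a + 1 + b + 1).factorial : ℝ) =
        (a.factorial : ℝ) * (b.factorial : ℝ) / ((a + b + 1).factorial : ℝ) -
        (a.factorial : ℝ) * ((b + 1).factorial : ℝ) / ((a + (b + 1) + 1).factorial : ℝ) := by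
      rw [show a + 1 + b + 1 = (a + b + 1) + 1 by omega,
        show a + (b + 1) + 1 = (a + b + 1) + 1 by omega, Nat.factorial_succ a, Nat.factorial_succ b,
        Nat.factorial_succ (a + b + 1)]
      have := Nat.factorial_pos (a + b + 1)
      push_cast
      field_simp
      ring
    have e1 := h₁ n hn
    have e2 := h₂ n hn
    rw [hs, hf]
    have hn' : (0 : ℝ) ≤ n := Nat.cast_nonneg n
    calc _ = |(n : ℝ) * ((∑ i ∈ Finset.range n, ((n : ℝ) - (i : ℝ)) ^ a * (i : ℝ) ^ b) -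
            (a.factorial : ℝ) * (b.factorial : ℝ) / ((a + b + 1).factorial : ℝ) * (n : ℝ) ^ (a + b + 1)) -
          ((∑ i ∈ Finset.range n, ((n : ℝ) - (i : ℝ)) ^ a * (i : ℝ) ^ (b + 1)) -
            (a.factorial : ℝ) * ((b + 1).factorial : ℝ) / ((a + (b + 1) + 1).factorial : ℝ) *
              (n : ℝ) ^ (a + (b + 1) + 1))| := by congr 1; ring
      _ ≤ (n : ℝ) * (C₁ * (n : ℝ) ^ (a + b)) + C₂ * (n : ℝ) ^ (a + (b + 1)) := by
        refine (abs_sub _ _).trans (add_le_add ?_ e2)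
        rw [abs_mul, abs_of_nonneg hn']
        exact mul_le_mul_of_nonneg_left e1 hn'
      _ = (C₁ + C₂) * (n : ℝ) ^ (a + 1 + b) := by ring

/-- For natural numbers j ≤ r, the sums Σ_{i=0}^{n−1} (n − i)^{r−j} i^j equal n^{r+1}·(r − j)!·j!/(r +
1)! up to O(n^r): there is a real constant C with |Σ_{i<n} (n − i)^{r−j} i^j − ((r − j)!·j!/(r +
1)!)·n^{r+1}| ≤ C·n^r for all n ≥ 1. -/
theorem result (r j : ℕ) (hj : j ≤ r) :
    ∃ C : ℝ, ∀ n : ℕ, 1 ≤ n →
      |(∑ i ∈ Finset.range n, ((n : ℝ) - (i : ℝ)) ^ (r - j) * (i : ℝ) ^ j) -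
          ((r - j).factorial : ℝ) * (j.factorial : ℝ) / ((r + 1).factorial : ℝ) * (n : ℝ) ^ (r + 1)| ≤
        C * (n : ℝ) ^ r := by
  obtain ⟨C, hC⟩ := main (r - j) j
  refine ⟨C, fun n hn => ?_⟩
  have := hC n hn
  rwa [Nat.sub_add_cancel hj] at this

end Groth.Agent.S19210
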