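import Groth.Statements.S19212
import Groth.Agent.Lib.OmegaLiftH28.Basic

set_option autoImplicit false
universe u v
open TensorProduct
open DiagIdeal

namespace Groth.Agent.S19212

/-- Let k be an algebraically closed field of characteristic zero and A a smooth k-algebra which is a
domain. Let the symmetric group on three letters permute the factors of A ⊗ A ⊗ A (it is generated
by the swap of the first two factors and the swap of the last two), let r : A ⊗ (A ⊗ A) → A ⊗ A be
the k-linear map a ⊗ b ⊗ c ↦ ab ⊗ c, and let D : A ⊗ A → Ω_{A/k} be the k-linear map a ⊗ b ↦ 2a·db −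
b·da. Then an element y of A ⊗ A satisfies D y = 0 if and only if y = r x for some x fixed by both
swaps, and D is surjective. (This is exactness at the last two places of the four-term right
resolution of the invariants of the ideal of the big diagonal on the symmetric cube of X = Spec A,
namely invariant functions on X³, then functions on X × X through restriction to a diagonal, then
one-forms on X; exactness at the first two places is immediate. The published statement is the sheaf
version on the symmetric cube of a smooth complex variety of any dimension; an algebraically closed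
field of characteristic zero is used here.) -/
theorem result (k : Type u) [Field k] [IsAlgClosed k] [CharZero k]
    (A : Type v) [CommRing A] [Algebra k A] [Algebra.Smooth k A] [IsDomain A]
    (r : A ⊗[k] (A ⊗[k] A) →ₗ[k] A ⊗[k] A)
    (hr : ∀ a b c : A, r (a ⊗ₜ[k] (b ⊗ₜ[k] c)) = (a * b) ⊗ₜ[k] c)
    (D : A ⊗[k] A →ₗ[k] Ω[A⁄k])
    (hD : ∀ a b : A, D (a ⊗ₜ[k] b) = (2 : A) • (a • KaehlerDifferential.D k A b) - b • KaehlerDifferential.D k A a) :
    (∀ y : A ⊗[k] A, D y = 0 ↔ ∃ x : A ⊗[k] (A ⊗[k] A),
        TensorProduct.leftComm k A A A x = x ∧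
        LinearMap.lTensor A (TensorProduct.comm k A A).toLinearMap x = x ∧ r x = y) ∧
    Function.Surjective D := by
  classical
  have h3 : (3 : k) ≠ 0 := OfNat.ofNat_ne_zero 3
  have hDD : ∀ a b : A, D (a ⊗ₜ[k] b) - D ((a * b) ⊗ₜ[k] 1) =
      (3 : k) • (a • KaehlerDifferential.D k A b) := by
    intro a b
    simp only [hD, Derivation.map_one_eq_zero, smul_zero, Derivation.leibniz, one_smul]
    rw [← algebraMap_smul A (3 : k), map_ofNat]
    module
  constructor
  · intro y
    let W : Submodule k (A ⊗[k] A) := Submodule.span k (Set.range fun t : A × A × A =>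
      (t.1 * t.2.1) ⊗ₜ[k] t.2.2 + (t.2.1 * t.2.2) ⊗ₜ[k] t.1 + (t.2.2 * t.1) ⊗ₜ[k] t.2.1)
    let S := (LinearMap.id + (TensorProduct.leftComm k A A A).toLinearMap
        + LinearMap.lTensor A (TensorProduct.comm k A A).toLinearMap
        + (TensorProduct.leftComm k A A A).toLinearMap ∘ₗ LinearMap.lTensor A (TensorProduct.comm k A A).toLinearMap
        + LinearMap.lTensor A (TensorProduct.comm k A A).toLinearMap ∘ₗ (TensorProduct.leftComm k A A A).toLinearMap
        + (TensorProduct.leftComm k A A A).toLinearMap ∘ₗ LinearMap.lTensor A (TensorProduct.comm k A A).toLinearMap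
            ∘ₗ (TensorProduct.leftComm k A A A).toLinearMap : A ⊗[k] (A ⊗[k] A) →ₗ[k] A ⊗[k] (A ⊗[k] A))
    have hS : ∀ a b c : A, S (a ⊗ₜ[k] (b ⊗ₜ[k] c)) = a ⊗ₜ[k] (b ⊗ₜ[k] c) + b ⊗ₜ[k] (a ⊗ₜ[k] c)
        + a ⊗ₜ[k] (c ⊗ₜ[k] b) + c ⊗ₜ[k] (a ⊗ₜ[k] b) + b ⊗ₜ[k] (c ⊗ₜ[k] a) + c ⊗ₜ[k] (b ⊗ₜ[k] a) := by
      intro a b c
      simp [S]
    have hDS : D.comp (r.comp S) = 0 := by
      refine TensorProduct.ext' fun a w => ?_
      induction w with
      | zero => simp
      | add u v hu hv => rw [TensorProduct.tmul_add, map_add, hu, hv, map_add]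
      | tmul b c =>
        simp only [LinearMap.comp_apply, hS, map_add, hr, hD, Derivation.leibniz, LinearMap.zero_apply]
        module
    constructor
    · intro hy
      let β : A →ₗ[k] A →ₗ[k] (A ⊗[k] A) ⧸ W := LinearMap.compr₂
        (TensorProduct.mk k A A - (LinearMap.mul k A).compr₂ ((TensorProduct.mk k A A).flip 1)) W.mkQ
      have hβ : ∀ a b, β a b = W.mkQ (a ⊗ₜ[k] b - (a * b) ⊗ₜ[k] 1) := fun a b => rfl
      have hgen : ∀ a b c : A,
          (a * b) ⊗ₜ[k] c + (b * c) ⊗ₜ[k] a + (c * a) ⊗ₜ[k] b ∈ W := fun a b c =>
        Submodule.subset_span ⟨(a, b, c), rfl⟩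
      obtain ⟨Φ, hΦ⟩ := OmegaLiftH28.exists_lift β fun a b c => by
        rw [hβ, hβ, hβ, ← map_add, Submodule.mkQ_apply, Submodule.mkQ_apply, Submodule.Quotient.eq]
        have h1 := hgen a b c
        have h2 := hgen 1 a (b * c)
        rw [one_mul, mul_one] at h2
        have h4 := sub_mem h2 h1
        rw [show a * b * c = a * (b * c) by ring, show a * c * b = a * (b * c) by ring]
        rw [show c * a = a * c by ring] at h4
        convert h4 using 1
        abel
      have hΦD : Φ.comp D = (3 : k) • W.mkQ := by
        refine TensorProduct.ext' fun a b => ?_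
        have h2 := hgen 1 a b
        rw [one_mul, mul_one] at h2
        rw [LinearMap.comp_apply, hD, two_smul, map_sub, map_add, hΦ, hΦ, hβ, hβ, LinearMap.smul_apply,
          ← map_add, ← map_sub, ← map_smul, Submodule.mkQ_apply, Submodule.mkQ_apply,
          Submodule.Quotient.eq]
        convert neg_mem h2 using 1
        rw [show b * a = a * b from mul_comm b a]
        module
      have hyW : y ∈ W := by
        have h1 := LinearMap.congr_fun hΦD y
        rw [LinearMap.comp_apply, hy, map_zero, LinearMap.smul_apply, eq_comm, smul_eq_zero] at h1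
        exact (Submodule.Quotient.mk_eq_zero W).1 (h1.resolve_left h3)
      have hfix : ∀ x, TensorProduct.leftComm k A A A (S x) = S x ∧
          LinearMap.lTensor A (TensorProduct.comm k A A).toLinearMap (S x) = S x := by
        intro x
        induction x with
        | zero => simp
        | add u v hu hv => simp only [map_add, hu.1, hu.2, hv.1, hv.2, and_self]
        | tmul a w =>
          induction w with
          | zero => simp
          | add u v hu hv => simp only [TensorProduct.tmul_add, map_add, hu.1, hu.2, hv.1, hv.2, and_self]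
          | tmul b c =>
            simp only [hS, map_add, TensorProduct.leftComm_tmul, LinearMap.lTensor_tmul,
              LinearEquiv.coe_coe, TensorProduct.comm_tmul]
            constructor <;> abel
      have h2' : ∀ z ∈ W, ∃ x, r (S x) = z := by
        intro z hz
        show z ∈ LinearMap.range (r.comp S)
        refine (Submodule.span_le.2 ?_) hz
        rintro _ ⟨⟨a, b, c⟩, rfl⟩
        refine ⟨(2 : k)⁻¹ • (a ⊗ₜ[k] (b ⊗ₜ[k] c)), ?_⟩
        rw [map_smul, LinearMap.comp_apply, hS, inv_smul_eq_iff₀ two_ne_zero]
        simp only [map_add, hr]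
        rw [show b * a = a * b from mul_comm b a, show c * b = b * c from mul_comm c b,
          show a * c = c * a from mul_comm a c]
        module
      obtain ⟨x, hx⟩ := h2' y hyW
      exact ⟨S x, (hfix x).1, (hfix x).2, hx⟩
    · rintro ⟨x, h1, h2, rfl⟩
      have hx : S x = (6 : k) • x := by
        simp only [S, LinearMap.add_apply, LinearMap.comp_apply, LinearMap.id_apply,
          LinearEquiv.coe_coe, h1, h2]
        module
      have h := LinearMap.congr_fun hDS x
      rw [LinearMap.comp_apply, LinearMap.comp_apply, hx, map_smul, map_smul, LinearMap.zero_apply,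
        smul_eq_zero] at h
      exact h.resolve_left (OfNat.ofNat_ne_zero 6)
  · intro ω
    have hω : ω ∈ Submodule.span A (Set.range (KaehlerDifferential.D k A)) := by
      rw [KaehlerDifferential.span_range_derivation]; trivial
    suffices h : ∀ a : A, a • ω ∈ LinearMap.range D by simpa using h 1
    induction hω using Submodule.span_induction with
    | mem z hz =>
      obtain ⟨b, rfl⟩ := hz
      intro a
      refine ⟨(3 : k)⁻¹ • (a ⊗ₜ[k] b - (a * b) ⊗ₜ[k] 1), ?_⟩
      rw [map_smul, map_sub, hDD, inv_smul_smul₀ h3]
    | zero => intro a; simp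
    | add y z _ _ hy hz => intro a; rw [smul_add]; exact add_mem (hy a) (hz a)
    | smul c y _ hy => intro a; rw [smul_smul]; exact hy _

end Groth.Agent.S19212
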