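import Groth.Statements.S19213
import Groth.Agent.Lib.OmegaLiftH28.Basic

set_option autoImplicit false
universe u v
open TensorProduct
open DiagIdeal

namespace Groth.Agent.S19213

/-- Let k be an algebraically closed field of characteristic zero and A a smooth k-algebra which is a
domain. Let r₁₂, r₂₃ : A ⊗ (A ⊗ A) → A ⊗ A be the k-linear maps a ⊗ u ⊗ v ↦ au ⊗ v and a ⊗ u ⊗ v ↦
uv ⊗ a (restriction to the diagonal of factors 1, 2, resp. 2, 3, the repeated coordinate written
first), let m : A ⊗ A → A be multiplication, and let ψ : (A ⊗ A) × (A ⊗ A) → Ω_{A/k} be the k-linear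
map with ψ(a ⊗ u, b ⊗ v) = 2a·du − v·db. Then for p, q in A ⊗ A with m p = m q one has ψ(p, q) = 0
if and only if (p, q) = (r₁₂ x, r₂₃ x) for some x fixed by the swap of the last two tensor factors;
and every element of Ω_{A/k} is ψ(p, q) for some pair with m p = m q. (This is exactness at the last
two places of the right resolution, on the symmetric cube of X = Spec A, of the invariants of the
ideal of the big diagonal under the transposition of the last two factors; exactness at the first
two places is immediate. The published statement is the sheaf version for a smooth complex variety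
of any dimension; an algebraically closed field of characteristic zero is used here.) -/
theorem result (k : Type u) [Field k] [IsAlgClosed k] [CharZero k]
    (A : Type v) [CommRing A] [Algebra k A] [Algebra.Smooth k A] [IsDomain A]
    (r₁₂ r₂₃ : A ⊗[k] (A ⊗[k] A) →ₗ[k] A ⊗[k] A)
    (h₁₂ : ∀ a u v : A, r₁₂ (a ⊗ₜ[k] (u ⊗ₜ[k] v)) = (a * u) ⊗ₜ[k] v)
    (h₂₃ : ∀ a u v : A, r₂₃ (a ⊗ₜ[k] (u ⊗ₜ[k] v)) = (u * v) ⊗ₜ[k] a)
    (ψ : (A ⊗[k] A) × (A ⊗[k] A) →ₗ[k] Ω[A⁄k])
    (hψ : ∀ a u b v : A, ψ (a ⊗ₜ[k] u, b ⊗ₜ[k] v) =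
      (2 : A) • (a • KaehlerDifferential.D k A u) - v • KaehlerDifferential.D k A b) :
    (∀ p q : A ⊗[k] A, LinearMap.mul' k A p = LinearMap.mul' k A q →
      (ψ (p, q) = 0 ↔ ∃ x : A ⊗[k] (A ⊗[k] A),
        LinearMap.lTensor A (TensorProduct.comm k A A).toLinearMap x = x ∧ r₁₂ x = p ∧ r₂₃ x = q)) ∧
    (∀ ω : Ω[A⁄k], ∃ p q : A ⊗[k] A, LinearMap.mul' k A p = LinearMap.mul' k A q ∧ ψ (p, q) = ω) := by
  classical
  let swp : A ⊗[k] (A ⊗[k] A) →ₗ[k] A ⊗[k] (A ⊗[k] A) :=
    LinearMap.lTensor A (TensorProduct.comm k A A).toLinearMap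
  let ins : A ⊗[k] A →ₗ[k] A ⊗[k] (A ⊗[k] A) :=
    (LinearMap.lTensor A ((TensorProduct.mk k A A) 1)).comp (TensorProduct.comm k A A).toLinearMap
  let σ : A ⊗[k] A →ₗ[k] A ⊗[k] (A ⊗[k] A) := (2 : k)⁻¹ • ((LinearMap.id + swp).comp ins)
  let κ := r₁₂.comp σ
  have hσ : ∀ v a : A, σ (v ⊗ₜ[k] a) = (2 : k)⁻¹ • (a ⊗ₜ[k] (1 ⊗ₜ[k] v) + a ⊗ₜ[k] (v ⊗ₜ[k] 1)) := by
    intro v a
    simp [σ, ins, swp]
  have hκ : ∀ v a : A, κ (v ⊗ₜ[k] a) = (2 : k)⁻¹ • (a ⊗ₜ[k] v + (a * v) ⊗ₜ[k] 1) := by
    intro v a
    simp only [κ, LinearMap.comp_apply, hσ, map_smul, map_add, h₁₂, mul_one]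
  have hσ23 : r₂₃.comp σ = LinearMap.id := by
    refine TensorProduct.ext' fun v a => ?_
    simp only [LinearMap.comp_apply, hσ, map_smul, map_add, h₂₃, one_mul, mul_one, LinearMap.id_apply]
    rw [← two_smul k (v ⊗ₜ[k] a), inv_smul_smul₀ two_ne_zero]
  have hswσ : ∀ q, swp (σ q) = σ q := by
    intro q
    induction q with
    | zero => simp
    | add u v hu hv => simp only [map_add, hu, hv]
    | tmul v a => rw [hσ]; simp [swp, add_comm]
  let ψ₁ := ψ.comp (LinearMap.inl k (A ⊗[k] A) (A ⊗[k] A))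
  let ψ₂ := ψ.comp (LinearMap.inr k (A ⊗[k] A) (A ⊗[k] A))
  have hψ₁ : ∀ a u : A, ψ₁ (a ⊗ₜ[k] u) = (2 : A) • (a • KaehlerDifferential.D k A u) := by
    intro a u
    have h := hψ a u 1 0
    simp only [TensorProduct.tmul_zero, zero_smul, sub_zero] at h
    exact h
  have hψ₂ : ∀ b v : A, ψ₂ (b ⊗ₜ[k] v) = - (v • KaehlerDifferential.D k A b) := by
    intro b v
    have h := hψ 1 0 b v
    simp only [TensorProduct.tmul_zero, map_zero, smul_zero, zero_sub] at h
    exact h
  have hsplit : ∀ p q, ψ (p, q) = ψ₁ p + ψ₂ q := fun p q => by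
    show ψ (p, q) = ψ (p, 0) + ψ (0, q)
    rw [← map_add, Prod.mk_add_mk, add_zero, zero_add]
  have hκψ : ψ₁.comp κ + ψ₂ = 0 := by
    refine TensorProduct.ext' fun v a => ?_
    simp only [LinearMap.add_apply, LinearMap.comp_apply, hκ, map_smul, map_add, hψ₁, hψ₂,
      Derivation.map_one_eq_zero, smul_zero, add_zero, LinearMap.zero_apply]
    rw [two_smul A, ← two_smul k (a • KaehlerDifferential.D k A v), inv_smul_smul₀ two_ne_zero,
      add_neg_cancel]
  have hmκ : (LinearMap.mul' k A).comp κ = LinearMap.mul' k A := by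
    refine TensorProduct.ext' fun v a => ?_
    simp only [LinearMap.comp_apply, hκ, map_smul, map_add, LinearMap.mul'_apply, mul_one]
    rw [← two_smul k (a * v), inv_smul_smul₀ two_ne_zero, mul_comm]
  constructor
  · intro p q hpq
    constructor
    · intro h0
      let E := r₁₂ - κ.comp r₂₃
      let W : Submodule k (A ⊗[k] A) := LinearMap.range (E.comp (LinearMap.id + swp))
      have hgen : ∀ a u v : A, (a * u) ⊗ₜ[k] v + (a * v) ⊗ₜ[k] u -
          (a ⊗ₜ[k] (u * v) + (a * (u * v)) ⊗ₜ[k] 1) ∈ W := by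
        intro a u v
        refine ⟨a ⊗ₜ[k] (u ⊗ₜ[k] v), ?_⟩
        simp only [E, swp, LinearMap.comp_apply, LinearMap.add_apply, LinearMap.id_apply,
          LinearMap.lTensor_tmul, LinearEquiv.coe_coe, TensorProduct.comm_tmul, map_add,
          LinearMap.sub_apply, h₁₂, h₂₃, hκ, mul_comm v u]
        module
      let β : A →ₗ[k] A →ₗ[k] (A ⊗[k] A) ⧸ W := LinearMap.compr₂
        (TensorProduct.mk k A A - (LinearMap.mul k A).compr₂ ((TensorProduct.mk k A A).flip 1)) W.mkQ
      have hβ : ∀ a b, β a b = W.mkQ (a ⊗ₜ[k] b - (a * b) ⊗ₜ[k] 1) := fun a b => rfl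
      obtain ⟨Φ, hΦ⟩ := OmegaLiftH28.exists_lift β fun a b c => by
        rw [hβ, hβ, hβ, ← map_add, Submodule.mkQ_apply, Submodule.mkQ_apply, Submodule.Quotient.eq]
        have h1 := neg_mem (hgen a b c)
        rw [show a * b * c = a * (b * c) by ring, show a * c * b = a * (b * c) by ring]
        convert h1 using 1
        abel
      have hΦψ : Φ.comp ψ₁ + (2 : k) • W.mkQ.comp
          (((TensorProduct.mk k A A).flip 1).comp (LinearMap.mul' k A)) = (2 : k) • W.mkQ := by
        refine TensorProduct.ext' fun a u => ?_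
        simp only [LinearMap.add_apply, LinearMap.comp_apply, hψ₁, two_smul A, map_add, hΦ, hβ,
          LinearMap.smul_apply, LinearMap.mul'_apply, LinearMap.flip_apply, TensorProduct.mk_apply,
          map_sub]
        module
      have hd0 : ψ₁ (p - κ q) = 0 := by
        have e : ψ₁ (κ q) = -ψ₂ q := eq_neg_of_add_eq_zero_left (LinearMap.congr_fun hκψ q)
        rw [map_sub, e]
        show ψ₁ p - -ψ₂ q = 0
        rw [sub_neg_eq_add, ← hsplit]; exact h0
      have hm0 : LinearMap.mul' k A (p - κ q) = 0 := by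
        rw [map_sub, ← LinearMap.comp_apply, hmκ, hpq, sub_self]
      have hW : p - κ q ∈ W := by
        have h1 := LinearMap.congr_fun hΦψ (p - κ q)
        simp only [LinearMap.add_apply, LinearMap.comp_apply, LinearMap.smul_apply, hd0, hm0,
          map_zero, smul_zero, add_zero] at h1
        exact (Submodule.Quotient.mk_eq_zero W).1 ((smul_eq_zero.1 h1.symm).resolve_left two_ne_zero)
      obtain ⟨z, hz⟩ := hW
      have hsw : ∀ z, swp ((LinearMap.id + swp : A ⊗[k] (A ⊗[k] A) →ₗ[k] A ⊗[k] (A ⊗[k] A)) z) =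
          (LinearMap.id + swp : A ⊗[k] (A ⊗[k] A) →ₗ[k] A ⊗[k] (A ⊗[k] A)) z := by
        intro z
        induction z with
        | zero => simp
        | add u v hu hv => simp only [map_add] at hu hv ⊢; rw [hu, hv]
        | tmul a w =>
          induction w with
          | zero => simp
          | add u v hu hv => simp only [TensorProduct.tmul_add, map_add] at hu hv ⊢; rw [hu, hv]
          | tmul b c => simp [swp, add_comm]
      set x := (LinearMap.id + swp : A ⊗[k] (A ⊗[k] A) →ₗ[k] A ⊗[k] (A ⊗[k] A)) z with hx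
      have hx1 : r₁₂ x - κ (r₂₃ x) = p - κ q := hz
      refine ⟨x + σ (q - r₂₃ x), ?_, ?_, ?_⟩
      · show swp _ = _
        rw [map_add, hsw, hswσ]
      · rw [map_add]
        show r₁₂ x + κ (q - r₂₃ x) = p
        rw [map_sub, add_sub_left_comm, ← add_sub_assoc, add_sub_assoc, hx1]
        abel
      · rw [map_add, ← LinearMap.comp_apply r₂₃ σ, hσ23, LinearMap.id_apply, add_sub_cancel]
    · rintro ⟨x, hx, rfl, rfl⟩
      have h : ∀ z, ψ₁ (r₁₂ (z + swp z)) + ψ₂ (r₂₃ (z + swp z)) = 0 := by
        intro z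
        induction z with
        | zero => simp
        | add u v hu hv =>
          simp only [map_add] at hu hv ⊢
          linear_combination (norm := abel) hu + hv
        | tmul a w =>
          induction w with
          | zero => simp
          | add u v hu hv =>
            simp only [TensorProduct.tmul_add, map_add] at hu hv ⊢
            linear_combination (norm := abel) hu + hv
          | tmul b c =>
            simp only [swp, LinearMap.lTensor_tmul, LinearEquiv.coe_coe, TensorProduct.comm_tmul,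
              map_add, h₁₂, h₂₃, hψ₁, hψ₂, Derivation.leibniz]
            module
      have h1 := h x
      rw [show swp x = x from hx, ← two_smul k x, map_smul, map_smul, map_smul, map_smul, ← smul_add,
        ← hsplit, smul_eq_zero] at h1
      exact h1.resolve_left two_ne_zero
  · intro ω
    have hω : ω ∈ Submodule.span A (Set.range (KaehlerDifferential.D k A)) := by
      rw [KaehlerDifferential.span_range_derivation]; trivial
    suffices h : ∀ a : A, ∃ p, LinearMap.mul' k A p = 0 ∧ ψ₁ p = a • ω by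
      obtain ⟨p, hp1, hp2⟩ := h 1
      exact ⟨p, 0, by rw [hp1, map_zero], by rw [hsplit, hp2, map_zero, add_zero, one_smul]⟩
    induction hω using Submodule.span_induction with
    | mem z hz =>
      obtain ⟨b, rfl⟩ := hz
      intro a
      refine ⟨(2 : k)⁻¹ • (a ⊗ₜ[k] b - (a * b) ⊗ₜ[k] 1), by simp, ?_⟩
      rw [map_smul, map_sub, hψ₁, hψ₁, Derivation.map_one_eq_zero, smul_zero, smul_zero, sub_zero,
        two_smul A, ← two_smul k, inv_smul_smul₀ two_ne_zero]
    | zero => intro a; exact ⟨0, by simp, by simp⟩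
    | add y z _ _ hy hz =>
      intro a
      obtain ⟨p, hp1, hp2⟩ := hy a
      obtain ⟨p', hp1', hp2'⟩ := hz a
      exact ⟨p + p', by simp [hp1, hp1'], by simp [hp2, hp2']⟩
    | smul c y _ hy =>
      intro a
      obtain ⟨p, hp1, hp2⟩ := hy (a * c)
      exact ⟨p, hp1, by rw [hp2, smul_smul]⟩

end Groth.Agent.S19213
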