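import Groth.Statements.S19216
import Mathlib

set_option autoImplicit false
universe u
open SymRep

namespace Groth.Agent.S19216

/-- Let k be a field of characteristic zero and r, s ≥ 1. Realise the standard representation of the
symmetric group on a finite set T as the hyperplane of functions T → k with sum zero, the group
acting by precomposition with the inverse. Then the standard representation of the symmetric group
of Fin r ⊕ Fin s, restricted to the subgroup S_r × S_s, is isomorphic to the direct sum of the
standard representations of S_r and of S_s and of a one-dimensional trivial representation: there is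
a k-linear map E from functions on Fin r ⊕ Fin s to triples (function on Fin r, function on Fin s,
scalar), compatible with the actions of S_r × S_s (trivial on the scalar), which maps the sum-zero
hyperplane bijectively onto the product of the two sum-zero hyperplanes and k. (The published
statement is over the complex numbers; a field of characteristic zero is used here. The published
statement also gives the analogous decomposition for any number of blocks, which follows by
induction; only the two-block case is stated here.) -/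
theorem result (k : Type u) [Field k] [CharZero k]
    (r s : ℕ) (hr : 1 ≤ r) (hs : 1 ≤ s) :
    ∃ E : (Fin r ⊕ Fin s → k) →ₗ[k] (Fin r → k) × (Fin s → k) × k,
      (∀ (σ : Equiv.Perm (Fin r)) (τ : Equiv.Perm (Fin s)) (f : Fin r ⊕ Fin s → k),
        E (f ∘ ⇑(Equiv.sumCongr σ τ).symm) = ((E f).1 ∘ ⇑σ.symm, (E f).2.1 ∘ ⇑τ.symm, (E f).2.2)) ∧
      Set.BijOn E {f | ∑ i, f i = 0}
        ({g : Fin r → k | ∑ i, g i = 0} ×ˢ ({h : Fin s → k | ∑ i, h i = 0} ×ˢ Set.univ)) := by
  classical
  have hr0 : (r : k) ≠ 0 := Nat.cast_ne_zero.2 (by omega)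
  have hs0 : (s : k) ≠ 0 := Nat.cast_ne_zero.2 (by omega)
  let L := fun (i : Fin r ⊕ Fin s) => LinearMap.proj (R := k) (φ := fun _ : Fin r ⊕ Fin s => k) i
  let A := ∑ i : Fin r, L (.inl i)
  let B := ∑ j : Fin s, L (.inr j)
  let E : (Fin r ⊕ Fin s → k) →ₗ[k] (Fin r → k) × (Fin s → k) × k :=
    (LinearMap.pi fun i => L (.inl i) - (r : k)⁻¹ • A).prod ((LinearMap.pi fun j => L (.inr j) - (s : k)⁻¹ • B).prod A)
  have hE : ∀ f, E f = (fun i => f (.inl i) - (r : k)⁻¹ * ∑ x, f (.inl x), fun j => f (.inr j) - (s : k)⁻¹ * ∑ x, f (.inr x), ∑ x, f (.inl x)) := by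
    intro f
    refine Prod.ext (funext fun i => ?_) (Prod.ext (funext fun j => ?_) ?_) <;> simp [E, A, B, L]
  refine ⟨E, fun σ τ f => ?_, ?_⟩
  · simp only [hE, Function.comp_apply, Equiv.sumCongr_symm, Equiv.sumCongr_apply, Sum.map_inl, Sum.map_inr]
    rw [Equiv.sum_comp σ.symm (fun x => f (.inl x)), Equiv.sum_comp τ.symm (fun x => f (.inr x))]
    rfl
  · have hsum : ∀ f : Fin r ⊕ Fin s → k, ∑ i, f i = (∑ x, f (.inl x)) + ∑ x, f (.inr x) := fun f => Fintype.sum_sum_type f
    refine ⟨fun f _ => ?_, fun f hf f' hf' h => ?_, fun q hq => ?_⟩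
    · rw [hE]
      refine Set.mem_prod.2 ⟨?_, Set.mem_prod.2 ⟨?_, trivial⟩⟩
      · show ∑ i : Fin r, (f (.inl i) - _) = 0
        rw [Finset.sum_sub_distrib, Finset.sum_const, Finset.card_univ, Fintype.card_fin, nsmul_eq_mul, mul_inv_cancel_left₀ hr0, sub_self]
      · show ∑ i : Fin s, (f (.inr i) - _) = 0
        rw [Finset.sum_sub_distrib, Finset.sum_const, Finset.card_univ, Fintype.card_fin, nsmul_eq_mul, mul_inv_cancel_left₀ hs0, sub_self]
    · rw [hE, hE, Prod.mk.injEq, Prod.mk.injEq] at h
      obtain ⟨h1, h2, h3⟩ := h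
      have hb : ∑ x, f (.inr x) = ∑ x, f' (.inr x) := by
        have e1 : (∑ i, f i) = 0 := hf
        have e2 : (∑ i, f' i) = 0 := hf'
        rw [hsum] at e1 e2
        linear_combination e1 - e2 - h3
      funext i
      cases i with
      | inl i => have := congrFun h1 i; rw [h3] at this; exact sub_left_inj.1 this
      | inr j => have := congrFun h2 j; rw [hb] at this; exact sub_left_inj.1 this
    · obtain ⟨g, h, t⟩ := q
      obtain ⟨hg, hh, -⟩ : (∑ i, g i = 0) ∧ (∑ j, h j = 0) ∧ True := ⟨hq.1, hq.2.1, trivial⟩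
      refine ⟨Sum.elim (fun i => g i + (r : k)⁻¹ * t) (fun j => h j - (s : k)⁻¹ * t), ?_, ?_⟩
      · show ∑ i, _ = 0
        rw [hsum]
        simp [Finset.sum_add_distrib, Finset.sum_sub_distrib, hg, hh, hr0, hs0]
      · rw [hE]
        simp [Finset.sum_add_distrib, Finset.sum_sub_distrib, hg, hh, hr0, hs0]

end Groth.Agent.S19216
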