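import Groth.Statements.S19218
import Mathlib.RingTheory.PiTensorProduct
import Mathlib.LinearAlgebra.PiTensorProduct
open scoped TensorProduct

set_option autoImplicit false
universe u v
open TensorProduct
open DiagIdeal

namespace Groth.Agent.S19218

/-- Let k be an algebraically closed field of characteristic zero and A a smooth k-algebra which is a
domain of Krull dimension 2. In the n-fold tensor power R of A over k, indexed by Fin n, let I_p (p
= (i, j), i < j) be the ideal generated by the a_i − a_j, a ∈ A, and let I be the intersection of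
the I_p, the ideal of the big diagonal. Assume that for every s ≥ 0 the power I ^ s is the
intersection of the powers I_p ^ s (a property of the big diagonal of a smooth surface that the
source takes from the literature). Then for m ≥ 1 every element of R fixed by all permutations of
the n factors and lying in I ^ (2m − 1) lies in I ^ (2m): on the symmetric product the invariants of
the odd power and of the next even power of the ideal of the big diagonal coincide. (The source
states the sheaf version for a smooth quasi-projective complex surface, using the displayed property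
of the powers without restating it as a hypothesis.) -/
theorem result (k : Type u) [Field k] [IsAlgClosed k] [CharZero k]
    (A : Type v) [CommRing A] [Algebra k A] [Algebra.Smooth k A] [IsDomain A]
    (hdim : ringKrullDim A = 2) (n : ℕ)
    (I : Fin n × Fin n → Ideal (⨂[k] _ : Fin n, A))
    (hI : ∀ p, I p = Ideal.span (Set.range fun a : A =>
        PiTensorProduct.singleAlgHom (R := k) (A := fun _ : Fin n => A) p.1 a -
        PiTensorProduct.singleAlgHom (R := k) (A := fun _ : Fin n => A) p.2 a))
    (IΔ : Ideal (⨂[k] _ : Fin n, A))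
    (hIΔ : IΔ = ⨅ p ∈ Finset.univ.filter (fun p : Fin n × Fin n => p.1 < p.2), I p)
    (hpow : ∀ s : ℕ, IΔ ^ s = ⨅ p ∈ Finset.univ.filter (fun p : Fin n × Fin n => p.1 < p.2), (I p) ^ s)
    (m : ℕ) (hm : 1 ≤ m) (x : ⨂[k] _ : Fin n, A)
    (hx : ∀ σ : Equiv.Perm (Fin n), PiTensorProduct.reindex k (fun _ : Fin n => A) σ x = x)
    (hmem : x ∈ IΔ ^ (2 * m - 1)) :
    x ∈ IΔ ^ (2 * m) := by
  classical
  let sl : Equiv.Perm (Fin n) → ((⨂[k] _ : Fin n, A) ≃ₗ[k] (⨂[k] _ : Fin n, A)) := fun σ =>
    PiTensorProduct.reindex k (fun _ : Fin n => A) σ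
  have hmul : ∀ (σ : Equiv.Perm (Fin n)) (a b : ⨂[k] _ : Fin n, A), sl σ (a * b) = sl σ a * sl σ b := by
    intro σ a b
    induction a using PiTensorProduct.induction_on with
    | smul_tprod c f =>
      induction b using PiTensorProduct.induction_on with
      | smul_tprod d g =>
        simp only [sl, smul_mul_smul_comm, PiTensorProduct.tprod_mul_tprod, map_smul, PiTensorProduct.reindex_tprod]
        rfl
      | add p q hp hq => rw [mul_add, map_add, map_add, hp, hq, mul_add]
    | add p q hp hq => rw [add_mul, map_add, map_add, hp, hq, add_mul]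
  have hone : ∀ σ : Equiv.Perm (Fin n), sl σ 1 = 1 := by
    intro σ
    simp only [sl, PiTensorProduct.one_def, PiTensorProduct.reindex_tprod]
    rfl
  let s : Equiv.Perm (Fin n) → (⨂[k] _ : Fin n, A) →ₐ[k] (⨂[k] _ : Fin n, A) := fun σ =>
    AlgHom.ofLinearMap (sl σ).toLinearMap (hone σ) (hmul σ)
  have hsingle : ∀ (σ : Equiv.Perm (Fin n)) (l : Fin n) (a : A),
      s σ (PiTensorProduct.singleAlgHom (R := k) (A := fun _ : Fin n => A) l a) =
        PiTensorProduct.singleAlgHom (R := k) (A := fun _ : Fin n => A) (σ l) a := by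
    intro σ l a
    simp only [s, sl, AlgHom.ofLinearMap_apply, LinearEquiv.coe_coe, PiTensorProduct.singleAlgHom_apply,
      PiTensorProduct.reindex_tprod]
    congr 1
    funext i
    rcases eq_or_ne i (σ l) with rfl | hne
    · simp
    · simp only [MonoidHom.mulSingle_apply]
      rw [Pi.mulSingle_eq_of_ne hne]
      exact Pi.mulSingle_eq_of_ne (fun h => hne (by rw [← h, Equiv.apply_symm_apply])) _
  rw [hpow]
  simp only [Ideal.mem_iInf, Finset.mem_filter, Finset.mem_univ, true_and]
  intro p hp
  rw [hpow] at hmem
  simp only [Ideal.mem_iInf, Finset.mem_filter, Finset.mem_univ, true_and] at hmem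
  have hxp := hmem p hp
  let σ := Equiv.swap p.1 p.2
  let d : A → ⨂[k] _ : Fin n, A := fun a =>
    PiTensorProduct.singleAlgHom (R := k) (A := fun _ : Fin n => A) p.1 a -
      PiTensorProduct.singleAlgHom (R := k) (A := fun _ : Fin n => A) p.2 a
  have hd : ∀ a, d a ∈ I p := fun a => by rw [hI]; exact Ideal.subset_span ⟨a, rfl⟩
  have hsd : ∀ a, s σ (d a) = -d a := fun a => by
    simp only [d, map_sub, hsingle, σ, Equiv.swap_apply_left, Equiv.swap_apply_right]; ring
  have hid : (Ideal.Quotient.mkₐ k (I p)).comp (s σ) = Ideal.Quotient.mkₐ k (I p) := by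
    refine PiTensorProduct.algHom_ext fun l => AlgHom.ext fun a => ?_
    simp only [AlgHom.comp_apply, hsingle, Ideal.Quotient.mkₐ_eq_mk]
    refine Ideal.Quotient.eq.2 ?_
    rcases eq_or_ne l p.1 with rfl | h1
    · rw [show σ p.1 = p.2 from Equiv.swap_apply_left _ _, ← neg_sub]
      exact neg_mem (hd a)
    rcases eq_or_ne l p.2 with rfl | h2
    · rw [show σ p.2 = p.1 from Equiv.swap_apply_right _ _]
      exact hd a
    · rw [show σ l = l from Equiv.swap_apply_of_ne_of_ne h1 h2, sub_self]
      exact zero_mem _
  have hsub : ∀ z, s σ z - z ∈ I p := fun z => Ideal.Quotient.eq.1 (AlgHom.congr_fun hid z)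
  have hsI : ∀ z ∈ I p, s σ z ∈ I p := fun z hz => by
    have := add_mem (hsub z) hz
    rwa [sub_add_cancel] at this
  have hanti : ∀ z ∈ I p, s σ z + z ∈ I p ^ 2 := by
    intro z hz
    rw [hI] at hz
    induction hz using Submodule.span_induction with
    | mem y hy =>
      obtain ⟨a, rfl⟩ := hy
      change s σ (d a) + d a ∈ _
      rw [hsd, neg_add_cancel]; exact zero_mem _
    | zero => simp
    | add a b _ _ ha hb => rw [map_add, add_add_add_comm]; exact add_mem ha hb
    | smul c y hy hc =>
      have hy' : y ∈ I p := by rw [hI]; exact hy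
      rw [smul_eq_mul, map_mul,
        show s σ c * s σ y + c * y = c * (s σ y + y) + (s σ c - c) * s σ y by ring, pow_two]
      exact add_mem (Ideal.mul_mem_left _ _ (pow_two (I p) ▸ hc)) (Ideal.mul_mem_mul (hsub c) (hsI y hy'))
  have hpowstep : ∀ r, ∀ z ∈ I p ^ r, s σ z - (-1) ^ r * z ∈ I p ^ (r + 1) := by
    intro r
    induction r with
    | zero => intro z _; rw [pow_zero, one_mul, zero_add, pow_one]; exact hsub z
    | succ r ih =>
      intro z hz
      rw [pow_succ] at hz
      induction hz using Submodule.mul_induction_on' with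
      | mem_mul_mem a ha b hb =>
        rw [map_mul, show s σ a * s σ b - (-1) ^ (r + 1) * (a * b) =
          (s σ a - (-1) ^ r * a) * s σ b + (-1) ^ r * (a * (s σ b + b)) by ring]
        refine add_mem ?_ (Ideal.mul_mem_left _ _ ?_)
        · rw [pow_succ]; exact Ideal.mul_mem_mul (ih a ha) (hsI b hb)
        · rw [show r + 1 + 1 = r + 2 from rfl, pow_add]; exact Ideal.mul_mem_mul ha (hanti b hb)
      | add a _ b _ ha hb =>
        rw [map_add, show s σ a + s σ b - (-1) ^ (r + 1) * (a + b) =
          (s σ a - (-1) ^ (r + 1) * a) + (s σ b - (-1) ^ (r + 1) * b) by ring]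
        exact add_mem ha hb
  have h2 := hpowstep _ x hxp
  rw [show s σ x = x from hx σ, Odd.neg_one_pow ⟨m - 1, by omega⟩, show 2 * m - 1 + 1 = 2 * m by omega,
    show x - -1 * x = algebraMap k _ 2 * x by rw [map_ofNat]; ring] at h2
  have := Ideal.mul_mem_left _ (algebraMap k (⨂[k] _ : Fin n, A) 2⁻¹) h2
  rwa [← mul_assoc, ← map_mul, inv_mul_cancel₀ (two_ne_zero), map_one, one_mul] at this

end Groth.Agent.S19218
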