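import Groth.Statements.S19221
import Mathlib

set_option autoImplicit false
universe u
open SymRep

namespace Groth.Agent.S19221

section
/-- integral coordinates of the triangle cycles -/
def zi (c : Fin 2) (i j l : Fin 4) (c' : Fin 2) (a b : Fin 4) : ℤ :=
  if c' = c then
    ((if a = i ∧ b = j then 1 else 0) + (if a = j ∧ b = l then 1 else 0) + (if a = l ∧ b = i then 1 else 0)
      - (if a = j ∧ b = i then 1 else 0) - (if a = l ∧ b = j then 1 else 0) - (if a = i ∧ b = l then 1 else 0))
  else 0

/-- the four cycles in `ω`, moved by `σ` -/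
def arg (σ : Equiv.Perm (Fin 4)) (r : Fin 4) (c' : Fin 2) (a b : Fin 4) : ℤ :=
  match r with
  | 0 => zi 0 (σ 0) (σ 1) (σ 2) c' a b
  | 1 => zi 1 (σ 0) (σ 1) (σ 2) c' a b
  | 2 => zi 0 (σ 0) (σ 2) (σ 3) c' a b
  | 3 => zi 1 (σ 0) (σ 2) (σ 3) c' a b

/-- four coordinates -/
def coord : Fin 4 → Fin 2 × Fin 4 × Fin 4 := ![(0, 0, 1), (1, 0, 1), (0, 0, 2), (1, 0, 2)]

/-- the matrix of coordinates -/
def mat (σ : Equiv.Perm (Fin 4)) : Matrix (Fin 4) (Fin 4) ℤ :=
  Matrix.of fun r s => arg σ r (coord s).1 (coord s).2.1 (coord s).2.2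

theorem sum_det_ne : (∑ σ : Equiv.Perm (Fin 4), (mat σ).det) ≠ 0 := by decide +kernel

end

/-- Let k be a field of characteristic zero and F the k-space of functions Fin 2 → Fin 4 → Fin 4 → k,
with the symmetric group of Fin 4 acting through P σ f c a b = f c (σ⁻¹ a) (σ⁻¹ b). The signed edge
vectors of the complete graph on four vertices live in F as the functions antisymmetric in the two
vertex arguments, and for a colour c and an oriented 3-cycle i → j → l → i the cycle vector z c i j
l is the function equal, in colour c, to +1 at (i,j), (j,l), (l,i), to −1 at (j,i), (l,j), (i,l) and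
to 0 elsewhere (and 0 in the other colour); these cycle vectors span k² ⊗ (cycle space), the
representation written C² ⊗ q in the published text. Let Γ be the graph with edges 01, 02, 03, 12,
23 (a 4-cycle with one chord), whose cycle space is spanned by the cycles (0,1,2) and (0,2,3), and
let ω be the product in the exterior algebra of F of the four vectors z 0 0 1 2, z 1 0 1 2, z 0 0 2
3, z 1 0 2 3 (a generator of the top exterior power of k² ⊗ q_Γ). Then ω is fixed by the stabiliser
of Γ in the symmetric group (generated by the transpositions (0 2) and (1 3)), and the sum over all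
24 permutations σ of the images of ω under the maps induced by P σ is nonzero: the projection of ω
to the invariants of the fourth exterior power of k² ⊗ q_{K₄} does not vanish. (The published
statement is over the complex numbers; a field of characteristic zero is used here. The published
statement also asserts that this map is an isomorphism onto the one-dimensional space of
S₄-invariants of the fourth exterior power of k² ⊗ q_{K₄}; only its non-vanishing is stated here.) -/
theorem result (k : Type u) [Field k] [CharZero k]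
    (P : Equiv.Perm (Fin 4) → ((Fin 2 → Fin 4 → Fin 4 → k) →ₗ[k] (Fin 2 → Fin 4 → Fin 4 → k)))
    (hP : ∀ (σ : Equiv.Perm (Fin 4)) (f : Fin 2 → Fin 4 → Fin 4 → k) (c : Fin 2) (a b : Fin 4),
      P σ f c a b = f c (σ.symm a) (σ.symm b))
    (z : Fin 2 → Fin 4 → Fin 4 → Fin 4 → (Fin 2 → Fin 4 → Fin 4 → k))
    (hz : ∀ (c : Fin 2) (i j l : Fin 4) (c' : Fin 2) (a b : Fin 4), z c i j l c' a b =
      if c' = c then
        ((if a = i ∧ b = j then 1 else 0) + (if a = j ∧ b = l then 1 else 0) + (if a = l ∧ b = i then 1 else 0)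
          - (if a = j ∧ b = i then 1 else 0) - (if a = l ∧ b = j then 1 else 0) - (if a = i ∧ b = l then 1 else 0))
      else 0)
    (ω : ExteriorAlgebra k (Fin 2 → Fin 4 → Fin 4 → k))
    (hω : ω = ExteriorAlgebra.ι k (z 0 0 1 2) * ExteriorAlgebra.ι k (z 1 0 1 2) *
      ExteriorAlgebra.ι k (z 0 0 2 3) * ExteriorAlgebra.ι k (z 1 0 2 3)) :
    ExteriorAlgebra.map (P (Equiv.swap 0 2)) ω = ω ∧
    ExteriorAlgebra.map (P (Equiv.swap 1 3)) ω = ω ∧
    (∑ σ : Equiv.Perm (Fin 4), ExteriorAlgebra.map (P σ) ω) ≠ 0 := by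
  classical
  let vec : Equiv.Perm (Fin 4) → Fin 4 → (Fin 2 → Fin 4 → Fin 4 → k) := fun σ r c' a b => ((arg σ r c' a b : ℤ) : k)
  have hzc : ∀ (c : Fin 2) (i j l : Fin 4) (c' : Fin 2) (a b : Fin 4), z c i j l c' a b = ((zi c i j l c' a b : ℤ) : k) := by
    intro c i j l c' a b
    rw [hz, zi]
    split_ifs <;> norm_num
  have hPz : ∀ σ c i j l, P σ (z c i j l) = z c (σ i) (σ j) (σ l) := by
    intro σ c i j l
    funext c' a b
    simp only [hP, hz, Equiv.symm_apply_eq]
  have hvec1 : ω = ExteriorAlgebra.ιMulti k 4 (vec 1) := by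
    have e : vec 1 = ![z 0 0 1 2, z 1 0 1 2, z 0 0 2 3, z 1 0 2 3] := by
      funext r c' a b
      fin_cases r <;> simp [vec, arg, hzc]
    rw [hω, e]
    simp [ExteriorAlgebra.ιMulti_succ_apply, mul_assoc]
  have hmap : ∀ σ, ExteriorAlgebra.map (P σ) ω = ExteriorAlgebra.ιMulti k 4 (vec σ) := by
    intro σ
    rw [hvec1, ExteriorAlgebra.map_apply_ιMulti]
    congr 1
    funext r
    have e1 : ∀ c i j l, (fun c' a b => ((zi c i j l c' a b : ℤ) : k)) = z c i j l := fun c i j l => by
      funext c' a b; rw [hzc]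
    fin_cases r <;> simp only [Function.comp_apply, vec, arg, e1, hPz, Equiv.Perm.coe_one, id_eq]
  have hneg : ∀ (π : Equiv.Perm (Fin 4)) (σ : Equiv.Perm (Fin 4)) (hs : Equiv.Perm.sign π = 1),
      (∀ r c' a b, arg σ r c' a b = -arg 1 (π r) c' a b) →
      ExteriorAlgebra.map (P σ) ω = ω := by
    intro π σ hs h
    rw [hmap, hvec1]
    have e : vec σ = fun r => (-1 : k) • (vec 1 ∘ π) r := by
      funext r c' a b
      simp [vec, h r c' a b]
    rw [e, AlternatingMap.map_smul_univ, AlternatingMap.map_perm, hs, one_smul, Finset.prod_const, Finset.card_univ,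
      Fintype.card_fin, show ((-1 : k)) ^ 4 = 1 by norm_num, one_smul]
  refine ⟨hneg 1 _ (by decide) (by decide +kernel), hneg (Equiv.swap 0 2 * Equiv.swap 1 3) _ (by decide) (by decide +kernel), fun h => ?_⟩
  let π : (Fin 2 → Fin 4 → Fin 4 → k) →ₗ[k] (Fin 4 → k) :=
    { toFun := fun f s => f (coord s).1 (coord s).2.1 (coord s).2.2
      map_add' := fun _ _ => rfl
      map_smul' := fun _ _ => rfl }
  let A : ∀ i, (Fin 2 → Fin 4 → Fin 4 → k) [⋀^Fin i]→ₗ[k] k
    | 4 => Matrix.detRowAlternating.compLinearMap π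
    | _ => 0
  have hA : A 4 = Matrix.detRowAlternating.compLinearMap π := rfl
  have h1 := congrArg (ExteriorAlgebra.liftAlternating A) h
  rw [map_sum, map_zero] at h1
  refine sum_det_ne ((Int.cast_eq_zero (α := k)).1 ?_)
  rw [Int.cast_sum, ← h1]
  refine Finset.sum_congr rfl fun σ _ => ?_
  rw [hmap, ExteriorAlgebra.liftAlternating_apply_ιMulti, hA, Int.cast_det]
  rfl

end Groth.Agent.S19221
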