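import Groth.Statements.S19223
import Groth.Agent.Lib.GalCoh25.Exact
import Mathlib.RingTheory.Henselian

set_option autoImplicit false
attribute [local instance] Units.mulDistribMulActionRight
open GalCoh

namespace Groth.Agent.S19223

/-- For a strictly henselian local ring R whose residue field k has characteristic p ≥ 0, and a finite
group G of order prime to p acting on R by ring automorphisms (hence on the unit groups R^× and
k^×), consider the homomorphism H^n(G, R^×) → H^n(G, k^×) induced by the reduction map. It is
bijective for every n ≥ 2; it is also bijective for n = 1 provided that p = 0 or the only p-power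
root of unity in R is 1. (The reduction map on cohomology is pinned by its values on units; groups,
rings and modules are taken in the lowest universe, as integral coefficients in the group-cohomology
library require.) -/
theorem result (R : Type) [CommRing R]
    [HenselianLocalRing R] [IsSepClosed (IsLocalRing.ResidueField R)] (p : ℕ) [CharP (IsLocalRing.ResidueField R) p]
    (G : Type) [Group G] [Finite G] [MulSemiringAction G R] (hp : ¬ p ∣ Nat.card G)
    (φ : Rep.ofMulDistribMulAction G Rˣ ⟶ Rep.ofMulDistribMulAction G (IsLocalRing.ResidueField R)ˣ)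
    (hφ : ∀ x : Rˣ, Additive.toMul (φ.hom (Additive.ofMul x)) = Units.map (IsLocalRing.residue R).toMonoidHom x)
    (n : ℕ) (hn : 1 ≤ n) (h1 : n = 1 → p ≠ 0 → ∀ (ζ : Rˣ) (m : ℕ), ζ ^ p ^ m = 1 → ζ = 1) :
    Function.Bijective ((groupCohomology.functor ℤ G n).map φ).hom := by
  classical
  let 𝔪 := IsLocalRing.maximalIdeal R
  obtain ⟨j, rfl⟩ := Nat.exists_eq_add_of_le hn
  set m := Nat.card G
  have hm : IsUnit (m : R) := by
    refine IsLocalRing.notMem_maximalIdeal.1 fun h => hp ?_
    rw [← CharP.cast_eq_zero_iff (IsLocalRing.ResidueField R) p, ← map_natCast (IsLocalRing.residue R)]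
    exact (IsLocalRing.residue_eq_zero_iff _).2 h
  have hm0 : m ≠ 0 := Nat.card_pos.ne'
  have hφ' : ∀ x, φ.hom x =
      Additive.ofMul (Units.map (IsLocalRing.residue R).toMonoidHom (Additive.toMul x)) := fun x => by
    apply Additive.toMul.injective
    exact hφ (Additive.toMul x)
  have hsurj : Function.Surjective φ.hom := by
    intro y
    obtain ⟨x, hx⟩ := IsLocalRing.surjective_units_map_of_local_ringHom (IsLocalRing.residue R)
      IsLocalRing.residue_surjective inferInstance (Additive.toMul y)
    exact ⟨Additive.ofMul x, by rw [hφ']; exact congrArg Additive.ofMul hx⟩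
  let K := CategoryTheory.Limits.kernel φ
  let ι : K ⟶ Rep.ofMulDistribMulAction G Rˣ := CategoryTheory.Limits.kernel.ι φ
  have hι : Function.Injective ι.hom := (Rep.mono_iff_injective ι).1 inferInstance
  haveI : CategoryTheory.Epi φ := (Rep.epi_iff_surjective φ).2 hsurj
  let X : CategoryTheory.ShortComplex (Rep ℤ G) :=
    .mk ι φ (CategoryTheory.Limits.kernel.condition φ)
  have hX : X.ShortExact := .mk' (X.exact_of_f_is_kernel (CategoryTheory.Limits.kernelIsKernel φ))
    inferInstance inferInstance
  have hex : ∀ b : ↑(Rep.ofMulDistribMulAction G Rˣ), φ.hom b = 0 → ∃ a : ↑K, ι.hom a = b :=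
    GalCoh25.exists_of_shortExact hX
  have hzero : ∀ a : ↑K, φ.hom (ι.hom a) = 0 := fun a =>
    congrArg (fun f : K ⟶ Rep.ofMulDistribMulAction G (IsLocalRing.ResidueField R)ˣ => f.hom a)
      (CategoryTheory.Limits.kernel.condition φ)
  have hone : ∀ x, φ.hom x = 0 ↔ IsLocalRing.residue R ((Additive.toMul x : Rˣ) : R) = 1 := fun x => by
    rw [hφ']
    exact ⟨fun h => congrArg Units.val (congrArg Additive.toMul h), fun h => congrArg Additive.ofMul (Units.ext h)⟩
  have hroot : ∀ u : Rˣ, IsLocalRing.residue R u = 1 → ∃ v : Rˣ, v ^ m = u ∧ IsLocalRing.residue R v = 1 := by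
    intro u hu
    obtain ⟨a, ha, ha1⟩ := HenselianLocalRing.is_henselian (Polynomial.X ^ m - Polynomial.C (u : R))
      (Polynomial.monic_X_pow_sub_C _ hm0) 1
      ((IsLocalRing.residue_eq_zero_iff _).1 (by simp [hu]))
      (by simpa [Polynomial.derivative_X_pow] using hm)
    have ha' : a ^ m = u := by simpa [Polynomial.IsRoot, sub_eq_zero] using ha
    have hau : IsUnit a := (isUnit_pow_iff hm0).1 (ha' ▸ u.isUnit)
    refine ⟨hau.unit, Units.ext ha', ?_⟩
    rw [IsUnit.unit_spec, ← sub_eq_zero, ← map_one (IsLocalRing.residue R), ← map_sub,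
      IsLocalRing.residue_eq_zero_iff]
    exact ha1
  have huniq : ∀ u : Rˣ, IsLocalRing.residue R u = 1 → u ^ m = 1 → u = 1 := by
    intro u hu h
    have h1 : (∑ i ∈ Finset.range m, (u : R) ^ i) * ((u : R) - 1) = 0 := by
      rw [geom_sum_mul, ← Units.val_pow_eq_pow_val, h, Units.val_one, sub_self]
    have h2 : IsUnit (∑ i ∈ Finset.range m, (u : R) ^ i) := by
      refine IsLocalRing.notMem_maximalIdeal.1 fun h3 => IsLocalRing.notMem_maximalIdeal.2 hm ?_
      rw [← IsLocalRing.residue_eq_zero_iff, map_sum] at h3
      simp only [map_pow, hu, one_pow, Finset.sum_const, Finset.card_range, nsmul_one] at h3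
      rw [← IsLocalRing.residue_eq_zero_iff, map_natCast]
      exact h3
    exact Units.ext (sub_eq_zero.1 (h2.mul_right_eq_zero.1 h1))
  have hK : Function.Bijective fun x : K => m • x := by
    constructor
    · intro x y hxy
      have h2 : m • (x - y) = 0 := by rw [smul_sub]; exact sub_eq_zero.2 hxy
      have h := congrArg ι.hom h2
      rw [map_nsmul, map_zero] at h
      have := huniq _ ((hone _).1 (hzero (x - y))) (congrArg Additive.toMul h)
      refine sub_eq_zero.1 (hι ?_)
      rw [map_zero]
      exact congrArg Additive.ofMul this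
    · intro x
      obtain ⟨v, hv, hv1⟩ := hroot _ ((hone _).1 (hzero x))
      obtain ⟨a, ha⟩ := hex (Additive.ofMul v) ((hone _).2 hv1)
      refine ⟨a, hι ?_⟩
      rw [map_nsmul, ha]
      exact congrArg Additive.ofMul hv
  haveI : ∀ i, Subsingleton (groupCohomology X.X₁ (i + 1)) :=
    GalCoh25.subsingleton_of_card_nsmul_bijective K hK
  haveI : Subsingleton (groupCohomology X.X₁ (1 + j)) := by rw [Nat.add_comm]; exact this j
  exact ⟨GalCoh25.injective_map_of_subsingleton hX (1 + j), GalCoh25.surjective_map_of_subsingleton hX (1 + j)⟩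
end Groth.Agent.S19223
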