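import Groth.Statements.S19224
import Groth.Agent.Lib.GalCoh25.Exact
import Mathlib.RingTheory.RootsOfUnity.AlgebraicallyClosed

set_option autoImplicit false
open GalCoh

namespace Groth.Agent.S19224

/-- Let Q be a finite group such that H^3(Q, ℤ) = 0 for the trivial action, and let k be a separably
closed field of characteristic p ≥ 0 with p not dividing the order of Q. Then H^2(Q, k^×) = 0, where
Q acts trivially on the units of k. (Groups and fields are taken in the lowest universe, as integral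
coefficients in the group-cohomology library require.) -/
theorem result (Q : Type) [Group Q] [Finite Q]
    (hQ : Subsingleton (groupCohomology (Rep.trivial ℤ Q ℤ) 3)) (k : Type) [Field k] [IsSepClosed k]
    (p : ℕ) [CharP k p] (hp : ¬ p ∣ Nat.card Q) :
    Subsingleton (groupCohomology (Rep.trivial ℤ Q (Additive kˣ)) 2) := by
  classical
  set m := Nat.card Q with hm
  have hm0 : m ≠ 0 := Nat.card_pos.ne'
  haveI : NeZero m := ⟨hm0⟩
  haveI hmk : NeZero (m : k) := ⟨fun h => hp ((CharP.cast_eq_zero_iff k p m).1 h)⟩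
  haveI : NeZero ((m * m : ℕ) : k) := ⟨by rw [Nat.cast_mul]; exact mul_ne_zero hmk.out hmk.out⟩
  haveI : NeZero (m * m) := ⟨mul_ne_zero hm0 hm0⟩
  obtain ⟨z, hz⟩ := HasEnoughRootsOfUnity.exists_primitiveRoot k (m * m)
  let w : kˣ := (hz.isUnit (mul_ne_zero hm0 hm0)).unit
  have hw : IsPrimitiveRoot (w : k) (m * m) := by simpa [w] using hz
  have hζ : IsPrimitiveRoot ((w ^ m : kˣ) : k) m := by
    rw [Units.val_pow_eq_pow_val]
    exact hw.pow (Nat.pos_of_ne_zero (mul_ne_zero hm0 hm0)) (mul_comm _ _)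
  let A := Rep.trivial ℤ Q (Additive kˣ)
  let Z := Rep.trivial ℤ Q ℤ
  let M := Rep.trivial ℤ Q (ZMod m)
  let hom {V W : Type} [AddCommGroup V] [AddCommGroup W] (f : V →+ W) :
      Rep.trivial ℤ Q V ⟶ Rep.trivial ℤ Q W := Rep.ofHom ⟨f.toIntLinearMap, fun _ => rfl⟩
  let α' : Z ⟶ A := hom (zmultiplesHom (Additive kˣ) (Additive.ofMul w))
  let μ : Z ⟶ Z := m • CategoryTheory.CategoryStruct.id Z
  let red : Z ⟶ M := hom (Int.castAddHom (ZMod m))
  let j₀ : ZMod m →+ Additive kˣ := ZMod.lift m ⟨zmultiplesHom (Additive kˣ) (Additive.ofMul (w ^ m)), by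
    have : (w ^ m) ^ m = 1 := Units.ext hζ.pow_eq_one
    simp [← ofMul_pow, this]⟩
  let j : M ⟶ A := hom j₀
  let β : A ⟶ A := m • CategoryTheory.CategoryStruct.id A
  have hμ : ∀ x : ℤ, μ.hom x = (m : ℤ) * x := fun x => by
    rw [show μ.hom x = m • x by simp only [μ, Rep.nsmul_hom]; rfl, nsmul_eq_mul]
  have hβ : ∀ x : Additive kˣ, β.hom x = m • x := fun x => by
    simp only [β, Rep.nsmul_hom]; rfl
  have hj : ∀ x : ℤ, j₀ (x : ZMod m) = x • Additive.ofMul (w ^ m) := fun x => ZMod.lift_coe m _ x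
  have hjinj : Function.Injective j₀ := by
    rw [injective_iff_map_eq_zero]
    intro x hx
    obtain ⟨x, rfl⟩ := ZMod.intCast_surjective x
    rw [hj] at hx
    rw [ZMod.intCast_zmod_eq_zero_iff_dvd]
    exact (hζ.zpow_eq_one_iff_dvd x).1 (by
      have := congrArg (fun t => ((Additive.toMul t : kˣ) : k)) hx
      simpa using this)
  obtain ⟨_, h₁⟩ := GalCoh25.shortExact_of_elements μ red
    (fun a b h => mul_left_cancel₀ (Int.natCast_ne_zero.2 hm0) ((hμ a).symm.trans (h.trans (hμ b))))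
    ZMod.intCast_surjective
    (fun a => show ((μ.hom a : ℤ) : ZMod m) = 0 by rw [hμ]; simp)
    (fun b hb => by
      obtain ⟨c, hc⟩ := (ZMod.intCast_zmod_eq_zero_iff_dvd b m).1 hb
      exact ⟨c, (hμ c).trans hc.symm⟩)
  obtain ⟨_, h₂⟩ := GalCoh25.shortExact_of_elements j β hjinj
    (fun y => by
      obtain ⟨x, hx⟩ := IsSepClosed.exists_pow_nat_eq ((Additive.toMul y : kˣ) : k) m
      have hu : x ≠ 0 := fun h => (Additive.toMul y : kˣ).ne_zero (by rw [← hx, h, zero_pow hm0])
      refine ⟨Additive.ofMul (Units.mk0 x hu), ?_⟩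
      rw [hβ]
      exact congrArg Additive.ofMul (Units.ext hx))
    (fun a => by
      rw [hβ]
      show m • j₀ a = 0
      rw [← map_nsmul, nsmul_eq_mul, ZMod.natCast_self, zero_mul, map_zero])
    (fun b hb => by
      rw [hβ] at hb
      have hb' : ((Additive.toMul b : kˣ) : k) ^ m = 1 :=
        congrArg (fun t => ((Additive.toMul t : kˣ) : k)) hb
      obtain ⟨i, -, hi⟩ := hζ.eq_pow_of_pow_eq_one hb'
      refine ⟨((i : ℤ) : ZMod m), (hj i).trans ?_⟩
      apply Additive.toMul.injective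
      simpa using Units.ext hi)
  haveI : Subsingleton (groupCohomology (CategoryTheory.ShortComplex.mk μ red (by assumption)).X₁ (2 + 1)) := hQ
  have s₁ := GalCoh25.surjective_map_of_subsingleton h₁ 2
  have s₂ := GalCoh25.surjective_map_of_eq_zero h₂ 2
    (GalCoh25.map_card_nsmul_eq_zero (CategoryTheory.CategoryStruct.id A) 1)
  have hfac : CategoryTheory.CategoryStruct.comp red j = m • α' := by
    refine Rep.hom_ext (Representation.IntertwiningMap.ext (LinearMap.ext fun x => ?_))
    rw [Rep.nsmul_hom]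
    show j₀ ((x : ℤ) : ZMod m) = m • (x • Additive.ofMul w)
    rw [hj, ofMul_pow, ← natCast_zsmul, ← natCast_zsmul, smul_smul, smul_smul, mul_comm]
  refine subsingleton_of_forall_eq 0 fun y => ?_
  obtain ⟨a, rfl⟩ := s₂ y
  obtain ⟨b, rfl⟩ := s₁ a
  show ((CategoryTheory.CategoryStruct.comp ((groupCohomology.functor ℤ Q 2).map red)
    ((groupCohomology.functor ℤ Q 2).map j))).hom b = 0
  rw [← CategoryTheory.Functor.map_comp, hfac, GalCoh25.map_card_nsmul_eq_zero α' 1]
  rfl
end Groth.Agent.S19224
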