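import Groth.Statements.S19225
import Groth.Agent.Lib.PBC24.Main
import Groth.Agent.Lib.Kleiman14.Dim
import Groth.Agent.Lib.BrHens19.Kummer
-- import your own Groth.Agent.* helpers here

set_option autoImplicit false
universe u
open CategoryTheory AlgebraicGeometry
open Dix CategoryTheory.Limits

namespace Groth.Agent.S19225

set_option linter.style.haveILetI false
set_option backward.isDefEq.respectTransparency.types false


/-- Let R be a noetherian strictly henselian local ring with residue field k, and let X → Spec R be a
proper smooth morphism of relative dimension 1 with geometrically connected fibres (a smooth proper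
curve over R). Then H²(X_et, G_m) has no non-zero torsion of order invertible in R: if n is a
natural number whose image in k is non-zero and x ∈ H²(X_et, G_m) satisfies n·x = 0, then x = 0.
(The published statement asserts that H²(X_et, G_m) is torsion-free, i.e. that the cohomological
Brauer group of X is zero. Its argument compares, by proper base change, the cohomology of the
two-term complex G_m → G_m given by the n-th power map on X with that on the closed fibre X_k; this
comparison is valid when n is invertible in R, but not in general when the residue characteristic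
divides n: for an elliptic curve over the ring of Witt vectors of an algebraic closure of the field
with three elements and n = 3, the degree-2 cohomology of that complex is infinite on X and finite
on X_k. So this row states the part of the assertion that the argument establishes, the vanishing of
the torsion of order prime to the residue characteristic. The source works with a projective curve;
the argument uses properness, the fibre dimension and the surjectivity of Pic X → Pic X_k, so proper
is assumed here.) -/
theorem result (R : Type u) [CommRing R] [IsNoetherianRing R]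
    [HenselianLocalRing R] [IsSepClosed (IsLocalRing.ResidueField R)] (X : Scheme.{u})
    (f : X ⟶ Spec (CommRingCat.of R)) [IsProper f] [SmoothOfRelativeDimension 1 f] [GeometricallyConnected f]
    (n : ℕ) (hn : (n : IsLocalRing.ResidueField R) ≠ 0) (x : Dix.BrCoh X) (hx : n • x = 0) : x = 0 := by
  haveI : Smooth f := SmoothOfRelativeDimension.smooth 1 f
  let κ := Spec.map (CommRingCat.ofHom (IsLocalRing.residue R))
  let g := pullback.snd f κ
  let i := Groth.Agent.PBC24.closedIncl f
  haveI : IsProper g := MorphismProperty.pullback_snd _ _ inferInstance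
  haveI : MorphismProperty.IsStableUnderBaseChange (@SmoothOfRelativeDimension 1) :=
    AlgebraicGeometry.smoothOfRelativeDimension_isStableUnderBaseChange 1
  haveI : SmoothOfRelativeDimension 1 g :=
    MorphismProperty.pullback_snd (P := @SmoothOfRelativeDimension 1) _ _ inferInstance
  haveI : IsClosedImmersion i := inferInstanceAs (IsClosedImmersion (pullback.fst _ _))
  haveI : PreservesFiniteLimits (EtCoh.pull i) := Groth.Agent.EtStalk.preservesFiniteLimits_pull i
  haveI : PreservesFiniteLimits (EtCoh.pull (pullback.fst f κ)) := Groth.Agent.EtStalk.preservesFiniteLimits_pull _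
  have hd : topologicalKrullDim ↥(pullback f κ) ≤ 1 := by
    rcases isEmpty_or_nonempty ↥(pullback f κ) with h | h
    · haveI : IsEmpty (TopologicalSpace.IrreducibleCloseds ↥(pullback f κ)) := ⟨fun t => h.false t.2.nonempty.some⟩
      exact (Order.krullDim_eq_bot (α := TopologicalSpace.IrreducibleCloseds ↥(pullback f κ))).le.trans bot_le
    · exact (Groth.Agent.Kleiman14.dim_eq g 1).le.trans (le_of_eq Nat.cast_one)
  have hn0 : 0 < n := Nat.pos_of_ne_zero (by rintro rfl; simp at hn)
  haveI : NeZero n := ⟨hn0.ne'⟩
  have hu : IsUnit ((n : ℕ) : R) := by
    rw [← IsLocalRing.residue_ne_zero_iff_isUnit, map_natCast]; exact hn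
  obtain ⟨ζ, hζ⟩ := Groth.Agent.PBC24.exists_root_cyclotomic (A := R) hn0 hn
  let φ : R →+* Γ(X, ⊤) := f.appTop.hom.comp (Scheme.ΓSpecIso (CommRingCat.of R)).inv.hom
  have hζW : Polynomial.aeval (φ ζ) (Polynomial.cyclotomic n ℤ) = 0 := by
    have h := congrArg φ hζ
    rw [map_zero, Polynomial.aeval_def, Polynomial.hom_eval₂] at h
    rw [Polynomial.aeval_def]
    convert h using 2
    exact RingHom.ext_int _ _
  have hvan : ∀ m : ℕ, m ∣ n → ∀ z : EtCoh.H (pullback f κ) (EtCoh.Gm _) 2, m • z = 0 → z = 0 := fun m => by
    induction m using Nat.recOnPrimePow with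
    | zero => exact fun h => absurd (zero_dvd_iff.1 h) hn0.ne'
    | one => exact fun _ z hz => (one_nsmul z).symm.trans hz
    | prime_pow_mul a p e hp _ he ih =>
      intro h z hz
      have hpn : p ∣ n := (dvd_pow_self p he.ne').trans ((dvd_mul_right _ a).trans h)
      have hpk : (p : IsLocalRing.ResidueField R) ≠ 0 := fun hp0 => hn (by
        obtain ⟨c, rfl⟩ := hpn
        rw [Nat.cast_mul, hp0, zero_mul])
      refine ih ((dvd_mul_left a _).trans h) z ?_
      exact Groth.Agent.PBC24.eq_zero_of_pow_nsmul_curve g hd hp hpk le_rfl (a • z) (e := e) (by rw [smul_smul]; exact hz)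
  haveI : IsLocallyNoetherian (pullback f κ) := LocallyOfFiniteType.isLocallyNoetherian g
  haveI : CompactSpace ↥(pullback f κ) := QuasiCompact.compactSpace_of_compactSpace g
  haveI : AlgebraicGeometry.IsNoetherian (pullback f κ) := ⟨⟩
  haveI : AlgebraicGeometry.IsNoetherian (pullback f (Spec.map (CommRingCat.ofHom (IsLocalRing.residue R)))) := ‹_›
  refine Groth.Agent.BrHens19.eq_zero_of_nsmul i (by simpa using hu.map φ) (φ ζ) hζW (hvan n dvd_rfl)
    (Groth.Agent.PBC24.surjective_HGmPull f i (Groth.Agent.PBC24.range_closedIncl f) hd) hn0
    (Groth.Agent.PBC24.bijective_Hpull_closedFibre Groth.Agent.PBC24.properBC R f ?_ 2).1 x hx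
  exact Groth.Agent.PBC24.isTorsion_of_isLTorsion (Groth.Agent.EtAcyc24.isLTorsion_of_nsmul Set.univ
    ⟨hn0, fun _ _ _ => Set.mem_univ _⟩ (Groth.Agent.EtAcyc24.nsmul_id_const X n))

end Groth.Agent.S19225
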