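import Groth.Statements.S19227
import Groth.Agent.Lib.GmNorm9.Basic

set_option autoImplicit false
universe u
open CategoryTheory AlgebraicGeometry
open Dix

namespace Groth.Agent.S19227

/-- Let f : X → Y be a finite locally free morphism of schemes of constant degree d ≥ 1, so that f is
finite, flat, of finite presentation and surjective. If H²(X_et, G_m) is a torsion group, then
H²(Y_et, G_m) is a torsion group. (The source states this for a finite, flat, finitely presented
surjection of algebraic stacks and argues with multiplication by the degree of f; the case of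
schemes with f of constant degree is what is stated here.) -/
theorem result (X Y : Scheme.{u}) (f : X ⟶ Y) (d : ℕ) (hd : 1 ≤ d)
    (hf : Mor2.IsFinLocFreeOfDeg d f) (hX : IsAddTorsion (Dix.BrCoh X)) :
    IsAddTorsion (Dix.BrCoh Y) := by
  obtain ⟨⟨hfin, hflat, hlfp⟩, hdeg⟩ := hf
  intro x
  have hinj := (Groth.Agent.EtStalk.bijective_HofPush f 2 (EtCoh.Gm X)
    (fun q hq => Groth.Agent.S0071.result f (EtCoh.Gm X) q hq)).1
  let y : EtCoh.H Y ((EtCoh.push f).obj (EtCoh.Gm X)) 2 := x.comp (Abelian.Ext.mk₀ (EtLim.GmPush f)) (add_zero 2)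
  obtain ⟨n, hn, hn0⟩ := isOfFinAddOrder_iff_nsmul_eq_zero.1 (hX (EtLim.HofPush f (EtCoh.Gm X) 2 y))
  have hy : n • y = 0 := hinj (by rw [map_nsmul, hn0, map_zero])
  refine isOfFinAddOrder_iff_nsmul_eq_zero.2 ⟨n * d, Nat.mul_pos hn hd, ?_⟩
  have hdx : y.comp (Abelian.Ext.mk₀ (Groth.Agent.GmNorm9.normHom f)) (add_zero 2) = d • x := by
    simp only [y, Abelian.Ext.comp_assoc_of_second_deg_zero, Abelian.Ext.mk₀_comp_mk₀,
      Groth.Agent.GmNorm9.gmPush_normHom f hdeg]
    have hmk : Abelian.Ext.mk₀ (d • 𝟙 (EtCoh.Gm Y)) = d • Abelian.Ext.mk₀ (𝟙 (EtCoh.Gm Y)) :=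
      map_nsmul (Abelian.Ext.addEquiv₀ (X := EtCoh.Gm Y) (Y := EtCoh.Gm Y)).symm d (𝟙 (EtCoh.Gm Y))
    rw [hmk]
    exact (map_nsmul (AddMonoidHom.mk' (fun b => x.comp b (add_zero 2))
      (fun b c => Abelian.Ext.comp_add _ _ _ _)) d _).trans (congrArg _ (Abelian.Ext.comp_mk₀_id x))
  rw [mul_nsmul', ← hdx]
  exact ((map_nsmul (AddMonoidHom.mk' (fun z : EtCoh.H Y ((EtCoh.push f).obj (EtCoh.Gm X)) 2 =>
    z.comp (Abelian.Ext.mk₀ (Groth.Agent.GmNorm9.normHom f)) (add_zero 2))
      (fun a b => Abelian.Ext.add_comp _ _ _ _)) n y).symm.trans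
    ((congrArg _ hy).trans (map_zero _)))

end Groth.Agent.S19227
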