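import Groth.Statements.S19228
import Groth.Agent.Lib.MuExt15.Main
import Groth.Agent.Lib.MuExt15.Commutator
-- import your own Groth.Agent.* helpers here

set_option autoImplicit false
set_option backward.isDefEq.respectTransparency.types false
universe u
open CategoryTheory MonoidalCategory CartesianMonoidalCategory MonObj GrpObj AlgebraicGeometry
open GrpSch

namespace Groth.Agent.S19228

/-- Let R be a strictly henselian local ring and n ≥ 1, and let E be a group scheme over Spec R which is
an extension of μ_n = D(ℤ/n) by the multiplicative group G_m = D(ℤ): there are homomorphisms i : G_m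
→ E and q : E → μ_n with q flat, surjective and locally of finite presentation (an epimorphism of
fppf sheaves), i a kernel of q, and i(G_m) central in E. Then E is commutative: any two points of E
with values in an R-scheme commute. (The published statement speaks of an extension of abelian fppf
sheaves and also asserts that E is representable; its argument, through the commutator pairing, is
for an extension of sheaves of groups with G_m central, which is what this row assumes, with E a
group scheme from the start, so only commutativity is stated. Centrality of G_m is essential: when 2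
is invertible the orthogonal group O_2 is a non-commutative extension of μ_2 by G_m = SO_2.) -/
theorem result (R : Type u) [CommRing R] [HenselianLocalRing R]
    [IsSepClosed (IsLocalRing.ResidueField R)] (n : ℕ) (hn : 1 ≤ n)
    (E : Over (Spec (CommRingCat.of R))) [GrpObj E]
    (i : Red.diag R ℤ ⟶ E) [IsMonHom i] (q : E ⟶ Red.diag R (ZMod n)) [IsMonHom q]
    (hker : AlgGrp.IsKernel i q) (hq : Flat q.left ∧ Surjective q.left ∧ LocallyOfFinitePresentation q.left)
    (hcent : ∀ (T : Over (Spec (CommRingCat.of R))) (g : T ⟶ E) (t : T ⟶ Red.diag R ℤ), g * (t ≫ i) = (t ≫ i) * g)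
    (T : Over (Spec (CommRingCat.of R))) (g h : T ⟶ E) : g * h = h * g := by
  classical
  haveI : NeZero n := ⟨by omega⟩
  obtain ⟨c, hl, hr, hl1, hr1, halt, hpt⟩ := @MuExt15.exists_commutator_pairing _ E (Red.diag R (ZMod n))
    (Red.diag R ℤ) _ _ _ i (by assumption) q (by assumption) hker ⟨hq.2.1, hq.1, hq.2.2⟩ hcent
    (fun x y => TorPts21.commute_of_chars (DiagGL.charsDiag R (ZMod n)) x y)
    (fun x y => TorPts21.commute_of_chars (DiagGL.charsDiag R ℤ) x y)
  have hc1 := MuExt15.pairing_trivial c hl hr hl1 hr1 halt
  have h1 := hpt g h
  rw [hc1, ← Category.assoc, MonObj.comp_one] at h1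
  exact commutatorElement_eq_one_iff_mul_comm.1 (h1.symm.trans (MonObj.one_comp i))

end Groth.Agent.S19228
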