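import Groth.Statements.S19230
import Groth.Agent.Lib.SigmaLin.Basic

set_option autoImplicit false
universe u v
open SigmaLin

namespace Groth.Agent.S19230

/-- Let k be a field, σ a surjective ring endomorphism of k, V a finite-dimensional k-vector space and T
: V → V additive with T (c • v) = σ c • T v. Then the set of vectors killed by some iterate of T is
a k-subspace on which a single iterate of T vanishes, it is a complement of the intersection over n
of the k-spans of the images of the n-th iterates, and T restricts to a bijection of that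
intersection onto itself. -/
theorem result
    (k : Type u) [Field k] (σ : k →+* k) (hσ : Function.Surjective σ)
    (V : Type v) [AddCommGroup V] [Module k V] [FiniteDimensional k V] (T : V →ₛₗ[σ] V) :
    (∃ W : Submodule k V, (W : Set V) = {v : V | ∃ n : ℕ, (⇑T)^[n] v = 0} ∧
      (∃ N : ℕ, ∀ v ∈ W, (⇑T)^[N] v = 0) ∧
      IsCompl W (⨅ n : ℕ, Submodule.span k (Set.range ((⇑T)^[n])))) ∧
    Set.BijOn (⇑T) (⋂ n : ℕ, (Submodule.span k (Set.range ((⇑T)^[n])) : Set V))
      (⋂ n : ℕ, (Submodule.span k (Set.range ((⇑T)^[n])) : Set V)) := by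
  obtain ⟨N, hN, hinf⟩ := Groth.Agent.SigmaLinLib.W_stab T
  have : RingHomSurjective σ := ⟨hσ⟩
  let W₀ : Submodule k V :=
    { carrier := {v : V | ∃ n : ℕ, (⇑T)^[n] v = 0}
      zero_mem' := ⟨0, rfl⟩
      add_mem' := by
        rintro a b ⟨m, hm⟩ ⟨n, hn⟩
        refine ⟨m + n, ?_⟩
        rw [Groth.Agent.SigmaLinLib.iterate_add', Function.iterate_add_apply _ m n b, hn, add_comm m n,
          Function.iterate_add_apply _ n m a, hm, iterate_map_zero, iterate_map_zero, add_zero]
      smul_mem' := by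
        rintro c a ⟨n, hn⟩
        exact ⟨n, by rw [Groth.Agent.SigmaLinLib.iterate_smul', hn, smul_zero]⟩ }
  have hker : ∀ v ∈ W₀, (⇑T)^[N] v = 0 := by
    rintro v ⟨n, hn⟩
    refine Groth.Agent.SigmaLinLib.eq_zero_of_nil T ⟨n, ?_⟩ fun i => ?_
    · rw [← Function.iterate_add_apply, add_comm, Function.iterate_add_apply, hn, iterate_map_zero]
    · have h1 : (⇑T)^[N] v ∈ Groth.Agent.SigmaLinLib.W T N := Submodule.subset_span ⟨v, rfl⟩
      rw [← hinf, Submodule.mem_iInf] at h1
      exact h1 i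
  have hset : ∀ n, (Groth.Agent.SigmaLinLib.W T n : Set V) = Set.range (⇑T)^[n] := by
    intro n
    refine Set.Subset.antisymm ?_ Submodule.subset_span
    intro x hx
    induction hx using Submodule.span_induction with
    | mem y hy => exact hy
    | zero => exact ⟨0, iterate_map_zero T n⟩
    | add a b _ _ ha hb =>
      obtain ⟨a, rfl⟩ := ha; obtain ⟨b, rfl⟩ := hb
      exact ⟨a + b, Groth.Agent.SigmaLinLib.iterate_add' T n a b⟩
    | smul c a _ ha =>
      obtain ⟨a, rfl⟩ := ha
      obtain ⟨d, rfl⟩ := hσ.iterate n c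
      exact ⟨d • a, Groth.Agent.SigmaLinLib.iterate_smul' T n d a⟩
  have hset2 : (⋂ n : ℕ, (Submodule.span k (Set.range ((⇑T)^[n])) : Set V)) = Set.range (⇑T)^[N] := by
    rw [← hset, ← hinf, Submodule.coe_iInf]; rfl
  refine ⟨⟨W₀, rfl, ⟨N, hker⟩, ?_⟩, ?_⟩
  · constructor
    · rw [disjoint_iff, eq_bot_iff]
      rintro v ⟨⟨n, hn⟩, hv⟩
      exact Groth.Agent.SigmaLinLib.eq_zero_of_nil T ⟨n, hn⟩ fun i => (Submodule.mem_iInf _).1 hv i
    · rw [codisjoint_iff, eq_top_iff]
      intro v _
      obtain ⟨w, hw⟩ : (⇑T)^[N] v ∈ Set.range (⇑T)^[N + N] := by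
        rw [← hset, hN (N + N) (Nat.le_add_right _ _)]; exact Submodule.subset_span ⟨v, rfl⟩
      rw [show v = (v - (⇑T)^[N] w) + (⇑T)^[N] w by abel]
      refine Submodule.add_mem_sup ⟨N, ?_⟩ ?_
      · rw [iterate_map_sub, ← Function.iterate_add_apply, hw, sub_self]
      · show _ ∈ ⨅ n, Groth.Agent.SigmaLinLib.W T n
        rw [hinf]; exact Submodule.subset_span ⟨w, rfl⟩
  · rw [hset2]
    refine ⟨?_, ?_, ?_⟩
    · rintro _ ⟨x, rfl⟩
      exact ⟨T x, by rw [← Function.iterate_succ_apply, Function.iterate_succ_apply']⟩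
    · intro x hx y hy hxy
      rw [← sub_eq_zero]
      have hm : x - y ∈ Groth.Agent.SigmaLinLib.W T N := sub_mem (by rw [← SetLike.mem_coe, hset]; exact hx) (by rw [← SetLike.mem_coe, hset]; exact hy)
      rw [← hinf, Submodule.mem_iInf] at hm
      exact Groth.Agent.SigmaLinLib.eq_zero_of_nil T ⟨1, by simp [map_sub, hxy]⟩ hm
    · intro x hx
      rw [← hset, ← hN (N + 1) (Nat.le_succ _), hset] at hx
      obtain ⟨z, rfl⟩ := hx
      exact ⟨(⇑T)^[N] z, ⟨z, rfl⟩, (Function.iterate_succ_apply' _ N z).symm⟩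

end Groth.Agent.S19230
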