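import Groth.Statements.S19239
import Groth.Agent.Lib.SigmaLin.Local

set_option autoImplicit false
universe u v
open SigmaLin

namespace Groth.Agent.S19239

/-- Let k be an algebraically closed field of characteristic p > 0, V a finite-dimensional k-vector
space and T : V → V an additive map with T (c • v) = σ(c) • T v for σ the inverse of the p-th power
map of k. Then v ↦ v − T v is surjective on V, and the intersection over n of the k-spans of the
images of the iterates of T admits a k-basis consisting of vectors fixed by T. (A special case of
the statement for a surjective field endomorphism satisfying two solvability conditions.) -/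
theorem result
    (p : ℕ) [Fact p.Prime] (k : Type u) [Field k] [CharP k p] [IsAlgClosed k]
    (V : Type v) [AddCommGroup V] [Module k V] [FiniteDimensional k V]
    (T : V →ₛₗ[(frobeniusEquiv k p).symm.toRingHom] V) :
    Function.Surjective (fun v : V => v - T v) ∧
    ∃ b : Module.Basis (Fin (Module.finrank k ↥(⨅ n : ℕ, Submodule.span k (Set.range ((⇑T)^[n]))))) k ↥(⨅ n : ℕ, Submodule.span k (Set.range ((⇑T)^[n]))),
      ∀ i, T (b i : V) = (b i : V) := by
  have h2 := Groth.Agent.SigmaLinLib.cond2_frobenius_inv k p
  have h3 := Groth.Agent.SigmaLinLib.cond3_frobenius_inv k p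
  refine ⟨Groth.Agent.SigmaLinLib.sub_surjective T h2 h3, ?_⟩
  obtain ⟨b, hb⟩ := Groth.Agent.SigmaLinLib.exists_basis_fixed _
    (Groth.Agent.SigmaLinLib.span_range_Tss T) h2 h3
  exact ⟨b, fun i => congrArg Subtype.val (hb i)⟩

end Groth.Agent.S19239
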