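import Groth.Statements.S1924
import Groth.Agent.Lib.Cyc26.C1Fund
import Groth.Agent.Lib.Cyc26.C1Push
import Groth.Agent.Lib.Cyc26.ClosedSetup
-- import your own Groth.Agent.* helpers here

set_option autoImplicit false
universe u
open CategoryTheory AlgebraicGeometry
open Cyc

namespace Groth.Agent.S1924

/-- Let L be invertible on X, ι : Y → X a closed immersion with δ ≤ k + 1 on Y, and s a global section
of L|_Y = ι^*L such that the points of its zero locus have δ ≤ k and, at every such point ξ with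
δ(ξ) = k, multiplication by the germ of s is injective on O_{Y,ξ}. Then c_1(L) ∩ [Y]_{k+1} ∼_rat
ι_*[Z(s)]_k as k-cycles on X (for any nonzero rational sections used to compute the left side and
any cycle on Y with the coefficients of [Z(s)]_k). Here L(ξ) = L_ξ/𝔪_ξ L_ξ is the space of rational
sections of L on the closure of ξ, div_{L|W}(s) and c_1(L) ∩ α are computed as coefficient functions
from chosen nonzero rational sections (Cyc.secDivFun, Cyc.c1CapFun), and results are compared up to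
rational equivalence for any cycles with those coefficients. A pair (X, δ) with Cyc.IsSetup plays
the role of a scheme locally of finite type over a fixed base with a dimension function (X locally
Noetherian with universally catenary local rings, δ a dimension function), and Cyc.DeltaCompat
records that the dimension function upstairs is the induced one. -/
theorem result (X Y : Scheme.{u}) (δ : X → ℤ) (hX : Cyc.IsSetup X δ) (L : X.Modules) (hL : PicF.IsInvertible L) (ι : Y ⟶ X) [IsClosedImmersion ι] (k : ℤ) (hY : ∀ y : Y, δ (ι y) ≤ k + 1) (s : ((Scheme.Modules.pullback ι).obj L).presheaf.obj (Opposite.op ⊤)) (hZ : ∀ y : Y, (((Scheme.Modules.pullback ι).obj L).presheaf.germ ⊤ y trivial) s ∈ IsLocalRing.maximalIdeal (Y.presheaf.stalk y) • (⊤ : Submodule (Y.presheaf.stalk y) (((Scheme.Modules.pullback ι).obj L).presheaf.stalk y)) → δ (ι y) ≤ k) (hreg : ∀ y : Y, δ (ι y) = k → Function.Injective (fun a : Y.presheaf.stalk y => a • (((Scheme.Modules.pullback ι).obj L).presheaf.germ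 ⊤ y trivial) s)) (v : (ξ : X) → Cyc.secFibre L ξ) (hv : ∀ ξ, v ξ ≠ 0) (γ : AlgebraicCycle X ℤ) (hγ : ⇑γ = Cyc.c1CapFun δ L (Cyc.subschemeFun δ (k + 1) ι) v) (ζ : AlgebraicCycle Y ℤ) (hζ : ⇑ζ = Cyc.zeroSectionFun (fun y => δ (ι y)) k ((Scheme.Modules.pullback ι).obj L) s) : Cyc.RatEquiv δ k γ (AlgebraicCycle.map ι (fun y => δ (ι y)) δ ζ) := by
  classical
  haveI := hX.1
  haveI : IsLocallyNoetherian Y := LocallyOfFiniteType.isLocallyNoetherian ι
  let δY : Y → ℤ := fun y => δ (ι y)
  have hdY : Cyc.IsDimFun Y δY := Cyc26.isDimFun_closed ι hX.2.2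
  have hcomp : Cyc.DeltaCompat ι δY δ := Cyc26.deltaCompat_closed ι δ
  have hL' := Groth.Agent.Twist.isInvertible_pullback ι hL
  let M := (Scheme.Modules.pullback ι).obj L
  let u₀ : (y : Y) → Cyc.secFibre M y := fun y =>
    if (Submodule.Quotient.mk ((M.presheaf.germ ⊤ y trivial) s) : Cyc.secFibre M y) = 0 then
      Cyc26.secPull ι L y (v (ι y)) else Submodule.Quotient.mk ((M.presheaf.germ ⊤ y trivial) s)
  have hu₀ : ∀ y, u₀ y ≠ 0 := fun y => by
    simp only [u₀]
    split_ifs with h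
    · exact Cyc26.secPull_ne_zero ι hL y (hv _)
    · exact h
  have hsupp : ∀ x : Y, ∃ t ∈ nhds x, (t ∩ Function.support (Cyc.subschemeFun δY (k + 1) (𝟙 Y))).Finite := fun y => by
    obtain ⟨W, hW, hyW, -⟩ := exists_isAffineOpen_mem_and_subset (U := (⊤ : Y.Opens)) (x := y) trivial
    refine ⟨W, W.isOpen.mem_nhds hyW, (Cyc26.finite_maximal_points isClosed_univ hW).subset fun z hz => ?_⟩
    refine ⟨trivial, fun w _ hw => ?_, hz.1⟩
    by_contra hne
    have hz2 := hz.2
    rw [Function.mem_support] at hz2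
    simp only [Cyc.subschemeFun] at hz2
    split_ifs at hz2 with hk
    · have := (hdY w z hw hne).1
      have : δY w ≤ k + 1 := hY w
      omega
    · exact hz2 rfl
  let β : AlgebraicCycle Y ℤ :=
    ⟨Cyc.subschemeFun δY (k + 1) (𝟙 Y), Set.subset_univ _, fun x _ => hsupp x⟩
  have hβZ : β ∈ Cyc.Zk Y δY (k + 1) := fun y hy => if_neg hy
  have hζ' : ⇑ζ = Cyc.c1CapFun δY M ⇑β u₀ := hζ.trans
    (Cyc26.zeroSectionFun_eq_c1Cap hdY hL' hY s hreg u₀ (fun y _ h => if_neg h))
  obtain ⟨ζ₁, hζ₁⟩ := Cyc26.exists_cycle_c1Cap hL' hdY β (fun y => Cyc26.secPull_ne_zero ι hL y (hv (ι y)))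
  have h1 := Cyc26.ratEquiv_c1Cap hL' hβZ (fun y => Cyc26.secPull_ne_zero ι hL y (hv (ι y))) hu₀ hζ₁ hζ'
  have hmapβ : ⇑(AlgebraicCycle.map ι δY δ β) = Cyc.subschemeFun δ (k + 1) ι := funext fun x => by
    by_cases hr : x ∈ Set.range ι
    · obtain ⟨y, rfl⟩ := hr
      rw [Cyc26.map_apply_eq_sum ι δY δ β (ι y) {y} (by simp)
        (fun z hz _ _ => Finset.mem_singleton.2 (ι.isClosedEmbedding.injective hz)), Finset.sum_singleton,
        AlgebraicCycle.mapCoeff, if_pos rfl,
        Cyc26.residueDegree_of_bijective ι y (Cyc26.residueFieldMap_bijective ι y), Nat.cast_one, mul_one]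
      show Cyc.subschemeFun δY (k + 1) (𝟙 Y) y = _
      simp only [Cyc.subschemeFun, δY]
      have e1 : {z : Y | (𝟙 Y : Y ⟶ Y) z = y} = {y} := Set.ext fun z => Iff.rfl
      have e2 : {z : Y | ι z = ι y} = {y} := Set.ext fun z => ι.isClosedEmbedding.injective.eq_iff
      rw [e1, e2]
    · rw [Cyc26.map_apply_eq_sum ι δY δ β x ∅ (by simp) (fun z hz _ _ => (hr ⟨z, hz⟩).elim), Finset.sum_empty]
      simp only [Cyc.subschemeFun]
      have e : {z : Y | ι z = x} = ∅ := Set.eq_empty_iff_forall_notMem.2 fun z hz => hr ⟨z, hz⟩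
      rw [e, finsum_mem_empty, ite_self]
  have h2 : AlgebraicCycle.map ι δY δ ζ₁ = γ := DFunLike.coe_injective
    (((Cyc26.map_c1Cap_secPull ι hdY hX.2.2 hcomp hL β v hv ζ₁ hζ₁).trans (by rw [hmapβ])).trans hγ.symm)
  show Cyc.RatEquivZero δ k _
  rw [← h2, ← Cyc26.map_sub]
  exact Cyc26.ratEquivZero_map ι hdY hX.2.2 hcomp h1

end Groth.Agent.S1924
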