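import Groth.Statements.S19240
import Groth.Agent.Lib.FrobUH12.Basic
import Groth.Agent.Lib.Curve17.SepGen
import Groth.Agent.Lib.VarDim.Normal
import Mathlib.FieldTheory.PurelyInseparable.Exponent

set_option autoImplicit false
set_option linter.style.haveILetI false
universe u
open FrobSch

namespace Groth.Agent.S19240

noncomputable section Helpers
open CategoryTheory CategoryTheory.Limits AlgebraicGeometry TopologicalSpace Opposite
open Groth.Agent

/-- iterated absolute Frobenius -/
def F (X : Scheme.{u}) (p : ℕ) [Fact p.Prime] [FrobSch.IsCharP X p] (n : ℕ) : X ⟶ X :=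
  (fun g : X ⟶ X => g ≫ FrobSch.frob X p)^[n] (𝟙 X)

variable (p : ℕ) [Fact p.Prime]

theorem F_succ (X : Scheme.{u}) [FrobSch.IsCharP X p] (n : ℕ) :
    F X p (n + 1) = F X p n ≫ FrobSch.frob X p :=
  Function.iterate_succ_apply' _ _ _

theorem F_comp {X Y : Scheme.{u}} [FrobSch.IsCharP X p] [FrobSch.IsCharP Y p] (f : X ⟶ Y) :
    ∀ n, F X p n ≫ f = f ≫ F Y p n
  | 0 => (Category.id_comp f).trans (Category.comp_id f).symm
  | n + 1 => by
    rw [F_succ, F_succ, Category.assoc, FrobSch.frob_comp p f, reassoc_of% (F_comp f n)]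

theorem F_preimage (X : Scheme.{u}) [FrobSch.IsCharP X p] : ∀ (n : ℕ) (U : X.Opens), F X p n ⁻¹ᵁ U = U
  | 0, U => rfl
  | n + 1, U => by
    rw [F_succ, Scheme.Hom.comp_preimage, FrobSch.frob_preimage, F_preimage X n U]

theorem F_appLE (X : Scheme.{u}) [FrobSch.IsCharP X p] :
    ∀ (n : ℕ) (U : X.Opens) (e : U ≤ F X p n ⁻¹ᵁ U) (s : Γ(X, U)),
      (F X p n).appLE U U e s = s ^ p ^ n
  | 0, U, e, s => by
    rw [pow_zero, pow_one]
    show ((𝟙 X : X ⟶ X).appLE U U e) s = s
    simp only [Scheme.Hom.appLE, Scheme.Hom.id_app]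
    exact congrArg (fun φ : Γ(X, U) ⟶ Γ(X, U) => φ.hom s) (X.presheaf.map_id (op U))
  | n + 1, U, e, s => by
    have e' : U ≤ F X p n ⁻¹ᵁ U := le_of_eq (F_preimage p X n U).symm
    simp only [F_succ, Scheme.Hom.comp_appLE]
    show (F X p n).appLE U U _ ((FrobSch.frob X p).app U s) = _
    rw [FrobSch.frob_app, map_pow, F_appLE X n U e' s, ← pow_mul, pow_succ]

theorem isUnivHomeo_F (X : Scheme.{u}) [FrobSch.IsCharP X p] : ∀ n, FlatMor.IsUnivHomeo (F X p n)
  | 0 => by
    show FlatMor.IsUnivHomeo (𝟙 X)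
    exact UH.isUnivHomeo_of _
  | n + 1 => by
    rw [F_succ]
    exact UH.isUnivHomeo_comp (isUnivHomeo_F X n) (FrobUH12.isUnivHomeo_frob X p)

theorem isIso_F_spec (k : Type u) [Field k] [CharP k p] [PerfectField k] (n : ℕ) :
    IsIso (F (Spec (CommRingCat.of k)) p n) := by
  haveI : ExpChar k p := ExpChar.prime Fact.out
  haveI : PerfectRing k p := PerfectField.toPerfectRing p
  haveI : IsIso (FrobSch.frob (Spec (CommRingCat.of k)) p) := by
    haveI : IsIso (CommRingCat.ofHom (frobenius k p)) :=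
      (ConcreteCategory.isIso_iff_bijective _).2 (PerfectRing.bijective_frobenius)
    have h : FrobSch.frob (Spec (CommRingCat.of k)) p = Spec.map (CommRingCat.ofHom (frobenius k p)) := by
      refine ext_of_isAffine (CommRingCat.hom_ext (RingHom.ext fun s => ?_))
      apply (Scheme.ΓSpecIso (CommRingCat.of k)).commRingCatIsoToRingEquiv.injective
      rw [FrobSch.frob_appTop, map_pow]
      exact ((ConcreteCategory.congr_hom (Scheme.ΓSpecIso_naturality (CommRingCat.ofHom (frobenius k p))) s)).symm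
    rw [h]; infer_instance
  induction n with
  | zero => show IsIso (𝟙 _); infer_instance
  | succ n ih => rw [F_succ]; infer_instance

theorem charP_functionField (X : Scheme.{u}) [IsIntegral X] [FrobSch.IsCharP X p] : CharP X.functionField p := by
  refine (CharP.charP_iff_prime_eq_zero Fact.out).2 ?_
  have h := congrArg (X.presheaf.germ ⊤ (genericPoint X) trivial).hom (FrobSch.natCast_eq_zero_app X p ⊤)
  simpa only [map_natCast, map_zero] using h

variable {X Y : Scheme.{u}} [IsIntegral X] [IsIntegral Y] (u : X ⟶ Y) (e : u (genericPoint X) = genericPoint Y)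

theorem isPurelyInseparable_genMap [UniversallyInjective u] [FrobSch.IsCharP Y p] :
    letI := (Curve17.genMap u e).hom.toAlgebra (R := Y.functionField) (S := X.functionField)
    IsPurelyInseparable Y.functionField X.functionField := by
  letI : Algebra Y.functionField X.functionField :=
    (Curve17.genMap u e).hom.toAlgebra (R := Y.functionField) (S := X.functionField)
  haveI := charP_functionField p Y
  haveI : ExpChar Y.functionField p := ExpChar.prime Fact.out
  rw [isPurelyInseparable_iff_pow_mem Y.functionField p]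
  intro z
  have h3 := ((tfae_universallyInjective u).out 0 2).mp (inferInstance : UniversallyInjective u)
  letI := (u.residueFieldMap (genericPoint X)).hom.toAlgebra
  haveI hpi : IsPurelyInseparable (Y.residueField (u (genericPoint X))) (X.residueField (genericPoint X)) :=
    h3.2 (genericPoint X)
  have hp : (p : Y.residueField (u (genericPoint X))) = 0 := by
    have h := congrArg (Y.evaluation ⊤ (u (genericPoint X)) trivial).hom (FrobSch.natCast_eq_zero_app Y p ⊤)
    simpa only [map_natCast, map_zero] using h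
  haveI : CharP (Y.residueField (u (genericPoint X))) p := (CharP.charP_iff_prime_eq_zero Fact.out).2 hp
  haveI : ExpChar (Y.residueField (u (genericPoint X))) p := ExpChar.prime Fact.out
  obtain ⟨n, a, ha⟩ := IsPurelyInseparable.pow_mem (Y.residueField (u (genericPoint X))) p
    (X.residue (genericPoint X) z)
  obtain ⟨a', rfl⟩ := Y.residue_surjective _ a
  refine ⟨n, Y.presheaf.stalkSpecializes (specializes_of_eq e.symm) a', ?_⟩
  apply (show Function.Injective (X.residue (genericPoint X)) from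
    RingHom.injective (R := X.functionField) (X.residue (genericPoint X)).hom)
  refine Eq.trans ?_ (ha.trans (map_pow (X.residue (genericPoint X)).hom z _).symm)
  have h1 : Y.presheaf.stalkSpecializes (specializes_of_eq e.symm) ≫
      Y.presheaf.stalkSpecializes (specializes_of_eq e) = 𝟙 _ := by simp
  show X.residue _ ((Y.presheaf.stalkSpecializes (specializes_of_eq e) ≫ u.stalkMap _)
    (Y.presheaf.stalkSpecializes (specializes_of_eq e.symm) a')) = _
  rw [CommRingCat.comp_apply, ← CommRingCat.comp_apply (Y.presheaf.stalkSpecializes (specializes_of_eq e.symm))]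
  erw [h1]
  exact (congrArg (fun φ : Y.presheaf.stalk (u (genericPoint X)) ⟶ X.residueField (genericPoint X) => φ.hom a') (Scheme.residue_residueFieldMap u (genericPoint X))).symm

variable {k : Type u} [Field k]

theorem finite_genMap (fX : X ⟶ Spec (CommRingCat.of k)) (fY : Y ⟶ Spec (CommRingCat.of k))
    [LocallyOfFiniteType fX] (hu : u ≫ fY = fX) [UniversallyInjective u] [FrobSch.IsCharP Y p] :
    letI := (Curve17.genMap u e).hom.toAlgebra (R := Y.functionField) (S := X.functionField)
    FiniteDimensional Y.functionField X.functionField := by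
  letI : Algebra Y.functionField X.functionField :=
    (Curve17.genMap u e).hom.toAlgebra (R := Y.functionField) (S := X.functionField)
  letI := Curve17.funAlg fX
  letI := Curve17.funAlg fY
  haveI : IsScalarTower k Y.functionField X.functionField :=
    IsScalarTower.of_algebraMap_eq' (congrArg CommRingCat.Hom.hom (Curve17.genMap_baseStalk fX fY u hu e)).symm
  haveI := Curve17.essFiniteType_functionField fX
  haveI := Algebra.EssFiniteType.of_comp k Y.functionField X.functionField
  haveI := isPurelyInseparable_genMap p u e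
  exact Algebra.finite_of_essFiniteType_of_isAlgebraic

theorem germ_app (V : Y.Opens) [Nonempty V] [Nonempty (u ⁻¹ᵁ V : X.Opens)] (a : Γ(Y, V)) :
    Curve17.genMap u e (Y.germToFunctionField V a) = X.germToFunctionField (u ⁻¹ᵁ V) (u.app V a) := by
  show (Y.presheaf.germ V (genericPoint Y) _ ≫ Y.presheaf.stalkSpecializes (specializes_of_eq e) ≫
    u.stalkMap (genericPoint X)) a = _
  rw [TopCat.Presheaf.germ_stalkSpecializes_assoc, Scheme.Hom.germ_stalkMap]
  rfl

include e in
theorem app_injective_of_nonempty (V : Y.Opens) [Nonempty V] [Nonempty (u ⁻¹ᵁ V : X.Opens)] :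
    Function.Injective (u.app V) := fun a b h =>
  Y.germToFunctionField_injective V ((Curve17.genMap u e).hom.injective (R := Y.functionField)
    ((germ_app u e V a).trans ((congrArg _ h).trans (germ_app u e V b).symm)))

theorem exists_app_eq_pow [IsIntegralHom u] [FrobSch.IsCharP Y p]
    (hY : Pi1.IsNormalScheme Y) (n : ℕ)
    (hn : ∀ z : X.functionField, z ^ p ^ n ∈ (Curve17.genMap u e).hom.range)
    (V : Y.Opens) (hV : IsAffineOpen V) (s : Γ(X, u ⁻¹ᵁ V)) :
    ∃ t : Γ(Y, V), u.app V t = s ^ p ^ n := by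
  rcases isEmpty_or_nonempty (u ⁻¹ᵁ V : X.Opens) with hE | hne
  · have h0 : u ⁻¹ᵁ V = ⊥ := by
      ext x
      simp only [SetLike.mem_coe, TopologicalSpace.Opens.coe_bot, Set.mem_empty_iff_false, iff_false]
      exact fun hx => hE.elim ⟨x, hx⟩
    haveI : Subsingleton Γ(X, u ⁻¹ᵁ V) := by rw [h0]; infer_instance
    exact ⟨0, Subsingleton.elim _ _⟩
  obtain ⟨⟨x, hx⟩⟩ := hne
  haveI : Nonempty (u ⁻¹ᵁ V : X.Opens) := ⟨⟨x, hx⟩⟩
  haveI : Nonempty V := ⟨⟨u x, hx⟩⟩
  have hc := germ_app u e V
  obtain ⟨b, hb⟩ := hn (X.germToFunctionField (u ⁻¹ᵁ V) s)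
  have hint : (Y.germToFunctionField V).hom.IsIntegralElem b := by
    obtain ⟨P, hP, hPs⟩ := IsIntegralHom.isIntegral_app (f := u) V hV (s ^ p ^ n)
    refine ⟨P, hP, (Curve17.genMap u e).hom.injective ?_⟩
    rw [Polynomial.hom_eval₂, map_zero, hb, ← map_pow,
      show (Curve17.genMap u e).hom.comp (Y.germToFunctionField V).hom =
        (X.germToFunctionField (u ⁻¹ᵁ V)).hom.comp (u.app V).hom from RingHom.ext hc,
      ← Polynomial.hom_eval₂, hPs, map_zero]
  obtain ⟨t, rfl⟩ := VarDim.exists_section_of_integral (fun y => (hY y).2) V b hint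
  refine ⟨t, X.germToFunctionField_injective (u ⁻¹ᵁ V) ?_⟩
  rw [← hc, map_pow]
  exact hb

omit [IsIntegral X] [IsIntegral Y] in
theorem isoSpec_morphismRestrict {V : Y.Opens} (hV : IsAffineOpen V) (hU : IsAffineOpen (u ⁻¹ᵁ V)) :
    hU.isoSpec.inv ≫ (u ∣_ V) ≫ hV.isoSpec.hom = Spec.map (u.app V) := by
  rw [← cancel_mono hV.fromSpec]
  simp only [Category.assoc, IsAffineOpen.isoSpec_hom_fromSpec, morphismRestrict_ι,
    IsAffineOpen.isoSpec_inv_ι_assoc]
  rw [← IsAffineOpen.SpecMap_appLE_fromSpec u hV hU le_rfl, Scheme.Hom.appLE_eq_app]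

include e in
theorem exists_inverse_upto_F [IsIntegralHom u] [Surjective u] [FrobSch.IsCharP X p] [X.IsSeparated] (n : ℕ)
    (h : ∀ (V : Y.Opens), IsAffineOpen V → ∀ s : Γ(X, u ⁻¹ᵁ V), ∃ t : Γ(Y, V), u.app V t = s ^ p ^ n) :
    ∃ w : Y ⟶ X, u ≫ w = F X p n := by
  have hloc : ∀ V : Y.affineOpens, ∃ wV : (V.1 : Scheme.{u}) ⟶ X,
      (u ∣_ V.1) ≫ wV = (u ⁻¹ᵁ V.1).ι ≫ F X p n := by
    intro V
    rcases isEmpty_or_nonempty (u ⁻¹ᵁ V.1 : X.Opens) with hE | hne
    · haveI : IsEmpty (V.1 : Scheme.{u}) := ⟨fun y => by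
        obtain ⟨x, hx⟩ := u.surjective (V.1.ι y)
        exact hE.elim ⟨x, show u x ∈ V.1 from hx ▸ y.2⟩⟩
      haveI : IsEmpty ((u ⁻¹ᵁ V.1 : X.Opens) : Scheme.{u}) := hE
      exact ⟨(isInitialOfIsEmpty).to X, isInitialOfIsEmpty.hom_ext _ _⟩
    have hV := V.2
    have hU : IsAffineOpen (u ⁻¹ᵁ V.1) := hV.preimage u
    obtain ⟨⟨x, hx⟩⟩ := hne
    haveI : Nonempty (u ⁻¹ᵁ V.1 : X.Opens) := ⟨⟨x, hx⟩⟩
    haveI : Nonempty (V.1 : Y.Opens) := ⟨⟨u x, hx⟩⟩
    choose ρ₀ hρ₀ using h V.1 hV
    have hinj : Function.Injective (u.app V.1) := app_injective_of_nonempty u e V.1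
    have hp0 : (p : Γ(X, u ⁻¹ᵁ V.1)) = 0 := FrobSch.natCast_eq_zero_app X p _
    haveI : CharP Γ(X, u ⁻¹ᵁ V.1) p := (CharP.charP_iff_prime_eq_zero Fact.out).2 hp0
    haveI : ExpChar Γ(X, u ⁻¹ᵁ V.1) p := ExpChar.prime Fact.out
    let ρ : Γ(X, u ⁻¹ᵁ V.1) →+* Γ(Y, V.1) :=
      { toFun := ρ₀
        map_one' := hinj (by rw [hρ₀, one_pow, map_one])
        map_mul' := fun a b => hinj (by rw [map_mul, hρ₀, hρ₀, hρ₀, mul_pow])
        map_zero' := hinj (by rw [hρ₀, zero_pow (pow_ne_zero _ (Fact.out : p.Prime).ne_zero), map_zero])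
        map_add' := fun a b => hinj (by rw [map_add, hρ₀, hρ₀, hρ₀, add_pow_expChar_pow]) }
    have he : u ⁻¹ᵁ V.1 ≤ F X p n ⁻¹ᵁ (u ⁻¹ᵁ V.1) := le_of_eq (F_preimage p X n _).symm
    have hρ : CommRingCat.ofHom ρ ≫ u.app V.1 = (F X p n).appLE _ _ he := by
      ext s
      exact (hρ₀ s).trans (F_appLE p X n _ he s).symm
    refine ⟨hV.isoSpec.hom ≫ Spec.map (CommRingCat.ofHom ρ) ≫ hU.fromSpec, ?_⟩
    rw [← cancel_epi hU.isoSpec.inv, reassoc_of% (isoSpec_morphismRestrict u hV hU),
      ← Spec.map_comp_assoc, hρ, IsAffineOpen.SpecMap_appLE_fromSpec, IsAffineOpen.isoSpec_inv_ι_assoc]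
  choose w hw using hloc
  let 𝒰 := Y.openCoverOfIsOpenCover (fun V : Y.affineOpens => V.1) (iSup_affineOpens_eq_top Y)
  have hcompat : ∀ i j : Y.affineOpens,
      pullback.fst i.1.ι j.1.ι ≫ w i = pullback.snd i.1.ι j.1.ι ≫ w j := by
    intro i j
    haveI : IsReduced (pullback i.1.ι j.1.ι) := isReduced_of_isOpenImmersion (pullback.fst i.1.ι j.1.ι)
    set r := pullback.fst i.1.ι j.1.ι ≫ i.1.ι with hr
    haveI : Surjective (pullback.snd u r) := inferInstance
    refine ext_of_isDominant (pullback.snd u r) ?_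
    have key : ∀ (l : Y.affineOpens) (π : pullback i.1.ι j.1.ι ⟶ (l.1 : Scheme.{u})), π ≫ l.1.ι = r →
        pullback.snd u r ≫ π ≫ w l = pullback.fst u r ≫ F X p n := by
      intro l π hπ
      have hsq := isPullback_morphismRestrict u l.1
      let t := hsq.lift (pullback.snd u r ≫ π) (pullback.fst u r)
        (by rw [Category.assoc, hπ, pullback.condition])
      rw [← Category.assoc, ← hsq.lift_fst (pullback.snd u r ≫ π) (pullback.fst u r)
        (by rw [Category.assoc, hπ, pullback.condition]), Category.assoc, hw l,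
        ← Category.assoc, hsq.lift_snd]
    rw [key i _ rfl, key j _ (by rw [hr, pullback.condition])]
  let W : Y ⟶ X := 𝒰.glueMorphisms w hcompat
  refine ⟨W, ?_⟩
  let 𝒱 := X.openCoverOfIsOpenCover (fun V : Y.affineOpens => u ⁻¹ᵁ V.1) (by
    rw [IsOpenCover, ← top_le_iff]
    intro x _
    obtain ⟨V, hV, hxV, -⟩ := exists_isAffineOpen_mem_and_subset (show u x ∈ (⊤ : Y.Opens) from trivial)
    exact TopologicalSpace.Opens.mem_iSup.2 ⟨⟨V, hV⟩, hxV⟩)
  refine 𝒱.hom_ext _ _ fun V => ?_
  show (u ⁻¹ᵁ V.1).ι ≫ u ≫ W = (u ⁻¹ᵁ V.1).ι ≫ F X p n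
  rw [← morphismRestrict_ι_assoc, ← hw V]
  congr 1
  exact 𝒰.ι_glueMorphisms w hcompat V

end Helpers

end Groth.Agent.S19240

namespace Groth.Agent.S19240

open CategoryTheory CategoryTheory.Limits AlgebraicGeometry in
/-- Let k be a perfect field of characteristic p > 0 and let u : X ⟶ Y be a k-morphism between integral
k-schemes (separated, of finite type and quasi-projective over k) which is a universal
homeomorphism, and assume Y is normal. Then the degree of the function field of X over that of Y is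
p ^ n for some natural number n, and for this n there is a universal homeomorphism v : Y ⟶ X^{(n)},
where X^{(n)} is the base change of X along the n-th power of the Frobenius of Spec k, such that v
is a k-morphism, u followed by v is the n-th relative Frobenius of X over k (its composite with the
projection X^{(n)} ⟶ X is the n-th power of the absolute Frobenius of X) and v followed by the base
change of u is the n-th relative Frobenius of Y over k (the composite of v with the projection to X
and with u is the n-th power of the absolute Frobenius of Y). -/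
theorem result
    (p : ℕ) [Fact p.Prime] (k : Type u) [Field k] [CharP k p] [PerfectField k]
    {X Y : Scheme.{u}} (fX : X ⟶ Spec (CommRingCat.of k)) (fY : Y ⟶ Spec (CommRingCat.of k))
    [IsIntegral X] [IsIntegral Y] [FrobSch.IsCharP X p] [FrobSch.IsCharP Y p]
    [IsSeparated fX] [IsSeparated fY] [LocallyOfFiniteType fX] [LocallyOfFiniteType fY]
    (hqX : ∃ (N : ℕ) (i : X ⟶ CohB1.ProjSpace N k), IsImmersion i ∧ i ≫ CohB1.ProjSpace.toSpec N k = fX)
    (hqY : ∃ (N : ℕ) (i : Y ⟶ CohB1.ProjSpace N k), IsImmersion i ∧ i ≫ CohB1.ProjSpace.toSpec N k = fY)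
    (hY : Pi1.IsNormalScheme Y)
    (u : X ⟶ Y) (hu : u ≫ fY = fX) (huniv : FlatMor.IsUnivHomeo u)
    (e : u (genericPoint X) = genericPoint Y) :
    ∃ n : ℕ,
      @Module.finrank Y.functionField X.functionField _ _
          (Y.presheaf.stalkSpecializes (specializes_of_eq e) ≫ u.stalkMap (genericPoint X)).hom.toAlgebra.toModule = p ^ n ∧
      ∃ v : Y ⟶ pullback fX ((fun g : Spec (CommRingCat.of k) ⟶ Spec (CommRingCat.of k) => g ≫ FrobSch.frob (Spec (CommRingCat.of k)) p)^[n] (𝟙 (Spec (CommRingCat.of k)))),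
        FlatMor.IsUnivHomeo v ∧
        v ≫ pullback.snd fX ((fun g : Spec (CommRingCat.of k) ⟶ Spec (CommRingCat.of k) => g ≫ FrobSch.frob (Spec (CommRingCat.of k)) p)^[n] (𝟙 (Spec (CommRingCat.of k)))) = fY ∧
        u ≫ v ≫ pullback.fst fX ((fun g : Spec (CommRingCat.of k) ⟶ Spec (CommRingCat.of k) => g ≫ FrobSch.frob (Spec (CommRingCat.of k)) p)^[n] (𝟙 (Spec (CommRingCat.of k)))) =
          (fun g : X ⟶ X => g ≫ FrobSch.frob X p)^[n] (𝟙 X) ∧
        v ≫ pullback.fst fX ((fun g : Spec (CommRingCat.of k) ⟶ Spec (CommRingCat.of k) => g ≫ FrobSch.frob (Spec (CommRingCat.of k)) p)^[n] (𝟙 (Spec (CommRingCat.of k)))) ≫ u =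
          (fun g : Y ⟶ Y => g ≫ FrobSch.frob Y p)^[n] (𝟙 Y) := by
  haveI := Groth.Agent.UH.universallyInjective_of_isUnivHomeo huniv
  haveI := Groth.Agent.UH.surjective_of_isUnivHomeo huniv
  haveI := Groth.Agent.UH.universallyClosed_of_isUnivHomeo huniv
  haveI : IsProper u := by
    haveI : IsSeparated (u ≫ fY) := hu ▸ ‹IsSeparated fX›
    haveI : IsSeparated u := IsSeparated.of_comp u fY
    haveI : LocallyOfFiniteType (u ≫ fY) := hu ▸ ‹LocallyOfFiniteType fX›
    haveI : LocallyOfFiniteType u := locallyOfFiniteType_of_comp u fY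
    constructor
  haveI : IsAffineHom u := isAffineHom_of_isInducing u
    (Groth.Agent.UH.isHomeomorph_of_isUnivHomeo huniv).isInducing
    (by rw [(Groth.Agent.UH.isHomeomorph_of_isUnivHomeo huniv).surjective.range_eq]; exact isClosed_univ)
  haveI : IsIntegralHom u := IsIntegralHom.iff_universallyClosed_and_isAffineHom.mpr ⟨inferInstance, inferInstance⟩
  haveI : X.IsSeparated := ⟨by rw [← terminal.comp_from fX]; infer_instance⟩
  haveI : Y.IsSeparated := ⟨by rw [← terminal.comp_from fY]; infer_instance⟩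
  letI : Algebra Y.functionField X.functionField :=
    (Groth.Agent.Curve17.genMap u e).hom.toAlgebra (R := Y.functionField) (S := X.functionField)
  haveI := charP_functionField p Y
  haveI : ExpChar Y.functionField p := ExpChar.prime Fact.out
  haveI : IsPurelyInseparable Y.functionField X.functionField := isPurelyInseparable_genMap p u e
  haveI : FiniteDimensional Y.functionField X.functionField := finite_genMap p u e fX fY hu
  obtain ⟨n, hn⟩ := IsPurelyInseparable.finrank_eq_pow Y.functionField X.functionField p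
  refine ⟨n, hn, ?_⟩
  have hpow : ∀ z : X.functionField, z ^ p ^ n ∈ (Groth.Agent.Curve17.genMap u e).hom.range := by
    intro z
    have hle : IsPurelyInseparable.elemExponent Y.functionField z ≤ n := by
      have h1 := minpoly.natDegree_le (A := Y.functionField) z
      rw [IsPurelyInseparable.minpoly_natDegree_eq' Y.functionField p z, hn] at h1
      exact (Nat.pow_le_pow_iff_right (Fact.out : p.Prime).one_lt).1 h1
    obtain ⟨m, hm⟩ := Nat.exists_eq_add_of_le hle
    rw [hm, pow_add, pow_mul]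
    exact pow_mem (IsPurelyInseparable.elemExponent_def' Y.functionField p z) _
  obtain ⟨w, hw⟩ := exists_inverse_upto_F p u e n (exists_app_eq_pow p u e hY n hpow)
  have hwu : w ≫ u = F Y p n := by
    refine ext_of_isDominant u ?_
    rw [reassoc_of% hw]
    exact F_comp p u n
  have hwf : w ≫ fX = fY ≫ F (Spec (CommRingCat.of k)) p n := by
    haveI : (Spec (CommRingCat.of k)).IsSeparated := inferInstance
    refine ext_of_isDominant u ?_
    rw [reassoc_of% hw, F_comp p fX n, ← hu, Category.assoc]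
  have hwU : FlatMor.IsUnivHomeo w :=
    Groth.Agent.UH.of_comp_right (hwu ▸ isUnivHomeo_F p Y n) huniv
  haveI := isIso_F_spec p k n
  refine ⟨pullback.lift w fY hwf, ?_, pullback.lift_snd _ _ _,
    (congrArg (u ≫ ·) (pullback.lift_fst _ _ _)).trans hw,
    (pullback.lift_fst_assoc _ _ _ _).trans hwu⟩
  refine Groth.Agent.UH.of_comp_right (g := pullback.fst fX (F (Spec (CommRingCat.of k)) p n)) ?_
    (Groth.Agent.UH.isUnivHomeo_fst _ _ (isUnivHomeo_F p _ n))
  exact (pullback.lift_fst w fY hwf).symm ▸ hwU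

end Groth.Agent.S19240
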