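import Groth.Statements.S19244
import Mathlib

set_option autoImplicit false
universe v v' u u'
open HomAlg3

namespace Groth.Agent.S19244


open CategoryTheory in
/-- Let A be an abelian category and let P be the class of bounded-torsion objects of A, those X with n
• 𝟙_X = 0 for some nonzero integer n; assume P is a Serre class. Let L : A ⥤ D be an additive
functor to a preadditive category exhibiting D as the localization of A at the morphisms whose
kernel and cokernel are in P (so D is the quotient category A_ℚ = A ⧸ A_{b-tor}; the source assumes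
A well-powered, which guarantees that this quotient exists). Then for all objects X, Y of A: (1) for
every nonzero integer n, multiplication by n is bijective on Hom_D(L X, L Y), so that this group is
naturally a ℚ-vector space; (2) a morphism f : X ⟶ Y satisfies L f = 0 if and only if n • f = 0 for
some nonzero integer n; (3) for every g : L X ⟶ L Y there are a nonzero integer n and f : X ⟶ Y with
n • g = L f. Equivalently, the natural map Hom_A(X, Y) ⊗_ℤ ℚ → Hom_D(L X, L Y) is an isomorphism. -/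
theorem result
    {A : Type u} [Category.{v} A] [Abelian A] {D : Type u'} [Category.{v'} D] [Preadditive D]
    (P : ObjectProperty A) (hP : ∀ X : A, P X ↔ ∃ n : ℤ, n ≠ 0 ∧ n • (𝟙 X) = 0) [P.IsSerreClass]
    (L : A ⥤ D) [L.Additive] [L.IsLocalization P.isoModSerre] (X Y : A) :
    (∀ n : ℤ, n ≠ 0 → Function.Bijective (fun g : L.obj X ⟶ L.obj Y => n • g)) ∧
    (∀ f : X ⟶ Y, L.map f = 0 ↔ ∃ n : ℤ, n ≠ 0 ∧ n • f = 0) ∧
    (∀ g : L.obj X ⟶ L.obj Y, ∃ (n : ℤ) (f : X ⟶ Y), n ≠ 0 ∧ n • g = L.map f) := by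
  have hn : ∀ (Z : A) (n : ℤ), n ≠ 0 → P.isoModSerre (n • 𝟙 Z) := fun Z n hn => by
    refine ⟨(hP _).2 ⟨n, hn, ?_⟩, (hP _).2 ⟨n, hn, ?_⟩⟩
    · rw [← cancel_mono (Limits.kernel.ι (n • 𝟙 Z))]
      simpa using Limits.kernel.condition (n • 𝟙 Z)
    · rw [← cancel_epi (Limits.cokernel.π (n • 𝟙 Z))]
      have h := Limits.cokernel.condition (n • 𝟙 Z)
      rw [Preadditive.zsmul_comp, Category.id_comp] at h
      simp [h]
  have hs : ∀ {U V : A} (s : U ⟶ V), P.isoModSerre s → ∃ (n : ℤ) (g : V ⟶ U), n ≠ 0 ∧ s ≫ g = n • 𝟙 U := by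
    intro U V s hs
    obtain ⟨n₁, hn₁, e₁⟩ := (hP _).1 hs.1
    obtain ⟨n₂, hn₂, e₂⟩ := (hP _).1 hs.2
    have ex : Limits.kernel.ι s ≫ (n₁ • 𝟙 U) = 0 := by
      simpa using congrArg (· ≫ Limits.kernel.ι s) e₁
    let x : Abelian.coimage s ⟶ U := Limits.cokernel.desc _ (n₁ • 𝟙 U) ex
    have ey : (n₂ • 𝟙 V) ≫ Limits.cokernel.π s = 0 := by
      simpa using congrArg (Limits.cokernel.π s ≫ ·) e₂
    let y : V ⟶ Abelian.image s := Limits.kernel.lift _ (n₂ • 𝟙 V) ey
    have h1 : s ≫ y = n₂ • Abelian.factorThruImage s := by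
      rw [← cancel_mono (Abelian.image.ι s)]
      simp [y]
    have h2 : Abelian.factorThruImage s = Abelian.coimage.π s ≫ Abelian.coimageImageComparison s := by
      rw [← cancel_mono (Abelian.image.ι s)]
      simp
    refine ⟨n₂ * n₁, y ≫ inv (Abelian.coimageImageComparison s) ≫ x, mul_ne_zero hn₂ hn₁, ?_⟩
    rw [← Category.assoc, h1, h2]
    simp [x, mul_smul]
  refine ⟨fun n hn' => ?_, fun f => ⟨fun hf => ?_, ?_⟩, fun g => ?_⟩
  · haveI : IsIso (L.map (n • 𝟙 X)) := Localization.inverts L P.isoModSerre _ (hn X n hn')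
    have e : ∀ g : L.obj X ⟶ L.obj Y, n • g = L.map (n • 𝟙 X) ≫ g := fun g => by simp [Functor.map_zsmul]
    refine ⟨fun a b hab => ?_, fun b => ⟨inv (L.map (n • 𝟙 X)) ≫ b, ?_⟩⟩
    · have h : n • a = n • b := hab
      rwa [e, e, cancel_epi] at h
    · change n • _ = b
      rw [e, IsIso.hom_inv_id_assoc]
  · obtain ⟨Z, s, hs', e⟩ := (MorphismProperty.map_eq_iff_postcomp L P.isoModSerre f 0).1 (by rw [hf, L.map_zero])
    obtain ⟨n, g, hn', hg⟩ := hs s hs'
    refine ⟨n, hn', ?_⟩
    have h := congrArg (· ≫ g) e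
    simpa [hg] using h
  · rintro ⟨n, hn', e⟩
    haveI : IsIso (L.map (n • 𝟙 X)) := Localization.inverts L P.isoModSerre _ (hn X n hn')
    rw [← cancel_epi (L.map (n • 𝟙 X)), ← L.map_comp]
    simp [e]
  · obtain ⟨φ, hφ⟩ := Localization.exists_leftFraction L P.isoModSerre g
    obtain ⟨n, t, hn', ht⟩ := hs φ.s φ.hs
    refine ⟨n, φ.f ≫ t, hn', ?_⟩
    rw [L.map_comp, hφ]
    have h := φ.map_comp_map_s L (Localization.inverts L P.isoModSerre)
    calc n • φ.map L (Localization.inverts L P.isoModSerre)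
        = φ.map L (Localization.inverts L P.isoModSerre) ≫ L.map (n • 𝟙 Y) := by simp [Functor.map_zsmul]
      _ = φ.map L (Localization.inverts L P.isoModSerre) ≫ L.map φ.s ≫ L.map t := by rw [← L.map_comp, ht]
      _ = L.map φ.f ≫ L.map t := by rw [← Category.assoc, h]


end Groth.Agent.S19244
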