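import Groth.Statements.S19247
import Groth.Agent.Lib.CohFound16.Tower

set_option autoImplicit false
universe u
open CohTop

namespace Groth.Agent.S19247
set_option linter.style.haveILetI false
set_option backward.isDefEq.respectTransparency false
set_option backward.isDefEq.respectTransparency.types false


open CategoryTheory CategoryTheory.Limits TopologicalSpace Opposite in
/-- Let X be a topological space and S : 0 ⟶ M' ⟶ M ⟶ M'' ⟶ 0 a short exact sequence of ℕ-indexed
inverse systems of abelian sheaves on X (short exact in the abelian category of such systems, i.e.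
levelwise), such that each of M', M, M'' is a flasque tower: every term is flasque and every
transition map is an epimorphism of sheaves with flasque kernel. Then the induced map lim M ⟶ lim
M'' is an epimorphism of sheaves, so that, lim being left exact, the sequence 0 ⟶ lim M' ⟶ lim M ⟶
lim M'' ⟶ 0 is exact. (The source's statement is the exactness of lim on flasque de Rham–Witt
systems on a scheme; the de Rham–Witt structure plays no role, so the row is stated for towers of
abelian sheaves on any space.) -/
theorem result {X : TopCat.{u}}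
    (S : ShortComplex (ℕᵒᵖ ⥤ CohTop.Ab X)) (hS : S.ShortExact) :
    (∀ n : ℕ, TopCat.Sheaf.IsFlasque (S.X₁.obj (op n))) →
      (∀ n : ℕ, Epi (S.X₁.map (homOfLE (Nat.le_succ n)).op)) →
      (∀ n : ℕ, TopCat.Sheaf.IsFlasque (kernel (S.X₁.map (homOfLE (Nat.le_succ n)).op) : CohTop.Ab X)) →
    (∀ n : ℕ, TopCat.Sheaf.IsFlasque (S.X₂.obj (op n))) →
      (∀ n : ℕ, Epi (S.X₂.map (homOfLE (Nat.le_succ n)).op)) →
      (∀ n : ℕ, TopCat.Sheaf.IsFlasque (kernel (S.X₂.map (homOfLE (Nat.le_succ n)).op) : CohTop.Ab X)) →
    (∀ n : ℕ, TopCat.Sheaf.IsFlasque (S.X₃.obj (op n))) →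
      (∀ n : ℕ, Epi (S.X₃.map (homOfLE (Nat.le_succ n)).op)) →
      (∀ n : ℕ, TopCat.Sheaf.IsFlasque (kernel (S.X₃.map (homOfLE (Nat.le_succ n)).op) : CohTop.Ab X)) →
      Epi (limMap S.g) := by
  intro h1 h2 h3 _ _ _ _ _ _
  exact Groth.Agent.CohFound16.epi_limMap S hS

end Groth.Agent.S19247
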