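import Groth.Statements.S19253
import Groth.Agent.Lib.AcyclicSum8.Main
import Groth.Prelude.Def_RDerDelta

set_option autoImplicit false
universe w w' v u
open CategoryTheory CategoryTheory.Limits
open CohDer

namespace Groth.Agent.S19253

set_option backward.isDefEq.respectTransparency false

open Groth.Agent.AcyclicSum8


/-- (iii) ⇒ (iv): let A be a Grothendieck abelian category and F : A ⥤ Ab an additive left exact functor
such that every right derived functor RⁿF, n ≥ 0, preserves small filtered colimits; let RF : D(A) ⥤
D(Ab) be the total right derived functor of F on unbounded derived categories (its existence is an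
instance hypothesis). If RF preserves countable direct sums (countable direct sums in D(A) being
assumed to exist), then for every cochain complex K all of whose terms are F-acyclic (RⁱF(Kᵐ) = 0
for i > 0 and all m) the canonical map F(K) ⟶ RF(K) is an isomorphism in D(Ab). -/
theorem result
    {A : Type u} [Category.{v} A] [Abelian A] [IsGrothendieckAbelian.{v} A] [HasDerivedCategory.{w} A]
    [HasDerivedCategory.{w'} AddCommGrpCat.{v}]
    (F : A ⥤ AddCommGrpCat.{v}) [F.Additive] [PreservesFiniteLimits F]
    (hcolim : ∀ (n : ℕ) (J : Type v) [SmallCategory J] [IsFiltered J], PreservesColimitsOfShape J (F.rightDerived n))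
    [(F.mapHomotopyCategory (ComplexShape.up ℤ) ⋙ DerivedCategory.Qh).HasRightDerivedFunctor
      (HomotopyCategory.quasiIso A (ComplexShape.up ℤ))]
    [HasColimitsOfShape (Discrete ℕ) (DerivedCategory A)]
    [PreservesColimitsOfShape (Discrete ℕ) ((F.mapHomotopyCategory (ComplexShape.up ℤ) ⋙ DerivedCategory.Qh).totalRightDerived
      DerivedCategory.Qh (HomotopyCategory.quasiIso A (ComplexShape.up ℤ)))]
    (K : CochainComplex A ℤ) (hK : ∀ (m : ℤ) (i : ℕ), 0 < i → IsZero ((F.rightDerived i).obj (K.X m))) :
    IsIso (((F.mapHomotopyCategory (ComplexShape.up ℤ) ⋙ DerivedCategory.Qh).totalRightDerivedUnit DerivedCategory.Qh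
      (HomotopyCategory.quasiIso A (ComplexShape.up ℤ))).app ((HomotopyCategory.quotient A (ComplexShape.up ℤ)).obj K)) := by
  let RF := (F.mapHomotopyCategory (ComplexShape.up ℤ) ⋙ DerivedCategory.Qh).totalRightDerived DerivedCategory.Qh
    (HomotopyCategory.quasiIso A (ComplexShape.up ℤ))
  let α := (F.mapHomotopyCategory (ComplexShape.up ℤ) ⋙ DerivedCategory.Qh).totalRightDerivedUnit DerivedCategory.Qh
    (HomotopyCategory.quasiIso A (ComplexShape.up ℤ))
  rw [← isIso_β_app_iff F RF α K]
  haveI : ∀ n, PreservesFilteredColimitsOfSize.{v, v} (F.rightDerived n) := fun n => ⟨fun J _ _ => hcolim n J⟩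
  haveI : ∀ n, PreservesFilteredColimitsOfSize.{0, 0} (F.rightDerived n) := fun n =>
    preservesSmallestFilteredColimits_of_preservesFilteredColimits _
  haveI : PreservesFilteredColimitsOfSize.{0, 0} F :=
    ⟨fun J _ _ => preservesColimitsOfShape_of_natIso F.rightDerivedZeroIsoSelf⟩
  haveI hF : ∀ (f : ℕ → A), PreservesColimit (Discrete.functor f) F := fun f => preservesColimit_discrete F f
  haveI h1 : ∀ (f : ℕ → A), PreservesColimit (Discrete.functor f) (F.rightDerived 1) := fun f =>
    preservesColimit_discrete _ f
  haveI : HasExactColimitsOfShape ℕ (CochainComplex A ℤ) :=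
    HasExactColimitsOfShape.of_domain_equivalence (CochainComplex A ℤ) (AsSmall.equiv : ℕ ≌ AsSmall.{v} ℕ).symm
  let L := seq K
  have hterm : ∀ k m, RFPlus.IsAcyclicObj F ((L.obj k).X m) := fun k m i hi => by
    by_cases h : -(k : ℤ) ≤ m
    · haveI := isIso_cut_ι K h
      exact (hK m i hi).of_iso ((F.rightDerived i).mapIso (asIso (kernel.ι (cut K k m))))
    · exact (F.rightDerived i).map_isZero (isZero_cut K h)
  have hσ : ∀ k, IsIso ((β F RF α).app (L.obj k)) := fun k => by
    haveI : (L.obj k).IsStrictlyGE (-(k : ℤ) - 1 + 1) := by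
      rw [sub_add_cancel]; exact inferInstanceAs ((σ K k).IsStrictlyGE (-(k : ℤ)))
    exact isIso_β_of_bounded F RF α (L.obj k) (-(k : ℤ) - 1) (hterm k)
  haveI hsum : IsIso ((β F RF α).app (∐ L.obj)) := isIso_β_sigma F RF α L.obj hσ
  obtain ⟨w, hS⟩ := Telescope29.shortExact L
  set S := ShortComplex.mk _ _ w with hSdef
  have hR : ∀ m, IsZero ((F.rightDerived 1).obj ((∐ L.obj).X m)) := fun m => by
    have hc := isColimitCofanMkObjOfIsColimit (F.rightDerived 1) _ _
      (isColimitCofanMkObjOfIsColimit (HomologicalComplex.eval A (ComplexShape.up ℤ) m) _ _ (coproductIsCoproduct L.obj))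
    rw [IsZero.iff_id_eq_zero]
    exact hc.hom_ext fun ⟨k⟩ => (hterm k m 1 one_pos).eq_of_src _ _
  have hFS : (S.map (F.mapHomologicalComplex (ComplexShape.up ℤ))).ShortExact :=
    HomologicalComplex.shortExact_of_degreewise_shortExact _ fun m =>
      RFPlus.shortExact_map_of_isZero F (S.map (HomologicalComplex.eval A (ComplexShape.up ℤ) m)) (hS.map_of_exact _) (hR m)
  haveI hcone := isIso_β_mappingCone F RF α S.f hsum hsum
  haveI := CochainComplex.mappingCone.quasiIso_descShortComplex hS
  haveI := CochainComplex.mappingCone.quasiIso_descShortComplex hFS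
  haveI : IsIso ((DerivedCategory.Q : CochainComplex A ℤ ⥤ DerivedCategory A).map
      (CochainComplex.mappingCone.descShortComplex S)) := by
    rw [DerivedCategory.isIso_Q_map_iff_quasiIso]; infer_instance
  have hd := map_descShortComplex F S
  haveI : IsIso ((DerivedCategory.Q : CochainComplex AddCommGrpCat.{v} ℤ ⥤ _).map
      ((F.mapHomologicalComplex (ComplexShape.up ℤ)).map (CochainComplex.mappingCone.descShortComplex S))) := by
    rw [DerivedCategory.isIso_Q_map_iff_quasiIso, hd]; infer_instance
  have hnat := (β F RF α).naturality (CochainComplex.mappingCone.descShortComplex S)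
  simp only [Functor.comp_map] at hnat
  have hS3 : IsIso ((β F RF α).app (colimit L)) :=
    @IsIso.of_isIso_comp_left _ _ _ _ _ ((DerivedCategory.Q : CochainComplex AddCommGrpCat.{v} ℤ ⥤ _).map
      ((F.mapHomologicalComplex (ComplexShape.up ℤ)).map (CochainComplex.mappingCone.descShortComplex S))) _
      inferInstance (hnat ▸ inferInstance)
  let e := (colimit.isColimit L).coconePointUniqueUpToIso (isColimit K)
  exact (NatTrans.isIso_app_iff_of_iso (β F RF α) e).1 hS3


end Groth.Agent.S19253
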