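import Groth.Statements.S19258
import Mathlib

set_option autoImplicit false
universe u
open PontDual

namespace Groth.Agent.S19258

theorem single_case {K : Type u} [AddCommGroup K] (φ χ : K →+ AddCircle (1 : ℚ)) (N : ℕ) (hN : 0 < N)
    (hφ : ∀ g, N • φ g = 0) (hle : ∀ g, φ g = 0 → χ g = 0) : ∃ n : ℤ, ∀ g, χ g = n • φ g := by
  have hN' : (N : ℚ) ≠ 0 := Nat.cast_ne_zero.2 hN.ne'
  have hrep : ∀ g, ∃ m : ℤ, φ g = ((m / N : ℚ) : AddCircle (1 : ℚ)) := by
    intro g
    obtain ⟨q, hq⟩ := QuotientAddGroup.mk_surjective (φ g)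
    have h := hφ g
    rw [← hq] at h
    obtain ⟨m, hm⟩ := (AddCircle.coe_eq_zero_iff (1 : ℚ) (x := N • q)).1 h
    refine ⟨m, ?_⟩
    rw [← hq]
    congr 1
    rw [nsmul_eq_mul, zsmul_eq_mul, mul_one] at hm
    rw [hm]
    field_simp
  let S : AddSubgroup ℤ :=
    { carrier := {m | ∃ g, φ g = ((m / N : ℚ) : AddCircle (1 : ℚ))}
      zero_mem' := ⟨0, by simp⟩
      add_mem' := by
        rintro a b ⟨g, hg⟩ ⟨h, hh⟩
        exact ⟨g + h, by rw [map_add, hg, hh, ← AddCircle.coe_add]; push_cast; ring_nf⟩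
      neg_mem' := by
        rintro a ⟨g, hg⟩
        exact ⟨-g, by rw [map_neg, hg, ← AddCircle.coe_neg]; push_cast; ring_nf⟩ }
  obtain ⟨d, hd⟩ := Int.subgroup_cyclic S
  have hNS : (N : ℤ) ∈ S := ⟨0, by
    rw [map_zero, eq_comm, AddCircle.coe_eq_zero_iff]
    exact ⟨1, by push_cast; rw [div_self hN', one_zsmul]⟩⟩
  have hdS : d ∈ S := hd ▸ AddSubgroup.mem_closure_singleton_self d
  rw [hd, AddSubgroup.mem_closure_singleton] at hNS
  obtain ⟨e, he⟩ := hNS
  obtain ⟨g₀, hg₀⟩ := hdS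
  rw [smul_eq_mul] at he
  have he0 : (e : ℚ) ≠ 0 := by
    intro h
    have : ((e * d : ℤ) : ℚ) = N := by exact_mod_cast congrArg (Int.cast : ℤ → ℚ) he
    rw [Int.cast_mul, h, zero_mul] at this
    exact hN' this.symm
  have heφ : e • φ g₀ = 0 := by
    rw [hg₀, ← AddCircle.coe_zsmul, AddCircle.coe_eq_zero_iff]
    refine ⟨1, ?_⟩
    have : ((e * d : ℤ) : ℚ) = N := by exact_mod_cast congrArg (Int.cast : ℤ → ℚ) he
    rw [one_zsmul, zsmul_eq_mul, ← mul_div_assoc, ← Int.cast_mul, this, div_self hN']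
  have heχ : e • χ g₀ = 0 := by rw [← map_zsmul]; exact hle _ (by rw [map_zsmul, heφ])
  obtain ⟨q, hq⟩ := QuotientAddGroup.mk_surjective (χ g₀)
  rw [← hq] at heχ
  obtain ⟨i, hi⟩ := (AddCircle.coe_eq_zero_iff (1 : ℚ) (x := e • q)).1 heχ
  have hq' : χ g₀ = i • φ g₀ := by
    rw [← hq, hg₀, ← AddCircle.coe_zsmul]
    congr 1
    rw [zsmul_eq_mul, zsmul_eq_mul, mul_one] at hi
    rw [zsmul_eq_mul, hi]
    have : ((e * d : ℤ) : ℚ) = N := by exact_mod_cast congrArg (Int.cast : ℤ → ℚ) he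
    rw [← this, Int.cast_mul]
    have hd0 : (d : ℚ) ≠ 0 := fun h => hN' (by rw [← this, Int.cast_mul, h, mul_zero])
    field_simp
  refine ⟨i, fun g => ?_⟩
  obtain ⟨m, hm⟩ := hrep g
  have hmS : m ∈ S := ⟨g, hm⟩
  rw [hd, AddSubgroup.mem_closure_singleton] at hmS
  obtain ⟨j, rfl⟩ := hmS
  have hgj : φ g = j • φ g₀ := by
    rw [hm, hg₀, ← AddCircle.coe_zsmul]
    congr 1
    push_cast [smul_eq_mul, zsmul_eq_mul]
    ring
  have hχ : χ g = j • χ g₀ := by
    rw [← sub_eq_zero, ← map_zsmul, ← map_sub]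
    exact hle _ (by rw [map_sub, map_zsmul, hgj, sub_self])
  rw [hχ, hq', hgj, smul_comm]

/-- Let G and G' be abelian groups such that every element of G' has finite order, and let β : G' →
Hom(G, ℚ/ℤ) be an injective homomorphism (equivalently a pairing G' × G → ℚ/ℤ with no left kernel).
Endow G with the weak topology defined by G': the coarsest topology for which every character β(f),
f ∈ G', is continuous when ℚ/ℤ carries the discrete topology. Then every homomorphism χ : G → ℚ/ℤ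
that is continuous for this topology on G and the discrete topology on ℚ/ℤ equals β(f) for some f ∈
G', so that β is a bijection from G' onto the group of continuous characters of G. -/
theorem result
    (G : Type u) (G' : Type u) [AddCommGroup G] [AddCommGroup G'] (hG' : IsAddTorsion G')
    (β : G' →+ (G →+ AddCircle (1 : ℚ))) (hβ : Function.Injective β)
    (χ : G →+ AddCircle (1 : ℚ))
    (hχ : @Continuous G (AddCircle (1 : ℚ)) (⨅ f' : G', TopologicalSpace.induced (fun x : G => β f' x) ⊥) ⊥ χ) :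
    ∃ f' : G', β f' = χ := by
  classical
  have hnhds : ∃ F : Finset G', ∀ x, (∀ f ∈ F, β f x = 0) → χ x = 0 := by
    let t : TopologicalSpace G := ⨅ f' : G', TopologicalSpace.induced (fun x : G => β f' x) ⊥
    let tA : TopologicalSpace (AddCircle (1 : ℚ)) := ⊥
    have h1 : Filter.Tendsto χ (@nhds G t 0) (@nhds (AddCircle (1 : ℚ)) tA (χ 0)) := @Continuous.tendsto G _ t tA _ hχ 0
    have hd : DiscreteTopology (AddCircle (1 : ℚ)) := ⟨rfl⟩
    rw [map_zero, @nhds_discrete (AddCircle (1 : ℚ)) tA hd, Filter.tendsto_pure] at h1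
    rw [show @nhds G t 0 = ⨅ f' : G', Filter.comap (fun x : G => β f' x) (pure 0) from ?_] at h1
    · obtain ⟨I, hI, V, hV, -, hE, -⟩ := Filter.mem_iInf'.1 h1
      refine ⟨hI.toFinset, fun x hx => ?_⟩
      show x ∈ {y | χ y = 0}
      rw [hE]
      refine Set.mem_iInter₂.2 fun f hf => ?_
      obtain ⟨s, hs, hsub⟩ := Filter.mem_comap.1 (hV f)
      refine hsub ?_
      show β f x ∈ s
      rw [hx f (hI.mem_toFinset.2 hf)]
      exact hs
    · rw [nhds_iInf]
      refine iInf_congr fun f' => ?_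
      rw [@nhds_induced _ _ tA, map_zero, @nhds_discrete (AddCircle (1 : ℚ)) tA hd]
  obtain ⟨F, hF⟩ := hnhds
  induction F using Finset.induction generalizing χ with
  | empty => exact ⟨0, AddMonoidHom.ext fun x => by rw [map_zero, hF x (by simp)]; rfl⟩
  | insert f F hf ih =>
    let Kr : AddSubgroup G := ⨅ g ∈ F, (β g).ker
    obtain ⟨N, hN, hNf⟩ := isOfFinAddOrder_iff_nsmul_eq_zero.1 (hG' f)
    obtain ⟨n, hn⟩ := single_case ((β f).comp Kr.subtype) (χ.comp Kr.subtype) N hN (fun g => by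
      show N • β f _ = 0
      rw [← AddMonoidHom.nsmul_apply, ← map_nsmul, hNf, map_zero, AddMonoidHom.zero_apply]) (fun g hg => hF _ fun e he => by
        rcases Finset.mem_insert.1 he with rfl | he
        · exact hg
        · have hgK : (g : G) ∈ Kr := g.2
          simp only [Kr, AddSubgroup.mem_iInf, AddMonoidHom.mem_ker] at hgK
          exact hgK e he)
    have hcont : ∀ x, (∀ e ∈ F, β e x = 0) → (χ - n • β f) x = 0 := by
      intro x hx
      have hxK : x ∈ Kr := by simp only [Kr, AddSubgroup.mem_iInf, AddMonoidHom.mem_ker]; exact hx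
      have h0 : χ x = n • β f x := hn ⟨x, hxK⟩
      rw [AddMonoidHom.sub_apply, AddMonoidHom.zsmul_apply, h0, sub_self]
    have hc' : @Continuous G (AddCircle (1 : ℚ)) (⨅ f' : G', TopologicalSpace.induced (fun x : G => β f' x) ⊥) ⊥ (χ - n • β f : G →+ AddCircle (1 : ℚ)) := by
      let tA : TopologicalSpace (AddCircle (1 : ℚ)) := ⊥
      have hd : DiscreteTopology (AddCircle (1 : ℚ)) := ⟨rfl⟩
      let t : TopologicalSpace G := ⨅ f' : G', TopologicalSpace.induced (fun x : G => β f' x) ⊥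
      have hfc : @Continuous G (AddCircle (1 : ℚ)) t tA (fun x => β f x) := continuous_iInf_dom continuous_induced_dom
      have h2 := @Continuous.prodMk (AddCircle (1 : ℚ)) (AddCircle (1 : ℚ)) G tA tA t _ _ hχ hfc
      exact (continuous_of_discreteTopology (f := fun q : AddCircle (1 : ℚ) × AddCircle (1 : ℚ) => q.1 - n • q.2)).comp h2
    obtain ⟨f', hf'⟩ := ih _ hc' hcont
    exact ⟨f' + n • f, by rw [map_add, map_zsmul, hf', sub_add_cancel]⟩

end Groth.Agent.S19258
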