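import Groth.Statements.S19261
import Groth.Agent.Lib.ASLef19.CI
import Groth.Agent.Lib.LocAcyc24.Transport
-- import your own Groth.Agent.* helpers here

set_option autoImplicit false
universe u
open CategoryTheory CategoryTheory.Limits AlgebraicGeometry
open EtCoh

namespace Groth.Agent.S19261

set_option linter.style.haveILetI false
set_option backward.isDefEq.respectTransparency.types false


/-- In the case q = 0 (constant p-torsion coefficients), let k be a field of characteristic p > 0 whose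
Frobenius endomorphism is finite, c ≤ N, and G_1, …, G_c homogeneous forms of positive degrees in
the homogeneous coordinates of P = P^N_k such that for every s ≤ c the common zero scheme V(G_1, …,
G_s) is smooth over k of relative dimension N - s (a flag of smooth complete intersections ending in
Y = V(G_1, …, G_c), of dimension d = N - c). Then for every m ≥ 1 the restriction map H^i_et(P,
Z/p^m) → H^i_et(Y, Z/p^m) along Y → P is bijective for all i ≤ d - 1. (The logarithmic Hodge–Witt
sheaf of degree zero is the constant sheaf Z/p^m; the source speaks of a smooth complete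
intersection and argues through such a flag. Exactness of pullback of abelian étale sheaves is
carried as an instance hypothesis.) -/
theorem result
    (k : Type u) [Field k] (p : ℕ) [Fact p.Prime] [CharP k p] (hF : (frobenius k p).Finite)
    (N c : ℕ) (hc : c ≤ N) (a : Fin c → ℕ) (ha : ∀ j, 1 ≤ a j) (G : ∀ j : Fin c, LefPen.Form N k (a j))
    (hflag : ∀ (s : ℕ) (hs : s ≤ c), SmoothOfRelativeDimension (N - s)
      ((LefPen.ciIdeal (fun j : Fin s => G (Fin.castLE hs j))).subschemeι ≫ CohB1.ProjSpace.toSpec N k))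
    (m : ℕ) (hm : 1 ≤ m) [PreservesFiniteLimits (EtCoh.pull (LefPen.ciIdeal G).subschemeι)]
    (i : ℕ) (hi : i + c + 1 ≤ N) :
    Function.Bijective (EtCore.Hpull (LefPen.ciIdeal G).subschemeι (EtCoh.const (CohB1.ProjSpace N k) (ZMod (p ^ m))) i) := by
  let ι := (LefPen.ciIdeal G).subschemeι
  let g := CohB1.ProjSpace.toSpec N k
  haveI : SmoothOfRelativeDimension (N - c) (ι ≫ g) := hflag c le_rfl
  haveI : Smooth (ι ≫ g) := SmoothOfRelativeDimension.smooth (N - c) _
  haveI : IsIntegral (CohB1.ProjSpace N k) := Groth.Agent.RegExt.isIntegral_projSpace N k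
  haveI := hflag 0 (Nat.zero_le c)
  have hbot : LefPen.ciIdeal (fun j : Fin 0 => G (Fin.castLE (Nat.zero_le c) j)) = ⊥ := iSup_of_empty _
  haveI : IsIso (LefPen.ciIdeal (fun j : Fin 0 => G (Fin.castLE (Nat.zero_le c) j))).subschemeι := by
    rw [hbot]; infer_instance
  let e₀ := (LefPen.ciIdeal (fun j : Fin 0 => G (Fin.castLE (Nat.zero_le c) j))).subschemeι
  haveI : Nonempty ↥(LefPen.ciIdeal (fun j : Fin 0 => G (Fin.castLE (Nat.zero_le c) j))).subscheme :=
    ⟨(inv e₀) (Nonempty.some inferInstance)⟩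
  have hdimP : topologicalKrullDim ↥(CohB1.ProjSpace N k) = N := by
    rw [← IsHomeomorph.topologicalKrullDim_eq _ e₀.homeomorph.isHomeomorph,
      Groth.Agent.Kleiman14.dim_eq (e₀ ≫ g) (N - 0), Nat.sub_zero]
  haveI : Nonempty ↥(LefPen.ciIdeal G).subscheme := Groth.Agent.ASLef19.nonempty_ciIdeal G hc ha hdimP
  have hdimY : topologicalKrullDim ↥(LefPen.ciIdeal G).subscheme ≤ ((N - c : ℕ) : WithBot ℕ∞) :=
    (Groth.Agent.Kleiman14.dim_eq (ι ≫ g) (N - c)).le
  have hp0 : p ≠ 0 := (Fact.out : p.Prime).ne_zero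
  have h0P := Groth.Agent.GaCoh3.natCast_eq_zero_of_over p g
  have h0Y := Groth.Agent.GaCoh3.natCast_eq_zero_of_over p (ι ≫ g)
  obtain ⟨z⟩ := Groth.Agent.Twist.nonempty_twist_zero_iso (CohB1.polyGrading N k)
  have hP : ∀ q, 0 < q → q < N → Subsingleton (EtCoh.H (CohB1.ProjSpace N k) (EtCoh.Ga _) q) := fun q h1 h2 =>
    Groth.Agent.ASLef19.subsingleton_H_Ga q (Groth.Agent.LiftFib11.subsingleton_HH_of_iso
      ((Scheme.Modules.pullback (𝟙 _)).mapIso z ≪≫ Groth.Agent.Twist.pullbackUnitIso (𝟙 _))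
      (Groth.Agent.CIProj14.good_id.van 0 q h1 h2))
  have hY : ∀ q, 0 < q → q < N - c → Subsingleton (EtCoh.H (LefPen.ciIdeal G).subscheme (EtCoh.Ga _) q) := fun q h1 h2 =>
    Groth.Agent.ASLef19.subsingleton_H_Ga q (Groth.Agent.LiftFib11.subsingleton_HH_of_iso
      ((Scheme.Modules.pullback ι).mapIso z ≪≫ Groth.Agent.Twist.pullbackUnitIso ι)
      ((Groth.Agent.CIProj14.good_ciIdeal c a G ha hc hdimY).van 0 q h1 h2))
  have hbP : Function.Bijective ((Scheme.ΓSpecIso (CommRingCat.of k)).inv ≫ g.appTop).hom :=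
    Groth.Agent.Twist.bijective_toSpec_appTop (n := N) (R := k)
  have hbY : Function.Bijective ((Scheme.ΓSpecIso (CommRingCat.of k)).inv ≫ (ι ≫ g).appTop).hom := by
    haveI : Nontrivial Γ((LefPen.ciIdeal G).subscheme, ⊤) :=
      @Scheme.component_nontrivial (LefPen.ciIdeal G).subscheme ⊤ ⟨⟨Nonempty.some inferInstance, trivial⟩⟩
    exact ⟨RingHom.injective _, Groth.Agent.ASLef19.surjective_toGlobal G ha hc (by omega) hdimY⟩
  haveI : ConnectedSpace ↥(LefPen.ciIdeal G).subscheme :=
    Groth.Agent.Rigid19.connectedSpace_of_antiAffine (X := CategoryTheory.Over.mk (ι ≫ g)) hbY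
  have hsec : Function.Bijective ι.appTop := by
    refine (Function.Bijective.of_comp_iff _ hbP).1 ?_
    convert hbY using 1
    funext x
    show _ = ((Scheme.ΓSpecIso (CommRingCat.of k)).inv ≫ (ι ≫ g).appTop).hom x
    rw [Scheme.Hom.comp_appTop]
    rfl
  have hpP : ∀ q, 2 ≤ q → q < N → Subsingleton (EtCoh.H (CohB1.ProjSpace N k) (EtCoh.const _ (ZMod p)) q) := by
    intro q hq hqN
    obtain ⟨t, rfl⟩ : ∃ t, q = t + 1 := ⟨q - 1, by omega⟩
    exact Groth.Agent.GaCoh3.subsingleton_H_zmod p h0P (hP _ (by omega) hqN) (hP _ (by omega) (by omega))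
  match i, hi with
  | 0, _ => exact Groth.Agent.ASLef19.bijective_Hpull_zero_connected ι (ZMod (p ^ m))
  | 1, hi =>
    have hh := Groth.Agent.ASLef19.bijective_Hpull_one ι p h0P h0Y hsec (hP 1 one_pos (by omega))
      (hY 1 one_pos (by omega))
    rcases Nat.lt_or_ge 2 N with hN | hN
    · exact Groth.Agent.ASLef19.bijective_Hpull_one_pow ι p hp0 hh (hpP 2 le_rfl hN) m
    · obtain rfl : c = 0 := by omega
      haveI : IsIso ι := by
        have hb : LefPen.ciIdeal G = ⊥ := iSup_of_empty _
        show IsIso (LefPen.ciIdeal G).subschemeι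
        rw [hb]; infer_instance
      exact Groth.Agent.LocAcyc24.bijective_Hpull_of_isIso _ _ 1
  | q + 2, hi =>
    haveI := Groth.Agent.LocAcycBC6.subsingleton_H_const_pow p (CohB1.ProjSpace N k) hp0 (q + 2)
      (hpP (q + 2) (by omega) (by omega)) m
    haveI : Subsingleton (EtCoh.H (LefPen.ciIdeal G).subscheme (EtCoh.const _ (ZMod (p ^ m))) (q + 2)) :=
      (Groth.Agent.LocAcycBC6.subsingleton_H_const_pow p (LefPen.ciIdeal G).subscheme hp0 (q + 2)
        (Groth.Agent.GaCoh3.subsingleton_H_zmod p h0Y (hY _ (by omega) (by omega)) (hY _ (by omega) (by omega))) m)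
    haveI := Groth.Agent.GaCoh3.subsingleton_H_of_iso (EtCore.pullConst ι (ZMod (p ^ m))).symm (q + 2)
    exact ⟨fun _ _ _ => Subsingleton.elim _ _, fun y => ⟨0, Subsingleton.elim _ _⟩⟩

end Groth.Agent.S19261
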