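import Groth.Statements.S19264
import Groth.Agent.Lib.WittFil29.Basic

set_option autoImplicit false
universe u
open WittFil

namespace Groth.Agent.S19264

theorem zmon_decomp {A B : Type u} [CommRing A] [CommRing B] [Algebra A B] {r : ℕ} (x : Fin r → A) (u : Fin r → Bˣ)
    (hu : ∀ i, (u i : B) = algebraMap A B (x i)) (n : Fin r → ℤ) {p : ℕ} (hp : 0 < p) :
    WittFil.zmon u n = WittFil.zmon u (fun i => n i / (p : ℤ)) ^ p * algebraMap A B (∏ i, x i ^ (n i % (p : ℤ)).toNat) := by
  have e : ((∏ i, u i ^ (n i % (p : ℤ)).toNat : Bˣ) : B) = algebraMap A B (∏ i, x i ^ (n i % (p : ℤ)).toNat) := by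
    rw [Units.coe_prod, map_prod]
    exact Finset.prod_congr rfl fun i _ => by rw [Units.val_pow_eq_pow_val, hu, map_pow]
  rw [← e, WittFil.zmon, WittFil.zmon, ← Units.val_pow_eq_pow_val, ← Units.val_mul, ← Finset.prod_pow, ← Finset.prod_mul_distrib]
  congr 1
  refine Finset.prod_congr rfl fun i _ => ?_
  rw [← zpow_natCast (u i ^ (n i / (p : ℤ))), ← zpow_mul, ← zpow_natCast (u i), ← zpow_add,
    Int.toNat_of_nonneg (Int.emod_nonneg _ (by omega)), mul_comm, Int.mul_ediv_add_emod]

/-- Let A be a unique factorisation domain of characteristic p, x_1, …, x_r pairwise non-associate prime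
elements of A, B = A[1/(x_1⋯x_r)] with u_i the unit of B defined by x_i, n ∈ ℤ^r and m ≥ 0. The
restriction map from truncated p-typical Witt vectors of length m+1 to those of length m over B
(forgetting the last coordinate) maps the filtered piece cut out by ∏ u_i ^ n_i onto the filtered
piece cut out by ∏ u_i ^ ⌊n_i / p⌋; that is, the image is exactly that piece. (The other parts of
the exact sequence, injectivity of the (m-fold) Verschiebung from the fractional ideal generated by
(∏ u_i ^ n_i)⁻¹ and exactness in the middle, are immediate from the definition and are not restated.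
The published setting is a regular local ring; only unique factorisation is used.) -/
theorem result (p : ℕ) [Fact p.Prime] {A B : Type u} [CommRing A] [IsDomain A]
    [UniqueFactorizationMonoid A] [CharP A p] [CommRing B] [Algebra A B] {r : ℕ} (x : Fin r → A)
    (hx : ∀ i, Prime (x i)) (hxa : ∀ i j, Associated (x i) (x j) → i = j)
    [IsLocalization.Away (∏ i, x i) B] (u : Fin r → Bˣ)
    (hu : ∀ i, (u i : B) = algebraMap A B (x i)) (n : Fin r → ℤ) (m : ℕ) :
    (TruncatedWittVector.truncate (Nat.le_succ m)) '' WittFil.fil p (m + 1) (A := A) (WittFil.zmon u n) =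
      WittFil.fil p m (A := A) (WittFil.zmon u (fun i => n i / (p : ℤ))) := by
  have hp := (Fact.out : p.Prime)
  have hdec := zmon_decomp x u hu n hp.pos
  set c := WittFil.zmon u n
  set c' := WittFil.zmon u (fun i => n i / (p : ℤ))
  set e := ∏ i, x i ^ (n i % (p : ℤ)).toNat with he
  have hpow : ∀ (z : B) (j : ℕ), j < m → z ^ p ^ (m + 1 - 1 - j) * c = (z ^ p ^ (m - 1 - j) * c') ^ p * algebraMap A B e := by
    intro z j hj
    rw [hdec, mul_pow, ← pow_mul, ← pow_succ, show m - 1 - j + 1 = m + 1 - 1 - j by omega, mul_assoc]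
  ext b
  constructor
  · rintro ⟨a, ha, rfl⟩ j
    have h := ha (Fin.castLE (Nat.le_succ m) j)
    rw [TruncatedWittVector.coeff_truncate]
    rw [Fin.val_castLE, hpow _ _ j.2, he] at h
    refine WittFil29.mem_range_of_pow_mul x hx hxa hp.pos _ (fun i => ?_) h
    have h2 := Int.emod_lt_of_pos (n i) (show (0 : ℤ) < (p : ℤ) by have := hp.pos; omega)
    have h3 := Int.emod_nonneg (n i) (show (p : ℤ) ≠ 0 by have := hp.pos; omega)
    omega
  · intro hb
    refine ⟨TruncatedWittVector.mk p fun j => if h : (j : ℕ) < m then b.coeff ⟨j, h⟩ else 0, fun j => ?_, ?_⟩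
    · rw [TruncatedWittVector.coeff_mk]
      split_ifs with h
      · obtain ⟨a, ha⟩ := hb ⟨j, h⟩
        exact ⟨a ^ p * e, by rw [hpow _ _ h, map_mul, map_pow, ha]⟩
      · rw [zero_pow (pow_ne_zero _ hp.ne_zero), zero_mul]
        exact zero_mem _
    · apply TruncatedWittVector.ext
      intro j
      rw [TruncatedWittVector.coeff_truncate, TruncatedWittVector.coeff_mk]
      simp

end Groth.Agent.S19264
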