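import Groth.Statements.S19265
import Groth.Agent.Lib.WittFil29.Basic

set_option autoImplicit false
universe u
open WittFil

namespace Groth.Agent.S19265

/-- Let A be a unique factorisation domain of characteristic p, x_1, …, x_r pairwise non-associate prime
elements of A, B = A[1/(x_1⋯x_r)] with u_i the unit of B defined by x_i, n, n' ∈ ℤ^r and m ≥ 0. If a
truncated p-typical Witt vector a of length m over B lies in the filtered piece cut out by ∏ u_i ^
n_i and b lies in the piece cut out by ∏ u_i ^ n'_i, then the product a · b lies in the piece cut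
out by ∏ u_i ^ (n_i + n'_i). In particular (n' = 0) each filtered piece is a module over the
truncated Witt vectors of A. (The published statement also asserts the analogous inclusion for sums,
which holds only when both multi-indices are non-negative and is then immediate from monotonicity;
the published setting is a regular local ring, and only unique factorisation is used.) -/
theorem result (p : ℕ) [Fact p.Prime] {A B : Type u} [CommRing A] [IsDomain A]
    [UniqueFactorizationMonoid A] [CharP A p] [CommRing B] [Algebra A B] {r : ℕ} (x : Fin r → A)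
    (hx : ∀ i, Prime (x i)) (hxa : ∀ i j, Associated (x i) (x j) → i = j)
    [IsLocalization.Away (∏ i, x i) B] (u : Fin r → Bˣ)
    (hu : ∀ i, (u i : B) = algebraMap A B (x i)) (n n' : Fin r → ℤ) (m : ℕ)
    (a b : TruncatedWittVector p m B) (ha : a ∈ WittFil.fil p m (A := A) (WittFil.zmon u n))
    (hb : b ∈ WittFil.fil p m (A := A) (WittFil.zmon u n')) :
    a * b ∈ WittFil.fil p m (A := A) (WittFil.zmon u (n + n')) := by
  have hπ : ∏ i, x i ≠ 0 := Finset.prod_ne_zero_iff.2 fun i _ => (hx i).ne_zero
  haveI : Nontrivial B := (IsLocalization.injective B (powers_le_nonZeroDivisors_of_noZeroDivisors hπ)).nontrivial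
  obtain ⟨a, rfl⟩ := WittVector.truncate_surjective p m B a
  obtain ⟨b, rfl⟩ := WittVector.truncate_surjective p m B b
  obtain ⟨C₁, _, _, w, hinj₁, hw⟩ := WittFil29.exists_root (WittFil.zmon u n) (pow_pos (Fact.out : p.Prime).pos (m - 1))
  haveI : Nontrivial C₁ := hinj₁.nontrivial
  obtain ⟨C, _, _, w', hinj₂, hw'⟩ := WittFil29.exists_root (algebraMap B C₁ (WittFil.zmon u n')) (pow_pos (Fact.out : p.Prime).pos (m - 1))
  letI : Algebra B C := ((algebraMap C₁ C).comp (algebraMap B C₁)).toAlgebra
  have hwC : (algebraMap C₁ C w) ^ p ^ (m - 1) = algebraMap B C (WittFil.zmon u n) := by rw [← map_pow, hw]; rfl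
  rw [← map_mul]
  refine WittFil29.mem_fil_op (A := A) hπ _ _ _ (fun C _ a b => a * b) (fun C C' _ _ f a b => map_mul _ _ _)
    (fun C _ z z' y y' h h' => by rw [map_mul, map_mul, h, h']) (C := C) (show Function.Injective (algebraMap B C) from hinj₂.comp hinj₁) (algebraMap C₁ C w) w' (algebraMap C₁ C w * w') hwC hw' ?_
    (fun a b => by rw [map_mul]; ring) a b ha hb
  rw [mul_pow, hwC, show w' ^ p ^ (m - 1) = algebraMap B C (WittFil.zmon u n') from hw', ← map_mul]
  congr 1
  simp only [WittFil.zmon, ← Units.val_mul, ← Finset.prod_mul_distrib, Pi.add_apply, zpow_add]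

end Groth.Agent.S19265
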