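import Groth.Statements.S19267
import Groth.Agent.Lib.WittFil29.Basic

set_option autoImplicit false
universe u
open WittFil

namespace Groth.Agent.S19267

/-- Let A → B be a homomorphism of commutative rings, u a unit of B, m ≥ 0 and n, l integers. For an
element c of B call the filtered piece cut out by c the set of truncated p-typical Witt vectors of
length m over B whose j-th coordinate y_j satisfies: y_j ^ (p ^ (m-1-j)) · c lies in the image of A,
for every j < m. Then the piece cut out by u ^ (n − p^(m−1)·l) is exactly the image of the piece cut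
out by u ^ n under multiplication by the truncated Teichmüller representative [u ^ l]. (The
published case is B = S[[π]][1/π] over A = S[[π]] with u = π; the computation is the same in
general.) -/
theorem result (p : ℕ) [Fact p.Prime] {A B : Type u}
    [CommRing A] [CommRing B] [Algebra A B] (m : ℕ) (u : Bˣ) (n l : ℤ) :
    WittFil.fil p m (A := A) ((u ^ (n - (p : ℤ) ^ (m - 1) * l) : Bˣ) : B) =
      (fun a => WittVector.truncate m (WittVector.teichmuller p ((u ^ l : Bˣ) : B)) * a) ''
        WittFil.fil p m (A := A) ((u ^ n : Bˣ) : B) := by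
  have key : ∀ (l : ℤ) (k k' : ℤ), k' = k - (p : ℤ) ^ (m - 1) * l → ∀ a ∈ WittFil.fil p m (A := A) ((u ^ k : Bˣ) : B),
      WittVector.truncate m (WittVector.teichmuller p ((u ^ l : Bˣ) : B)) * a ∈ WittFil.fil p m (A := A) ((u ^ k' : Bˣ) : B) := by
    intro l k k' hk a ha j
    obtain ⟨j, hj⟩ := j
    rw [WittFil29.teichmuller_zpow_mul u l j m hj, mul_pow]
    have e : (((u ^ ((p : ℤ) ^ j * l) : Bˣ) : B)) ^ p ^ (m - 1 - j) * ((u ^ k' : Bˣ) : B) = ((u ^ k : Bˣ) : B) := by
      rw [← Units.val_pow_eq_pow_val, ← Units.val_mul, ← zpow_natCast, ← zpow_mul, ← zpow_add, hk]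
      congr 2
      push_cast
      rw [mul_right_comm, ← pow_add, Nat.add_sub_cancel' (by omega : j ≤ m - 1)]
      ring
    rw [mul_right_comm, e, mul_comm]
    exact ha ⟨j, hj⟩
  ext b
  constructor
  · intro hb
    refine ⟨WittVector.truncate m (WittVector.teichmuller p ((u ^ (-l) : Bˣ) : B)) * b, key (-l) _ n (by ring) b hb, ?_⟩
    beta_reduce
    rw [← mul_assoc, ← map_mul, ← map_mul, ← Units.val_mul, zpow_neg, mul_inv_cancel, Units.val_one, map_one, map_one, one_mul]
  · rintro ⟨a, ha, rfl⟩
    exact key l n _ rfl a ha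

end Groth.Agent.S19267
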