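import Groth.Statements.S19268
import Groth.Agent.Lib.WittFil29.Basic

set_option autoImplicit false
universe u
open WittFil

namespace Groth.Agent.S19268

open PowerSeries in
theorem exists_form {S B : Type u} [CommRing S] [IsDomain S] [CommRing B] [Algebra (PowerSeries S) B]
    [IsLocalization.Away (PowerSeries.X : PowerSeries S) B] (u : Bˣ)
    (hu : (u : B) = algebraMap (PowerSeries S) B PowerSeries.X) (z : B) (hz : z ≠ 0) :
    ∃ (k : ℤ) (g : PowerSeries S), constantCoeff g ≠ 0 ∧ z = ((u ^ k : Bˣ) : B) * algebraMap _ B g := by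
  obtain ⟨⟨a, ⟨_, l, rfl⟩⟩, ha⟩ := IsLocalization.surj (Submonoid.powers (PowerSeries.X : PowerSeries S)) z
  dsimp only at ha
  rw [map_pow, ← hu, ← Units.val_pow_eq_pow_val] at ha
  have hz' : z = algebraMap (PowerSeries S) B a * ((u ^ (-(l : ℤ)) : Bˣ) : B) := by
    rw [← ha, mul_assoc, ← Units.val_mul, ← zpow_natCast, ← zpow_add, add_neg_cancel, zpow_zero, Units.val_one, mul_one]
  have ha0 : a ≠ 0 := fun h => hz (by rw [hz', h, map_zero, zero_mul])
  refine ⟨(a.order.toNat : ℤ) - l, divXPowOrder a, ?_, ?_⟩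
  · exact constantCoeff_divXPowOrder_eq_zero_iff.not.2 ha0
  · conv_lhs => rw [hz', ← X_pow_order_mul_divXPowOrder (f := a)]
    rw [map_mul, map_pow, ← hu, ← Units.val_pow_eq_pow_val, mul_right_comm, ← Units.val_mul, ← zpow_natCast, ← zpow_add, sub_eq_add_neg]

open PowerSeries in
theorem nonneg_of_mem {S B : Type u} [CommRing S] [IsDomain S] [CommRing B] [Algebra (PowerSeries S) B]
    [IsLocalization.Away (PowerSeries.X : PowerSeries S) B] (u : Bˣ)
    (hu : (u : B) = algebraMap (PowerSeries S) B PowerSeries.X) (k : ℤ) (g : PowerSeries S) (hg : constantCoeff g ≠ 0)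
    (h : ((u ^ k : Bˣ) : B) * algebraMap _ B g ∈ (algebraMap (PowerSeries S) B).range) : 0 ≤ k := by
  by_contra hk
  obtain ⟨b, hb⟩ := h
  obtain ⟨l, hl⟩ : ∃ l : ℕ, k = -((l + 1 : ℕ) : ℤ) := ⟨(-k).toNat - 1, by omega⟩
  have h2 : algebraMap (PowerSeries S) B g = algebraMap _ B (b * X ^ (l + 1)) := by
    rw [map_mul, map_pow, hb, ← hu, ← Units.val_pow_eq_pow_val, mul_comm _ (algebraMap _ B g), mul_assoc, ← Units.val_mul,
      ← zpow_natCast, ← zpow_add, hl, neg_add_cancel, zpow_zero, Units.val_one, mul_one]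
  have h3 := IsLocalization.injective B (M := Submonoid.powers (X : PowerSeries S)) (powers_le_nonZeroDivisors_of_noZeroDivisors X_ne_zero) h2
  exact hg (by rw [h3, map_mul, map_pow, constantCoeff_X, zero_pow (by omega), mul_zero])

/-- Let S be an integral domain of characteristic p, A = S[[π]] the power series ring, B = A[1/π] with u
the unit of B given by π, and let m > s ≥ 0 and i be an integer with s = 0 or p ∤ i; put n = p ^
(m−1−s) · i. For e in B write fil(e) for the set of truncated p-typical Witt vectors of length m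
over B whose j-th coordinate y_j satisfies y_j ^ (p ^ (m−1−j)) · e ∈ A for all j, and for a Witt
vector c over S let Φ(c) ∈ W_m(B) be the length-m truncation of V^s(c · [u ^ i]) (V the
Verschiebung, [ ] the Teichmüller map, c mapped to B). Then Φ induces a bijection from the
length-(m−s) truncated Witt vectors of S onto the graded piece fil(u^(−n)) / fil(u^(−n−1)): (1) Φ(c)
lies in fil(u^(−n)) for every c; (2) Φ(c) lies in fil(u^(−n−1)) exactly when the length-(m−s)
truncation of c is zero; (3) every element of fil(u^(−n)) is congruent to some Φ(c) modulo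
fil(u^(−n−1)). (Published for S a regular local Noetherian F-finite F_p-algebra; the argument uses
only that S is a domain.) -/
theorem result (p : ℕ) [Fact p.Prime] {S B : Type u} [CommRing S]
    [IsDomain S] [CharP S p] [CommRing B] [Algebra (PowerSeries S) B] [Algebra S B]
    [IsScalarTower S (PowerSeries S) B] [IsLocalization.Away (PowerSeries.X : PowerSeries S) B]
    (u : Bˣ) (hu : (u : B) = algebraMap (PowerSeries S) B PowerSeries.X) (m s : ℕ) (hs : s < m)
    (i : ℤ) (hsi : s = 0 ∨ ¬ ((p : ℤ) ∣ i)) :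
    (∀ c : WittVector p S,
        WittFil.vShiftTeich p m s ((u ^ i : Bˣ) : B) c ∈
          WittFil.fil p m (A := PowerSeries S) ((u ^ (-((p : ℤ) ^ (m - 1 - s) * i)) : Bˣ) : B)) ∧
      (∀ c : WittVector p S,
        WittFil.vShiftTeich p m s ((u ^ i : Bˣ) : B) c ∈
            WittFil.fil p m (A := PowerSeries S) ((u ^ (-((p : ℤ) ^ (m - 1 - s) * i) - 1) : Bˣ) : B) ↔
          WittVector.truncate (m - s) c = 0) ∧
      (∀ y ∈ WittFil.fil p m (A := PowerSeries S) ((u ^ (-((p : ℤ) ^ (m - 1 - s) * i)) : Bˣ) : B),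
        ∃ c : WittVector p S,
          y - WittFil.vShiftTeich p m s ((u ^ i : Bˣ) : B) c ∈
            WittFil.fil p m (A := PowerSeries S)
              ((u ^ (-((p : ℤ) ^ (m - 1 - s) * i) - 1) : Bˣ) : B)) := by
  classical
  have hp := (Fact.out : p.Prime)
  have hXne : (PowerSeries.X : PowerSeries S) ≠ 0 := PowerSeries.X_ne_zero
  have hinj : Function.Injective (algebraMap (PowerSeries S) B) :=
    IsLocalization.injective B (powers_le_nonZeroDivisors_of_noZeroDivisors hXne)
  have hCS : ∀ a : S, algebraMap S B a = algebraMap (PowerSeries S) B (PowerSeries.C a) := fun a =>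
    IsScalarTower.algebraMap_apply S (PowerSeries S) B a
  set N := p ^ (m - 1 - s) with hN
  set v : B := ((u ^ i : Bˣ) : B) with hv
  have hcast : ((p : ℤ) ^ (m - 1 - s)) = (N : ℤ) := by rw [hN]; push_cast; ring
  set c0 : B := ((u ^ (-((p : ℤ) ^ (m - 1 - s) * i)) : Bˣ) : B) with hc0
  set c1 : B := ((u ^ (-((p : ℤ) ^ (m - 1 - s) * i) - 1) : Bˣ) : B) with hc1
  have hc01 : c1 = c0 * ((u ^ (-1 : ℤ) : Bˣ) : B) := by
    rw [hc1, hc0, ← Units.val_mul, ← zpow_add, sub_eq_add_neg]
  have hcoord : ∀ (z : WittVector p B) (k : ℕ), (WittVector.verschiebung^[s] z).coeff (k + s) = z.coeff k := fun z k =>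
    WittVector.iterate_verschiebung_coeff z s k
  have hvk : ∀ k : ℕ, k + s < m → (v ^ p ^ k) ^ p ^ (m - 1 - (k + s)) * c0 = 1 := by
    intro k hk
    rw [← pow_mul, ← pow_add, hv, hc0, ← Units.val_pow_eq_pow_val, ← Units.val_mul, ← zpow_natCast, ← zpow_mul, ← zpow_add,
      show k + (m - 1 - (k + s)) = m - 1 - s by omega]
    push_cast
    rw [show i * (p : ℤ) ^ (m - 1 - s) + -((p : ℤ) ^ (m - 1 - s) * i) = 0 by ring, zpow_zero, Units.val_one]
  have hlow : ∀ (z : WittVector p B) (j : ℕ) (e : ℕ) (c : B), j < s → (WittVector.verschiebung^[s] z).coeff j ^ p ^ e * c = 0 := fun z j e c hj => by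
    rw [WittVector.iterate_verschiebung_coeff_eq_zero z hj, zero_pow (pow_ne_zero _ hp.ne_zero), zero_mul]
  have hval : ∀ (c : WittVector p S) (k : ℕ),
      (WittVector.map (algebraMap S B) c * WittVector.teichmuller p v).coeff k = algebraMap S B (c.coeff k) * v ^ p ^ k := by
    intro c k
    rw [mul_comm, WittFil29.teichmuller_mul_coeff, WittVector.map_coeff, mul_comm]
  refine ⟨fun c j => ?_, fun c => ⟨fun h => ?_, fun h j => ?_⟩, fun y hy => ?_⟩
  · obtain ⟨j, hj⟩ := j
    simp only [WittFil.vShiftTeich, WittVector.coeff_truncate, ← hv]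
    rcases lt_or_ge j s with h | h
    · rw [hlow _ _ _ _ h]; exact zero_mem _
    · obtain ⟨k, rfl⟩ : ∃ k, j = k + s := ⟨j - s, by omega⟩
      rw [hcoord, hval, mul_pow, mul_assoc, hvk k hj, mul_one, hCS, ← map_pow]
      exact ⟨_, rfl⟩
  · apply TruncatedWittVector.ext
    rintro ⟨k, hk⟩
    rw [WittVector.coeff_truncate, TruncatedWittVector.coeff_zero]
    obtain ⟨b, hb⟩ := h ⟨k + s, by omega⟩
    simp only [WittFil.vShiftTeich, WittVector.coeff_truncate, ← hv] at hb
    rw [hcoord, hval, mul_pow, mul_assoc, hc01, ← mul_assoc (_ ^ _) c0, hvk k (by omega), one_mul, hCS, ← map_pow] at hb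
    have h2 : algebraMap (PowerSeries S) B (b * PowerSeries.X) = algebraMap _ B ((PowerSeries.C (c.coeff k)) ^ p ^ (m - 1 - (k + s))) := by
      rw [map_mul, hb, ← hu, mul_assoc, ← Units.val_mul, zpow_neg_one, inv_mul_cancel, Units.val_one, mul_one]
    have h3 := congrArg PowerSeries.constantCoeff (hinj h2)
    rw [map_mul, PowerSeries.constantCoeff_X, mul_zero, map_pow, PowerSeries.constantCoeff_C] at h3
    exact (pow_eq_zero_iff (pow_ne_zero _ hp.ne_zero)).1 h3.symm
  · obtain ⟨j, hj⟩ := j
    simp only [WittFil.vShiftTeich, WittVector.coeff_truncate, ← hv]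
    rcases lt_or_ge j s with h' | h'
    · rw [hlow _ _ _ _ h']; exact zero_mem _
    · obtain ⟨k, rfl⟩ : ∃ k, j = k + s := ⟨j - s, by omega⟩
      have hk := congrArg (TruncatedWittVector.coeff (⟨k, by omega⟩ : Fin (m - s))) h
      rw [WittVector.coeff_truncate, TruncatedWittVector.coeff_zero] at hk
      rw [hcoord, hval, hk, map_zero, zero_mul, zero_pow (pow_ne_zero _ hp.ne_zero), zero_mul]
      exact zero_mem _
  · obtain ⟨y, rfl⟩ := WittVector.truncate_surjective p m B y
    let z : WittVector p B := WittVector.mk p fun k => y.coeff (k + s)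
    let z' : WittVector p B := WittVector.teichmuller p ((u ^ (-i) : Bˣ) : B) * z
    have hint : ∀ {b : B}, ∀ n : ℕ, 0 < n → b ^ n ∈ (algebraMap (PowerSeries S) B).range → b ∈ (algebraMap (PowerSeries S) B).range := by
      intro b n hn hb
      rcases eq_or_ne b 0 with rfl | hb0
      · exact zero_mem _
      obtain ⟨k, g, hg, rfl⟩ := exists_form u hu b hb0
      rw [mul_pow, ← Units.val_pow_eq_pow_val, ← zpow_natCast, ← zpow_mul, ← map_pow] at hb
      have hk := nonneg_of_mem u hu _ _ (by rw [map_pow]; exact pow_ne_zero _ hg) hb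
      obtain ⟨l, rfl⟩ := Int.eq_ofNat_of_zero_le (nonneg_of_mul_nonneg_left hk (by exact_mod_cast hn))
      exact ⟨PowerSeries.X ^ l * g, by rw [map_mul, map_pow, ← hu, zpow_natCast, Units.val_pow_eq_pow_val]⟩
    have hz'mem : ∀ k, k + s < m → z'.coeff k ∈ (algebraMap (PowerSeries S) B).range := by
      intro k hk
      obtain ⟨b, hb⟩ := hy ⟨k + s, hk⟩
      rw [WittVector.coeff_truncate] at hb
      refine hint (p ^ (m - 1 - (k + s))) (pow_pos hp.pos _) ⟨b, ?_⟩
      rw [hb]
      simp only [z', WittFil29.teichmuller_mul_coeff, z, WittVector.coeff_mk]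
      have e : (((u ^ (-i) : Bˣ) : B) ^ p ^ k) ^ p ^ (m - 1 - (k + s)) = c0 := by
        rw [← mul_one (((((u ^ (-i) : Bˣ) : B)) ^ p ^ k) ^ p ^ (m - 1 - (k + s))), ← hvk k hk, ← mul_assoc, ← mul_pow, ← mul_pow, hv,
          ← Units.val_mul, zpow_neg, inv_mul_cancel, Units.val_one, one_pow, one_pow, one_mul]
      rw [mul_pow, e, mul_comm]
    choose q hq using hz'mem
    let qz : WittVector p (PowerSeries S) := WittVector.mk p fun k => if h : k + s < m then q k h else 0
    let c : WittVector p S := WittVector.map (PowerSeries.constantCoeff (R := S)) qz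
    refine ⟨c, ?_⟩
    let d : WittVector p (PowerSeries S) := qz - WittVector.map (PowerSeries.C (R := S)) c
    have hd : ∀ k, PowerSeries.X ∣ d.coeff k := fun k => by
      rw [PowerSeries.X_dvd_iff, ← WittVector.map_coeff (PowerSeries.constantCoeff (R := S)) d k]
      have : WittVector.map (PowerSeries.constantCoeff (R := S)) d = 0 := by
        simp only [d, map_sub, c]
        rw [sub_eq_zero]
        ext n
        simp only [WittVector.map_coeff, PowerSeries.constantCoeff_C]
      rw [this, WittVector.zero_coeff]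
    have hqz : WittVector.truncate (m - s) (WittVector.map (algebraMap (PowerSeries S) B) qz * WittVector.teichmuller p v) = WittVector.truncate (m - s) z := by
      have h1 : WittVector.truncate (m - s) (WittVector.map (algebraMap (PowerSeries S) B) qz) = WittVector.truncate (m - s) z' := by
        apply TruncatedWittVector.ext
        rintro ⟨k, hk⟩
        simp only [WittVector.coeff_truncate, WittVector.map_coeff, qz, WittVector.coeff_mk]
        rw [dif_pos (by omega : k + s < m), hq]
      rw [map_mul, h1, ← map_mul]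
      congr 1
      rw [show z' = WittVector.teichmuller p ((u ^ (-i) : Bˣ) : B) * z from rfl, mul_comm _ z, mul_assoc, ← map_mul, hv, ← Units.val_mul,
        zpow_neg, inv_mul_cancel, Units.val_one, map_one, mul_one]
    let W : WittVector p B := WittVector.init s y + WittVector.verschiebung^[s] (WittVector.map (algebraMap (PowerSeries S) B) d * WittVector.teichmuller p v)
    have hdis : ∀ (w : WittVector p B) (n : ℕ), (WittVector.init s y).coeff n = 0 ∨ (WittVector.verschiebung^[s] w).coeff n = 0 := fun w n => by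
      rcases lt_or_ge n s with h | h
      · exact .inr (WittVector.iterate_verschiebung_coeff_eq_zero _ h)
      · left; rw [WittVector.init, WittVector.select, WittVector.coeff_mk, if_neg (by omega)]
    have hsum : ∀ (w : WittVector p B) (j : ℕ), (WittVector.init s y + WittVector.verschiebung^[s] w).coeff j =
        if j < s then y.coeff j else w.coeff (j - s) := fun w j => by
      rw [WittVector.coeff_add_of_disjoint _ _ _ (hdis w), WittVector.init, WittVector.select, WittVector.coeff_mk]
      split_ifs with h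
      · rw [WittVector.iterate_verschiebung_coeff_eq_zero _ h, add_zero]
      · obtain ⟨k, rfl⟩ : ∃ k, j = k + s := ⟨j - s, by omega⟩
        rw [hcoord, zero_add, Nat.add_sub_cancel]
    have hyW : WittVector.truncate m y - WittFil.vShiftTeich p m s v c = WittVector.truncate m W := by
      have e1 : y = WittVector.init s y + WittVector.verschiebung^[s] z := by
        ext j
        rw [hsum]
        split_ifs with h
        · rfl
        · simp only [z, WittVector.coeff_mk, Nat.sub_add_cancel (not_lt.1 h)]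
      have e2 : WittVector.truncate m (WittVector.verschiebung^[s] z) =
          WittVector.truncate m (WittVector.verschiebung^[s] (WittVector.map (algebraMap (PowerSeries S) B) qz * WittVector.teichmuller p v)) := by
        apply TruncatedWittVector.ext
        rintro ⟨j, hj⟩
        rw [WittVector.coeff_truncate, WittVector.coeff_truncate]
        rcases lt_or_ge j s with h | h
        · rw [WittVector.iterate_verschiebung_coeff_eq_zero _ h, WittVector.iterate_verschiebung_coeff_eq_zero _ h]
        · obtain ⟨k, rfl⟩ : ∃ k, j = k + s := ⟨j - s, by omega⟩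
          rw [hcoord, hcoord]
          have := congrArg (TruncatedWittVector.coeff (⟨k, by omega⟩ : Fin (m - s))) hqz
          rw [WittVector.coeff_truncate, WittVector.coeff_truncate] at this
          exact this.symm
      have e3 : WittVector.map (algebraMap S B) c = WittVector.map (algebraMap (PowerSeries S) B) (WittVector.map (PowerSeries.C (R := S)) c) := by
        ext k
        simp only [WittVector.map_coeff, hCS]
      conv_lhs => rw [e1]
      rw [map_add, e2, WittFil.vShiftTeich, e3, add_sub_assoc, ← map_sub, ← iterate_map_sub, ← sub_mul, ← map_sub, ← map_add]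
    rw [hyW]
    rintro ⟨j, hj⟩
    rw [WittVector.coeff_truncate, hsum]
    dsimp only
    split_ifs with h
    · obtain ⟨b, hb⟩ := hy ⟨j, hj⟩
      rw [WittVector.coeff_truncate] at hb
      dsimp only at hb
      rcases eq_or_ne (y.coeff j) 0 with h0 | h0
      · rw [h0, zero_pow (pow_ne_zero _ hp.ne_zero), zero_mul]; exact zero_mem _
      obtain ⟨k, g, hg, hk⟩ := exists_form u hu _ h0
      set E := p ^ (m - 1 - j) with hE
      have hform : ∀ t : ℤ, y.coeff j ^ E * ((u ^ t : Bˣ) : B) = ((u ^ (k * (E : ℤ) + t) : Bˣ) : B) * algebraMap _ B (g ^ E) := fun t => by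
        rw [hk, mul_pow, ← Units.val_pow_eq_pow_val, ← zpow_natCast, ← zpow_mul, map_pow, mul_right_comm, ← Units.val_mul, ← zpow_add]
      have h1 : 0 ≤ k * (E : ℤ) + -((p : ℤ) ^ (m - 1 - s) * i) :=
        nonneg_of_mem u hu (k * (E : ℤ) + -((p : ℤ) ^ (m - 1 - s) * i)) (g ^ E) (by rw [map_pow]; exact pow_ne_zero _ hg) ⟨b, by rw [hb, ← hform]⟩
      have hEN : (E : ℤ) = (p : ℤ) ^ (m - 1 - s) * ((p : ℤ) ^ (s - j)) := by
        rw [hE, ← pow_add, show m - 1 - s + (s - j) = m - 1 - j by omega]; push_cast; rfl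
      have hlt : 0 < k * (E : ℤ) + -((p : ℤ) ^ (m - 1 - s) * i) := by
        refine lt_of_le_of_ne h1 fun he => ?_
        rcases hsi with h0 | h0
        · omega
        · refine h0 ?_
          have h4 : (p : ℤ) ^ (m - 1 - s) * i = (p : ℤ) ^ (m - 1 - s) * (k * (p : ℤ) ^ (s - j)) := by rw [hEN] at he; linarith
          rw [mul_left_cancel₀ (pow_ne_zero _ (by exact_mod_cast hp.ne_zero)) h4]
          exact dvd_mul_of_dvd_right (dvd_pow_self _ (by omega)) k
      obtain ⟨l, hl⟩ := Int.eq_ofNat_of_zero_le (show 0 ≤ k * (E : ℤ) + (-((p : ℤ) ^ (m - 1 - s) * i) - 1) by linarith)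
      refine ⟨PowerSeries.X ^ l * g ^ E, ?_⟩
      show _ = y.coeff j ^ E * c1
      rw [hc1, hform, hl, map_mul, map_pow, ← hu, zpow_natCast, Units.val_pow_eq_pow_val]
    · obtain ⟨k, rfl⟩ : ∃ k, j = k + s := ⟨j - s, by omega⟩
      rw [Nat.add_sub_cancel, mul_comm (WittVector.map _ d), WittFil29.teichmuller_mul_coeff, WittVector.map_coeff]
      obtain ⟨a, ha⟩ := hd k
      refine ⟨PowerSeries.X ^ (p ^ (m - 1 - (k + s)) - 1) * a ^ p ^ (m - 1 - (k + s)), ?_⟩
      show _ = (v ^ p ^ k * _) ^ p ^ (m - 1 - (k + s)) * c1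
      rw [mul_pow, hc01, mul_comm ((v ^ p ^ k) ^ _), mul_assoc, ← mul_assoc (_ ^ _) c0, hvk k hj, one_mul, ha, map_mul, map_mul,
        map_pow, map_pow, mul_pow, ← hu]
      obtain ⟨e, he⟩ : ∃ e, p ^ (m - 1 - (k + s)) = e + 1 := ⟨p ^ (m - 1 - (k + s)) - 1, by have := pow_pos hp.pos (m - 1 - (k + s)); omega⟩
      rw [he, Nat.add_sub_cancel, zpow_neg_one, pow_succ (u : B), mul_assoc ((u : B) ^ e) (u : B), mul_comm (u : B) _,
        mul_assoc, mul_assoc, Units.mul_inv, mul_one]

end Groth.Agent.S19268
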