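import Groth.Statements.S19269
import Mathlib
import Groth.Statements.S13154
import Groth.Statements.S14437

set_option autoImplicit false
universe u
open CAlg

namespace Groth.Agent.S19269
open TensorProduct

open IsLocalRing in

open IsLocalRing in
/-- Let R be a Noetherian local ring with maximal ideal 𝔪, M a finitely generated R-module and M^ its
𝔪-adic completion, a module over the 𝔪-adic completion R^ of R. Let N' be an R^-submodule of M^ and
N an R-submodule of M whose image in M^ is contained in N' and is dense in N' for the 𝔪-adic
topology, in the sense that for every y in N' and every k there is x in N with y ≡ x modulo the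
kernel of M^ → M/𝔪^k M. Then N' equals the image of the completion of N under the map induced by the
inclusion N → M (so N' is the completion of N), and N is the set of elements of M whose image in M^
lies in N'. -/
theorem result {R : Type u} [CommRing R]
    [IsNoetherianRing R] [IsLocalRing R] {M : Type u} [AddCommGroup M] [Module R M]
    [Module.Finite R M] (N : Submodule R M)
    (N' : Submodule (AdicCompletion (maximalIdeal R) R) (AdicCompletion (maximalIdeal R) M))
    (hle : ∀ x ∈ N, AdicCompletion.of (maximalIdeal R) M x ∈ N')
    (hdense : ∀ y ∈ N', ∀ k : ℕ, ∃ x ∈ N,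
      AdicCompletion.eval (maximalIdeal R) M k y = Submodule.Quotient.mk x) :
    (N'.restrictScalars R =
        (LinearMap.range (AdicCompletion.map (maximalIdeal R) N.subtype)).restrictScalars R) ∧
      (∀ x : M, x ∈ N ↔ AdicCompletion.of (maximalIdeal R) M x ∈ N') := by
  let m := maximalIdeal R
  have hex : Function.Exact (AdicCompletion.map m N.subtype) (AdicCompletion.map m N.mkQ) :=
    AdicCompletion.map_exact N.injective_subtype (LinearMap.exact_subtype_mkQ N) N.mkQ_surjective
  have heq : ∀ y, y ∈ N' ↔ y ∈ LinearMap.range (AdicCompletion.map m N.subtype) := by
    intro y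
    constructor
    · intro hy
      refine (hex y).1 (AdicCompletion.ext fun k => ?_)
      obtain ⟨x, hx, hxy⟩ := hdense y hy k
      rw [AdicCompletion.map_val_apply, show y.val k = Submodule.Quotient.mk x from hxy]
      simp
      rw [(Submodule.Quotient.mk_eq_zero N).2 hx]
      exact zero_mem _
    · rintro ⟨z, rfl⟩
      obtain ⟨t, rfl⟩ := AdicCompletion.ofTensorProduct_surjective_of_finite m N z
      induction t with
      | zero => simp
      | tmul a n =>
        rw [AdicCompletion.ofTensorProduct_tmul, map_smul, AdicCompletion.map_of]
        exact N'.smul_mem a (hle n n.2)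
      | add a b ha hb => rw [map_add, map_add]; exact add_mem ha hb
  refine ⟨Submodule.ext fun y => heq y, fun x => ⟨hle x, fun hx => ?_⟩⟩
  have h1 := (hex _).2 ((heq _).1 hx)
  rw [AdicCompletion.map_of] at h1
  have : IsHausdorff m (M ⧸ N) := inferInstance
  rw [← Submodule.Quotient.mk_eq_zero]
  refine this.haus _ fun k => ?_
  have h2 := congrArg (fun z : AdicCompletion m (M ⧸ N) => z.val k) h1
  exact h2

end Groth.Agent.S19269
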