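import Groth.Statements.S19270
import Groth.Agent.Lib.CKaehlerFree3.Rank
import Mathlib

set_option autoImplicit false
universe u
open CAlg

namespace Groth.Agent.S19270
open IsLocalRing TensorProduct KaehlerDifferential

theorem indep (p : ℕ) [Fact p.Prime] {A : Type u} [CommRing A] [IsRegularLocalRing A] [CharP A p]
    {N : ℕ} (x : Fin N → A) (hx : Ideal.span (Set.range x) = maximalIdeal A)
    (hN : ringKrullDim A = (N : WithBot ℕ∞)) :
    LinearIndependent (ResidueField A) (fun i : ULift.{u} (Fin N) => (1 : ResidueField A) ⊗ₜ[A] D ℤ A (x i.down)) := by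
  letI : Algebra (ULift.{u} (ZMod p)) A :=
    ((ZMod.castHom (dvd_refl p) A).comp (ULift.ringEquiv (R := ZMod p)).toRingHom).toAlgebra
  haveI : Finite (ULift.{u} (ZMod p)) := Finite.of_equiv (ZMod p) Equiv.ulift.symm
  haveI : Algebra.FormallySmooth (ULift.{u} (ZMod p)) (A ⧸ maximalIdeal A) :=
    Groth.Agent.FieldFS.formallySmooth_of_perfectField (ULift.{u} (ZMod p)) (ResidueField A)
  have hmem : ∀ i, x i ∈ maximalIdeal A := fun i => hx ▸ Ideal.subset_span ⟨i, rfl⟩
  let w : Fin N → CotangentSpace A := fun i => (maximalIdeal A).toCotangent ⟨x i, hmem i⟩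
  have hwspan : ⊤ ≤ Submodule.span (ResidueField A) (Set.range w) := by
    intro z _
    obtain ⟨⟨y, hy⟩, rfl⟩ := Ideal.toCotangent_surjective _ z
    obtain ⟨c, hc⟩ := (Submodule.mem_span_range_iff_exists_fun A).1 (hx.ge hy : y ∈ Submodule.span A (Set.range x))
    have h1 : (⟨y, hy⟩ : maximalIdeal A) = ∑ i, c i • ⟨x i, hmem i⟩ :=
      Subtype.ext (by rw [Submodule.coe_sum]; exact hc.symm)
    rw [h1, map_sum]
    refine Submodule.sum_mem _ fun i _ => ?_
    rw [map_smul, ← algebraMap_smul (ResidueField A)]
    exact Submodule.smul_mem _ _ (Submodule.subset_span ⟨i, rfl⟩)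
  have hwfr : Module.finrank (ResidueField A) (CotangentSpace A) = N := by
    have h1 := (isRegularLocalRing_iff A).1 inferInstance
    rw [hN] at h1
    rw [← IsLocalRing.spanFinrank_maximalIdeal_eq_finrank_cotangentSpace]
    exact_mod_cast h1
  have hwli : LinearIndependent (ResidueField A) w :=
    linearIndependent_of_top_le_span_of_card_eq_finrank hwspan (by rw [Fintype.card_fin, hwfr])
  rw [Fintype.linearIndependent_iff]
  intro g hg i
  choose a ha using fun i => residue_surjective (g i)
  let y := ∑ i : Fin N, a ⟨i⟩ * x i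
  have hy : y ∈ maximalIdeal A := sum_mem fun i _ => Ideal.mul_mem_left _ _ (hmem i)
  have h0 : (1 : ResidueField A) ⊗ₜ[A] D ℤ A y = 0 := by
    rw [map_sum, TensorProduct.tmul_sum, ← hg, ← Equiv.ulift.symm.sum_comp
      (fun j : ULift.{u} (Fin N) => g j • ((1 : ResidueField A) ⊗ₜ[A] D ℤ A (x j.down)))]
    refine Finset.sum_congr rfl fun i _ => ?_
    show _ = g ⟨i⟩ • ((1 : ResidueField A) ⊗ₜ[A] D ℤ A (x i))
    rw [Derivation.leibniz, TensorProduct.tmul_add, TensorProduct.tmul_smul, TensorProduct.tmul_smul,
      ← algebraMap_smul (ResidueField A) (x i), ← algebraMap_smul (ResidueField A) (a ⟨i⟩),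
      ResidueField.algebraMap_eq, (residue_eq_zero_iff (x i)).2 (hmem i), zero_smul, add_zero, ha]
  have h1 := Groth.Agent.CKaehlerFree3.eq_zero_of_one_tmul_D_eq_zero (ULift.{u} (ZMod p)) (maximalIdeal A) y hy h0
  have h2 : ∑ i : Fin N, g ⟨i⟩ • w i = 0 := by
    rw [← h1]
    have h3 : (⟨y, hy⟩ : maximalIdeal A) = ∑ i, a ⟨i⟩ • ⟨x i, hmem i⟩ :=
      Subtype.ext (by rw [Submodule.coe_sum]; rfl)
    rw [h3, map_sum]
    refine Finset.sum_congr rfl fun i _ => ?_
    rw [map_smul, ← ha, ← ResidueField.algebraMap_eq, algebraMap_smul]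
  exact Fintype.linearIndependent_iff.1 hwli _ h2 i.down

open IsLocalRing in
/-- Let A be a regular local ring of prime characteristic p, of Krull dimension N, with maximal ideal
generated by x_1, …, x_N, and assume that the module Ω_A of absolute Kähler differentials of A
(differentials relative to ℤ, equivalently relative to the prime field) is a free A-module of finite
rank. Then dx_1, …, dx_N are part of a basis of Ω_A: there exist a basis b of Ω_A and an injection e
of the indices 1, …, N into the index type of b with b (e i) = d(x_i) for all i. (In the published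
statement A is a regular local F-finite algebra over the prime field and the freeness and finiteness
of Ω_A form the first assertion, taken there from the literature; here they are hypotheses.) -/
theorem result (p : ℕ) [Fact p.Prime]
    {A : Type u} [CommRing A] [IsRegularLocalRing A] [CharP A p]
    [Module.Free A (KaehlerDifferential ℤ A)] [Module.Finite A (KaehlerDifferential ℤ A)]
    {N : ℕ} (x : Fin N → A) (hx : Ideal.span (Set.range x) = maximalIdeal A)
    (hN : ringKrullDim A = (N : WithBot ℕ∞)) :
    ∃ (ι : Type u) (b : Module.Basis ι A (KaehlerDifferential ℤ A)) (e : Fin N ↪ ι),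
      ∀ i : Fin N, b (e i) = KaehlerDifferential.D ℤ A (x i) := by
  have hli := indep p x hx hN
  let B := Module.Basis.sumExtend hli
  have hs : Function.Surjective (fun m : KaehlerDifferential ℤ A => (1 : ResidueField A) ⊗ₜ[A] m) :=
    TensorProduct.mk_surjective A _ (ResidueField A) residue_surjective
  choose s hs' using fun j => hs (B (Sum.inr j))
  let v := Sum.elim (fun i : ULift.{u} (Fin N) => D ℤ A (x i.down)) s
  have hv : ∀ j, (1 : ResidueField A) ⊗ₜ[A] v j = B j := by
    rintro (i | j)
    · simp [B, v, Module.Basis.sumExtend]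
      (try erw [Equiv.symm_symm])
      erw [Equiv.trans_apply, Equiv.Set.sumDiffSubset_apply_inl]
      rfl
    · exact hs' j
  have hl := Module.IsLocalRing.linearIndependent_of_flat v (by
    rw [show (TensorProduct.mk A (ResidueField A) _ 1) ∘ v = B from funext hv]
    exact B.linearIndependent)
  exact ⟨_, Module.Basis.mk hl (IsLocalRing.span_eq_top_of_tmul_eq_basis v B hv).ge,
    ⟨fun i => Sum.inl ⟨i⟩, fun i j h => congrArg ULift.down (Sum.inl_injective h)⟩,
    fun i => Module.Basis.mk_apply _ _ _⟩

end Groth.Agent.S19270
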