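import Groth.Statements.S19272
import Groth.Agent.Lib.WittFil29.Basic

set_option autoImplicit false
universe u
open WittFil

namespace Groth.Agent.S19272

/-- Let A be a unique factorisation domain of characteristic p, x_1, …, x_r pairwise non-associate prime
elements of A, B = A[1/(x_1⋯x_r)] with u_i the unit of B defined by x_i, m ≥ 0, and n ∈ ℤ^r with n_i
< 0 for every i. Then every truncated p-typical Witt vector of length m over B lying in the filtered
piece cut out by ∏ u_i ^ n_i (every coordinate y_j has y_j ^ (p ^ (m−1−j)) · ∏ u_i ^ n_i in the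
image of A) has all its coordinates in the image of the ideal (x_1⋯x_r)·A. (The published item,
stated for the filtered de Rham–Witt pieces in all degrees over a regular local ring, says only that
such vectors have all coordinates in A; this row states the divisibility of every coordinate by
x_1⋯x_r that its proof establishes, in degree zero, for a unique factorisation domain in place of a
regular local ring.) -/
theorem result (p : ℕ) [Fact p.Prime] {A B : Type u} [CommRing A] [IsDomain A]
    [UniqueFactorizationMonoid A] [CharP A p] [CommRing B] [Algebra A B] {r : ℕ} (x : Fin r → A)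
    (hx : ∀ i, Prime (x i)) (hxa : ∀ i j, Associated (x i) (x j) → i = j)
    [IsLocalization.Away (∏ i, x i) B] (u : Fin r → Bˣ)
    (hu : ∀ i, (u i : B) = algebraMap A B (x i)) (m : ℕ) (n : Fin r → ℤ) (hn : ∀ i, n i < 0)
    (a : TruncatedWittVector p m B) (ha : a ∈ WittFil.fil p m (A := A) (WittFil.zmon u n))
    (j : Fin m) :
    ∃ b : A, TruncatedWittVector.coeff j a = algebraMap A B ((∏ i, x i) * b) := by
  have hπ : ∏ i, x i ≠ 0 := Finset.prod_ne_zero_iff.2 fun i _ => (hx i).ne_zero
  have hinj : Function.Injective (algebraMap A B) := IsLocalization.injective B (powers_le_nonZeroDivisors_of_noZeroDivisors hπ)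
  obtain ⟨a', ha'⟩ := ha j
  have hneg : WittFil.zmon u n * algebraMap A B (∏ i, x i ^ (-n i).toNat) = 1 := by
    have e : ((∏ i, u i ^ (-n i).toNat : Bˣ) : B) = algebraMap A B (∏ i, x i ^ (-n i).toNat) := by
      rw [Units.coe_prod, map_prod]
      exact Finset.prod_congr rfl fun i _ => by rw [Units.val_pow_eq_pow_val, hu, map_pow]
    rw [← e, WittFil.zmon, ← Units.val_mul, ← Finset.prod_mul_distrib, Finset.prod_eq_one fun i _ => ?_, Units.val_one]
    rw [← zpow_natCast, ← zpow_add, Int.toNat_of_nonneg (by have := hn i; omega), add_neg_cancel, zpow_zero]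
  set N := p ^ (m - 1 - (j : ℕ))
  have hN : 0 < N := pow_pos (Fact.out : p.Prime).pos _
  have hpow : (TruncatedWittVector.coeff j a) ^ N = algebraMap A B (a' * ∏ i, x i ^ (-n i).toNat) := by
    rw [map_mul, ha', mul_assoc, hneg, mul_one]
  obtain ⟨c, hc⟩ := WittFil29.mem_range_of_pow (A := A) hπ hN ⟨_, hpow.symm⟩
  have hcN : c ^ N = a' * ∏ i, x i ^ (-n i).toNat := hinj (by rw [map_pow, hc, hpow])
  obtain ⟨d, rfl⟩ := WittFil29.prod_dvd x hx hxa (a := c) fun i => (hx i).dvd_of_dvd_pow (hcN ▸
    dvd_mul_of_dvd_right ((dvd_pow_self _ (by have := hn i; omega)).trans (Finset.dvd_prod_of_mem (fun i => x i ^ (-n i).toNat) (Finset.mem_univ i))) a')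
  exact ⟨d, hc.symm⟩

end Groth.Agent.S19272
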