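import Groth.Statements.S19273
import Mathlib

set_option autoImplicit false
universe u
open CAlg

namespace Groth.Agent.S19273

open KaehlerDifferential in
/-- Let A be an integral domain of prime characteristic p, x_1, …, x_N elements of A, r ≤ N, B =
A[1/(x_1⋯x_r)] with u_i the unit of B defined by x_i for i ≤ r, and suppose that the module Ω_A of
absolute Kähler differentials of A is free with a basis b indexed by {1, …, N} ⊔ ι whose i-th vector
is d(x_i) for i ≤ N. Then the module of logarithmic 1-forms — the A-submodule of Ω_B spanned by the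
image of Ω_A and the forms u_i⁻¹ · d(x_i), i ≤ r — is a free A-module: it has a basis indexed by {1,
…, N} ⊔ ι whose vector at i ≤ r is u_i⁻¹ · d(x_i), at r < i ≤ N is d(x_i), and at k ∈ ι is the image
of b_k. (In the published statement A is a regular local F-finite algebra over the prime field with
maximal ideal (x_1, …, x_N), the basis of Ω_A comes from the preceding lemma, and the assertion
covers the logarithmic q-forms for all q together with their identification with the log de Rham
complex of the log ring; only the degree-one freeness is stated here, from the properties of A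
actually used.) -/
theorem result (p : ℕ) [Fact p.Prime]
    {A B : Type u} [CommRing A] [IsDomain A] [CharP A p] [CommRing B] [Algebra A B] {r N : ℕ}
    (hr : r ≤ N) (x : Fin N → A) [IsLocalization.Away (∏ i : Fin r, x (Fin.castLE hr i)) B]
    (u : Fin r → Bˣ) (hu : ∀ i, (u i : B) = algebraMap A B (x (Fin.castLE hr i)))
    {ι : Type u} (b : Module.Basis (Fin N ⊕ ι) A (Ω[A⁄ℤ])) (hb : ∀ i, b (Sum.inl i) = D ℤ A (x i)) :
    ∃ e : Module.Basis (Fin N ⊕ ι) A
        (W4c6katofilta.logForms1 (fun i : Fin r => x (Fin.castLE hr i)) u),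
      (∀ i : Fin r, (e (Sum.inl (Fin.castLE hr i)) : Ω[B⁄ℤ]) =
          ((u i)⁻¹ : Bˣ) • KaehlerDifferential.map ℤ ℤ A B (D ℤ A (x (Fin.castLE hr i)))) ∧
      (∀ i : Fin N, r ≤ (i : ℕ) →
          (e (Sum.inl i) : Ω[B⁄ℤ]) = KaehlerDifferential.map ℤ ℤ A B (D ℤ A (x i))) ∧
      (∀ k : ι, (e (Sum.inr k) : Ω[B⁄ℤ]) = KaehlerDifferential.map ℤ ℤ A B (b (Sum.inr k))) := by
  classical
  have hxne : ∀ i, x i ≠ 0 := fun i h => b.ne_zero (Sum.inl i) (by rw [hb, h, map_zero])
  have hinj : Function.Injective (algebraMap A B) :=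
    IsLocalization.injective B (M := Submonoid.powers (∏ i : Fin r, x (Fin.castLE hr i)))
      (Submonoid.powers_le.2 (mem_nonZeroDivisors_of_ne_zero (Finset.prod_ne_zero_iff.2 fun i _ => hxne _)))
  haveI : Algebra.FormallyEtale A B :=
    Algebra.FormallyEtale.of_isLocalization (Submonoid.powers (∏ i : Fin r, x (Fin.castLE hr i)))
  have hbc : IsBaseChange B (KaehlerDifferential.map ℤ ℤ A B) :=
    KaehlerDifferential.isBaseChange_of_formallyEtale ℤ A B
  let bB := (b.baseChange B).map hbc.equiv
  have hbB : ∀ j, bB j = KaehlerDifferential.map ℤ ℤ A B (b j) := fun j => by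
    simp [bB, hbc.equiv_tmul]
  let w : Fin N ⊕ ι → Bˣ := Sum.elim (fun i => if h : (i : ℕ) < r then (u ⟨i, h⟩)⁻¹ else 1) fun _ => 1
  let eB := bB.unitsSMul w
  have heB : ∀ j, eB j = w j • KaehlerDifferential.map ℤ ℤ A B (b j) := fun j => by
    rw [Module.Basis.unitsSMul_apply, hbB]
  have hw : ∀ i : Fin r, w (Sum.inl (Fin.castLE hr i)) = (u i)⁻¹ := fun i => dif_pos i.2
  have hw' : ∀ i : Fin N, r ≤ (i : ℕ) → w (Sum.inl i) = 1 := fun i hi => dif_neg (not_lt.2 hi)
  have hli : LinearIndependent A eB := eB.linearIndependent.restrict_scalars (by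
    intro a c h; exact hinj (by simpa [Algebra.smul_def] using h))
  have hspan : Submodule.span A (Set.range eB) = W4c6katofilta.logForms1 (fun i : Fin r => x (Fin.castLE hr i)) u := by
    refine le_antisymm (Submodule.span_le.2 ?_) (Submodule.span_le.2 (Set.union_subset ?_ ?_))
    · rintro _ ⟨j, rfl⟩
      refine Submodule.subset_span ?_
      rw [heB]
      rcases j with i | k
      · by_cases h : (i : ℕ) < r
        · exact Or.inr ⟨⟨i, h⟩, by simp [w, h, hb]⟩
        · exact Or.inl ⟨b (Sum.inl i), by simp [w, h]⟩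
      · exact Or.inl ⟨b (Sum.inr k), by simp [w]⟩
    · rintro _ ⟨m, rfl⟩
      have hm : m ∈ Submodule.span A (Set.range b) := b.mem_span m
      induction hm using Submodule.span_induction with
      | zero => rw [map_zero]; exact zero_mem _
      | add a c _ _ ha hc => rw [map_add]; exact add_mem ha hc
      | smul a c _ hc => rw [map_smul]; exact Submodule.smul_mem _ _ hc
      | mem m hm =>
        obtain ⟨j, rfl⟩ := hm
        rcases j with i | k
        · by_cases h : (i : ℕ) < r
          · have : KaehlerDifferential.map ℤ ℤ A B (b (Sum.inl i)) = x i • eB (Sum.inl i) := by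
              have hu' : algebraMap A B (x i) = (u ⟨i, h⟩ : B) := (hu ⟨i, h⟩).symm
              rw [heB, show w (Sum.inl i) = (u ⟨i, h⟩)⁻¹ from dif_pos h, Units.smul_def, ← algebraMap_smul B (x i),
                smul_smul, hu', Units.mul_inv, one_smul]
            rw [this]
            exact Submodule.smul_mem _ _ (Submodule.subset_span ⟨_, rfl⟩)
          · refine Submodule.subset_span ⟨Sum.inl i, ?_⟩
            rw [heB, hw' i (not_lt.1 h), one_smul]
        · refine Submodule.subset_span ⟨Sum.inr k, ?_⟩
          rw [heB]; exact one_smul _ _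
    · rintro _ ⟨i, rfl⟩
      refine Submodule.subset_span ⟨Sum.inl (Fin.castLE hr i), ?_⟩
      rw [heB, hw, hb]
  let e := (Module.Basis.span hli).map (LinearEquiv.ofEq _ _ hspan)
  have he : ∀ j, (e j : Ω[B⁄ℤ]) = eB j := fun j => by
    simp [e, Module.Basis.span_apply]
  refine ⟨e, fun i => ?_, fun i hi => ?_, fun k => ?_⟩
  · rw [he, heB, hw, hb]
  · rw [he, heB, hw' i hi, one_smul, hb]
  · rw [he, heB]; exact one_smul _ _

end Groth.Agent.S19273
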