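import Groth.Statements.S19274
import Groth.Agent.Lib.WittFil29.Basic

set_option autoImplicit false
universe u
open WittFil

namespace Groth.Agent.S19274

/-- Let A be a unique factorisation domain of characteristic p, x a prime element of A, B = A[1/x] with
u the unit of B defined by x, m ≥ 1, and n an integer NOT divisible by p^m. For e in B and k ≥ 0
write fil_k(e) for the set of truncated p-typical Witt vectors of length k over B whose j-th
coordinate y_j satisfies y_j ^ (p ^ (k−1−j)) · e ∈ A for all j < k (the filtered piece; fil_k(u^n)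
is the piece of index n). Then fil_{m+1}(u^n) is contained in fil_{m+1}(u^(n−1)) + V(fil_m(u^n))
(the reverse inclusion is immediate): every a in fil_{m+1}(u^n) can be written a = b + V(y) with b
in fil_{m+1}(u^(n−1)) and y a Witt vector over B whose length-m truncation lies in fil_m(u^n), V(y)
being truncated to length m+1. (In the source A is a henselian discrete valuation ring, n = p^r·l >
1 with p not dividing l, and the condition reads m ≥ r + 1.) -/
theorem result (p : ℕ) [Fact p.Prime]
    {A B : Type u} [CommRing A] [IsDomain A] [UniqueFactorizationMonoid A] [CharP A p]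
    [CommRing B] [Algebra A B] (x : A) (hx : Prime x) [IsLocalization.Away x B] (u : Bˣ)
    (hu : (u : B) = algebraMap A B x) (m : ℕ) (hm : 0 < m) (n : ℤ) (hn : ¬ ((p : ℤ) ^ m ∣ n)) :
    ∀ a ∈ WittFil.fil p (m + 1) (A := A) ((u ^ n : Bˣ) : B),
      ∃ b ∈ WittFil.fil p (m + 1) (A := A) ((u ^ (n - 1) : Bˣ) : B),
        ∃ y : WittVector p B,
          WittVector.truncate m y ∈ WittFil.fil p m (A := A) ((u ^ n : Bˣ) : B) ∧
            a = b + WittVector.truncate (m + 1) (WittVector.verschiebung y) := by
  intro a ha
  have hp := (Fact.out : p.Prime)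
  obtain ⟨a, rfl⟩ := WittVector.truncate_surjective p (m + 1) B a
  set w0 := a.coeff 0
  let y : WittVector p B := WittVector.mk p fun i => a.coeff (i + 1)
  have hsum : a = WittVector.teichmuller p w0 + WittVector.verschiebung y := by
    conv_lhs => rw [← WittVector.init_add_tail a 1]
    congr 1
    · ext k
      rw [WittVector.init, WittVector.select, WittVector.coeff_mk]
      rcases k with _ | k
      · rw [if_pos Nat.one_pos, WittVector.teichmuller_coeff_zero]
      · rw [if_neg (by omega), WittVector.teichmuller_coeff_pos _ _ _ (by omega)]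
    · ext k
      rw [WittVector.tail, WittVector.select, WittVector.coeff_mk]
      rcases k with _ | k
      · rw [if_neg (by omega), WittVector.verschiebung_coeff_zero]
      · rw [if_pos (by omega), WittVector.verschiebung_coeff_add_one, WittVector.coeff_mk]
  refine ⟨WittVector.truncate (m + 1) (WittVector.teichmuller p w0), fun j => ?_, y, fun j => ?_, by rw [← map_add, ← hsum]⟩
  · obtain ⟨j, hj⟩ := j
    rw [WittVector.coeff_truncate]
    rcases j with _ | j
    · rw [WittVector.teichmuller_coeff_zero]
      show w0 ^ p ^ (m + 1 - 1 - 0) * _ ∈ _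
      rw [show m + 1 - 1 - 0 = m by omega]
      obtain ⟨a', ha'⟩ := ha ⟨0, by omega⟩
      rw [WittVector.coeff_truncate] at ha'
      have ha'' : w0 ^ p ^ m * ((u ^ n : Bˣ) : B) = algebraMap A B a' := by
        rw [ha']; show _ = a.coeff 0 ^ p ^ (m + 1 - 1 - 0) * _
        rw [show m + 1 - 1 - 0 = m by omega]
      set r := (n % ((p : ℤ) ^ m)).toNat with hr
      set q := n / ((p : ℤ) ^ m)
      have hN : (0 : ℤ) < (p : ℤ) ^ m := pow_pos (by exact_mod_cast hp.pos) m
      have hr0 : (r : ℤ) = n % ((p : ℤ) ^ m) := Int.toNat_of_nonneg (Int.emod_nonneg _ hN.ne')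
      have hrlt : r < p ^ m := by
        have := Int.emod_lt_of_pos n hN
        rw [← hr0] at this
        exact_mod_cast this
      have hrpos : 1 ≤ r := by
        by_contra hc
        exact hn (Int.dvd_of_emod_eq_zero (by omega))
      have hnr : n = (p : ℤ) ^ m * q + r := by rw [hr0, Int.mul_ediv_add_emod]
      have hval : ∀ k : ℕ, algebraMap A B (x ^ k) = ((u ^ (k : ℤ) : Bˣ) : B) := fun k => by
        rw [zpow_natCast, Units.val_pow_eq_pow_val, hu, map_pow]
      have hsplit : ∀ k : ℕ, (w0 * ((u ^ q : Bˣ) : B)) ^ p ^ m * algebraMap A B (x ^ k) = w0 ^ p ^ m * ((u ^ ((p : ℤ) ^ m * q + k) : Bˣ) : B) := by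
        intro k
        rw [hval, mul_pow, mul_assoc, ← Units.val_pow_eq_pow_val, ← Units.val_mul, ← zpow_natCast (u ^ q), ← zpow_mul, ← zpow_add]
        congr 3
        push_cast
        ring
      haveI : IsLocalization.Away (∏ _i : Fin 1, x) B := by simpa using ‹IsLocalization.Away x B›
      obtain ⟨v, hv⟩ := WittFil29.mem_range_of_pow_mul (A := A) (fun _ : Fin 1 => x) (fun _ => hx) (fun i k _ => Subsingleton.elim i k)
        (w := w0 * ((u ^ q : Bˣ) : B)) (pow_pos hp.pos m) (fun _ => r) (fun _ => hrlt)
        ⟨a', by rw [show ∏ _i : Fin 1, x ^ r = x ^ r by simp, hsplit, ← hnr, ha'']⟩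
      refine ⟨v ^ p ^ m * x ^ (r - 1), ?_⟩
      rw [map_mul, map_pow, hv, hsplit]
      congr 3
      omega
    · rw [WittVector.teichmuller_coeff_pos p w0 (j + 1) (Nat.succ_pos j), zero_pow (pow_ne_zero _ hp.ne_zero), zero_mul]
      exact zero_mem _
  · have h := ha ⟨j + 1, by have := j.2; omega⟩
    rw [WittVector.coeff_truncate] at h
    rw [WittVector.coeff_truncate, WittVector.coeff_mk, show m - 1 - (j : ℕ) = m + 1 - 1 - ((j : ℕ) + 1) by omega]
    exact h

end Groth.Agent.S19274
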