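import Groth.Prelude.Def_Hoch
import Groth.Prelude.Def_CoactBr2
import Mathlib.RingTheory.HopfAlgebra.Basic
import Mathlib.RingTheory.Bialgebra.TensorProduct
import Mathlib.LinearAlgebra.TensorProduct.Tower
import Mathlib.RingTheory.TensorProduct.Basic
import Mathlib.Algebra.Field.Defs
-- import your own Groth.Agent.* helpers here

set_option autoImplicit false
universe u v w
open Hoch

namespace Groth.Agent.S19275

section helpers

open TensorProduct

variable (K : Type u) [Field K] (A : Type v) [CommRing A] [HopfAlgebra K A]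
    (V : Type v) [AddCommGroup V] [Module K V] [HopfRep.Comod K A V]
    (R : Type w) [CommRing R] [Algebra K R]
    (φ : ∀ n : ℕ, R ⊗[K] (Hoch.cochain K A V n) →ₗ[R] (Hoch.cochain R (R ⊗[K] A) (R ⊗[K] V) n))
    (hφ0 : ∀ x : R ⊗[K] V, φ 0 x = x)
    (hφs : ∀ (n : ℕ) (r : R) (c : Hoch.cochain K A V n) (a : A),
      φ (n + 1) (r ⊗ₜ[K] (c ⊗ₜ[K] a)) = (φ n (r ⊗ₜ[K] c)) ⊗ₜ[R] ((1 : R) ⊗ₜ[K] a))

theorem ext_three {M N : Type*} [AddCommGroup M] [Module K M] [AddCommGroup N] [Module R N]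
    {f g : R ⊗[K] (M ⊗[K] A) →ₗ[R] N} (h : ∀ m a, f (1 ⊗ₜ (m ⊗ₜ a)) = g (1 ⊗ₜ (m ⊗ₜ a))) : f = g := by
  refine LinearMap.ext fun x => ?_
  induction x with
  | zero => simp
  | add x y hx hy => rw [map_add, map_add, hx, hy]
  | tmul r y =>
    rw [← mul_one r, ← smul_eq_mul, ← TensorProduct.smul_tmul', map_smul, map_smul]
    congr 1
    induction y with
    | zero => simp
    | add x y hx hy => rw [tmul_add, map_add, map_add, hx, hy]
    | tmul m a => exact h m a

include hφ0 hφs in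
theorem bij : ∀ n : ℕ, Function.Bijective (φ n)
  | 0 => ⟨fun x y h => by rwa [hφ0, hφ0] at h, fun x => ⟨x, hφ0 x⟩⟩
  | n + 1 => by
    let e := (AlgebraTensorModule.distribBaseChange K R (Hoch.cochain K A V n : Type v) A).trans
      (TensorProduct.congr (LinearEquiv.ofBijective (φ n) (bij n)) (LinearEquiv.refl R (R ⊗[K] A)))
    have h : φ (n + 1) = e.toLinearMap := by
      refine ext_three K A R fun c a => ?_
      refine (hφs n 1 c a).trans ?_
      simp [e]
    rw [h]
    exact e.bijective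

attribute [local instance] CoactBr.Comod.baseChange

include hφ0 hφs in
theorem comm : ∀ (n : ℕ) (x : R ⊗[K] (Hoch.cochain K A V n)),
    φ (n + 1) ((Hoch.d K A V n).baseChange R x) = Hoch.d R (R ⊗[K] A) (R ⊗[K] V) n (φ n x)
  | 0, x => by
    suffices h : φ 1 ∘ₗ (Hoch.d K A V 0).baseChange R = Hoch.d R (R ⊗[K] A) (R ⊗[K] V) 0 ∘ₗ φ 0 from
      LinearMap.congr_fun h x
    ext v
    obtain ⟨S, hS⟩ := TensorProduct.exists_finset (HopfRep.Comod.coact (k := K) (A := A) v)
    simp only [AlgebraTensorModule.curry_apply, curry_apply, LinearMap.coe_restrictScalars,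
      LinearMap.comp_apply, LinearMap.baseChange_tmul, hφ0]
    erw [Hoch.d_zero_apply, Hoch.d_zero_apply]
    rw [CoactBr.baseChange_coact_tmul_of_sum K R A V S 1 v (fun i => i.1) (fun i => i.2) hS, hS]
    simp [tmul_sub, tmul_sum, hφs, hφ0, Algebra.TensorProduct.one_def]
  | n + 1, x => by
    suffices h : φ (n + 1 + 1) ∘ₗ (Hoch.d K A V (n + 1)).baseChange R =
        Hoch.d R (R ⊗[K] A) (R ⊗[K] V) (n + 1) ∘ₗ φ (n + 1) from LinearMap.congr_fun h x
    refine ext_three K A R fun c a => ?_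
    obtain ⟨S, hS⟩ := TensorProduct.exists_finset (Coalgebra.comul (R := K) a)
    have hc : Coalgebra.comul (R := R) ((1 : R) ⊗ₜ[K] a) =
        S.sum fun i => ((1 : R) ⊗ₜ[K] i.1) ⊗ₜ[R] ((1 : R) ⊗ₜ[K] i.2) := by
      simp [TensorProduct.comul_tmul, hS, tmul_sum]
    have hd := comm n (1 ⊗ₜ[K] c)
    rw [LinearMap.baseChange_tmul] at hd
    simp only [AlgebraTensorModule.curry_apply, curry_apply, LinearMap.coe_restrictScalars,
      LinearMap.comp_apply, LinearMap.baseChange_tmul, hφs, Hoch.d_succ, LinearMap.add_apply,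
      LinearMap.smul_apply, LinearMap.rTensor_tmul, Hoch.tail_tmul, hc, hS, tmul_add, map_add, hd,
      tmul_sub, map_sub, map_sum, tmul_sum, tmul_smul, TensorProduct.assoc_symm_tmul, map_smul,
      Algebra.TensorProduct.one_def]
    rcases Nat.even_or_odd (n + 1) with h | h <;> simp [h.neg_one_pow, hφs]
    erw [← algebraMap_smul R (-1 : K)]
    simp [hφs]

include hφ0 hφs in
theorem exists_e (n : ℕ) : ∃ e : R ⊗[K] Hoch.H K A V n ≃ₗ[R] Hoch.H R (R ⊗[K] A) (R ⊗[K] V) n,
    ∀ (r : R) (z : Hoch.cocycles K A V n)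
      (hz : φ n (r ⊗ₜ[K] (z : Hoch.cochain K A V n)) ∈ Hoch.cocycles R (R ⊗[K] A) (R ⊗[K] V) n),
      e (r ⊗ₜ[K] Hoch.H.mk K A V n z) = Hoch.H.mk R (R ⊗[K] A) (R ⊗[K] V) n ⟨φ n (r ⊗ₜ[K] (z : Hoch.cochain K A V n)), hz⟩ := by
  let Z := Hoch.cocycles K A V n
  let B := Hoch.coboundaries K A V n
  let Z' := Hoch.cocycles R (R ⊗[K] A) (R ⊗[K] V) n
  let B' := Hoch.coboundaries R (R ⊗[K] A) (R ⊗[K] V) n
  have hZ : ∀ w : R ⊗[K] Z, φ n (Z.subtype.baseChange R w) ∈ Z' := fun w => by
    change Hoch.d R (R ⊗[K] A) (R ⊗[K] V) n _ = 0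
    rw [← comm K A V R φ hφ0 hφs, ← LinearMap.comp_apply ((Hoch.d K A V n).baseChange R),
      ← LinearMap.baseChange_comp]
    have : (Hoch.d K A V n) ∘ₗ Z.subtype = 0 := LinearMap.ext fun z => z.2
    simp [this]
  let f : R ⊗[K] Z →ₗ[R] Hoch.H R (R ⊗[K] A) (R ⊗[K] V) n :=
    Hoch.H.mk R (R ⊗[K] A) (R ⊗[K] V) n ∘ₗ (φ n ∘ₗ Z.subtype.baseChange R).codRestrict Z' hZ
  have hB : ∀ y : R ⊗[K] (Hoch.cochain K A V n),
      φ n y ∈ B' ↔ B.mkQ.baseChange R y = 0 := by
    intro y
    obtain _ | m := n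
    · change φ 0 y ∈ (⊥ : Submodule R _) ↔ _
      rw [Submodule.mem_bot, hφ0]
      refine ⟨fun h => by rw [h, map_zero], fun h => ?_⟩
      refine Module.Flat.lTensor_preserves_injective_linearMap (M := R) B.mkQ ?_ (h.trans (map_zero _).symm)
      rw [← LinearMap.ker_eq_bot, Submodule.ker_mkQ]
      rfl
    · have hex : Function.Exact (LinearMap.lTensor R (Hoch.d K A V m)) (LinearMap.lTensor R B.mkQ) :=
        lTensor_exact R (LinearMap.exact_iff.2 (Submodule.ker_mkQ B)) (Submodule.mkQ_surjective B)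
      refine ⟨?_, fun h => ?_⟩
      · rintro ⟨u, hu⟩
        obtain ⟨u', rfl⟩ := (bij K A V R φ hφ0 hφs m).2 u
        rw [← comm K A V R φ hφ0 hφs] at hu
        rw [← (bij K A V R φ hφ0 hφs (m + 1)).1 hu]
        exact hex.apply_apply_eq_zero u'
      · obtain ⟨u, rfl⟩ := (hex y).1 h
        exact ⟨φ m u, (comm K A V R φ hφ0 hφs m u).symm⟩
  let g : Z →ₗ[K] (Hoch.cochain K A V n : Type v) ⧸ B := B.mkQ ∘ₗ Z.subtype
  let q : Z →ₗ[K] Hoch.H K A V n := Hoch.H.mk K A V n
  have hgq : LinearMap.ker g = B.comap Z.subtype := by simp [g, LinearMap.ker_comp]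
  have hker : LinearMap.ker f = LinearMap.ker (q.baseChange R) := by
    have e1 : Function.Exact (LinearMap.lTensor R (B.comap Z.subtype).subtype) (LinearMap.lTensor R g) :=
      Module.Flat.lTensor_exact R (LinearMap.exact_iff.2 (by rw [hgq, Submodule.range_subtype]))
    have e2 : Function.Exact (LinearMap.lTensor R (B.comap Z.subtype).subtype) (LinearMap.lTensor R q) :=
      Module.Flat.lTensor_exact R (LinearMap.exact_iff.2 (by
        simp [q, Hoch.H.mk, Submodule.range_subtype]; rfl))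
    ext w
    change Submodule.Quotient.mk _ = 0 ↔ LinearMap.lTensor R q w = 0
    rw [Submodule.Quotient.mk_eq_zero, Submodule.mem_comap, e2 w]
    change φ n (Z.subtype.baseChange R w) ∈ B' ↔ _
    rw [hB, ← LinearMap.comp_apply (B.mkQ.baseChange R), ← LinearMap.baseChange_comp]
    exact e1 w
  have hsurj : Function.Surjective f := by
    intro x
    obtain ⟨⟨z', hz'⟩, rfl⟩ := Submodule.Quotient.mk_surjective _ x
    obtain ⟨y, rfl⟩ := (bij K A V R φ hφ0 hφs n).2 z'
    have h0 : (Hoch.d K A V n).baseChange R y = 0 := by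
      apply (bij K A V R φ hφ0 hφs (n + 1)).1
      rw [comm K A V R φ hφ0 hφs, map_zero]
      exact hz'
    obtain ⟨w, rfl⟩ := ((Module.Flat.lTensor_exact R (LinearMap.exact_iff.2
      (Z.range_subtype.symm : LinearMap.ker (Hoch.d K A V n) = LinearMap.range Z.subtype))) y).1 h0
    exact ⟨w, rfl⟩
  have hq : Function.Surjective (q.baseChange R) :=
    LinearMap.lTensor_surjective R (Submodule.mkQ_surjective _)
  let e0 := (q.baseChange R).quotKerEquivOfSurjective hq
  refine ⟨e0.symm.trans ((Submodule.quotEquivOfEq _ _ hker.symm).trans (f.quotKerEquivOfSurjective hsurj)),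
    fun r z hz => ?_⟩
  have h1 : e0.symm (r ⊗ₜ[K] Hoch.H.mk K A V n z) = Submodule.Quotient.mk (r ⊗ₜ[K] z) := by
    rw [LinearEquiv.symm_apply_eq]
    rfl
  simp only [LinearEquiv.trans_apply, h1]
  rfl

end helpers

open TensorProduct in
/-- In the case of an affine group scheme over a field (a K-groupoid acting on Spec K itself),
cohomology commutes with arbitrary base change. Precisely: let K be a field, A a commutative Hopf
algebra over K (the coordinate ring of an affine K-group scheme G), V a right A-comodule (a linear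
representation of G) and R any commutative K-algebra. Give R ⊗ V the base-changed comodule structure
over the R-bialgebra R ⊗ A, whose coaction sends r ⊗ v to the image of r ⊗ ρ(v) under the canonical
identification of R ⊗ (V ⊗ A) with (R ⊗ V) ⊗_R (R ⊗ A), and let φ_n : R ⊗ C^n(A, V) → C^n(R ⊗ A, R ⊗
V) be the canonical R-linear maps between the Hochschild cochain modules, determined by φ_0 = id and
φ_{n+1}(r ⊗ (c ⊗ a)) = φ_n(r ⊗ c) ⊗ (1 ⊗ a). Then every φ_n is bijective, the φ_n commute with the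
Hochschild differentials, and for every n there is an R-linear isomorphism R ⊗ H^n(A, V) ≅ H^n(R ⊗
A, R ⊗ V) sending r ⊗ [z] to [φ_n(r ⊗ z)] for every n-cocycle z. (The published statement is for an
affine K-groupoid acting on the spectrum of a finite extension L of K and its coherent
representations, with K of characteristic 0; this is its case L = K, in which the cochain complex of
a representation is the Hochschild complex of the comodule; V is not assumed finite-dimensional and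
K may be any field.) -/
theorem result
    (K : Type u) [Field K] (A : Type v) [CommRing A] [HopfAlgebra K A]
    (V : Type v) [AddCommGroup V] [Module K V] [HopfRep.Comod K A V]
    (R : Type w) [CommRing R] [Algebra K R]
    (φ : ∀ n : ℕ, R ⊗[K] (Hoch.cochain K A V n) →ₗ[R] (Hoch.cochain R (R ⊗[K] A) (R ⊗[K] V) n))
    (hφ0 : ∀ x : R ⊗[K] V, φ 0 x = x)
    (hφs : ∀ (n : ℕ) (r : R) (c : Hoch.cochain K A V n) (a : A),
      φ (n + 1) (r ⊗ₜ[K] (c ⊗ₜ[K] a)) = (φ n (r ⊗ₜ[K] c)) ⊗ₜ[R] ((1 : R) ⊗ₜ[K] a)) :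
    letI := CoactBr.Comod.baseChange K R A V
    (∀ n : ℕ, Function.Bijective (φ n)) ∧
    (∀ (n : ℕ) (x : R ⊗[K] (Hoch.cochain K A V n)),
        φ (n + 1) ((Hoch.d K A V n).baseChange R x) = Hoch.d R (R ⊗[K] A) (R ⊗[K] V) n (φ n x)) ∧
      ∀ n : ℕ, ∃ e : R ⊗[K] Hoch.H K A V n ≃ₗ[R] Hoch.H R (R ⊗[K] A) (R ⊗[K] V) n,
        ∀ (r : R) (z : Hoch.cocycles K A V n)
          (hz : φ n (r ⊗ₜ[K] (z : Hoch.cochain K A V n)) ∈ Hoch.cocycles R (R ⊗[K] A) (R ⊗[K] V) n),
          e (r ⊗ₜ[K] Hoch.H.mk K A V n z) = Hoch.H.mk R (R ⊗[K] A) (R ⊗[K] V) n ⟨φ n (r ⊗ₜ[K] (z : Hoch.cochain K A V n)), hz⟩ := by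
  let := CoactBr.Comod.baseChange K R A V
  exact ⟨bij K A V R φ hφ0 hφs, comm K A V R φ hφ0 hφs, exists_e K A V R φ hφ0 hφs⟩

end Groth.Agent.S19275
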