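import Groth.Statements.S19276
import Groth.Agent.Lib.GrpCyc29.Basic

set_option autoImplicit false
universe u v
open GrpAlg

namespace Groth.Agent.S19276

/-- Let `A` be a finite commutative group and `Λ` a commutative ring in which the order of `A` is
invertible. Then the ring homomorphism from the group ring `Λ[A]` to the product, over the subgroups
`B` of `A` with cyclic quotient, of the cyclotomic quotients `Λ[A ⧸ B]/(Φ_{|A/B|})`, each component
induced by `A → A/B`, is bijective. (In terms of group schemes: `Λ[A]` is the representation ring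
with coefficients in `Λ` of the finite diagonalizable group with character group `A`, the factors
are indexed by its dual cyclic subgroups, i.e. those isomorphic to some `μ_n`, and the components
are restriction followed by the cyclotomic quotient. The published statement takes `Λ = ℤ[1/|A|]`;
here `Λ` is any commutative ring in which `|A|` is invertible.) -/
theorem result (Λ : Type u) [CommRing Λ] (A : Type v)
    [AddCommGroup A] [Finite A] (hA : IsUnit ((Nat.card A : ℕ) : Λ)) :
    Function.Bijective (RingHom.pi fun B : {B : AddSubgroup A // IsAddCyclic (A ⧸ B)} =>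
      W4c6equivkfinstab.cycQuotMap Λ A B.1) := by
  classical
  have : Finite (AddSubgroup A) := Finite.of_injective (fun B => (B : Set A)) SetLike.coe_injective
  haveI : Fintype {B : AddSubgroup A // IsAddCyclic (A ⧸ B)} := Fintype.ofFinite _
  have hdvd : ∀ B : AddSubgroup A, IsUnit ((B.index : ℕ) : Λ) := fun B =>
    isUnit_of_dvd_unit (Nat.cast_dvd_cast B.index_dvd_card) hA
  constructor
  · rw [injective_iff_map_eq_zero]
    intro x hx
    have h := GrpCyc29.quotMap_eq_zero Λ x _ (⊥ : AddSubgroup A) rfl (hdvd _) (fun K _ hK => congrFun hx ⟨K, hK⟩)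
    have hinj : Function.Injective (W4c6equivkfinstab.quotMap Λ A (⊥ : AddSubgroup A)) :=
      AddMonoidAlgebra.mapDomain_injective (fun a b hab => by
        have := QuotientAddGroup.eq.1 hab
        rw [AddSubgroup.mem_bot, neg_add_eq_zero] at this
        exact this)
    exact hinj (h.trans (map_zero _).symm)
  · intro y
    have hc : ∀ B C : {B : AddSubgroup A // IsAddCyclic (A ⧸ B)}, B ≠ C →
        ∃ a, W4c6equivkfinstab.cycQuotMap Λ A B.1 a = 0 ∧ W4c6equivkfinstab.cycQuotMap Λ A C.1 a = 1 := fun B C h => by
      haveI := B.2; haveI := C.2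
      exact GrpCyc29.exists_comax Λ B.1 C.1 (fun e => h (Subtype.ext e)) (by rw [Nat.cast_mul]; exact (hdvd _).mul (hdvd _))
    choose a ha0 ha1 using hc
    have hs : ∀ B : {B : AddSubgroup A // IsAddCyclic (A ⧸ B)}, ∃ x, W4c6equivkfinstab.cycQuotMap Λ A B.1 x = y B := fun B => by
      obtain ⟨z, hz⟩ := Ideal.Quotient.mk_surjective (y B)
      obtain ⟨x, rfl⟩ := GrpCyc29.quotMap_surjective Λ B.1 z
      exact ⟨x, hz⟩
    choose x hx using hs
    refine ⟨∑ B, x B * ∏ C : {C // C ≠ B}, a C.1 B C.2, funext fun B => ?_⟩
    rw [RingHom.pi_apply, map_sum, Finset.sum_eq_single B]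
    · rw [map_mul, map_prod, Finset.prod_eq_one fun C _ => ha1 C.1 B C.2, mul_one, hx]
    · intro C _ hC
      rw [map_mul, map_prod, Finset.prod_eq_zero (i := ⟨B, Ne.symm hC⟩) (Finset.mem_univ _) (ha0 B C _), mul_zero]
    · simp

end Groth.Agent.S19276
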