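import Groth.Statements.S19278
import Groth.Agent.Lib.GrpCyc29.Basic

set_option autoImplicit false
universe u v
open GrpAlg

namespace Groth.Agent.S19278

/-- Let `M` be a commutative group, `B₀` a subgroup of finite index, `B` a subgroup of finite index with
`M ⧸ B` cyclic and `B₀` not contained in `B`, and `Λ` a commutative ring in which the indices of
`B₀` and `B` are invertible. Then the localization of the `Λ[M]`-module `Λ[M ⧸ B₀]` at the
multiplicative subset of `Λ[M]` of elements with image `1` in `Λ[M ⧸ B]/(Φ_{|M/B|})` is zero. (In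
terms of group schemes: for a finite closed subgroup T' = D(M/B₀) of the diagonalizable group with
character group `M` and a dual cyclic subgroup σ = D(M/B) not contained in T', the representation
ring of T' with coefficients in `Λ` vanishes after localization at σ. The published statement has a
split torus and `Λ = ℤ[1/N]`; here `M` is any commutative group and `Λ` any commutative ring in
which the orders of T' and σ are invertible.) -/
theorem result (Λ : Type u) [CommRing Λ]
    (M : Type v) [AddCommGroup M] (B₀ B : AddSubgroup M) [B₀.FiniteIndex] [B.FiniteIndex]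
    [IsAddCyclic (M ⧸ B)] (hle : ¬ B₀ ≤ B) (hu : IsUnit ((B₀.index * B.index : ℕ) : Λ)) :
    Subsingleton (LocalizedModule (W4c6equivkfinstab.locSubmonoid Λ M B)
      (AddMonoidAlgebra Λ (M ⧸ B₀))) := by
  obtain ⟨b, hb0, hb⟩ := SetLike.not_le_iff_exists.1 hle
  have hu' : IsUnit ((B.index : ℕ) : Λ) := by
    rw [Nat.cast_mul, IsUnit.mul_iff] at hu; exact hu.2
  obtain ⟨u, hu⟩ := GrpCyc29.isUnit_el_sub_one Λ B hb hu'
  obtain ⟨z, hz⟩ := Ideal.Quotient.mk_surjective (↑u⁻¹ : W4c6equivkfinstab.CycQuot Λ (M ⧸ B))
  obtain ⟨w, rfl⟩ := GrpCyc29.quotMap_surjective Λ B z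
  rw [LocalizedModule.subsingleton_iff]
  intro m
  refine ⟨(GrpCyc29.el Λ b - 1) * w, ?_, ?_⟩
  · show W4c6equivkfinstab.cycQuotMap Λ M B _ = 1
    rw [map_mul, ← hu, show W4c6equivkfinstab.cycQuotMap Λ M B w = ↑u⁻¹ from hz, Units.mul_inv]
  · rw [Algebra.smul_def]
    refine mul_eq_zero_of_left ?_ _
    show W4c6equivkfinstab.quotMap Λ M B₀ _ = 0
    rw [map_mul, map_sub, map_one, GrpCyc29.quotMap_el, (QuotientAddGroup.eq_zero_iff b).2 hb0, GrpCyc29.el_zero, sub_self, zero_mul]

end Groth.Agent.S19278
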