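import Groth.Statements.S19279
import Groth.Agent.Lib.GrpCyc29.Basic

set_option autoImplicit false
universe u v
open GrpAlg

namespace Groth.Agent.S19279

/-- Let `M` be a commutative group, `B₀` a subgroup of finite index and `Λ` a commutative ring in which
the index of `B₀` is invertible. Then the `Λ[M]`-linear map from `Λ[M ⧸ B₀]` to the product, over
the subgroups `B ⊇ B₀` with `M ⧸ B` cyclic, of the localizations of `Λ[M ⧸ B₀]` at the
multiplicative subsets of `Λ[M]` of elements with image `1` in `Λ[M ⧸ B]/(Φ_{|M/B|})`, with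
components the localization maps, is bijective. (In terms of group schemes: for a finite closed
subgroup T' = D(M/B₀) of the diagonalizable group with character group `M`, the representation ring
of T' with coefficients in `Λ` is the product of its localizations at the dual cyclic subgroups of
T'. The published statement has a split torus and `Λ = ℤ[1/|T'|]`; here `M` is any commutative group
and `Λ` any commutative ring in which the order of T' is invertible.) -/
theorem result (Λ : Type u) [CommRing Λ]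
    (M : Type v) [AddCommGroup M] (B₀ : AddSubgroup M) [B₀.FiniteIndex]
    (hu : IsUnit ((B₀.index : ℕ) : Λ)) :
    Function.Bijective (LinearMap.pi (R := AddMonoidAlgebra Λ M)
      fun B : {B : AddSubgroup M // B₀ ≤ B ∧ IsAddCyclic (M ⧸ B)} =>
        LocalizedModule.mkLinearMap (W4c6equivkfinstab.locSubmonoid Λ M B.1)
          (AddMonoidAlgebra Λ (M ⧸ B₀))) := by
  classical
  have : Finite (M ⧸ B₀) := AddSubgroup.finite_quotient_of_finiteIndex
  have hfinS : Finite {B : AddSubgroup M // B₀ ≤ B ∧ IsAddCyclic (M ⧸ B)} := by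
    refine Finite.of_injective (fun B => (QuotientAddGroup.mk '' (B.1 : Set M) : Set (M ⧸ B₀))) fun B C h => Subtype.ext ?_
    have key : ∀ D : {B : AddSubgroup M // B₀ ≤ B ∧ IsAddCyclic (M ⧸ B)}, ∀ m, m ∈ D.1 ↔ (QuotientAddGroup.mk m : M ⧸ B₀) ∈ QuotientAddGroup.mk '' (D.1 : Set M) := fun D m => by
      refine ⟨fun h => ⟨m, h, rfl⟩, ?_⟩
      rintro ⟨d, hd, he⟩
      have := add_mem hd (D.2.1 (QuotientAddGroup.eq.1 he))
      rwa [add_neg_cancel_left] at this
    ext m
    rw [key B m, key C m]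
    exact iff_of_eq (congrArg (fun T : Set (M ⧸ B₀) => (QuotientAddGroup.mk m : M ⧸ B₀) ∈ T) h)
  haveI : Fintype {B : AddSubgroup M // B₀ ≤ B ∧ IsAddCyclic (M ⧸ B)} := Fintype.ofFinite _
  have hfi : ∀ B : AddSubgroup M, B₀ ≤ B → B.FiniteIndex := fun B hB => AddSubgroup.finiteIndex_of_le hB
  have hui : ∀ B : AddSubgroup M, B₀ ≤ B → IsUnit ((B.index : ℕ) : Λ) := fun B hB =>
    isUnit_of_dvd_unit (Nat.cast_dvd_cast (AddSubgroup.index_dvd_of_le hB)) hu
  have hinj : ∀ z : AddMonoidAlgebra Λ M,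
      (∀ B : {B : AddSubgroup M // B₀ ≤ B ∧ IsAddCyclic (M ⧸ B)}, W4c6equivkfinstab.cycQuotMap Λ M B.1 z = 0) →
        algebraMap (AddMonoidAlgebra Λ M) (AddMonoidAlgebra Λ (M ⧸ B₀)) z = 0 := fun z hz =>
    GrpCyc29.quotMap_eq_zero Λ z _ B₀ rfl hu (fun K hK hK' => hz ⟨K, hK, hK'⟩)
  have hker : ∀ (B : AddSubgroup M), B₀ ≤ B → ∀ z : AddMonoidAlgebra Λ M,
      algebraMap (AddMonoidAlgebra Λ M) (AddMonoidAlgebra Λ (M ⧸ B₀)) z = 0 → W4c6equivkfinstab.cycQuotMap Λ M B z = 0 := by
    intro B hB z hz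
    rw [W4c6equivkfinstab.cycQuotMap, RingHom.comp_apply, GrpCyc29.quotMap_comp Λ B₀ B hB, RingHom.comp_apply,
      show W4c6equivkfinstab.quotMap Λ M B₀ z = 0 from hz, map_zero, map_zero]
  constructor
  · rw [injective_iff_map_eq_zero]
    intro n hn
    obtain ⟨z, rfl⟩ := GrpCyc29.quotMap_surjective Λ B₀ n
    refine hinj z fun B => ?_
    obtain ⟨s, hs⟩ := (LocalizedModule.mk_eq (S := W4c6equivkfinstab.locSubmonoid Λ M B.1) (m := W4c6equivkfinstab.quotMap Λ M B₀ z) (m' := 0) (s := 1) (s' := 1)).1 (by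
      rw [LocalizedModule.zero_mk]; exact congrFun hn B)
    simp only [one_smul, smul_zero, Submonoid.smul_def, Algebra.smul_def] at hs
    have h2 := hker B.1 B.2.1 (s.1 * z) (by rw [map_mul]; exact hs)
    rwa [map_mul, show W4c6equivkfinstab.cycQuotMap Λ M B.1 s.1 = 1 from s.2, one_mul] at h2
  · intro y
    have hc : ∀ B C : {B : AddSubgroup M // B₀ ≤ B ∧ IsAddCyclic (M ⧸ B)}, B ≠ C →
        ∃ a, W4c6equivkfinstab.cycQuotMap Λ M B.1 a = 0 ∧ W4c6equivkfinstab.cycQuotMap Λ M C.1 a = 1 := fun B C h => by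
      haveI := B.2.2; haveI := C.2.2; haveI := hfi _ B.2.1; haveI := hfi _ C.2.1
      exact GrpCyc29.exists_comax Λ B.1 C.1 (fun e => h (Subtype.ext e)) (by rw [Nat.cast_mul]; exact (hui _ B.2.1).mul (hui _ C.2.1))
    choose a ha0 ha1 using hc
    have hs : ∀ B : {B : AddSubgroup M // B₀ ≤ B ∧ IsAddCyclic (M ⧸ B)}, ∃ (x : AddMonoidAlgebra Λ M) (s : W4c6equivkfinstab.locSubmonoid Λ M B.1),
        y B = LocalizedModule.mk (algebraMap (AddMonoidAlgebra Λ M) (AddMonoidAlgebra Λ (M ⧸ B₀)) x) s := fun B => by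
      induction y B using LocalizedModule.induction_on with
      | h m s =>
        obtain ⟨x, rfl⟩ := GrpCyc29.quotMap_surjective Λ B₀ m
        exact ⟨x, s, rfl⟩
    choose x s hxs using hs
    refine ⟨algebraMap (AddMonoidAlgebra Λ M) (AddMonoidAlgebra Λ (M ⧸ B₀)) (∑ B, x B * ∏ C : {C // C ≠ B}, a C.1 B C.2), funext fun B => ?_⟩
    rw [LinearMap.pi_apply, hxs B, LocalizedModule.mkLinearMap_apply, LocalizedModule.mk_eq]
    refine ⟨⟨∏ C : {C // C ≠ B}, a C.1 B C.2, by
      show W4c6equivkfinstab.cycQuotMap Λ M B.1 _ = 1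
      rw [map_prod, Finset.prod_eq_one fun C _ => ha1 C.1 B C.2]⟩, ?_⟩
    simp only [one_smul, Submonoid.smul_def, Algebra.smul_def, ← map_mul]
    rw [← sub_eq_zero, ← map_sub]
    refine hinj _ fun D => ?_
    by_cases hD : D = B
    · subst hD
      simp only [map_sub, map_mul, map_sum, map_prod]
      rw [Finset.sum_eq_single D]
      · rw [Finset.prod_eq_one fun C _ => ha1 C.1 D C.2, show W4c6equivkfinstab.cycQuotMap Λ M D.1 (s D).1 = 1 from (s D).2]
        ring
      · intro C _ hC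
        rw [Finset.prod_eq_zero (i := ⟨D, Ne.symm hC⟩) (Finset.mem_univ _) (ha0 D C _), mul_zero]
      · simp
    · simp only [map_sub, map_mul, map_prod]
      rw [Finset.prod_eq_zero (i := ⟨D, hD⟩) (Finset.mem_univ _) (ha0 D B _)]
      simp

end Groth.Agent.S19279
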