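import Groth.Statements.S19280
import Groth.Agent.Lib.DiagGL.Main

set_option autoImplicit false
universe u
open CategoryTheory MonoidalCategory CartesianMonoidalCategory MonObj GrpObj AlgebraicGeometry
open AlgGrp

namespace Groth.Agent.S19280

set_option backward.isDefEq.respectTransparency.types false

open Groth.Agent.DiagGL

theorem core (k : Type u) [Field k] (K : Type u) [Field K] [Algebra k K] (m : ℕ) (M : Type) [AddCommGroup M]
    [Fintype M] [DecidableEq M]
    (σ τ G : Over (Spec (CommRingCat.of k))) [GrpObj σ] [GrpObj τ] [GrpObj G]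
    (i : σ ⟶ G) (j : τ ⟶ G) [IsMonHom i] [IsMonHom j] [Mono i] [Mono j]
    (C : Chars M σ) (D' : Chars M τ) (Mt : Mats m G)
    (g : 𝟙_ (Over (Spec (CommRingCat.of K))) ⟶ Red.bc (ext' (k := k) K) G)
    (φ : Red.bc (ext' (k := k) K) σ ≅ Red.bc (ext' (k := k) K) τ)
    (h : AGF.conjBy g ((Over.pullback (ext' (k := k) K)).map i) =
      φ.hom ≫ (Over.pullback (ext' (k := k) K)).map j) :
    ∃ (g : 𝟙_ (Over (Spec (CommRingCat.of k))) ⟶ G) (φ : σ ≅ τ), AGF.conjBy g i = φ.hom ≫ j := by
  classical
  obtain ⟨P, hPs, hP⟩ := exists_split C (fun {T} x => Mt.mat (x ≫ i))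
    (fun t x => by rw [Category.assoc, Mt.nat]) (fun x y => by rw [MonObj.mul_comp, Mt.mul])
    (fun T => by rw [MonObj.one_comp, Mt.one])
  obtain ⟨Q, hQs, hQ⟩ := exists_split D' (fun {T} x => Mt.mat (x ≫ j))
    (fun t x => by rw [Category.assoc, Mt.nat]) (fun x y => by rw [MonObj.mul_comp, Mt.mul])
    (fun T => by rw [MonObj.one_comp, Mt.one])
  let κ := algebraMap k K
  let CK := C.baseChange (ext' (k := k) K) σ
  let DK := D'.baseChange (ext' (k := k) K) τ
  let MK := Mt.baseChange (ext' (k := k) K) G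
  let PK := fun a => (P a).map κ
  let QK := fun a => (Q a).map κ
  obtain ⟨G₀, hG₀, hg⟩ := exists_matrix MK g
  -- the two relations
  have r1 : ∀ (T : Over (Spec (CommRingCat.of K))) (x : T ⟶ Red.bc (ext' (k := k) K) σ),
      expand (DK.ch (x ≫ φ.hom)) QK * G₀.map (alg T) = G₀.map (alg T) * expand (CK.ch x) PK := by
    intro T x
    rw [← mat_baseChange K D' Mt j hQ, ← mat_baseChange K C Mt i hP, Category.assoc, ← h]
    exact mat_conjBy MK _ hg x
  have r2 : ∀ (T : Over (Spec (CommRingCat.of K))) (y : T ⟶ Red.bc (ext' (k := k) K) τ),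
      expand (DK.ch y) QK * G₀.map (alg T) = G₀.map (alg T) * expand (CK.ch (y ≫ φ.inv)) PK := by
    intro T y
    simpa using r1 T (y ≫ φ.inv)
  -- φ is multiplicative
  have hmul : ∀ (T : Over (Spec (CommRingCat.of K))) (x y : T ⟶ Red.bc (ext' (k := k) K) σ),
      (x * y) ≫ φ.hom = (x ≫ φ.hom) * (y ≫ φ.hom) := by
    intro T x y
    apply bc_cancel K j
    apply MK.inj
    apply (isUnit_map (T := T) hG₀).mul_right_cancel
    have e : ∀ z : T ⟶ Red.bc (ext' (k := k) K) σ,
        MK.mat ((z ≫ φ.hom) ≫ (Over.pullback (ext' (k := k) K)).map j) * G₀.map (alg T) =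
          G₀.map (alg T) * MK.mat (z ≫ (Over.pullback (ext' (k := k) K)).map i) := fun z => by
      rw [Category.assoc, ← h]; exact mat_conjBy MK _ hg z
    rw [e, MonObj.mul_comp x y, MonObj.mul_comp (x ≫ φ.hom) (y ≫ φ.hom), MK.mul, MK.mul, ← _root_.mul_assoc, ← e x,
      _root_.mul_assoc, ← e y, _root_.mul_assoc]
  have hmul' : ∀ (T : Over (Spec (CommRingCat.of K))) (x y : T ⟶ Red.bc (ext' (k := k) K) τ),
      (x * y) ≫ φ.inv = (x ≫ φ.inv) * (y ≫ φ.inv) := by
    intro T x y
    rw [← cancel_mono φ.hom, hmul]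
    simp
  -- characters of the transition map
  have hchar : ∀ (σ' τ' : Over (Spec (CommRingCat.of K))) [GrpObj σ'] [GrpObj τ'] (C₁ : Chars M σ') (C₂ : Chars M τ')
      (f : σ' ⟶ τ'), (∀ (T : Over (Spec (CommRingCat.of K))) (x y : T ⟶ σ'), (x * y) ≫ f = (x ≫ f) * (y ≫ f)) →
      ∃ α : M →+ M, ∀ (T : Over (Spec (CommRingCat.of K))) (x : T ⟶ σ'),
        C₂.ch (x ≫ f) = (C₁.ch x).comp (AddMonoidHom.toMultiplicative α) := by
    intro σ' τ' _ _ C₁ C₂ f hf
    have key : ∀ b : M, ∃ a : M, ∀ (T : Over (Spec (CommRingCat.of K))) (x : T ⟶ σ'),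
        C₂.ch (x ≫ f) (Multiplicative.ofAdd b) = C₁.ch x (Multiplicative.ofAdd a) := by
      intro b
      have hone : ∀ T : Over (Spec (CommRingCat.of K)), (1 : T ⟶ σ') ≫ f = 1 := fun T => by
        have := hf T 1 1
        rwa [_root_.one_mul (1 : T ⟶ σ'), left_eq_mul] at this
      obtain ⟨L, hLs, hL⟩ := exists_split C₁
        (fun {T} x => C₂.ch (x ≫ f) (Multiplicative.ofAdd b) • (1 : Matrix (Fin 1) (Fin 1) Γ(T.left, ⊤)))
        (fun t x => by
          ext p q
          rw [Category.assoc, C₂.nat, Subsingleton.elim p 0, Subsingleton.elim q 0]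
          simp)
        (fun x y => by rw [hf, C₂.mul, smul_mul_assoc, mul_smul_comm, _root_.one_mul, smul_smul])
        (fun T => by rw [hone, C₂.one, one_smul])
      obtain ⟨a, ha⟩ := exists_one_of_isSplit_one hLs
      refine ⟨a, fun T x => ?_⟩
      have := congrFun (congrFun (hL T x) 0) 0
      simp only [expand, Matrix.sum_apply, Matrix.smul_apply, Matrix.map_apply, Matrix.one_apply_eq, smul_eq_mul,
        _root_.mul_one] at this
      rw [this, Finset.sum_eq_single a (fun c _ hc => by rw [ha, if_neg hc]; simp) (by simp), ha, if_pos rfl]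
      simp
    choose α hα using key
    obtain ⟨w, hw⟩ := exists_uni C₁
    refine ⟨AddMonoidHom.mk' α fun b b' => ?_, fun T x => MonoidHom.ext fun b => hα _ T x⟩
    have h1 := hα (b + b') _ w
    rw [ofAdd_add, map_mul, hα b, hα b', ← map_mul, hw, ← ofAdd_add] at h1
    exact (Multiplicative.ofAdd.injective
      ((MonoidAlgebra.single_left_injective (one_ne_zero (α := K))) ((emb K M).injective h1))).symm
  obtain ⟨α, hα⟩ := hchar _ _ CK DK φ.hom hmul
  obtain ⟨β, hβ⟩ := hchar _ _ DK CK φ.inv hmul'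
  obtain ⟨w, hw⟩ := exists_uni CK
  obtain ⟨v, hv⟩ := exists_uni DK
  have e1 : ∀ a, push α QK a * G₀ = G₀ * PK a := by
    have := r1 _ w
    rw [hα, expand_push, hw, mul_expand, expand_mul_right] at this
    exact congrFun (expand_injective this)
  have e2 : ∀ b, QK b * G₀ = G₀ * push β PK b := by
    have := r2 _ v
    rw [hβ, expand_push, hv, mul_expand, expand_mul_right] at this
    exact congrFun (expand_injective this)
  have hpush : ∀ (R : M → Matrix (Fin m) (Fin m) k) (γ : M → M) (a : M),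
      push γ (fun b => (R b).map κ) a = (push γ R a).map κ := fun R γ a =>
    (map_sum κ.mapMatrix _ _).symm
  let Q' := push α Q
  have hrank : ∀ a, (P a).rank = (Q' a).rank := by
    intro a
    rw [← rank_map_eq κ (P a), ← rank_map_eq κ (Q' a), ← hpush]
    have hd := (Matrix.isUnit_iff_isUnit_det _).1 hG₀
    rw [← Matrix.rank_mul_eq_right_of_isUnit_det G₀ (PK a) hd,
      ← Matrix.rank_mul_eq_left_of_isUnit_det G₀ (push α QK a) hd, e1]
  obtain ⟨H, hH, hHP⟩ := exists_conj hPs (isSplit_push α hQs) hrank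
  have hQ' : ∀ b, Q b = ∑ a with β a = b, Q' a := by
    intro b
    apply Matrix.map_injective κ.injective
    refine hG₀.mul_right_cancel ?_
    show QK b * G₀ = _
    simp only []
    rw [e2, show (∑ a with β a = b, Q' a).map κ = push β (fun a => (Q' a).map κ) b from (hpush _ _ _).symm]
    simp only [push, Finset.mul_sum, Finset.sum_mul]
    refine Finset.sum_congr rfl fun a _ => ?_
    show _ = (push α Q a).map κ * G₀
    rw [← hpush]
    exact (e1 a).symm
  have hHQ : ∀ b, Q b * H = H * push β P b := by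
    intro b
    rw [hQ' b]
    simp only [push, Finset.mul_sum, Finset.sum_mul]
    exact Finset.sum_congr rfl fun a _ => (hHP a).symm
  obtain ⟨g₀, hg₀⟩ := exists_point Mt hH
  obtain ⟨f, hf⟩ := D'.surj ((C.ch (𝟙 σ)).comp (AddMonoidHom.toMultiplicative α))
  obtain ⟨f', hf'⟩ := C.surj ((D'.ch (𝟙 τ)).comp (AddMonoidHom.toMultiplicative β))
  have hfc : AGF.conjBy g₀ i = f ≫ j := by
    apply Mt.inj
    apply (isUnit_map (T := σ) hH).mul_right_cancel
    have := mat_conjBy Mt i hg₀ (𝟙 σ)
    rw [Category.id_comp, hP] at this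
    rw [this, hQ, hf, expand_push, mul_expand, expand_mul_right]
    exact congrArg _ (funext hHP)
  have hfc' : f' ≫ AGF.conjBy g₀ i = j := by
    apply Mt.inj
    apply (isUnit_map (T := τ) hH).mul_right_cancel
    have hj := hQ _ (𝟙 τ)
    rw [Category.id_comp] at hj
    rw [mat_conjBy Mt i hg₀ f', hP, hj, hf', expand_push, mul_expand, expand_mul_right]
    exact congrArg _ (funext fun b => (hHQ b).symm)
  have hmono : ∀ {T : Over (Spec (CommRingCat.of k))} (x y : T ⟶ σ),
      x ≫ AGF.conjBy g₀ i = y ≫ AGF.conjBy g₀ i → x = y := by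
    intro T x y hxy
    rw [← cancel_mono i]
    apply Mt.inj
    apply (isUnit_map (T := T) hH).mul_left_cancel
    rw [← mat_conjBy Mt i hg₀, ← mat_conjBy Mt i hg₀, hxy]
  refine ⟨g₀, ⟨f, f', hmono _ _ ?_, ?_⟩, hfc⟩
  · rw [Category.assoc, hfc', ← hfc, Category.id_comp]
  · rw [← cancel_mono j, Category.assoc, ← hfc, hfc', Category.id_comp]

/-- Let `k` be a field with an algebraic closure `K`, `m ≥ 0`, `n > 0`, and let `σ`, `τ` be closed
subgroup schemes of `GL_{m,k}`, each isomorphic as a `k`-group scheme to `μ_n = D(ℤ/n)`. If after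
base change to `K` there are a `K`-point `g` of `GL_m` and an isomorphism `σ_K ≅ τ_K` through which
conjugation by `g` carries the inclusion of `σ_K` to that of `τ_K`, then there are already a
`k`-rational point of `GL_{m,k}` and an isomorphism `σ ≅ τ` with the same property. (This is the
first of the two rationality conditions, stated for all dual cyclic subgroups rather than only for
those with a fixed point on a given algebraic space, which is what the printed argument establishes
and which gives the printed statement for every action of `GL_m`.) -/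
theorem result (k : Type u) [Field k]
    (K : Type u) [Field K] [Algebra k K] [IsAlgClosure k K] (m n : ℕ) (hn : 0 < n)
    (σ τ : Over (Spec (CommRingCat.of k))) [GrpObj σ] [GrpObj τ]
    (i : σ ⟶ CoactBr.sp k (CoordGrp.GLn m k)) (j : τ ⟶ CoactBr.sp k (CoordGrp.GLn m k))
    [IsMonHom i] [IsMonHom j] (hi : IsClosedImmersion i.left) (hj : IsClosedImmersion j.left)
    (hσ : Red.IsSplitTorusWith (ZMod n) σ) (hτ : Red.IsSplitTorusWith (ZMod n) τ)
    (h : ∃ (g : 𝟙_ (Over (Spec (CommRingCat.of K))) ⟶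
        Red.bc (Spec.map (CommRingCat.ofHom (algebraMap k K))) (CoactBr.sp k (CoordGrp.GLn m k)))
      (φ : Red.bc (Spec.map (CommRingCat.ofHom (algebraMap k K))) σ ≅
        Red.bc (Spec.map (CommRingCat.ofHom (algebraMap k K))) τ),
      AGF.conjBy g ((Over.pullback (Spec.map (CommRingCat.ofHom (algebraMap k K)))).map i) =
        φ.hom ≫ (Over.pullback (Spec.map (CommRingCat.ofHom (algebraMap k K)))).map j) :
    ∃ (g : 𝟙_ (Over (Spec (CommRingCat.of k))) ⟶ CoactBr.sp k (CoordGrp.GLn m k)) (φ : σ ≅ τ),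
      AGF.conjBy g i = φ.hom ≫ j := by
  haveI : NeZero n := ⟨hn.ne'⟩
  obtain ⟨C⟩ := nonempty_chars hσ
  obtain ⟨D'⟩ := nonempty_chars hτ
  haveI : Mono i.left := inferInstance
  haveI : Mono j.left := inferInstance
  haveI : Mono i := Over.mono_of_mono_left i
  haveI : Mono j := Over.mono_of_mono_left j
  obtain ⟨g, φ, h⟩ := h
  exact core k K m (ZMod n) σ τ _ i j C D' (matsGLn k m) g φ h

end Groth.Agent.S19280
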