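import Groth.Statements.S19281
import Groth.Agent.Lib.DiagGL.Main

set_option autoImplicit false
universe u
open CategoryTheory MonoidalCategory CartesianMonoidalCategory MonObj GrpObj AlgebraicGeometry
open AlgGrp

namespace Groth.Agent.S19281

set_option backward.isDefEq.respectTransparency.types false

open Groth.Agent.DiagGL

theorem surjective_of_generate {k : Type u} [Field k] {M : Type} [AddCommGroup M] [Finite M] {m : ℕ}
    (c : Fin m → M) (hc : AddSubgroup.closure (Set.range c) = ⊤) {A : Type u} [CommRing A] [Algebra k A]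
    (χ : A →ₐ[k] MonoidAlgebra k (Multiplicative M))
    (h : ∀ i, MonoidAlgebra.single (Multiplicative.ofAdd (c i)) (1 : k) ∈ χ.range) : Function.Surjective χ := by
  let S : AddSubmonoid M :=
    { carrier := {a | MonoidAlgebra.single (Multiplicative.ofAdd a) (1 : k) ∈ χ.range}
      add_mem' := fun {a b} ha hb => by
        have := mul_mem (show _ ∈ χ.range from ha) (show _ ∈ χ.range from hb)
        rwa [MonoidAlgebra.single_mul_single, _root_.mul_one, ← ofAdd_add] at this
      zero_mem' := one_mem χ.range }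
  have hneg : ∀ a ∈ S, -a ∈ S := by
    intro a ha
    have : -a = (addOrderOf a - 1) • a := by
      refine neg_eq_of_add_eq_zero_right ?_
      rw [← succ_nsmul', Nat.sub_add_cancel (addOrderOf_pos a), addOrderOf_nsmul_eq_zero]
    rw [this]
    exact nsmul_mem ha _
  have hall : ∀ a : M, a ∈ S := fun a => by
    have : AddSubgroup.closure (Set.range c) ≤ { S with neg_mem' := fun {a} => hneg a } :=
      (AddSubgroup.closure_le _).2 (by rintro _ ⟨i, rfl⟩; exact h i)
    exact this (hc.ge trivial)
  intro p
  induction p using MonoidAlgebra.induction_linear with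
  | zero => exact ⟨0, map_zero χ⟩
  | add a b ha hb =>
    obtain ⟨a, rfl⟩ := ha
    obtain ⟨b, rfl⟩ := hb
    exact ⟨a + b, map_add χ a b⟩
  | single a r =>
    obtain ⟨q, hq⟩ := hall (Multiplicative.toAdd a)
    exact ⟨r • q, by rw [map_smul, show χ q = MonoidAlgebra.single a 1 from hq, MonoidAlgebra.smul_single', _root_.mul_one]⟩

theorem core (k : Type u) [Field k] (K : Type u) [Field K] [Algebra k K] (m : ℕ) (M : Type) [AddCommGroup M]
    [Fintype M] [DecidableEq M] (σ' : Over (Spec (CommRingCat.of K))) [GrpObj σ'] (C' : Chars M σ')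
    (i' : σ' ⟶ Red.bc (ext' (k := k) K) (CoactBr.sp k (CoordGrp.GLn m k))) [IsMonHom i'] [Mono i'] :
    ∃ (σ : Over (Spec (CommRingCat.of k))) (_ : GrpObj σ) (i : σ ⟶ CoactBr.sp k (CoordGrp.GLn m k))
      (_ : IsMonHom i), IsClosedImmersion i.left ∧ Red.IsSplitTorusWith M σ ∧
      ∃ (g : 𝟙_ (Over (Spec (CommRingCat.of K))) ⟶ Red.bc (ext' (k := k) K) (CoactBr.sp k (CoordGrp.GLn m k)))
        (φ : σ' ≅ Red.bc (ext' (k := k) K) σ),
        AGF.conjBy g i' = φ.hom ≫ (Over.pullback (ext' (k := k) K)).map i := by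
  classical
  let GLk := CoactBr.sp k (CoordGrp.GLn m k)
  let Mt := matsGLn k m
  let MK := Mt.baseChange (ext' (k := k) K) GLk
  obtain ⟨P, hPs, hP⟩ := exists_split C' (fun {T} x => MK.mat (x ≫ i'))
    (fun t x => by rw [Category.assoc, MK.nat]) (fun x y => by rw [MonObj.mul_comp, MK.mul])
    (fun T => by rw [MonObj.one_comp, MK.one])
  obtain ⟨c, hc⟩ := exists_diagFam_rank hPs
  obtain ⟨H, hH, hHP⟩ := exists_conj hPs (isSplit_diagFam (k := K) c) fun a => (hc a).symm
  have hdiag : ∀ a, (diagFam k c a).map (algebraMap k K) = diagFam K c a := fun a => by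
    ext i j
    rcases eq_or_ne i j with rfl | hij
    · by_cases h : c i = a <;> simp [diagFam, h]
    · simp [diagFam, hij]
  -- the weights generate
  have hgen : AddSubgroup.closure (Set.range c) = ⊤ := by
    set N := AddSubgroup.closure (Set.range c)
    let c1 : Multiplicative M →* Γ((D K (M ⧸ N)).left, ⊤) :=
      (univChar K (M ⧸ N)).comp (AddMonoidHom.toMultiplicative (QuotientAddGroup.mk' N))
    obtain ⟨x, hx⟩ := C'.surj c1
    have hxy : x = 1 := by
      haveI : IsMonHom i' := inferInstance
      rw [← cancel_mono i', MonObj.one_comp]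
      apply MK.inj
      rw [MK.one, hP, hx]
      apply (isUnit_map (T := D K (M ⧸ N)) hH).mul_left_cancel
      rw [mul_expand, _root_.mul_one]
      have h1 : (H.map (alg (D K (M ⧸ N)))) =
          expand (1 : Multiplicative M →* Γ((D K (M ⧸ N)).left, ⊤)) (fun a => H * P a) := by
        rw [← mul_expand, expand_one hPs, _root_.mul_one]
      rw [h1]
      simp only [expand]
      refine Finset.sum_congr rfl fun a _ => ?_
      by_cases ha : ∃ l, c l = a
      · obtain ⟨l, rfl⟩ := ha
        congr 1
        rw [MonoidHom.one_apply]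
        show univChar K (M ⧸ N) (Multiplicative.ofAdd (QuotientAddGroup.mk' N (c l))) = 1
        rw [show QuotientAddGroup.mk' N (c l) = 0 from
          (QuotientAddGroup.eq_zero_iff _).2 (AddSubgroup.subset_closure ⟨l, rfl⟩), ofAdd_zero, map_one]
      · push Not at ha
        have : H * P a = 0 := by
          rw [hHP, show diagFam K c a = 0 from ?_, zero_mul]
          ext p q
          rcases eq_or_ne p q with rfl | hpq
          · simp [diagFam, ha p]
          · simp [diagFam, hpq]
        simp [this]
    rw [eq_top_iff]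
    intro a _
    have h2 := DFunLike.congr_fun hx (Multiplicative.ofAdd a)
    rw [hxy, C'.one, show (1 : Γ((D K (M ⧸ N)).left, ⊤)) = univChar K (M ⧸ N) (Multiplicative.ofAdd 0) from
      (map_one (univChar K (M ⧸ N))).symm] at h2
    exact (QuotientAddGroup.eq_zero_iff _).1 (Multiplicative.ofAdd.injective
      ((MonoidAlgebra.single_left_injective (one_ne_zero (α := K))) ((emb K (M ⧸ N)).injective h2))).symm
  let σ := Red.DS (Spec (CommRingCat.of k)) M
  let C := charsDS (Spec (CommRingCat.of k)) M
  obtain ⟨i, hi⟩ := Mt.surj (isUnit_expand (isSplit_diagFam (k := k) c) (C.ch (𝟙 σ)))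
  have hform : ∀ (T : Over (Spec (CommRingCat.of k))) (x : T ⟶ σ), Mt.mat (x ≫ i) = expand (C.ch x) (diagFam k c) := by
    intro T x
    rw [Mt.nat, hi]
    exact expand_comp x _ _ (fun a => by rw [← C.nat, Category.comp_id]) _
  have hmulσ : ∀ (T : Over (Spec (CommRingCat.of k))) (x y : T ⟶ σ), (x * y) ≫ i = (x ≫ i) * (y ≫ i) := by
    intro T x y
    apply Mt.inj
    rw [Mt.mul, hform, hform, hform, expand_mul_expand (isSplit_diagFam (k := k) c)]
    congr 1
    exact MonoidHom.ext fun a => C.mul x y a
  haveI himh : IsMonHom i := by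
    constructor
    · have h := hmulσ _ (1 : 𝟙_ _ ⟶ σ) 1
      rw [_root_.one_mul (1 : 𝟙_ _ ⟶ σ), left_eq_mul, Hom.one_def, Hom.one_def, toUnit_unique (toUnit _) (𝟙 _)] at h
      rw [Category.id_comp, Category.id_comp] at h
      exact h
    · have h := hmulσ _ (fst σ σ) (snd σ σ)
      rw [Hom.mul_def, Hom.mul_def, lift_fst_snd, Category.id_comp] at h
      rw [h, ← lift_fst_comp_snd_comp]
  refine ⟨σ, inferInstance, i, himh, ?_, ⟨Iso.refl _⟩, ?_⟩
  · obtain ⟨w, hw⟩ := exists_uni C
    obtain ⟨t, ht, ht'⟩ := exists_factor C hw (𝟙 σ)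
    have hwt : w ≫ t = 𝟙 _ := by
      apply (charsDiag k M).inj
      intro a
      rw [(charsDiag k M).nat]
      have e : (charsDiag k M).ch t a = C.ch (𝟙 σ) a := by
        rw [ht', ← Category.comp_id t, (charsDiag k M).nat]
        rfl
      rw [e, ← C.nat, Category.comp_id, hw]
      show _ = ((Scheme.ΓSpecIso _).inv ≫ Scheme.Hom.appTop
          (𝟙 (Spec (CommRingCat.of (MonoidAlgebra k (Multiplicative M)))))).hom _
      rw [Scheme.Hom.id_appTop, Category.comp_id]
      rfl
    let Mw : Matrix (Fin m) (Fin m) (MonoidAlgebra k (Multiplicative M)) :=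
      (Mt.mat (w ≫ i)).map (emb k M).symm
    have hMw : IsUnit Mw := (Mt.isUnit _).map ((emb k M).symm.toRingHom.mapMatrix)
    obtain ⟨d, hd⟩ := ((Matrix.isUnit_iff_isUnit_det _).1 hMw).exists_right_inv
    let χ := CoordGrp.GLn.pt m k Mw d hd
    have hwi : w ≫ i = CoactBr.pt χ := by
      apply Mt.inj
      refine Matrix.ext fun p q => ?_
      show _ = ev (CoactBr.pt χ) (CoordGrp.GLn.X p q)
      rw [ev_pt, CoordGrp.GLn.pt_X]
      exact ((emb k M).apply_symm_apply _).symm
    have hsurj : Function.Surjective χ := by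
      refine surjective_of_generate c hgen χ fun l => ⟨CoordGrp.GLn.X l l, ?_⟩
      show χ (CoordGrp.GLn.X l l) = _
      rw [CoordGrp.GLn.pt_X]
      show (emb k M).symm (Mt.mat (w ≫ i) l l) = _
      rw [hform, hw, RingEquiv.symm_apply_eq]
      simp only [expand, Matrix.sum_apply, Matrix.smul_apply, Matrix.map_apply, smul_eq_mul]
      rw [Finset.sum_eq_single (c l)]
      · simp [diagFam, univChar]
      · intro b _ hb
        simp [diagFam, Ne.symm hb]
      · simp
    haveI hci : IsClosedImmersion (CoactBr.pt χ).left :=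
      IsClosedImmersion.spec_of_surjective (CommRingCat.ofHom χ.toRingHom) hsurj
    haveI : IsIso t := ⟨w, ht, hwt⟩
    haveI : IsIso t.left := inferInstanceAs (IsIso ((Over.forget _).map t))
    rw [show i = t ≫ CoactBr.pt χ by rw [← hwi, ← Category.assoc, ht, Category.id_comp], Over.comp_left]
    infer_instance
  · obtain ⟨g, hg⟩ := exists_point MK hH
    let CK := C.baseChange (ext' (k := k) K) σ
    obtain ⟨f, hf⟩ := CK.surj (C'.ch (𝟙 σ'))
    obtain ⟨f', hf'⟩ := C'.surj (CK.ch (𝟙 _))
    refine ⟨g, ⟨f, f', C'.inj fun a => ?_, CK.inj fun a => ?_⟩, ?_⟩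
    · rw [C'.nat, hf', ← CK.nat, Category.comp_id, hf]
    · rw [CK.nat, hf, ← C'.nat, Category.comp_id, hf']
    apply MK.inj
    apply (isUnit_map (T := σ') hH).mul_right_cancel
    have h := mat_conjBy MK i' hg (𝟙 σ')
    rw [Category.id_comp, hP] at h
    rw [h, mat_baseChange K C Mt i hform, hf, mul_expand, expand_mul_right]
    simp only [hdiag]
    exact congrArg _ (funext hHP)

/-- Let `k` be a field with an algebraic closure `K`, `m ≥ 0`, `n > 0`, and let `σ'` be a closed
subgroup scheme of the base change of `GL_{m,k}` to `K` which is isomorphic as a `K`-group scheme to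
`μ_n = D(ℤ/n)`. Then there are a closed subgroup scheme `σ` of `GL_{m,k}` isomorphic to `μ_n` over
`k`, a `K`-point `g` of `GL_m` and an isomorphism `σ' ≅ σ_K` through which conjugation by `g`
carries the inclusion of `σ'` to the base change of the inclusion of `σ`. (This is the second
rationality condition, stated for all dual cyclic subgroups rather than only for those with a fixed
point on a given algebraic space, which is what the printed argument establishes and which gives the
printed statement for every action of `GL_m`.) -/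
theorem result (k : Type u) [Field k]
    (K : Type u) [Field K] [Algebra k K] [IsAlgClosure k K] (m n : ℕ) (hn : 0 < n)
    (σ' : Over (Spec (CommRingCat.of K))) [GrpObj σ']
    (i' : σ' ⟶ Red.bc (Spec.map (CommRingCat.ofHom (algebraMap k K))) (CoactBr.sp k (CoordGrp.GLn m k)))
    [IsMonHom i'] (hi' : IsClosedImmersion i'.left) (hσ' : Red.IsSplitTorusWith (ZMod n) σ') :
    ∃ (σ : Over (Spec (CommRingCat.of k))) (_ : GrpObj σ) (i : σ ⟶ CoactBr.sp k (CoordGrp.GLn m k))
      (_ : IsMonHom i), IsClosedImmersion i.left ∧ Red.IsSplitTorusWith (ZMod n) σ ∧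
      ∃ (g : 𝟙_ (Over (Spec (CommRingCat.of K))) ⟶
          Red.bc (Spec.map (CommRingCat.ofHom (algebraMap k K))) (CoactBr.sp k (CoordGrp.GLn m k)))
        (φ : σ' ≅ Red.bc (Spec.map (CommRingCat.ofHom (algebraMap k K))) σ),
        AGF.conjBy g i' = φ.hom ≫ (Over.pullback (Spec.map (CommRingCat.ofHom (algebraMap k K)))).map i := by
  haveI : NeZero n := ⟨hn.ne'⟩
  obtain ⟨C'⟩ := nonempty_chars hσ'
  haveI : Mono i'.left := inferInstance
  haveI : Mono i' := Over.mono_of_mono_left i'
  exact core k K m (ZMod n) σ' C' i'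

end Groth.Agent.S19281
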