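import Groth.Statements.S19284
import Groth.Agent.Lib.NormValH28.Decomp
open scoped Pointwise

set_option autoImplicit false
universe u
open NumberField

namespace Groth.Agent.S19284

/-- Let L/K be a finite extension of number fields and Ω an algebraic closure of K. Suppose that L/K is
almost abelian in the non-abelian way: for some prime number p there is a bijection between the set
of K-embeddings L → Ω and Z/p under which every K-automorphism of Ω acts by an affine transformation
x ↦ a x + b with a ≠ 0, and L/K is not an abelian extension (it is not Galois with commutative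
automorphism group). Then there is an intermediate extension K ⊂ E ⊂ Ω contained in the normal
closure of L, Galois over K with nontrivial cyclic group, such that for every finite place w of K
which is unramified in L (every prime of the integers of L above w has ramification index 1), either
E admits a K-algebra embedding into the completion K_w (since E/K is Galois: w splits completely in
E) or L admits a K-algebra embedding into K_w (L has a place of degree 1 over w). (Only finite
places are treated here.) -/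
theorem result (K L Ω : Type u) [Field K] [NumberField K]
    [Field L] [NumberField L] [Algebra K L] [Field Ω] [Algebra K Ω] [IsAlgClosure K Ω]
    (p : ℕ) (hp : p.Prime) (e : (L →ₐ[K] Ω) ≃ ZMod p)
    (haff : ∀ σ : Ω ≃ₐ[K] Ω, ∃ a b : ZMod p, a ≠ 0 ∧
      ∀ φ : L →ₐ[K] Ω, e (σ.toAlgHom.comp φ) = a * e φ + b)
    (hnab : IsGalois K L → ∃ σ τ : L ≃ₐ[K] L, σ * τ ≠ τ * σ) :
    ∃ E : IntermediateField K Ω, E ≤ IntermediateField.normalClosure K L Ω ∧
      FiniteDimensional K E ∧ IsGalois K E ∧ IsCyclic (E ≃ₐ[K] E) ∧ 1 < Module.finrank K E ∧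
      ∀ w : IsDedekindDomain.HeightOneSpectrum (NumberField.RingOfIntegers K),
        (∀ P : Ideal (NumberField.RingOfIntegers L), P.IsPrime → P.LiesOver w.asIdeal →
          P.ramificationIdx (NumberField.RingOfIntegers K) = 1) →
        Nonempty (E →ₐ[K] w.adicCompletion K) ∨ Nonempty (L →ₐ[K] w.adicCompletion K) := by
  classical

  haveI := Fact.mk hp
  haveI : IsAlgClosed Ω := IsAlgClosure.isAlgClosed K
  haveI : Algebra.IsAlgebraic K Ω := IsAlgClosure.isAlgebraic
  haveI : FiniteDimensional K L := Module.Finite.of_restrictScalars_finite ℚ K L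
  haveI : CharZero Ω := charZero_of_injective_algebraMap (algebraMap K Ω).injective
  haveI : Normal K Ω := IsAlgClosure.normal K Ω
  let M := IntermediateField.normalClosure K L Ω
  haveI : NumberField M := NumberField.of_module_finite K M
  haveI : IsGalois K M := ⟨⟩
  -- embeddings into `M`
  let down : (L →ₐ[K] Ω) → (L →ₐ[K] M) := fun φ => φ.codRestrict M.toSubalgebra fun x => φ.fieldRange_le_normalClosure ⟨x, rfl⟩
  have hval : ∀ φ, M.val.comp (down φ) = φ := fun φ => AlgHom.ext fun x => rfl
  let E' : (L →ₐ[K] M) → ZMod p := fun ψ => e (M.val.comp ψ)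
  have hE'inj : Function.Injective E' := fun ψ₁ ψ₂ h => AlgHom.ext fun x =>
    Subtype.ext (DFunLike.congr_fun (e.injective h) x)
  have hE'surj : Function.Surjective E' := fun z => ⟨down (e.symm z), by simp [E', hval]⟩
  have hG : ∀ σ : M ≃ₐ[K] M, ∃ a b : ZMod p, a ≠ 0 ∧
      ∀ ψ : L →ₐ[K] M, E' (σ.toAlgHom.comp ψ) = a * E' ψ + b := by
    intro σ
    obtain ⟨a, b, ha, hab⟩ := haff (σ.liftNormal Ω)
    refine ⟨a, b, ha, fun ψ => ?_⟩
    show e (M.val.comp (σ.toAlgHom.comp ψ)) = a * e (M.val.comp ψ) + b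
    rw [← hab (M.val.comp ψ)]
    congr 1
    exact AlgHom.ext fun x => (σ.liftNormal_commutes Ω (ψ x)).symm
  choose A B hA hAB using hG
  have hext : ∀ σ : M ≃ₐ[K] M, (∀ ψ : L →ₐ[K] M, σ.toAlgHom.comp ψ = ψ) → σ = 1 := by
    intro σ hσ
    have hle : M ≤ IntermediateField.lift (IntermediateField.fixedField (Subgroup.zpowers σ)) := by
      refine iSup_le fun φ => ?_
      rintro _ ⟨x, rfl⟩
      refine (IntermediateField.mem_lift (down φ x)).2 ?_
      rw [IntermediateField.mem_fixedField_iff]
      intro g hg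
      have h1 : σ ∈ MulAction.stabilizer (M ≃ₐ[K] M) (down φ x) := DFunLike.congr_fun (hσ (down φ)) x
      exact (Subgroup.zpowers_le.2 h1) hg
    refine AlgEquiv.ext fun y => ?_
    exact (IntermediateField.mem_fixedField_iff _ _).1 ((IntermediateField.mem_lift y).1 (hle y.2)) σ
      (Subgroup.mem_zpowers σ)
  have hAmul : ∀ σ τ, A (σ * τ) = A σ * A τ ∧ B (σ * τ) = A σ * B τ + B σ := by
    intro σ τ
    have h : ∀ z, A (σ * τ) * z + B (σ * τ) = A σ * (A τ * z + B τ) + B σ := by
      intro z
      obtain ⟨ψ, rfl⟩ := hE'surj z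
      rw [← hAB, ← hAB, ← hAB]
      rfl
    have h0 := h 0
    have h1 := h 1
    simp only [mul_zero, zero_add, mul_one] at h0 h1
    exact ⟨by linear_combination h1 - h0, h0⟩
  have hA1 : A 1 = 1 := by
    have := (hAmul 1 1).1
    rw [one_mul] at this
    exact mul_left_cancel₀ (hA 1) (this.symm.trans (mul_one _).symm)
  let χ : (M ≃ₐ[K] M) →* (ZMod p)ˣ :=
    { toFun := fun σ => Units.mk0 (A σ) (hA σ)
      map_one' := Units.ext hA1
      map_mul' := fun σ τ => Units.ext (hAmul σ τ).1 }
  have hfix : ∀ (σ : M ≃ₐ[K] M) (ψ : L →ₐ[K] M), A σ * E' ψ + B σ = E' ψ → σ.toAlgHom.comp ψ = ψ :=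
    fun σ ψ h => hE'inj ((hAB σ ψ).trans h)
  have hne : χ.ker ≠ ⊤ := by
    intro htop
    have hA' : ∀ σ, A σ = 1 := fun σ =>
      congrArg Units.val (MonoidHom.mem_ker.1 (htop ▸ Subgroup.mem_top σ) : χ σ = 1)
    obtain ⟨ψ, -⟩ := hE'surj 0
    have hrange : ψ.fieldRange = ⊤ := by
      rw [← IsGalois.fixedField_fixingSubgroup ψ.fieldRange]
      refine eq_top_iff.2 fun y _ => (IntermediateField.mem_fixedField_iff _ _).2 fun g hg => ?_
      have hg' : g.toAlgHom.comp ψ = ψ := AlgHom.ext fun x =>
        (IntermediateField.mem_fixingSubgroup_iff _ g).1 hg _ ⟨x, rfl⟩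
      have hB : B g = 0 := by
        have := hAB g ψ
        rw [hg', hA', one_mul] at this
        exact left_eq_add.1 this
      rw [hext g fun ψ' => hfix g ψ' (by rw [hA', hB, one_mul, add_zero])]
      rfl
    let i : L ≃ₐ[K] M := AlgEquiv.ofBijective ψ ⟨ψ.injective, fun y => (hrange ▸ IntermediateField.mem_top : y ∈ ψ.fieldRange)⟩
    haveI : IsGalois K L := IsGalois.of_algEquiv i.symm
    obtain ⟨σ, τ, hστ⟩ := hnab inferInstance
    apply hστ
    have hcomm : ∀ g g' : M ≃ₐ[K] M, g * g' = g' * g := fun g g' => by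
      have h : (g' * g)⁻¹ * (g * g') = 1 := hext _ fun ψ' => hfix _ ψ' (by
        have h1 := (hAmul (g' * g)⁻¹ (g * g')).2
        have h2 := (hAmul g g').2
        have h3 := (hAmul g' g).2
        have h4 := (hAmul (g' * g)⁻¹ (g' * g)).2
        have h5 : B 1 = 0 := by
          have := (hAmul 1 1).2
          simpa [hA'] using this
        simp only [inv_mul_cancel, hA', one_mul, h5] at h1 h2 h3 h4 ⊢
        linear_combination h1 + h2 - h3 - h4)
      exact (inv_mul_eq_one.1 h).symm
    exact i.autCongr.injective (by rw [map_mul, map_mul]; exact hcomm _ _)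
  let H := χ.ker
  haveI : IsCyclic ((M ≃ₐ[K] M) ⧸ H) := isCyclic_of_injective (QuotientGroup.kerLift χ) (QuotientGroup.kerLift_injective χ)
  let F := IntermediateField.fixedField H
  haveI : IsGalois K F := IsGalois.of_fixedField_normal_subgroup H
  let iF := IntermediateField.liftAlgEquiv F
  refine ⟨IntermediateField.lift F, IntermediateField.lift_le F, iF.toLinearEquiv.finiteDimensional,
    IsGalois.of_algEquiv iF, ?_, ?_, fun w hw => ?_⟩
  · haveI : IsCyclic (F ≃ₐ[K] F) :=
      isCyclic_of_surjective (IsGalois.normalAutEquivQuotient H).toMonoidHom (IsGalois.normalAutEquivQuotient H).surjective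
    exact isCyclic_of_surjective iF.autCongr.toMonoidHom iF.autCongr.surjective
  · rw [← iF.toLinearEquiv.finrank_eq]
    by_contra hle
    have h1 : Module.finrank K F = 1 := le_antisymm (not_lt.1 hle) Module.finrank_pos
    refine hne ?_
    show H = ⊤
    have h1' : IntermediateField.fixedField H = ⊥ := IntermediateField.finrank_eq_one_iff.1 h1
    rw [← IntermediateField.fixingSubgroup_fixedField H, h1']
    exact IntermediateField.fixingSubgroup_bot
  · obtain ⟨P, hP, hPw⟩ := Ideal.exists_maximal_ideal_liesOver_of_isIntegral (S := NumberField.RingOfIntegers M) w.asIdeal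
    letI : Field (NumberField.RingOfIntegers K ⧸ w.asIdeal) := Ideal.Quotient.field _
    letI : Field (NumberField.RingOfIntegers M ⧸ P) := Ideal.Quotient.field _
    haveI : Finite (NumberField.RingOfIntegers K ⧸ w.asIdeal) := Ideal.finiteQuotientOfFreeOfNeBot _ w.ne_bot
    haveI : Finite (NumberField.RingOfIntegers M ⧸ P) :=
      Ideal.finiteQuotientOfFreeOfNeBot _ (Ideal.ne_bot_of_liesOver_of_ne_bot w.ne_bot P)
    let S := MulAction.stabilizer (M ≃ₐ[K] M) P
    let Θ := Ideal.Quotient.stabilizerHom P w.asIdeal (M ≃ₐ[K] M)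
    have hΘ : Function.Injective Θ := by
      refine (injective_iff_map_eq_one Θ).2 fun τ hτ => Subtype.ext (hext _ fun ψ => ?_)
      have hcongr : ∀ y : NumberField.RingOfIntegers M, (τ : M ≃ₐ[K] M) • y - y ∈ P := fun y => by
        have h := DFunLike.congr_fun hτ (Ideal.Quotient.mk P y)
        exact Ideal.Quotient.eq.1 h
      refine NormValH28.embedding_ext _ ψ P ?_ fun x => ?_
      · haveI : P.IsPrime := hP.isPrime
        refine hw _ (Ideal.IsPrime.comap _) ⟨?_⟩
        refine hPw.over.trans (SetLike.ext fun r => ?_)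
        show algebraMap (NumberField.RingOfIntegers K) (NumberField.RingOfIntegers M) r ∈ P ↔
          NormValH28.intHom _ (algebraMap (NumberField.RingOfIntegers K) (NumberField.RingOfIntegers L) r) ∈ P
        rw [AlgHom.commutes]
      · exact hcongr (NormValH28.intHom ψ x)
    haveI : IsCyclic S := isCyclic_of_injective Θ hΘ
    obtain ⟨σ, hσ⟩ := IsCyclic.exists_generator (α := S)
    by_cases hA' : A σ = 1
    · left
      have hS : ∀ τ : M ≃ₐ[K] M, τ • P = P → ∀ x ∈ F, τ x = x := by
        intro τ hτ x hx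
        obtain ⟨m, hm⟩ := hσ ⟨τ, MulAction.mem_stabilizer_iff.2 hτ⟩
        have hmem : τ ∈ H := by
          rw [show τ = (σ : M ≃ₐ[K] M) ^ m from (congrArg Subtype.val hm).symm]
          exact zpow_mem (MonoidHom.mem_ker.2 (Units.ext hA')) m
        exact (IntermediateField.mem_fixedField_iff _ _).1 hx τ hmem
      obtain ⟨f⟩ := NormValH28.exists_hom_of_decomp w P F hS
      exact ⟨f.comp iF.symm.toAlgHom⟩
    · right
      obtain ⟨ψ, hψ⟩ := hE'surj (B σ / (1 - A σ))
      have hne' : (1 : ZMod p) - A σ ≠ 0 := sub_ne_zero.2 (Ne.symm hA')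
      have hfixσ : (σ : M ≃ₐ[K] M).toAlgHom.comp ψ = ψ := hfix _ ψ (by rw [hψ]; field_simp; ring)
      have hS : ∀ τ : M ≃ₐ[K] M, τ • P = P → ∀ x ∈ ψ.fieldRange, τ x = x := by
        rintro τ hτ _ ⟨x, rfl⟩
        obtain ⟨m, hm⟩ := hσ ⟨τ, MulAction.mem_stabilizer_iff.2 hτ⟩
        rw [show τ = (σ : M ≃ₐ[K] M) ^ m from (congrArg Subtype.val hm).symm]
        have h1 : (σ : M ≃ₐ[K] M) ∈ MulAction.stabilizer (M ≃ₐ[K] M) (ψ x) := DFunLike.congr_fun hfixσ x
        exact zpow_mem h1 m
      obtain ⟨f⟩ := NormValH28.exists_hom_of_decomp w P ψ.fieldRange hS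
      exact ⟨f.comp (AlgEquiv.ofInjectiveField ψ).toAlgHom⟩

end Groth.Agent.S19284
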