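import Groth.Statements.S19285
import Groth.Agent.Lib.NormValH28.Degree2

set_option autoImplicit false
universe u
open scoped TensorProduct
open NumberField

namespace Groth.Agent.S19285

theorem triv_ram {k : Type u} [Field k] [NumberField k] (Q : Ideal (NumberField.RingOfIntegers k))
    (hQ : Q.IsPrime) : Q.ramificationIdx (NumberField.RingOfIntegers k) = 1 :=
  Ideal.ramificationIdx_eq_one Q _

/-- A conjectured statement on locally split values of the polynomials t − a_i holds unconditionally
when the degrees [k_i : k] sum to at most 2. Precisely: let k be a number field, n ≥ 1, and for each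
i let k_i = k(a_i) be a finite extension generated by a_i, the minimal polynomials of the a_i over k
being pairwise distinct and the degrees [k_i : k] summing to at most 2; let L_i/k_i be finite
extensions and b_i ∈ k_i nonzero. Let S_f, S_∞ be finite sets of finite and infinite places of k
such that S_∞ contains every real place and S_f contains every finite place of k below a finite
place of some k_i at which b_i is not a unit or below a prime of some L_i ramified over k_i. For v ∈
S_f ∪ S_∞ let t_v ∈ k_v, with an open neighbourhood U_v, be such that for every i the element b_i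
(t_v − a_i) of k_v ⊗_k k_i is the norm of a unit of the (k_v ⊗_k k_i)-algebra k_v ⊗_k L_i. Then
there is t_0 ∈ k whose image lies in U_v for all v ∈ S_f ∪ S_∞ and such that for every i and every
finite place w of k_i at which t_0 − a_i has positive valuation, either w lies above a place of S_f
or L_i admits a k_i-algebra embedding into the completion (k_i)_w (a place of L_i of degree 1 over
w). -/
theorem result (k : Type u) [Field k] [NumberField k]
    (n : ℕ) (hn : 1 ≤ n)
    (kf : Fin n → Type u) [∀ i, Field (kf i)] [∀ i, NumberField (kf i)] [∀ i, Algebra k (kf i)]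
    (Lf : Fin n → Type u) [∀ i, Field (Lf i)] [∀ i, NumberField (Lf i)] [∀ i, Algebra (kf i) (Lf i)]
    [∀ i, Algebra k (Lf i)] [∀ i, IsScalarTower k (kf i) (Lf i)]
    (a : (i : Fin n) → kf i) (ha : ∀ i, IntermediateField.adjoin k {a i} = ⊤)
    (hdist : ∀ i j, i ≠ j → minpoly k (a i) ≠ minpoly k (a j))
    (hdeg : ∑ i, Module.finrank k (kf i) ≤ 2)
    (b : (i : Fin n) → kf i) (hb : ∀ i, b i ≠ 0)
    (Sf : Finset (IsDedekindDomain.HeightOneSpectrum (NumberField.RingOfIntegers k)))
    (Si : Finset (NumberField.InfinitePlace k))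
    (hSreal : ∀ w : NumberField.InfinitePlace k, w.IsReal → w ∈ Si)
    (hSb : ∀ i, ∀ W : IsDedekindDomain.HeightOneSpectrum (NumberField.RingOfIntegers (kf i)),
      W.valuation (kf i) (b i) ≠ 1 → ∃ v ∈ Sf, W.asIdeal.LiesOver v.asIdeal)
    (hSram : ∀ i, ∀ Q : Ideal (NumberField.RingOfIntegers (Lf i)), Q.IsPrime → Q ≠ ⊥ →
      Q.ramificationIdx (NumberField.RingOfIntegers (kf i)) ≠ 1 → ∃ v ∈ Sf, Q.LiesOver v.asIdeal)
    (tf : (v : IsDedekindDomain.HeightOneSpectrum (NumberField.RingOfIntegers k)) → v.adicCompletion k)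
    (ti : (w : NumberField.InfinitePlace k) → w.Completion)
    (htf : ∀ i, ∀ v ∈ Sf,
      letI := (Algebra.TensorProduct.map (AlgHom.id k (v.adicCompletion k))
        (IsScalarTower.toAlgHom k (kf i) (Lf i))).toRingHom.toAlgebra
      ∃ x : (v.adicCompletion k) ⊗[k] Lf i, IsUnit x ∧
        Algebra.norm ((v.adicCompletion k) ⊗[k] kf i) x =
          (1 : v.adicCompletion k) ⊗ₜ[k] b i * (tf v ⊗ₜ[k] (1 : kf i) - (1 : v.adicCompletion k) ⊗ₜ[k] a i))
    (hti : ∀ i, ∀ w ∈ Si,
      letI := (Algebra.TensorProduct.map (AlgHom.id k w.Completion)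
        (IsScalarTower.toAlgHom k (kf i) (Lf i))).toRingHom.toAlgebra
      ∃ x : w.Completion ⊗[k] Lf i, IsUnit x ∧
        Algebra.norm (w.Completion ⊗[k] kf i) x =
          (1 : w.Completion) ⊗ₜ[k] b i * (ti w ⊗ₜ[k] (1 : kf i) - (1 : w.Completion) ⊗ₜ[k] a i))
    (Uf : (v : IsDedekindDomain.HeightOneSpectrum (NumberField.RingOfIntegers k)) → Set (v.adicCompletion k))
    (hUf : ∀ v ∈ Sf, IsOpen (Uf v) ∧ tf v ∈ Uf v)
    (Ui : (w : NumberField.InfinitePlace k) → Set w.Completion)
    (hUi : ∀ w ∈ Si, IsOpen (Ui w) ∧ ti w ∈ Ui w) :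
    ∃ t₀ : k, (∀ v ∈ Sf, algebraMap k (v.adicCompletion k) t₀ ∈ Uf v) ∧
      (∀ w ∈ Si, algebraMap k w.Completion t₀ ∈ Ui w) ∧
      ∀ i, ∀ W : IsDedekindDomain.HeightOneSpectrum (NumberField.RingOfIntegers (kf i)),
        W.valuation (kf i) (algebraMap k (kf i) t₀ - a i) < 1 →
          (∃ v ∈ Sf, W.asIdeal.LiesOver v.asIdeal) ∨ Nonempty (Lf i →ₐ[kf i] W.adicCompletion (kf i)) := by
  classical
  by_cases h2 : ∑ i, Module.finrank k (kf i) = 2
  · exact NormValH28.exists_split_value a ha hdist h2 b hb Sf Si hSb hSram tf ti htf hti Uf hUf Ui hUi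
  have h1 : ∑ i, Module.finrank k (kf i) = 1 := by
    have : (1 : ℕ) ≤ ∑ i, Module.finrank k (kf i) :=
      le_trans (Module.finrank_pos (R := k) (M := kf ⟨0, hn⟩))
        (Finset.single_le_sum (f := fun i => Module.finrank k (kf i)) (fun i _ => Nat.zero_le _) (Finset.mem_univ _))
    omega
  -- exclude finitely many values for the extra point
  obtain ⟨c, hc⟩ : ∃ c : k, c ∉ ((⋃ v ∈ Sf, algebraMap k (v.adicCompletion k) ⁻¹' {tf v}) ∪
      (⋃ w ∈ Si, algebraMap k w.Completion ⁻¹' {ti w}) ∪
      ⋃ i, {r : k | minpoly k r = minpoly k (a i)}) := by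
    refine Set.Finite.exists_notMem (Set.Finite.union (Set.Finite.union ?_ ?_) ?_)
    · exact Sf.finite_toSet.biUnion fun v _ => (Set.finite_singleton _).preimage (algebraMap k (v.adicCompletion k)).injective.injOn
    · exact Si.finite_toSet.biUnion fun w _ => (Set.finite_singleton _).preimage (algebraMap k w.Completion).injective.injOn
    · refine Set.finite_iUnion fun i => Set.Subsingleton.finite fun r hr r' hr' => ?_
      have := (show minpoly k r = minpoly k (a i) from hr).trans (show minpoly k r' = minpoly k (a i) from hr').symm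
      rw [minpoly.eq_X_sub_C', minpoly.eq_X_sub_C'] at this
      simpa using this
  simp only [Set.mem_union, Set.mem_iUnion, Set.mem_preimage, Set.mem_singleton_iff, Set.mem_ofPred_eq, not_or,
    not_exists] at hc
  obtain ⟨⟨hcf, hci⟩, hcm⟩ := hc
  let kf' : Fin (n + 1) → Type u := Fin.cons k kf
  let Lf' : Fin (n + 1) → Type u := Fin.cons k Lf
  letI : ∀ i, Field (kf' i) := Fin.cases ((inferInstance : Field k)) (fun i => (inferInstance : Field (kf i)))
  haveI : ∀ i, NumberField (kf' i) := Fin.cases ((inferInstance : NumberField k)) (fun i => (inferInstance : NumberField (kf i)))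
  letI : ∀ i, Algebra k (kf' i) := Fin.cases ((inferInstance : Algebra k k)) (fun i => (inferInstance : Algebra k (kf i)))
  letI : ∀ i, Field (Lf' i) := Fin.cases ((inferInstance : Field k)) (fun i => (inferInstance : Field (Lf i)))
  haveI : ∀ i, NumberField (Lf' i) := Fin.cases ((inferInstance : NumberField k)) (fun i => (inferInstance : NumberField (Lf i)))
  letI : ∀ i, Algebra (kf' i) (Lf' i) := Fin.cases ((inferInstance : Algebra k k)) (fun i => (inferInstance : Algebra (kf i) (Lf i)))
  letI : ∀ i, Algebra k (Lf' i) := Fin.cases ((inferInstance : Algebra k k)) (fun i => (inferInstance : Algebra k (Lf i)))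
  haveI : ∀ i, IsScalarTower k (kf' i) (Lf' i) := Fin.cases ((inferInstance : IsScalarTower k k k)) (fun i => (inferInstance : IsScalarTower k (kf i) (Lf i)))
  let a' : (i : Fin (n + 1)) → kf' i := Fin.cases c a
  let b' : (i : Fin (n + 1)) → kf' i := Fin.cases (1 : k) b
  have hdeg' : ∑ i, Module.finrank k (kf' i) = 2 := by
    rw [Fin.sum_univ_succ]
    show Module.finrank k k + ∑ i : Fin n, Module.finrank k (kf i) = 2
    rw [Module.finrank_self, h1]
  have htriv : ∀ {F : Type u} [Field F] [Algebra k F] (z : F), z ≠ 0 →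
      letI := (Algebra.TensorProduct.map (AlgHom.id k F) (IsScalarTower.toAlgHom k k k)).toRingHom.toAlgebra
      ∃ x : F ⊗[k] k, IsUnit x ∧ Algebra.norm (F ⊗[k] k) x = z ⊗ₜ[k] (1 : k) := by
    intro F _ _ z hz
    letI := (Algebra.TensorProduct.map (AlgHom.id k F) (IsScalarTower.toAlgHom k k k)).toRingHom.toAlgebra
    have hid : ∀ x : F ⊗[k] k, (Algebra.TensorProduct.map (AlgHom.id k F) (IsScalarTower.toAlgHom k k k)) x = x := by
      intro x
      have : (IsScalarTower.toAlgHom k k k) = AlgHom.id k k := Subsingleton.elim _ _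
      rw [this, Algebra.TensorProduct.map_id, AlgHom.id_apply]
    refine ⟨z ⊗ₜ[k] (1 : k), IsUnit.map (Algebra.TensorProduct.includeLeft : F →ₐ[k] F ⊗[k] k) hz.isUnit, ?_⟩
    have aux : ∀ (inst : Algebra (F ⊗[k] k) (F ⊗[k] k)), inst = Algebra.id _ →
        ∀ x, @Algebra.norm _ (F ⊗[k] k) _ _ inst x = x := by
      rintro inst rfl x
      exact DFunLike.congr_fun (Algebra.norm_self _) x
    exact aux _ (Algebra.algebra_ext _ _ fun x => hid x) _
  obtain ⟨t₀, hf, hi, hW⟩ := NormValH28.exists_split_value (kf := kf') (Lf := Lf') a'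
    (Fin.cases (by show IntermediateField.adjoin k ({c} : Set k) = ⊤; exact Subsingleton.elim _ _) ha)
    (by
      refine fun i => Fin.cases (motive := fun i => ∀ j, i ≠ j → minpoly k (a' i) ≠ minpoly k (a' j))
        (fun j => Fin.cases (motive := fun j => 0 ≠ j → minpoly k (a' 0) ≠ minpoly k (a' j))
          (fun h => absurd rfl h) (fun j _ => hcm j) j)
        (fun i j => Fin.cases (motive := fun j => i.succ ≠ j → minpoly k (a' i.succ) ≠ minpoly k (a' j))
          (fun _ => Ne.symm (hcm i)) (fun j h => hdist i j fun e => h (congrArg Fin.succ e)) j) i)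
    hdeg' b' (Fin.cases (one_ne_zero (α := k)) hb) Sf Si
    (Fin.cases (fun W h => absurd (map_one _) h) hSb)
    (Fin.cases (fun Q hQ hQ0 h => absurd (triv_ram Q hQ) h) hSram)
    tf ti
    (Fin.cases (fun v hv => by
      obtain ⟨x, hx1, hx2⟩ := htriv (tf v - algebraMap k (v.adicCompletion k) c) (sub_ne_zero.2 (fun h => hcf v hv h.symm))
      refine ⟨x, hx1, hx2.trans ?_⟩
      show _ = (1 : v.adicCompletion k) ⊗ₜ[k] (1 : k) *
        (tf v ⊗ₜ[k] (1 : k) - (1 : v.adicCompletion k) ⊗ₜ[k] c)
      rw [← Algebra.TensorProduct.one_def, one_mul, TensorProduct.sub_tmul, Algebra.algebraMap_eq_smul_one,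
        TensorProduct.smul_tmul, smul_eq_mul, mul_one]) htf)
    (Fin.cases (fun w hw => by
      obtain ⟨x, hx1, hx2⟩ := htriv (ti w - algebraMap k w.Completion c) (sub_ne_zero.2 (fun h => hci w hw h.symm))
      refine ⟨x, hx1, hx2.trans ?_⟩
      show _ = (1 : w.Completion) ⊗ₜ[k] (1 : k) *
        (ti w ⊗ₜ[k] (1 : k) - (1 : w.Completion) ⊗ₜ[k] c)
      rw [← Algebra.TensorProduct.one_def, one_mul, TensorProduct.sub_tmul, Algebra.algebraMap_eq_smul_one,
        TensorProduct.smul_tmul, smul_eq_mul, mul_one]) hti)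
    Uf hUf Ui hUi
  exact ⟨t₀, hf, hi, fun i W h => hW i.succ W h⟩

end Groth.Agent.S19285
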