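import Groth.Statements.S19286
import Groth.Agent.Lib.NormValH28.Moebius

set_option autoImplicit false
universe u
open scoped TensorProduct
open NumberField

namespace Groth.Agent.S19286

/-- Invariance, under a linear change of coordinate on the projective line, of the hypotheses (the data
listed next) of a conjecture on locally split values. Data: k a number field, n ≥ 1, k_i = k(a_i)
with pairwise distinct minimal polynomials, L_i/k_i finite, b_i ∈ k_i nonzero, finite sets S_f ⊇
(finite places below a non-unit place of some b_i or a ramified prime of some L_i/k_i), S_∞ ⊇ real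
places, t_v ∈ k_v for v ∈ S_f ∪ S_∞ with b_i(t_v − a_i) the norm of a unit of k_v ⊗_k L_i over k_v
⊗_k k_i. Let α, β, γ, δ ∈ k with αδ − βγ ≠ 0 satisfy: (i) γa_i + δ ≠ 0 for all i and γt_v + δ ≠ 0
for v ∈ S_f ∪ S_∞; (ii) α is a unit at every finite place outside S_f and αa_i + β is a unit at
every finite place of k_i not above S_f; (iii) for every i and v ∈ S_f ∪ S_∞, (αδ − βγ)/(γt_v + δ)
is the norm of a unit of k_v ⊗_k L_i. Put a'_i = (αa_i + β)/(γa_i + δ), b'_i = b_i(γa_i + δ); let
S'_f ⊇ S_f be a finite set of finite places containing those where α or γ is not integral and those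
below a place of some k_i where a'_i is not integral or b'_i is not a unit; put t'_v = (αt_v +
β)/(γt_v + δ) for v ∈ S_f ∪ S_∞ and t'_v = 0 for v ∈ S'_f ∖ S_f; for t'_0 ∈ k with α ≠ γt'_0 write
t_0 = (δt'_0 − β)/(α − γt'_0). Then: (1) for every i and v ∈ S'_f ∪ S_∞, b'_i(t'_v − a'_i) is the
norm of a unit of k_v ⊗_k L_i over k_v ⊗_k k_i; (2) for v ∈ S_f ∪ S_∞ and every neighbourhood U of
t_v there is a neighbourhood U' of t'_v such that t'_0 ∈ U' forces t_0 ∈ U; (4) there are
neighbourhoods U'_v of 0 in k_v for v ∈ S'_f ∖ S_f such that whenever t'_0 ∈ U'_v for all such v,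
every finite place w of some k_i with w(t_0 − a_i) > 0 either lies above S_f, or does not lie above
S'_f and satisfies w(t'_0 − a'_i) > 0. (The published statement's S' may also contain further
infinite places, and it has a further conclusion on signs at real places; both are omitted here.) -/
theorem result (k : Type u) [Field k] [NumberField k]
    (n : ℕ) (hn : 1 ≤ n)
    (kf : Fin n → Type u) [∀ i, Field (kf i)] [∀ i, NumberField (kf i)] [∀ i, Algebra k (kf i)]
    (Lf : Fin n → Type u) [∀ i, Field (Lf i)] [∀ i, NumberField (Lf i)] [∀ i, Algebra (kf i) (Lf i)]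
    [∀ i, Algebra k (Lf i)] [∀ i, IsScalarTower k (kf i) (Lf i)]
    (a : (i : Fin n) → kf i) (ha : ∀ i, IntermediateField.adjoin k {a i} = ⊤)
    (hdist : ∀ i j, i ≠ j → minpoly k (a i) ≠ minpoly k (a j))
    (b : (i : Fin n) → kf i) (hb : ∀ i, b i ≠ 0)
    (Sf : Finset (IsDedekindDomain.HeightOneSpectrum (NumberField.RingOfIntegers k)))
    (Si : Finset (NumberField.InfinitePlace k))
    (hSreal : ∀ w : NumberField.InfinitePlace k, w.IsReal → w ∈ Si)
    (hSb : ∀ i, ∀ W : IsDedekindDomain.HeightOneSpectrum (NumberField.RingOfIntegers (kf i)),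
      W.valuation (kf i) (b i) ≠ 1 → ∃ v ∈ Sf, W.asIdeal.LiesOver v.asIdeal)
    (hSram : ∀ i, ∀ Q : Ideal (NumberField.RingOfIntegers (Lf i)), Q.IsPrime → Q ≠ ⊥ →
      Q.ramificationIdx (NumberField.RingOfIntegers (kf i)) ≠ 1 → ∃ v ∈ Sf, Q.LiesOver v.asIdeal)
    (tf : (v : IsDedekindDomain.HeightOneSpectrum (NumberField.RingOfIntegers k)) → v.adicCompletion k)
    (ti : (w : NumberField.InfinitePlace k) → w.Completion)
    (htf : ∀ i, ∀ v ∈ Sf,
      letI := (Algebra.TensorProduct.map (AlgHom.id k (v.adicCompletion k))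
        (IsScalarTower.toAlgHom k (kf i) (Lf i))).toRingHom.toAlgebra
      ∃ x : (v.adicCompletion k) ⊗[k] Lf i, IsUnit x ∧
        Algebra.norm ((v.adicCompletion k) ⊗[k] kf i) x =
          (1 : v.adicCompletion k) ⊗ₜ[k] b i * (tf v ⊗ₜ[k] (1 : kf i) - (1 : v.adicCompletion k) ⊗ₜ[k] a i))
    (hti : ∀ i, ∀ w ∈ Si,
      letI := (Algebra.TensorProduct.map (AlgHom.id k w.Completion)
        (IsScalarTower.toAlgHom k (kf i) (Lf i))).toRingHom.toAlgebra
      ∃ x : w.Completion ⊗[k] Lf i, IsUnit x ∧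
        Algebra.norm (w.Completion ⊗[k] kf i) x =
          (1 : w.Completion) ⊗ₜ[k] b i * (ti w ⊗ₜ[k] (1 : kf i) - (1 : w.Completion) ⊗ₜ[k] a i))
    (α β γ δ : k) (hdet : α * δ - β * γ ≠ 0)
    (hia : ∀ i, algebraMap k (kf i) γ * a i + algebraMap k (kf i) δ ≠ 0)
    (hitf : ∀ v ∈ Sf, algebraMap k (v.adicCompletion k) γ * tf v + algebraMap k (v.adicCompletion k) δ ≠ 0)
    (hiti : ∀ w ∈ Si, algebraMap k w.Completion γ * ti w + algebraMap k w.Completion δ ≠ 0)
    (hiiα : ∀ v : IsDedekindDomain.HeightOneSpectrum (NumberField.RingOfIntegers k), v ∉ Sf → v.valuation k α = 1)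
    (hiia : ∀ i, ∀ W : IsDedekindDomain.HeightOneSpectrum (NumberField.RingOfIntegers (kf i)),
      (¬ ∃ v ∈ Sf, W.asIdeal.LiesOver v.asIdeal) →
        W.valuation (kf i) (algebraMap k (kf i) α * a i + algebraMap k (kf i) β) = 1)
    (hiiif : ∀ i, ∀ v ∈ Sf,
      letI := (Algebra.TensorProduct.map (AlgHom.id k (v.adicCompletion k))
        (IsScalarTower.toAlgHom k (kf i) (Lf i))).toRingHom.toAlgebra
      ∃ y : (v.adicCompletion k) ⊗[k] Lf i, IsUnit y ∧
        Algebra.norm ((v.adicCompletion k) ⊗[k] kf i) y =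
          (algebraMap k (v.adicCompletion k) (α * δ - β * γ) /
            (algebraMap k (v.adicCompletion k) γ * tf v + algebraMap k (v.adicCompletion k) δ)) ⊗ₜ[k] (1 : kf i))
    (hiiii : ∀ i, ∀ w ∈ Si,
      letI := (Algebra.TensorProduct.map (AlgHom.id k w.Completion)
        (IsScalarTower.toAlgHom k (kf i) (Lf i))).toRingHom.toAlgebra
      ∃ y : w.Completion ⊗[k] Lf i, IsUnit y ∧
        Algebra.norm (w.Completion ⊗[k] kf i) y =
          (algebraMap k w.Completion (α * δ - β * γ) /
            (algebraMap k w.Completion γ * ti w + algebraMap k w.Completion δ)) ⊗ₜ[k] (1 : kf i))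
    (a' b' : (i : Fin n) → kf i)
    (ha' : ∀ i, a' i = (algebraMap k (kf i) α * a i + algebraMap k (kf i) β) /
      (algebraMap k (kf i) γ * a i + algebraMap k (kf i) δ))
    (hb' : ∀ i, b' i = b i * (algebraMap k (kf i) γ * a i + algebraMap k (kf i) δ))
    (Sf' : Finset (IsDedekindDomain.HeightOneSpectrum (NumberField.RingOfIntegers k))) (hSS' : Sf ⊆ Sf')
    (hS'αγ : ∀ v : IsDedekindDomain.HeightOneSpectrum (NumberField.RingOfIntegers k), v ∉ Sf' →
      v.valuation k α ≤ 1 ∧ v.valuation k γ ≤ 1)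
    (hS'ab : ∀ i, ∀ W : IsDedekindDomain.HeightOneSpectrum (NumberField.RingOfIntegers (kf i)),
      (¬ ∃ v ∈ Sf', W.asIdeal.LiesOver v.asIdeal) → W.valuation (kf i) (a' i) ≤ 1 ∧ W.valuation (kf i) (b' i) = 1)
    (tf' : (v : IsDedekindDomain.HeightOneSpectrum (NumberField.RingOfIntegers k)) → v.adicCompletion k)
    (htf'S : ∀ v ∈ Sf, tf' v = (algebraMap k (v.adicCompletion k) α * tf v + algebraMap k (v.adicCompletion k) β) /
      (algebraMap k (v.adicCompletion k) γ * tf v + algebraMap k (v.adicCompletion k) δ))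
    (htf'S' : ∀ v ∈ Sf', v ∉ Sf → tf' v = 0)
    (ti' : (w : NumberField.InfinitePlace k) → w.Completion)
    (hti' : ∀ w ∈ Si, ti' w = (algebraMap k w.Completion α * ti w + algebraMap k w.Completion β) /
      (algebraMap k w.Completion γ * ti w + algebraMap k w.Completion δ)) :
    (∀ i, ∀ v ∈ Sf',
      letI := (Algebra.TensorProduct.map (AlgHom.id k (v.adicCompletion k))
        (IsScalarTower.toAlgHom k (kf i) (Lf i))).toRingHom.toAlgebra
      ∃ x : (v.adicCompletion k) ⊗[k] Lf i, IsUnit x ∧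
        Algebra.norm ((v.adicCompletion k) ⊗[k] kf i) x =
          (1 : v.adicCompletion k) ⊗ₜ[k] b' i * (tf' v ⊗ₜ[k] (1 : kf i) - (1 : v.adicCompletion k) ⊗ₜ[k] a' i)) ∧
    (∀ i, ∀ w ∈ Si,
      letI := (Algebra.TensorProduct.map (AlgHom.id k w.Completion)
        (IsScalarTower.toAlgHom k (kf i) (Lf i))).toRingHom.toAlgebra
      ∃ x : w.Completion ⊗[k] Lf i, IsUnit x ∧
        Algebra.norm (w.Completion ⊗[k] kf i) x =
          (1 : w.Completion) ⊗ₜ[k] b' i * (ti' w ⊗ₜ[k] (1 : kf i) - (1 : w.Completion) ⊗ₜ[k] a' i)) ∧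
    (∀ v ∈ Sf, ∀ U : Set (v.adicCompletion k), IsOpen U → tf v ∈ U →
      ∃ U' : Set (v.adicCompletion k), IsOpen U' ∧ tf' v ∈ U' ∧
        ∀ t₀' : k, α ≠ γ * t₀' → algebraMap k (v.adicCompletion k) t₀' ∈ U' →
          algebraMap k (v.adicCompletion k) ((δ * t₀' - β) / (α - γ * t₀')) ∈ U) ∧
    (∀ w ∈ Si, ∀ U : Set w.Completion, IsOpen U → ti w ∈ U →
      ∃ U' : Set w.Completion, IsOpen U' ∧ ti' w ∈ U' ∧
        ∀ t₀' : k, α ≠ γ * t₀' → algebraMap k w.Completion t₀' ∈ U' →
          algebraMap k w.Completion ((δ * t₀' - β) / (α - γ * t₀')) ∈ U) ∧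
    (∃ U' : (v : IsDedekindDomain.HeightOneSpectrum (NumberField.RingOfIntegers k)) → Set (v.adicCompletion k),
      (∀ v ∈ Sf', v ∉ Sf → IsOpen (U' v) ∧ (0 : v.adicCompletion k) ∈ U' v) ∧
      ∀ t₀' : k, α ≠ γ * t₀' → (∀ v ∈ Sf', v ∉ Sf → algebraMap k (v.adicCompletion k) t₀' ∈ U' v) →
        ∀ i, ∀ W : IsDedekindDomain.HeightOneSpectrum (NumberField.RingOfIntegers (kf i)),
          W.valuation (kf i) (algebraMap k (kf i) ((δ * t₀' - β) / (α - γ * t₀')) - a i) < 1 →
            (∃ v ∈ Sf, W.asIdeal.LiesOver v.asIdeal) ∨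
            ((¬ ∃ v ∈ Sf', W.asIdeal.LiesOver v.asIdeal) ∧
              W.valuation (kf i) (algebraMap k (kf i) t₀' - a' i) < 1)) := by
  classical
  refine ⟨fun i v hv => ?_, fun i w hw => NormValH28.moebius_norm α β γ δ (a i) (b i) (a' i) (b' i) (ti w) (ti' w)
    (hia i) (hiti w hw) (ha' i) (hb' i) (hti' w hw) (hti i w hw) (hiiii i w hw), fun v hv U hU htU => ?_,
    fun w hw U hU htU => NormValH28.moebius_nhds (algebraMap k w.Completion) α β γ δ hdet (ti w) (ti' w) (hiti w hw)
      (hti' w hw) U hU htU, ?_⟩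
  · by_cases hvS : v ∈ Sf
    · exact NormValH28.moebius_norm α β γ δ (a i) (b i) (a' i) (b' i) (tf v) (tf' v)
        (hia i) (hitf v hvS) (ha' i) (hb' i) (htf'S v hvS) (htf i v hvS) (hiiif i v hvS)
    · have hnot : ∀ W : IsDedekindDomain.HeightOneSpectrum (NumberField.RingOfIntegers (kf i)),
          W.under (NumberField.RingOfIntegers k) = v → ¬ ∃ v' ∈ Sf, W.asIdeal.LiesOver v'.asIdeal := by
        rintro W hW ⟨v', hv', hWv⟩
        exact hvS (hW ▸ NormValH28.eq_of_liesOver W v' hWv ▸ hv')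
      obtain ⟨x, hxu, hx⟩ := NormValH28.exists_norm_eq_unit (L := Lf i) v
        (fun Q hQ hQ0 hQv => by
          by_contra hne
          obtain ⟨v', hv', hQv'⟩ := hSram i Q hQ hQ0 hne
          have : v = v' := IsDedekindDomain.HeightOneSpectrum.ext (hQv.over.trans hQv'.over.symm)
          exact hvS (this ▸ hv'))
        (b i * -(algebraMap k (kf i) α * a i + algebraMap k (kf i) β)) (fun W hW => by
          have hb1 : W.valuation (kf i) (b i) = 1 := by
            by_contra hne
            exact hnot W hW (hSb i W hne)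
          rw [map_mul, Valuation.map_neg, hb1, hiia i W (hnot W hW), one_mul])
      refine ⟨x, hxu, hx.trans ?_⟩
      rw [htf'S' v hv hvS, TensorProduct.zero_tmul, zero_sub, mul_neg, mul_neg, Algebra.TensorProduct.tmul_mul_tmul,
        one_mul, TensorProduct.tmul_neg]
      congr 2
      rw [hb', ha', mul_assoc, mul_div_cancel₀ _ (hia i)]
  · exact NormValH28.moebius_nhds (algebraMap k (v.adicCompletion k)) α β γ δ hdet (tf v) (tf' v) (hitf v hv)
      (htf'S v hv) U hU htU
  · choose U' hU'o hU'0 hU' using fun (i : Fin n)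
      (v : IsDedekindDomain.HeightOneSpectrum (NumberField.RingOfIntegers k)) =>
        NormValH28.moebius_small v (algebraMap k (kf i) γ * a i + algebraMap k (kf i) δ) γ
    refine ⟨fun v => ⋂ i, U' i v, fun v _ _ => ⟨isOpen_iInter_of_finite fun i => hU'o i v,
      Set.mem_iInter.2 fun i => hU'0 i v⟩, fun t₀' hne ht i W hW => ?_⟩
    by_cases hS : ∃ v ∈ Sf, W.asIdeal.LiesOver v.asIdeal
    · exact Or.inl hS
    right
    have hden : algebraMap k (kf i) α - algebraMap k (kf i) γ * algebraMap k (kf i) t₀' ≠ 0 := by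
      rw [← map_mul, ← map_sub]; exact (map_ne_zero _).2 (sub_ne_zero.2 hne)
    have hid : algebraMap k (kf i) ((δ * t₀' - β) / (α - γ * t₀')) - a i =
        ((algebraMap k (kf i) γ * a i + algebraMap k (kf i) δ) * algebraMap k (kf i) t₀' -
          (algebraMap k (kf i) α * a i + algebraMap k (kf i) β)) /
        (algebraMap k (kf i) α - algebraMap k (kf i) γ * algebraMap k (kf i) t₀') := by
      rw [map_div₀, map_sub, map_sub, map_mul, map_mul, div_sub' hden]
      congr 1
      ring
    rw [hid, map_div₀] at hW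
    set v := W.under (NumberField.RingOfIntegers k) with hvdef
    have : W.asIdeal.LiesOver v.asIdeal := Ideal.over_under _
    have hvS : v ∉ Sf := fun h => hS ⟨v, h, inferInstance⟩
    have hWα : W.valuation (kf i) (algebraMap k (kf i) α) = 1 := by
      rw [← IsDedekindDomain.HeightOneSpectrum.valuation_liesOver (kf i) v W, hiiα v hvS, one_pow]
    by_cases hv' : v ∈ Sf'
    · exfalso
      obtain ⟨h1, h2⟩ := hU' i v t₀' (Set.mem_iInter.1 (ht v hv' hvS) i) W hvdef.symm
      have hnum : W.valuation (kf i) ((algebraMap k (kf i) γ * a i + algebraMap k (kf i) δ) * algebraMap k (kf i) t₀' -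
          (algebraMap k (kf i) α * a i + algebraMap k (kf i) β)) = 1 := by
        rw [Valuation.map_sub_eq_of_lt_right _ (by rw [hiia i W hS]; exact h1), hiia i W hS]
      have hd : W.valuation (kf i) (algebraMap k (kf i) α - algebraMap k (kf i) γ * algebraMap k (kf i) t₀') = 1 := by
        rw [Valuation.map_sub_eq_of_lt_left _ (by
          rw [hWα, ← map_mul, ← IsDedekindDomain.HeightOneSpectrum.valuation_liesOver (kf i) v W]
          exact pow_lt_one₀ zero_le h2 (Ideal.IsDedekindDomain.ramificationIdx'_ne_zero_of_liesOver _ v.ne_bot)), hWα]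
      rw [hnum, hd, div_one] at hW
      exact lt_irrefl _ hW
    have hnotS' : ¬ ∃ v' ∈ Sf', W.asIdeal.LiesOver v'.asIdeal := by
      rintro ⟨v', h', hWv⟩
      exact hv' (by rw [hvdef, NormValH28.eq_of_liesOver W v' hWv]; exact h')
    refine ⟨hnotS', ?_⟩
    obtain ⟨hA, hB⟩ := hS'ab i W hnotS'
    have hb1 : W.valuation (kf i) (b i) = 1 := by
      by_contra h
      exact hS (hSb i W h)
    have he : W.valuation (kf i) (algebraMap k (kf i) γ * a i + algebraMap k (kf i) δ) = 1 := by
      rw [hb', map_mul, hb1, one_mul] at hB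
      exact hB
    have hnum : (algebraMap k (kf i) γ * a i + algebraMap k (kf i) δ) * algebraMap k (kf i) t₀' -
        (algebraMap k (kf i) α * a i + algebraMap k (kf i) β) =
        (algebraMap k (kf i) γ * a i + algebraMap k (kf i) δ) * (algebraMap k (kf i) t₀' - a' i) := by
      rw [mul_sub, ha', mul_div_cancel₀ _ (hia i)]
    rw [hnum, map_mul, he, one_mul] at hW
    have hγ : W.valuation (kf i) (algebraMap k (kf i) γ) ≤ 1 := by
      rw [← IsDedekindDomain.HeightOneSpectrum.valuation_liesOver (kf i) v W]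
      exact pow_le_one₀ zero_le (hS'αγ v hv').2
    have hdpos : 0 < W.valuation (kf i) (algebraMap k (kf i) α - algebraMap k (kf i) γ * algebraMap k (kf i) t₀') :=
      zero_lt_iff.2 ((Valuation.ne_zero_iff _).2 hden)
    rw [div_lt_iff₀ hdpos, one_mul] at hW
    rcases le_or_gt (W.valuation (kf i) (algebraMap k (kf i) t₀')) 1 with ht1 | ht1
    · refine hW.trans_le ((Valuation.map_sub _ _ _).trans (max_le hWα.le ?_))
      rw [map_mul]
      exact mul_le_one' hγ ht1
    · exfalso
      refine absurd hW (not_lt.2 ?_)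
      rw [Valuation.map_sub_eq_of_lt_left _ (hA.trans_lt ht1)]
      refine (Valuation.map_sub _ _ _).trans (max_le (hWα.le.trans ht1.le) ?_)
      rw [map_mul]
      exact mul_le_of_le_one_left' hγ

end Groth.Agent.S19286
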