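import Groth.Statements.S19288


set_option autoImplicit false
universe u
open CategoryTheory CategoryTheory.Limits MonoidalCategory CartesianMonoidalCategory MonObj AlgebraicGeometry
open AbSch

namespace Groth.Agent.S19288

/-- Let S be a scheme, X a commutative S-group scheme which is etale and separated over S (hence locally
of finite presentation), and P a commutative S-group scheme of finite presentation over S all of
whose fibres are connected. Then every homomorphism of S-group schemes from P to X is trivial (it
factors through the unit section). -/
theorem result {S : Scheme.{u}} (P X : Over S)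
    [GrpObj P] [IsCommMonObj P] [GrpObj X] [IsCommMonObj X]
    [Etale X.hom] [IsSeparated X.hom]
    [QuasiCompact P.hom] [QuasiSeparated P.hom] [LocallyOfFinitePresentation P.hom]
    (hP : ∀ s : S, ConnectedSpace ↥(P.hom.fiber s))
    (f : P ⟶ X) [IsMonHom f] : f = 1 := by
  have hd : IsClosedImmersion (pullback.diagonal X.hom) := inferInstance
  have ho : IsOpenImmersion (pullback.diagonal X.hom) := inferInstance
  have hwf : f.left ≫ X.hom = (1 : P ⟶ X).left ≫ X.hom := by rw [Over.w, Over.w]
  let m : P.left ⟶ pullback X.hom X.hom := pullback.lift f.left (1 : P ⟶ X).left hwf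
  let q := pullback.fst m (pullback.diagonal X.hom)
  have hq1 : IsOpenImmersion q := inferInstance
  have hq2 : IsClosedImmersion q := inferInstance
  have hclopen : IsClopen (Set.range q.base) :=
    ⟨hq2.base_closed.isClosed_range, hq1.base_open.isOpen_range⟩
  have hη : (η[P]).left ≫ f.left = (η[X]).left := by
    rw [← Over.comp_left, IsMonHom.one_hom f]
  have hη1 : (η[P]).left ≫ (1 : P ⟶ X).left = (η[X]).left := by
    rw [← Over.comp_left, MonObj.comp_one, MonObj.one_eq_one]
  have hsurj : Function.Surjective q.base := by
    intro x
    have hs : ConnectedSpace ↥(P.hom.fiber (P.hom.base x)) := hP _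
    let s := P.hom.base x
    have hpre : IsClopen ((P.hom.fiberι s).base ⁻¹' Set.range q.base) :=
      ⟨hclopen.1.preimage (P.hom.fiberι s).continuous, hclopen.2.preimage (P.hom.fiberι s).continuous⟩
    -- the unit point of the fibre lies in the range of `q`
    have he : (η[P]).left.base s ∈ Set.range q.base := by
      let l : (𝟙_ (Over S)).left ⟶ pullback m (pullback.diagonal X.hom) :=
        pullback.lift (η[P]).left (η[X]).left (by
          apply pullback.hom_ext
          · simp only [m, Category.assoc, pullback.lift_fst, pullback.diagonal_fst, Category.comp_id]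
            exact hη
          · simp only [m, Category.assoc, pullback.lift_snd, pullback.diagonal_snd, Category.comp_id]
            exact hη1)
      refine ⟨l.base s, ?_⟩
      change (l ≫ q).base s = _
      rw [show l ≫ q = (η[P]).left from pullback.lift_fst _ _ _]
    have hη' : P.hom.base ((η[P]).left.base s) = s := by
      rw [← Scheme.Hom.comp_apply, Over.w]
      rfl
    have hne : ((P.hom.fiberι s).base ⁻¹' Set.range q.base).Nonempty := by
      have : (η[P]).left.base s ∈ Set.range (P.hom.fiberι s).base := by
        rw [Scheme.Hom.range_fiberι]; exact hη'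
      obtain ⟨y, hy⟩ := this
      exact ⟨y, by rw [Set.mem_preimage, hy]; exact he⟩
    have huniv := IsClopen.eq_univ hpre hne
    have hx : x ∈ Set.range (P.hom.fiberι s).base := by
      rw [Scheme.Hom.range_fiberι]; rfl
    obtain ⟨y, hy⟩ := hx
    have : y ∈ (P.hom.fiberι s).base ⁻¹' Set.range q.base := by rw [huniv]; trivial
    rw [Set.mem_preimage, hy] at this
    exact this
  have : Surjective q := ⟨hsurj⟩
  have : Epi q.base := (TopCat.epi_iff_surjective _).mpr hsurj
  have : IsIso q := IsOpenImmersion.isIso q
  ext1
  have hc := pullback.condition (f := m) (g := pullback.diagonal X.hom)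
  have h1 := congrArg (fun g => g ≫ pullback.fst X.hom X.hom) hc
  have h2 := congrArg (fun g => g ≫ pullback.snd X.hom X.hom) hc
  simp only [Category.assoc, pullback.diagonal_fst, pullback.diagonal_snd, Category.comp_id, m,
    pullback.lift_fst, pullback.lift_snd] at h1 h2
  exact (cancel_epi q).mp (h1.trans h2.symm)

end Groth.Agent.S19288
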