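import Groth.Statements.S19290
import Groth.Agent.Lib.TorusHom19.Basic

set_option autoImplicit false
universe u
open CategoryTheory CategoryTheory.Limits MonoidalCategory CartesianMonoidalCategory MonObj AlgebraicGeometry
open AbSch

namespace Groth.Agent.S19290

open DiagGL

set_option linter.style.haveILetI false
set_option backward.isDefEq.respectTransparency.types false

/-- Let S be a scheme, T an S-torus and A an abelian S-scheme (smooth, proper, with connected fibres).
Then the S-sheaf of homomorphisms from T to A is trivial: the internal Hom sheaf, on the big fppf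
site of S, from the abelian sheaf of points of T to that of A is the zero sheaf. -/
theorem result {S : Scheme.{u}} (T A : Over S)
    [GrpObj T] [IsCommMonObj T] (hT : Red.IsTorus T)
    [GrpObj A] [IsCommMonObj A] [Smooth A.hom] [IsProper A.hom]
    (hA : ∀ s : S, ConnectedSpace ↥(A.hom.fiber s)) :
    IsZero (HomSh.homSh (QuotSh.J Scheme.fppfPrecoverage S) (CGrpSh.pts Scheme.fppfPrecoverage T) (CGrpSh.pts Scheme.fppfPrecoverage A)) := by
  let J := QuotSh.J Scheme.fppfPrecoverage S
  let PT := CGrpSh.pts Scheme.fppfPrecoverage T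
  let PA := CGrpSh.pts Scheme.fppfPrecoverage A
  rw [IsZero.iff_id_eq_zero]
  refine Sheaf.hom_ext (NatTrans.ext (funext fun ⟨X⟩ => AddCommGrpCat.ext fun φ => ?_))
  change φ = 0
  let φ' : PT.over X ⟶ PA.over X := φ
  suffices hφ : φ' = 0 from hφ
  let ψ : ∀ U : Over X, (U.left ⟶ T) → (U.left ⟶ A) := fun U x =>
    (φ'.hom.app (Opposite.op U) ⟨Additive.ofMul x⟩).down.toMul
  have nat : ∀ {U U' : Over X} (h : U' ⟶ U) (x : U.left ⟶ T), ψ U' (h.left ≫ x) = h.left ≫ ψ U x := fun h x =>
    congrArg (fun z : PA.obj.obj (Opposite.op _) => z.down.toMul)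
      (ConcreteCategory.congr_hom (φ'.hom.naturality h.op) ⟨Additive.ofMul x⟩)
  have hmul : ∀ (U : Over X) (x y : U.left ⟶ T), ψ U (x * y) = ψ U x * ψ U y := fun U x y =>
    congrArg (fun z : PA.obj.obj (Opposite.op _) => z.down.toMul)
      ((φ'.hom.app (Opposite.op U)).hom.map_add ⟨Additive.ofMul x⟩ ⟨Additive.ofMul y⟩)
  let u : Over X.left → Over X := fun Z => Over.mk (Over.homMk Z.hom rfl : (Over.map X.hom).obj Z ⟶ X)
  obtain ⟨g, hg⟩ := fl_surjective X.hom A (ψ (u (Red.bc X.hom T)) (fl X.hom T (𝟙 (Red.bc X.hom T))))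
  have hpt : ∀ {Z : Over X.left} (y : Z ⟶ Red.bc X.hom T), fl X.hom A (y ≫ g) = ψ (u Z) (fl X.hom T y) := by
    intro Z y
    let h : u Z ⟶ u (Red.bc X.hom T) :=
      Over.homMk ((Over.map X.hom).map y) (Over.OverMorphism.ext (Over.w y))
    rw [fl_comp, hg]
    refine (nat h _).symm.trans (congrArg (ψ (u Z)) ?_)
    show (Over.map X.hom).map y ≫ fl X.hom T (𝟙 (Red.bc X.hom T)) = _
    rw [← fl_comp, Category.comp_id]
  haveI : IsMonHom g := TorsorSch25.isMonHom_of_points g fun Z x y => fl_injective X.hom A (by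
    rw [fl_mul, hpt, hpt, hpt, fl_mul, hmul])
  haveI : IsProper (Red.bc X.hom A).hom := inferInstanceAs (IsProper (pullback.snd A.hom X.hom))
  have hg1 : g = 1 := TorusHom19.eq_one_of_isProper (TorusHom19.isTorus_bc hT X.hom) g
  have hz : ∀ (U : Over X) (x : U.left ⟶ T), ψ U x = 1 := by
    intro U x
    let Z : Over X.left := Over.mk U.hom.left
    let i : U.left ≅ (Over.map X.hom).obj Z := Over.isoMk (Iso.refl _) ((Category.id_comp _).trans (Over.w U.hom))
    let h : U ⟶ u Z := Over.homMk i.hom (Over.OverMorphism.ext (Category.id_comp _))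
    obtain ⟨y, hy⟩ := fl_surjective X.hom T (i.inv ≫ x)
    have e := nat h (i.inv ≫ x)
    rw [show h.left ≫ i.inv ≫ x = x from i.hom_inv_id_assoc x, ← hy, ← hpt, hg1, MonObj.comp_one,
      MTRigid29.fl_one, MonObj.comp_one] at e
    exact e
  refine Sheaf.hom_ext (NatTrans.ext (funext fun ⟨U⟩ => AddCommGrpCat.ext fun x => ULift.ext _ _ ?_))
  obtain ⟨x⟩ := x
  exact congrArg Additive.ofMul (hz U x.toMul)

end Groth.Agent.S19290
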