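import Groth.Statements.S19291
import Groth.Agent.Lib.AbSchRigid22.Bilin

set_option autoImplicit false
universe u
open CategoryTheory CategoryTheory.Limits MonoidalCategory CartesianMonoidalCategory MonObj AlgebraicGeometry
open AbSch

namespace Groth.Agent.S19291

/-- Let S be a scheme and A, B, C three abelian S-schemes (smooth proper S-group schemes with connected
fibres). Then the group of homomorphisms from A to the S-sheaf of homomorphisms from B to C is
trivial: on the big fppf site of S, every morphism of abelian sheaves from the sheaf of points of A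
to the internal Hom sheaf of the sheaves of points of B and C is zero (equivalently, there is no
non-zero biadditive morphism from A × B to C). -/
theorem result {S : Scheme.{u}} (A B C : Over S)
    [GrpObj A] [IsCommMonObj A] [Smooth A.hom] [IsProper A.hom]
    (hA : ∀ s : S, ConnectedSpace ↥(A.hom.fiber s))
    [GrpObj B] [IsCommMonObj B] [Smooth B.hom] [IsProper B.hom]
    (hB : ∀ s : S, ConnectedSpace ↥(B.hom.fiber s))
    [GrpObj C] [IsCommMonObj C] [Smooth C.hom] [IsProper C.hom]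
    (hC : ∀ s : S, ConnectedSpace ↥(C.hom.fiber s))
    (φ : (CGrpSh.pts Scheme.fppfPrecoverage A) ⟶ HomSh.homSh (QuotSh.J Scheme.fppfPrecoverage S) (CGrpSh.pts Scheme.fppfPrecoverage B) (CGrpSh.pts Scheme.fppfPrecoverage C)) : φ = 0 := by

  let J := QuotSh.J Scheme.fppfPrecoverage S
  let PB := CGrpSh.pts Scheme.fppfPrecoverage B
  let PC := CGrpSh.pts Scheme.fppfPrecoverage C
  let Φ : ∀ (T : Over S), (CGrpSh.pts Scheme.fppfPrecoverage A).obj.obj (Opposite.op T) →+ (PB.over T ⟶ PC.over T) :=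
    fun T => (HomSh.sectEquiv J PB PC T).toAddMonoidHom.comp (φ.hom.app (Opposite.op T)).hom
  let ψ : ∀ (T : Over S) (a : T ⟶ A), PB.over T ⟶ PC.over T := fun T a => Φ T ⟨Additive.ofMul a⟩
  have ψres : ∀ (T T' : Over S) (g : T' ⟶ T) (a : T ⟶ A),
      ψ T' (g ≫ a) = (J.overMapPullback AddCommGrpCat.{u + 1} g).map (ψ T a) := fun T T' g a =>
    ConcreteCategory.congr_hom (φ.hom.naturality g.op) ⟨Additive.ofMul a⟩
  let D : ∀ T : Over S, (T ⟶ A) → (T ⟶ B) → (T ⟶ C) := fun T a b =>
    ((HomSh.ev J (ψ T a)) ⟨Additive.ofMul b⟩).down.toMul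
  have nat : ∀ (T T' : Over S) (g : T' ⟶ T) (a : T ⟶ A) (b : T ⟶ B), g ≫ D T a b = D T' (g ≫ a) (g ≫ b) := by
    intro T T' g a b
    have h := ConcreteCategory.congr_hom ((ψ T a).hom.naturality
      (Over.homMk g (by simp) : Over.mk g ⟶ Over.mk (𝟙 T)).op) ⟨Additive.ofMul b⟩
    have h2 := HomSh.app_over_mk_congr J (ψ T a) (Category.id_comp g) (PB.obj.map g.op ⟨Additive.ofMul b⟩)
    show g ≫ ((HomSh.ev J (ψ T a)) ⟨Additive.ofMul b⟩).down.toMul = ((HomSh.ev J (ψ T' (g ≫ a))) ⟨Additive.ofMul (g ≫ b)⟩).down.toMul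
    rw [ψres]
    exact (congrArg (fun z : PC.obj.obj (Opposite.op T') => z.down.toMul) (h2.trans h)).symm
  have add_left : ∀ (T : Over S) (b : T ⟶ B) (a a' : T ⟶ A), D T (a * a') b = D T a b * D T a' b := by
    intro T b a a'
    show ((HomSh.ev J (ψ T (a * a'))) ⟨Additive.ofMul b⟩).down.toMul = _
    let x : (CGrpSh.pts Scheme.fppfPrecoverage A).obj.obj (Opposite.op T) := ⟨Additive.ofMul a⟩
    let x' : (CGrpSh.pts Scheme.fppfPrecoverage A).obj.obj (Opposite.op T) := ⟨Additive.ofMul a'⟩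
    have e : ψ T (a * a') = Φ T (x + x') := rfl
    have e2 : HomSh.ev J (ψ T (a * a')) = HomSh.ev J (ψ T a) + HomSh.ev J (ψ T a') := by
      rw [e, AddMonoidHom.map_add, HomSh.ev_add]
    rw [e2]
    rfl
  have add_right : ∀ (T : Over S) (a : T ⟶ A) (b b' : T ⟶ B), D T a (b * b') = D T a b * D T a b' := by
    intro T a b b'
    let y : PB.obj.obj (Opposite.op T) := ⟨Additive.ofMul b⟩
    let y' : PB.obj.obj (Opposite.op T) := ⟨Additive.ofMul b'⟩
    have e3 : HomSh.ev J (ψ T a) (y + y') = HomSh.ev J (ψ T a) y + HomSh.ev J (ψ T a) y' :=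
      AddMonoidHom.map_add _ y y'
    exact congrArg (fun z : PC.obj.obj (Opposite.op T) => z.down.toMul) e3
  have zero := AbSchRigid22.bilin_eq_one A B C hA hB D nat
    (fun T b => AbSchRigid22.map_one_of_map_mul (fun a => D T a b) (add_left T b))
    (fun T a => AbSchRigid22.map_one_of_map_mul (D T a) (add_right T a))
  refine Sheaf.hom_ext (NatTrans.ext (funext fun T => AddCommGrpCat.ext fun x => ?_))
  refine Sheaf.hom_ext (NatTrans.ext (funext fun U => AddCommGrpCat.ext fun y => ULift.ext _ _ ?_))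
  obtain ⟨T⟩ := T
  obtain ⟨U⟩ := U
  obtain ⟨a₀⟩ := x
  obtain ⟨b₀⟩ := y
  let a : T ⟶ A := Additive.toMul a₀
  let b : U.left ⟶ B := Additive.toMul b₀
  have h := zero U.left (U.hom ≫ a) b
  have h2 := HomSh.app_over_mk_congr J (ψ T a) (Category.id_comp U.hom) ⟨Additive.ofMul b⟩
  change ((ψ T a).hom.app (Opposite.op U) ⟨Additive.ofMul b⟩).down = _
  refine (congrArg (fun z : PC.obj.obj (Opposite.op U.left) => z.down) ?_).trans (congrArg Additive.ofMul h)
  change _ = HomSh.ev J (ψ U.left (U.hom ≫ a)) ⟨Additive.ofMul b⟩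
  rw [ψres]
  exact h2.symm

end Groth.Agent.S19291
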