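import Groth.Statements.S19302
import Groth.Agent.Lib.HomAffine22.HomSh

set_option backward.isDefEq.respectTransparency.types false
set_option autoImplicit false
universe u
open CategoryTheory CategoryTheory.Limits MonoidalCategory CartesianMonoidalCategory MonObj AlgebraicGeometry
open AbSch

namespace Groth.Agent.S19302

/-- Let S be a scheme and, for i = 1, 2, let G_i be a commutative S-group scheme given as an extension
of an abelian S-scheme A_i (smooth, proper, connected fibres) by an S-torus T_i: homomorphisms T_i →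
G_i → A_i composing to the trivial map whose sequence of sheaves of points on the big fppf site of S
is short exact. Then, for the internal Hom sheaves of the sheaves of points on that site: the map
Hom(A₁, A₂) → Hom(G₁, A₂) induced by G₁ → A₁ is an isomorphism; the map Hom(T₁, T₂) → Hom(T₁, G₂)
induced by T₂ → G₂ is an isomorphism; the map Hom(G₁, T₂) → Hom(T₁, T₂) induced by T₁ → G₁ is a
monomorphism; and the map Hom(A₁, G₂) → Hom(A₁, A₂) induced by G₂ → A₂ is a monomorphism. -/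
theorem result {S : Scheme.{u}} (T₁ G₁ A₁ T₂ G₂ A₂ : Over S)
    [GrpObj T₁] [IsCommMonObj T₁] (hT₁ : Red.IsTorus T₁) [GrpObj G₁] [IsCommMonObj G₁]
    [GrpObj A₁] [IsCommMonObj A₁] [Smooth A₁.hom] [IsProper A₁.hom]
    (hA₁ : ∀ s : S, ConnectedSpace ↥(A₁.hom.fiber s))
    [GrpObj T₂] [IsCommMonObj T₂] (hT₂ : Red.IsTorus T₂) [GrpObj G₂] [IsCommMonObj G₂]
    [GrpObj A₂] [IsCommMonObj A₂] [Smooth A₂.hom] [IsProper A₂.hom]
    (hA₂ : ∀ s : S, ConnectedSpace ↥(A₂.hom.fiber s))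
    (ι₁ : T₁ ⟶ G₁) (π₁ : G₁ ⟶ A₁) [IsMonHom ι₁] [IsMonHom π₁] (w₁ : ι₁ ≫ π₁ = 1)
    (hex₁ : (CGrpSh.seq Scheme.fppfPrecoverage ι₁ π₁ w₁).ShortExact)
    (ι₂ : T₂ ⟶ G₂) (π₂ : G₂ ⟶ A₂) [IsMonHom ι₂] [IsMonHom π₂] (w₂ : ι₂ ≫ π₂ = 1)
    (hex₂ : (CGrpSh.seq Scheme.fppfPrecoverage ι₂ π₂ w₂).ShortExact) :
    IsIso (HomSh.homShMap (QuotSh.J Scheme.fppfPrecoverage S) (CGrpSh.ptsMap Scheme.fppfPrecoverage π₁) (𝟙 (CGrpSh.pts Scheme.fppfPrecoverage A₂))) ∧
    IsIso (HomSh.homShMap (QuotSh.J Scheme.fppfPrecoverage S) (𝟙 (CGrpSh.pts Scheme.fppfPrecoverage T₁)) (CGrpSh.ptsMap Scheme.fppfPrecoverage ι₂)) ∧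
    Mono (HomSh.homShMap (QuotSh.J Scheme.fppfPrecoverage S) (CGrpSh.ptsMap Scheme.fppfPrecoverage ι₁) (𝟙 (CGrpSh.pts Scheme.fppfPrecoverage T₂))) ∧
    Mono (HomSh.homShMap (QuotSh.J Scheme.fppfPrecoverage S) (𝟙 (CGrpSh.pts Scheme.fppfPrecoverage A₁)) (CGrpSh.ptsMap Scheme.fppfPrecoverage π₂)) := by
  exact ⟨Groth.Agent.HomAffine22.isIso_homShMap_left hex₁
      (fun X φ => Groth.Agent.HomAffine22.hom_over_torus_proper T₁ A₂ hT₁ X φ),
    Groth.Agent.HomAffine22.isIso_homShMap_right hex₂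
      (fun X φ => Groth.Agent.HomAffine22.hom_over_torus_proper T₁ A₂ hT₁ X φ),
    Groth.Agent.HomAffine22.mono_homShMap_left hex₁
      (fun X φ => Groth.Agent.HomAffine22.hom_over_abelian_torus A₁ T₂ hA₁ hT₂ X φ),
    Groth.Agent.HomAffine22.mono_homShMap_right hex₂
      (fun X φ => Groth.Agent.HomAffine22.hom_over_abelian_torus A₁ T₂ hA₁ hT₂ X φ)⟩

end Groth.Agent.S19302
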