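import Groth.Statements.S19305
import Groth.Agent.Lib.OneMot8.TorusExt

set_option autoImplicit false
universe u
open CategoryTheory CategoryTheory.Limits MonoidalCategory CartesianMonoidalCategory MonObj AlgebraicGeometry
open AbSch

namespace Groth.Agent.S19305

/-- Let k be an algebraically closed field, T a k-torus, A an abelian variety over k (smooth proper
k-group scheme with connected fibres over Spec k) and E a commutative k-group scheme which is an
extension of T by A: homomorphisms A → E → T composing to the trivial map whose sequence of sheaves
of points on the big fppf site of Spec k is short exact. Then E is a connected smooth k-group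
scheme, and every maximal torus T₀ of E maps onto T by an isogeny: the composite T₀ → E → T is
finite, flat and surjective (so T₀ and T have the same dimension). (The source lets E be a sheaf
extension and first shows it is a scheme; here E is taken to be a scheme.) -/
theorem result (k : Type u) [Field k] [IsAlgClosed k] (T A E : Over (Spec (CommRingCat.of k)))
    [GrpObj T] [IsCommMonObj T] (hT : Red.IsTorus T)
    [GrpObj A] [IsCommMonObj A] [Smooth A.hom] [IsProper A.hom]
    (hA : ∀ s : Spec (CommRingCat.of k), ConnectedSpace ↥(A.hom.fiber s))
    [GrpObj E] [IsCommMonObj E]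
    (u : A ⟶ E) (v : E ⟶ T) [IsMonHom u] [IsMonHom v] (w : u ≫ v = 1)
    (hex : (CGrpSh.seq Scheme.fppfPrecoverage u v w).ShortExact) :
    Smooth E.hom ∧ ConnectedSpace ↥E.left ∧
      ∀ (T₀ : Over (Spec (CommRingCat.of k))) [GrpObj T₀] (i : T₀ ⟶ E), Red.IsMaximalTorus i →
        IsFinite (i ≫ v).left ∧ Flat (i ≫ v).left ∧ Surjective (i ≫ v).left := by
  exact Groth.Agent.OneMot8.torus_extension T A E hT hA u v w hex

end Groth.Agent.S19305
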