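import Groth.Statements.S19306
import Mathlib

set_option autoImplicit false
universe u
open PowerSeries
open CAlg

namespace Groth.Agent.S19306
open PowerSeries TensorProduct

variable (R : Type u) [CommRing R]

noncomputable def D : R⟦X⟧ →ₗ[R] R⟦X⟧ where
  toFun f := PowerSeries.mk fun k => coeff (k + 1) f
  map_add' f g := by ext k; simp
  map_smul' a f := by ext k; simp

theorem D_X (f : R⟦X⟧) : D R (X * f) = f := by
  ext k; simp [D, coeff_succ_X_mul]

theorem X_D (f : R⟦X⟧) : X * D R f = f - C (constantCoeff f) := by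
  rw [eq_sub_iff_add_eq]
  exact (eq_X_mul_shift_add_const f).symm

theorem X_D_pow (f : R⟦X⟧) (i : ℕ) :
    X * (D R ^ (i + 1)) f = (D R ^ i) f - C (coeff i f) := by
  rw [pow_succ', Module.End.mul_apply, X_D]
  congr 2
  induction i generalizing f with
  | zero => simp
  | succ i ih => rw [pow_succ, Module.End.mul_apply, ih]; simp [D]

variable {R}

theorem left_inverse (Λ : Type*) [AddCommGroup Λ] [Module R⟦X⟧ Λ] [Module R Λ]
    [IsScalarTower R R⟦X⟧ Λ] [Module.Projective R⟦X⟧ Λ] :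
    ∃ δ : Λ →ₗ[R] Λ, ∀ x, δ ((X : R⟦X⟧) • x) = x := by
  obtain ⟨s, hs⟩ := Module.Projective.out (R := R⟦X⟧) (P := Λ)
  refine ⟨(Finsupp.linearCombination R⟦X⟧ id).restrictScalars R ∘ₗ
    Finsupp.mapRange.linearMap (D R) ∘ₗ s.restrictScalars R, fun x => ?_⟩
  have : Finsupp.mapRange.linearMap (D R) (s ((X : R⟦X⟧) • x)) = s x := by
    ext1 l
    rw [map_smul, Finsupp.mapRange.linearMap_apply, Finsupp.mapRange_apply, Finsupp.smul_apply,
      smul_eq_mul, D_X]
  simp only [LinearMap.coe_comp, Function.comp_apply, LinearMap.restrictScalars_apply, this]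
  exact hs x

set_option maxHeartbeats 1000000 in
theorem ker_projective {R : Type u} [CommRing R] {F Q : Type u} [AddCommGroup F] [Module R⟦X⟧ F]
    [Module.Projective R⟦X⟧ F] [Module.Finite R⟦X⟧ F]
    [AddCommGroup Q] [Module R⟦X⟧ Q] [Module R Q] [IsScalarTower R R⟦X⟧ Q]
    [Module.Projective R Q] [Module.Finite R Q]
    (M : ℕ) (hM : ∀ x : Q, (X : R⟦X⟧) ^ M • x = 0)
    (q : F →ₗ[R⟦X⟧] Q) (hqs : Function.Surjective q) :
    Module.Finite R⟦X⟧ (LinearMap.ker q) ∧ Module.Projective R⟦X⟧ (LinearMap.ker q) := by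
  classical
  let t : Q →ₗ[R] Q := (LinearMap.lsmul R⟦X⟧ Q X).restrictScalars R
  have ht : ∀ (i : ℕ) (x : Q), (t ^ i) x = (X : R⟦X⟧) ^ i • x := by
    intro i
    induction i with
    | zero => simp
    | succ i ih => intro x; rw [pow_succ', Module.End.mul_apply, ih, pow_succ', mul_smul]; rfl
  have htM : ∀ (i : ℕ) (x : Q), M ≤ i → (X : R⟦X⟧) ^ i • x = 0 := by
    intro i x hi
    rw [show i = M + (i - M) by omega, pow_add, mul_smul]
    exact hM _
  let ε : (R⟦X⟧ ⊗[R] Q) →ₗ[R⟦X⟧] Q := LinearMap.liftBaseChange R⟦X⟧ LinearMap.id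
  let θ : (R⟦X⟧ ⊗[R] Q) →ₗ[R⟦X⟧] (R⟦X⟧ ⊗[R] Q) := (X : R⟦X⟧) • LinearMap.id - t.baseChange R⟦X⟧
  let g : ℕ → ((R⟦X⟧ ⊗[R] Q) →ₗ[R] (R⟦X⟧ ⊗[R] Q)) := fun i => TensorProduct.map (D R ^ i) (t ^ i)
  let G : (R⟦X⟧ ⊗[R] Q) →ₗ[R] (R⟦X⟧ ⊗[R] Q) :=
    ∑ i ∈ Finset.range M, TensorProduct.map (D R ^ (i + 1)) (t ^ i)
  have hθ : ∀ (s : R⟦X⟧) (x : Q), θ (s ⊗ₜ x) = (X * s) ⊗ₜ x - s ⊗ₜ (t x) := by
    intro s x
    simp [θ, TensorProduct.smul_tmul', LinearMap.baseChange_tmul]
  have hGθ : ∀ z, G (θ z) = z := by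
    intro z
    induction z with
    | zero => simp
    | add a b ha hb => simp only [map_add, ha, hb]
    | tmul s x =>
      rw [hθ, map_sub]
      simp only [G, LinearMap.sum_apply, map_tmul]
      rw [← Finset.sum_sub_distrib]
      have e : ∀ i, (D R ^ (i + 1)) (X * s) ⊗ₜ[R] (t ^ i) x - (D R ^ (i + 1)) s ⊗ₜ[R] (t ^ i) (t x)
          = g i (s ⊗ₜ x) - g (i + 1) (s ⊗ₜ x) := by
        intro i
        simp only [g, map_tmul]
        rw [show (D R ^ (i + 1)) (X * s) = (D R ^ i) (D R (X * s)) by rw [pow_succ]; rfl, D_X,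
          show (t ^ i) (t x) = (t ^ (i + 1)) x by rw [pow_succ]; rfl]
      rw [Finset.sum_congr rfl fun i _ => e i, Finset.sum_range_sub']
      simp [g, ht, htM M x le_rfl]
  have hθG : ∀ z, θ (G z) = z - 1 ⊗ₜ ε z := by
    intro z
    induction z with
    | zero => simp
    | add a b ha hb => simp only [map_add, ha, hb, tmul_add]; abel
    | tmul s x =>
      simp only [G, LinearMap.sum_apply, map_tmul, map_sum, hθ]
      have e : ∀ i, (X * (D R ^ (i + 1)) s) ⊗ₜ[R] (t ^ i) x - (D R ^ (i + 1)) s ⊗ₜ[R] t ((t ^ i) x)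
          = (g i (s ⊗ₜ x) - g (i + 1) (s ⊗ₜ x)) - 1 ⊗ₜ ((C (coeff i s) * X ^ i) • x) := by
        intro i
        simp only [g, map_tmul]
        rw [X_D_pow, sub_tmul, show t ((t ^ i) x) = (t ^ (i + 1)) x by rw [pow_succ']; rfl,
          mul_smul, ← ht, show C (coeff i s) = (coeff i s) • (1 : R⟦X⟧) by
            rw [Algebra.smul_def, mul_one]; rfl]
        rw [smul_tmul, smul_one_smul]
        abel
      rw [Finset.sum_congr rfl fun i _ => e i, Finset.sum_sub_distrib, Finset.sum_range_sub',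
        ← tmul_sum, ← Finset.sum_smul]
      have : (∑ i ∈ Finset.range M, C (coeff i s) * X ^ i) • x = s • x := by
        rw [← sub_eq_zero, ← sub_smul]
        obtain ⟨u, hu⟩ : (X : R⟦X⟧) ^ M ∣ (∑ i ∈ Finset.range M, C (coeff i s) * X ^ i) - s := by
          rw [X_pow_dvd_iff]
          intro m hm
          simp [map_sum, coeff_C_mul, coeff_X_pow, hm]
        rw [hu, mul_comm, mul_smul, htM M x le_rfl, smul_zero]
      rw [this]
      simp [g, ht, htM M x le_rfl, ε]
  haveI : Module.Projective R⟦X⟧ (R⟦X⟧ ⊗[R] Q) := inferInstanceAs (Module.Projective R⟦X⟧ (R⟦X⟧ ⊗[R] Q))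
  have hε : Function.Surjective ε := fun x => ⟨1 ⊗ₜ x, by simp [ε]⟩
  obtain ⟨a, ha⟩ := Module.projective_lifting_property ε q hε
  obtain ⟨b, hb⟩ := Module.projective_lifting_property q ε hqs
  have ha' : ∀ f, ε (a f) = q f := fun f => LinearMap.congr_fun ha f
  have hb' : ∀ z, q (b z) = ε z := fun z => LinearMap.congr_fun hb z
  have hεθ : ∀ z, ε (θ z) = 0 := by
    intro z
    induction z with
    | zero => simp
    | add a b ha hb => simp only [map_add, ha, hb, add_zero]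
    | tmul s x =>
      rw [hθ, map_sub]
      simp only [ε, LinearMap.liftBaseChange_tmul, LinearMap.id_apply, t, LinearMap.restrictScalars_apply,
        LinearMap.lsmul_apply]
      rw [mul_comm, mul_smul, sub_self]
  let ρ : (F × (R⟦X⟧ ⊗[R] Q)) →ₗ[R⟦X⟧] LinearMap.ker q :=
    LinearMap.codRestrict (LinearMap.ker q) (LinearMap.fst _ _ _ - b ∘ₗ a ∘ₗ LinearMap.fst _ _ _
      + b ∘ₗ θ ∘ₗ LinearMap.snd _ _ _) (fun z => by
        refine LinearMap.mem_ker.mpr ?_
        show q (z.1 - b (a z.1) + b (θ z.2)) = 0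
        rw [map_add, map_sub, hb', hb', ha', hεθ, sub_self, add_zero])
  let u : LinearMap.ker q → (R⟦X⟧ ⊗[R] Q) := fun x => G (a x.1)
  have hu : ∀ x, θ (u x) = a x.1 := by
    intro x
    rw [hθG, ha', show q x.1 = 0 from LinearMap.mem_ker.mp x.2]
    simp
  let ι : LinearMap.ker q →ₗ[R⟦X⟧] F × (R⟦X⟧ ⊗[R] Q) :=
    LinearMap.prod (LinearMap.ker q).subtype
      { toFun := u
        map_add' := fun x y => by simp [u]
        map_smul' := fun c x => by
          have h1 : θ (u (c • x)) = θ (c • u x) := by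
            rw [hu, map_smul θ, hu, ← map_smul]; rfl
          have := congrArg G h1
          rwa [hGθ, hGθ] at this }
  have hρι : ρ ∘ₗ ι = LinearMap.id := by
    ext x : 2
    show x.1 - b (a x.1) + b (θ (u x)) = x.1
    rw [hu]; abel
  refine ⟨?_, Module.Projective.of_split ι ρ hρι⟩
  haveI : Module.Finite R⟦X⟧ (R⟦X⟧ ⊗[R] Q) := inferInstanceAs (Module.Finite R⟦X⟧ (R⟦X⟧ ⊗[R] Q))
  exact Module.Finite.of_surjective ρ fun x => ⟨ι x, LinearMap.congr_fun hρι x⟩

/-- Let k be a field, R a commutative k-algebra, n, M natural numbers and Λ an R⟦X⟧-submodule of the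
free module R⟦X⟧^n with X^M · R⟦X⟧^n ⊆ Λ. Then Λ is a finitely generated projective R⟦X⟧-module if
and only if the quotient R⟦X⟧^n / Λ is projective as an R-module. (The published statement
identifies, functorially in R, the families of lattices between t^N Λ₀ and t^{-N} Λ₀ in R((t))^n, Λ₀
the standard lattice, with the R⟦t⟧-submodules in that range whose quotient t^{-N} Λ₀ / Λ is
R-projective; after multiplying by t^N this is the pointwise statement here, with 2N replaced by any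
exponent M; a submodule containing X^M · R⟦X⟧^n automatically spans R((X))^n.) -/
theorem result
    (k : Type u) [Field k] (R : Type u) [CommRing R] [Algebra k R] (n M : ℕ)
    (Λ : Submodule R⟦X⟧ (Fin n → R⟦X⟧))
    (hΛ : ∀ v : Fin n → R⟦X⟧, ((PowerSeries.X : R⟦X⟧) ^ M) • v ∈ Λ) :
    (Module.Finite R⟦X⟧ Λ ∧ Module.Projective R⟦X⟧ Λ) ↔
      Module.Projective R ((Fin n → R⟦X⟧) ⧸ Λ) := by
  classical
  let q := Λ.mkQ
  let pr : (Fin n → R⟦X⟧) →ₗ[R] (Fin n → Fin M → R) :=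
    { toFun := fun f i j => coeff (j : ℕ) (f i)
      map_add' := fun f g => by ext; simp
      map_smul' := fun a f => by ext; simp }
  let li : (Fin n → Fin M → R) →ₗ[R] (Fin n → R⟦X⟧) :=
    { toFun := fun w i => PowerSeries.mk fun m => if h : m < M then w i ⟨m, h⟩ else 0
      map_add' := fun f g => by ext i m; by_cases h : m < M <;> simp [h]
      map_smul' := fun a f => by ext i m; by_cases h : m < M <;> simp [h] }
  have hq : ∀ f, q (li (pr f)) = q f := by
    intro f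
    rw [Submodule.mkQ_apply, Submodule.mkQ_apply, Submodule.Quotient.eq]
    have hd : ∀ i, (X : R⟦X⟧) ^ M ∣ li (pr f) i - f i := by
      intro i
      rw [X_pow_dvd_iff]
      intro m hm
      simp [li, pr, hm]
    choose v hv using hd
    convert hΛ v using 1
    ext1 i
    simp [hv i]
  constructor
  · rintro ⟨-, hP⟩
    obtain ⟨δ, hδ⟩ := left_inverse (R := R) Λ
    have hδM : ∀ (m : ℕ) (x : Λ), (δ ^ m) ((X : R⟦X⟧) ^ m • x) = x := by
      intro m
      induction m with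
      | zero => simp
      | succ m ih => intro x; rw [pow_succ, Module.End.mul_apply, pow_succ', mul_smul, hδ, ih]
    let μ : (Fin n → R⟦X⟧) →ₗ[R] Λ :=
      ((LinearMap.lsmul R⟦X⟧ (Fin n → R⟦X⟧) ((X : R⟦X⟧) ^ M)).codRestrict Λ hΛ).restrictScalars R
    let r : (Fin n → R⟦X⟧) →ₗ[R] Λ := (δ ^ M) ∘ₗ μ
    have hr : ∀ x : Λ, r x.1 = x := fun x => hδM M x
    let σ0 : (Fin n → R⟦X⟧) →ₗ[R] (Fin n → Fin M → R) :=
      pr ∘ₗ (LinearMap.id - (Λ.subtype.restrictScalars R) ∘ₗ r)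
    have hσ : Λ.restrictScalars R ≤ LinearMap.ker σ0 := by
      intro x hx
      rw [LinearMap.mem_ker]
      show pr (x - (r x).1) = 0
      rw [show r x = ⟨x, hx⟩ from hr ⟨x, hx⟩, sub_self, map_zero]
    let σ : ((Fin n → R⟦X⟧) ⧸ Λ) →ₗ[R] (Fin n → Fin M → R) :=
      (Λ.restrictScalars R).liftQ σ0 hσ ∘ₗ (Submodule.Quotient.restrictScalarsEquiv R Λ).symm.toLinearMap
    refine Module.Projective.of_split σ (q.restrictScalars R ∘ₗ li) (LinearMap.ext fun y => ?_)
    obtain ⟨a, rfl⟩ := Submodule.mkQ_surjective Λ y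
    show q (li (pr (a - (r a).1))) = q a
    rw [hq, map_sub, show q (r a).1 = 0 from (Submodule.Quotient.mk_eq_zero Λ).mpr (r a).2, sub_zero]
  · intro hP
    haveI : Module.Finite R ((Fin n → R⟦X⟧) ⧸ Λ) :=
      Module.Finite.of_surjective (q.restrictScalars R ∘ₗ li) (fun x => by
        obtain ⟨f, rfl⟩ := Submodule.mkQ_surjective Λ x
        exact ⟨pr f, hq f⟩)
    have hM : ∀ x : (Fin n → R⟦X⟧) ⧸ Λ, (X : R⟦X⟧) ^ M • x = 0 := by
      intro x
      obtain ⟨f, rfl⟩ := Submodule.mkQ_surjective Λ x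
      exact (map_smul Λ.mkQ _ f).symm.trans ((Submodule.Quotient.mk_eq_zero Λ).mpr (hΛ f))
    have := ker_projective M hM Λ.mkQ (Submodule.mkQ_surjective Λ)
    rwa [Submodule.ker_mkQ] at this

end Groth.Agent.S19306
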