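import Groth.Statements.S19307
import Groth.Agent.Lib.TorsorSch25.Transfer
import Groth.Agent.Lib.FpqcDesc.Basic
import Groth.Agent.S0412
import Groth.Agent.Lib.DCpl.Ring
import Mathlib.RingTheory.Smooth.AdicCompletion

set_option autoImplicit false
universe u
open CategoryTheory MonoidalCategory CartesianMonoidalCategory MonObj GrpObj AlgebraicGeometry PowerSeries
open NonAbH1

namespace Groth.Agent.S19307

/-- Let R be a commutative ring, G an affine smooth group scheme over the power series ring R⟦X⟧ and P a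
G-torsor over Spec R⟦X⟧ for the fpqc topology. Then there is an étale and faithfully flat R-algebra
R' such that P has a section over Spec R'⟦X⟧. (The published statement takes R an algebra over a
field and G the base change to R⟦X⟧ of a smooth affine group scheme over the power series ring of
that field; the statement here allows any affine smooth group scheme over R⟦X⟧, to which the
published proof applies unchanged.) -/
theorem result
    (R : Type u) [CommRing R]
    (G : Over (Spec (CommRingCat.of R⟦X⟧))) [GrpObj G] [IsAffine G.left] [Smooth G.hom]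
    (P : Over (Spec (CommRingCat.of R⟦X⟧))) (a : AlgGrp.Action G P)
    (hP : NonAbH1.IsTorsorFor Scheme.fpqcPrecoverage a) :
    ∃ (R' : Type u) (_ : CommRing R') (_ : Algebra R R'),
      Algebra.Etale R R' ∧ Module.FaithfullyFlat R R' ∧
      NonAbH1.HasSectionOver P (Spec.map (CommRingCat.ofHom (PowerSeries.map (algebraMap R R')))) := by
  haveI : Smooth P.hom := TorsorSch25.prop_of_isTorsorFor @Smooth hP inferInstance
  haveI := FpqcDesc.descendsAlong_isAffineHom.{u}
  haveI : IsAffineHom G.hom := inferInstance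
  haveI : IsAffineHom P.hom := TorsorSch25.prop_of_isTorsorFor @IsAffineHom hP inferInstance
  haveI : IsAffine P.left := isAffine_of_isAffineHom P.hom
  haveI : Surjective G.hom := ⟨fun y => ⟨(MonObj.one (X := G)).left y, by
    rw [← Scheme.Hom.comp_apply, Over.w (MonObj.one (X := G))]; rfl⟩⟩
  haveI : Surjective P.hom := TorsorSch25.prop_of_isTorsorFor @Surjective hP inferInstance
  let c := Spec.map (CommRingCat.ofHom (PowerSeries.constantCoeff (R := R)))
  let p₀ : Limits.pullback P.hom c ⟶ Spec (CommRingCat.of R) := Limits.pullback.snd P.hom c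
  haveI : Smooth p₀ := MorphismProperty.pullback_snd _ _ inferInstance
  haveI : Surjective p₀ := MorphismProperty.pullback_snd _ _ inferInstance
  -- étale neighbourhoods with sections
  have hloc : ∀ s : ↥(Spec (CommRingCat.of R)), ∃ (V : Scheme.{u}) (_ : IsAffine V) (g : V ⟶ Spec (CommRingCat.of R))
      (_ : Etale g), s ∈ Set.range g ∧ ∃ h : V ⟶ Limits.pullback P.hom c, h ≫ p₀ = g := by
    intro s
    obtain ⟨S', g, s', hg, hgs, h, hh⟩ := Groth.Agent.S0412.result p₀ s (p₀.surjective s)
    haveI := hg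
    obtain ⟨U, hU, hsU, -⟩ := exists_isAffineOpen_mem_and_subset (x := s') (U := ⊤) (TopologicalSpace.Opens.mem_top _)
    exact ⟨U.toScheme, hU, U.ι ≫ g, inferInstance, ⟨⟨s', hsU⟩, hgs⟩, U.ι ≫ h, by rw [Category.assoc, hh]⟩
  choose V hV g hg hs h hh using hloc
  obtain ⟨t, ht⟩ := isCompact_univ.elim_finite_subcover (fun s => Set.range (g s))
    (fun s => haveI := hg s; (g s).isOpenMap.isOpen_range) (fun s _ => Set.mem_iUnion.2 ⟨s, hs s⟩)
  let Vt : ↥t → Scheme.{u} := fun s => V s
  haveI : ∀ s, IsAffine (Vt s) := fun s => hV s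
  let gt : (∐ Vt) ⟶ Spec (CommRingCat.of R) := Limits.Sigma.desc fun s => g s
  haveI : IsAffine (∐ Vt) := inferInstance
  haveI : Etale gt := IsZariskiLocalAtSource.sigmaDesc (P := @Etale) fun s => hg s
  haveI : Surjective gt := ⟨fun y => by
    obtain ⟨s, hst, v, hv⟩ := Set.mem_iUnion₂.1 (ht (Set.mem_univ y))
    refine ⟨Limits.Sigma.ι Vt ⟨s, hst⟩ v, ?_⟩
    rw [← Scheme.Hom.comp_apply, Limits.Sigma.ι_desc]
    exact hv⟩
  let ht' : (∐ Vt) ⟶ Limits.pullback P.hom c := Limits.Sigma.desc fun s => h s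
  have hht : ht' ≫ p₀ = gt := Limits.Sigma.hom_ext _ _ fun s => by
    rw [Limits.Sigma.ι_desc_assoc, Limits.Sigma.ι_desc]; exact hh s
  let R' := Γ(∐ Vt, ⊤)
  let φ : CommRingCat.of R ⟶ R' := Spec.preimage ((∐ Vt).isoSpec.inv ≫ gt)
  have hφ : Spec.map φ = (∐ Vt).isoSpec.inv ≫ gt := Spec.map_preimage _
  letI : Algebra R R' := φ.hom.toAlgebra
  have het : Algebra.Etale R R' := by
    rw [← RingHom.etale_algebraMap]
    have : Etale (Spec.map φ) := by rw [hφ]; infer_instance
    rw [HasRingHomProperty.Spec_iff (P := @Etale)] at this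
    exact this
  haveI := het
  have hsj : Surjective (Spec.map φ) := by rw [hφ]; infer_instance
  refine ⟨R', inferInstance, inferInstance, het, Module.FaithfullyFlat.of_comap_surjective hsj.1, ?_⟩
  let σ₀ : Spec (CommRingCat.of R') ⟶ P.left := (∐ Vt).isoSpec.inv ≫ ht' ≫ Limits.pullback.fst P.hom c
  have hσ₀ : σ₀ ≫ P.hom = Spec.map (CommRingCat.ofHom ((algebraMap R R').comp PowerSeries.constantCoeff)) := by
    rw [Category.assoc, Category.assoc, Limits.pullback.condition, ← Category.assoc ht', hht, ← Category.assoc, ← hφ,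
      ← Spec.map_comp]
    rfl
  let ψ : CommRingCat.of R⟦X⟧ ⟶ Γ(P.left, ⊤) := Spec.preimage (P.left.isoSpec.inv ≫ P.hom)
  have hψ : Spec.map ψ = P.left.isoSpec.inv ≫ P.hom := Spec.map_preimage _
  letI : Algebra R⟦X⟧ Γ(P.left, ⊤) := ψ.hom.toAlgebra
  haveI : Algebra.Smooth R⟦X⟧ Γ(P.left, ⊤) := by
    rw [← RingHom.smooth_algebraMap]
    have : Smooth (Spec.map ψ) := by rw [hψ]; infer_instance
    rw [HasRingHomProperty.Spec_iff (P := @Smooth)] at this
    exact this
  let f₀ : Γ(P.left, ⊤) ⟶ CommRingCat.of R' := Spec.preimage (σ₀ ≫ P.left.isoSpec.hom)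
  have hf₀ : ∀ a : R⟦X⟧, f₀ (ψ a) = algebraMap R R' (PowerSeries.constantCoeff a) := by
    have e : ψ ≫ f₀ = CommRingCat.ofHom ((algebraMap R R').comp PowerSeries.constantCoeff) := Spec.map_injective (by
      rw [Spec.map_comp, Spec.map_preimage, hψ, Category.assoc, Iso.hom_inv_id_assoc, hσ₀])
    exact fun a => congr($e a)
  letI : Algebra R⟦X⟧ (PowerSeries R') := (PowerSeries.map (algebraMap R R')).toAlgebra
  haveI : IsAdicComplete (Ideal.span {(PowerSeries.X : PowerSeries R')}) (PowerSeries R') :=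
    DCpl.isAdicComplete_powerSeries
  let q := Ideal.Quotient.mk (Ideal.span {(PowerSeries.X : PowerSeries R')})
  let f : Γ(P.left, ⊤) →ₐ[R⟦X⟧] PowerSeries R' ⧸ Ideal.span {(PowerSeries.X : PowerSeries R')} :=
    { (q.comp PowerSeries.C).comp f₀.hom with
      commutes' := fun a => by
        show q (PowerSeries.C (f₀ (ψ a))) = q (PowerSeries.map (algebraMap R R') a)
        rw [hf₀, Ideal.Quotient.mk_eq_mk_iff_sub_mem, Ideal.mem_span_singleton, PowerSeries.X_dvd_iff]
        rw [map_sub, PowerSeries.constantCoeff_C, sub_eq_zero, ← PowerSeries.coeff_zero_eq_constantCoeff_apply,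
          ← PowerSeries.coeff_zero_eq_constantCoeff_apply, PowerSeries.coeff_map] }
  obtain ⟨τ, -⟩ := Algebra.FormallySmooth.exists_mkₐ_comp_eq_of_isAdicComplete f
  refine ⟨Spec.map (CommRingCat.ofHom τ.toRingHom) ≫ P.left.isoSpec.inv, ?_⟩
  rw [Category.assoc, ← hψ, ← Spec.map_comp]
  exact congrArg Spec.map (CommRingCat.hom_ext (RingHom.ext fun a => τ.commutes a))

end Groth.Agent.S19307
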