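import Mathlib.RingTheory.TensorProduct.Basic
import Mathlib.RingTheory.Localization.Away.Basic
import Mathlib.RingTheory.Spectrum.Prime.Topology
import Mathlib.RingTheory.Flat.Basic
import Mathlib.FieldTheory.IsAlgClosed.Basic
import Mathlib.RingTheory.FiniteType
import Mathlib.RingTheory.Ideal.Quotient.Operations
import Groth.Agent.Lib.RelDiv3
-- import your own Groth.Agent.* helpers here

set_option autoImplicit false
set_option linter.style.haveILetI false
universe u
open TensorProduct
namespace CAlg
end CAlg
open CAlg

namespace Groth.Agent.S19308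

/-- Let k be an algebraically closed field, A a finitely generated k-algebra which is an integral domain
(an affine variety X = Spec A), Z a finite (possibly empty) set of k-points of A, R a commutative
k-algebra and U an open dense subset of Spec (R ⊗_k A) = X_R containing every point of Z_R and
meeting every fibre of X_R → Spec R. Then locally on Spec R there is a principal relative effective
Cartier divisor missing Z_R whose complement lies in U: for every prime p of R there are r ∉ p and f
∈ R[1/r] ⊗_k A such that f is a non-zero-divisor, (R[1/r] ⊗_k A)/(f) is flat over R[1/r], f maps to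
a unit under every point of Z, and the basic open set D(f) of X_{R[1/r]} maps into U. (The published
statement is for a quasi-projective variety X and asks for relative Cartier divisors D_i over an
open cover of Spec R; this row is the affine case, to which the published proof reduces, where the
divisors produced are principal.) -/
theorem result
    (k : Type u) [Field k] [IsAlgClosed k]
    (A : Type u) [CommRing A] [Algebra k A] [IsDomain A] [Algebra.FiniteType k A]
    (Z : Finset (A →ₐ[k] k))
    (R : Type u) [CommRing R] [Algebra k R]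
    (U : TopologicalSpace.Opens (PrimeSpectrum (TensorProduct k R A)))
    (hU : Dense (U : Set (PrimeSpectrum (TensorProduct k R A))))
    (hZ : ∀ z ∈ Z, ∀ q : PrimeSpectrum R,
      PrimeSpectrum.comap (Algebra.TensorProduct.lift (AlgHom.id k R) ((Algebra.ofId k R).comp z)
        (fun _ _ => Commute.all _ _)).toRingHom q ∈ U)
    (hsurj : ∀ q : PrimeSpectrum R, ∃ P ∈ U,
      PrimeSpectrum.comap (Algebra.TensorProduct.includeLeftRingHom : R →+* TensorProduct k R A) P = q)
    (p : PrimeSpectrum R) :
    ∃ r : R, r ∉ p.asIdeal ∧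
      ∃ f : TensorProduct k (Localization.Away r) A,
        f ∈ nonZeroDivisors (TensorProduct k (Localization.Away r) A) ∧
        Module.Flat (Localization.Away r)
          (TensorProduct k (Localization.Away r) A ⧸ Ideal.span {f}) ∧
        (∀ z ∈ Z, IsUnit (Algebra.TensorProduct.lift (AlgHom.id k (Localization.Away r))
          ((Algebra.ofId k (Localization.Away r)).comp z) (fun _ _ => Commute.all _ _) f)) ∧
        (∀ P : PrimeSpectrum (TensorProduct k (Localization.Away r) A), f ∉ P.asIdeal →
          PrimeSpectrum.comap (Algebra.TensorProduct.map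
            (IsScalarTower.toAlgHom k R (Localization.Away r)) (AlgHom.id k A)).toRingHom P ∈ U) := by
  classical
  let b := Module.Basis.ofVectorSpace k A
  let bR := Algebra.TensorProduct.basis R b
  let J : Ideal (R ⊗[k] A) := PrimeSpectrum.vanishingIdeal ((U : Set _)ᶜ)
  have hJ : PrimeSpectrum.zeroLocus (J : Set (R ⊗[k] A)) = (U : Set _)ᶜ := by
    rw [PrimeSpectrum.zeroLocus_vanishingIdeal_eq_closure, (isClosed_compl_iff.2 U.isOpen).closure_eq]
  have hnot : ∀ Q : PrimeSpectrum (R ⊗[k] A), Q ∈ U → ¬ J ≤ Q.asIdeal := fun Q hQ h => by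
    have h' : Q ∈ PrimeSpectrum.zeroLocus (J : Set (R ⊗[k] A)) := h
    rw [hJ] at h'
    exact h' hQ
  haveI := RelDiv3.isDomain_tensor (k := k) (A := A) p.asIdeal.ResidueField
  let n : R ⊗[k] A →ₐ[R] p.asIdeal.ResidueField ⊗[k] A :=
    Algebra.TensorProduct.map (Algebra.ofId R p.asIdeal.ResidueField) (AlgHom.id k A)
  have hker : ∀ g, n g = 0 → ∀ i, bR.repr g i ∈ p.asIdeal := fun g hg =>
    RelDiv3.exists_residue_eq (fun n' hn' => by
      have : n' = n := Algebra.TensorProduct.ext (Subsingleton.elim _ _)
        (AlgHom.ext fun a => (hn' 1 a).trans rfl)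
      rw [this, hg])
  let Q₀ : PrimeSpectrum (R ⊗[k] A) := ⟨RingHom.ker n.toRingHom, RingHom.ker_isPrime _⟩
  have hQ₀ : Q₀ ∈ U := by
    obtain ⟨P, hP, hPp⟩ := hsurj p
    have hle : Q₀.asIdeal ≤ P.asIdeal := fun g hg => by
      rw [← bR.linearCombination_repr g, Finsupp.linearCombination_apply]
      refine P.asIdeal.sum_mem fun j _ => ?_
      have hc : bR.repr g j ∈ p.asIdeal := hker g hg j
      rw [← hPp] at hc
      show bR.repr g j • bR j ∈ P.asIdeal
      rw [Algebra.smul_def]
      exact P.asIdeal.mul_mem_right _ hc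
    exact ((PrimeSpectrum.le_iff_specializes _ _).1 hle).mem_open U.isOpen hP
  let ev (z : A →ₐ[k] k) : R ⊗[k] A →ₐ[k] R :=
    Algebra.TensorProduct.lift (AlgHom.id k R) ((Algebra.ofId k R).comp z) (fun _ _ => Commute.all _ _)
  let Q : Option Z → PrimeSpectrum (R ⊗[k] A) := fun o =>
    o.elim Q₀ fun z => PrimeSpectrum.comap (ev z.1).toRingHom p
  have hQ : ∀ o, Q o ∈ U := by
    rintro (_ | z)
    · exact hQ₀
    · exact hZ _ z.2 p
  obtain ⟨f, hfJ, hfQ⟩ : ∃ f ∈ J, ∀ o, f ∉ (Q o).asIdeal := by
    by_contra h
    push Not at h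
    obtain ⟨o, -, ho⟩ := (Ideal.subset_union_prime (s := Finset.univ) (f := fun o => (Q o).asIdeal)
      (none : Option Z) none fun o _ _ _ => (Q o).isPrime).1 (fun g hg => by simpa using h g hg)
    exact hnot _ (hQ o) ho
  obtain ⟨i, hi⟩ : ∃ i, bR.repr f i ∉ p.asIdeal := by
    by_contra h
    push Not at h
    refine hfQ none (show n f = 0 from ?_)
    rw [← bR.linearCombination_repr f, Finsupp.linearCombination_apply, Finsupp.sum, map_sum]
    refine Finset.sum_eq_zero fun j _ => ?_
    rw [map_smul, Algebra.smul_def, IsScalarTower.algebraMap_apply R p.asIdeal.ResidueField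
      (p.asIdeal.ResidueField ⊗[k] A), Ideal.algebraMap_residueField_eq_zero.2 (h j), map_zero, zero_mul]
  refine ⟨bR.repr f i * ∏ z ∈ Z, ev z f, fun h => ?_, ?_⟩
  · rcases p.isPrime.mem_or_mem h with h | h
    · exact hi h
    · obtain ⟨z, hz, hzf⟩ := (Ideal.IsPrime.prod_mem_iff).1 h
      exact hfQ (some ⟨z, hz⟩) hzf
  let r : R := bR.repr f i * ∏ z ∈ Z, ev z f
  let S := Localization.Away r
  have hr : IsUnit (algebraMap R S r) := IsLocalization.Away.algebraMap_isUnit r
  let m : R ⊗[k] A →ₐ[k] S ⊗[k] A :=
    Algebra.TensorProduct.map (IsScalarTower.toAlgHom k R S) (AlgHom.id k A)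
  have hrepr : ∀ g, (Algebra.TensorProduct.basis S b).repr (m g) i = algebraMap R S (bR.repr g i) := fun g => by
    induction g using TensorProduct.induction_on with
    | zero => simp
    | tmul c a => simp [m, bR, Algebra.TensorProduct.basis_repr_tmul, Algebra.smul_def, ← IsScalarTower.algebraMap_apply k R S]
    | add x y hx hy => simp [map_add, hx, hy]
  have hev : ∀ (z : A →ₐ[k] k) g, Algebra.TensorProduct.lift (AlgHom.id k S)
      ((Algebra.ofId k S).comp z) (fun _ _ => Commute.all _ _) (m g) = algebraMap R S (ev z g) := fun z g => by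
    induction g using TensorProduct.induction_on with
    | zero => simp
    | tmul c a => simp [m, ev, ← IsScalarTower.algebraMap_apply k R S]
    | add x y hx hy => simp [map_add, hx, hy]
  have hu : IsUnit ((Algebra.TensorProduct.basis S b).repr (m f) i) := by
    rw [hrepr]
    exact isUnit_of_dvd_unit (map_dvd _ (Dvd.intro _ rfl)) hr
  refine ⟨m f, (RelDiv3.regular_flat (m f) hu).1, (RelDiv3.regular_flat (m f) hu).2, fun z hz => ?_,
    fun P hP => ?_⟩
  · show IsUnit (Algebra.TensorProduct.lift (AlgHom.id k S) ((Algebra.ofId k S).comp z) (fun _ _ => Commute.all _ _) (m f))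
    rw [hev]
    exact isUnit_of_dvd_unit (map_dvd _ ((Finset.dvd_prod_of_mem (fun z => ev z f) hz).trans (Dvd.intro_left _ rfl))) hr
  · by_contra hc
    have h' : PrimeSpectrum.comap m.toRingHom P ∈ PrimeSpectrum.zeroLocus (J : Set (R ⊗[k] A)) := by
      rw [hJ]; exact hc
    exact hP (h' hfJ)

end Groth.Agent.S19308
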