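import Groth.Statements.S19309
import Mathlib

set_option autoImplicit false
universe u
open PowerSeries LaurentSeries
open CAlg

namespace Groth.Agent.S19309
open CAlg
open scoped PowerSeries LaurentSeries
open PowerSeries

lemma inj (R : Type u) [CommRing R] : Function.Injective (algebraMap R⟦X⟧ R⸨X⸩) :=
  HahnSeries.ofPowerSeries_injective

/-- Let k be a field, R a commutative k-algebra, B a finitely presented R⟦X⟧-algebra (an affine scheme V
= Spec B of finite presentation over the disc D_R = Spec R⟦X⟧) and s : B → R((X)) an R⟦X⟧-algebra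
map (a section of V over the punctured disc). Then there is an ideal I of R such that for every ring
map φ : R → R', writing θ : R((X)) → R'((X)) for the ring map compatible with R⟦X⟧ → R'⟦X⟧, the
section s extends to a section over D_{R'} — an R⟦X⟧-algebra map s' : B → R'⟦X⟧ whose composite with
R'⟦X⟧ → R'((X)) is θ ∘ s — if and only if φ kills I. In other words the sub-presheaf of Spec R where
s extends over the disc is the closed subscheme defined by I. -/
theorem result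
    (k : Type u) [Field k] (R : Type u) [CommRing R] [Algebra k R]
    (B : Type u) [CommRing B] [Algebra R⟦X⟧ B] [Algebra.FinitePresentation R⟦X⟧ B]
    (s : B →ₐ[R⟦X⟧] R⸨X⸩) :
    ∃ I : Ideal R, ∀ (R' : Type u) [CommRing R'] (φ : R →+* R') (θ : R⸨X⸩ →+* R'⸨X⸩),
      θ.comp (algebraMap R⟦X⟧ R⸨X⸩) = (algebraMap R'⟦X⟧ R'⸨X⸩).comp (PowerSeries.map φ) →
      ((∃ s' : B →+* R'⟦X⟧, s'.comp (algebraMap R⟦X⟧ B) = PowerSeries.map φ ∧
          (algebraMap R'⟦X⟧ R'⸨X⸩).comp s' = θ.comp s.toRingHom) ↔ I ≤ RingHom.ker φ) := by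
  classical
  obtain ⟨gens, hgens⟩ := (inferInstance : Algebra.FiniteType R⟦X⟧ B).out
  have hex : ∀ b : B, ∃ (N : ℕ) (p : R⟦X⟧),
      s b * algebraMap R⟦X⟧ R⸨X⸩ ((PowerSeries.X : R⟦X⟧) ^ N) = algebraMap R⟦X⟧ R⸨X⸩ p := fun b => by
    obtain ⟨⟨p, ⟨_, N, rfl⟩⟩, h⟩ := IsLocalization.surj (Submonoid.powers (PowerSeries.X : R⟦X⟧)) (s b)
    exact ⟨N, p, h⟩
  choose N p hp using hex
  refine ⟨Ideal.span {c | ∃ b ∈ gens, ∃ m < N b, c = PowerSeries.coeff m (p b)}, fun R' _ φ θ hθ => ?_⟩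
  have hθ' : ∀ q, θ (algebraMap R⟦X⟧ R⸨X⸩ q) = algebraMap R'⟦X⟧ R'⸨X⸩ (PowerSeries.map φ q) :=
    fun q => RingHom.congr_fun hθ q
  have key : ∀ b, θ (s b) * algebraMap R'⟦X⟧ R'⸨X⸩ ((PowerSeries.X : R'⟦X⟧) ^ N b) =
      algebraMap R'⟦X⟧ R'⸨X⸩ (PowerSeries.map φ (p b)) := fun b => by
    rw [← hθ', ← hp, map_mul, hθ', map_pow (PowerSeries.map φ), PowerSeries.map_X]
  constructor
  · rintro ⟨s', -, hs'⟩
    rw [Ideal.span_le]
    rintro _ ⟨b, -, m, hm, rfl⟩
    have h : algebraMap R'⟦X⟧ R'⸨X⸩ (s' b) = θ (s b) := RingHom.congr_fun hs' b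
    have h1 := key b
    rw [← h, ← map_mul] at h1
    have h2 : (PowerSeries.X : R'⟦X⟧) ^ N b ∣ PowerSeries.map φ (p b) :=
      ⟨s' b, by rw [← inj R' h1, mul_comm]⟩
    rw [SetLike.mem_coe, RingHom.mem_ker, ← PowerSeries.coeff_map]
    exact PowerSeries.X_pow_dvd_iff.1 h2 m hm
  · intro hI
    let T := (algebraMap R'⟦X⟧ R'⸨X⸩).range
    have hgen : ∀ b ∈ gens, θ (s b) ∈ T := by
      intro b hb
      obtain ⟨q, hq⟩ : (PowerSeries.X : R'⟦X⟧) ^ N b ∣ PowerSeries.map φ (p b) :=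
        PowerSeries.X_pow_dvd_iff.2 fun m hm => by
          rw [PowerSeries.coeff_map]
          exact hI (Ideal.subset_span ⟨b, hb, m, hm, rfl⟩)
      refine ⟨q, ?_⟩
      have hu : IsUnit (algebraMap R'⟦X⟧ R'⸨X⸩ ((PowerSeries.X : R'⟦X⟧) ^ N b)) :=
        IsLocalization.map_units R'⸨X⸩ (⟨_, N b, rfl⟩ : Submonoid.powers (PowerSeries.X : R'⟦X⟧))
      apply hu.mul_right_cancel
      rw [key b, hq, map_mul, mul_comm]
    have hall : ∀ b : B, θ (s b) ∈ T := by
      intro b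
      have hb : b ∈ Algebra.adjoin R⟦X⟧ (gens : Set B) := hgens.ge trivial
      induction hb using Algebra.adjoin_induction with
      | mem x hx => exact hgen x hx
      | algebraMap q => rw [AlgHom.commutes, hθ']; exact ⟨_, rfl⟩
      | add x y _ _ hx hy => rw [map_add, map_add]; exact T.add_mem hx hy
      | mul x y _ _ hx hy => rw [map_mul, map_mul]; exact T.mul_mem hx hy
    let e := RingEquiv.ofBijective (algebraMap R'⟦X⟧ R'⸨X⸩).rangeRestrict
      ⟨fun a b h => inj R' (congrArg Subtype.val h), (algebraMap R'⟦X⟧ R'⸨X⸩).rangeRestrict_surjective⟩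
    let s' : B →+* R'⟦X⟧ := e.symm.toRingHom.comp ((θ.comp s.toRingHom).codRestrict T hall)
    have hs' : ∀ b, algebraMap R'⟦X⟧ R'⸨X⸩ (s' b) = θ (s b) := fun b =>
      congrArg Subtype.val (e.apply_symm_apply ⟨θ (s b), hall b⟩)
    refine ⟨s', RingHom.ext fun q => inj R' ?_, RingHom.ext hs'⟩
    show algebraMap R'⟦X⟧ R'⸨X⸩ (s' _) = _
    rw [hs', AlgHom.commutes, hθ']

end Groth.Agent.S19309
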