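import Groth.Statements.S19310
import Mathlib
import Groth.Agent.Lib.GeomIrr18.Alg

set_option autoImplicit false
universe u
open TensorProduct
open CAlg

namespace Groth.Agent.S19310
open TensorProduct IsLocalRing

lemma mem_iInf_pow {k : Type u} [Field k] [IsAlgClosed k] {A : Type u} [CommRing A] [Algebra k A] [IsDomain A]
    {L : Type u} [CommRing L] [IsLocalRing L] [Algebra k L]
    {ι : Type*} (s : Finset ι) (b : Module.Basis ι k A) (r : ι → L) (h : L ⊗[k] A)
    (hh : Algebra.TensorProduct.map (Ideal.Quotient.mkₐ k (maximalIdeal L)) (AlgHom.id k A) h ≠ 0)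
    (hf : h * ∑ i ∈ s, r i ⊗ₜ[k] b i = 0) :
    ∀ n, ∀ i ∈ s, r i ∈ maximalIdeal L ^ n := by
  classical
  intro n
  induction n with
  | zero => intro i hi; rw [pow_zero, Ideal.one_eq_top]; trivial
  | succ n ih =>
    intro i hi
    let M : Submodule L L := maximalIdeal L ^ n
    let K := L ⧸ maximalIdeal L
    haveI : IsDomain (K ⊗[k] A) := Groth.Agent.GeomIrr.isDomain_tensor K A
    let v : s → M := fun j => ⟨r j.1, ih j.1 j.2⟩
    by_contra hne
    let N : Submodule L M := maximalIdeal L • ⊤
    have hv : N.mkQ (v ⟨i, hi⟩) ≠ 0 := fun h0 => hne (by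
      rw [Submodule.mkQ_apply, Submodule.Quotient.mk_eq_zero] at h0
      have := Submodule.mem_map_of_mem (f := M.subtype) h0
      rw [Submodule.map_smul'', Submodule.map_subtype_top] at this
      rw [pow_succ']
      exact this)
    letI : Field K := Ideal.Quotient.field _
    obtain ⟨δ, hδ⟩ := Module.Projective.exists_dual_ne_zero K hv
    let φ : M →ₗ[L] K := (δ.restrictScalars L) ∘ₗ N.mkQ
    have hφi : φ (v ⟨i, hi⟩) ≠ 0 := hδ
    let Ψ : L ⊗[k] A →ₗ[k] M ⊗[k] A := ∑ j : s, TensorProduct.map
      ((LinearMap.toSpanSingleton L M (v j)).restrictScalars k) (LinearMap.mulRight k (b j.1))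
    have h1 : (M.subtype.restrictScalars k).rTensor A ∘ₗ Ψ =
        LinearMap.mulRight k (∑ j ∈ s, r j ⊗ₜ[k] b j) := by
      refine TensorProduct.ext' fun x a => ?_
      simp only [Ψ, LinearMap.coe_comp, Function.comp_apply, LinearMap.coe_sum, Finset.sum_apply,
        TensorProduct.map_tmul, map_sum, LinearMap.rTensor_tmul, LinearMap.mulRight_apply, Finset.mul_sum,
        Algebra.TensorProduct.tmul_mul_tmul]
      rw [← Finset.sum_coe_sort s]
      rfl
    let G : K ⊗[k] A := ∑ j : s, φ (v j) ⊗ₜ[k] b j.1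
    let π := Algebra.TensorProduct.map (Ideal.Quotient.mkₐ k (maximalIdeal L)) (AlgHom.id k A)
    have h2 : (φ.restrictScalars k).rTensor A ∘ₗ Ψ = LinearMap.mulRight k G ∘ₗ π.toLinearMap := by
      refine TensorProduct.ext' fun x a => ?_
      simp only [Ψ, G, LinearMap.coe_comp, Function.comp_apply, LinearMap.coe_sum, Finset.sum_apply,
        TensorProduct.map_tmul, map_sum, LinearMap.rTensor_tmul, LinearMap.mulRight_apply, Finset.mul_sum]
      refine Finset.sum_congr rfl fun j _ => ?_
      simp only [π, AlgHom.toLinearMap_apply, Algebra.TensorProduct.map_tmul,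
        Algebra.TensorProduct.tmul_mul_tmul, LinearMap.coe_restrictScalars, LinearMap.toSpanSingleton_apply,
        map_smul, AlgHom.coe_id, id]
      congr 1
    have hΨ : Ψ h = 0 := by
      refine Module.Flat.rTensor_preserves_injective_linearMap (M := A) (M.subtype.restrictScalars k)
        Subtype.val_injective ?_
      rw [map_zero, ← LinearMap.comp_apply, h1, LinearMap.mulRight_apply, hf]
    have hG : π h * G = 0 := by
      have := LinearMap.congr_fun h2 h
      rw [LinearMap.comp_apply, hΨ, map_zero] at this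
      exact this.symm
    have hG0 : G = 0 := (mul_eq_zero.mp hG).resolve_left hh
    have := congrArg (fun z => (Algebra.TensorProduct.basis K b).repr z i) hG0
    simp only [G, map_sum, map_zero, Algebra.TensorProduct.basis_repr_tmul, Finsupp.coe_finsetSum,
      Finset.sum_apply, Finsupp.zero_apply] at this
    rw [Finset.sum_eq_single ⟨i, hi⟩ (fun j _ hj => by
      have : i ≠ j.1 := fun h => hj (Subtype.ext h.symm)
      simp [Finsupp.mapRange_apply, this]) (fun h => absurd (Finset.mem_univ _) h)] at this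
    exact hφi (by simpa using this)

/-- Let k be an algebraically closed field, A a finitely generated k-algebra which is an integral domain
(X = Spec A an affine variety), R a commutative k-algebra, possibly non-reduced, and U an open
subset of X_R = Spec (R ⊗_k A) meeting every fibre of X_R → Spec R (a very dense open subset). Then
a regular function on X_R whose restriction to U vanishes is zero: if f ∈ R ⊗_k A maps to 0 in the
localisation (R ⊗_k A)[1/g] for every g with D(g) ⊆ U, then f = 0. (The published statement is that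
automorphisms of a torsor under a smooth affine group scheme over X_R which are the identity over a
very dense open subset are the identity, for X a smooth projective curve; its proof reduces this to
the present assertion about functions, for quasi-projective X; this row is the affine case.) -/
theorem result
    (k : Type u) [Field k] [IsAlgClosed k]
    (A : Type u) [CommRing A] [Algebra k A] [IsDomain A] [Algebra.FiniteType k A]
    (R : Type u) [CommRing R] [Algebra k R]
    (U : TopologicalSpace.Opens (PrimeSpectrum (TensorProduct k R A)))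
    (hsurj : ∀ q : PrimeSpectrum R, ∃ P ∈ U,
      PrimeSpectrum.comap (Algebra.TensorProduct.includeLeftRingHom : R →+* TensorProduct k R A) P = q)
    (f : TensorProduct k R A)
    (hf : ∀ g : TensorProduct k R A, (PrimeSpectrum.basicOpen g : Set (PrimeSpectrum (TensorProduct k R A))) ⊆ U →
      algebraMap (TensorProduct k R A) (Localization.Away g) f = 0) :
    f = 0 := by
  classical
  let b := Module.Basis.ofVectorSpace k A
  let bR := Algebra.TensorProduct.basis R b
  have hexp : ∀ z : R ⊗[k] A, z = ∑ i ∈ (bR.repr z).support, bR.repr z i ⊗ₜ[k] b i := by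
    intro z
    conv_lhs => rw [← bR.linearCombination_repr z, Finsupp.linearCombination_apply, Finsupp.sum]
    refine Finset.sum_congr rfl fun i _ => ?_
    simp [bR, Algebra.TensorProduct.basis_apply, TensorProduct.smul_tmul']
  refine bR.ext_elem fun i => ?_
  rw [map_zero, Finsupp.zero_apply]
  by_cases hi : i ∈ (bR.repr f).support
  swap
  · exact Finsupp.notMem_support_iff.mp hi
  suffices hann : (Ideal.span {bR.repr f i}).annihilator = ⊤ by
    rw [Submodule.annihilator_eq_top_iff, Ideal.span_singleton_eq_bot] at hann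
    exact hann
  by_contra hann
  obtain ⟨q, hq, hle⟩ := Ideal.exists_le_maximal _ hann
  obtain ⟨P, hPU, hPq⟩ := hsurj ⟨q, hq.isPrime⟩
  obtain ⟨_, ⟨g, rfl⟩, hgP, hgU⟩ :=
    PrimeSpectrum.isTopologicalBasis_basic_opens.exists_subset_of_mem_open hPU U.isOpen
  obtain ⟨⟨_, n, rfl⟩, hn⟩ := (IsLocalization.map_eq_zero_iff (Submonoid.powers g) _ f).mp (hf g hgU)
  change g ^ n * f = 0 at hn
  have hgn : g ^ n ∉ P.asIdeal := fun h => hgP (P.isPrime.mem_of_pow_mem n h)
  set h := g ^ n
  let c := bR.repr f
  let d := bR.repr h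
  let R₀ := Algebra.adjoin k ((c.frange ∪ d.frange : Finset R) : Set R)
  haveI : Algebra.FiniteType k R₀ := Algebra.FiniteType.adjoin_of_finite (Finset.finite_toSet _)
  haveI : IsNoetherianRing R₀ := Algebra.FiniteType.isNoetherianRing k R₀
  have hc : ∀ i, c i ∈ R₀ := fun i => by
    by_cases hi : c i = 0
    · rw [hi]; exact R₀.zero_mem
    · exact Algebra.subset_adjoin (Finset.mem_coe.mpr (Finset.mem_union_left _ (Finsupp.mem_frange.mpr ⟨hi, i, rfl⟩)))
  have hd : ∀ i, d i ∈ R₀ := fun i => by
    by_cases hi : d i = 0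
    · rw [hi]; exact R₀.zero_mem
    · exact Algebra.subset_adjoin (Finset.mem_coe.mpr (Finset.mem_union_right _ (Finsupp.mem_frange.mpr ⟨hi, i, rfl⟩)))
  let ι : R₀ ⊗[k] A →ₐ[k] R ⊗[k] A := Algebra.TensorProduct.map R₀.val (AlgHom.id k A)
  have hι : Function.Injective ι :=
    Module.Flat.rTensor_preserves_injective_linearMap (M := A) R₀.val.toLinearMap Subtype.val_injective
  let f₀ : R₀ ⊗[k] A := ∑ i ∈ c.support, (⟨c i, hc i⟩ : R₀) ⊗ₜ[k] b i
  let h₀ : R₀ ⊗[k] A := ∑ i ∈ d.support, (⟨d i, hd i⟩ : R₀) ⊗ₜ[k] b i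
  have hf₀ : ι f₀ = f := by rw [map_sum]; exact (hexp f).symm
  have hh₀ : ι h₀ = h := by rw [map_sum]; exact (hexp h).symm
  have h00 : h₀ * f₀ = 0 := hι (by rw [map_mul, hf₀, hh₀, hn, map_zero])
  let q₀ : Ideal R₀ := q.comap R₀.val.toRingHom
  haveI := hq.isPrime
  haveI : q₀.IsPrime := Ideal.IsPrime.comap _
  let L := Localization.AtPrime q₀
  let t : R₀ ⊗[k] A →ₐ[k] L ⊗[k] A :=
    Algebra.TensorProduct.map (IsScalarTower.toAlgHom k R₀ L) (AlgHom.id k A)
  have key := mem_iInf_pow c.support b
    (fun i => algebraMap R₀ L ⟨c i, hc i⟩) (t h₀) ?_ (by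
      rw [show (∑ i ∈ c.support, algebraMap R₀ L ⟨c i, hc i⟩ ⊗ₜ[k] b i) = t f₀ by rw [map_sum]; rfl,
        ← map_mul, h00, map_zero])
  · have h0 : algebraMap R₀ L ⟨c i, hc i⟩ = 0 := by
      rw [← Submodule.mem_bot L, ← Ideal.iInf_pow_eq_bot_of_isLocalRing _ (maximalIdeal.isMaximal L).ne_top,
        Submodule.mem_iInf]
      exact fun n => key n i hi
    obtain ⟨⟨m, hm⟩, hmc⟩ := (IsLocalization.map_eq_zero_iff q₀.primeCompl L _).mp h0
    refine hm (hle ?_)
    show (m : R) ∈ (Ideal.span {bR.repr f i}).annihilator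
    rw [Submodule.mem_annihilator_span_singleton]
    exact congrArg Subtype.val hmc
  · intro h0
    let κ := P.asIdeal.ResidueField
    let η : R₀ →ₐ[k] κ := ((IsScalarTower.toAlgHom k (R ⊗[k] A) κ).comp Algebra.TensorProduct.includeLeft).comp R₀.val
    let α : A →ₐ[k] κ := (IsScalarTower.toAlgHom k (R ⊗[k] A) κ).comp Algebra.TensorProduct.includeRight
    have hη : ∀ m : R₀, η m = 0 ↔ m ∈ q₀ := fun m => by
      show algebraMap (R ⊗[k] A) κ ((m : R) ⊗ₜ 1) = 0 ↔ (m : R) ∈ q
      rw [Ideal.algebraMap_residueField_eq_zero]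
      exact (SetLike.ext_iff.mp (congrArg PrimeSpectrum.asIdeal hPq) (m : R))
    let ηL : L →ₐ[k] κ := IsLocalization.liftAlgHom (M := q₀.primeCompl) (f := η)
      (fun m => isUnit_iff_ne_zero.mpr fun h => m.2 ((hη m).mp h))
    have hker : maximalIdeal L ≤ RingHom.ker ηL.toRingHom := by
      rw [← Localization.AtPrime.map_eq_maximalIdeal, Ideal.map_le_iff_le_comap]
      intro m hm
      show ηL (algebraMap R₀ L m) = 0
      simp only [ηL, IsLocalization.liftAlgHom_apply, IsLocalization.lift_eq]
      exact (hη m).mpr hm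
    let ηK : (L ⧸ maximalIdeal L) →ₐ[k] κ := Ideal.Quotient.liftₐ _ ηL fun a ha => hker ha
    let Φ := Algebra.TensorProduct.lift ηK α fun _ _ => Commute.all _ _
    have hcomp : (IsScalarTower.toAlgHom k (R ⊗[k] A) κ).comp ι =
        Φ.comp ((Algebra.TensorProduct.map (Ideal.Quotient.mkₐ k (maximalIdeal L)) (AlgHom.id k A)).comp t) := by
      ext m
      · simp [Φ, ι, t]
        rw [IsScalarTower.algebraMap_apply R₀ L (L ⧸ maximalIdeal L), Ideal.Quotient.algebraMap_eq]
        show algebraMap (R ⊗[k] A) κ ((m : R) ⊗ₜ[k] 1) = ηL (algebraMap R₀ L m)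
        simp only [ηL, IsLocalization.liftAlgHom_apply, IsLocalization.lift_eq]
        rfl
      · simp [Φ, α, ι, t]
    apply hgn
    rw [← Ideal.algebraMap_residueField_eq_zero]
    show (IsScalarTower.toAlgHom k (R ⊗[k] A) κ) h = 0
    rw [← hh₀, ← AlgHom.comp_apply, hcomp, AlgHom.comp_apply, AlgHom.comp_apply, h0, map_zero]

end Groth.Agent.S19310
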