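import Groth.Statements.S19315
import Groth.Agent.Lib.DecSh12.Curve
import Groth.Agent.Lib.VB17.Sub
import Groth.Agent.Lib.VB17.Duality
import Groth.Agent.Lib.KFlat.LpullPC
import Groth.Agent.Lib.CurveCoh17.Degree
import Groth.Agent.Lib.AbRigid.SmoothGI
-- import your own Groth.Agent.* helpers here

set_option autoImplicit false
set_option maxHeartbeats 1000000
set_option backward.isDefEq.respectTransparency false
universe u
open CategoryTheory CategoryTheory.Limits AlgebraicGeometry
open DecSh

namespace Groth.Agent.S19315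

/-- Let k be an algebraically closed field of characteristic zero, Y a smooth proper k-scheme of
dimension one without isolated points (possibly disconnected), L an ample invertible O_Y-module, χ
the Euler characteristic over k and α(M) = χ(M ⊗ L) − χ(M) the multiplicity. Let E be a locally free
O_Y-module of rank r with a generalized parabolic structure: finitely many effective Cartier ideal
sheaves I_1, …, I_ν (the divisors D_i) and, for each i, a k-subspace K_i of H⁰(E ⊗ O_{D_i}) whose
quotient has dimension r (K_i is the kernel of the parabolic quotient q_i). Fix rational weights κ_i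
with 0 < κ_i < 1, δ > 0, and a tensor field T of type (a, b) on E with values in a module D such
that (E, K, T) is (κ, δ)-semistable with respect to L. Then every nonzero proper coherent subsheaf F
⊂ E satisfies χ(F)/α(F) ≤ χ(E)/α(E) + (a·δ + r·ν). (The source states the bound for the slopes deg/α
with deg as the constant term of the Hilbert polynomial corrected by the rank; these differ from χ/α
by the same constant on both sides. The published target of the tensor field is det(E)^{⊗c} ⊗ L' and
the D_i are the pairs of points over the nodes; the bound uses neither.) -/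
theorem result
    (k : Type u) [Field k] [IsAlgClosed k] [CharZero k]
    (Y : Scheme.{u}) [Y.Over (Spec (CommRingCat.of k))] [IsProper (Y ↘ Spec (CommRingCat.of k))]
    [Smooth (Y ↘ Spec (CommRingCat.of k))] (hdim : topologicalKrullDim Y = 1)
    (hpure : ∀ y : Y, ¬ IsOpen ({y} : Set Y))
    (L : Y.Modules) (hL : CohB1.IsAmple L)
    (E : Y.Modules) (r : ℕ) (hE : FlatMod.IsFinLocFreeOfRank r E)
    {ν : ℕ} (I : Fin ν → Y.IdealSheafData) (hI : ∀ i, FGA.IsEffCartier (I i))
    (K : ∀ i, Submodule k (ParSh.fibD Y (I i) E))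
    (hK : ∀ i, Module.finrank k (ParSh.fibD Y (I i) E ⧸ K i) = r)
    (κ : Fin ν → ℚ) (hκ : ∀ i, 0 < κ i ∧ κ i < 1)
    {D : Y.Modules} {a b : ℕ} (T : DecSh.TF E a b D)
    (δ : ℚ) (hδ : 0 < δ) (hT : T.IsParSemistable k I K κ L δ)
    (F : Y.Modules) (ι : F ⟶ E) [Mono ι] (hF : Coh.IsCoh F) (hF0 : ¬ IsZero F) (hι : ¬ IsIso ι) :
    (Curv2.euler k Y F : ℚ) / (DecSh.mult k Y L F : ℚ) ≤
      (Curv2.euler k Y E : ℚ) / (DecSh.mult k Y L E : ℚ) + ((a : ℚ) * δ + (r : ℚ) * (ν : ℚ)) := by
  haveI := AbRigid.isReduced_of_smooth_over_field (Y ↘ Spec (CommRingCat.of k))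
  have hEc : Coh.IsCoh E := CurveCoh17.isCoh_of_ofRank hE
  have htf : TorSh.IsTorsionFree E := fun y => by
    haveI : Module.Flat (Y.presheaf.stalk y) (E.presheaf.stalk y) :=
      KFlat.Sch.isFlat_of_isFinLocFree (fun x => let ⟨U, hx, hU⟩ := hE x; ⟨U, r, hx, hU⟩) y
    infer_instance
  have hE0 : ¬ IsZero E := fun hz => hF0 (IsZero.of_mono ι hz)
  have hr : 0 < r := Nat.pos_of_ne_zero fun h => hE0 (DecSh12.isZero_rank_zero (h ▸ hE))
  let P : Subobject E := Subobject.mk ι
  let ei : (P : Y.Modules) ≅ F := Subobject.underlyingIso ι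
  have hP : P ≠ ⊤ := fun h => hι ((Subobject.isIso_iff_mk_eq_top ι).2 h)
  have hP0 : ¬ IsZero (P : Y.Modules) := fun hz => hF0 (hz.of_iso ei.symm)
  have hss := hT (DecSh.WFilt.single P hP hP0) fun _ => CohFound.isCoh_of_iso ei.symm hF
  have h := DecSh12.single_bound _ _ P hP hP0 _ _ _ δ hδ.le (DecSh12.mult_nonneg k hdim hL hEc) hss
  unfold DecSh.parChi at h
  simp only [DecSh12.mult_iso k ei, CurveCoh17.euler_iso ei] at h
  set sF : ℚ := ∑ i, κ i * (Module.finrank k ((LinearMap.range (ParSh.fibDMap k Y (I i) P.arrow)).map (K i).mkQ) : ℚ)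
  set sE : ℚ := ∑ i, κ i * (Module.finrank k ((LinearMap.range (ParSh.fibDMap k Y (I i) (𝟙 E))).map (K i).mkQ) : ℚ)
  have hsE : 0 ≤ sE := Finset.sum_nonneg fun i _ => mul_nonneg (hκ i).1.le (Nat.cast_nonneg _)
  have hsF : sF ≤ (r : ℚ) * ν := by
    refine (Finset.sum_le_sum (g := fun _ => (r : ℚ)) fun i _ => ?_).trans (by simp [mul_comm])
    haveI : Module.Finite k (ParSh.fibD Y (I i) E ⧸ K i) := Module.finite_of_finrank_pos (by rw [hK i]; exact hr)
    refine (mul_le_of_le_one_left (Nat.cast_nonneg _) (hκ i).2.le).trans ?_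
    rw [← hK i]
    exact_mod_cast Submodule.finrank_le _
  have hAE : (1 : ℚ) ≤ DecSh.mult k Y L E := by
    exact_mod_cast DecSh12.one_le_mult k hdim hL hpure hEc htf (𝟙 E) hEc hE0
  have hAF : (1 : ℚ) ≤ DecSh.mult k Y L F := by
    exact_mod_cast DecSh12.one_le_mult k hdim hL hpure hEc htf ι hF hF0
  have hpF : (0 : ℚ) < DecSh.mult k Y L F := lt_of_lt_of_le one_pos hAF
  have hpE : (0 : ℚ) < DecSh.mult k Y L E := lt_of_lt_of_le one_pos hAE
  have hda : (0 : ℚ) ≤ δ * (a : ℚ) := mul_nonneg hδ.le (Nat.cast_nonneg _)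
  have m1 := mul_nonneg hpF.le hsE
  have m2 := mul_le_mul_of_nonneg_left hsF hpE.le
  have m3 := mul_nonneg (mul_nonneg hda hpE.le) (sub_nonneg.2 hAF)
  have m4 := mul_nonneg hda hpF.le
  have m5 := mul_nonneg (mul_nonneg hpE.le (mul_nonneg (Nat.cast_nonneg r) (Nat.cast_nonneg ν))) (sub_nonneg.2 hAF)
  rw [div_add' _ _ _ (ne_of_gt hpE), div_le_div_iff₀ hpF hpE]
  nlinarith

end Groth.Agent.S19315
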