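import Groth.Statements.S19317
import Groth.Agent.Lib.Comp17.SectionalIff
-- import your own Groth.Agent.* helpers here

set_option autoImplicit false
universe u
open CategoryTheory CategoryTheory.Limits AlgebraicGeometry
open DecSh

namespace Groth.Agent.S19317

set_option backward.isDefEq.respectTransparency false
set_option maxHeartbeats 1000000

open Groth.Agent

/-- Let k be an algebraically closed field of characteristic zero, X a reduced proper k-scheme of
dimension one without isolated points, and L an ample invertible O_X-module which is moreover very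
ample relative to some projective space over k (the pull-back of O(1) along an immersion). Write χ
for the Euler characteristic over k, M(m) = M ⊗ L^{⊗m}, h⁰(M) = dim_k H⁰(X, M) and α(M) = χ(M ⊗ L) −
χ(M). Fix δ > 0, integers α and e, natural numbers a, b and a finite locally free O_X-module D. Then
there is N₀ such that for every m ≥ N₀, every coherent O_X-module E with torsion free stalks, α(E) =
α and χ(E) = e, and every tensor field T of type (a, b) on E with values in D, the following hold,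
all weighted filtrations (F•, m•) being by coherent subsheaves F_i with weights m_i and μ denoting
μ(F•, m•, φ): (1) T is δ-semistable with respect to L if and only if Σ_i m_i (α · h⁰(F_i(m)) −
α(F_i) · χ(E(m))) + δ μ ≤ 0 for every weighted filtration; (2) T is δ-semistable if and only if Σ_i
m_i (α(E/F_i) · χ(E(m)) − α · h⁰((E/F_i)(m))) + δ μ ≤ 0 for every weighted filtration; (3) if T is
δ-semistable then H¹(X, E(m)) = 0. (Only the semistable version of the published equivalence is
stated; the published setting is a reduced projective curve with a very ample polarisation and a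
locally free D, as here.) -/
theorem result
    (k : Type u) [Field k] [IsAlgClosed k] [CharZero k]
    (X : Scheme.{u}) [X.Over (Spec (CommRingCat.of k))] [IsProper (X ↘ Spec (CommRingCat.of k))]
    [AlgebraicGeometry.IsReduced X] (hdim : topologicalKrullDim X = 1)
    (hpure : ∀ x : X, ¬ IsOpen ({x} : Set X))
    (L : X.Modules) (hL : CohB1.IsAmple L) (hva : RelAmple.IsRelVeryAmplePn (X ↘ Spec (CommRingCat.of k)) L)
    (δ : ℚ) (hδ : 0 < δ) (α e : ℤ) (a b : ℕ) (D : X.Modules) (hD : FlatMod.IsFinLocFree D) :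
    ∃ N₀ : ℕ, ∀ m : ℕ, N₀ ≤ m → ∀ (E : X.Modules), Coh.IsCoh E → TorSh.IsTorsionFree E →
      DecSh.mult k X L E = α → Curv2.euler k X E = e → ∀ T : DecSh.TF E a b D,
        (T.IsSemistable k L δ ↔
          ∀ 𝓕 : DecSh.WFilt E, (∀ i, Coh.IsCoh ((𝓕.piece i : Subobject E) : X.Modules)) →
            (∑ i, 𝓕.wt i * ((α : ℚ) *
                (Module.finrank k (Coh.HH X (ShStab.twist X L ((𝓕.piece i : Subobject E) : X.Modules) m) 0) : ℚ) -
              (DecSh.mult k X L ((𝓕.piece i : Subobject E) : X.Modules) : ℚ) *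
                (Curv2.euler k X (ShStab.twist X L E m) : ℚ))) + δ * T.mu k L 𝓕 ≤ 0) ∧
        (T.IsSemistable k L δ ↔
          ∀ 𝓕 : DecSh.WFilt E, (∀ i, Coh.IsCoh ((𝓕.piece i : Subobject E) : X.Modules)) →
            (∑ i, 𝓕.wt i * ((DecSh.mult k X L (cokernel (𝓕.piece i).arrow) : ℚ) *
                (Curv2.euler k X (ShStab.twist X L E m) : ℚ) -
              (α : ℚ) * (Module.finrank k (Coh.HH X (ShStab.twist X L (cokernel (𝓕.piece i).arrow) m) 0) : ℚ))) +
              δ * T.mu k L 𝓕 ≤ 0) ∧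
        (T.IsSemistable k L δ → Subsingleton (Coh.HH X (ShStab.twist X L E m) 1)) := by
  haveI : Infinite k := IsAlgClosed.instInfinite
  obtain ⟨N₀, h⟩ := Comp17.exists_sectional (k := k) hdim hpure hL hva hδ α e a b D
  obtain ⟨N₁, K, hK⟩ := Comp17.exists_sectional_bound (k := k) hdim hpure hL hva hδ α e a b D
  obtain ⟨N₂, hN₂⟩ := Comp17.exists_h1_vanish (k := k) hdim hpure hL hva K α.natAbs e.natAbs
  refine ⟨max N₀ (max N₁ N₂), fun m hm E hE ht hα he T => ?_⟩
  have hm0 : N₀ ≤ m := (le_max_left _ _).trans hm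
  have hαq : Comp17.a k L E = (α : ℚ) := by rw [← Comp17.mult_cast, hα]
  have heq : Comp17.e k E = (e : ℚ) := by rw [Comp17.e, he]
  have hEm : (Curv2.euler k X (ShStab.twist X L E m) : ℚ) = (e : ℚ) + m * α := by
    rw [Comp17.euler_twist_eq (k := k) hdim hL.1 hE m, hαq, heq]
  have hpos : ∀ 𝓕 : DecSh.WFilt E, 0 ≤ (α : ℚ) := fun 𝓕 => by
    rw [← hαq]; exact Comp17.a_nonneg (k := k) hdim hL hE
  refine ⟨⟨fun hT 𝓕 h𝓕 => ((h m hm0 E hE ht hα he T hT).2 𝓕 h𝓕).1, fun hsec 𝓕 h𝓕 => ?_⟩,
    ⟨fun hT 𝓕 h𝓕 => le_trans (add_le_add ?_ le_rfl) (hT 𝓕 h𝓕), fun hsec 𝓕 h𝓕 => ?_⟩,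
    fun hT => (h m hm0 E hE ht hα he T hT).1⟩
  · refine le_trans (add_le_add ?_ le_rfl) (hsec 𝓕 h𝓕)
    refine Finset.sum_le_sum fun i _ => mul_le_mul_of_nonneg_left ?_ (𝓕.wt_pos i).le
    have h1 := Comp17.h0_ge_euler (k := k) hdim (Comp17.isCoh_twist (k := k) hdim hL.1 (h𝓕 i) m)
    rw [Comp17.euler_twist_eq (k := k) hdim hL.1 (h𝓕 i) m] at h1
    have h2 := mul_le_mul_of_nonneg_left h1 (hpos 𝓕)
    rw [hEm, he, hα, Comp17.mult_cast]
    rw [Comp17.e] at h2
    linarith
  · refine Finset.sum_le_sum fun i _ => mul_le_mul_of_nonneg_left ?_ (𝓕.wt_pos i).le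
    obtain ⟨hQ, heQ, haQ⟩ := Comp17.vals_coker (k := k) hdim hL.1 (h𝓕 i) hE (𝓕.piece i).arrow
    have h1 := Comp17.h0_ge_euler (k := k) hdim (Comp17.isCoh_twist (k := k) hdim hL.1 hQ m)
    rw [Comp17.euler_twist_eq (k := k) hdim hL.1 hQ m] at h1
    have h2 := mul_le_mul_of_nonneg_left h1 (hpos 𝓕)
    rw [hαq] at haQ
    rw [heq] at heQ
    rw [hEm, he, hα, Comp17.mult_cast, Comp17.mult_cast,
      show Comp17.a k L (cokernel (𝓕.piece i).arrow) = (α : ℚ) - Comp17.a k L (𝓕.piece i : X.Modules) by linarith]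
    rw [show Comp17.a k L (cokernel (𝓕.piece i).arrow) = (α : ℚ) - Comp17.a k L (𝓕.piece i : X.Modules) by linarith,
      show Comp17.e k (cokernel (𝓕.piece i).arrow) = (e : ℚ) - Comp17.e k (𝓕.piece i : X.Modules) by linarith] at h2
    rw [Comp17.e] at h2
    linarith
  · have hsub := hK E hE ht hα he T (Or.inr ⟨m, ((le_max_left _ _).trans (le_max_right _ _)).trans hm, hsec⟩)
    have hv := hN₂ E hE ht (by rw [hαq, ← Int.cast_natCast, Int.natCast_natAbs, Int.cast_abs])
      (by rw [heq, ← Int.cast_natCast, Int.natCast_natAbs, Int.cast_abs]; exact neg_abs_le _) hsub m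
      (((le_max_right _ _).trans (le_max_right _ _)).trans hm)
    refine le_of_eq_of_le ?_ (hsec 𝓕 h𝓕)
    congr 1
    refine Finset.sum_congr rfl fun i _ => ?_
    obtain ⟨hQ, heQ, haQ⟩ := Comp17.vals_coker (k := k) hdim hL.1 (h𝓕 i) hE (𝓕.piece i).arrow
    have h1 := Comp17.h0_eq_euler (k := k) hdim (Comp17.isCoh_twist (k := k) hdim hL.1 hQ m)
      (Comp17.h1_twist_coker (k := k) hdim hL.1 (h𝓕 i) hE (𝓕.piece i).arrow m hv)
    have h1' : (Module.finrank k (Coh.HH X (ShStab.twist X L (cokernel (𝓕.piece i).arrow) m) 0) : ℚ) =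
        (Curv2.euler k X (ShStab.twist X L (cokernel (𝓕.piece i).arrow) m) : ℚ) := by exact_mod_cast h1
    rw [hαq] at haQ
    rw [heq] at heQ
    rw [h1', Comp17.euler_twist_eq (k := k) hdim hL.1 hQ m, hEm, he, hα, Comp17.mult_cast, Comp17.mult_cast,
      show Comp17.a k L (cokernel (𝓕.piece i).arrow) = (α : ℚ) - Comp17.a k L (𝓕.piece i : X.Modules) by linarith,
      show Comp17.e k (cokernel (𝓕.piece i).arrow) = (e : ℚ) - Comp17.e k (𝓕.piece i : X.Modules) by linarith,
      Comp17.e]
    ring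

end Groth.Agent.S19317
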