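import Groth.Statements.S19322
import Groth.Agent.Lib.LenSS8.Basic

set_option autoImplicit false
universe v u
open CategoryTheory CategoryTheory.Limits
open SpSeq

namespace Groth.Agent.S19322

open Groth.Agent.LenSS8 Groth.Agent.SpSeqEasy8

theorem fl_of_finite {K : Type u} [Field K] (X : ModuleCat.{v} K) (h : Module.Finite K X) : IsFiniteLength K X :=
  isFiniteLength_iff_isNoetherian_isArtinian.2 ⟨inferInstance, inferInstance⟩

theorem len_eq_finrank {K : Type u} [Field K] (X : ModuleCat.{v} K) (h : Module.Finite K X) :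
    len X = Module.finrank K X := by
  rw [len, Module.length_eq_finrank, ENat.toNat_natCast]

theorem len_fil {A : Type u} [Ring A] {r₀ : ℤ} {E : CohomologicalSpectralSequence (ModuleCat.{v} A) r₀}
    {H : ℤ → ModuleCat.{v} A} (a : SpSeq.Abutment E H) (n B : ℤ) (hB : a.fil n B = ⊥)
    (hH : IsFiniteLength A (H n)) (k : ℕ) :
    len (a.fil n (B - k) : ModuleCat.{v} A) =
      ∑ p ∈ Finset.Ico (B - k) B, len ((E.page (a.rk (p, n - p)) (a.stat (p, n - p)).1).X (p, n - p)) := by
  induction k with
  | zero =>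
    rw [Nat.cast_zero, sub_zero, Finset.Ico_self, Finset.sum_empty, hB]
    exact len_isZero ((isZero_zero _).of_iso Subobject.botCoeIsoZero)
  | succ k ih =>
    let p : ℤ := B - ((k + 1 : ℕ) : ℤ)
    have hp : p + 1 = B - (k : ℤ) := by simp only [p]; push_cast; ring
    obtain ⟨g⟩ : Nonempty ((E.page (a.rk (p, n - p)) (a.stat (p, n - p)).1).X (p, n - p) ≅
        SpSeq.grPiece (a.fil n) (a.anti n) p) := by
      have e : ∀ m, m = n → Nonempty ((E.page (a.rk (p, n - p)) (a.stat (p, n - p)).1).X (p, n - p) ≅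
          SpSeq.grPiece (a.fil m) (a.anti m) p) → Nonempty ((E.page (a.rk (p, n - p)) (a.stat (p, n - p)).1).X (p, n - p) ≅
          SpSeq.grPiece (a.fil n) (a.anti n) p) := by rintro m rfl h; exact h
      exact e _ (add_sub_cancel p n) ⟨a.β (p, n - p)⟩
    let ι := (a.fil n (p + 1)).ofLE (a.fil n p) (a.anti n (Int.le_add_one le_rfl))
    have hS : (ShortComplex.mk ι (cokernel.π ι) (cokernel.condition ι)).ShortExact :=
      { exact := ShortComplex.exact_cokernel ι }
    have e := len_ses _ hS (fl_mono (a.fil n p).arrow hH)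
    change len (a.fil n p : ModuleCat.{v} A) = ∑ i ∈ Finset.Ico p B, _
    rw [show Finset.Ico p B = insert p (Finset.Ico (p + 1) B) from by
        ext i; simp only [Finset.mem_Ico, Finset.mem_insert]; omega,
      Finset.sum_insert (by simp), len_iso g]
    rw [← hp] at ih
    rw [← ih]
    exact e.trans (add_comm _ _)



/-- Let K be a field and E a cohomological spectral sequence of K-vector spaces, pages from r₀,
concentrated in the first quadrant on page r₀ and with all terms of page r₀ finite-dimensional, and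
let H be abutment data for E whose filtration in degree n is finite, H n finite-dimensional. If the
dimensions of the page-r₀ terms E^{s, n-s}, 0 ≤ s ≤ n, add up to the dimension of H n, then every
position of total degree n is stationary from page r₀ on: all differentials into and out of it
vanish on every page. (The printed statement takes r₀ a positive integer and n ≥ 0; neither
restriction is needed.) -/
theorem result
    {K : Type u} [Field K] {r₀ : ℤ}
    (E : CohomologicalSpectralSequence (ModuleCat.{v} K) r₀) (H : ℤ → ModuleCat.{v} K)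
    (a : SpSeq.Abutment E H) (n : ℤ) (hfin : a.IsFinite n)
    (hquad : ∀ pq : ℤ × ℤ, pq.1 < 0 ∨ pq.2 < 0 → IsZero ((E.page r₀ le_rfl).X pq))
    (hfd : ∀ pq : ℤ × ℤ, Module.Finite K ((E.page r₀ le_rfl).X pq))
    (hH : Module.Finite K (H n))
    (hsum : ∑ s ∈ Finset.Icc (0 : ℤ) n, Module.finrank K ((E.page r₀ le_rfl).X (s, n - s)) =
      Module.finrank K (H n)) :
    ∀ s : ℤ, SpSeq.StationaryAt E (s, n - s) r₀ := by
  intro s
  refine ⟨le_rfl, fun r hr _ => ?_⟩
  by_cases hs : s < 0 ∨ n - s < 0
  · have hz := isZero_page r₀ le_rfl (s, n - s) (hquad _ hs) r hr hr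
    exact ⟨hz.eq_of_tgt _ _, hz.eq_of_src _ _⟩
  have hs' : 0 ≤ s ∧ s ≤ n := by omega
  have hfl : ∀ pq, IsFiniteLength K ((E.page r₀ le_rfl).X pq) := fun pq => fl_of_finite _ (hfd pq)
  have hHf : IsFiniteLength K (H n) := fl_of_finite _ hH
  let L : ℤ → ℕ := fun p => len ((E.page (a.rk (p, n - p)) (a.stat (p, n - p)).1).X (p, n - p))
  have hz : ∀ p : ℤ, p < 0 ∨ n < p → a.fil n p = a.fil n (p + 1) := fun p hp =>
    fil_eq_succ a n p r₀ le_rfl (hquad _ (hp.imp id fun h => by show n - p < 0; omega))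
  obtain ⟨⟨b, hb⟩, ⟨c, hc⟩⟩ := hfin
  change a.fil n b = ⊤ at hb
  change a.fil n c = ⊥ at hc
  have ht : a.fil n 0 = ⊤ := by
    rcases le_total 0 b with h | h
    · exact top_le_iff.1 (hb ▸ a.anti n h)
    · rw [← eq_of_steps (a.fil n) h (fun i _ hi => hz i (Or.inl hi)), hb]
  have hbot : a.fil n (n + 1) = ⊥ := by
    rcases le_total c (n + 1) with h | h
    · exact le_bot_iff.1 (hc ▸ a.anti n h)
    · rw [eq_of_steps (a.fil n) h (fun i hi _ => hz i (Or.inr (by omega))), hc]
  have hsumL : ∑ p ∈ Finset.Icc (0 : ℤ) n, L p = Module.finrank K (H n) := by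
    have e := len_fil a n (n + 1) hbot hHf (n + 1).toNat
    rw [show n + 1 - ((n + 1).toNat : ℤ) = 0 by omega, ht,
      show Finset.Ico (0 : ℤ) (n + 1) = Finset.Icc 0 n by ext i; simp only [Finset.mem_Ico, Finset.mem_Icc]; omega] at e
    exact e.symm.trans ((len_iso (asIso (⊤ : Subobject (H n)).arrow)).trans (len_eq_finrank _ hH))
  have hle : ∀ p, ∀ (k : ℤ) (hk : r₀ ≤ k), L p ≤ len ((E.page k hk).X (p, n - p)) := by
    intro p k hk
    refine le_trans (le_of_eq ?_) (len_antitone E k hk (p, n - p) (hfl _) (a.rk (p, n - p) +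
      ((max k (a.rk (p, n - p)) - a.rk (p, n - p)).toNat : ℤ)) (SpSeqMor.page_le (a.stat _).1 _) (by omega))
    exact (len_iso (SpSeqMor.statXIso E (p, n - p) (a.rk (p, n - p)) (a.stat _) _)).symm
  have key : L s = len ((E.page r₀ le_rfl).X (s, n - s)) := by
    refine ((Finset.sum_eq_sum_iff_of_le (fun p _ => hle p r₀ le_rfl)).1 ?_ s (Finset.mem_Icc.2 hs'))
    rw [hsumL, ← hsum]
    exact Finset.sum_congr rfl fun p _ => (len_eq_finrank _ (hfd _)).symm
  refine d_eq_zero E r hr (s, n - s) (hfl _) ?_ (hfl _)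
  exact (len_antitone E r₀ le_rfl _ (hfl _) r hr hr).trans (key ▸ hle s (r + 1) _)


end Groth.Agent.S19322
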