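import Groth.Statements.S19323
import Groth.Agent.Lib.SpSeqEasy8.Basic

set_option autoImplicit false
universe v u
open CategoryTheory CategoryTheory.Limits
open SpSeq

namespace Groth.Agent.S19323
open CategoryTheory CategoryTheory.Limits



/-- In an abelian category let E and E' be first-quadrant E₂ cohomological spectral sequences and φ : E
⟶ E' a morphism of spectral sequences such that (i) every differential of E' leaving a position
whose first coordinate is nonzero vanishes, (ii) on every page the map φ at each position followed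
by the outgoing differential of E' is zero, and (iii) φ is a monomorphism at every position of page
2. Then E degenerates at page 2. -/
theorem result
    {C : Type u} [Category.{v} C] [Abelian C]
    (E E' : E₂CohomologicalSpectralSequence C) (φ : E ⟶ E')
    (hE : ∀ pq : ℤ × ℤ, pq.1 < 0 ∨ pq.2 < 0 → IsZero ((E.page 2 le_rfl).X pq))
    (hE' : ∀ pq : ℤ × ℤ, pq.1 < 0 ∨ pq.2 < 0 → IsZero ((E'.page 2 le_rfl).X pq))
    (hd' : ∀ (r : ℤ) (hr : 2 ≤ r) (pq : ℤ × ℤ), pq.1 ≠ 0 →
      (E'.page r hr).d pq (pq + (r, 1 - r)) = 0)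
    (hφd : ∀ (r : ℤ) (hr : 2 ≤ r) (pq : ℤ × ℤ),
      (φ.hom r hr).f pq ≫ (E'.page r hr).d pq (pq + (r, 1 - r)) = 0)
    (hmono : ∀ pq : ℤ × ℤ, Mono ((φ.hom 2 le_rfl).f pq)) :
    SpSeq.Degenerates E 2 := by
  have hmain : ∀ (k : ℕ) (r : ℤ) (hr : 2 ≤ r), r = 2 + k →
      (∀ pq : ℤ × ℤ, r ≤ pq.1 → Mono ((φ.hom r hr).f pq)) ∧
      (∀ pq pq' : ℤ × ℤ, (E.page r hr).d pq pq' = 0) := by
    intro k
    induction k with
    | zero =>
      intro r hr e
      obtain rfl : r = 2 := by simpa using e
      refine ⟨fun pq _ => hmono pq, fun pq pq' => ?_⟩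
      by_cases h : (ComplexShape.up' ((2 : ℤ), (1 : ℤ) - 2)).Rel pq pq'
      · obtain rfl : pq + ((2 : ℤ), (1 : ℤ) - 2) = pq' := h
        haveI := hmono (pq + ((2 : ℤ), (1 : ℤ) - 2))
        rw [← cancel_mono ((φ.hom 2 le_rfl).f (pq + ((2 : ℤ), (1 : ℤ) - 2))), zero_comp, ← HomologicalComplex.Hom.comm]
        exact hφd 2 le_rfl pq
      · exact HomologicalComplex.shape _ _ _ h
    | succ k ih =>
      intro r hr e
      obtain ⟨s, rfl⟩ : ∃ s, r = s + 1 := ⟨r - 1, by omega⟩
      push_cast at e
      have hs : (2 : ℤ) ≤ s := by omega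
      obtain ⟨hm, hd⟩ := ih s hs (by omega)
      have hm' : ∀ pq : ℤ × ℤ, s + 1 ≤ pq.1 → Mono ((φ.hom (s + 1) hr).f pq) := by
        intro pq hpq
        haveI := hm pq (by omega)
        have hd0 : ∀ j, (E'.page s hs).d j pq = 0 := fun j => by
          by_cases h : (ComplexShape.up' (s, 1 - s)).Rel j pq
          · obtain rfl : j + (s, 1 - s) = pq := h
            exact hd' s (by omega) j (by
              have : (j + (s, 1 - s)).1 = j.1 + s := rfl
              omega)
          · exact HomologicalComplex.shape _ _ _ h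
        haveI : IsIso ((E'.page s hs).homologyπ pq) :=
          (E'.page s hs).isIso_homologyπ _ pq rfl (hd0 _)
        haveI : IsIso ((E.page s hs).homologyπ pq) :=
          (E.page s hs).isIso_homologyπ _ pq rfl (hd _ _)
        haveI : Mono (HomologicalComplex.cyclesMap (φ.hom s hs) pq) :=
          mono_of_mono_fac (HomologicalComplex.cyclesMap_i (φ.hom s hs) pq)
        haveI : Mono (HomologicalComplex.homologyMap (φ.hom s hs) pq) := by
          have e' : HomologicalComplex.homologyMap (φ.hom s hs) pq =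
              inv ((E.page s hs).homologyπ pq) ≫ HomologicalComplex.cyclesMap (φ.hom s hs) pq ≫
                (E'.page s hs).homologyπ pq := by
            rw [← HomologicalComplex.homologyπ_naturality, IsIso.inv_hom_id_assoc]
          rw [e']
          infer_instance
        have e'' : (φ.hom (s + 1) hr).f pq = (E.iso s (s + 1) pq rfl hs).inv ≫
            HomologicalComplex.homologyMap (φ.hom s hs) pq ≫ (E'.iso s (s + 1) pq rfl hs).hom := by
          rw [φ.comm s (s + 1) pq rfl hs, Iso.inv_hom_id_assoc]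
        rw [e'']
        infer_instance
      refine ⟨hm', fun pq pq' => ?_⟩
      by_cases h : (ComplexShape.up' (s + 1, 1 - (s + 1))).Rel pq pq'
      · obtain rfl : pq + (s + 1, 1 - (s + 1)) = pq' := h
        by_cases h1 : pq.1 < 0
        · exact (Groth.Agent.SpSeqEasy8.isZero_page 2 le_rfl pq (hE pq (Or.inl h1)) (s + 1) hr (by omega)).eq_of_src _ _
        haveI := hm' (pq + (s + 1, 1 - (s + 1))) (by
          have : (pq + (s + 1, 1 - (s + 1))).1 = pq.1 + (s + 1) := rfl
          omega)
        rw [← cancel_mono ((φ.hom (s + 1) hr).f (pq + (s + 1, 1 - (s + 1)))), zero_comp, ← HomologicalComplex.Hom.comm]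
        exact hφd (s + 1) hr pq
      · exact HomologicalComplex.shape _ _ _ h
  exact ⟨le_rfl, fun r h₀ _ => (hmain (r - 2).toNat r h₀ (by omega)).2⟩


end Groth.Agent.S19323
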