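import Groth.Statements.S19326
import Groth.Agent.Lib.WeightH28.Basic

set_option autoImplicit false
universe u
open TensorProduct
open GLin

namespace Groth.Agent.S19326

/-- Let k be a field, M a finite abelian group and D = Spec k[M] the finite diagonalizable group scheme
it defines, acting on an affine k-scheme U = Spec R through a multiplicative coaction R → R ⊗ k[M];
write R_a for the weight space of a ∈ M (elements with coaction f ⊗ a). For an ideal J of R the
induced action of D on the closed subscheme V(J) is trivial, meaning that the coaction followed by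
reduction modulo J equals f ↦ (f mod J) ⊗ 1, exactly when J contains the ideal generated by the
weight spaces R_a for a ≠ 0; in other words that ideal defines the largest closed subscheme of U on
which D acts trivially. (The printed setting has U smooth, which plays no role here and is not
assumed; the further assertion that the construction commutes with flat base change on U/D is not
part of this statement.) -/
theorem result
    {k : Type u} [Field k] {M : Type u} [AddCommGroup M] [Finite M]
    {R : Type u} [CommRing R] [Algebra k R] [HopfRep.Comod k (AddMonoidAlgebra k M) R]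
    [GLin.IsCoactAlg k (AddMonoidAlgebra k M) R] (J : Ideal R) :
    (∀ f : R, LinearMap.rTensor (AddMonoidAlgebra k M) (Ideal.Quotient.mkₐ k J).toLinearMap
        (HopfRep.Comod.coact (k := k) (A := AddMonoidAlgebra k M) f) =
        (Ideal.Quotient.mk J f) ⊗ₜ[k] (1 : AddMonoidAlgebra k M)) ↔
      Ideal.span (⋃ (a : M) (_ : a ≠ 0),
        (HopfRep.eigenspace k (AddMonoidAlgebra k M) R (AddMonoidAlgebra.single a 1) : Set R)) ≤ J := by
  classical
  rw [Ideal.span_le]
  constructor
  · intro h f hf
    simp only [Set.mem_iUnion] at hf
    obtain ⟨a, ha, hfa⟩ := hf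
    have h1 := h f
    rw [show HopfRep.Comod.coact (k := k) (A := AddMonoidAlgebra k M) f = f ⊗ₜ[k] AddMonoidAlgebra.single a 1 from hfa] at h1
    have h2 := congrArg (WeightH28.coef a) h1
    rw [LinearMap.rTensor_tmul, AddMonoidAlgebra.one_def, WeightH28.coef_tmul_single, WeightH28.coef_tmul_single,
      if_pos rfl, if_neg (Ne.symm ha), one_smul] at h2
    exact Ideal.Quotient.eq_zero_iff_mem.1 h2
  · intro h f
    obtain ⟨s, -, hsum, hco⟩ := WeightH28.exists_sum_part (k := k) (M := M) f
    rw [hco, map_sum]
    conv_rhs => rw [← hsum, map_sum, TensorProduct.sum_tmul]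
    refine Finset.sum_congr rfl fun b _ => ?_
    rw [LinearMap.rTensor_tmul]
    by_cases hb : b = 0
    · subst hb; rfl
    · have hmem : WeightH28.part k b f ∈ J :=
        h (Set.mem_iUnion.2 ⟨b, Set.mem_iUnion.2 ⟨hb, WeightH28.part_mem b f⟩⟩)
      rw [show (Ideal.Quotient.mkₐ k J).toLinearMap (WeightH28.part k b f) = 0 from
        Ideal.Quotient.eq_zero_iff_mem.2 hmem, Ideal.Quotient.eq_zero_iff_mem.2 hmem, TensorProduct.zero_tmul,
        TensorProduct.zero_tmul]

end Groth.Agent.S19326
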