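import Groth.Statements.S19328


set_option autoImplicit false
universe u
open CategoryTheory CategoryTheory.Limits AlgebraicGeometry
open ModPair

namespace Groth.Agent.S19328

open Polynomial in
theorem exists_root_of_monic (A : Type u) [CommRing A]
    (hloc : ∀ (X : Scheme.{u}) (R : Presieve X),
      R ∈ Scheme.precoverage (@Flat ⊓ @LocallyOfFinitePresentation ⊓ @QuasiCompact ⊓ @QuasiSeparated) X →
      ∀ g : Spec (CommRingCat.of A) ⟶ X,
        ∃ (Y : Scheme.{u}) (v : Y ⟶ X) (h : Spec (CommRingCat.of A) ⟶ Y), R v ∧ h ≫ v = g)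
    (q : A[X]) (hq : q.Monic) (hd : 0 < q.natDegree) : ∃ r, q.IsRoot r := by
  let B := AdjoinRoot q
  let φ : CommRingCat.of A ⟶ CommRingCat.of B := CommRingCat.ofHom (algebraMap A B)
  have : Module.Finite A B := .of_basis (AdjoinRoot.powerBasis' hq).basis
  have : Module.Free A B := .of_basis (AdjoinRoot.powerBasis' hq).basis
  have : Algebra.FinitePresentation A B := inferInstance
  have hinj : Function.Injective (algebraMap A B) := by
    rw [RingHom.injective_iff_ker_eq_bot, ← le_bot_iff]
    intro a ha
    have h1 : AdjoinRoot.mk q (C a) = 0 := ha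
    rw [AdjoinRoot.mk_eq_zero] at h1
    by_contra h
    have := hq.not_dvd_of_degree_lt (by simpa using h) ((degree_C_le).trans_lt (natDegree_pos_iff_degree_pos.mp hd)) 
    exact this h1
  have : Nontrivial A := ⟨⟨0, 1, fun h => by
    have := subsingleton_of_zero_eq_one h
    simp [Subsingleton.elim q 0] at hd⟩⟩
  have : Nontrivial B := hinj.nontrivial
  have hs : Surjective (Spec.map φ) := ⟨PrimeSpectrum.comap_surjective_of_faithfullyFlat⟩
  have hmem : Presieve.singleton (Spec.map φ) ∈
      Scheme.precoverage (@Flat ⊓ @LocallyOfFinitePresentation ⊓ @QuasiCompact ⊓ @QuasiSeparated) _ := by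
    rw [Scheme.singleton_mem_precoverage_iff]
    refine ⟨hs.surj, ⟨⟨⟨Flat.SpecMap_iff.mpr (RingHom.flat_algebraMap_iff.mpr inferInstance), ?_⟩, inferInstance⟩, inferInstance⟩⟩
    exact (HasRingHomProperty.Spec_iff (P := @LocallyOfFinitePresentation)).mpr
      (RingHom.finitePresentation_algebraMap.mpr inferInstance)
  obtain ⟨Y, v, h, hv, hh⟩ := hloc _ _ hmem (𝟙 _)
  cases hv
  obtain ⟨ψ, rfl⟩ := Spec.map_surjective h
  rw [← Spec.map_comp, ← Spec.map_id] at hh
  have e := Spec.map_injective hh
  refine ⟨ψ.hom (AdjoinRoot.root q), ?_⟩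
  have hc : ψ.hom.comp (algebraMap A B) = RingHom.id A := congrArg CommRingCat.Hom.hom e
  have h0 := congrArg ψ.hom (AdjoinRoot.eval₂_root q)
  rw [map_zero, Polynomial.hom_eval₂, show ψ.hom.comp (AdjoinRoot.of q) = RingHom.id A from hc] at h0
  exact h0

/-- Let A be a commutative ring such that Spec A is local for fppf coverings, in the sense that for
every scheme X, every jointly surjective family of morphisms to X each of which is flat and of
finite presentation (locally of finite presentation, quasi-compact and quasi-separated), and every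
morphism Spec A ⟶ X, the morphism factors through a member of the family. Then the residue field of
A at every prime ideal is algebraically closed. -/
theorem result (A : Type u) [CommRing A]
    (hloc : ∀ (X : Scheme.{u}) (R : Presieve X),
      R ∈ Scheme.precoverage (@Flat ⊓ @LocallyOfFinitePresentation ⊓ @QuasiCompact ⊓ @QuasiSeparated) X →
      ∀ g : Spec (CommRingCat.of A) ⟶ X,
        ∃ (Y : Scheme.{u}) (v : Y ⟶ X) (h : Spec (CommRingCat.of A) ⟶ Y), R v ∧ h ≫ v = g)
    (p : Ideal A) [p.IsPrime] : IsAlgClosed p.ResidueField := by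
  apply IsAlgClosed.of_exists_root
  intro f hf hirr
  obtain ⟨b, hb⟩ := IsLocalization.exist_integer_multiples (nonZeroDivisors (A ⧸ p))
    (Finset.range (f.natDegree + 1)) (fun i => f.coeff i)
  obtain ⟨s, hs⟩ := Ideal.Quotient.mk_surjective (b : A ⧸ p)
  set κ := p.ResidueField
  have hs0 : algebraMap A κ s ≠ 0 := by
    rw [Ne, Ideal.algebraMap_residueField_eq_zero, ← Ideal.Quotient.eq_zero_iff_mem, hs]
    exact nonZeroDivisors.coe_ne_zero b
  have hl : f.scaleRoots (algebraMap A κ s) ∈ Polynomial.lifts (algebraMap A κ) := by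
    rw [Polynomial.lifts_iff_coeffs_subset_range]
    intro c hc
    obtain ⟨i, hi, rfl⟩ := Polynomial.mem_coeffs_iff.mp hc
    rw [Polynomial.coeff_scaleRoots]
    rw [Polynomial.mem_support_iff, Polynomial.coeff_scaleRoots] at hi
    by_cases hlt : i < f.natDegree
    · obtain ⟨t, ht⟩ := hb i (Finset.mem_range.mpr (by omega))
      obtain ⟨t, rfl⟩ := Ideal.Quotient.mk_surjective t
      refine ⟨t * s ^ (f.natDegree - i - 1), ?_⟩
      have ht' : algebraMap A κ t = algebraMap A κ s * f.coeff i := by
        rw [IsScalarTower.algebraMap_apply A (A ⧸ p) κ, IsScalarTower.algebraMap_apply A (A ⧸ p) κ,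
          Ideal.Quotient.algebraMap_eq, hs, ← Algebra.smul_def]
        exact ht
      rw [map_mul, map_pow, ht']
      conv_rhs => rw [show f.natDegree - i = (f.natDegree - i - 1) + 1 by omega, pow_succ]
      ring
    · refine ⟨1, ?_⟩
      have : i = f.natDegree := by
        by_contra h
        exact hi (by rw [Polynomial.coeff_eq_zero_of_natDegree_lt (by omega), zero_mul])
      subst this
      simp [hf.leadingCoeff, Polynomial.coeff_natDegree]
  obtain ⟨g, hg, hdeg, hgm⟩ := Polynomial.lifts_and_natDegree_eq_and_monic hl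
    ((Polynomial.monic_scaleRoots_iff _).mpr hf)
  obtain ⟨r, hr⟩ := exists_root_of_monic A hloc g hgm
    (by rw [hdeg, Polynomial.natDegree_scaleRoots]; exact hirr.natDegree_pos)
  refine ⟨(algebraMap A κ r) / algebraMap A κ s, ?_⟩
  have h1 : (f.scaleRoots (algebraMap A κ s)).eval (algebraMap A κ r) = 0 := by
    rw [← hg, Polynomial.eval_map, Polynomial.eval₂_at_apply, hr, map_zero]
  have h2 := Polynomial.scaleRoots_eval₂_mul (RingHom.id κ) ((algebraMap A κ r) / algebraMap A κ s) (algebraMap A κ s) (p := f)
  rw [Polynomial.eval₂_id, RingHom.id_apply, mul_div_cancel₀ _ hs0, h1, Polynomial.eval₂_id] at h2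
  exact (mul_eq_zero.mp h2.symm).resolve_left (pow_ne_zero _ hs0)

end Groth.Agent.S19328
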