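import Groth.Statements.S19329
import Groth.Agent.Lib.EffCartier.Mul

set_option autoImplicit false
universe u
open CategoryTheory CategoryTheory.Limits AlgebraicGeometry TopologicalSpace
open ModPair

namespace Groth.Agent.S19329

/-- Let (X, I), (Y, J), (Z, K) be modulus pairs, i.e. schemes with quasi-coherent ideal sheaves of
effective Cartier divisors, and let f : X ⟶ Y and g : Y ⟶ Z satisfy the modulus conditions I ≤
J.comap f and J ≤ K.comap g. Suppose the composite X ⟶ Z is minimal, I = K.comap (f ≫ g). Then f is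
minimal, and there is an open subset U of Y whose inclusion is quasi-compact, which contains the
image of f, and such that U ⟶ Z is minimal for the modulus of Y restricted to U. -/
theorem result {X Y Z : Scheme.{u}}
    (I : X.IdealSheafData) (J : Y.IdealSheafData) (K : Z.IdealSheafData)
    (hI : BlowUp.IsEffCartierIdeal I) (hJ : BlowUp.IsEffCartierIdeal J)
    (hK : BlowUp.IsEffCartierIdeal K) (f : X ⟶ Y) (g : Y ⟶ Z)
    (hf : ModPair.IsAmbient I J f) (hg : ModPair.IsAmbient J K g)
    (hfg : ModPair.IsMinimal I K (f ≫ g)) :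
    ModPair.IsMinimal I J f ∧
      ∃ U : Y.Opens, QuasiCompact U.ι ∧ Set.range f.base ⊆ (U : Set Y) ∧
        ModPair.IsMinimal (J.comap U.ι) K (U.ι ≫ g) := by
  have hE : BlowUp.IsEffCartierIdeal (K.comap g) := EffCartier.comap_of_le hJ hK g hg
  have hKE : I = (K.comap g).comap f := by
    rw [← Scheme.IdealSheafData.comap_comp]; exact hfg
  obtain ⟨C, hC⟩ : ∃ C, C * K.comap g = J := ⟨_, EffCartier.colon_mul hE hg⟩
  have hmin : I = J.comap f :=
    le_antisymm hf (le_of_le_of_eq (Scheme.IdealSheafData.comap_mono f hg) hKE.symm)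
  refine ⟨hmin, ?_⟩
  have hCEC : BlowUp.IsEffCartierIdeal C :=
    EffCartier.isEffCartierIdeal_of_mul_left (J := K.comap g) (by rw [hC]; exact hJ)
  have htop : C.comap f = ⊤ := by
    refine EffCartier.eq_of_mul_eq_mul_right (E := I) hI ?_
    conv_lhs => rw [hKE, ← EffCartier.comap_mul, hC, ← hmin]
    rw [Scheme.IdealSheafData.top_mul]
  refine ⟨EffCartier.cmpl C, EffCartier.quasiCompact_interior hCEC, ?_, ?_⟩
  · rintro _ ⟨x, rfl⟩
    exact EffCartier.not_mem_support_of_comap_eq_top htop x
  · show _ = _
    rw [Scheme.IdealSheafData.comap_comp]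
    have h0 : C.comap (EffCartier.cmpl C).ι = ⊤ :=
      EffCartier.comap_eq_top _ _ fun x => x.2
    subst hC
    rw [EffCartier.comap_mul, h0, Scheme.IdealSheafData.top_mul]

end Groth.Agent.S19329
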