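import Groth.Statements.S19330
import Groth.Agent.Lib.EffCartier.Dense

set_option autoImplicit false
universe u
open CategoryTheory CategoryTheory.Limits AlgebraicGeometry TopologicalSpace
open ModPair

namespace Groth.Agent.S19330

/-- Let (S, I) be a modulus pair, i.e. a scheme with the quasi-coherent ideal sheaf of an effective
Cartier divisor, with interior U, and let g_i : V_i ⟶ U be a jointly surjective family of closed
immersions into the interior. Let V̄_i be the scheme-theoretic image of V_i ⟶ U ⟶ S. Then the closed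
immersions V̄_i ⟶ S are jointly surjective, the modulus restricted to each V̄_i is again the ideal
sheaf of an effective Cartier divisor (so that V̄_i ⟶ S is a minimal morphism of modulus pairs), and
the interior of V̄_i is V_i: the canonical morphism V_i ⟶ V̄_i is an open immersion whose image is
the preimage of U. -/
theorem result {S : Scheme.{u}} (I : S.IdealSheafData)
    (hI : BlowUp.IsEffCartierIdeal I) {ι : Type u} (V : ι → Scheme.{u})
    (g : ∀ i, V i ⟶ (ModPair.interior I : Scheme.{u})) [∀ i, IsClosedImmersion (g i)]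
    (hsurj : ∀ u : (ModPair.interior I : Scheme.{u}), ∃ (i : ι) (v : V i), (g i).base v = u) :
    (∀ s : S, ∃ (i : ι) (v : (g i ≫ (ModPair.interior I).ι).image),
        (g i ≫ (ModPair.interior I).ι).imageι.base v = s) ∧
      (∀ i, BlowUp.IsEffCartierIdeal (I.comap (g i ≫ (ModPair.interior I).ι).imageι)) ∧
      ∀ i, IsOpenImmersion (g i ≫ (ModPair.interior I).ι).toImage ∧
        Set.range (g i ≫ (ModPair.interior I).ι).toImage.base =
          (g i ≫ (ModPair.interior I).ι).imageι.base ⁻¹' (ModPair.interior I : Set S) := by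
  have hqU : QuasiCompact (ModPair.interior I).ι := EffCartier.quasiCompact_interior hI
  refine ⟨fun s => ?_, fun i => ?_, fun i => ?_⟩
  · obtain ⟨y, hy, hys⟩ := EffCartier.exists_specializes_cmpl hI s
    obtain ⟨i, v, hv⟩ := hsurj ⟨y, hy⟩
    refine ⟨i, ?_⟩
    let h := g i ≫ (ModPair.interior I).ι
    have hyr : y ∈ Set.range h.imageι := by
      refine ⟨h.toImage v, ?_⟩
      rw [← Scheme.Hom.comp_apply, h.toImage_imageι, Scheme.Hom.comp_apply, hv]; rfl
    exact hys.mem_closed h.imageι.isClosedEmbedding.isClosed_range hyr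
  · have : IsSchemeTheoreticallyDominant
        ((g i ≫ (ModPair.interior I).ι).imageι ⁻¹ᵁ EffCartier.cmpl I).ι :=
      EffCartier.dominant_preimage_imageι _ _ fun x => (g i x).2
    exact EffCartier.comap_of_dominant hI _
  · have hqh : QuasiCompact (g i ≫ (ModPair.interior I).ι) := inferInstance
    let U : S.Opens := ModPair.interior I
    let h := g i ≫ U.ι
    have : QuasiCompact h := hqh
    let φ := h.toImage
    have hφU : ∀ x, φ x ∈ h.imageι ⁻¹ᵁ U := fun x => by
      show h.imageι (φ x) ∈ U
      rw [← Scheme.Hom.comp_apply, h.toImage_imageι]; exact (g i x).2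
    have hr : Set.range φ ⊆ Set.range (h.imageι ⁻¹ᵁ U).ι := by
      rintro _ ⟨x, rfl⟩; rw [Scheme.Opens.range_ι]; exact hφU x
    let k := IsOpenImmersion.lift (h.imageι ⁻¹ᵁ U).ι φ hr
    have hk : k ≫ (h.imageι ∣_ U) = g i := by
      rw [← cancel_mono U.ι, Category.assoc, morphismRestrict_ι, IsOpenImmersion.lift_fac_assoc]
      exact h.toImage_imageι
    have : IsClosedImmersion k := by
      have : IsClosedImmersion (k ≫ (h.imageι ∣_ U)) := by rw [hk]; infer_instance
      exact IsClosedImmersion.of_comp k (h.imageι ∣_ U)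
    have hker : k.ker = ⊥ := by
      have h1 := Scheme.Hom.le_ker_comp k (h.imageι ∣_ U)
      rw [hk] at h1
      have hd : IsSchemeTheoreticallyDominant φ := EffCartier.dominant_toImage h
      have hd' : IsSchemeTheoreticallyDominant ((h.imageι ⁻¹ᵁ U).ι ≫ 𝟙 _) := by
        rw [Category.comp_id]
        exact EffCartier.dominant_preimage_imageι h U fun x => (g i x).2
      exact (IsSchemeTheoreticallyDominant.of_isPullback (f := φ) (g := (h.imageι ⁻¹ᵁ U).ι) (pY := k)
        (pX := 𝟙 _) (IsPullback.of_horiz_isIso_mono ⟨by rw [IsOpenImmersion.lift_fac, Category.id_comp]⟩)).ker_eq_bot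
    have : IsIso k.imageι := (Scheme.isIso_subschemeι_iff_eq_bot _).mpr hker
    have : IsIso k := by rw [← k.toImage_imageι]; infer_instance
    have hoi : IsOpenImmersion φ := by
      rw [show φ = k ≫ (h.imageι ⁻¹ᵁ U).ι from (IsOpenImmersion.lift_fac _ _ _).symm]; infer_instance
    refine ⟨hoi, ?_⟩
    show Set.range φ = (h.imageι ⁻¹ᵁ U : Set _)
    rw [show φ = k ≫ (h.imageι ⁻¹ᵁ U).ι from (IsOpenImmersion.lift_fac _ _ _).symm, Scheme.Hom.comp_base,
      TopCat.coe_comp, Set.range_comp, k.surjective.range_eq, Set.image_univ, Scheme.Opens.range_ι]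

end Groth.Agent.S19330
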