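import Groth.Statements.S19331
import Groth.Agent.S0385
import Groth.Agent.Lib.EffCartier.Dense
import Mathlib.AlgebraicGeometry.Morphisms.Immersion
import Mathlib.AlgebraicGeometry.ZariskisMainTheorem

set_option autoImplicit false
universe u
open CategoryTheory CategoryTheory.Limits AlgebraicGeometry TopologicalSpace
open ModPair

namespace Groth.Agent.S19331

/-- Let (S, I) be a modulus pair, i.e. a scheme with the quasi-coherent ideal sheaf of an effective
Cartier divisor, with S quasi-compact and quasi-separated and with interior U, and let t₀ : T₀ ⟶ U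
be a finite surjective morphism. Then there are a finite surjective morphism t : T ⟶ S such that the
pulled-back modulus I.comap t is again the ideal sheaf of an effective Cartier divisor, making T ⟶ S
a minimal morphism of modulus pairs, and an open immersion j : T₀ ⟶ T with image t⁻¹(U) and j ≫ t =
t₀ ≫ (U ⟶ S), so that t₀ is the interior of t. -/
theorem result {S : Scheme.{u}}
    [CompactSpace S] [QuasiSeparatedSpace S] (I : S.IdealSheafData)
    (hI : BlowUp.IsEffCartierIdeal I) {T₀ : Scheme.{u}}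
    (t₀ : T₀ ⟶ (ModPair.interior I : Scheme.{u})) [IsFinite t₀] [Surjective t₀] :
    ∃ (T : Scheme.{u}) (t : T ⟶ S) (j : T₀ ⟶ T), IsFinite t ∧ Surjective t ∧
      BlowUp.IsEffCartierIdeal (I.comap t) ∧ IsOpenImmersion j ∧
      Set.range j.base = t.base ⁻¹' (ModPair.interior I : Set S) ∧
      j ≫ t = t₀ ≫ (ModPair.interior I).ι := by
  let U := ModPair.interior I
  haveI : IsAffineHom U.ι := EffCartier.isAffineHom_interior hI
  haveI : QuasiCompact U.ι := EffCartier.quasiCompact_interior hI
  let f := t₀ ≫ U.ι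
  obtain ⟨T', j', π, hj', hqc, hπ, hf⟩ := Groth.Agent.S0385.result f
  haveI := hj'
  haveI := hqc
  haveI := hπ
  let t := j'.imageι ≫ π
  let j := j'.toImage
  have hjt : j ≫ t = f := by rw [Scheme.Hom.toImage_imageι_assoc, hf]
  haveI : IsFinite t := inferInstance
  haveI hjd : IsSchemeTheoreticallyDominant j := EffCartier.dominant_toImage j'
  have hsub : ∀ x, j x ∈ t ⁻¹ᵁ U := fun x => by
    show t (j x) ∈ U
    rw [← Scheme.Hom.comp_apply, hjt]
    exact (t₀ x).2
  haveI : IsSchemeTheoreticallyDominant (t ⁻¹ᵁ U).ι := EffCartier.dominant_of_range_le j _ hsub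
  have hr : Set.range j ⊆ Set.range (t ⁻¹ᵁ U).ι := by
    rintro _ ⟨x, rfl⟩
    rw [Scheme.Opens.range_ι]
    exact hsub x
  let l := IsOpenImmersion.lift (t ⁻¹ᵁ U).ι j hr
  have hl : l ≫ (t ⁻¹ᵁ U).ι = j := IsOpenImmersion.lift_fac _ _ hr
  have hlt : l ≫ (t ∣_ U) = t₀ := by
    rw [← cancel_mono U.ι, Category.assoc, morphismRestrict_ι, ← Category.assoc, hl, hjt]
  haveI : IsFinite (l ≫ (t ∣_ U)) := by rw [hlt]; infer_instance
  haveI : IsProper l := IsProper.of_comp l (t ∣_ U)
  have hrange : Set.range j = (t ⁻¹ᵁ U : Set j'.image) := by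
    refine Set.Subset.antisymm (by rintro _ ⟨x, rfl⟩; exact hsub x) fun y hy => ?_
    have hd : DenseRange j := IsDominant.denseRange (f := j)
    have hmem : (⟨y, hy⟩ : (t ⁻¹ᵁ U : Scheme.{u})) ∈ closure (Set.range l) := by
      rw [(t ⁻¹ᵁ U).ι.isOpenEmbedding.isInducing.closure_eq_preimage_closure_image]
      show y ∈ closure ((t ⁻¹ᵁ U).ι '' Set.range l)
      convert (show y ∈ closure (Set.range j) from hd y) using 2
      rw [← Set.range_comp, ← hl]
      rfl
    rw [l.isClosedMap.isClosed_range.closure_eq] at hmem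
    obtain ⟨x, hx⟩ := hmem
    exact ⟨x, by rw [← hl, Scheme.Hom.comp_apply, hx]; rfl⟩
  refine ⟨j'.image, t, j, inferInstance, ⟨fun s => ?_⟩, @EffCartier.comap_of_dominant _ _ I hI t ‹_›, inferInstance, ?_, hjt⟩
  · obtain ⟨y, hy, hys⟩ := EffCartier.exists_specializes_cmpl hI s
    obtain ⟨x, hx⟩ := t₀.surjective ⟨y, hy⟩
    have hyt : y ∈ Set.range t := ⟨j x, by rw [← Scheme.Hom.comp_apply, hjt]; exact congrArg Subtype.val hx⟩
    exact hys.mem_closed t.isClosedMap.isClosed_range hyt
  · exact hrange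

end Groth.Agent.S19331
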