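import Groth.Statements.S19333
import Mathlib.RingTheory.Valuation.LocalSubring
import Mathlib.RingTheory.Localization.Away.Basic
import Mathlib.Algebra.Polynomial.Reverse
import Mathlib.RingTheory.Ideal.MinimalPrime.Localization

set_option autoImplicit false
universe u
open ModPair

namespace Groth.Agent.S19333

lemma isIntegral_of_mem_adjoin_inv {A S : Type*} [CommRing A] [CommRing S] [Algebra A S] (y z : S)
    (hyz : y * z = 1) (hz : z ∈ Algebra.adjoin A ({y} : Set S)) : IsIntegral A z := by
  rw [Algebra.adjoin_singleton_eq_range_aeval] at hz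
  obtain ⟨p, hp : Polynomial.aeval y p = z⟩ := hz
  nontriviality A
  let : Invertible y := ⟨z, by rwa [mul_comm], hyz⟩
  refine ⟨Polynomial.X ^ (p.natDegree + 1) - p.reflect p.natDegree, ?_, ?_⟩
  · refine (Polynomial.monic_X_pow _).sub_of_left ?_
    rw [Polynomial.degree_X_pow]
    refine lt_of_le_of_lt Polynomial.degree_le_natDegree ?_
    refine WithBot.coe_lt_coe.mpr (Nat.lt_succ_of_le ?_)
    exact (Polynomial.natDegree_le_iff_coeff_eq_zero).mpr fun N hN => by
      rw [Polynomial.coeff_reflect, Polynomial.revAt_eq_self_of_lt hN, Polynomial.coeff_eq_zero_of_natDegree_lt hN]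
  · have h := Polynomial.eval₂_reflect_mul_pow (algebraMap A S) y p.natDegree p le_rfl
    rw [show (⅟y) = z from rfl, ← Polynomial.aeval_def y, hp] at h
    have : Polynomial.eval₂ (algebraMap A S) z (p.reflect p.natDegree) = z ^ (p.natDegree + 1) := by
      calc _ = Polynomial.eval₂ (algebraMap A S) z (p.reflect p.natDegree) * (y * z) ^ p.natDegree := by rw [hyz, one_pow, mul_one]
        _ = z * z ^ p.natDegree := by rw [mul_pow, ← mul_assoc, h]
        _ = _ := by ring
    simp [this]


/-- Let A → B be any homomorphism of commutative rings. An element x of B is integral over A if and only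
if for every field K, every valuation subring R of K and every ring homomorphism φ : B → K which
sends the image of A into R, the element φ(x) lies in R. In other words the integral closure of A in
B is the intersection of the subrings R ×_K B taken over all commutative squares A → R ⊆ K ← B with
R a valuation ring of the field K. -/
theorem result {A B : Type u} [CommRing A]
    [CommRing B] [Algebra A B] (x : B) :
    x ∈ integralClosure A B ↔
      ∀ (K : Type u) [Field K] (R : ValuationSubring K) (φ : B →+* K),
        (∀ a : A, φ (algebraMap A B a) ∈ R) → φ x ∈ R := by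
  constructor
  · intro hx K _ R φ hφ
    have h1 : IsIntegral R (φ x) := by
      let g : A →+* R := (φ.comp (algebraMap A B)).codRestrict R.toSubring hφ
      obtain ⟨p, hp, hp0⟩ := hx
      refine ⟨p.map g, hp.map g, ?_⟩
      rw [Polynomial.eval₂_map, show (algebraMap R K).comp g = φ.comp (algebraMap A B) from rfl,
        ← Polynomial.hom_eval₂, hp0, map_zero]
    obtain ⟨y, hy⟩ := IsIntegrallyClosed.isIntegral_iff.mp h1
    rw [← hy]; exact y.2
  · intro H
    by_contra hx
    let L := Localization.Away x
    set z : L := algebraMap B L x with hz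
    have hzu : IsUnit z := IsLocalization.Away.algebraMap_isUnit x
    let y : L := (↑hzu.unit⁻¹ : L)
    have hyz : y * z = 1 := hzu.val_inv_mul
    let T : Subalgebra A L := Algebra.adjoin A ({y} : Set L)
    let y' : T := ⟨y, Algebra.subset_adjoin rfl⟩
    have hy' : ¬ IsUnit y' := by
      rintro ⟨u, hu⟩
      apply hx
      have hzT : z ∈ T := by
        have h2 : y * ((↑u⁻¹ : T) : L) = 1 := by
          have h3 := congrArg Subtype.val u.mul_inv
          rw [hu] at h3
          simpa [y'] using h3
        have h4 : ((↑u⁻¹ : T) : L) = z := by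
          calc ((↑u⁻¹ : T) : L) = (y * z) * ((↑u⁻¹ : T) : L) := by rw [hyz, one_mul]
            _ = z * (y * ((↑u⁻¹ : T) : L)) := by ring
            _ = z := by rw [h2, mul_one]
        exact h4 ▸ (↑u⁻¹ : T).2
      obtain ⟨p, hp, hp0⟩ := isIntegral_of_mem_adjoin_inv y z hyz hzT
      have : algebraMap B L (Polynomial.aeval x p) = 0 := by
        rw [← hp0, ← Polynomial.aeval_def, hz, Polynomial.aeval_algebraMap_apply]
      obtain ⟨⟨_, N, rfl⟩, hN⟩ := (IsLocalization.map_eq_zero_iff (Submonoid.powers x) L _).mp this
      refine ⟨Polynomial.X ^ N * p, (Polynomial.monic_X_pow N).mul hp, ?_⟩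
      rw [← Polynomial.aeval_def, map_mul, map_pow, Polynomial.aeval_X]
      simpa using hN
    obtain ⟨P, hP, hyP⟩ := exists_max_ideal_of_mem_nonunits hy'
    have := hP.isPrime
    obtain ⟨q, hq, hqP⟩ := Ideal.exists_minimalPrimes_le (show (⊥ : Ideal T) ≤ P from bot_le)
    obtain ⟨Q, hQ, hQq⟩ := Ideal.exists_comap_eq_of_mem_minimalPrimes_of_injective (f := T.val.toRingHom) Subtype.val_injective q hq
    let ψ : T →+* Q.ResidueField := (algebraMap L Q.ResidueField).comp T.val.toRingHom
    let I : Ideal ψ.range := P.map ψ.rangeRestrict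
    have hI : I ≠ ⊤ := by
      rw [Ne, Ideal.eq_top_iff_one, Ideal.mem_map_iff_of_surjective _ ψ.rangeRestrict_surjective]
      rintro ⟨t, ht, ht1⟩
      apply hP.ne_top
      rw [Ideal.eq_top_iff_one]
      have h0 : t - 1 ∈ q := by
        rw [← hQq, Ideal.mem_comap, ← Ideal.ker_algebraMap_residueField Q, RingHom.mem_ker]
        show ψ (t - 1) = 0
        have e : ψ t = 1 := congrArg Subtype.val ht1
        rw [map_sub, map_one, e, sub_self]
      simpa using P.sub_mem ht (hqP h0)
    obtain ⟨V, hV, hnu⟩ := Ideal.image_subset_nonunits_valuationSubring I hI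
    let φ : B →+* Q.ResidueField := (algebraMap L Q.ResidueField).comp (algebraMap B L)
    have hzV : φ x ∈ V := H _ V φ (fun a => by
      have : ψ (algebraMap A T a) ∈ V := hV ⟨_, rfl⟩
      simpa [φ, ψ, ← IsScalarTower.algebraMap_apply A B L] using this)
    have hn : ψ y' ∈ V.nonunits := hnu ⟨ψ.rangeRestrict y', Ideal.mem_map_of_mem _ hyP, rfl⟩
    obtain ⟨hm, hnm⟩ := ValuationSubring.mem_nonunits_iff_exists_mem_maximalIdeal.mp hn
    refine hnm ?_
    refine IsUnit.of_mul_eq_one ⟨φ x, hzV⟩ (Subtype.ext ?_)
    show algebraMap L Q.ResidueField y * algebraMap L Q.ResidueField z = 1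
    rw [← map_mul, hyz, map_one]

end Groth.Agent.S19333
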