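import Groth.Statements.S19334
import Groth.Agent.Lib.EffCartier.Dense
import Groth.Agent.Lib.EffCartier.Mul
import Mathlib.AlgebraicGeometry.ValuativeCriterion

set_option autoImplicit false
universe u
open CategoryTheory CategoryTheory.Limits AlgebraicGeometry TopologicalSpace
open ModPair

namespace Groth.Agent.S19334

open Groth.Agent IsLocalRing

lemma exists_valuationRing_hom {X : Scheme.{u}} {x y : X} (h : y ⤳ x) :
    ∃ (R : Type u) (_ : CommRing R) (_ : IsDomain R) (_ : ValuationRing R)
      (p : Spec (CommRingCat.of R) ⟶ X) (q : Spec (CommRingCat.of R)),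
        p (closedPoint R) = x ∧ p q = y := by
  let φ : X.presheaf.stalk x ⟶ X.residueField y := X.presheaf.stalkSpecializes h ≫ X.residue y
  obtain ⟨A, hA, hA_local⟩ := exists_factor_valuationRing φ.hom
  let ψ : X.presheaf.stalk x ⟶ .of A := CommRingCat.ofHom (φ.hom.codRestrict _ hA)
  refine ⟨A, inferInstance, inferInstance, inferInstance, Spec.map ψ ≫ X.fromSpecStalk x,
    Spec.map (CommRingCat.ofHom (algebraMap A (X.residueField y))) (closedPoint _), ?_, ?_⟩
  · show X.fromSpecStalk x (Spec.map ψ (closedPoint A)) = x
    have : Spec.map ψ (closedPoint A) = closedPoint (X.presheaf.stalk x) :=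
      comap_closedPoint (S := A) (φ.hom.codRestrict A.toSubring hA)
    rw [this, X.fromSpecStalk_closedPoint]
  · have w : X.fromSpecResidueField y =
        Spec.map (CommRingCat.ofHom (algebraMap A (X.residueField y))) ≫ Spec.map ψ ≫ X.fromSpecStalk x := by
      rw [Scheme.fromSpecResidueField, ← Scheme.SpecMap_stalkSpecializes_fromSpecStalk h]
      simp_rw [← Spec.map_comp_assoc]
      rfl
    show (Spec.map (CommRingCat.ofHom (algebraMap A (X.residueField y))) ≫ Spec.map ψ ≫ X.fromSpecStalk x)
      (closedPoint (X.residueField y)) = y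
    rw [← w]
    exact Scheme.fromSpecResidueField_apply y _

/-- Let (X, I) be a modulus pair, i.e. a scheme X with the quasi-coherent ideal sheaf I of an effective
Cartier divisor. Suppose that for every valuation ring R and every morphism p : Spec R ⟶ X along
which the divisor of I pulls back to an effective Cartier divisor on Spec R (so that p is a minimal
morphism of modulus pairs for the pulled-back modulus), the pulled-back divisor is empty, I.comap p
= ⊤. Then the divisor of I is empty: I = ⊤. -/
theorem result {X : Scheme.{u}}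
    (I : X.IdealSheafData) (hI : BlowUp.IsEffCartierIdeal I)
    (h : ∀ (R : Type u) [CommRing R] [IsDomain R] [ValuationRing R]
      (p : Spec (CommRingCat.of R) ⟶ X), BlowUp.IsEffCartierIdeal (I.comap p) → I.comap p = ⊤) :
    I = ⊤ := by
  rw [← Scheme.IdealSheafData.support_eq_bot_iff, eq_bot_iff]
  intro x hx
  obtain ⟨y, hy, hyx⟩ := EffCartier.exists_specializes_cmpl hI x
  obtain ⟨R, _, _, _, p, q, hpx, hpy⟩ := exists_valuationRing_hom hyx
  have : IsDominant (p ⁻¹ᵁ EffCartier.cmpl I).ι := by
    refine ⟨?_⟩
    rw [DenseRange, Scheme.Opens.range_ι]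
    exact (p ⁻¹ᵁ EffCartier.cmpl I).isOpen.dense ⟨q, show p q ∈ EffCartier.cmpl I from hpy.symm ▸ hy⟩
  have : IsSchemeTheoreticallyDominant (p ⁻¹ᵁ EffCartier.cmpl I).ι := .of_isDominant _
  have h1 := h R p (EffCartier.comap_of_dominant hI p)
  exact absurd (hpx.symm ▸ hx) (EffCartier.not_mem_support_of_comap_eq_top h1 _)

end Groth.Agent.S19334
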