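import Groth.Statements.S19335
import Groth.Agent.Lib.EffCartier.Basic
import Mathlib.RingTheory.Ideal.MinimalPrime.Localization
import Mathlib.RingTheory.Valuation.LocalSubring

set_option autoImplicit false
universe u
open CategoryTheory CategoryTheory.Limits AlgebraicGeometry TopologicalSpace
open ModPair

namespace Groth.Agent.S19335

set_option backward.isDefEq.respectTransparency.types false

open Groth.Agent.EffCartier in
/-- A test valuation ring: `f` is nonzero on it and vanishes exactly at the non-generic points. -/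
theorem exists_valuationRing_test {A : Type u} [CommRing A] {f u : A} (hf : f ∈ nonZeroDivisors A)
    (hu : ¬ IsUnit u) :
    ∃ (R : Type u) (_ : CommRing R) (_ : IsDomain R) (_ : ValuationRing R) (ψ : A →+* R),
      ψ f ≠ 0 ∧ ¬ IsUnit (ψ u) ∧ ∀ P : Ideal R, P.IsPrime → (ψ f ∉ P ↔ P = ⊥) := by
  obtain ⟨p, hp, hup⟩ := exists_max_ideal_of_mem_nonunits (mem_nonunits_iff.2 hu)
  haveI := hp.isPrime
  obtain ⟨q, hq, hqp⟩ := Ideal.exists_minimalPrimes_le (I := (⊥ : Ideal A)) (J := p) bot_le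
  haveI : q.IsPrime := Ideal.minimalPrimes_isPrime hq
  have hfq : f ∉ q := fun h =>
    Set.disjoint_left.1 (Ideal.disjoint_nonZeroDivisors_of_mem_minimalPrimes hq) h hf
  let K := FractionRing (A ⧸ q)
  let χ : A →+* K := (algebraMap (A ⧸ q) K).comp (Ideal.Quotient.mk q)
  let A₀ : Subring K := χ.range
  have hχ0 : ∀ a, χ a = 0 → a ∈ q := fun a h => by
    refine Ideal.Quotient.eq_zero_iff_mem.1 (IsFractionRing.injective (A ⧸ q) K ?_)
    rw [map_zero]; exact h
  let I₀ : Ideal A₀ := p.map χ.rangeRestrict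
  have hI : I₀ ≠ ⊤ := by
    intro h
    have h1 : (1 : A₀) ∈ I₀ := h ▸ Submodule.mem_top
    obtain ⟨a, ha, ha1⟩ := (Ideal.mem_map_iff_of_surjective _ χ.rangeRestrict_surjective).1 h1
    have h2 : χ (1 - a) = 0 := by
      rw [map_sub, map_one, sub_eq_zero]
      exact (congrArg Subtype.val ha1).symm
    exact hp.ne_top ((Ideal.eq_top_iff_one p).2 (by simpa using add_mem (hqp (hχ0 _ h2)) ha))
  obtain ⟨V, hAV, hIV⟩ := Ideal.image_subset_nonunits_valuationSubring I₀ hI
  let ψ₀ : A →+* V := χ.codRestrict V.toSubring fun a => hAV ⟨a, rfl⟩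
  have hf0 : ψ₀ f ≠ 0 := fun h => hfq (hχ0 f (congrArg Subtype.val h))
  have hu0 : ψ₀ u ∈ IsLocalRing.maximalIdeal V := by
    have h1 : χ u ∈ V.nonunits := hIV ⟨χ.rangeRestrict u, Ideal.mem_map_of_mem _ hup, rfl⟩
    exact V.coe_mem_nonunits_iff.1 h1
  let S : Set (Ideal V) := {P | P.IsPrime ∧ ψ₀ f ∉ P}
  let P₀ : Ideal V := sSup S
  have hne : S.Nonempty := ⟨⊥, Ideal.isPrime_bot, by simpa using hf0⟩
  have hdir : DirectedOn (· ≤ ·) S := fun P hP Q hQ =>
    (IsChain.directedOn (r := (· ≤ ·)) (s := ({P, Q} : Set (Ideal V))) (fun a _ b _ _ => Std.Total.total (r := (· ≤ ·)) a b)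
      P (Or.inl rfl) Q (Or.inr rfl)).elim fun R ⟨hR, h1, h2⟩ =>
      ⟨R, by rcases hR with rfl | rfl <;> assumption, h1, h2⟩
  have hmem : ∀ x, x ∈ P₀ ↔ ∃ P ∈ S, x ∈ P := fun x => Submodule.mem_sSup_of_directed hne hdir
  haveI hP₀ : P₀.IsPrime := by
    refine ⟨fun h => ?_, fun {x y} hxy => ?_⟩
    · obtain ⟨P, hP, h1⟩ := (hmem 1).1 (h ▸ Submodule.mem_top)
      exact hP.1.ne_top ((Ideal.eq_top_iff_one P).2 h1)
    · obtain ⟨P, hP, h1⟩ := (hmem _).1 hxy
      exact (hP.1.mem_or_mem h1).imp (fun h => (hmem x).2 ⟨P, hP, h⟩) fun h => (hmem y).2 ⟨P, hP, h⟩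
  have hfP : ψ₀ f ∉ P₀ := fun h => by
    obtain ⟨P, hP, h1⟩ := (hmem _).1 h; exact hP.2 h1
  refine ⟨V ⧸ P₀, inferInstance, inferInstance,
    Function.Surjective.valuationRing (Ideal.Quotient.mk P₀) Ideal.Quotient.mk_surjective,
    (Ideal.Quotient.mk P₀).comp ψ₀, fun h => hfP (Ideal.Quotient.eq_zero_iff_mem.1 h), ?_, ?_⟩
  · intro h
    obtain ⟨y, hy⟩ := h.exists_right_inv
    obtain ⟨y, rfl⟩ := Ideal.Quotient.mk_surjective y
    have h1 : ψ₀ u * y - 1 ∈ P₀ := by
      rw [← Ideal.Quotient.eq_zero_iff_mem, map_sub, map_mul, map_one, sub_eq_zero]; exact hy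
    have h2 := IsLocalRing.le_maximalIdeal hP₀.ne_top h1
    refine (IsLocalRing.maximalIdeal.isMaximal V).ne_top ((Ideal.eq_top_iff_one _).2 ?_)
    simpa using sub_mem (Ideal.mul_mem_right y _ hu0) h2
  · intro P hP
    refine ⟨fun h => ?_, fun h => ?_⟩
    · rw [eq_bot_iff]
      intro x hx
      obtain ⟨x, rfl⟩ := Ideal.Quotient.mk_surjective x
      exact Ideal.Quotient.eq_zero_iff_mem.2
        ((hmem x).2 ⟨P.comap (Ideal.Quotient.mk P₀), ⟨hP.comap _, h⟩, hx⟩)
    · subst h
      simpa [Ideal.Quotient.eq_zero_iff_mem] using hfP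


/-- Let X be a scheme and I, J quasi-coherent ideal sheaves of effective Cartier divisors D_I ≤ D_J on
X, i.e. J ≤ I. Suppose that for every valuation ring R and every morphism p : Spec R ⟶ X such that
I.comap p is the ideal sheaf of an effective Cartier divisor on Spec R (so p is a minimal morphism
of modulus pairs for (X, I)) whose open complement consists of the generic point of Spec R only, the
two divisors agree after pull-back, I.comap p = J.comap p. Then I = J. -/
theorem result {X : Scheme.{u}} (I J : X.IdealSheafData)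
    (hI : BlowUp.IsEffCartierIdeal I) (hJ : BlowUp.IsEffCartierIdeal J) (hJI : J ≤ I)
    (h : ∀ (R : Type u) [CommRing R] [IsDomain R] [ValuationRing R]
      (p : Spec (CommRingCat.of R) ⟶ X), BlowUp.IsEffCartierIdeal (I.comap p) →
        (∀ x : Spec (CommRingCat.of R),
          x ∈ (ModPair.interior (I.comap p) : Set (Spec (CommRingCat.of R))) ↔ x.asIdeal = ⊥) →
        I.comap p = J.comap p) :
    I = J := by
  have key : ∀ x : X, ∃ U : X.affineOpens, x ∈ U.1 ∧ I.ideal U ≤ J.ideal U := by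
    intro x
    obtain ⟨U, hx, -, ⟨f, hf⟩, g, hg⟩ := EffCartier.exists_isEqn₂ hI hJ (W := ⊤) (x := x) trivial
    refine ⟨U, hx, ?_⟩
    have h1 : g ∈ I.ideal U := hJI U (hg.ideal_eq ▸ Ideal.mem_span_singleton_self g)
    rw [hf.ideal_eq, Ideal.mem_span_singleton] at h1
    obtain ⟨u, rfl⟩ := h1
    by_cases hu : IsUnit u
    · rw [hf.ideal_eq, hg.ideal_eq, Ideal.span_singleton_mul_right_unit hu]
    exfalso
    obtain ⟨R, _, _, _, ψ, hψf, hψu, hψ⟩ := exists_valuationRing_test hf.mem hu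
    let p : Spec (CommRingCat.of R) ⟶ X := Spec.map (CommRingCat.ofHom ψ) ≫ U.2.fromSpec
    let T : (Spec (CommRingCat.of R)).affineOpens := ⟨⊤, isAffineOpen_top _⟩
    have e : T.1 ≤ p ⁻¹ᵁ U.1 := by
      intro y _
      show U.2.fromSpec (Spec.map (CommRingCat.ofHom ψ) y) ∈ U.1
      have h2 : U.2.fromSpec (Spec.map (CommRingCat.ofHom ψ) y) ∈ Set.range U.2.fromSpec := ⟨_, rfl⟩
      rwa [U.2.range_fromSpec] at h2
    have ha : ∀ a, p.appLE U T e a = (Scheme.ΓSpecIso (CommRingCat.of R)).inv (ψ a) := by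
      intro a
      have h3 : p.appLE U T e = CommRingCat.ofHom ψ ≫ (Scheme.ΓSpecIso (CommRingCat.of R)).inv := by
        have h4 : U.2.fromSpec.appLE U.1 ⊤ (by rw [U.2.fromSpec_preimage_self]) =
            (Scheme.ΓSpecIso Γ(X, U.1)).inv := by
          rw [Scheme.Hom.appLE, U.2.fromSpec_app_self, Category.assoc, ← Functor.map_comp]
          erw [Subsingleton.elim (_ ≫ _) (𝟙 _), CategoryTheory.Functor.map_id, Category.comp_id]
        rw [Scheme.ΓSpecIso_inv_naturality]
        erw [← h4]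
        rw [Scheme.Hom.appTop, Scheme.Hom.app_eq_appLE]
        erw [Scheme.Hom.appLE_comp_appLE]
        rfl
      rw [h3]; rfl
    have hI1 : (I.comap p).ideal T = Ideal.span {p.appLE U T e f} := EffCartier.comap_ideal_eq_span hf p T e
    have hJ1 : (J.comap p).ideal T = Ideal.span {p.appLE U T e (f * u)} := EffCartier.comap_ideal_eq_span hg p T e
    have hinj : Function.Injective (Scheme.ΓSpecIso (CommRingCat.of R)).inv :=
      (ConcreteCategory.bijective_of_isIso (Scheme.ΓSpecIso (CommRingCat.of R)).inv).injective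
    haveI : IsDomain Γ(Spec (CommRingCat.of R), T.1) :=
      (Scheme.ΓSpecIso (CommRingCat.of R)).commRingCatIsoToRingEquiv.toMulEquiv.isDomain R
    have hne : p.appLE U T e f ≠ 0 := by
      rw [ha]; exact fun h0 => hψf (hinj (h0.trans (map_zero _).symm))
    have hE : EffCartier.IsEqn (I.comap p) T (p.appLE U T e f) :=
      ⟨mem_nonZeroDivisors_of_ne_zero hne, hI1⟩
    have h5 := h R p (fun y => ⟨T, trivial, _, hE.mem, hE.ideal_eq⟩) fun y => ?_
    · rw [h5, hJ1] at hI1
      obtain ⟨c, hc⟩ := Ideal.mem_span_singleton.1 (hI1.symm ▸ Ideal.mem_span_singleton_self (p.appLE U T e f) :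
        p.appLE U T e f ∈ Ideal.span {p.appLE U T e (f * u)})
      rw [map_mul, mul_assoc] at hc
      have h6 : IsUnit (p.appLE U T e u) :=
        IsUnit.of_mul_eq_one c ((mul_right_inj' hne).1 (hc.symm.trans (_root_.mul_one _).symm))
      rw [ha] at h6
      have h7 := h6.map (Scheme.ΓSpecIso (CommRingCat.of R)).hom.hom
      exact hψu (by simpa using h7)
    · rw [← hψ y.asIdeal y.2]
      have h8 := EffCartier.basicOpen_eq hE
      have h9 : y ∈ (ModPair.interior (I.comap p) : Set (Spec (CommRingCat.of R))) ↔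
          y ∈ (Spec (CommRingCat.of R)).basicOpen (p.appLE U T e f) := by
        rw [h8]; exact ⟨fun hy => ⟨hy, trivial⟩, fun hy => hy.1⟩
      rw [h9, ha, AlgebraicGeometry.basicOpen_eq_of_affine]
      rfl
  choose U hU hle using key
  refine le_antisymm (Scheme.IdealSheafData.le_of_iSup_eq_top U ?_ hle) hJI
  · exact top_le_iff.1 fun x _ => TopologicalSpace.Opens.mem_iSup.2 ⟨x, hU x⟩

end Groth.Agent.S19335
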