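import Groth.Statements.S19336
import Groth.Agent.Lib.QcOpenIdeal19
import Groth.Agent.Lib.BlowUp26.Basic
import Groth.Agent.Lib.BlowUpExist.Glue

set_option autoImplicit false
universe u
open CategoryTheory CategoryTheory.Limits AlgebraicGeometry TopologicalSpace
open ModPair

namespace Groth.Agent.S19336

theorem idealSheaf_mul_mono {Y : Scheme.{u}} {A B C : Y.IdealSheafData} (h : A ≤ B) : A * C ≤ B * C := fun W => by
  rw [Scheme.IdealSheafData.ideal_mul, Scheme.IdealSheafData.ideal_mul, Pi.mul_apply, Pi.mul_apply]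
  exact Ideal.mul_mono (h W) le_rfl

/-- Let (S, I) be a modulus pair, i.e. a scheme S with the quasi-coherent ideal sheaf I of an effective
Cartier divisor, with S quasi-compact and quasi-separated and with interior U, and let (V_i) be a
covering of U by quasi-compact open subsets. Then there are a quasi-coherent ideal sheaf F of finite
type on S whose support is disjoint from U, a blow-up b : Y ⟶ S of S in F (an admissible blow-up)
such that I.comap b is again the ideal sheaf of an effective Cartier divisor, and a covering of Y by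
quasi-compact open subsets W_j such that each W_j ∩ b⁻¹(U) is contained in b⁻¹(V_i) for some i: the
Zariski covering of the interior extends, after an admissible blow-up, to a Zariski covering of the
total space. -/
theorem result {S : Scheme.{u}}
    [CompactSpace S] [QuasiSeparatedSpace S] (I : S.IdealSheafData)
    (hI : BlowUp.IsEffCartierIdeal I) {ι : Type u} (V : ι → S.Opens)
    (hVU : ∀ i, V i ≤ ModPair.interior I) (hVqc : ∀ i, IsCompact (V i : Set S))
    (hcov : ModPair.interior I ≤ ⨆ i, V i) :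
    ∃ (F : S.IdealSheafData) (Y : Scheme.{u}) (b : Y ⟶ S) (κ : Type u) (W : κ → Y.Opens),
      BlowUp.IsAdmissibleFor (ModPair.interior I) F ∧ BlowUp.IsBlowUp b F ∧
        BlowUp.IsEffCartierIdeal (I.comap b) ∧ (∀ k, IsCompact (W k : Set Y)) ∧
        (⨆ k, W k) = ⊤ ∧ ∀ k, ∃ i, W k ⊓ b ⁻¹ᵁ ModPair.interior I ≤ b ⁻¹ᵁ V i := by
  classical
  have hUc : IsCompact (ModPair.interior I : Set S) := by
    haveI : QuasiCompact (ModPair.interior I).ι := EffCartier.quasiCompact_interior hI
    haveI : CompactSpace (ModPair.interior I : Scheme.{u}) := QuasiCompact.compactSpace_of_compactSpace (ModPair.interior I).ι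
    exact isCompact_iff_compactSpace.2 ‹_›
  obtain ⟨t, ht⟩ := hUc.elim_finite_subcover (fun i => (V i : Set S)) (fun i => (V i).2) fun x hx => by
    obtain ⟨i, hi⟩ := Opens.mem_iSup.1 (hcov hx)
    exact Set.mem_iUnion.2 ⟨i, hi⟩
  choose J hJ hJs using fun i : t => QcOpenIdeal19.exists_support_eq_compl S (V i) (hVqc i)
  let F : S.IdealSheafData := ⨆ i, J i
  obtain ⟨Y, b, hb⟩ : ∃ (Y : Scheme.{u}) (b : Y ⟶ S), BlowUp.IsBlowUp b F :=
    ⟨_, _, BlowUpExist.ChartIdx.isBlowUp_blowUpHom⟩
  have hF : BlowUp.IsAdmissibleFor (ModPair.interior I) F := by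
    refine ⟨QcOpenIdeal19.isFiniteTypeIdeal_iSup J hJ, Set.disjoint_left.2 fun x hxF hxU => ?_⟩
    obtain ⟨i, hit, hxi⟩ := Set.mem_iUnion₂.1 (ht hxU)
    have : x ∈ ((J ⟨i, hit⟩).support : Set S) :=
      Scheme.IdealSheafData.support_antitone (le_iSup J ⟨i, hit⟩) hxF
    rw [hJs] at this
    exact this hxi
  have hle : ∀ i, (J i).comap b ≤ F.comap b := fun i => Scheme.IdealSheafData.comap_mono b (le_iSup J i)
  obtain ⟨B, hB⟩ : ∃ B : t → Y.IdealSheafData, ∀ i, B i * F.comap b = (J i).comap b :=
    ⟨fun i => EffCartier.colon ((J i).comap b) hb.1, fun i => EffCartier.colon_mul hb.1 (hle i)⟩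
  have htop : ⨆ i, B i = ⊤ := by
    refine top_le_iff.1 (EffCartier.le_of_mul_le_mul_right hb.1 ?_)
    rw [Scheme.IdealSheafData.top_mul]
    show (⨆ i, J i).comap b ≤ _
    refine ((Scheme.IdealSheafData.map_gc b).l_iSup).le.trans (iSup_le fun i => ?_)
    show (J i).comap b ≤ _
    rw [← hB i]
    exact idealSheaf_mul_mono (le_iSup B i)
  refine ⟨F, Y, b, {W : Y.affineOpens // ∃ i, ∀ y ∈ W.1, y ∉ (B i).support}, fun W => W.1.1, hF, hb,
    BlowUp26.isEffCartierIdeal_comap_blowUp hb hI, fun W => W.1.2.isCompact, ?_, fun W => ?_⟩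
  · refine eq_top_iff.2 fun y _ => ?_
    obtain ⟨i, hi⟩ : ∃ i, y ∉ (B i).support := by
      by_contra hne
      push Not at hne
      have : y ∈ (⨆ i, B i).support := by
        rw [Scheme.IdealSheafData.support_iSup]
        simpa using hne
      rw [htop, Scheme.IdealSheafData.support_top] at this
      exact this.elim
    obtain ⟨W, hW, hyW, hWle⟩ := exists_isAffineOpen_mem_and_subset (X := Y) (x := y)
      (U := (B i).support.compl) hi
    exact Opens.mem_iSup.2 ⟨⟨⟨W, hW⟩, i, fun z hz => hWle hz⟩, hyW⟩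
  · obtain ⟨i, hi⟩ := W.2
    refine ⟨i.1, fun y ⟨hyW, hyU⟩ => ?_⟩
    by_contra hyV
    have h1 : y ∈ ((J i).comap b).support := by
      rw [Scheme.IdealSheafData.support_comap]
      show b y ∈ ((J i).support : Set S)
      rw [hJs]
      exact hyV
    rw [← hB i, Scheme.IdealSheafData.support_mul, Scheme.IdealSheafData.support_comap] at h1
    rcases h1 with h1 | h1
    · exact hi y hyW h1
    · exact Set.disjoint_left.1 hF.2 h1 hyU

end Groth.Agent.S19336
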