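import Groth.Statements.S19338


set_option autoImplicit false
universe w v u
open CategoryTheory
open ModPair

namespace Groth.Agent.S19338

/-- Let C be a category and S a class of morphisms which contains the identities, is closed under
composition, admits a right calculus of fractions, and consists of monomorphisms. Then the sieves
containing a morphism of S are the covering sieves of a Grothendieck topology on C, and for every
such topology J a presheaf of types F on C is a J-sheaf if and only if it is S-local, i.e. F sends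
every morphism of S to a bijection. -/
theorem result {C : Type u} [Category.{v} C]
    (S : MorphismProperty C) [S.HasRightCalculusOfFractions]
    (hmono : ∀ ⦃X Y : C⦄ (s : X ⟶ Y), S s → Mono s) :
    (∃ J : GrothendieckTopology C, ∀ (X : C) (T : Sieve X),
        T ∈ J X ↔ ∃ (Y : C) (s : Y ⟶ X), S s ∧ T s) ∧
      ∀ J : GrothendieckTopology C, (∀ (X : C) (T : Sieve X),
          T ∈ J X ↔ ∃ (Y : C) (s : Y ⟶ X), S s ∧ T s) →
        ∀ F : Cᵒᵖ ⥤ Type w,
          Presheaf.IsSheaf J F ↔ ∀ ⦃X Y : C⦄ (s : X ⟶ Y), S s → IsIso (F.map s.op) := by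
  have hOre : ∀ {X Y Z : C} (s : Z ⟶ X) (_ : S s) (f : Y ⟶ X), ∃ (W : C) (t : W ⟶ Y) (g : W ⟶ Z), S t ∧ t ≫ f = g ≫ s := by
    intro X Y Z s hs f
    obtain ⟨ψ, hψ⟩ := MorphismProperty.HasRightCalculusOfFractions.exists_rightFraction (W := S) (MorphismProperty.LeftFraction.mk f s hs)
    exact ⟨_, ψ.s, ψ.f, ψ.hs, hψ⟩
  refine ⟨⟨{ sieves := fun X => {T | ∃ (Y : C) (s : Y ⟶ X), S s ∧ T s}
             top_mem' := fun X => ⟨X, 𝟙 X, S.id_mem X, trivial⟩
             pullback_stable' := ?_
             transitive' := ?_ }, fun X T => Iff.rfl⟩, ?_⟩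
  · rintro X Y T f ⟨Z, s, hs, hT⟩
    obtain ⟨W, t, g, ht, htg⟩ := hOre s hs f
    refine ⟨W, t, ht, ?_⟩
    show T (t ≫ f)
    rw [htg]; exact T.downward_closed hT g
  · rintro X T ⟨Z, s, hs, hT⟩ R hR
    obtain ⟨W, t, ht, hRt⟩ := hR hT
    exact ⟨W, t ≫ s, S.comp_mem _ _ ht hs, hRt⟩
  · intro J hJ F
    rw [isSheaf_iff_isSheaf_of_type]
    constructor
    · intro hF X Y s hs
      have hsieve : Sieve.generate (Presieve.singleton s) ∈ J Y :=
        (hJ _ _).mpr ⟨X, s, hs, Sieve.le_generate (Presieve.singleton s) _ _ (Presieve.singleton_self s)⟩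
      have h := (Presieve.isSheafFor_iff_generate _).mpr (hF _ hsieve)
      rw [isIso_iff_bijective]
      refine ⟨fun a b hab => ?_, fun x => ?_⟩
      · refine h.isSeparatedFor.ext fun Z g hg => ?_
        obtain ⟨⟩ := hg
        exact hab
      · have hcomp : ((Presieve.FamilyOfElements.singletonEquiv F s).symm x).Compatible := by
          rw [Presieve.FamilyOfElements.compatible_singleton_iff]
          intro Z p₁ p₂ hp
          have := hmono s hs
          rw [(cancel_mono s).mp hp]
        refine ⟨h.amalgamate _ hcomp, ?_⟩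
        rw [h.valid_glue hcomp s (Presieve.singleton_self s)]
        exact Presieve.FamilyOfElements.singletonEquiv_symm_apply_self s x
    · intro hF X T hT x hx
      obtain ⟨Z, s, hs, hTs⟩ := (hJ X T).mp hT
      have := hF s hs
      have hbij := (isIso_iff_bijective (F.map s.op)).mp this
      obtain ⟨a, ha⟩ := hbij.2 (x s hTs)
      refine ⟨a, fun Y f hf => ?_, fun b hb => hbij.1 ((hb s hTs).trans ha.symm)⟩
      obtain ⟨W, t, g, ht, htg⟩ := hOre s hs f
      have := hF t ht
      apply ((isIso_iff_bijective (F.map t.op)).mp this).1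
      have e1 : F.map t.op (F.map f.op a) = F.map g.op (F.map s.op a) := by
        rw [← FunctorToTypes.map_comp_apply, ← FunctorToTypes.map_comp_apply, ← op_comp, ← op_comp, htg]
      rw [e1, ha]
      exact (hx t g hf hTs htg).symm

end Groth.Agent.S19338
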