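import Groth.Statements.S19340


set_option autoImplicit false
universe v v' u u'
open CategoryTheory
open ModPair

namespace Groth.Agent.S19340

/-- Let C be a category, S a class of morphisms of C containing the identities, closed under composition
and admitting a right calculus of fractions, and L : C ⥤ D a localization functor for S. Then for
every object X of C the comma category of L under X, whose objects are pairs (Y, L(X) ⟶ L(Y)) and
whose morphisms are morphisms Y ⟶ Y' of C compatible with the structure maps, is cofiltered. The
published statement calls this category filtered; its proof verifies, and this row states,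
cofilteredness. -/
theorem result {C : Type u}
    [Category.{v} C] {D : Type u'} [Category.{v'} D] (S : MorphismProperty C)
    [S.HasRightCalculusOfFractions] (L : C ⥤ D) [L.IsLocalization S] (X : C) :
    IsCofiltered (StructuredArrow (L.obj X) L) := by
  have hL : S.IsInvertedBy L := Localization.inverts L S
  have hrep : ∀ A : StructuredArrow (L.obj X) L, ∃ (X' : C) (s : X' ⟶ X) (_ : S s) (f : X' ⟶ A.right), L.map s ≫ A.hom = L.map f := by
    intro A
    obtain ⟨φ, hφ⟩ := Localization.exists_rightFraction L S A.hom
    refine ⟨φ.X', φ.s, φ.hs, φ.f, ?_⟩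
    rw [hφ]
    exact φ.map_s_comp_map L hL
  have hiso : ∀ {A B : C} (s : A ⟶ B), S s → IsIso (L.map s) := fun s hs => hL s hs
  have : IsCofilteredOrEmpty (StructuredArrow (L.obj X) L) := by
    refine ⟨fun A B => ?_, fun A B u v => ?_⟩
    · obtain ⟨Xa, sa, hsa, fa, hfa⟩ := hrep A
      obtain ⟨Xb, sb, hsb, fb, hfb⟩ := hrep B
      obtain ⟨ψ, hψ⟩ := MorphismProperty.HasRightCalculusOfFractions.exists_rightFraction (W := S) (MorphismProperty.LeftFraction.mk sb sa hsa)
      dsimp at hψ
      have ht : S (ψ.s ≫ sb) := S.comp_mem _ _ ψ.hs hsb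
      have := hiso _ ht
      refine ⟨StructuredArrow.mk (inv (L.map (ψ.s ≫ sb))), StructuredArrow.homMk (ψ.f ≫ fa) ?_, StructuredArrow.homMk (ψ.s ≫ fb) ?_, trivial⟩
      · simp only [StructuredArrow.mk_hom_eq_self, StructuredArrow.mk_right]
        rw [IsIso.inv_comp_eq, L.map_comp, ← hfa, hψ, L.map_comp, Category.assoc]
      · simp only [StructuredArrow.mk_hom_eq_self, StructuredArrow.mk_right]
        rw [IsIso.inv_comp_eq, L.map_comp, ← hfb, L.map_comp, Category.assoc]
    · obtain ⟨Xa, sa, hsa, fa, hfa⟩ := hrep A
      have e : L.map (fa ≫ u.right) = L.map (fa ≫ v.right) := by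
        rw [L.map_comp, L.map_comp, ← hfa, Category.assoc, Category.assoc, StructuredArrow.w u, StructuredArrow.w v]
      obtain ⟨W, t, ht, htt⟩ := (MorphismProperty.map_eq_iff_precomp L S _ _).mp e
      have hts : S (t ≫ sa) := S.comp_mem _ _ ht hsa
      have := hiso _ hts
      refine ⟨StructuredArrow.mk (inv (L.map (t ≫ sa))), StructuredArrow.homMk (t ≫ fa) ?_, ?_⟩
      · simp only [StructuredArrow.mk_hom_eq_self, StructuredArrow.mk_right]
        rw [IsIso.inv_comp_eq, L.map_comp, ← hfa, L.map_comp, Category.assoc]
      · ext
        simp only [StructuredArrow.comp_right, StructuredArrow.homMk_right, Category.assoc]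
        exact htt
  have : Nonempty (StructuredArrow (L.obj X) L) := ⟨StructuredArrow.mk (𝟙 (L.obj X))⟩
  exact {}

end Groth.Agent.S19340
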