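import Groth.Statements.S19343
import Groth.Agent.Lib.SigmaLocal.Etale

set_option autoImplicit false
set_option backward.isDefEq.respectTransparency false
set_option backward.isDefEq.respectTransparency.types false
universe u
open CategoryTheory CategoryTheory.Limits AlgebraicGeometry TopologicalSpace
open ModPair

namespace Groth.Agent.S19343

/-- Let P be a modulus pair (a scheme P̄ with the quasi-coherent ideal sheaf of an effective Cartier
divisor) whose total space P̄ is quasi-compact and quasi-separated. Then P is local both for étale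
coverings of modulus pairs (for every pair X, every jointly surjective family of minimal morphisms
U_i ⟶ X whose underlying morphisms are étale, quasi-compact and quasi-separated, and every morphism
of pairs P ⟶ X, the latter factors through some U_i) and for abstract admissible blow-ups (every P ⟶
X lifts along every abstract admissible blow-up Q ⟶ X) if and only if (1) P̄ is affine and A = Γ(P̄)
is a strictly henselian local ring, (2) the interior P° is affine and its ring of global sections is
a henselian local ring, and, writing p for the closed point of P° and 𝔮 ⊂ A for its prime ideal, (3)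
A/𝔮 is a valuation ring which is strictly henselian and (4) the localisation map sends 𝔮 bijectively
onto the maximal ideal of A_𝔮, i.e. A = A/𝔮 ×_{k(𝔮)} A_𝔮 and P̄ is the gluing of the closure of p to
P° along p. The published statement allows any modulus pair P; this row assumes the total space P̄
quasi-compact and quasi-separated. -/
theorem result (P : ModPair.Pair.{u})
    [CompactSpace P.total] [QuasiSeparatedSpace P.total] :
    ((∀ (X : ModPair.Pair.{u}) (ι : Type u) (U : ι → ModPair.Pair.{u}) (v : ∀ i, U i ⟶ X),
        (∀ i, ModPair.IsMinimal (U i).mod X.mod (v i).hom ∧ Etale (v i).hom ∧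
          QuasiCompact (v i).hom ∧ QuasiSeparated (v i).hom) →
        (∀ x : X.total, ∃ (i : ι) (y : (U i).total), (v i).hom.base y = x) →
        ∀ g : P ⟶ X, ∃ (i : ι) (h : P ⟶ U i), h ≫ v i = g) ∧
      (∀ (Q X : ModPair.Pair.{u}) (q : Q ⟶ X), ModPair.Pair.admBlowup q →
        ∀ g : P ⟶ X, ∃ h : P ⟶ Q, h ≫ q = g)) ↔
    (IsAffine P.total ∧ EtCoh.IsStrictlyHenselianLocalRing Γ(P.total, ⊤) ∧
      IsAffine (ModPair.interior P.mod : Scheme.{u}) ∧
      HenselianLocalRing Γ((ModPair.interior P.mod : Scheme.{u}), ⊤) ∧
      ∀ p : (ModPair.interior P.mod : Scheme.{u}),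
        IsClosed ({p} : Set (ModPair.interior P.mod : Scheme.{u})) →
          ValuationRing (Γ(P.total, ⊤) ⧸ (P.total.toSpecΓ.base ((ModPair.interior P.mod).ι.base p)).asIdeal) ∧
          EtCoh.IsStrictlyHenselianLocalRing (Γ(P.total, ⊤) ⧸ (P.total.toSpecΓ.base ((ModPair.interior P.mod).ι.base p)).asIdeal) ∧
          Set.BijOn (algebraMap Γ(P.total, ⊤) (Localization.AtPrime (P.total.toSpecΓ.base ((ModPair.interior P.mod).ι.base p)).asIdeal))
            ((P.total.toSpecΓ.base ((ModPair.interior P.mod).ι.base p)).asIdeal : Set Γ(P.total, ⊤))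
            (IsLocalRing.maximalIdeal (Localization.AtPrime (P.total.toSpecΓ.base ((ModPair.interior P.mod).ι.base p)).asIdeal) :
              Set (Localization.AtPrime (P.total.toSpecΓ.base ((ModPair.interior P.mod).ι.base p)).asIdeal))) := by
  constructor
  · rintro ⟨he, ha⟩
    have hz := Groth.Agent.SigmaLocal.zarLocal_of_etLocal he
    haveI : IsAffine P.total := Groth.Agent.SigmaLocal.zar_isAffine hz
    haveI : IsLocalRing Γ(P.total, ⊤) := Groth.Agent.SigmaLocal.zar_isLocalRing hz
    have hA := Groth.Agent.WLocal.isStrictlyHenselian_of_retractions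
      (Groth.Agent.SigmaLocal.hasEtaleRetractions he)
    obtain ⟨t, ht, hgen, hint⟩ := Groth.Agent.SigmaLocal.exists_generator P.isEffCartier
    have hprin := Groth.Agent.SigmaLocal.principalAbove ha hint
    letI := (ModPair.interior P.mod).ι.appTop.hom.toAlgebra
    obtain ⟨hWa, hloc⟩ := Groth.Agent.SigmaLocal.interior_away t _ hint
    haveI := hWa
    haveI := hloc
    haveI : Nontrivial Γ((ModPair.interior P.mod : Scheme.{u}), ⊤) :=
      (IsLocalization.injective Γ((ModPair.interior P.mod : Scheme.{u}), ⊤)
        (M := Submonoid.powers t) (Submonoid.powers_le.2 ht)).nontrivial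
    haveI hB : IsLocalRing Γ((ModPair.interior P.mod : Scheme.{u}), ⊤) :=
      Groth.Agent.SigmaLocal.isLocalRing_away _ ht hprin
    have hdiv := fun x s hx hs =>
      Groth.Agent.SigmaLocal.dvd_of_mem Γ((ModPair.interior P.mod : Scheme.{u}), ⊤) ht hprin (x := x) (s := s) hx hs
    have hBh : HenselianLocalRing Γ((ModPair.interior P.mod : Scheme.{u}), ⊤) := by
      haveI := hA.1
      exact Groth.Agent.SigmaLocal.henselian_away (t := t) _ hdiv
    refine ⟨inferInstance, hA, hWa, hBh, fun p hp => ?_⟩
    have hq := Groth.Agent.SigmaLocal.prime_closed_eq (ModPair.interior P.mod) p hp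
    refine ⟨?_, Groth.Agent.SigmaLocal.strictlyHenselian_quotient hA _
      (P.total.toSpecΓ.base ((ModPair.interior P.mod).ι.base p)).isPrime.ne_top,
      Groth.Agent.SigmaLocal.bijOn_atPrime _ ht hdiv _ hq⟩
    have hv := Groth.Agent.SigmaLocal.valuationRing_quotient
      Γ((ModPair.interior P.mod : Scheme.{u}), ⊤) ht hprin
    revert hv
    generalize hq' : (P.total.toSpecΓ.base ((ModPair.interior P.mod).ι.base p)) = q
    rw [hq'] at hq
    intro hv
    obtain ⟨qI, qP⟩ := q
    subst hq
    exact hv
  · rintro ⟨hA, hAs, hW, hB, hp⟩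
    haveI := hA; haveI := hW; haveI := hB
    haveI := hAs.1
    refine ⟨Groth.Agent.SigmaLocal.etLocal_of_strictlyHenselian hAs, ?_⟩
    obtain ⟨t, ht, -, hint⟩ := Groth.Agent.SigmaLocal.exists_generator P.isEffCartier
    letI := (ModPair.interior P.mod).ι.appTop.hom.toAlgebra
    obtain ⟨-, hloc⟩ := Groth.Agent.SigmaLocal.interior_away t _ hint
    haveI := hloc
    obtain ⟨p, hpc⟩ := Groth.Agent.SigmaLocal.exists_closed (ModPair.interior P.mod)
    obtain ⟨hv, -, hbij⟩ := hp p hpc
    have hq := Groth.Agent.SigmaLocal.prime_closed_eq (ModPair.interior P.mod) p hpc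
    refine Groth.Agent.SigmaLocal.admLocal_of_glue ht hint ?_
      (Groth.Agent.SigmaLocal.dvd_of_bijOn _ _ hq hbij)
    revert hv
    generalize hq' : (P.total.toSpecΓ.base ((ModPair.interior P.mod).ι.base p)) = q
    rw [hq'] at hq
    intro hv
    obtain ⟨qI, qP⟩ := q
    subst hq
    exact hv

end Groth.Agent.S19343
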