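import Groth.Statements.S19344
import Groth.Agent.Lib.SigmaLocal.Fppf
import Groth.Agent.S19328

set_option autoImplicit false
set_option backward.isDefEq.respectTransparency false
set_option backward.isDefEq.respectTransparency.types false
universe u
open CategoryTheory CategoryTheory.Limits AlgebraicGeometry TopologicalSpace
open ModPair

namespace Groth.Agent.S19344

/-- Let P be a modulus pair (a scheme P̄ with the quasi-coherent ideal sheaf of an effective Cartier
divisor) whose total space P̄ is quasi-compact and quasi-separated. Call a scheme T fppf-local when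
for every scheme X, every jointly surjective family of morphisms to X that are flat and of finite
presentation (locally of finite presentation, quasi-compact, quasi-separated) and every T ⟶ X, the
latter factors through a member of the family. Then P is local both for fppf coverings of modulus
pairs (families of minimal morphisms U_i ⟶ X whose underlying morphisms form such a family, with the
same factorisation property for morphisms of pairs P ⟶ X) and for abstract admissible blow-ups
(every P ⟶ X lifts along every abstract admissible blow-up Q ⟶ X) if and only if (1) P̄ is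
fppf-local, (2) the interior P° is fppf-local, (3) P° is affine with local ring of global sections
and, writing p for its closed point and 𝔮 ⊂ A = Γ(P̄) for the prime ideal of p, the ring A/𝔮 is a
valuation ring with algebraically closed fraction field, and (4) the localisation map sends 𝔮
bijectively onto the maximal ideal of A_𝔮, i.e. A = A/𝔮 ×_{k(𝔮)} A_𝔮 and P̄ is the gluing of the
closure of p to P° along p. (The affine-local clause in (3) is a consequence of (2) and only serves
to name p.) The published statement allows any modulus pair P; this row assumes the total space P̄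
quasi-compact and quasi-separated. -/
theorem result (P : ModPair.Pair.{u})
    [CompactSpace P.total] [QuasiSeparatedSpace P.total] :
    ((∀ (X : ModPair.Pair.{u}) (ι : Type u) (U : ι → ModPair.Pair.{u}) (v : ∀ i, U i ⟶ X),
        (∀ i, ModPair.IsMinimal (U i).mod X.mod (v i).hom ∧ Flat (v i).hom ∧
          LocallyOfFinitePresentation (v i).hom ∧ QuasiCompact (v i).hom ∧
          QuasiSeparated (v i).hom) →
        (∀ x : X.total, ∃ (i : ι) (y : (U i).total), (v i).hom.base y = x) →
        ∀ g : P ⟶ X, ∃ (i : ι) (h : P ⟶ U i), h ≫ v i = g) ∧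
      (∀ (Q X : ModPair.Pair.{u}) (q : Q ⟶ X), ModPair.Pair.admBlowup q →
        ∀ g : P ⟶ X, ∃ h : P ⟶ Q, h ≫ q = g)) ↔
    ((∀ (X : Scheme.{u}) (R : Presieve X), R ∈ Scheme.precoverage (@Flat ⊓ @LocallyOfFinitePresentation ⊓ @QuasiCompact ⊓ @QuasiSeparated) X →
        ∀ g : P.total ⟶ X, ∃ (Y : Scheme.{u}) (w : Y ⟶ X) (h : P.total ⟶ Y), R w ∧ h ≫ w = g) ∧
      (∀ (X : Scheme.{u}) (R : Presieve X), R ∈ Scheme.precoverage (@Flat ⊓ @LocallyOfFinitePresentation ⊓ @QuasiCompact ⊓ @QuasiSeparated) X →
        ∀ g : (ModPair.interior P.mod : Scheme.{u}) ⟶ X, ∃ (Y : Scheme.{u}) (w : Y ⟶ X) (h : (ModPair.interior P.mod : Scheme.{u}) ⟶ Y), R w ∧ h ≫ w = g) ∧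
      IsAffine (ModPair.interior P.mod : Scheme.{u}) ∧
      IsLocalRing Γ((ModPair.interior P.mod : Scheme.{u}), ⊤) ∧
      ∀ p : (ModPair.interior P.mod : Scheme.{u}),
        IsClosed ({p} : Set (ModPair.interior P.mod : Scheme.{u})) →
          ValuationRing (Γ(P.total, ⊤) ⧸ (P.total.toSpecΓ.base ((ModPair.interior P.mod).ι.base p)).asIdeal) ∧
          IsAlgClosed (FractionRing (Γ(P.total, ⊤) ⧸ (P.total.toSpecΓ.base ((ModPair.interior P.mod).ι.base p)).asIdeal)) ∧
          Set.BijOn (algebraMap Γ(P.total, ⊤) (Localization.AtPrime (P.total.toSpecΓ.base ((ModPair.interior P.mod).ι.base p)).asIdeal))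
            ((P.total.toSpecΓ.base ((ModPair.interior P.mod).ι.base p)).asIdeal : Set Γ(P.total, ⊤))
            (IsLocalRing.maximalIdeal (Localization.AtPrime (P.total.toSpecΓ.base ((ModPair.interior P.mod).ι.base p)).asIdeal) :
              Set (Localization.AtPrime (P.total.toSpecΓ.base ((ModPair.interior P.mod).ι.base p)).asIdeal))) := by
  constructor
  · rintro ⟨hf, ha⟩
    have hz := Groth.Agent.SigmaLocal.zarLocal_of_fppfLocal hf
    haveI : IsAffine P.total := Groth.Agent.SigmaLocal.zar_isAffine hz
    haveI : IsLocalRing Γ(P.total, ⊤) := Groth.Agent.SigmaLocal.zar_isLocalRing hz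
    have hsch := Groth.Agent.SigmaLocal.schFppf_of_fppfLocal hf
    have hA := Groth.Agent.WLocal.isStrictlyHenselian_of_retractions
      (Groth.Agent.SigmaLocal.hasEtaleRetractions (Groth.Agent.SigmaLocal.etLocal_of_fppfLocal hf))
    obtain ⟨t, ht, hgen, hint⟩ := Groth.Agent.SigmaLocal.exists_generator P.isEffCartier
    have hprin := Groth.Agent.SigmaLocal.principalAbove ha hint
    letI := (ModPair.interior P.mod).ι.appTop.hom.toAlgebra
    obtain ⟨hWa, hloc⟩ := Groth.Agent.SigmaLocal.interior_away t _ hint
    haveI := hWa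
    haveI := hloc
    haveI : Nontrivial Γ((ModPair.interior P.mod : Scheme.{u}), ⊤) :=
      (IsLocalization.injective Γ((ModPair.interior P.mod : Scheme.{u}), ⊤)
        (M := Submonoid.powers t) (Submonoid.powers_le.2 ht)).nontrivial
    haveI hB : IsLocalRing Γ((ModPair.interior P.mod : Scheme.{u}), ⊤) :=
      Groth.Agent.SigmaLocal.isLocalRing_away _ ht hprin
    have hdiv := fun x s hx hs =>
      Groth.Agent.SigmaLocal.dvd_of_mem Γ((ModPair.interior P.mod : Scheme.{u}), ⊤) ht hprin (x := x) (s := s) hx hs
    haveI hBh : HenselianLocalRing Γ((ModPair.interior P.mod : Scheme.{u}), ⊤) := by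
      haveI := hA.1
      exact Groth.Agent.SigmaLocal.henselian_away (t := t) _ hdiv
    refine ⟨hsch, Groth.Agent.SigmaLocal.schFppf_of_iso (Scheme.isoSpec (ModPair.interior P.mod : Scheme.{u})).symm
      (Groth.Agent.SigmaLocal.schFppf_of_henselian Γ((ModPair.interior P.mod : Scheme.{u}), ⊤) fun E _ _ _ _ _ =>
        Groth.Agent.SigmaLocal.retraction_away (A := Γ(P.total, ⊤)) (t := t)
          Γ((ModPair.interior P.mod : Scheme.{u}), ⊤) ht
          (fun L _ _ _ _ _ => Groth.Agent.SigmaLocal.freeRetractions hf L) E), hWa, hB, fun p hp => ?_⟩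
    have hq := Groth.Agent.SigmaLocal.prime_closed_eq (ModPair.interior P.mod) p hp
    refine ⟨?_, ?_, Groth.Agent.SigmaLocal.bijOn_atPrime _ ht hdiv _ hq⟩
    · have hv := Groth.Agent.SigmaLocal.valuationRing_quotient
        Γ((ModPair.interior P.mod : Scheme.{u}), ⊤) ht hprin
      revert hv
      generalize hq' : (P.total.toSpecΓ.base ((ModPair.interior P.mod).ι.base p)) = q
      rw [hq'] at hq
      intro hv
      obtain ⟨qI, qP⟩ := q
      subst hq
      exact hv
    · generalize (P.total.toSpecΓ.base ((ModPair.interior P.mod).ι.base p)) = q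
      obtain ⟨qI, qP⟩ := q
      haveI := qP
      haveI := Groth.Agent.S19328.result Γ(P.total, ⊤)
        (Groth.Agent.SigmaLocal.schFppf_of_iso P.total.isoSpec hsch) qI
      exact IsAlgClosed.of_ringEquiv _ _ (FractionRing.algEquiv (Γ(P.total, ⊤) ⧸ qI) qI.ResidueField).toRingEquiv.symm
  · rintro ⟨hsch, -, hW, hB, hp⟩
    have hf := Groth.Agent.SigmaLocal.fppfLocal_of_sch hsch
    have hz := Groth.Agent.SigmaLocal.zarLocal_of_fppfLocal hf
    haveI : IsAffine P.total := Groth.Agent.SigmaLocal.zar_isAffine hz
    haveI : IsLocalRing Γ(P.total, ⊤) := Groth.Agent.SigmaLocal.zar_isLocalRing hz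
    haveI := hW; haveI := hB
    refine ⟨hf, ?_⟩
    obtain ⟨t, ht, -, hint⟩ := Groth.Agent.SigmaLocal.exists_generator P.isEffCartier
    letI := (ModPair.interior P.mod).ι.appTop.hom.toAlgebra
    obtain ⟨-, hloc⟩ := Groth.Agent.SigmaLocal.interior_away t _ hint
    haveI := hloc
    obtain ⟨p, hpc⟩ := Groth.Agent.SigmaLocal.exists_closed (ModPair.interior P.mod)
    obtain ⟨hv, -, hbij⟩ := hp p hpc
    have hq := Groth.Agent.SigmaLocal.prime_closed_eq (ModPair.interior P.mod) p hpc
    refine Groth.Agent.SigmaLocal.admLocal_of_glue ht hint ?_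
      (Groth.Agent.SigmaLocal.dvd_of_bijOn _ _ hq hbij)
    revert hv
    generalize hq' : (P.total.toSpecΓ.base ((ModPair.interior P.mod).ι.base p)) = q
    rw [hq'] at hq
    intro hv
    obtain ⟨qI, qP⟩ := q
    subst hq
    exact hv

end Groth.Agent.S19344
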