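import Groth.Statements.S19346
import Groth.Agent.Lib.SigmaLocal.Finite

set_option autoImplicit false
set_option backward.isDefEq.respectTransparency false
set_option backward.isDefEq.respectTransparency.types false
universe u
open CategoryTheory CategoryTheory.Limits AlgebraicGeometry TopologicalSpace
open ModPair

namespace Groth.Agent.S19346

/-- Let P be a modulus pair (a scheme P̄ with the quasi-coherent ideal sheaf of an effective Cartier
divisor) whose total space P̄ is quasi-compact and quasi-separated. Then P is local for Zariski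
coverings of modulus pairs (jointly surjective families of minimal morphisms U_i ⟶ X whose
underlying morphisms are quasi-compact open immersions: every morphism of pairs P ⟶ X factors
through some U_i), for finite coverings of modulus pairs (the same with finite underlying morphisms)
— locality for both kinds being locality for the rqfh coverings, their finite composites — and for
abstract admissible blow-ups (every P ⟶ X lifts along every abstract admissible blow-up Q ⟶ X) if
and only if (1) P̄ is affine and A = Γ(P̄) is a local integral domain in which every monic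
polynomial of positive degree has a root, (2) the interior P° is affine and Γ(P°) is likewise a
local integral domain in which every monic polynomial of positive degree has a root, and, writing p
for the closed point of P° and 𝔮 ⊂ A for its prime ideal, (3) A/𝔮 is a valuation ring with
algebraically closed fraction field and (4) the localisation map sends 𝔮 bijectively onto the
maximal ideal of A_𝔮, i.e. A = A/𝔮 ×_{k(𝔮)} A_𝔮 and P̄ is the gluing of the closure of p to P° along
p. The published statement allows any modulus pair P; this row assumes the total space P̄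
quasi-compact and quasi-separated. -/
theorem result (P : ModPair.Pair.{u})
    [CompactSpace P.total] [QuasiSeparatedSpace P.total] :
    ((∀ (X : ModPair.Pair.{u}) (ι : Type u) (U : ι → ModPair.Pair.{u}) (v : ∀ i, U i ⟶ X),
        (∀ i, ModPair.IsMinimal (U i).mod X.mod (v i).hom ∧ IsOpenImmersion (v i).hom ∧ QuasiCompact (v i).hom) →
        (∀ x : X.total, ∃ (i : ι) (y : (U i).total), (v i).hom.base y = x) →
        ∀ g : P ⟶ X, ∃ (i : ι) (h : P ⟶ U i), h ≫ v i = g) ∧
      (∀ (X : ModPair.Pair.{u}) (ι : Type u) (U : ι → ModPair.Pair.{u}) (v : ∀ i, U i ⟶ X),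
        (∀ i, ModPair.IsMinimal (U i).mod X.mod (v i).hom ∧ IsFinite (v i).hom) →
        (∀ x : X.total, ∃ (i : ι) (y : (U i).total), (v i).hom.base y = x) →
        ∀ g : P ⟶ X, ∃ (i : ι) (h : P ⟶ U i), h ≫ v i = g) ∧
      (∀ (Q : ModPair.Pair.{u}) (X : ModPair.Pair.{u}) (q : Q ⟶ X), ModPair.Pair.admBlowup q →
        ∀ g : P ⟶ X, ∃ h : P ⟶ Q, h ≫ q = g)) ↔
    (IsAffine P.total ∧ IsLocalRing Γ(P.total, ⊤) ∧ IsDomain Γ(P.total, ⊤) ∧
      Curves.IsAIC Γ(P.total, ⊤) ∧
      IsAffine (ModPair.interior P.mod : Scheme.{u}) ∧
      IsLocalRing Γ((ModPair.interior P.mod : Scheme.{u}), ⊤) ∧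
      IsDomain Γ((ModPair.interior P.mod : Scheme.{u}), ⊤) ∧
      Curves.IsAIC Γ((ModPair.interior P.mod : Scheme.{u}), ⊤) ∧
      ∀ p : (ModPair.interior P.mod : Scheme.{u}),
        IsClosed ({p} : Set (ModPair.interior P.mod : Scheme.{u})) →
          ValuationRing (Γ(P.total, ⊤) ⧸ (P.total.toSpecΓ.base ((ModPair.interior P.mod).ι.base p)).asIdeal) ∧
          IsAlgClosed (FractionRing (Γ(P.total, ⊤) ⧸ (P.total.toSpecΓ.base ((ModPair.interior P.mod).ι.base p)).asIdeal)) ∧
          Set.BijOn (algebraMap Γ(P.total, ⊤) (Localization.AtPrime (P.total.toSpecΓ.base ((ModPair.interior P.mod).ι.base p)).asIdeal))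
            ((P.total.toSpecΓ.base ((ModPair.interior P.mod).ι.base p)).asIdeal : Set Γ(P.total, ⊤))
            (IsLocalRing.maximalIdeal (Localization.AtPrime (P.total.toSpecΓ.base ((ModPair.interior P.mod).ι.base p)).asIdeal) :
              Set (Localization.AtPrime (P.total.toSpecΓ.base ((ModPair.interior P.mod).ι.base p)).asIdeal))) := by
  constructor
  · rintro ⟨hz, hf, ha⟩
    haveI : IsAffine P.total := Groth.Agent.SigmaLocal.zar_isAffine hz
    haveI : IsLocalRing Γ(P.total, ⊤) := Groth.Agent.SigmaLocal.zar_isLocalRing hz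
    obtain ⟨t, ht, hgen, hint⟩ := Groth.Agent.SigmaLocal.exists_generator P.isEffCartier
    have hprin := Groth.Agent.SigmaLocal.principalAbove ha hint
    haveI hdom : IsDomain Γ(P.total, ⊤) := Groth.Agent.SigmaLocal.isDomain_of_finLocal hf ht hgen
    have haic := Groth.Agent.SigmaLocal.isAIC_of_finLocal hf ht hgen
    letI := (ModPair.interior P.mod).ι.appTop.hom.toAlgebra
    obtain ⟨hWa, hloc⟩ := Groth.Agent.SigmaLocal.interior_away t _ hint
    haveI := hWa
    haveI := hloc
    haveI : Nontrivial Γ((ModPair.interior P.mod : Scheme.{u}), ⊤) :=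
      (IsLocalization.injective Γ((ModPair.interior P.mod : Scheme.{u}), ⊤)
        (M := Submonoid.powers t) (Submonoid.powers_le.2 ht)).nontrivial
    haveI hB : IsLocalRing Γ((ModPair.interior P.mod : Scheme.{u}), ⊤) :=
      Groth.Agent.SigmaLocal.isLocalRing_away _ ht hprin
    have hBd : IsDomain Γ((ModPair.interior P.mod : Scheme.{u}), ⊤) :=
      IsLocalization.isDomain_of_le_nonZeroDivisors Γ((ModPair.interior P.mod : Scheme.{u}), ⊤)
        (M := Submonoid.powers t) (Submonoid.powers_le.2 ht)
    refine ⟨inferInstance, inferInstance, hdom, haic, hWa, hB, hBd,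
      Groth.Agent.AIC6.isAIC_of_isLocalization haic (Submonoid.powers t) _, fun p hp => ?_⟩
    have hq := Groth.Agent.SigmaLocal.prime_closed_eq (ModPair.interior P.mod) p hp
    refine ⟨?_, ?_, Groth.Agent.SigmaLocal.bijOn_atPrime _ ht (fun x s hx hs =>
      Groth.Agent.SigmaLocal.dvd_of_mem _ ht hprin hx hs) _ hq⟩
    · have hv := Groth.Agent.SigmaLocal.valuationRing_quotient
        Γ((ModPair.interior P.mod : Scheme.{u}), ⊤) ht hprin
      revert hv
      generalize hq' : (P.total.toSpecΓ.base ((ModPair.interior P.mod).ι.base p)) = q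
      rw [hq'] at hq
      intro hv
      obtain ⟨qI, qP⟩ := q
      subst hq
      exact hv
    · have hquot : Curves.IsAIC (Γ(P.total, ⊤) ⧸
          (P.total.toSpecΓ.base ((ModPair.interior P.mod).ι.base p)).asIdeal) := by
        intro f hf' hdeg
        obtain ⟨g, hg, hgd, hgm⟩ := Polynomial.lifts_and_natDegree_eq_and_monic
          ((Polynomial.mem_lifts f).2 (Polynomial.map_surjective _ Ideal.Quotient.mk_surjective f)) hf'
        obtain ⟨r, hr⟩ := haic g hgm (by rw [hgd]; exact hdeg)
        exact ⟨Ideal.Quotient.mk _ r, by rw [← hg, Polynomial.eval_map_apply, hr, map_zero]⟩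
      refine IsAlgClosed.of_exists_root _ fun f hf' hirr => ?_
      exact Groth.Agent.AIC6.isAIC_of_isLocalization hquot (nonZeroDivisors _) _ f hf' hirr.natDegree_pos
  · rintro ⟨hA, hAl, hAd, haic, hW, hB, -, -, hp⟩
    haveI := hA; haveI := hAl; haveI := hW; haveI := hB; haveI := hAd
    refine ⟨Groth.Agent.SigmaLocal.zarLocal_of_local, Groth.Agent.SigmaLocal.finLocal_of_aic haic, ?_⟩
    obtain ⟨t, ht, -, hint⟩ := Groth.Agent.SigmaLocal.exists_generator P.isEffCartier
    letI := (ModPair.interior P.mod).ι.appTop.hom.toAlgebra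
    obtain ⟨-, hloc⟩ := Groth.Agent.SigmaLocal.interior_away t _ hint
    haveI := hloc
    obtain ⟨p, hpc⟩ := Groth.Agent.SigmaLocal.exists_closed (ModPair.interior P.mod)
    obtain ⟨hv, -, hbij⟩ := hp p hpc
    have hq := Groth.Agent.SigmaLocal.prime_closed_eq (ModPair.interior P.mod) p hpc
    refine Groth.Agent.SigmaLocal.admLocal_of_glue ht hint ?_
      (Groth.Agent.SigmaLocal.dvd_of_bijOn _ _ hq hbij)
    revert hv
    generalize hq' : (P.total.toSpecΓ.base ((ModPair.interior P.mod).ι.base p)) = q
    rw [hq'] at hq
    intro hv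
    obtain ⟨qI, qP⟩ := q
    subst hq
    exact hv

end Groth.Agent.S19346
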