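import Groth.Statements.S19347
import Groth.Agent.Lib.FinLocExt4.Pair
import Groth.Agent.Lib.Nagata4.Boundary
-- import your own Groth.Agent.* helpers here

set_option autoImplicit false
universe u
open RigCh

namespace Groth.Agent.S19347

open AlgebraicGeometry CategoryTheory in
/-- Let k be a field, X a separated k-scheme of finite type and 0 → F₁ → F₂ → F₃ → 0 a short exact
sequence of finite locally free O_X-modules. Then there are an open immersion j of X, over k, into a
scheme proper over k, such that the complement of the image of j is the support of an effective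
Cartier divisor (a quasi-coherent ideal sheaf which near every point is generated on some affine
open by a single nonzerodivisor), and a short exact sequence 0 → G₁ → G₂ → G₃ → 0 of finite locally
free modules on that scheme whose pullback along j is isomorphic to the given sequence (isomorphisms
on the three terms commuting with the maps). (In the source, compactifications have divisor boundary
by a standing convention, so the divisor clause is part of the published statement, although the
published proof does not re-verify it for the compactification it constructs. The source assumes k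
of positive characteristic; this plays no role in the statement or its proof.) -/
theorem result (k : Type u) [Field k]
    (X : Scheme.{u}) (f : X ⟶ Spec (CommRingCat.of k)) [IsSeparated f] [QuasiCompact f] [LocallyOfFiniteType f]
    (S : ShortComplex X.Modules) (hS : S.ShortExact)
    (h₁ : FlatMod.IsFinLocFree S.X₁) (h₂ : FlatMod.IsFinLocFree S.X₂) (h₃ : FlatMod.IsFinLocFree S.X₃) :
    ∃ (Xb : Scheme.{u}) (j : X ⟶ Xb) (g : Xb ⟶ Spec (CommRingCat.of k)) (E : Xb.IdealSheafData),
      IsOpenImmersion j ∧ IsProper g ∧ j ≫ g = f ∧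
      BlowUp.IsEffCartierIdeal E ∧ (E.support : Set Xb) = (Set.range j.base)ᶜ ∧
      ∃ (T : ShortComplex Xb.Modules), T.ShortExact ∧
        FlatMod.IsFinLocFree T.X₁ ∧ FlatMod.IsFinLocFree T.X₂ ∧ FlatMod.IsFinLocFree T.X₃ ∧
        ∃ (e₁ : (Scheme.Modules.pullback j).obj T.X₁ ≅ S.X₁) (e₂ : (Scheme.Modules.pullback j).obj T.X₂ ≅ S.X₂)
          (e₃ : (Scheme.Modules.pullback j).obj T.X₃ ≅ S.X₃),
          (Scheme.Modules.pullback j).map T.f ≫ e₂.hom = e₁.hom ≫ S.f ∧
          (Scheme.Modules.pullback j).map T.g ≫ e₃.hom = e₂.hom ≫ S.g := by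
  haveI : IsNoetherian (Spec (CommRingCat.of k)) := inferInstance
  obtain ⟨Y, j, p, E₀, hj, hp, hjp, hE₀, hsupp⟩ := Groth.Agent.Nagata4.exists_compactification_cartier f
  haveI : IsLocallyNoetherian Y := LocallyOfFiniteType.isLocallyNoetherian p
  haveI := QuasiCompact.compactSpace_of_compactSpace p
  haveI : IsNoetherian Y := ⟨⟩
  have hrange : Set.range j = ((Groth.Agent.EffCartier.cmpl E₀ : Y.Opens) : Set Y) := by
    show _ = (E₀.support : Set Y)ᶜ
    rw [hsupp, compl_compl]
  have hopens : j.opensRange = Groth.Agent.EffCartier.cmpl E₀ := TopologicalSpace.Opens.ext hrange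
  haveI : IsSchemeTheoreticallyDominant j := by
    haveI : IsSchemeTheoreticallyDominant j.opensRange.ι := hopens ▸ Groth.Agent.EffCartier.dominant_cmpl hE₀
    rw [← Scheme.Hom.isoOpensRange_hom_ι j]
    infer_instance
  obtain ⟨Y', b, j', hj', hd', hjb, hb, hr, T, hT⟩ := Groth.Agent.FinLocExt4.exists_extend_ses j S hS h₂ h₃
  have hopens' : b ⁻¹ᵁ (Groth.Agent.EffCartier.cmpl E₀) = j'.opensRange := TopologicalSpace.Opens.ext (by
    ext y
    show b y ∈ ((Groth.Agent.EffCartier.cmpl E₀ : Y.Opens) : Set Y) ↔ y ∈ Set.range j'
    rw [← hrange]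
    refine ⟨hr y, ?_⟩
    rintro ⟨x, rfl⟩
    exact ⟨x, by rw [← Scheme.Hom.comp_apply, hjb]⟩)
  haveI : IsSchemeTheoreticallyDominant (b ⁻¹ᵁ (Groth.Agent.EffCartier.cmpl E₀)).ι := by
    rw [hopens']
    haveI : IsSchemeTheoreticallyDominant (j'.isoOpensRange.inv ≫ j') := inferInstance
    rwa [Scheme.Hom.isoOpensRange_inv_comp] at this
  refine ⟨Y', j', b ≫ p, E₀.comap b, hj', inferInstance, by rw [reassoc_of% hjb, hjp],
    Groth.Agent.EffCartier.comap_of_dominant hE₀ b, ?_, T, hT⟩
  have := congrArg (fun W : Y'.Opens => ((W : Set Y')ᶜ)) hopens'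
  rw [Scheme.IdealSheafData.support_comap]
  simpa using this

end Groth.Agent.S19347
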