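import Groth.Statements.S19348


set_option autoImplicit false
universe u
open RigCh

namespace Groth.Agent.S19348

/-- Let p be a prime and m a natural number, P a commutative ring complete and separated for the p-adic
topology, and I an ideal of P with a divided power structure of level m, that is a sub-ideal J of I
endowed with divided powers such that x ^ (p ^ m) and p * x lie in J for all x in I. Then an element
of P whose class in P / I is invertible is invertible in P. (The source states this for a lift of a
unit to the p-adically completed level-m divided power envelope of a closed immersion; the statement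
here keeps exactly what its argument uses: completeness for p and the level-m divided powers on the
kernel.) -/
theorem result (p : ℕ) [Fact p.Prime] (m : ℕ)
    (P : Type u) [CommRing P] [IsAdicComplete (Ideal.span {(p : P)}) P]
    (I J : Ideal P) (hJ : DividedPowers J) (hJI : J ≤ I)
    (hpow : ∀ x ∈ I, x ^ (p ^ m) ∈ J) (hmul : ∀ x ∈ I, (p : P) * x ∈ J)
    (u : P) (hu : IsUnit (Ideal.Quotient.mk I u)) : IsUnit u := by
  have hjac : Ideal.span {(p : P)} ≤ Ideal.jacobson ⊥ := IsAdicComplete.le_jacobson_bot _
  have hp : p.Prime := Fact.out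
  have hIjac : I ≤ Ideal.jacobson ⊥ := by
    intro x hx
    have hy := hpow x hx
    obtain ⟨c, hc⟩ : (p : P) ∣ (x ^ (p ^ m)) ^ p := by
      rw [← hJ.factorial_mul_dpow_eq_pow hy]
      exact Dvd.dvd.mul_right (Nat.cast_dvd_cast (Nat.dvd_factorial hp.pos le_rfl)) _
    have hxr : x ∈ (Ideal.jacobson (⊥ : Ideal P)).radical := by
      refine ⟨p ^ m * p, ?_⟩
      rw [pow_mul, hc]
      exact Ideal.mul_mem_right _ _ (hjac (Ideal.mem_span_singleton_self _))
    have hrad : (Ideal.jacobson (⊥ : Ideal P)).radical ≤ Ideal.jacobson ⊥ :=
      Ideal.radical_le_jacobson.trans (le_of_eq Ideal.jacobson_idem)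
    exact hrad hxr
  obtain ⟨v', hv'⟩ := hu.exists_right_inv
  obtain ⟨v, rfl⟩ := Ideal.Quotient.mk_surjective v'
  rw [← map_mul, ← map_one (Ideal.Quotient.mk I), Ideal.Quotient.eq] at hv'
  have h1 : IsUnit ((u * v - 1) * 1 + 1) := (Ideal.mem_jacobson_bot.1 (hIjac hv')) 1
  rw [mul_one, sub_add_cancel] at h1
  exact isUnit_of_mul_isUnit_left h1

end Groth.Agent.S19348
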