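import Groth.Statements.S1935
import Groth.Agent.Lib.GrpdFin19.Closed

set_option autoImplicit false
universe u
open CategoryTheory CategoryTheory.Limits AlgebraicGeometry
open Grpd

namespace Groth.Agent.S1935

/-- Let (U, R, s, t, c) be a groupoid scheme over S, p a point of S and u a point of U over p. Assume U
→ S is locally of finite type, separated and quasi-finite at u (u has an open neighbourhood meeting
the fibre over p only in u), R → S is separated, s and t are flat and locally of finite
presentation, s⁻¹{u} is finite, and j = (t, s) : R → U ×_S U is universally closed. Then there are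
an étale neighbourhood g : (S', p') → (S, p) inducing an isomorphism of residue fields κ(p) ≅ κ(p')
and open-and-closed subsets U' ⊆ U_{S'} = U ×_S S' and R' ⊆ R_{S'} = R ×_S S' such that, writing s',
t' : R_{S'} → U_{S'} for the base changes of s and t: some point u' of U' lies over u and over p';
for every such u' the fibre of U' over p' is t'(s'⁻¹{u'}); the fibre of R' over p' is s'⁻¹ of the
fibre of U' over p'; U' and R' are finite over S'; s' and t' map R' into U'; and R' is the full
restriction of R_{S'} to U', i.e. R' = s'⁻¹(U') ∩ t'⁻¹(U'). The published statement obtains all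
conclusions but the last without assuming j universally closed and adds the last one under that
assumption; here j universally closed is assumed throughout. The published statement also has
further conclusions, which are not stated here. (A groupoid scheme carries U, R, s, t, c, e, i over
S with the groupoid axioms on T-points.) -/
theorem result (S : Scheme.{u}) (G : Grpd.GroupoidScheme S) (p : S) (u : G.U) (hu : G.pU u = p) [UniversallyClosed G.j] [LocallyOfFiniteType G.pU] [IsSeparated G.pU] [IsSeparated G.pR] [Flat G.s] [LocallyOfFinitePresentation G.s] [Flat G.t] [LocallyOfFinitePresentation G.t] (hqf : ∃ V : G.U.Opens, u ∈ V ∧ ∀ x ∈ V, G.pU x = p → x = u) (hfin : (⇑G.s ⁻¹' {u}).Finite) : ∃ (S' : Scheme.{u}) (g : S' ⟶ S) (p' : S') (_ : Hens2.IsEtaleNbhd g p' p) (U' : (pullback G.pU g).Opens) (R' : (pullback G.pR g).Opens), IsClosed (U' : Set ↥(pullback G.pU g)) ∧ IsClosed (R' : Set ↥(pullback G.pR g)) ∧ (∃ u' : ↥(pullback G.pU g), u' ∈ U' ∧ pullback.fst G.pU g u' = u ∧ pullback.snd G.pU g u' = p') ∧ (∀ u' :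 ↥(pullback G.pU g), u' ∈ U' → pullback.fst G.pU g u' = u → pullback.snd G.pU g u' = p' → {x : ↥(pullback G.pU g) | x ∈ U' ∧ pullback.snd G.pU g x = p'} = ⇑(pullback.map G.pR g G.pU g G.t (𝟙 S') (𝟙 S) ((Category.comp_id _).trans G.t_over.symm) ((Category.comp_id _).trans (Category.id_comp _).symm)) '' (⇑(pullback.map G.pR g G.pU g G.s (𝟙 S') (𝟙 S) ((Category.comp_id _).trans G.s_over.symm) ((Category.comp_id _).trans (Category.id_comp _).symm)) ⁻¹' {u'})) ∧ {r : ↥(pullback G.pR g) | r ∈ R' ∧ pullback.snd G.pR g r = p'} = ⇑(pullback.map G.pR g G.pU g G.s (𝟙 S') (𝟙 S) ((Category.comp_id _).trans G.s_over.symm) ((Category.comp_id _).trans (Category.id_comp _).symm)) ⁻¹' {x | x ∈ U' ∧ pullback.snd G.pU g x = p'} ∧ IsFinite (U'.ι ≫ pullback.snd G.pU g) ∧ IsFinite (R'.ι ≫ pullback.snd G.pR g) ∧ ⇑(pullback.map G.pR g G.pU g G.s (𝟙 S') (𝟙 S) ((Category.comp_id _).trans G.s_over.symm) ((Category.comp_id _).trans (Category.id_comp _).symm)) '' (R' : Set ↥(pullback G.pR g)) ⊆ U' ∧ ⇑(pullback.map G.pR g G.pU g G.t (𝟙 S') (𝟙 S)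 ((Category.comp_id _).trans G.t_over.symm) ((Category.comp_id _).trans (Category.id_comp _).symm)) '' (R' : Set ↥(pullback G.pR g)) ⊆ U' ∧ (R' : Set ↥(pullback G.pR g)) = ⇑(pullback.map G.pR g G.pU g G.s (𝟙 S') (𝟙 S) ((Category.comp_id _).trans G.s_over.symm) ((Category.comp_id _).trans (Category.id_comp _).symm)) ⁻¹' (U' : Set ↥(pullback G.pU g)) ∩ ⇑(pullback.map G.pR g G.pU g G.t (𝟙 S') (𝟙 S) ((Category.comp_id _).trans G.t_over.symm) ((Category.comp_id _).trans (Category.id_comp _).symm)) ⁻¹' (U' : Set ↥(pullback G.pU g)) := by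
  obtain ⟨T', g', t', U'', R'', h'⟩ := GrpdFin19.exists_parts G p u hu hqf hfin
  obtain ⟨T, g, t, U', R', h, he⟩ := GrpdFin19.exists_parts_eq h'
  obtain ⟨h1, h2, h3⟩ := h.fibres hu hqf hfin
  exact ⟨T, g, t, h.nbhd, U', R', h.objs.isClosed, h.arrs.isClosed, h1, h2, h3, h.objs.fin, h.arrs.fin,
    Set.image_subset_iff.2 h.le_s, Set.image_subset_iff.2 h.le_t, he⟩

end Groth.Agent.S1935
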