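import Groth.Statements.S19350
import Groth.Agent.S1696
import Groth.Agent.Lib.KFlat.LpullPC
import Groth.Agent.Lib.TensorMod.Invertible
import Groth.Agent.Lib.ModM1.Affine

set_option autoImplicit false
universe u
open RigCh

namespace Groth.Agent.S19350

open AlgebraicGeometry CategoryTheory in
/-- Let X be a separated scheme of finite type over a field k, I a quasi-coherent ideal sheaf on X, b :
X' → X a blowing up of X in I and F a finite locally free O_X-module. Then for any strict transform
G of F along b (an epimorphism π from the pullback of F onto G whose kernel consists,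
affine-locally, of the sections annihilated by a power of the exceptional ideal), π is an
isomorphism and G is finite locally free. (The published statement asserts only that the strict
transform is locally free. The source assumes k of positive characteristic, which plays no role
here.) -/
theorem result (k : Type u) [Field k]
    (X : Scheme.{u}) (f : X ⟶ Spec (CommRingCat.of k)) [IsSeparated f] [QuasiCompact f] [LocallyOfFiniteType f]
    (I : X.IdealSheafData) {X' : Scheme.{u}} (b : X' ⟶ X) (hb : BlowUp.IsBlowUp b I)
    (F : X.Modules) (hF : FlatMod.IsFinLocFree F) (G : X'.Modules) (π : (Scheme.Modules.pullback b).obj F ⟶ G)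
    (hG : BlowUp.IsStrictTransform b I F G π) : IsIso π ∧ FlatMod.IsFinLocFree G := by
  have hq : Coh.IsQCoh F := M2.isQCoh_of_isFinLocFree hF
  have h0 := Groth.Agent.S1696.result I b hb F hq fun s _ => KFlat.Sch.isFlat_of_isFinLocFree hF s
  have : Mono π := by
    refine M1.mono_of_basis π {W | IsAffineOpen W} X'.isBasis_affineOpens fun W hW => ?_
    rw [injective_iff_map_eq_zero]
    intro m hm
    exact (h0.2 ⟨W, hW⟩ m).2 ((hG.2 ⟨W, hW⟩ m).1 hm)
  have : Epi π := hG.1
  have : IsIso π := isIso_of_mono_of_epi π
  exact ⟨inferInstance, M2.isFinLocFree_of_iso (asIso π) (M2.isFinLocFree_pullback b hF)⟩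

end Groth.Agent.S19350
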