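import Groth.Statements.S1936
import Groth.Agent.Lib.GrpQuot.Rank
import Groth.Agent.Lib.GrpQuot.Affine
import Groth.Agent.Lib.CMSlice4.Cover
import Groth.Agent.Lib.CMComp4
import Groth.Agent.S1341
import Groth.Agent.S1342

set_option autoImplicit false
universe u
open CategoryTheory CategoryTheory.Limits AlgebraicGeometry
open Grpd

namespace Groth.Agent.S1936

/-- Let (U, R, s, t, c) be a groupoid scheme over S with s, t flat and locally of finite presentation.
There is an open U' ⊆ U such that t⁻¹(U') is exactly the set of points of R at which s is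
Cohen–Macaulay, s⁻¹(U') is exactly the set of points at which t is Cohen–Macaulay, and both t
restricted to s⁻¹(U') and s restricted to t⁻¹(U') are surjective onto U. (Part (5), that the
restriction of R to U' is a groupoid with Cohen–Macaulay s', t', then follows and is not restated.)
Cohen–Macaulay at a point: flat there with Cohen–Macaulay fibre local ring (Grpd.IsCMAt). (A
groupoid scheme carries U, R, s, t, c, e, i over S with the groupoid axioms on T-points; 'finite
locally free' is finite, flat and locally of finite presentation; C ⊂ Γ(U) is the ring of functions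
a with s♯(a) = t♯(a) and M = Spec C.) -/
theorem result (S : Scheme.{u}) (G : Grpd.GroupoidScheme S) [Flat G.s] [LocallyOfFinitePresentation G.s] [Flat G.t] [LocallyOfFinitePresentation G.t] : ∃ U' : G.U.Opens, (G.t ⁻¹ᵁ U' : Set G.R) = {r | Grpd.IsCMAt G.s r} ∧ (G.s ⁻¹ᵁ U' : Set G.R) = {r | Grpd.IsCMAt G.t r} ∧ ⇑G.t '' (G.s ⁻¹ᵁ U' : Set G.R) = Set.univ ∧ ⇑G.s '' (G.t ⁻¹ᵁ U' : Set G.R) = Set.univ := by
  have key : ∀ {X Y : Scheme.{u}} (f : X ⟶ Y) (x : X), Grpd.IsCMAt f x ↔ MoreMor.IsCMAt f x := by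
    intro X Y f x
    obtain ⟨e⟩ := FlatDepth.nonempty_fiberStalkEquiv f x
    exact and_congr Iff.rfl (CMComp4.cm_congr e)
  set W : Set G.R := {r | MoreMor.IsCMAt G.s r} with hW
  have h1 : ∀ p : ↑(pullback G.s G.t), MoreMor.IsCMAt G.s (pullback.fst G.s G.t p) ↔ MoreMor.IsCMAt G.s (G.c p) := by
    intro p
    have a := Set.ext_iff.mp (S1342.result G.s (pullback.snd G.s G.t) (pullback.fst G.s G.t) G.t
      (IsPullback.of_hasPullback G.s G.t)) p
    have b := Set.ext_iff.mp (S1342.result G.s (pullback.snd G.s G.t) G.c G.s (GrpQuot.isPullback_shear G)) p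
    exact a.symm.trans b
  have h2 : ∀ r : G.R, MoreMor.IsCMAt G.s r ↔ MoreMor.IsCMAt G.s (G.e (G.t r)) := by
    intro r
    let q : G.R ⟶ pullback G.s G.t := pullback.lift (𝟙 _) G.i (by rw [Category.id_comp, G.i_t])
    have e1 : pullback.fst G.s G.t (q r) = r := by
      rw [← Scheme.Hom.comp_apply, pullback.lift_fst]; rfl
    have e2 : G.c (q r) = G.e (G.t r) := by
      have h := G.comp_i (𝟙 G.R)
      rw [← Scheme.Hom.comp_apply, ← Scheme.Hom.comp_apply G.t]
      exact congrArg (fun m : G.R ⟶ G.R => m r) ((congrArg (· ≫ G.c)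
        (by apply pullback.hom_ext <;> simp [q])).trans (h.trans (Category.id_comp _)))
    have := h1 (q r)
    rwa [e1, e2] at this
  haveI : IsIso G.i := GrpQuot.isIso_i G
  have h3 : ∀ r : G.R, MoreMor.IsCMAt G.t r ↔ MoreMor.IsCMAt G.s (G.e (G.s r)) := by
    intro r
    have sq : IsPullback G.i G.t G.s (𝟙 G.U) := IsPullback.of_horiz_isIso ⟨by rw [G.i_s, Category.comp_id]⟩
    have a := Set.ext_iff.mp (S1342.result G.s G.t G.i (𝟙 _) sq) r
    refine a.trans ((h2 (G.i r)).trans ?_)
    rw [← Scheme.Hom.comp_apply G.i G.t, G.i_t]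
  let U' : G.U.Opens := ⟨G.e ⁻¹' W, (S1341.result G.s).1.preimage G.e.continuous⟩
  refine ⟨U', ?_, ?_, ?_, ?_⟩
  · ext r
    exact ((key G.s r).trans (h2 r)).symm
  · ext r
    exact ((key G.t r).trans (h3 r)).symm
  · refine Set.eq_univ_of_forall fun u => ?_
    obtain ⟨r, hr, hcm, -⟩ := CMSlice4.exists_cm_closed G.t (s := u)
      ⟨G.e u, by rw [← Scheme.Hom.comp_apply, G.e_t]; rfl⟩
    exact ⟨r, (h3 r).mp hcm, hr⟩
  · refine Set.eq_univ_of_forall fun u => ?_
    obtain ⟨r, hr, hcm, -⟩ := CMSlice4.exists_cm_closed G.s (s := u)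
      ⟨G.e u, by rw [← Scheme.Hom.comp_apply, G.e_s]; rfl⟩
    exact ⟨r, (h2 r).mp hcm, hr⟩

end Groth.Agent.S1936
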