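import Groth.Statements.S1937
import Groth.Agent.Lib.GrpOmega.Basic
import Groth.Agent.Lib.ModM1.Pull
import Groth.Agent.Lib.GrpOmega.Free
import Mathlib.LinearAlgebra.Basis.VectorSpace
import Mathlib.Algebra.Category.ModuleCat.Basic

set_option autoImplicit false
universe u v
open CategoryTheory MonoidalCategory CartesianMonoidalCategory MonObj GrpObj AlgebraicGeometry
open GrpSch

namespace Groth.Agent.S1937

/-- Let G be a group scheme over S with structure morphism f and unit section e : S → G. Then Ω_{G/S} ≅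
f^* C_{S/G}, the pullback of the conormal sheaf of the immersion e; and when S is the spectrum of a
field, Ω_{G/S} is a free O_G-module (a coproduct of copies of O_G). Stated for G → S
quasi-separated, where the shared prelude's Ω (conormal sheaf of the diagonal through Mathlib's
kernel ideal sheaf) and conormal sheaf of e are the usual ones. -/
theorem result (S : Scheme.{u}) (G : Over S) [GrpObj G] [QuasiSeparated G.hom] : Nonempty (Omega.sheaf G.hom ≅ (Scheme.Modules.pullback G.hom).obj (Omega.conormal η[G].left)) ∧ ∀ (K : Type u) [Field K], Nonempty (S ≅ Spec (CommRingCat.of K)) → ∃ I : Type u, Nonempty (Omega.sheaf G.hom ≅ ∐ fun _ : I => Coh.structureModule G.left) := by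
  obtain ⟨e⟩ := Groth.Agent.GrpOmega.nonempty_omega_iso G
  refine ⟨⟨e⟩, fun K _ ⟨σ⟩ => ?_⟩
  let C := Omega.conormal η[G].left
  let C' := (Scheme.Modules.pullback σ.inv).obj C
  haveI : C'.IsQuasicoherent := (M1.isQCoh_pullback σ.inv (M1.isQCoh_pullback η[G].left (M2.isQCoh_idealMod _)) : _)
  obtain ⟨J, ⟨e₁⟩⟩ := Groth.Agent.GrpOmega.exists_free_of_free C'
    (Groth.Agent.GrpOmega.module_free_of_isField (Field.toIsField K) _)
  let h := G.hom ≫ σ.hom
  let e₂ : (Scheme.Modules.pullback G.hom).obj C ≅ (Scheme.Modules.pullback h).obj C' :=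
    (Scheme.Modules.pullbackCongr (show G.hom = h ≫ σ.inv by simp [h])).app C ≪≫
      ((Scheme.Modules.pullbackComp h σ.inv).app C).symm
  obtain ⟨e₃⟩ := Groth.Agent.GrpOmega.nonempty_pullback_free h J
  exact ⟨J, ⟨e ≪≫ e₂ ≪≫ (Scheme.Modules.pullback h).mapIso e₁ ≪≫ e₃⟩⟩

end Groth.Agent.S1937
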