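import Groth.Statements.S19376
import Groth.Agent.Lib.RigH7.Complete
import Groth.Agent.Lib.Compl.Noetherian
import Groth.Agent.Lib.Compl.Complete
import Groth.Agent.Lib.ArtinApproxH7.Core

set_option autoImplicit false
universe u
open EGA4

namespace Groth.Agent.S19376

/-- Let V be an excellent normal ring with no additive torsion, I an ideal of V such that (V, I) is a
henselian pair, A and C smooth V-algebras, and φ₀ a V-algebra homomorphism from A/IA to C/IC which
is finite. Then φ₀ lifts to a finite V-algebra homomorphism φ from the IA-adic completion of A to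
the IC-adic completion of C: composing φ with the projection onto C/IC equals the projection onto
A/IA followed by φ₀. (The published statement also treats finite flat, finite faithfully flat and
finite étale maps, whose proofs are referred elsewhere; only the finite case is stated.) -/
theorem result
    (V : Type u) [CommRing V] [IsAddTorsionFree V]
    (hexc : EGA4.IsExcellent V) (hV : EGA4.IsNormalRing V)
    (I : Ideal V) [HenselianRing V I]
    (A C : Type u) [CommRing A] [Algebra V A] [Algebra.Smooth V A]
    [CommRing C] [Algebra V C] [Algebra.Smooth V C]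
    (φ₀ : (A ⧸ I.map (algebraMap V A)) →ₐ[V] (C ⧸ I.map (algebraMap V C)))
    (hφ₀ : φ₀.toRingHom.Finite) :
    ∃ φ : AdicCompletion (I.map (algebraMap V A)) A →ₐ[V]
        AdicCompletion (I.map (algebraMap V C)) C,
      φ.toRingHom.Finite ∧
      (AdicCompletion.evalOneₐ (I.map (algebraMap V C))).toRingHom.comp φ.toRingHom =
        φ₀.toRingHom.comp (AdicCompletion.evalOneₐ (I.map (algebraMap V A))).toRingHom := by
  haveI : IsNoetherianRing V := hexc.1
  haveI : IsNoetherianRing A := Algebra.FiniteType.isNoetherianRing V A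
  haveI : IsNoetherianRing C := Algebra.FiniteType.isNoetherianRing V C
  let IA := I.map (algebraMap V A)
  let IC := I.map (algebraMap V C)
  let Ah := AdicCompletion IA A
  let Ch := AdicCompletion IC C
  have hIA : IA.FG := IsNoetherian.noetherian _
  have hIC : IC.FG := IsNoetherian.noetherian _
  haveI : IsAdicComplete (I.map (algebraMap V Ch)) Ch := by
    rw [IsScalarTower.algebraMap_eq V C Ch, ← Ideal.map_map]
    exact AdicCompletion.isAdicComplete_self IC hIC
  haveI : IsAdicComplete (I.map (algebraMap V Ah)) Ah := by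
    rw [IsScalarTower.algebraMap_eq V A Ah, ← Ideal.map_map]
    exact AdicCompletion.isAdicComplete_self IA hIA
  obtain ⟨g, hg⟩ := Algebra.FormallySmooth.exists_adicCompletionEvalOneₐ_comp_eq
    (R := V) (φ₀.comp (Ideal.Quotient.mkₐ V IA))
  obtain ⟨G, hG⟩ := Lib.RigH7.exists_lift (B := Ch) (I := I) g
  have hone : ∀ (R : Type u) [CommRing R] (J : Ideal R) (hJ : J.FG) (x : AdicCompletion J R),
      x ∈ J.map (algebraMap R _) ↔ AdicCompletion.evalOneₐ J x = 0 := fun R _ J hJ x => by
    rw [← AdicCompletion.ker_evalOneₐ_eq_map J hJ]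
    rfl
  have hmapC : ∀ x : Ch, x ∈ I.map (algebraMap V Ch) ↔ AdicCompletion.evalOneₐ IC x = 0 := fun x => by
    rw [IsScalarTower.algebraMap_eq V C Ch, ← Ideal.map_map]
    exact hone C IC hIC x
  have hcomm : ∀ x : Ah, AdicCompletion.evalOneₐ IC (G x) = φ₀ (AdicCompletion.evalOneₐ IA x) := fun x => by
    obtain ⟨a, ha⟩ := Ideal.Quotient.mk_surjective (AdicCompletion.evalOneₐ IA x)
    have h1 : x - algebraMap A Ah a ∈ I.map (algebraMap V Ah) := by
      rw [IsScalarTower.algebraMap_eq V A Ah, ← Ideal.map_map]
      refine (hone A IA hIA _).2 ?_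
      rw [map_sub, AlgHom.commutes, ← ha, Ideal.Quotient.algebraMap_eq, sub_self]
    have h2 : G (x - algebraMap A Ah a) ∈ I.map (algebraMap V Ch) := by
      have := Ideal.mem_map_of_mem G.toRingHom h1
      rwa [Ideal.map_map, AlgHom.toRingHom_eq_coe, AlgHom.comp_algebraMap] at this
    have h3 := (hmapC _).1 h2
    rw [map_sub, map_sub, hG, sub_eq_zero] at h3
    rw [h3, ← ha]
    exact AlgHom.congr_fun hg a
  refine ⟨G, ?_, RingHom.ext hcomm⟩
  letI : Algebra Ah Ch := G.toRingHom.toAlgebra
  haveI : IsScalarTower V Ah Ch := IsScalarTower.of_algebraMap_eq fun v => (G.commutes v).symm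
  show Module.Finite Ah Ch
  letI : Algebra (A ⧸ IA) (C ⧸ IC) := φ₀.toRingHom.toAlgebra
  haveI : Module.Finite (A ⧸ IA) (C ⧸ IC) := hφ₀
  obtain ⟨n, s, hs⟩ := Module.Finite.exists_fin' (A ⧸ IA) (C ⧸ IC)
  choose e he using fun i => AdicCompletion.evalOneₐ_surjective IC (s (Pi.single i 1))
  haveI : IsNoetherianRing Ah := Compl.isNoetherianRing_adicCompletion _ hIA
  let mA := I.map (algebraMap V Ah)
  haveI : IsAdicComplete mA (Fin n → Ah) := Compl.isAdicComplete_of_finite mA _
  haveI : IsHausdorff mA Ch := by
    haveI : IsHausdorff (mA.map (algebraMap Ah Ch)) Ch := by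
      rw [Ideal.map_map, ← IsScalarTower.algebraMap_eq]; infer_instance
    exact IsHausdorff.map_algebraMap_iff.1 this
  refine Module.Finite.of_surjective (Fintype.linearCombination Ah e) (surjective_of_mkQ_comp_surjective (I := mA) fun y => ?_)
  obtain ⟨y, rfl⟩ := Submodule.mkQ_surjective _ y
  obtain ⟨c, hc⟩ := hs (AdicCompletion.evalOneₐ IC y)
  choose a ha using fun i => AdicCompletion.evalOneₐ_surjective IA (c i)
  refine ⟨a, ?_⟩
  rw [LinearMap.comp_apply, Submodule.mkQ_apply, Submodule.mkQ_apply, Submodule.Quotient.eq,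
    Ideal.smul_top_eq_map, Submodule.restrictScalars_mem, Ideal.map_map, ← IsScalarTower.algebraMap_eq, hmapC,
    map_sub, sub_eq_zero, Fintype.linearCombination_apply, map_sum, ← hc]
  conv_rhs => rw [pi_eq_sum_univ' c, map_sum]
  refine Finset.sum_congr rfl fun i _ => ?_
  rw [Algebra.smul_def, map_mul, map_smul, he, Algebra.smul_def, ← ha]
  congr 1
  exact hcomm (a i)

end Groth.Agent.S19376
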