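import Groth.Statements.S19379
import Groth.Agent.Lib.FSFlat3.Converse
import Groth.Agent.S4573
import Groth.Agent.Lib.FlatDepth.GeomFib

set_option autoImplicit false
universe u
open CAlg

namespace Groth.Agent.S19379

/-- Let A and B be Noetherian rings and let B be an A-algebra which is formally smooth for the discrete
topologies. Then A → B is a regular homomorphism, that is, flat with (Noetherian) geometrically
regular fibres. -/
theorem result
    (A B : Type u) [CommRing A] [CommRing B] [Algebra A B]
    [IsNoetherianRing A] [IsNoetherianRing B] [Algebra.FormallySmooth A B] :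
    CAlg.IsRegularHom A B := by
  classical
  haveI : ∀ (P : Ideal B) [P.IsPrime], Module.Flat A (Localization.AtPrime P) := by
    intro P _
    let p : Ideal A := P.comap (algebraMap A B)
    haveI : P.LiesOver p := ⟨rfl⟩
    letI := Localization.AtPrime.algebraOfLiesOver p P
    let Ap := Localization.AtPrime p
    let BP := Localization.AtPrime P
    haveI : IsLocalHom (algebraMap Ap BP) := Localization.isLocalHom_localRingHom p P (algebraMap A B) rfl
    haveI : Algebra.FormallySmooth A BP := Algebra.FormallySmooth.comp A B BP
    haveI : Algebra.FormallySmooth Ap BP := Algebra.FormallySmooth.localization_base p.primeCompl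
    haveI : Module.Flat Ap BP := Groth.Agent.FSFlat3.flat_of_isAdicFormallySmooth fun Q _ _ J hJ ψ _ => by
      exact Algebra.FormallySmooth.comp_surjective Ap BP J hJ ψ
    exact Module.Flat.trans A Ap BP
  haveI : Module.Flat A B := Module.flat_of_isLocalized_maximal B B (fun P _ => Localization.AtPrime P)
    (fun P _ => Algebra.linearMap B (Localization.AtPrime P)) (fun P _ => inferInstance)
  refine ⟨inferInstance, fun p _ => ⟨Groth.Agent.FlatDepth.isNoetherianRing_fiber p, fun k' _ _ hk' => ?_⟩⟩
  haveI := Groth.Agent.FlatDepth.isNoetherianRing_fiber (B := B) p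
  haveI := hk'
  let T := TensorProduct p.ResidueField k' (p.Fiber B)
  haveI : IsNoetherianRing (TensorProduct p.ResidueField (p.Fiber B) k') := IsNoetherianRing.of_finite (p.Fiber B) _
  haveI : IsNoetherianRing T :=
    isNoetherianRing_of_ringEquiv _ (Algebra.TensorProduct.comm p.ResidueField (p.Fiber B) k').toRingEquiv
  haveI : Algebra.FormallySmooth p.ResidueField (p.Fiber B) := inferInstance
  haveI : Algebra.FormallySmooth k' T := inferInstance
  refine isRegularRing_iff.2 fun Q _ => ?_
  let TQ := Localization.AtPrime Q
  haveI : IsNoetherianRing TQ := IsLocalization.isNoetherianRing Q.primeCompl TQ inferInstance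
  haveI : Algebra.FormallySmooth k' TQ := Algebra.FormallySmooth.comp k' T TQ
  obtain ⟨e, _⟩ := ExpChar.exists k'
  have had : CAlgX.IsAdicFormallySmooth k' TQ (IsLocalRing.maximalIdeal TQ) := fun R _ _ J hJ ψ _ =>
    Algebra.FormallySmooth.comp_surjective k' TQ J hJ ψ
  haveI : IsRegularRing (TensorProduct k' k' TQ) :=
    (Groth.Agent.S4573.result e).1 had k' inferInstance fun x => ⟨x ^ e, rfl⟩
  haveI : IsRegularRing TQ := IsRegularRing.of_ringEquiv (Algebra.TensorProduct.lid k' TQ).toRingEquiv
  exact IsRegularLocalRing.of_isRegularRing_of_isLocalRing TQ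

end Groth.Agent.S19379
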