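import Groth.Statements.S19380
import Mathlib
import Groth.Agent.Lib.H2Alg.WeakAss

set_option autoImplicit false
universe u
open CAlg

namespace Groth.Agent.S19380
open TensorProduct

/-- Let L be a commutative ring, σ a ring automorphism of L of finite order dividing d (σ^d = 1), and C
an r × r matrix over L. The reverse characteristic polynomial det(1 − T·N) of the twisted product N
= C·σ(C)·σ²(C)⋯σ^(d−1)(C), with σ applied to the entries, is fixed by σ acting on coefficients. (In
the source this is phrased for the fibre at a closed point x of degree d of a convergent F-module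
with Frobenius matrix C: the d-th iterate of the semilinear Frobenius of the fibre is the linear map
with matrix N, so its characteristic polynomial has coefficients in the subfield fixed by the
Frobenius of K(x), namely K, and likewise with the valuation ring in place of K for an integral
F-module; only this linear-algebra statement, over any commutative ring, is given here.) -/
theorem result
    (L : Type u) [CommRing L] (σ : L ≃+* L) (d : ℕ) (hσ : σ ^ d = 1)
    (r : ℕ) (C : Matrix (Fin r) (Fin r) L) :
    (Matrix.charpolyRev (((List.range d).map fun i => C.map ⇑(σ ^ i)).prod)).map (σ : L →+* L) =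
      Matrix.charpolyRev (((List.range d).map fun i => C.map ⇑(σ ^ i)).prod) := by
  rcases d.eq_zero_or_pos with rfl | hd
  · simp only [List.range_zero, List.map_nil, List.prod_nil, Matrix.charpolyRev]
    rw [← Polynomial.coe_mapRingHom, RingHom.map_det]
    congr 1
    ext a b
    rcases eq_or_ne a b with rfl | h <;> simp [*]
  obtain ⟨e, rfl⟩ := Nat.exists_eq_succ_of_ne_zero hd.ne'
  set P := fun i : ℕ => C.map ⇑(σ ^ i)
  have hP : ∀ i, (P i).map σ = P (i + 1) := fun i => by
    ext a b
    show σ ((σ ^ i) (C a b)) = (σ ^ (i + 1)) (C a b)
    rw [pow_succ']; rfl
  have hlast : P (e + 1) = P 0 := by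
    ext a b
    show (σ ^ (e + 1)) (C a b) = (σ ^ 0) (C a b)
    rw [hσ, pow_zero]
  have hmap : (((List.range (e + 1)).map P).prod).map σ = ((List.range e).map fun i => P (i + 1)).prod * P 0 := by
    have : (((List.range (e + 1)).map P).prod).map σ = ((List.range (e + 1)).map fun i => P (i + 1)).prod := by
      rw [show (((List.range (e + 1)).map P).prod).map σ = (RingHom.mapMatrix (σ : L →+* L)) ((List.range (e + 1)).map P).prod from rfl, map_list_prod, List.map_map]
      congr 1
      exact List.map_congr_left fun i _ => hP i
    rw [this, List.range_succ, List.map_append, List.prod_append]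
    simp [hlast]
  have hP' : ((List.range (e + 1)).map P).prod = P 0 * ((List.range e).map fun i => P (i + 1)).prod := by
    rw [List.range_succ_eq_map, List.map_cons, List.prod_cons, List.map_map]; rfl
  have key : ∀ M : Matrix (Fin r) (Fin r) L, M.charpolyRev = M.charpoly.reverse := fun M => (Matrix.reverse_charpoly M).symm
  rw [← Polynomial.coe_mapRingHom, key]
  show Polynomial.map (σ : L →+* L) _ = _
  rw [← key, show Polynomial.map (σ : L →+* L) (Matrix.charpolyRev ((List.range (e + 1)).map P).prod) = Matrix.charpolyRev ((((List.range (e + 1)).map P).prod).map σ) from by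
    simp only [Matrix.charpolyRev, ← Polynomial.coe_mapRingHom, RingHom.map_det]
    congr 1
    ext a b
    simp [Matrix.one_apply, apply_ite (Polynomial.map (σ : L →+* L)), Matrix.smul_apply]]
  rw [hmap, hP', key, key, Matrix.charpoly_mul_comm]

end Groth.Agent.S19380
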