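import Groth.Statements.S19383
import Mathlib
import Groth.Agent.Lib.CI2.TameLinear

set_option autoImplicit false
universe u
open CAlg

namespace Groth.Agent.S19383
open scoped TensorProduct

/-- Over a discrete valuation ring, let V be a henselian discrete valuation ring with maximal ideal 𝔪
and B a Noetherian V-algebra, B̂ its 𝔪B-adic completion. Then B is flat over V if and only if B̂ is
flat over V. (The published lemma takes V an excellent normal ring with an ideal I such that (V,
V/I) is a henselian pair and B of finite type; in that generality it fails: for V = ℤ_p[[x]], I =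
(p) and B = V[y]/(x, py − 1) ≅ ℚ_p one has IB = B, so B̂ = 0 is flat while B is not flat over V.
Over a discrete valuation ring flatness is torsion-freeness and the statement holds for every
Noetherian B.) -/
theorem result
    (V : Type u) [CommRing V] [IsDomain V] [IsDiscreteValuationRing V] [HenselianLocalRing V]
    (B : Type u) [CommRing B] [Algebra V B] [IsNoetherianRing B] :
    Module.Flat V B ↔
      Module.Flat V (AdicCompletion ((IsLocalRing.maximalIdeal V).map (algebraMap V B)) B) := by
  set J := (IsLocalRing.maximalIdeal V).map (algebraMap V B)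
  refine ⟨fun h => Module.Flat.trans V B _, fun h => ?_⟩
  obtain ⟨π, hπ⟩ := IsDiscreteValuationRing.exists_irreducible V
  have hJ : J = Ideal.span {algebraMap V B π} := by
    simp only [J, hπ.maximalIdeal_eq, Ideal.map_span, Set.image_singleton]
  haveI : Module.IsTorsionFree V (AdicCompletion J B) := inferInstance
  suffices hb : ∀ x : B, π • x = 0 → x = 0 by
    rw [IsDedekindDomain.flat_iff_torsion_eq_bot, eq_bot_iff]
    rintro x ⟨⟨c, hc⟩, hcx⟩
    rw [Submodule.mem_bot]
    obtain ⟨k, hk⟩ := IsDiscreteValuationRing.associated_pow_irreducible (nonZeroDivisors.ne_zero hc) hπ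
    have h0 : π ^ k • x = 0 := by
      obtain ⟨u, hu⟩ := hk
      rw [← hu, mul_comm, mul_smul, show c • x = 0 from hcx, smul_zero]
    clear hk
    induction k with
    | zero => simpa using h0
    | succ k ih => exact ih (hb _ (by rw [← mul_smul, ← pow_succ']; exact h0))
  intro x hx
  have h1 : AdicCompletion.of J B x = 0 := by
    have := congrArg (AdicCompletion.of J B) hx
    rw [map_zero, Algebra.smul_def, ← smul_eq_mul, map_smul, algebraMap_smul] at this
    exact (smul_eq_zero.1 this).resolve_left hπ.ne_zero
  have h2 : x ∈ ⨅ n : ℕ, J ^ n • (⊤ : Submodule B B) := Submodule.mem_iInf _ |>.2 fun n => by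
    have := congrArg (AdicCompletion.eval J B n) h1
    rwa [AdicCompletion.eval_of, map_zero, Submodule.mkQ_apply, Submodule.Quotient.mk_eq_zero] at this
  obtain ⟨⟨r, hr⟩, hrx⟩ := (Ideal.mem_iInf_smul_pow_eq_bot_iff J x).1 h2
  rw [hJ, Ideal.mem_span_singleton] at hr
  obtain ⟨b, rfl⟩ := hr
  rw [← hrx, smul_eq_mul]
  show algebraMap V B π * b * x = 0
  rw [mul_right_comm, ← Algebra.smul_def, hx, zero_mul]

end Groth.Agent.S19383
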