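import Groth.Statements.S19384
import Groth.Agent.Lib.Versch23.Basic
import Groth.Agent.Lib.MultType.LocalKill

set_option autoImplicit false
universe u
open Versch

namespace Groth.Agent.S19384

open TensorProduct


/-- Over a field and for one finite level, let k be a field of characteristic p > 0 and G = Spec A a
finite commutative k-group scheme (A a finite-dimensional commutative cocommutative Hopf algebra)
killed by p^n, i.e. the p^n-th power map of G is the trivial homomorphism, and suppose the
Verschiebung of G is an isomorphism (the ring map v : A → A ⊗_k k^(p) characterised as the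
Verschiebung is bijective). Then G is infinitesimal, more precisely the n-th iterate of its
Frobenius is trivial: a^(p^n) = 0 for every a in the augmentation ideal. (The source states this for
the p^n-torsion levels of a p-divisible group of multiplicative type over any scheme of
characteristic p and reduces to a field fibre by fibre; it also records that the Cartier dual has
unipotent fibres, which is not stated here.) -/
theorem result
    (p : ℕ) [Fact p.Prime] (k : Type u) [Field k] [CharP k p]
    (A : Type u) [CommRing A] [HopfAlgebra k A] [Coalgebra.IsCocomm k A] [Module.Finite k A]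
    (n : ℕ)
    (hn : SGA3b.powConv k A (p ^ n) = (Algebra.ofId k A).comp (Bialgebra.counitAlgHom k A))
    (v : A →+* FrobAlg.BaseChange p k A) (hv : Versch.IsVerschiebung p k A v)
    (hbij : Function.Bijective v)
    (a : A) (ha : Coalgebra.counit (R := k) a = 0) : a ^ (p ^ n) = 0 := by
  haveI : CharP A p := by
    haveI : Nontrivial A := (Bialgebra.counitAlgHom k A).toRingHom.domain_nontrivial
    exact charP_of_injective_algebraMap (algebraMap k A).injective p
  have key : ∀ j, ∀ b : A, ∃ c : A, b ^ p ^ j = SGA3b.powConv k A (p ^ j) c := by
    intro j
    induction j with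
    | zero => intro b; exact ⟨b, by simp [SGA3b.powConv]⟩
    | succ j ih =>
      intro b
      obtain ⟨x, hx⟩ := hbij.2 (b ⊗ₜ[k] (1 : FrobAlg.Twist p k))
      have h1 : b ^ p = SGA3b.powConv k A p x := by
        rw [← Versch23.relFrob_verschiebung v hv x, hx]
        simp [FrobAlg.relFrob, FrobAlg.frobHom, FrobAlg.inclHom, Algebra.TensorProduct.lift_tmul]
        rfl
      obtain ⟨c, hc⟩ := ih x
      refine ⟨c, ?_⟩
      rw [pow_succ', pow_mul, h1, ← map_pow, hc, MTSub29.powConv_powConv]
  obtain ⟨c, hc⟩ := key n a
  rw [hn] at hc
  have h2 : Bialgebra.counitAlgHom k A (a ^ p ^ n) = 0 := by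
    rw [map_pow, show Bialgebra.counitAlgHom k A a = 0 from ha, zero_pow (pow_ne_zero _ (Fact.out : p.Prime).pos.ne')]
  rw [hc, AlgHom.comp_apply, Algebra.ofId_apply, AlgHom.commutes] at h2
  rw [hc, AlgHom.comp_apply, Algebra.ofId_apply, show Bialgebra.counitAlgHom k A c = 0 from h2, map_zero]


end Groth.Agent.S19384
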