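import Groth.Statements.S19385
import Groth.Agent.Lib.HdgLef1.Main
import Groth.Agent.Lib.HdgLef1.Geo
import Groth.Agent.Lib.HdgLef1.Zero

set_option autoImplicit false
universe u
open CategoryTheory CategoryTheory.Limits AlgebraicGeometry
open HdgLef

namespace Groth.Agent.S19385

/-- Let X be a smooth proper scheme of dimension n over a field k and L an ample invertible O_X-module.
There is m₀ such that for every m ≥ m₀ and every global section s of L^{⊗m} with O_X → L^{⊗m}
injective (a regular section) whose zero scheme Y, with inclusion i : Y → X, is smooth over k, one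
has H^a(X, i_*Ω^b ⊗ L^{⊗m}) = 0 for every b-th exterior power Ω^b of the sheaf of differentials of Y
over k (in the affine-local sense) and all a, b with a + b > n − 1. (The published statement takes Y
among the degree-m hypersurface sections of a projective embedding and twists with O_X(Y); the
published argument uses only Serre vanishing for the powers of an ample invertible module, so zero
schemes of regular sections of L^{⊗m} are allowed here, with O_X(Y) = L^{⊗m}.) -/
theorem result
    (k : Type u) [Field k] (X : Scheme.{u}) [X.Over (Spec (CommRingCat.of k))]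
    [IsProper (X ↘ Spec (CommRingCat.of k))] [Smooth (X ↘ Spec (CommRingCat.of k))] (n : ℕ) (hn : topologicalKrullDim X = n)
    (L : X.Modules) (hL : CohB1.IsAmple L) :
    ∃ m₀ : ℕ, ∀ (m : ℕ), m₀ ≤ m →
      ∀ (s : Coh.structureModule X ⟶ CohB1.tensorPow L m) [Mono s]
        [Smooth ((PicF2.zeroScheme (CohB1.tensorPow L m) s).subschemeι ≫ (X ↘ Spec (CommRingCat.of k)))]
        (a b : ℕ) (OmY : (PicF2.zeroScheme (CohB1.tensorPow L m) s).subscheme.Modules),
        ExtPow.IsExtPow b (Omega.sheaf ((PicF2.zeroScheme (CohB1.tensorPow L m) s).subschemeι ≫ (X ↘ Spec (CommRingCat.of k)))) OmY →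
        n ≤ a + b →
        Subsingleton (Coh.HH X (CohB1.tensorMod ((Coh.push (PicF2.zeroScheme (CohB1.tensorPow L m) s).subschemeι).obj OmY)
          (CohB1.tensorPow L m)) a) := by
  open Groth.Agent in
  haveI : AlgebraicGeometry.IsNoetherian X := CohFound.isNoetherian_of_isProper (X ↘ Spec (CommRingCat.of k))
  obtain ⟨m₀, hm₀⟩ := HdgLef1.exists_pos k (n := n) hn.le hL
  refine ⟨m₀, fun m hm s _ _ a b OmY hOm hab => ?_⟩
  let P := CohB1.tensorPow L m
  have hP : PicF.IsInvertible P := M2.isInvertible_tensorPow (Amp.isAmple_iff.1 hL).1 m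
  let I := PicF2.zeroScheme P s
  obtain ⟨e⟩ := HdgLef1.nonempty_idealMod_tensor hP s
  have hM : PicF.IsInvertible (ClSub.idealMod I) := M2.isInvertible_of_tensor_iso hP e
  letI : Scheme.Over I.subscheme (Spec (CommRingCat.of k)) := ⟨I.subschemeι ≫ (X ↘ Spec (CommRingCat.of k))⟩
  have hc := HdgLef1.conormal_of_smooth (X ↘ Spec (CommRingCat.of k)) I hM
  have h := hc.van_pos k rfl n (fun b hb => HdgLef1.isZero_forms k hn.le hb) hP e
    (fun j c a hj ha => HdgLef1.van_congr k (M2.tensorIso (Iso.refl _) (M2.tensorPowPow L m j).symm)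
      (hm₀ (m * j) (hm.trans (Nat.le_mul_of_pos_right m hj)) c a ha)) a b 1 le_rfl hab
  obtain ⟨t⟩ := ExtFil4.isoExtPow (HdgLef1.isExtPow_E hc.locFree' b) hOm
  let N := CohB1.tensorMod OmY (HdgLef1.res I P)
  have hN : Subsingleton (Coh.HH I.subscheme N a) :=
    HdgLef1.van_congr k (M2.tensorIso t ((Scheme.Modules.pullback I.subschemeι).mapIso (M2.tensorPowOne P))) h
  have hOq : Coh.IsQCoh OmY := M2.isQCoh_of_isFinLocFree (DeRhamH7.isFinLocFree_extPow hc.locFree' hOm)
  obtain ⟨ε⟩ := HdgLef1.nonempty_push_equiv I k rfl N (M2.isQCoh_tensor hOq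
    (M2.isQCoh_of_isFinLocFree (M2.isFinLocFree_pullback _ (M2.isFinLocFree_of_isInvertible hP)))) a
  obtain ⟨p⟩ := CohFound.nonempty_push_tensor_iso I.subschemeι OmY hOq P
    (M2.isQCoh_of_isFinLocFree (M2.isFinLocFree_of_isInvertible hP))
  exact HdgLef1.van_congr k p ε.toEquiv.subsingleton

end Groth.Agent.S19385
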