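import Groth.Statements.S19386
import Groth.Agent.Lib.HdgLef1.Main
import Groth.Agent.Lib.HdgLef1.Geo
import Groth.Agent.Lib.HdgLef1.Zero

set_option autoImplicit false
universe u
open CategoryTheory CategoryTheory.Limits AlgebraicGeometry
open HdgLef

namespace Groth.Agent.S19386

/-- Let X be an irreducible smooth proper scheme of dimension n over a field k and L an ample invertible
O_X-module. There is m₀ such that for every m ≥ m₀, every global section s of L^{⊗m} with O_X →
L^{⊗m} injective whose zero scheme Y, with inclusion i : Y → X, is smooth over k, and all p-th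
exterior powers Ω^p_X of the differentials of X over k and Ω^p_Y of the differentials of Y over k
(affine-local sense), the k-dimensions of H^q(X, Ω^p_X) and of H^q(X, i_*Ω^p_Y) = H^q(Y, Ω^p_Y)
agree when p + q < n − 1, and the first is at most the second when p + q = n − 1. (The published
statement asserts that the restriction map is bijective, resp. injective, in these ranges; only the
resulting comparison of dimensions is stated, the pull-back map on exterior powers not being
available as a named map here. X is taken irreducible: for a disjoint union of projective 3-space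
with a curve of positive genus the comparison fails for p = 0, q = 1. The published statement takes
Y among the degree-m hypersurface sections of a projective embedding; the published argument uses
only Serre vanishing and duality for the powers of an ample invertible module.) -/
theorem result
    (k : Type u) [Field k] (X : Scheme.{u}) [X.Over (Spec (CommRingCat.of k))]
    [IsProper (X ↘ Spec (CommRingCat.of k))] [Smooth (X ↘ Spec (CommRingCat.of k))] [IrreducibleSpace X]
    (n : ℕ) (hn : topologicalKrullDim X = n)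
    (L : X.Modules) (hL : CohB1.IsAmple L) :
    ∃ m₀ : ℕ, ∀ (m : ℕ), m₀ ≤ m →
      ∀ (s : Coh.structureModule X ⟶ CohB1.tensorPow L m) [Mono s]
        [Smooth ((PicF2.zeroScheme (CohB1.tensorPow L m) s).subschemeι ≫ (X ↘ Spec (CommRingCat.of k)))]
        (p q : ℕ) (OmX : X.Modules) (OmY : (PicF2.zeroScheme (CohB1.tensorPow L m) s).subscheme.Modules),
        ExtPow.IsExtPow p (Omega.sheaf (X ↘ Spec (CommRingCat.of k))) OmX →
        ExtPow.IsExtPow p (Omega.sheaf ((PicF2.zeroScheme (CohB1.tensorPow L m) s).subschemeι ≫ (X ↘ Spec (CommRingCat.of k)))) OmY →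
        (p + q + 1 < n → Module.finrank k (Coh.HH X OmX q) = Module.finrank k (Coh.HH X ((Coh.push (PicF2.zeroScheme (CohB1.tensorPow L m) s).subschemeι).obj OmY) q)) ∧
        (p + q + 1 = n → Module.finrank k (Coh.HH X OmX q) ≤ Module.finrank k (Coh.HH X ((Coh.push (PicF2.zeroScheme (CohB1.tensorPow L m) s).subschemeι).obj OmY) q)) := by
  open Groth.Agent in
  haveI : AlgebraicGeometry.IsNoetherian X := CohFound.isNoetherian_of_isProper (X ↘ Spec (CommRingCat.of k))
  have hLi : PicF.IsInvertible L := (Amp.isAmple_iff.1 hL).1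
  obtain ⟨L', hL', ⟨e'⟩⟩ := M2.exists_inverse hLi
  obtain ⟨m₀, hm₀⟩ := HdgLef1.exists_neg k hn hL e'
  refine ⟨m₀, fun m hm s _ _ p q OmX OmY hX hY => ?_⟩
  let P := CohB1.tensorPow L m
  have hP : PicF.IsInvertible P := M2.isInvertible_tensorPow hLi m
  let I := PicF2.zeroScheme P s
  obtain ⟨e⟩ := HdgLef1.nonempty_idealMod_tensor hP s
  have hM : PicF.IsInvertible (ClSub.idealMod I) := M2.isInvertible_of_tensor_iso hP e
  letI : Scheme.Over I.subscheme (Spec (CommRingCat.of k)) := ⟨I.subschemeι ≫ (X ↘ Spec (CommRingCat.of k))⟩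
  have hc := HdgLef1.conormal_of_smooth (X ↘ Spec (CommRingCat.of k)) I hM
  let uM : ClSub.idealMod I ≅ CohB1.tensorPow L' m := M2.inverseUnique (M := P)
    (M2.tensorComm P (ClSub.idealMod I) ≪≫ e) (ES11.powInvIso e' m)
  have hvan : ∀ j c i : ℕ, 1 ≤ j → c + i < n → Subsingleton (Coh.HH X
      (CohB1.tensorMod (Wedge2.extMod c (Omega.sheaf (X ↘ Spec (CommRingCat.of k))))
        (CohB1.tensorPow (ClSub.idealMod I) j)) i) := fun j c i hj hci =>
    HdgLef1.van_congr k (M2.tensorIso (Iso.refl _) (M2.tensorPowIso uM j ≪≫ M2.tensorPowPow L' m j).symm)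
      (hm₀ (m * j) (hm.trans (Nat.le_mul_of_pos_right m hj)) c i hci)
  obtain ⟨tX⟩ := ExtFil4.isoExtPow (HdgLef1.isExtPow_E hc.locFree p) hX
  obtain ⟨tY⟩ := ExtFil4.isoExtPow (HdgLef1.isExtPow_E hc.locFree' p) hY
  have hYf : FlatMod.IsFinLocFree OmY := DeRhamH7.isFinLocFree_extPow hc.locFree' hY
  obtain ⟨ε⟩ := HdgLef1.nonempty_push_equiv I k rfl OmY (M2.isQCoh_of_isFinLocFree hYf) q
  let eX := CurveCoh17.hequiv k tX q
  let eY := (CurveCoh17.hequiv k tY q).trans ε.symm
  refine ⟨fun h => ?_, fun h => ?_⟩
  · obtain ⟨r, hr, hr'⟩ := hc.exists_map k rfl n hvan p q h.le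
    exact ((eX.symm.trans (LinearEquiv.ofBijective r ⟨hr, hr' h⟩)).trans eY).finrank_eq
  · obtain ⟨r, hr, -⟩ := hc.exists_map k rfl n hvan p q h.le
    haveI : Module.Finite k (Coh.HH X ((Coh.push I.subschemeι).obj OmY) q) :=
      CohFound.finite_HH_of_isProper _ (CohFound.isCoh_push_closedImm _ (CohFound.isCoh_of_isFinLocFree hYf)) q
    exact LinearMap.finrank_le_finrank_of_injective (f := eY.toLinearMap.comp (r.comp eX.symm.toLinearMap))
      (eY.injective.comp (hr.comp eX.symm.injective))

end Groth.Agent.S19386
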