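import Groth.Statements.S19389
import Groth.Agent.Lib.PicWittH7.Global

set_option backward.isDefEq.respectTransparency false
set_option linter.style.haveILetI false

set_option autoImplicit false
universe u
open CategoryTheory CategoryTheory.Limits AlgebraicGeometry
open PicThk

namespace Groth.Agent.S19389

open Groth.Agent.PicWittH7 IsLocalRing in
/-- Both assertions over a complete discrete valuation ring. -/
theorem aux {A : Type u} [CommRing A] [IsLocalRing A] [IsNoetherianRing A] (p : A) (P : ℕ) (hP : (P : A) = p)
    (I : Ideal A) (hI : I = Ideal.span {p}) (hm : maximalIdeal A = I) [IsAdicComplete I A]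
    {X : Scheme.{u}} (f : X ⟶ Spec (CommRingCat.of A)) [IsProper f] [SmoothOfRelativeDimension 1 f]
    [PicGrp.Law X] [∀ n : ℕ, PicGrp.Law (CohB1.thick f I n)]
    (hι : ∀ n : ℕ, PicGrp.PullMul (CohB1.thickι f I n)) (i : ℕ) :
    (∀ n : ℕ, Function.Surjective (PicGrp.pullHom (CohB1.thickι f I n) (hι n))) ∧
    ∃ t : ℕ, ∀ a : PicLoc.PicSet X,
      (∃ b : PicLoc.PicSet (CohB1.thick f I t), b ^ (P ^ i) = PicGrp.pullHom (CohB1.thickι f I t) (hι t) a) →
      ∃ a' : PicLoc.PicSet X, a' ^ (P ^ i) = a := by
  subst hm
  haveI : (maximalIdeal A ^ (0 + 1)).IsMaximal := by rw [zero_add, pow_one]; infer_instance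
  letI : Field (A ⧸ maximalIdeal A ^ (0 + 1)) := Ideal.Quotient.field _
  haveI : MorphismProperty.IsStableUnderBaseChange (@SmoothOfRelativeDimension.{u} 1) :=
    smoothOfRelativeDimension_isStableUnderBaseChange 1
  haveI : SmoothOfRelativeDimension 1 (CohB1.thickToBase f (maximalIdeal A) 0) :=
    MorphismProperty.of_isPullback (P := @SmoothOfRelativeDimension 1)
      (IsPullback.of_hasPullback f (CohB1.specQuot (maximalIdeal A) 0)) inferInstance
  have hv : ∀ n, Van2 (CohB1.thick f (maximalIdeal A) n) := van2_thick f _
    (topologicalKrullDim_le_of_smooth (CohB1.thickToBase f (maximalIdeal A) 0) 1)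
  refine ⟨surjective_level f _ hι (algProp f hι) hv, 2 * i, fun a ha => ?_⟩
  obtain ⟨b, hb⟩ := ha
  exact exists_root f _ hι (algProp f hι) hv p hI (injProp f hι) (by rw [Nat.cast_pow, hP]) a b hb

/-- Let p > 2 be a prime, k a finite field of characteristic p and W = W(k) its ring of Witt vectors;
let f : X → Spec W be proper and smooth of relative dimension 1 with an ample invertible O_X-module
(a smooth projective relative curve), and X_n = X ×_W Spec W/(p^{n+1}) the infinitesimal thickenings
of the special fibre, with inclusions ι_n : X_n → X. Granting the group laws of the Picard groups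
involved and the multiplicativity of pull-back of invertible classes along each ι_n, the restriction
maps Pic(X) → Pic(X_n) are all surjective, and for every i there is a level t such that a class on X
whose restriction to X_t is a p^i-th power is already a p^i-th power in Pic(X). (The published proof
identifies CH^1(X) with Pic(X) and H^1(X_1, K^M_1 of X_n) with Pic(X_n) and states that CH^1(X) ⊗
Z/p^i → (Pic(X_n) ⊗ Z/p^i)_n is an isomorphism of pro-abelian groups; the two assertions here are
what its proof establishes and imply that pro-isomorphism, the first giving levelwise surjectivity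
and the second the vanishing of the kernel pro-system.) -/
theorem result
    (p : ℕ) [Fact p.Prime] (hp : 2 < p) (k : Type u) [Field k] [Finite k] [CharP k p]
    (X : Scheme.{u}) (f : X ⟶ Spec (CommRingCat.of (WittVector p k))) [IsProper f] [SmoothOfRelativeDimension 1 f]
    (L : X.Modules) (hL : CohB1.IsAmple L)
    [PicGrp.Law X] [∀ n : ℕ, PicGrp.Law (CohB1.thick f (Ideal.span (singleton (p : (WittVector p k)))) n)]
    (hι : ∀ n : ℕ, PicGrp.PullMul (CohB1.thickι f (Ideal.span (singleton (p : (WittVector p k)))) n)) (i : ℕ) :
    (∀ n : ℕ, Function.Surjective (PicGrp.pullHom (CohB1.thickι f (Ideal.span (singleton (p : (WittVector p k)))) n) (hι n))) ∧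
    ∃ t : ℕ, ∀ a : PicLoc.PicSet X,
      (∃ b : PicLoc.PicSet (CohB1.thick f (Ideal.span (singleton (p : (WittVector p k)))) t), b ^ (p ^ i) = PicGrp.pullHom (CohB1.thickι f (Ideal.span (singleton (p : (WittVector p k)))) t) (hι t) a) →
      ∃ a' : PicLoc.PicSet X, a' ^ (p ^ i) = a := by
  exact aux (p : WittVector p k) p rfl _ rfl (WittVector.irreducible p (k := k)).maximalIdeal_eq f hι i

end Groth.Agent.S19389
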