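import Groth.Statements.S19390
import Mathlib.GroupTheory.Perm.Basic
import Mathlib.Data.Fintype.Card
import Mathlib.Data.Finset.Max

set_option autoImplicit false
universe u
open GIT

namespace Groth.Agent.S19390

open Finset

variable {α : Type u} [DecidableEq α] {n : ℕ}

lemma exists_derangement (x : Fin n → α) : ∀ (m : ℕ) (s : Finset (Fin n)), s.card = 2 * m →
    (∀ a, (s.filter fun k => x k = a).card ≤ m) →
    ∃ σ : Equiv.Perm (Fin n), (∀ k ∈ s, x (σ k) ≠ x k ∧ σ k ∈ s) ∧ ∀ k ∉ s, σ k = k := by
  intro m
  induction m with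
  | zero =>
    intro s hs _
    exact ⟨1, fun k hk => by simp [Finset.card_eq_zero.mp hs] at hk, fun k _ => rfl⟩
  | succ m ih =>
    intro s hs hc
    set cnt : Fin n → ℕ := fun k => (s.filter fun l => x l = x k).card with hcnt
    have hsne : s.Nonempty := card_pos.mp (by omega)
    obtain ⟨p, hp, hpmax⟩ := s.exists_max_image cnt hsne
    have hT : (s.filter fun l => x l ≠ x p).Nonempty := by
      have := hc (x p)
      have h2 := card_filter_add_card_filter_not (s := s) (fun l => x l = x p)
      exact card_pos.mp (by simp only [ne_eq]; omega)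
    obtain ⟨q, hqf, hqmax⟩ := (s.filter fun l => x l ≠ x p).exists_max_image cnt hT
    obtain ⟨hq, hqp⟩ := mem_filter.mp hqf
    have hpq : p ≠ q := fun h => hqp (by rw [h])
    have hs' : ((s.erase p).erase q).card = 2 * m := by
      rw [card_erase_of_mem (mem_erase.mpr ⟨hpq.symm, hq⟩), card_erase_of_mem hp]; omega
    have hc' : ∀ a, (((s.erase p).erase q).filter fun k => x k = a).card ≤ m := by
      intro a
      have hsub : ((s.erase p).erase q).filter (fun k => x k = a) ⊆ s.filter fun k => x k = a := by
        intro k hk; simp only [mem_filter, mem_erase] at hk ⊢; exact ⟨hk.1.2.2, hk.2⟩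
      by_cases hap : x p = a
      · have hlt : ((s.erase p).erase q).filter (fun k => x k = a) ⊂ s.filter fun k => x k = a :=
          (Finset.ssubset_iff_of_subset hsub).mpr ⟨p, by simp [hp, hap], by simp⟩
        have := card_lt_card hlt; have := hc a; omega
      by_cases haq : x q = a
      · have hlt : ((s.erase p).erase q).filter (fun k => x k = a) ⊂ s.filter fun k => x k = a :=
          (Finset.ssubset_iff_of_subset hsub).mpr ⟨q, by simp [hq, haq], by simp⟩
        have := card_lt_card hlt; have := hc a; omega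
      refine le_trans (card_le_card hsub) ?_
      by_contra hlt
      obtain ⟨r, hrf⟩ := card_pos.mp (show 0 < (s.filter fun k => x k = a).card by omega)
      obtain ⟨hr, rfl⟩ := mem_filter.mp hrf
      have h1 := hpmax r hr
      have h2 := hqmax r (mem_filter.mpr ⟨hr, fun h => hap h.symm⟩)
      have hdisj : (s.filter fun l => x l = x p).card + (s.filter fun l => x l = x q).card +
          (s.filter fun l => x l = x r).card ≤ s.card := by
        rw [← card_union_of_disjoint (disjoint_filter.mpr fun l _ h h' => hqp (h'.symm.trans h)),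
          ← card_union_of_disjoint]
        · exact card_le_card (union_subset (union_subset (filter_subset _ _) (filter_subset _ _)) (filter_subset _ _))
        · rw [disjoint_union_left]
          exact ⟨disjoint_filter.mpr fun l _ h h' => hap (h.symm.trans h'),
            disjoint_filter.mpr fun l _ h h' => haq (h.symm.trans h')⟩
      simp only [hcnt] at h1 h2
      omega
    obtain ⟨σ, hσ, hfix⟩ := ih _ hs' hc'
    refine ⟨Equiv.swap p q * σ, fun k hk => ?_, fun k hk => ?_⟩
    · rw [Equiv.Perm.mul_apply]
      rcases eq_or_ne k p with rfl | hkp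
      · rw [hfix _ (by simp), Equiv.swap_apply_left]; exact ⟨hqp, hq⟩
      rcases eq_or_ne k q with rfl | hkq
      · rw [hfix _ (by simp), Equiv.swap_apply_right]; exact ⟨fun h => hqp h.symm, hp⟩
      obtain ⟨h1, h2⟩ := hσ k (by simp [hk, hkp, hkq])
      simp only [mem_erase] at h2
      rw [Equiv.swap_apply_of_ne_of_ne h2.2.1 h2.1]
      exact ⟨h1, h2.2.2⟩
    · rw [Equiv.Perm.mul_apply, hfix _ (by simp [hk]), Equiv.swap_apply_of_ne_of_ne]
      · exact fun h => hk (h ▸ hp)
      · exact fun h => hk (h ▸ hq)


/-- Let e ≥ 1, n = 2e + 1, and let x_1, …, x_n be points such that no point occurs more than e times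
among them (the stability condition for n ordered points on a line, n odd). Then there are index
sequences i_1, …, i_n and j_1, …, j_n in which every index between 1 and n occurs exactly twice in
total, such that x_{i_k} ≠ x_{j_k} for every k and (i_1, i_2, i_3) = (j_3, j_1, j_2). Indices are
written 0, …, n − 1 here. -/
theorem result {α : Type u} [DecidableEq α] (e : ℕ) (he : 1 ≤ e)
    (x : Fin (2 * e + 1) → α)
    (hx : ∀ a : α, (Finset.univ.filter fun k => x k = a).card ≤ e) :
    ∃ i j : Fin (2 * e + 1) → Fin (2 * e + 1),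
      (∀ m : Fin (2 * e + 1),
        (Finset.univ.filter fun k => i k = m).card + (Finset.univ.filter fun k => j k = m).card = 2) ∧
      (∀ k, x (i k) ≠ x (j k)) ∧
      i 0 = j 2 ∧ i 1 = j 0 ∧ i 2 = j 1 := by
  classical
  set cnt : Fin (2 * e + 1) → ℕ := fun k => (univ.filter fun l => x l = x k).card with hcnt
  obtain ⟨a, -, hamax⟩ := (univ : Finset (Fin (2 * e + 1))).exists_max_image cnt univ_nonempty
  have hTb : (univ.filter fun l => x l ≠ x a).Nonempty := by
    have := hx (x a)
    have h2 := card_filter_add_card_filter_not (s := (univ : Finset (Fin (2 * e + 1)))) (fun l => x l = x a)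
    rw [card_univ, Fintype.card_fin] at h2
    exact card_pos.mp (by simp only [ne_eq]; omega)
  obtain ⟨b, hb, hbmax⟩ := (univ.filter fun l => x l ≠ x a).exists_max_image cnt hTb
  have hba : x b ≠ x a := (mem_filter.mp hb).2
  have hTc : (univ.filter fun l => x l ≠ x a ∧ x l ≠ x b).Nonempty := by
    by_contra h
    rw [not_nonempty_iff_eq_empty, filter_eq_empty_iff] at h
    have hsub : (univ : Finset (Fin (2 * e + 1))) ⊆ (univ.filter fun l => x l = x a) ∪ (univ.filter fun l => x l = x b) := by
      intro l _
      have := h (mem_univ l)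
      simp only [mem_union, mem_filter, mem_univ, true_and]
      tauto
    have h1 := (card_le_card hsub).trans (card_union_le _ _)
    rw [card_univ, Fintype.card_fin] at h1
    have := hx (x a); have := hx (x b); omega
  obtain ⟨c, hc, hcmax⟩ := (univ.filter fun l => x l ≠ x a ∧ x l ≠ x b).exists_max_image cnt hTc
  obtain ⟨hca, hcb⟩ := (mem_filter.mp hc).2
  have ab : a ≠ b := fun h => hba (by rw [h])
  have ac : a ≠ c := fun h => hca (by rw [h])
  have bc : b ≠ c := fun h => hcb (by rw [h])
  set s := ((univ.erase a).erase b).erase c with hs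
  have hcard : s.card = 2 * (e - 1) := by
    rw [hs, card_erase_of_mem (by simp [ac.symm, bc.symm]), card_erase_of_mem (by simp [ab.symm]),
      card_erase_of_mem (mem_univ _), card_univ, Fintype.card_fin]
    omega
  have hbound : ∀ v, (s.filter fun k => x k = v).card ≤ e - 1 := by
    intro v
    have hsub : (s.filter fun k => x k = v) ⊆ univ.filter fun k => x k = v :=
      fun k hk => by simp only [mem_filter] at hk ⊢; exact ⟨mem_univ _, hk.2⟩
    have hlt : ∀ p, p ∉ s → x p = v → (s.filter fun k => x k = v).card ≤ e - 1 := by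
      intro p hp hpv
      have := card_lt_card ((Finset.ssubset_iff_of_subset hsub).mpr ⟨p, by simp [hpv], by simp [hp]⟩)
      have := hx v; omega
    by_cases h1 : x a = v
    · exact hlt a (by simp [hs]) h1
    by_cases h2 : x b = v
    · exact hlt b (by simp [hs]) h2
    by_cases h3 : x c = v
    · exact hlt c (by simp [hs]) h3
    refine le_trans (card_le_card hsub) ?_
    by_contra hlt'
    obtain ⟨r, hr⟩ := card_pos.mp (show 0 < (univ.filter fun k => x k = v).card by omega)
    obtain ⟨-, rfl⟩ := mem_filter.mp hr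
    have e1 := hamax r (mem_univ _)
    have e2 := hbmax r (mem_filter.mpr ⟨mem_univ _, fun h => h1 h.symm⟩)
    have e3 := hcmax r (mem_filter.mpr ⟨mem_univ _, fun h => h1 h.symm, fun h => h2 h.symm⟩)
    simp only [hcnt] at e1 e2 e3
    have hdisj : (univ.filter fun l => x l = x a).card + (univ.filter fun l => x l = x b).card +
        (univ.filter fun l => x l = x c).card + (univ.filter fun l => x l = x r).card ≤ 2 * e + 1 := by
      rw [← card_union_of_disjoint (disjoint_filter.mpr fun l _ h h' => hba (h'.symm.trans h)),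
        ← card_union_of_disjoint, ← card_union_of_disjoint]
      · simpa using card_le_univ ((((univ.filter fun l => x l = x a) ∪ univ.filter fun l => x l = x b) ∪ univ.filter fun l => x l = x c) ∪ univ.filter fun l => x l = x r)
      · simp only [disjoint_union_left]
        exact ⟨⟨disjoint_filter.mpr fun l _ h h' => h1 (h.symm.trans h'),
          disjoint_filter.mpr fun l _ h h' => h2 (h.symm.trans h')⟩,
          disjoint_filter.mpr fun l _ h h' => h3 (h.symm.trans h')⟩
      · rw [disjoint_union_left]
        exact ⟨disjoint_filter.mpr fun l _ h h' => hca (h'.symm.trans h),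
          disjoint_filter.mpr fun l _ h h' => hcb (h'.symm.trans h)⟩
    omega
  obtain ⟨σ, hσ, hfix⟩ := exists_derangement x (e - 1) s hcard hbound
  let τ : Equiv.Perm (Fin (2 * e + 1)) := σ * (Equiv.swap a b * Equiv.swap b c)
  have hτa : τ a = b := by
    simp only [τ, Equiv.Perm.mul_apply]
    rw [Equiv.swap_apply_of_ne_of_ne ab ac, Equiv.swap_apply_left, hfix b (by simp [hs])]
  have hτb : τ b = c := by
    simp only [τ, Equiv.Perm.mul_apply]
    rw [Equiv.swap_apply_left, Equiv.swap_apply_of_ne_of_ne ac.symm bc.symm, hfix c (by simp [hs])]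
  have hτc : τ c = a := by
    simp only [τ, Equiv.Perm.mul_apply]
    rw [Equiv.swap_apply_right, Equiv.swap_apply_right, hfix a (by simp [hs])]
  have hτ : ∀ k, x (τ k) ≠ x k := by
    intro k
    rcases eq_or_ne k a with rfl | hka
    · rw [hτa]; exact hba
    rcases eq_or_ne k b with rfl | hkb
    · rw [hτb]; exact hcb
    rcases eq_or_ne k c with rfl | hkc
    · rw [hτc]; exact hca.symm
    simp only [τ, Equiv.Perm.mul_apply]
    rw [Equiv.swap_apply_of_ne_of_ne hkb hkc, Equiv.swap_apply_of_ne_of_ne hka hkb]
    exact (hσ k (by simp [hs, hka, hkb, hkc])).1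
  let z0 : Fin (2 * e + 1) := ⟨0, by omega⟩
  let z1 : Fin (2 * e + 1) := ⟨1, by omega⟩
  let z2 : Fin (2 * e + 1) := ⟨2, by omega⟩
  obtain ⟨π, hπ0, hπ1, hπ2⟩ : ∃ π : Equiv.Perm (Fin (2 * e + 1)), π z0 = a ∧ π z1 = b ∧ π z2 = c := by
    let p0 : Equiv.Perm (Fin (2 * e + 1)) := Equiv.swap z0 a
    let p1 : Equiv.Perm (Fin (2 * e + 1)) := p0 * Equiv.swap z1 (p0.symm b)
    let p2 : Equiv.Perm (Fin (2 * e + 1)) := p1 * Equiv.swap z2 (p1.symm c)
    have n01 : z0 ≠ z1 := by simp [z0, z1]
    have n02 : z0 ≠ z2 := by simp [z0, z2]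
    have n12 : z1 ≠ z2 := by simp [z1, z2]
    have a0 : p0 z0 = a := Equiv.swap_apply_left _ _
    have a1 : p1 z0 = a := by
      simp only [p1, Equiv.Perm.mul_apply]
      rw [Equiv.swap_apply_of_ne_of_ne n01 (fun h => ab (by rw [← a0, h, Equiv.apply_symm_apply]))]
      exact a0
    have b1 : p1 z1 = b := by simp [p1]
    refine ⟨p2, ?_, ?_, ?_⟩
    · simp only [p2, Equiv.Perm.mul_apply]
      rw [Equiv.swap_apply_of_ne_of_ne n02 (fun h => ac (by rw [← a1, h, Equiv.apply_symm_apply]))]
      exact a1
    · simp only [p2, Equiv.Perm.mul_apply]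
      rw [Equiv.swap_apply_of_ne_of_ne n12 (fun h => bc (by rw [← b1, h, Equiv.apply_symm_apply]))]
      exact b1
    · simp [p2]
  refine ⟨fun k => π k, fun k => τ (π k), fun m => ?_, fun k => (hτ (π k)).symm, ?_, ?_, ?_⟩
  · have h : ∀ p : Equiv.Perm (Fin (2 * e + 1)), (univ.filter fun k => p k = m).card = 1 := fun p => by
      rw [card_eq_one]
      exact ⟨p.symm m, by ext k; simp [Equiv.eq_symm_apply]⟩
    have h1 := h π
    have h2 := h (τ * π)
    simp only [Equiv.Perm.mul_apply] at h2
    simp only [h1, h2]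
  · have h0 : (0 : Fin (2 * e + 1)) = z0 := Fin.ext rfl
    have h2 : (2 : Fin (2 * e + 1)) = z2 := Fin.ext (by show 2 % (2 * e + 1) = 2; exact Nat.mod_eq_of_lt (by omega))
    show π 0 = τ (π 2)
    rw [h0, h2, hπ0, hπ2, hτc]
  · have h0 : (0 : Fin (2 * e + 1)) = z0 := Fin.ext rfl
    have h1 : (1 : Fin (2 * e + 1)) = z1 := Fin.ext (by show 1 % (2 * e + 1) = 1; exact Nat.mod_eq_of_lt (by omega))
    show π 1 = τ (π 0)
    rw [h0, h1, hπ0, hπ1, hτa]
  · have h1 : (1 : Fin (2 * e + 1)) = z1 := Fin.ext (by show 1 % (2 * e + 1) = 1; exact Nat.mod_eq_of_lt (by omega))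
    have h2 : (2 : Fin (2 * e + 1)) = z2 := Fin.ext (by show 2 % (2 * e + 1) = 2; exact Nat.mod_eq_of_lt (by omega))
    show π 2 = τ (π 1)
    rw [h1, h2, hπ1, hπ2, hτb]

end Groth.Agent.S19390
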