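import Groth.Statements.S19392
import Groth.Agent.Lib.Quartic28.Basic

set_option autoImplicit false
universe u
open InvQ

namespace Groth.Agent.S19392

/-- Over a field of characteristic different from 2 and 3, a nonzero binary quartic f has P(f) = Q(f) =
0 for the two basic invariants P, Q if and only if f has a triple zero. Stated for f = ∏_i (μ_i X₀ −
λ_i X₁) given by four root points (λ_i, μ_i) ≠ (0, 0) (over an algebraically closed field every
nonzero quartic form is of this shape), with the integral invariants I = 6P and J = 72Q of the
coefficients of f; a triple zero means that three of the four root points are pairwise proportional. -/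
theorem result (k : Type u) [Field k]
    (h2 : (2 : k) ≠ 0) (h3 : (3 : k) ≠ 0) (la mu : Fin 4 → k) (hne : ∀ i, la i ≠ 0 ∨ mu i ≠ 0) :
    (W4c6intromoduli.invI (W4c6intromoduli.coef la mu) = 0 ∧
        W4c6intromoduli.invJ (W4c6intromoduli.coef la mu) = 0) ↔
      ∃ i j l : Fin 4, i ≠ j ∧ j ≠ l ∧ i ≠ l ∧
        la i * mu j = la j * mu i ∧ la j * mu l = la l * mu j := by
  rw [Groth.Agent.Quartic28.invI_eq, Groth.Agent.Quartic28.invJ_eq]
  constructor
  · rintro ⟨hI, hJ⟩
    generalize ha : Groth.Agent.Quartic28.pA la mu = a at hI hJ
    generalize hb : Groth.Agent.Quartic28.pB la mu = b at hI hJ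
    obtain ⟨rfl, rfl⟩ : a = 0 ∧ b = 0 := by
      simp only [mul_eq_zero, sub_eq_zero] at hJ
      rcases hJ with (h | h) | h
      · subst h
        have hsq : (3 : k) * (a * a) = 0 := by linear_combination hI
        simpa [h3] using hsq
      · have ha' : a = -2 * b := by linear_combination h
        subst ha'
        have hsq : (3 : k) * (b * b) = 0 := by linear_combination hI
        have hb0 : b = 0 := by simpa [h3] using hsq
        simp [hb0]
      · have hb' : b = -2 * a := by linear_combination -h
        subst hb'
        have hsq : (3 : k) * (a * a) = 0 := by linear_combination hI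
        have ha0 : a = 0 := by simpa [h3] using hsq
        simp [ha0]
    exact Groth.Agent.Quartic28.exists_triple ha hb
  · rintro ⟨i, j, l, hij, hjl, hil, h, h'⟩
    obtain ⟨ha, hb⟩ := Groth.Agent.Quartic28.pA_pB_of_triple hne hij hjl hil h h'
    simp [ha, hb]

end Groth.Agent.S19392
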