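import Groth.Statements.S19395
import Groth.Agent.Lib.JordanClH28.Basic

set_option autoImplicit false
universe u
open InvQ

namespace Groth.Agent.S19395

/-- Over an algebraically closed field, the Zariski closures of the conjugation orbits of two square
matrices B₁, B₂ meet if and only if their semisimple parts lie in one orbit. The semisimple parts
are given as S_i with B_i = S_i + N_i, S_i semisimple, N_i nilpotent, S_i N_i = N_i S_i; a common
point of the two closures is a matrix C at which every polynomial in the matrix entries vanishing on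
the whole orbit of B₁, and every one vanishing on the whole orbit of B₂, vanishes. -/
theorem result (k : Type u) [Field k] [IsAlgClosed k]
    (n : ℕ) (B₁ S₁ N₁ B₂ S₂ N₂ : Matrix (Fin n) (Fin n) k)
    (hS₁ : Module.End.IsSemisimple (Matrix.toLin' S₁)) (hN₁ : IsNilpotent N₁) (hc₁ : Commute S₁ N₁)
    (hB₁ : B₁ = S₁ + N₁)
    (hS₂ : Module.End.IsSemisimple (Matrix.toLin' S₂)) (hN₂ : IsNilpotent N₂) (hc₂ : Commute S₂ N₂)
    (hB₂ : B₂ = S₂ + N₂) :
    (∃ C : Matrix (Fin n) (Fin n) k,
        (∀ F : MvPolynomial (Fin n × Fin n) k,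
          (∀ A : Matrix (Fin n) (Fin n) k, IsUnit A.det →
            MvPolynomial.eval (fun p => (A * B₁ * A⁻¹) p.1 p.2) F = 0) →
          MvPolynomial.eval (fun p => C p.1 p.2) F = 0) ∧
        (∀ F : MvPolynomial (Fin n × Fin n) k,
          (∀ A : Matrix (Fin n) (Fin n) k, IsUnit A.det →
            MvPolynomial.eval (fun p => (A * B₂ * A⁻¹) p.1 p.2) F = 0) →
          MvPolynomial.eval (fun p => C p.1 p.2) F = 0)) ↔
      ∃ A : Matrix (Fin n) (Fin n) k, IsUnit A.det ∧ A * S₁ * A⁻¹ = S₂ := by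
  have h₁ : JordanClH28.ClIn B₁ S₁ := JordanClH28.semisimplePart_mem hS₁ hN₁ hc₁ hB₁
  have h₂ : JordanClH28.ClIn B₂ S₂ := JordanClH28.semisimplePart_mem hS₂ hN₂ hc₂ hB₂
  constructor
  · rintro ⟨C, hC₁, hC₂⟩
    have e₁ : JordanClH28.ClIn B₁ C := hC₁
    have e₂ : JordanClH28.ClIn B₂ C := hC₂
    exact JordanClH28.exists_conj hS₁ hS₂
      (h₁.charpoly_eq.trans (e₁.charpoly_eq.symm.trans (e₂.charpoly_eq.trans h₂.charpoly_eq.symm)))
  · rintro ⟨A, hA, rfl⟩
    exact ⟨A * S₁ * A⁻¹, h₁.conj hA, h₂⟩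

end Groth.Agent.S19395
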