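import Groth.Statements.S19400
import Groth.Agent.Lib.Comodule.CoactAlg
import Mathlib.RingTheory.HopfAlgebra.Convolution

set_option autoImplicit false
universe u
open GIT

namespace Groth.Agent.S19400

open TensorProduct

variable {k : Type u} [Field k] {A : Type u} [CommRing A] [HopfAlgebra k A]
  {R : Type u} [CommRing R] [Algebra k R] [HopfRep.Comod k A R] [GLin.IsCoactAlg k A R]

noncomputable def conv (g h : A →ₐ[k] k) : A →ₐ[k] k :=
  (Algebra.TensorProduct.lift g h fun _ _ => Commute.all _ _).comp (Bialgebra.comulAlgHom k A)

lemma actPt_actPt (g h : A →ₐ[k] k) (x : R →ₐ[k] k) :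
    GLin.actPt k h (GLin.actPt k g x) = GLin.actPt k (conv g h) x := by
  ext f
  show h (GLin.orbitHom k A (GLin.actPt k g x) f) =
    (Algebra.TensorProduct.lift g h fun _ _ => Commute.all _ _) (Coalgebra.comul (R := k) (GLin.orbitHom k A x f))
  have e := Comodule.comodHom_apply (Comodule.isComodHom_orbitHom (A := A) x) f
  have e' : Coalgebra.comul (R := k) (GLin.orbitHom k A x f) =
      (GLin.orbitHom k A x).toLinearMap.rTensor A (HopfRep.Comod.coact (k := k) (A := A) f) := e
  rw [e', Comodule.orbitHom_apply]
  generalize HopfRep.Comod.coact (k := k) (A := A) f = z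
  induction z with
  | zero => simp
  | tmul r a => simp [GLin.actPt]
  | add p q hp hq => simp only [map_add, hp, hq]

lemma conv_antipode (g : A →ₐ[k] k) :
    conv g (g.comp (HopfAlgebra.antipodeAlgHom k A)) = Bialgebra.counitAlgHom k A := by
  ext a
  have key := congrArg g (HopfAlgebra.mul_antipode_lTensor_comul_apply (R := k) a)
  simp only [AlgHom.commutes] at key
  show _ = Coalgebra.counit (R := k) a
  refine Eq.trans ?_ (key.trans (by simp))
  show (Algebra.TensorProduct.lift g (g.comp (HopfAlgebra.antipodeAlgHom k A)) fun _ _ => Commute.all _ _) (Coalgebra.comul (R := k) a) = _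
  generalize Coalgebra.comul (R := k) a = z
  induction z with
  | zero => simp
  | tmul r a => simp [HopfAlgebra.antipodeAlgHom]
  | add p q hp hq => simp only [map_add, hp, hq]

lemma exists_actPt [IsAlgClosed k] [Algebra.FiniteType k A] {x z : R →ₐ[k] k}
    (hcl : GLin.IsClosedOrbit k A x) (h : GLin.InOrbitClosure k A x z) :
    ∃ g : A →ₐ[k] k, GLin.actPt k g x = z := by
  have hz : (⟨RingHom.ker z, RingHom.ker_isPrime _⟩ : PrimeSpectrum R) ∈
      Set.range (PrimeSpectrum.comap (GLin.orbitHom k A x).toRingHom) := by
    rw [← hcl.closure_eq, PrimeSpectrum.closure_range_comap]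
    exact h
  obtain ⟨P, hP⟩ := hz
  obtain ⟨g, hg⟩ := Comodule.exists_point (k := k) P.isPrime.ne_top
  refine ⟨g, ?_⟩
  ext f
  have h1 : f - algebraMap k R (z f) ∈ RingHom.ker z := by simp [RingHom.mem_ker]
  have h2 : GLin.orbitHom k A x (f - algebraMap k R (z f)) ∈ P.asIdeal := by
    have : f - algebraMap k R (z f) ∈ (PrimeSpectrum.comap (GLin.orbitHom k A x).toRingHom P).asIdeal := by
      rw [hP]; exact h1
    exact this
  have h3 := hg h2
  rw [RingHom.mem_ker, map_sub, map_sub, AlgHom.commutes, AlgHom.commutes, sub_eq_zero] at h3
  exact h3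


/-- For a reductive group G (here: every finite-dimensional representation completely reducible, i.e.
linearly reductive; any characteristic) acting on an affine variety X = Spec R over an algebraically
closed field with all orbits of closed points closed, the morphism X → Y = Spec R^G is a geometric
quotient; in particular it is surjective on closed points and its fibre over every closed point of Y
is a single orbit. This row states those two point-set assertions in coaction form: G = Spec A with
A a finitely generated commutative Hopf algebra whose finite-dimensional comodules are semisimple, R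
of finite type with a multiplicative unital coaction, points as k-algebra maps. The published
statement takes X to be a variety (reduced and irreducible); this row does not assume R reduced or a
domain. -/
theorem result (k : Type u) [Field k] [IsAlgClosed k]
    (A : Type u) [CommRing A] [HopfAlgebra k A] [Algebra.FiniteType k A]
    (hG : HopfRep.IsLinearlyReductive k A)
    (R : Type u) [CommRing R] [Algebra k R] [Algebra.FiniteType k R]
    [HopfRep.Comod k A R] [GLin.IsCoactAlg k A R]
    (hcl : ∀ x : R →ₐ[k] k, GLin.IsClosedOrbit k A x)
    (y : GLin.invariants k A R →ₐ[k] k) :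
    (∃ x : R →ₐ[k] k, x.comp (GLin.invariants k A R).val = y) ∧
      ∀ x x' : R →ₐ[k] k, x.comp (GLin.invariants k A R).val = y →
        x'.comp (GLin.invariants k A R).val = y →
          ∃ g : A →ₐ[k] k, x' = GLin.actPt k g x := by
  refine ⟨Comodule.exists_point_over hG y, fun x x' hx hx' => ?_⟩
  have h : ∀ f ∈ GLin.invariants k A R, x f = x' f := fun f hf => AlgHom.congr_fun (hx.trans hx'.symm) ⟨f, hf⟩
  obtain ⟨z, hz, hz'⟩ := Comodule.exists_inOrbitClosure_both hG h
  obtain ⟨g, hg⟩ := exists_actPt (hcl x) hz
  obtain ⟨g', hg'⟩ := exists_actPt (hcl x') hz'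
  refine ⟨conv g (g'.comp (HopfAlgebra.antipodeAlgHom k A)), ?_⟩
  rw [← actPt_actPt, hg, ← hg', actPt_actPt, conv_antipode]
  exact (Comodule.counit_comp_orbitHom x').symm

end Groth.Agent.S19400
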