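import Groth.Statements.S19401
import Groth.Agent.Lib.OrbitH28.Dim

set_option autoImplicit false
universe u
open TensorProduct
open GLin

namespace Groth.Agent.S19401

/-- Suppose the field k is algebraically closed and has characteristic zero. Take A to be a finitely
generated commutative Hopf algebra over k (an affine algebraic group G), and take S and R to be
finitely generated commutative k-algebras, each equipped with a multiplicative A-coaction (so G acts
on Y = Spec S and on X = Spec R). Assume S → R is a finite algebra map respecting the coactions (a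
G-morphism X → Y). Given a k-point x of X whose image in Y is y, the orbit of x is closed (meaning
its orbit morphism Spec A → Spec R has closed image) exactly when the orbit of y is closed. (This is
the affine version of the source's result about G-morphisms of varieties.) -/
theorem result (k : Type u) [Field k] [IsAlgClosed k] [CharZero k]
    (A : Type u) [CommRing A] [HopfAlgebra k A] [Algebra.FiniteType k A]
    (S : Type u) [CommRing S] [Algebra k S] [Algebra.FiniteType k S] [HopfRep.Comod k A S] [GLin.IsCoactAlg k A S]
    (R : Type u) [CommRing R] [Algebra k R] [Algebra.FiniteType k R] [HopfRep.Comod k A R] [GLin.IsCoactAlg k A R]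
    [Algebra S R] [IsScalarTower k S R] [Module.Finite S R]
    (hequiv : ∀ s : S, HopfRep.Comod.coact (k := k) (A := A) (algebraMap S R s) =
      Algebra.TensorProduct.map (IsScalarTower.toAlgHom k S R) (AlgHom.id k A) (HopfRep.Comod.coact (k := k) (A := A) s))
    (x : R →ₐ[k] k) :
    GLin.IsClosedOrbit k A x ↔ GLin.IsClosedOrbit k A (x.comp (IsScalarTower.toAlgHom k S R)) := by
  rw [← OrbitH28.closed_iff_isClosedOrbit, ← OrbitH28.closed_iff_isClosedOrbit]
  set π := IsScalarTower.toAlgHom k S R
  have horb : ∀ (w : R →ₐ[k] k), GLin.orbitHom k A (w.comp π) = (GLin.orbitHom k A w).comp π := by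
    intro w
    refine AlgHom.ext fun s => ?_
    rw [AlgHom.comp_apply, Comodule.orbitHom_apply, Comodule.orbitHom_apply, show π s = algebraMap S R s from rfl, hequiv]
    generalize HopfRep.Comod.coact (k := k) (A := A) s = t
    induction t with
    | zero => simp
    | tmul p a => simp [π]
    | add p q hp hq => simp only [map_add, hp, hq]
  have hmv : ∀ (g : OrbitH28.Pts k A) (w : R →ₐ[k] k), OrbitH28.mv g (w.comp π) = (OrbitH28.mv g w).comp π := by
    intro g w
    refine AlgHom.ext fun s => ?_
    rw [OrbitH28.mv_apply, horb]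
    rfl
  have hcl : ∀ w z : R →ₐ[k] k, GLin.InOrbitClosure k A w z → GLin.InOrbitClosure k A (w.comp π) (z.comp π) := by
    intro w z h s hs
    rw [RingHom.mem_ker, horb] at hs
    exact h (x := π s) hs
  have hker : ∀ w : R →ₐ[k] k, RingHom.ker (GLin.orbitHom k A (w.comp π)) =
      (RingHom.ker (GLin.orbitHom k A w)).comap (algebraMap S R) := by
    intro w
    rw [horb]
    rfl
  have hdim : ∀ w : R →ₐ[k] k, ringKrullDim (R ⧸ RingHom.ker (GLin.orbitHom k A w)) =
      ringKrullDim (S ⧸ RingHom.ker (GLin.orbitHom k A (w.comp π))) := by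
    intro w
    rw [hker]
    exact VarDim.ringKrullDim_eq_of_isIntegral Ideal.algebraMap_quotient_injective
  constructor
  · intro hx w hw
    obtain ⟨Q, hQ, hQmax, hQw⟩ : ∃ Q : Ideal R, RingHom.ker (GLin.orbitHom k A x) ≤ Q ∧ Q.IsMaximal ∧
        Q.comap (algebraMap S R) = RingHom.ker w := by
      haveI : (RingHom.ker w).IsPrime := RingHom.ker_isPrime _
      obtain ⟨Q, hQle, hQp, hQw⟩ := Ideal.exists_ideal_over_prime_of_isIntegral (S := R) (RingHom.ker w)
        (RingHom.ker (GLin.orbitHom k A x)) (by rw [← hker]; exact hw)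
      refine ⟨Q, hQle, ?_, hQw⟩
      haveI := hQp
      exact Ideal.isMaximal_of_isIntegral_of_isMaximal_comap Q (hQw.symm ▸ OrbitH28.ker_isMaximal w)
    obtain ⟨z, hz⟩ := OrbitH28.exists_point_eq (k := k) hQmax
    have hzw : w = z.comp π := OrbitH28.eq_of_ker_le fun f hf => by
      have : f ∈ Q.comap (algebraMap S R) := by
        rw [← hz]; exact hf
      rwa [hQw] at this
    obtain ⟨g, hg⟩ := hx z (hQ.trans hz.ge)
    exact ⟨g, by rw [hmv, hg, hzw]⟩
  · intro hy z hz
    obtain ⟨g, hg⟩ := hy _ (hcl x z hz)
    refine OrbitH28.exists_mv_eq_of_dim_le hz (le_of_eq ?_)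
    rw [hdim, hdim, ← hg]
    refine OrbitH28.ringKrullDim_quotient_eq_of_radical_eq (le_antisymm ?_ ?_)
    · exact (Ideal.radical_mono (OrbitH28.ker_le_radical (OrbitH28.inOrbitClosure_mv g _))).trans_eq
        (Ideal.radical_idem _)
    · have hback := OrbitH28.inOrbitClosure_mv g⁻¹ (OrbitH28.mv g (x.comp π))
      rw [OrbitH28.mv_inv_mv] at hback
      exact (Ideal.radical_mono (OrbitH28.ker_le_radical hback)).trans_eq (Ideal.radical_idem _)

end Groth.Agent.S19401
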