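import Groth.Statements.S19402
import Groth.Agent.Lib.FinQuotH28.Pt
open scoped Pointwise

set_option autoImplicit false
universe u v w
open scoped Pointwise
open GLin

namespace Groth.Agent.S19402

/-- Let k be an algebraically closed field of characteristic zero, R a finitely generated commutative
k-algebra which is an integrally closed domain (a normal irreducible affine variety X), and G a
finite group acting faithfully on R by k-algebra automorphisms. Let B be a commutative k-algebra
with an injective algebra map B → R, compatible with the k-structures and G-invariant, whose image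
is exactly the subring of G-invariants (so Spec R → Spec B is the quotient morphism X → X/G). Then
for a maximal ideal m of R (a closed point x of X), R is étale over B at m (the local ring R_m is
formally étale over B) if and only if the stabilizer of m in G is trivial. -/
theorem result (k : Type u) [Field k] [IsAlgClosed k] [CharZero k]
    (R : Type v) [CommRing R] [IsDomain R] [IsIntegrallyClosed R] [Algebra k R] [Algebra.FiniteType k R]
    (G : Type w) [Group G] [Finite G] [MulSemiringAction G R] [FaithfulSMul G R] [SMulCommClass G k R]
    (B : Type v) [CommRing B] [Algebra k B] [Algebra B R] [IsScalarTower k B R] [FaithfulSMul B R]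
    [SMulCommClass G B R] [Algebra.IsInvariant B R G]
    (m : Ideal R) [m.IsMaximal] :
    Algebra.IsEtaleAt B m ↔ MulAction.stabilizer G m = ⊥ := by
  let φ : G →* (R ≃+* R) := MulSemiringAction.toRingAut G R
  let G' : Subgroup (R ≃+* R) := φ.range
  have hφ : ∀ (g : G) (r : R), (⟨φ g, g, rfl⟩ : G') • r = g • r := fun g r => rfl
  haveI : SMulCommClass G' B R := ⟨fun ⟨_, g, hg⟩ b r => by
    subst hg
    show g • (b • r) = b • (g • r)
    exact smul_comm g b r⟩
  haveI : FaithfulSMul G' R := ⟨fun {a b} h => Subtype.ext (RingEquiv.ext fun r => h r)⟩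
  haveI : Finite G' := Finite.of_surjective (fun g : G => (⟨φ g, g, rfl⟩ : G')) (fun ⟨_, g, hg⟩ => ⟨g, Subtype.ext hg⟩)
  haveI : Algebra.IsInvariant B R G' := ⟨fun r hr => Algebra.IsInvariant.isInvariant (A := B) (G := G) r fun g => hr ⟨φ g, g, rfl⟩⟩
  haveI : IsNoetherianRing R := Algebra.FiniteType.isNoetherianRing k R
  constructor
  · intro het
    rw [eq_bot_iff]
    intro g hg
    rw [Subgroup.mem_bot]
    have hfix : ∀ r ∈ m, g • r ∈ m := fun r hr => by
      rw [MulAction.mem_stabilizer_iff] at hg
      rw [← hg]
      exact Ideal.smul_mem_pointwise_smul g r m hr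
    obtain ⟨x, hx⟩ := Groth.Agent.FinQuotH28.exists_pt (k := k) m
    have hgm : ∀ r, g • r - r ∈ m := fun r => by
      have h1 : r - algebraMap k R (x r) ∈ m := by rw [← hx, RingHom.mem_ker, map_sub, AlgHom.commutes]; simp
      have h2 := hfix _ h1
      rw [smul_sub, smul_algebraMap] at h2
      rw [show g • r - r = (g • r - algebraMap k R (x r)) - (r - algebraMap k R (x r)) by ring]
      exact sub_mem h2 h1
    have h := Groth.Agent.FinQuotH28.eq_one_of_isEtaleAt (B := B) m (⟨φ g, g, rfl⟩ : G') fun r => by rw [hφ]; exact hgm r
    refine eq_of_smul_eq_smul (α := R) fun r => ?_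
    rw [← hφ, h, one_smul, one_smul]
  · intro h
    refine Groth.Agent.FinQuotH28.isEtaleAt_of_stabilizer_eq_bot (B := B) (G := G') m (eq_bot_iff.2 ?_)
    rintro ⟨_, g, rfl⟩ hg
    have hg' : g ∈ MulAction.stabilizer G m := by
      rw [MulAction.mem_stabilizer_iff] at hg ⊢
      exact hg
    rw [h, Subgroup.mem_bot] at hg'
    subst hg'
    rw [Subgroup.mem_bot]
    exact Subtype.ext (map_one φ)

end Groth.Agent.S19402
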