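import Groth.Statements.S19406
import Groth.Agent.Lib.OrbitFlatH28.Char

set_option autoImplicit false
universe u
open TensorProduct
open GLin

namespace Groth.Agent.S19406

/-- Let k be an algebraically closed field of characteristic zero, A a finitely generated commutative
Hopf algebra over k which is an integral domain and all of whose finite-dimensional comodules are
semisimple (a connected reductive group G), R a reduced finitely generated commutative k-algebra
with a multiplicative A-coaction (G acting on the affine variety X = Spec R), and χ a group-like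
element of A (a character of G). Then there is a set E of G-invariant functions on X such that, for
every k-point x of X whose orbit is closed, χ − 1 lies in the stabilizer ideal of x (χ is trivial on
the stabilizer of x) if and only if some member of E does not vanish at x: the set of points of X//G
over which the closed orbit has stabilizer on which χ is trivial is open. (The published statement
allows any reductive G; this row assumes G connected, the case the source's argument covers.) -/
theorem result (k : Type u) [Field k] [IsAlgClosed k] [CharZero k]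
    (A : Type u) [CommRing A] [IsDomain A] [HopfAlgebra k A] [Algebra.FiniteType k A] (hG : HopfRep.IsLinearlyReductive k A)
    (R : Type u) [CommRing R] [IsReduced R] [Algebra k R] [Algebra.FiniteType k R] [HopfRep.Comod k A R] [GLin.IsCoactAlg k A R]
    (χ : A) (hχ : IsGroupLikeElem k χ) :
    ∃ E : Set R, E ⊆ GLin.invariants k A R ∧
      ∀ x : R →ₐ[k] k, GLin.IsClosedOrbit k A x →
        (χ - 1 ∈ GLin.stabIdeal k A x ↔ ∃ f ∈ E, x f ≠ 0) := by
  refine ⟨{f : R | f ∈ GLin.invariants k A R ∧ ∃ h ∈ HopfRep.eigenspace k A R χ, f ∈ Ideal.span {h}},
    fun f hf => hf.1, fun x hx => ⟨fun hst => ?_, ?_⟩⟩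
  · obtain ⟨h, hh, f, hf, hfh, hfx⟩ := OrbitFlatH28.exists_invariant_of_trivial hG hχ hx hst
    exact ⟨f, ⟨hf, h, hh, hfh⟩, by rw [hfx]; exact one_ne_zero⟩
  · rintro ⟨f, ⟨-, h, hh, hfh⟩, hfx⟩
    obtain ⟨r, rfl⟩ := Ideal.mem_span_singleton'.1 hfh
    have hh0 : x h ≠ 0 := fun h0 => hfx (by rw [map_mul, h0, mul_zero])
    have horb : GLin.orbitHom k A x h = x h • χ := by
      rw [Comodule.orbitHom_apply, show HopfRep.Comod.coact (k := k) (A := A) h = h ⊗ₜ[k] χ from hh]
      simp
    have hmem : GLin.orbitHom k A x (h - algebraMap k R (x h)) ∈ GLin.stabIdeal k A x :=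
      Ideal.mem_map_of_mem _ (by rw [RingHom.mem_ker, map_sub, AlgHom.commutes, Algebra.algebraMap_self,
        RingHom.id_apply, sub_self])
    rw [map_sub, horb, AlgHom.commutes, Algebra.algebraMap_eq_smul_one, ← smul_sub] at hmem
    have := Submodule.smul_of_tower_mem (GLin.stabIdeal k A x) (x h)⁻¹ hmem
    rwa [smul_smul, inv_mul_cancel₀ hh0, one_smul] at this

end Groth.Agent.S19406
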