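import Groth.Statements.S19408
import Groth.Agent.Lib.EtQuotH28.Nbhd
open HopfRep Groth.Agent.Comodule

set_option autoImplicit false
universe u
open TensorProduct
open GLin

namespace Groth.Agent.S19408

lemma etale_of_surjective_pushout {P Q P' Q' : Type u} [CommRing P] [CommRing Q] [CommRing P'] [CommRing Q']
    [Algebra P Q] [Algebra P P'] [Algebra Q Q'] [Algebra P' Q'] [Algebra P Q'] [IsScalarTower P Q Q'] [IsScalarTower P P' Q']
    (hP : Function.Surjective (algebraMap P P')) (hQ : Function.Surjective (algebraMap Q Q'))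
    (hker : RingHom.ker (algebraMap Q Q') ≤ (RingHom.ker (algebraMap P P')).map (algebraMap P Q))
    [Algebra.Etale P Q] : Algebra.Etale P' Q' := by
  let e : P' ⊗[P] Q →ₐ[P'] Q' := Algebra.TensorProduct.lift (Algebra.ofId P' Q') (IsScalarTower.toAlgHom P Q Q')
    fun _ _ => Commute.all _ _
  have he : ∀ q, e ((1 : P') ⊗ₜ[P] q) = algebraMap Q Q' q := fun q => by simp [e]
  have hone : ∀ z : P' ⊗[P] Q, ∃ q, z = (1 : P') ⊗ₜ[P] q := by
    intro z
    induction z with
    | zero => exact ⟨0, by simp⟩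
    | add a b ha hb =>
      obtain ⟨q, rfl⟩ := ha
      obtain ⟨q', rfl⟩ := hb
      exact ⟨q + q', by rw [TensorProduct.tmul_add]⟩
    | tmul a q =>
      obtain ⟨p, rfl⟩ := hP a
      exact ⟨p • q, by rw [Algebra.algebraMap_eq_smul_one, TensorProduct.smul_tmul]⟩
  have hbij : Function.Bijective e := by
    refine ⟨(injective_iff_map_eq_zero e).2 fun z hz => ?_, fun y => ?_⟩
    · obtain ⟨q, rfl⟩ := hone z
      rw [he] at hz
      have hle : (RingHom.ker (algebraMap P P')).map (algebraMap P Q) ≤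
          RingHom.ker (Algebra.TensorProduct.includeRight : Q →ₐ[P] P' ⊗[P] Q) := by
        refine Ideal.map_le_iff_le_comap.2 fun p hp => ?_
        show (1 : P') ⊗ₜ[P] algebraMap P Q p = 0
        rw [← Algebra.TensorProduct.tmul_one_eq_one_tmul, show algebraMap P P' p = 0 from hp, TensorProduct.zero_tmul]
      exact hle (hker hz)
    · obtain ⟨q, rfl⟩ := hQ y
      exact ⟨_, he q⟩
  exact Algebra.Etale.of_equiv (AlgEquiv.ofBijective e hbij)

/-- Let k be an algebraically closed field of characteristic zero, A a finitely generated commutative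
Hopf algebra over k all of whose finite-dimensional comodules are semisimple (a reductive group G),
S and R finitely generated commutative k-algebras with multiplicative A-coactions (G acting on
affine Y = Spec S and X = Spec R), S → R an algebra map compatible with the coactions (a G-morphism
θ : X → Y), S₀ → S and R₀ → R injective k-algebra maps whose images are the subrings of invariants,
and S₀ → R₀ an algebra map with S₀ → R₀ → R equal to S₀ → S → R (θ/G). Suppose R is étale over S, R₀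
is étale over S₀, and the canonical map S ⊗_{S₀} R₀ → R is bijective (θ and θ/G étale and X ≅ Y
×_{Y//G} X//G). Let J be an ideal of S which is a subcomodule (Y' = V(J) a closed G-invariant
subscheme), let S/J and R/JR carry A-coactions for which the quotient maps are compatible with the
coactions (the induced actions on Y' and X' = Y' ×_Y X), and let S₁ → S/J and R₁ → R/JR be injective
k-algebra maps whose images are the subrings of invariants, with S₁ → R₁ an algebra map such that S₁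
→ R₁ → R/JR equals S₁ → S/J → R/JR. Then R/JR is étale over S/J, R₁ is étale over S₁, and the
canonical map (S/J) ⊗_{S₁} R₁ → R/JR is bijective (θ' : X' → Y' and θ'/G are étale and X' ≅ Y'
×_{Y'//G} X'//G). -/
theorem result (k : Type u) [Field k] [IsAlgClosed k] [CharZero k]
    (A : Type u) [CommRing A] [HopfAlgebra k A] [Algebra.FiniteType k A] (hG : HopfRep.IsLinearlyReductive k A)
    (S : Type u) [CommRing S] [Algebra k S] [Algebra.FiniteType k S] [HopfRep.Comod k A S] [GLin.IsCoactAlg k A S]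
    (R : Type u) [CommRing R] [Algebra k R] [Algebra.FiniteType k R] [HopfRep.Comod k A R] [GLin.IsCoactAlg k A R]
    [Algebra S R] [IsScalarTower k S R]
    (hequiv : (∀ s : S, HopfRep.Comod.coact (k := k) (A := A) (algebraMap S R s) =
      Algebra.TensorProduct.map (IsScalarTower.toAlgHom k S R) (AlgHom.id k A) (HopfRep.Comod.coact (k := k) (A := A) s)))
    (S₀ : Type u) [CommRing S₀] [Algebra k S₀] [Algebra S₀ S] [IsScalarTower k S₀ S]
    (hS₀i : Function.Injective (algebraMap S₀ S)) (hS₀ : (IsScalarTower.toAlgHom k S₀ S).range = GLin.invariants k A S)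
    (R₀ : Type u) [CommRing R₀] [Algebra k R₀] [Algebra R₀ R] [IsScalarTower k R₀ R]
    (hR₀i : Function.Injective (algebraMap R₀ R)) (hR₀ : (IsScalarTower.toAlgHom k R₀ R).range = GLin.invariants k A R)
    [Algebra S₀ R₀] [Algebra S₀ R] [IsScalarTower S₀ S R] [IsScalarTower S₀ R₀ R]
    (het : Algebra.Etale S R) (het₀ : Algebra.Etale S₀ R₀)
    (hcart : Function.Bijective (Algebra.TensorProduct.productMap (IsScalarTower.toAlgHom S₀ S R) (IsScalarTower.toAlgHom S₀ R₀ R)))
    (J : Ideal S) (hJ : HopfRep.IsSubcomod (k := k) (A := A) (J.restrictScalars k))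
    [HopfRep.Comod k A (S ⧸ J)] [GLin.IsCoactAlg k A (S ⧸ J)]
    (hqS : (∀ s : S, HopfRep.Comod.coact (k := k) (A := A) ((Ideal.Quotient.mkₐ k J) s) =
        Algebra.TensorProduct.map (Ideal.Quotient.mkₐ k J) (AlgHom.id k A) (HopfRep.Comod.coact (k := k) (A := A) s)))
    [HopfRep.Comod k A (R ⧸ J.map (algebraMap S R))] [GLin.IsCoactAlg k A (R ⧸ J.map (algebraMap S R))]
    (hqR : (∀ s : R, HopfRep.Comod.coact (k := k) (A := A) ((Ideal.Quotient.mkₐ k (J.map (algebraMap S R))) s) =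
        Algebra.TensorProduct.map (Ideal.Quotient.mkₐ k (J.map (algebraMap S R))) (AlgHom.id k A) (HopfRep.Comod.coact (k := k) (A := A) s)))
    (S₁ : Type u) [CommRing S₁] [Algebra k S₁] [Algebra S₁ (S ⧸ J)] [IsScalarTower k S₁ (S ⧸ J)]
    (hS₁i : Function.Injective (algebraMap S₁ (S ⧸ J)))
    (hS₁ : (IsScalarTower.toAlgHom k S₁ (S ⧸ J)).range = GLin.invariants k A (S ⧸ J))
    (R₁ : Type u) [CommRing R₁] [Algebra k R₁] [Algebra R₁ (R ⧸ J.map (algebraMap S R))] [IsScalarTower k R₁ (R ⧸ J.map (algebraMap S R))]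
    (hR₁i : Function.Injective (algebraMap R₁ (R ⧸ J.map (algebraMap S R))))
    (hR₁ : (IsScalarTower.toAlgHom k R₁ (R ⧸ J.map (algebraMap S R))).range = GLin.invariants k A (R ⧸ J.map (algebraMap S R)))
    [Algebra S₁ R₁] [Algebra S₁ (R ⧸ J.map (algebraMap S R))]
    [IsScalarTower S₁ (S ⧸ J) (R ⧸ J.map (algebraMap S R))] [IsScalarTower S₁ R₁ (R ⧸ J.map (algebraMap S R))] :
    Algebra.Etale (S ⧸ J) (R ⧸ J.map (algebraMap S R)) ∧ Algebra.Etale S₁ R₁ ∧
      Function.Bijective (Algebra.TensorProduct.productMap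
        (IsScalarTower.toAlgHom S₁ (S ⧸ J) (R ⧸ J.map (algebraMap S R)))
        (IsScalarTower.toAlgHom S₁ R₁ (R ⧸ J.map (algebraMap S R)))) := by
  obtain ⟨E, hE⟩ := exists_reynolds (V := R) (A := A) hG
  obtain ⟨E', hE'⟩ := exists_reynolds (V := S) (A := A) hG
  obtain ⟨F, hF⟩ := exists_reynolds (V := R ⧸ (J.map (algebraMap S R))) (A := A) hG
  obtain ⟨F', hF'⟩ := exists_reynolds (V := S ⧸ J) (A := A) hG
  let eS : S₁ ≃ₐ[k] GLin.invariants k A (S ⧸ J) :=
    (AlgEquiv.ofInjective (IsScalarTower.toAlgHom k S₁ (S ⧸ J)) hS₁i).trans (Subalgebra.equivOfEq _ _ hS₁)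
  let eR : R₁ ≃ₐ[k] GLin.invariants k A (R ⧸ (J.map (algebraMap S R))) :=
    (AlgEquiv.ofInjective (IsScalarTower.toAlgHom k R₁ (R ⧸ (J.map (algebraMap S R)))) hR₁i).trans (Subalgebra.equivOfEq _ _ hR₁)
  have heS : ∀ v, algebraMap S₁ (S ⧸ J) (eS.symm v) = (v : S ⧸ J) := fun v => by
    obtain ⟨w, rfl⟩ := eS.surjective v
    rw [AlgEquiv.symm_apply_apply]; rfl
  have heR : ∀ v, algebraMap R₁ (R ⧸ (J.map (algebraMap S R))) (eR.symm v) = (v : R ⧸ (J.map (algebraMap S R))) := fun v => by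
    obtain ⟨w, rfl⟩ := eR.surjective v
    rw [AlgEquiv.symm_apply_apply]; rfl
  have hmkS : Hoch.IsComodHom A (Ideal.Quotient.mkₐ k J).toLinearMap := LinearMap.ext fun s => (hqS s).trans rfl
  have hmkR : Hoch.IsComodHom A (Ideal.Quotient.mkₐ k (J.map (algebraMap S R))).toLinearMap := LinearMap.ext fun s => (hqR s).trans rfl
  have hmemS : ∀ r : S₀, algebraMap S₀ S r ∈ GLin.invariants k A S := fun r => hS₀ ▸ ⟨r, rfl⟩
  have hmemR : ∀ r : R₀, algebraMap R₀ R r ∈ GLin.invariants k A R := fun r => hR₀ ▸ ⟨r, rfl⟩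
  have hinvS : ∀ s₀, Ideal.Quotient.mkₐ k J (algebraMap S₀ S s₀) ∈ GLin.invariants k A (S ⧸ J) := fun s₀ => by
    show Comod.coact (k := k) (A := A) _ = _
    rw [hqS, show Comod.coact (k := k) (A := A) (algebraMap S₀ S s₀) = _ from hmemS s₀]
    rfl
  have hinvR : ∀ r₀, Ideal.Quotient.mkₐ k (J.map (algebraMap S R)) (algebraMap R₀ R r₀) ∈ GLin.invariants k A (R ⧸ (J.map (algebraMap S R))) := fun r₀ => by
    show Comod.coact (k := k) (A := A) _ = _
    rw [hqR, show Comod.coact (k := k) (A := A) (algebraMap R₀ R r₀) = _ from hmemR r₀]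
    rfl
  let σ : S₀ →+* S₁ := eS.symm.toRingEquiv.toRingHom.comp
    (RingHom.codRestrict ((Ideal.Quotient.mk J).comp (algebraMap S₀ S)) (GLin.invariants k A (S ⧸ J)) hinvS)
  let ρ : R₀ →+* R₁ := eR.symm.toRingEquiv.toRingHom.comp
    (RingHom.codRestrict ((Ideal.Quotient.mk (J.map (algebraMap S R))).comp (algebraMap R₀ R)) (GLin.invariants k A (R ⧸ (J.map (algebraMap S R)))) hinvR)
  have hσ : ∀ s₀, algebraMap S₁ (S ⧸ J) (σ s₀) = Ideal.Quotient.mk J (algebraMap S₀ S s₀) := fun s₀ => heS _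
  have hρ : ∀ r₀, algebraMap R₁ (R ⧸ (J.map (algebraMap S R))) (ρ r₀) = Ideal.Quotient.mk (J.map (algebraMap S R)) (algebraMap R₀ R r₀) := fun r₀ => heR _
  have hσsurj : Function.Surjective σ := by
    intro v
    obtain ⟨s, hs⟩ := Ideal.Quotient.mk_surjective (algebraMap S₁ (S ⧸ J) v)
    obtain ⟨s₀, hs₀⟩ : E' s ∈ (IsScalarTower.toAlgHom k S₀ S).range := by rw [hS₀]; exact hE'.mem s
    refine ⟨s₀, hS₁i ?_⟩
    rw [hσ, show algebraMap S₀ S s₀ = E' s from hs₀]
    have h := LinearMap.congr_fun (hE'.comp_comm hG hF' hmkS) s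
    refine h.symm.trans ?_
    show F' (Ideal.Quotient.mk J s) = _
    rw [hs]
    exact (hF'.fix _).2 (hS₁ ▸ ⟨v, rfl⟩ : algebraMap S₁ (S ⧸ J) v ∈ GLin.invariants k A (S ⧸ J))
  have hρsurj : Function.Surjective ρ := by
    intro v
    obtain ⟨s, hs⟩ := Ideal.Quotient.mk_surjective (algebraMap R₁ (R ⧸ (J.map (algebraMap S R))) v)
    obtain ⟨s₀, hs₀⟩ : E s ∈ (IsScalarTower.toAlgHom k R₀ R).range := by rw [hR₀]; exact hE.mem s
    refine ⟨s₀, hR₁i ?_⟩
    rw [hρ, show algebraMap R₀ R s₀ = E s from hs₀]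
    have h := LinearMap.congr_fun (hE.comp_comm hG hF hmkR) s
    refine h.symm.trans ?_
    show F (Ideal.Quotient.mk (J.map (algebraMap S R)) s) = _
    rw [hs]
    exact (hF.fix _).2 (hR₁ ▸ ⟨v, rfl⟩ : algebraMap R₁ (R ⧸ (J.map (algebraMap S R))) v ∈ GLin.invariants k A (R ⧸ (J.map (algebraMap S R))))
  have hcomm : ∀ s₀, ρ (algebraMap S₀ R₀ s₀) = algebraMap S₁ R₁ (σ s₀) := fun s₀ => hR₁i (by
    rw [hρ, ← IsScalarTower.algebraMap_apply, ← IsScalarTower.algebraMap_apply,
      IsScalarTower.algebraMap_apply S₁ (S ⧸ J) (R ⧸ (J.map (algebraMap S R))), hσ, IsScalarTower.algebraMap_apply S₀ S R]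
    rfl)
  set μ := Algebra.TensorProduct.productMap (IsScalarTower.toAlgHom S₀ S R) (IsScalarTower.toAlgHom S₀ R₀ R) with hμ
  have hμt : ∀ s r, μ (s ⊗ₜ[S₀] r) = algebraMap S R s * algebraMap R₀ R r := fun s r => by simp [μ]
  -- the invariants in the extended ideal
  let J₀ := RingHom.ker σ
  have hJ₀ : ∀ s₀, algebraMap S₀ S s₀ ∈ J → s₀ ∈ J₀ := fun s₀ h => hS₁i (by
    rw [hσ, map_zero]; exact Ideal.Quotient.eq_zero_iff_mem.2 h)
  have hkerρ : RingHom.ker ρ ≤ J₀.map (algebraMap S₀ R₀) := by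
    intro r₀ hr₀
    have hr : algebraMap R₀ R r₀ ∈ (J.map (algebraMap S R)) := by
      rw [← Ideal.Quotient.eq_zero_iff_mem, ← hρ, show ρ r₀ = 0 from hr₀, map_zero]
    suffices h : ∀ y ∈ (J.map (algebraMap S R)), ∃ t ∈ J₀.map (algebraMap S₀ R₀), E y = algebraMap R₀ R t by
      obtain ⟨t, ht, e⟩ := h _ hr
      rw [(hE.fix _).2 (hmemR r₀)] at e
      exact hR₀i e ▸ ht
    intro y hy
    induction hy using Submodule.span_induction with
    | mem y hy =>
      obtain ⟨j, hj, rfl⟩ := hy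
      obtain ⟨s₀, hs₀⟩ : E' j ∈ (IsScalarTower.toAlgHom k S₀ S).range := by rw [hS₀]; exact hE'.mem j
      refine ⟨algebraMap S₀ R₀ s₀, Ideal.mem_map_of_mem _ (hJ₀ _ ?_), ?_⟩
      · rw [show algebraMap S₀ S s₀ = E' j from hs₀]; exact hE'.apply_mem hG hJ hj
      · rw [← IsScalarTower.algebraMap_apply, IsScalarTower.algebraMap_apply S₀ S R,
          show algebraMap S₀ S s₀ = E' j from hs₀]
        exact LinearMap.congr_fun (hE'.comp_comm hG hE (EtQuotH28.isComodHom_algebraMap hequiv)) j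
    | zero => exact ⟨0, zero_mem _, by simp⟩
    | add u v _ _ hu hv =>
      obtain ⟨t, ht, e⟩ := hu
      obtain ⟨t', ht', e'⟩ := hv
      exact ⟨t + t', add_mem ht ht', by rw [map_add, e, e', map_add]⟩
    | smul c u hu' hu =>
      obtain ⟨z, rfl⟩ := hcart.2 c
      suffices h : ∀ z, ∀ u ∈ (J.map (algebraMap S R)), ∃ t ∈ J₀.map (algebraMap S₀ R₀), E (μ z * u) = algebraMap R₀ R t from h z u hu'
      intro z
      induction z with
      | zero => exact fun u _ => ⟨0, zero_mem _, by simp⟩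
      | add a b ha hb =>
        intro u hu
        obtain ⟨t, ht, e⟩ := ha u hu
        obtain ⟨t', ht', e'⟩ := hb u hu
        exact ⟨t + t', add_mem ht ht', by rw [map_add, add_mul, map_add, e, e', map_add]⟩
      | tmul s r =>
        intro u hu
        suffices h : ∀ u ∈ (J.map (algebraMap S R)), ∀ c : R, ∃ t ∈ J₀.map (algebraMap S₀ R₀), E (c * u) = algebraMap R₀ R t from
          h u hu _
        intro u hu
        induction hu using Submodule.span_induction with
        | mem w hw =>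
          obtain ⟨j, hj, rfl⟩ := hw
          intro c
          obtain ⟨z, rfl⟩ := hcart.2 c
          induction z with
          | zero => exact ⟨0, zero_mem _, by simp⟩
          | add a b ha hb =>
            obtain ⟨t, ht, e⟩ := ha
            obtain ⟨t', ht', e'⟩ := hb
            exact ⟨t + t', add_mem ht ht', by rw [map_add, add_mul, map_add, e, e', map_add]⟩
          | tmul s r =>
            obtain ⟨s₀, hs₀⟩ : E' (s * j) ∈ (IsScalarTower.toAlgHom k S₀ S).range := by rw [hS₀]; exact hE'.mem _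
            refine ⟨algebraMap S₀ R₀ s₀ * r, Ideal.mul_mem_right _ _ (Ideal.mem_map_of_mem _ (hJ₀ _ ?_)), ?_⟩
            · rw [show algebraMap S₀ S s₀ = E' (s * j) from hs₀]; exact hE'.apply_mem hG hJ (J.mul_mem_left s hj)
            · rw [hμt, mul_right_comm, ← map_mul, HopfMod.reynolds_mul_invariant hG hE _ (hmemR r), map_mul (algebraMap R₀ R),
                ← IsScalarTower.algebraMap_apply, IsScalarTower.algebraMap_apply S₀ S R,
                show algebraMap S₀ S s₀ = E' (s * j) from hs₀]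
              congr 1
              exact LinearMap.congr_fun (hE'.comp_comm hG hE (EtQuotH28.isComodHom_algebraMap hequiv)) (s * j)
        | zero => exact fun c => ⟨0, zero_mem _, by simp⟩
        | add a b _ _ ha hb =>
          intro c
          obtain ⟨t, ht, e⟩ := ha c
          obtain ⟨t', ht', e'⟩ := hb c
          exact ⟨t + t', add_mem ht ht', by rw [mul_add, map_add, e, e', map_add]⟩
        | smul d a _ ha => intro c; rw [smul_eq_mul, ← mul_assoc]; exact ha (c * d)
  refine ⟨?_, ?_, ?_⟩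
  · exact etale_of_surjective_pushout (P := S) (Q := R) (P' := S ⧸ J) (Q' := R ⧸ (J.map (algebraMap S R)))
      Ideal.Quotient.mk_surjective Ideal.Quotient.mk_surjective (by
        rw [show algebraMap R (R ⧸ (J.map (algebraMap S R))) = Ideal.Quotient.mk (J.map (algebraMap S R)) from rfl, Ideal.mk_ker,
          show algebraMap S (S ⧸ J) = Ideal.Quotient.mk J from rfl, Ideal.mk_ker])
  · letI : Algebra S₀ S₁ := σ.toAlgebra
    letI : Algebra R₀ R₁ := ρ.toAlgebra
    letI : Algebra S₀ R₁ := ((algebraMap S₁ R₁).comp σ).toAlgebra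
    haveI : IsScalarTower S₀ R₀ R₁ := IsScalarTower.of_algebraMap_eq fun s₀ => (hcomm s₀).symm
    haveI : IsScalarTower S₀ S₁ R₁ := IsScalarTower.of_algebraMap_eq fun s₀ => rfl
    exact etale_of_surjective_pushout (P := S₀) (Q := R₀) (P' := S₁) (Q' := R₁) hσsurj hρsurj hkerρ
  · set μ' := Algebra.TensorProduct.productMap (IsScalarTower.toAlgHom S₁ (S ⧸ J) (R ⧸ (J.map (algebraMap S R))))
      (IsScalarTower.toAlgHom S₁ R₁ (R ⧸ (J.map (algebraMap S R)))) with hμ'
    have hμ't : ∀ s r, μ' (s ⊗ₜ[S₁] r) = algebraMap (S ⧸ J) (R ⧸ (J.map (algebraMap S R))) s * algebraMap R₁ (R ⧸ (J.map (algebraMap S R))) r :=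
      fun s r => by simp [μ']
    let T' := (S ⧸ J) ⊗[S₁] R₁
    letI : Algebra S₀ T' := ((algebraMap S₁ T').comp σ).toAlgebra
    let fS : S →ₐ[S₀] T' :=
      { ((Algebra.TensorProduct.includeLeft : S ⧸ J →ₐ[S₁] T').toRingHom.comp (Ideal.Quotient.mk J)) with
        commutes' := fun s₀ => by
          show (Ideal.Quotient.mk J (algebraMap S₀ S s₀)) ⊗ₜ[S₁] (1 : R₁) = algebraMap S₁ T' (σ s₀)
          rw [← hσ]; rfl }
    let fR : R₀ →ₐ[S₀] T' :=
      { ((Algebra.TensorProduct.includeRight : R₁ →ₐ[S₁] T').toRingHom.comp ρ) with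
        commutes' := fun s₀ => by
          show (1 : S ⧸ J) ⊗ₜ[S₁] ρ (algebraMap S₀ R₀ s₀) = algebraMap S₁ T' (σ s₀)
          rw [hcomm, ← Algebra.TensorProduct.tmul_one_eq_one_tmul]
          rfl }
    let Φ : S ⊗[S₀] R₀ →ₐ[S₀] T' := Algebra.TensorProduct.lift fS fR fun _ _ => Commute.all _ _
    have hΦt : ∀ s r, Φ (s ⊗ₜ[S₀] r) = Ideal.Quotient.mk J s ⊗ₜ[S₁] ρ r := fun s r => by
      show fS s * fR r = _
      show (Ideal.Quotient.mk J s ⊗ₜ[S₁] (1 : R₁)) * ((1 : S ⧸ J) ⊗ₜ[S₁] ρ r) = _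
      rw [Algebra.TensorProduct.tmul_mul_tmul, one_mul, mul_one]
    have hnat : ∀ z, μ' (Φ z) = Ideal.Quotient.mk (J.map (algebraMap S R)) (μ z) := by
      intro z
      induction z with
      | zero => simp
      | add a b ha hb => rw [map_add, map_add, map_add, map_add, ha, hb]
      | tmul s r => rw [hΦt, hμ't, hμt, map_mul, hρ]; rfl
    have hΦsurj : Function.Surjective Φ := by
      intro z
      induction z using TensorProduct.induction_on with
      | zero => exact ⟨0, map_zero Φ⟩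
      | add a b ha hb =>
        obtain ⟨u, rfl⟩ := ha
        obtain ⟨v, rfl⟩ := hb
        exact ⟨u + v, map_add Φ u v⟩
      | tmul s r =>
        obtain ⟨s, rfl⟩ := Ideal.Quotient.mk_surjective s
        obtain ⟨r, rfl⟩ := hρsurj r
        exact ⟨_, hΦt s r⟩
    refine ⟨(injective_iff_map_eq_zero μ').2 fun z hz => ?_, fun y => ?_⟩
    · obtain ⟨z, rfl⟩ := hΦsurj z
      rw [hnat, Ideal.Quotient.eq_zero_iff_mem] at hz
      have hle : (J.map (algebraMap S R)) ≤ (J.map (Algebra.TensorProduct.includeLeft : S →ₐ[S₀] S ⊗[S₀] R₀)).map μ := by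
        rw [Ideal.map_le_iff_le_comap]
        intro j hj
        rw [Ideal.mem_comap, show algebraMap S R j = μ ((Algebra.TensorProduct.includeLeft : S →ₐ[S₀] S ⊗[S₀] R₀) j) by
          simp [μ]]
        exact Ideal.mem_map_of_mem _ (Ideal.mem_map_of_mem _ hj)
      obtain ⟨z', hz', he⟩ := (Ideal.mem_map_iff_of_surjective μ hcart.2).1 (hle hz)
      rw [← hcart.1 he]
      have hle' : J.map (Algebra.TensorProduct.includeLeft : S →ₐ[S₀] S ⊗[S₀] R₀) ≤ RingHom.ker Φ := by
        refine Ideal.map_le_iff_le_comap.2 fun j hj => ?_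
        show Φ (j ⊗ₜ[S₀] 1) = 0
        rw [hΦt, Ideal.Quotient.eq_zero_iff_mem.2 hj, TensorProduct.zero_tmul]
      exact hle' hz'
    · obtain ⟨y, rfl⟩ := Ideal.Quotient.mk_surjective y
      obtain ⟨z, rfl⟩ := hcart.2 y
      exact ⟨_, hnat z⟩

end Groth.Agent.S19408
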