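import Groth.Statements.S19410
import Groth.Agent.Lib.EqZMT28.Thicken

set_option autoImplicit false
universe u
open TensorProduct
open GLin

namespace Groth.Agent.S19410

/-- Work over a field k that is algebraically closed and of characteristic zero. Suppose A is a finitely
generated commutative Hopf algebra over k whose finite-dimensional comodules are all semisimple (a
reductive group G). Take finitely generated commutative k-algebras S and R, each carrying a
multiplicative A-coaction (G acting on the affine schemes Y = Spec S and X = Spec R), together with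
an injective, quasi-finite algebra map S → R that respects the coactions (a dominant quasi-finite
G-morphism φ : X → Y). Then one can find finitely generated commutative k-algebras R' and S', both
integral domains with R' integrally closed, each equipped with a multiplicative A-coaction, along
with coaction-compatible surjective algebra maps R' → R and S' → S (so X and Y sit as closed
G-stable subschemes inside the integral affine G-varieties X' = Spec R' and Y' = Spec S', where X'
is normal), and a coaction-compatible algebra map S' → R' that is injective and quasi-finite (a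
dominant quasi-finite G-morphism X' → Y'), such that following S' → R' by R' → R gives the same map
as following S' → S by S → R. -/
theorem result (k : Type u) [Field k] [IsAlgClosed k] [CharZero k]
    (A : Type u) [CommRing A] [HopfAlgebra k A] [Algebra.FiniteType k A] (hG : HopfRep.IsLinearlyReductive k A)
    (S : Type u) [CommRing S] [Algebra k S] [Algebra.FiniteType k S] [HopfRep.Comod k A S] [GLin.IsCoactAlg k A S]
    (R : Type u) [CommRing R] [Algebra k R] [Algebra.FiniteType k R] [HopfRep.Comod k A R] [GLin.IsCoactAlg k A R]
    [Algebra S R] [IsScalarTower k S R] [Algebra.QuasiFinite S R] (hinj : Function.Injective (algebraMap S R))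
    (hequiv : (∀ s : S, HopfRep.Comod.coact (k := k) (A := A) (algebraMap S R s) =
      Algebra.TensorProduct.map (IsScalarTower.toAlgHom k S R) (AlgHom.id k A) (HopfRep.Comod.coact (k := k) (A := A) s))) :
    ∃ (R' : Type u) (_ : CommRing R') (_ : IsDomain R') (_ : IsIntegrallyClosed R') (_ : Algebra k R')
      (_ : HopfRep.Comod k A R') (_ : GLin.IsCoactAlg k A R')
      (S' : Type u) (_ : CommRing S') (_ : IsDomain S') (_ : Algebra k S')
      (_ : HopfRep.Comod k A S') (_ : GLin.IsCoactAlg k A S'),
      Algebra.FiniteType k R' ∧ Algebra.FiniteType k S' ∧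
      ∃ (pR : R' →ₐ[k] R) (pS : S' →ₐ[k] S) (φ' : S' →ₐ[k] R'),
        Function.Surjective pR ∧ Function.Surjective pS ∧ Function.Injective φ' ∧ φ'.toRingHom.QuasiFinite ∧
        (∀ s : R', HopfRep.Comod.coact (k := k) (A := A) (pR s) =
        Algebra.TensorProduct.map pR (AlgHom.id k A) (HopfRep.Comod.coact (k := k) (A := A) s)) ∧
        (∀ s : S', HopfRep.Comod.coact (k := k) (A := A) (pS s) =
        Algebra.TensorProduct.map pS (AlgHom.id k A) (HopfRep.Comod.coact (k := k) (A := A) s)) ∧
        (∀ s : S', HopfRep.Comod.coact (k := k) (A := A) (φ' s) =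
        Algebra.TensorProduct.map φ' (AlgHom.id k A) (HopfRep.Comod.coact (k := k) (A := A) s)) ∧
        pR.comp φ' = (IsScalarTower.toAlgHom k S R).comp pS := by
  rcases subsingleton_or_nontrivial R with hR | hR
  · haveI : Subsingleton S := hinj.subsingleton
    letI : HopfRep.Comod k A k := HopfRep.Comod.trivial k A k
    haveI : GLin.IsCoactAlg k A k := ⟨rfl, fun a b => by
      show (a * b) ⊗ₜ[k] (1 : A) = (a ⊗ₜ[k] (1 : A)) * (b ⊗ₜ[k] (1 : A))
      rw [Algebra.TensorProduct.tmul_mul_tmul, mul_one]⟩
    haveI : Subsingleton (R ⊗[k] A) := inferInstance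
    haveI : Subsingleton (S ⊗[k] A) := inferInstance
    refine ⟨k, inferInstance, inferInstance, inferInstance, inferInstance, inferInstance, inferInstance,
      k, inferInstance, inferInstance, inferInstance, inferInstance, inferInstance, inferInstance, inferInstance,
      Algebra.ofId k R, Algebra.ofId k S, AlgHom.id k k, fun r => ⟨0, Subsingleton.elim _ _⟩,
      fun r => ⟨0, Subsingleton.elim _ _⟩, Function.injective_id, ?_, fun s => Subsingleton.elim _ _,
      fun s => Subsingleton.elim _ _, fun s => ?_, AlgHom.ext fun s => Subsingleton.elim _ _⟩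
    · exact RingHom.QuasiFinite.of_finite (RingHom.Finite.of_surjective _ fun r => ⟨r, rfl⟩)
    · show s ⊗ₜ[k] (1 : A) = Algebra.TensorProduct.map (AlgHom.id k k) (AlgHom.id k A) (s ⊗ₜ[k] (1 : A))
      simp
  · obtain ⟨R', i1, i2, i3, i4, i5, i6, S', j1, j2, j3, j4, j5, hR', hS', pR, pS, φ', h1, h2, h3, h4, h5, h6, h7, h8⟩ :=
      Groth.Agent.EqZMT28.exists_thickening (A := A) hG hinj hequiv
    exact ⟨R', i1, i2, i3, i4, i5, i6, S', j1, j2, j3, j4, j5, hR', hS', pR, pS, φ', h1, h2, h3, h4,
      fun s => (Groth.Agent.Comodule.comodHom_apply h5 s).trans rfl,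
      fun s => (Groth.Agent.Comodule.comodHom_apply h6 s).trans rfl,
      fun s => (Groth.Agent.Comodule.comodHom_apply h7 s).trans rfl, h8⟩

end Groth.Agent.S19410
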