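import Groth.Statements.S19411
import Groth.Agent.Lib.OrbitH28.Stab
import Groth.Agent.Lib.UnitsRos.Affine
import Groth.Agent.Lib.HopfRedH28.Basic
import Mathlib.RingTheory.Coalgebra.GroupLike
open Groth.Agent

set_option autoImplicit false
universe u
open TensorProduct
open GLin

namespace Groth.Agent.S19411

/-- Let k be an uncountable algebraically closed field of characteristic zero, A a finitely generated
commutative Hopf algebra over k all of whose finite-dimensional comodules are semisimple (a
reductive group G), and R a reduced finitely generated commutative k-algebra whose prime spectrum is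
connected, with a multiplicative A-coaction ρ (G acting on the connected affine scheme X = Spec R).
Let θ ∈ R ⊗ A be such that the map r ↦ ρ(r)·θ from R to R ⊗ A is coassociative and counital (a
structure of G-line bundle on the trivial line bundle of X, θ being the corresponding invertible
function on X × G). Suppose that either every unit of A is a scalar multiple of a group-like element
(every invertible function on G is a constant times a character), or every unit of R is a scalar
(every invertible function on X is constant). Then θ = 1 ⊗ χ for some group-like element χ of A: the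
G-line bundle is the one attached to the character χ. (Stated for G-line bundle structures on the
trivial bundle, the case to which the hypothesis of a trivial Picard group reduces the source's
statement; uncountability of k is what the argument uses in the first case.) -/
theorem result (k : Type u) [Field k] [IsAlgClosed k] [CharZero k] [Uncountable k]
    (A : Type u) [CommRing A] [HopfAlgebra k A] [Algebra.FiniteType k A] (hG : HopfRep.IsLinearlyReductive k A)
    (R : Type u) [CommRing R] [IsReduced R] [Algebra k R] [Algebra.FiniteType k R] [HopfRep.Comod k A R] [GLin.IsCoactAlg k A R]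
    [ConnectedSpace (PrimeSpectrum R)]
    (θ : R ⊗[k] A)
    (hassoc : (TensorProduct.assoc k R A A).toLinearMap ∘ₗ
        ((LinearMap.mulRight k θ) ∘ₗ HopfRep.Comod.coact (k := k) (A := A) (V := R)).rTensor A ∘ₗ
          ((LinearMap.mulRight k θ) ∘ₗ HopfRep.Comod.coact (k := k) (A := A) (V := R)) =
      (CoalgebraStruct.comul (R := k) (A := A)).lTensor R ∘ₗ
        ((LinearMap.mulRight k θ) ∘ₗ HopfRep.Comod.coact (k := k) (A := A) (V := R)))
    (hcounit : (CoalgebraStruct.counit (R := k) (A := A)).lTensor R ∘ₗ
        ((LinearMap.mulRight k θ) ∘ₗ HopfRep.Comod.coact (k := k) (A := A) (V := R)) =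
      (TensorProduct.mk k R k).flip 1)
    (h : (∀ u : Aˣ, ∃ (c : k) (χ : A), IsGroupLikeElem k χ ∧ (u : A) = c • χ) ∨
      (∀ u : Rˣ, (u : R) ∈ Set.range (algebraMap k R))) :
    ∃ χ : A, IsGroupLikeElem k χ ∧ θ = (1 : R) ⊗ₜ[k] χ := by
  classical
  haveI : _root_.IsReduced A := HopfRedH28.isReduced_of_charZero k A
  let ρ := GLin.coactAlgHom k A R
  let pr : (R →ₐ[k] k) → WithConv (A →ₐ[k] k) → (R ⊗[k] A →ₐ[k] k) := OrbitH28.pair
  have hρ1 : HopfRep.Comod.coact (k := k) (A := A) (1 : R) = 1 := GLin.IsCoactAlg.coact_one
  have hcoc : ∀ x g h, pr x (g * h) θ = pr x g θ * pr (OrbitH28.mv g x) h θ := by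
    intro x g h
    have h1 := LinearMap.congr_fun hassoc 1
    simp only [LinearMap.comp_apply, LinearMap.mulRight_apply, hρ1, one_mul, LinearEquiv.coe_coe] at h1
    let T : R ⊗[k] (A ⊗[k] A) →ₐ[k] k := Algebra.TensorProduct.lift x
      (Algebra.TensorProduct.lift g.ofConv h.ofConv fun _ _ => Commute.all _ _) fun _ _ => Commute.all _ _
    have h2 := congrArg T h1
    have hR : ∀ t : R ⊗[k] A, T ((CoalgebraStruct.comul (R := k) (A := A)).lTensor R t) = pr x (g * h) t := by
      intro t
      induction t with
      | zero => simp
      | add p q hp hq => simp only [map_add, hp, hq]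
      | tmul r a =>
        simp only [LinearMap.lTensor_tmul, T, pr, OrbitH28.pair_tmul, Algebra.TensorProduct.lift_tmul]
        congr 1
        rw [AlgHom.convMul_apply]
    have hL : ∀ t : R ⊗[k] A, T (TensorProduct.assoc k R A A
        (((LinearMap.mulRight k θ) ∘ₗ HopfRep.Comod.coact (k := k) (A := A) (V := R)).rTensor A t)) =
        pr x g θ * pr (OrbitH28.mv g x) h t := by
      intro t
      induction t with
      | zero => simp
      | add p q hp hq => simp only [map_add, hp, hq, mul_add]
      | tmul r a =>
        have e : ∀ s : R ⊗[k] A, T (TensorProduct.assoc k R A A (s ⊗ₜ[k] a)) = pr x g s * h.ofConv a := by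
          intro s
          induction s with
          | zero => simp
          | tmul p q => simp [T, pr, OrbitH28.pair_tmul, mul_assoc]
          | add p q hp hq => simp only [TensorProduct.add_tmul, map_add, hp, hq, add_mul]
        simp only [LinearMap.rTensor_tmul, LinearMap.comp_apply, LinearMap.mulRight_apply, e]
        rw [map_mul, show pr = OrbitH28.pair from rfl, OrbitH28.pair_coact, OrbitH28.pair_tmul]
        ring
    rw [hR, hL] at h2
    exact h2.symm
  have hone : ∀ x, pr x 1 θ = 1 := by
    intro x
    have h1 := LinearMap.congr_fun hcounit 1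
    simp only [LinearMap.comp_apply, LinearMap.mulRight_apply, hρ1, one_mul, LinearMap.flip_apply,
      TensorProduct.mk_apply] at h1
    have e : ∀ t : R ⊗[k] A, pr x 1 t =
        x (TensorProduct.rid k R ((CoalgebraStruct.counit (R := k) (A := A)).lTensor R t)) := by
      intro t
      induction t with
      | zero => simp
      | tmul r a => simp [pr, OrbitH28.pair_tmul, AlgHom.convOne_apply, mul_comm]
      | add p q hp hq => simp only [map_add, hp, hq]
    rw [e, h1]
    simp
  have hne : ∀ x g, pr x g θ ≠ 0 := by
    intro x g h0
    have h1 := hcoc x g g⁻¹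
    rw [mul_inv_cancel, hone, h0, zero_mul] at h1
    exact one_ne_zero h1
  -- independence of the point
  have hindep : ∀ x y g, pr x g θ = pr y g θ := by
    intro x y g
    let r : R := Algebra.TensorProduct.lift (AlgHom.id k R) ((Algebra.ofId k R).comp g.ofConv)
      (fun _ _ => Commute.all _ _) θ
    have hr : ∀ z : R →ₐ[k] k, z r = pr z g θ := fun z => by
      refine AlgHom.congr_fun (?_ : z.comp (Algebra.TensorProduct.lift (AlgHom.id k R)
        ((Algebra.ofId k R).comp g.ofConv) fun _ _ => Commute.all _ _) = pr z g) θ
      exact Algebra.TensorProduct.ext' fun a b => by simp [pr, OrbitH28.pair_tmul]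
    rw [← hr, ← hr]
    rcases h with hA | hR
    · obtain ⟨F, hF⟩ : ∃ F : Finset k, ∀ z : R →ₐ[k] k, z r ∈ F := by
        obtain ⟨S, hS⟩ := TensorProduct.exists_finset (R := k) θ
        let V : Submodule k A := Submodule.span k ((fun p : R × A => p.2) '' (S : Set (R × A)))
        haveI : FiniteDimensional k V := FiniteDimensional.span_of_finite k (S.finite_toSet.image _)
        have hfin : {χ : A | IsGroupLikeElem k χ ∧ χ ∈ V}.Finite := by
          have hli : LinearIndepOn k id {χ : A | IsGroupLikeElem k χ ∧ χ ∈ V} :=
            (linearIndepOn_isGroupLikeElem (R := k) (A := A)).mono fun χ hχ => hχ.1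
          have hli' : LinearIndependent k
              (fun χ : {χ : A | IsGroupLikeElem k χ ∧ χ ∈ V} => (⟨χ.1, χ.2.2⟩ : V)) :=
            LinearIndependent.of_comp V.subtype hli
          haveI := hli'.finite
          exact Set.toFinite _
        refine ⟨hfin.toFinset.image g.ofConv, fun z => ?_⟩
        let a : A := Algebra.TensorProduct.lift ((Algebra.ofId k A).comp z) (AlgHom.id k A)
          (fun _ _ => Commute.all _ _) θ
        have ha : ∀ h : WithConv (A →ₐ[k] k), h.ofConv a = pr z h θ := fun h => by
          refine AlgHom.congr_fun (?_ : h.ofConv.comp (Algebra.TensorProduct.lift ((Algebra.ofId k A).comp z)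
            (AlgHom.id k A) fun _ _ => Commute.all _ _) = pr z h) θ
          exact Algebra.TensorProduct.ext' fun r c => by simp [pr, OrbitH28.pair_tmul]
        have hau : IsUnit a := by
          by_contra hu
          obtain ⟨m, hm, ham⟩ := exists_max_ideal_of_mem_nonunits hu
          obtain ⟨w, rfl⟩ := OrbitH28.exists_point_eq (k := k) hm
          exact hne z (WithConv.toConv w) ((ha _).symm.trans ham)
        obtain ⟨c, χ, hχ, hac⟩ := hA hau.unit
        rw [IsUnit.unit_spec] at hac
        have hc : c = 1 := by
          have h1 := ha 1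
          rw [hone, hac, map_smul, AlgHom.convOne_apply, hχ.counit_eq_one] at h1
          simpa using h1
        rw [hc, one_smul] at hac
        have haV : a ∈ V := by
          show Algebra.TensorProduct.lift _ _ _ θ ∈ V
          rw [hS, map_sum]
          refine sum_mem fun p hp => ?_
          simp only [Algebra.TensorProduct.lift_tmul, AlgHom.id_apply, AlgHom.comp_apply, Algebra.ofId_apply]
          rw [← Algebra.smul_def]
          exact V.smul_mem _ (Submodule.subset_span ⟨p, hp, rfl⟩)
        rw [hr, ← ha]
        exact Finset.mem_image_of_mem _ ((Set.Finite.mem_toFinset _).2 ⟨hac ▸ hχ, haV⟩)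
      by_contra hxy
      let P : R := ∏ c ∈ F.erase (x r), (algebraMap k R (x r - c)⁻¹ * (r - algebraMap k R c))
      have hPv : ∀ z : R →ₐ[k] k, z P = if z r = x r then 1 else 0 := by
        intro z
        simp only [P, map_prod, map_mul, map_sub, AlgHom.commutes, Algebra.algebraMap_self_apply]
        split_ifs with hz
        · refine Finset.prod_eq_one fun c hc => ?_
          rw [hz, inv_mul_cancel₀ (sub_ne_zero.2 (Finset.mem_erase.1 hc).1.symm)]
        · exact Finset.prod_eq_zero (Finset.mem_erase.2 ⟨hz, hF z⟩) (by simp)
      have hPP : P * (1 - P) = 0 := by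
        by_contra h0
        obtain ⟨z, hz⟩ := UnitsRos.exists_point_ne_zero (k := k) h0
        refine hz ?_
        rw [map_mul, map_sub, map_one, hPv]
        split_ifs <;> simp
      haveI : (RingHom.ker x).IsPrime := RingHom.ker_isPrime x
      haveI : (RingHom.ker y).IsPrime := RingHom.ker_isPrime y
      rcases isClopen_iff.1 (PrimeSpectrum.isClopen_basicOpen_of_mul_add P (1 - P) hPP (by ring)) with h0 | h0
      · have hmem : (⟨RingHom.ker x, inferInstance⟩ : PrimeSpectrum R) ∈
            (PrimeSpectrum.basicOpen P : Set (PrimeSpectrum R)) := by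
          simp [hPv]
        rw [h0] at hmem
        exact hmem
      · have hmem : (⟨RingHom.ker y, inferInstance⟩ : PrimeSpectrum R) ∈
            (PrimeSpectrum.basicOpen P : Set (PrimeSpectrum R)) := by
          rw [h0]; trivial
        simp [hPv, Ne.symm hxy] at hmem
    · have hu : IsUnit r := by
        by_contra hu
        obtain ⟨m, hm, hrm⟩ := exists_max_ideal_of_mem_nonunits hu
        obtain ⟨w, rfl⟩ := OrbitH28.exists_point_eq (k := k) hm
        exact hne w g ((hr w).symm.trans hrm)
      obtain ⟨c, hc⟩ := hR hu.unit
      rw [IsUnit.unit_spec] at hc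
      rw [← hc, AlgHom.commutes, AlgHom.commutes]
  obtain ⟨x₀, -⟩ : ∃ x : R →ₐ[k] k, True := by
    obtain ⟨q⟩ : Nonempty (PrimeSpectrum R) := inferInstance
    haveI : Nontrivial R := ⟨⟨0, 1, fun h01 => q.2.ne_top ((Ideal.eq_top_iff_one _).2 (h01 ▸ q.asIdeal.zero_mem))⟩⟩
    obtain ⟨x, -⟩ := UnitsRos.exists_point_ne_zero (k := k) (one_ne_zero (α := R))
    exact ⟨x, trivial⟩
  let a : A := Algebra.TensorProduct.lift ((Algebra.ofId k A).comp x₀) (AlgHom.id k A)
    (fun _ _ => Commute.all _ _) θ
  have ha : ∀ h : WithConv (A →ₐ[k] k), h.ofConv a = pr x₀ h θ := fun h => by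
    refine AlgHom.congr_fun (?_ : h.ofConv.comp (Algebra.TensorProduct.lift ((Algebra.ofId k A).comp x₀)
      (AlgHom.id k A) fun _ _ => Commute.all _ _) = pr x₀ h) θ
    exact Algebra.TensorProduct.ext' fun r c => by simp [pr, OrbitH28.pair_tmul]
  refine ⟨a, ⟨?_, ?_⟩, sub_eq_zero.1 (UnitsRos.eq_zero_of_points (k := k) fun z w => ?_)⟩
  · have := ha 1
    rw [AlgHom.convOne_apply, hone] at this
    simpa using this
  · refine sub_eq_zero.1 (UnitsRos.eq_zero_of_points (k := k) fun u w => ?_)
    have h1 : Algebra.TensorProduct.lift u w (fun _ _ => .all _ _) (CoalgebraStruct.comul (R := k) a) =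
        (WithConv.toConv u * WithConv.toConv w).ofConv a := by
      rw [AlgHom.convMul_apply]
    rw [map_sub, h1, ha, hcoc, hindep (OrbitH28.mv _ x₀) x₀]
    have e1 := ha (WithConv.toConv u)
    have e2 := ha (WithConv.toConv w)
    simp only [WithConv.ofConv_toConv] at e1 e2
    rw [← e1, ← e2]
    simp
  · show pr z (WithConv.toConv w) (θ - (1 : R) ⊗ₜ[k] a) = 0
    have e1 := ha (WithConv.toConv w)
    rw [map_sub, show pr = OrbitH28.pair from rfl, OrbitH28.pair_tmul, map_one, one_mul, e1, sub_eq_zero]
    exact hindep z x₀ _

end Groth.Agent.S19411
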