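import Groth.Statements.S19412
import Groth.Agent.Lib.EtQuotH28.Nbhd
open HopfRep Groth.Agent.Comodule

set_option autoImplicit false
universe u
open TensorProduct
open GLin

namespace Groth.Agent.S19412

/-- Let k be an algebraically closed field of characteristic zero, A a finitely generated commutative
Hopf algebra over k (an algebraic group G), S and R finitely generated commutative k-algebras with
multiplicative A-coactions (G acting on affine Y = Spec S, X = Spec R), S → R an algebra map
compatible with the coactions (a G-morphism φ : X → Y), S₀ → S and R₀ → R injective k-algebra maps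
whose images are the subrings of invariants, and S₀ → R₀ an algebra map with S₀ → R₀ → R equal to S₀
→ S → R (φ/G). Suppose R₀ is étale over S₀ and the canonical map S ⊗_{S₀} R₀ → R is bijective (φ is
strongly étale: φ/G étale and X ≅ Y ×_{Y//G} X//G). Then R is étale over S (φ étale), and for every
k-point x of X: every k-point of G fixing the image point φ(x) fixes x (φ restricted to the orbit of
x is injective), and the orbit of x is closed if and only if the orbit of φ(x) is closed. (The
published item also asserts that φ is surjective; that fails when φ is the inclusion of a proper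
saturated open subset, which is strongly étale, so surjectivity is not asserted here.) -/
theorem result (k : Type u) [Field k] [IsAlgClosed k] [CharZero k]
    (A : Type u) [CommRing A] [HopfAlgebra k A] [Algebra.FiniteType k A]
    (S : Type u) [CommRing S] [Algebra k S] [Algebra.FiniteType k S] [HopfRep.Comod k A S] [GLin.IsCoactAlg k A S]
    (R : Type u) [CommRing R] [Algebra k R] [Algebra.FiniteType k R] [HopfRep.Comod k A R] [GLin.IsCoactAlg k A R]
    [Algebra S R] [IsScalarTower k S R]
    (hequiv : (∀ s : S, HopfRep.Comod.coact (k := k) (A := A) (algebraMap S R s) =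
      Algebra.TensorProduct.map (IsScalarTower.toAlgHom k S R) (AlgHom.id k A) (HopfRep.Comod.coact (k := k) (A := A) s)))
    (S₀ : Type u) [CommRing S₀] [Algebra k S₀] [Algebra S₀ S] [IsScalarTower k S₀ S]
    (hS₀i : Function.Injective (algebraMap S₀ S)) (hS₀ : (IsScalarTower.toAlgHom k S₀ S).range = GLin.invariants k A S)
    (R₀ : Type u) [CommRing R₀] [Algebra k R₀] [Algebra R₀ R] [IsScalarTower k R₀ R]
    (hR₀i : Function.Injective (algebraMap R₀ R)) (hR₀ : (IsScalarTower.toAlgHom k R₀ R).range = GLin.invariants k A R)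
    [Algebra S₀ R₀] [Algebra S₀ R] [IsScalarTower S₀ S R] [IsScalarTower S₀ R₀ R]
    (het₀ : Algebra.Etale S₀ R₀)
    (hcart : Function.Bijective (Algebra.TensorProduct.productMap (IsScalarTower.toAlgHom S₀ S R) (IsScalarTower.toAlgHom S₀ R₀ R))) :
    Algebra.Etale S R ∧
      ∀ x : R →ₐ[k] k,
        (∀ g : A →ₐ[k] k, GLin.actPt k g (x.comp (IsScalarTower.toAlgHom k S R)) = x.comp (IsScalarTower.toAlgHom k S R) →
          GLin.actPt k g x = x) ∧
        (GLin.IsClosedOrbit k A x ↔ GLin.IsClosedOrbit k A (x.comp (IsScalarTower.toAlgHom k S R))) := by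
  have hmemS : ∀ r : S₀, algebraMap S₀ S r ∈ GLin.invariants k A S := fun r => hS₀ ▸ ⟨r, rfl⟩
  have hmemR : ∀ r : R₀, algebraMap R₀ R r ∈ GLin.invariants k A R := fun r => hR₀ ▸ ⟨r, rfl⟩
  set μ := Algebra.TensorProduct.productMap (IsScalarTower.toAlgHom S₀ S R) (IsScalarTower.toAlgHom S₀ R₀ R) with hμ
  have hμt : ∀ s r, μ (s ⊗ₜ[S₀] r) = algebraMap S R s * algebraMap R₀ R r := fun s r => by simp [μ]
  refine ⟨?_, fun x => ?_⟩
  · haveI := het₀
    let μS : S ⊗[S₀] R₀ →ₐ[S] R :=
      Algebra.TensorProduct.lift (Algebra.ofId S R) (IsScalarTower.toAlgHom S₀ R₀ R) fun _ _ => Commute.all _ _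
    have e : (μS : S ⊗[S₀] R₀ → R) = μ := funext fun z => by
      induction z with
      | zero => simp
      | add a b ha hb => rw [map_add, map_add, ha, hb]
      | tmul s r => rw [hμt]; simp [μS]
    exact Algebra.Etale.of_equiv (AlgEquiv.ofBijective μS (e ▸ hcart))
  have hext : ∀ u v : R →ₐ[k] k, (∀ s, u (algebraMap S R s) = v (algebraMap S R s)) →
      (∀ r, u (algebraMap R₀ R r) = v (algebraMap R₀ R r)) → u = v := by
    intro u v h1 h2
    refine AlgHom.ext fun f => ?_
    obtain ⟨z, rfl⟩ := hcart.2 f
    induction z with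
    | zero => simp
    | add a b ha hb => rw [map_add, map_add, map_add, ha, hb]
    | tmul s r => rw [hμt, map_mul, map_mul, h1, h2]
  refine ⟨fun g hg => hext _ _ (fun s => ?_) (fun r => ?_), ?_⟩
  · have h := DFunLike.congr_fun hg s
    refine Eq.trans ?_ h
    exact (DFunLike.congr_fun (EtQuotH28.mv_comp hequiv (WithConv.toConv g) x) s).symm
  · exact eq_of_inOrbitClosure (OrbitH28.inOrbitClosure_mv (WithConv.toConv g) x) (hmemR r)
  rw [← OrbitH28.closed_iff_isClosedOrbit, ← OrbitH28.closed_iff_isClosedOrbit]
  constructor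
  · intro hx z hz
    letI : Algebra S₀ k := (z.toRingHom.comp (algebraMap S₀ S)).toAlgebra
    let zl : S →ₐ[S₀] k := { z.toRingHom with commutes' := fun s₀ => rfl }
    let xl : R₀ →ₐ[S₀] k := { x.toRingHom.comp (algebraMap R₀ R) with
      commutes' := fun s₀ => by
        show x (algebraMap R₀ R (algebraMap S₀ R₀ s₀)) = z (algebraMap S₀ S s₀)
        rw [← IsScalarTower.algebraMap_apply, IsScalarTower.algebraMap_apply S₀ S R,
          eq_of_inOrbitClosure hz (hmemS s₀)]
        rfl }
    let ψ : S ⊗[S₀] R₀ →ₐ[S₀] k := Algebra.TensorProduct.lift zl xl fun _ _ => Commute.all _ _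
    let μe : S ⊗[S₀] R₀ ≃+* R := RingEquiv.ofBijective μ.toRingHom hcart
    have hμe : ∀ s r, μe.symm (algebraMap S R s * algebraMap R₀ R r) = s ⊗ₜ[S₀] r := fun s r => by
      rw [RingEquiv.symm_apply_eq]
      exact (hμt s r).symm
    have hψS : ∀ s, ψ (μe.symm (algebraMap S R s)) = z s := fun s => by
      rw [← mul_one (algebraMap S R s), ← map_one (algebraMap R₀ R), hμe]
      simp [ψ, zl]
    have hψR : ∀ r, ψ (μe.symm (algebraMap R₀ R r)) = x (algebraMap R₀ R r) := fun r => by
      rw [← one_mul (algebraMap R₀ R r), ← map_one (algebraMap S R), hμe]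
      simp [ψ, xl]
    let w : R →ₐ[k] k := { ψ.toRingHom.comp μe.symm.toRingHom with
      commutes' := fun c => by
        show ψ (μe.symm (algebraMap k R c)) = c
        rw [IsScalarTower.algebraMap_apply k S R, hψS, AlgHom.commutes]
        rfl }
    have hw : GLin.InOrbitClosure k A x w := by
      intro f hf
      let Q : Ideal R := ((RingHom.ker x).comap (algebraMap R₀ R)).map (algebraMap R₀ R)
      have hdec : ∀ f : R, ∃ s : S, f - algebraMap S R s ∈ Q := by
        intro f
        obtain ⟨t, rfl⟩ := hcart.2 f
        induction t with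
        | zero => exact ⟨0, by simp⟩
        | add a b ha hb =>
          obtain ⟨s, hs⟩ := ha
          obtain ⟨s', hs'⟩ := hb
          exact ⟨s + s', by rw [map_add, map_add, add_sub_add_comm]; exact add_mem hs hs'⟩
        | tmul s r =>
          refine ⟨s * algebraMap k S (x (algebraMap R₀ R r)), ?_⟩
          rw [hμt, map_mul, ← IsScalarTower.algebraMap_apply k S R, ← mul_sub,
            IsScalarTower.algebraMap_apply k R₀ R, ← map_sub]
          refine Ideal.mul_mem_left _ _ (Ideal.mem_map_of_mem _ ?_)
          rw [Ideal.mem_comap, RingHom.mem_ker, map_sub, map_sub, ← IsScalarTower.algebraMap_apply, AlgHom.commutes]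
          simp
      have hQ1 : Q ≤ RingHom.ker (GLin.orbitHom k A x) := Ideal.map_le_iff_le_comap.2 fun r hr => by
        show GLin.orbitHom k A x (algebraMap R₀ R r) = 0
        rw [orbitHom_of_mem_invariants x (hmemR r), show x (algebraMap R₀ R r) = 0 from hr, map_zero]
      have hQ2 : Q ≤ RingHom.ker w := Ideal.map_le_iff_le_comap.2 fun r hr => by
        show ψ (μe.symm (algebraMap R₀ R r)) = 0
        rw [hψR]; exact hr
      obtain ⟨s, hs⟩ := hdec f
      have hs' : z s = 0 := hz (by
        rw [EtQuotH28.orbitHom_comp hequiv]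
        show GLin.orbitHom k A x (algebraMap S R s) = 0
        have h := hQ1 hs
        rw [RingHom.mem_ker, map_sub, show GLin.orbitHom k A x f = 0 from hf, zero_sub, neg_eq_zero] at h
        exact h)
      have h := hQ2 hs
      rw [RingHom.mem_ker, map_sub, sub_eq_zero] at h
      show w f = 0
      rw [h]
      exact (hψS s).trans hs'
    obtain ⟨g, hg⟩ := hx w hw
    refine ⟨g, ?_⟩
    rw [EtQuotH28.mv_comp hequiv, hg]
    exact AlgHom.ext hψS
  · intro hy w hw
    obtain ⟨g, hg⟩ := hy (w.comp (IsScalarTower.toAlgHom k S R)) (by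
      intro f hf
      rw [EtQuotH28.orbitHom_comp hequiv] at hf
      exact hw hf)
    refine ⟨g, hext _ _ (fun s => ?_) (fun r => ?_)⟩
    · rw [EtQuotH28.mv_comp hequiv] at hg
      exact DFunLike.congr_fun hg s
    · rw [eq_of_inOrbitClosure hw (hmemR r)]
      exact eq_of_inOrbitClosure (OrbitH28.inOrbitClosure_mv g x) (hmemR r)

end Groth.Agent.S19412
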