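import Groth.Statements.S19416
import Groth.Agent.Lib.RegImm26.InterVar
-- import your own Groth.Agent.* helpers here

set_option autoImplicit false
universe u
open CategoryTheory AlgebraicGeometry
open IntMult

namespace Groth.Agent.S19416

/-- Let k be a field and X a smooth variety over k (the structure morphism X → Spec k smooth, separated
and quasi-compact, X integral) of dimension n, and let V, W ⊆ X be closed irreducible subsets of
dimensions r and s. Then every irreducible component Z of V ∩ W has dimension at least r + s − n,
stated as r + s ≤ dim Z + n with Krull dimensions of the subspaces; equivalently the codimension of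
Z is at most the sum of the codimensions of V and W. The base field is arbitrary here; the same
statement over an algebraically closed field is the classical dimension count for intersections on a
nonsingular variety. -/
theorem result (k : Type u) [Field k] (X : Scheme.{u})
    (f : X ⟶ Spec (CommRingCat.of k)) [Smooth f] [IsSeparated f] [QuasiCompact f] [IsIntegral X]
    (n r s : ℕ) (hn : topologicalKrullDim X = n) (V W : Set X) (hVc : IsClosed V)
    (hVi : IsIrreducible V) (hWc : IsClosed W) (hWi : IsIrreducible W)
    (hr : topologicalKrullDim ↥V = r) (hs : topologicalKrullDim ↥W = s) (Z : Set ↥(V ∩ W))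
    (hZ : Z ∈ irreducibleComponents ↥(V ∩ W)) :
    ((r + s : ℕ) : WithBot ℕ∞) ≤ topologicalKrullDim ↥Z + n := by
  exact Groth.Agent.RegImm26.le_dim_component_inter f n r s hn V W hVc hVi hWc hWi hr hs Z hZ

end Groth.Agent.S19416
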