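import Groth.Statements.S19419
import Groth.Agent.Lib.Cyc26.PullKer
import Groth.Agent.Lib.Cyc26.ClosedSetup
import Groth.Agent.Lib.Cyc26.ChernFun
import Groth.Agent.Lib.Bivar12.Envelope
import Groth.Agent.Lib.Cyc26.MVExact

set_option autoImplicit false
universe u
open CategoryTheory CategoryTheory.Limits AlgebraicGeometry
open Cyc

namespace Groth.Agent.S19419

/-- Let X be a smooth proper integral curve over an algebraically closed field k, with generic point η,
and ψ : X → X a flat endomorphism over k. Let Y = X ×_k X with its two projections, m = ψ × id : Y →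
Y (first projection intertwines ψ, second projection unchanged), d : X → Y the diagonal and g = (id,
ψ) : X → Y the graph of ψ. For the dimension function δ on Y induced from weight 0 on Spec k, the
flat pull-back of cycles along m in relative dimension 0 takes the diagonal divisor [Δ], the cycle
equal to 1 at d(η) and 0 elsewhere, to the graph divisor [Γ_ψ], the cycle equal to 1 at g(η) and 0
elsewhere: (ψ × id)^*[Δ] = [Γ_ψ]. The published statement allows any endomorphism ψ and reads the
pull-back on divisors; flatness of ψ is what the flat pull-back of cycles requires (the intended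
case is the Frobenius endomorphism), and iterating gives [Γ_{ψ^n}] = ((ψ × id)^*)^n [Δ]. -/
theorem result (k : Type u) [Field k]
    [IsAlgClosed k] (X : Scheme.{u}) (f : X ⟶ Spec (CommRingCat.of k)) [Smooth f] [IsProper f]
    [IsIntegral X] (hdim : topologicalKrullDim ↥X = 1) (ψ : X ⟶ X) (hψ : ψ ≫ f = f) [Flat ψ]
    (m : pullback f f ⟶ pullback f f) (hm₁ : m ≫ pullback.fst f f = pullback.fst f f ≫ ψ)
    (hm₂ : m ≫ pullback.snd f f = pullback.snd f f) (g : X ⟶ pullback f f)
    (hg₁ : g ≫ pullback.fst f f = 𝟙 X) (hg₂ : g ≫ pullback.snd f f = ψ)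
    (δ : ↥(pullback f f) → ℤ) (hδ : Cyc.DeltaCompat (pullback.fst f f ≫ f) δ (fun _ => 0)) :
    Cyc.pullFun m δ δ 0
        (Set.indicator ({pullback.diagonal f (genericPoint ↥X)} : Set ↥(pullback f f)) (fun _ => (1 : ℤ))) =
      Set.indicator ({g (genericPoint ↥X)} : Set ↥(pullback f f)) (fun _ => (1 : ℤ)) := by
  haveI : IsSeparated f := inferInstance
  have hd₁ : pullback.diagonal f ≫ pullback.fst f f = 𝟙 X := pullback.diagonal_fst f
  have hd₂ : pullback.diagonal f ≫ pullback.snd f f = 𝟙 X := pullback.diagonal_snd f
  have hgm : g ≫ m = ψ ≫ pullback.diagonal f := by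
    apply pullback.hom_ext
    · rw [Category.assoc, hm₁, reassoc_of% hg₁, Category.assoc, hd₁, Category.comp_id]
    · rw [Category.assoc, hm₂, hg₂, Category.assoc, hd₂, Category.comp_id]
  have sq : IsPullback g ψ m (pullback.diagonal f) := by
    refine ⟨⟨hgm⟩, ⟨PullbackCone.IsLimit.mk hgm (fun s => s.fst ≫ pullback.fst f f) (fun s => ?_) (fun s => ?_)
      fun s l hl _ => ?_⟩⟩
    all_goals
      have h1 : s.fst ≫ pullback.fst f f ≫ ψ = s.snd := by
        rw [← hm₁, reassoc_of% s.condition, hd₁, Category.comp_id]
      have h2 : s.fst ≫ pullback.snd f f = s.snd := by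
        have := congrArg (· ≫ pullback.snd f f) s.condition
        simp only [Category.assoc, hm₂, hd₂, Category.comp_id] at this
        exact this
    · apply pullback.hom_ext
      · rw [Category.assoc, Category.assoc, hg₁, Category.comp_id]
      · rw [Category.assoc, Category.assoc, hg₂, h2, ← h1]
    · rw [Category.assoc]; exact h1
    · rw [← hl, Category.assoc, hg₁, Category.comp_id]
  haveI : IsClosedImmersion g := MorphismProperty.of_isPullback sq.flip inferInstance
  haveI : IsLocallyNoetherian X := LocallyOfFiniteType.isLocallyNoetherian f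
  haveI : LocallyOfFiniteType (ψ ≫ f) := by rw [hψ]; infer_instance
  haveI : LocallyOfFiniteType ψ := locallyOfFiniteType_of_comp ψ f
  have hgen : ψ (genericPoint X) = genericPoint X := by
    obtain ⟨x', hs, hx'⟩ := Flat.generalizingMap ψ
      (show genericPoint X ⤳ ψ (genericPoint X) from genericPoint_specializes _)
    have hxe : x' = genericPoint X := (hs.antisymm (genericPoint_specializes x')).eq
    rw [← hxe]
    exact hx'.trans hxe.symm
  have hpre : ∀ x : X, ψ x = genericPoint X → x = genericPoint X := by
    intro x hx
    by_contra hne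
    obtain ⟨δX, hX⟩ := Groth.Agent.P1S26.exists_deltaCompat f (fun _ => 0)
    have huc : ∀ y : (Spec (CommRingCat.of k) : Scheme.{u}),
        CAlg.IsUniversallyCatenary ((Spec (CommRingCat.of k)).presheaf.stalk y) := Groth.Agent.Cyc26.isUniversallyCatenary_stalk_field k
    have hdk : Cyc.IsDimFun (Spec (CommRingCat.of k)) (fun _ => 0) := fun a b _ hne => absurd (Subsingleton.elim a b) hne
    have hlt := (Groth.Agent.UCat26.isDimFun_of_deltaCompat f huc hdk hX _ _ (genericPoint_specializes x)
      (Ne.symm hne)).1
    have hψc : Cyc.DeltaCompat ψ δX δX := Groth.Agent.Cyc26A.deltaCompat_of_comp ψ f hψ hX hX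
    obtain ⟨n, -, hn⟩ := hψc x
    rw [hx] at hn
    omega
  have hδ' : δ (g (genericPoint X)) = δ (pullback.diagonal f (genericPoint X)) := by
    have e1 := Groth.Agent.Cyc26A.deltaCompat_comp g _ (Groth.Agent.Cyc26.deltaCompat_closed g δ) hδ
    have e2 := Groth.Agent.Cyc26A.deltaCompat_comp (pullback.diagonal f) _
      (Groth.Agent.Cyc26.deltaCompat_closed (pullback.diagonal f) δ) hδ
    rw [reassoc_of% hg₁] at e1
    rw [reassoc_of% hd₁] at e2
    exact congrFun (Groth.Agent.Bivar12.deltaCompat_unique e1 e2) _
  have hmg : ∀ x, m (g x) = pullback.diagonal f (ψ x) := fun x => by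
    rw [← Scheme.Hom.comp_apply, hgm, Scheme.Hom.comp_apply]
  funext z
  by_cases hz : z = g (genericPoint X)
  · subst hz
    have e : m (g (genericPoint X)) = pullback.diagonal f (genericPoint X) := by rw [hmg, hgen]
    rw [Cyc.pullFun, if_pos (by rw [e, add_zero, hδ']), Set.indicator_of_mem (Set.mem_singleton_iff.2 e),
      Set.indicator_of_mem (Set.mem_singleton _), one_mul]
    have hmax : Ideal.map (m.stalkMap (g (genericPoint X))).hom
        (IsLocalRing.maximalIdeal ((pullback f f).presheaf.stalk (m (g (genericPoint X))))) =
        IsLocalRing.maximalIdeal ((pullback f f).presheaf.stalk (g (genericPoint X))) := by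
      refine le_antisymm (Ideal.map_le_iff_le_comap.2 fun a ha => (IsLocalRing.mem_maximalIdeal _).2 fun hu =>
        (IsLocalRing.mem_maximalIdeal _).1 ha ((isUnit_map_iff (m.stalkMap (g (genericPoint X))).hom a).1 hu)) ?_
      have hk := Groth.Agent.Cyc26.ker_stalkMap_pullback_fst m (pullback.diagonal f) sq (genericPoint X)
      haveI : Subsingleton {x : X // x ⤳ genericPoint X} :=
        ⟨fun a b => Subtype.ext ((a.2.antisymm (genericPoint_specializes _)).eq.trans
          (b.2.antisymm (genericPoint_specializes _)).eq.symm)⟩
      letI : Field (X.presheaf.stalk (genericPoint X)) := (inferInstanceAs (Field X.functionField))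
      refine le_trans (fun a ha => ?_) (hk.trans ?_)
      · by_contra hu
        exact (IsLocalRing.mem_maximalIdeal a).1 ha
          ((isUnit_map_iff (g.stalkMap (genericPoint X)).hom a).1 (Ne.isUnit hu))
      · rw [Groth.Agent.Cyc26.stalkTo, ← Ideal.map_map]
        refine Ideal.map_mono (Ideal.map_le_iff_le_comap.2 fun a ha => ?_)
        refine (IsLocalRing.mem_maximalIdeal _).2 fun hu => ?_
        have ha' : (pullback.diagonal f).stalkMap (ψ (genericPoint X)) a = 0 := ha
        haveI : IsIso ((pullback f f).presheaf.stalkSpecializes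
            (specializes_of_eq (show m (g (genericPoint X)) = pullback.diagonal f (ψ (genericPoint X)) from hmg _))) :=
          ⟨(pullback f f).presheaf.stalkSpecializes (specializes_of_eq (hmg _).symm), by simp, by simp⟩
        exact (((isUnit_map_iff ((pullback f f).presheaf.stalkSpecializes
          (specializes_of_eq (show m (g (genericPoint X)) = pullback.diagonal f (ψ (genericPoint X)) from hmg _))).hom a).1 hu).map
          ((pullback.diagonal f).stalkMap (ψ (genericPoint X))).hom).ne_zero ha'
    haveI : IsSimpleModule ((pullback f f).presheaf.stalk (g (genericPoint X)))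
        ((pullback f f).presheaf.stalk (g (genericPoint X)) ⧸
          IsLocalRing.maximalIdeal ((pullback f f).presheaf.stalk (g (genericPoint X)))) :=
      isSimpleModule_iff_isCoatom.2 (IsLocalRing.maximalIdeal.isMaximal _).out
    rw [hmax, Module.length_eq_one]
    rfl
  · rw [Set.indicator_of_notMem (by simpa using hz), Cyc.pullFun]
    have hnot : m z ≠ pullback.diagonal f (genericPoint X) := fun h => by
      have hmem : z ∈ Set.range g := by
        rw [Groth.Agent.Cyc26.range_of_isPullback sq]
        exact ⟨_, h.symm⟩
      obtain ⟨x, rfl⟩ := hmem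
      rw [hmg] at h
      exact hz (by rw [hpre x ((pullback.diagonal f).isClosedEmbedding.injective h)])
    rw [Set.indicator_of_notMem (by simpa using hnot)]
    split_ifs <;> simp

end Groth.Agent.S19419
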