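import Groth.Statements.S1942
import Groth.Agent.Lib.Cyc26.C1Sheaf
-- import your own Groth.Agent.* helpers here

set_option autoImplicit false
universe u
open CategoryTheory AlgebraicGeometry
open CategoryTheory.Limits
open Cyc

namespace Groth.Agent.S1942

/-- Let (L, s, i : D → X) be an invertible module, a global section and its zero scheme, and F a
coherent O_X-module with δ ≤ k + 1 on its support such that s : F → F ⊗ L is injective (at each
point, writing s = f·t on a generator t of L_x, multiplication by f is injective on F_x). Then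
i^*[F]_{k+1} ∼_rat [i^*F]_k as k-cycles on D. Here i : D → X is the zero scheme of a global section
s of the invertible module L (Cyc.IsZeroSchemeOf), the Gysin map i^* : Z_{k+1}(X) → CH_k(D) is
computed on coefficient functions as c_1(L) ∩ − with the rational sections taken to be s where it is
nonzero (Cyc.gysinChoice) and restricted to the points of D, and classes on D are compared up to
rational equivalence on D for the restricted dimension function. Here a pair (X, δ) satisfying
Cyc.IsSetup (X locally Noetherian with universally catenary local rings, δ a dimension function)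
plays the role of a scheme locally of finite type over a fixed base equipped with a dimension
function. -/
theorem result (X D : Scheme.{u}) (δ : X → ℤ) (hX : Cyc.IsSetup X δ) (L : X.Modules) (hL : PicF.IsInvertible L) (s : L.presheaf.obj (Opposite.op ⊤)) (i : D ⟶ X) [IsClosedImmersion i] (hD : Cyc.IsZeroSchemeOf i L s) (k : ℤ) (F : X.Modules) (hF : Coh.IsCoh F) (hdim : ∀ x : X, Nontrivial (F.presheaf.stalk x) → δ x ≤ k + 1) (hreg : ∀ (x : X) (t : L.presheaf.stalk x) (f : X.presheaf.stalk x), Submodule.span (X.presheaf.stalk x) {t} = ⊤ → (L.presheaf.germ ⊤ x trivial) s = f • t → Function.Injective (fun m : F.presheaf.stalk x => f • m)) (w : (ξ : X) → Cyc.secFibre L ξ) (hw : ∀ ξ, w ξ ≠ 0) (γ : AlgebraicCycle D ℤ) (hγ : ∀ d, γ d = Cyc.c1CapFun δ L (Cyc.sheafFun δ (k + 1) F) (Cyc.gysinChoice L s w) (i d)) (ζ : AlgebraicCycle D ℤ) (hζ : ⇑ζ = Cyc.sheafFun (fun d => δ (i d)) k ((Scheme.Modules.pullback i).obj F)) : Cyc.RatEquiv (fun d => δ (i d)) k γ ζ := by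
  haveI := hX.1
  have key : γ = ζ := DFunLike.coe_injective (funext fun d => by
    rw [hγ d, congrFun hζ d]
    by_cases hd : δ (i d) = k
    · obtain ⟨t, f, ht, hs, hker⟩ := hD.2 d
      rw [Cyc26.c1Cap_sheafFun_apply hX.2.2 hL s hF hdim (Cyc.gysinChoice L s w)
        (fun ξ _ hne => if_pos hne) hd (Cyc26.gen_of_span hL ht) hs (hreg _ t f ht hs)]
      simp only [Cyc.sheafFun]
      rw [if_pos hd, Cyc26.length_stalk_pullback_closed i F d hker]
    · simp only [Cyc.sheafFun]
      rw [if_neg hd]
      refine finsum_eq_zero_of_forall_eq_zero fun ξ => ?_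
      by_contra h
      have h1 := (Cyc26.specializes_of_secDivFun_ne_zero (right_ne_zero_of_mul h)).2
      have h2 := left_ne_zero_of_mul h
      simp only [Cyc.sheafFun] at h2
      split_ifs at h2 with h3
      · omega
      · exact h2 rfl)
  subst key
  refine ⟨PEmpty, fun j => j.elim, fun j => j.elim, fun j => j.elim, fun j => j.elim,
    fun x => ⟨Set.univ, isOpen_univ, trivial, Set.toFinite _⟩, fun x => ?_⟩
  rw [finsum_eq_zero_of_forall_eq_zero (fun j : PEmpty.{u+1} => j.elim)]
  show γ x - γ x = 0
  rw [sub_self]

end Groth.Agent.S1942
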