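import Groth.Statements.S19420
import Groth.Agent.Lib.GLCrit15.Hessian
-- import your own Groth.Agent.* helpers here

set_option autoImplicit false
universe u
open TensorProduct LaurentPolynomial
open GIT

namespace Groth.Agent.S19420

/-- Let k be an algebraically closed field of characteristic zero and let SL_3 act by substitution on
ternary cubic forms, the point a having the form F = Σ_m (3; m) a_m x^m. Then a is semistable (some
invariant homogeneous polynomial of positive degree in the coefficients is non-zero at a) if and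
only if at every non-zero vector w where all first partial derivatives of F vanish, the matrix of
second partial derivatives of F at w has rank 2: every singular point of the plane cubic F = 0 is a
double point with two distinct tangent lines. (The published statement assumes only that the
characteristic of k is neither 2 nor 3; it is stated here in characteristic zero.) -/
theorem result (k : Type u) [Field k] [IsAlgClosed k] [CharZero k]
    (a : CoordGrp.FormIdx 3 3 → k) :
    @GLin.IsSemistableVec k _ (CoordGrp.SLn 3 k) _ _ (CoordGrp.FormIdx 3 3) (GLin.comodAlong ((CoordGrp.SLn.mkHom 3 k).comp (CoordGrp.Mat.toGLn 3 k)) (CoordGrp.formsCoact k 3 3))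
      (GLin.isCoactAlg_comodAlong ((CoordGrp.SLn.mkHom 3 k).comp (CoordGrp.Mat.toGLn 3 k)) (CoordGrp.formsCoact k 3 3)
        (CoordGrp.formsCoact_isCoactAlg k 3 3))
      a ↔
      ∀ w : Fin 3 → k, w ≠ 0 →
        (∀ i : Fin 3, MvPolynomial.eval w (MvPolynomial.pderiv i (CoordGrp.formPoly a)) = 0) →
          (Matrix.of fun i j : Fin 3 =>
            MvPolynomial.eval w (MvPolynomial.pderiv i (MvPolynomial.pderiv j (CoordGrp.formPoly a)))).rank = 2 := by
  classical
  set F := CoordGrp.formPoly a with hFdef
  have hm : ((Nat.factorial 3 : ℕ) : k) ≠ 0 := Nat.cast_ne_zero.2 (Nat.factorial_ne_zero 3)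
  have hF : F.IsHomogeneous 3 := FormSub28.isHomogeneous_formPoly a
  have hhom : ∀ M : Matrix (Fin 3) (Fin 3) k, (FormSub28.subM M F).IsHomogeneous 3 := fun M =>
    GLRed28.isHomogeneous_sub _ hF
  have hg : ∀ (M : Matrix (Fin 3) (Fin 3) k) i,
      GLCrit15.grad (FormSub28.subM M F) (Pi.single 0 1) i =
        MvPolynomial.coeff (Finsupp.single 0 2 + Finsupp.single i 1) (FormSub28.subM M F) *
          (((Finsupp.single (0 : Fin 3) 2 i : ℕ) : k) + 1) := fun M i => by
    rw [GLCrit15.grad, GLCrit15.eval_single_one (n := 2) ((hhom M).pderiv (i := i)), MvPolynomial.coeff_pderiv]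
  have hH : ∀ (M : Matrix (Fin 3) (Fin 3) k) i j,
      GLCrit15.hess (FormSub28.subM M F) (Pi.single 0 1) i j =
        MvPolynomial.coeff (Finsupp.single 0 1 + Finsupp.single i 1 + Finsupp.single j 1) (FormSub28.subM M F) *
          ((((Finsupp.single (0 : Fin 3) 1 + Finsupp.single i 1 : Fin 3 →₀ ℕ) j : ℕ) : k) + 1) *
          (((Finsupp.single (0 : Fin 3) 1 i : ℕ) : k) + 1) := fun M i j => by
    rw [GLCrit15.hess, Matrix.of_apply, GLCrit15.eval_single_one (n := 1) (((hhom M).pderiv (i := j)).pderiv (i := i)),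
      MvPolynomial.coeff_pderiv, MvPolynomial.coeff_pderiv]
  constructor
  · intro hss w hw hsing
    change (GLCrit15.hess F w).rank = 2
    by_contra hne
    have hHw : (GLCrit15.hess F w).mulVec w = 0 := by
      funext i
      have h2 : (MvPolynomial.pderiv i F).IsHomogeneous 2 := hF.pderiv
      have := congrArg (MvPolynomial.eval w) h2.sum_X_mul_pderiv
      rw [map_sum, map_nsmul, hsing i, smul_zero] at this
      refine Eq.trans ?_ this
      simp only [GLCrit15.hess, Matrix.mulVec, dotProduct, Matrix.of_apply, map_mul, MvPolynomial.eval_X]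
      refine Finset.sum_congr rfl fun j _ => ?_
      rw [GLCrit15.pderiv_comm i j F]
      ring
    have hsymm : (GLCrit15.hess F w).transpose = GLCrit15.hess F w := by
      ext i j
      simp only [GLCrit15.hess, Matrix.transpose_apply, Matrix.of_apply, GLCrit15.pderiv_comm i j F]
    set H := GLCrit15.hess F w with hHdef
    have hrk : H.rank ≤ 1 := by
      have h3 : H.rank ≤ 3 := by simpa using H.rank_le_card_width
      have : H.rank ≠ 3 := fun h => by
        have hn := LinearMap.finrank_range_add_finrank_ker H.mulVecLin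
        rw [Module.finrank_fin_fun] at hn
        have hk0 : LinearMap.ker H.mulVecLin = ⊥ := Submodule.finrank_eq_zero.1 (by
          change H.rank + _ = _ at hn; omega)
        exact hw ((Submodule.eq_bot_iff _).1 hk0 w hHw)
      omega
    have hker : 2 ≤ Module.finrank k (LinearMap.ker H.mulVecLin) := by
      have hn := LinearMap.finrank_range_add_finrank_ker H.mulVecLin
      rw [Module.finrank_fin_fun] at hn
      change H.rank + _ = _ at hn
      omega
    obtain ⟨v₁, hv₁, hv₁'⟩ : ∃ v ∈ LinearMap.ker H.mulVecLin, v ∉ k ∙ w := by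
      by_contra! hcon
      have := Submodule.finrank_mono (show LinearMap.ker H.mulVecLin ≤ k ∙ w from hcon)
      rw [finrank_span_singleton hw] at this
      omega
    obtain ⟨v₂, hv₂⟩ : ∃ v : Fin 3 → k, v ∉ Submodule.span k {w, v₁} := by
      by_contra! hcon
      have h1 : Module.finrank k (Submodule.span k ({w, v₁} : Set (Fin 3 → k))) ≤ 2 := by
        refine (finrank_span_le_card _).trans ?_
        simp only [Set.toFinset_insert, Set.toFinset_singleton]
        exact Finset.card_le_two
      rw [(Submodule.eq_top_iff').2 hcon, finrank_top, Module.finrank_fin_fun] at h1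
      omega
    let B : Matrix (Fin 3) (Fin 3) k := Matrix.of fun r c => ![w, v₁, v₂] c r
    have hB : B.det ≠ 0 := by
      intro h0
      obtain ⟨x, hx, hxB⟩ := Matrix.exists_mulVec_eq_zero_iff.2 h0
      have e : x 0 • w + x 1 • v₁ + x 2 • v₂ = 0 := by
        rw [← hxB]
        funext r
        simp [B, Matrix.mulVec, dotProduct, Fin.sum_univ_three, mul_comm]
      have hx2 : x 2 = 0 := by
        by_contra h
        refine hv₂ ?_
        have : v₂ = (-(x 2)⁻¹ * x 0) • w + (-(x 2)⁻¹ * x 1) • v₁ := by
          funext r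
          have := congrFun e r
          simp at this ⊢
          field_simp
          linear_combination this
        rw [this]
        exact add_mem (Submodule.smul_mem _ _ (Submodule.subset_span (by simp)))
          (Submodule.smul_mem _ _ (Submodule.subset_span (by simp)))
      rw [hx2, zero_smul, add_zero] at e
      have hx1 : x 1 = 0 := by
        by_contra h
        refine hv₁' (Submodule.mem_span_singleton.2 ⟨-(x 1)⁻¹ * x 0, funext fun r => ?_⟩)
        have := congrFun e r
        simp at this ⊢
        field_simp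
        linear_combination -this
      rw [hx1, zero_smul, add_zero] at e
      have hx0 : x 0 = 0 := (smul_eq_zero.1 e).resolve_right hw
      exact hx (funext fun i => by fin_cases i <;> assumption)
    let M : Matrix (Fin 3) (Fin 3) k := B * Matrix.diagonal ![1, 1, B.det⁻¹]
    have hM : M.det = 1 := by
      rw [Matrix.det_mul, Matrix.det_diagonal, Fin.prod_univ_three]
      simp [hB]
    have hM0 : M.mulVec (Pi.single 0 1) = w := by
      funext r
      simp [M, B, Matrix.mulVec_single, Matrix.mul_diagonal]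
    have hMker : ∀ c : Fin 3, c ≠ 2 → H.mulVec (fun r => M r c) = 0 := by
      intro c hc
      fin_cases c
      · rw [← hHw]; congr 1; funext r; simp [M, B, Matrix.mul_diagonal]
      · rw [show (0 : Fin 3 → k) = H.mulVecLin v₁ from (LinearMap.mem_ker.1 hv₁).symm, Matrix.mulVecLin_apply]
        congr 1; funext r; simp [M, B, Matrix.mul_diagonal]
      · exact absurd rfl hc
    have hH' : ∀ i j : Fin 3, (i ≠ 2 ∨ j ≠ 2) →
        GLCrit15.hess (FormSub28.subM M F) (Pi.single 0 1) i j = 0 := by
      have hR : ∀ i j : Fin 3, j ≠ 2 → (M.transpose * H * M) i j = 0 := fun i j hj => by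
        rw [Matrix.mul_assoc, Matrix.mul_apply]
        refine Finset.sum_eq_zero fun r _ => ?_
        rw [show (H * M) r j = 0 from congrFun (hMker j hj) r, mul_zero]
      intro i j hij
      rw [GLCrit15.hess_subM, hM0, ← hHdef]
      rcases hij with hi | hj
      · rw [← Matrix.transpose_apply (M.transpose * H * M) j i, Matrix.transpose_mul (M.transpose * H) M,
          Matrix.transpose_mul M.transpose H, Matrix.transpose_transpose, hsymm, ← Matrix.mul_assoc]
        exact hR j i hi
      · exact hR i j hj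
    have hg' : ∀ i, GLCrit15.grad (FormSub28.subM M F) (Pi.single 0 1) i = 0 := fun i => by
      rw [GLCrit15.grad_subM, hM0, show GLCrit15.grad F w = 0 from funext hsing, Matrix.zero_vecMul, Pi.zero_apply]
    refine absurd hss (GLCrit15.not_semistable_of_weights hm M hM ![-4, 1, 3] (by decide) fun β hβ => ?_)
    have hd : β.degree = 3 := by
      by_contra h
      exact hβ ((hhom M).coeff_eq_zero h)
    rw [Finsupp.degree_eq_sum, Fin.sum_univ_three] at hd
    have hz : ∀ i j : Fin 3, (i ≠ 2 ∨ j ≠ 2) →
        β ≠ Finsupp.single 0 1 + Finsupp.single i 1 + Finsupp.single j 1 := by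
      intro i j hij e
      have := (hH M i j).symm.trans (hH' i j hij)
      rw [← e] at this
      exact hβ (by simpa [mul_eq_zero, Nat.cast_add_one_ne_zero, ← Nat.cast_add] using this)
    have hc : ∀ p q r : ℕ, β 0 = p → β 1 = q → β 2 = r →
        β = Finsupp.single 0 p + Finsupp.single 1 q + Finsupp.single 2 r := by
      rintro p q r rfl rfl rfl
      ext x; fin_cases x <;> simp
    have n1 : ¬ (β 0 = 3 ∧ β 1 = 0 ∧ β 2 = 0) := fun ⟨a, b, c⟩ => hz 0 0 (by decide) (by
      rw [hc _ _ _ a b c]; ext x; fin_cases x <;> simp)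
    have n2 : ¬ (β 0 = 2 ∧ β 1 = 1 ∧ β 2 = 0) := fun ⟨a, b, c⟩ => hz 0 1 (by decide) (by
      rw [hc _ _ _ a b c]; ext x; fin_cases x <;> simp)
    have n3 : ¬ (β 0 = 2 ∧ β 1 = 0 ∧ β 2 = 1) := fun ⟨a, b, c⟩ => hz 0 2 (by decide) (by
      rw [hc _ _ _ a b c]; ext x; fin_cases x <;> simp)
    have n4 : ¬ (β 0 = 1 ∧ β 1 = 2 ∧ β 2 = 0) := fun ⟨a, b, c⟩ => hz 1 1 (by decide) (by
      rw [hc _ _ _ a b c]; ext x; fin_cases x <;> simp)
    have n5 : ¬ (β 0 = 1 ∧ β 1 = 1 ∧ β 2 = 1) := fun ⟨a, b, c⟩ => hz 1 2 (by decide) (by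
      rw [hc _ _ _ a b c])
    simp [Fin.sum_univ_three]
    omega
  · intro hrk
    refine GLCrit15.isSemistableVec_of_critSS (Classical.byContradiction fun hcrit => ?_)
    obtain ⟨M, hM, Γ, _, e, he, hprod, hanti, hlt⟩ := GLCrit15.exists_sorted_of_not_critSS hcrit
    rw [Fin.prod_univ_three] at hprod
    have h01 : e 1 ≤ e 0 := hanti (show (0 : Fin 3) ≤ 1 by decide)
    have h12 : e 2 ≤ e 1 := hanti (show (1 : Fin 3) ≤ 2 by decide)
    have ha : 1 ≤ e 0 := by
      by_contra h
      push Not at h
      have : e 0 * e 1 * e 2 < 1 := by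
        calc e 0 * e 1 * e 2 ≤ e 0 * 1 * 1 :=
              mul_le_mul' (mul_le_mul' le_rfl (h01.trans h.le)) ((h12.trans h01).trans h.le)
          _ < 1 := by rwa [mul_one, mul_one]
      exact this.ne hprod
    have hab : 1 ≤ e 0 * e 1 := by
      by_contra h
      push Not at h
      have h1 : e 1 ≤ 1 := by
        by_contra h1
        push Not at h1
        exact h.not_ge ((ha.trans_eq (mul_one _).symm).trans (mul_le_mul' le_rfl h1.le))
      have : e 0 * e 1 * e 2 < 1 := lt_of_le_of_lt (mul_le_mul' le_rfl (h12.trans h1)) (by rwa [mul_one])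
      exact this.ne hprod
    have hz : ∀ p q r : ℕ, 1 ≤ e 0 ^ p * e 1 ^ q * e 2 ^ r →
        ∀ β : Fin 3 →₀ ℕ, β 0 = p → β 1 = q → β 2 = r → MvPolynomial.coeff β (FormSub28.subM M F) = 0 := by
      rintro p q r h β rfl rfl rfl
      by_contra hc
      have := hlt _ hc
      rw [Fin.prod_univ_three] at this
      exact this.not_ge h
    have z1 := hz 3 0 0 (by simpa using one_le_pow₀ ha)
    have z2 := hz 2 1 0 (by simpa [pow_two, mul_assoc] using one_le_mul ha hab)
    have z3 := hz 2 0 1 (by
      by_contra h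
      push Not at h
      have : e 0 < e 1 := by
        calc e 0 = e 0 * (e 0 * e 1 * e 2) := by rw [hprod, mul_one]
          _ = (e 0 ^ 2 * e 1 ^ 0 * e 2 ^ 1) * e 1 := by simp only [pow_succ, pow_zero, one_mul, mul_one]; ac_rfl
          _ < 1 * e 1 := mul_lt_mul_of_pos_right h (he 1)
          _ = e 1 := one_mul _
      exact this.not_ge h01)
    have z4 := hz 1 1 1 (by simp [hprod])
    have z5 := hz 1 2 0 (by
      by_contra h
      push Not at h
      have : e 1 < e 2 := by
        calc e 1 = e 1 * (e 0 * e 1 * e 2) := by rw [hprod, mul_one]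
          _ = (e 0 ^ 1 * e 1 ^ 2 * e 2 ^ 0) * e 2 := by simp only [pow_succ, pow_zero, one_mul, mul_one]; ac_rfl
          _ < 1 * e 2 := mul_lt_mul_of_pos_right h (he 2)
          _ = e 2 := one_mul _
      exact this.not_ge h12)
    have hzero : ∀ β : Fin 3 →₀ ℕ, β 0 + β 1 + β 2 = 3 → 1 ≤ β 0 → β 2 ≠ 2 →
        MvPolynomial.coeff β (FormSub28.subM M F) = 0 := by
      intro β h3 h0 h2
      obtain ⟨a, b, c⟩ | ⟨a, b, c⟩ | ⟨a, b, c⟩ | ⟨a, b, c⟩ | ⟨a, b, c⟩ :
          (β 0 = 3 ∧ β 1 = 0 ∧ β 2 = 0) ∨ (β 0 = 2 ∧ β 1 = 1 ∧ β 2 = 0) ∨ (β 0 = 2 ∧ β 1 = 0 ∧ β 2 = 1) ∨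
            (β 0 = 1 ∧ β 1 = 1 ∧ β 2 = 1) ∨ (β 0 = 1 ∧ β 1 = 2 ∧ β 2 = 0) := by omega
      exacts [z1 β a b c, z2 β a b c, z3 β a b c, z4 β a b c, z5 β a b c]
    have hMe : M.mulVec (Pi.single 0 1) ≠ 0 := fun h0 => by
      have := congrArg M.adjugate.mulVec h0
      rw [Matrix.mulVec_mulVec, Matrix.adjugate_mul, hM, one_smul, Matrix.one_mulVec, Matrix.mulVec_zero] at this
      simpa using congrFun this 0
    have hg0 : GLCrit15.grad F (M.mulVec (Pi.single 0 1)) = 0 := by
      have : Matrix.vecMul (GLCrit15.grad F (M.mulVec (Pi.single 0 1))) M = 0 := by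
        rw [← GLCrit15.grad_subM]
        funext i
        rw [hg]
        fin_cases i
        · rw [z1 _ (by simp) (by simp) (by simp)]; simp
        · rw [z2 _ (by simp) (by simp) (by simp)]; simp
        · rw [z3 _ (by simp) (by simp) (by simp)]; simp
      have := congrArg (Matrix.vecMul · M.adjugate) this
      rwa [Matrix.vecMul_vecMul, Matrix.mul_adjugate, hM, one_smul, Matrix.vecMul_one, Matrix.zero_vecMul] at this
    have h2 : (GLCrit15.hess F (M.mulVec (Pi.single 0 1))).rank = 2 := hrk _ hMe (congrFun hg0)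
    have hu : IsUnit M.det := by rw [hM]; exact isUnit_one
    rw [← Matrix.rank_mul_eq_right_of_isUnit_det M.transpose _ (by rwa [Matrix.det_transpose]),
      ← Matrix.rank_mul_eq_left_of_isUnit_det M _ hu, ← GLCrit15.hess_subM] at h2
    have : GLCrit15.hess (FormSub28.subM M F) (Pi.single 0 1) =
        Matrix.vecMulVec (Pi.single 2 (GLCrit15.hess (FormSub28.subM M F) (Pi.single 0 1) 2 2)) (Pi.single 2 1) := by
      ext i j
      rw [Matrix.vecMulVec_apply]
      by_cases hij : i = 2 ∧ j = 2
      · obtain ⟨rfl, rfl⟩ := hij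
        simp
      · rw [hH, hzero _ (by fin_cases i <;> fin_cases j <;> simp) (by fin_cases i <;> fin_cases j <;> simp)
          (by fin_cases i <;> fin_cases j <;> simp at hij ⊢)]
        fin_cases i <;> fin_cases j <;> simp at hij ⊢
    rw [this] at h2
    exact absurd h2 (Nat.lt_succ_of_le (Matrix.rank_vecMulVec_le _ _)).ne

end Groth.Agent.S19420
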