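import Groth.Statements.S19421
import Groth.Agent.Lib.FormHM13.Cubic

set_option autoImplicit false
universe u
open TensorProduct LaurentPolynomial
open GIT

namespace Groth.Agent.S19421

/-- Let k be an algebraically closed field of characteristic zero and let SL_3 act by substitution on
ternary cubic forms, the point a having the form F = Σ_m (3; m) a_m x^m. Then a is stable (its orbit
is closed and its stabiliser finite) if and only if the plane cubic curve F = 0 is smooth: at every
non-zero vector some first partial derivative of F is non-zero. (The published statement assumes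
only that the characteristic of k is neither 2 nor 3; it is stated here in characteristic zero.) -/
theorem result (k : Type u) [Field k] [IsAlgClosed k] [CharZero k]
    (a : CoordGrp.FormIdx 3 3 → k) :
    @GLin.IsStableVec k _ (CoordGrp.SLn 3 k) _ _ (CoordGrp.FormIdx 3 3) (GLin.comodAlong ((CoordGrp.SLn.mkHom 3 k).comp (CoordGrp.Mat.toGLn 3 k)) (CoordGrp.formsCoact k 3 3))
      (GLin.isCoactAlg_comodAlong ((CoordGrp.SLn.mkHom 3 k).comp (CoordGrp.Mat.toGLn 3 k)) (CoordGrp.formsCoact k 3 3)
        (CoordGrp.formsCoact_isCoactAlg k 3 3))
      a ↔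
      ∀ w : Fin 3 → k, w ≠ 0 →
        ∃ i : Fin 3, MvPolynomial.eval w (MvPolynomial.pderiv i (CoordGrp.formPoly a)) ≠ 0 := by
  refine ⟨fun hst w hw => ?_, fun h => Groth.Agent.GLCrit15.isStableVec_of_crit
    (Nat.cast_ne_zero.2 (Nat.factorial_ne_zero 3))
    (Groth.Agent.GLCrit15.crit_of_smooth le_rfl (Groth.Agent.FormSub28.isHomogeneous_formPoly a) h)⟩
  by_contra! hsing
  exact Groth.Agent.FormHM13.not_stable_of_singular hst hw hsing

end Groth.Agent.S19421
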