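import Groth.Statements.S19422
import Groth.Agent.Lib.Comodule.CoactAlg
import Groth.Agent.Lib.Comodule.Laurent

set_option autoImplicit false
universe u
open TensorProduct LaurentPolynomial
open GIT

namespace Groth.Agent.S19422

open TensorProduct LaurentPolynomial

variable {k : Type u} [Field k]
  {ι : Type u} [Fintype ι] [HopfRep.Comod k k[T;T⁻¹] (MvPolynomial ι k)]
  [GLin.IsCoactAlg k k[T;T⁻¹] (MvPolynomial ι k)] {r : ι → ℤ}

omit [HopfRep.Comod k k[T;T⁻¹] (MvPolynomial ι k)] [GLin.IsCoactAlg k k[T;T⁻¹] (MvPolynomial ι k)] in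
lemma prod_T (s : Finset ι) (f : ι → ℤ) : ∏ i ∈ s, (T (f i) : k[T;T⁻¹]) = T (∑ i ∈ s, f i) := by
  classical
  induction s using Finset.induction_on with
  | empty => simp
  | insert i s hi ih => rw [Finset.prod_insert hi, ih, Finset.sum_insert hi, ← T_add]

lemma coact_monomial
    (hr : ∀ i : ι, HopfRep.Comod.coact (k := k) (A := k[T;T⁻¹]) (MvPolynomial.X i : MvPolynomial ι k) =
      (MvPolynomial.X i : MvPolynomial ι k) ⊗ₜ[k] (T (r i) : k[T;T⁻¹])) (n : ι →₀ ℕ) (c : k) :
    HopfRep.Comod.coact (k := k) (A := k[T;T⁻¹]) (MvPolynomial.monomial n c) =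
      MvPolynomial.monomial n c ⊗ₜ[k] (T (∑ i, (n i : ℤ) * r i) : k[T;T⁻¹]) := by
  rw [show MvPolynomial.monomial n c = c • MvPolynomial.monomial n (1 : k) by simp [MvPolynomial.smul_monomial],
    map_smul, ← TensorProduct.smul_tmul']
  congr 1
  have hm : MvPolynomial.monomial n (1 : k) = ∏ i, (MvPolynomial.X i : MvPolynomial ι k) ^ n i := by
    rw [MvPolynomial.monomial_eq, map_one, one_mul, Finsupp.prod_fintype _ _ (fun i => pow_zero _)]
  rw [hm, ← GLin.coactAlgHom_apply, map_prod, ← prod_T Finset.univ fun i => (n i : ℤ) * r i]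
  classical
  have : ∀ s : Finset ι, ∏ i ∈ s, GLin.coactAlgHom k k[T;T⁻¹] (MvPolynomial ι k) (MvPolynomial.X i ^ n i) =
      (∏ i ∈ s, (MvPolynomial.X i : MvPolynomial ι k) ^ n i) ⊗ₜ[k] ∏ i ∈ s, (T ((n i : ℤ) * r i) : k[T;T⁻¹]) := by
    intro s
    induction s using Finset.induction_on with
    | empty => simp [Algebra.TensorProduct.one_def]
    | insert i s hi ih =>
      rw [Finset.prod_insert hi, Finset.prod_insert hi, Finset.prod_insert hi, ih, map_pow,
        GLin.coactAlgHom_apply, hr, Algebra.TensorProduct.tmul_pow, Algebra.TensorProduct.tmul_mul_tmul, T_pow]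
  exact this _

lemma weight_eq_zero_of_invariant
    (hr : ∀ i : ι, HopfRep.Comod.coact (k := k) (A := k[T;T⁻¹]) (MvPolynomial.X i : MvPolynomial ι k) =
      (MvPolynomial.X i : MvPolynomial ι k) ⊗ₜ[k] (T (r i) : k[T;T⁻¹]))
    {F : MvPolynomial ι k} (hF : F ∈ GLin.invariants k k[T;T⁻¹] (MvPolynomial ι k)) {n : ι →₀ ℕ}
    (hn : n ∈ F.support) : ∑ i, (n i : ℤ) * r i = 0 := by
  classical
  by_contra hne
  let Φ : MvPolynomial ι k ⊗[k] k[T;T⁻¹] →ₗ[k] k := (TensorProduct.lid k k).toLinearMap ∘ₗ
    TensorProduct.map (MvPolynomial.lcoeff k n)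
      (Finsupp.lapply 0 ∘ₗ (AddMonoidAlgebra.coeffLinearEquiv k).toLinearMap)
  have hΦ : ∀ (p : MvPolynomial ι k) (f : k[T;T⁻¹]), Φ (p ⊗ₜ f) = p.coeff n * f.coeff 0 := fun p f => rfl
  have e := congrArg Φ ((GLin.mem_invariants_iff k k[T;T⁻¹] _ F).mp hF)
  rw [hΦ, MvPolynomial.as_sum F, map_sum, map_sum, Finset.sum_eq_zero] at e
  · rw [← MvPolynomial.as_sum F] at e
    apply MvPolynomial.mem_support_iff.mp hn
    rw [show ((1 : k[T;T⁻¹]).coeff 0) = 1 by rw [← T_zero, T_apply, if_pos rfl], mul_one] at e
    exact e.symm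
  · intro d _
    rw [coact_monomial hr, hΦ, MvPolynomial.coeff_monomial]
    split_ifs with h
    · subst h; rw [T_apply, if_neg hne, mul_zero]
    · exact zero_mul _


/-- Over an algebraically closed field k, let the multiplicative group, whose coordinate Hopf algebra is
the Laurent polynomial ring, act diagonally on affine ι-space, ι finite: the coaction on the
polynomial ring is multiplicative and sends the coordinate function X_i to X_i ⊗ T^(r_i) for
integers r_i. Then a vector v is semistable (some invariant homogeneous polynomial of positive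
degree does not vanish at v) if and only if there are indices i and j, possibly equal, with v_i ≠ 0,
v_j ≠ 0 and r_i ≤ 0 ≤ r_j, i.e. the origin lies in the convex hull of the weights of v. (Stated for
the ambient projective space on its affine cone; the published statement is for a point of a closed
invariant subvariety, whose semistability is that of the point in the ambient space.) -/
theorem result (k : Type u) [Field k] [IsAlgClosed k]
    (ι : Type u) [Fintype ι] [HopfRep.Comod k k[T;T⁻¹] (MvPolynomial ι k)] [GLin.IsCoactAlg k k[T;T⁻¹] (MvPolynomial ι k)]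
    (r : ι → ℤ)
    (hr : ∀ i : ι, HopfRep.Comod.coact (k := k) (A := k[T;T⁻¹]) (MvPolynomial.X i : MvPolynomial ι k) =
      (MvPolynomial.X i : MvPolynomial ι k) ⊗ₜ[k] (T (r i) : k[T;T⁻¹]))
    (v : ι → k) :
    GLin.IsSemistableVec k k[T;T⁻¹] v ↔ ∃ i j : ι, v i ≠ 0 ∧ v j ≠ 0 ∧ r i ≤ 0 ∧ 0 ≤ r j := by
  classical
  constructor
  · intro hss
    by_contra hno
    push Not at hno
    refine hss fun F hF d hd hhom => ?_
    rw [MvPolynomial.eval_eq]
    refine Finset.sum_eq_zero fun n hn => ?_
    by_contra hne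
    have hp : ∀ i ∈ n.support, v i ≠ 0 := fun i hi h0 => by
      refine hne (mul_eq_zero_of_right _ (Finset.prod_eq_zero hi ?_))
      rw [h0, zero_pow (Finsupp.mem_support_iff.mp hi)]
    have hw := weight_eq_zero_of_invariant hr hF hn
    have hdeg : n.degree = d := by have := hhom (MvPolynomial.mem_support_iff.mp hn); rwa [Finsupp.degree_eq_weight_one]
    obtain ⟨i, hi⟩ : ∃ i, i ∈ n.support := by
      by_contra hem
      push Not at hem
      have : n = 0 := Finsupp.support_eq_empty.mp (Finset.eq_empty_iff_forall_notMem.mpr hem)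
      subst this; simp at hdeg; omega
    rcases le_or_gt (r i) 0 with hri | hri
    · have hneg : ∀ j, v j ≠ 0 → r j < 0 := fun j hj => hno i j (hp i hi) hj hri
      have : ∑ j, (n j : ℤ) * r j < 0 := by
        refine Finset.sum_neg' (fun j _ => ?_) ⟨i, Finset.mem_univ _, ?_⟩
        · by_cases hj : j ∈ n.support
          · exact mul_nonpos_of_nonneg_of_nonpos (by positivity) (hneg j (hp j hj)).le
          · simp [Finsupp.notMem_support_iff.mp hj]
        · exact mul_neg_of_pos_of_neg (by exact_mod_cast Nat.pos_of_ne_zero (Finsupp.mem_support_iff.mp hi)) (hneg i (hp i hi))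
      omega
    · have hpos : ∀ j, v j ≠ 0 → 0 < r j := fun j hj => by
        by_contra h
        have := hno j i hj (hp i hi) (not_lt.mp h)
        omega
      have : 0 < ∑ j, (n j : ℤ) * r j := by
        refine Finset.sum_pos' (fun j _ => ?_) ⟨i, Finset.mem_univ _, ?_⟩
        · by_cases hj : j ∈ n.support
          · exact mul_nonneg (by positivity) (hpos j (hp j hj)).le
          · simp [Finsupp.notMem_support_iff.mp hj]
        · exact mul_pos (by exact_mod_cast Nat.pos_of_ne_zero (Finsupp.mem_support_iff.mp hi)) (hpos i (hp i hi))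
      omega
  · rintro ⟨i, j, hi, hj, hri, hrj⟩ hnull
    obtain ⟨a, b, hab, hw⟩ : ∃ a b : ℕ, 0 < a + b ∧ (a : ℤ) * r i + (b : ℤ) * r j = 0 := by
      by_cases h : r i = 0
      · exact ⟨1, 0, by norm_num, by simp [h]⟩
      · refine ⟨(r j).toNat, (- r i).toNat, by omega, ?_⟩
        rw [Int.toNat_of_nonneg hrj, Int.toNat_of_nonneg (by omega)]; ring
    let n : ι →₀ ℕ := Finsupp.single i a + Finsupp.single j b
    have hinv : MvPolynomial.monomial n (1 : k) ∈ GLin.invariants k k[T;T⁻¹] (MvPolynomial ι k) := by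
      rw [GLin.mem_invariants_iff, coact_monomial hr]
      have : ∑ l, (n l : ℤ) * r l = 0 := by
        simp [n, Finsupp.single_apply, add_mul, Finset.sum_add_distrib, ite_mul, hw]
      rw [this, T_zero]
    have := hnull _ hinv (a + b) hab (MvPolynomial.isHomogeneous_monomial _ (by simp [n, map_add]))
    rw [MvPolynomial.eval_monomial, one_mul] at this
    simp only [n] at this
    rw [Finsupp.prod_add_index' (fun _ => pow_zero _) (fun _ _ _ => pow_add _ _ _),
      Finsupp.prod_single_index (h := fun l e => v l ^ e) (pow_zero _),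
      Finsupp.prod_single_index (h := fun l e => v l ^ e) (pow_zero _)] at this
    exact mul_ne_zero (pow_ne_zero _ hi) (pow_ne_zero _ hj) this

end Groth.Agent.S19422
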