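import Groth.Statements.S19423
import Groth.Agent.Lib.Comodule.CoactAlg
import Groth.Agent.Lib.Comodule.Laurent
import Mathlib.Order.Interval.Finset.Defs
import Mathlib.Data.Int.Interval

set_option autoImplicit false
universe u
open TensorProduct LaurentPolynomial
open GIT

namespace Groth.Agent.S19423

open TensorProduct LaurentPolynomial

variable {k : Type u} [Field k]
  {ι : Type u} [Fintype ι] [HopfRep.Comod k k[T;T⁻¹] (MvPolynomial ι k)]
  [GLin.IsCoactAlg k k[T;T⁻¹] (MvPolynomial ι k)] {r : ι → ℤ}

omit [HopfRep.Comod k k[T;T⁻¹] (MvPolynomial ι k)] [GLin.IsCoactAlg k k[T;T⁻¹] (MvPolynomial ι k)] in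
lemma prod_T (s : Finset ι) (f : ι → ℤ) : ∏ i ∈ s, (T (f i) : k[T;T⁻¹]) = T (∑ i ∈ s, f i) := by
  classical
  induction s using Finset.induction_on with
  | empty => simp
  | insert i s hi ih => rw [Finset.prod_insert hi, ih, Finset.sum_insert hi, ← T_add]

lemma coact_monomial
    (hr : ∀ i : ι, HopfRep.Comod.coact (k := k) (A := k[T;T⁻¹]) (MvPolynomial.X i : MvPolynomial ι k) =
      (MvPolynomial.X i : MvPolynomial ι k) ⊗ₜ[k] (T (r i) : k[T;T⁻¹])) (n : ι →₀ ℕ) (c : k) :
    HopfRep.Comod.coact (k := k) (A := k[T;T⁻¹]) (MvPolynomial.monomial n c) =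
      MvPolynomial.monomial n c ⊗ₜ[k] (T (∑ i, (n i : ℤ) * r i) : k[T;T⁻¹]) := by
  rw [show MvPolynomial.monomial n c = c • MvPolynomial.monomial n (1 : k) by simp [MvPolynomial.smul_monomial],
    map_smul, ← TensorProduct.smul_tmul']
  congr 1
  have hm : MvPolynomial.monomial n (1 : k) = ∏ i, (MvPolynomial.X i : MvPolynomial ι k) ^ n i := by
    rw [MvPolynomial.monomial_eq, map_one, one_mul, Finsupp.prod_fintype _ _ (fun i => pow_zero _)]
  rw [hm, ← GLin.coactAlgHom_apply, map_prod, ← prod_T Finset.univ fun i => (n i : ℤ) * r i]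
  classical
  have : ∀ s : Finset ι, ∏ i ∈ s, GLin.coactAlgHom k k[T;T⁻¹] (MvPolynomial ι k) (MvPolynomial.X i ^ n i) =
      (∏ i ∈ s, (MvPolynomial.X i : MvPolynomial ι k) ^ n i) ⊗ₜ[k] ∏ i ∈ s, (T ((n i : ℤ) * r i) : k[T;T⁻¹]) := by
    intro s
    induction s using Finset.induction_on with
    | empty => simp [Algebra.TensorProduct.one_def]
    | insert i s hi ih =>
      rw [Finset.prod_insert hi, Finset.prod_insert hi, Finset.prod_insert hi, ih, map_pow,
        GLin.coactAlgHom_apply, hr, Algebra.TensorProduct.tmul_pow, Algebra.TensorProduct.tmul_mul_tmul, T_pow]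
  exact this _

lemma orbit_X
    (hr : ∀ i : ι, HopfRep.Comod.coact (k := k) (A := k[T;T⁻¹]) (MvPolynomial.X i : MvPolynomial ι k) =
      (MvPolynomial.X i : MvPolynomial ι k) ⊗ₜ[k] (T (r i) : k[T;T⁻¹])) (v : ι → k) (i : ι) :
    GLin.orbitHom k k[T;T⁻¹] (GLin.vecPt k ι v) (MvPolynomial.X i) = v i • T (r i) := by
  simp [Comodule.orbitHom_apply, hr]

lemma not_finite_laurent : ¬ Module.Finite k k[T;T⁻¹] := by
  intro h
  have : Module.Finite k (Polynomial k) := Module.Finite.of_injective
    (Polynomial.toLaurentAlg (R := k)).toLinearMap Polynomial.toLaurent_injective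
  exact Polynomial.not_finite this


/-- Over an algebraically closed field k, let the multiplicative group, whose coordinate Hopf algebra is
the Laurent polynomial ring, act diagonally on affine ι-space, ι finite: the coaction on the
polynomial ring is multiplicative and sends the coordinate function X_i to X_i ⊗ T^(r_i) for
integers r_i. Then a vector v is stable (the orbit of the point v of affine space is closed and its
stabiliser is a finite group scheme) if and only if there are indices i and j with v_i ≠ 0, v_j ≠ 0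
and r_i < 0 < r_j, i.e. the origin is an interior point of the convex hull of the weights of v.
(Stated for the ambient projective space on its affine cone, where stability means a closed orbit
with finite stabiliser in the cone.) -/
theorem result (k : Type u) [Field k] [IsAlgClosed k]
    (ι : Type u) [Fintype ι] [HopfRep.Comod k k[T;T⁻¹] (MvPolynomial ι k)] [GLin.IsCoactAlg k k[T;T⁻¹] (MvPolynomial ι k)]
    (r : ι → ℤ)
    (hr : ∀ i : ι, HopfRep.Comod.coact (k := k) (A := k[T;T⁻¹]) (MvPolynomial.X i : MvPolynomial ι k) =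
      (MvPolynomial.X i : MvPolynomial ι k) ⊗ₜ[k] (T (r i) : k[T;T⁻¹]))
    (v : ι → k) :
    GLin.IsStableVec k k[T;T⁻¹] v ↔ ∃ i j : ι, v i ≠ 0 ∧ v j ≠ 0 ∧ r i < 0 ∧ 0 < r j := by
  classical
  constructor
  · rintro ⟨hcl, hfin⟩
    by_contra hno
    push Not at hno
    set x := GLin.vecPt k ι v
    obtain ⟨i₀, hi₀, hri₀⟩ : ∃ i, v i ≠ 0 ∧ r i ≠ 0 := by
      by_contra hall
      push Not at hall
      have hI : GLin.stabIdeal k k[T;T⁻¹] x = ⊥ := by
        rw [GLin.stabIdeal, Ideal.map_eq_bot_iff_le_ker]
        intro f hf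
        have e : GLin.orbitHom k k[T;T⁻¹] x = (Algebra.ofId k _).comp x := by
          refine MvPolynomial.algHom_ext fun i => ?_
          rw [orbit_X hr]
          by_cases h : v i = 0
          · simp [x, h]
          · simp [x, hall i h, Algebra.algebraMap_eq_smul_one]
        rw [RingHom.mem_ker] at hf ⊢
        rw [e]; simp [hf]
      rw [GLin.HasFiniteStab, hI] at hfin
      exact not_finite_laurent (Module.Finite.equiv (AlgEquiv.quotientBot k k[T;T⁻¹]).toLinearEquiv)
    let w : ι → k := fun i => if r i = 0 then v i else 0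
    -- all weights on the support have the same sign
    have hsign : (∀ i, v i ≠ 0 → 0 ≤ r i) ∨ (∀ i, v i ≠ 0 → r i ≤ 0) := by
      by_cases h : ∀ i, v i ≠ 0 → 0 ≤ r i
      · exact Or.inl h
      · push Not at h
        obtain ⟨i, hi, hri⟩ := h
        exact Or.inr fun j hj => hno i j hi hj hri
    obtain ⟨ε, hε⟩ : ∃ ε : ℤ, ∀ i, v i ≠ 0 → 0 ≤ ε * r i ∧ (ε = 1 ∨ ε = -1) := by
      rcases hsign with h | h
      · exact ⟨1, fun i hi => ⟨by simpa using h i hi, Or.inl rfl⟩⟩
      · exact ⟨-1, fun i hi => ⟨by simpa using h i hi, Or.inr rfl⟩⟩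
    have hcl' : RingHom.ker (GLin.orbitHom k k[T;T⁻¹] x) ≤ RingHom.ker (GLin.vecPt k ι w) := by
      let q : MvPolynomial ι k →ₐ[k] Polynomial k :=
        MvPolynomial.aeval fun i => Polynomial.C (v i) * Polynomial.X ^ (ε * r i).toNat
      let φ : Polynomial k →ₐ[k] k[T;T⁻¹] := Polynomial.aeval (T ε)
      have hfac : GLin.orbitHom k k[T;T⁻¹] x = φ.comp q := by
        refine MvPolynomial.algHom_ext fun i => ?_
        rw [orbit_X hr]
        simp only [φ, q, AlgHom.comp_apply, MvPolynomial.aeval_X, map_mul, Polynomial.aeval_C, map_pow,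
          Polynomial.aeval_X, T_pow]
        by_cases h : v i = 0
        · simp [h]
        · obtain ⟨h1, h2⟩ := hε i h
          rw [Algebra.smul_def, Int.toNat_of_nonneg h1]
          congr 2
          rcases h2 with rfl | rfl <;> ring
      have hinj : Function.Injective φ := by
        have hε' := (hε i₀ hi₀).2
        rw [injective_iff_map_eq_zero]
        intro p hp
        ext m
        have hc := congrArg (fun f : k[T;T⁻¹] => f.coeff ((m : ℤ) * ε)) hp
        simp only [φ, Polynomial.aeval_eq_sum_range, AddMonoidAlgebra.coeff_sum, Finsupp.finsetSum_apply,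
          AddMonoidAlgebra.coeff_smul, Finsupp.smul_apply, T_pow, LaurentPolynomial.T_apply,
          AddMonoidAlgebra.coeff_zero, Finsupp.coe_zero, Pi.zero_apply] at hc
        rw [Finset.sum_eq_single m] at hc
        · simpa using hc
        · intro l _ hl
          rw [if_neg, smul_zero]
          intro he
          apply hl
          rcases hε' with rfl | rfl <;> omega
        · intro hm
          rw [Finset.mem_range] at hm
          simp [Polynomial.coeff_eq_zero_of_natDegree_lt (show p.natDegree < m by omega)]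
      intro f hf
      rw [RingHom.mem_ker, hfac, AlgHom.comp_apply] at hf
      have hq : q f = 0 := (injective_iff_map_eq_zero φ).mp hinj _ hf
      have hw : GLin.vecPt k ι w = (Polynomial.aeval (0 : k)).comp q := by
        refine MvPolynomial.algHom_ext fun i => ?_
        simp only [q, w, GLin.vecPt, AlgHom.comp_apply, MvPolynomial.aeval_X, map_mul, Polynomial.aeval_C, map_pow,
          Polynomial.aeval_X, Algebra.algebraMap_self, RingHom.id_apply]
        by_cases hv : v i = 0
        · simp [hv]
        · obtain ⟨h1, h2⟩ := hε i hv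
          by_cases h : r i = 0
          · simp [h]
          · rw [if_neg h, zero_pow, mul_zero]
            have : ε * r i ≠ 0 := by rcases h2 with rfl | rfl <;> omega
            omega
      rw [RingHom.mem_ker, hw, AlgHom.comp_apply, hq, map_zero]
    have hmem : (⟨RingHom.ker (GLin.vecPt k ι w), RingHom.ker_isPrime _⟩ : PrimeSpectrum (MvPolynomial ι k)) ∈
        Set.range (PrimeSpectrum.comap (GLin.orbitHom k k[T;T⁻¹] x).toRingHom) := by
      rw [← hcl.closure_eq, PrimeSpectrum.closure_range_comap]
      exact hcl'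
    obtain ⟨P, hP⟩ := hmem
    have hw0 : w i₀ = 0 := if_neg hri₀
    have : GLin.orbitHom k k[T;T⁻¹] x (MvPolynomial.X i₀) ∈ P.asIdeal := by
      have : (MvPolynomial.X i₀ : MvPolynomial ι k) ∈ (PrimeSpectrum.comap (GLin.orbitHom k k[T;T⁻¹] x).toRingHom P).asIdeal := by
        rw [hP, RingHom.mem_ker]; simp [hw0]
      exact this
    rw [orbit_X hr, Algebra.smul_def] at this
    exact P.isPrime.ne_top (P.asIdeal.eq_top_of_isUnit_mem this
      (((isUnit_iff_ne_zero.mpr hi₀).map _).mul (isUnit_T _)))
  · rintro ⟨i, j, hi, hj, hri, hrj⟩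
    set x := GLin.vecPt k ι v
    let φ := GLin.orbitHom k k[T;T⁻¹] x
    have hTi : ∀ l, v l ≠ 0 → (T (r l) : k[T;T⁻¹]) = φ ((v l)⁻¹ • MvPolynomial.X l) := fun l hl => by
      rw [map_smul, orbit_X hr, smul_smul, inv_mul_cancel₀ hl, one_smul]
    have hint : φ.toRingHom.IsIntegral := by
      let B := φ.range
      have hT : ∀ s : ℤ, IsIntegral B (T s : k[T;T⁻¹]) := by
        have key : ∀ (s : ℤ) (N : ℕ), 0 < N → ∀ b : B, (b : k[T;T⁻¹]) = T ((N : ℤ) * s) → IsIntegral B (T s : k[T;T⁻¹]) := by
          intro s N hN b hb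
          refine IsIntegral.of_pow hN ?_
          rw [T_pow, ← hb]
          exact isIntegral_algebraMap (x := b)
        have h1 : IsIntegral B (T 1 : k[T;T⁻¹]) :=
          key 1 (r j).toNat (by omega) ⟨T (r j), _, (hTi j hj).symm⟩ (by simp [Int.toNat_of_nonneg hrj.le])
        have h2 : IsIntegral B (T (-1) : k[T;T⁻¹]) :=
          key (-1) (-r i).toNat (by omega) ⟨T (r i), _, (hTi i hi).symm⟩ (by simp [Int.toNat_of_nonneg (show (0:ℤ) ≤ -r i by omega)])
        intro s
        rcases Int.eq_nat_or_neg s with ⟨n, rfl | rfl⟩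
        · simpa using h1.pow n
        · simpa using h2.pow n
      intro f
      have : IsIntegral B f := by
        induction f using LaurentPolynomial.induction_on' with
        | add p q hp hq => exact hp.add hq
        | C_mul_T n a =>
          refine IsIntegral.mul ?_ (hT n)
          exact isIntegral_algebraMap (x := (⟨C a, MvPolynomial.C a, by simp [φ]⟩ : B))
      obtain ⟨p, hp, hp0⟩ := this
      obtain ⟨q, hq, hdeg, hqm⟩ := Polynomial.lifts_and_degree_eq_and_monic
        (f := φ.rangeRestrict.toRingHom) ((Polynomial.lifts_iff_coeff_lifts p).mpr fun n => φ.rangeRestrict_surjective _) hp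
      refine ⟨q, hqm, ?_⟩
      rw [← hq, Polynomial.eval₂_map] at hp0
      exact hp0
    refine ⟨(PrimeSpectrum.isClosedMap_comap_of_isIntegral _ hint).isClosed_range, ?_⟩
    let I := GLin.stabIdeal k k[T;T⁻¹] x
    let π := Ideal.Quotient.mkₐ k I
    have hone : ∀ l, v l ≠ 0 → π (T (r l)) = 1 := fun l hl => by
      rw [← map_one π, Ideal.Quotient.mkₐ_eq_mk, Ideal.Quotient.eq, hTi l hl, ← map_one φ, ← map_sub]
      refine Ideal.mem_map_of_mem _ ?_
      rw [RingHom.mem_ker]; simp [x, inv_mul_cancel₀ hl]
    let N := (r j).toNat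
    have hT : ∀ s : ℤ, π (T s) = π (T (s % (r j))) := by
      intro s
      conv_lhs => rw [← Int.emod_add_ediv_mul s (r j), T_add, map_mul]
      have : ∀ q : ℤ, π (T (q * r j)) = 1 := by
        intro q
        induction q with
        | zero => simp
        | succ q ih => rw [add_mul, one_mul, T_add, map_mul, ih, hone j hj, one_mul]
        | pred q ih =>
          have : π (T ((-(q:ℤ) - 1) * r j)) * π (T (r j)) = 1 := by
            rw [← map_mul, ← T_add]; convert ih using 3; ring
          rwa [hone j hj, mul_one] at this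
      rw [this, mul_one]
    refine ⟨⟨(Finset.Ico (0:ℤ) (r j)).image fun s => π (T s), eq_top_iff.mpr ?_⟩⟩
    rintro z -
    obtain ⟨f, rfl⟩ := Ideal.Quotient.mkₐ_surjective k I z
    induction f using LaurentPolynomial.induction_on' with
    | add p q hp hq => rw [map_add]; exact add_mem hp hq
    | C_mul_T n a =>
      rw [← LaurentPolynomial.smul_eq_C_mul, map_smul, hT n]
      refine Submodule.smul_mem _ a (Submodule.subset_span ?_)
      simp only [Finset.coe_image, Finset.coe_Ico, Set.mem_image, Set.mem_Ico]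
      exact ⟨n % r j, ⟨Int.emod_nonneg _ hrj.ne', Int.emod_lt_of_pos _ hrj⟩, rfl⟩

end Groth.Agent.S19423
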