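import Groth.Statements.S19426
import Groth.Agent.Lib.StabSemi19.Basic
-- import your own Groth.Agent.* helpers here

set_option autoImplicit false
universe u
open CategoryTheory MonoidalCategory CartesianMonoidalCategory MonObj AlgebraicGeometry Topology
open GIT

namespace Groth.Agent.S19426

set_option linter.style.haveILetI false
set_option backward.isDefEq.respectTransparency.types false


/-- Let k be an algebraically closed field, G an affine group scheme of finite type over k acting on a
k-scheme X locally of finite type, and for a point x of X let G_x denote its stabiliser, the group
scheme over the residue field of x obtained as the fibre of (g, t) ↦ (g · x(t), t) over (x, id).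
Then for every n the set of points x of X with dim G_x ≥ n is closed: the stabiliser dimension is an
upper semicontinuous function on X. (Stated at all points of the scheme X; the published statement
is for the closed points of a variety, and also phrases it through the orbit dimension dim G − dim
G_x, which is not restated here.) -/
theorem result
    (k : Type u) [Field k] [IsAlgClosed k]
    (G X : Over (Spec (CommRingCat.of k))) [GrpObj G] [IsAffine G.left] [LocallyOfFiniteType G.hom]
    [LocallyOfFiniteType X.hom]
    (a : AlgGrp.Action G X) (n : WithBot ℕ∞) :
    IsClosed {x : X.left | n ≤ topologicalKrullDim
      (GLinSh.stab a (Over.homMk (X.left.fromSpecResidueField x) rfl :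
        Over.mk (X.left.fromSpecResidueField x ≫ X.hom) ⟶ X))} := by
  classical
  exact (upperSemicontinuous_iff_isClosed_preimage.1 (StabSemi19.upperSemicontinuous_stab a)) n

end Groth.Agent.S19426
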