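import Groth.Statements.S19427
import Groth.Agent.Lib.MilnorK.Basic

set_option autoImplicit false
universe u
open MilnorK

namespace Groth.Agent.S19427

/-- For a field F and nonzero b, c with b + c ≠ 0, in the Milnor K-group K_2(F) one has {b, c} + {b + c,
-b/c} = 0, that is {b, c} = -{b + c, -b/c} = {b + c, -c/b}. (The identity as displayed in the source
is {b, c} = {b + c, -b/c}, which differs from this by a sign and fails in general: for b = 3, c = 5
over the rationals the tame symbol at 5 takes the values 3 and 1/3 on the two sides; the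
accompanying derivation from the Steinberg relation b/(b+c) + c/(b+c) = 1 gives exactly the identity
stated here.) -/
theorem result (F : Type u) [Field F] (b c : Fˣ)
    (h : (b : F) + (c : F) ≠ 0) :
    (MilK.symbol ![b, c] : MilK.K F 2) + MilK.symbol ![Units.mk0 ((b : F) + (c : F)) h, -(b / c)] = 0 := by
  set s := Units.mk0 ((b : F) + (c : F)) h with hs
  have hbc := MilnorK.cons_cons_of_add (b / s) (c / s)
    (by simp [hs, ← add_div, div_self h]) (MilK.symbol (![] : Fin 0 → Fˣ))
  have e : ∀ p q : Fˣ, MilK.symbol ![p, q] =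
      MilnorK.cons p (MilnorK.cons q (MilK.symbol (![] : Fin 0 → Fˣ))) := fun p q => by
    rw [MilnorK.cons_symbol, MilnorK.cons_symbol]
    rfl
  rw [e, e]
  simp only [div_eq_mul_inv, MilnorK.cons_mul, MilnorK.cons_inv, MilnorK.cons_add, MilnorK.cons_neg] at hbc
  rw [MilnorK.cons_cons_self s, MilnorK.cons_cons_swap b s] at hbc
  rw [show -(b / c) = -1 * (b * c⁻¹) by rw [neg_one_mul, div_eq_mul_inv], MilnorK.cons_mul,
    MilnorK.cons_mul, MilnorK.cons_inv, MilnorK.cons_add, MilnorK.cons_add, MilnorK.cons_neg]
  rw [← hbc]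
  abel
end Groth.Agent.S19427
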