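import Groth.Prelude.Def_Koszul
import Groth.Prelude.Def_DRing2
import Mathlib.RingTheory.Length
import Mathlib.RingTheory.Noetherian.Defs
import Mathlib.RingTheory.LocalRing.MaximalIdeal.Basic
import Mathlib.Topology.Algebra.Order.Field
import Mathlib.Analysis.SpecificLimits.Basic
import Mathlib.Algebra.Ring.NegOnePow
import Mathlib.Algebra.BigOperators.Finprod
import Groth.Agent.Lib.KEuler6.Bridge
import Groth.Agent.Lib.KEuler6.Serre

set_option autoImplicit false
universe u
open CategoryTheory
namespace IntMult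
end IntMult
open IntMult

namespace Groth.Agent.S1943

/-- Let A be a Noetherian local ring, f₁, …, f_r elements generating an ideal of definition I (𝔪^n ⊆ I ⊆
𝔪 for some n) and M a finite A-module. Then r! · length_A(M/I^t M)/t^r tends, as t → ∞, to Σ_i
(−1)^i length_A H^i(K(f₁, …, f_r) ⊗_A M), the Euler characteristic of the Koszul complex tensored
with M (cohomological indexing, degrees −r, …, 0); that is, e_I(M, r) equals that alternating sum.
The Koszul complex is the shared prelude's mapping-cone model. -/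
theorem result (A : Type u) [CommRing A] [IsNoetherianRing A] [IsLocalRing A] (r : ℕ) (f : Fin r → A) (hI : Ideal.span (Set.range f) ≤ IsLocalRing.maximalIdeal A ∧ ∃ n : ℕ, IsLocalRing.maximalIdeal A ^ n ≤ Ideal.span (Set.range f)) (M : Type u) [AddCommGroup M] [Module A M] [Module.Finite A M] : Filter.Tendsto (fun t : ℕ => (r.factorial : ℝ) * ((Module.length A (M ⧸ (Ideal.span (Set.range f) ^ t • (⊤ : Submodule A M)))).toNat : ℝ) / (t : ℝ) ^ r) Filter.atTop (nhds ((∑ᶠ i : ℤ, ((i.negOnePow : ℤˣ) : ℤ) * ((Module.length A ((DRing.tensorCx (Koszul.koszul A (List.ofFn f)) (ModuleCat.of A M)).homology i)).toNat : ℤ) : ℤ) : ℝ)) := by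
  obtain ⟨-, n, hn⟩ := hI
  have hfl : Groth.Agent.KEuler6.FL A M (List.ofFn f) := by
    intro p _ hp
    have hs : Ideal.ofList (List.ofFn f) = Ideal.span (Set.range f) := by
      rw [Ideal.ofList]; congr 1; ext a; simp [List.mem_ofFn]
    rw [hs] at hp
    exact (IsLocalRing.maximalIdeal.isMaximal A).eq_of_le p.isPrime.ne_top
      (p.isPrime.le_of_pow_le (hn.trans hp)) ▸ IsLocalRing.maximalIdeal.isMaximal A
  have hcast := (Int.castAddHom ℝ).map_finsum_of_injective Int.cast_injective (fun i : ℤ => ((i.negOnePow : ℤˣ) : ℤ) *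
    ((Module.length A ((DRing.tensorCx (Koszul.koszul A (List.ofFn f)) (ModuleCat.of A M)).homology i)).toNat : ℤ))
  simp only [Int.coe_castAddHom] at hcast
  rw [Groth.Agent.KEuler6.finsum_eq_chi]
  have hI : Ideal.ofList (List.ofFn f) = Ideal.span (Set.range f) := by
    rw [Ideal.ofList]; congr 1; ext a; simp [List.mem_ofFn]
  have h := (Groth.Agent.KEuler6.tendsto_hs A M hfl).const_mul (r.factorial : ℝ)
  rw [List.length_ofFn, hI, mul_div_cancel₀ _ (Nat.cast_ne_zero.2 r.factorial_ne_zero)] at h
  simp only [← mul_div_assoc] at h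
  exact h

end Groth.Agent.S1943
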