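import Groth.Statements.S19436
import Mathlib
import Groth.Agent.Lib.H2Alg.WeakAss

set_option autoImplicit false
universe u
open CAlg

namespace Groth.Agent.S19436
open TensorProduct

/-- For a Noetherian local commutative algebra R over a field k, with maximal ideal M, and an ideal I of
R whose quotient R/I is finite-dimensional over k of dimension n, the power M^n lies in I. -/
theorem result (k : Type u) [Field k] (R : Type u) [CommRing R]
    [Algebra k R] [IsNoetherianRing R] [IsLocalRing R] (I : Ideal R) [Module.Finite k (R ⧸ I)] (n : ℕ)
    (hn : Module.finrank k (R ⧸ I) = n) : IsLocalRing.maximalIdeal R ^ n ≤ I := by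
  let m := IsLocalRing.maximalIdeal R
  let W : ℕ → Submodule R (R ⧸ I) := fun i => m ^ i • ⊤
  have hanti : ∀ i, W (i + 1) ≤ W i := fun i => Submodule.smul_mono_left (Ideal.pow_le_pow_right (Nat.le_succ i))
  have key : ∀ i, W i = ⊥ ∨ Module.finrank k ((W i).restrictScalars k) + i ≤ n := by
    intro i
    induction i with
    | zero => right; rw [add_zero, ← hn]; exact Submodule.finrank_le _
    | succ i ih =>
      rcases ih with h | h
      · exact Or.inl (eq_bot_iff.2 ((hanti i).trans h.le))
      · by_cases he : W (i + 1) = W i
        · left
          rw [he]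
          refine Submodule.eq_bot_of_le_smul_of_le_jacobson_bot m (W i) (IsNoetherian.noetherian _) ?_ (IsLocalRing.maximalIdeal_le_jacobson _)
          rw [← Submodule.mul_smul, ← pow_succ']; exact he.ge
        · right
          have : Module.finrank k ((W (i + 1)).restrictScalars k) < Module.finrank k ((W i).restrictScalars k) :=
            Submodule.finrank_lt_finrank_of_lt (lt_of_le_of_ne (hanti i) fun h => he (Submodule.restrictScalars_injective k _ _ h))
          omega
  have hb : W n = ⊥ := by
    rcases key n with h | h
    · exact h
    · have : (W n).restrictScalars k = ⊥ := Submodule.finrank_eq_zero.1 (by omega)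
      rwa [Submodule.restrictScalars_eq_bot_iff] at this
  intro x hx
  rw [← Ideal.Quotient.eq_zero_iff_mem]
  have : x • (1 : R ⧸ I) ∈ W n := Submodule.smul_mem_smul hx Submodule.mem_top
  rwa [hb, Submodule.mem_bot, Algebra.smul_def, mul_one] at this

end Groth.Agent.S19436
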