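import Groth.Statements.S19437
import Groth.Agent.Lib.NodeIdeal28.Basic
import Mathlib.LinearAlgebra.FiniteDimensional.Lemmas

set_option autoImplicit false
universe u
open CAlg

namespace Groth.Agent.S19437

/-- Ideals of colength n of the complete local ring of a node. Let k be a field and J an ideal of the
power series ring k[[x,y]] in two variables x, y which contains xy and whose quotient is
finite-dimensional over k of dimension n ≥ 2. Then there are integers a, b ≥ 1 such that either a +
b = n + 1 and J is generated by xy, x^a, y^b, or a + b = n and J is generated by xy and x^a + α y^b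
for some nonzero scalar α. -/
theorem result (k : Type u) [Field k]
    (J : Ideal (MvPowerSeries (Fin 2) k))
    (hxy : (MvPowerSeries.X 0 * MvPowerSeries.X 1 : MvPowerSeries (Fin 2) k) ∈ J)
    [Module.Finite k (MvPowerSeries (Fin 2) k ⧸ J)] (n : ℕ) (hn : Module.finrank k (MvPowerSeries (Fin 2) k ⧸ J) = n)
    (h2 : 2 ≤ n) :
    ∃ a b : ℕ, 1 ≤ a ∧ 1 ≤ b ∧
      ((a + b = n + 1 ∧
        J = Ideal.span {MvPowerSeries.X 0 * MvPowerSeries.X 1, MvPowerSeries.X 0 ^ a, MvPowerSeries.X 1 ^ b}) ∨
       (a + b = n ∧ ∃ α : k, α ≠ 0 ∧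
        J = Ideal.span {MvPowerSeries.X 0 * MvPowerSeries.X 1,
          MvPowerSeries.X 0 ^ a + MvPowerSeries.C α * MvPowerSeries.X 1 ^ b})) := by
  classical
  have hne : J ≠ ⊤ := by
    rintro rfl
    haveI : Subsingleton (MvPowerSeries (Fin 2) k ⧸ (⊤ : Ideal (MvPowerSeries (Fin 2) k))) :=
      Ideal.Quotient.subsingleton_iff.2 rfl
    rw [Module.finrank_zero_of_subsingleton] at hn
    omega
  have hconst : ∀ f ∈ J, MvPowerSeries.constantCoeff f = 0 := fun f hf => by
    by_contra h
    exact hne (Ideal.eq_top_of_isUnit_mem J hf (NodeIdeal28.isUnit_of_const h))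
  have hxpos : ∀ s : Fin 2, ∃ N, (MvPowerSeries.X s : MvPowerSeries (Fin 2) k) ^ N ∈ J := fun s =>
    NodeIdeal28.exists_pow_mem (MvPowerSeries.constantCoeff_X s)
  set a := Nat.find (hxpos 0) with hadef
  set b := Nat.find (hxpos 1) with hbdef
  have hxa := Nat.find_spec (hxpos 0)
  have hyb := Nat.find_spec (hxpos 1)
  rw [← hadef] at hxa
  rw [← hbdef] at hyb
  have hxmin : ∀ i < a, (MvPowerSeries.X 0 : MvPowerSeries (Fin 2) k) ^ i ∉ J := fun i hi => Nat.find_min (hxpos 0) hi
  have hymin : ∀ i < b, (MvPowerSeries.X 1 : MvPowerSeries (Fin 2) k) ^ i ∉ J := fun i hi => Nat.find_min (hxpos 1) hi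
  have ha1 : 1 ≤ a := Nat.one_le_iff_ne_zero.2 fun h => hne (Ideal.eq_top_of_isUnit_mem J hxa (by rw [h, pow_zero]; exact isUnit_one))
  have hb1 : 1 ≤ b := Nat.one_le_iff_ne_zero.2 fun h => hne (Ideal.eq_top_of_isUnit_mem J hyb (by rw [h, pow_zero]; exact isUnit_one))
  have hJ0 : NodeIdeal28.J0 a b ≤ J := Ideal.span_le.2 fun g hg => by
    rcases hg with rfl | rfl | rfl
    exacts [hxy, hxa, hyb]
  have hlow : ∀ f ∈ J, (∀ i, i + 1 < a → MvPowerSeries.coeff (NodeIdeal28.ex i) f = 0) ∧
      (∀ j, j + 1 < b → MvPowerSeries.coeff (NodeIdeal28.ey j) f = 0) := fun f hf =>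
    ⟨fun i hi => NodeIdeal28.coeff_eq_zero_of_mem hxy 0 1 (by simp) hxmin hf i hi,
      fun j hj => NodeIdeal28.coeff_eq_zero_of_mem hxy 1 0 (by simp) hymin hf j hj⟩
  by_cases hcase : J ≤ NodeIdeal28.J0 a b
  · have hJ : J = NodeIdeal28.J0 a b := le_antisymm hcase hJ0
    refine ⟨a, b, ha1, hb1, Or.inl ⟨?_, hJ⟩⟩
    rw [hJ, NodeIdeal28.finrank_quot_J0 ha1 hb1] at hn
    omega
  · obtain ⟨f, hf, hfn⟩ := SetLike.not_le_iff_exists.1 hcase
    set c := MvPowerSeries.coeff (NodeIdeal28.ex (a - 1)) f with hcdef
    set d := MvPowerSeries.coeff (NodeIdeal28.ey (b - 1)) f with hddef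
    set gx : MvPowerSeries (Fin 2) k := MvPowerSeries.X 0 ^ (a - 1) with hgx
    set gy : MvPowerSeries (Fin 2) k := MvPowerSeries.X 1 ^ (b - 1) with hgy
    have h00 : NodeIdeal28.ey 0 = NodeIdeal28.ex 0 := by simp [NodeIdeal28.ex, NodeIdeal28.ey]
    have hexey : ∀ i j, NodeIdeal28.ex i = NodeIdeal28.ey j → i = 0 ∧ j = 0 := fun i j h => by
      have h1 := DFunLike.congr_fun h 0
      have h2 := DFunLike.congr_fun h 1
      simp [NodeIdeal28.ex, NodeIdeal28.ey] at h1 h2
      omega
    have hex0 : ∀ g : MvPowerSeries (Fin 2) k, MvPowerSeries.coeff (NodeIdeal28.ex 0) g = MvPowerSeries.constantCoeff g :=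
      fun g => by simp [NodeIdeal28.ex, MvPowerSeries.coeff_zero_eq_constantCoeff_apply]
    have ha2 : 2 ≤ a ∨ c = 0 := by
      rcases Nat.lt_or_ge a 2 with h | h
      · exact Or.inr (by rw [hcdef, show a - 1 = 0 by omega, hex0]; exact hconst f hf)
      · exact Or.inl h
    have hb2 : 2 ≤ b ∨ d = 0 := by
      rcases Nat.lt_or_ge b 2 with h | h
      · exact Or.inr (by rw [hddef, show b - 1 = 0 by omega, h00, hex0]; exact hconst f hf)
      · exact Or.inl h
    have hdiff : f - (MvPowerSeries.C c * gx + MvPowerSeries.C d * gy) ∈ NodeIdeal28.J0 a b := by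
      have hC : ∀ (e : k) (g : MvPowerSeries (Fin 2) k) m, MvPowerSeries.coeff m (MvPowerSeries.C e * g) = e * MvPowerSeries.coeff m g :=
        fun e g m => MvPowerSeries.coeff_C_mul m g e
      refine NodeIdeal28.mem_J0 _ (fun i hi => ?_) (fun j hj => ?_)
      · rw [map_sub, map_add, hC, hC, hgx, hgy, NodeIdeal28.coeff_X0_pow, NodeIdeal28.coeff_X1_pow]
        have e2 : d * (if NodeIdeal28.ex i = NodeIdeal28.ey (b - 1) then (1 : k) else 0) = 0 := by
          split_ifs with h
          · obtain ⟨-, h2⟩ := hexey _ _ h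
            rcases hb2 with h3 | h3
            · omega
            · rw [h3, zero_mul]
          · rw [mul_zero]
        rw [e2, add_zero]
        by_cases hie : i + 1 < a
        · rw [(hlow f hf).1 i hie, if_neg (fun h => by
            have := DFunLike.congr_fun h 0
            simp [NodeIdeal28.ex] at this
            omega), mul_zero, sub_zero]
        · rw [show i = a - 1 by omega, if_pos rfl, mul_one, hcdef, sub_self]
      · rw [map_sub, map_add, hC, hC, hgx, hgy, NodeIdeal28.coeff_X0_pow, NodeIdeal28.coeff_X1_pow]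
        have e2 : c * (if NodeIdeal28.ey j = NodeIdeal28.ex (a - 1) then (1 : k) else 0) = 0 := by
          split_ifs with h
          · obtain ⟨h2, -⟩ := hexey _ _ h.symm
            rcases ha2 with h3 | h3
            · omega
            · rw [h3, zero_mul]
          · rw [mul_zero]
        rw [e2, zero_add]
        by_cases hje : j + 1 < b
        · rw [(hlow f hf).2 j hje, if_neg (fun h => by
            have := DFunLike.congr_fun h 1
            simp [NodeIdeal28.ey] at this
            omega), mul_zero, sub_zero]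
        · rw [show j = b - 1 by omega, if_pos rfl, mul_one, hddef, sub_self]
    have hgen : MvPowerSeries.C c * gx + MvPowerSeries.C d * gy ∈ J := by
      have := sub_mem hf (hJ0 hdiff)
      rwa [sub_sub_cancel] at this
    have hCu : ∀ e : k, e ≠ 0 → IsUnit (MvPowerSeries.C e : MvPowerSeries (Fin 2) k) := fun e he =>
      (isUnit_iff_ne_zero.2 he).map MvPowerSeries.C
    have hc0 : c ≠ 0 := by
      intro h
      by_cases hd : d = 0
      · rw [h, hd, map_zero, zero_mul, zero_mul, add_zero, sub_zero] at hdiff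
        exact hfn hdiff
      · rw [h, map_zero, zero_mul, zero_add] at hgen
        exact hymin (b - 1) (by omega) ((Ideal.unit_mul_mem_iff_mem J (hCu d hd)).1 hgen)
    have hd0 : d ≠ 0 := by
      intro h
      rw [h, map_zero, zero_mul, add_zero] at hgen
      exact hxmin (a - 1) (by omega) ((Ideal.unit_mul_mem_iff_mem J (hCu c hc0)).1 hgen)
    have ha : 2 ≤ a := ha2.resolve_right hc0
    have hb : 2 ≤ b := hb2.resolve_right hd0
    set α := d / c with hα
    have hα0 : α ≠ 0 := div_ne_zero hd0 hc0
    set gen : MvPowerSeries (Fin 2) k := MvPowerSeries.X 0 ^ (a - 1) + MvPowerSeries.C α * MvPowerSeries.X 1 ^ (b - 1) with hgendef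
    have hgenJ : gen ∈ J := by
      refine (Ideal.unit_mul_mem_iff_mem J (hCu c hc0)).1 ?_
      rwa [hgendef, mul_add, ← mul_assoc (MvPowerSeries.C c), ← map_mul, hα, mul_div_cancel₀ _ hc0, ← hgx, ← hgy]
    set S : Ideal (MvPowerSeries (Fin 2) k) := Ideal.span {MvPowerSeries.X 0 * MvPowerSeries.X 1, gen} with hS
    have h0S : NodeIdeal28.J0 a b ≤ S := by
      have hp : (MvPowerSeries.X 0 * MvPowerSeries.X 1 : MvPowerSeries (Fin 2) k) ∈ S := Ideal.subset_span (by simp)
      have hg : gen ∈ S := Ideal.subset_span (by simp)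
      refine Ideal.span_le.2 fun g hg' => ?_
      rcases hg' with rfl | rfl | rfl
      · exact hp
      · have e : (MvPowerSeries.X 0 : MvPowerSeries (Fin 2) k) ^ a = MvPowerSeries.X 0 * gen -
            MvPowerSeries.C α * MvPowerSeries.X 1 ^ (b - 2) * (MvPowerSeries.X 0 * MvPowerSeries.X 1) := by
          rw [hgendef]
          conv_lhs => rw [show a = a - 1 + 1 by omega, pow_succ]
          rw [show b - 1 = b - 2 + 1 by omega, pow_succ]
          ring
        show _ ∈ S
        rw [e]
        exact sub_mem (Ideal.mul_mem_left _ _ hg) (Ideal.mul_mem_left _ _ hp)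
      · have e : MvPowerSeries.C α * (MvPowerSeries.X 1 : MvPowerSeries (Fin 2) k) ^ b = MvPowerSeries.X 1 * gen -
            MvPowerSeries.X 0 ^ (a - 2) * (MvPowerSeries.X 0 * MvPowerSeries.X 1) := by
          rw [hgendef]
          conv_lhs => rw [show b = b - 1 + 1 by omega, pow_succ]
          rw [show a - 1 = a - 2 + 1 by omega, pow_succ]
          ring
        show _ ∈ S
        refine (Ideal.unit_mul_mem_iff_mem S (hCu α hα0)).1 ?_
        rw [e]
        exact sub_mem (Ideal.mul_mem_left _ _ hg) (Ideal.mul_mem_left _ _ hp)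
    -- each element of `J` is a multiple of `gen` modulo `J0`
    have hmod : ∀ f' ∈ J, f' - MvPowerSeries.C (MvPowerSeries.coeff (NodeIdeal28.ex (a - 1)) f') * gen ∈ NodeIdeal28.J0 a b := by
      intro f' hf'
      set c' := MvPowerSeries.coeff (NodeIdeal28.ex (a - 1)) f' with hc'
      have hr : f' - MvPowerSeries.C c' * gen ∈ J := sub_mem hf' (Ideal.mul_mem_left _ _ hgenJ)
      set r := f' - MvPowerSeries.C c' * gen with hrdef
      have hrc : MvPowerSeries.coeff (NodeIdeal28.ex (a - 1)) r = 0 := by
        rw [hrdef, map_sub, MvPowerSeries.coeff_C_mul, hgendef, map_add, MvPowerSeries.coeff_C_mul,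
          NodeIdeal28.coeff_X0_pow, NodeIdeal28.coeff_X1_pow, if_pos rfl,
          if_neg (fun h => by have := hexey _ _ h; omega), mul_zero, add_zero, mul_one, hc', sub_self]
      have hrx : ∀ i < a, MvPowerSeries.coeff (NodeIdeal28.ex i) r = 0 := fun i hi => by
        by_cases hie : i + 1 < a
        · exact (hlow r hr).1 i hie
        · rw [show i = a - 1 by omega]; exact hrc
      set e := MvPowerSeries.coeff (NodeIdeal28.ey (b - 1)) r with hedef
      have hre : r - MvPowerSeries.C e * gy ∈ NodeIdeal28.J0 a b := by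
        refine NodeIdeal28.mem_J0 _ (fun i hi => ?_) (fun j hj => ?_)
        · rw [map_sub, MvPowerSeries.coeff_C_mul, hgy, NodeIdeal28.coeff_X1_pow,
            if_neg (fun h => by have := hexey _ _ h; omega), mul_zero, sub_zero, hrx i hi]
        · rw [map_sub, MvPowerSeries.coeff_C_mul, hgy, NodeIdeal28.coeff_X1_pow]
          by_cases hje : j + 1 < b
          · rw [(hlow r hr).2 j hje, if_neg (fun h => by
              have := DFunLike.congr_fun h 1
              simp [NodeIdeal28.ey] at this
              omega), mul_zero, sub_zero]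
          · rw [show j = b - 1 by omega, if_pos rfl, mul_one, hedef, sub_self]
      by_cases he : e = 0
      · rwa [he, map_zero, zero_mul, sub_zero] at hre
      · have h' := sub_mem hr (hJ0 hre)
        rw [sub_sub_cancel] at h'
        exact absurd ((Ideal.unit_mul_mem_iff_mem J (hCu e he)).1 h') (hymin (b - 1) (by omega))
    have hJS : J = S := by
      refine le_antisymm (fun f' hf' => ?_) (Ideal.span_le.2 fun g hg => ?_)
      · have h' := add_mem (h0S (hmod f' hf')) (Ideal.mul_mem_left S
          (MvPowerSeries.C (MvPowerSeries.coeff (NodeIdeal28.ex (a - 1)) f')) (Ideal.subset_span (by simp : gen ∈ _)))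
        rwa [sub_add_cancel] at h'
      · rcases hg with rfl | rfl
        exacts [hxy, hgenJ]
    refine ⟨a - 1, b - 1, by omega, by omega, Or.inr ⟨?_, α, hα0, hJS⟩⟩
    -- the colength
    set φ := NodeIdeal28.phi (k := k) a b
    set W : Submodule k ((Fin a → k) × (Fin (b - 1) → k)) := k ∙ φ gen with hW
    have hgen0 : φ gen ≠ 0 := fun h => by
      have : MvPowerSeries.coeff (NodeIdeal28.ex (a - 1)) gen = 0 := congrFun (Prod.ext_iff.1 h).1 ⟨a - 1, by omega⟩
      rw [hgendef, map_add, MvPowerSeries.coeff_C_mul, NodeIdeal28.coeff_X0_pow, NodeIdeal28.coeff_X1_pow,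
        if_pos rfl, if_neg (fun h => by have := hexey _ _ h; omega), mul_zero, add_zero] at this
      exact one_ne_zero this
    have hker : LinearMap.ker (W.mkQ ∘ₗ φ) = J.restrictScalars k := by
      ext f'
      rw [LinearMap.mem_ker, LinearMap.comp_apply, Submodule.mkQ_apply, Submodule.Quotient.mk_eq_zero, hW,
        Submodule.mem_span_singleton, Submodule.restrictScalars_mem]
      constructor
      · rintro ⟨e, he⟩
        have h0 : f' - e • gen ∈ NodeIdeal28.J0 a b := by
          rw [← Submodule.restrictScalars_mem k, ← NodeIdeal28.ker_phi ha1 hb1, LinearMap.mem_ker, map_sub, map_smul,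
            ← he, sub_self]
        have := add_mem (hJ0 h0) (Submodule.smul_of_tower_mem J e hgenJ)
        rwa [sub_add_cancel] at this
      · intro hf'
        refine ⟨MvPowerSeries.coeff (NodeIdeal28.ex (a - 1)) f', ?_⟩
        have h0 := hmod f' hf'
        rw [← Submodule.restrictScalars_mem k, ← NodeIdeal28.ker_phi ha1 hb1, LinearMap.mem_ker, map_sub,
          sub_eq_zero, ← MvPowerSeries.smul_eq_C_mul, map_smul] at h0
        exact h0.symm
    have h3 := NodeIdeal28.finrank_quot_of_ker J (W.mkQ ∘ₗ φ) hker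
      (W.mkQ_surjective.comp (NodeIdeal28.phi_surjective a b))
    have h4 := W.finrank_quotient_add_finrank
    rw [hW, finrank_span_singleton hgen0, Module.finrank_prod, Module.finrank_fin_fun, Module.finrank_fin_fun,
      ← hW, ← h3, hn] at h4
    omega

end Groth.Agent.S19437
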