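import Groth.Statements.S19438
import Mathlib
import Groth.Agent.Lib.CI2.TameLinear

set_option autoImplicit false
universe u
open CAlg

namespace Groth.Agent.S19438
open scoped TensorProduct

open IsLocalRing

/-- First assertion: let A be a Noetherian local commutative algebra over a field k with maximal ideal
M, residue field k (the map from k to A/M is onto) and embedding dimension dim M/M^2 at least 2, and
let I be a proper ideal with A/I finite-dimensional over k. If A/I is generated as a k-algebra by
one element, then some element of I does not lie in M^2; that is, the finite closed subscheme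
defined by I lies on a smooth hypersurface germ (it is curvilinear). (The published statement is for
the local ring of a smooth surface at a closed point; only a Noetherian local algebra with residue
field k and embedding dimension at least 2 is assumed here, which is what the published argument
uses.) -/
theorem result (k : Type u) [Field k]
    (A : Type u) [CommRing A] [Algebra k A] [IsNoetherianRing A] [IsLocalRing A]
    (hres : Function.Surjective (algebraMap k (IsLocalRing.ResidueField A)))
    (hemb : 2 ≤ Module.finrank (IsLocalRing.ResidueField A) (IsLocalRing.CotangentSpace A))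
    (I : Ideal A) (hI : I ≠ ⊤) [Module.Finite k (A ⧸ I)]
    (f : A ⧸ I) (hf : Algebra.adjoin k {f} = ⊤) :
    ∃ g ∈ I, g ∉ IsLocalRing.maximalIdeal A ^ 2 := by
  by_contra! hsub
  obtain ⟨a, rfl⟩ := Ideal.Quotient.mk_surjective f
  obtain ⟨c, hc⟩ := hres (residue A a)
  set t := a - algebraMap k A c with ht
  have htm : t ∈ maximalIdeal A := by
    rw [← residue_eq_zero_iff, ht, map_sub, sub_eq_zero, ← hc]; rfl
  have key : ∀ x ∈ maximalIdeal A, ∃ r, x - r * t ∈ I := by
    intro x hx
    have h1 : Ideal.Quotient.mk I x ∈ Algebra.adjoin k {Ideal.Quotient.mk I a} := hf ▸ trivial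
    rw [Algebra.adjoin_singleton_eq_range_aeval] at h1
    obtain ⟨p, hp⟩ := h1
    let q := p.comp (Polynomial.X + Polynomial.C c)
    have hq : x - Polynomial.aeval t q ∈ I := by
      rw [← Ideal.Quotient.eq]
      refine hp.symm.trans ?_
      show Polynomial.aeval (Ideal.Quotient.mk I a) p = _
      rw [show (Polynomial.aeval (Ideal.Quotient.mk I a)) p =
        Ideal.Quotient.mkₐ k I (Polynomial.aeval a p) from Polynomial.aeval_algHom_apply (Ideal.Quotient.mkₐ k I) a p]
      simp [q, Polynomial.aeval_comp, ht, Ideal.Quotient.mkₐ_eq_mk]
    obtain ⟨s, hs⟩ : Polynomial.X ∣ q - Polynomial.C (q.coeff 0) := Polynomial.X_dvd_iff.2 (by simp)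
    have hd : Polynomial.aeval t q = algebraMap k A (q.coeff 0) + t * Polynomial.aeval t s := by
      rw [sub_eq_iff_eq_add.1 hs]; simp; ring
    refine ⟨Polynomial.aeval t s, ?_⟩
    have h0 : algebraMap k A (q.coeff 0) ∈ maximalIdeal A := by
      have := sub_mem (sub_mem hx (le_maximalIdeal hI hq)) (Ideal.mul_mem_right (Polynomial.aeval t s) _ htm)
      rw [hd] at this
      convert this using 1
      ring
    have hc0 : q.coeff 0 = 0 := by
      by_contra hne
      exact (mem_maximalIdeal _).1 h0 ((isUnit_iff_ne_zero.2 hne).map _)
    rw [hc0, map_zero, zero_add] at hd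
    rwa [mul_comm, ← hd]
  let τ : CotangentSpace A := (maximalIdeal A).toCotangent ⟨t, htm⟩
  have hspan : Submodule.span (ResidueField A) {τ} = ⊤ := by
    rw [eq_top_iff]
    intro z _
    obtain ⟨⟨x, hx⟩, rfl⟩ := (maximalIdeal A).toCotangent_surjective z
    obtain ⟨r, hr⟩ := key x hx
    refine Submodule.mem_span_singleton.2 ⟨residue A r, ?_⟩
    show r • τ = _
    rw [← map_smul]
    refine ((maximalIdeal A).toCotangent_eq).2 ?_
    show r * t - x ∈ _
    rw [← neg_sub, neg_mem_iff]
    exact hsub _ hr
  have := finrank_le_one τ fun z => Submodule.mem_span_singleton.1 (hspan ▸ Submodule.mem_top : z ∈ Submodule.span _ {τ})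
  omega

end Groth.Agent.S19438
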