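import Groth.Statements.S19439
import Mathlib
import Groth.Agent.Lib.CI2.TameLinear

set_option autoImplicit false
universe u
open CAlg

namespace Groth.Agent.S19439
open scoped TensorProduct

open MvPolynomial

/-- Affine form: for all n and N there is an integer d, that depends only on n and N, such that for
every algebraically closed field k and every ideal I of the polynomial ring in N variables over k
whose quotient has finite dimension n over k, the polynomials of total degree at most d map onto the
quotient. -/
theorem result (n N : ℕ) :
    ∃ d : ℕ, ∀ (k : Type u) [Field k] [IsAlgClosed k] (I : Ideal (MvPolynomial (Fin N) k))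
      [Module.Finite k (MvPolynomial (Fin N) k ⧸ I)],
      Module.finrank k (MvPolynomial (Fin N) k ⧸ I) = n →
      Submodule.map (Ideal.Quotient.mkₐ k I).toLinearMap (MvPolynomial.restrictTotalDegree (Fin N) k d) = ⊤ := by
  refine ⟨n, fun k _ _ I _ hn => ?_⟩
  let W : ℕ → Submodule k (MvPolynomial (Fin N) k ⧸ I) := fun d =>
    (restrictTotalDegree (Fin N) k d).map (Ideal.Quotient.mkₐ k I).toLinearMap
  have hmono : ∀ d, W d ≤ W (d + 1) := fun d => Submodule.map_mono fun p hp => by
    rw [mem_restrictTotalDegree] at hp ⊢; omega
  have hstab : ∀ d, W (d + 1) ≤ W d → W d = ⊤ := by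
    intro d hd
    rw [eq_top_iff]
    intro z _
    obtain ⟨p, rfl⟩ := Ideal.Quotient.mk_surjective z
    induction p using MvPolynomial.induction_on with
    | C a => exact ⟨C a, by simp [mem_restrictTotalDegree], rfl⟩
    | add a b ha hb => rw [map_add]; exact add_mem (ha trivial) (hb trivial)
    | mul_X a i ha =>
      obtain ⟨b, hb, hba⟩ := ha trivial
      refine hd ⟨b * X i, ?_, ?_⟩
      · rw [SetLike.mem_coe, mem_restrictTotalDegree] at hb ⊢
        refine (totalDegree_mul _ _).trans (Nat.add_le_add hb ?_)
        rcases subsingleton_or_nontrivial k with hk | hk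
        · simp [Subsingleton.elim (X i : MvPolynomial (Fin N) k) 0]
        · rw [totalDegree_X]
      · show Ideal.Quotient.mk I (b * X i) = _
        rw [map_mul, map_mul]
        exact congrArg (· * Ideal.Quotient.mk I (X i)) hba
  have hgrow : ∀ d, W d = ⊤ ∨ d + 1 ≤ Module.finrank k (W d) := by
    intro d
    induction d with
    | zero =>
      rcases subsingleton_or_nontrivial (MvPolynomial (Fin N) k ⧸ I) with h | h
      · exact Or.inl (Subsingleton.elim _ _)
      · refine Or.inr ?_
        rw [Nat.one_le_iff_ne_zero, Ne, Submodule.finrank_eq_zero, Submodule.eq_bot_iff]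
        intro h0
        exact one_ne_zero (h0 1 ⟨1, by simp [mem_restrictTotalDegree], map_one (Ideal.Quotient.mk I)⟩)
    | succ d ih =>
      by_cases htop : W d = ⊤
      · exact Or.inl (top_le_iff.1 (htop ▸ hmono d))
      · refine Or.inr ?_
        have := Submodule.finrank_lt_finrank_of_lt (lt_of_le_not_ge (hmono d) fun h => htop (hstab d h))
        have := ih.resolve_left htop
        omega
  rcases hgrow n with h | h
  · exact h
  · have := Submodule.finrank_le (W n)
    omega

end Groth.Agent.S19439
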