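import Groth.Statements.S19441
import Groth.Agent.Lib.PunctHilb18.Main

set_option autoImplicit false
universe u
open CategoryTheory CategoryTheory.Limits AlgebraicGeometry
open HilbD

namespace Groth.Agent.S19441

/-- Let k be an algebraically closed field and R a local commutative k-algebra, finite-dimensional over
k. For every n, if (H, Z) represents the Hilbert functor of n points of Spec R over Spec k (Z a
closed subscheme of Spec R ×_k H finite locally free of degree n over H, every such family over a
k-scheme T being the pullback of Z along a unique k-morphism T → H), then H — the punctual Hilbert
scheme of ideals of colength n of R — has preconnected underlying space (connected when non-empty). -/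
theorem result (k : Type u) [Field k] [IsAlgClosed k]
    (R : Type u) [CommRing R] [Algebra k R] [IsLocalRing R] [Module.Finite k R] (n : ℕ)
    (H : Over (Spec (CommRingCat.of k)))
    (Z : HilbD.Obj (Spec.map (CommRingCat.ofHom (algebraMap k R))) n H)
    (hH : HilbD.IsUniversal (Spec.map (CommRingCat.ofHom (algebraMap k R))) n H Z) :
    PreconnectedSpace H.left :=
  Groth.Agent.PunctHilb18.preconnectedSpace_hilb k R Z hH

end Groth.Agent.S19441
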