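import Groth.Statements.S19442
import Groth.Agent.Lib.HilbSm18.Dim
import Groth.Agent.Lib.FinAffine12.Proj
import Groth.Agent.Lib.ProjSpace.BaseChange
import Groth.Agent.Lib.ProjSpace.Basic
-- import your own Groth.Agent.* helpers here

set_option autoImplicit false
universe u
open CategoryTheory CategoryTheory.Limits AlgebraicGeometry
open HilbD

namespace Groth.Agent.S19442

/-- Let k be an algebraically closed field and X a smooth connected quasi-projective surface over k —
the structure morphism X → Spec k is smooth and factors as a quasi-compact immersion into a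
projective space over k, and X is connected of dimension 2. Let n ≥ 0 and let (H, Z) represent the
Hilbert functor of n points of X over k: Z is a closed subscheme of X ×_k H finite locally free of
degree n over H and every such family over a k-scheme T is the pullback of Z along a unique
k-morphism T → H. Then H is connected, every local ring of H is regular, and the dimension of H is
2n. -/
theorem result (k : Type u) [Field k]
    [IsAlgClosed k] (X : Over (Spec (CommRingCat.of k))) [Smooth X.hom]
    (hqp : RelProj.IsHQuasiProjective X.hom) [ConnectedSpace X.left] (hdim : topologicalKrullDim X.left = 2)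
    (n : ℕ) (H : Over (Spec (CommRingCat.of k))) (Z : HilbD.Obj X.hom n H)
    (hH : HilbD.IsUniversal X.hom n H Z) :
    ConnectedSpace H.left ∧ (∀ h : H.left, IsRegularLocalRing (H.left.presheaf.stalk h)) ∧
      topologicalKrullDim H.left = (2 * n : ℕ) := by
  obtain ⟨r, i, hi, hq, hw⟩ := hqp
  haveI := hi
  haveI := hq
  haveI : IsSeparated X.hom := hw ▸ inferInstance
  haveI : QuasiCompact X.hom := hw ▸ inferInstance
  obtain ⟨-, hd⟩ := Groth.Agent.HilbSm18.irreducible_and_dim X.hom (d := 2) hdim
  obtain ⟨h1, h2, -, h4⟩ := Groth.Agent.HilbSm18.hilb_surface X.hom (fun y hy => (hd y hy).trans (by norm_num))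
    (Groth.Agent.FinAffine12.exists_affineOpen_of_finite_proj (CohB1.polyGrading r k)
      (i ≫ (Groth.Agent.ProjSpace.overSpecIso r k).inv))
    (Groth.Agent.HilbSm18.exists_closed_notMem X.hom hdim) hH
  exact ⟨h1, h2, h4⟩


end Groth.Agent.S19442
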