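import Groth.Statements.S19443
import Mathlib.Order.Bounds.Defs
import Mathlib.Tactic
import Mathlib.LinearAlgebra.Dual.Lemmas
import Mathlib.LinearAlgebra.BilinearForm.Properties
import Mathlib.RepresentationTheory.Invariants
import Mathlib.LinearAlgebra.Matrix.GeneralLinearGroup.Defs
import Mathlib.GroupTheory.FiniteAbelian.Basic
import Mathlib.Topology.Algebra.ClopenNhdofOne

set_option autoImplicit false
universe u
open LinAlg

namespace Groth.Agent.S19443

/-- Algebraic form: let G be a finite group with order invertible in the field k, ρ a linear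
representation of G on a k-vector space V, and ω a nondegenerate bilinear form on V invariant under
G. Then ω restricted to the fixed subspace V^G is nondegenerate (for a finite group of symplectic
automorphisms, the fixed subspace is a symplectic subspace). -/
theorem result (k : Type u) [Field k]
    (G : Type u) [Group G] [Finite G] (hG : (Nat.card G : k) ≠ 0)
    (V : Type u) [AddCommGroup V] [Module k V] (ρ : Representation k G V)
    (ω : LinearMap.BilinForm k V) (hω : ω.Nondegenerate)
    (hinv : ∀ (g : G) (v w : V), ω (ρ g v) (ρ g w) = ω v w) :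
    (ω.restrict ρ.invariants).Nondegenerate := by
  have := Fintype.ofFinite G
  have avg : ∀ w : V, (∑ g : G, ρ g w) ∈ ρ.invariants := by
    intro w h
    rw [map_sum]
    exact Fintype.sum_equiv (Equiv.mulLeft h) _ _ (fun g => by simp)
  rw [Nat.card_eq_fintype_card] at hG
  constructor
  · intro v hv
    apply Subtype.ext
    apply hω.1
    intro w
    have h1 : ω (v : V) (∑ g : G, ρ g w) = 0 := hv ⟨_, avg w⟩
    rw [map_sum] at h1
    have h3 : ∀ g, ω (v:V) (ρ g w) = ω (v : V) w := fun g => by
      have := hinv g v w; rwa [v.2 g] at this
    simp only [h3, Finset.sum_const, Finset.card_univ, nsmul_eq_mul] at h1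
    exact (mul_eq_zero.1 h1).resolve_left hG
  · intro v hv
    apply Subtype.ext
    apply hω.2
    intro w
    have h1 : ω (∑ g : G, ρ g w) (v : V) = 0 := hv ⟨_, avg w⟩
    rw [map_sum, LinearMap.sum_apply] at h1
    have h3 : ∀ g, ω (ρ g w) (v:V) = ω w (v : V) := fun g => by
      have := hinv g w v; rwa [v.2 g] at this
    simp only [h3, Finset.sum_const, Finset.card_univ, nsmul_eq_mul] at h1
    exact (mul_eq_zero.1 h1).resolve_left hG

end Groth.Agent.S19443
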