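import Groth.Statements.S19444
import Groth.Agent.Lib.SymTenH28.Polar
import Groth.Prelude.Def_PolLaw2
import Mathlib.RingTheory.Norm.Basic

set_option autoImplicit false
universe u
open SymTen

namespace Groth.Agent.S19444
open scoped TensorProduct

/-- Linearised norm: let A be a commutative ring in which n! is invertible and R a commutative
A-algebra, free of rank n as an A-module. There is a unique A-algebra homomorphism from the
symmetric tensors TS^n_A(R) to A taking r ⊗ ⋯ ⊗ r to the norm of r for every r in R. (The published
corollary is stated for any free algebra of rank n; the construction printed for it divides by n!,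
and n! invertible is assumed here.) -/
theorem result (A : Type u) [CommRing A] (R : Type u) [CommRing R]
    [Algebra A R] [Module.Free A R] [Module.Finite A R] (n : ℕ) (hn : Module.finrank A R = n)
    (hfact : IsUnit ((Nat.factorial n : ℕ) : A)) :
    ∃! φ : SymTen.TS A R n →ₐ[A] A, ∀ r : R, φ (SymTen.tpow A R n r) = Algebra.norm A r := by
  classical
  obtain ⟨f, hf, -⟩ := Groth.Agent.GammaD.isGammaD_tau_of_isUnit A R n hfact A (PolLaw.normLaw A R n hn)
  have hval : ∀ r : R, f (SymTen.tpow A R n r) = Algebra.norm A r := by
    intro r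
    have h1 := congrFun (congrFun (congrFun (congrFun (congrArg PolynomialLaw.toFun' hf) A) _) _) ((1 : A) ⊗ₜ[A] r)
    have h2 := Groth.Agent.GammaD.tau_val A R n A ((1 : A) ⊗ₜ[A] r)
    have h3 : (Groth.Agent.GammaD.tau A R n).law.toFun' A ((1 : A) ⊗ₜ[A] r)
        = (1 : A) ⊗ₜ[A] SymTen.tpow A R n r := by
      apply (TensorProduct.lid A (SymTen.TS A R n)).injective
      rw [TensorProduct.lid_tmul, one_smul]
      apply Subtype.ext
      have e : ∀ u : A ⊗[A] (SymTen.TS A R n), ((TensorProduct.lid A _ u : SymTen.TS A R n) : ⨂[A] _ : Fin n, R)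
          = TensorProduct.lid A _ ((SymTen.TS A R n).val.toLinearMap.lTensor A u) := by
        intro u
        induction u using TensorProduct.induction_on with
        | zero => simp
        | tmul a b => simp
        | add a b ha hb => simp [ha, hb]
      rw [e, h2]
      have : Groth.Agent.GammaD.tl A R n A ((1 : A) ⊗ₜ[A] r) = (1 : A) ⊗ₜ[A] PiTensorProduct.tprod A (fun _ : Fin n => r) := by
        have := Groth.Agent.GammaD.tl_sum (A := A) (P := R) (d := n) A ({()} : Finset Unit) (fun _ => (1 : A)) (fun _ => r)
        simpa using this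
      rw [this, TensorProduct.lid_tmul, one_smul]
      rfl
    change f.toLinearMap.lTensor A _ = _ at h1
    rw [h3, PolLaw.normLaw_apply, LinearMap.lTensor_tmul] at h1
    have h4 := congrArg (TensorProduct.lid A A) h1
    rw [TensorProduct.lid_tmul, TensorProduct.lid_tmul, one_smul, smul_eq_mul, mul_one, AlgHom.toLinearMap_apply] at h4
    rw [h4, ← Algebra.norm_eq_of_algEquiv (Algebra.TensorProduct.lid A R).symm r]
    rfl
  refine ⟨f, hval, fun g hg => AlgHom.ext fun y => ?_⟩
  obtain ⟨c, hc⟩ := Finsupp.mem_span_range_iff_exists_finsupp.1 (Groth.Agent.SymTenH28.TS_le_span hfact y)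
  have hy : y = c.sum fun b a => a • SymTen.tpow A R n b := by
    apply Subtype.ext
    rw [← hc]
    simp only [Finsupp.sum, AddSubmonoidClass.coe_finsetSum]
    rfl
  rw [hy, Finsupp.sum, map_sum, map_sum]
  exact Finset.sum_congr rfl fun b _ => by rw [map_smul, map_smul, hg, hval]

end Groth.Agent.S19444
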