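import Groth.Statements.S19445
import Mathlib

set_option autoImplicit false
universe u
open CAlg

namespace Groth.Agent.S19445
open IsLocalRing

/-- Local form: let k be a field and A a regular local k-algebra with maximal ideal M and residue field
k (k maps onto A/M); let a finite group G whose order is invertible in k act on A by k-algebra
automorphisms. Then A/J is a regular local ring, where J is the ideal generated by the elements g·a
− a (J defines the fixed-point subscheme, so the fixed locus of G is smooth at the point). The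
accompanying identification of its tangent space with the G-invariants of the tangent space of A is
not restated here. -/
theorem result (k : Type u) [Field k] (A : Type u) [CommRing A]
    [Algebra k A] [IsRegularLocalRing A]
    (hres : Function.Surjective (algebraMap k (IsLocalRing.ResidueField A)))
    (G : Type u) [Group G] [Finite G] [MulSemiringAction G A] [SMulCommClass G k A]
    (hG : (Nat.card G : k) ≠ 0) :
    IsRegularLocalRing (A ⧸ Ideal.span {x : A | ∃ (g : G) (a : A), x = g • a - a}) := by
  classical
  haveI := Fintype.ofFinite G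
  set m := maximalIdeal A
  set J := Ideal.span {x : A | ∃ (g : G) (a : A), x = g • a - a}
  have hgm : ∀ (g : G) (z : A), z ∈ m → g • z ∈ m := by
    intro g z hz
    rw [mem_maximalIdeal, mem_nonunits_iff] at hz ⊢
    intro hu
    apply hz
    simpa using hu.map (MulSemiringAction.toRingHom G A g⁻¹)
  have hgen : ∀ (g : G) (a : A), g • a - a ∈ J := fun g a => Ideal.subset_span ⟨g, a, rfl⟩
  have hgk : ∀ (g : G) (c : k), g • (algebraMap k A c) = algebraMap k A c := fun g c => by
    rw [Algebra.algebraMap_eq_smul_one, smul_comm, smul_one]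
  have hJm : J ≤ m := by
    refine Ideal.span_le.2 ?_
    rintro _ ⟨g, a, rfl⟩
    obtain ⟨c, hc⟩ := hres (residue A a)
    have hac : a - algebraMap k A c ∈ m := by
      rw [← residue_eq_zero_iff, map_sub, ← hc]
      exact sub_self _
    have : g • a - a = g • (a - algebraMap k A c) - (a - algebraMap k A c) := by
      rw [smul_sub, hgk]; abel
    rw [SetLike.mem_coe, this]
    exact m.sub_mem (hgm g _ hac) hac
  have hk : ∀ (I : Ideal A) (c : k) (z : A), z ∈ I → c • z ∈ I := fun I c z hz => by
    rw [Algebra.smul_def]; exact I.mul_mem_left _ hz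
  -- the Reynolds operator
  let c₀ : k := ((Fintype.card G : k))⁻¹
  have hc₀ : c₀ * (Fintype.card G : k) = 1 := inv_mul_cancel₀ (by rwa [← Nat.card_eq_fintype_card])
  let e : A →ₗ[k] A :=
    { toFun := fun z => c₀ • ∑ g : G, g • z
      map_add' := fun z w => by simp only [smul_add, Finset.sum_add_distrib]
      map_smul' := fun r z => by
        simp only [RingHom.id_apply]
        rw [smul_comm r c₀, Finset.smul_sum (r := r)]
        exact congrArg (c₀ • ·) (Finset.sum_congr rfl fun g _ => smul_comm g r z) }
  have hefix : ∀ z, (∀ g : G, g • z = z) → e z = z := fun z hz => by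
    show c₀ • ∑ g : G, g • z = z
    rw [Finset.sum_congr rfl fun g _ => hz g, Finset.sum_const, Finset.card_univ,
      ← Nat.cast_smul_eq_nsmul k, smul_smul, hc₀, one_smul]
  have hge : ∀ (g : G) (z : A), g • e z = e z := fun g z => by
    show g • (c₀ • ∑ h : G, h • z) = c₀ • ∑ h : G, h • z
    rw [smul_comm, Finset.smul_sum]
    refine congrArg (c₀ • ·) (Fintype.sum_equiv (Equiv.mulLeft g) _ _ fun h => ?_)
    rw [smul_smul]; rfl
  have hee : ∀ z, e (z - e z) = 0 := fun z => by rw [map_sub, hefix (e z) fun g => hge g z, sub_self]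
  have hem : ∀ z ∈ m, e z ∈ m := fun z hz => hk m _ _ (m.sum_mem fun g _ => hgm g z hz)
  have hsub : ∀ z : A, z - e z = c₀ • ∑ g : G, (z - g • z) := fun z => by
    rw [Finset.sum_sub_distrib, smul_sub, Finset.sum_const, Finset.card_univ, ← Nat.cast_smul_eq_nsmul k,
      smul_smul, hc₀, one_smul]
    rfl
  have hsq : ∀ z ∈ m ^ 2, z - e z ∈ m * J := by
    intro z hz
    rw [hsub]
    refine hk _ _ _ (Submodule.sum_mem _ fun g _ => ?_)
    rw [pow_two] at hz
    induction hz using Submodule.mul_induction_on' with
    | mem_mul_mem u hu v hv =>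
      have : u * v - g • (u * v) = -((g • v) * (g • u - u) + u * (g • v - v)) := by
        rw [smul_mul']; ring
      rw [this]
      exact neg_mem (add_mem (Ideal.mul_mem_mul (hgm g v hv) (hgen g u)) (Ideal.mul_mem_mul hu (hgen g v)))
    | add x _ y _ hx hy =>
      have : x + y - g • (x + y) = (x - g • x) + (y - g • y) := by rw [smul_add]; abel
      rw [this]
      exact add_mem hx hy
  -- a minimal set of generators of fixed and of averaged-zero elements
  let P : Set m := {z | (∀ g : G, g • (z : A) = z) ∨ e (z : A) = 0}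
  have hspanP : Submodule.span (ResidueField A) (m.toCotangent '' P) = ⊤ := by
    rw [CotangentSpace.span_image_eq_top_iff, eq_top_iff]
    rintro ⟨z, hz⟩ -
    have : (⟨z, hz⟩ : m) = ⟨e z, hem z hz⟩ + ⟨z - e z, m.sub_mem hz (hem z hz)⟩ :=
      Subtype.ext (add_sub_cancel _ _).symm
    rw [this]
    exact add_mem (Submodule.subset_span (Or.inl fun g => hge g z)) (Submodule.subset_span (Or.inr (hee z)))
  obtain ⟨b, hbP, hbspan, hbli⟩ := exists_linearIndependent (ResidueField A) (m.toCotangent '' P)
  rw [hspanP] at hbspan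
  haveI : Fintype b := hbli.setFinite.fintype
  choose p hpP hp using fun i : b => hbP i.2
  let Bb : Module.Basis b (ResidueField A) (CotangentSpace A) :=
    Module.Basis.mk hbli (by rw [Subtype.range_coe]; exact hbspan.ge)
  have hd : (maximalIdeal A).spanFinrank = Fintype.card b := by
    rw [spanFinrank_maximalIdeal_eq_finrank_cotangentSpace, Module.finrank_eq_card_basis Bb]
  let S : Finset A := (Finset.univ.filter fun i : b => e (p i : A) = 0).image fun i => (p i : A)
  let T : Finset A := (Finset.univ.filter fun i : b => ¬ e (p i : A) = 0).image fun i => (p i : A)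
  have hST : S.card + T.card ≤ Fintype.card b := by
    refine (add_le_add Finset.card_image_le Finset.card_image_le).trans ?_
    rw [Finset.card_filter_add_card_filter_not, Finset.card_univ]
  have hSJ : ∀ s ∈ S, s ∈ J := by
    intro s hs
    obtain ⟨i, hi, rfl⟩ := Finset.mem_image.1 hs
    have h := hsub (p i : A)
    rw [(Finset.mem_filter.1 hi).2, sub_zero] at h
    rw [h]
    exact hk _ _ _ (J.sum_mem fun g _ => by
      rw [← neg_sub]; exact J.neg_mem (hgen g _))
  have hexp : ∀ z ∈ m, ∃ (c : b → k), z - ∑ i, c i • (p i : A) ∈ m ^ 2 := by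
    intro z hz
    choose l hl using fun i => hres (Bb.repr (m.toCotangent ⟨z, hz⟩) i)
    refine ⟨l, ?_⟩
    have hsum : m.toCotangent (⟨∑ i, l i • (p i : A), m.sum_mem fun i _ => hk m _ _ (p i).2⟩ : m) =
        m.toCotangent ⟨z, hz⟩ := by
      have h1 : (⟨∑ i, l i • (p i : A), m.sum_mem fun i _ => hk m _ _ (p i).2⟩ : m) =
          ∑ i, (algebraMap k A (l i)) • p i := by
        apply Subtype.ext
        simp [Algebra.smul_def]
      rw [h1, map_sum]
      conv_rhs => rw [← Bb.sum_repr (m.toCotangent ⟨z, hz⟩)]
      refine Finset.sum_congr rfl fun i _ => ?_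
      rw [map_smul, hp, Module.Basis.mk_apply, ← hl i, IsScalarTower.algebraMap_apply k A (ResidueField A),
        algebraMap_smul (ResidueField A) (algebraMap k A (l i)), algebraMap_smul A (l i)]
    exact Ideal.toCotangent_eq _ |>.1 hsum.symm
  have hJle : J ≤ Ideal.span (S : Set A) := by
    refine Submodule.le_of_le_smul_of_le_jacobson_bot (IsNoetherian.noetherian J)
      (IsLocalRing.jacobson_eq_maximalIdeal (⊥ : Ideal A) bot_ne_top).ge ?_
    refine Ideal.span_le.2 ?_
    rintro _ ⟨g, a, rfl⟩
    have hz : g • a - a ∈ m := hJm (hgen g a)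
    have hez : e (g • a - a) = 0 := by
      rw [map_sub, sub_eq_zero]
      show c₀ • ∑ h : G, h • (g • a) = c₀ • ∑ h : G, h • a
      exact congrArg (c₀ • ·) (Fintype.sum_equiv (Equiv.mulRight g) _ _ fun h => by rw [smul_smul]; rfl)
    set z := g • a - a
    obtain ⟨c, hc⟩ := hexp z hz
    set q := z - ∑ i, c i • (p i : A) with hq
    have key : z = ∑ i, c i • ((p i : A) - e (p i : A)) + (q - e q) := by
      rw [hq, map_sub, map_sum, hez]
      simp only [map_smul, smul_sub, Finset.sum_sub_distrib]
      abel
    rw [key]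
    refine Submodule.add_mem_sup (Submodule.sum_mem _ fun i _ => hk _ _ _ ?_) ?_
    · by_cases he0 : e (p i : A) = 0
      · rw [he0, sub_zero]
        exact Ideal.subset_span (Finset.mem_image.2 ⟨i, Finset.mem_filter.2 ⟨Finset.mem_univ _, he0⟩, rfl⟩)
      · rw [hefix _ ((hpP i).resolve_right he0), sub_self]
        exact Ideal.zero_mem _
    · exact hsq q hc
  have hJ : J = Ideal.span (S : Set A) := le_antisymm hJle (Ideal.span_le.2 hSJ)
  haveI : Nontrivial (A ⧸ J) := Ideal.Quotient.nontrivial_iff.2 (ne_top_of_le_ne_top (maximalIdeal.isMaximal A).ne_top hJm)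
  haveI : IsLocalRing (A ⧸ J) := IsLocalRing.of_surjective' (Ideal.Quotient.mk J) Ideal.Quotient.mk_surjective
  apply IsRegularLocalRing.of_spanFinrank_maximalIdeal_le
  have hmT : maximalIdeal (A ⧸ J) = Ideal.span ((T.image (Ideal.Quotient.mk J) : Finset (A ⧸ J)) : Set (A ⧸ J)) := by
    rw [← IsLocalRing.map_maximalIdeal_of_surjective (Ideal.Quotient.mk J) Ideal.Quotient.mk_surjective]
    apply le_antisymm
    · have hgen' : Submodule.span A (Set.range p) = ⊤ := by
        rw [← CotangentSpace.span_image_eq_top_iff, ← Set.range_comp, show m.toCotangent ∘ p = Subtype.val from funext hp,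
          Subtype.range_coe]
        exact hbspan
      have hle : m ≤ Ideal.span ((S : Set A) ∪ T) := by
        intro z hz
        have h1 : z ∈ (Submodule.span A (Set.range p)).map m.subtype := ⟨⟨z, hz⟩, hgen' ▸ trivial, rfl⟩
        rw [Submodule.map_span] at h1
        refine Submodule.span_mono ?_ h1
        rintro _ ⟨_, ⟨i, rfl⟩, rfl⟩
        by_cases he0 : e (p i : A) = 0
        · exact Or.inl (Finset.mem_image.2 ⟨i, Finset.mem_filter.2 ⟨Finset.mem_univ _, he0⟩, rfl⟩)
        · exact Or.inr (Finset.mem_image.2 ⟨i, Finset.mem_filter.2 ⟨Finset.mem_univ _, he0⟩, rfl⟩)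
      refine (Ideal.map_mono hle).trans ?_
      rw [Ideal.map_span, Set.image_union, Ideal.span_union, ← Ideal.map_span, ← hJ, Ideal.map_quotient_self,
        bot_sup_eq, Finset.coe_image]
      exact le_of_eq (by simp [T])
    · rw [Ideal.span_le, Finset.coe_image]
      rintro _ ⟨t, ht, rfl⟩
      obtain ⟨i, -, rfl⟩ := Finset.mem_image.1 ht
      exact Ideal.mem_map_of_mem _ (p i).2
  have hT : ((maximalIdeal (A ⧸ J)).spanFinrank : WithBot ℕ∞) ≤ (T.card : ℕ) := by
    rw [hmT]
    have := Submodule.spanFinrank_span_le_ncard_of_finite (R := A ⧸ J) (T.image (Ideal.Quotient.mk J)).finite_toSet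
    rw [Set.ncard_coe_finset] at this
    exact_mod_cast this.trans Finset.card_image_le
  refine hT.trans ?_
  have h1 := ringKrullDim_le_ringKrullDim_quotient_add_card (R := A) S
    (fun s hs => by
      rw [ringJacobson_eq_maximalIdeal]; exact hJm (hSJ s hs))
  rw [← hJ, ← (isRegularLocalRing_iff A).1 inferInstance, hd] at h1
  have h2 : ((S.card + T.card : ℕ) : WithBot ℕ∞) ≤ ringKrullDim (A ⧸ J) + S.card :=
    le_trans (by exact_mod_cast hST) h1
  revert h2
  generalize ringKrullDim (A ⧸ J) = x
  intro h2
  cases x with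
  | bot => simp at h2
  | coe x =>
    cases x with
    | top => simp
    | coe x =>
      have h2' : S.card + T.card ≤ x + S.card := by exact_mod_cast h2
      exact_mod_cast (by omega : T.card ≤ x)

end Groth.Agent.S19445
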