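import Groth.Statements.S19446
import Groth.Agent.Lib.NegDef10.Basic
import Groth.Agent.S15544

set_option autoImplicit false
set_option maxHeartbeats 1000000
set_option linter.style.haveILetI false
set_option backward.isDefEq.respectTransparency false
set_option backward.isDefEq.respectTransparency.types false
universe u
open CategoryTheory CategoryTheory.Limits AlgebraicGeometry
open Resolve

namespace Groth.Agent.S19446

open TopologicalSpace
open Groth.Agent.NegDef10

theorem isNormalScheme_spec (R : Type u) [CommRing R] [IsDomain R] [IsIntegrallyClosed R] :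
    Pi1.IsNormalScheme (Spec (CommRingCat.of R)) := fun p => by
  letI : Algebra R ((Spec (CommRingCat.of R)).presheaf.stalk p) :=
    StructureSheaf.stalkAlgebra (R := R) (p : PrimeSpectrum R)
  have hle : (p : PrimeSpectrum R).asIdeal.primeCompl ≤ nonZeroDivisors R :=
    (p : PrimeSpectrum R).asIdeal.primeCompl_le_nonZeroDivisors
  haveI : IsLocalization.AtPrime ((Spec (CommRingCat.of R)).presheaf.stalk p) (p : PrimeSpectrum R).asIdeal :=
    StructureSheaf.IsLocalization.to_stalk R p
  haveI := IsLocalization.isDomain_of_le_nonZeroDivisors (R := R)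
    ((Spec (CommRingCat.of R)).presheaf.stalk p) hle
  exact ⟨inferInstance, isIntegrallyClosed_of_isLocalization
    ((Spec (CommRingCat.of R)).presheaf.stalk p) (p : PrimeSpectrum R).asIdeal.primeCompl hle⟩


/-- Let R be a Noetherian normal local domain of dimension 2 with residue field κ and π : Y → Spec R a
proper morphism from an integral scheme with regular local rings which is an isomorphism over the
complement of the closed point (a resolution of the surface singularity). Let E_1, …, E_r be
pairwise distinct integral closed subschemes of Y of dimension one, each mapping to the closed point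
(given with its structure morphism to Spec κ), which together cover the fibre over the closed point,
and for each j let L_j be an O_Y-module with L_j ⊗ I_{E_j} ≅ O_Y, i.e. L_j = O_Y(E_j). With a_ij the
degree over κ of the restriction of L_j to E_i (the intersection number E_i·E_j), the quadratic form
Σ x_i x_j a_ij is negative for every nonzero integer vector x: the intersection matrix of the
exceptional curves is negative definite. -/
theorem result (R : Type u) [CommRing R] [IsDomain R]
    [IsNoetherianRing R] [IsLocalRing R] [IsIntegrallyClosed R] (hdimR : ringKrullDim R = 2)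
    (Y : Scheme.{u}) (π : Y ⟶ Spec (CommRingCat.of R)) [IsProper π] [IsIntegral Y]
    (hreg : ∀ y : Y, IsRegularLocalRing (Y.presheaf.stalk y))
    (U : (Spec (CommRingCat.of R)).Opens)
    (hU : ∀ p : Spec (CommRingCat.of R), p ∈ U ↔ p ≠ IsLocalRing.closedPoint R) (hbir : IsIso (π ∣_ U))
    (r : ℕ) (E : Fin r → Scheme.{u}) (e : ∀ i, E i ⟶ Y) [∀ i, IsClosedImmersion (e i)]
    [∀ i, IsIntegral (E i)] (hE : ∀ i, topologicalKrullDim (E i) = 1)
    (s : ∀ i, E i ⟶ Spec (CommRingCat.of (IsLocalRing.ResidueField R)))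
    (hs : ∀ i, e i ≫ π = s i ≫ Spec.map (CommRingCat.ofHom (IsLocalRing.residue R)))
    (hdist : ∀ i j, i ≠ j → Set.range (e i).base ≠ Set.range (e j).base)
    (hcov : ∀ y : Y, π.base y ∉ U → ∃ i, y ∈ Set.range (e i).base)
    (L : Fin r → Y.Modules) (hL : ∀ j, ClSub.IsInverseOf (L j) (ClSub.idealMod (e j).ker))
    (x : Fin r → ℤ) (hx : x ≠ 0) :
    ∑ i, ∑ j, x i * x j *
      @Curv2.deg (IsLocalRing.ResidueField R) _ (E i) ⟨s i⟩ ((Scheme.Modules.pullback (e i)).obj (L j)) 1 < 0 := by
  classical
  by_contra hge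
  rw [not_lt] at hge
  have hE1 : ∀ i, topologicalKrullDim (E i) ≤ 1 := fun i => (hE i).le
  letI : Y.Over (Spec (CommRingCat.of R)) := ⟨π⟩
  letI : ∀ i, (E i).Over (Spec (CommRingCat.of (IsLocalRing.ResidueField R))) := fun i => ⟨s i⟩
  haveI : IsClosedImmersion (Spec.map (CommRingCat.ofHom (IsLocalRing.residue R))) :=
    IsClosedImmersion.spec_of_surjective _ IsLocalRing.residue_surjective
  haveI hprop : ∀ i, IsProper (E i ↘ Spec (CommRingCat.of (IsLocalRing.ResidueField R))) := fun i => by
    show IsProper (s i)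
    haveI : IsProper (s i ≫ Spec.map (CommRingCat.ofHom (IsLocalRing.residue R))) := by
      rw [← hs i]; infer_instance
    exact IsProper.of_comp (s i) (Spec.map (CommRingCat.ofHom (IsLocalRing.residue R)))
  haveI : IsLocallyNoetherian Y := LocallyOfFiniteType.isLocallyNoetherian π
  haveI : CompactSpace Y := QuasiCompact.compactSpace_of_compactSpace π
  haveI : IsNoetherian Y := {}
  let S' := Spec (CommRingCat.of R)
  let η : S' := genericPoint S'
  have hclosed : ∀ i (c : E i), π.base ((e i).base c) = IsLocalRing.closedPoint R := fun i c => by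
    show π (e i c) = _
    rw [← Scheme.Hom.comp_apply, hs i, Scheme.Hom.comp_apply]
    apply PrimeSpectrum.ext
    show Ideal.comap (IsLocalRing.residue R) (s i c).asIdeal = IsLocalRing.maximalIdeal R
    haveI := (s i c).isPrime
    rw [(Ideal.eq_bot_or_top (s i c).asIdeal).resolve_right
      (Ideal.IsPrime.ne_top inferInstance), ← RingHom.ker_eq_comap_bot, IsLocalRing.ker_residue]
  -- an element of the maximal ideal and a prime of height one containing it
  obtain ⟨t, htm, ht⟩ : ∃ t ∈ IsLocalRing.maximalIdeal R, t ≠ 0 := by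
    by_contra h
    push Not at h
    have h0 : IsLocalRing.maximalIdeal R = ⊥ := (Submodule.eq_bot_iff _).2 h
    rw [← IsLocalRing.maximalIdeal_height_eq_ringKrullDim, h0, Ideal.height_bot] at hdimR
    exact absurd hdimR (by decide)
  obtain ⟨p, hp, -⟩ := Ideal.exists_minimalPrimes_le
    ((Ideal.span_singleton_le_iff_mem _).2 htm : Ideal.span {t} ≤ IsLocalRing.maximalIdeal R)
  haveI := hp.1.1
  have hpne : p ≠ IsLocalRing.maximalIdeal R := by
    intro h
    have h1 := Ideal.height_le_one_of_isPrincipal_of_mem_minimalPrimes _ _ hp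
    rw [h] at h1
    have h2 := IsLocalRing.maximalIdeal_height_eq_ringKrullDim (R := R)
    rw [hdimR] at h2
    have h3 : (IsLocalRing.maximalIdeal R).height = 2 := WithBot.coe_injective h2
    rw [h3] at h1
    exact absurd h1 (by decide)
  let P : S' := ⟨p, inferInstance⟩
  have hPc : P ≠ IsLocalRing.closedPoint R := fun h => hpne (congrArg PrimeSpectrum.asIdeal h)
  have hPU : P ∈ U := (hU P).2 hPc
  have hηU : η ∈ U := ((genericPoint_spec S').mem_open_set_iff U.isOpen).mpr ⟨P, trivial, hPU⟩
  haveI := hbir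
  obtain ⟨z₀, hz₀⟩ := (π ∣_ U).homeomorph.surjective ⟨P, hPU⟩
  obtain ⟨g₀, hg₀⟩ := (π ∣_ U).homeomorph.surjective ⟨η, hηU⟩
  have hz₀' : π z₀.1 = P := (morphismRestrict_base_coe π U z₀).symm.trans (congrArg Subtype.val hz₀)
  have hg₀' : π g₀.1 = η := (morphismRestrict_base_coe π U g₀).symm.trans (congrArg Subtype.val hg₀)
  have hgen : π (genericPoint Y) = η :=
    ((hg₀' ▸ (genericPoint_specializes g₀.1).map π.continuous : π (genericPoint Y) ⤳ η).antisymm
      (genericPoint_specializes _)).eq
  have hgY : genericPoint Y ∈ π ⁻¹ᵁ U := by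
    show π (genericPoint Y) ∈ U
    rw [hgen]; exact hηU
  haveI : IsIso (π.stalkMap (genericPoint Y)) := by
    have h1 : IsIso ((π ∣_ U).stalkMap ⟨genericPoint Y, hgY⟩) := inferInstance
    exact ((MorphismProperty.isomorphisms CommRingCat.{u}).arrow_mk_iso_iff
      (morphismRestrictStalkMap π U ⟨genericPoint Y, hgY⟩)).1 h1
  -- the divisor of `t`
  have hE := fun i => (by
    obtain ⟨ei⟩ := hL i
    exact SecDiv.isEffCartierIdeal_of_isInvertible _
      (M2.isInvertible_of_tensor_iso_unit _ (L i) (M2.tensorComm _ _ ≪≫ ei)) : BlowUp.IsEffCartierIdeal (e i).ker)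
  have hZ := isEffCartier_divI π hgen t ht
  let F : Set Y := π ⁻¹' {IsLocalRing.closedPoint R}
  have hnd : ∀ i (J : Y.IdealSheafData), divI π t ≤ J → J ≤ (e i).ker → J * (e i).ker ≠ J := by
    intro i J hJ _ he
    obtain ⟨y, hyJ, -, hmax⟩ := SecDiv.exists_maximal_of_colon_eq (hE i) he
      ((coe_support_ker (e i)).ge ⟨genericPoint (E i), rfl⟩)
    obtain ⟨w, hw, hne⟩ := SecDiv.exists_proper_generisation hZ (Scheme.IdealSheafData.support_antitone hJ hyJ)
    exact hne (hmax w hw)
  obtain ⟨a, Q, hdec, -, hno⟩ := SecDiv.exists_peel (fun i => (e i).ker) hE (divI π t) hnd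
  rw [Finsupp.prod_fintype _ _ fun i => pow_zero _] at hdec
  have hQ : BlowUp.IsEffCartierIdeal Q := EffCartier.isEffCartierIdeal_of_mul_right (hdec ▸ hZ)
  have hnoQ : ∀ i, e i (genericPoint (E i)) ∉ (Q.support : Set Y) := fun i h => hno i (le_ker_of_mem (e i) h)
  have hnm : ∀ i j, i ≠ j → e i (genericPoint (E i)) ∉ ((e j).ker.support : Set Y) := fun i j h => by
    rw [coe_support_ker]
    exact notMem_range (e i) (e j) (hE i) (hE j) (hdist i j h)
  have ha : ∀ i, 0 < a i := fun i => by
    by_contra h0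
    have hm : e i (genericPoint (E i)) ∈ (divI π t).support := by
      rw [mem_support_divI]
      have := hclosed i (genericPoint (E i))
      exact this ▸ htm
    rw [hdec, Scheme.IdealSheafData.support_mul] at hm
    rcases hm with hm | hm
    · obtain ⟨q, -, hq0, hq⟩ := support_finsetProd _ _ _ hm
      have hne : i ≠ q := by
        rintro rfl
        exact h0 (Nat.pos_of_ne_zero hq0)
      exact hnm i q hne hq
    · exact hnoQ i hm
  -- the intersection matrix
  let k := IsLocalRing.ResidueField R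
  let n : Fin r → Fin r → ℤ := fun q p => Curv2.deg k (E p) ((Scheme.Modules.pullback (e p)).obj (L q)) 1
  have hn : ∀ p q, n q p = -ideg k (e p) (e q).ker := fun p q => deg_inverse (e p) (hE1 p) (hE q) (hL q)
  have hlen : ∀ p q, p ≠ q → (n q p).toNat = (Module.length R (Coh.HH Y (ClSub.quotMod ((e q).ker ⊔ (e p).ker)) 0)).toNat ∧
      0 ≤ n q p ∧ (n q p = 0 → Disjoint (Set.range (e p)) (Set.range (e q))) := fun p q h => by
    rw [hn p q, ideg_eq_neg_finrank (e p) (hE1 p) (hE q) (hnm p q h), neg_neg]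
    refine ⟨?_, Nat.cast_nonneg _, fun h0 => ?_⟩
    · rw [Int.toNat_natCast, ← length_eq_finrank (R := R) (hE1 p) (e p) (hs p) (e q).ker, ENat.toNat_coe]
    · rw [← coe_support_ker (e q)]
      exact (finrank_eq_zero_iff (e p) (hE1 p) _).1 (by exact_mod_cast h0)
  let w : Fin r → ℚ := fun p => (a p : ℚ)
  let N : Fin r → Fin r → ℚ := fun q p => (n q p : ℚ)
  have hw : ∀ p, 0 < w p := fun p => Nat.cast_pos.mpr (ha p)
  have hoff : ∀ p q, p ≠ q → 0 ≤ N q p := fun p q h => Int.cast_nonneg (hlen p q h).2.1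
  have hsymm : ∀ p q, N p q = N q p := fun p q => by
    rcases eq_or_ne p q with rfl | h
    · rfl
    · have h1 := (hlen p q h).1
      have h2 := (hlen q p h.symm).1
      rw [sup_comm] at h2
      exact congrArg (fun z : ℤ => (z : ℚ)) (by
        have h3 := (hlen p q h).2.1; have h4 := (hlen q p h.symm).2.1; omega : n p q = n q p)
  obtain ⟨eZ⟩ := nonempty_idealMod_divI π hgen t ht
  have hrow : ∀ p, ∑ q, (a q : ℤ) * n q p = ideg k (e p) Q := fun p => by
    have h0 := ideg_eq_zero_of_iso (k := k) (e p) eZ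
    rw [hdec, ideg_mul (e p) (hE1 p) (isEffCartier_finsetProd _ _ hE _) hQ,
      ideg_finsetProd (e p) _ _ (hE1 p) hE] at h0
    simp only [hn p, mul_neg, Finset.sum_neg_distrib]
    linarith
  have hN : ∀ p, ∑ q, w q * N q p = -(Module.finrank k (Coh.HH (E p) (ClSub.quotMod (Q.comap (e p))) 0) : ℚ) := fun p => by
    have h := hrow p
    rw [ideg_eq_neg_finrank (e p) (hE1 p) hQ (hnoQ p)] at h
    have h' := congrArg (fun z : ℤ => (z : ℚ)) h
    push_cast at h'
    exact h'
  let y' : Fin r → ℚ := fun p => (x p : ℚ) / w p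
  have hxy : ∀ p, w p * y' p = (x p : ℚ) := fun p => mul_div_cancel₀ _ (hw p).ne'
  have hid := ArInter.form_identity N w hsymm y'
  simp only [hxy] at hid
  have hA : ∀ p, w p * y' p ^ 2 * (∑ q, w q * N q p) ≤ 0 := fun p =>
    mul_nonpos_of_nonneg_of_nonpos (mul_nonneg (hw p).le (sq_nonneg _)) (by
      rw [hN]; exact neg_nonpos.mpr (Nat.cast_nonneg _))
  have hB := fun p q => ArInter.term_nonneg N w hw hoff y' p q
  have hge' : (0 : ℚ) ≤ ∑ p, ∑ q, (x p : ℚ) * (x q : ℚ) * N q p := by
    have h := Int.cast_nonneg (R := ℚ) hge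
    push_cast at h
    exact h
  have hA' := Finset.sum_nonpos (s := Finset.univ) fun p _ => hA p
  have hB' := Finset.sum_nonneg (s := Finset.univ) fun p _ => Finset.sum_nonneg (s := Finset.univ) fun q _ => hB p q
  have hA0 := (Finset.sum_eq_zero_iff_of_nonpos fun p _ => hA p).1 (by linarith : ∑ p, w p * y' p ^ 2 * (∑ q, w q * N q p) = 0)
  have hB0 := (Finset.sum_eq_zero_iff_of_nonneg fun p _ => Finset.sum_nonneg fun q _ => hB p q).1
    (by linarith : ∑ p, ∑ q, w p * w q * N q p * (y' p - y' q) ^ 2 = 0)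
  obtain ⟨p₀, hp₀⟩ : ∃ p, x p ≠ 0 := by
    by_contra h
    push Not at h
    exact hx (funext h)
  have hy0 : ∀ p, x p ≠ 0 ↔ y' p ≠ 0 := fun p => by
    simp [y', (hw p).ne']
  have hdQ : ∀ p, x p ≠ 0 → Disjoint (Set.range (e p)) (Q.support : Set Y) := fun p hp => by
    refine (finrank_eq_zero_iff (k := k) (e p) (hE1 p) Q).1 ?_
    have h := hA0 p (Finset.mem_univ p)
    rw [hN] at h
    have h3 := (mul_eq_zero.1 h).resolve_left (mul_ne_zero (hw p).ne' (pow_ne_zero 2 ((hy0 p).1 hp)))
    rw [neg_eq_zero, Nat.cast_eq_zero] at h3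
    exact h3
  have hdS : ∀ p q, x p ≠ 0 → x q = 0 → Disjoint (Set.range (e p)) (Set.range (e q)) := fun p q hp hq => by
    have hne : p ≠ q := fun h => hp (h ▸ hq)
    have h1 := (Finset.sum_eq_zero_iff_of_nonneg fun q _ => hB p q).1 (hB0 p (Finset.mem_univ p)) q (Finset.mem_univ q)
    have h2 : y' q = 0 := by simp [y', hq]
    rw [h2, sub_zero] at h1
    refine (hlen p q hne).2.2 ?_
    rcases mul_eq_zero.1 h1 with h | h
    · exact Int.cast_eq_zero.1 ((mul_eq_zero.1 h).resolve_left (mul_ne_zero (hw p).ne' (hw q).ne'))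
    · exact absurd (pow_eq_zero_iff two_ne_zero |>.1 h) ((hy0 p).1 hp)
  -- the residual divisor meets the closed fibre
  have hzQ : z₀.1 ∈ (Q.support : Set Y) := by
    have hm : z₀.1 ∈ (divI π t).support := by
      rw [mem_support_divI]
      have : π.base z₀.1 = P := hz₀'
      rw [this]
      exact hp.1.2 (Ideal.subset_span rfl)
    rw [hdec, Scheme.IdealSheafData.support_mul] at hm
    rcases hm with hm | hm
    · obtain ⟨q, -, -, hq⟩ := support_finsetProd _ _ _ hm
      obtain ⟨c, hc⟩ := (coe_support_ker (e q)).le hq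
      exact absurd (hz₀'.symm.trans (hc ▸ hclosed q c)) hPc
    · exact hm
  obtain ⟨v, hvQ, hv⟩ : ∃ v ∈ (Q.support : Set Y), π v = IsLocalRing.closedPoint R := by
    have hcl : IsClosed (π '' (Q.support : Set Y)) := π.isClosedMap _ Q.support.isClosed
    exact (IsLocalRing.specializes_closedPoint (π z₀.1)).mem_closed hcl ⟨_, hzQ, rfl⟩
  let C₁ : Set Y := ⋃ p ∈ {p | x p ≠ 0}, Set.range (e p)
  let C₂ : Set Y := (Q.support : Set Y) ∪ ⋃ q ∈ {q | x q = 0}, Set.range (e q)
  have hC₁ : IsClosed C₁ := (Set.toFinite _).isClosed_biUnion fun p _ => (e p).isClosedEmbedding.isClosed_range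
  have hC₂ : IsClosed C₂ := Q.support.isClosed.union
    ((Set.toFinite _).isClosed_biUnion fun p _ => (e p).isClosedEmbedding.isClosed_range)
  have hconn : _root_.IsPreconnected F := by
    haveI := Groth.Agent.S15544.result (isNormalScheme_spec R) π hgen inferInstance (IsLocalRing.closedPoint R)
    show _root_.IsPreconnected (π ⁻¹' {IsLocalRing.closedPoint R})
    rw [← π.range_fiberι (IsLocalRing.closedPoint R)]
    exact isPreconnected_range (π.fiberι _).continuous
  have hsub : F ⊆ C₁ ∪ C₂ := fun y hy => by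
    have hyU : π.base y ∉ U := fun h => (hU _).1 h hy
    obtain ⟨q, hq⟩ := hcov y hyU
    by_cases hxq : x q = 0
    · exact Or.inr (Or.inr (Set.mem_biUnion (s := {q | x q = 0}) hxq hq))
    · exact Or.inl (Set.mem_biUnion (s := {p | x p ≠ 0}) hxq hq)
  obtain ⟨y, -, hy1, hy2⟩ := isPreconnected_closed_iff.1 hconn C₁ C₂ hC₁ hC₂ hsub
    ⟨e p₀ (genericPoint (E p₀)), hclosed p₀ _, Set.mem_biUnion (s := {p | x p ≠ 0}) hp₀ ⟨_, rfl⟩⟩
    ⟨v, hv, Or.inl hvQ⟩
  obtain ⟨p, hp', hyp⟩ := Set.mem_iUnion₂.1 hy1
  rcases hy2 with h | h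
  · exact Set.disjoint_left.1 (hdQ p hp') hyp h
  · obtain ⟨q, hq, hyq⟩ := Set.mem_iUnion₂.1 h
    exact Set.disjoint_left.1 (hdS p q hp' hq) hyp hyq

end Groth.Agent.S19446
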