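import Groth.Agent.Lib.PsReflPS23.Basic
import Groth.Agent.Lib.RegLoc.GlobalDim
import Groth.Agent.Lib.H2Alg.PSHom
import Groth.Prelude.Def_ConstAct
import Mathlib.RingTheory.MvPowerSeries.Basic
import Mathlib.RingTheory.RegularLocalRing.Defs
import Mathlib.RingTheory.Flat.Basic
import Mathlib.LinearAlgebra.Dimension.Finrank
import Mathlib.RingTheory.Ideal.Quotient.Operations
import Mathlib.RingTheory.LocalRing.MaximalIdeal.Basic
import Mathlib.RingTheory.MvPowerSeries.Inverse
-- import your own Groth.Agent.* helpers here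

set_option autoImplicit false
universe u
namespace ConstAct
end ConstAct
open ConstAct

namespace Groth.Agent.S19447

open MvPowerSeries in
theorem exists_const_sub_mem (k : Type u) [Field k] (n : ℕ) (a : MvPowerSeries (Fin n) k) :
    ∃ c : k, a - algebraMap k (MvPowerSeries (Fin n) k) c ∈ IsLocalRing.maximalIdeal (MvPowerSeries (Fin n) k) := by
  refine ⟨constantCoeff a, ?_⟩
  rw [IsLocalRing.mem_maximalIdeal, mem_nonunits_iff, isUnit_iff_constantCoeff, map_sub,
    MvPowerSeries.algebraMap_apply, constantCoeff_C]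
  simp

open MvPowerSeries in
theorem exists_gen (k : Type u) [Field k] (n : ℕ) (J : Ideal (MvPowerSeries (Fin n) k))
    (hd : n ≤ Module.finrank k (MvPowerSeries (Fin n) k ⧸
      (J ⊔ IsLocalRing.maximalIdeal (MvPowerSeries (Fin n) k) ^ 2))) :
    ∃ l ∈ J, ∀ j ∈ J, ∃ c : k, j - c • l ∈ IsLocalRing.maximalIdeal (MvPowerSeries (Fin n) k) ^ 2 := by
  set A := MvPowerSeries (Fin n) k
  set M := IsLocalRing.maximalIdeal A
  let W : Submodule k A := (M ^ 2).restrictScalars k
  let v : Option (Fin n) → A := fun o => o.elim 1 fun i => MvPowerSeries.X i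
  have hspan : ⊤ ≤ Submodule.span k (Set.range v) ⊔ W := by
    intro a _
    obtain ⟨c, hc⟩ := exists_const_sub_mem k n a
    have hc' := hc
    rw [Groth.Agent.H2Alg.PSHom.maximalIdeal_eq, Groth.Agent.H2Alg.PSHom.V] at hc'
    obtain ⟨b, hb⟩ := (Submodule.mem_span_range_iff_exists_fun A).1 hc'
    choose d hd using fun i => exists_const_sub_mem k n (b i)
    have : a = (c • v none + ∑ i, d i • v (some i)) + ∑ i, (b i - algebraMap k A (d i)) * MvPowerSeries.X i := by
      have hb' : a = algebraMap k A c + ∑ i, b i * MvPowerSeries.X i := by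
        rw [show (∑ i, b i * MvPowerSeries.X i) = a - algebraMap k A c from hb, add_sub_cancel]
      rw [hb', add_assoc, ← Finset.sum_add_distrib, Algebra.smul_def]
      simp only [v, Option.elim, mul_one]
      congr 1
      exact Finset.sum_congr rfl fun i _ => by rw [Algebra.smul_def]; ring
    rw [this]
    refine Submodule.add_mem_sup (add_mem (Submodule.smul_mem _ _ (Submodule.subset_span ⟨none, rfl⟩))
      (sum_mem fun i _ => Submodule.smul_mem _ _ (Submodule.subset_span ⟨some i, rfl⟩))) (sum_mem fun i _ => ?_)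
    show _ ∈ M ^ 2
    rw [pow_two]
    refine Ideal.mul_mem_mul (hd i) ?_
    show (MvPowerSeries.X i : MvPowerSeries (Fin n) k) ∈ IsLocalRing.maximalIdeal (MvPowerSeries (Fin n) k)
    rw [Groth.Agent.H2Alg.PSHom.maximalIdeal_eq]
    exact Groth.Agent.H2Alg.PSHom.X_mem i
  let q : A →ₗ[k] A ⧸ W := W.mkQ
  have htop : Submodule.span k (Set.range (q ∘ v)) = ⊤ := by
    rw [Set.range_comp, ← Submodule.map_span, eq_top_iff]
    rintro x -
    obtain ⟨a, rfl⟩ := W.mkQ_surjective x
    obtain ⟨y, hy, w, hw, rfl⟩ := Submodule.mem_sup.1 (hspan (Submodule.mem_top (x := a)))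
    exact ⟨y, hy, by simpa [q, Submodule.Quotient.eq] using hw⟩
  have : FiniteDimensional k (A ⧸ W) := ⟨htop ▸ Submodule.fg_span (Set.finite_range _)⟩
  have hn : Module.finrank k (A ⧸ W) ≤ n + 1 := by
    have := (finrank_range_le_card (R := k) (q ∘ v))
    rwa [Set.finrank, htop, finrank_top, Fintype.card_option, Fintype.card_fin] at this
  let Jb : Submodule k (A ⧸ W) := (J.restrictScalars k).map q
  have hJb : Module.finrank k Jb ≤ 1 := by
    have h1 := Jb.finrank_quotient_add_finrank
    let e : ((A ⧸ W) ⧸ Jb) ≃ₗ[k] (A ⧸ (J ⊔ M ^ 2)) :=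
      (Submodule.quotEquivOfEq _ _ (show Jb = ((J ⊔ M ^ 2).restrictScalars k).map W.mkQ by
        apply le_antisymm
        · exact Submodule.map_mono fun x hx => Ideal.mem_sup_left hx
        · rintro _ ⟨x, hx, rfl⟩
          obtain ⟨y, hy, z, hz, rfl⟩ := Submodule.mem_sup.1 (show x ∈ J ⊔ M ^ 2 from hx)
          exact ⟨y, hy, (Submodule.Quotient.eq W).2 (by simpa [W] using (M ^ 2).neg_mem hz)⟩)).trans
        ((Submodule.quotientQuotientEquivQuotient W ((J ⊔ M ^ 2).restrictScalars k) (fun x hx => Ideal.mem_sup_right hx)).trans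
          (Submodule.Quotient.restrictScalarsEquiv k (J ⊔ M ^ 2)))
    rw [e.finrank_eq] at h1
    change n ≤ Module.finrank k (A ⧸ (J ⊔ M ^ 2)) at hd
    omega
  obtain ⟨⟨v₀, hv₀⟩, hv⟩ := finrank_le_one_iff.1 hJb
  obtain ⟨l, hl, rfl⟩ := hv₀
  refine ⟨l, hl, fun j hj => ?_⟩
  obtain ⟨c, hc⟩ := hv ⟨q j, j, hj, rfl⟩
  refine ⟨c, ?_⟩
  have h3 : c • q l = q j := congrArg Subtype.val hc
  have : j - c • l ∈ W := by
    rw [← Submodule.Quotient.eq, ← W.mkQ_apply, ← W.mkQ_apply, map_smul]
    exact h3.symm
  exact this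


/-- Let k be an algebraically closed field, A the power series ring in n variables over k with maximal
ideal M, and G a finite group of order invertible in k acting faithfully on A by k-algebra
automorphisms, A being finite over the ring of invariants A^G. Say g is a pseudo-reflection or acts
trivially on the cotangent space when A modulo M^2 and the elements g·a − a has dimension at least n
over k. If G is generated by such elements, then A is flat over A^G and A^G is a regular local ring:
generation by pseudo-reflections implies the other two conditions of the published criterion (only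
this sufficiency half is stated; the converse implication is not part of this statement). -/
theorem result (k : Type u) [Field k]
    [IsAlgClosed k] (n : ℕ) (G : Type u) [Group G] [Finite G] [MulSemiringAction G (MvPowerSeries (Fin n) k)]
    [SMulCommClass G k (MvPowerSeries (Fin n) k)] [FaithfulSMul G (MvPowerSeries (Fin n) k)]
    (hG : (Nat.card G : k) ≠ 0)
    [Module.Finite (ConstAct.inv k (MvPowerSeries (Fin n) k) G) (MvPowerSeries (Fin n) k)]
    (hgen : Subgroup.closure {g : G | n ≤ Module.finrank k (MvPowerSeries (Fin n) k ⧸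
        (Ideal.span {x : MvPowerSeries (Fin n) k | ∃ a, x = g • a - a} ⊔
          IsLocalRing.maximalIdeal (MvPowerSeries (Fin n) k) ^ 2))} = ⊤) :
    Module.Flat (ConstAct.inv k (MvPowerSeries (Fin n) k) G) (MvPowerSeries (Fin n) k) ∧
      IsRegularLocalRing (ConstAct.inv k (MvPowerSeries (Fin n) k) G) := by
  set A := MvPowerSeries (Fin n) k
  set R := ConstAct.inv k A G
  have hinj : Function.Injective (algebraMap R A) := Subtype.val_injective
  have hinv : ∀ a : A, (∀ g : G, g • a = a) → a ∈ Set.range (algebraMap R A) := fun a ha => ⟨⟨a, ha⟩, rfl⟩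
  have : SMulCommClass G R A := ⟨fun g r a => by
    show g • ((r : A) * a) = (r : A) * g • a
    rw [smul_mul', r.2 g]⟩
  have hu : ∀ r : R, IsUnit (r : A) → IsUnit r := fun r h => by
    obtain ⟨u, hu⟩ := h
    have hfix : ∀ g : G, g • (↑u⁻¹ : A) = ↑u⁻¹ := fun g => by
      have h2 : g • (u : A) * g • (↑u⁻¹ : A) = 1 := by rw [← smul_mul', Units.mul_inv, smul_one]
      rw [show g • (u : A) = u by rw [hu]; exact r.2 g] at h2
      exact (Units.inv_eq_of_mul_eq_one_right h2).symm
    exact IsUnit.of_mul_eq_one ⟨_, hfix⟩ (Subtype.ext (show (r : A) * (↑u⁻¹ : A) = 1 by rw [← hu, Units.mul_inv]))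
  have : Nontrivial R := ⟨⟨0, 1, fun h => zero_ne_one (congrArg Subtype.val h)⟩⟩
  have : IsLocalRing R := IsLocalRing.of_isUnit_or_isUnit_one_sub_self fun r =>
    (IsLocalRing.isUnit_or_isUnit_one_sub_self (r : A)).imp (hu r) fun h => hu (1 - r) h
  have : IsLocalHom (algebraMap R A) := ⟨fun r h => hu r h⟩
  have hGA : IsUnit (Nat.card G : A) := by
    rw [← map_natCast (algebraMap k A)]
    exact (Ne.isUnit hG).map _
  have : IsNoetherianRing R := Groth.Agent.PsReflPS23.isNoetherianRing_invariants (A := A) (G := G) hGA hinj hinv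
  have hres : ∀ a : A, ∃ c : k, a - algebraMap k A c ∈ IsLocalRing.maximalIdeal A := exists_const_sub_mem k n
  haveI : IsDomain A := NoZeroDivisors.to_isDomain _
  haveI := Groth.Agent.H2Alg.PSHom.isRegularLocalRing k n
  have hflat : Module.Flat R A := Groth.Agent.PsReflPS23.flat_of_generated (G := G) hGA hinj hinv hgen fun g hg =>
    Groth.Agent.PsReflPS23.J_eq_span_singleton k hG hres g (exists_gen k n _ hg)
  exact ⟨hflat, Groth.Agent.RegLoc.isRegularLocalRing_of_flat R A⟩

end Groth.Agent.S19447
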