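import Groth.Statements.S19448
import Mathlib
import Groth.Agent.Lib.CI2.TameLinear

set_option autoImplicit false
universe u
open CAlg

namespace Groth.Agent.S19448
open scoped TensorProduct

/-- Let k be a field, A a Noetherian local k-algebra with maximal ideal M and residue field k, and G a
finite group with |G| ≠ 0 in k acting on A by k-algebra automorphisms. An element of G which acts
trivially on M/M^2 acts trivially on A; in other words the stabilizer acts faithfully on the
cotangent space whenever it acts faithfully on the local ring. -/
theorem result (k : Type u) [Field k] (A : Type u) [CommRing A]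
    [Algebra k A] [IsLocalRing A] [IsNoetherianRing A]
    (hres : Function.Surjective (algebraMap k (IsLocalRing.ResidueField A)))
    (G : Type u) [Group G] [Finite G] [MulSemiringAction G A] [SMulCommClass G k A]
    (hG : (Nat.card G : k) ≠ 0) (g : G)
    (hg : ∀ a ∈ IsLocalRing.maximalIdeal A, g • a - a ∈ IsLocalRing.maximalIdeal A ^ 2) (a : A) :
    g • a = a := by
  refine Groth.Agent.CI2.TameLinear.eq_self (MulSemiringAction.toRingHom G A g) (Nat.card G) ?_ (fun x => ?_) (fun x => ?_) hg a
  · rw [← map_natCast (algebraMap k A)]; exact (isUnit_iff_ne_zero.2 hG).map _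
  · have : ∀ m : ℕ, (MulSemiringAction.toRingHom G A g)^[m] x = g ^ m • x := by
      intro m; induction m with
      | zero => simp
      | succ m ih => rw [Function.iterate_succ_apply', ih, pow_succ', mul_smul]; rfl
    rw [this, pow_card_eq_one', one_smul]
  · obtain ⟨c, hc⟩ := hres (IsLocalRing.residue A x)
    have hm : x - algebraMap k A c ∈ IsLocalRing.maximalIdeal A := by
      rw [← IsLocalRing.residue_eq_zero_iff, map_sub, sub_eq_zero, ← hc]; rfl
    have h := Ideal.pow_le_self two_ne_zero (hg _ hm)
    rw [smul_sub, smul_algebraMap, sub_sub_sub_cancel_right] at h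
    exact h

end Groth.Agent.S19448
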