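import Groth.Statements.S19449
import Mathlib

set_option autoImplicit false
universe u
open SymRep

namespace Groth.Agent.S19449

section
variable {k : Type u} [Field k] {n : ℕ}

/-- exponent vector of a tuple of exponent pairs -/
noncomputable def expo (p : Fin n → ℕ × ℕ) : Fin n × Fin 2 →₀ ℕ :=
  Finsupp.equivFunOnFinite.symm fun v => if v.2 = 0 then (p v.1).1 else (p v.1).2

theorem expo_apply (p : Fin n → ℕ × ℕ) (v : Fin n × Fin 2) : expo p v = if v.2 = 0 then (p v.1).1 else (p v.1).2 := rfl

theorem expo_injective : Function.Injective (expo (n := n)) := fun p q h => funext fun i => by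
  have h0 := DFunLike.congr_fun h (i, 0)
  have h1 := DFunLike.congr_fun h (i, 1)
  simp only [expo_apply, reduceIte, Fin.reduceEq] at h0 h1
  exact Prod.ext h0 h1

theorem expo_surj (e : Fin n × Fin 2 →₀ ℕ) : expo (fun i => (e (i, 0), e (i, 1))) = e := by
  ext ⟨i, j⟩
  fin_cases j <;> simp [expo_apply]

/-- the alternant -/
noncomputable abbrev alt (p : Fin n → ℕ × ℕ) : MvPolynomial (Fin n × Fin 2) k :=
  (Matrix.of fun i j : Fin n =>
    (MvPolynomial.X (i, 0) : MvPolynomial (Fin n × Fin 2) k) ^ (p j).1 * MvPolynomial.X (i, 1) ^ (p j).2).det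

theorem monomial_expo (p : Fin n → ℕ × ℕ) : MvPolynomial.monomial (expo p) (1 : k) =
    ∏ i, (MvPolynomial.X (i, 0) : MvPolynomial (Fin n × Fin 2) k) ^ (p i).1 * MvPolynomial.X (i, 1) ^ (p i).2 := by
  rw [MvPolynomial.monomial_eq, map_one, one_mul, Finsupp.prod_fintype _ _ (fun _ => pow_zero _), Fintype.prod_prod_type]
  refine Finset.prod_congr rfl fun i _ => ?_
  rw [Fin.prod_univ_two]
  simp [expo_apply]

theorem rename_monomial_expo (σ : Equiv.Perm (Fin n)) (p : Fin n → ℕ × ℕ) :
    MvPolynomial.rename (fun v : Fin n × Fin 2 => (σ v.1, v.2)) (MvPolynomial.monomial (expo p) (1 : k)) =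
      MvPolynomial.monomial (expo (p ∘ σ.symm)) 1 := by
  rw [monomial_expo, monomial_expo, map_prod]
  refine Fintype.prod_equiv σ _ _ fun i => ?_
  simp

theorem alt_eq (p : Fin n → ℕ × ℕ) :
    alt (k := k) p = ∑ σ : Equiv.Perm (Fin n), ((Equiv.Perm.sign σ : ℤˣ) : ℤ) • MvPolynomial.monomial (expo (p ∘ σ.symm)) 1 := by
  rw [alt, Matrix.det_apply']
  refine Finset.sum_congr rfl fun σ _ => ?_
  rw [zsmul_eq_mul, monomial_expo]
  congr 1
  refine Fintype.prod_equiv σ _ _ fun i => ?_
  simp

theorem rename_alt (σ : Equiv.Perm (Fin n)) (p : Fin n → ℕ × ℕ) :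
    MvPolynomial.rename (fun v : Fin n × Fin 2 => (σ v.1, v.2)) (alt (k := k) p) =
      ((Equiv.Perm.sign σ : ℤˣ) : ℤ) • alt (k := k) p := by
  rw [alt, AlgHom.map_det, zsmul_eq_mul, ← Matrix.det_permute]
  congr 1
  ext i j
  simp

end

/-- Over a field k of characteristic zero, let the symmetric group S_n act on the polynomial ring in the
2n variables x_i, y_i (i < n; the variable (i, 0) is x_i and (i, 1) is y_i) by permuting the index
i, and for an n-tuple p of pairs (p_j, q_j) of exponents let Δ_p be the determinant det(x_i^{p_j}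
y_i^{q_j}). A polynomial is alternating — each permutation acts on it by its sign — exactly when it
is a k-linear combination of the Δ_p; and the Δ_p for p strictly increasing in the lexicographic
order on pairs (one for each n-element set of exponent pairs) are linearly independent. Hence these
Δ_p form a basis of the space of alternating polynomials. -/
theorem result (k : Type u) [Field k] [CharZero k] (n : ℕ) :
    (∀ f : MvPolynomial (Fin n × Fin 2) k,
      (∀ σ : Equiv.Perm (Fin n),
          MvPolynomial.rename (fun v : Fin n × Fin 2 => (σ v.1, v.2)) f = ((Equiv.Perm.sign σ : ℤˣ) : ℤ) • f) ↔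
        f ∈ Submodule.span k (Set.range fun p : Fin n → ℕ × ℕ =>
          (Matrix.of fun i j : Fin n =>
            (MvPolynomial.X (i, 0) : MvPolynomial (Fin n × Fin 2) k) ^ (p j).1 * MvPolynomial.X (i, 1) ^ (p j).2).det)) ∧
    LinearIndependent k (fun p : {p : Fin n → ℕ ×ₗ ℕ // StrictMono p} =>
      (Matrix.of fun i j : Fin n =>
        (MvPolynomial.X (i, 0) : MvPolynomial (Fin n × Fin 2) k) ^ (ofLex (p.1 j)).1 *
          MvPolynomial.X (i, 1) ^ (ofLex (p.1 j)).2).det) := by
  classical
  refine ⟨fun f => ⟨fun hf => ?_, fun hf σ => ?_⟩, ?_⟩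
  · have key : ((Fintype.card (Equiv.Perm (Fin n)) : ℕ) : k) • f =
        ∑ e ∈ f.support, MvPolynomial.coeff e f • alt (k := k) (fun i => (e (i, 0), e (i, 1))) := by
      calc ((Fintype.card (Equiv.Perm (Fin n)) : ℕ) : k) • f
          = ∑ σ : Equiv.Perm (Fin n), ((Equiv.Perm.sign σ : ℤˣ) : ℤ) •
              MvPolynomial.rename (fun v : Fin n × Fin 2 => (σ v.1, v.2)) f := by
            rw [Nat.cast_smul_eq_nsmul, ← Finset.card_univ, ← Finset.sum_const]
            refine Finset.sum_congr rfl fun σ _ => ?_
            rw [hf σ, smul_smul, ← Units.val_mul, Int.units_mul_self, Units.val_one, one_smul]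
        _ = _ := by
            simp only [alt_eq, Finset.smul_sum]
            rw [Finset.sum_comm]
            refine Finset.sum_congr rfl fun σ _ => ?_
            conv_lhs => rw [f.as_sum, map_sum, Finset.smul_sum]
            refine Finset.sum_congr rfl fun e _ => ?_
            rw [show MvPolynomial.monomial e (MvPolynomial.coeff e f) = MvPolynomial.coeff e f • MvPolynomial.monomial e 1 by
              rw [MvPolynomial.smul_monomial, smul_eq_mul, mul_one], map_smul]
            conv_lhs => rw [← expo_surj e, rename_monomial_expo, expo_surj e]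
            exact smul_comm _ _ _
    have h0 : ((Fintype.card (Equiv.Perm (Fin n)) : ℕ) : k) ≠ 0 := Nat.cast_ne_zero.2 Fintype.card_ne_zero
    rw [← inv_smul_smul₀ h0 f, key]
    exact Submodule.smul_mem _ _ (Submodule.sum_mem _ fun e _ => Submodule.smul_mem _ _ (Submodule.subset_span ⟨_, rfl⟩))
  · induction hf using Submodule.span_induction with
    | mem g hg => obtain ⟨p, rfl⟩ := hg; exact rename_alt σ p
    | zero => simp
    | add a b _ _ ha hb => rw [map_add, ha, hb, smul_add]
    | smul c a _ ha => rw [map_smul, ha, smul_comm]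
  · rw [linearIndependent_iff']
    intro s g hg q hq
    let pr : {p : Fin n → ℕ ×ₗ ℕ // StrictMono p} → (Fin n → ℕ × ℕ) := fun p j => ofLex (p.1 j)
    change ∑ i ∈ s, g i • alt (k := k) (pr i) = 0 at hg
    have hc : ∀ p : {p : Fin n → ℕ ×ₗ ℕ // StrictMono p},
        MvPolynomial.coeff (expo (pr q)) (alt (k := k) (pr p)) = if p = q then 1 else 0 := by
      intro p
      rw [alt_eq, MvPolynomial.coeff_sum]
      simp only [zsmul_eq_mul, ← map_intCast (MvPolynomial.C : k →+* MvPolynomial (Fin n × Fin 2) k),
        MvPolynomial.coeff_C_mul, MvPolynomial.coeff_monomial, expo_injective.eq_iff]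
      have huniq : ∀ σ : Equiv.Perm (Fin n), pr p ∘ σ.symm = pr q → σ = 1 ∧ p = q := by
        intro σ h
        have h' : p.1 ∘ σ.symm = q.1 := funext fun j => by
          have := congrArg toLex (congrFun h j)
          simpa [pr] using this
        have hmono : StrictMono σ.symm := fun a b hab => by
          have := q.2 hab
          rw [← h'] at this
          exact p.2.lt_iff_lt.1 this
        have hid : (σ.symm : Fin n → Fin n) = id := hmono.range_inj strictMono_id |>.1 (by simp)
        refine ⟨Equiv.ext fun j => ?_, Subtype.ext (by rw [← h', hid]; rfl)⟩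
        have := congrFun hid (σ j)
        rw [Equiv.symm_apply_apply] at this
        exact this.symm
      split_ifs with hp
      · subst hp
        rw [Finset.sum_eq_single (1 : Equiv.Perm (Fin n))]
        · rw [show ⇑(1 : Equiv.Perm (Fin n)).symm = id from rfl, Function.comp_id, if_pos rfl]
          simp
        · intro σ _ hσ
          rw [if_neg fun h => hσ (huniq σ h).1, mul_zero]
        · simp
      · refine Finset.sum_eq_zero fun σ _ => ?_
        rw [if_neg fun h => hp (huniq σ h).2, mul_zero]
    have h1 := congrArg (MvPolynomial.coeff (expo (pr q))) hg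
    simp only [MvPolynomial.coeff_sum, MvPolynomial.coeff_smul, hc, smul_eq_mul, mul_ite, mul_one, mul_zero,
      Finset.sum_ite_eq', hq, if_true, MvPolynomial.coeff_zero] at h1
    exact h1

end Groth.Agent.S19449
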