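import Groth.Statements.S19451
import Groth.Agent.Lib.AdjArith15.CanDeg
import Groth.Agent.Lib.AdjArith15.OpenRes
import Groth.Agent.Lib.AdjArith15.Div
import Groth.Agent.Lib.GeomRed18.Apps
import Groth.Agent.S1627
import Groth.Agent.S1536
import Groth.Agent.S2501
import Groth.Agent.S13305
-- import your own Groth.Agent.* helpers here

set_option autoImplicit false
universe u
open CategoryTheory CategoryTheory.Limits AlgebraicGeometry
open Resolve

set_option backward.isDefEq.respectTransparency false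
set_option backward.isDefEq.respectTransparency.types false
set_option synthInstance.maxHeartbeats 400000
set_option maxHeartbeats 1600000

open CategoryTheory CategoryTheory.Limits AlgebraicGeometry TopologicalSpace

namespace Groth.Agent.S19451
open Groth.Agent

theorem exists_relDim {X Y : Scheme.{u}} (f : X ⟶ Y) [Smooth f] (x : X) :
    ∃ (d : ℕ) (V : X.Opens), x ∈ V ∧ SmoothOfRelativeDimension d (V.ι ≫ f) := by
  obtain ⟨U, hU, V, hV, hxV, e, hstd⟩ := Smooth.exists_isStandardSmooth f x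
  algebraize [(f.appLE U V e).hom]
  obtain ⟨ι, σ, _, _, ⟨P⟩⟩ := Algebra.IsStandardSmooth.out (R := Γ(Y, U)) (S := Γ(X, V))
  have hd : (f.appLE U V e).hom.IsStandardSmoothOfRelativeDimension P.dimension :=
    ⟨⟨ι, σ, inferInstance, inferInstance, P, rfl⟩⟩
  refine ⟨P.dimension, V, hxV, ⟨fun z => ?_⟩⟩
  refine ⟨U, hU, V.ι ⁻¹ᵁ V, ?_, z.2, fun w hw => e hw, ?_⟩
  · rw [Scheme.Opens.ι_preimage_self]
    haveI : IsAffine (V : Scheme.{u}) := hV
    exact isAffineOpen_top _
  · have hle : V.ι ⁻¹ᵁ V ≤ (V.ι ≫ f) ⁻¹ᵁ U := fun w hw => e hw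
    rw [← Scheme.Hom.appLE_comp_appLE V.ι f U V (V.ι ⁻¹ᵁ V) e le_rfl]
    haveI : IsIso (V.ι.appLE V (V.ι ⁻¹ᵁ V) le_rfl) := by
      rw [← Scheme.Hom.app_eq_appLE]
      exact V.ι.isIso_app V (by simp)
    exact RingHom.isStandardSmoothOfRelativeDimension_respectsIso.1 (f.appLE U V e).hom
      (asIso (V.ι.appLE V (V.ι ⁻¹ᵁ V) le_rfl)).commRingCatIsoToRingEquiv hd

end Groth.Agent.S19451

namespace Groth.Agent.S19451
open Groth.Agent
/-- Its proof: let k be an algebraically closed field, Y → Spec k smooth and separated with Y of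
dimension 2, W a canonical module of Y (a second exterior power of the sheaf of differentials), e :
E → Y a closed immersion with E integral of dimension one and proper over k, and L an O_Y-module
with L ⊗ I_E ≅ O_Y (L = O_Y(E)). If the restriction of W to E is isomorphic to O_E and the
self-intersection deg_E(L|_E) is negative, then the arithmetic genus dim H^1(E, O_E) is 0 and
deg_E(L|_E) = -2. (So an exceptional curve of a crepant resolution is never a (-1)-curve: crepant
resolutions are minimal.) -/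
theorem result (k : Type u) [Field k] [IsAlgClosed k]
    (Y : Scheme.{u}) (f : Y ⟶ Spec (CommRingCat.of k)) [Smooth f] [IsSeparated f] (hdim : topologicalKrullDim Y = 2)
    (W : Y.Modules) (hW : ExtPow.IsExtPow 2 (Omega.sheaf f) W)
    (E : Scheme.{u}) (e : E ⟶ Y) [IsClosedImmersion e] [IsIntegral E] (hE : topologicalKrullDim E = 1)
    [IsProper (e ≫ f)]
    (L : Y.Modules) (hL : ClSub.IsInverseOf L (ClSub.idealMod e.ker))
    (hcrep : Nonempty ((Scheme.Modules.pullback e).obj W ≅ Coh.structureModule E))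
    (hneg : @Curv2.deg k _ E ⟨e ≫ f⟩ ((Scheme.Modules.pullback e).obj L) 1 < 0) :
    @Curv2.genus k _ E ⟨e ≫ f⟩ = 0 ∧ @Curv2.deg k _ E ⟨e ≫ f⟩ ((Scheme.Modules.pullback e).obj L) 1 = -2 := by
  letI : E.Over (Spec (CommRingCat.of k)) := ⟨e ≫ f⟩
  haveI : IsProper (E ↘ Spec (CommRingCat.of k)) := ‹IsProper (e ≫ f)›
  haveI : IsLocallyNoetherian Y := LocallyOfFiniteType.isLocallyNoetherian f
  haveI : IsLocallyNoetherian E := LocallyOfFiniteType.isLocallyNoetherian (E ↘ Spec (CommRingCat.of k))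
  obtain ⟨eL⟩ := hL
  have hI : PicF.IsInvertible (ClSub.idealMod e.ker) :=
    M2.isInvertible_of_tensor_iso_unit _ L (M2.tensorComm _ L ≪≫ eL)
  have hLi : PicF.IsInvertible ((Scheme.Modules.pullback e).obj L) :=
    PicLoc.isInvertible_pullback _ (M2.isInvertible_of_tensor_iso_unit _ _ eL)
  have hreg1 := AdjArith15.isRegularImmersion_one e hI
  -- the open of relative dimension two
  let O : {V : Y.Opens // SmoothOfRelativeDimension 2 (V.ι ≫ f)} → Y.Opens := fun V => V.1
  let U : Y.Opens := ⨆ V, O V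
  have hE1 : topologicalKrullDim E = ((1 : ℕ) : WithBot ℕ∞) := by rw [hE]; rfl
  have hclosed : ∀ z : E, IsClosed ({z} : Set E) → e z ∈ U := by
    intro z hz
    obtain ⟨d, V, hzV, hd⟩ := exists_relDim f (e z)
    have h1 := CanDeg15.dim_add_codim e hreg1 z
    rw [SmDim19.ringKrullDim_stalk_closed (E ↘ Spec (CommRingCat.of k)) hE1 hz] at h1
    have hz' : IsClosed ({(⟨e z, hzV⟩ : V.toScheme)} : Set V.toScheme) := by
      have : IsClosed ({e z} : Set Y) := by simpa using e.isClosedEmbedding.isClosedMap _ hz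
      convert this.preimage V.ι.continuous using 1
      ext y
      exact ⟨fun h => congrArg Subtype.val h, fun h => Subtype.ext h⟩
    have h2 := SmDim19.ringKrullDim_stalk_of_isClosed (V.ι ≫ f) d hz'
    rw [ringKrullDim_eq_of_ringEquiv (V.stalkIso ⟨e z, hzV⟩).commRingCatIsoToRingEquiv, ← h1] at h2
    obtain rfl : d = 2 := by
      have : 1 + 1 = d := by exact_mod_cast h2
      omega
    exact Opens.mem_iSup.2 ⟨⟨V, hd⟩, hzV⟩
  haveI : CompactSpace E := QuasiCompact.compactSpace_of_compactSpace (E ↘ Spec (CommRingCat.of k))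
  have hmem : ∀ x : E, e x ∈ U := fun x => by
    obtain ⟨z, hz, hzc⟩ := (isClosed_closure (s := ({x} : Set E))).exists_closed_singleton ⟨x, subset_closure rfl⟩
    exact (((specializes_iff_mem_closure.2 hz).map e.continuous).mem_open U.2 (hclosed z hzc))
  haveI : SmoothOfRelativeDimension 2 (U.ι ≫ f) := by
    refine IsZariskiLocalAtSource.of_iSup_eq_top (P := @SmoothOfRelativeDimension 2)
      (fun V => U.ι ⁻¹ᵁ O V) (top_le_iff.1 fun y _ => ?_) fun V => ?_
    · obtain ⟨V, hV⟩ := Opens.mem_iSup.1 y.2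
      exact Opens.mem_iSup.2 ⟨V, hV⟩
    · haveI := V.2
      have he : (U.ι ⁻¹ᵁ O V).ι ≫ U.ι = (U.ι ∣_ O V) ≫ (O V).ι := (morphismRestrict_ι _ _).symm
      rw [reassoc_of% he]
      exact IsZariskiLocalAtSource.comp (P := @SmoothOfRelativeDimension 2) ‹_› _
  haveI : Smooth (U.ι ≫ f) := SmoothOfRelativeDimension.smooth 2 _
  haveI : IsLocallyNoetherian (U : Scheme.{u}) := LocallyOfFiniteType.isLocallyNoetherian U.ι
  haveI : IsIso (e ⁻¹ᵁ U).ι := isIso_of_isOpenImmersion_of_opensRange_eq_top _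
    ((Scheme.Opens.opensRange_ι _).trans (top_le_iff.1 fun x _ => hmem x))
  let e' : E ⟶ U := inv (e ⁻¹ᵁ U).ι ≫ (e ∣_ U)
  have he' : e' ≫ U.ι = e := by simp [e', morphismRestrict_ι]
  haveI : IsClosedImmersion (e ∣_ U) := IsZariskiLocalAtTarget.restrict (P := @IsClosedImmersion) ‹_› _
  haveI : IsClosedImmersion e' := inferInstanceAs (IsClosedImmersion (_ ≫ _))
  have hker : e'.ker = (e ∣_ U).ker := Scheme.Hom.ker_comp_of_isIso _ _
  obtain ⟨r⟩ := OpenRes15.nonempty_idealMod_restrict e U
  let rI : ClSub.idealMod e'.ker ≅ (Scheme.Modules.pullback U.ι).obj (ClSub.idealMod e.ker) :=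
    eqToIso (by rw [hker]) ≪≫ r.symm ≪≫ (Scheme.Modules.restrictFunctorIsoPullback U.ι).app _
  have hI' : PicF.IsInvertible (ClSub.idealMod e'.ker) :=
    Twist.isInvertible_of_iso (h := PicLoc.isInvertible_pullback U.ι hI) rI.symm
  have hreg : RegImm.IsRegularImmersionOfCodim .regular 1 e' := AdjArith15.isRegularImmersion_one e' hI'
  let pc : ∀ M : Y.Modules, (Scheme.Modules.pullback e').obj ((Scheme.Modules.pullback U.ι).obj M) ≅
      (Scheme.Modules.pullback e).obj M := fun M =>
    (Scheme.Modules.pullbackComp e' U.ι).app M ≪≫ (Scheme.Modules.pullbackCongr he').app M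
  haveI : QuasiSeparated f := inferInstance
  haveI : QuasiSeparated (U.ι ≫ f) := inferInstance
  haveI : QuasiCompact e' := inferInstance
  obtain ⟨a⟩ := OpenRes15.nonempty_omega_restrict f U
  have hWU : ExtPow.IsExtPow 2 (Omega.sheaf (U.ι ≫ f)) ((Scheme.Modules.restrictFunctor U.ι).obj W) :=
    OpenRes15.isExtPow_of_iso (OpenRes15.isExtPow_restrict hW U.ι) a (Iso.refl _)
  obtain ⟨cW⟩ := hcrep
  have hvia : Canon.IsCanonicalVia e' (U.ι ≫ f) 1 2 ((Scheme.Modules.pullback e).obj L) :=
    ⟨Omega.conormal e', (Scheme.Modules.restrictFunctor U.ι).obj W, ExtFil4.isExtPow_one _, hWU,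
      ⟨M2.tensorIso (Iso.refl _) ((Scheme.Modules.pullback e').mapIso rI ≪≫ pc _) ≪≫
        (M2.pullTensorIso e L _).symm ≪≫ (Scheme.Modules.pullback e).mapIso eL ≪≫
        PicLoc.pullbackStructureIso e ≪≫ cW.symm ≪≫ (pc W).symm ≪≫
        (Scheme.Modules.pullback e').mapIso ((Scheme.Modules.restrictFunctorIsoPullback U.ι).app W).symm⟩⟩
  -- projectivity
  obtain ⟨N, j, hj, hjw⟩ : ∃ (N : ℕ) (j : E ⟶ CohB1.ProjSpace N k),
      IsClosedImmersion j ∧ j ≫ CohB1.ProjSpace.toSpec N k = E ↘ Spec (CommRingCat.of k) := by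
    refine (S1627.result k E hE).resolve_left fun haff => ?_
    haveI := haff
    haveI : IsAffineHom (E ↘ Spec (CommRingCat.of k)) := inferInstance
    haveI : IsFinite (E ↘ Spec (CommRingCat.of k)) := IsFinite.iff_isProper_and_isAffineHom.2 ⟨inferInstance, inferInstance⟩
    haveI : Subsingleton (Spec (CommRingCat.of k)) := inferInstanceAs (Subsingleton (PrimeSpectrum k))
    haveI : Finite E := by
      rw [← Set.finite_univ_iff]
      have h := (E ↘ Spec (CommRingCat.of k)).finite_preimage_singleton (IsLocalRing.closedPoint k)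
      convert h using 1
      ext x
      exact ⟨fun _ => Subsingleton.elim _ _, fun _ => trivial⟩
    haveI : JacobsonSpace E := LocallyOfFiniteType.jacobsonSpace (E ↘ Spec (CommRingCat.of k))
    haveI : DiscreteTopology E := inferInstance
    have h0' := topologicalKrullDim_zero_of_discreteTopology E
    rw [hE] at h0'
    exact absurd h0' (not_le.2 zero_lt_one)
  haveI := hj
  have hfac : e' ≫ U.ι ≫ f = E ↘ Spec (CommRingCat.of k) := by rw [← Category.assoc, he']; rfl
  have hk : ∀ y : E, Synt.IsKoszulAt (E ↘ Spec (CommRingCat.of k)) y := fun x => by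
    haveI : IsIso (⊤ : E.Opens).ι := isIso_of_isOpenImmersion_of_opensRange_eq_top _ (Scheme.Opens.opensRange_ι _)
    refine ⟨⊤, U, (⊤ : E.Opens).ι ≫ e', U.ι ≫ f, trivial, ?_, ?_, inferInstance, by rw [Category.assoc, hfac]⟩
    · infer_instance
    · exact SmImm2.koszul_of_regular (SmImm2.forget_codim
        (SmImm2.isRegularImmersionOfCodim_iso_comp (⊤ : E.Opens).ι e' hreg))
  obtain ⟨ω, ⟨Z, i, g, c, n, hi0, hi, hg, hqc, hqs, hv⟩, hωi, hdeg⟩ := CanDeg15.exists_canonical_deg k hE j hjw hk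
  haveI := hqc; haveI := hqs
  obtain ⟨iso⟩ := S13305.result E _ U Z (E ↘ Spec (CommRingCat.of k)) e' (U.ι ≫ f) i g hfac hi0 1 2 c n hreg
    inferInstance hi hg _ ω hvia hv
  haveI : GeometricallyConnected (E ↘ Spec (CommRingCat.of k)) := S2501.result _
  haveI : GeometricallyReduced (E ↘ Spec (CommRingCat.of k)) :=
    GeomRed.geometricallyReduced_of_maximal fun η _ => GeomRed.isGeomReducedAt_of_perfectField η
  have h0 := S1536.result k E
  have hO : Coh.IsCoh (Coh.structureModule E) := M1.isCoh_structureModule _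
  have key : Curv2.deg k E ((Scheme.Modules.pullback e).obj L) 1 =
      2 * (Curv2.genus k E : ℤ) - 2 := by
    rw [CurveCoh17.deg_iso iso]
    have hd : ArSurf.curveDeg k E ω = Curv2.deg k E ω 1 := by
      rw [ArSurf.curveDeg, Curv2.deg, Snapper.eulerCharLE_eq_euler 1 hE.le (Snapper.isCoh_of_isInvertible hωi),
        Snapper.eulerCharLE_eq_euler 1 hE.le hO]
      simp
    rw [← hd, hdeg]
    simp only [FGA.eulerCharLE, Finset.sum_range_succ, Finset.sum_range_zero, Curv2.genus, h0]
    push_cast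
    ring
  refine ⟨?_, ?_⟩
  · change Curv2.genus k E = 0
    change Curv2.deg k E _ 1 < 0 at hneg
    omega
  · change Curv2.deg k E _ 1 = -2
    change Curv2.deg k E _ 1 < 0 at hneg
    omega

end Groth.Agent.S19451
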