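import Groth.Statements.S19452
import Mathlib.RingTheory.Flat.EquationalCriterion
import Mathlib.Tactic.Module
import Mathlib.RingTheory.TensorProduct.Free

set_option autoImplicit false
universe u
attribute [local instance] W4c6puncthilbintro.dualAlgebra
open HilbD

namespace Groth.Agent.S19452

open DualNumber TrivSqZeroExt in
/-- A flatness criterion over the dual numbers. -/
theorem flat_dualNumber {A : Type u} [CommRing A] {M : Type u} [AddCommGroup M]
    [Module (DualNumber A) M] {N : Type u} [AddCommGroup N] [Module A N] [Module.Flat A N]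
    (π : M →+ N) (hπ : Function.Surjective π)
    (hsmul : ∀ (c : DualNumber A) (m : M), π (c • m) = c.fst • π m)
    (hker : ∀ m, π m = 0 → ∃ n, m = (ε : DualNumber A) • n)
    (hann : ∀ m, (ε : DualNumber A) • m = 0 → π m = 0) :
    Module.Flat (DualNumber A) M := by
  refine Module.Flat.of_forall_isTrivialRelation fun {l f x} hfx => ?_
  have hεε : ∀ m : M, (ε : DualNumber A) • ((ε : DualNumber A) • m) = 0 := fun m => by
    rw [← mul_smul, eps_mul_eps, zero_smul]
  have hf : ∀ i, f i = inl (f i).fst + inl (f i).snd * ε := fun i => by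
    ext <;> simp
  have h1 : ∑ i, (f i).fst • π (x i) = 0 := by
    have := congr(π $hfx)
    simpa [map_sum, hsmul] using this
  obtain ⟨k, c, y', hy', hc⟩ := Module.Flat.isTrivialRelation_of_sum_smul_eq_zero h1
  choose y hy using fun j => hπ (y' j)
  have hxy : ∀ i, π (x i - ∑ j, (inl (c i j) : DualNumber A) • y j) = 0 := fun i => by
    simp [map_sum, hsmul, hy, ← hy' i]
  choose n hn using fun i => hker _ (hxy i)
  have hx : ∀ i, x i = ∑ j, (inl (c i j) : DualNumber A) • y j + (ε : DualNumber A) • n i :=
    fun i => by rw [← hn i]; abel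
  -- the relation one level down
  have h2 : (ε : DualNumber A) • (∑ j, (inl (∑ i, (f i).snd * c i j) : DualNumber A) • y j +
      ∑ i, (inl (f i).fst : DualNumber A) • n i) = 0 := by
    rw [← hfx]
    calc _ = ∑ j, ∑ i, ((inl (f i).snd * ε * inl (c i j) : DualNumber A) • y j) +
          ∑ i, ((inl (f i).fst * ε : DualNumber A) • n i) := by
          rw [smul_add, Finset.smul_sum, Finset.smul_sum]
          congr 1
          · refine Finset.sum_congr rfl fun j _ => ?_
            rw [← mul_smul, ← Finset.sum_smul]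
            congr 1
            rw [← inlHom_apply, map_sum, Finset.mul_sum]
            refine Finset.sum_congr rfl fun i _ => ?_
            rw [map_mul, inlHom_apply, inlHom_apply]
            ring
          · refine Finset.sum_congr rfl fun i _ => ?_
            rw [← mul_smul, mul_comm]
      _ = ∑ j, ∑ i, ((inl (f i).snd * ε * inl (c i j) : DualNumber A) • y j) +
          ∑ i, ((inl (f i).fst * ε : DualNumber A) • n i) +
          ∑ j, (inl (∑ i, (f i).fst * c i j) : DualNumber A) • y j := by
          simp [hc]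
      _ = _ := by
          rw [Finset.sum_comm]
          have e1 : ∑ j, (inl (∑ i, (f i).fst * c i j) : DualNumber A) • y j =
              ∑ i, ∑ j, ((inl (f i).fst * inl (c i j) : DualNumber A)) • y j := by
            rw [Finset.sum_comm]
            refine Finset.sum_congr rfl fun j _ => ?_
            rw [← inlHom_apply, map_sum, Finset.sum_smul]
            simp [inl_mul]
          rw [e1, ← Finset.sum_add_distrib, ← Finset.sum_add_distrib]
          refine Finset.sum_congr rfl fun i _ => ?_
          conv_rhs => rw [hx i, hf i]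
          simp only [smul_add, Finset.smul_sum, smul_smul, add_mul, add_smul,
            Finset.sum_add_distrib]
          have e0 : ((inl (f i).snd * ε * ε : DualNumber A)) • n i = 0 := by
            rw [mul_assoc, eps_mul_eps, mul_zero, zero_smul]
          rw [e0]
          abel
  have h3 : ∑ t : Fin k ⊕ Fin l,
      Sum.elim (fun j => ∑ i, (f i).snd * c i j) (fun i => (f i).fst) t •
        Sum.elim (fun j => π (y j)) (fun i => π (n i)) t = 0 := by
    rw [Fintype.sum_sum_type]
    simpa [map_sum, hsmul] using hann _ h2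
  obtain ⟨r, d, z', hz', hd⟩ := Module.Flat.isTrivialRelation_of_sum_smul_eq_zero h3
  simp only [Fintype.sum_sum_type, Sum.elim_inl, Sum.elim_inr] at hd
  choose z hz using fun q => hπ (z' q)
  have hyz : ∀ j, π (y j - ∑ q, (inl (d (Sum.inl j) q) : DualNumber A) • z q) = 0 := fun j => by
    simpa [map_sum, hsmul, hz, sub_eq_zero] using hz' (Sum.inl j)
  have hnz : ∀ i, π (n i - ∑ q, (inl (d (Sum.inr i) q) : DualNumber A) • z q) = 0 := fun i => by
    simpa [map_sum, hsmul, hz, sub_eq_zero] using hz' (Sum.inr i)
  choose p hp using fun j => hker _ (hyz j)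
  choose w hw using fun i => hker _ (hnz i)
  have hy2 : ∀ j, y j = ∑ q, (inl (d (Sum.inl j) q) : DualNumber A) • z q +
      (ε : DualNumber A) • p j := fun j => by rw [← hp j]; abel
  have hn2 : ∀ i, (ε : DualNumber A) • n i =
      ∑ q, ((ε : DualNumber A) * inl (d (Sum.inr i) q)) • z q := fun i => by
    have : n i = ∑ q, (inl (d (Sum.inr i) q) : DualNumber A) • z q +
      (ε : DualNumber A) • w i := by rw [← hw i]; abel
    rw [this, smul_add, hεε, add_zero, Finset.smul_sum]
    simp [mul_smul]
  refine ⟨r + k, fun i t => Sum.elim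
      (fun q => inl (∑ j, c i j * d (Sum.inl j) q) + ε * inl (d (Sum.inr i) q))
      (fun j => ε * inl (c i j)) ((finSumFinEquiv (m := r) (n := k)).symm t),
    fun t => Sum.elim z p ((finSumFinEquiv (m := r) (n := k)).symm t), fun i => ?_, fun t => ?_⟩
  · beta_reduce
    rw [Equiv.sum_comp (finSumFinEquiv (m := r) (n := k)).symm (fun s : Fin r ⊕ Fin k => Sum.elim
      (fun q => inl (∑ j, c i j * d (Sum.inl j) q) + ε * inl (d (Sum.inr i) q))
      (fun j => (ε : DualNumber A) * inl (c i j)) s • Sum.elim z p s), Fintype.sum_sum_type]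
    simp only [Sum.elim_inl, Sum.elim_inr, add_smul, Finset.sum_add_distrib]
    rw [← hn2 i, hx i]
    have : ∑ j, (inl (c i j) : DualNumber A) • y j =
        ∑ q, (inl (∑ j, c i j * d (Sum.inl j) q) : DualNumber A) • z q +
          ∑ j, ((ε : DualNumber A) * inl (c i j)) • p j := by
      simp only [hy2, smul_add, Finset.smul_sum, smul_smul, Finset.sum_add_distrib]
      congr 1
      · rw [Finset.sum_comm]
        refine Finset.sum_congr rfl fun q _ => ?_
        rw [← inlHom_apply, map_sum, Finset.sum_smul]
        simp [inl_mul]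
      · simp [mul_comm]
    rw [this]; abel
  · beta_reduce
    rcases (finSumFinEquiv (m := r) (n := k)).symm t with q | j
    · simp only [Sum.elim_inl]
      ext
      · simp only [fst_sum, fst_mul, fst_add, fst_inl, fst_eps, zero_mul, add_zero, fst_zero,
          Finset.mul_sum, ← mul_assoc]
        rw [Finset.sum_comm]
        simp [← Finset.sum_mul, hc]
      · simp only [snd_sum, DualNumber.snd_mul, snd_add, snd_inl, fst_add, fst_mul, fst_inl, fst_eps,
          snd_eps, zero_mul, one_mul, add_zero, zero_add, snd_zero, Finset.sum_add_distrib,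
          Finset.mul_sum, ← mul_assoc]
        have := hd q
        simp only [Finset.sum_mul] at this
        rw [Finset.sum_comm] at this
        rw [add_comm] at this
        simpa [mul_comm] using this
    · simp only [Sum.elim_inr]
      ext
      · simp [fst_sum]
      · simp [snd_sum, DualNumber.snd_mul, hc]

/-- Let A be a commutative ring, R a commutative A-algebra free as an A-module, I an ideal of R with R/I
flat over A, and view the dual numbers R[ε] as an algebra over A[ε] (ε ↦ ε). For φ : I → R/I linear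
over R, let J_φ be the ideal of elements a + bε of R[ε] with a ∈ I and b ≡ φ(a) modulo I. Then each
R[ε]/J_φ is flat over A[ε] and J_φ reduces to I modulo ε; the assignment φ ↦ J_φ is injective; and
every ideal J of R[ε] with R[ε]/J flat over A[ε] which reduces to I modulo ε equals some J_φ. Thus
the first-order liftings of I correspond one-to-one to Hom_R(I, R/I) (the tangent space of the
Hilbert scheme at I). -/
theorem result (A : Type u) [CommRing A] (R : Type u) [CommRing R]
    [Algebra A R] [Module.Free A R] (I : Ideal R) [Module.Flat A (R ⧸ I)] :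
    (∀ φ : I →ₗ[R] R ⧸ I,
        Module.Flat (DualNumber A) (DualNumber R ⧸ W4c6puncthilbintro.liftIdeal I φ) ∧
          Ideal.map (TrivSqZeroExt.fstHom A R R) (W4c6puncthilbintro.liftIdeal I φ) = I) ∧
      Function.Injective (W4c6puncthilbintro.liftIdeal I) ∧
      ∀ J : Ideal (DualNumber R), Module.Flat (DualNumber A) (DualNumber R ⧸ J) →
        Ideal.map (TrivSqZeroExt.fstHom A R R) J = I →
          ∃ φ : I →ₗ[R] R ⧸ I, J = W4c6puncthilbintro.liftIdeal I φ := by
  classical
  have hε : algebraMap (DualNumber A) (DualNumber R) DualNumber.eps = DualNumber.eps :=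
    W4c6puncthilbintro.dualMap_eps A R
  have hfst : ∀ c : DualNumber A,
      (algebraMap (DualNumber A) (DualNumber R) c).fst = algebraMap A R c.fst := by
    intro c
    change (W4c6puncthilbintro.dualMap A R c).fst = _
    simp [W4c6puncthilbintro.dualMap, DualNumber.lift_apply_apply, TrivSqZeroExt.algebraMap_eq_inl,
      TrivSqZeroExt.algebraMap_eq_inl']
  have hmap : ∀ φ : I →ₗ[R] R ⧸ I,
      Ideal.map (TrivSqZeroExt.fstHom A R R) (W4c6puncthilbintro.liftIdeal I φ) = I := by
    intro φ
    apply le_antisymm
    · rw [Ideal.map_le_iff_le_comap]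
      rintro x ⟨h, -⟩
      exact h
    · intro a ha
      obtain ⟨b, hb⟩ := Ideal.Quotient.mk_surjective (φ ⟨a, ha⟩)
      have hm : ((a, b) : DualNumber R) ∈ W4c6puncthilbintro.liftIdeal I φ := ⟨ha, hb⟩
      exact Ideal.mem_map_of_mem (TrivSqZeroExt.fstHom A R R) hm
  refine ⟨fun φ => ⟨?_, hmap φ⟩, ?_, ?_⟩
  · let F : DualNumber R →+* R ⧸ I :=
      (Ideal.Quotient.mk I).comp (TrivSqZeroExt.fstHom A R R : DualNumber R →ₐ[A] R).toRingHom
    have hF : ∀ x ∈ W4c6puncthilbintro.liftIdeal I φ, F x = 0 := fun x ⟨h, _⟩ =>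
      Ideal.Quotient.eq_zero_iff_mem.2 h
    refine flat_dualNumber (N := R ⧸ I) (Ideal.Quotient.lift _ F hF).toAddMonoidHom ?_ ?_ ?_ ?_
    · intro y
      obtain ⟨r, rfl⟩ := Ideal.Quotient.mk_surjective y
      exact ⟨Ideal.Quotient.mk _ (TrivSqZeroExt.inl r), rfl⟩
    · intro c m
      obtain ⟨x, rfl⟩ := Ideal.Quotient.mk_surjective m
      change F (algebraMap (DualNumber A) (DualNumber R) c * x) = _
      rw [map_mul]
      change Ideal.Quotient.mk I (algebraMap (DualNumber A) (DualNumber R) c).fst * F x = _
      rw [hfst, Algebra.smul_def]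
      rfl
    · intro m hm
      obtain ⟨x, rfl⟩ := Ideal.Quotient.mk_surjective m
      have hx : x.fst ∈ I := Ideal.Quotient.eq_zero_iff_mem.1 hm
      obtain ⟨b, hb⟩ := Ideal.Quotient.mk_surjective (φ ⟨x.fst, hx⟩)
      refine ⟨Ideal.Quotient.mk _ (TrivSqZeroExt.inl (x.snd - b)), Ideal.Quotient.eq.2 ?_⟩
      change x - algebraMap (DualNumber A) (DualNumber R) DualNumber.eps * _ ∈ _
      rw [hε]
      refine ⟨by simpa using hx, ?_⟩
      simp [DualNumber.snd_mul, hb]
    · intro m hm
      obtain ⟨x, rfl⟩ := Ideal.Quotient.mk_surjective m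
      obtain ⟨h, h'⟩ : algebraMap (DualNumber A) (DualNumber R) DualNumber.eps * x ∈
          W4c6puncthilbintro.liftIdeal I φ := Ideal.Quotient.eq_zero_iff_mem.1 hm
      simp only [hε] at h h'
      refine Ideal.Quotient.eq_zero_iff_mem.2 ?_
      have e0 : (⟨_, h⟩ : I) = 0 := Subtype.ext (by simp)
      rw [e0, map_zero, DualNumber.snd_mul] at h'
      simpa using Ideal.Quotient.eq_zero_iff_mem.1 h'
  · intro φ ψ h
    ext a
    obtain ⟨b, hb⟩ := Ideal.Quotient.mk_surjective (φ a)
    have : ((a.1, b) : DualNumber R) ∈ W4c6puncthilbintro.liftIdeal I φ := ⟨a.2, hb⟩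
    rw [h] at this
    obtain ⟨_, h'⟩ := this
    exact hb.symm.trans h'
  · intro J hflat hJ
    have hmem : ∀ x ∈ J, x.fst ∈ I := fun x hx => hJ ▸ Ideal.mem_map_of_mem _ hx
    have hex : ∀ a ∈ I, ∃ x ∈ J, x.fst = a := by
      intro a ha
      rw [← hJ] at ha
      obtain ⟨x, hx, hxa⟩ := (Ideal.mem_map_iff_of_surjective
        (TrivSqZeroExt.fstHom A R R : DualNumber R →ₐ[A] R)
        (fun r => ⟨TrivSqZeroExt.inl r, rfl⟩)).1 ha
      exact ⟨x, hx, hxa⟩
    have hkey : ∀ x ∈ J, x.fst = 0 → x.snd ∈ I := by
      intro x hx h0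
      have hε' : (DualNumber.eps : DualNumber A) •
          (Ideal.Quotient.mk J (TrivSqZeroExt.inl x.snd)) = 0 := by
        refine Ideal.Quotient.eq_zero_iff_mem.2 ?_
        change algebraMap (DualNumber A) (DualNumber R) DualNumber.eps * _ ∈ J
        rw [hε]
        convert hx using 1
        ext <;> simp [DualNumber.snd_mul, h0]
      obtain ⟨k, a, y, hy, ha⟩ := Module.Flat.isTrivialRelation_of_sum_smul_eq_zero
        (ι := Unit) (f := fun _ => (DualNumber.eps : DualNumber A))
        (x := fun _ => Ideal.Quotient.mk J (TrivSqZeroExt.inl x.snd)) (by simpa using hε')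
      have ha0 : ∀ j, (a () j).fst = 0 := fun j => by
        have := congr(TrivSqZeroExt.snd $(ha j))
        simpa [DualNumber.snd_mul] using this
      choose y' hy' using fun j => Ideal.Quotient.mk_surjective (y j)
      have hm : TrivSqZeroExt.inl x.snd -
          ∑ j, algebraMap (DualNumber A) (DualNumber R) (a () j) * y' j ∈ J := by
        refine Ideal.Quotient.eq.1 ((hy ()).trans ?_)
        rw [map_sum]
        refine Finset.sum_congr rfl fun j _ => ?_
        rw [← hy']
        rfl
      simpa [TrivSqZeroExt.fst_sum, hfst, ha0] using hmem _ hm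
    have hwd : ∀ x ∈ J, ∀ y ∈ J, x.fst = y.fst →
        Ideal.Quotient.mk I x.snd = Ideal.Quotient.mk I y.snd := fun x hx y hy h =>
      Ideal.Quotient.eq.2 (by simpa using hkey _ (J.sub_mem hx hy) (by simp [h]))
    choose g hg hg' using hex
    let φ : I →ₗ[R] R ⧸ I :=
    { toFun := fun a => Ideal.Quotient.mk I (g a.1 a.2).snd
      map_add' := fun a b => by
        rw [← map_add, ← TrivSqZeroExt.snd_add]
        exact hwd _ (hg _ _) _ (J.add_mem (hg _ _) (hg _ _)) (by simp [hg'])
      map_smul' := fun r a => by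
        simp only [RingHom.id_apply]
        rw [Algebra.smul_def, Ideal.Quotient.algebraMap_eq, ← map_mul]
        refine (hwd _ (hg _ _) _ (J.mul_mem_left (TrivSqZeroExt.inl r) (hg _ a.2))
          (by simp [hg'])).trans ?_
        simp [DualNumber.snd_mul] }
    have hsub : ∀ x ∈ J, ∃ h : x.fst ∈ I, Ideal.Quotient.mk I x.snd = φ ⟨x.fst, h⟩ := fun x hx =>
      ⟨hmem x hx, hwd _ hx _ (hg _ _) (hg' _ _).symm⟩
    refine ⟨φ, le_antisymm hsub ?_⟩
    rintro x ⟨h, h'⟩
    have hd : x.snd - (g x.fst h).snd ∈ I := Ideal.Quotient.eq.1 h'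
    have := J.add_mem (hg x.fst h) (J.mul_mem_left DualNumber.eps (hg _ hd))
    convert this using 1
    ext
    · simp [hg']
    · simp [DualNumber.snd_mul, hg']

end Groth.Agent.S19452
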