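import Groth.Statements.S19453
import Mathlib

set_option autoImplicit false
universe u
open CAlg

namespace Groth.Agent.S19453

/-- Converse direction: let k be a field, A a regular local k-algebra of Krull dimension 2 with maximal
ideal M and residue field k, and I an ideal with A/I of finite dimension n ≥ 1 over k. If some
element of I does not lie in M^2, then A/I is isomorphic as a k-algebra to k[x]/(x^n): a cluster
lying on a smooth curve germ of a smooth surface is curvilinear, with coordinate ring generated by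
one element. -/
theorem result (k : Type u) [Field k]
    (A : Type u) [CommRing A] [Algebra k A] [IsRegularLocalRing A] (hdim : ringKrullDim A = 2)
    (hres : Function.Surjective (algebraMap k (IsLocalRing.ResidueField A)))
    (I : Ideal A) [Module.Finite k (A ⧸ I)] (n : ℕ) (hn : Module.finrank k (A ⧸ I) = n) (h1 : 1 ≤ n)
    (g : A) (hgI : g ∈ I) (hg : g ∉ IsLocalRing.maximalIdeal A ^ 2) :
    Nonempty ((A ⧸ I) ≃ₐ[k] (Polynomial k ⧸ Ideal.span {(Polynomial.X : Polynomial k) ^ n})) := by
  open IsLocalRing in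
  haveI hntI : Nontrivial (A ⧸ I) := Module.nontrivial_of_finrank_pos (R := k) (by omega)
  have hI : I ≠ ⊤ := Ideal.Quotient.nontrivial_iff.mp hntI
  have hIm : I ≤ IsLocalRing.maximalIdeal A := IsLocalRing.le_maximalIdeal hI
  have hfr : Module.finrank (IsLocalRing.ResidueField A) (IsLocalRing.CotangentSpace A) = 2 := by
    have h := (IsRegularLocalRing.iff_finrank_cotangentSpace A).mp (inferInstance : IsRegularLocalRing A)
    rw [hdim] at h
    exact_mod_cast h
  -- a complement t of g in the cotangent space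
  have hsmul : ∀ (a : A) (x : IsLocalRing.maximalIdeal A),
      IsLocalRing.residue A a • (IsLocalRing.maximalIdeal A).toCotangent x =
        (IsLocalRing.maximalIdeal A).toCotangent (a • x) := fun a x => by
    rw [map_smul]; rfl
  set gc : IsLocalRing.CotangentSpace A := (IsLocalRing.maximalIdeal A).toCotangent ⟨g, hIm hgI⟩
  have hgc : gc ≠ 0 := fun h => hg ((Ideal.toCotangent_eq_zero _ _).mp h)
  have hnesp : Submodule.span (IsLocalRing.ResidueField A) {gc} ≠ ⊤ := by
    intro h
    have h2 := finrank_span_singleton (K := IsLocalRing.ResidueField A) hgc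
    rw [h, finrank_top, hfr] at h2
    omega
  obtain ⟨w, hw⟩ : ∃ w, w ∉ Submodule.span (IsLocalRing.ResidueField A) {gc} := by
    by_contra hc
    exact hnesp (eq_top_iff.mpr fun x _ => not_not.mp (not_exists.mp hc x))
  obtain ⟨⟨t, ht⟩, rfl⟩ := (IsLocalRing.maximalIdeal A).toCotangent_surjective w
  set tc : IsLocalRing.CotangentSpace A := (IsLocalRing.maximalIdeal A).toCotangent ⟨t, ht⟩
  have hli : LinearIndependent (IsLocalRing.ResidueField A) ![gc, tc] := by
    rw [LinearIndependent.pair_iff' hgc]
    intro a ha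
    exact hw (ha ▸ Submodule.smul_mem _ a (Submodule.mem_span_singleton_self _))
  have hspan : Submodule.span (IsLocalRing.ResidueField A) (Set.range ![gc, tc]) = ⊤ :=
    hli.span_eq_top_of_card_eq_finrank (by simp [hfr])
  have hmax : IsLocalRing.maximalIdeal A = Ideal.span {g, t} := by
    have h := (IsLocalRing.CotangentSpace.span_image_eq_top_iff
      (s := ({⟨g, hIm hgI⟩, ⟨t, ht⟩} : Set (IsLocalRing.maximalIdeal A)))).mp (by
      rw [eq_top_iff, ← hspan]; refine Submodule.span_mono ?_
      rintro _ ⟨i, rfl⟩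
      fin_cases i <;> simp [gc, tc, Set.image_pair])
    have h2 := congrArg (Submodule.map (IsLocalRing.maximalIdeal A).subtype) h
    rw [Submodule.map_top, Submodule.range_subtype, Submodule.map_span, Set.image_pair] at h2
    exact h2.symm
  set τ : A ⧸ I := Ideal.Quotient.mk I t with hτ
  have hdec : ∀ y : A ⧸ I, ∃ (c : k) (z : A ⧸ I), y = algebraMap k _ c + τ * z := by
    intro y
    obtain ⟨a, rfl⟩ := Ideal.Quotient.mk_surjective y
    obtain ⟨c, hc⟩ := hres (IsLocalRing.residue A a)
    have hmem : a - algebraMap k A c ∈ IsLocalRing.maximalIdeal A := by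
      rw [← IsLocalRing.residue_eq_zero_iff, map_sub, sub_eq_zero, ← hc]; rfl
    rw [hmax, Ideal.mem_span_pair] at hmem
    obtain ⟨r, s, hrs⟩ := hmem
    refine ⟨c, Ideal.Quotient.mk I s, ?_⟩
    rw [hτ, ← map_mul, ← Ideal.Quotient.mk_algebraMap, ← map_add, Ideal.Quotient.eq]
    have : a - (algebraMap k A c + t * s) = r * g := by linear_combination -hrs
    rw [this]; exact I.mul_mem_left r hgI
  haveI : IsArtinianRing (A ⧸ I) := isArtinian_of_tower k inferInstance
  have hnil : IsNilpotent τ := by
    haveI := IsLocalRing.of_surjective' (Ideal.Quotient.mk I) Ideal.Quotient.mk_surjective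
    obtain ⟨N, hN⟩ := IsArtinianRing.isNilpotent_jacobson_bot (R := A ⧸ I)
    suffices hmem : τ ∈ Ideal.jacobson (⊥ : Ideal (A ⧸ I)) from
      ⟨N, by have h := Ideal.pow_mem_pow hmem N; rwa [hN] at h⟩
    rw [IsLocalRing.jacobson_eq_maximalIdeal _ bot_ne_top, IsLocalRing.mem_maximalIdeal, mem_nonunits_iff]
    rintro ⟨u, hu⟩
    obtain ⟨v, hv⟩ := Ideal.Quotient.mk_surjective ((u⁻¹ : (A ⧸ I)ˣ) : A ⧸ I)
    have h1 : t * v - 1 ∈ IsLocalRing.maximalIdeal A := hIm (by
      rw [← Ideal.Quotient.eq_zero_iff_mem, map_sub, map_mul, map_one, hv, ← hτ, ← hu, Units.mul_inv, sub_self])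
    have h2 : (1 : A) ∈ IsLocalRing.maximalIdeal A := by
      have := sub_mem (Ideal.mul_mem_right v _ ht) h1; rwa [sub_sub_cancel] at this
    exact (IsLocalRing.maximalIdeal.isMaximal A).ne_top ((Ideal.eq_top_iff_one _).mpr h2)
  let φ := Polynomial.aeval (R := k) τ
  have hsurjN : ∀ (N : ℕ) (y : A ⧸ I), ∃ (q : Polynomial k) (z : A ⧸ I), y = φ q + τ ^ N * z := by
    intro N
    induction N with
    | zero => exact fun y => ⟨0, y, by simp⟩
    | succ N ih =>
      intro y
      obtain ⟨q, z, rfl⟩ := ih y
      obtain ⟨c, z', rfl⟩ := hdec z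
      refine ⟨q + Polynomial.C c * Polynomial.X ^ N, z', ?_⟩
      simp [φ, pow_succ]; ring
  have hsurj : Function.Surjective φ := by
    intro y
    obtain ⟨N, hN⟩ := hnil
    obtain ⟨q, z, hqz⟩ := hsurjN N y
    exact ⟨q, by rw [hqz, hN, zero_mul, add_zero]⟩
  -- the kernel is (X^n)
  have hker : RingHom.ker φ.toRingHom = Ideal.span {(Polynomial.X : Polynomial k) ^ n} := by
    obtain ⟨N, hN⟩ := hnil
    have hX : (Polynomial.X : Polynomial k) ^ N ∈ RingHom.ker φ.toRingHom := by
      simp [RingHom.mem_ker, φ, hN]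
    obtain ⟨q, hq⟩ := IsPrincipalIdealRing.principal (RingHom.ker φ.toRingHom)
    change _ = Ideal.span {q} at hq
    rw [hq, Ideal.mem_span_singleton] at hX
    obtain ⟨i, hi, hassoc⟩ := (dvd_prime_pow Polynomial.prime_X N).mp hX
    have heq : RingHom.ker φ.toRingHom = Ideal.span {(Polynomial.X : Polynomial k) ^ i} := by
      rw [hq, Ideal.span_singleton_eq_span_singleton.mpr hassoc]
    have e := Ideal.quotientKerAlgEquivOfSurjective hsurj
    have hfin : Module.finrank k (Polynomial k ⧸ Ideal.span {(Polynomial.X : Polynomial k) ^ i}) = i := by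
      rw [finrank_quotient_span_eq_natDegree, Polynomial.natDegree_X_pow]
    have : i = n := by
      rw [← hn, ← hfin, ← e.toLinearEquiv.finrank_eq]
      exact congrArg (fun J : Ideal (Polynomial k) => Module.finrank k (Polynomial k ⧸ J)) heq.symm
    rw [heq, this]
  exact ⟨((Ideal.quotientKerAlgEquivOfSurjective hsurj).symm.trans (Ideal.quotientEquivAlgOfEq k hker))⟩

end Groth.Agent.S19453
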