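import Groth.Statements.S19457
import Groth.Agent.Lib.MeroLib.Integral

set_option autoImplicit false
set_option backward.isDefEq.respectTransparency false
universe u
open CategoryTheory CategoryTheory.Limits AlgebraicGeometry TopologicalSpace Opposite
open PicF2

namespace Groth.Agent.S19457

open Groth.Agent

variable {X : Scheme.{u}} [AlgebraicGeometry.IsIntegral X] {L : X.Modules}

theorem ring_ext {V : X.Opens} (a b : Γ(X, V)) (h : ∀ y (hy : y ∈ V), X.presheaf.germ V y hy a = X.presheaf.germ V y hy b) :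
    a = b :=
  TopCat.Presheaf.section_ext X.sheaf V a b h

/-- A function killing a nonzero section of an invertible module vanishes. -/
theorem smul_inj (hL : PicF.IsInvertible L) (s : Coh.structureModule X ⟶ L) (hs : s ≠ 0) {V : X.Opens}
    {a b : Γ(X, V)} (h : a • MeroLib.sval L s V = b • MeroLib.sval L s V) : a = b := by
  refine ring_ext a b fun y hy => ?_
  obtain ⟨U, hyU, ⟨i⟩⟩ := hL y
  obtain ⟨e, he⟩ := M2.exists_generator i
  obtain ⟨c, hc⟩ := MeroLib.exists_coeff s e he
  have h1 := congrArg (L.presheaf.germ V y hy) h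
  rw [M1.germ_smul, M1.germ_smul, MeroLib.germ_sval s hy, ← MeroLib.germ_sval s hyU, hc, M1.germ_smul,
    ← mul_smul, ← mul_smul] at h1
  rw [← sub_eq_zero, ← sub_smul, ← sub_mul] at h1
  refine sub_eq_zero.1 ((mul_eq_zero.1 (MeroLib.smul_germ_cancel e he hyU _ h1)).resolve_right fun h0 => ?_)
  refine hs (MeroLib.eq_zero_of_coeff s hL hyU ?_)
  rw [hc, show c = 0 from germ_injective_of_isIntegral X y hyU (h0.trans (map_zero _).symm), zero_smul]

theorem exists_unit_local (hL : PicF.IsInvertible L) (s s' : Coh.structureModule X ⟶ L) (hs : s ≠ 0)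
    (h : PicF2.zeroScheme L s' = PicF2.zeroScheme L s) (x : X) :
    ∃ (W : X.Opens) (_ : x ∈ W) (u : Γ(X, W)), IsUnit u ∧
      MeroLib.sval L s' W = u • MeroLib.sval L s W := by
  obtain ⟨U, hx, ⟨i⟩⟩ := hL x
  obtain ⟨W, hW, hxW, hWU⟩ := exists_isAffineOpen_mem_and_subset (U := U) hx
  obtain ⟨e, he⟩ := M2.exists_generator i
  let e' := M1.mres L hWU e
  have he' : M2.IsGenerator e' := fun V hV => by
    have : (fun r : Γ(X, V) => r • M2.res L hV e') = fun r => r • M2.res L (hV.trans hWU) e := by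
      funext r
      change r • M1.mres L hV (M1.mres L hWU e) = r • M1.mres L (hV.trans hWU) e
      rw [M1.mres_mres]
    rw [this]
    exact he V (hV.trans hWU)
  have hbij : Function.Bijective fun r : Γ(X, W) => r • e' := by
    have := he' W le_rfl
    rwa [show M2.res L (le_refl W) e' = e' from M1.mres_id _ _ _] at this
  obtain ⟨c, hc⟩ := MeroLib.exists_coeff s e' he'
  obtain ⟨c', hc'⟩ := MeroLib.exists_coeff s' e' he'
  haveI : Nonempty W := ⟨⟨x, hxW⟩⟩
  have hI := congrArg (fun J : X.IdealSheafData => J.ideal ⟨W, hW⟩) h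
  simp only [MeroLib.zeroScheme_ideal _ _ hL, MeroLib.zI_eq_span L _ e' hbij _ hc,
    MeroLib.zI_eq_span L _ e' hbij _ hc'] at hI
  obtain ⟨u, hu⟩ := Ideal.span_singleton_eq_span_singleton.1 hI.symm
  refine ⟨W, hxW, u, u.isUnit, ?_⟩
  rw [hc, hc', ← hu, ← mul_smul, mul_comm c]


/-- Let X be an integral scheme, L an invertible O_X-module and s, s' two nonzero global sections of L,
given as nonzero morphisms O_X → L. Then the zero schemes Z(s') and Z(s) are equal (as
quasi-coherent ideal sheaves of O_X, that is, as effective Cartier divisors) if and only if s' = h ·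
s for some unit h of the ring of global functions Γ(X, O_X). (The published statement is for an
irreducible variety over an algebraically closed field; this row states it for an arbitrary integral
scheme.) -/
theorem result (X : Scheme.{u}) [AlgebraicGeometry.IsIntegral X]
    (L : X.Modules) (hL : PicF.IsInvertible L) (s s' : Coh.structureModule X ⟶ L) (hs : s ≠ 0) (hs' : s' ≠ 0) :
    PicF2.zeroScheme L s' = PicF2.zeroScheme L s ↔
      ∃ h : Γ(X, ⊤), IsUnit h ∧ (SecTwist.val s' ⊤ : Γ(L, ⊤)) = h • (SecTwist.val s ⊤ : Γ(L, ⊤)) := by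
  constructor
  · intro h
    choose W hxW u hu hsv using exists_unit_local hL s s' hs h
    have hcov : (⊤ : X.Opens) ≤ iSup W := fun x _ => Opens.mem_iSup.2 ⟨x, hxW x⟩
    have hcomp : TopCat.Presheaf.IsCompatible X.sheaf.1 W u := by
      intro x y
      refine smul_inj hL s hs ?_
      change M1.ores (inf_le_left : W x ⊓ W y ≤ W x) (u x) • _ = M1.ores (inf_le_right : W x ⊓ W y ≤ W y) (u y) • _
      have h1 := congrArg (M1.mres L (inf_le_left : W x ⊓ W y ≤ W x)) (hsv x)
      have h2 := congrArg (M1.mres L (inf_le_right : W x ⊓ W y ≤ W y)) (hsv y)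
      rw [M1.mres_smul, MeroLib.mres_sval, MeroLib.mres_sval] at h1 h2
      exact h1.symm.trans h2
    obtain ⟨(g : Γ(X, ⊤)), hg, -⟩ := X.sheaf.existsUnique_gluing' W ⊤ (fun x => homOfLE le_top) hcov u hcomp
    refine ⟨g, ?_, ?_⟩
    · refine X.toRingedSpace.isUnit_of_isUnit_germ ⊤ g fun x _ => ?_
      have := (hu x).map (X.presheaf.germ (W x) x (hxW x)).hom
      rw [← hg x] at this
      erw [TopCat.Presheaf.germ_res_apply] at this
      exact this
    · change MeroLib.sval L s' ⊤ = g • MeroLib.sval L s ⊤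
      refine M1.section_ext _ _ fun x hx => ?_
      have hgx : X.presheaf.germ (W x) x (hxW x) (u x) = X.presheaf.germ ⊤ x hx g := by
        rw [← hg x]
        erw [TopCat.Presheaf.germ_res_apply]
      rw [M1.germ_smul, ← MeroLib.germ_sval s (hxW x), ← MeroLib.germ_sval s' (hxW x), hsv x, M1.germ_smul, hgx]
  · rintro ⟨g, hg, h⟩
    replace h : MeroLib.sval L s' ⊤ = g • MeroLib.sval L s ⊤ := h
    ext U : 2
    rw [MeroLib.zeroScheme_ideal _ _ hL, MeroLib.zeroScheme_ideal _ _ hL]
    obtain ⟨w, hw⟩ := hg.map (M1.ores (le_top : U.1 ≤ ⊤)).hom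
    have h1 := congrArg (M1.mres L (le_top : U.1 ≤ ⊤)) h
    rw [M1.mres_smul, MeroLib.mres_sval, MeroLib.mres_sval] at h1
    ext a
    rw [MeroLib.mem_zI, MeroLib.mem_zI]
    refine ⟨fun H m => ?_, fun H m => ?_⟩
    · obtain ⟨b, hb⟩ := H m
      exact ⟨b * (M1.ores (le_top : U.1 ≤ ⊤)) g, by rw [hb, h1, mul_smul]⟩
    · obtain ⟨b, hb⟩ := H m
      refine ⟨b * (↑w⁻¹ : Γ(X, U.1)), ?_⟩
      rw [h1, ← mul_smul, mul_assoc, show (M1.ores (le_top : U.1 ≤ ⊤)) g = w from hw.symm, Units.inv_mul, mul_one]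
      exact hb

end Groth.Agent.S19457
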