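import Groth.Statements.S19458
import Groth.Agent.Lib.MeroLib.Integral

set_option autoImplicit false
universe u
open CategoryTheory CategoryTheory.Limits AlgebraicGeometry TopologicalSpace Opposite
open Mero

namespace Groth.Agent.S19458

/-- Let X be an integral scheme, L an invertible O_X-module and D an effective Cartier divisor on X (a
global section of the sheaf of units of K_X modulo units of O_X whose germ at every point is the
class of a germ of a regular function) such that O_X(D) is isomorphic to L. Then there is a nonzero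
global section s of L, given as a nonzero morphism O_X → L, whose zero scheme Z(s) is D: around
every point of X, on some affine open neighbourhood, the ideal of Z(s) is generated by a regular
function whose classes are the germs of D there. (The published statement is for an irreducible
variety over an algebraically closed field; this row states it for an arbitrary integral scheme.) -/
theorem result (X : Scheme.{u}) [AlgebraicGeometry.IsIntegral X]
    (L : X.Modules) (hL : PicF.IsInvertible L) (D : Mero.Divisor X) (hD : Mero.IsEffective D)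
    (e : L ≅ Mero.divMod D) :
    ∃ s : Coh.structureModule X ⟶ L, s ≠ 0 ∧ Mero.IsDivOfIdeal D (PicF2.zeroScheme L s) := by
  classical
  have hone : ∀ x : (⊤ : X.Opens), Mero.DivCond D x.1 ((1 : Γ(Mero.kmod X, (⊤ : X.Opens))).1 x) := fun x g hg => by
    obtain ⟨a, ha⟩ := hD x.1
    rw [ha] at hg
    have h1 : QuotientGroup.mk (IsLocalization.map_units (Mero.KStalk X x.1) a).unit = (QuotientGroup.mk g : Mero.Germ X x.1) := hg
    rw [QuotientGroup.eq] at h1
    obtain ⟨w, hw⟩ := h1
    refine ⟨(a : X.presheaf.stalk x.1) * w, ?_⟩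
    rw [map_mul, Mero.kmod_one_apply, one_mul]
    have h2 : algebraMap (X.presheaf.stalk x.1) (Mero.KStalk X x.1) w =
        ((IsLocalization.map_units (Mero.KStalk X x.1) a).unit⁻¹ * g : (Mero.KStalk X x.1)ˣ) := congrArg Units.val hw
    rw [h2, Units.val_mul, ← mul_assoc, IsUnit.mul_val_inv, one_mul]
  let one' : Γ(Mero.divMod D, (⊤ : X.Opens)) :=
    ⟨(1 : Γ(Mero.kmod X, (⊤ : X.Opens))).1, (1 : Γ(Mero.kmod X, (⊤ : X.Opens))).2, hone⟩
  let s : Coh.structureModule X ⟶ L := Groth.Agent.M1.secHom (e.inv.app ⊤ one')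
  have hval : ∀ U : X.Opens, e.hom.app U (Groth.Agent.MeroLib.sval L s U) =
      Groth.Agent.M1.mres (Mero.divMod D) (le_top : U ≤ ⊤) one' := by
    intro U
    have h1 : Groth.Agent.MeroLib.sval L s U = (1 : Γ(X, U)) • Groth.Agent.M1.mres L (le_top : U ≤ ⊤) (e.inv.app ⊤ one') :=
      Groth.Agent.Twist.secHom_app _ U 1
    have h3 : e.hom.app ⊤ (e.inv.app ⊤ one') = one' :=
      ConcreteCategory.congr_hom (congrArg (fun φ : Mero.divMod D ⟶ Mero.divMod D => φ.app ⊤) e.inv_hom_id) one'
    rw [h1, one_smul, Groth.Agent.M1.app_mres, h3]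
  have hs : s ≠ 0 := by
    intro h0
    obtain ⟨x⟩ := (inferInstance : Nonempty X)
    have h1 := hval ⊤
    rw [show Groth.Agent.MeroLib.sval L s ⊤ = 0 by rw [h0]; rfl, map_zero] at h1
    have h2 := congrFun (congrArg Subtype.val h1) ⟨x, TopologicalSpace.Opens.mem_top x⟩
    exact zero_ne_one (α := Mero.KStalk X x) h2
  refine ⟨s, hs, ?_⟩
  suffices h : (Groth.Agent.MeroLib.regSec s hL hs).divisor = D from
    h ▸ Groth.Agent.MeroLib.isDivOfIdeal s hL hs
  refine Subtype.ext (funext fun x => ?_)
  obtain ⟨U, hxU, g, hU⟩ := D.2 x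
  let e' : Γ(L, U) := e.inv.app U (Groth.Agent.MeroLib.genSec D g hU)
  have he' : Groth.Agent.M2.IsGenerator e' := fun V hV => by
    have hb : Function.Bijective (e.inv.app V) :=
      (ConcreteCategory.isIso_iff_bijective _).1 inferInstance
    have := hb.comp (Groth.Agent.MeroLib.genSec_bijective D g hU V hV)
    refine (congrArg Function.Bijective (funext fun r => ?_)).mp this
    change e.inv.app V (r • Groth.Agent.M1.mres (Mero.divMod D) hV (Groth.Agent.MeroLib.genSec D g hU)) =
      r • Groth.Agent.M1.mres L hV e'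
    rw [AlgebraicGeometry.Scheme.Modules.Hom.app_smul, Groth.Agent.M1.app_mres]
  obtain ⟨r, hr⟩ := (Groth.Agent.MeroLib.genSec_bijective D g hU U le_rfl).2
    (Groth.Agent.M1.mres (Mero.divMod D) (le_top : U ≤ ⊤) one')
  have hr' : Groth.Agent.MeroLib.sval L s U = r • e' := by
    have h4 : ∀ t, e.inv.app U (e.hom.app U t) = t := fun t =>
      ConcreteCategory.congr_hom (congrArg (fun φ : L ⟶ L => φ.app U) e.hom_inv_id) t
    rw [← h4 (Groth.Agent.MeroLib.sval L s U), hval U, ← hr]
    change e.inv.app U (r • Groth.Agent.M1.mres (Mero.divMod D) le_rfl (Groth.Agent.MeroLib.genSec D g hU)) = _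
    rw [Groth.Agent.M1.mres_id, AlgebraicGeometry.Scheme.Modules.Hom.app_smul]
  let C : (Groth.Agent.MeroLib.regSec s hL hs).Chart := ⟨U, e', g, he', fun y => by
    change Groth.Agent.MeroLib.inK _ = _
    rw [← Groth.Agent.MeroLib.germ_sval s y.2, hr', Groth.Agent.M1.germ_smul, Groth.Agent.MeroLib.inK_smul]
    congr 1
    have h5 := congrFun (congrArg Subtype.val hr) y
    change (X.presheaf.germ U y.1 y.2 r • ((Groth.Agent.MeroLib.unitAt g⁻¹ y : (Mero.KStalk X y.1)ˣ) : Mero.KStalk X y.1)) = 1 at h5
    rw [Algebra.smul_def, Groth.Agent.MeroLib.unitAt, map_inv] at h5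
    calc algebraMap _ (Mero.KStalk X y.1) (X.presheaf.germ U y.1 y.2 r)
        = algebraMap _ (Mero.KStalk X y.1) (X.presheaf.germ U y.1 y.2 r) *
            (((Groth.Agent.MeroLib.unitAt g y)⁻¹ : (Mero.KStalk X y.1)ˣ) : Mero.KStalk X y.1) *
            Groth.Agent.MeroLib.unitAt g y := (Units.inv_mul_cancel_right _ _).symm
      _ = _ := (congrArg (· * _) h5).trans (one_mul _)⟩
  exact ((Groth.Agent.MeroLib.regSec s hL hs).divisor_eq C ⟨x, hxU⟩).trans (hU ⟨x, hxU⟩).symm

end Groth.Agent.S19458
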