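import Groth.Statements.S19459
import Groth.Agent.Lib.MeroLib.Unique
import Groth.Agent.Lib.MeroLib.Tensor

set_option autoImplicit false
universe u
open CategoryTheory CategoryTheory.Limits AlgebraicGeometry TopologicalSpace Opposite
open Mero

namespace Groth.Agent.S19459

/-- Let X be an integral scheme, L₁ and L₂ invertible O_X-modules with nonzero global sections s₁ and s₂
(nonzero morphisms O_X → L₁ and O_X → L₂), and let D₁, D₂ be the effective Cartier divisors of the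
zero schemes Z(s₁), Z(s₂): divisors on X (global sections of the sheaf of units of K_X modulo units
of O_X) which around every point, on some affine open neighbourhood, are the class of a regular
function generating the ideal of the zero scheme. Then the divisor D₁ · D₂ (multiplicative notation
for the sum D₁ + D₂) is in the same sense the effective Cartier divisor of the zero scheme of the
global section s₁ ⊗ s₂ of the tensor product L₁ ⊗ L₂; that is, Z(s₁ ⊗ s₂) = Z(s₁) + Z(s₂). (The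
published statement is for an irreducible variety over an algebraically closed field; this row
states it for an arbitrary integral scheme.) -/
theorem result (X : Scheme.{u}) [AlgebraicGeometry.IsIntegral X]
    (L₁ L₂ : X.Modules) (hL₁ : PicF.IsInvertible L₁) (hL₂ : PicF.IsInvertible L₂)
    (s₁ : Coh.structureModule X ⟶ L₁) (s₂ : Coh.structureModule X ⟶ L₂) (hs₁ : s₁ ≠ 0) (hs₂ : s₂ ≠ 0)
    (D₁ D₂ : Mero.Divisor X) (hD₁ : Mero.IsDivOfIdeal D₁ (PicF2.zeroScheme L₁ s₁))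
    (hD₂ : Mero.IsDivOfIdeal D₂ (PicF2.zeroScheme L₂ s₂)) :
    Mero.IsDivOfIdeal (D₁ * D₂) (PicF2.zeroScheme (CohB1.tensorMod L₁ L₂) (SecTwist.tmulHom s₁ s₂)) := by
  have h1 := Groth.Agent.MeroLib.eq_of_isDivOfIdeal hD₁ (Groth.Agent.MeroLib.isDivOfIdeal s₁ hL₁ hs₁)
  have h2 := Groth.Agent.MeroLib.eq_of_isDivOfIdeal hD₂ (Groth.Agent.MeroLib.isDivOfIdeal s₂ hL₂ hs₂)
  subst h1; subst h2
  set S₁ := Groth.Agent.MeroLib.regSec s₁ hL₁ hs₁
  set S₂ := Groth.Agent.MeroLib.regSec s₂ hL₂ hs₂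
  haveI := S₁.isIso_hom
  haveI := S₂.isIso_hom
  haveI := Groth.Agent.MeroLib.isIso_mulMor S₁.divisor S₂.divisor
  let e : CohB1.tensorMod L₁ L₂ ≅ Mero.divMod (S₁.divisor * S₂.divisor) :=
    Groth.Agent.M2.tensorIso (CategoryTheory.asIso S₁.hom) (CategoryTheory.asIso S₂.hom) ≪≫
      CategoryTheory.asIso (Groth.Agent.MeroLib.mulMor S₁.divisor S₂.divisor)
  have hone : ∀ x : (⊤ : X.Opens), (Groth.Agent.MeroLib.toKm (e.hom.app ⊤
      (Groth.Agent.MeroLib.sval (CohB1.tensorMod L₁ L₂) (SecTwist.tmulHom s₁ s₂) ⊤))).1 x = 1 := by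
    intro x
    have hv : Groth.Agent.MeroLib.sval (CohB1.tensorMod L₁ L₂) (SecTwist.tmulHom s₁ s₂) ⊤ =
        Groth.Agent.M2.tsec L₁ L₂ (Groth.Agent.MeroLib.sval L₁ s₁ ⊤) (Groth.Agent.MeroLib.sval L₂ s₂ ⊤) :=
      SecTwist.val_tmulHom s₁ s₂ ⊤
    have h3 : e.hom.app ⊤ (Groth.Agent.M2.tsec L₁ L₂ (Groth.Agent.MeroLib.sval L₁ s₁ ⊤) (Groth.Agent.MeroLib.sval L₂ s₂ ⊤)) =
        (Groth.Agent.MeroLib.mulMor S₁.divisor S₂.divisor).app ⊤ (Groth.Agent.M2.tsec _ _
          (S₁.hom.app ⊤ (Groth.Agent.MeroLib.sval L₁ s₁ ⊤)) (S₂.hom.app ⊤ (Groth.Agent.MeroLib.sval L₂ s₂ ⊤))) :=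
      congrArg ((Groth.Agent.MeroLib.mulMor S₁.divisor S₂.divisor).app ⊤)
        (Groth.Agent.M2.tensorMap_tsec S₁.hom S₂.hom _ _)
    rw [hv, h3, Groth.Agent.MeroLib.mulMor_tsec, Mero.kmod_mul_apply]
    change S₁.quot x.1 _ * S₂.quot x.1 _ = 1
    rw [S₁.quot_eq (q := 1) (one_smul _ _), S₂.quot_eq (q := 1) (one_smul _ _), one_mul]
  have hs : SecTwist.tmulHom s₁ s₂ ≠ 0 := by
    intro h0
    obtain ⟨x⟩ := (inferInstance : Nonempty X)
    have h4 := hone ⟨x, TopologicalSpace.Opens.mem_top x⟩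
    rw [show Groth.Agent.MeroLib.sval (CohB1.tensorMod L₁ L₂) (SecTwist.tmulHom s₁ s₂) ⊤ = 0 by rw [h0]; rfl,
      map_zero] at h4
    exact zero_ne_one (α := Mero.KStalk X x) h4
  have hinv := Groth.Agent.M2.isInvertible_tensor hL₁ hL₂
  exact Groth.Agent.MeroLib.divisor_of_iso _ hinv hs _ e hone ▸ Groth.Agent.MeroLib.isDivOfIdeal _ hinv hs

end Groth.Agent.S19459
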