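import Groth.Statements.S19462
import Mathlib.RingTheory.Nakayama
import Mathlib.LinearAlgebra.Basis.Basic
import Mathlib.LinearAlgebra.StdBasis

set_option autoImplicit false
universe u
open GrNak

namespace Groth.Agent.S19462

/-- Let k be a field and R a commutative ℤ-graded k-algebra whose pieces of negative degree vanish and
whose degree-zero piece is the image of k, and let M be a finitely generated ℤ-graded R-module,
graded compatibly with R. Then M is a projective R-module if and only if M has an R-basis consisting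
of homogeneous elements, i.e. M is a free graded module. (The published statement takes R a graded
quotient of a polynomial ring k[x_0, …, x_n] with its standard grading; stated here for any
commutative graded k-algebra concentrated in non-negative degrees with degree-zero part k, to which
the same graded-Nakayama argument applies.) -/
theorem result {k : Type u} [Field k] {R : Type u} [CommRing R] [Algebra k R]
    {σ : Type u} [SetLike σ R] [AddSubmonoidClass σ R] (𝒜 : ℤ → σ) [GradedRing 𝒜]
    (hneg : ∀ i : ℤ, i < 0 → ∀ x ∈ 𝒜 i, x = 0)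
    (hk : ∀ c : k, algebraMap k R c ∈ 𝒜 0) (h0 : ∀ x ∈ 𝒜 0, ∃ c : k, algebraMap k R c = x)
    {M : Type u} [AddCommGroup M] [Module R M] [Module.Finite R M]
    {τ : Type u} [SetLike τ M] [AddSubmonoidClass τ M] (ℳ : ℤ → τ) [DirectSum.Decomposition ℳ]
    [SetLike.GradedSMul 𝒜 ℳ] :
    Module.Projective R M ↔
      ∃ (ι : Type u) (b : Module.Basis ι R M), ∀ i : ι, SetLike.IsHomogeneousElem ℳ (b i) := by
  classical
  refine ⟨fun hproj => ?_, fun ⟨ι, b, _⟩ => Module.Projective.of_basis b⟩
  -- components of a product with a homogeneous element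
  have hsm : ∀ (a : R) (h : M) (d n : ℤ), h ∈ ℳ d →
      (DirectSum.decompose ℳ (a • h) n : M) = (DirectSum.decompose 𝒜 a (n - d) : R) • h := by
    intro a h d n hh
    induction a using DirectSum.Decomposition.inductionOn 𝒜 with
    | zero => simp
    | @homogeneous i a =>
      have hah : (a : R) • h ∈ ℳ (i +ᵥ d) := SetLike.GradedSMul.smul_mem a.2 hh
      rw [vadd_eq_add] at hah
      by_cases hn : i + d = n
      · subst hn
        rw [DirectSum.decompose_of_mem_same ℳ hah, add_sub_cancel_right,
          DirectSum.decompose_of_mem_same 𝒜 a.2]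
      · rw [DirectSum.decompose_of_mem_ne ℳ hah hn,
          DirectSum.decompose_of_mem_ne 𝒜 a.2 (fun e => hn (by omega)), zero_smul]
    | add a a' ha ha' =>
      simp only [add_smul, DirectSum.decompose_add, DirectSum.add_apply, AddMemClass.coe_add, ha, ha']
  let I : Ideal R := Ideal.span {x : R | ∃ i : ℤ, 0 < i ∧ x ∈ 𝒜 i}
  have hI0 : ∀ x ∈ I, (DirectSum.decompose 𝒜 x 0 : R) = 0 := by
    have key : ∀ x ∈ I, ∀ a : R, (DirectSum.decompose 𝒜 (a * x) 0 : R) = 0 := by
      intro x hx
      induction hx using Submodule.span_induction with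
      | mem e he =>
        intro a
        obtain ⟨i, hi, hei⟩ := he
        have h := DirectSum.coe_decompose_mul_add_of_right_mem 𝒜 (a := a) (i := -i) hei
        rw [neg_add_cancel, hneg (-i) (by omega) _ (DirectSum.decompose 𝒜 a (-i)).2, zero_mul] at h
        exact h
      | zero => intro a; simp
      | add p q _ _ hp hq => intro a; simp only [mul_add, DirectSum.decompose_add, DirectSum.add_apply, AddMemClass.coe_add, hp a, hq a, add_zero]
      | smul c p _ hp => intro a; rw [smul_eq_mul, ← mul_assoc]; exact hp _
    intro x hx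
    simpa using key x hx 1
  have hI1 : ∀ x : R, (DirectSum.decompose 𝒜 x 0 : R) = 0 → x ∈ I := by
    intro x hx
    rw [← DirectSum.sum_support_decompose 𝒜 x]
    refine Submodule.sum_mem _ fun i _ => ?_
    rcases lt_trichotomy i 0 with hi | hi | hi
    · rw [hneg i hi _ (DirectSum.decompose 𝒜 x i).2]; exact zero_mem _
    · subst hi; rw [hx]; exact zero_mem _
    · exact Ideal.subset_span ⟨i, hi, (DirectSum.decompose 𝒜 x i).2⟩
  -- elements with constant term one are regular
  have hreg : ∀ r y : R, (DirectSum.decompose 𝒜 r 0 : R) = 1 → r * y = 0 → y = 0 := by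
    intro r y hr hry
    by_contra hy
    have hne : (DirectSum.decompose 𝒜 y).support.Nonempty := by
      rw [Finset.nonempty_iff_ne_empty]
      intro he
      apply hy
      rw [← DirectSum.sum_support_decompose 𝒜 y, he, Finset.sum_empty]
    set m := (DirectSum.decompose 𝒜 y).support.min' hne with hm
    have h0 : (DirectSum.decompose 𝒜 (r * y) m : R) = 0 := by rw [hry]; simp
    rw [← DirectSum.sum_support_decompose 𝒜 y, Finset.mul_sum, DirectSum.decompose_sum, DFinsupp.finsetSum_apply,
      AddSubmonoidClass.coe_finsetSum, Finset.sum_eq_single_of_mem m (Finset.min'_mem _ hne)] at h0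
    · have h := DirectSum.coe_decompose_mul_add_of_right_mem 𝒜 (a := r) (i := (0 : ℤ))
        (DirectSum.decompose 𝒜 y m).2
      rw [zero_add, hr, one_mul] at h
      rw [h] at h0
      exact DFinsupp.mem_support_iff.1 (Finset.min'_mem _ hne) (Subtype.ext h0)
    · intro j hj hjm
      have hlt : m < j := lt_of_le_of_ne (Finset.min'_le _ j hj) (Ne.symm hjm)
      have h := DirectSum.coe_decompose_mul_add_of_right_mem 𝒜 (a := r) (i := m - j)
        (DirectSum.decompose 𝒜 y j).2
      rw [sub_add_cancel, hneg (m - j) (by omega) _ (DirectSum.decompose 𝒜 r (m - j)).2, zero_mul] at h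
      exact h
  -- a smallest homogeneous generating set
  let P : ℕ → Prop := fun n => ∃ s : Finset M, s.card = n ∧ (∀ h ∈ s, SetLike.IsHomogeneousElem ℳ h) ∧
    Submodule.span R (↑s : Set M) = ⊤
  have hP : ∃ n, P n := by
    obtain ⟨t, ht⟩ := Module.Finite.fg_top (R := R) (M := M)
    refine ⟨_, t.biUnion fun m => (DirectSum.decompose ℳ m).support.image fun i => (DirectSum.decompose ℳ m i : M),
      rfl, fun h hh => ?_, ?_⟩
    · simp only [Finset.mem_biUnion, Finset.mem_image] at hh
      obtain ⟨m, -, i, -, rfl⟩ := hh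
      exact ⟨i, (DirectSum.decompose ℳ m i).2⟩
    · refine top_le_iff.1 (ht.symm.le.trans (Submodule.span_le.2 fun m hm => ?_))
      rw [← DirectSum.sum_support_decompose ℳ m]
      refine Submodule.sum_mem _ fun i hi => Submodule.subset_span ?_
      simp only [Finset.coe_biUnion, Finset.coe_image, Set.mem_iUnion, Set.mem_image]
      exact ⟨m, hm, i, hi, rfl⟩
  obtain ⟨s, hcard, hhom, hspan⟩ := Nat.find_spec hP
  choose d hd using fun h : s => hhom h.1 h.2
  let π : (s → R) →ₗ[R] M := Fintype.linearCombination R (fun h : s => (h : M))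
  have hker : ∀ c, π c = 0 → ∀ g : s, c g ∈ I := by
    intro c hc g
    refine hI1 _ (by_contra fun hne0 => ?_)
    obtain ⟨u, hu⟩ := h0 (DirectSum.decompose 𝒜 (c g) 0) (DirectSum.decompose 𝒜 (c g) 0).2
    have hu0 : u ≠ 0 := fun e => hne0 (by rw [← hu, e, map_zero])
    have h1 : (DirectSum.decompose ℳ (π c) (d g) : M) = 0 := by rw [hc]; simp
    simp only [π, Fintype.linearCombination_apply] at h1
    rw [DirectSum.decompose_sum, DFinsupp.finsetSum_apply, AddSubmonoidClass.coe_finsetSum,
      Finset.sum_congr rfl fun (h : s) _ => hsm (c h) (h : M) (d h) (d g) (hd h)] at h1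
    rw [← Finset.add_sum_erase _ _ (Finset.mem_univ g), sub_self, ← hu] at h1
    have hg : (g : M) ∈ Submodule.span R (↑(s.erase g.1) : Set M) := by
      have h2 : algebraMap k R u • (g : M) ∈ Submodule.span R (↑(s.erase g.1) : Set M) := by
        rw [eq_neg_of_add_eq_zero_left h1]
        refine Submodule.neg_mem _ (Submodule.sum_mem _ fun h hh => Submodule.smul_mem _ _ (Submodule.subset_span ?_))
        simp only [Finset.coe_erase, Set.mem_diff, Finset.mem_coe, Set.mem_singleton_iff]
        exact ⟨h.2, fun e => (Finset.mem_erase.1 hh).1 (Subtype.ext e)⟩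
      have h3 := Submodule.smul_mem _ (algebraMap k R u⁻¹) h2
      rwa [← mul_smul, ← map_mul, inv_mul_cancel₀ hu0, map_one, one_smul] at h3
    refine Nat.find_min hP (m := (s.erase g.1).card) (hcard ▸ Finset.card_erase_lt_of_mem g.2)
      ⟨_, rfl, fun h hh => hhom h (Finset.mem_of_mem_erase hh), top_le_iff.1 (hspan.symm.le.trans
        (Submodule.span_le.2 fun x hx => ?_))⟩
    by_cases hxg : x = g.1
    · exact hxg ▸ hg
    · exact Submodule.subset_span (Finset.mem_erase.2 ⟨hxg, hx⟩)
  have hπ : Function.Surjective π := by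
    rw [← LinearMap.range_eq_top, Fintype.range_linearCombination, Subtype.range_coe_subtype]
    exact hspan
  obtain ⟨σ', hσ⟩ := Module.projective_lifting_property π LinearMap.id hπ
  let p : (s → R) →ₗ[R] (s → R) := LinearMap.id - σ'.comp π
  have hpker : LinearMap.range p = LinearMap.ker π := by
    refine le_antisymm ?_ fun x hx => ⟨x, by simp [p, LinearMap.mem_ker.1 hx]⟩
    rintro _ ⟨x, rfl⟩
    have := LinearMap.congr_fun hσ (π x)
    simp only [LinearMap.comp_apply, LinearMap.id_apply] at this
    simp [p, this]
  have hfg : (LinearMap.ker π).FG := hpker ▸ LinearMap.range_eq_map p ▸ Module.Finite.fg_top.map p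
  have hle : LinearMap.ker π ≤ I • LinearMap.ker π := by
    intro x hx
    have hx' : p x = x := by simp [p, LinearMap.mem_ker.1 hx]
    rw [← hx', pi_eq_sum_univ x, map_sum]
    refine Submodule.sum_mem _ fun g _ => ?_
    rw [map_smul]
    refine Submodule.smul_mem_smul (hker x hx g) ?_
    rw [← hpker]
    exact ⟨_, rfl⟩
  obtain ⟨r, hr, hrK⟩ := Submodule.exists_sub_one_mem_and_smul_eq_zero_of_fg_of_le_smul I _ hfg hle
  have hr0 : (DirectSum.decompose 𝒜 r 0 : R) = 1 := by
    have h := hI0 _ hr
    rw [← sub_add_cancel r 1, DirectSum.decompose_add, DirectSum.add_apply, AddMemClass.coe_add, h, zero_add]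
    exact DirectSum.decompose_of_mem_same 𝒜 SetLike.GradedOne.one_mem
  have hinj : Function.Injective π := by
    rw [← LinearMap.ker_eq_bot, eq_bot_iff]
    intro x hx
    exact funext fun g => hreg r (x g) hr0 (congrFun (hrK x hx) g)
  refine ⟨s, (Pi.basisFun R s).map (LinearEquiv.ofBijective π ⟨hinj, hπ⟩), fun g => ⟨d g, ?_⟩⟩
  rw [Module.Basis.map_apply, Pi.basisFun_apply]
  show π (Pi.single g 1) ∈ ℳ (d g)
  rw [Fintype.linearCombination_apply_single, one_smul]
  exact hd g

end Groth.Agent.S19462
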