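import Groth.Statements.S19463
import Groth.Agent.Lib.CurveNF.Complete
import Groth.Agent.Lib.SmoothReg17.Basic
import Groth.Agent.Lib.RegSmooth17.Scheme
import Groth.Agent.S7645

set_option autoImplicit false
universe u
open CategoryTheory CategoryTheory.Limits AlgebraicGeometry
open Curves

namespace Groth.Agent.S19463

/-- Let k be an algebraically closed field and X a smooth curve over k (integral, separated, of finite
type and smooth over k, of dimension one). Then there are a smooth projective curve Y over k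
(integral, smooth over k, of dimension one, admitting a closed immersion over k into some P^n_k) and
an open immersion X → Y over k. -/
theorem result (k : Type u) [Field k] [IsAlgClosed k]
    (X : Scheme.{u}) [X.Over (Spec (CommRingCat.of k))] [IsIntegral X] [IsSeparated (X ↘ (Spec (CommRingCat.of k)))]
    [LocallyOfFiniteType (X ↘ (Spec (CommRingCat.of k)))] [QuasiCompact (X ↘ (Spec (CommRingCat.of k)))] [Smooth (X ↘ (Spec (CommRingCat.of k)))]
    (hdimX : topologicalKrullDim X = 1) :
    ∃ (Y : Scheme.{u}) (_ : Y.Over (Spec (CommRingCat.of k))) (j : X ⟶ Y), IsOpenImmersion j ∧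
      j ≫ (Y ↘ (Spec (CommRingCat.of k))) = X ↘ (Spec (CommRingCat.of k)) ∧ IsIntegral Y ∧ Smooth (Y ↘ (Spec (CommRingCat.of k))) ∧ topologicalKrullDim Y = 1 ∧
      ∃ (n : ℕ) (i : Y ⟶ CohB1.ProjSpace n k), IsClosedImmersion i ∧ i ≫ CohB1.ProjSpace.toSpec n k = Y ↘ (Spec (CommRingCat.of k)) := by
  let p := X ↘ (Spec (CommRingCat.of k))
  have hn : Pi1.IsNormalScheme X := fun x =>
    ⟨Groth.Agent.SmoothReg17.isDomain_stalk p x, Groth.Agent.SmoothReg17.isIntegrallyClosed_stalk p x⟩
  have hsX : Groth.Agent.VarDim.sdim p (genericPoint X) = 1 := by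
    have h := (Groth.Agent.VarDim.dim_eq_sdim_genericPoint p).symm.trans hdimX
    exact_mod_cast h
  have hX := (Groth.Agent.CurveNF.curve_iff_sdim_genericPoint p).2 hsX
  obtain ⟨Y, hY, q, j, hq, hj, hjq, hN, hdY⟩ := Groth.Agent.CurveNF.exists_completion_integral p hX hn
  haveI := hY
  haveI := hq
  letI : Y.Over (Spec (CommRingCat.of k)) := ⟨q⟩
  haveI : IsLocallyNoetherian Y := LocallyOfFiniteType.isLocallyNoetherian q
  haveI : LocallyOfFinitePresentation q := inferInstance
  have hreg : ∀ y : Y, IsRegularLocalRing (Y.presheaf.stalk y) := fun y => by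
    haveI := (hN y).1
    haveI := (hN y).2
    exact Groth.Agent.DVRVal.isRegularLocalRing_of_normal _
      (Groth.Agent.DVRVal.ringKrullDim_stalk_le_one q hdY y)
  have hsY := (Groth.Agent.CurveNF.curve_iff_sdim_genericPoint q).1 hdY
  have hd : topologicalKrullDim Y = 1 := by
    rw [Groth.Agent.VarDim.dim_eq_sdim_genericPoint q, hsY]
    rfl
  haveI : IsProper (Y ↘ (Spec (CommRingCat.of k))) := hq
  refine ⟨Y, ⟨q⟩, j, hj, hjq, hY, ?_, hd, Groth.Agent.S7645.result k Y hd.le⟩
  exact Groth.Agent.RegSmooth17.smooth_of_regular_of_perfectField q hreg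

end Groth.Agent.S19463
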