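import Groth.Statements.S19464
import Groth.Agent.Lib.PointBlowUp32.Contract
import Groth.Agent.Lib.BoxRes9.Diag

set_option autoImplicit false
set_option linter.style.haveILetI false
universe u
open CategoryTheory CategoryTheory.Limits AlgebraicGeometry
open Surf

namespace Groth.Agent.S19464

/-- Let k be an algebraically closed field, X and Y smooth surfaces over k (integral, separated, of
finite type and smooth over k, of dimension two), f : X → Y a proper k-morphism which is an
isomorphism over some nonempty open subset of Y (birational), and y a closed point of Y over no open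
neighbourhood of which f is an isomorphism (y is not in the domain of the inverse rational map).
Then f factors through the blow-up of Y at y: for every π : Y' → Y having the universal property of
the blowing up of Y in the ideal of the reduced closed point y, there is g : X → Y' with g ≫ π = f. -/
theorem result (k : Type u) [Field k] [IsAlgClosed k]
    (X Y : Scheme.{u}) [X.Over (Spec (CommRingCat.of k))] [Y.Over (Spec (CommRingCat.of k))]
    [IsIntegral X] [IsSeparated (X ↘ (Spec (CommRingCat.of k)))] [LocallyOfFiniteType (X ↘ (Spec (CommRingCat.of k)))]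
    [QuasiCompact (X ↘ (Spec (CommRingCat.of k)))] [Smooth (X ↘ (Spec (CommRingCat.of k)))] (hdimX : topologicalKrullDim X = 2)
    [IsIntegral Y] [IsSeparated (Y ↘ (Spec (CommRingCat.of k)))] [LocallyOfFiniteType (Y ↘ (Spec (CommRingCat.of k)))]
    [QuasiCompact (Y ↘ (Spec (CommRingCat.of k)))] [Smooth (Y ↘ (Spec (CommRingCat.of k)))] (hdimY : topologicalKrullDim Y = 2)
    (f : X ⟶ Y) (hf : f ≫ (Y ↘ (Spec (CommRingCat.of k))) = X ↘ (Spec (CommRingCat.of k))) [IsProper f]
    (hbir : ∃ U : Y.Opens, (U : Set Y).Nonempty ∧ IsIso (f ∣_ U))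
    (y : Y) (hy : IsClosed ({y} : Set Y)) (hP : ∀ V : Y.Opens, y ∈ V → ¬ IsIso (f ∣_ V))
    (Y' : Scheme.{u}) (π : Y' ⟶ Y) (hπ : BlowUp.IsBlowUp π (Scheme.IdealSheafData.vanishingIdeal ⟨{y}, hy⟩)) :
    ∃ g : X ⟶ Y', g ≫ π = f := by
  haveI : IsNoetherian X := by
    haveI : IsLocallyNoetherian X := LocallyOfFiniteType.isLocallyNoetherian (X ↘ (Spec (CommRingCat.of k)))
    haveI : CompactSpace X := QuasiCompact.compactSpace_of_compactSpace (X ↘ (Spec (CommRingCat.of k)))
    exact {}
  haveI : IsLocallyNoetherian Y := LocallyOfFiniteType.isLocallyNoetherian (Y ↘ (Spec (CommRingCat.of k)))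
  have hXc := Groth.Agent.RelMin.noChain_of_dim hdimX.le
  have hYc := Groth.Agent.RelMin.noChain_of_dim hdimY.le
  have hX := Groth.Agent.BoxRes9.regular_of_smooth_field (X ↘ (Spec (CommRingCat.of k)))
  have hY := Groth.Agent.BoxRes9.regular_of_smooth_field (Y ↘ (Spec (CommRingCat.of k)))
  have hYn : Pi1.IsNormalScheme Y := fun q => haveI := hY q; Groth.Agent.RelMin.isDomain_normal
  have hbig := Groth.Agent.PointBlowUp.exists_two_of_not_iso f hXc hYn hbir hy hP
  obtain ⟨V, hV, hiso⟩ := hbir
  haveI := hiso
  obtain ⟨hgen, hb⟩ := Groth.Agent.RelMin.birational_of_restrict f hV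
  haveI := hb
  have hcart := Groth.Agent.RelMin.isEffCartierIdeal_comap f hgen hy hXc hX hYc hY hbig
  obtain ⟨g, hg, -⟩ := hπ.2 X f hcart
  exact ⟨g, hg⟩

end Groth.Agent.S19464
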