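import Groth.Statements.S19467
import Groth.Agent.Lib.QCompl15.Main
-- import your own Groth.Agent.* helpers here

set_option autoImplicit false
universe u
open CategoryTheory MonoidalCategory CartesianMonoidalCategory MonObj GrpObj AlgebraicGeometry CategoryTheory.Limits
open AlgGrp

namespace Groth.Agent.S19467

/-- Let k be a field, G a commutative affine k-group scheme of finite type, and j : M → G the largest
closed subgroup scheme of multiplicative type (M is of multiplicative type and every closed subgroup
scheme of G of multiplicative type factors through M). Then there is a closed subgroup scheme h : H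
→ G such that G = M · H, in the sense that the multiplication M × H → G is surjective, and M ∩ H
(the fibre product of j and h) is finite over k. (The existence of the largest subgroup scheme of
multiplicative type is taken here as a hypothesis on M.) -/
theorem result (k : Type u) [Field k]
    (G : Over (Spec (CommRingCat.of k))) [GrpObj G] [IsCommMonObj G] [IsAffine G.left]
    [LocallyOfFiniteType G.hom]
    (M : Over (Spec (CommRingCat.of k))) [GrpObj M] (j : M ⟶ G) [IsMonHom j] [IsClosedImmersion j.left]
    (hM : SGA3x.IsMultTypeFT M)
    (hMmax : ∀ (M' : Over (Spec (CommRingCat.of k))) [GrpObj M'] (j' : M' ⟶ G) [IsMonHom j']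
      [IsClosedImmersion j'.left], SGA3x.IsMultTypeFT M' → ∃ g : M' ⟶ M, g ≫ j = j') :
    ∃ (H : Over (Spec (CommRingCat.of k))) (_ : GrpObj H) (h : H ⟶ G), IsMonHom h ∧ IsClosedImmersion h.left ∧
      Surjective ((j ⊗ₘ h) ≫ μ[G]).left ∧
      IsFinite (pullback.fst j.left h.left ≫ M.hom) := by
  exact QCompl15.exists_quasiComplement G M j hM hMmax


end Groth.Agent.S19467
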