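import Groth.Statements.S19468
-- import your own Groth.Agent.* helpers here
import Groth.Agent.Lib.AffPart25.FinFieldDecomp
import Groth.Agent.Lib.AffPart25.Perfect

set_option autoImplicit false
universe u
open CategoryTheory MonoidalCategory CartesianMonoidalCategory MonObj GrpObj AlgebraicGeometry CategoryTheory.Limits
open AlgGrp

namespace Groth.Agent.S19468

/-- Let k be a finite field and G a smooth connected k-group scheme of finite type. Then there are a
closed normal subgroup scheme l : L → G with L smooth, connected and affine, and a closed subgroup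
scheme a : A → G with A an abelian variety (proper, smooth and connected over k), such that G = L ·
A, in the sense that the multiplication L × A → G is surjective, and L ∩ A (the fibre product of l
and a) is finite over k. (The published statement also asserts that such a decomposition is unique;
that part is not included here.) -/
theorem result (k : Type u) [Field k] [Finite k]
    (G : Over (Spec (CommRingCat.of k))) [GrpObj G] [Smooth G.hom] [QuasiCompact G.hom]
    [ConnectedSpace ↥G.left] :
    ∃ (L : Over (Spec (CommRingCat.of k))) (_ : GrpObj L) (l : L ⟶ G) (A : Over (Spec (CommRingCat.of k)))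
      (_ : GrpObj A) (a : A ⟶ G),
      IsMonHom l ∧ IsClosedImmersion l.left ∧ AlgGrp.IsNormalHom l ∧ Smooth L.hom ∧ ConnectedSpace ↥L.left ∧
        IsAffine L.left ∧
      IsMonHom a ∧ IsClosedImmersion a.left ∧ IsProper A.hom ∧ Smooth A.hom ∧ ConnectedSpace ↥A.left ∧
      Surjective ((l ⊗ₘ a) ≫ μ[G]).left ∧ IsFinite (pullback.fst l.left a.left ≫ L.hom) := by
  haveI : PerfectField k := inferInstance
  obtain ⟨L, _, l, Q, _, q, hlm, hlc, hLa, hLs, hLn, hnorm, hqm, hqs, hqf, hk, hQp, -, -⟩ :=
    AffPart25.exists_chevalley_perfect G
  haveI := hlm; haveI := hlc; haveI := hLa; haveI := hqm; haveI := hqs; haveI := hqf; haveI := hQp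
  obtain ⟨M, _, j, hjm, hjc, hMs, hMp, hMc, hsur⟩ := AffPart25.exists_abelian_part G L l hnorm Q q hk
  haveI := hjc
  haveI := hMp
  refine ⟨L, inferInstance, l, M, inferInstance, j, hlm, hlc, hnorm, hLs, hLn, hLa, hjm, hjc, hMp, hMs, hMc, hsur, ?_⟩
  exact AffPart25.isFinite_inter
    (P := Over.mk (pullback.fst l.left j.left ≫ L.hom)) (Over.homMk (pullback.fst l.left j.left) rfl)
    (Over.homMk (pullback.snd l.left j.left) (by
      show pullback.snd l.left j.left ≫ M.hom = pullback.fst l.left j.left ≫ L.hom
      rw [← Over.w j, ← pullback.condition_assoc, Over.w l])) l j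
    (IsPullback.of_hasPullback l.left j.left)


end Groth.Agent.S19468
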