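import Groth.Statements.S1947
import Groth.Agent.Lib.KSwindle.Closed

set_option autoImplicit false
universe u
open CategoryTheory AlgebraicGeometry
open Cyc

namespace Groth.Agent.S1947

/-- Let X be locally Noetherian and i : Z → X a closed immersion. Pushforward of coherent modules along
i induces an isomorphism K_0(Coh(Z)) → K_0(Coh_Z(X)), where Coh_Z(X) consists of those coherent
O_X-modules supported inside (the image of) Z. Here K_0 of a full subcategory of the abelian
category of O-modules is the shared prelude's KZero.K0sub (free abelian group on the objects modulo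
the relations of short exact sequences with all terms in the subcategory), and the isomorphism is
asserted to exist compatibly with classes of objects. -/
theorem result (X Z : Scheme.{u}) [IsLocallyNoetherian X] (i : Z ⟶ X) [IsClosedImmersion i] : ∃ φ : KZero.K0sub (fun F : Z.Modules => Coh.IsCoh F) ≃+ KZero.K0sub (fun G : X.Modules => Coh.IsCoh G ∧ ∀ x : X, Nontrivial (G.presheaf.stalk x) → x ∈ Set.range ⇑i), ∀ F : Z.Modules, Coh.IsCoh F → φ (KZero.clSub (fun F : Z.Modules => Coh.IsCoh F) F) = KZero.clSub (fun G : X.Modules => Coh.IsCoh G ∧ ∀ x : X, Nontrivial (G.presheaf.stalk x) → x ∈ Set.range ⇑i) ((Coh.push i).obj F) := by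
  refine ⟨AddMonoidHom.toAddEquiv (Groth.Agent.KSwindle.pushHom i) (Groth.Agent.KSwindle.invHom i) ?_ ?_, fun F hF =>
    Groth.Agent.KSwindle.pushHom_clSub i hF⟩
  · refine AddMonoidHom.ext fun x => ?_
    induction x using Groth.Agent.K0Cat.clSub_induction with
    | h0 => simp
    | hcl M hM => exact Groth.Agent.KSwindle.invHom_pushHom i hM
    | hneg a h => simp only [map_neg, h]
    | hadd a b h1 h2 => simp only [map_add, h1, h2]
  · refine AddMonoidHom.ext fun x => ?_
    induction x using Groth.Agent.K0Cat.clSub_induction with
    | h0 => simp
    | hcl M hM => exact Groth.Agent.KSwindle.pushHom_invHom i hM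
    | hneg a h => simp only [map_neg, h]
    | hadd a b h1 h2 => simp only [map_add, h1, h2]

end Groth.Agent.S1947
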