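import Groth.Statements.S19474
import Mathlib
import Groth.Statements.S9442
import Groth.Statements.S9649
import Groth.Statements.S9431
import Groth.Statements.S14436
import Groth.Agent.Lib.Sep.Basic
import Groth.Agent.Lib.RegSmooth17.Basic
import Groth.Agent.Lib.SmoothReg17.Basic
import Groth.Agent.Lib.Compl.Noetherian

set_option autoImplicit false
universe u
open CAlg

namespace Groth.Agent.S19474

open IsLocalRing in
theorem key (A B : Type u) [CommRing A] [CommRing B] [Algebra A B] [IsLocalRing A] [IsLocalRing B]
    [IsNoetherianRing A] [IsNoetherianRing B] [Module.Flat A B]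
    (hm : (maximalIdeal A).map (algebraMap A B) = maximalIdeal B)
    (hres : ∀ b : B, ∃ a : A, b - algebraMap A B a ∈ maximalIdeal B) :
    ringKrullDim B = ringKrullDim A ∧ (maximalIdeal B).spanFinrank = (maximalIdeal A).spanFinrank := by
  have hcm : (maximalIdeal B).comap (algebraMap A B) = maximalIdeal A :=
    ((maximalIdeal.isMaximal A).eq_of_le (Ideal.comap_ne_top _ (maximalIdeal.isMaximal B).ne_top)
      (Ideal.map_le_iff_le_comap.1 hm.le)).symm
  haveI : IsLocalHom (algebraMap A B) := ((local_hom_TFAE (algebraMap A B)).out 4 0).1 hcm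
  haveI : (maximalIdeal B).LiesOver (maximalIdeal A) := ⟨hcm.symm⟩
  haveI : Module.FaithfullyFlat A B := Module.FaithfullyFlat.of_flat_of_isLocalHom
  constructor
  · have h := Ideal.height_eq_height_add_of_liesOver_of_hasGoingDown (maximalIdeal A) (maximalIdeal B)
    have h0 : ((maximalIdeal B).map (Ideal.Quotient.mk ((maximalIdeal A).map (algebraMap A B)))) = ⊥ :=
      Ideal.map_mk_eq_bot_of_le hm.ge
    haveI : Nontrivial (B ⧸ (maximalIdeal A).map (algebraMap A B)) := by
      rw [Ideal.Quotient.nontrivial_iff, hm]; exact (maximalIdeal.isMaximal _).ne_top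
    rw [h0, Ideal.height_bot, add_zero] at h
    rw [← maximalIdeal_height_eq_ringKrullDim, h, maximalIdeal_height_eq_ringKrullDim]
  · refine le_antisymm ?_ ?_
    · obtain ⟨f, hf⟩ := Submodule.FG.exists_span_set_encard_eq_spanFinrank (IsNoetherian.noetherian (maximalIdeal A))
      have hfin : f.Finite := Set.finite_of_encard_eq_coe hf.1
      rw [← hm]
      conv_lhs => rw [← hf.2]
      rw [← Ideal.span, Ideal.map_span]
      refine (Submodule.spanFinrank_span_le_ncard_of_finite (hfin.image _)).trans ?_
      refine (Set.ncard_image_le hfin).trans ?_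
      exact le_of_eq (by simp [Set.ncard, hf.1])
    · obtain ⟨g, hg⟩ := Submodule.FG.exists_span_set_encard_eq_spanFinrank (IsNoetherian.noetherian (maximalIdeal B))
      have hfin : g.Finite := Set.finite_of_encard_eq_coe hg.1
      have hsp : Ideal.span g = maximalIdeal B := hg.2
      have key : ∀ y ∈ maximalIdeal B, ∃ a ∈ maximalIdeal A, y - algebraMap A B a ∈ maximalIdeal B • maximalIdeal B := by
        intro y hy
        rw [← hm] at hy
        refine Submodule.span_induction ?_ ?_ ?_ ?_ hy
        · rintro _ ⟨a, ha, rfl⟩; exact ⟨a, ha, by simp⟩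
        · exact ⟨0, zero_mem _, by simp⟩
        · rintro x y - - ⟨a, ha, hxa⟩ ⟨b, hb, hyb⟩
          exact ⟨a + b, add_mem ha hb, by rw [map_add]; simpa [add_sub_add_comm] using add_mem hxa hyb⟩
        · rintro c x - ⟨a, ha, hxa⟩
          obtain ⟨c₀, hc₀⟩ := hres c
          refine ⟨c₀ * a, Ideal.mul_mem_left _ _ ha, ?_⟩
          have e : c • x - algebraMap A B (c₀ * a) = c * (x - algebraMap A B a) + (c - algebraMap A B c₀) * algebraMap A B a := by
            rw [map_mul, smul_eq_mul]; ring
          rw [e]
          exact add_mem (Ideal.mul_mem_left _ _ hxa)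
            (Submodule.smul_mem_smul hc₀ (hm ▸ Ideal.mem_map_of_mem _ ha))
      choose! α hα hαy using key
      have hN : maximalIdeal B ≤ (Ideal.span (α '' g)).map (algebraMap A B) := by
        refine Submodule.le_of_le_smul_of_le_jacobson_bot (IsNoetherian.noetherian _) (jacobson_eq_maximalIdeal ⊥ bot_ne_top).ge ?_
        conv_lhs => rw [← hsp]
        rw [Ideal.span_le]
        intro y hy
        have hy' : y ∈ maximalIdeal B := hsp ▸ Ideal.subset_span hy
        have e : y = algebraMap A B (α y) + (y - algebraMap A B (α y)) := by ring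
        rw [SetLike.mem_coe, e]
        exact add_mem (Submodule.mem_sup_left (Ideal.mem_map_of_mem _ (Ideal.subset_span ⟨y, hy, rfl⟩)))
          (Submodule.mem_sup_right (hαy y hy'))
      have heq : Ideal.span (α '' g) = maximalIdeal A := by
        refine le_antisymm (Ideal.span_le.2 ?_) ?_
        · rintro _ ⟨y, hy, rfl⟩; exact hα y (hsp ▸ Ideal.subset_span hy)
        · intro a ha
          rw [← Ideal.comap_map_eq_self_of_faithfullyFlat (B := B) (Ideal.span (α '' g))]
          exact hN (hm ▸ Ideal.mem_map_of_mem _ ha)
      rw [← heq]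
      refine (Submodule.spanFinrank_span_le_ncard_of_finite (hfin.image _)).trans ?_
      refine (Set.ncard_image_le hfin).trans ?_
      exact le_of_eq (by simp [Set.ncard, hg.1])

open IsLocalRing in

/-- Let A be a Noetherian local ring and I an ideal of A different from A. Then the I-adic completion of
A has the same Krull dimension as A, and A is a regular local ring if and only if the I-adic
completion of A is a regular local ring (in particular the completion is then local and Noetherian).
The case where I is the maximal ideal is the classical one; here I is any proper ideal. -/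
theorem result (A : Type u) [CommRing A]
    [IsLocalRing A] [IsNoetherianRing A] (I : Ideal A) (hI : I ≠ ⊤) :
    ringKrullDim (AdicCompletion I A) = ringKrullDim A ∧
      (IsRegularLocalRing A ↔ IsRegularLocalRing (AdicCompletion I A)) := by
  have hfg : I.FG := IsNoetherian.noetherian I
  let B := AdicCompletion I A
  haveI : IsNoetherianRing B := Groth.Agent.Compl.isNoetherianRing_adicCompletion I hfg
  haveI : Module.Flat A B := AdicCompletion.flat_of_isNoetherian I
  let π : B →ₐ[A] A ⧸ I := AdicCompletion.evalOneₐ I
  have hπs : Function.Surjective π := fun x => by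
    obtain ⟨a, rfl⟩ := Ideal.Quotient.mk_surjective x
    exact ⟨algebraMap A B a, π.commutes a⟩
  have hker : RingHom.ker π = I.map (algebraMap A B) := AdicCompletion.ker_evalOneₐ_eq_map I hfg
  have hjac : I.map (algebraMap A B) ≤ (⊥ : Ideal B).jacobson := by
    haveI : IsAdicComplete (I.map (algebraMap A B)) B := AdicCompletion.isAdicComplete_self I hfg
    exact IsAdicComplete.le_jacobson_bot _
  haveI : Nontrivial (A ⧸ I) := Ideal.Quotient.nontrivial_iff.2 hI
  haveI : IsLocalRing (A ⧸ I) := IsLocalRing.of_surjective' _ Ideal.Quotient.mk_surjective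
  let m := maximalIdeal A
  have hIm : I ≤ m := le_maximalIdeal hI
  have hmax : ∀ M : Ideal B, M.IsMaximal → M = Ideal.comap π (maximalIdeal (A ⧸ I)) := by
    intro M hM
    have hle : RingHom.ker π ≤ M := hker.le.trans (hjac.trans (sInf_le ⟨bot_le, hM⟩))
    haveI hmm : (M.map π).IsMaximal :=
      (Ideal.map_eq_top_or_isMaximal_of_surjective _ hπs hM).resolve_left (fun ht => hM.ne_top (by
        have := Ideal.comap_map_of_surjective π hπs M
        rw [ht, Ideal.comap_top, ← RingHom.ker_eq_comap_bot, sup_eq_left.2 hle] at this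
        exact this.symm))
    rw [← IsLocalRing.eq_maximalIdeal hmm]
    have := Ideal.comap_map_of_surjective π hπs M
    rw [← RingHom.ker_eq_comap_bot, sup_eq_left.2 hle] at this
    exact this.symm
  haveI hB : IsLocalRing B := by
    haveI : Nontrivial B := π.toRingHom.domain_nontrivial
    obtain ⟨M, hM⟩ := Ideal.exists_maximal B
    exact IsLocalRing.of_unique_max_ideal ⟨M, hM, fun N hN => (hmax N hN).trans (hmax M hM).symm⟩
  have hMB : maximalIdeal B = Ideal.comap π (maximalIdeal (A ⧸ I)) := hmax _ (maximalIdeal.isMaximal B)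
  have hπm : ∀ a : A, algebraMap A B a ∈ maximalIdeal B ↔ a ∈ m := fun a => by
    rw [hMB, Ideal.mem_comap]
    show π (algebraMap A B a) ∈ _ ↔ _
    rw [π.commutes]
    show Ideal.Quotient.mk I a ∈ maximalIdeal (A ⧸ I) ↔ a ∈ m
    rw [← Ideal.mem_comap]
    haveI : (Ideal.comap (Ideal.Quotient.mk I) (maximalIdeal (A ⧸ I))).IsMaximal :=
      Ideal.comap_isMaximal_of_surjective _ Ideal.Quotient.mk_surjective
    rw [IsLocalRing.eq_maximalIdeal this]
  have hm : m.map (algebraMap A B) = maximalIdeal B := by
    refine le_antisymm (Ideal.map_le_iff_le_comap.2 fun a ha => (hπm a).2 ha) fun b hb => ?_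
    obtain ⟨a, ha⟩ := Ideal.Quotient.mk_surjective (π b)
    have e : b - algebraMap A B a ∈ I.map (algebraMap A B) := by
      rw [← hker, RingHom.mem_ker, map_sub, π.commutes]
      exact sub_eq_zero.2 ha.symm
    have e' : b - algebraMap A B a ∈ m.map (algebraMap A B) := Ideal.map_mono hIm e
    have ha' : a ∈ m := (hπm a).1 (by
      have := sub_mem hb ((Ideal.map_le_iff_le_comap.2 (fun x hx => (hπm x).2 hx : m ≤ (maximalIdeal B).comap (algebraMap A B)) e'))
      simpa using this)
    simpa using add_mem e' (Ideal.mem_map_of_mem (algebraMap A B) ha')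
  obtain ⟨h1, h2⟩ := key A B hm fun b => by
    obtain ⟨a, ha⟩ := Ideal.Quotient.mk_surjective (π b)
    refine ⟨a, ?_⟩
    rw [hMB, Ideal.mem_comap, map_sub, π.commutes]
    rw [show π b - algebraMap A (A ⧸ I) a = 0 from sub_eq_zero.2 ha.symm]
    exact zero_mem _
  refine ⟨h1, ?_⟩
  rw [isRegularLocalRing_iff, isRegularLocalRing_iff, h1, h2]

end Groth.Agent.S19474
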