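import Groth.Statements.S19475
import Mathlib

set_option autoImplicit false
universe u
open CAlg

namespace Groth.Agent.S19475

open TensorProduct IsLocalRing


open IsLocalRing in
/-- Let A be a Noetherian ring, B an A-algebra, q a prime ideal of B and p its preimage in A; let A_p
and B_q be the local rings at p and q and Â_p the completion of A_p at its maximal ideal pA_p. Then
the ideal generated by qB_q in B_q ⊗ Â_p is maximal. (The tensor product is formed over A; since A_p
is a localization of A it agrees with the tensor product over A_p used in the published statement.) -/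
theorem result (A B : Type u) [CommRing A] [CommRing B]
    [Algebra A B] [IsNoetherianRing A] (q : Ideal B) [q.IsPrime] :
    ((maximalIdeal (Localization.AtPrime q)).map
      (Algebra.TensorProduct.includeLeftRingHom :
        Localization.AtPrime q →+* TensorProduct A (Localization.AtPrime q)
          (AdicCompletion (maximalIdeal (Localization.AtPrime (q.under A)))
            (Localization.AtPrime (q.under A))))).IsMaximal := by
  let p := q.under A
  let Ap := Localization.AtPrime p
  let Bq := Localization.AtPrime q
  let I := maximalIdeal Ap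
  let Ah := AdicCompletion I Ap
  let f : Ap →+* Bq := Localization.localRingHom p q (algebraMap A B) rfl
  haveI : IsNoetherianRing Ap := IsLocalization.isNoetherianRing p.primeCompl _ inferInstance
  let ev : Ah →ₐ[Ap] Ap ⧸ I ^ 1 := AdicCompletion.evalₐ I 1
  have hle : ∀ r ∈ I ^ 1, (residue Bq).comp f r = 0 := fun r hr => by
    rw [pow_one] at hr
    rw [RingHom.comp_apply, residue_eq_zero_iff]
    exact fun h => (mem_maximalIdeal r).1 hr (IsUnit.of_map f r h)
  let g0 : Ah →+* ResidueField Bq := (Ideal.Quotient.lift (I ^ 1) ((residue Bq).comp f) hle).comp ev.toRingHom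
  have hg0 : ∀ r : Ap, g0 (algebraMap Ap Ah r) = residue Bq (f r) := fun r => by
    show Ideal.Quotient.lift (I ^ 1) _ hle (ev (algebraMap Ap Ah r)) = _
    rw [AlgHom.commutes]; rfl
  have hfA : ∀ a : A, f (algebraMap A Ap a) = algebraMap A Bq a := fun a => by
    show Localization.localRingHom p q (algebraMap A B) rfl (algebraMap A Ap a) = _
    rw [Localization.localRingHom_to_map, ← IsScalarTower.algebraMap_apply]
  let g : Ah →ₐ[A] ResidueField Bq :=
    { toRingHom := g0
      commutes' := fun a => by
        show g0 (algebraMap A Ah a) = _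
        rw [show algebraMap A Ah a = algebraMap Ap Ah (algebraMap A Ap a) from rfl, hg0, hfA]
        rfl }
  let Φ : TensorProduct A Bq Ah →ₐ[A] ResidueField Bq :=
    Algebra.TensorProduct.lift (IsScalarTower.toAlgHom A Bq (ResidueField Bq)) g fun _ _ => Commute.all _ _
  let L : Bq →+* TensorProduct A Bq Ah := Algebra.TensorProduct.includeLeftRingHom
  let R : Ah →+* TensorProduct A Bq Ah := (Algebra.TensorProduct.includeRight : Ah →ₐ[A] TensorProduct A Bq Ah).toRingHom
  let J := (maximalIdeal Bq).map L
  have hΦL : ∀ b, Φ (L b) = residue Bq b := fun b => by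
    show Φ (b ⊗ₜ[A] (1 : Ah)) = _
    simp [Φ]
  have hRL : R.comp (algebraMap Ap Ah) = L.comp f := by
    refine IsLocalization.ringHom_ext p.primeCompl (RingHom.ext fun a => ?_)
    show (1 : Bq) ⊗ₜ[A] algebraMap Ap Ah (algebraMap A Ap a) = (f (algebraMap A Ap a)) ⊗ₜ[A] (1 : Ah)
    rw [hfA, show algebraMap Ap Ah (algebraMap A Ap a) = algebraMap A Ah a from rfl,
      Algebra.algebraMap_eq_smul_one, Algebra.algebraMap_eq_smul_one, TensorProduct.smul_tmul]
  have hmem : ∀ t : TensorProduct A Bq Ah, ∃ b, t - L b ∈ J := by
    intro t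
    induction t using TensorProduct.induction_on with
    | zero => exact ⟨0, by simp⟩
    | add x y hx hy =>
      obtain ⟨b, hb⟩ := hx; obtain ⟨c, hc⟩ := hy
      refine ⟨b + c, ?_⟩
      rw [map_add, add_sub_add_comm]; exact Ideal.add_mem _ hb hc
    | tmul b y =>
      obtain ⟨r, hr⟩ := Ideal.Quotient.mk_surjective (ev y)
      refine ⟨b * f r, ?_⟩
      have hker : y - algebraMap Ap Ah r ∈ (I ^ 1 • ⊤ : Submodule Ap Ah) := by
        rw [AdicCompletion.pow_smul_top_eq_ker_eval (Ideal.fg_of_isNoetherianRing I), LinearMap.mem_ker]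
        have h0 : ev (y - algebraMap Ap Ah r) = 0 := by
          rw [map_sub, AlgHom.commutes, ← hr]; exact sub_self _
        have hinj : Function.Injective (Ideal.quotientEquivAlgOfEq Ap
            (show (I ^ 1 • ⊤ : Ideal Ap) = I ^ 1 by ext x; simp)) := AlgEquiv.injective _
        exact hinj (h0.trans (map_zero _).symm)
      have hJ : ∀ z ∈ (I ^ 1 • ⊤ : Submodule Ap Ah), R z ∈ J := fun z hz => by
        refine Submodule.smul_induction_on hz (fun s hs w _ => ?_) (fun z w hz hw => ?_)
        · rw [Algebra.smul_def, map_mul, show R (algebraMap Ap Ah s) = L (f s) from RingHom.congr_fun hRL s]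
          refine Ideal.mul_mem_right _ _ (Ideal.mem_map_of_mem L ?_)
          rw [pow_one] at hs
          exact fun h => (mem_maximalIdeal s).1 hs (IsUnit.of_map f s h)
        · rw [map_add]; exact Ideal.add_mem _ hz hw
      have e : b ⊗ₜ[A] y - L (b * f r) = L b * R (y - algebraMap Ap Ah r) := by
        rw [map_sub, mul_sub, show R (algebraMap Ap Ah r) = L (f r) from RingHom.congr_fun hRL r, ← map_mul]
        congr 1
        show _ = (b ⊗ₜ[A] (1 : Ah)) * ((1 : Bq) ⊗ₜ[A] y)
        rw [Algebra.TensorProduct.tmul_mul_tmul, mul_one, one_mul]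
      rw [e]
      exact Ideal.mul_mem_left _ _ (hJ _ hker)
  have hJker : J = RingHom.ker Φ.toRingHom := by
    refine le_antisymm (Ideal.map_le_iff_le_comap.2 fun b hb => ?_) fun t ht => ?_
    · show Φ (L b) = 0
      rw [hΦL, residue_eq_zero_iff]; exact hb
    · obtain ⟨b, hb⟩ := hmem t
      have h1 : Φ (L b) = 0 := by
        have h2 : Φ (t - L b) = 0 := by
          refine (Ideal.map_le_iff_le_comap.2 (fun c hc => ?_) : J ≤ RingHom.ker Φ.toRingHom) hb
          show Φ (L c) = 0
          rw [hΦL, residue_eq_zero_iff]; exact hc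
        rw [map_sub, sub_eq_zero] at h2
        exact h2.symm.trans ht
      rw [hΦL, residue_eq_zero_iff] at h1
      have := Ideal.add_mem _ hb (Ideal.mem_map_of_mem L h1)
      rwa [sub_add_cancel] at this
  show J.IsMaximal
  rw [hJker]
  exact RingHom.ker_isMaximal_of_surjective _ fun x => by
    obtain ⟨b, rfl⟩ := residue_surjective x
    exact ⟨L b, hΦL b⟩

end Groth.Agent.S19475
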