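import Groth.Statements.S6333
import Mathlib

set_option autoImplicit false
universe u
open Fields

namespace Groth.Agent.S6333

/-- For a finitely generated field extension K/k, the algebraic closure of k inside K is a finite
extension of k. -/
theorem result {k K : Type u} [Field k] [Field K] [Algebra k K]
    (hfg : (⊤ : IntermediateField k K).FG) :
    FiniteDimensional k (algebraicClosure k K) := by
  classical
  obtain ⟨gens, hgens⟩ := hfg
  obtain ⟨s, hsx⟩ := exists_isTranscendenceBasis k K
  set x : s → K := Subtype.val with hx
  have halg : Algebra.IsAlgebraic (IntermediateField.adjoin k (Set.range x)) K := hsx.isAlgebraic_field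
  set F := IntermediateField.adjoin k (Set.range x)
  have : FiniteDimensional F K := by
    have hf : FiniteDimensional F (IntermediateField.adjoin F (gens : Set K)) :=
      IntermediateField.finiteDimensional_adjoin fun y _ => (Algebra.IsAlgebraic.isAlgebraic y).isIntegral
    have htop : IntermediateField.adjoin F (gens : Set K) = ⊤ := by
      rw [eq_top_iff]
      intro y _
      have hle : IntermediateField.adjoin k (gens : Set K) ≤ (IntermediateField.adjoin F (gens : Set K)).restrictScalars k :=
        IntermediateField.adjoin_le_iff.2 (IntermediateField.subset_adjoin F _)
      exact hle (hgens ▸ IntermediateField.mem_top)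
    rw [htop] at hf
    exact Module.Finite.equiv IntermediateField.topEquiv.toLinearEquiv
  let k' := algebraicClosure k K
  let b := Module.Free.chooseBasis k k'
  have hind : AlgebraicIndependent k' x := hsx.1.extendScalars k'
  have hli : LinearIndependent F (fun i => (b i : K)) := by
    have key : LinearIndependent (Algebra.adjoin k (Set.range x)) (fun i => (b i : K)) := by
      rw [linearIndependent_iff']
      intro t c hc i hi
      have hc' : ∀ j, ∃ P : MvPolynomial s k, MvPolynomial.aeval x P = (c j : K) := fun j => by
        exact (Algebra.adjoin_range_eq_range_aeval k x).le (c j).2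
      choose P hP using hc'
      have hsum : MvPolynomial.aeval x (∑ j ∈ t, MvPolynomial.C (b j) * (P j).map (algebraMap k k')) = 0 := by
        rw [map_sum, ← hc]
        refine Finset.sum_congr rfl fun j _ => ?_
        rw [map_mul, MvPolynomial.aeval_C, MvPolynomial.aeval_map_algebraMap, hP, mul_comm]
        rfl
      have hz := hind.eq_zero_of_aeval_eq_zero _ hsum
      have hPi : P i = 0 := by
        refine MvPolynomial.ext _ _ fun d => ?_
        have := congrArg (MvPolynomial.coeff d) hz
        rw [MvPolynomial.coeff_sum, MvPolynomial.coeff_zero] at this
        rw [Finset.sum_congr rfl (g := fun j => MvPolynomial.coeff d (P j) • b j) fun j _ => by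
          rw [MvPolynomial.coeff_C_mul, MvPolynomial.coeff_map, Algebra.smul_def, mul_comm]] at this
        rw [MvPolynomial.coeff_zero]
        exact linearIndependent_iff'.1 b.linearIndependent t _ this i hi
      refine Subtype.ext ?_
      rw [← hP i, hPi, map_zero]
      rfl
    open IntermediateField.algebraAdjoinAdjoin in
    exact (LinearIndependent.iff_fractionRing (R := Algebra.adjoin k (Set.range x)) (K := F)).1 key
  have := hli.finite
  exact Module.Finite.of_basis b

end Groth.Agent.S6333
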