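import Groth.Statements.S19477
import Groth.Agent.Lib.GeomIrr18.Count
import Groth.Agent.S6333
import Mathlib.RingTheory.Invariant.Profinite
import Mathlib.FieldTheory.Galois.Profinite

set_option autoImplicit false
universe u
set_option backward.isDefEq.respectTransparency false
open Variety

namespace Groth.Agent.S19477

/-- Let K be a field, B an integral K-algebra of finite type with fraction field F, and L a Galois
extension of K with group Γ = Aut_K(L). Then F ⊗_K L has only finitely many prime ideals and Γ,
acting through the second factor, permutes them transitively: for prime ideals P, Q there is γ ∈ Γ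
with Q the preimage of P under id ⊗ γ. (The published statement is the geometric one, that the
points of an algebraic K-scheme X correspond to the Γ-orbits of points of X_L and that these orbits
are finite; it reduces to this algebraic statement by passing to the fibre over a point, and the
algebraic statement is what is proved.) -/
theorem result (K B L : Type u) [Field K]
    [CommRing B] [IsDomain B] [Algebra K B] [Algebra.FiniteType K B] [Field L] [Algebra K L] [IsGalois K L] :
    Finite (PrimeSpectrum (TensorProduct K (FractionRing B) L)) ∧
      ∀ P Q : PrimeSpectrum (TensorProduct K (FractionRing B) L), ∃ γ : L ≃ₐ[K] L,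
        Q.asIdeal = P.asIdeal.comap
          (Algebra.TensorProduct.map (AlgHom.id K (FractionRing B)) (γ : L →ₐ[K] L)) := by
  classical
  open TensorProduct in
  exact (by
    let F := FractionRing B
    let T := F ⊗[K] L
    -- the separable closure of the base in the function field is finite
    have hfg : (⊤ : IntermediateField K F).FG := by
      obtain ⟨s, hs⟩ := Algebra.FiniteType.out (R := K) (A := B)
      refine ⟨s.image (algebraMap B F), eq_top_iff.2 fun z _ => ?_⟩
      have hmem : ∀ b : B, algebraMap B F b ∈ IntermediateField.adjoin K ((s.image (algebraMap B F) : Finset F) : Set F) := by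
        intro b
        have hb : b ∈ Algebra.adjoin K (s : Set B) := hs ▸ Algebra.mem_top
        have := IntermediateField.algebra_adjoin_le_adjoin K ((s.image (algebraMap B F) : Finset F) : Set F)
        refine this ?_
        rw [Finset.coe_image, show (algebraMap B F : B → F) = IsScalarTower.toAlgHom K B F from rfl,
          ← AlgHom.map_adjoin]
        exact ⟨b, hb, rfl⟩
      obtain ⟨a, b, -, rfl⟩ := IsFractionRing.div_surjective (A := B) z
      exact div_mem (hmem a) (hmem b)
    haveI : FiniteDimensional K (algebraicClosure K F) := Groth.Agent.S6333.result hfg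
    have hle : separableClosure K F ≤ algebraicClosure K F := fun x hx =>
      mem_algebraicClosure_iff.2 (mem_separableClosure_iff.1 hx).isIntegral.isAlgebraic
    haveI : FiniteDimensional K (separableClosure K F) :=
      Module.Finite.of_injective (IntermediateField.inclusion hle).toLinearMap
        (IntermediateField.inclusion hle).injective
    obtain ⟨hfinS, -⟩ := GeomIrr.card_points_field (k := K) F
    haveI : Finite (PrimeSpectrum (F ⊗[K] SeparableClosure K)) :=
      Finite.of_surjective _ (AlgebraicGeometry.pullbackSpecIso K F (SeparableClosure K)).hom.surjective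
    let σ : L →ₐ[K] SeparableClosure K := IsSepClosed.lift
    let Φ : T →ₐ[K] F ⊗[K] SeparableClosure K := Algebra.TensorProduct.map (AlgHom.id K F) σ
    have hΦ : Function.Injective Φ :=
      Module.Flat.lTensor_preserves_injective_linearMap (M := F) σ.toLinearMap σ.toRingHom.injective
    have hsurjS : Function.Surjective (PrimeSpectrum.comap (R := T) (S := F ⊗[K] SeparableClosure K) Φ.toRingHom) := by
      refine RingHom.IsIntegral.comap_surjective (R := T) (S := F ⊗[K] SeparableClosure K) (f := Φ.toRingHom) ?_ hΦ
      refine RingHom.IsIntegral.tower_top (R := F) (S := T) (T := F ⊗[K] SeparableClosure K) (algebraMap F T) Φ.toRingHom ?_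
      rw [show (Φ.toRingHom : T →+* F ⊗[K] SeparableClosure K).comp (algebraMap F T) =
        algebraMap F (F ⊗[K] SeparableClosure K) from RingHom.ext fun a => by
          simp [Φ]; exact (Algebra.TensorProduct.map_tmul _ _ a 1).trans (by simp)]
      exact (inferInstance : Algebra.IsIntegral F (F ⊗[K] SeparableClosure K)).isIntegral
    refine ⟨Finite.of_surjective _ hsurjS, fun P Q => ?_⟩
    let ψ : (L ≃ₐ[K] L) →* (T ≃ₐ[F] T) :=
      { toFun := fun γ => Algebra.TensorProduct.congr (AlgEquiv.refl : F ≃ₐ[F] F) γ
        map_one' := AlgEquiv.ext fun z => by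
          induction z using TensorProduct.induction_on <;> simp_all
        map_mul' := fun γ δ => AlgEquiv.ext fun z => by
          induction z using TensorProduct.induction_on <;> simp_all }
    letI : MulSemiringAction (L ≃ₐ[K] L) T := MulSemiringAction.compHom T ψ
    have hsmul : ∀ (γ : L ≃ₐ[K] L) (z : T), γ • z = Algebra.TensorProduct.map (AlgHom.id K F) (γ : L →ₐ[K] L) z := by
      intro γ z
      show ψ γ z = _
      induction z using TensorProduct.induction_on with
      | zero => simp
      | add a b ha hb => rw [map_add, map_add, ha, hb]
      | tmul a c => simp [ψ]; rfl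
    haveI : SMulCommClass (L ≃ₐ[K] L) F T := ⟨fun γ a z => (ψ γ).toLinearEquiv.map_smul a z⟩
    letI : TopologicalSpace T := ⊥
    haveI : DiscreteTopology T := ⟨rfl⟩
    haveI : ContinuousSMul (L ≃ₐ[K] L) T := continuousSMul_iff_stabilizer_isOpen.2 fun z => by
      obtain ⟨s, hs⟩ : ∃ s : Finset L, ∀ γ : L ≃ₐ[K] L, (∀ l ∈ s, γ l = l) → γ • z = z := by
        induction z using TensorProduct.induction_on with
        | zero => exact ⟨∅, fun γ _ => smul_zero γ⟩
        | tmul a c =>
          refine ⟨{c}, fun γ h => ?_⟩
          rw [hsmul, Algebra.TensorProduct.map_tmul]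
          exact congrArg (fun y => a ⊗ₜ[K] y) (h c (Finset.mem_singleton_self c))
        | add a b ha hb =>
          obtain ⟨s, hs⟩ := ha
          obtain ⟨t, ht⟩ := hb
          exact ⟨s ∪ t, fun γ h => by rw [smul_add, hs γ fun l hl => h l (Finset.mem_union_left _ hl),
            ht γ fun l hl => h l (Finset.mem_union_right _ hl)]⟩
      let E := IntermediateField.adjoin K (s : Set L)
      haveI : FiniteDimensional K E :=
        IntermediateField.finiteDimensional_adjoin fun x _ => Algebra.IsIntegral.isIntegral x
      refine Subgroup.isOpen_mono (H₁ := E.fixingSubgroup) ?_ (IntermediateField.fixingSubgroup_isOpen E)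
      intro γ hγ
      exact hs γ fun l hl => (IntermediateField.mem_fixingSubgroup_iff E γ).1 hγ l (IntermediateField.subset_adjoin K _ hl)
    haveI : Algebra.IsInvariant F T (L ≃ₐ[K] L) := ⟨fun z hz => by
      let b := Module.Free.chooseBasis K F
      obtain ⟨c, rfl⟩ := TensorProduct.eq_repr_basis_left b z
      have hfix : ∀ j, ∀ γ : L ≃ₐ[K] L, γ (c j) = c j := by
        intro j γ
        have h := hz γ
        rw [hsmul, map_finsuppSum] at h
        have h' : ((c.mapRange (γ : L → L) (map_zero γ)).sum fun i n => b i ⊗ₜ[K] n) = c.sum fun i n => b i ⊗ₜ[K] n := by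
          rw [Finsupp.sum_mapRange_index (h := fun i (n : L) => b i ⊗ₜ[K] n) (fun _ => tmul_zero _ _), ← h]
          exact Finsupp.sum_congr fun i _ => by simp
        have h'' := TensorProduct.sum_tmul_basis_left_injective b h'
        exact DFunLike.congr_fun h'' j
      choose d hd using fun j => (InfiniteGalois.mem_range_algebraMap_iff_fixed (k := K) (c j)).2 (hfix j)
      refine ⟨c.sum fun i _ => d i • b i, ?_⟩
      rw [map_finsuppSum]
      refine Finsupp.sum_congr fun i _ => ?_
      rw [Algebra.TensorProduct.algebraMap_apply, Algebra.algebraMap_self, RingHom.id_apply, smul_tmul,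
        Algebra.smul_def, mul_one, hd]⟩
    have hunder : P.asIdeal.under F = Q.asIdeal.under F := by
      show P.asIdeal.comap (algebraMap F T) = Q.asIdeal.comap (algebraMap F T)
      rw [(Ideal.eq_bot_or_top _).resolve_right (Ideal.comap_ne_top (algebraMap F T) P.isPrime.ne_top),
        (Ideal.eq_bot_or_top _).resolve_right (Ideal.comap_ne_top (algebraMap F T) Q.isPrime.ne_top)]
    obtain ⟨g, hg⟩ := Algebra.IsInvariant.exists_smul_of_under_eq_of_profinite (A := F) (G := L ≃ₐ[K] L)
      P.asIdeal Q.asIdeal hunder
    refine ⟨g⁻¹, ?_⟩
    rw [hg]
    ext z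
    rw [Ideal.mem_pointwise_smul_iff_inv_smul_mem, Ideal.mem_comap, hsmul])

end Groth.Agent.S19477
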