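import Groth.Statements.S19478
import Groth.Agent.Lib.FMHyp13.UnitDual

set_option backward.isDefEq.respectTransparency false
set_option backward.isDefEq.respectTransparency.types false
set_option linter.style.haveILetI false
-- import your own Groth.Agent.* helpers here

set_option autoImplicit false
universe u
open CategoryTheory CategoryTheory.Limits MonoidalCategory CartesianMonoidalCategory MonObj GrpObj AlgebraicGeometry
attribute [local instance] HasDerivedCategory.standard
open AbVar

namespace Groth.Agent.S19478

/-- Let k be an algebraically closed field of characteristic zero and A an abelian variety over k (a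
proper smooth k-group scheme with geometrically connected fibres) of dimension g, with unit section
e : Spec k → A, and let k(0) = e_*O_{Spec k} be the skyscraper sheaf at the unit point. Regard k(0)
as a complex in degree 0 and form RHom(k(0), O_A) in the derived category of O_A-modules (the
derived functors involved are assumed to exist); its cohomology sheaves are the sheaves Ext^p(k(0),
O_A). Then Ext^p(k(0), O_A) = 0 for every natural number p < g, and Ext^g(k(0), O_A) is isomorphic
to k(0) (existence of an isomorphism). -/
theorem result (k : Type u) [Field k] [IsAlgClosed k] [CharZero k]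
    (A : Over (Spec (CommRingCat.of k))) [GrpObj A] [IsProper A.hom] [Smooth A.hom] [GeometricallyConnected A.hom]
    (g : ℕ) (hg : topologicalKrullDim ↥A.left = g)
    [DCoh.HasLTensorCx ((HomologicalComplex.single A.left.Modules (ComplexShape.up ℤ) 0).obj ((Scheme.Modules.pushforward η[A].left).obj (Coh.structureModule (Spec (CommRingCat.of k)))))] [DCoh.HasRSheafHom ((HomologicalComplex.single A.left.Modules (ComplexShape.up ℤ) 0).obj ((Scheme.Modules.pushforward η[A].left).obj (Coh.structureModule (Spec (CommRingCat.of k)))))] :
    (∀ p : ℕ, p < g → IsZero (DCoh.HD ((DCoh.RSheafHom ((HomologicalComplex.single A.left.Modules (ComplexShape.up ℤ) 0).obj ((Scheme.Modules.pushforward η[A].left).obj (Coh.structureModule (Spec (CommRingCat.of k)))))).obj (DCoh.inD A.left (Coh.structureModule A.left))) (p : ℤ))) ∧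
      Nonempty ((DCoh.HD ((DCoh.RSheafHom ((HomologicalComplex.single A.left.Modules (ComplexShape.up ℤ) 0).obj ((Scheme.Modules.pushforward η[A].left).obj (Coh.structureModule (Spec (CommRingCat.of k)))))).obj (DCoh.inD A.left (Coh.structureModule A.left))) (g : ℤ)) ≅ ((Scheme.Modules.pushforward η[A].left).obj (Coh.structureModule (Spec (CommRingCat.of k))))) := by
  obtain ⟨D, pD, ⟨eD⟩⟩ := FMHyp13.UnitDual.exists_dual_sky (A := A) hg
  haveI := pD
  obtain ⟨r⟩ := FMHyp13.UnitDual.nonempty_sky_single A
  let T := (Scheme.Modules.pushforward η[A].left).obj (Coh.structureModule (Spec (CommRingCat.of k)))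
  let K := (HomologicalComplex.single A.left.Modules (ComplexShape.up ℤ) 0).obj T
  let eK₀ : DCoh.toD A.left K ≅ FMHyp13.UnitDual.skyD A :=
    ((DerivedCategory.singleFunctorIsoCompQ A.left.Modules 0).app T).symm ≪≫ r.symm
  obtain ⟨rK⟩ := FMAdj9.nonempty_rhomIso K (k := FMHyp13.UnitDual.skyM A) eK₀ D
  let oA : DMon9.DM A.left := DCoh.inD A.left (Coh.structureModule A.left)
  let e : (DCoh.RSheafHom K).obj (DCoh.inD A.left (Coh.structureModule A.left)) ≅
      (DerivedCategory.singleFunctor A.left.Modules (g : ℤ)).obj T :=
    rK.app _ ≪≫ (whiskerRightIso (C := DMon9.DM A.left) (FMHyp13.DualPush.oneIso : oA ≅ 𝟙_ _) D ≪≫ λ_ D :) ≪≫ eD ≪≫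
      (shiftFunctor (DCoh.D A.left) (-(g : ℤ))).mapIso r ≪≫
      ((DerivedCategory.singleFunctors A.left.Modules).shiftIso (-(g : ℤ)) (g : ℤ) 0 (by omega)).app T
  let h : ∀ i : ℤ, DCoh.HD _ i ≅ DCoh.HD ((DerivedCategory.singleFunctor A.left.Modules (g : ℤ)).obj T) i :=
    fun i => (DerivedCategory.homologyFunctor A.left.Modules i).mapIso e
  refine ⟨fun p hp => IsZero.of_iso ?_ (h p),
    ⟨h g ≪≫ (DerivedCategory.singleFunctorCompHomologyFunctorIso A.left.Modules (g : ℤ)).app T⟩⟩
  exact DerivedCategory.isZero_of_isGE ((DerivedCategory.singleFunctor A.left.Modules (g : ℤ)).obj T) (g : ℤ) p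
    (by exact_mod_cast hp)

end Groth.Agent.S19478
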