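import Groth.Statements.S19479
import Groth.Agent.Lib.CoalgH23.Simple

set_option autoImplicit false
universe u v w
open HopfRep

namespace Groth.Agent.S19479

open scoped Groth.Agent.CoalgH23
open Groth.Agent.CoalgH23 WithConv

open TensorProduct in
/-- Let K be a field, C a K-coalgebra and V a right C-comodule. The following are equivalent: (i) V is
the internal direct sum of a family of simple subcomodules, i.e. there is an independent family of
subcomodules W_i with sum V, each W_i nonzero and having no subcomodules inside it other than 0 and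
W_i; (ii) every subcomodule of V has a complementary subcomodule. A subcomodule is a subspace W
whose coaction lands in the image of W ⊗ C. (The source states this for left comodules; a left
comodule over C is a right comodule over the co-opposite coalgebra, so the statement is the same.) -/
theorem result {K : Type u} {C : Type v} [Field K]
    [AddCommGroup C] [Module K C] [Coalgebra K C] (V : Type w) [AddCommGroup V] [Module K V] [HopfRep.Comod K C V] :
    (∃ (ι : Type w) (W : ι → Submodule K V), iSupIndep W ∧ iSup W = ⊤ ∧ ∀ i,
        HopfRep.IsSubcomod (k := K) (A := C) (W i) ∧ W i ≠ ⊥ ∧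
          ∀ W' : Submodule K V, HopfRep.IsSubcomod (k := K) (A := C) W' → W' ≤ W i → W' = ⊥ ∨ W' = W i) ↔
      HopfRep.IsSemisimpleComod K C V := by
  constructor
  · rintro ⟨ι, W, _, htop, hW⟩
    refine isSemisimpleComod_iff.2 ?_
    refine isSemisimpleModule_of_isSemisimpleModule_submodule' (p := fun i => ofSub (W i) (hW i).1) (fun i => ?_) ?_
    · have := (isSimpleModule_iff_minimal (ofSub (W i) (hW i).1)).2 ⟨(hW i).2.1, (hW i).2.2⟩
      infer_instance
    · refine eq_top_iff.2 fun v _ => ?_
      have hle : iSup W ≤ (⨆ i, ofSub (W i) (hW i).1).restrictScalars K := iSup_le fun i x hx =>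
        le_iSup (fun i => ofSub (W i) (hW i).1) i hx
      exact hle (htop ▸ Submodule.mem_top)
  · intro hV
    have := isSemisimpleComod_iff.1 hV
    obtain ⟨s, ind, hs, hsimple⟩ := IsSemisimpleModule.exists_sSupIndep_sSup_simples_eq_top (WithConv (C →ₗ[K] K)) V
    refine ⟨s, fun M => M.1.restrictScalars K, ?_, ?_, fun M =>
      ⟨isSubcomod_restrictScalars M.1, (isSimpleModule_iff_minimal M.1).1 (hsimple M.1 M.2)⟩⟩
    · have ind' := (sSupIndep_iff _).1 ind
      refine iSupIndep_def.2 fun M => Submodule.disjoint_def.2 fun x hx hx' => ?_
      refine Submodule.disjoint_def.1 (iSupIndep_def.1 ind' M) x hx ?_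
      have hle : (⨆ (N : s) (_ : N ≠ M), N.1.restrictScalars K) ≤ (⨆ (N : s) (_ : N ≠ M), N.1).restrictScalars K :=
        iSup₂_le fun N hN y hy => le_iSup₂ (f := fun (N : s) (_ : N ≠ M) => N.1) N hN hy
      exact hle hx'
    · refine eq_top_iff.2 fun v _ => ?_
      refine restrictScalars_iSup_le _ ?_
      rw [Submodule.restrictScalars_mem, ← sSup_eq_iSup', hs]
      exact Submodule.mem_top

end Groth.Agent.S19479
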