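import Groth.Statements.S19482
import Groth.Agent.Lib.KS17.Slope
import Groth.Agent.Lib.CohFound.ModQuot
import Groth.Agent.Lib.VB17.Saturate
-- import your own Groth.Agent.* helpers here

set_option autoImplicit false
universe u
open CategoryTheory CategoryTheory.Limits AlgebraicGeometry
open VBCurve

namespace Groth.Agent.S19482

open Groth.Agent

/-- Let X be a smooth proper integral curve over an algebraically closed field k. Say that a finite
locally free O_X-module E of rank r is essentially finite if it is slope-semistable of degree 0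
(degree = χ(E) − r·χ(O_X); semistable: every finite locally free submodule of positive rank has
degree ≤ 0) and there exist a finite locally free module G which is finite in the sense of Weil —
P(G) ≅ Q(G) for two distinct polynomials P ≠ Q with natural-number coefficients, where P(G) is the
direct sum over i of P_i copies of G^{⊗ i} — and sub-bundles F₂ ⊆ F₁ ⊆ G (monomorphisms F₂ → F₁ → G
whose cokernels are finite locally free), with F₁ and F₂ slope-semistable of degree 0, such that E ≅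
F₁/F₂. If E₁ of rank r₁ and E₂ of rank r₂ are essentially finite, then E₁ ⊗ E₂ is finite locally
free of rank r₁ r₂ and essentially finite. (The predicate is written out in full three times; the
curve is smooth, proper and integral of dimension one over an algebraically closed field, so
slope-semistability has its usual meaning.) -/
theorem result (k : Type u) [Field k] [IsAlgClosed k] (X : Scheme.{u}) [X.Over (Spec (CommRingCat.of k))]
    [IsIntegral X] [IsProper (X ↘ Spec (CommRingCat.of k))] [Smooth (X ↘ Spec (CommRingCat.of k))]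
    (hdim : topologicalKrullDim X = 1)
    (r₁ r₂ : ℕ) (E₁ E₂ : X.Modules) (hE₁ : FlatMod.IsFinLocFreeOfRank r₁ E₁) (hE₂ : FlatMod.IsFinLocFreeOfRank r₂ E₂)
    (h₁ : (Curv2.deg k X E₁ r₁ = 0 ∧ ModFun.IsSlopeSemistable k X E₁ r₁ ∧
      ∃ (s : ℕ) (G : X.Modules) (s₁ : ℕ) (F₁ : X.Modules) (s₂ : ℕ) (F₂ : X.Modules) (i₁ : F₁ ⟶ G) (i₂ : F₂ ⟶ F₁),
        FlatMod.IsFinLocFreeOfRank s G ∧
        (∃ P Q : Polynomial ℕ, P ≠ Q ∧ Nonempty ((∐ fun i : Fin (P.natDegree + 1) => ∐ fun _ : Fin (P.coeff ↑i) => CohB1.tensorPow G ↑i) ≅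
          (∐ fun i : Fin (Q.natDegree + 1) => ∐ fun _ : Fin (Q.coeff ↑i) => CohB1.tensorPow G ↑i))) ∧
        FlatMod.IsFinLocFreeOfRank s₁ F₁ ∧ FlatMod.IsFinLocFreeOfRank s₂ F₂ ∧ Mono i₁ ∧ Mono i₂ ∧
        FlatMod.IsFinLocFree (cokernel i₁) ∧ FlatMod.IsFinLocFree (cokernel i₂) ∧
        Curv2.deg k X F₁ s₁ = 0 ∧ ModFun.IsSlopeSemistable k X F₁ s₁ ∧
        Curv2.deg k X F₂ s₂ = 0 ∧ ModFun.IsSlopeSemistable k X F₂ s₂ ∧
        Nonempty (E₁ ≅ cokernel i₂)))
    (h₂ : (Curv2.deg k X E₂ r₂ = 0 ∧ ModFun.IsSlopeSemistable k X E₂ r₂ ∧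
      ∃ (s : ℕ) (G : X.Modules) (s₁ : ℕ) (F₁ : X.Modules) (s₂ : ℕ) (F₂ : X.Modules) (i₁ : F₁ ⟶ G) (i₂ : F₂ ⟶ F₁),
        FlatMod.IsFinLocFreeOfRank s G ∧
        (∃ P Q : Polynomial ℕ, P ≠ Q ∧ Nonempty ((∐ fun i : Fin (P.natDegree + 1) => ∐ fun _ : Fin (P.coeff ↑i) => CohB1.tensorPow G ↑i) ≅
          (∐ fun i : Fin (Q.natDegree + 1) => ∐ fun _ : Fin (Q.coeff ↑i) => CohB1.tensorPow G ↑i))) ∧
        FlatMod.IsFinLocFreeOfRank s₁ F₁ ∧ FlatMod.IsFinLocFreeOfRank s₂ F₂ ∧ Mono i₁ ∧ Mono i₂ ∧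
        FlatMod.IsFinLocFree (cokernel i₁) ∧ FlatMod.IsFinLocFree (cokernel i₂) ∧
        Curv2.deg k X F₁ s₁ = 0 ∧ ModFun.IsSlopeSemistable k X F₁ s₁ ∧
        Curv2.deg k X F₂ s₂ = 0 ∧ ModFun.IsSlopeSemistable k X F₂ s₂ ∧
        Nonempty (E₂ ≅ cokernel i₂))) :
    FlatMod.IsFinLocFreeOfRank (r₁ * r₂) (CohB1.tensorMod E₁ E₂) ∧
    (Curv2.deg k X (CohB1.tensorMod E₁ E₂) (r₁ * r₂) = 0 ∧ ModFun.IsSlopeSemistable k X (CohB1.tensorMod E₁ E₂) (r₁ * r₂) ∧
      ∃ (s : ℕ) (G : X.Modules) (s₁ : ℕ) (F₁ : X.Modules) (s₂ : ℕ) (F₂ : X.Modules) (i₁ : F₁ ⟶ G) (i₂ : F₂ ⟶ F₁),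
        FlatMod.IsFinLocFreeOfRank s G ∧
        (∃ P Q : Polynomial ℕ, P ≠ Q ∧ Nonempty ((∐ fun i : Fin (P.natDegree + 1) => ∐ fun _ : Fin (P.coeff ↑i) => CohB1.tensorPow G ↑i) ≅
          (∐ fun i : Fin (Q.natDegree + 1) => ∐ fun _ : Fin (Q.coeff ↑i) => CohB1.tensorPow G ↑i))) ∧
        FlatMod.IsFinLocFreeOfRank s₁ F₁ ∧ FlatMod.IsFinLocFreeOfRank s₂ F₂ ∧ Mono i₁ ∧ Mono i₂ ∧
        FlatMod.IsFinLocFree (cokernel i₁) ∧ FlatMod.IsFinLocFree (cokernel i₂) ∧
        Curv2.deg k X F₁ s₁ = 0 ∧ ModFun.IsSlopeSemistable k X F₁ s₁ ∧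
        Curv2.deg k X F₂ s₂ = 0 ∧ ModFun.IsSlopeSemistable k X F₂ s₂ ∧
        Nonempty ((CohB1.tensorMod E₁ E₂) ≅ cokernel i₂)) := by
  classical
  have hX := VB17.regCurve' (k := k) (X := X) hdim
  haveI := hX.like.noetherian
  obtain ⟨d₁, -, s, G, a, F, c, K₁, i, i₂, hG, wG, hF, hK₁, hi, hi₂, -, -, dF, -, -, -, ⟨u⟩⟩ := h₁
  obtain ⟨d₂, -, t, G', b, F', e, K₂, i', i₂', hG', wG', hF', hK₂, hi', hi₂', -, -, dF', -, -, -, ⟨u'⟩⟩ := h₂
  haveI := hi
  haveI := hi'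
  have fT := KS17.finType_tensor hX hG hG' ((KS17.wf_iff_finType hX hG).1 wG) ((KS17.wf_iff_finType hX hG').1 wG')
  have hT := M2.isFinLocFreeOfRank_tensor hG hG'
  have hA := M2.isFinLocFreeOfRank_tensor hF hF'
  have hE := M2.isFinLocFreeOfRank_tensor hE₁ hE₂
  have dA : Curv2.deg k X (CohB1.tensorMod F F') (a * b) = 0 := by rw [hX.like.deg_tensor hF hF', dF, dF']; ring
  have dE : Curv2.deg k X (CohB1.tensorMod E₁ E₂) (r₁ * r₂) = 0 := by
    rw [hX.like.deg_tensor hE₁ hE₂, d₁, d₂]; ring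
  -- the inclusion into the finite bundle
  let ι : CohB1.tensorMod F F' ⟶ CohB1.tensorMod G G' :=
    (M2.tensorMap i (𝟙 F') ≫ (M2.tensorComm G F').hom) ≫ M2.tensorMap i' (𝟙 G) ≫ (M2.tensorComm G' G).hom
  have hι : Mono ι := by
    haveI := KS17.mono_tensorR i hF'
    haveI := KS17.mono_tensorR i' hG
    exact mono_comp' (mono_comp' inferInstance (IsSplitMono.mono _)) (mono_comp' inferInstance (IsSplitMono.mono _))
  have hsubT : ∀ (P : X.Modules) (r' : ℕ) (j : P ⟶ CohB1.tensorMod G G'), Mono j →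
      FlatMod.IsFinLocFreeOfRank r' P → Curv2.deg k X P r' ≤ 0 := fun P r' j hj hP => by
    rcases Nat.eq_zero_or_pos (s * t) with h | h
    · haveI := hj
      have := VB17.rank_le_of_mono hX hT hP j
      obtain rfl : r' = 0 := by omega
      rw [VB17.deg_rank_zero hX.like hP]
    · rcases Nat.eq_zero_or_pos r' with h' | h'
      · subst h'
        rw [VB17.deg_rank_zero hX.like hP]
      · exact (KS17.deg_eq_zero_of_finType hX h hT fT).2 P r' j hj h' hP
  -- the quotient map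
  let π : F ⟶ E₁ := cokernel.π i₂ ≫ u.inv
  let π' : F' ⟶ E₂ := cokernel.π i₂' ≫ u'.inv
  haveI : Epi π := epi_comp' inferInstance (IsSplitEpi.epi _)
  haveI : Epi π' := epi_comp' inferInstance (IsSplitEpi.epi _)
  let q : CohB1.tensorMod F F' ⟶ CohB1.tensorMod E₁ E₂ :=
    (M2.tensorMap π (𝟙 F') ≫ (M2.tensorComm E₁ F').hom) ≫ M2.tensorMap π' (𝟙 E₁) ≫ (M2.tensorComm E₂ E₁).hom
  haveI hq : Epi q := epi_comp' (epi_comp' (CohFound.epi_tensorMap π F') (IsSplitEpi.epi _))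
    (epi_comp' (CohFound.epi_tensorMap π' E₁) (IsSplitEpi.epi _))
  obtain ⟨rK, rI, hK, -, -, -, -, -⟩ := VB17.exists_image hX.pid hA hE q
  have hS : (ShortComplex.mk (kernel.ι q) q (kernel.condition q)).ShortExact :=
    { exact := ShortComplex.exact_of_f_is_kernel _ (kernelIsKernel q) }
  have dK : Curv2.deg k X (kernel q) rK = 0 := by
    have h := VB17.deg_add hX.like hS hK hA hE
    change Curv2.deg k X (CohB1.tensorMod F F') (a * b) =
      Curv2.deg k X (kernel q) rK + Curv2.deg k X (CohB1.tensorMod E₁ E₂) (r₁ * r₂) at h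
    rw [dA, dE, add_zero] at h
    exact h.symm
  let w : CohB1.tensorMod E₁ E₂ ≅ cokernel (kernel.ι q) :=
    hS.gIsCokernel.coconePointUniqueUpToIso (colimit.isColimit _)
  refine ⟨hE, dE, fun Q r' j hj h0 hQ => ?_, _, CohB1.tensorMod G G', _, CohB1.tensorMod F F', rK, kernel q, ι,
    kernel.ι q, hT, (KS17.wf_iff_finType hX hT).2 fT, hA, hK, hι, inferInstance, ?_, ?_, dA, ?_, dK, ?_, ⟨w⟩⟩
  · rw [dE, zero_mul]
    refine mul_nonpos_of_nonpos_of_nonneg ?_ (by positivity)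
    haveI := hj
    haveI : Mono (j ≫ w.hom) := mono_comp' inferInstance (IsSplitMono.mono _)
    obtain ⟨P, l, hl, hP, dP⟩ := VB17.exists_preimage hX hA hK (kernel.ι q) hQ (j ≫ w.hom)
    have h := hsubT P _ (l ≫ ι) (mono_comp' hl hι) hP
    rw [dP, dK, zero_add] at h
    exact h
  · haveI := hι
    exact VB17.isFinLocFree_cokernel hX hT hA ι fun P j' hj' hP => (hsubT P _ j' hj' hP).trans dA.ge
  · exact VB17.isFinLocFree_cokernel hX hA hK (kernel.ι q) fun P j' hj' hP =>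
      (hsubT P _ (j' ≫ ι) (mono_comp' hj' hι) hP).trans dK.ge
  · intro P r' j hj h0 hP
    rw [dA, zero_mul]
    exact mul_nonpos_of_nonpos_of_nonneg (hsubT P _ (j ≫ ι) (mono_comp' hj hι) hP) (by positivity)
  · intro P r' j hj h0 hP
    rw [dK, zero_mul]
    exact mul_nonpos_of_nonpos_of_nonneg
      (hsubT P _ ((j ≫ kernel.ι q) ≫ ι) (mono_comp' (mono_comp' hj inferInstance) hι) hP) (by positivity)

end Groth.Agent.S19482
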