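import Groth.Statements.S19483
import Groth.Agent.Lib.FieldBr3.CurveSupp
-- import your own Groth.Agent.* helpers here

set_option autoImplicit false
universe u
open CategoryTheory CategoryTheory.Limits AlgebraicGeometry
open Curves

namespace Groth.Agent.S19483

/-- Let k be a separably closed field and C a curve over k, that is a scheme of finite type over k of
dimension at most one (no connectedness, smoothness, separatedness or properness assumed). Let F be
a torsion abelian sheaf on the small étale site of C such that the stalk of F vanishes at every
geometric point of C lying over a generic point of an irreducible component (a point admitting no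
proper generalization). Then H^q(C_ét, F) = 0 for all q > 0. (The published statement fixes one
geometric point over each generic point; the dimension is taken at most one here, the
zero-dimensional case being immediate.) -/
theorem result
    (k : Type u) [Field k] [IsSepClosed k] (C : Scheme.{u})
    (f : C ⟶ Spec (CommRingCat.of k)) [LocallyOfFiniteType f] [QuasiCompact f]
    (hdim : topologicalKrullDim C ≤ 1) (F : EtCoh.Ab C) (hF : EtCoh.IsTorsion F)
    (hgen : ∀ (Ω : Type u) [Field Ω] [IsSepClosed Ω] (ξ : Spec (CommRingCat.of Ω) ⟶ C),
      (∀ x ∈ Set.range ξ.base, ∀ y : C, y ⤳ x → y = x) → IsZero ((EtCoh.stalk ξ).obj F))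
    (q : ℕ) (hq : 0 < q) : Subsingleton (EtCoh.H C F q) := by
  exact Groth.Agent.FieldBr3.subsingleton_H_suppClosed f F
    (Groth.Agent.FieldBr3.suppClosed_of_maxPts hdim F hgen) hq

end Groth.Agent.S19483
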