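import Groth.Statements.S19484
import Groth.Agent.Lib.FieldBr3.CurveSupp
-- import your own Groth.Agent.* helpers here

set_option autoImplicit false
universe u
open CategoryTheory CategoryTheory.Limits AlgebraicGeometry
open Curves

namespace Groth.Agent.S19484

/-- Let k be a separably closed field and C a curve over k, that is a scheme of finite type over k of
dimension at most one (no connectedness, smoothness, separatedness or properness assumed). Let φ : F
→ G be a morphism of torsion abelian sheaves on the small étale site of C which induces an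
isomorphism on stalks at every geometric point of C lying over a generic point of an irreducible
component (a point admitting no proper generalization). Then the induced map H^q(C_ét, F) →
H^q(C_ét, G) is an isomorphism for all q > 1; if moreover φ is an epimorphism, it is an isomorphism
for q = 1 as well. (The published statement fixes one geometric point over each generic point; the
dimension is taken at most one here.) -/
theorem result
    (k : Type u) [Field k] [IsSepClosed k] (C : Scheme.{u})
    (f : C ⟶ Spec (CommRingCat.of k)) [LocallyOfFiniteType f] [QuasiCompact f]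
    (hdim : topologicalKrullDim C ≤ 1) (F G : EtCoh.Ab C) (hF : EtCoh.IsTorsion F) (hG : EtCoh.IsTorsion G)
    (φ : F ⟶ G)
    (hgen : ∀ (Ω : Type u) [Field Ω] [IsSepClosed Ω] (ξ : Spec (CommRingCat.of Ω) ⟶ C),
      (∀ x ∈ Set.range ξ.base, ∀ y : C, y ⤳ x → y = x) → IsIso ((EtCoh.stalk ξ).map φ)) :
    (∀ q : ℕ, 1 < q → IsIso ((EtCoh.HF C q).map φ)) ∧ (Epi φ → IsIso ((EtCoh.HF C 1).map φ)) := by
  have hmax : ∀ (Ω : Type u) [Field Ω] [IsSepClosed Ω] (ξ : Spec (CommRingCat.of Ω) ⟶ C),
      (∀ x ∈ Set.range ξ.base, ∀ y : C, y ⤳ x → y = x) →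
        IsZero ((EtCoh.stalk ξ).obj (kernel φ)) ∧ IsZero ((EtCoh.stalk ξ).obj (cokernel φ)) := fun Ω _ _ ξ hx => by
    haveI := hgen Ω ξ hx
    constructor
    · haveI : Mono ((EtCoh.stalk ξ).map (kernel.ι φ)) := inferInstance
      refine (IsZero.iff_id_eq_zero _).2 ((cancel_mono ((EtCoh.stalk ξ).map (kernel.ι φ))).1
        ((cancel_mono ((EtCoh.stalk ξ).map φ)).1 ?_))
      rw [Category.id_comp, Limits.zero_comp, Limits.zero_comp, ← Functor.map_comp, kernel.condition, Functor.map_zero]
    · haveI : Epi ((EtCoh.stalk ξ).map (cokernel.π φ)) := inferInstance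
      refine (IsZero.iff_id_eq_zero _).2 ((cancel_epi ((EtCoh.stalk ξ).map (cokernel.π φ))).1
        ((cancel_epi ((EtCoh.stalk ξ).map φ)).1 ?_))
      rw [Category.comp_id, Limits.comp_zero, Limits.comp_zero, ← Functor.map_comp, cokernel.condition, Functor.map_zero]
  have hK := Groth.Agent.FieldBr3.suppClosed_of_maxPts hdim (kernel φ) fun Ω _ _ ξ hx => (hmax Ω ξ hx).1
  have hC := Groth.Agent.FieldBr3.suppClosed_of_maxPts hdim (cokernel φ) fun Ω _ _ ξ hx => (hmax Ω ξ hx).2
  exact ⟨fun q hq => Groth.Agent.FieldBr3.isIso_HF_map f φ hK hC q (by omega) (Or.inl hq),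
    fun hepi => Groth.Agent.FieldBr3.isIso_HF_map f φ hK hC 1 le_rfl (Or.inr hepi)⟩

end Groth.Agent.S19484
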