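import Groth.Statements.S19485
import Mathlib.RingTheory.PowerSeries.Order
import Mathlib.LinearAlgebra.Span.Basic
import Mathlib.RingTheory.Ideal.Maps
import Mathlib.LinearAlgebra.Prod

set_option autoImplicit false
universe u
open Crimp

namespace Groth.Agent.S19485

/-- The criterion for closedness under multiplication on which the description of the stratum rests.
Over R = k⟦t⟧ with k an algebraically closed field of characteristic zero, let S̃ = k⟦x⟧ regarded as
an R-algebra through t ↦ x ^ 3, that is S̃ = R[x] / (x ^ 3 - t). Let m, n be natural numbers with m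
not divisible by 3, and let g be a power series with nonzero constant term. Then the R-submodule of
S̃ spanned by 1 and x ^ m g together with the ideal x ^ n S̃ is closed under multiplication if and
only if n ≤ 2m. (The published proposition goes on to describe the stratum of crimps with these
invariants as irreducible of dimension ⌊(n - m)/3⌋ with a normal form for g; only the closedness
criterion is stated here.) -/
theorem result {k : Type u} [Field k] [IsAlgClosed k] [CharZero k]
    (m n : ℕ) (hm : ¬ 3 ∣ m) (x g : W4c1hurwitzcpt.RootDisk 3 k)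
    (hx : W4c1hurwitzcpt.RootDisk.val x = PowerSeries.X) (hg : PowerSeries.order (W4c1hurwitzcpt.RootDisk.val g) = 0)
    (M : Submodule (PowerSeries k) (W4c1hurwitzcpt.RootDisk 3 k))
    (hM : M = Submodule.span (PowerSeries k) {1, x ^ m * g} ⊔
      (Ideal.span {x ^ n} : Ideal (W4c1hurwitzcpt.RootDisk 3 k)).restrictScalars (PowerSeries k)) :
    (∀ a ∈ M, ∀ b ∈ M, a * b ∈ M) ↔ n ≤ 2 * m := by
  constructor
  · intro hcl
    by_contra hlt
    push Not at hlt
    have hu : x ^ m * g ∈ M := by
      rw [hM]; exact Submodule.mem_sup_left (Submodule.subset_span (Set.mem_insert_of_mem _ rfl))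
    have hmem := hcl _ hu _ hu
    rw [hM, Submodule.mem_sup] at hmem
    obtain ⟨w, hw, i, hi, hwi⟩ := hmem
    obtain ⟨r, s, rfl⟩ := Submodule.mem_span_pair.1 hw
    obtain ⟨h, rfl⟩ := Ideal.mem_span_singleton'.1 (Submodule.restrictScalars_mem _ _ _ |>.1 hi)
    have e := congrArg W4c1hurwitzcpt.RootDisk.val hwi
    simp only [Algebra.smul_def, map_add, map_mul, map_pow, map_one, mul_one, hx] at e
    set P := W4c1hurwitzcpt.RootDisk.val g
    set Hh := W4c1hurwitzcpt.RootDisk.val h
    rw [show W4c1hurwitzcpt.RootDisk.val (algebraMap (PowerSeries k) (W4c1hurwitzcpt.RootDisk 3 k) r) =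
      PowerSeries.expand 3 three_ne_zero r from rfl,
      show W4c1hurwitzcpt.RootDisk.val (algebraMap (PowerSeries k) (W4c1hurwitzcpt.RootDisk 3 k) s) =
      PowerSeries.expand 3 three_ne_zero s from rfl] at e
    set A := PowerSeries.expand 3 three_ne_zero r
    set B := PowerSeries.expand 3 three_ne_zero s * (PowerSeries.X ^ m * P)
    set Q : PowerSeries k := PowerSeries.X ^ m * P * (PowerSeries.X ^ m * P)
    have hQ : Q.order = ((2 * m : ℕ) : ℕ∞) := by
      simp only [Q, PowerSeries.order_mul, PowerSeries.order_X_pow, hg, add_zero]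
      push_cast
      ring
    have hC : ((2 * m : ℕ) : ℕ∞) < (-(Hh * PowerSeries.X ^ n)).order := by
      rw [PowerSeries.order_neg, PowerSeries.order_mul, PowerSeries.order_X_pow]
      exact lt_of_lt_of_le (by exact_mod_cast hlt) le_add_self
    have hAB : (A + B).order = ((2 * m : ℕ) : ℕ∞) := by
      rw [show A + B = Q + -(Hh * PowerSeries.X ^ n) by rw [← e]; ring,
        PowerSeries.order_add_of_order_ne _ _ (by rw [hQ]; exact hC.ne), hQ]
      exact min_eq_left hC.le
    have hA : A.order = 3 • r.order := PowerSeries.order_expand _ _ r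
    have hB : B.order = 3 • s.order + (m : ℕ∞) := by
      simp only [B, PowerSeries.order_mul, PowerSeries.order_X_pow, hg, add_zero]
      rw [PowerSeries.order_expand]
    clear_value A B Q
    cases hr' : r.order with
    | top =>
      have hA0 : A = 0 := PowerSeries.order_eq_top.1 (by rw [hA, hr']; simp)
      rw [hA0, zero_add, hB] at hAB
      cases hs' : s.order with
      | top =>
        rw [hs', show (3 : ℕ) • (⊤ : ℕ∞) + (m : ℕ∞) = ⊤ by simp] at hAB
        exact ENat.top_ne_coe _ hAB
      | coe a =>
        rw [hs', nsmul_eq_mul] at hAB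
        norm_cast at hAB
        exact hm ⟨a, by omega⟩
    | coe b =>
      cases hs' : s.order with
      | top =>
        have hB0 : B = 0 := PowerSeries.order_eq_top.1 (by rw [hB, hs']; simp)
        rw [hB0, add_zero, hA, hr', nsmul_eq_mul] at hAB
        norm_cast at hAB
        exact hm ⟨2 * b - m, by omega⟩
      | coe a =>
        rw [hr', nsmul_eq_mul] at hA
        rw [hs', nsmul_eq_mul] at hB
        rw [PowerSeries.order_add_of_order_ne _ _ (by
          rw [hA, hB]
          intro h
          norm_cast at h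
          exact hm ⟨b - a, by omega⟩), hA, hB] at hAB
        rcases le_total (((3 : ℕ) : ℕ∞) * (b : ℕ∞)) (((3 : ℕ) : ℕ∞) * (a : ℕ∞) + (m : ℕ∞)) with h | h
        · rw [inf_eq_left.2 h] at hAB
          norm_cast at hAB
          exact hm ⟨2 * b - m, by omega⟩
        · rw [inf_eq_right.2 h] at hAB
          norm_cast at hAB
          exact hm ⟨a, by omega⟩
  · intro hle
    subst hM
    have hI : ∀ z : W4c1hurwitzcpt.RootDisk 3 k, z ∈ Ideal.span {x ^ n} →
        z ∈ Submodule.span (PowerSeries k) {1, x ^ m * g} ⊔
          (Ideal.span {x ^ n} : Ideal (W4c1hurwitzcpt.RootDisk 3 k)).restrictScalars (PowerSeries k) :=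
      fun z hz => Submodule.mem_sup_right hz
    intro a ha b hb
    obtain ⟨w, hw, i, hi, rfl⟩ := Submodule.mem_sup.1 ha
    obtain ⟨w', hw', i', hi', rfl⟩ := Submodule.mem_sup.1 hb
    obtain ⟨r, s, rfl⟩ := Submodule.mem_span_pair.1 hw
    obtain ⟨r', s', rfl⟩ := Submodule.mem_span_pair.1 hw'
    have hu2 : (x ^ m * g) * (x ^ m * g) ∈ Ideal.span {x ^ n} := by
      rw [show (x ^ m * g) * (x ^ m * g) = (x ^ (2 * m - n) * (g * g)) * x ^ n by
        rw [show x ^ (2 * m - n) * (g * g) * x ^ n = x ^ (2 * m - n) * x ^ n * (g * g) by ring, ← pow_add,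
          Nat.sub_add_cancel hle]
        ring]
      exact Ideal.mul_mem_left _ _ (Ideal.mem_span_singleton_self _)
    have e : (r • (1 : W4c1hurwitzcpt.RootDisk 3 k) + s • (x ^ m * g) + i) * (r' • 1 + s' • (x ^ m * g) + i') =
        ((r * r') • (1 : W4c1hurwitzcpt.RootDisk 3 k) + (r * s' + s * r') • (x ^ m * g)) +
          ((algebraMap (PowerSeries k) (W4c1hurwitzcpt.RootDisk 3 k) (s * s')) * ((x ^ m * g) * (x ^ m * g)) +
            i * (r' • 1 + s' • (x ^ m * g) + i') + (r • 1 + s • (x ^ m * g)) * i') := by
      simp only [Algebra.smul_def, map_mul, map_add]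
      ring
    rw [e]
    refine add_mem (Submodule.mem_sup_left (Submodule.mem_span_pair.2 ⟨_, _, rfl⟩)) (hI _ ?_)
    exact add_mem (add_mem (Ideal.mul_mem_left _ _ hu2) (Ideal.mul_mem_right _ _ hi)) (Ideal.mul_mem_left _ _ hi')

end Groth.Agent.S19485
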