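import Groth.Statements.S19486
import Mathlib.RingTheory.PowerSeries.Order
import Mathlib.LinearAlgebra.Span.Basic
import Mathlib.RingTheory.Ideal.Maps
import Mathlib.LinearAlgebra.Prod

set_option autoImplicit false
universe u
open Crimp

namespace Groth.Agent.S19486

/-- The emptiness of the stratum rests on the following computation. Over R = k⟦t⟧ with k an
algebraically closed field of characteristic zero, let S̃ = S̃₁ × R where S̃₁ = k⟦x⟧ is regarded as
an R-algebra through t ↦ x ^ 2, that is S̃₁ = R[x] / (x ^ 2 - t), with R embedded diagonally in the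
product. Let m be odd, n > 2m, and let g be a power series with nonzero constant term. Then the
R-submodule of S̃ spanned by 1 = (1, 1) and (x ^ m g, 0) together with the ideal x ^ n S̃₁ × 0 is
not closed under multiplication. (The published item concludes that the corresponding stratum of
crimps is empty; only this computation is stated here, with the ideal read as x ^ n S̃₁ × 0.) -/
theorem result {k : Type u} [Field k] [IsAlgClosed k] [CharZero k]
    (m n : ℕ) (hm : Odd m) (hmn : 2 * m < n) (x g : W4c1hurwitzcpt.RootDisk 2 k)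
    (hx : W4c1hurwitzcpt.RootDisk.val x = PowerSeries.X) (hg : PowerSeries.order (W4c1hurwitzcpt.RootDisk.val g) = 0)
    (M : Submodule (PowerSeries k) (W4c1hurwitzcpt.RootDisk 2 k × PowerSeries k))
    (hM : M = Submodule.span (PowerSeries k) {(1 : W4c1hurwitzcpt.RootDisk 2 k × PowerSeries k), (x ^ m * g, 0)} ⊔
      ((Ideal.span {x ^ n} : Ideal (W4c1hurwitzcpt.RootDisk 2 k)).restrictScalars (PowerSeries k)).prod ⊥) :
    ∃ a ∈ M, ∃ b ∈ M, a * b ∉ M := by
  subst hM
  have hu : (x ^ m * g, (0 : PowerSeries k)) ∈ Submodule.span (PowerSeries k)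
        {(1 : W4c1hurwitzcpt.RootDisk 2 k × PowerSeries k), (x ^ m * g, 0)} ⊔
      ((Ideal.span {x ^ n} : Ideal (W4c1hurwitzcpt.RootDisk 2 k)).restrictScalars (PowerSeries k)).prod ⊥ :=
    Submodule.mem_sup_left (Submodule.subset_span (Set.mem_insert_of_mem _ rfl))
  refine ⟨_, hu, _, hu, fun hmem => ?_⟩
  obtain ⟨w, hw, i, hi, hwi⟩ := Submodule.mem_sup.1 hmem
  obtain ⟨r, s, rfl⟩ := Submodule.mem_span_pair.1 hw
  obtain ⟨hi1, hi2⟩ := Submodule.mem_prod.1 hi
  obtain ⟨h, hh⟩ := Ideal.mem_span_singleton'.1 (Submodule.restrictScalars_mem _ _ _ |>.1 hi1)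
  rw [Submodule.mem_bot] at hi2
  have e2 := congrArg Prod.snd hwi
  simp [hi2] at e2
  subst e2
  have e := congrArg W4c1hurwitzcpt.RootDisk.val (congrArg Prod.fst hwi)
  simp only [Prod.fst_add, Prod.smul_fst, Prod.fst_one, Prod.fst_mul, zero_smul, zero_add, ← hh] at e
  simp only [Algebra.smul_def, map_add, map_mul, map_pow, map_zero, zero_mul, zero_add, hx] at e
  rw [show W4c1hurwitzcpt.RootDisk.val (algebraMap (PowerSeries k) (W4c1hurwitzcpt.RootDisk 2 k) s) =
      PowerSeries.expand 2 two_ne_zero s from rfl] at e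
  set P := W4c1hurwitzcpt.RootDisk.val g
  set Hh := W4c1hurwitzcpt.RootDisk.val h
  set B := PowerSeries.expand 2 two_ne_zero s * (PowerSeries.X ^ m * P)
  set Q : PowerSeries k := PowerSeries.X ^ m * P * (PowerSeries.X ^ m * P)
  have hQ : Q.order = ((2 * m : ℕ) : ℕ∞) := by
    simp only [Q, PowerSeries.order_mul, PowerSeries.order_X_pow, hg, add_zero]
    push_cast
    ring
  have hC : ((2 * m : ℕ) : ℕ∞) < (-(Hh * PowerSeries.X ^ n)).order := by
    rw [PowerSeries.order_neg, PowerSeries.order_mul, PowerSeries.order_X_pow]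
    exact lt_of_lt_of_le (by exact_mod_cast hmn) le_add_self
  have hBo : B.order = ((2 * m : ℕ) : ℕ∞) := by
    rw [show B = Q + -(Hh * PowerSeries.X ^ n) by rw [← e]; ring,
      PowerSeries.order_add_of_order_ne _ _ (by rw [hQ]; exact hC.ne), hQ]
    exact min_eq_left hC.le
  simp only [B, PowerSeries.order_mul, PowerSeries.order_X_pow, hg, add_zero] at hBo
  rw [PowerSeries.order_expand] at hBo
  cases hs' : s.order with
  | top =>
    rw [hs', show (2 : ℕ) • (⊤ : ℕ∞) + (m : ℕ∞) = ⊤ by simp] at hBo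
    exact ENat.top_ne_coe _ hBo
  | coe a =>
    rw [hs', nsmul_eq_mul] at hBo
    norm_cast at hBo
    obtain ⟨t, ht⟩ := hm
    omega

end Groth.Agent.S19486
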