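import Groth.Statements.S19487
import Mathlib
import Groth.Prelude.Def_W4c1frobunstivaNR

set_option autoImplicit false
open W4c1frobunstiva

namespace Groth.Agent.S19487

/-- The second formula. For p odd and natural numbers n, s, write N_p(n, s) for the number of monomials
of degree s in n variables in which every variable occurs with a positive exponent strictly less
than p, that is of exponent vectors (e_1, …, e_n) with sum s and 1 ≤ e_i ≤ p − 1, and N_p^D(n, s)
for the number of those in which exactly D variables occur with exponent less than p/2. Then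
N_p^D(n, s) = C(n, D) · Σ_j N_{(p+1)/2}(D, j) · N_{(p+1)/2}(n − D, s − j − (n − D)(p − 1)/2), the
sum running over 0 ≤ j ≤ s. (Natural-number subtraction is used in the last argument; when it
truncates and n > D the factor vanishes, as it should. The published setting has p an odd prime;
only p odd is used. The companion inclusion–exclusion expression for N_p(n, s) itself is a separate
statement.) -/
theorem result (p n s D : ℕ) (hp : Odd p) :
    Fintype.card {e : Fin n → Fin p // (∀ i, 1 ≤ (e i : ℕ)) ∧ ∑ i, (e i : ℕ) = s ∧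
        (Finset.univ.filter fun i => 2 * (e i : ℕ) < p).card = D} =
      n.choose D * ∑ j ∈ Finset.range (s + 1),
        Fintype.card {e : Fin D → Fin ((p + 1) / 2) // (∀ i, 1 ≤ (e i : ℕ)) ∧ ∑ i, (e i : ℕ) = j} *
          Fintype.card {e : Fin (n - D) → Fin ((p + 1) / 2) // (∀ i, 1 ≤ (e i : ℕ)) ∧ ∑ i, (e i : ℕ) = (s - j - (n - D) * ((p - 1) / 2))} := by
  classical
  obtain ⟨h, rfl⟩ := hp
  set q := (2 * h + 1 + 1) / 2
  have hq : q = h + 1 := by simp only [q]; omega
  rw [show (2 * h + 1 - 1) / 2 = h by omega]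
  let E := {e : Fin n → Fin (2 * h + 1) // (∀ i, 1 ≤ (e i : ℕ)) ∧ ∑ i, (e i : ℕ) = s ∧
        (Finset.univ.filter fun i => 2 * (e i : ℕ) < 2 * h + 1).card = D}
  let S : E → Finset (Fin n) := fun e => Finset.univ.filter fun i => 2 * (e.1 i : ℕ) < 2 * h + 1
  let T := {ab : (Fin D → Fin q) × (Fin (n - D) → Fin q) //
    ((∀ i, 1 ≤ (ab.1 i : ℕ)) ∧ (∀ i, 1 ≤ (ab.2 i : ℕ))) ∧ ∑ i, (ab.1 i : ℕ) + (∑ i, (ab.2 i : ℕ) + (n - D) * h) = s}
  have hfib : ∀ U ∈ (Finset.univ : Finset (Fin n)).powersetCard D,
      (Finset.univ.filter fun e : E => S e = U).card = Fintype.card T := by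
    intro U hU
    have hUc : U.card = D := (Finset.mem_powersetCard.1 hU).2
    have hUc' : Uᶜ.card = n - D := by rw [Finset.card_compl, hUc, Fintype.card_fin]
    let a := U.equivFinOfCardEq hUc
    let b := Uᶜ.equivFinOfCardEq hUc'
    rw [← Finset.card_univ]
    refine Finset.card_bij'
      (fun e he => (⟨(fun i => ⟨(e.1 (a.symm i) : ℕ), by
          have : (a.symm i : Fin n) ∈ S e := (Finset.mem_filter.1 he).2 ▸ (a.symm i).2
          simp only [S, Finset.mem_filter] at this; omega⟩,
        fun i => ⟨(e.1 (b.symm i) : ℕ) - h, by have := (e.1 (b.symm i)).isLt; omega⟩), ⟨?_, ?_⟩, ?_⟩ : T))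
      (fun t _ => (⟨fun i => if hi : i ∈ U then ⟨(t.1.1 (a ⟨i, hi⟩) : ℕ), by have := (t.1.1 (a ⟨i, hi⟩)).isLt; omega⟩
          else ⟨(t.1.2 (b ⟨i, Finset.mem_compl.2 hi⟩) : ℕ) + h, by
            have := (t.1.2 (b ⟨i, Finset.mem_compl.2 hi⟩)).isLt; omega⟩, ?_, ?_, ?_⟩ : E)) ?_ ?_ ?_ ?_
    · intro i; exact e.2.1 _
    · intro i
      have : (b.symm i : Fin n) ∉ S e := by rw [(Finset.mem_filter.1 he).2]; exact Finset.mem_compl.1 (b.symm i).2
      simp only [S, Finset.mem_filter, Finset.mem_univ, true_and] at this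
      show 1 ≤ (e.1 (b.symm i) : ℕ) - h
      omega
    · have hb : ∀ i, h ≤ (e.1 (b.symm i) : ℕ) := fun i => by
        have : (b.symm i : Fin n) ∉ S e := by rw [(Finset.mem_filter.1 he).2]; exact Finset.mem_compl.1 (b.symm i).2
        simp only [S, Finset.mem_filter, Finset.mem_univ, true_and] at this
        omega
      have hsum : ∑ i, ((e.1 (b.symm i) : ℕ) - h) + (n - D) * h = ∑ i, (e.1 (b.symm i) : ℕ) := by
        rw [show (n - D) * h = ∑ _i : Fin (n - D), h by simp, ← Finset.sum_add_distrib]
        exact Finset.sum_congr rfl fun i _ => Nat.sub_add_cancel (hb i)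
      show ∑ i, (e.1 (a.symm i) : ℕ) + (∑ i, ((e.1 (b.symm i) : ℕ) - h) + (n - D) * h) = s
      rw [hsum, Equiv.sum_comp a.symm (fun i : U => (e.1 i : ℕ)), Equiv.sum_comp b.symm (fun i : ↥Uᶜ => (e.1 i : ℕ)),
        Finset.sum_coe_sort U (fun i => (e.1 i : ℕ)), Finset.sum_coe_sort Uᶜ (fun i => (e.1 i : ℕ)),
        Finset.sum_add_sum_compl, e.2.2.1]
    · intro i
      dsimp only
      split_ifs with hi
      · exact t.2.1.1 _
      · have := t.2.1.2 (b ⟨i, Finset.mem_compl.2 hi⟩); show 1 ≤ _ + h; omega
    · refine Eq.trans ?_ t.2.2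
      rw [← Finset.sum_add_sum_compl U, ← Finset.sum_coe_sort U, ← Finset.sum_coe_sort Uᶜ,
        ← Equiv.sum_comp a.symm, ← Equiv.sum_comp b.symm]
      rw [show (∑ i, (t.1.2 i : ℕ)) + (n - D) * h = ∑ i, ((t.1.2 i : ℕ) + h) by simp [Finset.sum_add_distrib]]
      congr 1
      · refine Finset.sum_congr rfl fun i _ => ?_
        dsimp only
        rw [dif_pos (a.symm i).2]; simp
      · refine Finset.sum_congr rfl fun i _ => ?_
        dsimp only
        rw [dif_neg (Finset.mem_compl.1 (b.symm i).2)]; simp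
    · refine (congrArg Finset.card ?_).trans hUc
      ext i
      simp only [Finset.mem_filter, Finset.mem_univ, true_and]
      by_cases hi : i ∈ U
      · have h1 := (t.1.1 (a ⟨i, hi⟩)).isLt
        rw [dif_pos hi]; simp only [hi, iff_true]; omega
      · have h1 := t.2.1.2 (b ⟨i, Finset.mem_compl.2 hi⟩)
        rw [dif_neg hi]; simp only [hi, iff_false]; omega
    · intro e he; exact Finset.mem_univ _
    · intro t _
      simp only [Finset.mem_filter, Finset.mem_univ, true_and, S]
      ext i
      simp only [Finset.mem_filter, Finset.mem_univ, true_and]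
      by_cases hi : i ∈ U
      · have h1 := (t.1.1 (a ⟨i, hi⟩)).isLt
        rw [dif_pos hi]; simp only [hi, iff_true]; omega
      · have h1 := t.2.1.2 (b ⟨i, Finset.mem_compl.2 hi⟩)
        rw [dif_neg hi]; simp only [hi, iff_false]; omega
    · intro e he
      refine Subtype.ext (funext fun i => ?_)
      dsimp only
      split_ifs with hi
      · simp
      · have : i ∉ S e := (Finset.mem_filter.1 he).2 ▸ hi
        simp only [S, Finset.mem_filter, Finset.mem_univ, true_and] at this
        apply Fin.ext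
        simp only [Equiv.symm_apply_apply]
        omega
    · intro t _
      refine Subtype.ext (Prod.ext (funext fun i => ?_) (funext fun i => ?_))
      · apply Fin.ext
        simp only
        rw [dif_pos (a.symm i).2]; simp
      · apply Fin.ext
        simp only
        rw [dif_neg (Finset.mem_compl.1 (b.symm i).2)]; simp
  have hT : Fintype.card T = ∑ j ∈ Finset.range (s + 1),
        Fintype.card {e : Fin D → Fin q // (∀ i, 1 ≤ (e i : ℕ)) ∧ ∑ i, (e i : ℕ) = j} *
          Fintype.card {e : Fin (n - D) → Fin q // (∀ i, 1 ≤ (e i : ℕ)) ∧ ∑ i, (e i : ℕ) = (s - j - (n - D) * h)} := by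
    simp only [T, Fintype.card_subtype]
    rw [Finset.card_eq_sum_card_fiberwise (f := fun ab : (Fin D → Fin q) × (Fin (n - D) → Fin q) => ∑ i, (ab.1 i : ℕ))
      (t := Finset.range (s + 1)) (fun ab hab => by
        simp only [Finset.mem_coe, Finset.mem_filter, Finset.mem_univ, true_and] at hab
        simp only [Finset.mem_coe, Finset.mem_range]; omega)]
    refine Finset.sum_congr rfl fun j hj => ?_
    rw [← Finset.card_product]
    congr 1
    ext ⟨x, y⟩
    simp only [Finset.mem_filter, Finset.mem_univ, true_and, Finset.mem_product]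
    constructor
    · rintro ⟨⟨⟨hx, hy⟩, hsum⟩, hxj⟩
      exact ⟨⟨hx, hxj⟩, hy, by omega⟩
    · rintro ⟨⟨hx, hxj⟩, hy, hys⟩
      refine ⟨⟨⟨hx, hy⟩, ?_⟩, hxj⟩
      rw [Finset.mem_range] at hj
      rcases Nat.lt_or_ge (s - j) ((n - D) * h + 1) with hlt | hge
      · rcases Nat.eq_zero_or_pos (n - D) with h0 | h0
        · haveI : IsEmpty (Fin (n - D)) := by rw [h0]; infer_instance
          simp only [Fintype.sum_empty, h0, Nat.zero_mul] at hys ⊢
          omega
        · exfalso
          have h1 : (n - D) ≤ ∑ i, (y i : ℕ) := by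
            calc (n - D) = ∑ _i : Fin (n - D), 1 := by simp
              _ ≤ _ := Finset.sum_le_sum fun i _ => hy i
          omega
      · omega
  rw [← hT]
  show Fintype.card E = _
  rw [← Finset.card_univ, Finset.card_eq_sum_card_fiberwise (f := S) (t := (Finset.univ : Finset (Fin n)).powersetCard D)
    (fun e _ => Finset.mem_powersetCard.2 ⟨Finset.subset_univ _, e.2.2.2⟩), Finset.sum_congr rfl hfib,
    Finset.sum_const, Finset.card_powersetCard, Finset.card_univ, Fintype.card_fin, smul_eq_mul]

end Groth.Agent.S19487
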