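import Groth.Statements.S19489
import Groth.Agent.Lib.GammaD.Examples26
-- import your own Groth.Agent.* helpers here

set_option autoImplicit false
open scoped TensorProduct
open ZeroCyc

namespace Groth.Agent.S19489

/-- Let p be a prime, k = F_p(t_0, t_1, …) the field of rational functions over F_p in countably many
variables, and K = k^{1/p} = F_p(t_0^{1/p}, t_1^{1/p}, …), modelled here as a copy of k made into a
k-algebra through the Frobenius b ↦ b ^ p (under a ↦ a ^ p the extension k ⊆ k^{1/p} becomes this
algebra). Then a ↦ a ^ p is a multiplicative polynomial law from K to k over k, homogeneous of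
degree p: there is such a law sending s ⊗ a to s ^ p ⊗ a ^ p on every test algebra S, where a ^ p is
read in k. Every such law has zero kernel, so the support of the corresponding family of zero-cycles
of degree p on Spec K over Spec k is all of Spec K; and K is not finite over k. Thus the support of
a family of zero-cycles need not be finite over the base. -/
theorem result (p : ℕ) [Fact p.Prime] :
    (∃ F : PolLaw.MulLaw (FractionRing (MvPolynomial ℕ (ZMod p))) (FrobAlg.Twist p (FractionRing (MvPolynomial ℕ (ZMod p)))) (FractionRing (MvPolynomial ℕ (ZMod p))) p,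
      ∀ (S : Type) [CommSemiring S] [Algebra (FractionRing (MvPolynomial ℕ (ZMod p))) S] (s : S) (a : FrobAlg.Twist p (FractionRing (MvPolynomial ℕ (ZMod p)))),
        F.law.toFun' S (s ⊗ₜ[FractionRing (MvPolynomial ℕ (ZMod p))] a) =
          (s ^ p) ⊗ₜ[FractionRing (MvPolynomial ℕ (ZMod p))] (FrobAlg.toTwist p (FractionRing (MvPolynomial ℕ (ZMod p)))).symm a) ∧
    (∀ F : PolLaw.MulLaw (FractionRing (MvPolynomial ℕ (ZMod p))) (FrobAlg.Twist p (FractionRing (MvPolynomial ℕ (ZMod p)))) (FractionRing (MvPolynomial ℕ (ZMod p))) p,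
      (∀ (S : Type) [CommSemiring S] [Algebra (FractionRing (MvPolynomial ℕ (ZMod p))) S] (s : S) (a : FrobAlg.Twist p (FractionRing (MvPolynomial ℕ (ZMod p)))),
        F.law.toFun' S (s ⊗ₜ[FractionRing (MvPolynomial ℕ (ZMod p))] a) =
          (s ^ p) ⊗ₜ[FractionRing (MvPolynomial ℕ (ZMod p))] (FrobAlg.toTwist p (FractionRing (MvPolynomial ℕ (ZMod p)))).symm a) →
      PolLaw.ker F.law = ⊥) ∧
    ¬ Module.Finite (FractionRing (MvPolynomial ℕ (ZMod p))) (FrobAlg.Twist p (FractionRing (MvPolynomial ℕ (ZMod p)))) := by
  exact Groth.Agent.GammaD.Examples.frob_main p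

end Groth.Agent.S19489
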