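import Groth.Statements.S1952
import Groth.Agent.Lib.Diag27.ProjGeom
import Groth.Agent.Lib.Diag27.DiagCycle
import Groth.Agent.Lib.Diag27.AssocGeom
import Groth.Agent.Lib.Cyc26.P1Rat
import Groth.Agent.Lib.Cyc26.RatAlg
import Groth.Agent.Lib.IntMult26.CMLength
import Groth.Agent.Lib.ProjSpace.Basic
import Groth.Agent.Lib.RegLoc.Basic
-- import your own Groth.Agent.* helpers here

set_option autoImplicit false
universe u
open CategoryTheory CategoryTheory.Limits AlgebraicGeometry
attribute [local instance] HasDerivedCategory.standard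
open IntMult

namespace Groth.Agent.S1952

/-- Let α be a (k + 1)-cycle on P^1_X (X a nonsingular variety, P^1_X of dimension n + 1 with dimension
function δP) intersecting the divisors X × 0 and X × ∞ (the images of the two sections, as prime
cycles) properly. Then pr_{X,*}(α · [X × 0] − α · [X × ∞]) ∼_rat 0 as a k-cycle on X (the source's
two distinct closed points a, b of P^1 are taken to be 0 and ∞), for any cycle on P^1_X with the
coefficients of α · [X × 0] − α · [X × ∞]. Here X is a nonsingular variety over the algebraically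
closed field K (smooth, separated, quasi-compact, integral) with dimension function δ (transcendence
degree) and n = dim X; cycles are Mathlib AlgebraicCycles with Cyc.Zk membership, proper
intersection is IntMult.IntersectProperly and α · β is the Tor-formula intersection product on
coefficient functions (IntMult.interProd), bundled where needed as 'any cycle with these
coefficients'. -/
theorem result (K : Type u) [Field K] [IsAlgClosed K] (X : Scheme.{u}) (f : X ⟶ Spec (CommRingCat.of K)) [Smooth f] [IsSeparated f] [QuasiCompact f] [IsIntegral X] (δ : X → ℤ) (hX : Cyc.IsSetup X δ) (hδ : Cyc.DeltaCompat f δ (fun _ => 0)) (n : ℤ) (hn : δ (genericPoint X) = n) (δP : ↥(CohB1.ProjSpaceOver 1 X) → ℤ) (hPX : Cyc.IsSetup (CohB1.ProjSpaceOver 1 X) δP) (hP : Cyc.DeltaCompat (CohB1.ProjSpaceOver.toBase 1 X) δP δ) [QuasiCompact (CohB1.ProjSpaceOver.toBase 1 X)] (k : ℤ) (α : AlgebraicCycle (CohB1.ProjSpaceOver 1 X) ℤ) (hα : α ∈ Cyc.Zk _ δP (k + 1)) (h0 : IntMult.IntersectProperly δP (n + 1) ⇑α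 (Set.indicator {P1.sect X 0 (genericPoint X)} 1)) (h1 : IntMult.IntersectProperly δP (n + 1) ⇑α (Set.indicator {P1.sect X 1 (genericPoint X)} 1)) (γ : AlgebraicCycle (CohB1.ProjSpaceOver 1 X) ℤ) (hγ : ⇑γ = IntMult.interProd δP (n + 1) ⇑α (Set.indicator {P1.sect X 0 (genericPoint X)} 1) - IntMult.interProd δP (n + 1) ⇑α (Set.indicator {P1.sect X 1 (genericPoint X)} 1)) : Cyc.RatEquivZero δ k (AlgebraicCycle.map (CohB1.ProjSpaceOver.toBase 1 X) δP δ γ) := by
  classical
  haveI : IsLocallyNoetherian X := hX.1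
  haveI : IsLocallyNoetherian (CohB1.ProjSpaceOver 1 X) := hPX.1
  haveI : CompactSpace X := QuasiCompact.compactSpace_of_compactSpace f
  haveI : CompactSpace ↥(CohB1.ProjSpaceOver 1 X) :=
    QuasiCompact.compactSpace_of_compactSpace (CohB1.ProjSpaceOver.toBase 1 X)
  haveI : IsNoetherian (CohB1.ProjSpaceOver 1 X) := {}
  haveI : Smooth (CohB1.ProjSpaceOver.toBase 1 X ≫ f) := inferInstance
  have hdP := hPX.2.2
  have hgen : ∀ (i : Fin (1 + 1)) (x : X), P1.sect X i (genericPoint X) ⤳ P1.sect X i x := fun i x =>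
    (genericPoint_specializes x).map (P1.sect X i).continuous
  have hgenP : ∀ (i : Fin (1 + 1)) (x : X), (Diag27.genPrime (hgen i x)).asIdeal =
      Ideal.span {(CohB1.ProjSpaceOver 1 X).presheaf.germ (P1S26.U X i) _ (P1S26.sect_mem X i x) (P1S26.t X i)} :=
    fun i x => (Diag27.genPrime_map_generic (P1.sect X i) x).trans (P1S26.ker_sect X i x)
  have hrange : ∀ (i : Fin (1 + 1)) (p), P1.sect X i (genericPoint X) ⤳ p → p ∈ Set.range (P1.sect X i) :=
    fun i p h => h.mem_closed (P1.sect X i).isClosedEmbedding.isClosed_range ⟨_, rfl⟩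
  have hα' : ∀ u, α u ≠ 0 → δP u = k + 1 := fun u hu => by_contra fun h => hu (hα u h)
  have hsec : ∀ u, α u ≠ 0 → ∀ (i : Fin (1 + 1)) (x : X), u ⤳ P1.sect X i x → δ x ≤ k := by
    intro u hu i x h
    have hone : ∀ j : Fin (1 + 1), Set.indicator {P1.sect X j (genericPoint X)} (1 : ↥(CohB1.ProjSpaceOver 1 X) → ℤ)
        (P1.sect X j (genericPoint X)) ≠ 0 := fun j => by
      rw [Set.indicator_of_mem (Set.mem_singleton _)]; exact one_ne_zero
    have h2 : δP (P1.sect X i x) ≤ δP u + δP (P1.sect X i (genericPoint X)) - (n + 1) := by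
      fin_cases i
      · exact h0 _ _ _ hu (hone 0) h (hgen 0 x)
      · exact h1 _ _ _ hu (hone 1) h (hgen 1 x)
    rw [P1S26.delta_sect X hP, P1S26.delta_sect X hP, hn, hα' u hu] at h2
    omega
  have hnotle : ∀ u, α u ≠ 0 → ∀ (i : Fin (1 + 1)) (x : X) (h : u ⤳ P1.sect X i x),
      (CohB1.ProjSpaceOver 1 X).presheaf.germ (P1S26.U X i) _ (P1S26.sect_mem X i x) (P1S26.t X i) ∉
        (Diag27.genPrime h).asIdeal := by
    intro u hu i x h hmem
    have hle : (Diag27.genPrime (hgen i x)).asIdeal ≤ (Diag27.genPrime h).asIdeal := by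
      rw [hgenP]; exact (Ideal.span_singleton_le_iff_mem _).2 hmem
    have hsp := ((PrimeSpectrum.le_iff_specializes _ _).1 hle).map
      ((CohB1.ProjSpaceOver 1 X).fromSpecStalk _).continuous
    rw [Diag27.fromSpecStalk_genPrime, Diag27.fromSpecStalk_genPrime] at hsp
    obtain ⟨x', hx'⟩ := hrange i u hsp
    have h3 := hsec u hu i x' (hx' ▸ specializes_refl _)
    have h4 := hα' u hu
    rw [← hx', P1S26.delta_sect X hP] at h4
    omega
  have hreg : ∀ u, α u ≠ 0 → ∀ (i : Fin (1 + 1)) (x : X), δ x = k → Function.Injective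
      fun m : (NumPoly18.ptMod u).presheaf.stalk (P1.sect X i x) =>
        ((CohB1.ProjSpaceOver 1 X).presheaf.germ (P1S26.U X i) _ (P1S26.sect_mem X i x) (P1S26.t X i)) • m := by
    intro u hu i x _
    by_cases h : u ⤳ P1.sect X i x
    · obtain ⟨e⟩ := Diag27.nonempty_stalk_ptMod h
      intro a b hab
      refine e.symm.injective ?_
      have h2 := congrArg e.symm hab
      simp only [map_smul] at h2
      obtain ⟨a', ha⟩ := Ideal.Quotient.mk_surjective (e.symm a)
      obtain ⟨b', hb⟩ := Ideal.Quotient.mk_surjective (e.symm b)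
      rw [← ha, ← hb] at h2 ⊢
      rw [Ideal.Quotient.eq]
      have h3 : _ * a' - _ * b' ∈ (Diag27.genPrime h).asIdeal := Ideal.Quotient.eq.1 h2
      rw [← mul_sub] at h3
      exact ((Diag27.genPrime h).2.mem_or_mem h3).resolve_left (hnotle u hu i x h)
    · haveI : Subsingleton ((NumPoly18.ptMod u).presheaf.stalk (P1.sect X i x)) :=
        not_nontrivial_iff_subsingleton.1 fun h' => h ((Diag27.sheafFun_ptMod hdP u).2 _ h')
      exact fun a b _ => Subsingleton.elim a b
  -- the multiplicities along the sections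
  have key : ∀ u, α u ≠ 0 → ∀ (i : Fin (1 + 1)) (x : X),
      IntMult.interProd δP (n + 1) (Set.indicator {u} 1) (Set.indicator {P1.sect X i (genericPoint X)} 1) (P1.sect X i x) =
        P1S26.fibLen X δ k i (NumPoly18.ptMod u) x := by
    intro u hu i x
    rw [Diag27.interProd_indicator, P1S26.fibLen, P1S26.delta_sect X hP, P1S26.delta_sect X hP, hn, hα' u hu]
    by_cases h : u ⤳ P1.sect X i x
    swap
    · rw [if_neg (fun hc => h hc.1)]
      haveI : Subsingleton ((NumPoly18.ptMod u).presheaf.stalk (P1.sect X i x)) :=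
        not_nontrivial_iff_subsingleton.1 fun h' => h ((Diag27.sheafFun_ptMod hdP u).2 _ h')
      rw [Module.length_eq_zero]
      simp
    by_cases hk : δ x = k
    swap
    · rw [if_neg (fun hc => hk (by omega)), if_neg hk]
    rw [if_pos ⟨h, hgen i x, by omega⟩, if_pos hk, IntMult.mult, Diag27.stalkIdeal_ptIdeal h,
      Diag27.stalkIdeal_ptIdeal (hgen i x), hgenP]
    haveI : IsRegularLocalRing ((CohB1.ProjSpaceOver 1 X).presheaf.stalk (P1.sect X i x)) :=
      SmoothReg17.isRegularLocalRing_stalk (CohB1.ProjSpaceOver.toBase 1 X ≫ f) _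
    haveI := RegLoc.isDomain ((CohB1.ProjSpaceOver 1 X).presheaf.stalk (P1.sect X i x))
    set t := (CohB1.ProjSpaceOver 1 X).presheaf.germ (P1S26.U X i) _ (P1S26.sect_mem X i x) (P1S26.t X i) with ht
    have hnot : t ∉ (Diag27.genPrime h).asIdeal := hnotle u hu i x h
    have ht0 : t ≠ 0 := fun e => hnot (e ▸ Submodule.zero_mem _)
    have hw1 : RingTheory.Sequence.IsWeaklyRegular ((CohB1.ProjSpaceOver 1 X).presheaf.stalk (P1.sect X i x)) [t] :=
      (RingTheory.Sequence.isWeaklyRegular_singleton_iff _ _).2 fun a b hab => mul_left_cancel₀ ht0 hab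
    have hw2 : RingTheory.Sequence.IsWeaklyRegular
        ((CohB1.ProjSpaceOver 1 X).presheaf.stalk (P1.sect X i x) ⧸ (Diag27.genPrime h).asIdeal) [t] := by
      refine (RingTheory.Sequence.isWeaklyRegular_singleton_iff _ _).2 fun a b hab => ?_
      obtain ⟨a, rfl⟩ := Ideal.Quotient.mk_surjective a
      obtain ⟨b, rfl⟩ := Ideal.Quotient.mk_surjective b
      rw [Ideal.Quotient.eq]
      have h3 : t * a - t * b ∈ (Diag27.genPrime h).asIdeal := Ideal.Quotient.eq.1 hab
      rw [← mul_sub] at h3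
      exact ((Diag27.genPrime h).2.mem_or_mem h3).resolve_left hnot
    rw [Diag27.chi_comm, IntMult26.chi_quot_eq (J := (Diag27.genPrime h).asIdeal) (K := Ideal.span {t}) fun j hj => ?_]
    · obtain ⟨e⟩ := Diag27.nonempty_stalk_ptMod h
      congr 1
      congr 1
      open scoped Pointwise in
      have hmap : (Ideal.span {t} • (⊤ : Submodule _ ((CohB1.ProjSpaceOver 1 X).presheaf.stalk (P1.sect X i x) ⧸
          (Diag27.genPrime h).asIdeal))).map e.toLinearMap = t • ⊤ := by
        rw [Submodule.map_smul'', Submodule.map_top, LinearEquiv.range, Submodule.ideal_span_singleton_smul]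
      rw [← ((Submodule.Quotient.equiv _ _ e hmap)).length_eq]
      have hK : (Ideal.span {t} • ⊤ : Submodule _ (((CohB1.ProjSpaceOver 1 X).presheaf.stalk (P1.sect X i x)) ⧸ (Diag27.genPrime h).asIdeal)) =
          Submodule.map (Submodule.mkQ (Diag27.genPrime h).asIdeal) ((Diag27.genPrime h).asIdeal ⊔ Ideal.span {t}) := by
        rw [Submodule.map_sup, Submodule.mkQ_map_self, bot_sup_eq]
        conv_rhs => rw [← mul_one (Ideal.span {t}), Ideal.one_eq_top, ← smul_eq_mul]
        rw [Submodule.map_smul'', Submodule.map_top, Submodule.range_mkQ]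
      rw [hK]
      exact (Submodule.quotientQuotientEquivQuotient (Diag27.genPrime h).asIdeal
        ((Diag27.genPrime h).asIdeal ⊔ Ideal.span {t}) le_sup_left).length_eq.symm
    · obtain ⟨j, rfl⟩ : ∃ m, j = m + 1 := ⟨j - 1, by omega⟩
      have hl : Ideal.span {t} = Ideal.ofList [t] := by simp [Ideal.ofList]
      rw [TorSymm3.isZero_tor_comm, hl]
      exact (CI2.forall_isZero_tor_iff_ex (CI2.ex_of_isWeaklyRegular [t] _ hw1) _).2
        (CI2.ex_of_isWeaklyRegular [t] _ hw2) (j + 1) (Nat.le_add_left 1 j)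
  have hoff : ∀ (u p) (i : Fin (1 + 1)), p ∉ Set.range (P1.sect X i) →
      IntMult.interProd δP (n + 1) (Set.indicator {u} 1) (Set.indicator {P1.sect X i (genericPoint X)} 1) p = 0 := by
    intro u p i hp
    rw [Diag27.interProd_indicator, if_neg fun hc => hp (hrange i p hc.2.1)]
  -- sum over the points of the cycle
  set S := (Cyc26Lim.finite_support α).toFinset with hS
  have hSne : ∀ u ∈ S, α u ≠ 0 := fun u hu => (Cyc26Lim.finite_support α).mem_toFinset.1 hu
  have hc : ∀ u ∈ S, ∃ c : AlgebraicCycle (CohB1.ProjSpaceOver 1 X) ℤ, Cyc.RatEquivZero δP k c ∧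
      ∀ x, AlgebraicCycle.map (CohB1.ProjSpaceOver.toBase 1 X) δP δ c x =
        P1S26.fibLen X δ k 0 (NumPoly18.ptMod u) x - P1S26.fibLen X δ k 1 (NumPoly18.ptMod u) x := fun u hu => by
    obtain ⟨hs1, hs2⟩ := Diag27.sheafFun_ptMod hdP u
    obtain ⟨c, hc1, -, hc2⟩ := P1S26.exists_cycle_fibres X hX.2.1 hX.2.2 hP k (NumPoly18.isCoh_ptMod u)
      (fun p hp => (Diag27.delta_le hdP (hs2 p hp)).trans (hα' u (hSne u hu)).le)
      (fun i x hx => hsec u (hSne u hu) i x (hs2 _ hx)) (hreg u (hSne u hu))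
    exact ⟨c, hc1, hc2⟩
  choose c hc1 hc2 using hc
  let R : AddSubgroup (AlgebraicCycle X ℤ) :=
    { carrier := {c | Cyc.RatEquivZero δ k c}
      zero_mem' := Cyc26.ratEquivZero_of_eq_zero fun _ => rfl
      add_mem' := fun ha hb => Cyc26.ratEquivZero_add ha hb fun _ => rfl
      neg_mem' := fun ha => Cyc26.ratEquivZero_neg ha fun _ => rfl }
  haveI : IsProper (CohB1.ProjSpaceOver.toBase 1 X) := P1S26.isProper_π X
  have hR : (∑ u ∈ S.attach, α u.1 • AlgebraicCycle.map (CohB1.ProjSpaceOver.toBase 1 X) δP δ (c u.1 u.2)) ∈ R :=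
    R.sum_mem fun u _ => R.zsmul_mem (Cyc26.ratEquivZero_map _ hdP hX.2.2 hP (hc1 u.1 u.2)) _
  refine Cyc26.ratEquivZero_congr (fun x => ?_) hR
  have hne : P1.sect X 0 x ≠ P1.sect X 1 x := fun e => P1S26.sect_not_mem X 0 x (by
    rw [e]; exact P1S26.sect_mem X 1 x)
  have hfinI : ∀ u p, Diag27.FinAt p (Set.indicator {u} (1 : ↥(CohB1.ProjSpaceOver 1 X) → ℤ)) := fun u p =>
    (Set.finite_singleton u).subset fun y hy => Set.mem_of_indicator_ne_zero hy.2
  have hγ' : ∀ p, γ p = ∑ u ∈ S, α u *
      (IntMult.interProd δP (n + 1) (Set.indicator {u} 1) (Set.indicator {P1.sect X 0 (genericPoint X)} 1) p -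
        IntMult.interProd δP (n + 1) (Set.indicator {u} 1) (Set.indicator {P1.sect X 1 (genericPoint X)} 1) p) := by
    intro p
    rw [hγ, Pi.sub_apply]
    conv_lhs => rw [Diag27.cycle_eq_sum α, ← hS]
    rw [Diag27.interProd_sum_left (n + 1) p S α _ _ (fun u _ => hfinI u p) (hfinI _ p),
      Diag27.interProd_sum_left (n + 1) p S α _ _ (fun u _ => hfinI u p) (hfinI _ p), ← Finset.sum_sub_distrib]
    exact Finset.sum_congr rfl fun u _ => (mul_sub _ _ _).symm
  rw [Cyc26.map_apply_eq_sum (CohB1.ProjSpaceOver.toBase 1 X) δP δ γ x {P1.sect X 0 x, P1.sect X 1 x} ?_ ?_,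
    Finset.sum_pair hne, AlgebraicCycle.mapCoeff, AlgebraicCycle.mapCoeff, if_pos, if_pos,
    P1S26.residueDegree_sect, P1S26.residueDegree_sect, hγ', hγ']
  · rw [show ∀ (ι : Type u) (T : Finset ι) (g : ι → AlgebraicCycle X ℤ), (∑ v ∈ T, g v) x = ∑ v ∈ T, g v x from fun ι T g => by
      induction T using Finset.induction_on with
      | empty => simp
      | insert v T hv ih => rw [Finset.sum_insert hv, Finset.sum_insert hv, ← ih]; rfl]
    rw [Nat.cast_one, mul_one, mul_one, ← Finset.sum_add_distrib, ← Finset.sum_attach S]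
    refine Finset.sum_congr rfl fun u _ => ?_
    have hu := hSne u.1 u.2
    show α u.1 • AlgebraicCycle.map (CohB1.ProjSpaceOver.toBase 1 X) δP δ (c u.1 u.2) x = _
    rw [smul_eq_mul]
    rw [hc2 u.1 u.2, key u.1 hu 0 x, key u.1 hu 1 x,
      hoff u.1 (P1.sect X 0 x) 1 (by
        rintro ⟨x', hx'⟩
        have h2 := congrArg (CohB1.ProjSpaceOver.toBase 1 X) hx'
        rw [P1S26.π_sect_apply, P1S26.π_sect_apply] at h2
        subst h2
        exact hne hx'.symm),
      hoff u.1 (P1.sect X 1 x) 0 (by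
        rintro ⟨x', hx'⟩
        have h2 := congrArg (CohB1.ProjSpaceOver.toBase 1 X) hx'
        rw [P1S26.π_sect_apply, P1S26.π_sect_apply] at h2
        subst h2
        exact hne hx')]
    ring
  · rw [P1S26.delta_sect X hP]; exact congrArg δ (P1S26.π_sect_apply X 1 x).symm
  · rw [P1S26.delta_sect X hP]; exact congrArg δ (P1S26.π_sect_apply X 0 x).symm
  · intro p hp
    simp only [Finset.mem_insert, Finset.mem_singleton] at hp
    rcases hp with rfl | rfl <;> exact P1S26.π_sect_apply X _ x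
  · intro p hp hne' _
    rw [hγ'] at hne'
    obtain ⟨u, -, hu⟩ := Finset.exists_ne_zero_of_sum_ne_zero hne'
    simp only [Finset.mem_insert, Finset.mem_singleton]
    by_contra hcon
    push Not at hcon
    have hr : ∀ i, p ∉ Set.range (P1.sect X i) := by
      rintro i ⟨y, rfl⟩
      rw [P1S26.π_sect_apply] at hp
      subst hp
      fin_cases i
      · exact hcon.1 rfl
      · exact hcon.2 rfl
    exact hu (by rw [hoff u p 0 (hr 0), hoff u p 1 (hr 1), sub_zero, mul_zero])


end Groth.Agent.S1952
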