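import Groth.Statements.S1949
import Groth.Agent.Lib.Diag27.P1Main
import Groth.Agent.S1952
import Groth.Agent.Lib.Cyc26.RatAlg
import Groth.Agent.Lib.Cyc26.ChowA
-- import your own Groth.Agent.* helpers here

set_option autoImplicit false
universe u
open CategoryTheory CategoryTheory.Limits AlgebraicGeometry
attribute [local instance] HasDerivedCategory.standard
open IntMult

namespace Groth.Agent.S1949

/-- Let W → P^1_X be a closed immersion with W integral of dimension s + 1 (for the dimension function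
δP on P^1_X induced from δ) dominating P^1_K (dense image under P^1_X → P^1_K), W_0, W_∞ → X its
pullbacks along the sections at 0 and ∞, and V ⊆ X the closure of a point v with δ(v) = r, such that
[V] intersects [W_0]_s and [W_∞]_s properly. Then [V]·[W_0]_s ∼_rat [V]·[W_∞]_s as (r + s −
n)-cycles on X. (The source allows any two closed points a, b of P^1; they are taken to be 0 and ∞,
to which any two distinct closed points are carried by an automorphism of P^1 over the algebraically
closed K.) Here X is a nonsingular variety over the algebraically closed field K (smooth, separated,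
quasi-compact, integral) with dimension function δ (transcendence degree) and n = dim X; cycles are
Mathlib AlgebraicCycles with Cyc.Zk membership, proper intersection is IntMult.IntersectProperly and
α · β is the Tor-formula intersection product on coefficient functions (IntMult.interProd), bundled
where needed as 'any cycle with these coefficients'. -/
theorem result (K : Type u) [Field K] [IsAlgClosed K] (X : Scheme.{u}) (f : X ⟶ Spec (CommRingCat.of K)) [Smooth f] [IsSeparated f] [QuasiCompact f] [IsIntegral X] (δ : X → ℤ) (hX : Cyc.IsSetup X δ) (hδ : Cyc.DeltaCompat f δ (fun _ => 0)) (n : ℤ) (hn : δ (genericPoint X) = n) (δP : ↥(CohB1.ProjSpaceOver 1 X) → ℤ) (hP : Cyc.DeltaCompat (CohB1.ProjSpaceOver.toBase 1 X) δP δ) (r s : ℤ) (W : Scheme.{u}) [IsIntegral W] (ιW : W ⟶ CohB1.ProjSpaceOver 1 X) [IsClosedImmersion ιW] (hW : δP (ιW (genericPoint W)) = s + 1) (hdom : ∀ U : (CohB1.ProjSpaceOver 1 (Spec (CommRingCat.of K))).Opens, (U : Set ↥(CohB1.ProjSpaceOver 1 (Spec (CommRingCat.of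 K)))).Nonempty → ∃ w : W, (ιW ≫ P1.toP1 f) w ∈ U) (v : X) (hv : δ v = r) (h0 : IntMult.IntersectProperly δ n (Set.indicator {v} 1) (Cyc.subschemeFun δ s (pullback.snd ιW (P1.sect X 0)))) (h1 : IntMult.IntersectProperly δ n (Set.indicator {v} 1) (Cyc.subschemeFun δ s (pullback.snd ιW (P1.sect X 1)))) (γ₀ γ₁ : AlgebraicCycle X ℤ) (hγ₀ : ⇑γ₀ = IntMult.interProd δ n (Set.indicator {v} 1) (Cyc.subschemeFun δ s (pullback.snd ιW (P1.sect X 0)))) (hγ₁ : ⇑γ₁ = IntMult.interProd δ n (Set.indicator {v} 1) (Cyc.subschemeFun δ s (pullback.snd ιW (P1.sect X 1)))) : Cyc.RatEquiv δ (r + s - n) γ₀ γ₁ := by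
  classical
  haveI : CompactSpace X := QuasiCompact.compactSpace_of_compactSpace f
  haveI : IsLocallyNoetherian X := hX.1
  haveI : IsNoetherian X := {}
  have hPs := Diag27.isSetup_P hX hP
  have hdP := hPs.2.2
  haveI : IsLocallyNoetherian (CohB1.ProjSpaceOver 1 X) := hPs.1
  haveI : IsProper (CohB1.ProjSpaceOver.toBase 1 X) := P1S26.isProper_π X
  haveI : CompactSpace ↥(CohB1.ProjSpaceOver 1 X) :=
    QuasiCompact.compactSpace_of_compactSpace (CohB1.ProjSpaceOver.toBase 1 X)
  haveI : IsNoetherian (CohB1.ProjSpaceOver 1 X) := {}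
  obtain ⟨ξ, hξv, hξd, -, hξp⟩ := Diag27.exists_vgen hX hP v
  set u := ιW (genericPoint W) with hu
  have hsectP1 : ∀ i : Fin (1 + 1), P1.sect X i ≫ P1.toP1 f = f ≫ P1.sect (Spec (CommRingCat.of K)) i := by
    intro i
    refine pullback.hom_ext ?_ ?_
    · refine (Category.assoc _ _ _).trans (Eq.trans ?_ (Category.assoc _ _ _).symm)
      refine (congrArg (fun a => P1.sect X i ≫ a) ((pullback.lift_fst _ _ _).trans (Category.comp_id _))).trans ?_
      refine (pullback.lift_fst _ _ _).trans (Eq.trans ?_ (congrArg (fun a => f ≫ a) (pullback.lift_fst _ _ _).symm))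
      exact (congrArg (fun a => a ≫ P1.point i) (specULiftZIsTerminal.hom_ext _ _)).trans (Category.assoc _ _ _)
    · refine (Category.assoc _ _ _).trans (Eq.trans ?_ (Category.assoc _ _ _).symm)
      refine (congrArg (fun a => P1.sect X i ≫ a) (pullback.lift_snd _ _ _)).trans ?_
      refine (Category.assoc _ _ _).symm.trans (Eq.trans ?_ (congrArg (fun a => f ≫ a) (pullback.lift_snd _ _ _).symm))
      exact (congrArg (fun a => a ≫ f) (pullback.lift_snd _ _ _)).trans ((Category.id_comp f).trans (Category.comp_id f).symm)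
  have hnr : ∀ i : Fin (1 + 1), u ∉ Set.range (P1.sect X i) := by
    intro i hui
    let k0 : ↥(Spec (CommRingCat.of K)) := IsLocalRing.closedPoint K
    obtain ⟨w, hw⟩ := hdom (P1S26.U (Spec (CommRingCat.of K)) (P1S26.o i))
      ⟨_, P1S26.sect_mem (Spec (CommRingCat.of K)) (P1S26.o i) k0⟩
    obtain ⟨x, hx⟩ := ((genericPoint_specializes w).map ιW.continuous).mem_closed
      (P1.sect X i).isClosedEmbedding.isClosed_range hui
    refine P1S26.sect_not_mem (Spec (CommRingCat.of K)) i (f x) ?_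
    have e : P1.toP1 f (P1.sect X i x) = P1.sect (Spec (CommRingCat.of K)) i (f x) :=
      (Scheme.Hom.comp_apply _ _ x).symm.trans ((congrArg (fun a => a x) (hsectP1 i)).trans (Scheme.Hom.comp_apply _ _ x))
    rw [← e, hx, ← Scheme.Hom.comp_apply]
    exact hw
  have hfib : ∀ (i : Fin (1 + 1)) (x : X), u ⤳ P1.sect X i x → δ x ≤ s := by
    intro i x hx
    have := (hdP u _ hx fun e => hnr i ⟨x, e.symm⟩).1
    rw [P1S26.delta_sect X hP, hW] at this
    omega
  have hpr : ∀ i : Fin (1 + 1), IntMult.IntersectProperly δ n (Cyc.subschemeFun δ s (pullback.snd ιW (P1.sect X i)))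
      (Set.indicator {v} 1) := by
    intro i a b c ha hb hac hbc
    have := (show IntMult.IntersectProperly δ n (Set.indicator {v} 1)
      (Cyc.subschemeFun δ s (pullback.snd ιW (P1.sect X i))) by fin_cases i <;> assumption) b a c hb ha hbc hac
    omega
  let g : Fin (1 + 1) → ↥(CohB1.ProjSpaceOver 1 X) := fun i => P1.sect X i (genericPoint X)
  set A := IntMult.interProd δP (n + 1) (Set.indicator {u} 1) (Set.indicator {ξ} 1) with hA
  let A' : ↥(CohB1.ProjSpaceOver 1 X) → ℤ := fun η => if ∃ i x, η ⤳ P1.sect X i x then A η else 0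
  have hAne : ∀ η, A η ≠ 0 → u ⤳ η ∧ ξ ⤳ η ∧ δP η = r + s - n + 1 := by
    intro η hη
    rw [hA, Diag27.interProd_indicator] at hη
    split_ifs at hη with hc
    · exact ⟨hc.1, hc.2.1, by rw [← hc.2.2, hW, hξd, hv]; ring⟩
    · exact absurd rfl hη
  have hvπ : ∀ {η}, ξ ⤳ η → v ⤳ CohB1.ProjSpaceOver.toBase 1 X η := fun h =>
    hξv ▸ h.map (CohB1.ProjSpaceOver.toBase 1 X).continuous
  have hbd : ∀ η, (∃ i x, η ⤳ P1.sect X i x) → u ⤳ η → ξ ⤳ η → δP η ≤ r + s - n + 1 := by
    rintro η ⟨i, x, hx⟩ a b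
    have := Diag27.gen_bound f hX hn hP ιW hW i (hfib i) (hpr i) hx a (hvπ b)
    omega
  have hbs : ∀ i x, u ⤳ P1.sect X i x → ξ ⤳ P1.sect X i x → δ x ≤ r + s - n := by
    intro i x a b
    have h2 := hvπ b
    rw [P1S26.π_sect_apply] at h2
    have := Diag27.sect_bound f hX hn hP ιW hW i (hfib i) (hpr i) a h2
    omega
  have hA'ne : ∀ η, A' η ≠ 0 → (∃ i x, η ⤳ P1.sect X i x) ∧ u ⤳ η ∧ ξ ⤳ η ∧ δP η = r + s - n + 1 := by
    intro η hη
    by_cases h : ∃ i x, η ⤳ P1.sect X i x
    · exact ⟨h, hAne η fun e => hη ((if_pos h).trans e)⟩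
    · exact absurd (if_neg h) hη
  have hA'fin : (Function.support A').Finite :=
    (Diag27.finite_top_points hdP (S := closure {u} ∩ closure {ξ}) (isClosed_closure.inter isClosed_closure)
      (r + s - n + 1)).subset fun η hη => by
      obtain ⟨⟨i, x, hx⟩, a, b, c⟩ := hA'ne η hη
      refine ⟨⟨specializes_iff_mem_closure.1 a, specializes_iff_mem_closure.1 b⟩, c, ?_⟩
      rintro η' ⟨a', b'⟩ h
      exact hbd η' ⟨i, x, h.trans hx⟩ (specializes_iff_mem_closure.2 a') (specializes_iff_mem_closure.2 b')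
  let α : AlgebraicCycle (CohB1.ProjSpaceOver 1 X) ℤ :=
    { toFun := A'
      supportWithinDomain' := Set.subset_univ _
      supportLocallyFiniteWithinDomain' := fun _ _ => ⟨Set.univ, Filter.univ_mem, hA'fin.subset Set.inter_subset_right⟩ }
  have hα : (⇑α : ↥(CohB1.ProjSpaceOver 1 X) → ℤ) = A' := rfl
  have heq : ∀ i, IntMult.interProd δP (n + 1) A (Set.indicator {g i} 1) =
      IntMult.interProd δP (n + 1) A' (Set.indicator {g i} 1) := fun i => funext fun p => finsum_congr fun q => by
    by_cases hq : Set.indicator {g i} (1 : ↥(CohB1.ProjSpaceOver 1 X) → ℤ) q.1.2 = 0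
    · rw [hq, mul_zero, mul_zero]
    · obtain ⟨x, hx⟩ := Diag27.mem_range_of_specializes i
        ((Set.mem_singleton_iff.1 (Set.mem_of_indicator_ne_zero hq)) ▸ q.2.2.1)
      rw [show A' q.1.1 = A q.1.1 from if_pos ⟨i, x, hx.symm ▸ q.2.1⟩]
  have hgd : ∀ i, δP (g i) = n := fun i => by simp only [g]; rw [P1S26.delta_sect X hP, hn]
  have hprA : ∀ i, IntMult.IntersectProperly δP (n + 1) ⇑α (Set.indicator {g i} 1) := by
    intro i a b c ha hb hac hbc
    obtain rfl : b = g i := Set.mem_singleton_iff.1 (Set.mem_of_indicator_ne_zero hb)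
    rw [hα] at ha
    obtain ⟨-, h1, h2, h3⟩ := hA'ne a ha
    obtain ⟨z, rfl⟩ := Diag27.mem_range_of_specializes i hbc
    have := hbs i z (h1.trans hac) (h2.trans hac)
    rw [P1S26.delta_sect X hP, h3, hgd]
    omega
  have hαZ : α ∈ Cyc.Zk _ δP (r + s - n + 1) := fun p hp => by_contra fun h => hp (hA'ne p h).2.2.2
  have hBfin : ∀ i, (Function.support (IntMult.interProd δP (n + 1) A' (Set.indicator {g i} 1))).Finite := by
    intro i
    refine (Diag27.finite_top_points hdP (S := closure {u} ∩ closure {ξ} ∩ Set.range (P1.sect X i))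
      ((isClosed_closure.inter isClosed_closure).inter (P1.sect X i).isClosedEmbedding.isClosed_range)
      (r + s - n)).subset fun p hp => ?_
    obtain ⟨q, hq⟩ := not_forall.1 (mt finsum_eq_zero_of_forall_eq_zero hp)
    have hb : q.1.2 = g i := Set.mem_singleton_iff.1
      (Set.mem_of_indicator_ne_zero (right_ne_zero_of_mul (left_ne_zero_of_mul hq)))
    obtain ⟨-, h1, h2, h3⟩ := hA'ne _ (left_ne_zero_of_mul (left_ne_zero_of_mul hq))
    obtain ⟨x, rfl⟩ := Diag27.mem_range_of_specializes i (hb ▸ q.2.2.1)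
    refine ⟨⟨⟨specializes_iff_mem_closure.1 (h1.trans q.2.1), specializes_iff_mem_closure.1 (h2.trans q.2.1)⟩, ⟨x, rfl⟩⟩,
      ?_, ?_⟩
    · rw [← q.2.2.2, h3, hb, hgd]; ring
    · rintro η ⟨⟨a, b⟩, y, rfl⟩ -
      rw [P1S26.delta_sect X hP]
      exact hbs i y (specializes_iff_mem_closure.2 a) (specializes_iff_mem_closure.2 b)
  let B : Fin (1 + 1) → AlgebraicCycle (CohB1.ProjSpaceOver 1 X) ℤ := fun i =>
    { toFun := IntMult.interProd δP (n + 1) A' (Set.indicator {g i} 1)
      supportWithinDomain' := Set.subset_univ _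
      supportLocallyFiniteWithinDomain' := fun _ _ => ⟨Set.univ, Filter.univ_mem, (hBfin i).subset Set.inter_subset_right⟩ }
  have hmap : ∀ i, ⇑(AlgebraicCycle.map (CohB1.ProjSpaceOver.toBase 1 X) δP δ (B i)) =
      IntMult.interProd δ n (Set.indicator {v} 1) (Cyc.subschemeFun δ s (pullback.snd ιW (P1.sect X i))) := by
    intro i
    rw [Diag27.interProd_comm]
    exact Diag27.map_interProd_family f hX hn hP ιW hW i (hfib i) (hpr i) hδ hξv hξd hξp (B i) (heq i).symm
  have key := Groth.Agent.S1952.result K X f δ hX hδ n hn δP hPs hP (r + s - n) α hαZ (hprA 0) (hprA 1) (B 0 - B 1)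
    (Function.locallyFinsuppWithin.coe_sub _ _)
  refine Cyc26.ratEquivZero_congr (fun x => ?_) key
  have e := Cyc26.map_sub (CohB1.ProjSpaceOver.toBase 1 X) δP δ (B 0) (B 1)
  change AlgebraicCycle.map _ δP δ (B 0 - B 1) x = γ₀ x - γ₁ x
  rw [e]
  show AlgebraicCycle.map _ δP δ (B 0) x - AlgebraicCycle.map _ δP δ (B 1) x = _
  rw [hmap, hmap, hγ₀, hγ₁]


end Groth.Agent.S1949
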