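import Groth.Statements.S19490
import Groth.Agent.Lib.HdgLef1.ChiGeo

set_option autoImplicit false
universe u
open CategoryTheory CategoryTheory.Limits AlgebraicGeometry
open LefPen

namespace Groth.Agent.S19490

open Groth.Agent
/-- A sum of monomials read coefficientwise. -/
theorem coeff_pol (f : ℕ → ℤ) (N : ℕ) (h : ∀ p, N < p → f p = 0) (p : ℕ) :
    (∑ i ∈ Finset.range (N + 1), Polynomial.C (f i) * Polynomial.X ^ i).coeff p = f p := by
  simp only [Polynomial.finsetSum_coeff, Polynomial.coeff_C_mul_X_pow]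
  rw [Finset.sum_ite_eq]
  split_ifs with hp
  · rfl
  · exact (h p (by simpa [Nat.lt_succ_iff] using hp)).symm

theorem finrank_over_congr {k : Type u} [Field k] {X : Scheme.{u}} {f g : X ⟶ Spec (CommRingCat.of k)} (h : f = g)
    (M : X.Modules) (q : ℕ) :
    (letI : X.Over (Spec (CommRingCat.of k)) := ⟨f⟩; Module.finrank k (Coh.HH X M q)) =
    (letI : X.Over (Spec (CommRingCat.of k)) := ⟨g⟩; Module.finrank k (Coh.HH X M q)) := by
  subst h; rfl


/-- Let k be an algebraically closed field of characteristic zero and a ≥ 1. For every n ≥ 0 let Z_{n+1}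
⊂ P^{n+1}_k be the zero scheme of a form of degree a, smooth over k of relative dimension n (a
smooth hypersurface of degree a), and let χ_y(Z_{n+1}) = Σ_p χ(Z_{n+1}, Ω^p) y^p = Σ_{p, q ≤ n}
(−1)^q dim_k H^q(Z_{n+1}, Ω^p) y^p ∈ ℤ[y] be its Hirzebruch genus, where Ω^p is any p-th exterior
power of the sheaf of differentials of Z_{n+1} over k and cohomology carries the k-structure coming
from the structure morphism. Then, with y ∈ ℤ[y] viewed as a constant power series in z, the
generating series Σ_{n ≥ 1} χ_y(Z_n) z^n ∈ ℤ[y]⟦z⟧ equals ((1 + yz)^a − (1 − z)^a) / ((1 − z)(1 +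
yz)((1 + yz)^a + y(1 − z)^a)); it is stated here cleared of denominators, the denominator having
constant term 1 + y. (The published series starts at n = 0, where both sides vanish; the published
setting is over the complex numbers.) -/
theorem result (k : Type u) [Field k] [IsAlgClosed k] [CharZero k]
    (a : ℕ) (ha : 1 ≤ a) (G : ∀ n : ℕ, LefPen.Form (n + 1) k a)
    [∀ n : ℕ, SmoothOfRelativeDimension n ((LefPen.hypIdeal (G n)).subschemeι ≫ CohB1.ProjSpace.toSpec (n + 1) k)]
    [hO : ∀ n : ℕ, (LefPen.hypIdeal (G n)).subscheme.Over (Spec (CommRingCat.of k))]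
    (hover : ∀ n : ℕ, (LefPen.hypIdeal (G n)).subscheme ↘ Spec (CommRingCat.of k) = ((LefPen.hypIdeal (G n)).subschemeι ≫ CohB1.ProjSpace.toSpec (n + 1) k))
    (L : ∀ n : ℕ, ℕ → (LefPen.hypIdeal (G n)).subscheme.Modules)
    (hL : ∀ n p : ℕ, ExtPow.IsExtPow p (Omega.sheaf ((LefPen.hypIdeal (G n)).subschemeι ≫ CohB1.ProjSpace.toSpec (n + 1) k)) (L n p))
    (χ : ℕ → Polynomial ℤ)
    (hχ : ∀ n : ℕ, χ n = ∑ p ∈ Finset.range (n + 1),
      Polynomial.C (∑ q ∈ Finset.range (n + 1), (-1 : ℤ) ^ q * (Module.finrank k (Coh.HH (LefPen.hypIdeal (G n)).subscheme (L n p) q) : ℤ)) *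
        Polynomial.X ^ p)
    (y : PowerSeries (Polynomial ℤ)) (hy : y = PowerSeries.C (Polynomial.X : Polynomial ℤ)) :
    (1 - PowerSeries.X) * (1 + y * PowerSeries.X) *
        ((1 + y * PowerSeries.X) ^ a + y * (1 - PowerSeries.X) ^ a) *
        (PowerSeries.X * PowerSeries.mk χ) =
      (1 + y * PowerSeries.X) ^ a - (1 - PowerSeries.X) ^ a := by
  subst hy
  let S : ℕ → ℤ → Polynomial ℤ := fun n t =>
    ∑ p ∈ Finset.range (n + 1), Polynomial.C (HdgLef1.ChiY.eX (G n) p t) * Polynomial.X ^ p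
  let E : ℕ → ℤ → Polynomial ℤ := fun N t =>
    ∑ p ∈ Finset.range (N + 1), Polynomial.C (HdgLef1.ChiY.eP k N p t) * Polynomial.X ^ p
  have cE : ∀ N t p, (E N t).coeff p = HdgLef1.ChiY.eP k N p t := fun N t =>
    coeff_pol _ N fun p hp => HdgLef1.ChiY.eP_gt hp t
  have cS : ∀ n t p, (S n t).coeff p = HdgLef1.ChiY.eX (G n) p t := fun n t =>
    coeff_pol _ n fun p hp => HdgLef1.ChiY.eX_gt (G n) hp t
  have hE : ∀ N t, (1 + Polynomial.X) * E N t = HdgLef1.ChiY.D N t := fun N t => by
    refine Polynomial.ext fun l => ?_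
    rw [add_mul, one_mul, Polynomial.coeff_add, HdgLef1.ChiY.coeff_D, cE]
    cases l with
    | zero => simp [HdgLef1.ChiY.eP_zero, HdgLef1.ChiY.dCoef]
    | succ l => rw [Polynomial.coeff_X_mul, cE]; exact HdgLef1.ChiY.eP_succ l t
  have hS : ∀ n t, S n t + Polynomial.X * S n (t - a) = E (n + 1) t - E (n + 1) (t - a) := fun n t => by
    refine Polynomial.ext fun l => ?_
    rw [Polynomial.coeff_add, Polynomial.coeff_sub, cE, cE, cS]
    cases l with
    | zero => simpa using HdgLef1.ChiY.eX_zero (G n) t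
    | succ l => rw [Polynomial.coeff_X_mul, cS]; exact HdgLef1.ChiY.eX_succ (G n) l t
  have hχ' : χ = fun n => S n (-(0 : ℤ)) := funext fun n => by
    rw [hχ n, neg_zero]
    refine Finset.sum_congr rfl fun p _ => congrArg (Polynomial.C · * Polynomial.X ^ p) ?_
    rw [HdgLef1.ChiY.eX_eq_sum (G n) p (hL n p)]
    refine Finset.sum_congr rfl fun q _ => congrArg (fun d : ℕ => (-1 : ℤ) ^ q * (d : ℤ)) ?_
    exact finrank_over_congr (hover n) (L n p) q
  rw [hχ']
  exact HdgLef1.ChiY.generating (a := a) hE hS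

end Groth.Agent.S19490
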