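import Groth.Prelude.Def_Pi1
import Groth.Prelude.Def_CohB1
import Mathlib.AlgebraicGeometry.Morphisms.ClosedImmersion
import Mathlib.AlgebraicGeometry.Morphisms.FiniteType
import Mathlib.AlgebraicGeometry.Properties
import Mathlib.FieldTheory.IsAlgClosed.Basic
import Groth.Agent.Lib.CurveNF.Complete
import Groth.Agent.Lib.RelAmple18.Ops
import Groth.Agent.Lib.CMReg18.Proj
import Groth.Agent.Lib.CohFound.EmbedPow
-- import your own Groth.Agent.* helpers here

namespace Variety
end Variety

set_option autoImplicit false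
universe u
open CategoryTheory AlgebraicGeometry
open Variety

namespace Groth.Agent.S19492

/-- Over an algebraically closed field k, let X be an irreducible affine variety (an integral affine
k-scheme of finite type). Then X is an open subvariety of an irreducible projective variety: there
are an integral k-scheme Y admitting a closed immersion over k into a projective space Pⁿ_k and an
open immersion j : X → Y over k. If X is normal (every local ring an integrally closed domain), then
Y can be chosen normal as well. -/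
theorem result (k : Type u) [Field k]
    [IsAlgClosed k] (X : Scheme.{u}) (f : X ⟶ Spec (CommRingCat.of k)) [IsAffine X]
    [AlgebraicGeometry.IsIntegral X] [LocallyOfFiniteType f] :
    ∃ (Y : Scheme.{u}) (g : Y ⟶ Spec (CommRingCat.of k)) (n : ℕ) (c : Y ⟶ CohB1.ProjSpace n k)
      (j : X ⟶ Y), AlgebraicGeometry.IsIntegral Y ∧ IsClosedImmersion c ∧
      c ≫ CohB1.ProjSpace.toSpec n k = g ∧ IsOpenImmersion j ∧ j ≫ g = f ∧
      (Pi1.IsNormalScheme X → Pi1.IsNormalScheme Y) := by
  haveI : Nonempty (⊤ : X.Opens) := ⟨⟨genericPoint X, trivial⟩⟩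
  haveI : IsDomain Γ(X, ⊤) := IsIntegral.component_integral _
  letI : Algebra k Γ(X, ⊤) := ((Scheme.ΓSpecIso (CommRingCat.of k)).inv ≫ f.appTop).hom.toAlgebra
  haveI : Algebra.FiniteType k Γ(X, ⊤) := by
    show ((Scheme.ΓSpecIso (CommRingCat.of k)).inv ≫ f.appTop).hom.FiniteType
    rw [CommRingCat.hom_comp]
    exact RingHom.FiniteType.comp ((HasRingHomProperty.iff_of_isAffine (P := @LocallyOfFiniteType)).1 inferInstance)
      (RingHom.FiniteType.of_surjective _ (Scheme.ΓSpecIso (CommRingCat.of k)).symm.commRingCatIsoToRingEquiv.surjective)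
  obtain ⟨n, ψ, hψ⟩ := Algebra.FiniteType.iff_quotient_mvPolynomial''.1 ‹Algebra.FiniteType k Γ(X, ⊤)›
  let e : {j : Fin (n + 1) // j ≠ 0} ≃ Fin n := (finSuccAboveEquiv (0 : Fin (n + 1))).symm
  let ψ' : MvPolynomial {j : Fin (n + 1) // j ≠ 0} k →ₐ[k] Γ(X, ⊤) := ψ.comp (MvPolynomial.renameEquiv k e).toAlgHom
  have hψ' : Function.Surjective ψ' := hψ.comp (MvPolynomial.renameEquiv k e).surjective
  haveI : IsClosedImmersion (Spec.map (CommRingCat.ofHom ψ'.toRingHom)) :=
    IsClosedImmersion.spec_of_surjective _ hψ'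
  let i : X ⟶ CohB1.ProjSpace n k :=
    X.isoSpec.hom ≫ Spec.map (CommRingCat.ofHom ψ'.toRingHom) ≫ ProjSpace.chart n k 0
  haveI : IsImmersion i := inferInstanceAs (IsImmersion (_ ≫ _ ≫ _))
  haveI : IsProper (CohB1.ProjSpace.toSpec n k) := ProjSpace.isProper_toSpec n k
  have hi : i ≫ CohB1.ProjSpace.toSpec n k = f := by
    have h1 : Spec.map (CommRingCat.ofHom ψ'.toRingHom) ≫ ProjSpace.chart n k 0 ≫ CohB1.ProjSpace.toSpec n k =
        Spec.map (CommRingCat.ofHom (algebraMap k Γ(X, ⊤))) := by
      rw [ProjSpace.chart_toSpec, ← Spec.map_comp, ← CommRingCat.ofHom_comp]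
      congr 2
      exact RingHom.ext fun c => ψ'.commutes c
    simp only [i, Category.assoc, h1]
    rw [show (CommRingCat.ofHom (algebraMap k Γ(X, ⊤))) =
      (Scheme.ΓSpecIso (CommRingCat.of k)).inv ≫ f.appTop from rfl, Spec.map_comp, Scheme.isoSpec_hom_naturality_assoc]
    simp [Scheme.isoSpec_Spec_hom, ← Spec.map_comp]
  haveI : QuasiCompact i := by
    haveI : QuasiCompact (i ≫ CohB1.ProjSpace.toSpec n k) := by rw [hi]; infer_instance
    exact QuasiCompact.of_comp i (CohB1.ProjSpace.toSpec n k)
  haveI : IsOpenImmersion i.toImage := inferInstance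
  haveI : IsReduced i.image := CurveNF.isReduced_image i
  haveI : IrreducibleSpace i.image := by
    rw [irreducibleSpace_def]
    convert! ((IrreducibleSpace.isIrreducible_univ X).image _ i.toImage.continuous.continuousOn).closure
    simpa using i.toImage.denseRange.closure_range.symm
  haveI : IsIntegral i.image := isIntegral_of_irreducibleSpace_of_isReduced _
  let q₀ : i.image ⟶ Spec (CommRingCat.of k) := i.imageι ≫ CohB1.ProjSpace.toSpec n k
  have hjq : i.toImage ≫ q₀ = f := by
    rw [Scheme.Hom.toImage_imageι_assoc, hi]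
  by_cases hN : Pi1.IsNormalScheme X
  swap
  · exact ⟨i.image, q₀, n, i.imageι, i.toImage, inferInstance, inferInstance, rfl, inferInstance, hjq,
      fun h => absurd h hN⟩
  haveI : LocallyOfFiniteType q₀ := inferInstance
  haveI : IsLocallyNoetherian i.image := LocallyOfFiniteType.isLocallyNoetherian q₀
  haveI : QuasiCompact (i.image.fromSpecStalk (genericPoint i.image)) := inferInstance
  haveI : QuasiSeparated (i.image.fromSpecStalk (genericPoint i.image)) := inferInstance
  let g := i.image.fromSpecStalk (genericPoint i.image)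
  have hg : g = Spec.map (CommRingCat.ofHom (RingHom.id i.image.functionField)) ≫ g := by
    erw [Spec.map_id, Category.id_comp]
  obtain ⟨hI, hN'⟩ := CurveNF.isIntegral_and_normal (g := g) hg
  haveI : IsFinite g.fromNormalization := CurveNF.isFinite_fromNormalization (g := g) hg q₀ (RingHom.Finite.id _)
  let q : g.normalization ⟶ Spec (CommRingCat.of k) := g.fromNormalization ≫ q₀
  let V := i.toImage.opensRange
  have hVne : (V : Set i.image).Nonempty := Set.range_nonempty _
  have hV : IsAffineOpen V := isAffineOpen_opensRange i.toImage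
  haveI : IsIntegrallyClosed Γ(X, ⊤) := VarDim.isIntegrallyClosed_sections (fun x => (hN x).2) ⊤
  haveI : IsIntegrallyClosed Γ(i.image, V) := by
    let e' : Γ(i.image, V) ≅ Γ(X, ⊤) :=
      i.image.presheaf.mapIso (eqToIso (show i.toImage ''ᵁ ⊤ = V from i.toImage.image_top_eq_opensRange)).op ≪≫
        i.toImage.appIso ⊤
    exact IsIntegrallyClosed.of_equiv e'.symm.commRingCatIsoToRingEquiv
  haveI := CurveNF.isIso_morphismRestrict_fromNormalization V hV hVne
  let j : X ⟶ g.normalization :=
    i.toImage.isoOpensRange.hom ≫ inv (g.fromNormalization ∣_ V) ≫ (g.fromNormalization ⁻¹ᵁ V).ι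
  have hj : j ≫ q = f := by
    simp only [j, q, Category.assoc]
    rw [← morphismRestrict_ι_assoc, IsIso.inv_hom_id_assoc, ← Category.assoc, Scheme.Hom.isoOpensRange_hom_ι, hjq]
  haveI : IsProper q := inferInstanceAs (IsProper (_ ≫ _))
  haveI : IsAffineHom i.imageι := inferInstance
  have hAmp := CMReg18.isAmple_twistOne k (n := n)
  have h1 := RA.isAmple_pullback_of_quasiAffine (g.fromNormalization ≫ i.imageι) (fun W hW => by
    haveI : IsAffine ((g.fromNormalization ≫ i.imageι) ⁻¹ᵁ W).toScheme := hW.preimage (g.fromNormalization ≫ i.imageι)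
    infer_instance) hAmp
  obtain ⟨N, d, c, -, hc, hcq, -⟩ := CohFound.exists_closedImmersion_pow_of_isAmple q h1
  exact ⟨g.normalization, q, N, c, j, hI, hc, hcq, inferInstance, hj, fun _ => hN'⟩

end Groth.Agent.S19492
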