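import Groth.Statements.S19493
import Groth.Agent.Lib.EtHull15.Radicial
-- import your own Groth.Agent.* helpers here

set_option autoImplicit false
universe u
open CategoryTheory AlgebraicGeometry
open EtHull

namespace Groth.Agent.S19493

/-- Let f : S' → S be a morphism of locally Noetherian schemes which is integral, radicial (universally
injective) and surjective, and which matches embedded points: a point s' of S' is an embedded
associated point of O_{S'} (an associated point that is a proper specialization of another
associated point) if and only if f(s') is an embedded associated point of O_S. Let a : X → S be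
faithfully flat, g : E → S étale and u : X → E a morphism with u ≫ g = a, so that X → E → S is a
factorization of a through an étale S-scheme. Let E' → S' be the base change of g along f, with
projection φ : E' → E, and u' : X' → E' the base change of u along φ (so X' = X ×_S S'). Then u is
scheme-theoretically dominant if and only if u' is. (The source allows algebraic spaces; schemes
here.) -/
theorem result {X E S S' E' X' : Scheme.{u}}
    [IsLocallyNoetherian S] [IsLocallyNoetherian S'] (f : S' ⟶ S) [IsIntegralHom f]
    [UniversallyInjective f] [Surjective f]
    (hemb : ∀ s' : S', (s' ∈ AssSch.Ass (Coh.structureModule S') ∧ ∃ t ∈ AssSch.Ass (Coh.structureModule S'), t ⤳ s' ∧ t ≠ s') ↔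
      (f.base s' ∈ AssSch.Ass (Coh.structureModule S) ∧ ∃ t ∈ AssSch.Ass (Coh.structureModule S), t ⤳ f.base s' ∧ t ≠ f.base s'))
    (a : X ⟶ S) [Flat a] [Surjective a] (g : E ⟶ S) [Etale g] (u : X ⟶ E) (hu : u ≫ g = a)
    (g' : E' ⟶ S') (φ : E' ⟶ E) (hE : IsPullback φ g' g f)
    (u' : X' ⟶ E') (ψ : X' ⟶ X) (hX : IsPullback ψ u' u φ) :
    IsSchemeTheoreticallyDominant u ↔ IsSchemeTheoreticallyDominant u' := by
  exact Groth.Agent.EtHull15.dominant_iff_baseChange f
    (Groth.Agent.EtHull15.mem_ass_iff_of_homeo f hemb) a g u hu g' φ hE u' ψ hX

end Groth.Agent.S19493
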