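import Groth.Statements.S19494
import Groth.Agent.Lib.EtHull15.Hull
-- import your own Groth.Agent.* helpers here

set_option autoImplicit false
open CategoryTheory AlgebraicGeometry
universe u
open EtHull

namespace Groth.Agent.S19494

/-- Let S be a Noetherian scheme all of whose local rings are geometrically unibranch and whose
structure sheaf has no embedded associated points, and let f : X → S be flat, surjective and of
finite presentation. Call an admissible factorization a factorization X → E → S of f with E → S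
étale and affine and X → E scheme-theoretically dominant. Then any two admissible factorizations X →
E₁ → S and X → E₂ → S have an infimum: an admissible factorization X → E → S together with
compatible S-morphisms E₁ → E and E₂ → E, such that every admissible factorization X → E' → S
receiving compatible S-morphisms E₁ → E' and E₂ → E' admits a compatible morphism E → E'. (The
source allows X to be an algebraic space; X is a scheme here.) -/
theorem result {X S : Scheme.{u}} [IsNoetherian S]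
    (hS : ∀ s : S, CAlg2.IsGeomUnibranch (S.presheaf.stalk s))
    (hemb : AssSch.NoEmbedded (Coh.structureModule S))
    (f : X ⟶ S) [Flat f] [Surjective f] [LocallyOfFinitePresentation f] [QuasiCompact f]
    [QuasiSeparated f]
    (E₁ E₂ : Scheme.{u}) (g₁ : E₁ ⟶ S) (g₂ : E₂ ⟶ S) (u₁ : X ⟶ E₁) (u₂ : X ⟶ E₂)
    [Etale g₁] [Etale g₂] [IsAffineHom g₁] [IsAffineHom g₂]
    [IsSchemeTheoreticallyDominant u₁] [IsSchemeTheoreticallyDominant u₂]
    (h₁ : u₁ ≫ g₁ = f) (h₂ : u₂ ≫ g₂ = f) :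
    ∃ (E : Scheme.{u}) (g : E ⟶ S) (u : X ⟶ E) (v₁ : E₁ ⟶ E) (v₂ : E₂ ⟶ E),
      Etale g ∧ IsAffineHom g ∧ IsSchemeTheoreticallyDominant u ∧ u ≫ g = f ∧
      u₁ ≫ v₁ = u ∧ u₂ ≫ v₂ = u ∧ v₁ ≫ g = g₁ ∧ v₂ ≫ g = g₂ ∧
      ∀ (E' : Scheme.{u}) (g' : E' ⟶ S) (u' : X ⟶ E') (w₁ : E₁ ⟶ E') (w₂ : E₂ ⟶ E'),
        Etale g' → IsAffineHom g' → IsSchemeTheoreticallyDominant u' → u' ≫ g' = f →
        u₁ ≫ w₁ = u' → u₂ ≫ w₂ = u' → w₁ ≫ g' = g₁ → w₂ ≫ g' = g₂ →
        ∃ w : E ⟶ E', u ≫ w = u' ∧ v₁ ≫ w = w₁ ∧ v₂ ≫ w = w₂ := by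
  let A₁ : Groth.Agent.EtHull15.Fac f := ⟨E₁, g₁, u₁, inferInstance, inferInstance, inferInstance, h₁⟩
  let A₂ : Groth.Agent.EtHull15.Fac f := ⟨E₂, g₂, u₂, inferInstance, inferInstance, inferInstance, h₂⟩
  obtain ⟨T, hT⟩ := Groth.Agent.EtHull15.exists_trivial (f := f) hS hemb
  obtain ⟨C, ⟨⟨v₁, a₁, b₁⟩, ⟨v₂, a₂, b₂⟩⟩, hmin⟩ := Groth.Agent.EtHull15.exists_min (f := f) hS hemb
    (fun C => A₁.Le C ∧ A₂.Le C) ⟨T, hT A₁, hT A₂⟩ (fun A B hA hB => by
      obtain ⟨C, hCA, hCB, hC⟩ := Groth.Agent.EtHull15.exists_sup (f := f) hS hemb A B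
      exact ⟨C, ⟨hC A₁ hA.1 hB.1, hC A₂ hA.2 hB.2⟩, hCA, hCB⟩)
  refine ⟨C.E, C.g, C.u, v₁, v₂, inferInstance, inferInstance, inferInstance, C.w, a₁, a₂, b₁, b₂, ?_⟩
  intro E' g' u' w₁ w₂ he ha hd hf e₁ e₂ e₃ e₄
  let D : Groth.Agent.EtHull15.Fac f := ⟨E', g', u', he, ha, hd, hf⟩
  obtain ⟨w, hw, hw'⟩ := hmin D ⟨⟨w₁, e₁, e₃⟩, ⟨w₂, e₂, e₄⟩⟩
  refine ⟨w, hw, A₁.hom_ext g' (v₁ ≫ w) w₁ ?_ ?_, A₂.hom_ext g' (v₂ ≫ w) w₂ ?_ ?_⟩
  · exact (Category.assoc _ _ _).symm.trans ((congrArg (· ≫ w) a₁).trans (hw.trans e₁.symm))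
  · exact (Category.assoc _ _ _).trans ((congrArg (v₁ ≫ ·) hw').trans (b₁.trans e₃.symm))
  · exact (Category.assoc _ _ _).symm.trans ((congrArg (· ≫ w) a₂).trans (hw.trans e₂.symm))
  · exact (Category.assoc _ _ _).trans ((congrArg (v₂ ≫ ·) hw').trans (b₂.trans e₄.symm))

end Groth.Agent.S19494
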