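import Groth.Statements.S19498
import Groth.Agent.Lib.PicPn.CanonTriv

set_option autoImplicit false
universe u
open CategoryTheory CategoryTheory.Limits AlgebraicGeometry
open Canon

namespace Groth.Agent.S19498

/-- Let S be a locally Noetherian scheme and f : X ⟶ S a locally projective morphism, smooth of relative
dimension n, whose fibres are non-empty and geometrically connected; let ω be an n-th exterior power
of the sheaf of relative differentials of f (the relative canonical sheaf K_{X/S}) and m ≥ 1 an
integer such that K^{⊗m} is trivial on fibres: for every point s of S the restriction of K^{⊗m} to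
the fibre X_s is isomorphic to O_{X_s}. Assume H^1(X_s, O_{X_s}) = 0 for every point s of S. Then
the evaluation map f^* f_* K^{⊗m} ⟶ K^{⊗m}, the counit of the adjunction between pullback and
pushforward of modules, is an isomorphism. (The published statement has f projective and smooth of
possibly varying relative dimension; here f is taken locally projective of constant relative
dimension n.) -/
theorem result
    {X S : Scheme.{u}} [IsLocallyNoetherian S] (f : X ⟶ S)
    (hproj : RedSub.IsLocallyProjective (Over.mk f))
    (n : ℕ) [SmoothOfRelativeDimension n f] [GeometricallyConnected f]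
    (ω : X.Modules) (hω : Canon.IsTopDiff f n ω) (m : ℕ) (hm : 1 ≤ m)
    (htriv : ∀ s : ↥S, Nonempty ((Scheme.Modules.pullback (f.fiberι s)).obj (CohB1.tensorPow ω m) ≅
      Coh.structureModule (f.fiber s)))
    (hH1 : ∀ s : ↥S, Subsingleton (Coh.HH (f.fiber s) (Coh.structureModule (f.fiber s)) 1)) :
    IsIso ((Scheme.Modules.pullbackPushforwardAdjunction f).counit.app (CohB1.tensorPow ω m)) := by
  haveI : IsProper f := Groth.Agent.PicPn.isProper_of_isLocallyProjective f hproj
  haveI : Smooth f := SmoothOfRelativeDimension.smooth n f
  haveI : GeometricallyReduced f := Groth.Agent.AbRigid.geometricallyReduced_of_smooth f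
  have h0 := fun s => Groth.Agent.PicPn.finrank_fiber_of_geometrically f s
  have hL := Groth.Agent.PicPn.isInvertible_tensorPow_topDiff f hω m
  exact (Groth.Agent.PicPn.exists_of_gens f (Groth.Agent.PicPn.bijective_app_of_h0 f h0)
    (fun s => Groth.Agent.PicPn.exists_gen_near_fibre f hL s
      (Groth.Agent.AffStratVan4.subsingleton_HH_congr (htriv s).some.symm 1 (hH1 s)) (htriv s))).2.2

end Groth.Agent.S19498
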