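import Groth.Statements.S19499
import Groth.Agent.Lib.BlowUpBC3.Global
import Groth.Agent.Lib.PinchBlowUp3.Main
import Groth.Agent.Lib.RegImm26.FlatQuot
import Groth.Agent.Lib.RegImm26.RelBC
import Groth.Agent.Lib.RegImm26.Apps
import Groth.Agent.Lib.PerfLCI4.Kind
import Groth.Agent.Lib.Cyc26.P1Rat
import Groth.Agent.Lib.ProjSpace.Basic
import Groth.Agent.S8654

set_option autoImplicit false
set_option backward.isDefEq.respectTransparency false
set_option backward.isDefEq.respectTransparency.types false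
universe u
open CategoryTheory CategoryTheory.Limits AlgebraicGeometry
open IntTh

namespace Groth.Agent.S19499

open CategoryTheory CategoryTheory.Limits AlgebraicGeometry TopologicalSpace

theorem flat_pow_of_regular {Z P S : Scheme.{u}} (π : P ⟶ S) (j : Z ⟶ P) [IsClosedImmersion j]
    [Flat (j ≫ π)] (hj : RegImm.IsRegularImmersion .koszul j) (m : ℕ) (hm : 1 ≤ m) :
    Flat ((j.ker ^ m).subschemeι ≫ π) := by
  let ι' := (j.ker ^ m).subschemeι
  haveI : Flat (j.ker.subschemeι ≫ π) := by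
    have e : j.ker.subschemeι ≫ π = inv j.toImage ≫ j ≫ π := by
      rw [IsIso.eq_inv_comp]
      exact Scheme.Hom.toImage_imageι_assoc j _
    rw [e]
    infer_instance
  have hloc : ∀ w : ↥(j.ker ^ m).subscheme, ∃ (V : S.affineOpens) (U : P.affineOpens) (e : U.1 ≤ π ⁻¹ᵁ V.1),
      ι' w ∈ U.1 ∧ ((ι' ≫ π).appLE V.1 (ι' ⁻¹ᵁ U.1) (ι'.preimage_mono e)).hom.Flat := by
    intro w
    have hw : ι' w ∈ Set.range (j.ker ^ m).subschemeι := ⟨w, rfl⟩
    rw [Scheme.IdealSheafData.range_subschemeι, Scheme.IdealSheafData.support_pow _ _ (by omega),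
      Scheme.Hom.support_ker, j.isClosedEmbedding.isClosed_range.closure_eq] at hw
    obtain ⟨z, hz⟩ := hw
    obtain ⟨⟨U, hU⟩, hzU, -, rs, hrs, hker⟩ := hj.2 z
    obtain ⟨V, hV, hzV, -⟩ := exists_isAffineOpen_mem_and_subset (X := S) (x := π (j z)) (U := ⊤) trivial
    obtain ⟨g, hgle, hgz⟩ := hU.exists_basicOpen_le (V := π ⁻¹ᵁ V ⊓ U) ⟨j z, hzV, hzU⟩ hzU
    let U' : P.affineOpens := P.affineBasicOpen (U := ⟨U, hU⟩) g
    have e : U'.1 ≤ π ⁻¹ᵁ V := hgle.trans inf_le_left
    refine ⟨⟨V, hV⟩, U', e, hz ▸ hgz, ?_⟩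
    rw [PinchBlowUp3.flat_quot_iff π (j.ker ^ m) hV U'.2 e]
    letI := (π.appLE V U'.1 e).hom.toAlgebra
    have h1 : Module.Flat Γ(S, V) (Γ(P, U'.1) ⧸ j.ker.ideal U') :=
      (PinchBlowUp3.flat_quot_iff π j.ker hV U'.2 e).1
        (Flat.flat_appLE _ hV (U'.2.preimage j.ker.subschemeι) _)
    haveI : IsLocalization.Away g Γ(P, P.basicOpen g) := hU.isLocalization_basicOpen g
    have hq := PerfLCI4.isQuasiRegular_localization (L := Γ(P, P.basicOpen g)) (Submonoid.powers g) rs.get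
      (PerfLCI4.seq_quasi hrs)
    let fs : Fin rs.length → Γ(P, U'.1) := fun i => algebraMap Γ(P, U) Γ(P, P.basicOpen g) (rs.get i)
    have hI : j.ker.ideal U' = Ideal.span (Set.range fs) := by
      have hk : Ideal.span (Set.range rs.get) = j.ker.ideal ⟨U, hU⟩ := by
        rw [RegImm26.span_range_get, Scheme.Hom.ker_apply]; exact hker.symm
      rw [← j.ker.map_ideal_basicOpen ⟨U, hU⟩ g, ← hk, Ideal.map_span, ← Set.range_comp]
      rfl
    rw [hI] at h1
    haveI := h1
    rw [Scheme.IdealSheafData.ideal_pow, Pi.pow_apply, hI]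
    exact RegImm26.flat_quotient_pow (A := Γ(S, V)) fs hq m
  choose V U e hwU hfl using hloc
  refine IsZariskiLocalAtSource.of_openCover ((j.ker ^ m).subscheme.openCoverOfIsOpenCover (fun w => ι' ⁻¹ᵁ (U w).1)
    (IsOpenCover.mk (eq_top_iff.2 fun w _ => Opens.mem_iSup.2 ⟨w, hwU w⟩))) fun w => ?_
  have hW := (U w).2.preimage ι'
  change Flat ((ι' ⁻¹ᵁ (U w).1).ι ≫ ι' ≫ π)
  rw [← hW.isoSpec_hom_fromSpec, Category.assoc,
    ← IsAffineOpen.SpecMap_appLE_fromSpec (ι' ≫ π) (V w).2 hW (ι'.preimage_mono (e w))]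
  haveI : Flat (Spec.map ((ι' ≫ π).appLE (V w).1 (ι' ⁻¹ᵁ (U w).1) (ι'.preimage_mono (e w)))) :=
    (HasRingHomProperty.Spec_iff (P := @Flat)).2 (hfl w)
  infer_instance

theorem isPullback_toP1 {X X' : Scheme.{u}} (g : X' ⟶ X) :
    IsPullback (P1.toP1 g) (CohB1.ProjSpaceOver.toBase 1 X') (CohB1.ProjSpaceOver.toBase 1 X) g := by
  have h1 : P1.toP1 g ≫ pullback.fst (CohB1.ProjSpace.toSpec 1 (ULift.{u} ℤ)) (specULiftZIsTerminal.from X) =
      pullback.fst _ _ := (pullback.lift_fst _ _ _).trans (Category.comp_id _)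
  have h2 : P1.toP1 g ≫ CohB1.ProjSpaceOver.toBase 1 X = CohB1.ProjSpaceOver.toBase 1 X' ≫ g :=
    pullback.lift_snd _ _ _
  refine IsPullback.of_right ?_ h2 (IsPullback.of_hasPullback _ _).flip.flip
  have h3 : IsPullback (pullback.fst (CohB1.ProjSpace.toSpec 1 (ULift.{u} ℤ)) (specULiftZIsTerminal.from X'))
      (CohB1.ProjSpaceOver.toBase 1 X') (CohB1.ProjSpace.toSpec 1 (ULift.{u} ℤ)) (specULiftZIsTerminal.from X') :=
    IsPullback.of_hasPullback _ _
  rw [h1, show g ≫ specULiftZIsTerminal.from X = specULiftZIsTerminal.from X' from specULiftZIsTerminal.hom_ext _ _]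
  exact h3

/-- Formation of M commutes with base change: let f : X ⟶ S be locally projective, flat, surjective and
locally of finite presentation, with every fibre of local dimension n at each of its points, and let
i : Y ⟶ X be a closed immersion that is regular of constant codimension c ≤ n (locally cut out by a
regular sequence of length c) such that Y ⟶ S is again locally projective, flat, surjective and
locally of finite presentation with fibres of local dimension n − c everywhere. Let b : M ⟶ P¹_X be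
a blowing-up of P¹_X in the closed subscheme Y × {∞} (the image of Y under the section at infinity),
given through its universal property. Let S' ⟶ S be any morphism, X' = X ×_S S' and Y' = Y ×_S S'
the base changes with the induced closed immersion i' : Y' ⟶ X', and M' = M ×_{P¹_X} P¹_{X'} with
projection b' : M' ⟶ P¹_{X'} (so M' = M ×_S S'). Then b' is a blowing-up of P¹_{X'} in Y' × {∞}: the
formation of the deformation to the normal cone commutes with arbitrary base change on S. -/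
theorem result
    {S S' X X' Y Y' M M' : Scheme.{u}} (f : X ⟶ S) (n c : ℕ) (hc : c ≤ n)
    (hfproj : RedSub.IsLocallyProjective (Over.mk f))
    [Flat f] [Surjective f] [LocallyOfFinitePresentation f]
    (hfdim : ∀ x : ↥X, FlatMor.fibreDimAt f x = n)
    (i : Y ⟶ X) [IsClosedImmersion i]
    (hi : RegImm.IsRegularImmersionOfCodim RegImm.Kind.regular c i)
    (hgproj : RedSub.IsLocallyProjective (Over.mk (i ≫ f)))
    [Flat (i ≫ f)] [Surjective (i ≫ f)] [LocallyOfFinitePresentation (i ≫ f)]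
    (hgdim : ∀ y : ↥Y, FlatMor.fibreDimAt (i ≫ f) y = ((n - c : ℕ) : WithBot ℕ∞))
    (b : M ⟶ CohB1.ProjSpaceOver 1 X)
    (hb : BlowUp.IsBlowUp b (i ≫ P1.sect X 1).ker)
    (h : S' ⟶ S) (f' : X' ⟶ S') (g : X' ⟶ X) (hX : IsPullback g f' f h)
    (i' : Y' ⟶ X') (gY : Y' ⟶ Y) (hY : IsPullback gY i' i g)
    (b' : M' ⟶ CohB1.ProjSpaceOver 1 X') (μ : M' ⟶ M) (hM : IsPullback μ b' b (P1.toP1 g)) :
    BlowUp.IsBlowUp b' (i' ≫ P1.sect X' 1).ker := by
  haveI : IsClosedImmersion (P1.sect X 1) := P1S26.isClosedImmersion_sect X 1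
  haveI : Smooth (CohB1.ProjSpaceOver.toBase 1 X) := inferInstance
  have hs : RegImm.IsRegularImmersion .regular (P1.sect X 1) :=
    ((RegImm26.regularClosedImmersion_iff _).1
      (RegImm26.section_regular (φ := CohB1.ProjSpaceOver.toBase 1 X) (P1.sect X 1) (P1S26.sect_π X 1))).2
  have hj : RegImm.IsRegularImmersion .koszul (i ≫ P1.sect X 1) := by
    refine S8654.result (P1.sect X 1) i ⟨hs.1, fun z => ?_⟩ ⟨hi.1, fun z => ?_⟩
    · obtain ⟨U, h1, h2, rs, h3, h4⟩ := hs.2 z
      exact ⟨U, h1, h2, rs, PerfLCI4.seq_of_isRegular .koszul h3, h4⟩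
    · obtain ⟨U, h1, h2, rs, -, h3, h4⟩ := hi.2 z
      exact ⟨U, h1, h2, rs, PerfLCI4.seq_of_isRegular .koszul h3, h4⟩
  let π : CohB1.ProjSpaceOver 1 X ⟶ S := CohB1.ProjSpaceOver.toBase 1 X ≫ f
  haveI : Flat ((i ≫ P1.sect X 1) ≫ π) := by
    have e : (i ≫ P1.sect X 1) ≫ π = i ≫ f := by
      show (i ≫ P1.sect X 1) ≫ P1S26.π X ≫ f = _
      rw [Category.assoc, ← Category.assoc (P1.sect X 1), P1S26.sect_π, Category.id_comp]
    rw [e]
    infer_instance
  have hX2 : IsPullback (P1.toP1 g) (CohB1.ProjSpaceOver.toBase 1 X' ≫ f') π h := (isPullback_toP1 g).paste_vert hX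
  have key := BlowUpBC3.isBlowUp_baseChange π (i ≫ P1.sect X 1).ker (flat_pow_of_regular π _ hj) b hb h
    (P1.toP1 g) (CohB1.ProjSpaceOver.toBase 1 X' ≫ f') hX2 μ b' hM
  have hsq : IsPullback g (P1.sect X' 1) (P1.sect X 1) (P1.toP1 g) := by
    refine IsPullback.of_bot ?_ ?_ (isPullback_toP1 g)
    · show IsPullback g (P1.sect X' 1 ≫ P1S26.π X') (P1.sect X 1 ≫ P1S26.π X) g
      rw [P1S26.sect_π, P1S26.sect_π]
      exact IsPullback.of_vert_isIso ⟨by simp⟩
    · apply pullback.hom_ext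
      · simp [P1.sect, P1.toP1, pullback.map, specULiftZIsTerminal.hom_ext (g ≫ specULiftZIsTerminal.from X) (specULiftZIsTerminal.from X')]
        rw [← Category.assoc, specULiftZIsTerminal.hom_ext (g ≫ specULiftZIsTerminal.from X) (specULiftZIsTerminal.from X')]
      · simp [P1.sect, P1.toP1, pullback.map]
        exact (Category.id_comp g).symm
  have hY2 : IsPullback gY (i' ≫ P1.sect X' 1) (i ≫ P1.sect X 1) (P1.toP1 g) := hY.paste_vert hsq
  have hk : (i' ≫ P1.sect X' 1).ker = (i ≫ P1.sect X 1).ker.comap (P1.toP1 g) := by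
    rw [← RegImm26.ker_snd_eq, ← hY2.isoPullback_hom_snd, Scheme.Hom.ker_comp_of_isIso]
  rw [hk]
  exact key

end Groth.Agent.S19499
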