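import Groth.Statements.S19500
import Groth.Agent.Lib.PfaffH28.TFinite

set_option autoImplicit false
universe u
open Cubic

namespace Groth.Agent.S19500

/-- Let K be an algebraically closed field of characteristic zero and S = V(F) ⊂ P^3_K a cubic surface
(F homogeneous of degree 3) which is irreducible and not a cone (no nonzero vector v has Σ_i v_i
∂F/∂x_i = 0). For a nonzero vector b with F(b) = 0 write ℓ_b = Σ_i ∂F/∂x_i(b) · x_i for the linear
form of the tangent plane at b; call b a T-point when b is a smooth point of S (some ∂F/∂x_i(b) ≠ 0)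
and F is congruent modulo ℓ_b to a product of three linear forms (the plane cubic T_b S ∩ S is
set-theoretically a union of lines). Let a be a smooth point of S which is not a T-point and H ⊂ K^4
the hyperplane ℓ_a = 0 (the tangent plane T_a S). Then T_a S contains only finitely many T-points of
S: the set of one-dimensional subspaces U ≤ H all of whose nonzero vectors are T-points is finite. -/
theorem result (K : Type u) [Field K] [IsAlgClosed K]
    [CharZero K] (F : MvPolynomial (Fin 4) K) (hF : F.IsHomogeneous 3) (hirr : Irreducible F)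
    (hcone : ¬ ∃ v : Fin 4 → K, v ≠ 0 ∧ ∑ i : Fin 4, v i • MvPolynomial.pderiv i F = 0)
    (tp : (Fin 4 → K) → Prop)
    (htp : ∀ b : Fin 4 → K, tp b ↔ (b ≠ 0 ∧ MvPolynomial.eval b F = 0 ∧
      (∃ i : Fin 4, MvPolynomial.eval b (MvPolynomial.pderiv i F) ≠ 0) ∧
      ∃ L₁ L₂ L₃ : MvPolynomial (Fin 4) K, L₁.IsHomogeneous 1 ∧ L₂.IsHomogeneous 1 ∧ L₃.IsHomogeneous 1 ∧
        F - L₁ * L₂ * L₃ ∈ Ideal.span {∑ i : Fin 4,
          MvPolynomial.C (MvPolynomial.eval b (MvPolynomial.pderiv i F)) * MvPolynomial.X i}))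
    (a : Fin 4 → K) (haF : MvPolynomial.eval a F = 0)
    (hsm : ∃ i : Fin 4, MvPolynomial.eval a (MvPolynomial.pderiv i F) ≠ 0) (ha : ¬ tp a)
    (H : Submodule K (Fin 4 → K))
    (hH : ∀ x : Fin 4 → K, x ∈ H ↔ MvPolynomial.eval x (∑ i : Fin 4,
      MvPolynomial.C (MvPolynomial.eval a (MvPolynomial.pderiv i F)) * MvPolynomial.X i) = 0) :
    Set.Finite {U : Submodule K (Fin 4 → K) | Module.finrank K ↥U = 1 ∧ U ≤ H ∧
      ∀ b ∈ U, b ≠ 0 → tp b} := by
  classical
  have hlinfun : ∀ L : MvPolynomial (Fin 4) K, L.IsHomogeneous 1 →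
      ∃ φ : (Fin 4 → K) →ₗ[K] K, ∀ x, φ x = MvPolynomial.eval x L := by
    intro L hL
    refine ⟨∑ i, MvPolynomial.coeff (Finsupp.single i 1) L • LinearMap.proj i, fun x => ?_⟩
    conv_rhs => rw [L.as_sum, map_sum]
    simp only [LinearMap.sum_apply, LinearMap.smul_apply, LinearMap.proj_apply, smul_eq_mul]
    symm
    have hsub : L.support ⊆ Finset.univ.image (fun i : Fin 4 => Finsupp.single i 1) := by
      intro d hd
      have h1 := hL (MvPolynomial.mem_support_iff.1 hd)
      have h2 : (d.sum fun _ e => e) = 1 := by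
        rw [Finsupp.weight_apply] at h1; simpa [Finsupp.sum] using h1
      obtain ⟨i, hi⟩ := (Finsupp.sum_eq_one_iff d).1 h2
      exact Finset.mem_image.2 ⟨i, Finset.mem_univ i, hi.symm⟩
    rw [Finset.sum_subset hsub (fun d _ hd => by
      rw [MvPolynomial.notMem_support_iff.1 hd, MvPolynomial.monomial_zero, map_zero]),
      Finset.sum_image fun i _ j _ h => Finsupp.single_left_injective one_ne_zero h]
    exact Finset.sum_congr rfl fun i _ => by rw [MvPolynomial.eval_monomial]; simp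
  have hgrad : ∀ b x, MvPolynomial.eval x (∑ i : Fin 4,
      MvPolynomial.C (MvPolynomial.eval b (MvPolynomial.pderiv i F)) * MvPolynomial.X i) = CubicH28.T F b b x / 2 := by
    intro b x
    rw [← CubicH28.pderiv_eq hF b x]
    simp [mul_comm]
  have hsgiff : ∀ b, (∃ i, MvPolynomial.eval b (MvPolynomial.pderiv i F) ≠ 0) ↔ ¬ PfaffH28.Sg F b := by
    intro b
    constructor
    · rintro ⟨i, hi⟩ hsg
      have h := CubicH28.pderiv_eq hF b (Pi.single i 1)
      rw [hsg] at h
      simp [Pi.single_apply] at h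
      exact hi h
    · intro h
      by_contra hh
      push Not at hh
      refine h fun x => ?_
      have := CubicH28.pderiv_eq hF b x
      simp [hh] at this
      linear_combination (-2 : K) * this
  have htp1 : ∀ b, tp b → b ≠ 0 ∧ PfaffH28.IsT F b := by
    intro b hb
    obtain ⟨hb0, hbF, hbsm, L₁, L₂, L₃, h1, h2, h3, hmem⟩ := (htp b).1 hb
    obtain ⟨φ₁, e1⟩ := hlinfun L₁ h1
    obtain ⟨φ₂, e2⟩ := hlinfun L₂ h2
    obtain ⟨φ₃, e3⟩ := hlinfun L₃ h3
    refine ⟨hb0, hbF, (hsgiff b).1 hbsm, φ₁, φ₂, φ₃, fun x hx => ?_⟩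
    obtain ⟨Q, hQ⟩ := Ideal.mem_span_singleton'.1 hmem
    have h := congrArg (MvPolynomial.eval x) hQ
    rw [map_mul, hgrad, hx, zero_div, mul_zero, map_sub, map_mul, map_mul, eq_comm, sub_eq_zero] at h
    rw [h, e1, e2, e3]
  have hna : ¬ PfaffH28.Sg F a := (hsgiff a).1 hsm
  have ha0 : a ≠ 0 := fun h => hna fun x => by
    rw [h]; simpa using CubicH28.T_smul hF 0 a (0 : Fin 4 → K) x
  have hnp : ¬ PfaffH28.IsProd F a := by
    rintro ⟨φ₁, φ₂, φ₃, hφ⟩
    refine ha ((htp a).2 ⟨ha0, haF, hsm,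
      ∑ j, MvPolynomial.C (φ₁ (Pi.single j 1)) * MvPolynomial.X j,
      ∑ j, MvPolynomial.C (φ₂ (Pi.single j 1)) * MvPolynomial.X j,
      ∑ j, MvPolynomial.C (φ₃ (Pi.single j 1)) * MvPolynomial.X j, ?_, ?_, ?_, ?_⟩)
    · exact MvPolynomial.IsHomogeneous.sum _ _ _ fun j _ => (MvPolynomial.isHomogeneous_X K j).C_mul _
    · exact MvPolynomial.IsHomogeneous.sum _ _ _ fun j _ => (MvPolynomial.isHomogeneous_X K j).C_mul _
    · exact MvPolynomial.IsHomogeneous.sum _ _ _ fun j _ => (MvPolynomial.isHomogeneous_X K j).C_mul _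
    obtain ⟨i, hi⟩ := hsm
    refine PfaffH28.mem_span_of_vanish _ _ (fun j => MvPolynomial.eval a (MvPolynomial.pderiv j F)) rfl
      (Pi.single i (MvPolynomial.eval a (MvPolynomial.pderiv i F))⁻¹) (by simp [Pi.single_apply, hi]) fun P hP => ?_
    rw [hgrad] at hP
    have e : ∀ L : (Fin 4 → K) →ₗ[K] K, L P = ∑ j, L (Pi.single j 1) * P j := fun L => by
      conv_lhs => rw [pi_eq_sum_univ' P, map_sum]
      exact Finset.sum_congr rfl fun j _ => by rw [map_smul, smul_eq_mul, mul_comm]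
    have h := hφ P (by simpa using hP)
    rw [e φ₁, e φ₂, e φ₃] at h
    simp [h]
  obtain ⟨P, hP, hcov⟩ := PfaffH28.T_finite F hF hirr hcone a haF hna hnp
  refine (hP.image fun v => Submodule.span K {v}).subset ?_
  rintro U ⟨hU1, hUH, hUtp⟩
  obtain ⟨b, hb, hb0⟩ := U.exists_mem_ne_zero_of_ne_bot (fun h => by rw [h, finrank_bot] at hU1; omega)
  obtain ⟨-, hbT⟩ := htp1 b (hUtp b hb hb0)
  have hba : CubicH28.T F a a b = 0 := by
    have := (hH b).1 (hUH hb)
    rw [hgrad] at this
    simpa using this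
  obtain ⟨v, hv, hbv⟩ := hcov b hb0 hba hbT
  refine ⟨v, hv, ?_⟩
  have e1 : Submodule.span K {b} = U := Submodule.eq_of_le_of_finrank_le
    ((Submodule.span_singleton_le_iff_mem _ _).2 hb) (by rw [hU1, finrank_span_singleton hb0])
  obtain ⟨c, rfl⟩ := Submodule.mem_span_singleton.1 hbv
  rw [← e1]
  exact (Submodule.span_singleton_smul_eq (isUnit_iff_ne_zero.2 fun h => hb0 (by simp [h])) v).symm

end Groth.Agent.S19500
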