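import Groth.Statements.S19501
import Groth.Agent.Lib.ClProd26.Chart
import Groth.Agent.Lib.Cyc26.AffBundle
import Groth.Agent.Lib.Cyc26.CellStrata
import Groth.Agent.Lib.CubeField.Simple
import Groth.Agent.Lib.UCat26.FlatRel

set_option backward.isDefEq.respectTransparency.types false
set_option backward.isDefEq.respectTransparency false
set_option linter.style.haveILetI false

set_option autoImplicit false
universe u
open CategoryTheory MonoidalCategory CartesianMonoidalCategory AlgebraicGeometry CategoryTheory.Limits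
open Cyc

namespace Groth.Agent.S19501

open Groth.Agent
open scoped Classical

variable {k : Type u} [Field k] {X Y Z : Scheme.{u}}

theorem cls_eq_generic [IrreducibleSpace X] {η : X} (h : closure ({η} : Set X) = Set.univ) : η = genericPoint X :=
  IsGenericPoint.eq h (genericPoint_spec X)

/-- A codimension-one cycle rationally equivalent to zero is the divisor of one function. -/
theorem exists_divFun [IsIntegral X] [IsLocallyNoetherian X] {δ : X → ℤ} (hd : Cyc.IsDimFun X δ) {ξ : X} (hξ : ξ = genericPoint X)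
    {α : AlgebraicCycle X ℤ} (h : Cyc.RatEquivZero δ (δ ξ - 1) α) :
    ∃ φ : X.residueField ξ, φ ≠ 0 ∧ ∀ x, α x = Cyc.divFun δ ξ φ x := by
  classical
  obtain ⟨ι, ζ, f, h1, h2, h3, h4⟩ := h
  have hζ : ∀ i, ζ i = ξ := fun i => by
    by_contra hne
    have := (hd ξ (ζ i) (hξ ▸ genericPoint_specializes (ζ i)) (Ne.symm hne)).1
    have := h1 i
    omega
  obtain ⟨U, -, hU, hfin⟩ := h3 ξ
  haveI : Finite ι := Set.finite_univ_iff.1 (hfin.subset fun i _ => ⟨ξ, subset_closure (hζ i).symm, hU⟩)
  haveI := Fintype.ofFinite ι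
  have hg : ∀ i, ∃ g : X.residueField ξ, g ≠ 0 ∧ ∀ x, Cyc.divFun δ (ζ i) (f i) x = Cyc.divFun δ ξ g x := by
    intro i
    have aux : ∀ (p : X) (_ : p = ξ) (g : X.residueField p), g ≠ 0 →
        ∃ g' : X.residueField ξ, g' ≠ 0 ∧ ∀ x, Cyc.divFun δ p g x = Cyc.divFun δ ξ g' x := by
      intro p e g hg
      subst e
      exact ⟨g, hg, fun _ => rfl⟩
    exact aux (ζ i) (hζ i) (f i) (h2 i)
  choose g hg0 hg using hg
  refine ⟨∏ i, g i, Finset.prod_ne_zero_iff.2 fun i _ => hg0 i, fun x => ?_⟩
  rw [h4 x, finsum_eq_sum_of_fintype]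
  have hprod : ∀ t : Finset ι, Cyc.divFun δ ξ (∏ i ∈ t, g i) x = ∑ i ∈ t, Cyc.divFun δ ξ (g i) x := by
    intro t
    induction t using Finset.induction_on with
    | empty =>
      rw [Finset.prod_empty, Finset.sum_empty]
      simp only [Cyc.divFun]
      split_ifs with hh
      · exact Cyc26.ordFrac_one
      · rfl
    | insert i t hit ih =>
      rw [Finset.prod_insert hit, Finset.sum_insert hit, ← ih]
      exact Cyc26.divFun_mul _ x (hg0 i) (Finset.prod_ne_zero_iff.2 fun j _ => hg0 j)
  rw [hprod]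
  exact Finset.sum_congr rfl fun i _ => hg i x

theorem ratEquivZero_of_divFun {δ : X → ℤ} {ξ : X} (φ : X.residueField ξ) (hφ : φ ≠ 0)
    {α : AlgebraicCycle X ℤ} (h : ∀ x, α x = Cyc.divFun δ ξ φ x) : Cyc.RatEquivZero δ (δ ξ - 1) α :=
  ⟨PUnit, fun _ => ξ, fun _ => φ, fun _ => (sub_add_cancel _ _).symm, fun _ => hφ,
    fun _ => ⟨Set.univ, isOpen_univ, trivial, Set.toFinite _⟩, fun x => by rw [h x, finsum_unique]⟩

/-- Flat pullback along a morphism with integral fibres. -/
theorem pullFun_fgen (f : X ⟶ Y) [∀ y, IsIntegral (f.fiber y)] {δX : X → ℤ} {δY : Y → ℤ}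
    (hdX : Cyc.IsDimFun X δX) {r : ℤ} (hgen : ∀ y, δX (Cyc26.fgen f y) = δY y + r) (α : Y → ℤ) (z : X) :
    Cyc.pullFun f δX δY r α z = if z = Cyc26.fgen f (f z) then α (f z) else 0 := by
  simp only [Cyc.pullFun]
  by_cases hz : z = Cyc26.fgen f (f z)
  · rw [if_pos hz, if_pos (by rw [← hgen, ← hz])]
    conv_lhs => rw [hz]
    rw [Cyc26.length_fgen, Cyc26.apply_fgen]
    simp
  · rw [if_neg hz, if_neg]
    have := (hdX _ z (Cyc26.fgen_specializes f rfl) (Ne.symm hz)).1
    rw [hgen] at this
    omega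

theorem pullFun_divFun_at [IsIntegral X] [IsIntegral Y] [IsLocallyNoetherian X] [IsLocallyNoetherian Y]
    {δX : X → ℤ} {δY : Y → ℤ} (hdX : Cyc.IsDimFun X δX) (hdY : Cyc.IsDimFun Y δY) (f : X ⟶ Y) [Flat f]
    [LocallyOfFiniteType f] {r : ℕ} (hr : Cyc.HasRelDim f r) (hδ : Cyc.DeltaCompat f δX δY) {ξ : X}
    (hξ : ξ = genericPoint X) (g : Y.residueField (f ξ)) (hg : g ≠ 0) :
    Cyc.pullFun f δX δY r (Cyc.divFun δY (f ξ) g) = Cyc.divFun δX ξ (f.residueFieldMap ξ g) := by
  subst hξ
  exact Cyc26.pullFun_divFun hdX hdY f hr hδ g hg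

theorem exists_cycle [CompactSpace X] (F : X → ℤ) (hF : (Function.support F).Finite) :
    ∃ c : AlgebraicCycle X ℤ, ∀ x, c x = F x :=
  ⟨⟨F, Set.subset_univ _, fun _ _ => ⟨Set.univ, Filter.univ_mem, hF.subset Set.inter_subset_right⟩⟩, fun _ => rfl⟩

theorem finite_support [CompactSpace X] (c : AlgebraicCycle X ℤ) : (Function.support fun z => c z).Finite := by
  choose t ht hfin using fun x => c.supportLocallyFiniteWithinDomain' x trivial
  obtain ⟨s, hs⟩ := isCompact_univ.elim_nhds_subcover' (fun x _ => t x) (fun x _ => ht x)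
  refine (s.finite_toSet.biUnion fun x _ => hfin x.1).subset fun z hz => ?_
  obtain ⟨x, hx, hzx⟩ := Set.mem_iUnion₂.1 (hs (Set.mem_univ z))
  exact Set.mem_biUnion hx ⟨hzx, hz⟩

/-- A function on a chart coming from a factor. -/
theorem exists_residue_of_factor {T A' : CommRingCat.{u}} [IsDomain T] {P : Scheme.{u}} (f : A' ⟶ T) (j : Spec T ⟶ P)
    (p : P ⟶ X) (ι : Spec A' ⟶ X) [IsOpenImmersion ι] (h : j ≫ p = Spec.map f ≫ ι) (a : A')
    (ha : (Spec T).Γevaluation (genericPoint (Spec T)) ((Scheme.ΓSpecIso T).inv (f a)) ≠ 0) :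
    ∃ v : X.residueField (p (j (genericPoint (Spec T)))), v ≠ 0 ∧
      j.residueFieldMap (genericPoint (Spec T)) (p.residueFieldMap (j (genericPoint (Spec T))) v) =
        (Spec T).Γevaluation (genericPoint (Spec T)) ((Scheme.ΓSpecIso T).inv (f a)) := by
  let η := genericPoint (Spec T)
  have key : ∀ (q : Spec T ⟶ X), q = Spec.map f ≫ ι → ∃ v : X.residueField (q η),
      q.residueFieldMap η v = (Spec T).Γevaluation η ((Scheme.ΓSpecIso T).inv (f a)) := by
    rintro q rfl
    let v' := (Spec A').Γevaluation ((Spec.map f) η) ((Scheme.ΓSpecIso A').inv a)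
    obtain ⟨v, hv⟩ := ((asIso (ι.residueFieldMap ((Spec.map f) η))).commRingCatIsoToRingEquiv).surjective v'
    refine ⟨v, ?_⟩
    rw [Scheme.residueFieldMap_comp]
    show (Spec.map f).residueFieldMap η (ι.residueFieldMap _ v) = _
    rw [show ι.residueFieldMap ((Spec.map f) η) v = v' from hv]
    refine (Scheme.Γevaluation_naturality_apply _ _ _).trans (congrArg _ ?_)
    exact (ConcreteCategory.congr_hom (Scheme.ΓSpecIso_inv_naturality f) a).symm
  obtain ⟨v, hv⟩ := key (j ≫ p) h
  rw [Scheme.residueFieldMap_comp] at hv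
  refine ⟨v, fun h0 => ha ?_, hv⟩
  rw [← hv, h0, map_zero]

/-- Over an algebraically closed field k, let X and Y be normal irreducible varieties (integral normal
separated k-schemes of finite type) and assume X rational: some nonempty open subscheme of X is
isomorphic over k to an open subscheme of an affine space 𝔸ⁿ_k. Fix dimension functions δX, δY, δP
on X, Y and P = X ×_k Y (each scheme locally Noetherian with universally catenary local rings), with
δP induced from δX along the first projection and from δY along the second, and generic points ηX,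
ηY, ηP; write dX = δX(ηX), dY = δY(ηY), dP = δP(ηP), so that codimension-one cycles are the (d −
1)-cycles and the projections are flat of relative δ-dimensions dP − dX and dP − dY. Then the map
(α, β) ↦ p₁^*α + p₂^*β from Cl(X) × Cl(Y) to Cl(X × Y) is bijective: (surjectivity) every (dP −
1)-cycle γ on P is rationally equivalent to a cycle with coefficient function p₁^*α + p₂^*β for some
(dX − 1)-cycle α on X and (dY − 1)-cycle β on Y; (injectivity) if such a cycle p₁^*α + p₂^*β is
rationally equivalent to zero then α and β are rationally equivalent to zero. -/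
theorem result (k : Type u) [Field k] [IsAlgClosed k]
    (X Y : Over (Spec (CommRingCat.of k))) [AlgebraicGeometry.IsIntegral X.left] [IsSeparated X.hom]
    [LocallyOfFiniteType X.hom] [QuasiCompact X.hom]
    [AlgebraicGeometry.IsIntegral Y.left] [IsSeparated Y.hom] [LocallyOfFiniteType Y.hom] [QuasiCompact Y.hom]
    (hX : Pi1.IsNormalScheme X.left) (hY : Pi1.IsNormalScheme Y.left)
    (hrat : ∃ (U : X.left.Opens) (n : ℕ) (V : (𝔸(ULift.{u} (Fin n); Spec (CommRingCat.of k))).Opens)
      (e : (U : Scheme.{u}) ≅ (V : Scheme.{u})), (U : Set ↥X.left).Nonempty ∧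
        e.hom ≫ V.ι ≫ (𝔸(ULift.{u} (Fin n); Spec (CommRingCat.of k)) ↘ Spec (CommRingCat.of k)) = U.ι ≫ X.hom)
    (δX : ↥X.left → ℤ) (δY : ↥Y.left → ℤ) (δP : ↥(X ⊗ Y).left → ℤ)
    (hsX : Cyc.IsSetup X.left δX) (hsY : Cyc.IsSetup Y.left δY) (hsP : Cyc.IsSetup (X ⊗ Y).left δP)
    (hc₁ : Cyc.DeltaCompat (fst X Y).left δP δX) (hc₂ : Cyc.DeltaCompat (snd X Y).left δP δY)
    (ηX : ↥X.left) (ηY : ↥Y.left) (ηP : ↥(X ⊗ Y).left)
    (hηX : closure ({ηX} : Set ↥X.left) = Set.univ) (hηY : closure ({ηY} : Set ↥Y.left) = Set.univ)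
    (hηP : closure ({ηP} : Set ↥(X ⊗ Y).left) = Set.univ) :
    (∀ γ ∈ Cyc.Zk (X ⊗ Y).left δP (δP ηP - 1),
      ∃ α ∈ Cyc.Zk X.left δX (δX ηX - 1), ∃ β ∈ Cyc.Zk Y.left δY (δY ηY - 1),
        ∃ γ' : AlgebraicCycle (X ⊗ Y).left ℤ,
          (∀ z, γ' z = Cyc.pullFun (fst X Y).left δP δX (δP ηP - δX ηX) α z +
            Cyc.pullFun (snd X Y).left δP δY (δP ηP - δY ηY) β z) ∧
          Cyc.RatEquiv δP (δP ηP - 1) γ γ') ∧
    (∀ α ∈ Cyc.Zk X.left δX (δX ηX - 1), ∀ β ∈ Cyc.Zk Y.left δY (δY ηY - 1),
      ∀ γ' : AlgebraicCycle (X ⊗ Y).left ℤ,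
        (∀ z, γ' z = Cyc.pullFun (fst X Y).left δP δX (δP ηP - δX ηX) α z +
            Cyc.pullFun (snd X Y).left δP δY (δP ηP - δY ηY) β z) →
        Cyc.RatEquivZero δP (δP ηP - 1) γ' →
        Cyc.RatEquivZero δX (δX ηX - 1) α ∧ Cyc.RatEquivZero δY (δY ηY - 1) β) := by
  classical
  obtain ⟨U, n, V, e, hU, he⟩ := hrat
  obtain ⟨g, hg, ιA, hιA, hιAs⟩ := ClProd26.exists_affine_chart X.hom U V e hU he
  haveI := hιA
  haveI : GeometricallyIntegral X.hom := CubeField.geometricallyIntegral_of_isIntegral X.hom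
  haveI : GeometricallyIntegral Y.hom := CubeField.geometricallyIntegral_of_isIntegral Y.hom
  let p : (X ⊗ Y).left ⟶ X.left := pullback.fst X.hom Y.hom
  let q : (X ⊗ Y).left ⟶ Y.left := pullback.snd X.hom Y.hom
  have hp : (fst X Y).left = p := rfl
  have hq : (snd X Y).left = q := rfl
  rw [hp, hq]
  rw [hp] at hc₁
  rw [hq] at hc₂
  haveI : Flat X.hom := inferInstance
  haveI : Flat Y.hom := inferInstance
  haveI : Flat p := inferInstanceAs (Flat (pullback.fst X.hom Y.hom))
  haveI : Flat q := inferInstanceAs (Flat (pullback.snd X.hom Y.hom))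
  haveI : LocallyOfFiniteType p := inferInstanceAs (LocallyOfFiniteType (pullback.fst X.hom Y.hom))
  haveI : LocallyOfFiniteType q := inferInstanceAs (LocallyOfFiniteType (pullback.snd X.hom Y.hom))
  haveI : IsLocallyNoetherian X.left := hsX.1
  haveI : IsLocallyNoetherian Y.left := hsY.1
  haveI : IsLocallyNoetherian (X ⊗ Y).left := hsP.1
  haveI : GeometricallyIntegral p := inferInstanceAs (GeometricallyIntegral (pullback.fst X.hom Y.hom))
  haveI : GeometricallyIntegral q := inferInstanceAs (GeometricallyIntegral (pullback.snd X.hom Y.hom))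
  haveI : UniversallyOpen p := inferInstanceAs (UniversallyOpen (pullback.fst X.hom Y.hom))
  haveI : IsIntegral (X ⊗ Y).left := GeometricallyIntegral.isIntegral_of_isLocallyNoetherian p
  haveI : CompactSpace X.left := QuasiCompact.compactSpace_of_compactSpace X.hom
  haveI : QuasiCompact p := inferInstanceAs (QuasiCompact (pullback.fst X.hom Y.hom))
  haveI : CompactSpace (X ⊗ Y).left := QuasiCompact.compactSpace_of_compactSpace p
  haveI : CompactSpace Y.left := QuasiCompact.compactSpace_of_compactSpace Y.hom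
  obtain rfl := cls_eq_generic hηX
  obtain rfl := cls_eq_generic hηY
  obtain rfl := cls_eq_generic hηP
  -- relative dimensions
  obtain ⟨hp0, hpr, -⟩ := UCat26.hasRelDim_of_irreducible p hsX hc₁
  obtain ⟨hq0, hqr, -⟩ := UCat26.hasRelDim_of_irreducible q hsY hc₂
  have hdP := hsP.2.2
  have hdX := hsX.2.2
  have hdY := hsY.2.2
  have hpgen : ∀ a, δP (Cyc26.fgen p a) = δX a + (δP (genericPoint (X ⊗ Y).left) - δX (genericPoint X.left)) := by
    intro a
    have := Cyc26.shift_of_hasRelDim p hpr hc₁ (Cyc26.fgen p a) fun w h1 h2 =>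
      (h2.antisymm (Cyc26.fgen_specializes p (h1.trans (Cyc26.apply_fgen p a)))).eq
    rw [this, Cyc26.apply_fgen, Int.toNat_of_nonneg hp0]
  have hqgen : ∀ b, δP (Cyc26.fgen q b) = δY b + (δP (genericPoint (X ⊗ Y).left) - δY (genericPoint Y.left)) := by
    intro b
    have := Cyc26.shift_of_hasRelDim q hqr hc₂ (Cyc26.fgen q b) fun w h1 h2 =>
      (h2.antisymm (Cyc26.fgen_specializes q (h1.trans (Cyc26.apply_fgen q b)))).eq
    rw [this, Cyc26.apply_fgen, Int.toNat_of_nonneg hq0]
  have hex : ∀ (a : X.left) (b : Y.left), ∃ z : ↥(X ⊗ Y).left, p z = a ∧ q z = b := fun a b =>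
    Scheme.Pullback.exists_preimage_pullback (f := X.hom) (g := Y.hom) a b
      (Subsingleton.elim (α := PrimeSpectrum k) _ _)
  have hqp : ∀ a, q (Cyc26.fgen p a) = genericPoint Y.left := fun a => by
    obtain ⟨z, h1, h2⟩ := hex a (genericPoint Y.left)
    exact (((Cyc26.fgen_specializes p h1).map q.continuous).trans (specializes_of_eq h2)).antisymm
      (genericPoint_specializes _) |>.eq
  have hpq : ∀ b, p (Cyc26.fgen q b) = genericPoint X.left := fun b => by
    obtain ⟨z, h1, h2⟩ := hex (genericPoint X.left) b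
    exact (((Cyc26.fgen_specializes q h2).map p.continuous).trans (specializes_of_eq h1)).antisymm
      (genericPoint_specializes _) |>.eq
  have hclass : ∀ z, δP z + 1 = δP (genericPoint (X ⊗ Y).left) →
      (z = Cyc26.fgen p (p z) ∧ δX (p z) + 1 = δX (genericPoint X.left) ∧ q z = genericPoint Y.left) ∨
      (z = Cyc26.fgen q (q z) ∧ δY (q z) + 1 = δY (genericPoint Y.left) ∧ p z = genericPoint X.left) ∨
      (p z = genericPoint X.left ∧ q z = genericPoint Y.left) := by
    intro z hz
    by_cases hpz : p z = genericPoint X.left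
    · by_cases hqz : q z = genericPoint Y.left
      · exact Or.inr (Or.inr ⟨hpz, hqz⟩)
      refine Or.inr (Or.inl ?_)
      have h1 := (hdY _ (q z) (genericPoint_specializes _) (Ne.symm hqz)).1
      have h2 := hqgen (q z)
      rcases eq_or_ne z (Cyc26.fgen q (q z)) with he | he
      · exact ⟨he, by rw [← he] at h2; omega, hpz⟩
      · have := (hdP _ z (Cyc26.fgen_specializes q rfl) (Ne.symm he)).1
        omega
    · refine Or.inl ?_
      have h1 := (hdX _ (p z) (genericPoint_specializes _) (Ne.symm hpz)).1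
      have h2 := hpgen (p z)
      rcases eq_or_ne z (Cyc26.fgen p (p z)) with he | he
      · exact ⟨he, by rw [← he] at h2; omega, by rw [he]; exact hqp _⟩
      · have := (hdP _ z (Cyc26.fgen_specializes p rfl) (Ne.symm he)).1
        omega
  -- the chart
  obtain ⟨W, hW, hWη, -⟩ := exists_isAffineOpen_mem_and_subset (U := (⊤ : Y.left.Opens)) (x := genericPoint Y.left) trivial
  haveI : Nonempty W := ⟨⟨_, hWη⟩⟩
  let B : Type u := Γ(Y.left, W)
  letI : CommRing B := inferInstanceAs (CommRing Γ(Y.left, W))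
  haveI : IsDomain B := inferInstanceAs (IsDomain Γ(Y.left, W))
  letI algB : Algebra k B := (Spec.preimage (hW.fromSpec ≫ Y.hom)).hom.toAlgebra
  have hιBs : hW.fromSpec ≫ Y.hom = Spec.map (CommRingCat.ofHom (algebraMap k B)) := (Spec.map_preimage _).symm
  let R : Type u := TensorProduct k (Localization.Away g) B
  letI algR : Algebra (MvPolynomial (ULift.{u} (Fin n)) B) R := (ClProd26.chartHom g B).toAlgebra
  haveI : IsLocalization.Away (ClProd26.kt k (ULift.{u} (Fin n)) B g) R := ClProd26.isLocalization_chartHom g B hg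
  haveI hRd : IsDomain R := IsLocalization.isDomain_of_le_nonZeroDivisors (M := Submonoid.powers (ClProd26.kt k _ B g)) R
    (powers_le_nonZeroDivisors_of_noZeroDivisors ((map_ne_zero_iff _ (ClProd26.kt_injective k _ B)).2 hg))
  let j : Spec (CommRingCat.of R) ⟶ (X ⊗ Y).left := (pullbackSpecIso k (Localization.Away g) B).inv ≫
    pullback.map _ _ X.hom Y.hom ιA hW.fromSpec (𝟙 _) (by rw [Category.comp_id, hιAs]) (by rw [Category.comp_id, hιBs])
  haveI : IsOpenImmersion j := inferInstance
  have hjp : j ≫ p = Spec.map (CommRingCat.ofHom (Algebra.TensorProduct.includeLeftRingHom :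
      Localization.Away g →+* R)) ≫ ιA := by
    show (_ ≫ _) ≫ pullback.fst _ _ = _
    rw [Category.assoc, pullback.lift_fst, pullbackSpecIso_inv_fst_assoc]
  have hjq : j ≫ q = Spec.map (CommRingCat.ofHom ((Algebra.TensorProduct.includeRight :
      B →ₐ[k] R).toRingHom)) ≫ hW.fromSpec := by
    show (_ ≫ _) ≫ pullback.snd _ _ = _
    rw [Category.assoc, pullback.lift_snd, pullbackSpecIso_inv_snd_assoc]
    rfl
  have hrange : ∀ z, p z = genericPoint X.left → q z = genericPoint Y.left → z ∈ Set.range j := by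
    intro z hz1 hz2
    have hA : genericPoint X.left ∈ Set.range ιA := by
      haveI : IsDomain (Localization.Away g) := IsLocalization.isDomain_of_le_nonZeroDivisors
        (M := Submonoid.powers g) _ (powers_le_nonZeroDivisors_of_noZeroDivisors hg)
      obtain ⟨w⟩ := (inferInstance : Nonempty (Spec (CommRingCat.of (Localization.Away g))))
      exact (genericPoint_specializes (ιA w)).mem_open ιA.isOpenEmbedding.isOpen_range ⟨w, rfl⟩
    have hz : z ∈ Set.range (pullback.map _ _ X.hom Y.hom ιA hW.fromSpec (𝟙 _)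
        (by rw [Category.comp_id, hιAs]) (by rw [Category.comp_id, hιBs]) : pullback
          (Spec.map (CommRingCat.ofHom (algebraMap k (Localization.Away g))))
          (Spec.map (CommRingCat.ofHom (algebraMap k B))) ⟶ pullback X.hom Y.hom) := by
      rw [Scheme.Pullback.range_map]
      refine ⟨?_, ?_⟩
      · refine (show p z ∈ Set.range ιA from ?_)
        rw [hz1]; exact hA
      · refine (show q z ∈ Set.range hW.fromSpec from ?_)
        rw [hz2, hW.range_fromSpec]; exact hWη
    obtain ⟨w, rfl⟩ := hz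
    refine ⟨(pullbackSpecIso k (Localization.Away g) B).hom w, ?_⟩
    simp only [j]
    rw [← Scheme.Hom.comp_apply, Iso.hom_inv_id_assoc]
    rfl
  let AC : CommRingCat.{u} := CommRingCat.of (Localization.Away g)
  haveI : IsDomain (Localization.Away g) :=
    IsLocalization.isDomain_of_le_nonZeroDivisors (M := Submonoid.powers g) _ (powers_le_nonZeroDivisors_of_noZeroDivisors hg)
  have hgenA : ∀ w : ↥(Spec AC), ιA w = genericPoint X.left ↔ w.asIdeal = ⊥ := by
    intro w
    have h0 : ιA ⟨⊥, Ideal.isPrime_bot⟩ = genericPoint X.left := by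
      rw [← genericPoint_eq_of_isOpenImmersion ιA]
      exact congrArg ιA (IsGenericPoint.eq (show IsGenericPoint _ _ from Set.eq_univ_iff_forall.2 fun v =>
        specializes_iff_mem_closure.1 ((PrimeSpectrum.le_iff_specializes _ v).1 bot_le)) (genericPoint_spec _))
    rw [← h0, ιA.isOpenEmbedding.injective.eq_iff, PrimeSpectrum.ext_iff]
  have hgenB : ∀ w : ↥(Spec (CommRingCat.of B)), hW.fromSpec w = genericPoint Y.left ↔ w.asIdeal = ⊥ := by
    intro w
    have h0 : hW.fromSpec ⟨⊥, Ideal.isPrime_bot⟩ = genericPoint Y.left := by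
      rw [← genericPoint_eq_of_isOpenImmersion hW.fromSpec]
      exact congrArg hW.fromSpec (IsGenericPoint.eq (show IsGenericPoint _ _ from Set.eq_univ_iff_forall.2 fun v =>
        specializes_iff_mem_closure.1 ((PrimeSpectrum.le_iff_specializes _ v).1 bot_le)) (genericPoint_spec _))
    rw [← h0, hW.fromSpec.isOpenEmbedding.injective.eq_iff, PrimeSpectrum.ext_iff]
  have hmixed : ∀ w : ↥(Spec (CommRingCat.of R)),
      ClProd26.IsMixedPt k (ULift.{u} (Fin n)) B R w ↔ p (j w) = genericPoint X.left ∧ q (j w) = genericPoint Y.left := by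
    intro w
    have e1 : p (j w) = ιA ((Spec.map (CommRingCat.ofHom (Algebra.TensorProduct.includeLeftRingHom :
        Localization.Away g →+* R))) w) := by rw [← Scheme.Hom.comp_apply, hjp]; rfl
    have e2 : q (j w) = hW.fromSpec ((Spec.map (CommRingCat.ofHom ((Algebra.TensorProduct.includeRight :
      B →ₐ[k] R).toRingHom))) w) := by rw [← Scheme.Hom.comp_apply, hjq]; rfl
    rw [e1, e2, hgenA, hgenB]
    refine ⟨fun h => ⟨eq_bot_iff.2 fun a ha => ?_, eq_bot_iff.2 fun b hb => h.1 b ?_⟩, fun h => ⟨fun b hb => ?_, fun c hc => ?_⟩⟩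
    · obtain ⟨c, ⟨_, m, rfl⟩, rfl⟩ := IsLocalization.exists_mk'_eq (Submonoid.powers g) a
      have hc : c = 0 := h.2 c (by
        show ClProd26.chartHom g B _ ∈ w.asIdeal
        rw [ClProd26.chartHom_kt, ← IsLocalization.mk'_spec (Localization.Away g) c (⟨_, m, rfl⟩ : Submonoid.powers g)]
        have := w.asIdeal.mul_mem_right (algebraMap _ (Localization.Away g) (g ^ m) ⊗ₜ[k] (1 : B)) ha
        convert this using 1
        show _ = (_ ⊗ₜ[k] (1 : B)) * _
        rw [Algebra.TensorProduct.tmul_mul_tmul, mul_one])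
      subst hc
      simp
    · show ClProd26.chartHom g B (MvPolynomial.C b) ∈ w.asIdeal
      rw [ClProd26.chartHom_C]
      exact hb
    · have : b ∈ (⊥ : Ideal B) := by
        rw [← h.2]
        show (1 : Localization.Away g) ⊗ₜ[k] b ∈ w.asIdeal
        rw [← ClProd26.chartHom_C g B b]
        exact hb
      exact this
    · have : algebraMap (MvPolynomial (ULift.{u} (Fin n)) k) (Localization.Away g) c ∈ (⊥ : Ideal (Localization.Away g)) := by
        rw [← h.1]
        show algebraMap _ (Localization.Away g) c ⊗ₜ[k] (1 : B) ∈ w.asIdeal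
        rw [← ClProd26.chartHom_kt g B c]
        exact hc
      exact (map_eq_zero_iff _ (IsLocalization.injective (Localization.Away g) (M := Submonoid.powers g)
        (powers_le_nonZeroDivisors_of_noZeroDivisors hg))).1 this
  -- transport to the chart
  let ηT := genericPoint (Spec (CommRingCat.of R))
  let ξ := j ηT
  have hξ : ξ = genericPoint (X ⊗ Y).left := genericPoint_eq_of_isOpenImmersion j
  have hξX : p ξ = genericPoint X.left := by
    obtain ⟨z, h1, -⟩ := hex (genericPoint X.left) (genericPoint Y.left)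
    exact ((((hξ ▸ genericPoint_specializes z).map p.continuous).trans (specializes_of_eq h1)).antisymm
      (genericPoint_specializes _)).eq
  have hξY : q ξ = genericPoint Y.left := by
    obtain ⟨z, -, h2⟩ := hex (genericPoint X.left) (genericPoint Y.left)
    exact ((((hξ ▸ genericPoint_specializes z).map q.continuous).trans (specializes_of_eq h2)).antisymm
      (genericPoint_specializes _)).eq
  let δT : ↥(Spec (CommRingCat.of R)) → ℤ := fun w => δP (j w)
  have hdT : Cyc.IsDimFun (Spec (CommRingCat.of R)) δT := Cyc26.isDimFun_immersion j hdP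
  haveI : IsLocallyNoetherian (Spec (CommRingCat.of R)) := LocallyOfFiniteType.isLocallyNoetherian j
  have hdiv : ∀ (φ : (X ⊗ Y).left.residueField ξ) w,
      Cyc.divFun δT ηT (j.residueFieldMap ηT φ) w = Cyc.divFun δP ξ φ (j w) := fun φ w =>
    Cyc26.divFun_openImmersion j δP ηT w φ
  have hmixdiv : ∀ w, ClProd26.IsMixedDiv k (ULift.{u} (Fin n)) B R δT w ↔
      (p (j w) = genericPoint X.left ∧ q (j w) = genericPoint Y.left ∧ δP (j w) + 1 = δP (genericPoint (X ⊗ Y).left)) := by
    intro w
    rw [ClProd26.IsMixedDiv, hmixed, and_assoc, ← hξ]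
  have hpull_p : ∀ α, α ∈ Cyc.Zk X.left δX (δX (genericPoint X.left) - 1) → ∀ z, δP z + 1 = δP (genericPoint (X ⊗ Y).left) →
      Cyc.pullFun p δP δX (δP (genericPoint (X ⊗ Y).left) - δX (genericPoint X.left)) α z =
        if z = Cyc26.fgen p (p z) then α (p z) else 0 := fun α _ z _ => pullFun_fgen p hdP hpgen α z
  refine ⟨fun γ hγ => ?_, fun α hα β hβ γ' hγ' hrel => ?_⟩
  · -- surjectivity
    have hfin : (Function.support fun z => γ z).Finite := finite_support γ
    obtain ⟨φ', hφ'0, hφ'⟩ := ClProd26.exists_div_eq (k := k) (σ := ULift.{u} (Fin n)) (B := B) (R := R) (g := g) hdT hg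
      (fun w => γ (j w)) ((hfin.preimage j.isOpenEmbedding.injective.injOn).subset fun w hw => hw.2)
    obtain ⟨φ, hφe⟩ := ((asIso (j.residueFieldMap ηT)).commRingCatIsoToRingEquiv).surjective φ'
    have hφe' : j.residueFieldMap ηT φ = φ' := hφe
    have hφ0 : φ ≠ 0 := fun h0 => hφ'0 (by rw [← hφe', h0, map_zero])
    obtain ⟨d, hd⟩ := Cyc26.exists_cycle_sum_divFun hdP (fun _ : PUnit.{u+1} => ξ) (fun _ => φ)
      (fun _ => ⟨Set.univ, isOpen_univ, trivial, Set.toFinite _⟩)
    simp only [finsum_unique] at hd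
    let γ₁ := γ - d
    have hγ₁ : ∀ z, γ₁ z = γ z - Cyc.divFun δP ξ φ z := fun z => by rw [← hd z]; rfl
    have hγ₁fin : (Function.support fun z => γ₁ z).Finite := finite_support γ₁
    obtain ⟨α, hα⟩ := exists_cycle (X := X.left)
      (fun a => if δX a = δX (genericPoint X.left) - 1 then γ₁ (Cyc26.fgen p a) else 0)
      ((hγ₁fin.image fun z => p z).subset fun a ha => ⟨Cyc26.fgen p a, by
        simp only [Function.mem_support, ne_eq, ite_eq_right_iff, Classical.not_imp] at ha
        exact ha.2, Cyc26.apply_fgen p a⟩)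
    obtain ⟨β, hβ⟩ := exists_cycle (X := Y.left)
      (fun b => if δY b = δY (genericPoint Y.left) - 1 then γ₁ (Cyc26.fgen q b) else 0)
      ((hγ₁fin.image fun z => q z).subset fun b hb => ⟨Cyc26.fgen q b, by
        simp only [Function.mem_support, ne_eq, ite_eq_right_iff, Classical.not_imp] at hb
        exact hb.2, Cyc26.apply_fgen q b⟩)
    refine ⟨α, fun a ha => by rw [hα, if_neg ha], β, fun b hb => by rw [hβ, if_neg hb], γ₁, fun z => ?_, ?_⟩
    · rw [pullFun_fgen p hdP hpgen, pullFun_fgen q hdP hqgen]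
      simp only [hα, hβ]
      by_cases hz : δP z + 1 = δP (genericPoint (X ⊗ Y).left)
      · rcases hclass z hz with ⟨h1, h2, h3⟩ | ⟨h1, h2, h3⟩ | ⟨h1, h2⟩
        · rw [if_pos h1, if_pos (by omega), ← h1, h3, if_neg (by omega : ¬ δY (genericPoint Y.left) = δY (genericPoint Y.left) - 1)]
          simp
        · rw [if_pos h1, h3, if_neg (by omega : ¬ δX (genericPoint X.left) = δX (genericPoint X.left) - 1),
            if_pos (by omega : δY (q z) = δY (genericPoint Y.left) - 1), ← h1]
          simp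
        · rw [h1, h2, if_neg (by omega : ¬ δY (genericPoint Y.left) = δY (genericPoint Y.left) - 1),
            if_neg (by omega : ¬ δX (genericPoint X.left) = δX (genericPoint X.left) - 1)]
          obtain ⟨w, rfl⟩ := hrange z h1 h2
          rw [hγ₁, ← hdiv, hφe', hφ' w ((hmixdiv w).2 ⟨h1, h2, hz⟩)]
          simp
      · have hz0 : γ₁ z = 0 := by
          rw [hγ₁, hγ z (fun h => hz (by omega)), zero_sub, neg_eq_zero]
          exact dif_neg fun h => hz (by rw [← hξ]; exact h.2)
        rw [hz0]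
        have e1 : (if z = Cyc26.fgen p (p z) then (if δX (p z) = δX (genericPoint X.left) - 1 then
            γ₁ (Cyc26.fgen p (p z)) else 0) else 0) = 0 := by
          split_ifs with h1 h2
          · exact absurd (by rw [h1, hpgen]; omega) hz
          · rfl
          · rfl
        have e2 : (if z = Cyc26.fgen q (q z) then (if δY (q z) = δY (genericPoint Y.left) - 1 then
            γ₁ (Cyc26.fgen q (q z)) else 0) else 0) = 0 := by
          split_ifs with h1 h2
          · exact absurd (by rw [h1, hqgen]; omega) hz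
          · rfl
          · rfl
        rw [e1, e2, add_zero]
    · rw [← hξ]
      exact ratEquivZero_of_divFun φ hφ0 fun z => by
        show γ z - γ₁ z = _
        rw [hγ₁]
        ring
  · -- injectivity
    rw [← hξ] at hrel
    obtain ⟨φ, hφ0, hφ⟩ := exists_divFun hdP hξ hrel
    have hzero : ∀ w, ClProd26.IsMixedDiv k (ULift.{u} (Fin n)) B R δT w →
        Cyc.divFun δT ηT (j.residueFieldMap ηT φ) w = 0 := by
      intro w hw
      obtain ⟨h1, h2, -⟩ := (hmixdiv w).1 hw
      rw [hdiv, ← hφ, hγ', pullFun_fgen p hdP hpgen, pullFun_fgen q hdP hqgen, h1, h2,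
        hα _ (by omega), hβ _ (by omega)]
      simp
    obtain ⟨q₁, q₂, b₁, b₂, hq₁, hq₂, hb₁, hb₂, hsplit⟩ :=
      ClProd26.eq_split_of_div_eq_zero (k := k) (σ := ULift.{u} (Fin n)) (B := B) (R := R) (g := g) hdT hg
        (φ := j.residueFieldMap ηT φ) ((map_ne_zero _).2 hφ0) hzero
    have hF := ClProd26.toFn_injective (k := k) (σ := ULift.{u} (Fin n)) (B := B) (R := R) hg
    have hkt : ∀ c, c ≠ 0 → ∃ v, v ≠ 0 ∧ j.residueFieldMap ηT (p.residueFieldMap ξ v) =
        ClProd26.toFn (ULift.{u} (Fin n)) B R (ClProd26.kt k (ULift.{u} (Fin n)) B c) := by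
      intro c hc
      have he : ClProd26.toFn (ULift.{u} (Fin n)) B R (ClProd26.kt k (ULift.{u} (Fin n)) B c) =
          (Spec (CommRingCat.of R)).Γevaluation ηT ((Scheme.ΓSpecIso (CommRingCat.of R)).inv
            ((CommRingCat.ofHom (Algebra.TensorProduct.includeLeftRingHom : Localization.Away g →+* R))
              (algebraMap _ (Localization.Away g) c))) := by
        show (Spec (CommRingCat.of R)).Γevaluation ηT ((Scheme.ΓSpecIso (CommRingCat.of R)).inv
          (ClProd26.chartHom g B (ClProd26.kt k (ULift.{u} (Fin n)) B c))) = _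
        rw [ClProd26.chartHom_kt]
        rfl
      obtain ⟨v, hv0, hv⟩ := exists_residue_of_factor _ j p ιA hjp (algebraMap _ (Localization.Away g) c) (by
        rw [← he]; exact (map_ne_zero_iff _ hF).2 ((map_ne_zero_iff _ (ClProd26.kt_injective k _ B)).2 hc))
      exact ⟨v, hv0, hv.trans he.symm⟩
    have hCb : ∀ c, c ≠ 0 → ∃ v, v ≠ 0 ∧ j.residueFieldMap ηT (q.residueFieldMap ξ v) =
        ClProd26.toFn (ULift.{u} (Fin n)) B R (MvPolynomial.C c) := by
      intro c hc
      have he : ClProd26.toFn (ULift.{u} (Fin n)) B R (MvPolynomial.C c) =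
          (Spec (CommRingCat.of R)).Γevaluation ηT ((Scheme.ΓSpecIso (CommRingCat.of R)).inv
            ((CommRingCat.ofHom ((Algebra.TensorProduct.includeRight : B →ₐ[k] R).toRingHom)) c)) := by
        show (Spec (CommRingCat.of R)).Γevaluation ηT ((Scheme.ΓSpecIso (CommRingCat.of R)).inv
          (ClProd26.chartHom g B (MvPolynomial.C c))) = _
        rw [ClProd26.chartHom_C]
        rfl
      obtain ⟨v, hv0, hv⟩ := exists_residue_of_factor _ j q hW.fromSpec hjq c (by
        rw [← he]; exact (map_ne_zero_iff _ hF).2 (by simpa using hc))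
      exact ⟨v, hv0, hv.trans he.symm⟩
    obtain ⟨u₁, hu₁, hu₁'⟩ := hkt q₁ hq₁
    obtain ⟨u₂, hu₂, hu₂'⟩ := hkt q₂ hq₂
    obtain ⟨v₁, hv₁, hv₁'⟩ := hCb b₁ hb₁
    obtain ⟨v₂, hv₂, hv₂'⟩ := hCb b₂ hb₂
    have hφeq : φ = p.residueFieldMap ξ (u₁ / u₂) * q.residueFieldMap ξ (v₁ / v₂) := by
      refine (j.residueFieldMap ηT).hom.injective ?_
      rw [map_mul, map_div₀, map_div₀, map_div₀, map_div₀]
      exact hsplit.trans (by rw [← hu₁', ← hu₂', ← hv₁', ← hv₂'])
    have hu := div_ne_zero hu₁ hu₂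
    have hv := div_ne_zero hv₁ hv₂
    have hP := pullFun_divFun_at hdP hdX p hpr hc₁ hξ (u₁ / u₂) hu
    have hQ := pullFun_divFun_at hdP hdY q hqr hc₂ hξ (v₁ / v₂) hv
    rw [Int.toNat_of_nonneg hp0] at hP
    rw [Int.toNat_of_nonneg hq0] at hQ
    have key : ∀ z, γ' z = Cyc.pullFun p δP δX (δP (genericPoint (X ⊗ Y).left) - δX (genericPoint X.left))
        (Cyc.divFun δX (p ξ) (u₁ / u₂)) z + Cyc.pullFun q δP δY (δP (genericPoint (X ⊗ Y).left) - δY (genericPoint Y.left))
        (Cyc.divFun δY (q ξ) (v₁ / v₂)) z := by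
      intro z
      rw [hφ, hφeq, Cyc26.divFun_mul ξ z ((map_ne_zero _).2 hu) ((map_ne_zero _).2 hv)]
      exact congrArg₂ (· + ·) (congrFun hP.symm z) (congrFun hQ.symm z)
    have hoffX : ∀ a, ¬ δX a + 1 = δX (p ξ) → Cyc.divFun δX (p ξ) (u₁ / u₂) a = 0 := fun a ha =>
      dif_neg fun h => ha h.2
    have hoffY : ∀ b, ¬ δY b + 1 = δY (q ξ) → Cyc.divFun δY (q ξ) (v₁ / v₂) b = 0 := fun b hb =>
      dif_neg fun h => hb h.2
    refine ⟨?_, ?_⟩
    · rw [← hξX]
      refine ratEquivZero_of_divFun _ hu fun a => ?_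
      by_cases ha : δX a + 1 = δX (p ξ)
      · have h1 := (hγ' (Cyc26.fgen p a)).symm.trans (key (Cyc26.fgen p a))
        rw [pullFun_fgen p hdP hpgen, pullFun_fgen q hdP hqgen, pullFun_fgen p hdP hpgen, pullFun_fgen q hdP hqgen,
          Cyc26.apply_fgen, hqp, if_pos rfl, if_pos rfl, hβ _ (by omega), hoffY _ (by rw [hξY]; omega)] at h1
        simpa using h1
      · rw [hoffX a ha, hα a (by rw [hξX] at ha; omega)]
    · rw [← hξY]
      refine ratEquivZero_of_divFun _ hv fun b => ?_
      by_cases hb : δY b + 1 = δY (q ξ)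
      · have h1 := (hγ' (Cyc26.fgen q b)).symm.trans (key (Cyc26.fgen q b))
        rw [pullFun_fgen p hdP hpgen, pullFun_fgen q hdP hqgen, pullFun_fgen p hdP hpgen, pullFun_fgen q hdP hqgen,
          Cyc26.apply_fgen, hpq, if_pos rfl, if_pos rfl, hα _ (by omega), hoffX _ (by rw [hξX]; omega)] at h1
        simpa using h1
      · rw [hoffY b hb, hβ b (by rw [hξY] at hb; omega)]

end Groth.Agent.S19501
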