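import Groth.Statements.S19502
import Mathlib.Analysis.Normed.Group.InfiniteSum
import Mathlib.Analysis.Real.Sqrt

set_option autoImplicit false
universe u
open W4c3ghconstell

namespace Groth.Agent.S19502

/-- Let ι index the irreducible representations, θ : ι → ℚ a weight which is negative exactly on the
finite set D₋, h h' : ι → ℕ with h' ≤ h pointwise (the isotypic dimensions of an object and of a
sub-object) and Σ_i θ_i h_i summable. For a finite set D of indices put S_D = Σ_{i ∉ D} θ_i h_i, d =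
#(D ∖ D₋) and θ̃_D = Σ_{i ∈ D} θ_i h'_i + (S_D / d) · Σ_{i ∈ D ∖ D₋} h'_i / h_i, the modified weight
attached to the parameters chosen for D (a quotient by zero is read as zero). Then for finite sets
D₋ ⊆ D ⊆ D̃ contained in the locus θ ≠ 0: (first error term) θ̃_{D̃} − θ̃_D = Σ_{τ ∈ D̃ ∖ D} (θ_τ
h_τ + S_{D̃}/d̃) · (h'_τ/h_τ − (1/d) Σ_{σ ∈ D ∖ D₋} h'_σ/h_σ); (second error term) Σ_i θ_i h'_i −
θ̃_D = Σ_{τ ∉ D} θ_τ h_τ · (h'_τ/h_τ − (1/d) Σ_{σ ∈ D ∖ D₋} h'_σ/h_σ). -/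
theorem result {ι : Type u} [DecidableEq ι]
    (θ : ι → ℚ) (h h' : ι → ℕ) (hle : ∀ i, h' i ≤ h i) (hfin : {i | θ i < 0}.Finite)
    (hsum : Summable (fun i => (θ i : ℝ) * (h i : ℝ))) (D D' : Finset ι)
    (hDm : hfin.toFinset ⊆ D) (hDD' : D ⊆ D') (hsupp : ∀ i ∈ D', θ i ≠ 0) :
    (((∑ i ∈ D', (θ i : ℝ) * (h' i : ℝ)) + ((∑' i, if i ∈ D' then (0 : ℝ) else (θ i : ℝ) * (h i : ℝ)) / ((D' \ hfin.toFinset).card : ℝ)) * (∑ σ ∈ D' \ hfin.toFinset, ((h' σ : ℝ) / (h σ : ℝ)))) - ((∑ i ∈ D, (θ i : ℝ) * (h' i : ℝ)) + ((∑' i, if i ∈ D then (0 : ℝ) else (θ i : ℝ) * (h i : ℝ)) / ((D \ hfin.toFinset).card : ℝ)) * (∑ σ ∈ D \ hfin.toFinset, ((h' σ : ℝ) / (h σ : ℝ)))) =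
      ∑ τ ∈ D' \ D, ((θ τ : ℝ) * (h τ : ℝ) + (∑' i, if i ∈ D' then (0 : ℝ) else (θ i : ℝ) * (h i : ℝ)) / ((D' \ hfin.toFinset).card : ℝ)) *
        (((h' τ : ℝ) / (h τ : ℝ)) - (1 / ((D \ hfin.toFinset).card : ℝ)) * (∑ σ ∈ D \ hfin.toFinset, ((h' σ : ℝ) / (h σ : ℝ))))) ∧
    ((∑' i, (θ i : ℝ) * (h' i : ℝ)) - ((∑ i ∈ D, (θ i : ℝ) * (h' i : ℝ)) + ((∑' i, if i ∈ D then (0 : ℝ) else (θ i : ℝ) * (h i : ℝ)) / ((D \ hfin.toFinset).card : ℝ)) * (∑ σ ∈ D \ hfin.toFinset, ((h' σ : ℝ) / (h σ : ℝ)))) =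
      ∑' τ, if τ ∈ D then (0 : ℝ) else (θ τ : ℝ) * (h τ : ℝ) *
        (((h' τ : ℝ) / (h τ : ℝ)) - (1 / ((D \ hfin.toFinset).card : ℝ)) * (∑ σ ∈ D \ hfin.toFinset, ((h' σ : ℝ) / (h σ : ℝ))))) := by
  classical
  have hr : ∀ i, (θ i : ℝ) * (h' i : ℝ) = (θ i : ℝ) * (h i : ℝ) * ((h' i : ℝ) / (h i : ℝ)) := fun i => by
    rcases Nat.eq_zero_or_pos (h i) with hi | hi
    · have hi' : h' i = 0 := by have := hle i; omega
      rw [hi', hi]; simp
    · field_simp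
  have hg : Summable fun i => (θ i : ℝ) * (h' i : ℝ) := by
    refine Summable.of_norm_bounded (g := fun i => |(θ i : ℝ) * (h i : ℝ)|) hsum.abs fun i => ?_
    rw [Real.norm_eq_abs, abs_mul, abs_mul, Nat.abs_cast, Nat.abs_cast]
    exact mul_le_mul_of_nonneg_left (Nat.cast_le.2 (hle i)) (abs_nonneg _)
  have hsplit : ∀ (f : ι → ℝ), Summable f → ∀ E : Finset ι,
      HasSum (fun i => if i ∈ E then (0 : ℝ) else f i) ((∑' i, f i) - ∑ i ∈ E, f i) := by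
    intro f hf E
    have h2 : HasSum (fun i => if i ∈ E then f i else 0) (∑ i ∈ E, f i) := by
      convert hasSum_sum_of_ne_finset_zero (L := SummationFilter.unconditional ι) (s := E) (f := fun i => if i ∈ E then f i else 0)
        (fun i hi => if_neg hi) using 1
      exact Finset.sum_congr rfl fun i hi => (if_pos hi).symm
    exact (hf.hasSum.sub h2).congr_fun fun i => by split_ifs <;> simp
  constructor
  · set X := D' \ D with hX
    have hsd : D' \ hfin.toFinset = (D \ hfin.toFinset) ∪ X := by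
      ext i
      simp only [Finset.mem_union, Finset.mem_sdiff, hX]
      constructor
      · rintro ⟨a, b⟩
        by_cases hi : i ∈ D
        · exact Or.inl ⟨hi, b⟩
        · exact Or.inr ⟨a, hi⟩
      · rintro (⟨a, b⟩ | ⟨a, b⟩)
        · exact ⟨hDD' a, b⟩
        · exact ⟨a, fun hh => b (hDm hh)⟩
    have hdisj : Disjoint (D \ hfin.toFinset) X := Finset.disjoint_left.2 fun i hi hi' =>
      (Finset.mem_sdiff.1 hi').2 (Finset.mem_sdiff.1 hi).1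
    have hT : (∑' i, if i ∈ D then (0 : ℝ) else (θ i : ℝ) * (h i : ℝ)) =
        (∑' i, if i ∈ D' then (0 : ℝ) else (θ i : ℝ) * (h i : ℝ)) + ∑ i ∈ X, (θ i : ℝ) * (h i : ℝ) := by
      rw [(hsplit _ hsum D).tsum_eq, (hsplit _ hsum D').tsum_eq, ← Finset.sum_sdiff hDD', hX]
      ring
    rw [hT, hsd, Finset.sum_union hdisj, Finset.card_union_of_disjoint hdisj, ← Finset.sum_sdiff hDD', ← hX,
      Nat.cast_add]
    simp only [add_mul, mul_sub, Finset.sum_add_distrib, Finset.sum_sub_distrib, ← Finset.sum_mul, ← Finset.mul_sum,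
      Finset.sum_const, nsmul_eq_mul]
    rw [Finset.sum_congr rfl fun i _ => hr i]
    generalize (∑' i, if i ∈ D' then (0 : ℝ) else (θ i : ℝ) * (h i : ℝ)) = T'
    rcases Nat.eq_zero_or_pos (D \ hfin.toFinset).card with hc | hc
    · rw [Finset.card_eq_zero] at hc
      simp only [hc, Finset.sum_empty, Finset.card_empty, Nat.cast_zero, div_zero, zero_mul, mul_zero, zero_add,
        add_zero, sub_zero]
      ring
    · have hN : ((D \ hfin.toFinset).card : ℝ) ≠ 0 := Nat.cast_ne_zero.2 hc.ne'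
      have hN' : ((D \ hfin.toFinset).card : ℝ) + (X.card : ℝ) ≠ 0 :=
        ne_of_gt (add_pos_of_pos_of_nonneg (Nat.cast_pos.2 hc) (Nat.cast_nonneg _))
      field_simp
      ring
  · have h3 := (hsplit _ hg D).sub ((hsplit _ hsum D).mul_right
      ((1 / ((D \ hfin.toFinset).card : ℝ)) * (∑ σ ∈ D \ hfin.toFinset, ((h' σ : ℝ) / (h σ : ℝ)))))
    have h4 : ∀ τ, (if τ ∈ D then (0 : ℝ) else (θ τ : ℝ) * (h τ : ℝ) *
        (((h' τ : ℝ) / (h τ : ℝ)) - (1 / ((D \ hfin.toFinset).card : ℝ)) * (∑ σ ∈ D \ hfin.toFinset, ((h' σ : ℝ) / (h σ : ℝ))))) =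
        (if τ ∈ D then (0 : ℝ) else (θ τ : ℝ) * (h' τ : ℝ)) - (if τ ∈ D then (0 : ℝ) else (θ τ : ℝ) * (h τ : ℝ)) *
          ((1 / ((D \ hfin.toFinset).card : ℝ)) * (∑ σ ∈ D \ hfin.toFinset, ((h' σ : ℝ) / (h σ : ℝ)))) := fun τ => by
      by_cases hτ : τ ∈ D
      · simp only [if_pos hτ, zero_mul, sub_zero]
      · simp only [if_neg hτ, hr τ]; ring
    rw [tsum_congr h4, h3.tsum_eq, (hsplit _ hsum D).tsum_eq]
    ring

end Groth.Agent.S19502
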