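import Groth.Statements.S19505
import Groth.Agent.Lib.OrdSurf15.Endo
import Groth.Agent.Lib.ProjSpace.Basic
-- import your own Groth.Agent.* helpers here

set_option autoImplicit false
universe u
open CategoryTheory CategoryTheory.Limits AlgebraicGeometry TopologicalSpace Opposite
open OrdSurf

namespace Groth.Agent.S19505

/-- Let k be an algebraically closed field of characteristic zero and X a smooth projective surface over
k (an integral k-scheme, smooth over k, of dimension two, admitting a closed immersion over k into
some projective space P^n_k), with generic point η. Let A be a sheaf of rings on X with a morphism φ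
: O_X → A of sheaves of rings with central image whose generic stalk A_η is a division ring (simple
as a left module over itself), and let M be a sheaf of A-modules whose underlying O_X-module is
coherent with torsion-free stalks and whose generic stalk M_η is a simple A_η-module. Then M is
simple in the sense that End_A(M) = k: every endomorphism ψ of the sheaf of A-modules M is
multiplication by a scalar c ∈ k, i.e. on every open U it acts on sections as multiplication by the
image of c in Γ(U, O_X) under the structure map, pushed into A by φ. (The published statement takes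
A to be an order on X and M a torsion-free A-module of rank one; only the hypotheses listed are
assumed here, the others playing no role in the argument.) -/
theorem result (k : Type u) [Field k] [IsAlgClosed k] [CharZero k]
    (X : Scheme.{u}) [X.Over (Spec (CommRingCat.of k))] [IsIntegral X]
    [Smooth (X ↘ Spec (CommRingCat.of k))] (hdim : topologicalKrullDim X = 2)
    (hproj : ∃ (n : ℕ) (ι : X ⟶ CohB1.ProjSpace n k), IsClosedImmersion ι ∧
      ι ≫ CohB1.ProjSpace.toSpec n k = X ↘ Spec (CommRingCat.of k))
    (A : Sheaf (Opens.grothendieckTopology X) RingCat.{u}) (φ : X.ringCatSheaf ⟶ A)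
    (hcen : ∀ (U : (Opens X)ᵒᵖ) (s : X.ringCatSheaf.obj.obj U) (a : A.obj.obj U),
      φ.hom.app U s * a = a * φ.hom.app U s)
    (hAη : IsSimpleModule (↑(TopCat.Presheaf.stalk (C := RingCat.{u}) (X := X.carrier) A.obj (genericPoint X))) (↑(TopCat.Presheaf.stalk (C := RingCat.{u}) (X := X.carrier) A.obj (genericPoint X))))
    (M : SheafOfModules.{u} A)
    (hMc : Coh.IsCoh (X := X) ((SheafOfModules.restrictScalars φ).obj M))
    (hMt : TorSh.IsTorsionFree (X := X) ((SheafOfModules.restrictScalars φ).obj M))
    (hMη : IsSimpleModule (↑(TopCat.Presheaf.stalk (C := RingCat.{u}) (X := X.carrier) A.obj (genericPoint X))) (↑(TopCat.Presheaf.stalk (C := Ab.{u}) (X := X.carrier) M.val.presheaf (genericPoint X))))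
    (ψ : M ⟶ M) :
    ∃ c : k, ∀ (U : (Opens X)ᵒᵖ) (m : M.val.obj U),
      (ψ.val.app U).hom m =
        φ.hom.app U ((X.presheaf.map (homOfLE (le_top (a := U.unop))).op)
          (((X ↘ Spec (CommRingCat.of k)).appTop).hom ((Scheme.ΓSpecIso (CommRingCat.of k)).inv.hom c))) • m := by
  obtain ⟨n, ι, hι, hιeq⟩ := hproj
  haveI : IsProper (X ↘ Spec (CommRingCat.of k)) := by
    haveI := hι
    haveI := Groth.Agent.ProjSpace.isProper_toSpec n k
    rw [← hιeq]
    exact MorphismProperty.comp_mem _ ι _ inferInstance inferInstance
  haveI := LocallyOfFiniteType.isLocallyNoetherian (X ↘ Spec (CommRingCat.of k))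
  obtain ⟨c, hc⟩ := Groth.Agent.OrdSurf15.exists_scalar φ hcen M (X ↘ Spec (CommRingCat.of k)) hMc hMt hMη ψ
  refine ⟨c, fun U m => ?_⟩
  subst hc
  rfl

end Groth.Agent.S19505
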