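import Groth.Statements.S19506
import Groth.Agent.Lib.RegLift12.Basic
-- import your own Groth.Agent.* helpers here

set_option autoImplicit false
set_option backward.isDefEq.respectTransparency false
universe u
open CAlg Groth.Agent

namespace Groth.Agent.S19506

/-- (i) ⇔ (iii): let k be a field and A a complete local Noetherian k-algebra with residue field k (a
k-algebra map π : A → k with kernel the maximal ideal; A complete for the adic topology of its
maximal ideal). Then A is regular if and only if A satisfies the infinitesimal lifting criterion:
for every Artinian local k-algebra R and every ideal J of R of square zero, every local k-algebra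
homomorphism A → R/J (one carrying non-units to non-units) lifts to a k-algebra homomorphism A → R.
(The test algebras R range over one universe, that of A. The published criterion is worded for
arbitrary k-algebra homomorphisms A → R/J; it is stated here for local ones, the case the argument
establishes and the form in which the text itself restates the criterion afterwards. The published
statement lists a third equivalent condition, A ≅ k[[x_1, …, x_d]].) -/
theorem result (k A : Type u) [Field k]
    [CommRing A] [Algebra k A] [IsLocalRing A] [IsNoetherianRing A]
    [IsAdicComplete (IsLocalRing.maximalIdeal A) A]
    (π : A →ₐ[k] k) (hπ : RingHom.ker π = IsLocalRing.maximalIdeal A) :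
    IsRegularLocalRing A ↔
      ∀ (R : Type u) [CommRing R] [Algebra k R] [IsArtinianRing R] [IsLocalRing R] (J : Ideal R),
        J ^ 2 = ⊥ → ∀ f : A →ₐ[k] R ⧸ J, IsLocalHom (f : A →+* R ⧸ J) →
          ∃ g : A →ₐ[k] R, (Ideal.Quotient.mkₐ k J).comp g = f := by
  exact RegLift12.isRegularLocalRing_iff_liftsArt π

end Groth.Agent.S19506
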