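import Groth.Statements.S19507
import Groth.Agent.Lib.RegSmooth17.Scheme
import Groth.Agent.Lib.Cartier.Smooth

set_option autoImplicit false
universe u
open CategoryTheory MonoidalCategory CartesianMonoidalCategory MonObj GrpObj AlgebraicGeometry
open AlgGrp

namespace Groth.Agent.S19507

set_option backward.isDefEq.respectTransparency.types false
open IsLocalRing Groth.Agent

private lemma toStalk_section {R : CommRingCat.{u}} [IsLocalRing R] {X : Scheme.{u}} (f : X ⟶ Spec R)
    (s : Spec R ⟶ X) (hs : s ≫ f = Spec.map (𝟙 R)) :
    (Scheme.ΓSpecIso R).inv ≫ f.appTop ≫ X.presheaf.germ ⊤ (s (closedPoint R)) trivial ≫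
      Scheme.stalkClosedPointTo s = 𝟙 _ := by
  rw [Scheme.germ_stalkClosedPointTo]
  have h : f.appTop ≫ s.appTop = 𝟙 _ := by
    rw [← Scheme.Hom.comp_appTop, hs, Spec.map_id, Scheme.Hom.id_appTop]
  simp only [Iso.trans_hom, Functor.mapIso_hom, Iso.op_hom, eqToIso.hom]
  erw [eqToHom_refl, op_id, CategoryTheory.Functor.map_id, Category.id_comp]
  erw [reassoc_of% h, Iso.inv_hom_id]

private lemma stalkClosedPointTo_toStalk {k : Type u} [Field k] {X : Scheme.{u}}
    (f : X ⟶ Spec (CommRingCat.of k)) (s : Spec (CommRingCat.of k) ⟶ X)
    (hs : s ≫ f = Spec.map (𝟙 (CommRingCat.of k))) (c : k) :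
    (Scheme.stalkClosedPointTo s).hom (RegSmooth17.toStalk f (s (closedPoint k)) c) = c := by
  have h := congrArg (fun φ => φ.hom c) (toStalk_section (R := CommRingCat.of k) f s hs)
  simp only [CommRingCat.hom_comp, CommRingCat.hom_id, RingHom.coe_comp, Function.comp_apply,
    RingHom.id_apply] at h
  exact h


/-- (iv) ⇒ (i): let k be a field, G a k-group scheme of finite type and e ∈ G the identity point (the
image of the unit section Spec k → G). If the local ring of G at e is regular, then G is smooth over
k. (The corollary lists six equivalent conditions; (i) ⇒ (iv) is the standard fact that smooth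
schemes over a field have regular local rings, and the remaining conditions concern the base change
to an algebraic closure and the completed local ring.) -/
theorem result (k : Type u) [Field k]
    (G : Over (Spec (CommRingCat.of k))) [GrpObj G] [LocallyOfFiniteType G.hom] [QuasiCompact G.hom]
    (e : G.left) (he : e ∈ Set.range (η[G]).left.base)
    (hreg : IsRegularLocalRing (G.left.presheaf.stalk e)) : Smooth G.hom := by
  obtain ⟨pt, rfl⟩ := he
  let s : Spec (CommRingCat.of k) ⟶ G.left := (η[G]).left
  have hs : s ≫ G.hom = Spec.map (𝟙 (CommRingCat.of k)) := by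
    rw [Spec.map_id]; exact Over.w η[G]
  have hpt : pt = closedPoint k := Subsingleton.elim (α := PrimeSpectrum k) _ _
  subst hpt
  let σ := Scheme.stalkClosedPointTo s
  let x : G.left := s (closedPoint k)
  change IsRegularLocalRing (G.left.presheaf.stalk x) at hreg
  have hσ : ∀ c : k, σ.hom (RegSmooth17.toStalk G.hom x c) = c :=
    stalkClosedPointTo_toStalk G.hom s hs
  have hbij : Function.Bijective
      ((G.left.residue x).hom.comp (RegSmooth17.toStalk G.hom x)) := by
    refine ⟨((G.left.residue x).hom.comp (RegSmooth17.toStalk G.hom x)).injective, fun y => ?_⟩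
    obtain ⟨a, rfl⟩ := G.left.residue_surjective x y
    refine ⟨σ a, ?_⟩
    have hm : RegSmooth17.toStalk G.hom x (σ a) - a ∈ maximalIdeal (G.left.presheaf.stalk x) := by
      rw [mem_maximalIdeal, mem_nonunits_iff]
      intro hu
      have := hu.map σ.hom
      rw [map_sub, hσ, sub_self] at this
      exact not_isUnit_zero this
    have h3 := (IsLocalRing.residue_eq_zero_iff _).2 hm
    rw [map_sub, sub_eq_zero] at h3
    exact h3
  refine Cartier.smooth_of_nonempty_smoothLocus G ⟨x, ?_⟩
  refine RegSmooth17.mem_smoothLocus_of_isRegularLocalRing G.hom x ?_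
  letI := ((G.left.residue x).hom.comp (RegSmooth17.toStalk G.hom x)).toAlgebra
  refine (RingHom.formallySmooth_algebraMap (R := k) (S := G.left.residueField x)).2 ?_
  exact Algebra.FormallySmooth.of_equiv
    (AlgEquiv.ofBijective (Algebra.ofId k (G.left.residueField x)) hbij)

end Groth.Agent.S19507
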