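import Groth.Statements.S19508
import Groth.Agent.Lib.BorelFix21.Parabolic
import Groth.Agent.Lib.BorelFix21.BaseChange
-- import your own Groth.Agent.* helpers here

set_option autoImplicit false
universe u
open CategoryTheory MonoidalCategory CartesianMonoidalCategory MonObj GrpObj AlgebraicGeometry
open AGF

namespace Groth.Agent.S19508

/-- Let k be a field, G an affine, smooth, connected k-group scheme, P a smooth connected closed
k-subgroup scheme of G and X = G/P the quotient. Then X is proper over k if and only if, after base
change to an algebraic closure of k (the geometric fibre over the point of Spec k), P contains a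
Borel subgroup of G. (Over an algebraically closed field this is the usual characterisation of
parabolic subgroups; the point here is an arbitrary ground field.) -/
theorem result (k : Type u) [Field k]
    (G : Over (Spec (CommRingCat.of k))) [GrpObj G] [IsAffine G.left] [Smooth G.hom] [ConnectedSpace G.left]
    (P : Over (Spec (CommRingCat.of k))) [GrpObj P] (iP : P ⟶ G) [IsMonHom iP] (hcl : IsClosedImmersion iP.left)
    [Smooth P.hom] [ConnectedSpace P.left]
    (X : Over (Spec (CommRingCat.of k))) (a : AlgGrp.Action G X) (o : 𝟙_ (Over (Spec (CommRingCat.of k))) ⟶ X)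
    (hX : AGF.IsQuotient iP X a o) :
    IsProper X.hom ↔ Red.IsParabolic iP := by
  haveI := hcl
  have key : ∀ (K : Type u) [Field K] [IsAlgClosed K] (φ : Spec (CommRingCat.of K) ⟶ Spec (CommRingCat.of k)),
      Red.IsParabolicOver K ((Over.pullback φ).map iP) ↔ IsProper X.hom := by
    intro K _ _ φ
    haveI := hX.1
    haveI : IsSeparated X.hom := Groth.Agent.InvRing21.IsQuotient.isSeparated hX
    haveI := Groth.Agent.BorelFix21.isAffine_bc φ G
    haveI := Groth.Agent.BorelFix21.smooth_bc φ G
    haveI := Groth.Agent.BorelFix21.connectedSpace_bc φ G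
    haveI := Groth.Agent.BorelFix21.isClosedImmersion_bc φ iP
    haveI := Groth.Agent.BorelFix21.smooth_bc φ P
    have hXK := Groth.Agent.BorelFix21.isQuotient_bc φ hX
    constructor
    · rintro ⟨-, -, -, B, _, b, hb⟩
      haveI := Groth.Agent.BorelFix21.isProper_of_borel_le hXK b hb
      exact Groth.Agent.BorelFix21.isProper_of_bc φ
    · intro hp
      haveI := Groth.Agent.BorelFix21.isProper_bc φ X
      exact ⟨inferInstance, inferInstance, inferInstance, Groth.Agent.BorelFix21.exists_borel_le_of_isProper hXK⟩
  constructor
  · intro hp
    exact ⟨inferInstance, hcl, inferInstance, fun s => (key _ (Red.geomPt s)).2 hp⟩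
  · rintro ⟨-, -, -, h⟩
    exact (key _ (Red.geomPt (IsLocalRing.closedPoint k))).1 (h _)

end Groth.Agent.S19508
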