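import Groth.Statements.S19509
import Groth.Agent.Lib.RigidRel.MulEtale
import Groth.Agent.Lib.ResPt22.Basic

set_option autoImplicit false
universe u
open CategoryTheory MonoidalCategory CartesianMonoidalCategory MonObj GrpObj AlgebraicGeometry
open Neron

namespace Groth.Agent.S19509

/-- Let R be a complete discrete valuation ring whose fraction field K has characteristic zero and whose
residue field k has characteristic p > 0, and let N be a commutative R-group scheme which is a Néron
model of its generic fibre, an abelian variety over K. Then the torsion of order prime to p of N(R)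
= A(K) injects into the special fibre under reduction: a section x with x^n = 1, n ≥ 1 prime to p,
whose value at the closed point of Spec R is the identity point of the special fibre, is the unit
section. -/
theorem result (R : Type u) [CommRing R] [IsDomain R]
    [IsDiscreteValuationRing R] [IsAdicComplete (IsLocalRing.maximalIdeal R) R] (K : Type u) [Field K] [Algebra R K]
    [IsFractionRing R K] [CharZero K] (p : ℕ) [Fact p.Prime] [CharP (IsLocalRing.ResidueField R) p]
    (N : Over (Spec (CommRingCat.of R))) [GrpObj N] [IsCommMonObj N] (hN : SGA7.IsNeron R K N)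
    [IsProper ((SGA7.genFib R K).obj N).hom] [GeometricallyIntegral ((SGA7.genFib R K).obj N).hom]
    (x : 𝟙_ (Over (Spec (CommRingCat.of R))) ⟶ N) (n : ℕ) (hn : 0 < n) (hx : x ^ n = 1)
    (hred : x.left.base (IsLocalRing.closedPoint R) = (η[N]).left.base (IsLocalRing.closedPoint R))
    (hnp : Nat.Coprime n p) : x = 1 := by
  obtain ⟨hsm, -, -, -⟩ := hN
  haveI : Smooth N.hom := hsm
  haveI hne : NeZero n := ⟨hn.ne'⟩
  have hunit : IsUnit ((n : ℤ) : R) := by
    rw [Int.cast_natCast]
    by_contra h
    have h0 : ((n : ℕ) : IsLocalRing.ResidueField R) = 0 := by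
      rw [← map_natCast (IsLocalRing.residue R) n]
      exact (IsLocalRing.residue_eq_zero_iff _).2 ((IsLocalRing.mem_maximalIdeal _).2 h)
    rw [CharP.cast_eq_zero_iff (IsLocalRing.ResidueField R) p n] at h0
    exact (Fact.out : p.Prime).ne_one (Nat.eq_one_of_dvd_coprimes hnp h0 dvd_rfl)
  let q : Spec (CommRingCat.of (IsLocalRing.ResidueField R)) ⟶ Spec (CommRingCat.of R) :=
    Spec.map (CommRingCat.ofHom (IsLocalRing.residue R))
  let o : 𝟙_ (Over (Spec (CommRingCat.of R))) ⟶ N := 1
  have hone : (o.left.base (IsLocalRing.closedPoint R)) = (η[N]).left.base (IsLocalRing.closedPoint R) := by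
    have : o = η[N] := by
      show (1 : 𝟙_ (Over (Spec (CommRingCat.of R))) ⟶ N) = _
      rw [Hom.one_def, toUnit_unit, Category.id_comp]
    rw [this]
  -- two sections with the same image of the closed point agree on the residue field
  have hq : ∀ a b : Spec (CommRingCat.of R) ⟶ N.left, a ≫ N.hom = 𝟙 _ → b ≫ N.hom = 𝟙 _ →
      a (IsLocalRing.closedPoint R) = b (IsLocalRing.closedPoint R) → q ≫ a = q ≫ b := by
    intro a b ha hb hab
    exact ResPt22.residue_comp_eq N.hom a b ha hb hab
  refine (MulEtale.eq_of_zpow_eq N (𝟙 _) x o (n : ℤ) hunit ?_ ?_)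
  · rw [zpow_natCast, zpow_natCast, hx]; exact (one_pow n).symm
  · exact hq x.left o.left (Over.w x) (Over.w o) (hred.trans hone.symm)

end Groth.Agent.S19509
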