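import Groth.Statements.S1951
import Groth.Agent.Lib.Diag27.ProdCycle
-- import your own Groth.Agent.* helpers here

set_option autoImplicit false
universe u
open CategoryTheory CategoryTheory.Limits AlgebraicGeometry
attribute [local instance] HasDerivedCategory.standard
open IntMult

namespace Groth.Agent.S1951

/-- Let X, Y be nonsingular varieties over K of dimensions n, m, α an r-cycle on X and β an s-cycle on
Y. Then pr_X^*α and pr_Y^*β (flat pullbacks to X ×_K Y, of relative dimensions m and n) intersect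
properly on X ×_K Y and pr_X^*α · pr_Y^*β = α × β as (r + s)-cycles, coefficientwise. Here X is a
nonsingular variety over the algebraically closed field K (smooth, separated, quasi-compact,
integral) with dimension function δ (transcendence degree) and n = dim X; cycles are Mathlib
AlgebraicCycles with Cyc.Zk membership, proper intersection is IntMult.IntersectProperly and α · β
is the Tor-formula intersection product on coefficient functions (IntMult.interProd), bundled where
needed as 'any cycle with these coefficients'. -/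
theorem result (K : Type u) [Field K] [IsAlgClosed K] (X Y : Scheme.{u}) (f : X ⟶ Spec (CommRingCat.of K)) (g : Y ⟶ Spec (CommRingCat.of K)) [Smooth f] [IsSeparated f] [QuasiCompact f] [IsIntegral X] [Smooth g] [IsSeparated g] [QuasiCompact g] [IsIntegral Y] (δX : X → ℤ) (δY : Y → ℤ) (δ : ↥(pullback f g) → ℤ) (hX : Cyc.DeltaCompat f δX (fun _ => 0)) (hY : Cyc.DeltaCompat g δY (fun _ => 0)) (hXY : Cyc.DeltaCompat (pullback.fst f g ≫ f) δ (fun _ => 0)) (n m : ℕ) (hn : δX (genericPoint X) = n) (hm : δY (genericPoint Y) = m) (r s : ℤ) (α : AlgebraicCycle X ℤ) (β : AlgebraicCycle Y ℤ) (hα : α ∈ Cyc.Zk X δX r) (hβ : β ∈ Cyc.Zk Y δY s) : IntMult.IntersectProperly δ (n + m) (Cyc.pullFun (pullback.fst f g) δ δX m ⇑α) (Cyc.pullFun (pullback.snd f g) δ δY n ⇑β) ∧ IntMult.interProd δ (n + m) (Cyc.pullFun (pullback.fst f g) δ δX m ⇑α) (Cyc.pullFun (pullback.snd f g) δ δY n ⇑β) = IntMult.extProd f g δX δY δ ⇑α ⇑β := by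
  set p := pullback.fst f g
  set q := pullback.snd f g
  haveI : GeometricallyIntegral f := CubeField.geometricallyIntegral_of_isIntegral f
  haveI : GeometricallyIntegral g := CubeField.geometricallyIntegral_of_isIntegral g
  have eX : ∀ x, δX x = (VarDim.sdim f x : ℤ) := fun x => Cyc26.delta_eq_sdim f hX x
  have eY : ∀ y, δY y = (VarDim.sdim g y : ℤ) := fun y => Cyc26.delta_eq_sdim g hY y
  have eZ : ∀ z, δ z = (VarDim.sdim (p ≫ f) z : ℤ) := fun z => Cyc26.delta_eq_sdim _ hXY z
  have hle : ∀ z, δ z ≤ δX (p z) + δY (q z) := fun z => by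
    rw [eX, eY, eZ]
    exact_mod_cast (DimF18.sdim_prod f g z).1
  have hmonoX : ∀ {a b : X}, a ⤳ b → δX b ≤ δX a := fun h => by
    rw [eX, eX]
    exact_mod_cast Diag27.sdim_mono f h
  have hmonoY : ∀ {a b : Y}, a ⤳ b → δY b ≤ δY a := fun h => by
    rw [eY, eY]
    exact_mod_cast Diag27.sdim_mono g h
  have heqX : ∀ {a b : X}, a ⤳ b → δX a ≤ δX b → a = b := fun h h' => by
    rw [eX, eX] at h'
    exact Diag27.eq_of_sdim_le f h (by exact_mod_cast h')
  have heqY : ∀ {a b : Y}, a ⤳ b → δY a ≤ δY b → a = b := fun h h' => by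
    rw [eY, eY] at h'
    exact Diag27.eq_of_sdim_le g h (by exact_mod_cast h')
  have heqZ : ∀ {a b : ↥(pullback f g)}, a ⤳ b → δ a ≤ δ b → a = b := fun h h' => by
    rw [eZ, eZ] at h'
    exact Diag27.eq_of_sdim_le _ h (by exact_mod_cast h')
  have hfst : ∀ a : X, ∃ ξ, p ξ = a ∧ δ ξ = δX a + m ∧ ∀ z, p z = a → (δ z = δX a + m → z = ξ) ∧
      ∃ h : ξ ⤳ z, (Diag27.genPrime h).asIdeal =
        (IsLocalRing.maximalIdeal (X.presheaf.stalk (p z))).map (p.stalkMap z).hom := fun a => by
    obtain ⟨ξ, hξ, hgen⟩ := Diag27.exists_fibre_gen p a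
    have hup : δ ξ ≤ δX a + m := by
      refine (hle ξ).trans ?_
      rw [hξ, ← hm]
      exact add_le_add le_rfl (hmonoY (genericPoint_specializes _))
    obtain ⟨z₀, hz₀, hz₀'⟩ := Scheme.Pullback.exists_preimage_pullback (f := f) (g := g) a (genericPoint Y)
      (Subsingleton.elim (α := Spec (CommRingCat.of K)) _ _)
    obtain ⟨w, -, hw, -, hws⟩ := (DimF18.sdim_prod f g z₀).2
    have hws' : δ w = δX a + m := by
      rw [eZ, hws, Nat.cast_add, ← eX, ← eY, hz₀, hz₀', hm]
    obtain ⟨hh, -⟩ := hgen w (hw.trans hz₀)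
    have hξw : ξ = w := heqZ hh (hws' ▸ hup)
    refine ⟨ξ, hξ, hξw ▸ hws', fun z hz => ⟨fun hd => ?_, hgen z hz⟩⟩
    obtain ⟨hh', -⟩ := hgen z hz
    exact (heqZ hh' (hd ▸ hup)).symm
  have hsnd : ∀ b : Y, ∃ η, q η = b ∧ δ η = δY b + n ∧ ∀ z, q z = b → (δ z = δY b + n → z = η) ∧
      ∃ h : η ⤳ z, (Diag27.genPrime h).asIdeal =
        (IsLocalRing.maximalIdeal (Y.presheaf.stalk (q z))).map (q.stalkMap z).hom := fun b => by
    obtain ⟨η, hη, hgen⟩ := Diag27.exists_fibre_gen q b
    have hup : δ η ≤ δY b + n := by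
      refine (hle η).trans ?_
      rw [hη, ← hn, add_comm]
      exact add_le_add le_rfl (hmonoX (genericPoint_specializes _))
    obtain ⟨z₀, hz₀, hz₀'⟩ := Scheme.Pullback.exists_preimage_pullback (f := f) (g := g) (genericPoint X) b
      (Subsingleton.elim (α := Spec (CommRingCat.of K)) _ _)
    obtain ⟨w, -, -, hw, hws⟩ := (DimF18.sdim_prod f g z₀).2
    have hws' : δ w = δY b + n := by
      rw [eZ, hws, Nat.cast_add, ← eX, ← eY, hz₀, hz₀', hn, add_comm]
    obtain ⟨hh, -⟩ := hgen w (hw.trans hz₀')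
    have hηw : η = w := heqZ hh (hws' ▸ hup)
    refine ⟨η, hη, hηw ▸ hws', fun z hz => ⟨fun hd => ?_, hgen z hz⟩⟩
    obtain ⟨hh', -⟩ := hgen z hz
    exact (heqZ hh' (hd ▸ hup)).symm
  choose ξ hξ hξd hξu using hfst
  choose η hη hηd hηu using hsnd
  have len_max : ∀ (R : Type u) [CommRing R] [IsLocalRing R],
      (Module.length R (R ⧸ IsLocalRing.maximalIdeal R)).toNat = 1 := fun R _ _ => by
    haveI : IsSimpleModule R (R ⧸ IsLocalRing.maximalIdeal R) :=
      isSimpleModule_iff_isCoatom.2 (IsLocalRing.maximalIdeal.isMaximal R).out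
    rw [Module.length_eq_one]
    rfl
  have hpa : ∀ z, Cyc.pullFun p δ δX m ⇑α z ≠ 0 → z = ξ (p z) ∧ δ z = δX (p z) + m := fun z hz => by
    unfold Cyc.pullFun at hz
    split_ifs at hz with h
    · exact ⟨((hξu _) z rfl).1 h, h⟩
    · exact absurd rfl hz
  have hqb : ∀ z, Cyc.pullFun q δ δY n ⇑β z ≠ 0 → z = η (q z) ∧ δ z = δY (q z) + n := fun z hz => by
    unfold Cyc.pullFun at hz
    split_ifs at hz with h
    · exact ⟨((hηu _) z rfl).1 h, h⟩
    · exact absurd rfl hz
  refine ⟨fun a b c ha hb hac hbc => ?_, funext fun ζ => ?_⟩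
  · have h1 := (hpa a ha).2
    have h2 := (hqb b hb).2
    have h3 := hmonoX (hac.map p.continuous)
    have h4 := hmonoY (hbc.map q.continuous)
    have h5 := hle c
    omega
  · unfold IntMult.interProd IntMult.extProd
    split_ifs with hC
    · obtain ⟨h1, g1⟩ := (hξu (p ζ) ζ rfl).2
      obtain ⟨h2, g2⟩ := (hηu (q ζ) ζ rfl).2
      have hmem : δ (ξ (p ζ)) + δ (η (q ζ)) - ((n : ℤ) + m) = δ ζ := by
        rw [hξd, hηd, hC]
        ring
      rw [finsum_eq_single _ ⟨(ξ (p ζ), η (q ζ)), h1, h2, hmem⟩ ?_]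
      · have va : Cyc.pullFun p δ δX m ⇑α (ξ (p ζ)) = α (p ζ) := by
          obtain ⟨h, g'⟩ := (hξu (p (ξ (p ζ))) (ξ (p ζ)) rfl).2
          have e : ξ (p (ξ (p ζ))) = ξ (p ζ) := by rw [hξ]
          rw [Diag27.genPrime_congr e h (specializes_refl _), Diag27.genPrime_refl] at g'
          rw [Cyc.pullFun, if_pos (by rw [hξ, hξd]), ← g', len_max, hξ]
          simp
        have vb : Cyc.pullFun q δ δY n ⇑β (η (q ζ)) = β (q ζ) := by
          obtain ⟨h, g'⟩ := (hηu (q (η (q ζ))) (η (q ζ)) rfl).2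
          have e : η (q (η (q ζ))) = η (q ζ) := by rw [hη]
          rw [Diag27.genPrime_congr e h (specializes_refl _), Diag27.genPrime_refl] at g'
          rw [Cyc.pullFun, if_pos (by rw [hη, hηd]), ← g', len_max, hη]
          simp
        show Cyc.pullFun p δ δX m ⇑α (ξ (p ζ)) * Cyc.pullFun q δ δY n ⇑β (η (q ζ)) *
          IntMult.mult (IntMult.ptIdeal (ξ (p ζ))) (IntMult.ptIdeal (η (q ζ))) ζ = _
        rw [va, vb, IntMult.mult, Diag27.stalkIdeal_ptIdeal h1, Diag27.stalkIdeal_ptIdeal h2, g1, g2,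
          Diag27.chi_prod f g ζ]
      · rintro ⟨⟨a, b⟩, hab, hbb, hd⟩ hne
        by_contra hc
        obtain ⟨ha, had⟩ := hpa a (left_ne_zero_of_mul (left_ne_zero_of_mul hc))
        obtain ⟨hb, hbd⟩ := hqb b (right_ne_zero_of_mul (left_ne_zero_of_mul hc))
        have h3 : δX (p ζ) ≤ δX (p a) := hmonoX (hab.map p.continuous)
        have h4 : δY (q ζ) ≤ δY (q b) := hmonoY (hbb.map q.continuous)
        have h5 := hle ζ
        change δ a + δ b - ((n : ℤ) + m) = δ ζ at hd
        have e1 : p a = p ζ := heqX (hab.map p.continuous) (by omega)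
        have e2 : q b = q ζ := heqY (hbb.map q.continuous) (by omega)
        exact hne (Subtype.ext (Prod.ext (ha.trans (congrArg ξ e1)) (hb.trans (congrArg η e2))))
    · refine finsum_eq_zero_of_forall_eq_zero fun pr => ?_
      obtain ⟨⟨a, b⟩, hab, hbb, hd⟩ := pr
      by_contra hc
      have had := (hpa a (left_ne_zero_of_mul (left_ne_zero_of_mul hc))).2
      have hbd := (hqb b (right_ne_zero_of_mul (left_ne_zero_of_mul hc))).2
      have h3 : δX (p ζ) ≤ δX (p a) := hmonoX (hab.map p.continuous)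
      have h4 : δY (q ζ) ≤ δY (q b) := hmonoY (hbb.map q.continuous)
      have h5 := hle ζ
      change δ a + δ b - ((n : ℤ) + m) = δ ζ at hd
      exact hC (show δ ζ = δX (p ζ) + δY (q ζ) by omega)

end Groth.Agent.S1951
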