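import Groth.Statements.S19510
import Groth.Agent.Lib.SmallRam19.Basic
-- import your own Groth.Agent.* helpers here

set_option autoImplicit false
universe u
open CategoryTheory MonoidalCategory CartesianMonoidalCategory MonObj GrpObj AlgebraicGeometry
open Neron

namespace Groth.Agent.S19510

set_option linter.style.haveILetI false
set_option backward.isDefEq.respectTransparency.types false


/-- Let R be a complete discrete valuation ring whose fraction field K has characteristic zero and whose
residue field has characteristic p > 0, with absolute ramification small in the sense that v(p) < p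
− 1 for the normalised valuation, i.e. p does not lie in the (p − 1)-st power of the maximal ideal.
Let N be a commutative R-group scheme which is a Néron model of its generic fibre, an abelian
variety over K. Then all torsion of N(R) = A(K) injects into the special fibre under reduction: a
section x with x^n = 1 for some n ≥ 1 whose value at the closed point is the identity point is the
unit section. -/
theorem result (R : Type u) [CommRing R] [IsDomain R]
    [IsDiscreteValuationRing R] [IsAdicComplete (IsLocalRing.maximalIdeal R) R] (K : Type u) [Field K] [Algebra R K]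
    [IsFractionRing R K] [CharZero K] (p : ℕ) [Fact p.Prime] [CharP (IsLocalRing.ResidueField R) p]
    (N : Over (Spec (CommRingCat.of R))) [GrpObj N] [IsCommMonObj N] (hN : SGA7.IsNeron R K N)
    [IsProper ((SGA7.genFib R K).obj N).hom] [GeometricallyIntegral ((SGA7.genFib R K).obj N).hom]
    (x : 𝟙_ (Over (Spec (CommRingCat.of R))) ⟶ N) (n : ℕ) (hn : 0 < n) (hx : x ^ n = 1)
    (hred : x.left.base (IsLocalRing.closedPoint R) = (η[N]).left.base (IsLocalRing.closedPoint R))
    (hv : (p : R) ∉ IsLocalRing.maximalIdeal R ^ (p - 1)) : x = 1 := by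
  classical
obtain ⟨π, hπ⟩ := IsDiscreteValuationRing.exists_irreducible R
have hpK : (p : R) ≠ 0 := fun h => by
  have := congrArg (algebraMap R K) h
  simp [(Fact.out : p.Prime).ne_zero] at this
have hm := hπ.maximalIdeal_eq
have hsmall : ∀ q : ℕ, q.Prime → ∃ (v : ℕ) (u : Rˣ), (q : R) = u * π ^ v ∧ v + 1 < q := by
  intro q hq
  by_cases hqp : q = p
  · subst hqp
    obtain ⟨v, u, hu⟩ := IsDiscreteValuationRing.eq_unit_mul_pow_irreducible hpK hπ
    refine ⟨v, u, hu, ?_⟩
    by_contra hlt
    apply hv
    rw [hm, Ideal.span_singleton_pow, Ideal.mem_span_singleton, hu]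
    exact Dvd.dvd.mul_left (pow_dvd_pow π (by omega)) _
  · have hu : IsUnit (q : R) := by
      rw [← IsLocalRing.notMem_maximalIdeal, ← IsLocalRing.residue_eq_zero_iff, map_natCast,
        CharP.cast_eq_zero_iff (IsLocalRing.ResidueField R) p,
        Nat.prime_dvd_prime_iff_eq Fact.out hq]
      exact fun h => hqp h.symm
    exact ⟨0, hu.unit, by simp, by simpa using hq.one_lt⟩
let t : SmallRam19.sp (R := R) R ⟶ 𝟙_ (Over (Spec (CommRingCat.of R))) := toUnit _
have ht : t.left = 𝟙 _ := by
  change Spec.map (CommRingCat.ofHom (algebraMap R R)) = 𝟙 _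
  simp
have h1 : t ≫ x = 1 := by
  refine SmallRam19.eq_one_of_pow_eq_one hπ hsmall _ n hn ?_ ?_
  · rw [← MonObj.comp_pow, hx, MonObj.comp_one]
  · rw [Over.comp_left, ht, Category.id_comp, hred]
    have h : (1 : SmallRam19.sp (R := R) R ⟶ N) = t ≫ η[N] := by rw [Hom.one_def]
    rw [h, Over.comp_left, ht, Category.id_comp]
ext1
have h2 := congrArg (fun g => g.left) h1
simp only [Over.comp_left, ht, Category.id_comp] at h2
rw [h2, show (1 : SmallRam19.sp (R := R) R ⟶ N) = t ≫ 1 from (MonObj.comp_one _).symm,
  Over.comp_left, ht, Category.id_comp]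

end Groth.Agent.S19510
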