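import Groth.Statements.S19512
import Groth.Agent.Lib.VarDim.Fibration
import Mathlib.AlgebraicGeometry.Morphisms.Proper

set_option autoImplicit false
universe u
open CategoryTheory CategoryTheory.Limits AlgebraicGeometry
open Variety

namespace Groth.Agent.S19512

/-- Let k be a field and f : X → Y a k-morphism between proper k-schemes which is a fibration, i.e. O_Y
→ f_*O_X is an isomorphism (Γ(V, O_Y) → Γ(f⁻¹V, O_X) bijective for every open V ⊆ Y). If X is
integral, then Y is integral. (The second assertion of (ii), generic flatness of f, is quoted from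
the literature and not stated.) -/
theorem result (k : Type u) [Field k] (X Y : Scheme.{u})
    [X.Over (Spec (CommRingCat.of k))] [Y.Over (Spec (CommRingCat.of k))] [IsProper (X ↘ Spec (CommRingCat.of k))] [IsProper (Y ↘ Spec (CommRingCat.of k))]
    (f : X ⟶ Y) (hf : f ≫ (Y ↘ Spec (CommRingCat.of k)) = X ↘ Spec (CommRingCat.of k)) (hfib : ∀ V : Y.Opens, IsIso (f.app V))
    [AlgebraicGeometry.IsIntegral X] : AlgebraicGeometry.IsIntegral Y := by
  subst_vars
  haveI : UniversallyClosed f := by
    haveI : UniversallyClosed (f ≫ (Y ↘ Spec (CommRingCat.of k))) := hf ▸ inferInstance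
    exact UniversallyClosed.of_comp_of_isSeparated f (Y ↘ Spec (CommRingCat.of k))
  exact Groth.Agent.VarDim.Fibration.isIntegral f hfib

end Groth.Agent.S19512
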