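import Groth.Statements.S19515
import Groth.Agent.Lib.VarDim.FibBaseChange

set_option autoImplicit false
universe u
open CategoryTheory CategoryTheory.Limits AlgebraicGeometry
open Variety

namespace Groth.Agent.S19515

/-- Let k be a field and f : X → Y a k-morphism between proper k-schemes which is a fibration, i.e. O_Y
→ f_*O_X is an isomorphism (Γ(V, O_Y) → Γ(f⁻¹V, O_X) bijective for every open V ⊆ Y). If X is
geometrically normal, i.e. its base change to every algebraic closure of k has all local rings
integrally closed domains, then Y is geometrically normal in the same sense. -/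
theorem result (k : Type u) [Field k] (X Y : Scheme.{u})
    [X.Over (Spec (CommRingCat.of k))] [Y.Over (Spec (CommRingCat.of k))] [IsProper (X ↘ Spec (CommRingCat.of k))] [IsProper (Y ↘ Spec (CommRingCat.of k))]
    (f : X ⟶ Y) (hf : f ≫ (Y ↘ Spec (CommRingCat.of k)) = X ↘ Spec (CommRingCat.of k)) (hfib : ∀ V : Y.Opens, IsIso (f.app V))
    (hX : ∀ (K : Type u) [Field K] [Algebra k K] [IsAlgClosure k K],
      Pi1.IsNormalScheme (pullback (X ↘ Spec (CommRingCat.of k)) (Spec.map (CommRingCat.ofHom (algebraMap k K)))))
    (K : Type u) [Field K] [Algebra k K] [IsAlgClosure k K] :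
    Pi1.IsNormalScheme (pullback (Y ↘ Spec (CommRingCat.of k)) (Spec.map (CommRingCat.ofHom (algebraMap k K)))) := by
  let sX := X ↘ Spec (CommRingCat.of k)
  let sY := Y ↘ Spec (CommRingCat.of k)
  let q : Spec (CommRingCat.of K) ⟶ Spec (CommRingCat.of k) := Spec.map (CommRingCat.ofHom (algebraMap k K))
  haveI : IsProper (f ≫ sY) := by rw [hf]; infer_instance
  haveI : UniversallyClosed f := UniversallyClosed.of_comp_of_isSeparated f sY
  haveI : QuasiCompact f := QuasiCompact.of_comp f sY
  haveI : QuasiSeparated f := QuasiSeparated.of_comp f sY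
  haveI : Flat (pullback.fst sY q) := MorphismProperty.pullback_fst sY q (inferInstance : Flat q)
  let f' : pullback sX q ⟶ pullback sY q :=
    pullback.lift (pullback.fst sX q ≫ f) (pullback.snd sX q)
      (by rw [Category.assoc, hf, pullback.condition])
  have hsq : IsPullback (pullback.fst sX q) f' f (pullback.fst sY q) := by
    refine IsPullback.of_bot ?_ (pullback.lift_fst _ _ _).symm (IsPullback.of_hasPullback sY q)
    rw [pullback.lift_snd, hf]
    exact IsPullback.of_hasPullback sX q
  haveI : UniversallyClosed f' := MorphismProperty.of_isPullback hsq (inferInstance : UniversallyClosed f)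
  haveI : IsLocallyNoetherian (pullback sX q) :=
    LocallyOfFiniteType.isLocallyNoetherian (pullback.snd sX q)
  haveI : CompactSpace (pullback sX q : Scheme.{u}) :=
    QuasiCompact.compactSpace_of_compactSpace (pullback.snd sX q)
  exact fun y => Groth.Agent.VarDim.Fibration.normal_stalk f'
    (Groth.Agent.VarDim.Fibration.app_bijective_baseChange hfib hsq) (hX K) y

end Groth.Agent.S19515
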