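import Groth.Statements.S19517
import Groth.Agent.Lib.AffPart15.Inter
-- import your own Groth.Agent.* helpers here

set_option autoImplicit false
universe u
open CategoryTheory CategoryTheory.Limits MonoidalCategory CartesianMonoidalCategory MonObj GrpObj AlgebraicGeometry
open AlgGrp

namespace Groth.Agent.S19517

/-- Linear part, the assertion on the kernel: over an algebraically closed field k let G be a smooth
k-group scheme of finite type, j : K → G a closed normal subgroup scheme of finite type, i : G_lin →
G the largest smooth connected affine normal closed subgroup scheme of G and i_K : K_lin → K the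
largest smooth connected affine normal closed subgroup scheme of K. Then K_lin is contained in
G_lin, and K_lin has finite index in K ∩ G_lin in the sense that K_lin and the fibre product K ×_G
G_lin have the same dimension (K_lin is the reduced identity component of K ∩ G_lin). (The published
proposition is stated for an exact sequence e → K → G → Q → e of arbitrary algebraic groups and also
for unipotent and solvable parts; G is assumed smooth here, and only the linear part is stated.) -/
theorem result (k : Type u) [Field k] [IsAlgClosed k]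
    (G : Over (Spec (CommRingCat.of k))) [GrpObj G] [Smooth G.hom] [QuasiCompact G.hom]
    (K : Over (Spec (CommRingCat.of k))) [GrpObj K] [QuasiCompact K.hom] [LocallyOfFiniteType K.hom]
    (j : K ⟶ G) [IsMonHom j] [IsClosedImmersion j.left] (hK : AlgGrp.IsNormalHom j)
    (N : Over (Spec (CommRingCat.of k))) [GrpObj N] (i : N ⟶ G) [IsMonHom i] [IsClosedImmersion i.left]
    [Smooth N.hom] [ConnectedSpace ↥N.left] [IsAffine N.left] (hN : AlgGrp.IsNormalHom i)
    (hNmax : (∀ (N' : Over (Spec (CommRingCat.of k))) [GrpObj N'] (i' : N' ⟶ G) [IsMonHom i'] [IsClosedImmersion i'.left]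
      [Smooth N'.hom] [ConnectedSpace ↥N'.left] [IsAffine N'.left], AlgGrp.IsNormalHom i' → ∃ f : N' ⟶ N, f ≫ i = i'))
    (NK : Over (Spec (CommRingCat.of k))) [GrpObj NK] (iK : NK ⟶ K) [IsMonHom iK] [IsClosedImmersion iK.left]
    [Smooth NK.hom] [ConnectedSpace ↥NK.left] [IsAffine NK.left] (hNK : AlgGrp.IsNormalHom iK)
    (hNKmax : (∀ (N' : Over (Spec (CommRingCat.of k))) [GrpObj N'] (i' : N' ⟶ K) [IsMonHom i'] [IsClosedImmersion i'.left]
      [Smooth N'.hom] [ConnectedSpace ↥N'.left] [IsAffine N'.left], AlgGrp.IsNormalHom i' → ∃ f : N' ⟶ NK, f ≫ iK = i')) :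
    (∃ g : NK ⟶ N, g ≫ i = iK ≫ j) ∧
      topologicalKrullDim ↥NK.left = topologicalKrullDim ↥(pullback j.left i.left) := by
  exact AffPart15.linearPart_inter j (fun g {H} _ _ _ _ h _ _ => by
    obtain ⟨m, hm⟩ := hK H (Chevalley25.cst H g) h
    exact ⟨m, hm.symm⟩) i hN hNmax iK hNKmax


end Groth.Agent.S19517
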