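import Groth.Statements.S19521
import Groth.Agent.Lib.AbDual21.Square

set_option autoImplicit false
set_option backward.isDefEq.respectTransparency false
universe u
open CategoryTheory CategoryTheory.Limits MonoidalCategory CartesianMonoidalCategory MonObj GrpObj AlgebraicGeometry
open AbDual

namespace Groth.Agent.S19521

/-- Let S be a locally Noetherian scheme and f : A' → A a homomorphism of abelian schemes over S. Let
A^t, A'^t be dual abelian schemes of A, A' (given through φ_A, φ_A', fppf topology, classes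
algebraically equivalent to zero on geometric fibres), A^tt, A'^tt dual abelian schemes of A^t, A'^t
(through φ_{A^t}, φ_{A'^t}), ξ and ξ' Poincaré classes on A ×_S A^t and A' ×_S A'^t whose
factor-swapped classes are algebraically equivalent to zero on the geometric fibres over A and A',
f^t : A^t → A'^t the transpose of f and f^tt : A'^tt → A^tt the transpose of f^t. With κ_A : A →
A^tt and κ_A' : A' → A'^tt the biduality morphisms defined by the swapped Poincaré classes, the
square commutes: f followed by κ_A equals κ_A' followed by f^tt. (The published statement is for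
projective abelian schemes over a Noetherian base, where the duals exist as schemes; here the duals
are given as data.) -/
theorem result {S : Scheme.{u}} [IsLocallyNoetherian S]
    (A At Att A' A't A'tt : Over S) [GrpObj A] [IsCommMonObj A] [IsProper A.hom] [Smooth A.hom] [GeometricallyConnected A.hom] [GrpObj At] [IsCommMonObj At] [IsProper At.hom] [Smooth At.hom] [GeometricallyConnected At.hom] [GrpObj Att] [IsCommMonObj Att] [IsProper Att.hom] [Smooth Att.hom] [GeometricallyConnected Att.hom]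
    [GrpObj A'] [IsCommMonObj A'] [IsProper A'.hom] [Smooth A'.hom] [GeometricallyConnected A'.hom] [GrpObj A't] [IsCommMonObj A't] [IsProper A't.hom] [Smooth A't.hom] [GeometricallyConnected A't.hom] [GrpObj A'tt] [IsCommMonObj A'tt] [IsProper A'tt.hom] [Smooth A'tt.hom] [GeometricallyConnected A'tt.hom]
    (φA : ∀ T : Over S, PicF.Cl (PicF.XT A.hom T) → (T ⟶ At))
    (φAt : ∀ T : Over S, PicF.Cl (PicF.XT At.hom T) → (T ⟶ Att))
    (φA' : ∀ T : Over S, PicF.Cl (PicF.XT A'.hom T) → (T ⟶ A't))
    (φA't : ∀ T : Over S, PicF.Cl (PicF.XT A't.hom T) → (T ⟶ A'tt))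
    (hA : AbDual.IsDualAV Scheme.fppfPrecoverage A At φA) (hAt : AbDual.IsDualAV Scheme.fppfPrecoverage At Att φAt)
    (hA' : AbDual.IsDualAV Scheme.fppfPrecoverage A' A't φA') (hA't : AbDual.IsDualAV Scheme.fppfPrecoverage A't A'tt φA't)
    (ξ : PicF.Cl (PicF.XT A.hom At)) (hξ : AbDual.IsPoincareCl A At φA ξ)
    (hξs : AbDual.IsPicZeroCl At.hom A (PicF.pullCl (pullbackSymmetry At.hom A.hom).hom ξ))
    (ξ' : PicF.Cl (PicF.XT A'.hom A't)) (hξ' : AbDual.IsPoincareCl A' A't φA' ξ')
    (hξ's : AbDual.IsPicZeroCl A't.hom A' (PicF.pullCl (pullbackSymmetry A't.hom A'.hom).hom ξ'))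
    (f : A' ⟶ A) [IsMonHom f] (ft : At ⟶ A't) (hft : AbDual.IsTranspose f φA' φA ft)
    (ftt : A'tt ⟶ Att) (hftt : AbDual.IsTranspose ft φAt φA't ftt) :
    f ≫ φAt A (PicF.pullCl (pullbackSymmetry At.hom A.hom).hom ξ) =
      φA't A' (PicF.pullCl (pullbackSymmetry A't.hom A'.hom).hom ξ') ≫ ftt := by
  have sw : ∀ (B C : Over S), (pullbackSymmetry B.hom C.hom).hom = (β_ B C).hom.left := by
    intro B C
    apply pullback.hom_ext
    · rw [pullbackSymmetry_hom_comp_fst]
      exact (congrArg CommaMorphism.left (lift_fst (snd B C) (fst B C))).symm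
    · rw [pullbackSymmetry_hom_comp_snd]
      exact (congrArg CommaMorphism.left (lift_snd (snd B C) (fst B C))).symm
  rw [← AbDual21.phi_natural hAt f hξs, ← hftt A' _ hξ's, AbDual21.bcMap_eq]
  refine congrArg (φAt A') ?_
  rw [sw, sw, PicDesc21.pullCl_pullCl, PicDesc21.pullCl_pullCl]
  have h1 : (At ◁ f) ≫ (β_ At A).hom = (β_ At A').hom ≫ (f ▷ At) := BraidedCategory.braiding_naturality_right _ _
  have h2 : (ft ▷ A') ≫ (β_ A't A').hom = (β_ At A').hom ≫ (A' ◁ ft) := BraidedCategory.braiding_naturality_left _ _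
  rw [← Over.comp_left, ← Over.comp_left, h1, h2, Over.comp_left, Over.comp_left, ← PicDesc21.pullCl_pullCl,
    ← PicDesc21.pullCl_pullCl]
  refine congrArg (PicF.pullCl _) ?_
  have hc1 := AbDual21.picZero_whiskerRight f hξ.1
  have hc2 := AbDual21.picZero_whisker ft hξ'.1
  have hφ : φA' At (PicF.pullCl (f ▷ At).left ξ) = φA' At (PicF.pullCl (A' ◁ ft).left ξ') := by
    rw [AbDual21.phi_natural hA' ft hξ'.1, hξ'.2.1, ← AbDual21.bcMap_eq, hft At ξ hξ.1, hξ.2.1, Category.id_comp,
      Category.comp_id]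
  obtain ⟨R, hR, hR'⟩ := hA'.relPic.locallyInjective _ _ _ hc1 hc2 hφ
  refine PicDesc21.cl_eq_of_local A'.hom (AbDual21.bijective_appTop_snd A') η[A'].left (Over.w η[A'])
    (AbDual21.picZero_invertible hc1) (AbDual21.picZero_invertible hc2) ?_ hR hR'
  have hs : ∀ (B T : Over S) [GrpObj B],
      PicF.secT B.hom η[B].left (Over.w η[B]) T = (lift (1 : T ⟶ B) (𝟙 T)).left := by
    intro B T _
    rw [AbDual21.secT_eq, Hom.one_def]
  have t1 := hξ.2.2
  have t2 := hξ'.2.2
  rw [hs] at t1 t2
  have e1 : lift (1 : At ⟶ A') (𝟙 At) ≫ (f ▷ At) = lift (1 : At ⟶ A) (𝟙 At) := by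
    apply CartesianMonoidalCategory.hom_ext <;> simp [MonObj.one_comp f]
  have e2 : lift (1 : At ⟶ A') (𝟙 At) ≫ (A' ◁ ft) = ft ≫ lift (1 : A't ⟶ A') (𝟙 A't) := by
    apply CartesianMonoidalCategory.hom_ext <;> simp
  rw [hs, PicDesc21.pullCl_pullCl, PicDesc21.pullCl_pullCl, ← Over.comp_left, e1, ← Over.comp_left, e2,
    Over.comp_left, ← PicDesc21.pullCl_pullCl]
  exact t1.trans (PicDesc21.pullCl_trivial _ t2).symm

end Groth.Agent.S19521
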