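import Groth.Statements.S19522
import Mathlib.RingTheory.TensorProduct.Maps

set_option autoImplicit false
universe u
open TensorProduct
open GLin

namespace Groth.Agent.S19522

/-- Let k be a field, A a commutative k-bialgebra coacting multiplicatively on a commutative k-algebra
R, and χ ∈ A a group-like element with an inverse χ' (χχ' = 1). Suppose the polynomial ring R[t]
carries a multiplicative coaction which restricts to the given one on constants and sends t to t ⊗
χ'. Then g ∈ R[t] is coinvariant if and only if, for every r, its r-th coefficient has coaction g_r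
↦ g_r ⊗ χ^r; that is, the ring of invariants of R[t] is the sum over r ≥ 0 of the weight-χ^r
semi-invariants of R times t^r. (The published statement is phrased for an affine variety with an
action of a linear algebraic group over an algebraically closed field of characteristic zero and
identifies the invariants of X × A¹ with the graded ring of invariant sections of the powers of the
linearised trivial bundle; this is its coordinate-ring content, valid over any field.) -/
theorem result (k : Type u) [Field k]
    (A : Type u) [CommRing A] [Bialgebra k A]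
    (R : Type u) [CommRing R] [Algebra k R] [HopfRep.Comod k A R] [GLin.IsCoactAlg k A R]
    [HopfRep.Comod k A (Polynomial R)] [GLin.IsCoactAlg k A (Polynomial R)]
    (χ χ' : A) (hχ : CoalgebraStruct.comul (R := k) (A := A) χ = χ ⊗ₜ[k] χ)
    (hχε : CoalgebraStruct.counit (R := k) (A := A) χ = 1) (hχχ' : χ * χ' = 1)
    (hC : ∀ r : R, HopfRep.Comod.coact (k := k) (A := A) (Polynomial.C r) =
      Algebra.TensorProduct.map (Polynomial.CAlgHom : R →ₐ[k] Polynomial R) (AlgHom.id k A)
        (HopfRep.Comod.coact (k := k) (A := A) r))
    (hX : HopfRep.Comod.coact (k := k) (A := A) (Polynomial.X : Polynomial R) = Polynomial.X ⊗ₜ[k] χ')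
    (g : Polynomial R) :
    g ∈ GLin.invariants k A (Polynomial R) ↔
      ∀ r : ℕ, g.coeff r ∈ HopfRep.eigenspace k A R (χ ^ r) := by
  classical
  have hco : ∀ (q : Polynomial R) (n : ℕ),
      ((Polynomial.lcoeff R n).restrictScalars k).rTensor A (HopfRep.Comod.coact (k := k) (A := A) q) =
        HopfRep.Comod.coact (k := k) (A := A) (q.coeff n) * ((1 : R) ⊗ₜ[k] (χ' ^ n)) := by
    intro q n
    induction q using Polynomial.induction_on' with
    | add p q hp hq => simp only [map_add, Polynomial.coeff_add, add_mul, hp, hq]
    | monomial j c =>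
      have hXj : HopfRep.Comod.coact (k := k) (A := A) ((Polynomial.X : Polynomial R) ^ j) =
          (Polynomial.X ^ j) ⊗ₜ[k] (χ' ^ j) := by
        rw [← GLin.coactAlgHom_apply, map_pow, GLin.coactAlgHom_apply, hX, Algebra.TensorProduct.tmul_pow]
      rw [← Polynomial.C_mul_X_pow_eq_monomial, GLin.IsCoactAlg.coact_mul, hC, hXj, Polynomial.coeff_C_mul_X_pow]
      by_cases hnj : n = j
      · subst hnj
        rw [if_pos rfl]
        generalize HopfRep.Comod.coact (k := k) (A := A) c = t
        induction t with
        | zero => simp
        | add p q hp hq => simp only [map_add, add_mul, hp, hq]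
        | tmul p q => simp
      · rw [if_neg hnj, map_zero, zero_mul]
        generalize HopfRep.Comod.coact (k := k) (A := A) c = t
        induction t with
        | zero => simp
        | add p q hp hq => simp only [map_add, add_mul, hp, hq, add_zero]
        | tmul p q => simp [Polynomial.coeff_C_mul_X_pow, hnj]
  have hcancel : ∀ (r : ℕ), χ ^ r * χ' ^ r = 1 := fun r => by rw [← mul_pow, hχχ', one_pow]
  constructor
  · intro hg r
    have h := hco g r
    rw [show HopfRep.Comod.coact (k := k) (A := A) g = g ⊗ₜ[k] (1 : A) from hg] at h
    simp only [LinearMap.rTensor_tmul, LinearMap.restrictScalars_apply, Polynomial.lcoeff_apply] at h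
    show HopfRep.Comod.coact (k := k) (A := A) (g.coeff r) = g.coeff r ⊗ₜ[k] (χ ^ r)
    have h2 := congrArg (fun t => t * ((1 : R) ⊗ₜ[k] (χ ^ r))) h
    simp only [mul_assoc, Algebra.TensorProduct.tmul_mul_tmul, one_mul, mul_one, mul_comm (χ' ^ r), hcancel] at h2
    rw [← Algebra.TensorProduct.one_def, mul_one] at h2
    exact h2.symm
  · intro h
    show HopfRep.Comod.coact (k := k) (A := A) g = g ⊗ₜ[k] (1 : A)
    have hXj : ∀ j : ℕ, HopfRep.Comod.coact (k := k) (A := A) ((Polynomial.X : Polynomial R) ^ j) =
        (Polynomial.X ^ j) ⊗ₜ[k] (χ' ^ j) := fun j => by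
      rw [← GLin.coactAlgHom_apply, map_pow, GLin.coactAlgHom_apply, hX, Algebra.TensorProduct.tmul_pow]
    conv_lhs => rw [g.as_sum_support_C_mul_X_pow]
    conv_rhs => rw [g.as_sum_support_C_mul_X_pow]
    rw [map_sum, TensorProduct.sum_tmul]
    refine Finset.sum_congr rfl fun r _ => ?_
    rw [GLin.IsCoactAlg.coact_mul, hC, hXj, show HopfRep.Comod.coact (k := k) (A := A) (g.coeff r) = g.coeff r ⊗ₜ[k] (χ ^ r) from h r]
    simp [hcancel]

end Groth.Agent.S19522
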