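import Groth.Statements.S19523
import Groth.Agent.Lib.OrbitTop19.Smooth

set_option autoImplicit false
universe u
open CategoryTheory MonoidalCategory CartesianMonoidalCategory MonObj GrpObj AlgebraicGeometry
open AlgGrp

namespace Groth.Agent.S19523

set_option backward.isDefEq.respectTransparency.types false
open CategoryTheory.Limits Groth.Agent CategoryTheory.Functor.LaxMonoidal


/-- Let k be a field, G a smooth k-group scheme of finite type acting on a k-scheme X of finite type,
and x a rational point of X. The orbit of x, the image of the orbit map G → X, is locally closed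
(not restated here); if i : O → X is an immersion from a reduced scheme whose image is exactly the
orbit — the orbit with its reduced induced structure — then O is smooth over k. -/
theorem result (k : Type u) [Field k]
    (G X : Over (Spec (CommRingCat.of k))) [GrpObj G] [Smooth G.hom] [QuasiCompact G.hom]
    [LocallyOfFiniteType X.hom] [QuasiCompact X.hom] (a : AlgGrp.Action G X)
    (x : 𝟙_ (Over (Spec (CommRingCat.of k))) ⟶ X)
    (O : Scheme.{u}) (i : O ⟶ X.left) [IsImmersion i] [IsReduced O]
    (hO : Set.range i.base = Set.range (a.orbitMap x).left.base) : Smooth (i ≫ X.hom) := by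
  haveI := OrbitTop19.isReduced_of_smooth G.hom
  obtain ⟨g, hg⟩ := OrbitTop19.exists_lift_immersion (a.orbitMap x).left i hO.ge
  haveI : Surjective g := ⟨fun o => by
    obtain ⟨y, hy⟩ := hO.le ⟨o, rfl⟩
    refine ⟨y, i.isEmbedding.injective ?_⟩
    rw [← Scheme.Hom.comp_apply, hg]
    exact hy⟩
  haveI : LocallyOfFiniteType (i ≫ X.hom) := inferInstance
  let Ov : Over (Spec (CommRingCat.of k)) := Over.mk (i ≫ X.hom)
  let iv : Ov ⟶ X := Over.homMk i rfl
  let gv : G ⟶ Ov := Over.homMk g (by
    show g ≫ i ≫ X.hom = G.hom
    rw [reassoc_of% hg, Over.w])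
  have hgv : gv ≫ iv = a.orbitMap x := Over.OverMorphism.ext hg
  haveI : QuasiSeparated (i ≫ X.hom) := by
    haveI := LocallyOfFiniteType.isLocallyNoetherian (i ≫ X.hom)
    rw [quasiSeparated_iff_quasiSeparatedSpace]
    infer_instance
  haveI : QuasiCompact g := by
    haveI : QuasiCompact (g ≫ i ≫ X.hom) := by rw [reassoc_of% hg, Over.w]; infer_instance
    exact QuasiCompact.of_comp g (i ≫ X.hom)
  haveI : IsSchemeTheoreticallyDominant g := IsSchemeTheoreticallyDominant.of_isDominant g
  let φ := Spec.map (CommRingCat.ofHom (algebraMap k (AlgebraicClosure k)))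
  apply MorphismProperty.of_pullback_snd_of_descendsAlong
    (Q := @Surjective ⊓ @Flat ⊓ @QuasiCompact) (g := φ)
  · exact ⟨⟨inferInstance, inferInstance⟩, inferInstance⟩
  let F := Over.pullback φ
  letI : GrpObj (F.obj G) := Functor.grpObjObj
  haveI : LocallyOfFiniteType (F.obj G).hom := inferInstanceAs (LocallyOfFiniteType (pullback.snd G.hom φ))
  haveI : LocallyOfFiniteType (F.obj X).hom := inferInstanceAs (LocallyOfFiniteType (pullback.snd X.hom φ))
  haveI : Smooth (F.obj G).hom := inferInstanceAs (Smooth (pullback.snd G.hom φ))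
  haveI : IsReduced (F.obj G).left := OrbitTop19.isReduced_of_smooth (F.obj G).hom
  have pbO : ∀ {A B : Over (Spec (CommRingCat.of k))} (f : A ⟶ B),
      IsPullback (pullback.fst A.hom φ) (F.map f).left f.left (pullback.fst B.hom φ) := by
    intro A B f
    refine IsPullback.of_bot (v₂₁ := pullback.snd B.hom φ) (v₂₂ := B.hom) (h₃₁ := φ) ?_ ?_ ?_
    · have e2 : (F.map f).left ≫ pullback.snd B.hom φ = pullback.snd A.hom φ := pullback.lift_snd _ _ _
      rw [e2, Over.w f]
      exact IsPullback.of_hasPullback A.hom φ
    · exact (pullback.lift_fst _ _ _).symm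
    · exact IsPullback.of_hasPullback B.hom φ
  haveI : IsImmersion (F.map iv).left :=
    MorphismProperty.of_isPullback (P := @IsImmersion) (pbO iv) ‹IsImmersion i›
  haveI hfl : Flat (pullback.fst Ov.hom φ) := inferInstance
  haveI : QuasiCompact (F.map gv).left :=
    MorphismProperty.of_isPullback (P := @QuasiCompact) (pbO gv) ‹QuasiCompact g›
  haveI : IsSchemeTheoreticallyDominant (F.map gv).left := by
    have e := (pbO gv).isoPullback_hom_snd
    rw [← e]
    haveI : IsSchemeTheoreticallyDominant gv.left := ‹IsSchemeTheoreticallyDominant g›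
    haveI : QuasiCompact gv.left := ‹QuasiCompact g›
    infer_instance
  haveI : IsReduced (F.obj Ov).left := IsSchemeTheoreticallyDominant.isReduced (F.map gv).left
  refine OrbitTop19.smooth_of_isAlgClosed (OrbitTop19.mapAction F a) (ε F ≫ F.map x) (F.map iv) ?_
  rw [OrbitTop19.map_orbitMap, OrbitTop19.range_pullback_map, OrbitTop19.range_pullback_map]
  exact congrArg _ hO

end Groth.Agent.S19523
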