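import Groth.Statements.S1953
import Groth.Agent.Lib.Diag27.DiagCycle
-- import your own Groth.Agent.* helpers here

set_option autoImplicit false
universe u
open CategoryTheory CategoryTheory.Limits AlgebraicGeometry
attribute [local instance] HasDerivedCategory.standard
open IntMult

namespace Groth.Agent.S1953

/-- Let X be a proper nonsingular variety over K, α an r-cycle and β an s-cycle intersecting properly, Δ
⊆ X ×_K X the diagonal (as the prime cycle of its generic point) and α × β the exterior product,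
with dimension function δ₂ on X ×_K X. Then [Δ] and α × β intersect properly and pr_{1,*}([Δ] · (α ×
β)) = α · β coefficientwise, for any cycle on X ×_K X with the coefficients of [Δ] · (α × β). Here X
is a nonsingular variety over the algebraically closed field K (smooth, separated, quasi-compact,
integral) with dimension function δ (transcendence degree) and n = dim X; cycles are Mathlib
AlgebraicCycles with Cyc.Zk membership, proper intersection is IntMult.IntersectProperly and α · β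
is the Tor-formula intersection product on coefficient functions (IntMult.interProd), bundled where
needed as 'any cycle with these coefficients'. -/
theorem result (K : Type u) [Field K] [IsAlgClosed K] (X : Scheme.{u}) (f : X ⟶ Spec (CommRingCat.of K)) [Smooth f] [IsProper f] [IsIntegral X] (δ : X → ℤ) (hX : Cyc.IsSetup X δ) (hδ : Cyc.DeltaCompat f δ (fun _ => 0)) (n : ℤ) (hn : δ (genericPoint X) = n) (δ₂ : ↥(pullback f f) → ℤ) (h₂ : Cyc.DeltaCompat (pullback.fst f f ≫ f) δ₂ (fun _ => 0)) (h₂' : Cyc.DeltaCompat (pullback.fst f f) δ₂ δ) (r s : ℤ) (α β : AlgebraicCycle X ℤ) (hα : α ∈ Cyc.Zk X δ r) (hβ : β ∈ Cyc.Zk X δ s) (hprop : IntMult.IntersectProperly δ n ⇑α ⇑β) (γ : AlgebraicCycle (pullback f f) ℤ) (hγ : ⇑γ = IntMult.interProd δ₂ (n + n) (Set.indicator {pullback.diagonal f (genericPoint X)} 1) (IntMult.extProd f f δ δ δ₂ ⇑α ⇑β)) : IntMult.IntersectProperly δ₂ (n + n) (Set.indicator {pullback.diagonal f (genericPoint X)} 1) (IntMult.extProd f f δ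 δ δ₂ ⇑α ⇑β) ∧ ⇑(AlgebraicCycle.map (pullback.fst f f) δ₂ δ γ) = IntMult.interProd δ n ⇑α ⇑β := by
  classical
  set p := pullback.fst f f
  set q := pullback.snd f f
  set Δ := pullback.diagonal f
  set d := Δ (genericPoint X)
  have eX : ∀ x, δ x = (VarDim.sdim f x : ℤ) := fun x => Cyc26.delta_eq_sdim f hδ x
  have eZ : ∀ z, δ₂ z = (VarDim.sdim (p ≫ f) z : ℤ) := fun z => Cyc26.delta_eq_sdim _ h₂ z
  have hpΔ : ∀ x, p (Δ x) = x := fun x => by
    rw [← Scheme.Hom.comp_apply, pullback.diagonal_fst]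
    rfl
  have hqΔ : ∀ x, q (Δ x) = x := fun x => by
    rw [← Scheme.Hom.comp_apply, pullback.diagonal_snd]
    rfl
  have hΔd : ∀ x, δ₂ (Δ x) = δ x := fun x => by
    rw [eX, eZ, ← VarDim.sdim_comp_of_surjective (p ≫ f) Δ x]
    congr 2
    rw [← Category.assoc, pullback.diagonal_fst, Category.id_comp]
  have hdd : δ₂ d = n := (hΔd _).trans hn
  have hd : ∀ z, d ⤳ z → ∃ x, Δ x = z := fun z hz =>
    hz.mem_closed Δ.isClosedEmbedding.isClosed_range ⟨genericPoint X, rfl⟩
  choose w hwp hwq hwd hwz using fun a b : X => Diag27.exists_prod_gen f a b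
  have hwd' : ∀ a b, δ₂ (w a b) = δ a + δ b := fun a b => by rw [eZ, eX, eX, hwd, Nat.cast_add]
  have hext : ∀ z, IntMult.extProd f f δ δ δ₂ ⇑α ⇑β z ≠ 0 →
      z = w (p z) (q z) ∧ δ₂ z = δ (p z) + δ (q z) ∧ α (p z) ≠ 0 ∧ β (q z) ≠ 0 := fun z hz => by
    unfold IntMult.extProd at hz
    split_ifs at hz with h
    · refine ⟨?_, h, left_ne_zero_of_mul (left_ne_zero_of_mul hz), right_ne_zero_of_mul (left_ne_zero_of_mul hz)⟩
      obtain ⟨hh, -⟩ := hwz (p z) (q z) z rfl rfl specializes_rfl specializes_rfl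
      refine (Diag27.eq_of_sdim_le (p ≫ f) hh ?_).symm
      have := hwd' (p z) (q z)
      rw [← h, eZ, eZ] at this
      exact (Nat.cast_inj.1 this).le
    · exact absurd rfl hz
  have hval : ∀ a b, IntMult.extProd f f δ δ δ₂ ⇑α ⇑β (w a b) = α a * β b := fun a b => by
    obtain ⟨hh, e⟩ := hwz a b (w a b) (hwp a b) (hwq a b) specializes_rfl specializes_rfl
    rw [Diag27.genPrime_refl, Diag27.genPrime_refl] at e
    have hP : (IsLocalRing.maximalIdeal (X.presheaf.stalk (p (w a b)))).map (p.stalkMap (w a b)).hom ⊔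
        (IsLocalRing.maximalIdeal (X.presheaf.stalk (q (w a b)))).map (q.stalkMap (w a b)).hom =
          IsLocalRing.maximalIdeal ((pullback f f).presheaf.stalk (w a b)) := by
      obtain ⟨hh', e'⟩ := hwz a b (w a b) (x := p (w a b)) (y := q (w a b)) rfl rfl
        ((hwp a b).symm ▸ specializes_rfl) ((hwq a b).symm ▸ specializes_rfl)
      rw [Diag27.genPrime_congr (hwp a b).symm _ (specializes_refl _),
        Diag27.genPrime_congr (hwq a b).symm _ (specializes_refl _), Diag27.genPrime_refl, Diag27.genPrime_refl,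
        Diag27.genPrime_refl, Diag27.locMap, Diag27.locMap, TopCat.Presheaf.stalkSpecializes_refl,
        TopCat.Presheaf.stalkSpecializes_refl, Category.id_comp, Category.id_comp] at e'
      exact e'.symm
    haveI : IsSimpleModule ((pullback f f).presheaf.stalk (w a b))
        ((pullback f f).presheaf.stalk (w a b) ⧸ IsLocalRing.maximalIdeal ((pullback f f).presheaf.stalk (w a b))) :=
      isSimpleModule_iff_isCoatom.2 (IsLocalRing.maximalIdeal.isMaximal _).out
    show (if δ₂ (w a b) = δ (p (w a b)) + δ (q (w a b)) then _ else 0) = _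
    rw [if_pos (by rw [hwp, hwq, hwd']), hP, Module.length_eq_one, hwp, hwq]
    simp
  have hproper : IntMult.IntersectProperly δ₂ (n + n) (Set.indicator {d} 1) (IntMult.extProd f f δ δ δ₂ ⇑α ⇑β) := by
    intro ξ η ζ hξ hη hξζ hηζ
    obtain rfl : ξ = d := Set.eq_of_mem_singleton (Set.mem_of_indicator_ne_zero hξ)
    obtain ⟨x, rfl⟩ := hd ζ hξζ
    obtain ⟨-, he, ha, hb⟩ := hext η hη
    have h3 : p η ⤳ x := hpΔ x ▸ hηζ.map p.continuous
    have h4 : q η ⤳ x := hqΔ x ▸ hηζ.map q.continuous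
    have := hprop _ _ x ha hb h3 h4
    rw [hdd, he, hΔd]
    omega
  refine ⟨hproper, funext fun x => ?_⟩
  have hz0 : ∀ z, (∀ x, Δ x ≠ z) → γ z = 0 := fun z hz => by
    rw [congrFun hγ z]
    refine finsum_eq_zero_of_forall_eq_zero fun P => ?_
    by_contra hc
    have h1 : P.1.1 = d := Set.eq_of_mem_singleton (Set.mem_of_indicator_ne_zero (left_ne_zero_of_mul (left_ne_zero_of_mul hc)))
    obtain ⟨x, hx⟩ := hd z (h1 ▸ P.2.1)
    exact hz x hx
  rw [Cyc26.map_apply_eq_sum p δ₂ δ γ x {Δ x} (fun z hz => by rw [Finset.mem_singleton.1 hz, hpΔ])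
    (fun z hz hne _ => by
      by_contra hmem
      refine hne (hz0 z fun x' hx' => hmem ?_)
      subst hx'
      rw [hpΔ] at hz
      rw [hz]
      exact Finset.mem_singleton_self _),
    Finset.sum_singleton]
  have hdeg : p.residueDegree (Δ x) = 1 := by
    have h := Bivar12.residueDegree_comp' Δ p x
    rw [WeilH13.residueDegree_eq_one_of_surjectiveOnStalks Δ x, pullback.diagonal_fst,
      Scheme.Hom.residueDegree_id] at h
    simpa using h.symm
  rw [AlgebraicCycle.mapCoeff, if_pos (by rw [hpΔ, hΔd]), hdeg, Nat.cast_one, mul_one, congrFun hγ (Δ x)]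
  unfold IntMult.interProd
  have hw_le : ∀ a b, a ⤳ x → b ⤳ x → w a b ⤳ Δ x := fun a b ha hb => (hwz a b (Δ x) (hpΔ x) (hqΔ x) ha hb).1
  let e : {P : X × X // P.1 ⤳ x ∧ P.2 ⤳ x ∧ δ P.1 + δ P.2 - n = δ x} →
      {P : ↥(pullback f f) × ↥(pullback f f) // P.1 ⤳ Δ x ∧ P.2 ⤳ Δ x ∧ δ₂ P.1 + δ₂ P.2 - (n + n) = δ₂ (Δ x)} :=
    fun Q => ⟨(d, w Q.1.1 Q.1.2), (genericPoint_specializes x).map Δ.continuous, hw_le _ _ Q.2.1 Q.2.2.1, by
      have := Q.2.2.2
      show δ₂ d + δ₂ (w Q.1.1 Q.1.2) - (n + n) = δ₂ (Δ x)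
      rw [hdd, hwd', hΔd]
      omega⟩
  have einj : Function.Injective e := fun Q Q' h => by
    have h' : w Q.1.1 Q.1.2 = w Q'.1.1 Q'.1.2 := congrArg (fun P => P.1.2) h
    exact Subtype.ext (Prod.ext (((hwp _ _).symm.trans (congrArg p h')).trans (hwp _ _)) (((hwq _ _).symm.trans (congrArg q h')).trans (hwq _ _)))
  have key : ∀ P : {P : ↥(pullback f f) × ↥(pullback f f) //
      P.1 ⤳ Δ x ∧ P.2 ⤳ Δ x ∧ δ₂ P.1 + δ₂ P.2 - (n + n) = δ₂ (Δ x)},
      Set.indicator {d} (1 : ↥(pullback f f) → ℤ) P.1.1 * IntMult.extProd f f δ δ δ₂ ⇑α ⇑β P.1.2 *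
        IntMult.mult (IntMult.ptIdeal P.1.1) (IntMult.ptIdeal P.1.2) (Δ x) ≠ 0 → P ∈ Set.range e := fun P hP => by
    have h1 : P.1.1 = d := Set.eq_of_mem_singleton (Set.mem_of_indicator_ne_zero (left_ne_zero_of_mul (left_ne_zero_of_mul hP)))
    obtain ⟨hw', he, -, -⟩ := hext P.1.2 (right_ne_zero_of_mul (left_ne_zero_of_mul hP))
    have hd' := P.2.2.2
    have hd1 : δ₂ P.1.1 = n := by rw [h1, hdd]
    have hd2 := hΔd x
    have h3 : p P.1.2 ⤳ x := (P.2.2.1.map p.continuous).trans (specializes_of_eq (hpΔ x))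
    have h4 : q P.1.2 ⤳ x := (P.2.2.1.map q.continuous).trans (specializes_of_eq (hqΔ x))
    have h5 : δ (p P.1.2) + δ (q P.1.2) - n = δ x := by omega
    exact ⟨⟨(p P.1.2, q P.1.2), h3, h4, h5⟩,
      Subtype.ext (Prod.ext h1.symm hw'.symm)⟩
  rw [← finsum_mem_univ, finsum_mem_inter_support_eq _ Set.univ (Set.range e) (by
    ext P
    exact ⟨fun h => ⟨key P h.2, h.2⟩, fun h => ⟨trivial, h.2⟩⟩), finsum_mem_range einj]
  refine finsum_congr fun Q => ?_
  show Set.indicator {d} (1 : ↥(pullback f f) → ℤ) d * IntMult.extProd f f δ δ δ₂ ⇑α ⇑β (w Q.1.1 Q.1.2) *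
    IntMult.mult (IntMult.ptIdeal d) (IntMult.ptIdeal (w Q.1.1 Q.1.2)) (Δ x) = _
  rw [Set.indicator_of_mem (Set.mem_singleton d), hval,
    Diag27.mult_diag_prod f Q.2.1 Q.2.2.1 (hpΔ x) (hqΔ x) (hwz _ _ (Δ x) (hpΔ x) (hqΔ x) Q.2.1 Q.2.2.1)]
  simp

end Groth.Agent.S1953
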