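import Groth.Statements.S19530
import Groth.Agent.Lib.Subtr12.Basic


set_option autoImplicit false
universe u
open CategoryTheory CategoryTheory.Limits AlgebraicGeometry
open Subtr

namespace Groth.Agent.S19530

/-- Let f : X ⟶ Y be a morphism of schemes such that every base change of f has the lifting property for
ordered pairs of points (every point together with a specialization of it is the image of such a
pair). Then every finite chain of points y_0, y_1, …, y_n of Y, in which y_j is a specialization of
y_i whenever i ≤ j, lifts to a chain in X: there are points x_0, …, x_n of X with x_j a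
specialization of x_i for i ≤ j and f(x_i) = y_i for every i. (The published statement is for
universally subtrusive f, which adds submersiveness for the constructible topologies, and for
arbitrary chains having a lower bound in Y; this row keeps the pair-lifting property alone and
finite chains, whose most special member is a lower bound.) -/
theorem result {X Y : Scheme.{u}} (f : X ⟶ Y)
    (hf : Subtr.UnivSSubtrusive f) (n : ℕ) (y : Fin (n + 1) → Y)
    (hy : ∀ i j : Fin (n + 1), i ≤ j → y i ⤳ y j) :
    ∃ x : Fin (n + 1) → X, (∀ i j : Fin (n + 1), i ≤ j → x i ⤳ x j) ∧ ∀ i, f (x i) = y i := by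
  obtain ⟨L, _, B, b, p, hp, hpy, -⟩ := ValSq12.exists_chain n y hy
  obtain ⟨z, z', hz, h1, h2⟩ := Subtr12.isSSubtrusive_pullback hf b
    (y := IsLocalRing.closedPoint B) (y' := (⟨⊥, Ideal.isPrime_bot⟩ : PrimeSpectrum B))
    (IsLocalRing.specializes_closedPoint _)
  obtain ⟨W, _, _, _, m, hm⟩ := Subtr12.exists_valRing_surjective (pullback.snd f b) hz h1 h2
  haveI := hm
  obtain ⟨σ, hσ, hσ'⟩ := Subtr12.exists_section (m ≫ pullback.snd f b)
  refine ⟨fun i => (m ≫ pullback.fst f b) (σ (p i)),
    fun i j hij => (hσ' _ _ (hp i j hij)).map (m ≫ pullback.fst f b).continuous, fun i => ?_⟩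
  rw [← Scheme.Hom.comp_apply, Category.assoc, pullback.condition, ← Category.assoc,
    Scheme.Hom.comp_apply, hσ, hpy]


end Groth.Agent.S19530
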