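import Groth.Statements.S19532
import Groth.Agent.Lib.MonoExt1.Basic

set_option autoImplicit false
universe u
open CategoryTheory
open TFCurv

namespace Groth.Agent.S19532


section
open PowerSeries

theorem length_semilinear {R S M N : Type u} [CommRing R] [CommRing S] [AddCommGroup M] [Module R M]
    [AddCommGroup N] [Module S N] (σ : R →+* S) (hσ : Function.Surjective σ) (φ : M ≃+ N)
    (h : ∀ (r : R) (m : M), φ (r • m) = σ r • φ m) : Module.length R M = Module.length S N := by
  letI : Algebra R S := σ.toAlgebra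
  letI : Module R N := Module.compHom N σ
  haveI : IsScalarTower R S N :=
    IsScalarTower.of_algebraMap_smul fun _ _ => rfl
  rw [(LinearEquiv.length_eq (R := R) { φ with map_smul' := h } :)]
  exact Module.length_eq_of_surjective hσ

theorem length_of_ker_eq {R M Q : Type u} [CommRing R] [AddCommGroup M] [Module R M] [AddCommGroup Q]
    [Module R Q] (L : Submodule R M) (Ψ : M →ₗ[R] Q) (hΨ : Function.Surjective Ψ)
    (h : L = LinearMap.ker Ψ) : Module.length R (M ⧸ L) = Module.length R Q :=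
  ((Submodule.quotEquivOfEq _ _ h).trans (Ψ.quotKerEquivOfSurjective hΨ)).length_eq

theorem length_quot_X_pow (k : Type u) [Field k] (m : ℕ) :
    Module.length (PowerSeries k) (PowerSeries k ⧸ Ideal.span {(X : PowerSeries k) ^ m}) = (m : ℕ∞) := by
  have hA : Groth.Agent.MonoExt1.IsMonoRing (k := k) (PowerSeries k) (Set.univ : Set ℕ) :=
    ⟨fun _ _ h => h, fun f => ⟨fun _ _ _ => trivial, fun _ => ⟨f, rfl⟩⟩⟩
  have hU : Groth.Agent.MonoExt1.Closed (Set.univ : Set ℕ) Set.univ := fun _ _ _ _ => trivial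
  have hm : Groth.Agent.MonoExt1.Closed (Set.univ : Set ℕ) {p | m ≤ p} := fun s _ p hp => by
    simp only [Set.mem_ofPred_eq] at *; omega
  have hfin : (Set.univ \ {p | m ≤ p} : Set ℕ) = ↑(Finset.range m) := by ext p; simp
  let incl : PowerSeries k ≃ₗ[PowerSeries k]
      ↥(Groth.Agent.MonoExt1.mono (k := k) (PowerSeries k) (Set.univ : Set ℕ)) :=
    LinearEquiv.ofBijective (LinearMap.codRestrict _ LinearMap.id
        (fun f => (Groth.Agent.MonoExt1.mem_mono hA hU).2 fun _ _ => trivial))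
      ⟨fun f g h => congrArg Subtype.val h, fun f => ⟨f.1, rfl⟩⟩
  have hmap : Submodule.map incl.toLinearMap (Ideal.span {(X : PowerSeries k) ^ m}) =
      (Groth.Agent.MonoExt1.mono (k := k) (PowerSeries k) {p | m ≤ p}).comap
        (Groth.Agent.MonoExt1.mono (k := k) (PowerSeries k) Set.univ).subtype := by
    ext g
    rw [Submodule.mem_comap, Groth.Agent.MonoExt1.mem_mono hA hm]
    constructor
    · rintro ⟨f, hf, rfl⟩ p hp
      obtain ⟨u, rfl⟩ := Ideal.mem_span_singleton.1 hf
      show m ≤ p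
      by_contra hlt
      apply hp
      show coeff p (X ^ m * u) = 0
      rw [coeff_X_pow_mul', if_neg hlt]
    · intro h
      refine ⟨g.1, Ideal.mem_span_singleton.2 (PowerSeries.X_pow_dvd_iff.2 fun p hp => ?_), rfl⟩
      by_contra hne
      exact absurd (h p hne) (by simp only [Set.mem_ofPred_eq]; omega)
  rw [(Submodule.Quotient.equiv _ _ incl hmap).length_eq,
    Groth.Agent.MonoExt1.length_quot hA trivial m hm hU (Set.subset_univ _)
      (hfin ▸ Finset.finite_toSet _) (by rw [hfin, Set.ncard_coe_finset, Finset.card_range])]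

variable {k : Type u} [Field k] {A : Type u} [CommRing A] [Algebra A (PowerSeries k × PowerSeries k)]

/-- `A` is the ring of pairs of series which agree modulo `t^δ` -/
def IsTac (A : Type u) [CommRing A] [Algebra A (PowerSeries k × PowerSeries k)] (δ : ℕ) : Prop :=
  Function.Injective (algebraMap A (PowerSeries k × PowerSeries k)) ∧
    ∀ f : PowerSeries k × PowerSeries k,
      (∃ a : A, algebraMap A (PowerSeries k × PowerSeries k) a = f) ↔ X ^ δ ∣ f.1 - f.2

/-- the standard lattices -/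
noncomputable abbrev Lat (A : Type u) [CommRing A] [Algebra A (PowerSeries k × PowerSeries k)]
    (δ j : ℕ) : Submodule A (PowerSeries k × PowerSeries k) :=
  Submodule.span A ({((X : PowerSeries k) ^ j, (X : PowerSeries k) ^ j), ((X : PowerSeries k) ^ δ, 0)} :
    Set (PowerSeries k × PowerSeries k))

theorem mem_Lat {δ j : ℕ} (hA : IsTac (k := k) A δ) (hj : j ≤ δ) (g : PowerSeries k × PowerSeries k) :
    g ∈ Lat (k := k) A δ j ↔ X ^ j ∣ g.1 ∧ X ^ j ∣ g.2 ∧ X ^ δ ∣ g.1 - g.2 := by
  constructor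
  · intro h
    induction h using Submodule.span_induction with
    | mem x hx =>
      rcases hx with rfl | rfl
      · simp
      · exact ⟨pow_dvd_pow _ hj, dvd_zero _, by simp⟩
    | zero => simp
    | add x y _ _ hx hy =>
      exact ⟨dvd_add hx.1 hy.1, dvd_add hx.2.1 hy.2.1, by
        rw [show (x + y).1 - (x + y).2 = (x.1 - x.2) + (y.1 - y.2) by simp; ring]
        exact dvd_add hx.2.2 hy.2.2⟩
    | smul a x _ hx =>
      rw [Algebra.smul_def]
      refine ⟨dvd_mul_of_dvd_right hx.1 _, dvd_mul_of_dvd_right hx.2.1 _, ?_⟩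
      rw [Prod.fst_mul, Prod.snd_mul, show ∀ p q r s : PowerSeries k,
        p * r - q * s = (p - q) * r + q * (r - s) from fun p q r s => by ring]
      exact dvd_add (dvd_mul_of_dvd_left ((hA.2 _).1 ⟨a, rfl⟩) _) (dvd_mul_of_dvd_right hx.2.2 _)
  · rintro ⟨-, ⟨u, hu⟩, ⟨d, hd⟩⟩
    obtain ⟨a, ha⟩ := (hA.2 (u, u)).2 (by simp)
    obtain ⟨b, hb⟩ := (hA.2 (d, d)).2 (by simp)
    have : g = a • ((X : PowerSeries k) ^ j, (X : PowerSeries k) ^ j) + b • ((X : PowerSeries k) ^ δ, 0) := by
      rw [Algebra.smul_def, Algebra.smul_def, ha, hb]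
      ext1
      · simp; linear_combination hd + hu
      · simp; linear_combination hu
    rw [this]
    exact add_mem (Submodule.smul_mem _ _ (Submodule.subset_span (Or.inl rfl)))
      (Submodule.smul_mem _ _ (Submodule.subset_span (Or.inr rfl)))

theorem dvd_cancel {a b : ℕ} {f : PowerSeries k} (h : (X : PowerSeries k) ^ (a + b) ∣ X ^ a * f) :
    X ^ b ∣ f := by
  rwa [pow_add, mul_dvd_mul_iff_left (pow_ne_zero _ X_ne_zero)] at h

set_option maxHeartbeats 1600000 in
theorem length_ext_lat {δ i j : ℕ} (hA : IsTac (k := k) A δ) (hi : i ≤ δ) (hj : j ≤ δ) :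
    Module.length A (CategoryTheory.Abelian.Ext (ModuleCat.of A ↥(Lat (k := k) A δ i))
      (ModuleCat.of A ↥(Lat (k := k) A δ j)) 1) = ((2 * min i j : ℕ) : ℕ∞) := by
  classical
  let ι : A →+* PowerSeries k × PowerSeries k := algebraMap A (PowerSeries k × PowerSeries k)
  let v : Fin 2 → PowerSeries k × PowerSeries k := ![(X ^ i, X ^ i), (X ^ δ, 0)]
  have hvM : ∀ l, v l ∈ Lat (k := k) A δ i := Fin.forall_fin_two.2
    ⟨Submodule.subset_span (Or.inl rfl), Submodule.subset_span (Or.inr rfl)⟩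
  let π : (Fin 2 → A) →ₗ[A] ↥(Lat (k := k) A δ i) :=
    Fintype.linearCombination A (fun l => (⟨v l, hvM l⟩ : ↥(Lat (k := k) A δ i)))
  have hπc : ∀ a, (π a : PowerSeries k × PowerSeries k) = ι (a 0) * v 0 + ι (a 1) * v 1 := fun a => by
    simp [π, Fintype.linearCombination_apply, Fin.sum_univ_two, Algebra.smul_def, ι]
  have hπ : Function.Surjective π := by
    intro x
    obtain ⟨a, b, hab⟩ := Submodule.mem_span_pair.1 x.2
    refine ⟨![a, b], Subtype.ext ?_⟩
    rw [hπc, ← hab]
    simp [v, Algebra.smul_def, ι]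
  set K := LinearMap.ker π with hK
  obtain ⟨ε⟩ := Groth.Agent.T2Ext3.nonempty_coker_equiv_ext K.subtype π
    (LinearMap.exact_subtype_ker_map π) hπ ↥(Lat (k := k) A δ j) (fun φ z hz => by
      rw [show z = 0 from Subtype.ext hz, map_zero])
  rw [← ε.length_eq]
  have hKrel : ∀ a : Fin 2 → A, a ∈ K ↔
      (ι (a 0)).1 * X ^ i + (ι (a 1)).1 * X ^ δ = 0 ∧ (ι (a 0)).2 = 0 := by
    intro a
    rw [hK, LinearMap.mem_ker, ← Submodule.coe_eq_zero, hπc, Prod.ext_iff]
    simp [v]
  have hdiv : ∀ a ∈ K, X ^ i ∣ (ι (a 1)).1 ∧ X ^ i ∣ (ι (a 1)).2 := by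
    intro a ha
    obtain ⟨h1, h2⟩ := (hKrel a).1 ha
    obtain ⟨d, hd⟩ := (hA.2 _).1 ⟨a 0, rfl⟩
    change (ι (a 0)).1 - (ι (a 0)).2 = _ at hd
    rw [h2, sub_zero] at hd
    have h3 : X ^ i ∣ (ι (a 1)).1 := ⟨-d, by
      refine mul_right_cancel₀ (pow_ne_zero δ (X_ne_zero (R := k))) ?_
      rw [hd] at h1
      linear_combination h1⟩
    refine ⟨h3, ?_⟩
    have h4 : X ^ i ∣ (ι (a 1)).1 - (ι (a 1)).2 :=
      dvd_trans (pow_dvd_pow _ hi) ((hA.2 _).1 ⟨a 1, rfl⟩)
    simpa using dvd_sub h3 h4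
  -- the test relation
  obtain ⟨w0, hw0⟩ := (hA.2 (-(X : PowerSeries k) ^ δ, 0)).2 (by simp)
  obtain ⟨w1, hw1⟩ := (hA.2 ((X : PowerSeries k) ^ i, (X : PowerSeries k) ^ i)).2 (by simp)
  obtain ⟨dA, hdA⟩ := (hA.2 ((X : PowerSeries k) ^ δ, 0)).2 (by simp)
  let w : K := ⟨![w0, w1], (hKrel _).2 ⟨by simp [ι, hw0, hw1]; ring, by simp [ι, hw0]⟩⟩
  have hkey : ∀ (φ : K →ₗ[A] ↥(Lat (k := k) A δ j)) (a : K),
      ((X ^ i, X ^ i) : PowerSeries k × PowerSeries k) * (φ a : PowerSeries k × PowerSeries k) =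
        ι ((a : Fin 2 → A) 1) * (φ w : PowerSeries k × PowerSeries k) := by
    intro φ a
    obtain ⟨h1, h2⟩ := (hKrel _).1 a.2
    have h3 : w1 • a = (a : Fin 2 → A) 1 • w := by
      apply Subtype.ext
      funext l
      revert l
      refine Fin.forall_fin_two.2 ⟨?_, ?_⟩
      · apply hA.1
        simp only [Submodule.coe_smul, Pi.smul_apply, smul_eq_mul, map_mul, w, Matrix.cons_val_zero,
          hw0, hw1]
        ext1
        · simp only [Prod.fst_mul]; linear_combination h1
        · have h2' : (algebraMap A (PowerSeries k × PowerSeries k) ((a : Fin 2 → A) 0)).2 = 0 := h2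
          simp only [Prod.snd_mul, h2']; simp
      · simp [w, mul_comm]
    have h4 := congrArg (fun x : K => (φ x : PowerSeries k × PowerSeries k)) h3
    simpa [map_smul, Algebra.smul_def, hw1, ι] using h4
  let G : Submodule A (PowerSeries k × PowerSeries k) :=
    { carrier := {g | g ∈ Lat (k := k) A δ j ∧ X ^ i ∣ g.1}
      zero_mem' := ⟨Submodule.zero_mem _, by simp⟩
      add_mem' := fun hg hg' => ⟨Submodule.add_mem _ hg.1 hg'.1, dvd_add hg.2 hg'.2⟩
      smul_mem' := fun a g hg => ⟨Submodule.smul_mem _ a hg.1, by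
        rw [Algebra.smul_def, Prod.fst_mul]; exact dvd_mul_of_dvd_right hg.2 _⟩ }
  let J : Submodule A (PowerSeries k × PowerSeries k) :=
    (Lat (k := k) A δ j).map (LinearMap.mulLeft A ((X ^ i, X ^ i) : PowerSeries k × PowerSeries k)) ⊔
      (Lat (k := k) A δ j).map (LinearMap.mulLeft A ((X ^ δ, 0) : PowerSeries k × PowerSeries k))
  have hJG : J ≤ G := by
    refine sup_le ?_ ?_ <;> rintro _ ⟨n, hn, rfl⟩
    · refine ⟨?_, dvd_mul_right _ _⟩
      show (X ^ i, X ^ i) * n ∈ _
      rw [← hw1, ← Algebra.smul_def]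
      exact Submodule.smul_mem _ _ hn
    · refine ⟨?_, dvd_mul_of_dvd_left (pow_dvd_pow _ hi) _⟩
      show (X ^ δ, 0) * n ∈ _
      rw [← hdA, ← Algebra.smul_def]
      exact Submodule.smul_mem _ _ hn
  have hval : ∀ φ : K →ₗ[A] ↥(Lat (k := k) A δ j), (φ w : PowerSeries k × PowerSeries k) ∈ G := by
    intro φ
    refine ⟨(φ w).2, ?_⟩
    obtain ⟨t0, ht0⟩ := (hA.2 (-(X : PowerSeries k) ^ (δ + (δ - i)), 0)).2
      (by simpa using pow_dvd_pow (X : PowerSeries k) (Nat.le_add_right δ (δ - i)))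
    have ht : (![t0, dA] : Fin 2 → A) ∈ K := (hKrel _).2 ⟨by
      simp [ι, ht0, hdA, ← pow_add, show δ + (δ - i) + i = δ + δ by omega], by simp [ι, ht0]⟩
    have h := hkey φ ⟨_, ht⟩
    simp only [Matrix.cons_val_one, Matrix.cons_val_fin_one, ι, hdA] at h
    obtain ⟨h1, h2, ⟨d, h3⟩⟩ := (mem_Lat hA hj _).1 (φ ⟨_, ht⟩).2
    have e1 := congrArg Prod.fst h
    have e2 := congrArg Prod.snd h
    simp at e1 e2
    rw [e2, sub_zero] at h3
    refine ⟨d, ?_⟩
    apply mul_left_cancel₀ (pow_ne_zero δ (X_ne_zero (R := k)))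
    rw [← e1, h3]
    ring
  let Φ : (K →ₗ[A] ↥(Lat (k := k) A δ j)) →ₗ[A] ↥G :=
    LinearMap.codRestrict G ((Lat (k := k) A δ j).subtype ∘ₗ LinearMap.applyₗ' A w) hval
  let Ψ := (J.comap G.subtype).mkQ.comp Φ
  have hΦ : Function.Surjective Φ := by
    intro g
    obtain ⟨⟨hgN, hg1⟩⟩ := (⟨g.2⟩ : PLift ((g : PowerSeries k × PowerSeries k) ∈ G))
    obtain ⟨hj1, hj2, hj3⟩ := (mem_Lat hA hj _).1 hgN
    have hex : ∀ a : K, ∃ h : ↥(Lat (k := k) A δ j),
        ((X ^ i, X ^ i) : PowerSeries k × PowerSeries k) * (h : PowerSeries k × PowerSeries k) =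
          ι ((a : Fin 2 → A) 1) * g := by
      intro a
      obtain ⟨⟨p, hp⟩, ⟨q, hq⟩⟩ := hdiv _ a.2
      refine ⟨⟨(p * (g : PowerSeries k × PowerSeries k).1, q * (g : PowerSeries k × PowerSeries k).2),
        (mem_Lat hA hj _).2 ⟨dvd_mul_of_dvd_right hj1 _, dvd_mul_of_dvd_right hj2 _, ?_⟩⟩, ?_⟩
      · have h1 : (X : PowerSeries k) ^ (δ - i) ∣ p - q := by
          apply dvd_cancel (a := i)
          rw [show i + (δ - i) = δ by omega, mul_sub, ← hp, ← hq]
          exact (hA.2 _).1 ⟨_, rfl⟩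
        have h2 : (X : PowerSeries k) ^ δ ∣ (p - q) * (g : PowerSeries k × PowerSeries k).1 := by
          have h3 := mul_dvd_mul h1 hg1
          rwa [← pow_add, show δ - i + i = δ by omega] at h3
        rw [show ∀ r s : PowerSeries k, p * r - q * s = (p - q) * r + q * (r - s) from
          fun r s => by ring]
        exact dvd_add h2 (dvd_mul_of_dvd_right hj3 _)
      · ext1
        · simp [hp]; ring
        · simp [hq]; ring
    choose σ hσ using hex
    have hne : ∀ x y : PowerSeries k × PowerSeries k,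
        ((X ^ i, X ^ i) : PowerSeries k × PowerSeries k) * x = (X ^ i, X ^ i) * y → x = y := fun x y h =>
      Prod.ext (mul_left_cancel₀ (pow_ne_zero i (X_ne_zero (R := k))) (congrArg Prod.fst h))
        (mul_left_cancel₀ (pow_ne_zero i (X_ne_zero (R := k))) (congrArg Prod.snd h))
    let φ : K →ₗ[A] ↥(Lat (k := k) A δ j) :=
      { toFun := σ
        map_add' := fun a b => Subtype.ext (hne _ _ (by
          simp only [hσ, Submodule.coe_add, mul_add, Pi.add_apply, map_add, add_mul]))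
        map_smul' := fun t a => Subtype.ext (hne _ _ (by
          simp only [hσ, RingHom.id_apply, Submodule.coe_smul, Pi.smul_apply, smul_eq_mul, map_mul,
            Algebra.smul_def (A := PowerSeries k × PowerSeries k)]
          rw [mul_left_comm (((X ^ i, X ^ i)) : PowerSeries k × PowerSeries k), hσ]
          simp [ι, mul_assoc])) }
    refine ⟨φ, Subtype.ext ?_⟩
    show (σ w : PowerSeries k × PowerSeries k) = g
    refine hne _ _ ?_
    rw [hσ]
    simp [w, ι, hw1]
  have hres : ∀ f : (Fin 2 → A) →ₗ[A] ↥(Lat (k := k) A δ j),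
      (f (w : Fin 2 → A) : PowerSeries k × PowerSeries k) =
        (X ^ i, X ^ i) * (f (Pi.single 1 1) : PowerSeries k × PowerSeries k) -
          (X ^ δ, 0) * (f (Pi.single 0 1) : PowerSeries k × PowerSeries k) := by
    intro f
    have h : (w : Fin 2 → A) = w0 • Pi.single 0 1 + w1 • Pi.single 1 1 := by
      funext l
      revert l
      refine Fin.forall_fin_two.2 ⟨?_, ?_⟩ <;> simp [w, Pi.single_apply]
    rw [h, map_add, map_smul, map_smul, Submodule.coe_add, Submodule.coe_smul, Submodule.coe_smul,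
      Algebra.smul_def, Algebra.smul_def, hw0, hw1]
    ext1 <;> simp <;> ring
  have hkerΨ : LinearMap.range (LinearMap.lcomp A ↥(Lat (k := k) A δ j) K.subtype) = LinearMap.ker Ψ := by
    apply le_antisymm
    · rintro _ ⟨f, rfl⟩
      refine (Submodule.Quotient.mk_eq_zero _).2 ?_
      show (f (w : Fin 2 → A) : PowerSeries k × PowerSeries k) ∈ J
      rw [hres]
      exact sub_mem (Submodule.mem_sup_left ⟨_, (f (Pi.single 1 1)).2, rfl⟩)
        (Submodule.mem_sup_right ⟨_, (f (Pi.single 0 1)).2, rfl⟩)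
    · intro φ hφ
      have hmem : (φ w : PowerSeries k × PowerSeries k) ∈ J :=
        (Submodule.Quotient.mk_eq_zero (J.comap G.subtype)).1 (LinearMap.mem_ker.1 hφ)
      obtain ⟨_, ⟨n1, hn1, rfl⟩, _, ⟨n0, hn0, rfl⟩, hsum⟩ := Submodule.mem_sup.1 hmem
      let f : (Fin 2 → A) →ₗ[A] ↥(Lat (k := k) A δ j) :=
        Fintype.linearCombination A ![-⟨n0, hn0⟩, ⟨n1, hn1⟩]
      have hf : (f.comp K.subtype) w = φ w := Subtype.ext (by
        show (f (w : Fin 2 → A) : PowerSeries k × PowerSeries k) = _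
        rw [hres, ← hsum]
        simp [f, Fintype.linearCombination_apply_single, LinearMap.mulLeft_apply]
        )
      refine ⟨f, LinearMap.ext fun a => Subtype.ext ?_⟩
      have e1 := hkey φ a
      have e2 := hkey (f.comp K.subtype) a
      rw [hf, ← e1] at e2
      exact Prod.ext (mul_left_cancel₀ (pow_ne_zero i (X_ne_zero (R := k))) (congrArg Prod.fst e2))
        (mul_left_cancel₀ (pow_ne_zero i (X_ne_zero (R := k))) (congrArg Prod.snd e2))
  have hΨ : Function.Surjective Ψ := (Submodule.mkQ_surjective _).comp hΦ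
  refine (length_of_ker_eq _ Ψ hΨ hkerΨ).trans ?_
  -- the two halves
  have hGm : ∀ z : ↥G, G.subtype z ∈ G := fun z => z.2
  let W : Submodule A (PowerSeries k × PowerSeries k) :=
    { carrier := {g | g ∈ G ∧ X ^ (i + j) ∣ g.1}
      zero_mem' := ⟨G.zero_mem, by simp⟩
      add_mem' := fun hg hg' => ⟨G.add_mem hg.1 hg'.1, dvd_add hg.2 hg'.2⟩
      smul_mem' := fun a g hg => ⟨G.smul_mem a hg.1, by
        rw [Algebra.smul_def, Prod.fst_mul]; exact dvd_mul_of_dvd_right hg.2 _⟩ }
  have hJW : J ≤ W := fun g hg => ⟨hJG hg, by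
    obtain ⟨_, ⟨n1, hn1, rfl⟩, _, ⟨n0, hn0, rfl⟩, rfl⟩ := Submodule.mem_sup.1 hg
    simp only [LinearMap.mulLeft_apply, Prod.fst_add, Prod.fst_mul]
    refine dvd_add ?_ ?_
    · rw [pow_add]; exact mul_dvd_mul_left _ ((mem_Lat hA hj _).1 hn1).1
    · rw [pow_add]; exact mul_dvd_mul (pow_dvd_pow _ hi) ((mem_Lat hA hj _).1 hn0).1⟩
  rw [Groth.Agent.MonoExt1.length_trans J W G hJW (fun g hg => hg.1), two_mul, Nat.cast_add]
  have hproj : ∀ p : PowerSeries k, ∃ a : A, ι a = (p, p) := fun p => (hA.2 (p, p)).2 (by simp)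
  let M := max i j
  let m := min i j
  have hMm : M + m = i + j := max_add_min i j
  congr 1
  · -- second branch
    let ψ : PowerSeries k →+ ↥W ⧸ J.comap W.subtype :=
      { toFun := fun d => Submodule.Quotient.mk ⟨(0, X ^ δ * d), ⟨(mem_Lat hA hj _).2
            ⟨dvd_zero _, dvd_mul_of_dvd_left (pow_dvd_pow _ hj) _, by simp⟩, dvd_zero _⟩, dvd_zero _⟩
        map_zero' := (Submodule.Quotient.mk_eq_zero _).2 (by simp; exact Submodule.zero_mem _)
        map_add' := fun d d' => by
          rw [← Submodule.Quotient.mk_add]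
          exact congrArg Submodule.Quotient.mk (Subtype.ext (by simp [mul_add])) }
    have hψs : Function.Surjective ψ := by
      intro y
      obtain ⟨⟨g, ⟨hgN, hg1⟩, s, hs⟩, rfl⟩ := Submodule.mkQ_surjective _ y
      obtain ⟨hj1, ⟨q, hq⟩, hj3⟩ := (mem_Lat hA hj _).1 hgN
      obtain ⟨b, hb⟩ := hproj s
      have hc : X ^ δ ∣ g.2 - X ^ (i + j) * s := by
        rw [← hs]; exact dvd_sub_comm.1 hj3
      obtain ⟨d, hd⟩ := hc
      refine ⟨d, (Submodule.Quotient.eq _).2 (Submodule.mem_sup_left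
        ⟨-((X ^ j * s, X ^ j * s) : PowerSeries k × PowerSeries k), ?_, ?_⟩)⟩
      · exact neg_mem ((mem_Lat hA hj _).2 ⟨dvd_mul_right _ _, dvd_mul_right _ _, by simp⟩)
      · ext1
        · simp [hs, pow_add]; ring
        · simp only [Submodule.subtype_apply, AddSubgroupClass.coe_sub, Prod.snd_sub,
            LinearMap.mulLeft_apply, Prod.snd_mul, Prod.snd_neg]
          rw [pow_add] at hd
          linear_combination hd
    have hψk : ∀ d, ψ d = 0 ↔ d ∈ Ideal.span {(X : PowerSeries k) ^ m} := by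
      intro d
      rw [Ideal.mem_span_singleton]
      refine (Submodule.Quotient.mk_eq_zero _).trans ?_
      constructor
      · intro h
        obtain ⟨_, ⟨n1, hn1, rfl⟩, _, ⟨n0, hn0, rfl⟩, he⟩ := Submodule.mem_sup.1 h
        obtain ⟨a1, a2, a3⟩ := (mem_Lat hA hj _).1 hn1
        obtain ⟨b1, b2, b3⟩ := (mem_Lat hA hj _).1 hn0
        have e1 := congrArg Prod.fst he
        have e2 := congrArg Prod.snd he
        simp at e1 e2
        have h1 : X ^ (δ + i) ∣ X ^ i * (n1.1 - n1.2) := by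
          rw [add_comm δ, pow_add]; exact mul_dvd_mul_left _ a3
        rw [show X ^ i * (n1.1 - n1.2) = X ^ δ * (-n0.1 - d) by linear_combination e1 - e2] at h1
        have h2 := dvd_cancel h1
        have h3 : X ^ m ∣ -n0.1 - d := dvd_trans (pow_dvd_pow _ (min_le_left i j)) h2
        have h4 : X ^ m ∣ -n0.1 := dvd_neg.2 (dvd_trans (pow_dvd_pow _ (min_le_right i j)) b1)
        simpa using dvd_sub h4 h3
      · rintro hd
        obtain ⟨x, hx1, hx2⟩ : ∃ x : PowerSeries k, X ^ j ∣ x ∧ X ^ i ∣ x - d := by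
          rcases le_total i j with h | h
          · exact ⟨0, dvd_zero _, by simpa [m, min_eq_left h] using hd⟩
          · exact ⟨d, by simpa [m, min_eq_right h] using hd, by simp⟩
        refine Submodule.mem_sup.2 ⟨_, ⟨(X ^ (δ - i) * x, X ^ (δ - i) * d), ?_, rfl⟩,
          _, ⟨((-x, -x) : PowerSeries k × PowerSeries k), ?_, rfl⟩, ?_⟩
        · refine (mem_Lat hA hj _).2 ⟨dvd_mul_of_dvd_right hx1 _, ?_, ?_⟩
          · refine dvd_trans ?_ (mul_dvd_mul_left _ hd)
            rw [← pow_add]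
            exact pow_dvd_pow _ (by omega)
          · rw [← mul_sub]
            have := mul_dvd_mul_left ((X : PowerSeries k) ^ (δ - i)) hx2
            rwa [← pow_add, show δ - i + i = δ by omega] at this
        · exact (mem_Lat hA hj _).2 ⟨dvd_neg.2 hx1, dvd_neg.2 hx1, by simp⟩
        · have hp : (X : PowerSeries k) ^ i * X ^ (δ - i) = X ^ δ := by
            rw [← pow_add, Nat.add_sub_cancel' hi]
          ext1
          · simp; linear_combination x * hp
          · simp; linear_combination d * hp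
    have hker : (Ideal.span {(X : PowerSeries k) ^ m}).toAddSubgroup = ψ.ker := by
      ext d; exact (hψk d).symm
    let ee : (PowerSeries k ⧸ Ideal.span {(X : PowerSeries k) ^ m}) ≃+ (↥W ⧸ J.comap W.subtype) :=
      (QuotientAddGroup.quotientAddEquivOfEq hker).trans
        (QuotientAddGroup.quotientKerEquivOfSurjective ψ hψs)
    rw [length_semilinear (((RingHom.snd _ _).comp ι))
      (fun p => by obtain ⟨a, ha⟩ := hproj p; exact ⟨a, by simp [ha]⟩) ee.symm ?_, length_quot_X_pow]
    intro a y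
    obtain ⟨d, rfl⟩ := hψs y
    have h1 : ∀ d, ee (Ideal.Quotient.mk _ d) = ψ d := fun d => rfl
    rw [AddEquiv.symm_apply_eq, ← h1 d, ee.symm_apply_apply]
    show _ = ee (Ideal.Quotient.mk _ ((ι a).2 * d))
    rw [h1, h1]
    exact congrArg Submodule.Quotient.mk (Subtype.ext (by
      ext1 <;> simp [Algebra.smul_def, ι]; ring))
  · -- first branch
    let χ : PowerSeries k →+ ↥G ⧸ W.comap G.subtype :=
      { toFun := fun p => Submodule.Quotient.mk ⟨(X ^ M * p, X ^ M * p), (mem_Lat hA hj _).2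
          ⟨dvd_mul_of_dvd_left (pow_dvd_pow _ (le_max_right i j)) _,
            dvd_mul_of_dvd_left (pow_dvd_pow _ (le_max_right i j)) _, by simp⟩,
          dvd_mul_of_dvd_left (pow_dvd_pow _ (le_max_left i j)) _⟩
        map_zero' := (Submodule.Quotient.mk_eq_zero _).2 (by simp; exact Submodule.zero_mem _)
        map_add' := fun d d' => by
          rw [← Submodule.Quotient.mk_add]
          exact congrArg Submodule.Quotient.mk (Subtype.ext (by simp [mul_add])) }
    have hGdiv : ∀ g ∈ G, X ^ M ∣ g.1 := fun g hg => by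
      rcases le_total i j with h | h
      · rw [show M = j from max_eq_right h]; exact ((mem_Lat hA hj _).1 hg.1).1
      · rw [show M = i from max_eq_left h]; exact hg.2
    have hχs : Function.Surjective χ := by
      intro y
      obtain ⟨⟨g, hg⟩, rfl⟩ := Submodule.mkQ_surjective _ y
      obtain ⟨p, hp⟩ := hGdiv g hg
      refine ⟨p, (Submodule.Quotient.eq _).2 ?_⟩
      refine Submodule.mem_comap.2 ⟨?_, ?_⟩
      · exact (hGm _)
      · simp [hp]
    have hχk : ∀ p, χ p = 0 ↔ p ∈ Ideal.span {(X : PowerSeries k) ^ m} := by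
      intro p
      rw [Ideal.mem_span_singleton]
      refine (Submodule.Quotient.mk_eq_zero _).trans ?_
      constructor
      · intro h
        have h2 : X ^ (i + j) ∣ X ^ M * p := h.2
        rw [← hMm] at h2
        exact dvd_cancel h2
      · intro h
        refine ⟨hGm _, ?_⟩
        rw [← hMm, pow_add]
        exact mul_dvd_mul_left _ h
    have hker : (Ideal.span {(X : PowerSeries k) ^ m}).toAddSubgroup = χ.ker := by
      ext d; exact (hχk d).symm
    let ee : (PowerSeries k ⧸ Ideal.span {(X : PowerSeries k) ^ m}) ≃+ (↥G ⧸ W.comap G.subtype) :=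
      (QuotientAddGroup.quotientAddEquivOfEq hker).trans
        (QuotientAddGroup.quotientKerEquivOfSurjective χ hχs)
    rw [length_semilinear (((RingHom.fst _ _).comp ι))
      (fun p => by obtain ⟨a, ha⟩ := hproj p; exact ⟨a, by simp [ha]⟩) ee.symm ?_, length_quot_X_pow]
    intro a y
    obtain ⟨d, rfl⟩ := hχs y
    have h1 : ∀ d, ee (Ideal.Quotient.mk _ d) = χ d := fun d => rfl
    rw [AddEquiv.symm_apply_eq, ← h1 d, ee.symm_apply_apply]
    show _ = ee (Ideal.Quotient.mk _ ((ι a).1 * d))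
    rw [h1, h1]
    refine (Submodule.Quotient.eq _).2 ⟨(hGm _), ?_⟩
    simp [Algebra.smul_def, ι, mul_left_comm]

end


/-- Let k be an algebraically closed field of characteristic zero, δ ≥ 1, and O ⊂ k[[t]] × k[[t]] the
complete local ring of the simple plane curve singularity A_{2δ−1} (two smooth branches with contact
of order δ, y² = x^{2δ}), namely the k-subalgebra of all pairs (f, g) of power series with f − g
divisible by t^δ. For 0 ≤ j ≤ δ let I_j ⊂ k[[t]] × k[[t]] be the O-submodule generated by (t^j, t^j)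
and (t^δ, 0), so that I_0 = O and I_δ is the conductor; the I_j represent the rank-one torsion-free
O-modules M_j. Then for all 0 ≤ i, j ≤ δ the O-module Ext¹_O(I_i, I_j) has length 2·min(i, j)
(length over O equals k-dimension here). (The one-branch case n = 2δ of the published lemma is
stated separately.) -/
theorem result (k : Type u) [Field k] [IsAlgClosed k] [CharZero k] (δ : ℕ) (hδ : 1 ≤ δ) (O : Subalgebra k (PowerSeries k × PowerSeries k)) (hO : ∀ f : (PowerSeries k × PowerSeries k), f ∈ O ↔ (δ : ℕ∞) ≤ PowerSeries.order (f.1 - f.2)) (i j : ℕ) (hi : i ≤ δ) (hj : j ≤ δ) : Module.length ↥O (Abelian.Ext (ModuleCat.of ↥O ↥(Submodule.span ↥O ({((PowerSeries.X : PowerSeries k) ^ i, (PowerSeries.X : PowerSeries k) ^ i), ((PowerSeries.X : PowerSeries k) ^ δ, 0)} : Set (PowerSeries k × PowerSeries k)))) (ModuleCat.of ↥O ↥(Submodule.span ↥O ({((PowerSeries.X : PowerSeries k) ^ j, (PowerSeries.X : PowerSeries k) ^ j), ((PowerSeries.X : PowerSeries k) ^ δ, 0)} : Set (PowerSeries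 k × PowerSeries k)))) 1) = ((2 * min i j : ℕ) : ℕ∞) := by
  refine length_ext_lat (A := ↥O) (k := k) ⟨fun _ _ h => Subtype.ext h, fun f => ?_⟩ hi hj
  have hord : ∀ g : PowerSeries k, (δ : ℕ∞) ≤ PowerSeries.order g ↔ PowerSeries.X ^ δ ∣ g := fun g =>
    ⟨fun h => PowerSeries.X_pow_dvd_iff.2 fun m hm =>
      PowerSeries.coeff_of_lt_order m (lt_of_lt_of_le (by exact_mod_cast hm) h),
      fun h => PowerSeries.nat_le_order _ _ fun m hm => PowerSeries.X_pow_dvd_iff.1 h m hm⟩
  exact ⟨fun ⟨a, ha⟩ => (hord _).1 ((hO f).1 (ha ▸ a.2)), fun h => ⟨⟨f, (hO f).2 ((hord _).2 h)⟩, rfl⟩⟩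

end Groth.Agent.S19532
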