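import Groth.Statements.S19533
import Groth.Agent.Lib.AbRigid.FibreTranslate
import Groth.Agent.Lib.AbRigid.SmoothGI

set_option autoImplicit false
universe u
open CategoryTheory CategoryTheory.Limits MonoidalCategory CartesianMonoidalCategory MonObj GrpObj AlgebraicGeometry
open AbVar

namespace Groth.Agent.S19533

/-- Let k be an algebraically closed field, A an abelian variety over k (a k-group scheme whose
structure morphism is proper, smooth and geometrically connected) with unit point e, Y a scheme
separated over k and f : A → Y a morphism over k. Write F₀ for the connected component of e in the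
fibre f⁻¹(f(e)). Then the k-rational points of F₀ are stable under the group law: if k-points x and
y of A lie in F₀ then so do the product point x·y and the inverse point x⁻¹. (The published
statement is for Y a k-variety and concludes that F₀ with its reduced structure is an abelian
subvariety, together with the translation formula F_a = a + F₀; this row records the closure of
F₀(k) under multiplication and inversion, for Y merely separated over k.) -/
theorem result (k : Type u) [Field k] [IsAlgClosed k]
    (A : Over (Spec (CommRingCat.of k))) [GrpObj A] [IsProper A.hom] [Smooth A.hom] [GeometricallyConnected A.hom]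
    {Y : Scheme.{u}} (q : Y ⟶ Spec (CommRingCat.of k)) [IsSeparated q] (f : A.left ⟶ Y) (hf : f ≫ q = A.hom)
    (x y : 𝟙_ (Over (Spec (CommRingCat.of k))) ⟶ A)
    (hx : x.left (IsLocalRing.closedPoint k) ∈
      connectedComponentIn (f ⁻¹' {f (η[A].left (IsLocalRing.closedPoint k))}) (η[A].left (IsLocalRing.closedPoint k)))
    (hy : y.left (IsLocalRing.closedPoint k) ∈
      connectedComponentIn (f ⁻¹' {f (η[A].left (IsLocalRing.closedPoint k))}) (η[A].left (IsLocalRing.closedPoint k))) :
    (lift x y ≫ μ[A]).left (IsLocalRing.closedPoint k) ∈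
        connectedComponentIn (f ⁻¹' {f (η[A].left (IsLocalRing.closedPoint k))}) (η[A].left (IsLocalRing.closedPoint k)) ∧
      (x ≫ ι[A]).left (IsLocalRing.closedPoint k) ∈
        connectedComponentIn (f ⁻¹' {f (η[A].left (IsLocalRing.closedPoint k))}) (η[A].left (IsLocalRing.closedPoint k)) := by
  haveI := Groth.Agent.AbRigid.geometricallyIntegral_of_smooth A
  let Z : Over (Spec (CommRingCat.of k)) := Over.mk q
  haveI : IsSeparated Z.hom := ‹IsSeparated q›
  let g : A ⟶ Z := Over.homMk f hf
  have hη : (η[A] : 𝟙_ _ ⟶ A) = (1 : 𝟙_ (Over (Spec (CommRingCat.of k))) ⟶ A) := by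
    rw [Hom.one_def, toUnit_unit, Category.id_comp]
  have key : ∀ p : 𝟙_ (Over (Spec (CommRingCat.of k))) ⟶ A,
      p.left (IsLocalRing.closedPoint k) ∈ Groth.Agent.AbRigid.unitComp g →
      Groth.Agent.AbRigid.ltrHomeo p '' Groth.Agent.AbRigid.unitComp g = Groth.Agent.AbRigid.unitComp g :=
    fun p hp => by
      rw [Groth.Agent.AbRigid.image_unitComp_eq]
      have h1 := connectedComponentIn_subset (g.left ⁻¹' {g.left ((η[A]).left (IsLocalRing.closedPoint k))}) _ hp
      rw [Set.mem_preimage, Set.mem_singleton_iff] at h1
      rw [Groth.Agent.AbRigid.compAt, Groth.Agent.AbRigid.unitComp, h1]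
      exact (connectedComponentIn_eq hp).symm
  refine ⟨?_, ?_⟩
  · change (x * y).left (IsLocalRing.closedPoint k) ∈ Groth.Agent.AbRigid.unitComp g
    rw [← key x hx, ← Groth.Agent.AbRigid.ltrHomeo_point]
    exact ⟨_, hy, rfl⟩
  · rw [← Hom.inv_def]
    obtain ⟨w, hw, hwe⟩ := (key x hx).ge
      (mem_connectedComponentIn (show (η[A]).left (IsLocalRing.closedPoint k) ∈
        g.left ⁻¹' {g.left ((η[A]).left (IsLocalRing.closedPoint k))} from Set.mem_singleton _))
    have h2 : Groth.Agent.AbRigid.ltrHomeo x (x⁻¹.left (IsLocalRing.closedPoint k)) =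
        (η[A]).left (IsLocalRing.closedPoint k) := by
      rw [hη, Groth.Agent.AbRigid.ltrHomeo_point, mul_inv_cancel]
    exact (Groth.Agent.AbRigid.ltrHomeo x).injective (hwe.trans h2.symm) ▸ hw

end Groth.Agent.S19533
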