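import Groth.Statements.S19535
-- import your own Groth.Agent.* helpers here
import Groth.Agent.Lib.CurveOm17.InvHom
import Groth.Agent.Lib.CurveCartier25.RelDim
import Groth.Agent.Lib.Omega12.LocFree
import Groth.Agent.Lib.Twist.Pullback

set_option autoImplicit false
universe u
open CategoryTheory CategoryTheory.Limits AlgebraicGeometry TopologicalSpace
open Curves

namespace Groth.Agent.S19535

/-- Dichotomy for the differential of a map of smooth curves: let k be a field, X and Y integral schemes
each smooth, separated and quasi-compact over Spec k and of dimension one, and φ : X → Y a morphism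
over k. Let Ω_Y and Ω_X be sheaves of differentials of Y and of X over k, given as universal
derivations, and c : φ^*Ω_Y → Ω_X the compatible map dφ (sending the pullback of d_Y s to d_X(φ^♯
s)). Then exactly one of two things happens, stated here as a disjunction: either c is the zero map,
or c is a monomorphism of O_X-modules and its cokernel (the sheaf of relative differentials Ω_{X/Y})
restricts to zero on some nonempty open subset of X, so that it is supported at finitely many closed
points. (The published statement is for smooth curves, which are in addition geometrically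
connected; integrality of X and Y is what the argument uses.) -/
theorem result (k : Type u) [Field k] {X Y : Scheme.{u}}
    (pX : X ⟶ Spec (CommRingCat.of k)) (pY : Y ⟶ Spec (CommRingCat.of k)) (φ : X ⟶ Y) (w : φ ≫ pY = pX)
    [IsIntegral X] [Smooth pX] [IsSeparated pX] [QuasiCompact pX] (hdX : topologicalKrullDim X = 1)
    [IsIntegral Y] [Smooth pY] [IsSeparated pY] [QuasiCompact pY] (hdY : topologicalKrullDim Y = 1)
    (ΩY : Y.Modules) (dY : OmegaSh.Der pY ΩY) (hY : OmegaSh.IsUniversal dY)
    (ΩX : X.Modules) (dX : OmegaSh.Der pX ΩX) (hX : OmegaSh.IsUniversal dX)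
    (c : (Scheme.Modules.pullback φ).obj ΩY ⟶ ΩX) (hc : OmegaSh.IsDiffCompat φ dY dX c) :
    c = 0 ∨ (Mono c ∧ ∃ U : X.Opens, (U : Set X).Nonempty ∧ IsZero ((Scheme.Modules.pullback U.ι).obj (cokernel c))) := by
  haveI := Groth.Agent.CurveCartier25.smoothOfRelativeDimension_one pX hdX
  haveI := Groth.Agent.CurveCartier25.smoothOfRelativeDimension_one pY hdY
  have hX' := (Groth.Agent.M2.isInvertible_iff_isFinLocFreeOfRank_one ΩX).2
    (Groth.Agent.Omega12.isFinLocFreeOfRank_receptacle_of_smooth pX hX 1)
  have hY' := (Groth.Agent.M2.isInvertible_iff_isFinLocFreeOfRank_one ΩY).2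
    (Groth.Agent.Omega12.isFinLocFreeOfRank_receptacle_of_smooth pY hY 1)
  exact Groth.Agent.CurveOm17.eq_zero_or_mono_of_isInvertible (Groth.Agent.Twist.isInvertible_pullback φ hY') hX' c

end Groth.Agent.S19535
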