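import Groth.Statements.S19540
import Mathlib.CategoryTheory.Sites.EpiMono
import Mathlib.Algebra.Homology.ShortComplex.Ab
import Mathlib.CategoryTheory.Sites.Abelian
import Mathlib.Algebra.Category.Grp.Abelian
import Mathlib.Algebra.Category.Grp.EpiMono
import Mathlib.CategoryTheory.Sites.Limits
import Mathlib.Algebra.Category.Grp.Limits
import Mathlib.Algebra.Category.Grp.EnoughInjectives
import Mathlib.Algebra.Category.Grp.Images

set_option autoImplicit false
open CategoryTheory CategoryTheory.Limits Opposite
universe w v u
open CohSite

namespace Groth.Agent.S19540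
set_option linter.style.haveILetI false
set_option backward.isDefEq.respectTransparency false
set_option backward.isDefEq.respectTransparency.types false


/-- Let (C, J) be a site and B a class of objects of C, each weakly contractible (every epimorphism of
sheaves of sets, valued in a fixed universe, is surjective on sections over it), such that every
object V of C has a covering sieve all of whose arrows factor through some object of B. Then a
three-term complex F ⟶ G ⟶ H of abelian sheaves on (C, J) is exact if and only if for every U in B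
the sequence of section groups F(U) ⟶ G(U) ⟶ H(U) is exact. (The published statement is for sheaves
of modules over a sheaf of rings O; this row is the case of the constant sheaf of rings ℤ, i.e.
abelian sheaves, to which exactness questions for O-modules reduce. The universe set-up assumes that
abelian sheafification exists and inverts exactly the locally bijective maps, as on any small site.) -/
theorem result
    {C : Type u} [Category.{v} C] (J : GrothendieckTopology C) [HasSheafify J AddCommGrpCat.{w}]
    [J.WEqualsLocallyBijective AddCommGrpCat.{w}]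
    (B : C → Prop)
    (hB : ∀ U : C, B U → ∀ (P Q : Sheaf J (Type w)) (ψ : P ⟶ Q), Epi ψ → Function.Surjective (ψ.hom.app (op U)))
    (hcov : ∀ V : C, ∃ S : Sieve V, S ∈ J V ∧ ∀ ⦃W : C⦄ (f : W ⟶ V), S.arrows f →
      ∃ (U : C) (g : W ⟶ U) (h : U ⟶ V), B U ∧ g ≫ h = f)
    (S : ShortComplex (Sheaf J AddCommGrpCat.{w})) :
    S.Exact ↔ ∀ U : C, B U →
      (S.map (sheafToPresheaf J AddCommGrpCat.{w} ⋙ (evaluation Cᵒᵖ AddCommGrpCat.{w}).obj (op U))).Exact := by
  let E := fun U : C => sheafToPresheaf J AddCommGrpCat.{w} ⋙ (evaluation Cᵒᵖ AddCommGrpCat.{w}).obj (op U)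
  haveI : ∀ U : C, PreservesFiniteLimits (E U) := fun U => inferInstance
  let Φ := CategoryTheory.forget AddCommGrpCat.{w}
  have hker : ∀ U : C, ∀ z : S.X₂.obj.obj (op U), S.g.hom.app (op U) z = 0 →
      ∃ z', (kernel.ι S.g).hom.app (op U) z' = z := by
    intro U z hz
    exact (ShortComplex.ab_exact_iff _).1 ((ShortComplex.exact_of_f_is_kernel
      (ShortComplex.mk (kernel.ι S.g) S.g (kernel.condition _)) (kernelIsKernel S.g)).map_of_mono_of_preservesKernel
        (E U) inferInstance inferInstance) z hz
  rw [S.exact_iff_epi_kernel_lift, ← Sheaf.isLocallySurjective_iff_epi']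
  constructor
  · intro hk U hU
    rw [ShortComplex.ab_exact_iff]
    intro z hz
    obtain ⟨z', hz'⟩ := hker U z hz
    haveI : Sheaf.IsLocallySurjective ((sheafCompose J Φ).map (kernel.lift S.g S.f S.zero)) :=
      (Presheaf.isLocallySurjective_iff_whisker_forget J _).1 hk
    obtain ⟨y, hy⟩ := hB U hU _ _ ((sheafCompose J Φ).map (kernel.lift S.g S.f S.zero)) inferInstance z'
    refine ⟨y, ?_⟩
    have e : kernel.lift S.g S.f S.zero ≫ kernel.ι S.g = S.f := kernel.lift_ι _ _ _
    show S.f.hom.app (op U) y = z
    rw [← e, ← hz', ← hy]
    rfl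
  · intro h
    refine ⟨fun {V} z => ?_⟩
    obtain ⟨R, hR, hfac⟩ := hcov V
    refine J.superset_covering ?_ hR
    intro W f hf
    obtain ⟨U, g, k, hU, rfl⟩ := hfac f hf
    apply Sieve.downward_closed
    have hz : S.g.hom.app (op U) ((kernel.ι S.g).hom.app (op U) ((kernel S.g).obj.map k.op z)) = 0 :=
      ConcreteCategory.congr_hom (congrArg (fun φ => φ.hom.app (op U)) (kernel.condition S.g)) _
    obtain ⟨y, hy⟩ := (ShortComplex.ab_exact_iff _).1 (h U hU) _ hz
    refine ⟨y, ?_⟩
    haveI : Mono ((E U).map (kernel.ι S.g)) := inferInstance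
    apply (AddCommGrpCat.mono_iff_injective ((E U).map (kernel.ι S.g))).1 inferInstance
    have e : kernel.lift S.g S.f S.zero ≫ kernel.ι S.g = S.f := kernel.lift_ι _ _ _
    exact (ConcreteCategory.congr_hom (congrArg (fun φ => φ.hom.app (op U)) e) y).trans hy

end Groth.Agent.S19540
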