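import Groth.Statements.S19541
import Groth.Agent.Lib.EtaleNhd17.Basic
import Groth.Agent.Lib.Curve17.Birat
import Groth.Agent.Lib.VarDim.Irred
import Mathlib.FieldTheory.Perfect

set_option autoImplicit false
universe u
open CategoryTheory CategoryTheory.Limits AlgebraicGeometry TopologicalSpace
open Curves

namespace Groth.Agent.S19541
open Groth.Agent TopologicalSpace
set_option linter.style.haveILetI false

/-- Pointwise criterion for a map of smooth curves to be étale: let k be an algebraically closed field,
X and Y integral schemes each smooth, separated and quasi-compact over Spec k and of dimension one,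
φ : X → Y a morphism over k and x a closed point of X. Then φ is étale at x (the restriction of φ to
some open neighbourhood of x is étale) if and only if the induced homomorphism of stalks O_{Y,φ(x)}
→ O_{X,x} carries the maximal ideal of the discrete valuation ring O_{Y,φ(x)} to an ideal generating
the maximal ideal of O_{X,x}; equivalently a uniformiser at φ(x) pulls back to a uniformiser at x.
(The published statement is for smooth curves, which are in addition geometrically connected;
integrality is what is used. For a constant φ both sides fail.) -/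
theorem result (k : Type u) [Field k] [IsAlgClosed k] {X Y : Scheme.{u}}
    (pX : X ⟶ Spec (CommRingCat.of k)) (pY : Y ⟶ Spec (CommRingCat.of k)) (φ : X ⟶ Y) (w : φ ≫ pY = pX)
    [IsIntegral X] [Smooth pX] [IsSeparated pX] [QuasiCompact pX] (hdX : topologicalKrullDim X = 1)
    [IsIntegral Y] [Smooth pY] [IsSeparated pY] [QuasiCompact pY] (hdY : topologicalKrullDim Y = 1)
    (x : X) (hx : IsClosed ({x} : Set X)) :
    (∃ U : X.Opens, x ∈ U ∧ Etale (U.ι ≫ φ)) ↔
      Ideal.map (φ.stalkMap x).hom (IsLocalRing.maximalIdeal (Y.presheaf.stalk (φ.base x))) =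
        IsLocalRing.maximalIdeal (X.presheaf.stalk x) := by
  haveI : LocallyOfFiniteType (φ ≫ pY) := w ▸ inferInstance
  haveI : LocallyOfFiniteType φ := locallyOfFiniteType_of_comp φ pY
  haveI : IsLocallyNoetherian X := LocallyOfFiniteType.isLocallyNoetherian pX
  haveI : IsLocallyNoetherian Y := LocallyOfFiniteType.isLocallyNoetherian pY
  haveI : LocallyOfFinitePresentation φ := inferInstance
  haveI : JacobsonSpace Y := LocallyOfFiniteType.jacobsonSpace pY
  have hy : IsClosed ({φ x} : Set Y) := φ.closePoints_subset_preimage_closedPoints hx
  constructor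
  · rintro ⟨U, hxU, hU⟩
    have h := EtaleNhd17.formallyUnramified_stalkMap_of_nhd φ x hxU
    exact ((EtaleNhd17.formallyUnramified_stalkMap_iff_map_eq φ x).1 h).2
  intro h
  haveI := SmoothReg17.isIntegrallyClosed_stalk pY (φ x)
  haveI := SmoothReg17.isIntegrallyClosed_stalk pX x
  haveI := Curve17.isDiscreteValuationRing_stalk hdY hy
  haveI := Curve17.isDiscreteValuationRing_stalk hdX hx
  have hdom : φ (genericPoint X) = genericPoint Y := by
    refine Curve17.map_genericPoint hdY.le φ ?_
    by_contra hnc
    rw [Set.not_nontrivial_iff] at hnc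
    have hgen : φ (genericPoint X) = φ x := hnc ⟨_, rfl⟩ ⟨x, rfl⟩
    have hker : ∀ a ∈ IsLocalRing.maximalIdeal (Y.presheaf.stalk (φ x)), φ.stalkMap x a = 0 := by
      intro a ha
      apply IsFractionRing.injective (X.presheaf.stalk x) X.functionField
      rw [map_zero]
      change X.presheaf.stalkSpecializes (genericPoint_specializes x) (φ.stalkMap x a) = 0
      rw [← Scheme.Hom.stalkSpecializes_stalkMap_apply]
      letI : Field (X.presheaf.stalk (genericPoint X)) := inferInstanceAs (Field X.functionField)
      by_contra hne
      have hu : IsUnit (Y.presheaf.stalkSpecializes (φ.base.hom.map_specializes (genericPoint_specializes x)) a) :=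
        isUnit_of_map_unit (φ.stalkMap (genericPoint X)).hom _ (Ne.isUnit hne)
      have hu2 := hu.map (Y.presheaf.stalkSpecializes (specializes_of_eq hgen.symm)).hom
      rw [← CommRingCat.comp_apply, TopCat.Presheaf.stalkSpecializes_comp,
        TopCat.Presheaf.stalkSpecializes_refl, CommRingCat.id_apply] at hu2
      exact ha hu2
    have hbot : IsLocalRing.maximalIdeal (X.presheaf.stalk x) = ⊥ := by
      rw [← h, eq_bot_iff, Ideal.map_le_iff_le_comap]
      intro a ha
      simpa using hker a ha
    exact IsDiscreteValuationRing.not_a_field _ hbot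
  refine EtaleNhd17.exists_etale_of_stalk φ x (Curve17.flat_stalkMap_of_dvr φ hdom x inferInstance) ?_
  refine (EtaleNhd17.formallyUnramified_stalkMap_iff_map_eq φ x).2 ⟨?_, h⟩
  letI := (φ.residueFieldMap x).hom.toAlgebra
  refine ⟨fun b => ?_⟩
  obtain ⟨a, rfl⟩ := (EtaleNhd17.bijective_residueFieldMap φ pX pY w hx hy).2 b
  exact isSeparable_algebraMap a

end Groth.Agent.S19541
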