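import Groth.Statements.S19544
import Mathlib
import Groth.Agent.Lib.H2Alg.Bass

set_option autoImplicit false
universe u
open CAlg

namespace Groth.Agent.S19544

theorem rankAtStalk_ker (R : Type u) [CommRing R] {P : Type u} [AddCommGroup P] [Module R P] [Module.Finite R P]
    [Module.Projective R P] (s : P) (φ : P →ₗ[R] R) (h : φ s = 1) :
    Module.Finite R (LinearMap.ker φ) ∧ Module.Projective R (LinearMap.ker φ) ∧
      ∀ p : PrimeSpectrum R, Module.rankAtStalk (R := R) (LinearMap.ker φ) p + 1 =
        Module.rankAtStalk (R := R) P p := by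
  let e := Groth.Agent.H2Bass.equivKerProd s φ h
  have h1 : Module.Finite R (LinearMap.ker φ) :=
    Module.Finite.of_surjective ((LinearMap.fst R _ R).comp e.toLinearMap)
      (Prod.fst_surjective.comp e.surjective)
  have h2 : Module.Projective R (LinearMap.ker φ) :=
    Module.Projective.of_split (e.symm.toLinearMap.comp (LinearMap.inl R _ R))
      ((LinearMap.fst R _ R).comp e.toLinearMap) (by ext; simp)
  refine ⟨h1, h2, fun p => ?_⟩
  haveI := p.nontrivial
  rw [Module.rankAtStalk_eq_of_equiv e, Module.rankAtStalk_prod, Pi.add_apply, Module.rankAtStalk_self]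
  rfl

theorem exists_equiv (R : Type u) [CommRing R] [IsNoetherianRing R] (d : ℕ) (hdim : ringKrullDim R ≤ d) :
    ∀ (j : ℕ) (P : Type u) [AddCommGroup P] [Module R P] [Module.Finite R P] [Module.Projective R P] (n : ℕ),
      d + j ≤ n → (∀ p : PrimeSpectrum R, Module.rankAtStalk (R := R) P p = n) →
      ∃ K : Submodule R P, Nonempty (P ≃ₗ[R] K × (Fin j → R)) := by
  intro j
  induction j with
  | zero =>
    intro P _ _ _ _ n _ _
    exact ⟨⊤, ⟨
      { toFun := fun x => (⟨x, trivial⟩, 0)
        invFun := fun z => z.1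
        map_add' := fun _ _ => Prod.ext rfl (Subsingleton.elim _ _)
        map_smul' := fun _ _ => Prod.ext rfl (Subsingleton.elim _ _)
        left_inv := fun _ => rfl
        right_inv := fun _ => Prod.ext rfl (Subsingleton.elim _ _) }⟩⟩
  | succ j ih =>
    intro P _ _ _ _ n hn hrk
    obtain ⟨s, φ, hs⟩ := Groth.Agent.H2Bass.exists_apply_eq_one (P := P) d hdim
      (fun p => by rw [hrk p]; omega)
    obtain ⟨h1, h2, h3⟩ := rankAtStalk_ker R s φ hs
    obtain ⟨K, ⟨e⟩⟩ := ih (LinearMap.ker φ) (n - 1) (by omega) (fun p => by have := h3 p; rw [hrk p] at this; omega)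
    refine ⟨K.map (LinearMap.ker φ).subtype, ⟨?_⟩⟩
    let c : (R × (Fin j → R)) ≃ₗ[R] (Fin (j + 1) → R) := Fin.consLinearEquiv R (fun _ : Fin (j + 1) => R)
    let e1 : P ≃ₗ[R] (K × (Fin j → R)) × R :=
      (Groth.Agent.H2Bass.equivKerProd s φ hs).trans (e.prodCongr (LinearEquiv.refl R R))
    let e2 : ((K × (Fin j → R)) × R) ≃ₗ[R] (K.map (LinearMap.ker φ).subtype) × (Fin (j + 1) → R) :=
      (LinearEquiv.prodAssoc R _ _ _).trans ((Submodule.equivMapOfInjective _ (Submodule.injective_subtype _) K).prodCongr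
        ((LinearEquiv.prodComm R _ _).trans c))
    exact e1.trans e2

/-- Let R be a Noetherian ring of Krull dimension d and P a finitely generated projective R-module of
constant rank n at every prime of R, with n > d. Then P is isomorphic to P₀ ⊕ R^(n-d) for some
module P₀; concretely, P has complementary submodules P₀ and Q with Q free of rank n - d. -/
theorem result (R : Type u) [CommRing R]
    [IsNoetherianRing R] (d n : ℕ) (hdim : ringKrullDim R = d)
    (P : Type u) [AddCommGroup P] [Module R P] [Module.Finite R P] [Module.Projective R P]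
    (hrk : ∀ p : PrimeSpectrum R, Module.rankAtStalk (R := R) P p = n) (hnd : d < n) :
    ∃ (P₀ Q : Submodule R P), IsCompl P₀ Q ∧ Nonempty (Q ≃ₗ[R] (Fin (n - d) → R)) := by
  obtain ⟨K, ⟨e⟩⟩ := exists_equiv R d hdim.le (n - d) P n (by omega) hrk
  have h0 : IsCompl (Submodule.fst R K (Fin (n - d) → R)) (Submodule.snd R K (Fin (n - d) → R)) := by
    constructor
    · rw [disjoint_iff]
      exact Submodule.fst_inf_snd R K (Fin (n - d) → R)
    · rw [codisjoint_iff]
      exact Submodule.fst_sup_snd R K (Fin (n - d) → R)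
  refine ⟨(Submodule.fst R K (Fin (n - d) → R)).map e.symm.toLinearMap,
    (Submodule.snd R K (Fin (n - d) → R)).map e.symm.toLinearMap, ?_, ⟨?_⟩⟩
  · exact (OrderIso.isCompl_iff (Submodule.orderIsoMapComap e.symm)).1 h0
  · exact (e.symm.submoduleMap _).symm.trans (Submodule.sndEquiv R K (Fin (n - d) → R))

end Groth.Agent.S19544
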