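import Groth.Statements.S19546
import Groth.Agent.Lib.TsenLang.Height
import Mathlib.RingTheory.Nullstellensatz
import Mathlib.LinearAlgebra.FiniteDimensional.Lemmas
import Mathlib.Analysis.Complex.Polynomial.Basic
import Mathlib.RingTheory.Ideal.Quotient.Operations
import Mathlib.RingTheory.Polynomial.Basic

set_option autoImplicit false
set_option linter.style.haveILetI false
universe u v w
open scoped TensorProduct
open VBCurve

namespace Groth.Agent.S19546

section segre

variable {k : Type*} [Field k] (a b : ℕ)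

open MvPolynomial

/-- The Segre parametrisation of the rank one tensors supported in the top left `s × t` block. -/
noncomputable def blockHom (s t : ℕ) :
    MvPolynomial (Fin a × Fin b) k →ₐ[k] MvPolynomial (Fin a ⊕ Fin b) k :=
  aeval fun p => if (p.1 : ℕ) < s ∧ (p.2 : ℕ) < t then X (Sum.inl p.1) * X (Sum.inr p.2) else 0

theorem ker_blockHom_mono {s t s' t' : ℕ} (hs : s' ≤ s) (ht : t' ≤ t) :
    RingHom.ker (blockHom (k := k) a b s t).toRingHom ≤
      RingHom.ker (blockHom (k := k) a b s' t').toRingHom := by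
  intro q hq
  let e : MvPolynomial (Fin a ⊕ Fin b) k →ₐ[k] MvPolynomial (Fin a ⊕ Fin b) k :=
    aeval (Sum.elim (fun i => if (i : ℕ) < s' then X (Sum.inl i) else 0)
      (fun j => if (j : ℕ) < t' then X (Sum.inr j) else 0))
  have he : e.comp (blockHom a b s t) = blockHom a b s' t' := by
    apply MvPolynomial.algHom_ext
    rintro ⟨i, j⟩
    simp only [AlgHom.comp_apply, blockHom, aeval_X, e]
    by_cases h : (i : ℕ) < s' ∧ (j : ℕ) < t'
    · rw [if_pos ⟨h.1.trans_le hs, h.2.trans_le ht⟩, if_pos h, map_mul, aeval_X, aeval_X,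
        Sum.elim_inl, Sum.elim_inr, if_pos h.1, if_pos h.2]
    · rw [if_neg h]
      split_ifs with h'
      · rw [map_mul, aeval_X, aeval_X, Sum.elim_inl, Sum.elim_inr]
        rcases not_and_or.1 h with h₁ | h₁
        · rw [if_neg h₁, zero_mul]
        · rw [if_neg h₁, mul_zero]
      · simp
  rw [RingHom.mem_ker] at hq ⊢
  change blockHom a b s' t' q = 0
  rw [← he, AlgHom.comp_apply, show blockHom a b s t q = 0 from hq, map_zero]

theorem exists_rankOne_zero [IsAlgClosed k] {r : ℕ} (L : Fin r → MvPolynomial (Fin a × Fin b) k)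
    (hL : ∀ i, eval (0 : Fin a × Fin b → k) (L i) = 0) (ha : 0 < a) (hb : 0 < b)
    (hr : r + 1 < a + b) :
    ∃ (x : Fin a → k) (y : Fin b → k), x ≠ 0 ∧ y ≠ 0 ∧
      ∀ i, eval (fun p => x p.1 * y p.2) (L i) = 0 := by
  classical
  let φ := (blockHom (k := k) a b a b).toRingHom
  let sOf : ℕ → ℕ := fun d => a - min d (a - 1)
  let tOf : ℕ → ℕ := fun d => b - (d - (a - 1))
  let Q : ℕ → Ideal (MvPolynomial (Fin a × Fin b) k) :=
    fun d => RingHom.ker (blockHom (k := k) a b (sOf d) (tOf d)).toRingHom
  have hJ : ∀ d, RingHom.ker φ ≤ Q d := fun d =>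
    ker_blockHom_mono a b (by simp [sOf]) (by simp [tOf])
  let π := Ideal.Quotient.mk (RingHom.ker φ)
  have hcm : ∀ d, ((Q d).map π).comap π = Q d := fun d => by
    rw [Ideal.comap_map_of_surjective' π Ideal.Quotient.mk_surjective, Ideal.mk_ker,
      sup_eq_left.2 (hJ d)]
  have hprime : ∀ d, ((Q d).map π).IsPrime := fun d =>
    haveI : (Q d).IsPrime := RingHom.ker_isPrime _
    Ideal.map_isPrime_of_surjective Ideal.Quotient.mk_surjective (by rw [Ideal.mk_ker]; exact hJ d)
  have hlt : ∀ d < a + b - 1, Q d < Q (d + 1) := by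
    intro d hd
    refine lt_of_le_of_ne (ker_blockHom_mono a b (by simp only [sOf]; omega)
      (by simp only [tOf]; omega)) fun h => ?_
    let w : Fin a × Fin b := (⟨if d < a - 1 then sOf d - 1 else 0, by
        simp only [sOf]; split_ifs <;> omega⟩,
      ⟨if d < a - 1 then 0 else tOf d - 1, by simp only [tOf]; split_ifs <;> omega⟩)
    have h1 : (X w : MvPolynomial (Fin a × Fin b) k) ∈ Q (d + 1) := by
      show blockHom a b _ _ (X w) = 0
      rw [blockHom, aeval_X, if_neg]
      simp only [w, sOf, tOf]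
      split_ifs <;> omega
    rw [← h] at h1
    change blockHom a b _ _ (X w) = 0 at h1
    rw [blockHom, aeval_X, if_pos] at h1
    · exact mul_ne_zero (X_ne_zero _) (X_ne_zero _) h1
    · simp only [w, sOf, tOf]
      constructor <;> split_ifs <;> omega
  have hlt' : ∀ d < a + b - 1, (Q d).map π < (Q (d + 1)).map π := fun d hd =>
    lt_of_le_of_ne (Ideal.map_mono (hlt d hd).le) fun h => (hlt d hd).ne (by rw [← hcm d, h, hcm])
  have hbound := Groth.Agent.TsenLang.natCast_le_height_of_strictChain
    (fun d => (Q d).map π) (n := a + b - 1) (fun d _ => hprime d) hlt'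
  -- the top prime is the origin
  have htop : Q (a + b - 1) = RingHom.ker (eval (0 : Fin a × Fin b → k)) := by
    have h : (blockHom (k := k) a b (sOf (a + b - 1)) (tOf (a + b - 1))).toRingHom =
        MvPolynomial.C.comp (eval (0 : Fin a × Fin b → k)) := by
      apply MvPolynomial.ringHom_ext
      · intro c; simp [blockHom]
      · intro p
        simp only [blockHom, AlgHom.toRingHom_eq_coe, RingHom.coe_coe, aeval_X,
          RingHom.comp_apply, eval_X, Pi.zero_apply, map_zero]
        rw [if_neg]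
        simp only [tOf]; omega
    ext q
    simp only [Q]
    rw [h, RingHom.mem_ker, RingHom.mem_ker, RingHom.comp_apply, C_eq_zero]
  let I := Ideal.span (Set.range fun i => π (L i))
  haveI := hprime (a + b - 1)
  have hIle : I ≤ (Q (a + b - 1)).map π := by
    rw [Ideal.span_le]
    rintro _ ⟨i, rfl⟩
    exact Ideal.mem_map_of_mem π (htop ▸ hL i)
  obtain ⟨P, hP, hPle⟩ := Ideal.exists_minimalPrimes_le hIle
  have hne : P ≠ (Q (a + b - 1)).map π := by
    rintro rfl
    have h1 := Ideal.height_le_card_of_mem_minimalPrimes_span (Set.finite_range _) hP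
    have h2 : (Set.range fun i => π (L i)).ncard ≤ r := by
      rw [← Set.image_univ]
      simpa using Set.ncard_image_le (f := fun i => π (L i)) (s := Set.univ)
    have : a + b - 1 ≤ (Set.range fun i => π (L i)).ncard := by exact_mod_cast hbound.trans h1
    omega
  haveI := hP.1.1
  let P' := P.comap π
  haveI : P'.IsPrime := Ideal.comap_isPrime _ _
  obtain ⟨w, hw⟩ : ∃ w, (X w : MvPolynomial (Fin a × Fin b) k) ∉ P' := by
    by_contra! h
    apply hne
    refine le_antisymm hPle (Ideal.map_le_iff_le_comap.2 ?_)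
    intro q hq
    rw [htop, RingHom.mem_ker] at hq
    rw [q.as_sum]
    refine sum_mem fun m hm => ?_
    rcases eq_or_ne m 0 with rfl | hm0
    · exfalso
      rw [mem_support_iff] at hm
      apply hm
      rwa [← constantCoeff_eq, ← eval_zero]
    · obtain ⟨v, hv⟩ := Finsupp.ne_iff.1 hm0
      rw [monomial_eq, Finsupp.prod]
      refine Ideal.mul_mem_left _ _ ?_
      rw [← Finset.mul_prod_erase _ _ (Finsupp.mem_support_iff.2 hv)]
      exact Ideal.mul_mem_right _ _ (P'.pow_mem_of_mem (h v) _ (Nat.pos_of_ne_zero hv))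
  obtain ⟨z, hz, hzw⟩ : ∃ z ∈ zeroLocus k P', eval z (X w : MvPolynomial (Fin a × Fin b) k) ≠ 0 := by
    by_contra! h
    apply hw
    rw [← Ideal.IsPrime.radical (I := P') inferInstance,
      ← vanishingIdeal_zeroLocus_eq_radical (K := k) P', mem_vanishingIdeal_iff]
    exact fun z hz => by simpa [aeval_eq_eval] using h z hz
  rw [mem_zeroLocus_iff] at hz
  rw [eval_X] at hzw
  have hrel : ∀ i j, z (i, j) * z w = z (i, w.2) * z (w.1, j) := fun i j => by
    have hmem : X (i, j) * X w - X (i, w.2) * X (w.1, j) ∈ P' := by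
      refine Ideal.comap_mono (bot_le : ⊥ ≤ P) ?_
      rw [← RingHom.ker_eq_comap_bot, Ideal.mk_ker, RingHom.mem_ker]
      simp only [φ, AlgHom.toRingHom_eq_coe, RingHom.coe_coe, map_sub, map_mul, blockHom, aeval_X]
      rw [if_pos ⟨i.2, j.2⟩, if_pos ⟨w.1.2, w.2.2⟩, if_pos ⟨i.2, w.2.2⟩, if_pos ⟨w.1.2, j.2⟩]
      ring
    have := hz _ hmem
    simpa [aeval_eq_eval, sub_eq_zero] using this
  refine ⟨fun i => z (i, w.2), fun j => z (w.1, j) / z w, ?_, ?_, fun i => ?_⟩
  · exact fun h => hzw (congrFun h w.1)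
  · exact fun h => hzw (by simpa using congrFun h w.2)
  · have hzL := hz (L i) (show π (L i) ∈ P from hP.1.2 (Ideal.subset_span ⟨i, rfl⟩))
    rw [aeval_eq_eval] at hzL
    convert hzL using 2
    congr 1
    funext p
    rw [mul_div_assoc', ← hrel, mul_div_assoc, div_self hzw, mul_one]

end segre


/-- Let A, B, C be complex vector spaces, A and B finite-dimensional, and ν : A ⊗ B → C a linear map
injective on each factor separately (b ↦ ν(a ⊗ b) is injective for every a ≠ 0 and a ↦ ν(a ⊗ b) is
injective for every b ≠ 0). Then the image of ν has dimension at least dim A + dim B - 1. (For A = 0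
the separate-injectivity hypothesis is empty and the inequality fails as soon as dim B ≥ 2, so A and
B are taken nonzero here, the case the inequality is about.) -/
theorem result
    (A : Type u) (B : Type v) (C : Type w) [AddCommGroup A] [Module ℂ A] [AddCommGroup B] [Module ℂ B]
    [AddCommGroup C] [Module ℂ C] [FiniteDimensional ℂ A] [FiniteDimensional ℂ B]
    [Nontrivial A] [Nontrivial B] (ν : A ⊗[ℂ] B →ₗ[ℂ] C)
    (hA : ∀ a : A, a ≠ 0 → Function.Injective (fun b : B => ν (a ⊗ₜ[ℂ] b)))
    (hB : ∀ b : B, b ≠ 0 → Function.Injective (fun a : A => ν (a ⊗ₜ[ℂ] b))) :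
    Module.finrank ℂ A + Module.finrank ℂ B ≤ Module.finrank ℂ (LinearMap.range ν) + 1 := by
  classical
  let a := Module.finrank ℂ A
  let b := Module.finrank ℂ B
  let eA := Module.finBasis ℂ A
  let eB := Module.finBasis ℂ B
  let R := LinearMap.range ν
  let eR := Module.finBasis ℂ R
  by_contra hlt
  let L : Fin (Module.finrank ℂ R) → MvPolynomial (Fin a × Fin b) ℂ := fun i =>
    ∑ p : Fin a × Fin b,
      MvPolynomial.C (eR.repr ⟨ν (eA p.1 ⊗ₜ eB p.2), LinearMap.mem_range_self _ _⟩ i) *
        MvPolynomial.X p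
  obtain ⟨x, y, hx, hy, h⟩ := exists_rankOne_zero a b L (fun i => by simp [L])
    Module.finrank_pos Module.finrank_pos (by simp only [R, a, b]; omega)
  let u := ∑ i, x i • eA i
  let v := ∑ j, y j • eB j
  have hu : u ≠ 0 := fun h0 => hx (funext fun i =>
    Fintype.linearIndependent_iff.1 eA.linearIndependent x h0 i)
  have hv : v ≠ 0 := fun h0 => hy (funext fun i =>
    Fintype.linearIndependent_iff.1 eB.linearIndependent y h0 i)
  have h0 : ν (u ⊗ₜ v) = 0 := by
    have hzero : (⟨ν (u ⊗ₜ v), LinearMap.mem_range_self _ _⟩ : R) = 0 := by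
      apply eR.ext_elem
      intro i
      have hsum : (⟨ν (u ⊗ₜ v), LinearMap.mem_range_self _ _⟩ : R) =
          ∑ p : Fin a × Fin b, (x p.1 * y p.2) •
            (⟨ν (eA p.1 ⊗ₜ eB p.2), LinearMap.mem_range_self _ _⟩ : R) := by
        apply Subtype.ext
        simp only [Submodule.coe_sum, Submodule.coe_smul, u, v, TensorProduct.sum_tmul,
          TensorProduct.tmul_sum, TensorProduct.smul_tmul_smul, map_sum, map_smul]
        rw [Finset.sum_comm, Fintype.sum_prod_type]
      rw [hsum, map_sum, map_zero, Finsupp.coe_zero, Pi.zero_apply, ← h i, Finsupp.finsetSum_apply,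
        map_sum]
      refine Finset.sum_congr rfl fun p _ => ?_
      rw [map_smul, Finsupp.smul_apply, smul_eq_mul, map_mul, MvPolynomial.eval_C,
        MvPolynomial.eval_X, mul_comm]
    exact congrArg Subtype.val hzero
  exact hv (hA u hu (show ν (u ⊗ₜ v) = ν (u ⊗ₜ 0) by rw [h0, TensorProduct.tmul_zero, map_zero]))

end Groth.Agent.S19546
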