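import Groth.Statements.S19547
import Mathlib.RingTheory.Flat.FaithfullyFlat.Basic
import Mathlib.RingTheory.Flat.Basic


set_option autoImplicit false
universe u
open TensorProduct
open Desc

namespace Groth.Agent.S19547

/-- Let A → A' be a faithfully flat homomorphism of commutative rings, M' an A'-module and φ : M' ⊗_A A'
→ A' ⊗_A M' an isomorphism of (A' ⊗_A A')-modules for the diagonal actions (x ⊗ y)(u ⊗ z) = xu ⊗ yz
and (x ⊗ y)(z ⊗ u) = xz ⊗ yu, satisfying the cocycle condition φ_13 = φ_23 ∘ φ_12 between the three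
pullbacks to A' ⊗_A A' ⊗_A A'. Here linearity over A' ⊗_A A' is stated on the generators x ⊗ 1 and 1
⊗ y, and the cocycle condition on pure tensors u ⊗ a ⊗ b: writing φ(u ⊗ a) = Σ a_i ⊗ u_i, it says Σ
a_i ⊗ φ(u_i ⊗ b) = Σ b_j ⊗ a ⊗ u'_j where φ(u ⊗ b) = Σ b_j ⊗ u'_j. Let M = {u ∈ M' : φ(u ⊗ 1) = 1 ⊗
u}, an A-submodule of M'. Then the canonical map λ : A' ⊗_A M → M', x ⊗ u ↦ xu, is an isomorphism. -/
theorem result (A A' : Type u) [CommRing A] [CommRing A']
    [Algebra A A'] [Module.FaithfullyFlat A A'] (M' : Type u) [AddCommGroup M'] [Module A M']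
    [Module A' M'] [IsScalarTower A A' M']
    (φ : M' ⊗[A] A' →ₗ[A] A' ⊗[A] M') (hφ : Function.Bijective φ)
    (h1 : ∀ (x : A') (u : M') (z : A'),
      φ ((x • u) ⊗ₜ[A] z) = LinearMap.rTensor M' (LinearMap.mulLeft A x) (φ (u ⊗ₜ[A] z)))
    (h2 : ∀ (y : A') (u : M') (z : A'),
      φ (u ⊗ₜ[A] (y * z)) = LinearMap.lTensor A' (Algebra.lsmul A A M' y) (φ (u ⊗ₜ[A] z)))
    (hcoc : ∀ (u : M') (a b : A'),
      LinearMap.lTensor A' φ (TensorProduct.assoc A A' M' A' (LinearMap.rTensor A' φ ((u ⊗ₜ[A] a) ⊗ₜ[A] b))) =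
        LinearMap.lTensor A' (TensorProduct.mk A A' M' a) (φ (u ⊗ₜ[A] b)))
    (M : Submodule A M') (hM : ∀ u : M', u ∈ M ↔ φ (u ⊗ₜ[A] (1 : A')) = (1 : A') ⊗ₜ[A] u) :
    Function.Bijective
      ((TensorProduct.lift (Algebra.lsmul A A M').toLinearMap) ∘ₗ (LinearMap.lTensor A' M.subtype)) := by
  classical
  let μ : A' ⊗[A] M' →ₗ[A] M' := TensorProduct.lift (Algebra.lsmul A A M').toLinearMap
  let ψ : M' →ₗ[A] A' ⊗[A] M' := φ ∘ₗ (TensorProduct.mk A M' A').flip 1
  let e : M' →ₗ[A] M' := μ ∘ₗ ψ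
  let D : A' ⊗[A] M' →ₗ[A] A' ⊗[A] (A' ⊗[A] M') := LinearMap.lTensor A' ψ
  let J : A' ⊗[A] M' →ₗ[A] A' ⊗[A] (A' ⊗[A] M') := LinearMap.lTensor A' (TensorProduct.mk A A' M' 1)
  have hψ : ∀ u, ψ u = φ (u ⊗ₜ[A] (1 : A')) := fun u => rfl
  -- coassociativity
  have hDJ : ∀ u, D (ψ u) = J (ψ u) := by
    intro u
    refine Eq.trans ?_ (hcoc u 1 1)
    simp only [LinearMap.rTensor_tmul, D, hψ]
    generalize φ (u ⊗ₜ[A] (1 : A')) = t
    induction t using TensorProduct.induction_on with
    | zero => simp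
    | tmul a m => simp [hψ]
    | add x y hx hy => simp only [add_tmul, map_add, hx, hy]
  -- linearity
  have hψs : ∀ (x : A') (u : M'), ψ (x • u) = LinearMap.rTensor M' (LinearMap.mulLeft A x) (ψ u) :=
    fun x u => h1 x u 1
  have hμs : ∀ (x : A') (t : A' ⊗[A] M'),
      μ (LinearMap.rTensor M' (LinearMap.mulLeft A x) t) = x • μ t := by
    intro x t
    induction t using TensorProduct.induction_on with
    | zero => simp
    | tmul a m => simp [μ]
    | add a b ha hb => simp only [map_add, smul_add, ha, hb]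
  have hes : ∀ (x : A') (u : M'), e (x • u) = x • e u := by
    intro x u
    simp only [e, LinearMap.comp_apply]
    rw [hψs, hμs]
  have hμJ : ∀ t, LinearMap.lTensor A' μ (J t) = t := by
    intro t
    induction t using TensorProduct.induction_on with
    | zero => simp
    | tmul a m => simp [J, μ]
    | add a b ha hb => simp only [map_add, ha, hb]
  have heψ : ∀ u, LinearMap.lTensor A' e (ψ u) = ψ u := by
    intro u
    have h : LinearMap.lTensor A' e (ψ u) = LinearMap.lTensor A' μ (D (ψ u)) := by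
      simp only [e, D, LinearMap.lTensor_comp_apply]
    rw [h, hDJ, hμJ]
  have heφ : ∀ t, LinearMap.lTensor A' e (φ t) = φ t := by
    intro t
    induction t using TensorProduct.induction_on with
    | zero => simp
    | tmul u y =>
      have h : φ (u ⊗ₜ[A] y) = LinearMap.lTensor A' (Algebra.lsmul A A M' y) (ψ u) := by
        conv_lhs => rw [← mul_one y]
        exact h2 y u 1
      have hc : e ∘ₗ (Algebra.lsmul A A M' y) = (Algebra.lsmul A A M' y) ∘ₗ e :=
        LinearMap.ext fun m => hes y m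
      rw [h, ← LinearMap.lTensor_comp_apply, hc, LinearMap.lTensor_comp_apply, heψ]
    | add a b ha hb => simp only [map_add, ha, hb]
  have he : ∀ u, e u = u := by
    have hz : LinearMap.lTensor A' (e - LinearMap.id) = 0 := by
      refine LinearMap.ext fun t => ?_
      obtain ⟨s, rfl⟩ := hφ.2 t
      simp [LinearMap.lTensor_sub, heφ]
    have := (Module.FaithfullyFlat.zero_iff_lTensor_zero A A' (e - LinearMap.id)).mpr hz
    intro u
    simpa [sub_eq_zero] using LinearMap.congr_fun this u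
  let g : M' →ₗ[A] A' ⊗[A] M' := ψ - TensorProduct.mk A A' M' 1
  have hex : Function.Exact M.subtype g := by
    intro u
    simp only [g, LinearMap.sub_apply, sub_eq_zero, hψ, TensorProduct.mk_apply, ← hM]
    exact ⟨fun h => ⟨⟨u, h⟩, rfl⟩, fun ⟨v, hv⟩ => hv ▸ v.2⟩
  have hex' := Module.Flat.lTensor_exact A' hex
  have hι : Function.Injective (LinearMap.lTensor A' M.subtype) :=
    Module.Flat.lTensor_preserves_injective_linearMap _ M.injective_subtype
  have hψΦ : ∀ t, ψ (μ (LinearMap.lTensor A' M.subtype t)) = LinearMap.lTensor A' M.subtype t := by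
    intro t
    induction t using TensorProduct.induction_on with
    | zero => simp
    | tmul a m =>
      have hm : ψ (m : M') = (1 : A') ⊗ₜ[A] (m : M') := (hM m).1 m.2
      simp [μ, hψs, hm]
    | add a b ha hb => simp only [map_add, ha, hb]
  refine ⟨fun s t h => ?_, fun u => ?_⟩
  · apply hι
    rw [← hψΦ s, ← hψΦ t]
    exact congrArg ψ h
  · obtain ⟨t, ht⟩ := (hex' (ψ u)).1 (by
      simp only [g, LinearMap.lTensor_sub, LinearMap.sub_apply, sub_eq_zero]
      exact hDJ u)
    exact ⟨t, by show μ (LinearMap.lTensor A' M.subtype t) = u; rw [ht]; exact he u⟩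


end Groth.Agent.S19547
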