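import Groth.Statements.S19552
import Mathlib
import Groth.Agent.Lib.H2Alg.Bass
import Groth.Agent.S19545

set_option autoImplicit false
universe u
open CAlg

namespace Groth.Agent.S19552

/-- Let R be a Noetherian ring of Krull dimension d and P, Q finitely generated projective R-modules of
constant rank at every prime which have the same class in the Grothendieck group, i.e. are stably
isomorphic: P ⊕ R^m ≅ Q ⊕ R^m for some m. Then there is a positive integer N with P^N ≅ Q^N. (The
two exponents in the published display are read as the same integer N; for modules of positive rank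
an isomorphism between direct powers forces equal exponents.) -/
theorem result (R : Type u) [CommRing R] [IsNoetherianRing R]
    (d n : ℕ) (hdim : ringKrullDim R = d)
    (P Q : Type u) [AddCommGroup P] [Module R P] [Module.Finite R P] [Module.Projective R P]
    [AddCommGroup Q] [Module R Q] [Module.Finite R Q] [Module.Projective R Q]
    (hrk : ∀ p : PrimeSpectrum R, Module.rankAtStalk (R := R) P p = n)
    (hrk' : ∀ p : PrimeSpectrum R, Module.rankAtStalk (R := R) Q p = n)
    (m : ℕ) (e : (P × (Fin m → R)) ≃ₗ[R] (Q × (Fin m → R))) :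
    ∃ N : ℕ, 1 ≤ N ∧ Nonempty ((Fin N → P) ≃ₗ[R] (Fin N → Q)) := by
  rcases Nat.eq_zero_or_pos n with rfl | hn
  · haveI : Subsingleton P := Module.rankAtStalk_eq_zero_iff_subsingleton.1 (funext hrk)
    haveI : Subsingleton Q := Module.rankAtStalk_eq_zero_iff_subsingleton.1 (funext hrk')
    exact ⟨1, le_rfl, ⟨LinearEquiv.ofSubsingleton _ _⟩⟩
  refine ⟨d + 1, by omega, ?_⟩
  have hr : ∀ (X : Type u) [AddCommGroup X] [Module R X] [Module.Finite R X] [Module.Projective R X],
      (∀ p : PrimeSpectrum R, Module.rankAtStalk (R := R) X p = n) →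
      ∀ p : PrimeSpectrum R, Module.rankAtStalk (R := R) (Fin (d + 1) → X) p = (d + 1) * n := by
    intro X _ _ _ _ hX p
    rw [Module.rankAtStalk_pi]
    simp [hX p, finsum_eq_sum_of_fintype]
  let sh : ∀ (X : Type u) [AddCommGroup X] [Module R X],
      ((Fin (d + 1) → X × (Fin m → R))) ≃ₗ[R] ((Fin (d + 1) → X) × (Fin ((d + 1) * m) → R)) := fun X _ _ =>
    (({ toFun := fun f => (fun i => (f i).1, fun i => (f i).2)
        invFun := fun z i => (z.1 i, z.2 i)
        map_add' := fun _ _ => rfl
        map_smul' := fun _ _ => rfl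
        left_inv := fun _ => rfl
        right_inv := fun _ => rfl } :
      (Fin (d + 1) → X × (Fin m → R)) ≃ₗ[R] ((Fin (d + 1) → X) × (Fin (d + 1) → Fin m → R)))).trans
      ((LinearEquiv.refl R _).prodCongr ((LinearEquiv.curry R R (Fin (d + 1)) (Fin m)).symm.trans
        (LinearEquiv.funCongrLeft R R finProdFinEquiv.symm)))
  haveI hproj : ∀ (X : Type u) [AddCommGroup X] [Module R X] [Module.Projective R X],
      Module.Projective R (Fin (d + 1) → X) := fun X _ _ _ =>
    Module.Projective.of_equiv (DirectSum.linearEquivFunOnFintype R (Fin (d + 1)) (fun _ => X))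
  exact Groth.Agent.S19545.result R d ((d + 1) * n) hdim (Fin (d + 1) → P) (Fin (d + 1) → Q) (hr P hrk) (hr Q hrk')
    (Nat.lt_succ_self d |>.trans_le (Nat.le_mul_of_pos_right _ hn)) ((d + 1) * m)
    ((sh P).symm.trans ((LinearEquiv.piCongrRight fun _ => e).trans (sh Q)))

end Groth.Agent.S19552
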