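import Groth.Statements.S19553
import Groth.Agent.Lib.Curvette32.Degree
import Groth.Agent.Lib.CurveR1_10.Basic
-- import your own Groth.Agent.* helpers here

set_option autoImplicit false
universe u
open CategoryTheory CategoryTheory.Limits AlgebraicGeometry
open Models

namespace Groth.Agent.S19553

/-- The surjectivity of the degree map, which is the assertion in the published proof that uses
completeness of R and an algebraically closed residue field. Let R be a complete discrete valuation
ring with algebraically closed residue field k and fraction field K, C a smooth proper curve over K
with H⁰(C, O_C) = K and dim_K H¹(C, O_C) = g ≥ 2, X → Spec R a regular proper model of C, and Γ₁, …,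
Γ_n the irreducible components of the closed fibre. Then for each i there is an invertible
O_X-module M with deg_k(M|Γ_i) = 1 and deg_k(M|Γ_j) = 0 for j ≠ i; in other words the degree map
from invertible modules on X to ℤ^n is surjective. (The published proposition, which also assumes
that the multiplicities of the Γ_j have no common divisor, is the exact sequence 0 → Pic⁰ X → Pic C
→ G → 0 with Pic⁰ X the classes of degree zero on every Γ_j and G the cokernel of the intersection
matrix; its other constituents — the kernel of restriction to C is generated by the O_X(Γ_j), a
class of degree zero on every Γ_j and trivial on C is trivial when the multiplicities are coprime,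
and the kernel of the induced map on Pic C — hold over any discrete valuation ring and are stated
separately; this row is the assertion whose published argument uses that R is complete with
algebraically closed residue field.) -/
theorem result
    (R : Type u) [CommRing R] [IsDomain R] [IsDiscreteValuationRing R]
    [IsAdicComplete (IsLocalRing.maximalIdeal R) R]
    (hk : IsAlgClosed (IsLocalRing.ResidueField R))
    (C : Scheme.{u}) (fC : C ⟶ (Spec (CommRingCat.of (FractionRing R)))) [IsProper fC] [Smooth fC]
    (hC0 : Models.hRank (FractionRing R) C fC (Coh.structureModule C) 0 = 1)
    (g : ℕ) (hg2 : 2 ≤ g) (hg : Models.curveGenus (FractionRing R) C fC = g)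
    (X : Scheme.{u}) (p : X ⟶ (Spec (CommRingCat.of R))) (hX : Models.IsRegularProperModel R X p C fC)
    {n : ℕ} (Γ : Fin n → ArSurf.VertComp R (Over.mk p)) (hΓ : Models.IsComponentList R (Over.mk p) Γ)
    (i : Fin n) :
    ∃ M : X.Modules, PicF.IsInvertible M ∧
      ∀ j : Fin n, ArSurf.inter R (Over.mk p) M (Γ j) = if j = i then 1 else 0 := by
  haveI := hk
  haveI : HenselianRing R (IsLocalRing.maximalIdeal R) := inferInstance
  haveI : HenselianLocalRing R :=
    { is_henselian := fun h hm a ha hd =>
        HenselianRing.is_henselian (I := IsLocalRing.maximalIdeal R) h hm a ha (hd.map (Ideal.Quotient.mk _)) }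
  have hbij := Groth.Agent.CurveR1_10.bijective_appTop_of_hRank fC hC0
  haveI := Groth.Agent.ArInter.isIntegral_of_smooth_constants fC hbij
  exact Groth.Agent.Curvette.exists_invertible_delta
    ⟨hX.2.1, Groth.Agent.ArInter.isIntegral_of_isModel' hX.1 hX.2.2, hX.1.1⟩ hX.2.2 hΓ i

end Groth.Agent.S19553
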