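import Groth.Statements.S19554
import Groth.Agent.S9559
import Groth.Agent.Lib.EtSite.Sheaf
import Mathlib.CategoryTheory.Sites.PreservesLocallyBijective

set_option autoImplicit false
universe u
open CategoryTheory AlgebraicGeometry
open CohProp

namespace Groth.Agent.S19554

open CategoryTheory.Limits Opposite

/-- Two sheaves receiving locally bijective maps from one presheaf are isomorphic. -/
theorem iso_of_locallyBijective {C : Type*} [Category C] {J : GrothendieckTopology C}
    [HasWeakSheafify J (Type (u + 1))] [J.WEqualsLocallyBijective (Type (u + 1))]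
    {P : Cᵒᵖ ⥤ Type (u + 1)} {F G : Sheaf J (Type (u + 1))} (a : P ⟶ F.obj) (b : P ⟶ G.obj)
    [Presheaf.IsLocallyInjective J a] [Presheaf.IsLocallySurjective J a]
    [Presheaf.IsLocallyInjective J b] [Presheaf.IsLocallySurjective J b] : Nonempty (F ≅ G) := by
  have h : ∀ (F : Sheaf J (Type (u + 1))) (a : P ⟶ F.obj), Presheaf.IsLocallyInjective J a →
      Presheaf.IsLocallySurjective J a → Nonempty ((presheafToSheaf J _).obj P ≅ F) := by
    intro F a h1 h2
    let k : (presheafToSheaf J _).obj P ⟶ F := ⟨sheafifyLift J a F.property⟩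
    have hk : toSheafify J P ≫ k.hom = a := toSheafify_sheafifyLift J _ F.property
    haveI : Sheaf.IsLocallyInjective k := by
      show Presheaf.IsLocallyInjective J k.hom
      have hh : Presheaf.IsLocallyInjective J (toSheafify J P ≫ k.hom) := by rw [hk]; infer_instance
      exact (Presheaf.comp_isLocallyInjective_iff J (toSheafify J P) k.hom).1 hh
    haveI : Sheaf.IsLocallySurjective k := by
      show Presheaf.IsLocallySurjective J k.hom
      have hh : Presheaf.IsLocallySurjective J (toSheafify J P ≫ k.hom) := by rw [hk]; infer_instance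
      exact (Presheaf.comp_isLocallySurjective_iff J (toSheafify J P) k.hom).1 hh
    haveI : IsIso k := (Sheaf.isLocallyBijective_iff_isIso k).mp ⟨inferInstance, inferInstance⟩
    exact ⟨asIso k⟩
  exact ⟨(h F a inferInstance inferInstance).some.symm ≪≫ (h G b inferInstance inferInstance).some⟩

theorem split_iso {S X U : Scheme.{u}} (f : X ⟶ S) [Etale f] (g : U ⟶ S) [Etale g] {n : ℕ}
    (V : Fin n → Scheme.{u}) (c : ∀ j, V j ⟶ U) [∀ j, IsIso (c j)] (e : (∐ V) ≅ pullback f g)
    (he : ∀ j, Sigma.ι V j ≫ e.hom ≫ pullback.snd f g = c j) :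
    Nonempty ((EtDesc.repSh (Scheme.Etale.mk f)).over (Scheme.Etale.mk g) ≅
      (CohProp.constSh S (ULift.{u + 1} (Fin n))).over (Scheme.Etale.mk g)) := by
  classical
  let ci : ∀ j, U ⟶ V j := fun j => inv (c j)
  have hci : ∀ j, ci j ≫ c j = 𝟙 U := fun j => IsIso.inv_hom_id (c j)
  let s0 : Fin n → (U ⟶ X) := fun j => ci j ≫ Sigma.ι V j ≫ e.hom ≫ pullback.fst f g
  have hisoc : ∀ j, IsIso (c j) := fun j => inferInstance
  let U' : S.Etale := Scheme.Etale.mk g
  let X' : S.Etale := Scheme.Etale.mk f
  let M := ULift.{u + 1} (Fin n)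
  let J := S.smallEtaleTopology
  let s : Fin n → (U' ⟶ X') := fun j =>
    MorphismProperty.Over.homMk (s0 j) (by
      change s0 j ≫ f = g
      simp only [s0, Category.assoc, pullback.condition]
      rw [reassoc_of% (he j), reassoc_of% (hci j)])
  let P : (Over U')ᵒᵖ ⥤ Type (u + 1) := (Functor.const (Over U')ᵒᵖ).obj M
  let Q : S.Etaleᵒᵖ ⥤ Type (u + 1) := yoneda.obj X' ⋙ uliftFunctor.{u + 1}
  let θ : P ⟶ (Over.forget U').op ⋙ Q :=
    { app := fun O => TypeCat.ofHom fun m => ULift.up (O.unop.hom ≫ s m.down)
      naturality := fun O O' k => by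
        ext m
        exact congrArg ULift.up ((congrArg (· ≫ s m.down) (Over.w k.unop).symm).trans (Category.assoc _ _ _)) }
  haveI : Presheaf.IsLocallyInjective (J.over U') θ := by
    refine ⟨fun {O} m m' h => ?_⟩
    rw [GrothendieckTopology.mem_over_iff, EtSite.mem_et_iff]
    intro z
    have h' : O.unop.hom ≫ s m.down = O.unop.hom ≫ s m'.down := congrArg ULift.down h
    let o : O.unop.left.left ⟶ U := O.unop.hom.left
    have hl : ∀ j : Fin n, pullback.lift (f := f) (g := g) (o ≫ s0 j) o
        (by simp only [s0, Category.assoc, pullback.condition]; rw [reassoc_of% (he j), reassoc_of% (hci j)]) =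
        o ≫ ci j ≫ Sigma.ι V j ≫ e.hom := by
      intro j
      refine pullback.hom_ext ?_ ?_
      · rw [pullback.lift_fst]; simp [s0]
      · rw [pullback.lift_snd]; simp [he, hci]
    have h'' : o ≫ s0 m.down = o ≫ s0 m'.down := congrArg (fun q : O.unop.left ⟶ X' => q.left) h'
    have h2 : o ≫ ci m.down ≫ Sigma.ι V m.down = o ≫ ci m'.down ≫ Sigma.ι V m'.down := by
      rw [← cancel_mono e.hom]
      simp only [Category.assoc]
      rw [← hl, ← hl]
      simp only [h'']
    have hm : m = m' := by
      refine ULift.ext _ _ (by_contra fun hne => ?_)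
      have h3 := congr(($h2) z)
      simp only [Scheme.Hom.comp_apply] at h3
      exact hne (congrArg Sigma.fst ((AlgebraicGeometry.sigmaι_eq_iff V _ _ _ _).1 h3))
    exact ⟨_, 𝟙 _, z, ⟨O.unop, 𝟙 _, 𝟙 _, hm, (Category.id_comp _).symm⟩, rfl⟩
  haveI : Presheaf.IsLocallySurjective (J.over U') θ := by
    refine ⟨fun {O} t => ?_⟩
    rw [GrothendieckTopology.mem_over_iff, EtSite.mem_et_iff]
    intro z
    let φ : O.left ⟶ X' := t.down
    let o : O.left.left ⟶ U := O.hom.left
    let p : O.left.left ⟶ X := φ.left
    let l : O.left.left ⟶ ∐ V := pullback.lift (f := f) (g := g) p o ((MorphismProperty.Over.w φ).trans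
      (MorphismProperty.Over.w O.hom).symm) ≫ e.inv
    obtain ⟨j, y, hy⟩ := (sigmaOpenCover V).exists_eq (l z)
    let W : O.left.left.Opens := l ⁻¹ᵁ (Sigma.ι V j).opensRange
    have hr : Set.range (W.ι ≫ l) ⊆ Set.range (Sigma.ι V j) := by
      rintro _ ⟨w, rfl⟩
      exact w.2
    let l' := IsOpenImmersion.lift (Sigma.ι V j) (W.ι ≫ l) hr
    have hl' : l' ≫ Sigma.ι V j = W.ι ≫ l := IsOpenImmersion.lift_fac _ _ _
    haveI : Etale O.left.hom := O.left.prop
    let O' : S.Etale := Scheme.Etale.mk (W.ι ≫ O.left.hom)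
    let k : O' ⟶ O.left := MorphismProperty.Over.homMk W.ι rfl
    have hu : l' = W.ι ≫ o ≫ ci j := by
      haveI : IsIso (c j) := hisoc j
      rw [← cancel_mono (c j), Category.assoc, Category.assoc]
      erw [hci, Category.comp_id]
      rw [← he j, reassoc_of% hl']
      simp [l]
      erw [pullback.lift_snd]
    have hφ : k ≫ φ = (k ≫ O.hom) ≫ s j := by
      refine MorphismProperty.Over.Hom.ext ?_
      change W.ι ≫ p = (W.ι ≫ o) ≫ ci j ≫ Sigma.ι V j ≫ e.hom ≫ pullback.fst f g
      rw [Category.assoc, ← reassoc_of% hu, reassoc_of% hl']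
      simp [l]
      erw [pullback.lift_fst]
    exact ⟨O', k, ⟨z, ⟨y, hy⟩⟩, ⟨Over.mk (k ≫ O.hom), Over.homMk k, 𝟙 _,
      ⟨ULift.up j, congrArg ULift.up hφ.symm⟩, (Category.id_comp _).symm⟩, rfl⟩
  let η₁ : Q ⟶ (EtDesc.repSh X').obj := toSheafify J Q
  let η₂ : (Functor.const S.Etaleᵒᵖ).obj M ⟶ (CohProp.constSh S M).obj := toSheafify J _
  haveI := Presheaf.isLocallyInjective_whisker (J := J.over U') (K := J) (H := Over.forget U') η₁
  haveI := Presheaf.isLocallySurjective_whisker (J := J.over U') (K := J) (H := Over.forget U') η₁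
  haveI : Presheaf.IsLocallyInjective J η₂ := inferInstanceAs (Presheaf.IsLocallyInjective J (toSheafify J ((Functor.const S.Etaleᵒᵖ).obj M)))
  haveI : Presheaf.IsLocallySurjective J η₂ := inferInstanceAs (Presheaf.IsLocallySurjective J (toSheafify J ((Functor.const S.Etaleᵒᵖ).obj M)))
  let a : P ⟶ ((EtDesc.repSh X').over U').obj := θ ≫ Functor.whiskerLeft (Over.forget U').op η₁
  let b : P ⟶ ((CohProp.constSh S M).over U').obj := Functor.whiskerLeft (Over.forget U').op η₂
  haveI : Presheaf.IsLocallyInjective (J.over U') a :=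
    Presheaf.isLocallyInjective_comp (J := J.over U') θ (Functor.whiskerLeft (Over.forget U').op η₁)
  haveI : Presheaf.IsLocallySurjective (J.over U') a :=
    Presheaf.isLocallySurjective_comp (J := J.over U') θ (Functor.whiskerLeft (Over.forget U').op η₁)
  haveI : Presheaf.IsLocallyInjective (J.over U') b :=
    Presheaf.isLocallyInjective_whisker (J := J.over U') (K := J) (H := Over.forget U') η₂
  haveI : Presheaf.IsLocallySurjective (J.over U') b :=
    Presheaf.isLocallySurjective_whisker (J := J.over U') (K := J) (H := Over.forget U') η₂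
  exact iso_of_locallyBijective a b

/-- For any scheme S and any finite étale morphism f : X → S, the sheaf of sets h_X on the small étale
site of S attached to the étale S-scheme X is finite locally constant: S admits a jointly surjective
family of étale S-schemes over each member of which h_X becomes isomorphic to a constant sheaf with
finite value. (This is the first assertion of the published result, that X ↦ h_X sends finite étale
S-schemes to finite locally constant sheaves of sets; the equivalence it goes on to assert is not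
stated here.) -/
theorem result (S X : Scheme.{u}) (f : X ⟶ S) [Etale f] [IsFinite f] :
    CohProp.IsFinLocConstSet (EtDesc.repSh (Scheme.Etale.mk f)) := by
  classical
  have key : ∀ s : S, ∃ (U : S.Etale) (u : U.left), U.hom u = s ∧ ∃ M : Type (u + 1), Finite M ∧
      Nonempty ((EtDesc.repSh (Scheme.Etale.mk f)).over U ≅ (CohProp.constSh S M).over U) := by
    intro s
    obtain ⟨U, g, hg, v, hv, n, V, c, hc, e, he⟩ := Groth.Agent.S9559.result f s
    haveI := hg
    haveI := hc
    refine ⟨Scheme.Etale.mk g, v, hv, ULift.{u + 1} (Fin n), inferInstance, ?_⟩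
    exact split_iso f g V c e he
  choose U u hu hM using key
  exact ⟨S, U, fun s => ⟨s, u s, hu s⟩, hM⟩

end Groth.Agent.S19554
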