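import Groth.Statements.S19559
import Groth.Agent.Lib.NodalCrit14.Geom

set_option autoImplicit false
universe u
open CategoryTheory CategoryTheory.Limits AlgebraicGeometry
open Curves

namespace Groth.Agent.S19559

/-- Let π : C → S be a flat morphism locally of finite presentation all of whose fibres have every
irreducible component of dimension one (every geometric fibre is a curve). Then the set of points p
of C such that either π is smooth on an open neighbourhood of p, or p is a node of its fibre
C_{π(p)} viewed as a scheme over κ(π(p)) (a closed point of the fibre at which, after base change to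
an algebraic closure, the complete local ring is that of an ordinary double point), is open in C. -/
theorem result {C S : Scheme.{u}} (π : C ⟶ S)
    [Flat π] [LocallyOfFinitePresentation π]
    (hfib : ∀ s : S, ∀ Z ∈ irreducibleComponents (↥(π.fiber s) : Type u), topologicalKrullDim Z = 1) :
    IsOpen {p : C | (∃ U : C.Opens, p ∈ U ∧ Smooth (U.ι ≫ π)) ∨
      @Curv2.IsNode (S.residueField (π.base p)) _ (π.fiber (π.base p)) ⟨π.fiberToSpecResidueField (π.base p)⟩ (π.asFiber p)} := by
  have hdim := NodalCrit14.fibreDimAt_eq_one π hfib
  convert NodalCrit14.isOpen_goodPt π hdim using 1
  ext p
  exact or_congr (Descend.smooth_nhd_iff_mem_smoothLocus π p) Iff.rfl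

end Groth.Agent.S19559
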