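import Groth.Statements.S1956
import Groth.Agent.Lib.Vol26.Zigzag

set_option autoImplicit false
universe u
open CategoryTheory AlgebraicGeometry
open Cyc

set_option backward.isDefEq.respectTransparency false
set_option backward.isDefEq.respectTransparency.types false
set_option maxHeartbeats 1000000

namespace Groth.Agent.S1956

open CategoryTheory.Limits TopologicalSpace Groth.Agent.Vol26
open CurveCoh17 (stalkLin)



/-- For a k-cycle α = Σ n_Z [Z] on X rationally equivalent to zero, the classes of ⊕_{n_Z>0} O_Z^{n_Z}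
and ⊕_{n_Z<0} O_Z^{−n_Z} agree in K_0(Coh_{≤k+1}(X)/Coh_{≤k−1}(X)); that is, Z_k(X) →
K_0(Coh_{≤k+1}/Coh_{≤k−1}) factors through CH_k(X). Here O_Z is the structure sheaf of the reduced
closure of the generic point pushed forward to X, and K_0 of the Serre quotient is modelled as in
Cyc.K0CohQuot. Here a pair (X, δ) with Cyc.IsSetup plays the role of a scheme locally of finite type
over a fixed base with a dimension function (X locally Noetherian with universally catenary local
rings, δ a dimension function). -/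
theorem result (X : Scheme.{u}) (δ : X → ℤ) (hX : Cyc.IsSetup X δ) (k : ℤ) (α : AlgebraicCycle X ℤ) (hα : α ∈ Cyc.Zk X δ k) (h0 : Cyc.RatEquivZero δ k α) : Cyc.toK0CohQuot δ (k + 1) (k - 1) (Cyc.cycleSheafPos ⇑α) = Cyc.toK0CohQuot δ (k + 1) (k - 1) (Cyc.cycleSheafNeg ⇑α) := by
  obtain ⟨hN, -, hd⟩ := hX
  obtain ⟨ι, ξ, f, hξ, hf, hlf, hsum⟩ := h0
  choose t ht using fun i => X.residue_surjective (ξ i) (f i)
  choose g hg hgmax using fun i => exists_gen_closureStructureSheaf (ξ i)
  let G : ι → X.Modules := fun i => Cyc.closureStructureSheaf (ξ i)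
  have hG : ∀ i, Coh.IsCoh (G i) := fun i => isCoh_closureStructureSheaf _
  have sG : ∀ i, SuppPt (ξ i) (G i) := fun i => suppPt_closureStructureSheaf _
  choose N a b hN' sN ha hab using fun i => exists_graph (hG i) (hG i) (sG i) (sG i)
    (t i • (LinearMap.id : (G i).presheaf.stalk (ξ i) →ₗ[X.presheaf.stalk (ξ i)] (G i).presheaf.stalk (ξ i)))
  have hu : ∀ i, IsUnit (t i) := fun i => by
    refine IsLocalRing.notMem_maximalIdeal.1 fun h => hf i ?_
    rw [← ht i]
    exact (IsLocalRing.residue_eq_zero_iff _).2 h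
  have hb : ∀ i, Function.Bijective (stalkLin (b i) (ξ i)) := fun i => by
    refine ⟨fun p q h => (ha i).1 ?_, fun c => ?_⟩
    · rw [hab, hab] at h
      exact (hu i).smul_left_cancel.1 h
    · obtain ⟨p, hp⟩ := (ha i).2 ((hu i).unit⁻¹.val • c)
      refine ⟨p, ?_⟩
      rw [hab, hp]
      show t i • (hu i).unit⁻¹.val • c = c
      rw [← mul_smul, IsUnit.mul_val_inv, one_smul]
  have hloc : ∀ i, indexFun δ k (b i) - indexFun δ k (a i) = Cyc.divFun δ (ξ i) (f i) := fun i => by
    refine indexFun_sub hd (hξ i) (a i) (b i) (sN i) (sG i) (sG i) (fun x hx => dif_neg hx) fun x h hδ => ?_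
    rw [Cyc.divFun, dif_pos ⟨h, hδ⟩, ← ht i]
    exact local_index hd h hδ (hN' i).1 (a i) (b i) (ha i) (gx := g i x h) (gx' := g i x h)
      ((hg i).surj x h) ((hg i).surj x h) ((hg i).ann x h) ((hg i).ann x h)
      (fun r => (hgmax i x h r).1) (fun r => (hgmax i x h r).1)
      (by rw [ht i]; exact hf i) fun w r hw => by
        rw [hab, LinearMap.smul_apply, LinearMap.id_apply, hw, smul_smul, mul_comm]
  have key := zigzag_class hd ξ hξ (fun x => by
      obtain ⟨U, hU, hx, hfin⟩ := hlf x
      exact ⟨U, hU, hx, hfin.subset fun i hi => ⟨ξ i, subset_closure rfl, hi⟩⟩)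
    G G N hG hG hN' sG sG sN a b ha hb α hα (fun x => by rw [hsum x]; simp only [hloc])
  rw [sub_self] at key
  exact sub_eq_zero.1 key.symm

end Groth.Agent.S1956
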