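import Groth.Statements.S19560
import Mathlib.Algebra.CharP.Basic

set_option autoImplicit false
universe u
open W4c1limliniiii

namespace Groth.Agent.S19560

open Polynomial in
/-- Let k be an algebraically closed field of characteristic p (a prime or zero) and let F, G be
polynomials spanning a base-point-free pencil V of degree d (a two-dimensional space of polynomials
of degree at most d containing one of degree d and with no common zero in k), so that V encodes a
degree-d self-map F/G of the projective line up to automorphisms of the target. Suppose the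
Wronskian W = F′G − FG′ is non-zero and vanishes at the point a to order exactly e − 1 with e ≥ 1,
and that p = 0 or e − 1 < p. Then the map is tamely ramified at a with index e: the largest order of
vanishing at a of a non-zero member of V is e, and p does not divide e. (The hypothesis W ≠ 0 makes
the order of vanishing meaningful; for W = 0 the map is inseparable.) -/
theorem result
    (k : Type u) [Field k] [IsAlgClosed k] (p : ℕ) [CharP k p]
    (d : ℕ) (F G : k[X]) (hV : W4c1limliniiii.IsPencil d (Submodule.span k {F, G}))
    (hW : Polynomial.wronskian F G ≠ 0) (a : k) (e : ℕ)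
    (he : (Polynomial.wronskian F G).rootMultiplicity a + 1 = e) (hp : p = 0 ∨ e - 1 < p) :
    W4c1limliniiii.HasRamIdx (Submodule.span k {F, G}) a e ∧ ¬ p ∣ e := by
  set V := Submodule.span k {F, G}
  obtain ⟨s, hsV, hsa⟩ := hV.2.2.2 a
  obtain ⟨a1, b1, hs⟩ := Submodule.mem_span_pair.1 hsV
  have hW' : F * derivative G - derivative F * G ≠ 0 := hW
  let t : k[X] := G.eval a • F - F.eval a • G
  have htV : t ∈ V := sub_mem (Submodule.smul_mem _ _ (Submodule.subset_span (Set.mem_insert _ _)))
    (Submodule.smul_mem _ _ (Submodule.subset_span (Set.mem_insert_of_mem _ rfl)))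
  have hta : t.eval a = 0 := by simp [t, mul_comm]
  have ht0 : t ≠ 0 := by
    intro h
    have hF : F.eval a = 0 := by
      have e1 : wronskian F t = -(F.eval a) • wronskian F G := by
        simp only [t, wronskian, derivative_sub, derivative_smul, derivative_C_mul, smul_eq_C_mul, map_neg]
        ring
      rw [h, show wronskian F 0 = 0 by simp [wronskian]] at e1
      exact neg_eq_zero.1 ((smul_eq_zero.1 e1.symm).resolve_right hW)
    have hG : G.eval a = 0 := by
      have e1 : wronskian G t = -(G.eval a) • wronskian F G := by
        simp only [t, wronskian, derivative_sub, derivative_smul, derivative_C_mul, smul_eq_C_mul, map_neg]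
        ring
      rw [h, show wronskian G 0 = 0 by simp [wronskian]] at e1
      exact neg_eq_zero.1 ((smul_eq_zero.1 e1.symm).resolve_right hW)
    exact hsa (by rw [← hs]; simp [hF, hG])
  set m := t.rootMultiplicity a with hm
  have hm1 : 1 ≤ m := (rootMultiplicity_pos ht0).2 hta
  obtain ⟨u, hu, hua⟩ := exists_eq_pow_rootMultiplicity_mul_and_not_dvd t ht0 a
  rw [← hm] at hu
  rw [dvd_iff_isRoot, IsRoot] at hua
  set δ := -(a1 * F.eval a + b1 * G.eval a) with hδ
  have hsδ : δ = -(s.eval a) := by rw [hδ, ← hs]; simp
  have hδ0 : δ ≠ 0 := by rw [hsδ]; exact neg_ne_zero.2 hsa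
  have hWst : wronskian s t = δ • wronskian F G := by
    rw [← hs, hδ]
    simp only [t, wronskian, derivative_sub, derivative_add, derivative_smul, derivative_C_mul, smul_eq_C_mul, map_neg, map_add, map_mul]
    ring
  have hfac : wronskian s t = (X - C a) ^ (m - 1) * (C (m : k) * (s * u) + (X - C a) * wronskian s u) := by
    obtain ⟨j, hj⟩ : ∃ j, m = j + 1 := ⟨m - 1, by omega⟩
    rw [hu, hj]
    simp only [wronskian, derivative_mul, derivative_pow, derivative_sub, derivative_X, derivative_C, sub_zero, mul_one,
      Nat.add_sub_cancel]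
    ring
  have hWe : (wronskian s t).rootMultiplicity a + 1 = e := by
    rw [hWst, smul_eq_C_mul, rootMultiplicity_mul (mul_ne_zero (C_ne_zero.2 hδ0) hW), rootMultiplicity_C, zero_add, he]
  have hmk : (m : k) ≠ 0 := by
    intro hm0
    have hdvd : (X - C a) ^ m ∣ wronskian s t := by
      rw [hfac, hm0, map_zero, zero_mul, zero_add, ← mul_assoc, ← pow_succ, Nat.sub_add_cancel hm1]
      exact dvd_mul_right _ _
    have hne : wronskian s t ≠ 0 := by rw [hWst]; exact smul_ne_zero hδ0 hW
    have hle : m ≤ (wronskian s t).rootMultiplicity a := (le_rootMultiplicity_iff hne).2 hdvd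
    rw [CharP.cast_eq_zero_iff k p] at hm0
    rcases hp with rfl | hp
    · rw [zero_dvd_iff] at hm0; omega
    · have := Nat.le_of_dvd (by omega) hm0; omega
  have hem : m = e := by
    have hQa : (C (m : k) * (s * u) + (X - C a) * wronskian s u).eval a ≠ 0 := by
      simp [hmk, hsa, hua]
    have hQ : (C (m : k) * (s * u) + (X - C a) * wronskian s u) ≠ 0 := fun h => hQa (by rw [h, eval_zero])
    rw [hfac, rootMultiplicity_mul (mul_ne_zero (pow_ne_zero _ (X_sub_C_ne_zero a)) hQ),
      rootMultiplicity_X_sub_C_pow, rootMultiplicity_eq_zero (fun h => hQa h), add_zero] at hWe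
    omega
  refine ⟨⟨⟨t, htV, ht0, by omega⟩, fun x hxV hx0 => ?_⟩, ?_⟩
  · by_cases hxa : x.eval a = 0
    · obtain ⟨c1, d1, hx⟩ := Submodule.mem_span_pair.1 hxV
      have key : ∃ c : k, x = c • t := by
        have h0 : c1 * F.eval a + d1 * G.eval a = 0 := by rw [← hx] at hxa; simpa using hxa
        rcases em (F.eval a = 0) with hF | hF
        · have hG : G.eval a ≠ 0 := fun hG => hsa (by rw [← hs]; simp [hF, hG])
          have hd : d1 = 0 := by rw [hF, mul_zero, zero_add] at h0; exact (mul_eq_zero.1 h0).resolve_right hG
          exact ⟨c1 / G.eval a, by simp [t, hF, ← hx, hd, smul_smul, div_mul_cancel₀ _ hG]⟩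
        · refine ⟨-d1 / F.eval a, ?_⟩
          have hc : c1 = -d1 / F.eval a * G.eval a := by
            field_simp
            linear_combination h0
          rw [← hx, hc]
          simp only [t, smul_sub, smul_smul, div_mul_cancel₀ _ hF, neg_smul, sub_neg_eq_add]
      obtain ⟨c, rfl⟩ := key
      have hc : c ≠ 0 := fun h => hx0 (by rw [h, zero_smul])
      rw [smul_eq_C_mul, rootMultiplicity_mul (mul_ne_zero (C_ne_zero.2 hc) ht0), rootMultiplicity_C, zero_add]
      omega
    · rw [rootMultiplicity_eq_zero hxa]
      exact Nat.zero_le _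
  · rw [← hem]
    exact fun h => hmk ((CharP.cast_eq_zero_iff k p m).2 h)

end Groth.Agent.S19560
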