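import Groth.Statements.S19562
import Groth.Agent.Lib.LG29.Main

set_option autoImplicit false
universe u
open W4c1limliniiii

namespace Groth.Agent.S19562

open TensorProduct in
/-- Let k be a field, 0 < r < d, and f_i, g_i (i < n) linear maps forward and backward between
consecutive ones of n + 1 copies of k^d, forming a linked Grassmannian over Spec k whose scalar s is
zero: every composite f_i ∘ g_i and g_i ∘ f_i vanishes, rank f_i + rank g_i ≥ d, and for consecutive
indices im f_i ∩ ker f_{i+1} = 0 and im g_{i+1} ∩ ker g_i = 0. Let (V_i) be a k-valued point of the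
linked Grassmannian of rank-r sub-bundles (subspaces V_i of k ⊗ k^d with quotient of rank d − r,
with f_i(V_i) ⊆ V_{i+1} and g_i(V_{i+1}) ⊆ V_i). Then (V_i) is exact, meaning ker g_i ∩ V_{i+1} ⊆
f_i(V_i) and ker f_i ∩ V_i ⊆ g_i(V_{i+1}) for all i, if and only if dim f_i(V_i) + dim g_i(V_{i+1})
= r for all i. (The published assertion is for points with values in an arbitrary scheme and also
says that f_i(V_i) and g_i(V_{i+1}) are then sub-bundles; this row is the case of a field, where the
last clause is empty.) -/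
theorem result (k : Type u) [Field k]
    (d r n : ℕ) (hr : 0 < r) (hrd : r < d) (f g : Fin n → ((Fin d → k) →ₗ[k] (Fin d → k)))
    (hI : ∀ i, (f i).comp (g i) = 0 ∧ (g i).comp (f i) = 0)
    (hII : ∀ i, d ≤ Module.finrank k (LinearMap.range (f i)) + Module.finrank k (LinearMap.range (g i)))
    (hIII : ∀ i j : Fin n, i.val + 1 = j.val →
      LinearMap.range (f i) ⊓ LinearMap.ker (f j) = ⊥ ∧
        LinearMap.range (g j) ⊓ LinearMap.ker (g i) = ⊥)
    (V : Fin (n + 1) → Module.Grassmannian k (k ⊗[k] (Fin d → k)) (d - r))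
    (hV : V ∈ W4c1limliniiii.LGPoints k d r n f g k) :
    W4c1limliniiii.IsExact k d r n f g k V ↔
      ∀ i : Fin n,
        Module.finrank k ↥(Submodule.map ((f i).baseChange k) (V i.castSucc).toSubmodule) +
          Module.finrank k ↥(Submodule.map ((g i).baseChange k) (V i.succ).toSubmodule) = r := by
  have hI' : ∀ i, (f i).comp (g i) = (0 : k) • LinearMap.id ∧ (g i).comp (f i) = (0 : k) • LinearMap.id :=
    fun i => by rw [zero_smul]; exact hI i
  have hH := Groth.Agent.LG29.fibHyp_of_field hI' hII hIII k (map_zero _)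
  have hl := (Groth.Agent.LG29.mem_LGPoints_iff f g k V).mp hV
  have hr' : ∀ i, i ≤ n → Module.finrank k (Groth.Agent.LG29.subs V i) = r := fun i hi =>
    Groth.Agent.LG29.finrank_sub (bM := Pi.basisFun k (Fin d)) (σ := Groth.Agent.LG29.splitEquiv hrd.le) V hi
  rw [Groth.Agent.LG29.isExact_iff, hH.exact_iff hl hr']
  constructor
  · intro h i
    have := h i i.2
    rwa [Groth.Agent.LG29.bc_extend f k i, Groth.Agent.LG29.bc_extend g k i,
      show Groth.Agent.LG29.subs V (i : ℕ) = _ from Groth.Agent.LG29.subs_val V i.castSucc,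
      show Groth.Agent.LG29.subs V ((i : ℕ) + 1) = _ from Groth.Agent.LG29.subs_val V i.succ] at this
  · intro h i hi
    rw [Groth.Agent.LG29.bc_extend f k ⟨i, hi⟩, Groth.Agent.LG29.bc_extend g k ⟨i, hi⟩,
      show Groth.Agent.LG29.subs V i = _ from Groth.Agent.LG29.subs_val V (⟨i, hi⟩ : Fin n).castSucc,
      show Groth.Agent.LG29.subs V (i + 1) = _ from Groth.Agent.LG29.subs_val V (⟨i, hi⟩ : Fin n).succ]
    exact h ⟨i, hi⟩

end Groth.Agent.S19562
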