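import Groth.Statements.S19564
import Groth.Agent.Lib.W2Lift.Quadric

set_option autoImplicit false
universe u
open scoped BigOperators
open FrobAlg

namespace Groth.Agent.S19564

/-- Let k be a perfect field of characteristic p ≥ 3 and n ≥ 3. Then the ordinary double point k[x_1,
y_1, …, x_n, y_n]/(x_1y_1 + ⋯ + x_ny_n), the affine cone over the split quadric in 2n ≥ 6 variables,
admits no flat lifting over W₂(k) compatible with Frobenius (no flat W₂(k)-algebra reducing to it
that carries a ring endomorphism which is σ₂-semilinear and reduces to the p-th power map). (The
published statement is for any number N ≥ 5 of variables and allows arbitrary terms of degree ≥ 3 to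
be added to a non-degenerate quadratic form; this row is the case of the split form in an even
number of variables with nothing added, the case in which the argument is a pure comparison of
homogeneous components.) -/
theorem result
    (p : ℕ) [Fact p.Prime] (hp : 3 ≤ p) (k : Type u) [Field k] [CharP k p] [PerfectRing k p]
    (n : ℕ) (hn : 3 ≤ n) :
    ¬ FrobAlg.IsFLiftable p k
      (MvPolynomial (Fin n × Fin 2) k ⧸ Ideal.span
        {(∑ i : Fin n, MvPolynomial.X (i, (0 : Fin 2)) * MvPolynomial.X (i, (1 : Fin 2)) : MvPolynomial (Fin n × Fin 2) k)}) := by
  exact Groth.Agent.W2Lift.not_isFLiftable_quad hn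
end Groth.Agent.S19564
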