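import Groth.Statements.S19565
import Mathlib.LinearAlgebra.RootSystem.CartanMatrix

set_option autoImplicit false
universe u v w
open RootComb

namespace Groth.Agent.S19565

/-- Let Φ be a finite reduced crystallographic irreducible root system over a field of characteristic
zero, Δ a base of simple roots, I ⊆ Δ, and suppose the simple roots outside I are split into two
disjoint non-empty sets A and B. Then there are a simple root β ∈ A and a root δ such that δ is a
non-negative integer combination of the simple roots of I ∪ B (a positive root whose support avoids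
A), δ is not in the linear span of I (so δ is not a root of the Levi subsystem of I), and ⟨δ, β^∨⟩ <
0. (The published statement is made for the root system of a semisimple group; for a reducible
system such as A₁ × A₁ with I empty and A, B the two simple roots there is no such δ, and the
argument measures distances in a connected Dynkin diagram, so the root system is taken irreducible
here.) -/
theorem result
    {ι : Type u} [Finite ι] [DecidableEq ι] {k : Type v} [Field k] [CharZero k]
    {M : Type w} [AddCommGroup M] [Module k M] {N : Type w} [AddCommGroup N] [Module k N]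
    (P : RootPairing ι k M N) [P.IsCrystallographic] [P.IsReduced] [P.IsIrreducible] (b : P.Base)
    (I A B : Finset ι) (hcover : I ∪ A ∪ B = b.support) (hIA : Disjoint I A) (hIB : Disjoint I B)
    (hAB : Disjoint A B) (hA : A.Nonempty) (hB : B.Nonempty) :
    ∃ l ∈ A, ∃ j : ι, P.root j ∈ AddSubmonoid.closure (P.root '' ↑(I ∪ B)) ∧
      P.root j ∉ Submodule.span k (P.root '' ↑I) ∧ P.pairingIn ℤ j l < 0 := by
  classical
  by_contra hcon
  push Not at hcon
  have hsub : ∀ {x}, x ∈ I ∪ B → x ∈ b.support := fun {x} hx => by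
    rw [← hcover]; rcases Finset.mem_union.mp hx with h | h <;> simp [h]
  have hpair : ∀ (T : Finset ι) (j l : ι), P.root j = ∑ t ∈ T, P.root t →
      P.pairingIn ℤ j l = ∑ t ∈ T, P.pairingIn ℤ t l := fun T j l hj => by
    apply FaithfulSMul.algebraMap_injective ℤ k
    rw [P.algebraMap_pairingIn, map_sum]
    simp_rw [P.algebraMap_pairingIn, ← P.root_coroot'_eq_pairing, hj, map_sum]
  let p : b.support → Prop := fun l => ∃ T : Finset ι, T ⊆ I ∪ B ∧ (l : ι) ∈ T ∧ (∃ t ∈ T, t ∈ B) ∧
    ∃ j, P.root j = ∑ t ∈ T, P.root t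
  obtain ⟨b0, hb0⟩ := hB
  obtain ⟨a0, ha0⟩ := hA
  have hb0' : b0 ∈ b.support := hsub (Finset.mem_union_right _ hb0)
  have ha0' : a0 ∈ b.support := by rw [← hcover]; simp [ha0]
  have hp0 : p ⟨b0, hb0'⟩ :=
    ⟨{b0}, by simp [hb0], by simp, ⟨b0, by simp, hb0⟩, b0, by simp⟩
  have hp : p ⟨a0, ha0'⟩ := by
    refine b.induction_on_cartanMatrix p hp0 (fun i l hi hne => ?_)
    obtain ⟨T, hT, hiT, ⟨t0, ht0, ht0B⟩, j, hj⟩ := hi
    by_cases hlT : (l : ι) ∈ T
    · exact ⟨T, hT, hlT, ⟨t0, ht0, ht0B⟩, j, hj⟩
    have hle : ∀ t ∈ T, P.pairingIn ℤ t l ≤ 0 := fun t ht =>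
      b.pairingIn_le_zero_of_ne (fun h => hlT (h ▸ ht)) (hsub (hT ht)) l.2
    have hil : P.pairingIn ℤ i l ≠ 0 := fun h => hne (by
      change P.pairingIn ℤ l i = 0
      exact P.pairingIn_eq_zero_iff.mp h)
    have hneg : P.pairingIn ℤ j l < 0 := by
      rw [hpair T j l hj]
      exact Finset.sum_neg' hle ⟨i, hiT, lt_of_le_of_ne (hle _ hiT) hil⟩
    have hlI : (l : ι) ∈ I ∪ B := by
      have hl : (l : ι) ∈ I ∪ A ∪ B := by rw [hcover]; exact l.2
      simp only [Finset.mem_union] at hl ⊢
      rcases hl with (h | h) | h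
      · exact Or.inl h
      · exfalso
        refine absurd hneg (not_lt.mpr (hcon l h j ?_ ?_))
        · rw [hj]
          exact sum_mem fun t ht => AddSubmonoid.subset_closure ⟨t, Finset.mem_coe.mpr (hT ht), rfl⟩
        · intro hspan
          refine b.linearIndepOn_root.linearIndependent.notMem_span_image
            (s := {x : (b.support : Set ι) | (x : ι) ∈ I ∪ T.erase t0}) (x := ⟨t0, hsub (hT ht0)⟩) ?_ ?_
          · simp only [Set.mem_ofPred_eq, Finset.mem_union, Finset.mem_erase]
            rintro (h' | ⟨h', -⟩)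
            · exact Finset.disjoint_left.mp hIB h' ht0B
            · exact h' rfl
          · have hsum : P.root t0 = P.root j - ∑ t ∈ T.erase t0, P.root t := by
              rw [hj, ← Finset.add_sum_erase T _ ht0]; abel
            change P.root t0 ∈ _
            rw [hsum]
            refine Submodule.sub_mem _ (Submodule.span_mono ?_ hspan) (Submodule.sum_mem _ fun t ht =>
              Submodule.subset_span ⟨⟨t, hsub (hT (Finset.mem_of_mem_erase ht))⟩,
                Finset.mem_union_right _ ht, rfl⟩)
            rintro _ ⟨t, ht, rfl⟩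
            exact ⟨⟨t, hsub (Finset.mem_union_left _ ht)⟩, Finset.mem_union_left _ ht, rfl⟩
      · exact Or.inr h
    have hnn : P.root j ≠ -P.root l := by
      intro h
      refine b.linearIndepOn_root.linearIndependent.notMem_span_image
        (s := {x : (b.support : Set ι) | (x : ι) ∈ T}) (x := ⟨l, l.2⟩) hlT ?_
      change P.root l ∈ _
      rw [← neg_neg (P.root l), ← h, hj]
      exact Submodule.neg_mem _ (Submodule.sum_mem _ fun t ht =>
        Submodule.subset_span ⟨⟨t, hsub (hT ht)⟩, ht, rfl⟩)
    obtain ⟨j', hj'⟩ := P.root_add_root_mem_of_pairingIn_neg hneg hnn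
    refine ⟨insert (l : ι) T, Finset.insert_subset hlI hT, Finset.mem_insert_self _ _,
      ⟨t0, Finset.mem_insert_of_mem ht0, ht0B⟩, j', ?_⟩
    rw [hj', Finset.sum_insert hlT, hj]; abel
  obtain ⟨T, hT, haT, -⟩ := hp
  rcases Finset.mem_union.mp (hT haT) with h | h
  · exact Finset.disjoint_left.mp hIA h ha0
  · exact Finset.disjoint_left.mp hAB ha0 h

end Groth.Agent.S19565
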