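import Mathlib.RingTheory.Etale.Basic
import Mathlib.RingTheory.Ideal.Quotient.Operations
import Groth.Agent.Lib.Hens.PairApi

set_option autoImplicit false
universe u
namespace Hensel
end Hensel
open Hensel

namespace Groth.Agent.S19567

/-- Let A be a ring and I an ideal of A, and consider étale A-algebras A' for which the induced map A/I
→ A'/IA' is bijective. (1) For any two such algebras A₁ and A₂ there is a third such algebra A₃
admitting A-algebra maps from both. (2) For any two A-algebra maps f, g : A₁ → A₂ between such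
algebras there are such an algebra A₃ and an A-algebra map h : A₂ → A₃ with h ∘ f = h ∘ g. (All
algebras are taken in the universe of A. Since A itself is such an algebra, (1) and (2) say that the
category of these algebras and A-algebra maps is filtered.) -/
theorem result (A : Type u) [CommRing A] (I : Ideal A) :
    (∀ (A₁ A₂ : Type u) [CommRing A₁] [Algebra A A₁] [Algebra.Etale A A₁] [CommRing A₂] [Algebra A A₂]
        [Algebra.Etale A A₂],
        Function.Bijective (Ideal.quotientMap (I.map (algebraMap A A₁)) (algebraMap A A₁) Ideal.le_comap_map) →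
        Function.Bijective (Ideal.quotientMap (I.map (algebraMap A A₂)) (algebraMap A A₂) Ideal.le_comap_map) →
          ∃ (A₃ : Type u) (_ : CommRing A₃) (_ : Algebra A A₃) (_ : Algebra.Etale A A₃),
            Function.Bijective (Ideal.quotientMap (I.map (algebraMap A A₃)) (algebraMap A A₃) Ideal.le_comap_map) ∧
              Nonempty (A₁ →ₐ[A] A₃) ∧ Nonempty (A₂ →ₐ[A] A₃)) ∧
    (∀ (A₁ A₂ : Type u) [CommRing A₁] [Algebra A A₁] [Algebra.Etale A A₁] [CommRing A₂] [Algebra A A₂]
        [Algebra.Etale A A₂],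
        Function.Bijective (Ideal.quotientMap (I.map (algebraMap A A₁)) (algebraMap A A₁) Ideal.le_comap_map) →
        Function.Bijective (Ideal.quotientMap (I.map (algebraMap A A₂)) (algebraMap A A₂) Ideal.le_comap_map) →
          ∀ (f g : A₁ →ₐ[A] A₂),
            ∃ (A₃ : Type u) (_ : CommRing A₃) (_ : Algebra A A₃) (_ : Algebra.Etale A A₃),
              Function.Bijective (Ideal.quotientMap (I.map (algebraMap A A₃)) (algebraMap A A₃) Ideal.le_comap_map) ∧
                ∃ h : A₂ →ₐ[A] A₃, h.comp f = h.comp g) := by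
  refine ⟨fun A₁ A₂ _ _ _ _ _ _ h₁ h₂ => ?_, fun A₁ A₂ _ _ _ _ _ _ h₁ h₂ f g => ?_⟩
  · obtain ⟨σ₁, hσ₁⟩ := Hens.exists_point_of_bijective h₁
    obtain ⟨σ₂, hσ₂⟩ := Hens.exists_point_of_bijective h₂
    obtain ⟨i, e₁, -⟩ := Hens.PNbhd.exists_of A₁ σ₁ hσ₁
    obtain ⟨j, e₂, -⟩ := Hens.PNbhd.exists_of A₂ σ₂ hσ₂
    obtain ⟨k, φ, ψ, -, -⟩ := Hens.PNbhd.exists_upper i j
    exact ⟨k.S, inferInstance, inferInstance, inferInstance, Hens.bijective_of_point k.σ k.ker_σ,
      ⟨φ.comp e₁.toAlgHom⟩, ⟨ψ.comp e₂.toAlgHom⟩⟩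
  · obtain ⟨σ₁, hσ₁⟩ := Hens.exists_point_of_bijective h₁
    obtain ⟨σ₂, hσ₂⟩ := Hens.exists_point_of_bijective h₂
    have h : σ₂.comp f = σ₂.comp g := AlgHom.ext fun x => by
      have := Hens.sub_mem_of_map_le (Hens.exists_sub_mem_of_ker_eq σ₁ hσ₁) hσ₂.ge f g x
      rwa [RingHom.mem_ker, map_sub, sub_eq_zero] at this
    obtain ⟨i, φ, -, hφ⟩ := Hens.PNbhd.exists_equalizer σ₂ f g h
    exact ⟨i.S, inferInstance, inferInstance, inferInstance, Hens.bijective_of_point i.σ i.ker_σ,
      φ, hφ⟩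

end Groth.Agent.S19567
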