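import Groth.Statements.S1957
import Groth.Agent.Lib.HensH7.Factor

set_option autoImplicit false
universe u
open Polynomial
open EtAlg

namespace Groth.Agent.S1957

/-- Let A be a ring, I an ideal and f a monic polynomial over A. Suppose the image of f in (A/I)[x]
factors as g h where the leading coefficient of g is a unit and g, h generate the unit ideal. Then
there is an etale A-algebra A' such that A/I -> A'/IA' is bijective, together with a factorization f
= g' h' in A'[x] whose reduction modulo IA' is the image of the given one. -/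
theorem result (A : Type u) [CommRing A] (I : Ideal A) (f : A[X]) (hf : f.Monic)
    (g h : (A ⧸ I)[X]) (hgh : f.map (Ideal.Quotient.mk I) = g * h) (hlead : IsUnit g.leadingCoeff)
    (hcop : IsCoprime g h) :
    ∃ (A' : Type u) (_ : CommRing A') (_ : Algebra A A') (_ : Algebra.Etale A A'),
      Function.Bijective (Ideal.quotientMap (I.map (algebraMap A A')) (algebraMap A A') Ideal.le_comap_map) ∧
      ∃ g' h' : A'[X], f.map (algebraMap A A') = g' * h' ∧
        g'.map (Ideal.Quotient.mk (I.map (algebraMap A A'))) =
          g.map (Ideal.quotientMap (I.map (algebraMap A A')) (algebraMap A A') Ideal.le_comap_map) ∧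
        h'.map (Ideal.Quotient.mk (I.map (algebraMap A A'))) =
          h.map (Ideal.quotientMap (I.map (algebraMap A A')) (algebraMap A A') Ideal.le_comap_map) := by
  obtain ⟨i, g', h', hf', hg, hh⟩ :=
    Groth.Agent.HensH7.exists_etale_lift_factorization I f hf g h hgh hlead hcop
  refine ⟨i.S, inferInstance, inferInstance, i.etale,
    Groth.Agent.Hens.bijective_of_point i.σ i.ker_σ, g', h', hf', ?_, ?_⟩
  all_goals
    first
      | (rw [← hg])
      | (rw [← hh])
    ext n
    rw [Polynomial.coeff_map, Polynomial.coeff_map, Polynomial.coeff_map]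
  · obtain ⟨r, hr⟩ := Ideal.Quotient.mk_surjective (i.σ.toRingHom (g'.coeff n))
    rw [← hr, Ideal.quotientMap_mk, Ideal.Quotient.eq, ← i.ker_σ, RingHom.mem_ker, map_sub,
      AlgHom.commutes, sub_eq_zero]
    exact hr.symm
  · obtain ⟨r, hr⟩ := Ideal.Quotient.mk_surjective (i.σ.toRingHom (h'.coeff n))
    rw [← hr, Ideal.quotientMap_mk, Ideal.Quotient.eq, ← i.ker_σ, RingHom.mem_ker, map_sub,
      AlgHom.commutes, sub_eq_zero]
    exact hr.symm

end Groth.Agent.S1957
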