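import Groth.Statements.S19570
import Groth.Agent.Lib.FinEtLiftH7.Main
import Groth.Agent.Lib.SmoothLiftH7.Main
import Groth.Agent.Lib.NormalSmooth12.Basic

set_option autoImplicit false
set_option linter.style.haveILetI false
universe u
open scoped TensorProduct
open EGA4

namespace Groth.Agent.S19570

/-- An algebra with a surjection whose kernel is generated by `I` has that reduction. -/
theorem exists_equiv {V : Type u} [CommRing V] (I : Ideal V) {A A₀ : Type u} [CommRing A] [Algebra V A] [CommRing A₀]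
    [Algebra (V ⧸ I) A₀] [Algebra V A₀] [IsScalarTower V (V ⧸ I) A₀] (ψ : A →ₐ[V] A₀) (hψ : Function.Surjective ψ)
    (hker : RingHom.ker ψ = I.map (algebraMap V A)) :
    ∃ e : (V ⧸ I) ⊗[V] A ≃ₐ[V ⧸ I] A₀, ∀ c a, e (c ⊗ₜ a) = c • ψ a := by
  let g : (V ⧸ I) ⊗[V] A →ₐ[V ⧸ I] A₀ :=
    Algebra.TensorProduct.lift (Algebra.ofId (V ⧸ I) A₀) ψ fun _ _ => Commute.all _ _
  have hg : ∀ c a, g (c ⊗ₜ a) = c • ψ a := fun c a => by
    rw [Algebra.TensorProduct.lift_tmul, Algebra.smul_def]; rfl
  refine ⟨AlgEquiv.ofBijective g ⟨(injective_iff_map_eq_zero _).2 fun z hz => ?_, fun y => ?_⟩, hg⟩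
  · obtain ⟨a, rfl⟩ := Groth.Agent.Hens.surjective_includeRight_quotient I A z
    have h1 : ψ a = 0 := by simpa [hg] using hz
    rw [← RingHom.mem_ker, Groth.Agent.Hens.ker_includeRight_quotient]
    exact hker.le (RingHom.mem_ker.2 h1)
  · obtain ⟨a, rfl⟩ := hψ y
    exact ⟨1 ⊗ₜ a, by rw [hg, one_smul]⟩

/-- Let V be a complete discrete valuation ring of characteristic zero, with maximal ideal 𝔪 and residue
field k, let A₀ be a smooth k-algebra and B₀ a finite étale A₀-algebra. Then A₀ lifts to a smooth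
V-algebra A (an isomorphism k ⊗_V A ≅ A₀ of k-algebras), and the finite étale cover lifts over it:
there is a finite A-algebra B which is a normal ring, with an isomorphism k ⊗_V B ≅ B₀ compatible
with the one for A and with the algebra maps, such that the localization A_T → B_T at T = 1 + 𝔪A is
étale. The published corollary also claims, for the lift it produces, a finite étale lift after
inverting a suitable element and further properties of formal completions of projective closures;
the statement here asserts only that B is finite over A and normal and that A_T → B_T is étale. -/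
theorem result
    (V : Type u) [CommRing V] [IsDomain V] [IsDiscreteValuationRing V] [CharZero V]
    [IsAdicComplete (IsLocalRing.maximalIdeal V) V]
    (A₀ : Type u) [CommRing A₀] [Algebra (IsLocalRing.ResidueField V) A₀]
    [Algebra.Smooth (IsLocalRing.ResidueField V) A₀]
    (B₀ : Type u) [CommRing B₀] [Algebra A₀ B₀] [Algebra (IsLocalRing.ResidueField V) B₀]
    [IsScalarTower (IsLocalRing.ResidueField V) A₀ B₀] [Module.Finite A₀ B₀] [Algebra.Etale A₀ B₀] :
    ∃ (A : Type u) (_ : CommRing A) (_ : Algebra V A) (_ : Algebra.Smooth V A)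
      (e : (IsLocalRing.ResidueField V) ⊗[V] A ≃ₐ[IsLocalRing.ResidueField V] A₀)
      (B : Type u) (_ : CommRing B) (_ : Algebra A B) (_ : Algebra V B) (_ : IsScalarTower V A B)
      (e' : (IsLocalRing.ResidueField V) ⊗[V] B ≃ₐ[IsLocalRing.ResidueField V] B₀),
      Module.Finite A B ∧ EGA4.IsNormalRing B ∧
      (∀ x : (IsLocalRing.ResidueField V) ⊗[V] A,
        e' (Algebra.TensorProduct.map (AlgHom.id (IsLocalRing.ResidueField V) (IsLocalRing.ResidueField V))
          (IsScalarTower.toAlgHom V A B) x) = algebraMap A₀ B₀ (e x)) ∧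
      Algebra.Etale (Localization (MonoidHom.mker (Ideal.Quotient.mk ((IsLocalRing.maximalIdeal V).map (algebraMap V A)))))
        (Localization (Algebra.algebraMapSubmonoid B
          (MonoidHom.mker (Ideal.Quotient.mk ((IsLocalRing.maximalIdeal V).map (algebraMap V A)))))) := by
  let I := IsLocalRing.maximalIdeal V
  letI : Algebra (V ⧸ I) A₀ := ‹Algebra (IsLocalRing.ResidueField V) A₀›
  letI : Algebra (V ⧸ I) B₀ := ‹Algebra (IsLocalRing.ResidueField V) B₀›
  haveI : IsScalarTower (V ⧸ I) A₀ B₀ := ‹IsScalarTower (IsLocalRing.ResidueField V) A₀ B₀›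
  haveI : Algebra.Smooth (V ⧸ I) A₀ := ‹Algebra.Smooth (IsLocalRing.ResidueField V) A₀›
  obtain ⟨A₁, _, _, _, ⟨e₁⟩⟩ := SmoothLiftH7.exists_smooth_lift_quotient (A₀ := A₀) I
  let K := I.map (algebraMap V A₁)
  -- `B₀` over `A₁ ⧸ K`
  letI : Algebra (A₁ ⧸ K) B₀ := ((algebraMap A₀ B₀).comp e₁.toRingEquiv.toRingHom).toAlgebra
  letI : Algebra A₁ B₀ := ((algebraMap (A₁ ⧸ K) B₀).comp (Ideal.Quotient.mk K)).toAlgebra
  haveI : IsScalarTower A₁ (A₁ ⧸ K) B₀ := IsScalarTower.of_algebraMap_eq' rfl
  have hsur : Function.Surjective e₁.toRingEquiv.toRingHom := e₁.surjective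
  haveI : Module.Finite (A₁ ⧸ K) B₀ :=
    RingHom.finite_algebraMap.1 ((RingHom.finite_algebraMap.2 ‹Module.Finite A₀ B₀›).comp
      (RingHom.Finite.of_surjective _ hsur))
  haveI : Algebra.Etale (A₁ ⧸ K) B₀ := by
    letI : Algebra (A₁ ⧸ K) A₀ := e₁.toRingEquiv.toRingHom.toAlgebra
    haveI : IsScalarTower (A₁ ⧸ K) A₀ B₀ := IsScalarTower.of_algebraMap_eq' rfl
    haveI : Algebra.Etale (A₁ ⧸ K) A₀ :=
      Algebra.Etale.of_equiv (AlgEquiv.ofRingEquiv (f := e₁.toRingEquiv) fun _ => rfl)
    exact Algebra.Etale.comp (A₁ ⧸ K) A₀ B₀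
  obtain ⟨A, _, _, hA, ψ, hψ, B, _, _, _, _, φ, hfin, het, hφs, hφ, hcomp⟩ := FinEtLiftH7.exists_lift K B₀
  letI : Algebra V A := ((algebraMap A₁ A).comp (algebraMap V A₁)).toAlgebra
  haveI : IsScalarTower V A₁ A := IsScalarTower.of_algebraMap_eq' rfl
  letI : Algebra V B := ((algebraMap A B).comp (algebraMap V A)).toAlgebra
  haveI : IsScalarTower V A B := IsScalarTower.of_algebraMap_eq' rfl
  haveI : Algebra.Smooth V A := Algebra.Smooth.comp V A₁ A
  letI : Algebra V A₀ := ((algebraMap (V ⧸ I) A₀).comp (algebraMap V (V ⧸ I))).toAlgebra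
  haveI : IsScalarTower V (V ⧸ I) A₀ := IsScalarTower.of_algebraMap_eq' rfl
  letI : Algebra V B₀ := ((algebraMap (V ⧸ I) B₀).comp (algebraMap V (V ⧸ I))).toAlgebra
  haveI : IsScalarTower V (V ⧸ I) B₀ := IsScalarTower.of_algebraMap_eq' rfl
  have he₁ : ∀ v, e₁ (Ideal.Quotient.mk K (algebraMap V A₁ v)) = algebraMap V A₀ v := fun v => by
    exact e₁.commutes (Ideal.Quotient.mk I v)
  let ψA : A →ₐ[V] A₀ :=
    { e₁.toRingEquiv.toRingHom.comp ψ.toRingHom with
      commutes' := fun v => by
        show e₁ (ψ (algebraMap A₁ A (algebraMap V A₁ v))) = _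
        rw [AlgHom.commutes]
        exact he₁ v }
  have hcomp' : ∀ a, φ (algebraMap A B a) = algebraMap A₀ B₀ (ψA a) := hcomp
  let φB : B →ₐ[V] B₀ :=
    { φ.toRingHom with
      commutes' := fun v => by
        show φ (algebraMap A B (algebraMap V A v)) = algebraMap (V ⧸ I) B₀ (Ideal.Quotient.mk I v)
        rw [hcomp', AlgHom.commutes, IsScalarTower.algebraMap_apply (V ⧸ I) A₀ B₀]
        rfl }
  have hIA : K.map (algebraMap A₁ A) = I.map (algebraMap V A) := by
    rw [Ideal.map_map]; rfl
  have hAB : (algebraMap A₁ B) = (algebraMap A B).comp (algebraMap A₁ A) := IsScalarTower.algebraMap_eq A₁ A B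
  have hψs : Function.Surjective ψA := fun y => by
    obtain ⟨a, ha⟩ := Ideal.Quotient.mk_surjective (e₁.symm y)
    refine ⟨algebraMap A₁ A a, ?_⟩
    show e₁ (ψ (algebraMap A₁ A a)) = y
    rw [AlgHom.commutes, Ideal.Quotient.algebraMap_eq, ha, AlgEquiv.apply_symm_apply]
  have hψk : RingHom.ker ψA = I.map (algebraMap V A) := by
    rw [← hIA, ← hψ]
    ext a
    rw [RingHom.mem_ker, RingHom.mem_ker]
    exact e₁.toRingEquiv.map_eq_zero_iff
  have hφk : RingHom.ker φB = I.map (algebraMap V B) := by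
    rw [show RingHom.ker φB = RingHom.ker φ from rfl, hφ, Ideal.map_map, hAB]
    rfl
  obtain ⟨e, he⟩ := exists_equiv I ψA hψs hψk
  obtain ⟨e', he'⟩ := exists_equiv I φB hφs hφk
  refine ⟨A, inferInstance, inferInstance, inferInstance, e, B, inferInstance, inferInstance, inferInstance,
    inferInstance, e', hfin, ?_, fun x => ?_, ?_⟩
  · haveI : Algebra.Smooth V B := Algebra.Smooth.comp V A B
    exact NormalSmooth12.isNormalRing_of_smooth_domain (R := V)
  · have key : e'.toAlgHom.comp (Algebra.TensorProduct.map (AlgHom.id (V ⧸ I) (V ⧸ I)) (IsScalarTower.toAlgHom V A B)) =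
        (IsScalarTower.toAlgHom (V ⧸ I) A₀ B₀).comp e.toAlgHom := Algebra.TensorProduct.ext' fun c a => by
      show e' (c ⊗ₜ algebraMap A B a) = algebraMap A₀ B₀ (e (c ⊗ₜ a))
      rw [he', he, show φB (algebraMap A B a) = algebraMap A₀ B₀ (ψA a) from hcomp' a, Algebra.smul_def, Algebra.smul_def,
        map_mul, ← IsScalarTower.algebraMap_apply]
    exact AlgHom.congr_fun key x
  · let T := MonoidHom.mker (Ideal.Quotient.mk ((IsLocalRing.maximalIdeal V).map (algebraMap V A)))
    haveI : Algebra.IsPushout A (Localization T) B (Localization (Algebra.algebraMapSubmonoid B T)) :=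
      (Algebra.isPushout_of_isLocalization T (Localization T) B _).symm
    exact Algebra.Etale.of_equiv (Algebra.IsPushout.equiv A (Localization T) B (Localization (Algebra.algebraMapSubmonoid B T)))

end Groth.Agent.S19570
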