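import Groth.Statements.S19573
import Mathlib.LinearAlgebra.ExteriorPower.Basic
import Mathlib.RingTheory.Spectrum.Prime.FreeLocus
import Mathlib.LinearAlgebra.Matrix.Determinant.Basic
import Mathlib.RingTheory.Localization.Integer

set_option autoImplicit false
universe u
open LocInt

namespace Groth.Agent.S19573

/-- The first sentence of the lemma together with the description of the closed subscheme Z given in its
proof, in the local model. Let R be a commutative ring, n ≥ 1, a ∈ R^n, and F = R^n / R·a the
cokernel of R → R^n, 1 ↦ a (the zeroth homology of the two-term complex R → R^n). Then the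
annihilator ideal of the top exterior power ⋀^n F is the ideal generated by the coordinates a_1, …,
a_n of a, and at every prime p of R off the closed set V(a_1, …, a_n) the module F is free of rank n
− 1 after localization at p. (The published statement is for a complex on a scheme which is locally
quasi-isomorphic to such a two-term complex L → E with L invertible and E locally free of rank n,
and says that H^0 restricted to the complement of the closed subscheme cut out by the annihilator of
its n-th exterior power is locally free of rank n − 1; this row is the local model.) -/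
theorem result (R : Type u) [CommRing R]
    (n : ℕ) (hn : 1 ≤ n) (a : Fin n → R) :
    (⋀[R]^n ((Fin n → R) ⧸ Submodule.span R {a})).annihilator = Ideal.span (Set.range a) ∧
    ∀ p : PrimeSpectrum R, ¬ Ideal.span (Set.range a) ≤ p.asIdeal →
      p ∈ Module.freeLocus R ((Fin n → R) ⧸ Submodule.span R {a}) ∧
      Module.rankAtStalk ((Fin n → R) ⧸ Submodule.span R {a}) p = n - 1 := by
  classical
  set M := (Fin n → R) ⧸ Submodule.span R {a}
  let mk : (Fin n → R) →ₗ[R] M := Submodule.mkQ _
  have hmka : mk a = 0 := (Submodule.Quotient.mk_eq_zero _).mpr (Submodule.mem_span_singleton_self a)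
  constructor
  · set I := Ideal.span (Set.range a)
    let v : Fin n → M := fun j => mk (Pi.single j 1)
    let g : ⋀[R]^n M := exteriorPower.ιMulti R n v
    have hspan : Submodule.span R (Set.range v) = ⊤ := by
      rw [Set.range_comp' mk (fun j => Pi.single (M := fun _ => R) j 1), Submodule.span_image]
      have : Submodule.span R (Set.range fun j : Fin n => Pi.single (M := fun _ => R) j 1) = ⊤ := by
        convert (Pi.basisFun R (Fin n)).span_eq with j
        rw [Pi.basisFun_apply]
      rw [this, Submodule.map_top]; exact Submodule.range_mkQ _
    refine le_antisymm (fun r hr => ?_) ?_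
    · let π : (Fin n → R) →ₗ[R] (Fin n → R ⧸ I) := (Ideal.Quotient.mkₐ R I).toLinearMap.compLeft (Fin n)
      have hπ : Submodule.span R {a} ≤ LinearMap.ker π := by
        rw [Submodule.span_le, Set.singleton_subset_iff]
        exact LinearMap.mem_ker.mpr (funext fun j => Ideal.Quotient.eq_zero_iff_mem.mpr (Ideal.subset_span ⟨j, rfl⟩))
      let D : (Fin n → R ⧸ I) [⋀^Fin n]→ₗ[R] (R ⧸ I) :=
        { toFun := fun w => Matrix.detRowAlternating w
          map_update_add' := fun w i x y => AlternatingMap.map_update_add _ w i x y
          map_update_smul' := fun w i c x => by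
            rw [show c • x = (algebraMap R (R ⧸ I) c) • x from (algebraMap_smul _ c x).symm,
              AlternatingMap.map_update_smul, algebraMap_smul]
          map_eq_zero_of_eq' := fun w i j h hij => AlternatingMap.map_eq_zero_of_eq _ w h hij }
      let Φ := exteriorPower.alternatingMapLinearEquiv (D.compLinearMap (Submodule.liftQ _ π hπ))
      have hg : Φ g = 1 := by
        rw [exteriorPower.alternatingMapLinearEquiv_apply_ιMulti]
        show Matrix.det (fun j => π (Pi.single j 1)) = 1
        rw [show (fun j => π (Pi.single j 1)) = (1 : Matrix (Fin n) (Fin n) (R ⧸ I)) from ?_, Matrix.det_one]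
        funext i j
        show Ideal.Quotient.mk I (Pi.single (M := fun _ => R) i 1 j) = (1 : Matrix (Fin n) (Fin n) (R ⧸ I)) i j
        by_cases h : i = j
        · subst h; simp
        · simp [Matrix.one_apply_ne h, Pi.single_eq_of_ne (Ne.symm h)]
      have h0 := congrArg Φ (Module.mem_annihilator.mp hr g)
      rw [map_smul, hg, map_zero, Algebra.smul_def, mul_one] at h0
      exact Ideal.Quotient.eq_zero_iff_mem.mp h0
    · rw [Ideal.span_le]
      rintro _ ⟨i, rfl⟩
      have hgen : a i • g = 0 := by
        have hsum : (∑ j, a j • v j) = 0 := by
          refine (Eq.trans ?_ hmka)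
          refine (Eq.trans ?_ (congrArg mk (Finset.univ_sum_single a)))
          rw [map_sum]
          refine Finset.sum_congr rfl fun j _ => ?_
          rw [← map_smul, ← Pi.single_smul', smul_eq_mul, mul_one]
        have h := (exteriorPower.ιMulti R n).map_update_sum Finset.univ i (fun j => a j • v j) v
        rw [hsum, AlternatingMap.map_coord_zero _ i (by simp)] at h
        refine (h.trans ?_).symm
        rw [Finset.sum_eq_single i]
        · rw [AlternatingMap.map_update_smul, Function.update_eq_self]
        · intro j _ hj
          rw [AlternatingMap.map_update_smul, AlternatingMap.map_update_self _ v (Ne.symm hj), smul_zero]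
        · simp
      refine Module.mem_annihilator.mpr fun x => ?_
      have hx : x ∈ Submodule.span R {g} := by
        have htop : Submodule.span R (Set.range (exteriorPower.ιMulti_family R n v)) = ⊤ :=
          exteriorPower.ιMulti_family_span_of_span R hspan
        have hmem : x ∈ Submodule.span R (Set.range (exteriorPower.ιMulti_family R n v)) := htop ▸ Submodule.mem_top
        refine Submodule.span_mono ?_ hmem
        rintro _ ⟨s, rfl⟩
        show exteriorPower.ιMulti_family R n v s = g
        rw [exteriorPower.ιMulti_family]
        congr 1
        funext j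
        exact congrArg v (congrFun ((Finset.orderEmbOfFin_unique s.2 (f := id)
          (fun y => by simp [(Finset.card_eq_iff_eq_univ s.1).mp (s.2.trans (Fintype.card_fin n).symm)])
          strictMono_id).symm) j)
      obtain ⟨c, rfl⟩ := Submodule.mem_span_singleton.mp hx
      rw [smul_comm, hgen, smul_zero]
  · intro p hp
    obtain ⟨i, hi⟩ : ∃ i, a i ∉ p.asIdeal := by
      by_contra h
      push Not at h
      exact hp (Ideal.span_le.mpr (by rintro _ ⟨i, rfl⟩; exact h i))
    let J := {j : Fin n // j ≠ i}
    let φ : (Fin n → R) →ₗ[R] (J → R) := LinearMap.pi fun j => a i • LinearMap.proj j.1 - a j.1 • LinearMap.proj i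
    have hφ : ∀ v j, φ v j = a i * v j.1 - a j.1 * v i := fun v j => rfl
    have hker : Submodule.span R {a} ≤ LinearMap.ker φ := by
      rw [Submodule.span_le, Set.singleton_subset_iff]
      exact LinearMap.mem_ker.mpr (funext fun j => by rw [hφ]; simp; ring)
    let φ' : M →ₗ[R] (J → R) := Submodule.liftQ _ φ hker
    let Rp := Localization.AtPrime p.asIdeal
    let l : (J → R) →ₗ[R] (J → Rp) := LinearMap.compLeft (Algebra.linearMap R Rp) J
    have hl : ∀ (y : J → R) j, l y j = algebraMap R Rp (y j) := fun _ _ => rfl
    haveI : IsLocalizedModule p.asIdeal.primeCompl l := by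
      refine ⟨fun s => ?_, fun z => ?_, fun {x y} h => ?_⟩
      · rw [Module.End.isUnit_iff]
        obtain ⟨u, hu⟩ := IsLocalization.map_units Rp s
        refine ⟨fun x y h => funext fun j => ?_, fun y => ⟨fun j => (↑u⁻¹ : Rp) * y j, funext fun j => ?_⟩⟩
        · have := congrFun h j
          simp only [Module.algebraMap_end_apply, Pi.smul_apply, Algebra.smul_def, ← hu] at this
          exact u.isUnit.mul_left_cancel this
        · simp [Module.algebraMap_end_apply, Algebra.smul_def, ← hu]
      · obtain ⟨b, hb⟩ := IsLocalization.exist_integer_multiples_of_finite p.asIdeal.primeCompl z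
        choose y hy using hb
        exact ⟨⟨y, b⟩, funext fun j => (hy j).symm⟩
      · have hj : ∀ j, ∃ c : p.asIdeal.primeCompl, (c : R) * x j = (c : R) * y j := fun j =>
          (IsLocalization.eq_iff_exists p.asIdeal.primeCompl Rp).mp (congrFun h j)
        choose c hc using hj
        refine ⟨∏ j, c j, funext fun j => ?_⟩
        rw [← Finset.mul_prod_erase _ _ (Finset.mem_univ j)]
        simp only [Pi.smul_apply, Submonoid.smul_def, Submonoid.coe_mul, smul_eq_mul]
        rw [mul_right_comm, hc j, mul_right_comm]
    haveI : IsLocalizedModule p.asIdeal.primeCompl (l ∘ₗ φ') := by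
      have hu := fun s : p.asIdeal.primeCompl => (inferInstance : IsLocalizedModule p.asIdeal.primeCompl l).map_units s
      refine ⟨hu, fun z => ?_, fun {m m'} h => ?_⟩
      · obtain ⟨⟨y, s⟩, hs⟩ := IsLocalizedModule.surj p.asIdeal.primeCompl l z
        refine ⟨⟨mk (fun j => if h : j = i then 0 else y ⟨j, h⟩), s * ⟨a i, hi⟩⟩, ?_⟩
        have hy : φ (fun j => if h : j = i then 0 else y ⟨j, h⟩) = a i • y := by
          funext j; rw [hφ]; simp [j.2]
        show (s.1 * a i) • z = l (φ (fun j => if h : j = i then 0 else y ⟨j, h⟩))
        rw [hy, map_smul, mul_comm, mul_smul]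
        exact congrArg (a i • ·) hs
      · obtain ⟨c, hc⟩ := IsLocalizedModule.exists_of_eq (S := p.asIdeal.primeCompl) (f := l) h
        obtain ⟨w, hw⟩ := Submodule.Quotient.mk_surjective _ ((c : R) • (m - m'))
        have hz : φ w = 0 := by
          have h' : φ' ((c : R) • (m - m')) = 0 := by
            rw [map_smul, map_sub, smul_sub]; exact sub_eq_zero.mpr hc
          rw [← hw] at h'; exact h'
        have h0 : a i • ((c : R) • (m - m')) = 0 := by
          rw [← hw, ← Submodule.Quotient.mk_smul, Submodule.Quotient.mk_eq_zero, Submodule.mem_span_singleton]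
          refine ⟨w i, funext fun j => ?_⟩
          by_cases hj : j = i
          · subst hj; simp [mul_comm]
          · have := congrFun hz ⟨j, hj⟩
            rw [hφ] at this
            simp only [Pi.zero_apply, sub_eq_zero] at this
            simp [this, mul_comm]
        refine ⟨⟨a i, hi⟩ * c, ?_⟩
        rw [← mul_smul, smul_sub, sub_eq_zero] at h0
        exact h0
    let e : LocalizedModule p.asIdeal.primeCompl M ≃ₗ[Rp] (J → Rp) :=
      (IsLocalizedModule.iso p.asIdeal.primeCompl (l ∘ₗ φ')).extendScalarsOfIsLocalization p.asIdeal.primeCompl Rp
    refine ⟨Module.Free.of_equiv e.symm, ?_⟩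
    show Module.finrank Rp _ = n - 1
    rw [e.finrank_eq, Module.finrank_fintype_fun_eq_card, Fintype.card_subtype_compl]
    simp

end Groth.Agent.S19573
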