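import Groth.Statements.S19574
import Mathlib

set_option autoImplicit false
universe u
open CategoryTheory MonoidalCategory
open Lie3Mod

namespace Groth.Agent.S19574

/-- Let R be a commutative ring and d ≥ 1. Let K be a chain complex of R-modules concentrated in degrees
0, …, d + 1, written … → 0 → P_{d+1} → P_d → … → P_1 → M with M = K_0, which is exact (so 0 →
P_{d+1} → … → P_1 → M → 0 is an exact sequence), such that P_1, …, P_d are flat R-modules and such
that for every ideal I of R the complex obtained by applying (R/I) ⊗_R − termwise is again exact.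
Then M is a flat R-module. (No flatness is assumed for P_{d+1}. The published lemma adds that for R
Noetherian it suffices to test prime ideals I; that refinement is not part of this statement.) -/
theorem result (R : Type u) [CommRing R]
    (d : ℕ) (hd : 1 ≤ d) (K : ChainComplex (ModuleCat.{u} R) ℕ)
    (hzero : ∀ i : ℕ, d + 1 < i → Limits.IsZero (K.X i))
    (hflat : ∀ i : ℕ, 1 ≤ i → i ≤ d → Module.Flat R (K.X i))
    (hK : K.Acyclic)
    (hbc : ∀ I : Ideal R,
      (((tensorLeft (ModuleCat.of R (R ⧸ I))).mapHomologicalComplex (ComplexShape.down ℕ)).obj K).Acyclic) :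
    Module.Flat R (K.X 0) := by
  have hExact : ∀ (C : ChainComplex (ModuleCat.{u} R) ℕ) (i j k : ℕ), C.Acyclic →
      (ComplexShape.down ℕ).prev j = i → (ComplexShape.down ℕ).next j = k →
      Function.Exact (C.d i j).hom (C.d j k).hom := fun C i j k hC hi hk =>
    (ShortComplex.ShortExact.moduleCat_exact_iff_function_exact _).1 ((HomologicalComplex.exactAt_iff' C i j k hi hk).1 (hC j))
  have e10 : Function.Exact (K.d 2 1).hom (K.d 1 0).hom := hExact K 2 1 0 hK (by simp) (by simp)
  have hsurj : Function.Surjective (K.d 1 0).hom := fun m =>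
    (hExact K 1 0 0 hK (by simp) (by simp) m).1 (by simp)
  have : Module.Flat R (K.X 1) := hflat 1 le_rfl hd
  rw [Module.Flat.iff_rTensor_injective']
  intro I
  rw [← LinearMap.ker_eq_bot, Submodule.eq_bot_iff]
  intro x hx
  rw [LinearMap.mem_ker] at hx
  obtain ⟨y, rfl⟩ := LinearMap.lTensor_surjective I hsurj x
  set p := LinearMap.rTensor (K.X 1) I.subtype y with hp
  have hp0 : LinearMap.lTensor R (K.d 1 0).hom p = 0 := by
    rw [hp, ← LinearMap.comp_apply, LinearMap.lTensor_comp_rTensor, ← LinearMap.rTensor_comp_lTensor, LinearMap.comp_apply]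
    exact hx
  obtain ⟨z, hz⟩ := (lTensor_exact R e10 hsurj p).1 hp0
  have hmk : Function.Exact I.subtype (Ideal.Quotient.mkₐ R I).toLinearMap := fun r => by
    simp [Ideal.Quotient.eq_zero_iff_mem]
  have hmks : Function.Surjective (Ideal.Quotient.mkₐ R I).toLinearMap := Ideal.Quotient.mk_surjective
  have hexQ : Function.Exact (LinearMap.lTensor (R ⧸ I) (K.d 3 2).hom) (LinearMap.lTensor (R ⧸ I) (K.d 2 1).hom) :=
    hExact _ 3 2 1 (hbc I) (by simp) (by simp)
  have hzbar : LinearMap.lTensor (R ⧸ I) (K.d 2 1).hom (LinearMap.rTensor (K.X 2) (Ideal.Quotient.mkₐ R I).toLinearMap z) = 0 := by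
    rw [← LinearMap.comp_apply, LinearMap.lTensor_comp_rTensor, ← LinearMap.rTensor_comp_lTensor, LinearMap.comp_apply, hz]
    exact (rTensor_exact (K.X 1) hmk hmks p).2 ⟨y, rfl⟩
  obtain ⟨wb, hwb⟩ := (hexQ _).1 hzbar
  obtain ⟨w, rfl⟩ := LinearMap.rTensor_surjective (K.X 3) hmks wb
  obtain ⟨v, hv⟩ := (rTensor_exact (K.X 2) hmk hmks (z - LinearMap.lTensor R (K.d 3 2).hom w)).1 (by
    rw [map_sub, sub_eq_zero, ← hwb, ← LinearMap.comp_apply, LinearMap.lTensor_comp_rTensor, ← LinearMap.rTensor_comp_lTensor, LinearMap.comp_apply])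
  have hdd : ∀ i j k : ℕ, (K.d j k).hom ∘ₗ (K.d i j).hom = 0 := fun i j k => by
    rw [← ModuleCat.hom_comp, K.d_comp_d, ModuleCat.hom_zero]
  have hy : y = LinearMap.lTensor I (K.d 2 1).hom v := by
    refine Module.Flat.rTensor_preserves_injective_linearMap (M := K.X 1) I.subtype Subtype.val_injective ?_
    have h : LinearMap.lTensor R (K.d 2 1).hom (LinearMap.rTensor (K.X 2) I.subtype v) = p := by
      rw [hv, map_sub, hz, ← LinearMap.comp_apply, ← LinearMap.lTensor_comp, hdd, LinearMap.lTensor_zero, LinearMap.zero_apply, sub_zero]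
    rw [← hp, ← h, ← LinearMap.comp_apply, LinearMap.lTensor_comp_rTensor, ← LinearMap.rTensor_comp_lTensor, LinearMap.comp_apply]
  rw [hy, ← LinearMap.comp_apply, ← LinearMap.lTensor_comp, hdd, LinearMap.lTensor_zero, LinearMap.zero_apply]

end Groth.Agent.S19574
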