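import Groth.Statements.S19575
import Groth.Agent.Lib.EtaPt26.Val
-- import your own Groth.Agent.* helpers here

set_option autoImplicit false
universe u
open EtaPt

namespace Groth.Agent.S19575

/-- Let η be the field-endofunctor datum of the pointwise construction, A a commutative ring with
finitely many minimal prime ideals and φ : A → B a ring map inducing a surjection on prime spectra.
If the canonical map A → (B/A)_η (the corestriction of φ onto the subring of B of elements whose
image in ∏_q F(k(q)) comes from M_η(A)) is bijective, then for every f ∈ A the canonical map A_f →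
(B_f/A_f)_η attached to the localized map A_f → B_{φ(f)} is bijective as well. -/
theorem result (η : EtaPt.FieldEndo.{u}) {A B : Type u} [CommRing A] [CommRing B]
    (hA : (minimalPrimes A).Finite) (φ : A →+* B) (hs : Function.Surjective (PrimeSpectrum.comap φ))
    (h : Function.Bijective (η.qRel φ)) (f : A) :
    Function.Bijective (η.qRel (Localization.awayMap φ f)) := by
  obtain ⟨hinj, hsurj⟩ := EtaPt26.bijective_qRel_iff.1 h
  have hi : Function.Injective (Localization.awayMap φ f) := by
    refine (injective_iff_map_eq_zero _).2 fun z hz => ?_
    obtain ⟨k, a, hka⟩ := IsLocalization.Away.surj f z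
    have h1 : algebraMap B (Localization.Away (φ f)) (φ a) = algebraMap B _ 0 := by
      rw [map_zero, ← show Localization.awayMap φ f (algebraMap A _ a) = algebraMap B _ (φ a) from
        IsLocalization.map_eq _ a, ← hka, map_mul, hz, zero_mul]
    obtain ⟨m, hm⟩ := IsLocalization.Away.exists_of_eq (φ f) h1
    rw [mul_zero, ← map_pow, ← map_mul] at hm
    have hm' : f ^ m * a = 0 := hinj (hm.trans (map_zero φ).symm)
    have hu := IsLocalization.Away.algebraMap_isUnit (S := Localization.Away f) f
    have h2 : algebraMap A (Localization.Away f) a = 0 := by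
      refine ((hu.pow m).mul_right_eq_zero).1 ?_
      rw [← map_pow, ← map_mul, hm', map_zero]
    exact ((hu.pow k).mul_left_eq_zero).1 (hka.trans h2)
  refine EtaPt26.bijective_qRel_iff.2 ⟨hi, fun y hy => ?_⟩
  obtain ⟨x, hx, n, e⟩ := EtaPt26.rel_away φ f (EtaPt26.M_away hA f) y hy
  obtain ⟨a, rfl⟩ := hsurj x hx
  refine ⟨algebraMap A _ a * IsLocalization.Away.invSelf f ^ n, ?_⟩
  have hsq : ∀ z, Localization.awayMap φ f (algebraMap A (Localization.Away f) z) =
      algebraMap B (Localization.Away (φ f)) (φ z) := fun z => IsLocalization.map_eq _ z
  have hu : algebraMap B (Localization.Away (φ f)) (φ f) *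
      Localization.awayMap φ f (IsLocalization.Away.invSelf f) = 1 := by
    rw [← hsq, ← map_mul, IsLocalization.Away.mul_invSelf, map_one]
  rw [map_mul, map_pow, hsq, ← e, mul_assoc, ← mul_pow, hu, one_pow, mul_one]

end Groth.Agent.S19575
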