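import Groth.Statements.S19576
import Groth.Agent.Lib.EtaPt26.Val
-- import your own Groth.Agent.* helpers here

set_option autoImplicit false
universe u
open EtaPt

namespace Groth.Agent.S19576

/-- Let η be the field-endofunctor datum of the pointwise construction, A a commutative ring with
finitely many minimal prime ideals and φ : A → B a ring map inducing a surjection on prime spectra.
If finitely many elements f_1, …, f_n of A generate the unit ideal and, for each i, the canonical
map A_{f_i} → (B_{f_i}/A_{f_i})_η attached to the localized map A_{f_i} → B_{φ(f_i)} is bijective,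
then the canonical map A → (B/A)_η is bijective. -/
theorem result (η : EtaPt.FieldEndo.{u}) {A B : Type u} [CommRing A] [CommRing B]
    (hA : (minimalPrimes A).Finite) (φ : A →+* B) (hs : Function.Surjective (PrimeSpectrum.comap φ))
    (s : Finset A) (hspan : Ideal.span (s : Set A) = ⊤)
    (h : ∀ f ∈ s, Function.Bijective (η.qRel (Localization.awayMap φ f))) :
    Function.Bijective (η.qRel φ) := by
  refine EtaPt26.bijective_qRel_iff.2 ⟨?_, fun b hb => ?_⟩
  · refine (injective_iff_map_eq_zero φ).2 fun a ha => ?_
    have hmem : (Ideal.span (s : Set A)) ≤ Ideal.radical (LinearMap.ker (LinearMap.toSpanSingleton A A a)) := by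
      refine Ideal.span_le.2 fun f hf => ?_
      have h0 : algebraMap A (Localization.Away f) a = 0 := (EtaPt26.bijective_qRel_iff.1 (h f hf)).1 (by
        rw [map_zero, show Localization.awayMap φ f (algebraMap A _ a) = algebraMap B _ (φ a) from
          IsLocalization.map_eq _ a, ha, map_zero])
      obtain ⟨⟨_, n, rfl⟩, hn⟩ := (IsLocalization.map_eq_zero_iff (Submonoid.powers f) _ a).1 h0
      exact ⟨n, hn⟩
    rw [hspan, top_le_iff, Ideal.radical_eq_top] at hmem
    have h1 : (1 : A) ∈ LinearMap.ker (LinearMap.toSpanSingleton A A a) := by rw [hmem]; trivial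
    simpa using h1
  · let I : Submodule A A :=
      { carrier := {c | φ c * b ∈ φ.range}
        add_mem' := fun {u v} hu hv => by
          simp only [Set.mem_setOf_eq, map_add, add_mul] at hu hv ⊢
          exact add_mem hu hv
        zero_mem' := by
          simp only [Set.mem_setOf_eq, map_zero, zero_mul]
          exact zero_mem _
        smul_mem' := fun c u hu => by
          simp only [Set.mem_setOf_eq, smul_eq_mul, map_mul, mul_assoc] at hu ⊢
          exact mul_mem ⟨c, rfl⟩ hu }
    have hmem : (Ideal.span (s : Set A)) ≤ Ideal.radical I := by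
      refine Ideal.span_le.2 fun f hf => ?_
      obtain ⟨a', ha'⟩ := (EtaPt26.bijective_qRel_iff.1 (h f hf)).2 (algebraMap B (Localization.Away (φ f)) b) (by
        obtain ⟨x, hx, e⟩ := EtaPt26.mem_rel_iff.1 hb
        refine ⟨η.Nmap (algebraMap A (Localization.Away f)) x, EtaPt26.Nmap_mem_M η _ hx, ?_⟩
        rw [← EtaPt26.Nmap_comp, show (Localization.awayMap φ f).comp (algebraMap A (Localization.Away f)) =
          (algebraMap B (Localization.Away (φ f))).comp φ from IsLocalization.map_comp _, EtaPt26.Nmap_comp, e,
          EtaPt26.Nmap_t])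
      obtain ⟨n, a, hna⟩ := IsLocalization.Away.surj f a'
      have h1 : algebraMap B (Localization.Away (φ f)) (φ f ^ n * b) =
          algebraMap B (Localization.Away (φ f)) (φ a) := by
        have h2 := congrArg (Localization.awayMap φ f) hna
        simp only [map_mul, map_pow, ha', show ∀ z, Localization.awayMap φ f (algebraMap A (Localization.Away f) z) =
          algebraMap B (Localization.Away (φ f)) (φ z) from fun z => IsLocalization.map_eq _ z] at h2
        rw [map_mul, map_pow, mul_comm, h2]
      obtain ⟨m, hm⟩ := IsLocalization.Away.exists_of_eq (φ f) h1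
      refine ⟨m + n, (⟨f ^ m * a, ?_⟩ : φ (f ^ (m + n)) * b ∈ φ.range)⟩
      rw [map_mul, map_pow, map_pow, pow_add, mul_assoc, hm]
    rw [hspan, top_le_iff, Ideal.radical_eq_top] at hmem
    have h1 : φ (1 : A) * b ∈ φ.range := show (1 : A) ∈ I by rw [hmem]; trivial
    rwa [map_one, one_mul] at h1

end Groth.Agent.S19576
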