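import Groth.Statements.S19578
import Groth.Agent.Lib.EtaPt26.Val
-- import your own Groth.Agent.* helpers here

set_option autoImplicit false
universe u
open EtaPt

namespace Groth.Agent.S19578

/-- Let f : A → B be a homomorphism of commutative rings, each with only finitely many minimal primes,
and suppose the induced map M_η(f) : M_η(A) → M_η(B) is an isomorphism. Then Spec f is a bijection
between the prime ideals of B and of A, and for every prime q of B, with p = f⁻¹(q), there is a ring
map φ : k(q) → F(k(p)) whose composite with the residue field map k(p) → k(q) equals η_{k(p)}. Here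
η is the field-endofunctor datum of the pointwise construction, M_η(A) ⊆ ∏_p F(k(p)) the subring
attached to A with q_A : A → M_η(A), and M_η(f) : M_η(A) → M_η(B) the ring map induced by N_η(f),
pinned here as the ring map g compatible with N_η(f) under the two subring inclusions. -/
theorem result (η : EtaPt.FieldEndo.{u}) {A B : Type u} [CommRing A] [CommRing B]
    (hA : (minimalPrimes A).Finite) (hB : (minimalPrimes B).Finite) (f : A →+* B)
    (g : η.M A →+* η.M B) (hg : ∀ x : η.M A, ((g x : η.M B) : η.N B) = η.Nmap f (x : η.N A))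
    (hbij : Function.Bijective g) :
    Function.Bijective (PrimeSpectrum.comap f) ∧
      ∀ Q : PrimeSpectrum B,
        ∃ φ : Q.asIdeal.ResidueField →+* η.obj (PrimeSpectrum.comap f Q).asIdeal.ResidueField,
          φ.comp (Ideal.ResidueField.map (PrimeSpectrum.comap f Q).asIdeal Q.asIdeal f rfl) =
            η.eta (PrimeSpectrum.comap f Q).asIdeal.ResidueField := by
  have hsq : g.comp (η.q A) = (η.q B).comp f :=
    RingHom.ext fun a => Subtype.ext ((hg (η.q A a)).trans (EtaPt26.Nmap_t η f a))
  have ha := EtaPt26.comap_q_bijective η hA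
  have hb := EtaPt26.comap_q_bijective η hB
  let ge := RingEquiv.ofBijective g hbij
  have e : PrimeSpectrum.comap (η.q A) ∘ PrimeSpectrum.comap g =
      PrimeSpectrum.comap f ∘ PrimeSpectrum.comap (η.q B) := by
    funext Q
    show PrimeSpectrum.comap (g.comp (η.q A)) Q = _
    rw [hsq]
    rfl
  have hgb : Function.Bijective (PrimeSpectrum.comap g) := by
    refine Function.bijective_iff_has_inverse.2 ⟨PrimeSpectrum.comap ge.symm.toRingHom, fun x => ?_, fun x => ?_⟩
    · refine PrimeSpectrum.ext (Ideal.ext fun z => ?_)
      show g (ge.symm z) ∈ x.asIdeal ↔ z ∈ x.asIdeal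
      rw [show g (ge.symm z) = z from ge.apply_symm_apply z]
    · refine PrimeSpectrum.ext (Ideal.ext fun z => ?_)
      show ge.symm (g z) ∈ x.asIdeal ↔ z ∈ x.asIdeal
      rw [show ge.symm (g z) = z from ge.symm_apply_apply z]
  have hfb : Function.Bijective (PrimeSpectrum.comap f) := by
    have h := ha.comp hgb
    rw [e] at h
    exact ⟨Function.Injective.of_comp_right h.1 hb.2, Function.Surjective.of_comp h.2⟩
  refine ⟨hfb, fun Q => ?_⟩
  let P := PrimeSpectrum.comap f Q
  let u : B →+* η.obj P.asIdeal.ResidueField := ((EtaPt26.evP η P).comp ge.symm.toRingHom).comp (η.q B)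
  have hu : u.comp f = (η.eta P.asIdeal.ResidueField).comp (algebraMap A P.asIdeal.ResidueField) := by
    refine RingHom.ext fun a => ?_
    show EtaPt26.evP η P (ge.symm ((η.q B).comp f a)) = _
    rw [← hsq]
    exact congrArg (EtaPt26.evP η P) (ge.symm_apply_apply _)
  have hk : RingHom.ker u = Q.asIdeal := by
    refine congrArg PrimeSpectrum.asIdeal (hfb.1 (a₁ := ⟨RingHom.ker u, RingHom.ker_isPrime u⟩) (a₂ := Q)
      (PrimeSpectrum.ext ?_))
    show (RingHom.ker u).comap f = P.asIdeal
    rw [RingHom.comap_ker, hu]
    exact EtaPt26.ker_point η P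
  refine ⟨Ideal.ResidueField.lift Q.asIdeal u hk.ge
    (fun x hx => isUnit_iff_ne_zero.2 fun h => hx (hk ▸ h)), Ideal.ResidueField.ringHom_ext ?_⟩
  refine RingHom.ext fun a => ?_
  simp only [RingHom.comp_apply, Ideal.ResidueField.map_algebraMap, Ideal.ResidueField.lift_algebraMap]
  exact RingHom.congr_fun hu a

end Groth.Agent.S19578
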