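import Groth.Statements.S19579
import Groth.Agent.Lib.Seesaw22.AbCube

set_option autoImplicit false
set_option backward.isDefEq.respectTransparency false
universe u
open CategoryTheory CategoryTheory.Limits MonoidalCategory CartesianMonoidalCategory MonObj AlgebraicGeometry
open AbVar

namespace Groth.Agent.S19579

/-- The implication from triviality of the Mumford bundle on one fibre to its triviality relative to the
base, with the identification of the descended bundle. Let X be an abelian variety over a field k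
(proper, geometrically integral k-group scheme with multiplication m and unit e), T a connected
locally Noetherian k-scheme and L an invertible module on X ×_k T. On X ×_k X ×_k T let m_T, p_13,
p_23 be the maps to X ×_k T induced by m and by the two projections X × X → X, π the projection to
T, and e_T : T → X ×_k T the unit section. If there is a point t of T over whose fibre X × X × Spec
k(t) the modules m_T^*L and p_13^*L ⊗ p_23^*L become isomorphic (equivalently the Mumford bundle
Λ(L) = m_T^*L ⊗ p_13^*L⁻¹ ⊗ p_23^*L⁻¹ is trivial on one fibre), then m_T^*L ⊗ π^*(e_T^*L) and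
p_13^*L ⊗ p_23^*L are isomorphic on all of X × X × T, i.e. Λ(L) ≅ π^*N with N = e_T^*L⁻¹ (existence
of an isomorphism). -/
theorem result (k : Type u) [Field k]
    (X T : Over (Spec (CommRingCat.of k)))
    [GrpObj X] [IsProper X.hom] [GeometricallyIntegral X.hom]
    [IsLocallyNoetherian T.left] [ConnectedSpace ↥T.left]
    (L : (X ⊗ T).left.Modules) (hL : PicF.IsInvertible L)
    (t : ↥T.left)
    (ht : Nonempty
      ((Scheme.Modules.pullback (pullback.fst (snd (X ⊗ X) T).left
          (T.left.fromSpecResidueField t))).obj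
          ((Scheme.Modules.pullback (μ[X] ▷ T).left).obj L) ≅
       (Scheme.Modules.pullback (pullback.fst (snd (X ⊗ X) T).left
          (T.left.fromSpecResidueField t))).obj
          (CohB1.tensorMod ((Scheme.Modules.pullback (fst X X ▷ T).left).obj L)
            ((Scheme.Modules.pullback (snd X X ▷ T).left).obj L)))) :
    Nonempty
      (CohB1.tensorMod ((Scheme.Modules.pullback (μ[X] ▷ T).left).obj L)
          ((Scheme.Modules.pullback (snd (X ⊗ X) T).left).obj
            ((Scheme.Modules.pullback (CartesianMonoidalCategory.lift (toUnit T ≫ η[X]) (𝟙 T)).left).obj L)) ≅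
        CohB1.tensorMod ((Scheme.Modules.pullback (fst X X ▷ T).left).obj L)
          ((Scheme.Modules.pullback (snd X X ▷ T).left).obj L)) := by
  letI : ∀ Y : Scheme.{u}, PicGrp.Law Y := fun Y => Groth.Agent.M2.law Y
  open Groth.Agent.Seesaw22 Groth.Agent.CubeField CategoryTheory.Limits in (
    let eT : T ⟶ X ⊗ T := lift (toUnit T ≫ η[X]) (𝟙 T)
    let M : PicLoc.PicSet ((X ⊗ X) ⊗ T).left :=
      cls L hL (μ[X] ▷ T) * cls L hL (snd (X ⊗ X) T ≫ eT) *
        (cls L hL (fst X X ▷ T) * cls L hL (snd X X ▷ T))⁻¹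
    obtain ⟨N, hN, hMN⟩ := PicGrp.exists_eq_cls M
    have hM : M = 1 := by
      rw [hMN, PicGrp.cls_eq_one_iff]
      have htriv : ∀ {V : Over (Spec (CommRingCat.of k))} (s : V ⟶ (X ⊗ X) ⊗ T),
          PicGrp.pullHom s.left (Groth.Agent.M2.pullMul _) M = 1 →
          IsTriv ((Scheme.Modules.pullback s.left).obj N) := fun {V} s hs => by
        rw [hMN, PicGrp.pullHom_cls, PicGrp.cls_eq_one_iff] at hs
        exact hs
      have h₁ : IsTriv ((Scheme.Modules.pullback (lift (toUnit X ≫ η[X]) (𝟙 X) ▷ T).left).obj N) := by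
        refine htriv _ ?_
        simp only [M, map_mul, map_inv, pullHom_cls]
        rw [← comp_whiskerRight, ← comp_whiskerRight, ← comp_whiskerRight, lift_fst, lift_snd, id_whiskerRight,
          show lift (toUnit X ≫ η[X]) (𝟙 X) ≫ μ[X] = 𝟙 X from one_mul (𝟙 X)]
        rw [id_whiskerRight, whiskerRight_snd_assoc,
          show snd X T ≫ eT = (toUnit X ≫ η[X]) ▷ T by ext : 1 <;> simp [eT]]
        exact mul_inv_eq_one.2 (by ac_rfl)
      have h₂ : IsTriv ((Scheme.Modules.pullback (lift (𝟙 X) (toUnit X ≫ η[X]) ▷ T).left).obj N) := by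
        refine htriv _ ?_
        simp only [M, map_mul, map_inv, pullHom_cls]
        rw [← comp_whiskerRight, ← comp_whiskerRight, ← comp_whiskerRight, lift_fst, lift_snd, id_whiskerRight,
          show lift (𝟙 X) (toUnit X ≫ η[X]) ≫ μ[X] = 𝟙 X from mul_one (𝟙 X)]
        rw [id_whiskerRight, whiskerRight_snd_assoc,
          show snd X T ≫ eT = (toUnit X ≫ η[X]) ▷ T by ext : 1 <;> simp [eT]]
        exact mul_inv_eq_one.2 (by ac_rfl)
      have h₁' : IsTriv ((Scheme.Modules.pullback
          (lift (lift (toUnit (X ⊗ T) ≫ η[X]) (fst X T)) (snd X T)).left).obj N) :=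
        isTriv_of_eq (congrArg Over.Hom.left (show lift (toUnit X ≫ η[X]) (𝟙 X) ▷ T =
          lift (lift (toUnit (X ⊗ T) ≫ η[X]) (fst X T)) (snd X T) by (ext : 1 <;> (try ext : 1) <;> simp))) h₁
      have h₂' : IsTriv ((Scheme.Modules.pullback
          (lift (lift (fst X T) (toUnit (X ⊗ T) ≫ η[X])) (snd X T)).left).obj N) :=
        isTriv_of_eq (congrArg Over.Hom.left (show lift (𝟙 X) (toUnit X ≫ η[X]) ▷ T =
          lift (lift (fst X T) (toUnit (X ⊗ T) ≫ η[X])) (snd X T) by (ext : 1 <;> (try ext : 1) <;> simp))) h₂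
      let e : Spec (CommRingCat.of k) ⟶ X.left := η[X].left
      have he : e ≫ X.hom = 𝟙 _ := Over.w η[X]
      have hone : ∀ {V : Over (Spec (CommRingCat.of k))}, (toUnit V ≫ η[X]).left = V.hom ≫ e := fun {V} => rfl
      have hτ : ∀ b, IsTriv ((Scheme.Modules.pullback (sliceJ X.hom X.hom T.hom e he e he b)).obj N) := by
        rintro (_ | _)
        · let u : pullback (slX X.hom X.hom e he ≫ pP X.hom X.hom) T.hom ⟶ (X ⊗ T).left :=
            pullback.lift (pullback.fst _ _) (pullback.snd _ _) (by
              rw [← pullback.condition]; exact congrArg (pullback.fst _ _ ≫ ·) (slX_pP X.hom X.hom e he).symm)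
          refine isTriv_of_eq ?_ ((isTriv_comp_iff u _ N).1 (h₂'.pullback u))
          apply pullback.hom_ext
          · apply pullback.hom_ext <;> simp [u, sliceJ, sliceT, pP, slX, slY, hone, e]
          · simp [u, sliceJ, sliceT, pP]
        · let u : pullback (slY X.hom X.hom e he ≫ pP X.hom X.hom) T.hom ⟶ (X ⊗ T).left :=
            pullback.lift (pullback.fst _ _) (pullback.snd _ _) (by
              rw [← pullback.condition]; exact congrArg (pullback.fst _ _ ≫ ·) (slY_pP X.hom X.hom e he).symm)
          refine isTriv_of_eq ?_ ((isTriv_comp_iff u _ N).1 (h₁'.pullback u))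
          apply pullback.hom_ext
          · apply pullback.hom_ext <;> simp [u, sliceJ, sliceT, pP, slX, slY, hone, e]
          · simp [u, sliceJ, sliceT, pP]
      let π := (snd (X ⊗ X) T).left
      have h0 : IsTriv ((Scheme.Modules.pullback (π.fiberι t)).obj N) := by
        refine (PicGrp.cls_eq_one_iff (PicLoc.isInvertible_pullback _ hN)).1 ?_
        rw [← PicGrp.pullHom_cls (π.fiberι t) (Groth.Agent.M2.pullMul _) _ hN, ← hMN]
        have hπ : PicGrp.pullHom (π.fiberι t) (Groth.Agent.M2.pullMul _) (cls L hL (snd (X ⊗ X) T ≫ eT)) = 1 := by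
          rw [← pullHom_cls (snd (X ⊗ X) T) eT]
          show PicGrp.pullHom (π.fiberι t) _ (PicGrp.pullHom π _ (PicGrp.cls _ _)) = 1
          rw [PicGrp.pullHom_cls, PicGrp.pullHom_cls, PicGrp.cls_eq_one_iff]
          exact Groth.Agent.PicPn.fibre_trivial_of_pullback π (PicLoc.isInvertible_pullback _ hL) (Iso.refl _) t
        rw [show M = cls L hL (μ[X] ▷ T) * cls L hL (snd (X ⊗ X) T ≫ eT) *
          (cls L hL (fst X X ▷ T) * cls L hL (snd X X ▷ T))⁻¹ from rfl, map_mul, map_inv, map_mul, hπ, _root_.mul_one,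
          mul_inv_eq_one]
        apply Subtype.ext
        rw [PicGrp.pullHom_apply_val, PicGrp.pullHom_apply_val]
        simp only [cls, PicGrp.mul_val, PicGrp.cls_val, PicGrp.mulCl_cl, PicLoc.pullCl_cl]
        exact Groth.Agent.M2.cl_eq_of_iso ht.some
      haveI := Groth.Agent.CubeField.geometricallyConnected_of_irreducible X.hom
      obtain ⟨U, hU, htU, hUtriv⟩ := cube_clopen X.hom X.hom T.hom e he e he hN hτ t h0
      obtain rfl : U = ⊤ := TopologicalSpace.Opens.ext (IsClopen.eq_univ ⟨hU, U.isOpen⟩ ⟨t, htU⟩)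
      obtain ⟨i⟩ := isTriv_of_eq (show ((X ⊗ X) ⊗ T).left.topIso.inv ≫
          (π ⁻¹ᵁ (⊤ : T.left.Opens)).ι = 𝟙 _ from ((X ⊗ X) ⊗ T).left.topIso.inv_hom_id)
        ((isTriv_comp_iff _ _ N).1 (hUtriv.pullback ((X ⊗ X) ⊗ T).left.topIso.inv))
      exact ⟨((Scheme.Modules.pullbackId _).app N).symm ≪≫ i⟩
    have h1 := (mul_inv_eq_one.1 hM)
    rw [← pullHom_cls (snd (X ⊗ X) T) eT] at h1
    replace h1 := congrArg Subtype.val h1
    simp only [cls, PicGrp.mul_val, PicGrp.pullHom_apply_val, PicGrp.cls_val, PicLoc.pullCl_cl,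
      PicGrp.mulCl_cl] at h1
    exact (PicGrp.cl_eq_cl_iff _ _).1 h1)

end Groth.Agent.S19579
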