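import Groth.Statements.S19581
import Groth.Agent.Lib.CharPair22.Main
import Groth.Agent.Lib.CharPair22.Bialg
import Groth.Agent.Lib.AbDual22.Transpose
import Groth.Agent.Lib.RR22.Mumford
import Mathlib.AlgebraicGeometry.Morphisms.FlatRank

set_option autoImplicit false
set_option backward.isDefEq.respectTransparency false
set_option backward.isDefEq.respectTransparency.types false
set_option synthInstance.maxHeartbeats 400000
set_option maxHeartbeats 1000000
universe u
open CategoryTheory CategoryTheory.Limits MonoidalCategory CartesianMonoidalCategory MonObj GrpObj AlgebraicGeometry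
open AbDual

namespace Groth.Agent.S19581

attribute [local instance] CharPair22.kalg

/-- Let X and Y be abelian varieties over a field k (proper, smooth, geometrically connected commutative
k-group schemes) with dual abelian varieties X^t, Y^t presented through φ_X, φ_Y for the fppf
topology, and let f : X → Y be an isogeny, i.e. a surjective homomorphism with finite kernel; let
the kernel be Spec A for a finite-dimensional commutative and cocommutative Hopf algebra A, embedded
in X by a homomorphism i whose square against the unit section of Y is cartesian. Let f^t : Y^t →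
X^t be the transpose homomorphism and let Spec B, for a finite-dimensional commutative Hopf algebra
B, be its kernel through a homomorphism j. Then B is isomorphic, as a bialgebra over k, to the dual
Hopf algebra Hom_k(A, k) of A; that is, Ker(f^t) is isomorphic to the Cartier dual of Ker(f). (The
published statement gives a canonical isomorphism; only the existence of an isomorphism is stated
here. That f^t is again an isogeny is a separate statement.) -/
theorem result (k : Type u) [Field k]
    (X Y Xt Yt : Over (Spec (CommRingCat.of k))) [GrpObj X] [IsCommMonObj X] [GrpObj Y] [IsCommMonObj Y]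
    [GrpObj Xt] [IsCommMonObj Xt] [GrpObj Yt] [IsCommMonObj Yt]
    [IsProper X.hom] [Smooth X.hom] [GeometricallyConnected X.hom] [IsProper Y.hom] [Smooth Y.hom] [GeometricallyConnected Y.hom]
    [IsProper Xt.hom] [Smooth Xt.hom] [GeometricallyConnected Xt.hom] [IsProper Yt.hom] [Smooth Yt.hom] [GeometricallyConnected Yt.hom]
    (φX : ∀ T : Over (Spec (CommRingCat.of k)), PicF.Cl (PicF.XT X.hom T) → (T ⟶ Xt))
    (φY : ∀ T : Over (Spec (CommRingCat.of k)), PicF.Cl (PicF.XT Y.hom T) → (T ⟶ Yt))
    (hX : AbDual.IsDualAV Scheme.fppfPrecoverage X Xt φX) (hY : AbDual.IsDualAV Scheme.fppfPrecoverage Y Yt φY)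
    (f : X ⟶ Y) [IsMonHom f] [Surjective f.left]
    (A : Type u) [CommRing A] [HopfAlgebra k A] [Coalgebra.IsCocomm k A] [FiniteDimensional k A]
    (i : CoactBr.sp k A ⟶ X) [IsMonHom i] (hA : AlgGrp.IsKernel i f)
    (ft : Yt ⟶ Xt) [IsMonHom ft] (hft : AbDual.IsTranspose f φX φY ft)
    (B : Type u) [CommRing B] [HopfAlgebra k B] [FiniteDimensional k B]
    (j : CoactBr.sp k B ⟶ Yt) [IsMonHom j] (hB : AlgGrp.IsKernel j ft) :
    Nonempty (B ≃ₐc[k] CartDual.D k A) := by
  have hXz : ThetaGrp19.HZero X := fun T τ => AbDual21.bijective_appTop_snd X T τ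
  haveI : IsProper (X ⊗ X).hom := by
    show IsProper (pullback.fst X.hom X.hom ≫ X.hom)
    infer_instance
  haveI : Smooth (X ⊗ X).hom := by
    show Smooth (pullback.fst X.hom X.hom ≫ X.hom)
    infer_instance
  haveI : GeometricallyConnected (X ⊗ X).hom := by
    show GeometricallyConnected (pullback.fst X.hom X.hom ≫ X.hom)
    haveI : UniversallyOpen (pullback.fst X.hom X.hom) := inferInstance
    exact GeometricallyConnected.comp _ _
  have hXXz : ThetaGrp19.HZero (X ⊗ X) := fun T τ => AbDual21.bijective_appTop_snd (X ⊗ X) T τ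
  obtain ⟨ξ, hξ⟩ := RR22.exists_poincare hY
  obtain ⟨P, hP, -⟩ := AbDual21.picZero_invertible hξ.1
  rw [← hP] at hξ
  haveI : GeometricallyIntegral Y.hom := AbRigid.geometricallyIntegral_of_smooth Y
  haveI : IsIntegral Y.left := GeometricallyIntegral.isIntegral_of_subsingleton Y.hom
  haveI : GeometricallyIntegral Xt.hom := AbRigid.geometricallyIntegral_of_smooth Xt
  haveI : IsIntegral Xt.left := GeometricallyIntegral.isIntegral_of_subsingleton Xt.hom
  haveI : IsFinite (CoactBr.sp k A).hom := by
    show IsFinite (Spec.map (CommRingCat.ofHom (algebraMap k A)))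
    rw [IsFinite.SpecMap_iff]
    exact RingHom.finite_algebraMap.2 inferInstance
  obtain ⟨hfin, hflat⟩ := AbDual22.isFinite_flat_of_kernel f i hA
  haveI := hfin
  haveI := hflat
  haveI : IsLocallyNoetherian Y.left := LocallyOfFiniteType.isLocallyNoetherian Y.hom
  haveI : LocallyOfFinitePresentation f.left := {
    finitePresentation_appLE := fun {U} hU {V} hV le =>
      haveI := IsLocallyNoetherian.component_noetherian (X := Y.left) ⟨U, hU⟩
      RingHom.FinitePresentation.of_finiteType.mp (f.left.finiteType_appLE hU hV le) }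
  obtain ⟨d, hd⟩ : ∃ d, ∀ y : Y.left, f.left.finrank y = d :=
    ⟨_, fun y => (Scheme.Hom.isLocallyConstant_finrank f.left).apply_eq_of_preconnectedSpace y
      (η[Y].left (IsLocalRing.closedPoint k))⟩
  obtain ⟨hft1, hft2, -, hft4⟩ := AbDual22.transpose_isogeny hX hY f hd hft
  haveI := hft1
  haveI := hft2
  have hNsq : IsPullback i.left (CoactBr.sp k A).hom f.left η[Y].left := hA.map (Over.forget _)
  have hMsq : IsPullback j.left (CoactBr.sp k B).hom ft.left η[Xt].left := hB.map (Over.forget _)
  haveI : Flat (CoactBr.sp k A).hom := MorphismProperty.of_isPullback (P := @Flat) hNsq ‹_›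
  haveI : IsFinite (CoactBr.sp k B).hom := MorphismProperty.of_isPullback (P := @IsFinite) hMsq ‹_›
  haveI : Flat (CoactBr.sp k B).hom := MorphismProperty.of_isPullback (P := @Flat) hMsq ‹_›
  obtain ⟨_, hNr⟩ := CharPair22.rank_eq (CoactBr.sp k A) fun s =>
    (Scheme.Hom.finrank_of_isPullback _ _ _ _ hNsq s).trans (hd _)
  obtain ⟨_, hMr⟩ := CharPair22.rank_eq (CoactBr.sp k B) fun s =>
    (Scheme.Hom.finrank_of_isPullback _ _ _ _ hMsq s).trans (hft4 _)
  haveI : IsAffine (CoactBr.sp k A).left := inferInstanceAs (IsAffine (Spec (CommRingCat.of A)))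
  haveI : IsAffine (CoactBr.sp k B).left := inferInstanceAs (IsAffine (Spec (CommRingCat.of B)))
  haveI : Mono j := ⟨fun a c h => hB.hom_ext h (toUnit_unique _ _)⟩
  let e := Module.finBasisOfFinrankEq k Γ((CoactBr.sp k A).left, ⊤) hNr
  obtain ⟨b, hr, h1, hu, hkey⟩ := CharPair22.exists_basis_pairing hX hY hξ f i hA hft hXz j
    (by rw [hB.w, Hom.one_def]) e (by rw [Fintype.card_fin, hMr])
  let ιA := (CharPair22.spΓ k A).toLinearEquiv
  let ιB := (CharPair22.spΓ k B).toLinearEquiv
  let e₀ := e.map ιA.symm
  let b₀ := b.map ιB.symm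
  have he : ∀ l, CharPair22.spΓ k A (e₀ l) = e l := fun l => ιA.apply_symm_apply _
  have hb : ∀ l, CharPair22.spΓ k B (b₀ l) = b l := fun l => ιB.apply_symm_apply _
  refine CharPair22.nonempty_bialgEquiv_of_basis e₀ b₀ ?_ ?_ ?_ ?_
  · apply (CharPair22.spΓ k B).injective
    rw [map_sum, map_one, ← h1]
    refine Finset.sum_congr rfl fun l _ => ?_
    rw [map_smul, hb, ← he, CharPair22.evalPt_eta]
  · apply (CharPair22.spΓ k A).injective
    rw [map_sum, map_one, ← hu η[CoactBr.sp k B] (by rw [IsMonHom.one_hom j, one_eq_one])]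
    refine Finset.sum_congr rfl fun l _ => ?_
    rw [map_smul, he, ← hb, CharPair22.evalPt_eta]
  · intro δ
    have h := hkey (δ ∘ₗ ιB.symm.toLinearMap)
    refine CharPair22.spΓ_comul _ _ _ ?_
    simp only [map_sum, map_smul, he, CharPair22.appTop_smul] at h ⊢
    have hsb : ∀ x, ιB.symm (CharPair22.spΓ k B x) = x := fun x => ιB.symm_apply_apply x
    simp only [← hb, ← map_mul (CharPair22.spΓ k B), LinearMap.comp_apply, LinearEquiv.coe_coe, hsb] at h
    exact h
  · intro ψ
    have h := CharPair22.comul_basis hY hξ f i hA hXz hXXz j e b hr (ψ ∘ₗ ιA.symm.toLinearMap)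
    refine CharPair22.spΓ_comul _ _ _ ?_
    simp only [map_sum, map_smul, hb, CharPair22.appTop_smul] at h ⊢
    have hsa : ∀ x, ιA.symm (CharPair22.spΓ k A x) = x := fun x => ιA.symm_apply_apply x
    simp only [← he, ← map_mul (CharPair22.spΓ k A), LinearMap.comp_apply, LinearEquiv.coe_coe, hsa] at h
    exact h

end Groth.Agent.S19581
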