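import Groth.Statements.S19582
import Groth.Agent.Lib.Cyc26.UnivEquidim

set_option autoImplicit false
universe u
open Cyc

namespace Groth.Agent.S19582

open CategoryTheory CategoryTheory.Limits AlgebraicGeometry in
/-- Let S be a separated Noetherian scheme, p : X → S separated of finite type, z a point of X lying
over a generic point of an irreducible component of S whose closure in its fibre p⁻¹(p z) has
dimension r, and ι : Z → X a closed immersion from a reduced scheme with image the closure of z. Let
R be a discrete valuation ring with fraction field K and x : Spec R → S a morphism sending the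
generic point of Spec R to a generic point of an irreducible component of S, and let q : φ → Spec R
be the flat closure φ = φ_x(Z) of Z along x, i.e. the scheme-theoretic image of Z ×_S Spec K in Z
×_S Spec R, with its projection to Spec R. Then q is universally equidimensional of dimension r: for
every scheme S' and every S' → Spec R, the base change φ ×_R S' → S' has local fibre dimension r at
every point (the dimension at w of the fibre through w is r) and every irreducible component of φ
×_R S' dominates an irreducible component of S'. -/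
theorem result {X S Z : Scheme.{u}} [IsNoetherian S] [S.IsSeparated] [X.IsSeparated]
    (p : X ⟶ S) [LocallyOfFiniteType p] [QuasiCompact p] (z : X) (hz : closure {p.base z} ∈ irreducibleComponents ↥S)
    (r : ℕ) (hr : topologicalKrullDim ↥(closure ({p.asFiber z} : Set ↥(p.fiber (p.base z)))) = r)
    (ι : Z ⟶ X) [IsClosedImmersion ι] [IsReduced Z] (hZ : Set.range ι.base = closure {z})
    (R : Type u) [CommRing R] [IsDomain R] [IsDiscreteValuationRing R] (x : Spec (CommRingCat.of R) ⟶ S)
    (hx : closure {x.base ⟨⊥, Ideal.isPrime_bot⟩} ∈ irreducibleComponents ↥S)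
    (q : (pullback.map (ι ≫ p) (Spec.map (CommRingCat.ofHom (algebraMap R (FractionRing R))) ≫ x) (ι ≫ p) x (𝟙 Z) (Spec.map (CommRingCat.ofHom (algebraMap R (FractionRing R)))) (𝟙 S) ((Category.comp_id _).trans (Category.id_comp _).symm) (Category.comp_id _)).ker.subscheme ⟶ Spec (CommRingCat.of R))
    (hq : q = (pullback.map (ι ≫ p) (Spec.map (CommRingCat.ofHom (algebraMap R (FractionRing R))) ≫ x) (ι ≫ p) x (𝟙 Z) (Spec.map (CommRingCat.ofHom (algebraMap R (FractionRing R)))) (𝟙 S) ((Category.comp_id _).trans (Category.id_comp _).symm) (Category.comp_id _)).ker.subschemeι ≫ pullback.snd (ι ≫ p) x)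
    (S' : Scheme.{u}) (g : S' ⟶ Spec (CommRingCat.of R)) :
    (∀ w : ↥(pullback q g), FlatMor.fibreDimAt (pullback.snd q g) w = r) ∧
      ∀ C ∈ irreducibleComponents ↥(pullback q g),
        closure ((pullback.snd q g).base '' C) ∈ irreducibleComponents ↥S' := by
  subst hq
  let m := pullback.map (ι ≫ p) (Spec.map (CommRingCat.ofHom (algebraMap R (FractionRing R))) ≫ x) (ι ≫ p) x (𝟙 Z) (Spec.map (CommRingCat.ofHom (algebraMap R (FractionRing R)))) (𝟙 S) ((Category.comp_id _).trans (Category.id_comp _).symm) (Category.comp_id _)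
  haveI : QuasiCompact (Spec.map (CommRingCat.ofHom (algebraMap R (FractionRing R)))) := inferInstance
  have hm : IsPullback m (pullback.snd _ _) (pullback.snd (ι ≫ p) x) (Spec.map (CommRingCat.ofHom (algebraMap R (FractionRing R)))) := by
    refine IsPullback.of_right ?_ (pullback.lift_snd _ _ _) (IsPullback.of_hasPullback (ι ≫ p) x)
    rw [show m ≫ pullback.fst (ι ≫ p) x = pullback.fst _ _ by rw [pullback.lift_fst]; exact Category.comp_id _]
    exact IsPullback.of_hasPullback _ _
  haveI : QuasiCompact m := MorphismProperty.of_isPullback hm.flip ‹QuasiCompact _›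
  haveI : IsSchemeTheoreticallyDominant m.toImage := EffCartier.dominant_toImage m
  haveI : LocallyOfFiniteType (m.imageι ≫ pullback.snd (ι ≫ p) x) := inferInstance
  haveI : Flat (m.imageι ≫ pullback.snd (ι ≫ p) x) :=
    Cyc26.UnivEquidim.flat_of_dominant _ m.toImage (pullback.snd _ _) (by rw [m.toImage_imageι_assoc]; exact hm.w)
  haveI : LocallyOfFinitePresentation (m.imageι ≫ pullback.snd (ι ≫ p) x) :=
    LocallyOfFinitePresentation.iff_locallyOfFiniteType.2 inferInstance
  refine Cyc26.UnivEquidim.univ_conclusion (m.imageι ≫ pullback.snd (ι ≫ p) x) r (fun w hw => ?_) g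
  let bot : ↥(Spec (CommRingCat.of R)) := (⟨⊥, Ideal.isPrime_bot⟩ : PrimeSpectrum R)
  have hbot : bot = (m.imageι ≫ pullback.snd (ι ≫ p) x) w :=
    hw bot ((PrimeSpectrum.le_iff_specializes _ _).1 bot_le)
  have hrange : bot ∈ Set.range (Spec.map (CommRingCat.ofHom (algebraMap R (FractionRing R)))) :=
    ⟨(⟨⊥, Ideal.isPrime_bot⟩ : PrimeSpectrum (FractionRing R)),
      PrimeSpectrum.ext (Ideal.comap_bot_of_injective _ (IsFractionRing.injective R (FractionRing R)))⟩
  rw [Cyc26.UnivEquidim.fibreDimAt_comp_of_surjOn m.imageι (pullback.snd (ι ≫ p) x) w ?_,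
    FibDim14.fibreDimAt_baseChange (IsPullback.of_hasPullback (ι ≫ p) x) (m.imageι w)]
  · refine Cyc26.UnivEquidim.fibreDimAt_closure p ι hZ hr _ ?_
    rw [show (ι ≫ p) (pullback.fst (ι ≫ p) x (m.imageι w)) = x bot by
      rw [hbot, ← Scheme.Hom.comp_apply, pullback.condition]; rfl]
    exact (VarDim.maximal_iff_mem_irreducibleComponents (X := S) _).2 hx
  · intro a ha
    obtain ⟨t, ht⟩ := hrange
    obtain ⟨c, hc, -⟩ := Scheme.exists_preimage_of_isPullback hm a t (by rw [ht, ha, hbot]; rfl)
    exact ⟨m.toImage c, by rw [← Scheme.Hom.comp_apply, m.toImage_imageι, hc]⟩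
end Groth.Agent.S19582
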