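import Groth.Statements.S19583
import Groth.Agent.Lib.Cyc26.UnivEquidim

set_option autoImplicit false
universe u
open Cyc

namespace Groth.Agent.S19583

open CategoryTheory CategoryTheory.Limits AlgebraicGeometry

theorem comap_ι_eq_bot {P : Scheme.{u}} (E 𝒥 : P.IdealSheafData)
    (h : ∀ (V : P.affineOpens) (g : Γ(P, V.1)), g ∈ 𝒥.ideal V →
      BlowUp.KilledByPowerNear E (Coh.structureModule P) V g)
    (O : P.Opens) (hO : ∀ y ∈ O, y ∉ E.support) : 𝒥.comap O.ι = ⊥ := by
  refine EffCartier.eq_of_forall_exists fun x => ?_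
  obtain ⟨_, ⟨U, hU, rfl⟩, hxU, -⟩ :=
    O.toScheme.isBasis_affineOpens.exists_subset_of_mem_open (Set.mem_univ x) isOpen_univ
  refine ⟨⟨U, hU⟩, hxU, ?_⟩
  rw [Scheme.IdealSheafData.ideal_comap_of_isOpenImmersion, Scheme.IdealSheafData.ideal_bot, Pi.bot_apply, eq_bot_iff]
  intro a ha
  obtain ⟨n, hn⟩ := h _ _ ha
  have h0 : (O.ι.appIso U).inv.hom a = 0 := by
    refine TopCat.Presheaf.section_ext P.sheaf _ _ 0 fun y hy => ?_
    have hyO : y ∈ O := by
      obtain ⟨y', -, rfl⟩ := hy
      exact y'.2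
    have hns := hO y hyO
    rw [Scheme.IdealSheafData.mem_support_iff_of_mem (U := ⟨O.ι ''ᵁ U, hU.image_of_isOpenImmersion O.ι⟩) hy,
      Scheme.mem_zeroLocus_iff] at hns
    push Not at hns
    obtain ⟨e, he, hye⟩ := hns
    have hu : IsUnit (P.presheaf.germ _ y hy e) := (P.mem_basicOpen e y hy).1 hye
    refine (IsUnit.mul_right_eq_zero (hu.pow n)).1 ?_ |>.trans (map_zero _).symm
    rw [← map_pow]
    refine ((map_mul (P.presheaf.germ _ y hy).hom _ _).symm.trans ?_)
    refine (congrArg _ ?_).trans (map_zero _)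
    exact hn (e ^ n) (by rw [Scheme.IdealSheafData.ideal_pow]; exact Ideal.pow_mem_pow he n)
  rw [Ideal.mem_bot, ← map_eq_zero_iff (O.ι.appIso U).inv.hom
    (O.ι.appIso U).symm.commRingCatIsoToRingEquiv.injective]
  exact h0

theorem isEffCartierIdeal_of_notMem {R : Type u} [CommRing R] [IsDomain R] [IsPrincipalIdealRing R]
    (J : (Spec (CommRingCat.of R)).IdealSheafData) {x : ↥(Spec (CommRingCat.of R))} (hx : x ∉ J.support) :
    BlowUp.IsEffCartierIdeal J := by
  refine fun y => ⟨⟨⊤, isAffineOpen_top _⟩, trivial, ?_⟩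
  haveI : IsPrincipalIdealRing Γ(Spec (CommRingCat.of R), ⊤) :=
    IsPrincipalIdealRing.of_surjective (Scheme.ΓSpecIso (CommRingCat.of R)).inv.hom
      (Scheme.ΓSpecIso (CommRingCat.of R)).symm.commRingCatIsoToRingEquiv.surjective
  obtain ⟨g, hg⟩ := (IsPrincipalIdealRing.principal (J.ideal ⟨⊤, isAffineOpen_top _⟩)).principal
  refine ⟨g, mem_nonZeroDivisors_of_ne_zero fun h0 => hx ?_, hg⟩
  rw [Scheme.IdealSheafData.mem_support_iff_of_mem (U := ⟨⊤, isAffineOpen_top _⟩) trivial, hg, h0, Scheme.mem_zeroLocus_iff]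
  intro a ha hxa
  have ha0 : a = 0 := by simpa using ha
  rw [ha0, Scheme.basicOpen_zero] at hxa
  exact hxa


open CategoryTheory CategoryTheory.Limits AlgebraicGeometry in
/-- Let S be a separated Noetherian scheme, p : X → S a morphism from a separated scheme X (no
finiteness condition), ι : Z → X a closed immersion, and b : S' → S a blowing up of S in a
quasi-coherent ideal with support S₀ such that (1) b restricts to a bijection between the generic
points of the irreducible components of S' and of S and (2) the strict transform Z~ of Z — the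
closed subscheme of Z ×_S S' whose ideal consists, on each affine open, of the functions annihilated
by a power of the pulled-back centre — is flat over S'. Let R be a discrete valuation ring with
fraction field K and f : Spec R → S a morphism sending the generic point of Spec R into S ∖ S₀. Then
f factors uniquely through b, and for the factorisation f' : Spec R → S' the flat closure φ_f(Z) ⊆ Z
×_S Spec R (the scheme-theoretic image of Z ×_S Spec K) coincides with Spec R ×_{S'} Z~: its ideal
sheaf equals the inverse image of the ideal of Z~ under the map Z ×_S Spec R → Z ×_S S' induced by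
f'. -/
theorem result {X S Z S' : Scheme.{u}} [IsNoetherian S] [S.IsSeparated] [X.IsSeparated]
    (p : X ⟶ S) (ι : Z ⟶ X) [IsClosedImmersion ι]
    (𝓘 : S.IdealSheafData) (b : S' ⟶ S) (hb : BlowUp.IsBlowUp b 𝓘)
    (hgen : Set.BijOn b.base {s' : ↥S' | closure {s'} ∈ irreducibleComponents ↥S'} {s : ↥S | closure {s} ∈ irreducibleComponents ↥S})
    (𝒥 : (pullback (ι ≫ p) b).IdealSheafData)
    (h𝒥 : ∀ (V : (pullback (ι ≫ p) b).affineOpens) (a : Γ(pullback (ι ≫ p) b, V.1)), a ∈ 𝒥.ideal V ↔
      BlowUp.KilledByPowerNear ((𝓘.comap (ι ≫ p)).comap (pullback.fst (ι ≫ p) b)) (Coh.structureModule (pullback (ι ≫ p) b)) V a)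
    [Flat (𝒥.subschemeι ≫ pullback.snd (ι ≫ p) b)]
    (R : Type u) [CommRing R] [IsDomain R] [IsDiscreteValuationRing R] (f : Spec (CommRingCat.of R) ⟶ S)
    (hf : f.base ⟨⊥, Ideal.isPrime_bot⟩ ∉ (𝓘.support : Set ↥S)) :
    (∃! f' : Spec (CommRingCat.of R) ⟶ S', f' ≫ b = f) ∧
      ∀ (f' : Spec (CommRingCat.of R) ⟶ S') (hf' : f' ≫ b = f),
        (pullback.map (ι ≫ p) (Spec.map (CommRingCat.ofHom (algebraMap R (FractionRing R))) ≫ f) (ι ≫ p) f (𝟙 Z) (Spec.map (CommRingCat.ofHom (algebraMap R (FractionRing R)))) (𝟙 S) ((Category.comp_id _).trans (Category.id_comp _).symm) (Category.comp_id _)).ker = 𝒥.comap (pullback.map (ι ≫ p) f (ι ≫ p) b (𝟙 Z) f' (𝟙 S) ((Category.comp_id _).trans (Category.id_comp _).symm) ((Category.comp_id f).trans hf'.symm)) := by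
  have hC : BlowUp.IsEffCartierIdeal (𝓘.comap f) :=
    isEffCartierIdeal_of_notMem _ (x := (⟨⊥, Ideal.isPrime_bot⟩ : PrimeSpectrum R))
      (by rw [Scheme.IdealSheafData.support_comap]; exact hf)
  refine ⟨hb.2 _ f hC, fun f' hf' => ?_⟩
  let m := pullback.map (ι ≫ p) (Spec.map (CommRingCat.ofHom (algebraMap R (FractionRing R))) ≫ f) (ι ≫ p) f (𝟙 Z) (Spec.map (CommRingCat.ofHom (algebraMap R (FractionRing R)))) (𝟙 S) ((Category.comp_id _).trans (Category.id_comp _).symm) (Category.comp_id _)
  let m2 := pullback.map (ι ≫ p) f (ι ≫ p) b (𝟙 Z) f' (𝟙 S) ((Category.comp_id _).trans (Category.id_comp _).symm) ((Category.comp_id f).trans hf'.symm)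
  have hm : IsPullback m (pullback.snd _ _) (pullback.snd (ι ≫ p) f) (Spec.map (CommRingCat.ofHom (algebraMap R (FractionRing R)))) := by
    refine IsPullback.of_right ?_ (pullback.lift_snd _ _ _) (IsPullback.of_hasPullback (ι ≫ p) f)
    rw [show m ≫ pullback.fst (ι ≫ p) f = pullback.fst _ _ by rw [pullback.lift_fst]; exact Category.comp_id _]
    exact IsPullback.of_hasPullback _ _
  have hm2 : IsPullback m2 (pullback.snd _ _) (pullback.snd (ι ≫ p) b) f' := by
    refine IsPullback.of_right ?_ (pullback.lift_snd _ _ _) (IsPullback.of_hasPullback (ι ≫ p) b)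
    rw [show m2 ≫ pullback.fst (ι ≫ p) b = pullback.fst _ _ by rw [pullback.lift_fst]; exact Category.comp_id _, hf']
    exact IsPullback.of_hasPullback _ _
  let i' := pullback.fst m2 𝒥.subschemeι
  haveI : IsClosedImmersion i' := MorphismProperty.pullback_fst _ _ inferInstance
  haveI : Flat (i' ≫ pullback.snd (ι ≫ p) f) := by
    have h := (IsPullback.of_hasPullback m2 𝒥.subschemeι).flip.paste_vert hm2
    exact MorphismProperty.of_isPullback h ‹Flat (𝒥.subschemeι ≫ pullback.snd (ι ≫ p) b)›
  -- the open away from the exceptional divisor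
  let E := (𝓘.comap (ι ≫ p)).comap (pullback.fst (ι ≫ p) b)
  let O : (pullback (ι ≫ p) b).Opens := EffCartier.cmpl E
  have hE : E.comap (m ≫ m2) = 𝓘.comap ((pullback.snd _ _ ≫ Spec.map (CommRingCat.ofHom (algebraMap R (FractionRing R)))) ≫ f) := by
    show ((𝓘.comap (ι ≫ p)).comap (pullback.fst (ι ≫ p) b)).comap (m ≫ m2) = _
    rw [← Scheme.IdealSheafData.comap_comp, ← Scheme.IdealSheafData.comap_comp]
    congr 1
    rw [← hm.w]
    simp only [Category.assoc]
    rw [← pullback.condition (f := ι ≫ p) (g := f),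
      show m2 ≫ pullback.fst (ι ≫ p) b ≫ ι ≫ p = pullback.fst (ι ≫ p) f ≫ ι ≫ p by
        rw [← Category.assoc, pullback.lift_fst, Category.comp_id]]
  have hrange : Set.range (m ≫ m2) ⊆ Set.range O.ι := by
    rintro _ ⟨c, rfl⟩
    rw [Scheme.Opens.range_ι]
    intro hc
    have h1 : c ∈ (E.comap (m ≫ m2)).support := by rw [Scheme.IdealSheafData.support_comap]; exact hc
    rw [hE, Scheme.IdealSheafData.support_comap] at h1
    refine hf ?_
    have h2 : Spec.map (CommRingCat.ofHom (algebraMap R (FractionRing R))) ((pullback.snd _ _ : _ ⟶ Spec (CommRingCat.of (FractionRing R))) c) = ((⟨⊥, Ideal.isPrime_bot⟩ : PrimeSpectrum R) : ↥(Spec (CommRingCat.of R))) := by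
      rw [show ((pullback.snd _ _ : _ ⟶ Spec (CommRingCat.of (FractionRing R))) c) = (⟨⊥, Ideal.isPrime_bot⟩ : PrimeSpectrum (FractionRing R)) from Subsingleton.elim (α := PrimeSpectrum (FractionRing R)) _ _]
      exact PrimeSpectrum.ext (Ideal.comap_bot_of_injective _ (IsFractionRing.injective R (FractionRing R)))
    rw [← h2]
    exact h1
  have hbot : 𝒥.comap (m ≫ m2) = ⊥ := by
    rw [← IsOpenImmersion.lift_fac O.ι (m ≫ m2) hrange, Scheme.IdealSheafData.comap_comp,
      comap_ι_eq_bot E 𝒥 (fun V v hv => (h𝒥 V v).1 hv) O (fun y hy => hy), Scheme.IdealSheafData.comap_bot]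
  -- factor through the strict transform
  have hker : i'.ker ≤ m.ker := by
    show 𝒥.comap m2 ≤ _
    rw [← Scheme.IdealSheafData.map_bot, Scheme.IdealSheafData.le_map_iff_comap_le, ← Scheme.IdealSheafData.comap_comp, hbot]
  obtain ⟨l, hl⟩ : ∃ l, l ≫ i' = m := ⟨_, IsClosedImmersion.lift_fac i' m hker⟩
  have hsq : IsPullback l (pullback.snd _ _) (i' ≫ pullback.snd (ι ≫ p) f) (Spec.map (CommRingCat.ofHom (algebraMap R (FractionRing R)))) := by
    have h1 : IsPullback l (𝟙 _) i' m :=
      IsPullback.of_isLimit (PullbackCone.IsLimit.mk (by rw [Category.id_comp, hl])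
        (fun c => c.snd) (fun c => by rw [← cancel_mono i', Category.assoc, hl]; exact c.condition.symm)
        (fun c => Category.comp_id _) (fun c n _ h2 => by rwa [Category.comp_id] at h2))
    simpa using h1.paste_vert hm
  haveI : IsDominant (Spec.map (CommRingCat.ofHom (algebraMap R (FractionRing R)))) := by
    refine ⟨fun x => closure_mono (s := {((⟨⊥, Ideal.isPrime_bot⟩ : PrimeSpectrum R) : ↥(Spec (CommRingCat.of R)))}) ?_ ?_⟩
    · rintro _ rfl
      exact ⟨(⟨⊥, Ideal.isPrime_bot⟩ : PrimeSpectrum (FractionRing R)),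
        PrimeSpectrum.ext (Ideal.comap_bot_of_injective _ (IsFractionRing.injective R (FractionRing R)))⟩
    · exact specializes_iff_mem_closure.1 ((PrimeSpectrum.le_iff_specializes _ _).1 bot_le)
  haveI : IsSchemeTheoreticallyDominant (Spec.map (CommRingCat.ofHom (algebraMap R (FractionRing R)))) :=
    IsSchemeTheoreticallyDominant.of_isDominant _
  haveI : IsSchemeTheoreticallyDominant l := IsSchemeTheoreticallyDominant.of_isPullback hsq.flip
  show m.ker = i'.ker
  rw [← hl, Scheme.Hom.ker_comp, l.ker_eq_bot, Scheme.IdealSheafData.map_bot]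
end Groth.Agent.S19583
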