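import Groth.Statements.S19584
import Groth.Agent.Lib.Cyc26.UnivEquidim

set_option autoImplicit false
universe u
open Cyc

namespace Groth.Agent.S19584

open CategoryTheory CategoryTheory.Limits AlgebraicGeometry in
/-- Let S be a separated Noetherian scheme, p : X → S separated of finite type, z a point of X lying
over a generic point of an irreducible component of S whose closure in its fibre p⁻¹(p z) has
dimension r, and ι : Z → X a closed immersion from a reduced scheme with image the closure of z. Let
b : S′ → S be a blowing up (S′ Noetherian) such that the strict transform Z~ of Z — the closed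
subscheme of Z ×_S S′ whose ideal consists, on each affine open, of the functions annihilated by a
power of the pulled-back centre — is flat over S′. Then Z~ → S′ is universally equidimensional of
dimension r: after any base change S″ → S′ every point of Z~ ×_{S′} S″ has local fibre dimension r
and every irreducible component of Z~ ×_{S′} S″ dominates an irreducible component of S″. (The
published lemma takes a blow-up of the reduced scheme S_red; this statement takes a blow-up of S
itself, to which the printed argument applies unchanged.) -/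
theorem result {X S Z S' : Scheme.{u}} [IsNoetherian S] [S.IsSeparated] [X.IsSeparated]
    (p : X ⟶ S) [LocallyOfFiniteType p] [QuasiCompact p] (z : X) (hz : closure {p.base z} ∈ irreducibleComponents ↥S)
    (r : ℕ) (hr : topologicalKrullDim ↥(closure ({p.asFiber z} : Set ↥(p.fiber (p.base z)))) = r)
    (ι : Z ⟶ X) [IsClosedImmersion ι] [IsReduced Z] (hZ : Set.range ι.base = closure {z})
    [IsNoetherian S'] (𝓘 : S.IdealSheafData) (b : S' ⟶ S) (hb : BlowUp.IsBlowUp b 𝓘)
    (𝒥 : (pullback (ι ≫ p) b).IdealSheafData)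
    (h𝒥 : ∀ (V : (pullback (ι ≫ p) b).affineOpens) (a : Γ(pullback (ι ≫ p) b, V.1)), a ∈ 𝒥.ideal V ↔
      BlowUp.KilledByPowerNear ((𝓘.comap (ι ≫ p)).comap (pullback.fst (ι ≫ p) b)) (Coh.structureModule (pullback (ι ≫ p) b)) V a)
    [Flat (𝒥.subschemeι ≫ pullback.snd (ι ≫ p) b)]
    (S'' : Scheme.{u}) (g : S'' ⟶ S') :
    (∀ w : ↥(pullback (𝒥.subschemeι ≫ pullback.snd (ι ≫ p) b) g),
        FlatMor.fibreDimAt (pullback.snd (𝒥.subschemeι ≫ pullback.snd (ι ≫ p) b) g) w = r) ∧
      ∀ C ∈ irreducibleComponents ↥(pullback (𝒥.subschemeι ≫ pullback.snd (ι ≫ p) b) g),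
        closure ((pullback.snd (𝒥.subschemeι ≫ pullback.snd (ι ≫ p) b) g).base '' C) ∈ irreducibleComponents ↥S'' := by
  haveI : LocallyOfFiniteType (𝒥.subschemeι ≫ pullback.snd (ι ≫ p) b) := inferInstance
  haveI : LocallyOfFinitePresentation (𝒥.subschemeι ≫ pullback.snd (ι ≫ p) b) :=
    LocallyOfFinitePresentation.iff_locallyOfFiniteType.2 inferInstance
  refine Cyc26.UnivEquidim.univ_conclusion (𝒥.subschemeι ≫ pullback.snd (ι ≫ p) b) r (fun w hw => ?_) g
  obtain ⟨hcmpl, hmax⟩ := Cyc26.UnivEquidim.isMaxPt_blowUp hb hw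
  rw [Cyc26.UnivEquidim.fibreDimAt_comp_of_surjOn 𝒥.subschemeι (pullback.snd (ι ≫ p) b) w ?_,
    FibDim14.fibreDimAt_baseChange (IsPullback.of_hasPullback (ι ≫ p) b) (𝒥.subschemeι w)]
  · refine Cyc26.UnivEquidim.fibreDimAt_closure p ι hZ hr _ ?_
    rw [show (ι ≫ p) (pullback.fst (ι ≫ p) b (𝒥.subschemeι w)) =
        b ((𝒥.subschemeι ≫ pullback.snd (ι ≫ p) b) w) by
      rw [← Scheme.Hom.comp_apply, pullback.condition]; rfl]
    exact hmax
  · intro a ha
    rw [Scheme.IdealSheafData.range_subschemeι]
    refine Cyc26.UnivEquidim.not_mem_support_of_killed _ 𝒥 ?_ (fun V v hv => (h𝒥 V v).1 hv)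
    rw [← Scheme.IdealSheafData.comap_comp, pullback.condition, Scheme.IdealSheafData.comap_comp,
      Scheme.IdealSheafData.support_comap]
    show pullback.snd (ι ≫ p) b a ∉ (𝓘.comap b).support
    rw [ha]
    exact hcmpl
end Groth.Agent.S19584
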