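import Groth.Statements.S19590
import Mathlib.Data.ZMod.Basic
import Mathlib.Data.Nat.Prime.Int
import Mathlib.GroupTheory.OrderOfElement
import Mathlib.LinearAlgebra.Matrix.Determinant.Basic
import Mathlib.Tactic.Ring
import Mathlib.Tactic.Linarith
import Mathlib.Tactic.NoncommRing
import Mathlib.Tactic.Module

set_option autoImplicit false
open BddFin

namespace Groth.Agent.S19590

local notation "Mz" n => Matrix (Fin n) (Fin n) ℤ

lemma one_add_pow_expand {n : ℕ} (A : Mz n) : ∀ q : ℕ, ∃ C : Mz n, (1 + A) ^ q = 1 + (q : ℤ) • A + A * A * C := by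
  intro q
  induction q with
  | zero => exact ⟨0, by simp⟩
  | succ k ih =>
    obtain ⟨C, hC⟩ := ih
    refine ⟨(k : ℤ) • (1 : Mz n) + C * (1 + A), ?_⟩
    rw [pow_succ, hC]
    push_cast
    simp only [mul_add, add_mul, mul_one, one_mul, smul_mul_assoc, mul_smul_comm, add_smul, one_smul, mul_assoc]
    abel

lemma eq_one_of_prime_pow_eq_one {n : ℕ} (M : Mz n) (q : ℕ) (hq : q.Prime) (hM : M ^ q = 1)
    (h3 : ∃ B : Mz n, M - 1 = (3 : ℤ) • B) : M = 1 := by
  have key : ∀ k : ℕ, ∃ B : Mz n, M - 1 = (3 : ℤ) ^ (k + 1) • B := by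
    intro k
    induction k with
    | zero => simpa using h3
    | succ k ih =>
      obtain ⟨B, hB⟩ := ih
      set t : ℤ := 3 ^ (k + 1) with ht
      rw [show (3 : ℤ) ^ (k + 1 + 1) = t * 3 by rw [ht, pow_succ]]
      by_cases hq3 : q = 3
      · subst hq3
        have h := hM
        rw [show M = 1 + (M - 1) by abel, hB] at h
        have hexp : (1 + t • B) ^ 3 = 1 + (3 * t) • B + ((3 * (t * t)) • (B * B) + (t * t * t) • (B * B * B)) := by
          simp only [pow_succ, pow_zero, one_mul, mul_add, add_mul, mul_one, smul_mul_assoc, mul_smul_comm, smul_smul]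
          module
        rw [hexp] at h
        have ht3 : t = 3 * 3 ^ k := by rw [ht, pow_succ']
        have hB' : (3 * t) • B = (3 * t) • ((3 : ℤ) • (-((3:ℤ) ^ k) • (B * B) - ((3 : ℤ) ^ k * 3 ^ k) • (B * B * B))) := by
          have : (3 * t) • B = -((3 * (t * t)) • (B * B) + (t * t * t) • (B * B * B)) := by
            rw [add_assoc, add_eq_left] at h; exact eq_neg_of_add_eq_zero_left h
          rw [this, ht3]; module
        have hne : (3 * t) ≠ 0 := by simp [ht]
        refine ⟨-((3:ℤ) ^ k) • (B * B) - ((3 : ℤ) ^ k * 3 ^ k) • (B * B * B), ?_⟩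
        rw [hB, mul_smul, ← smul_right_injective (Mz n) hne hB']
      · obtain ⟨C, hC⟩ := one_add_pow_expand (t • B) q
        have h := hM
        rw [show M = 1 + (M - 1) by abel, hB, hC, smul_mul_assoc, mul_smul_comm, smul_mul_assoc, smul_mul_assoc, smul_smul, smul_smul, add_assoc, add_eq_left] at h
        have h' : (q : ℤ) • B = -(t • (B * B * C)) := by
          refine smul_right_injective (Mz n) (show t ≠ 0 by simp [ht]) ?_
          show t • (q : ℤ) • B = t • -(t • (B * B * C))
          rw [smul_neg, smul_smul, smul_smul, mul_comm t (q : ℤ)]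
          exact eq_neg_of_add_eq_zero_left h
        have hdvd : ∀ i j, (3 : ℤ) ∣ B i j := by
          intro i j
          have e := congrFun (congrFun h' i) j
          simp only [Matrix.smul_apply, Matrix.neg_apply, smul_eq_mul] at e
          have h3d : (3 : ℤ) ∣ (q : ℤ) * B i j := by
            rw [e, ht, pow_succ']; exact (Dvd.intro _ (mul_assoc _ _ _).symm).neg_right
          refine (((Nat.prime_iff_prime_int (p := 3)).1 Nat.prime_three).dvd_or_dvd h3d).resolve_left fun hd => hq3 ?_
          exact ((Nat.prime_dvd_prime_iff_eq Nat.prime_three hq).1 (Int.natCast_dvd_natCast.1 hd)).symm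
        choose B' hB'' using hdvd
        refine ⟨Matrix.of B', ?_⟩
        rw [hB]
        ext i j
        simp [Matrix.smul_apply, hB'' i j, mul_assoc]
  rw [← sub_eq_zero]
  ext i j
  by_contra hne
  obtain ⟨B, hB⟩ := key ((M - 1) i j).natAbs
  have e : (M - 1) i j = 3 ^ (((M - 1) i j).natAbs + 1) * B i j := by
    conv_lhs => rw [hB]
    simp [Matrix.smul_apply]
  have hd := Int.natAbs_dvd_natAbs.2 (Dvd.intro _ e.symm)
  rw [Int.natAbs_pow] at hd
  have hpos : 0 < ((M - 1) i j).natAbs := Int.natAbs_pos.2 hne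
  have h1 := Nat.le_of_dvd hpos hd
  have h2 := Nat.lt_pow_self (show 1 < 3 by norm_num) (n := ((M - 1) i j).natAbs + 1)
  rw [show (3 : ℤ).natAbs = 3 from rfl] at h1
  omega

/-- For every n, the orders of the finite subgroups of GL_n(ℤ) are bounded: there is B such that every
finite subgroup of GL_n(ℤ) has at most B elements. -/
theorem result (n : ℕ) :
    ∃ B : ℕ, ∀ H : Subgroup (Matrix.GeneralLinearGroup (Fin n) ℤ), Finite H → Nat.card H ≤ B := by
  refine ⟨Nat.card (Matrix.GeneralLinearGroup (Fin n) (ZMod 3)), fun H hH => ?_⟩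
  let φ : H →* Matrix.GeneralLinearGroup (Fin n) (ZMod 3) :=
    (Units.map (RingHom.mapMatrix (Int.castRingHom (ZMod 3)) : Matrix (Fin n) (Fin n) ℤ →+* Matrix (Fin n) (Fin n) (ZMod 3)).toMonoidHom).comp H.subtype
  refine Nat.card_le_card_of_injective φ ((injective_iff_map_eq_one φ).2 fun h hh => ?_)
  by_contra hne
  have ho : orderOf h ≠ 1 := fun e => hne (orderOf_eq_one_iff.1 e)
  obtain ⟨q, hq, hqd⟩ := Nat.exists_prime_and_dvd ho
  set h' := h ^ (orderOf h / q) with hh'
  have hoh : orderOf h' = q := orderOf_pow_orderOf_div (orderOf_pos h).ne' hqd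
  have hφ : φ h' = 1 := by rw [hh', map_pow, hh, one_pow]
  have hM : (((h' : H) : Matrix.GeneralLinearGroup (Fin n) ℤ) : Matrix (Fin n) (Fin n) ℤ) ^ q = 1 := by
    have := pow_orderOf_eq_one h'
    rw [hoh] at this
    have := congrArg (fun x : H => ((x : Matrix.GeneralLinearGroup (Fin n) ℤ) : Matrix (Fin n) (Fin n) ℤ)) this
    simpa using this
  set M := (((h' : H) : Matrix.GeneralLinearGroup (Fin n) ℤ) : Matrix (Fin n) (Fin n) ℤ) with hMdef
  have h3 : ∀ i j, (3 : ℤ) ∣ (M - 1) i j := by
    intro i j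
    have e : (RingHom.mapMatrix (Int.castRingHom (ZMod 3))) (M - 1) = 0 := by
      have := congrArg Units.val hφ
      simp only [φ, MonoidHom.comp_apply, Units.coe_map, Units.val_one] at this
      rw [map_sub, map_one, sub_eq_zero]
      exact this
    exact (ZMod.intCast_zmod_eq_zero_iff_dvd _ 3).1 (congrFun (congrFun e i) j)
  choose B hB using h3
  have h1 := eq_one_of_prime_pow_eq_one M q hq hM ⟨Matrix.of B, by ext i j; rw [Matrix.smul_apply, hB i j]; rfl⟩
  have : h' = 1 := Subtype.ext (Units.ext h1)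
  rw [this, orderOf_one] at hoh
  exact hq.one_lt.ne hoh

end Groth.Agent.S19590
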