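import Groth.Statements.S19591
import Mathlib

set_option autoImplicit false
universe u v
open BddFin

namespace Groth.Agent.S19591

/-- Let K be a perfect field of characteristic 2, V a finite-dimensional K-vector space with dim V > 2
and q a quadratic form on V whose polar bilinear form is non-degenerate. Then q represents zero
non-trivially. (Non-degeneracy of the polar form, which is alternating in characteristic 2, forces
dim V to be even, as the published lemma notes.) -/
theorem result
    (K : Type u) [Field K] [CharP K 2] [PerfectField K]
    (V : Type v) [AddCommGroup V] [Module K V] [FiniteDimensional K V]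
    (hV : 2 < Module.finrank K V) (q : QuadraticForm K V)
    (hq : (QuadraticMap.polarBilin q).Nondegenerate) :
    ∃ v : V, v ≠ 0 ∧ q v = 0 := by
  classical
  have hpos : 0 < Module.finrank K V := by omega
  obtain ⟨u, hu⟩ := Module.finrank_pos_iff_exists_ne_zero.1 hpos
  by_cases hqu : q u = 0
  · exact ⟨u, hu, hqu⟩
  set ℓ : V →ₗ[K] K := QuadraticMap.polarBilin q u
  have hker : 2 ≤ Module.finrank K (LinearMap.ker ℓ) := by
    have h1 := ℓ.finrank_range_add_finrank_ker
    have h2 := Submodule.finrank_le (LinearMap.range ℓ)
    rw [Module.finrank_self] at h2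
    omega
  obtain ⟨w, hw, hwu⟩ : ∃ w ∈ LinearMap.ker ℓ, w ∉ Submodule.span K {u} := by
    by_contra hc
    push Not at hc
    have h3 := Submodule.finrank_mono (show LinearMap.ker ℓ ≤ Submodule.span K {u} from hc)
    rw [finrank_span_singleton hu] at h3
    omega
  have : PerfectRing K 2 := PerfectField.toPerfectRing 2
  obtain ⟨t, ht⟩ := surjective_frobenius K 2 (q w / q u)
  rw [frobenius_def] at ht
  refine ⟨w + t • u, fun h => hwu ?_, ?_⟩
  · rw [eq_neg_of_add_eq_zero_left h]
    exact Submodule.neg_mem _ (Submodule.smul_mem _ _ (Submodule.mem_span_singleton_self u))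
  · have hp : QuadraticMap.polar q u w = 0 := LinearMap.mem_ker.1 hw
    rw [QuadraticMap.map_add q, QuadraticMap.map_smul, QuadraticMap.polar_smul_right, QuadraticMap.polar_comm q w u, hp,
      smul_zero, add_zero, smul_eq_mul, ← pow_two, ht, div_mul_cancel₀ _ hqu, CharTwo.add_self_eq_zero]

end Groth.Agent.S19591
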