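import Groth.Statements.S19593
import Groth.Agent.Lib.InvTriv15.Avoid
import Groth.Agent.Lib.VeryAmple11.Bundle
import Groth.Agent.Lib.VeryAmple11.Ample
import Groth.Agent.Lib.Twist.Triv
import Mathlib.AlgebraicGeometry.AffineScheme
-- import your own Groth.Agent.* helpers here

set_option autoImplicit false
universe u
open CategoryTheory AlgebraicGeometry
open PicF

namespace Groth.Agent.S19593

/-- Let k be an infinite field, Y a scheme proper over k with a relatively very ample O_Y-module A (the
pullback of O(1) along an immersion of Y into the Proj of a symmetric algebra over k), and y_1, …,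
y_m finitely many points of Y. Then some global section of A generates A at every y_i. (The
published statement takes Y projective over k and A a very ample line bundle; here Y is proper over
k and A very ample relative to Y → Spec k, which makes Y projective.) -/
theorem result
    (k : Type u) [Field k] [Infinite k] (Y : Scheme.{u}) (f : Y ⟶ Spec (CommRingCat.of k)) [IsProper f]
    (A : Y.Modules) (hA : RelProj.IsRelVeryAmple f A)
    (ι : Type) [Finite ι] (y : ι → ↥Y) :
    ∃ s : Coh.structureModule Y ⟶ A, ∀ i : ι, y i ∈ CohB1.genLocus A s := by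
  obtain ⟨E, φ, hE, hva⟩ := VA11.exists_va_of_isRelVeryAmple hA
  have hgen : ∀ x : Y, ∃ m, x ∈ VA11.gl (VA11.secs φ ⊤ m) := fun x =>
    VA11.exists_mem_gl hE (VA11.vamp_of_forall hva) (isAffineOpen_top _) (x := x) trivial
  have hinv : PicF.IsInvertible A := fun x => by
    obtain ⟨m, hm⟩ := hgen x
    exact ⟨_, hm, Groth.Agent.Twist.nonempty_restrict_iso A _ _ (VA11.isGen_gl (VA11.secs φ ⊤ m))⟩
  obtain ⟨t, ht⟩ := InvTriv15.exists_gen_at_finite hinv (Coh.toGlobal f) y fun j => by
    obtain ⟨m, hm⟩ := hgen (y j)
    refine ⟨VA11.secs φ ⊤ m, ?_⟩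
    have := (VA11.isGen_gl (VA11.secs φ ⊤ m)).stalk hm
    rw [M1.germ_mres] at this
    exact this
  exact ⟨M1.secHom t, fun j => (Amp.mem_genLocus_iff hinv (M1.secHom t)).mpr
    ((Amp.gval_secHom t).symm ▸ ht j)⟩

end Groth.Agent.S19593
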