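import Groth.Statements.S19596
import Groth.Agent.Lib.NodeH28.Fix
open Groth.Agent.NodeH28

set_option autoImplicit false
universe u
open ArLef ArLef.NodeAlg

namespace Groth.Agent.S19596

/-- In the cases where σ fixes the two branches through the point, these lie on different components,
and the second branch lies in the divisorial part of the fixed locus with multiplicity i₂ strictly
between 0 and j while the first has multiplicity i₁ ≤ i₂, let B be a discrete valuation ring with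
uniformizer π, N = B[[t, e]]/(te - π) the complete local ring of a semi-stable arithmetic surface
over B at a singular point x of the closed fibre, and σ a ring automorphism of N with σ(π) = π + γ
π^j (γ a unit of B, j ≥ 1) and σ(c) - c ∈ π^j N for all c ∈ B. Suppose σ(t) = α t and σ(e) = β e
with units α, β, and α - 1 = t^{i₁} e^{i₂} a, β - 1 = t^{i₁} e^{i₂} b with i₁ ≤ i₂, 0 < i₂ < j, e
not dividing a and t not dividing b. Then, I being the fixed-point ideal of σ, whose divisorial part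
near x is t^{i₁} e^{i₂}, the residual fixed-point scheme with ideal (I : t^{i₁} e^{i₂}) has length 1
+ (j - i₁)·Leng N/(t, b) + (j - i₂)·Leng N/(e, a) at x; here Leng N/(t, b) + i₂ + 1 and Leng N/(e,
a) + i₁ + 1 are the orders at x of the derivations σ induces on the two components (the fixed-point
multiplicities when the component is outside the divisorial part). -/
theorem result (B : Type u) [CommRing B] [IsDomain B] [IsDiscreteValuationRing B] (π : B) (hπ : Irreducible π)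
    (j i₁ i₂ : ℕ) (h12 : i₁ ≤ i₂) (h2 : 0 < i₂) (h2j : i₂ < j) (γ : B) (hγ : IsUnit γ)
    (σ : ArLef.NodeAlg B π ≃+* ArLef.NodeAlg B π)
    (hσB : ∀ c : B, σ (algebraMap B (ArLef.NodeAlg B π) c) - algebraMap B (ArLef.NodeAlg B π) c ∈
      Ideal.span ({algebraMap B (ArLef.NodeAlg B π) (π ^ j)} : Set (ArLef.NodeAlg B π)))
    (hσπ : σ (algebraMap B (ArLef.NodeAlg B π) π) = algebraMap B (ArLef.NodeAlg B π) (π + γ * π ^ j))
    (α β : (ArLef.NodeAlg B π)ˣ) (ht : σ (ArLef.NodeAlg.t π) = (α : ArLef.NodeAlg B π) * ArLef.NodeAlg.t π) (he : σ (ArLef.NodeAlg.e π) = (β : ArLef.NodeAlg B π) * ArLef.NodeAlg.e π)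
    (a b : ArLef.NodeAlg B π) (ha : (α : ArLef.NodeAlg B π) - 1 = ArLef.NodeAlg.t π ^ i₁ * ArLef.NodeAlg.e π ^ i₂ * a) (hb : (β : ArLef.NodeAlg B π) - 1 = ArLef.NodeAlg.t π ^ i₁ * ArLef.NodeAlg.e π ^ i₂ * b)
    (hea : ¬ (ArLef.NodeAlg.e π ∣ a)) (htb : ¬ (ArLef.NodeAlg.t π ∣ b)) :
    Module.length (ArLef.NodeAlg B π) (ArLef.NodeAlg B π ⧸ (ArLef.fixIdeal σ).colon ({ArLef.NodeAlg.t π ^ i₁ * ArLef.NodeAlg.e π ^ i₂} : Set (ArLef.NodeAlg B π))) =
      1 + ((j - i₁ : ℕ) : ℕ∞) * Module.length (ArLef.NodeAlg B π) (ArLef.NodeAlg B π ⧸ Ideal.span ({ArLef.NodeAlg.t π, b} : Set (ArLef.NodeAlg B π))) +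
        ((j - i₂ : ℕ) : ℕ∞) * Module.length (ArLef.NodeAlg B π) (ArLef.NodeAlg B π ⧸ Ideal.span ({ArLef.NodeAlg.e π, a} : Set (ArLef.NodeAlg B π))) := by
  have hm := (IsDiscreteValuationRing.irreducible_iff_uniformizer π).1 hπ
  haveI := isDomain hm hπ.ne_zero
  obtain ⟨p, hp, rfl⟩ : ∃ p, 1 ≤ p ∧ j = i₁ + p := ⟨j - i₁, by omega, by omega⟩
  obtain ⟨q, hq, hj'⟩ : ∃ q, 1 ≤ q ∧ i₁ + p = i₂ + q := ⟨i₁ + p - i₂, by omega, by omega⟩
  set t := ArLef.NodeAlg.t π
  set e := ArLef.NodeAlg.e π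
  have hab := alpha_beta hm hπ.ne_zero (show 1 ≤ i₁ + p by omega) σ hσπ ht he
  set g := t ^ i₁ * e ^ i₂
  have hg : g ≠ 0 := mul_ne_zero (pow_ne_zero _ (var_ne_zero hm hπ.ne_zero 0)) (pow_ne_zero _ (var_ne_zero hm hπ.ne_zero 1))
  show ql ((ArLef.fixIdeal σ).colon {g}) = _
  have e1 : t ^ (i₁ + p) * e ^ (i₁ + p) = g * (t ^ p * e ^ q) := by
    calc t ^ (i₁ + p) * e ^ (i₁ + p) = t ^ (i₁ + p) * e ^ (i₂ + q) := by rw [hj']
      _ = _ := by rw [pow_add, pow_add]; ring
  have e2 : t ^ (i₁ + p - 1) * e ^ (i₁ + p - 1) = g * (t ^ (p - 1) * e ^ (q - 1)) := by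
    calc t ^ (i₁ + p - 1) * e ^ (i₁ + p - 1) = t ^ (i₁ + (p - 1)) * e ^ (i₂ + (q - 1)) := by
          rw [show i₁ + p - 1 = i₁ + (p - 1) by omega, show i₁ + (p - 1) = i₂ + (q - 1) by omega]
      _ = _ := by rw [pow_add, pow_add]; ring
  rw [fixIdeal_branches hm hπ.ne_zero hγ σ hσB hσπ ht he, e1, ha, hb,
    show g * a * t = g * (a * t) by ring, show g * b * e = g * (b * e) by ring,
    colon_mul_span hm hπ.ne_zero hg,
    ql_key hm hπ.ne_zero hp hq (a := a) (b := b) (G := algebraMap B (ArLef.NodeAlg B π) γ) α.isUnit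
      (mul_left_cancel₀ hg (by linear_combination hab + algebraMap B (ArLef.NodeAlg B π) γ * e2 - ha - (α : ArLef.NodeAlg B π) * hb)) hea htb,
    show i₁ + p - i₁ = p by omega, show i₁ + p - i₂ = q by omega]

end Groth.Agent.S19596
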