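import Groth.Statements.S19597
import Groth.Agent.Lib.NodeH28.Fix
open Groth.Agent.NodeH28

set_option autoImplicit false
universe u
open ArLef ArLef.NodeAlg

namespace Groth.Agent.S19597

/-- In the cases where σ fixes the two branches through the point, these lie on different components,
the second lies in the divisorial part of the fixed locus with the maximal multiplicity j and the
first with multiplicity i₁ < j, let B be a discrete valuation ring with uniformizer π, N = B[[t,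
e]]/(te - π) the complete local ring of a semi-stable arithmetic surface over B at a singular point
x of the closed fibre, and σ a ring automorphism of N with σ(π) = π + γ π^j (γ a unit of B, j ≥ 1)
and σ(c) - c ∈ π^j N for all c ∈ B. Suppose σ(t) = α t and σ(e) = β e with units α, β, that α - 1 =
t^{i₁} e^j a and β - 1 = t^{i₁} e^{j-1} b with i₁ < j and t not dividing b. Then, I being the
fixed-point ideal of σ, whose divisorial part near x is t^{i₁} e^j, the length l of the residual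
fixed-point scheme with ideal (I : t^{i₁} e^j) satisfies l + (j - 1 - i₁) = (j - i₁)·Leng N/(t, b);
for i₁ = 0, Leng N/(t, b) + j is the fixed-point multiplicity s₁ of σ at x on the first component
and l = j (s₁ - j - 1) + 1. -/
theorem result (B : Type u) [CommRing B] [IsDomain B] [IsDiscreteValuationRing B] (π : B) (hπ : Irreducible π)
    (j i₁ : ℕ) (h1 : i₁ < j) (γ : B) (hγ : IsUnit γ)
    (σ : ArLef.NodeAlg B π ≃+* ArLef.NodeAlg B π)
    (hσB : ∀ c : B, σ (algebraMap B (ArLef.NodeAlg B π) c) - algebraMap B (ArLef.NodeAlg B π) c ∈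
      Ideal.span ({algebraMap B (ArLef.NodeAlg B π) (π ^ j)} : Set (ArLef.NodeAlg B π)))
    (hσπ : σ (algebraMap B (ArLef.NodeAlg B π) π) = algebraMap B (ArLef.NodeAlg B π) (π + γ * π ^ j))
    (α β : (ArLef.NodeAlg B π)ˣ) (ht : σ (ArLef.NodeAlg.t π) = (α : ArLef.NodeAlg B π) * ArLef.NodeAlg.t π) (he : σ (ArLef.NodeAlg.e π) = (β : ArLef.NodeAlg B π) * ArLef.NodeAlg.e π)
    (a b : ArLef.NodeAlg B π) (ha : (α : ArLef.NodeAlg B π) - 1 = ArLef.NodeAlg.t π ^ i₁ * ArLef.NodeAlg.e π ^ j * a) (hb : (β : ArLef.NodeAlg B π) - 1 = ArLef.NodeAlg.t π ^ i₁ * ArLef.NodeAlg.e π ^ (j - 1) * b)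
    (htb : ¬ (ArLef.NodeAlg.t π ∣ b)) :
    Module.length (ArLef.NodeAlg B π) (ArLef.NodeAlg B π ⧸ (ArLef.fixIdeal σ).colon ({ArLef.NodeAlg.t π ^ i₁ * ArLef.NodeAlg.e π ^ j} : Set (ArLef.NodeAlg B π))) + ((j - 1 - i₁ : ℕ) : ℕ∞) =
      ((j - i₁ : ℕ) : ℕ∞) * Module.length (ArLef.NodeAlg B π) (ArLef.NodeAlg B π ⧸ Ideal.span ({ArLef.NodeAlg.t π, b} : Set (ArLef.NodeAlg B π))) := by
  have hm := (IsDiscreteValuationRing.irreducible_iff_uniformizer π).1 hπ
  haveI := isDomain hm hπ.ne_zero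
  obtain ⟨p, hp, rfl⟩ : ∃ p, 1 ≤ p ∧ j = i₁ + p := ⟨j - i₁, by omega, by omega⟩
  set t := ArLef.NodeAlg.t π
  set e := ArLef.NodeAlg.e π
  have hab := alpha_beta hm hπ.ne_zero (show 1 ≤ i₁ + p by omega) σ hσπ ht he
  set g := t ^ i₁ * e ^ (i₁ + p)
  have ht0 := var_ne_zero hm hπ.ne_zero 0
  have he0 := var_ne_zero hm hπ.ne_zero 1
  have hg : g ≠ 0 := mul_ne_zero (pow_ne_zero _ ht0) (pow_ne_zero _ he0)
  show ql ((ArLef.fixIdeal σ).colon {g}) + _ = _
  have e1 : t ^ (i₁ + p) * e ^ (i₁ + p) = g * t ^ p := by rw [pow_add t]; ring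
  have e3 : t ^ i₁ * e ^ (i₁ + p - 1) * e = g := by
    rw [mul_assoc, ← pow_succ, show i₁ + p - 1 + 1 = i₁ + p by omega]
  have e2 : t ^ (i₁ + p - 1) = t ^ i₁ * t ^ (p - 1) := by rw [← pow_add]; congr 1; omega
  rw [fixIdeal_branches hm hπ.ne_zero hγ σ hσB hσπ ht he, e1, ha, hb,
    show g * a * t = g * (a * t) by ring,
    show t ^ i₁ * e ^ (i₁ + p - 1) * b * e = g * b by rw [← e3]; ring,
    colon_mul_span hm hπ.ne_zero hg, show i₁ + p - 1 - i₁ = p - 1 by omega, show i₁ + p - i₁ = p by omega]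
  refine ql_key' hm hπ.ne_zero hp (G := algebraMap B (ArLef.NodeAlg B π) γ) α.isUnit ?_ htb
  refine mul_left_cancel₀ (mul_ne_zero (pow_ne_zero i₁ ht0) (pow_ne_zero (i₁ + p - 1) he0)) ?_
  show t ^ i₁ * e ^ (i₁ + p - 1) * (e * a + (α : ArLef.NodeAlg B π) * b) = t ^ i₁ * e ^ (i₁ + p - 1) * (_ * t ^ (p - 1))
  linear_combination hab + (algebraMap B (ArLef.NodeAlg B π) γ * e ^ (i₁ + p - 1)) * e2 - ha -
    (α : ArLef.NodeAlg B π) * hb + a * e3

end Groth.Agent.S19597
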