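import Groth.Statements.S19604
import Groth.Agent.Lib.UnipQuot15.CharZero
-- import your own Groth.Agent.* helpers here

set_option autoImplicit false
universe u
open CategoryTheory MonoidalCategory CartesianMonoidalCategory MonObj GrpObj AlgebraicGeometry
open PrincBund

namespace Groth.Agent.S19604

/-- In the case of a base point and a group of finite type, let k be a field of characteristic 0, G an
affine group scheme of finite type over k and G' ⊆ G a closed subgroup scheme whose unipotent
radical is contained in the unipotent radical of G. Then the quotient G/G' (any scheme representing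
the fppf quotient sheaf) is affine. The published statement is for transitive affine groupoids over
a k-scheme; this row is the case of a point. -/
theorem result (k : Type u) [Field k] [CharZero k]
    (G : Over (Spec (CommRingCat.of k))) [GrpObj G] [IsAffine G.left] [LocallyOfFiniteType G.hom]
    (G' : Over (Spec (CommRingCat.of k))) [GrpObj G'] (i' : G' ⟶ G) [IsMonHom i'] (hi' : IsClosedImmersion i'.left)
    (U : Over (Spec (CommRingCat.of k))) [GrpObj U] (u : U ⟶ G) (hU : Par.IsUnipotentRadical u)
    (U' : Over (Spec (CommRingCat.of k))) [GrpObj U'] (u' : U' ⟶ G') (hU' : Par.IsUnipotentRadical u')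
    (f : U' ⟶ U) (hf : f ≫ u = u' ≫ i')
    (Q : Over (Spec (CommRingCat.of k))) (q : G ⟶ Q) (hq : RedSub.IsQuotient i' q) :
    IsAffine Q.left := by
  haveI := hi'
  exact Groth.Agent.UnipQuot15.isAffine_quotient_charZero i' hU hU' f hf q hq

end Groth.Agent.S19604
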