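import Groth.Statements.S19606
import Groth.Agent.Lib.TensorMod.IdealMod
-- import your own Groth.Agent.* helpers here

set_option autoImplicit false
set_option linter.style.haveILetI false
set_option backward.isDefEq.respectTransparency false
universe u
open CategoryTheory CategoryTheory.Limits AlgebraicGeometry
open ClSub

namespace Groth.Agent.S19606

theorem toSub_app_eq_zero {X : Scheme.{u}} (I : X.IdealSheafData) {W : X.Opens} (hW : IsAffineOpen W)
    (s : Γ(X, W)) : (ClSub.toSubscheme I).app W s = 0 ↔ s ∈ I.ideal ⟨W, hW⟩ := by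
  conv_rhs => rw [← I.ker_subschemeι, Scheme.Hom.ker_apply]
  exact ⟨fun h => RingHom.mem_ker.2 h, fun h => (RingHom.mem_ker.1 h : _)⟩

theorem biprod_app_ext {X : Scheme.{u}} {M N : X.Modules} (U : X.Opens) (s t : Γ((M ⊞ N), U))
    (h1 : (biprod.fst : M ⊞ N ⟶ M).app U s = (biprod.fst : M ⊞ N ⟶ M).app U t)
    (h2 : (biprod.snd : M ⊞ N ⟶ N).app U s = (biprod.snd : M ⊞ N ⟶ N).app U t) : s = t := by
  have e : ∀ z, (biprod.inl : M ⟶ M ⊞ N).app U ((biprod.fst : M ⊞ N ⟶ M).app U z) +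
      (biprod.inr : N ⟶ M ⊞ N).app U ((biprod.snd : M ⊞ N ⟶ N).app U z) = z := fun z =>
    congrArg (fun φ => φ.app U z) (biprod.total (X := M) (Y := N))
  rw [← e s, ← e t, h1, h2]

/-- Let X be a scheme and I₁, I₂ quasi-coherent ideal sheaves with I₁ ⊓ I₂ = 0, cutting out closed
subschemes X₁, X₂ and X₁ ∩ X₂ (ideal I₁ + I₂). Then 0 → O_X → O_X/I₁ ⊕ O_X/I₂ → O_X/(I₁ + I₂) → 0 is
an exact sequence of O_X-modules, the maps being the two restrictions and the difference of the
restrictions q₁, q₂ (the module maps compatible with the quotient maps from O_X). The published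
statement is for a locally free sheaf E on a reduced scheme with two irreducible components X₁, X₂
(whose ideals meet in zero); this row is the case E = O_X for any two ideals with zero intersection,
which is what the local argument uses. -/
theorem result (X : Scheme.{u}) (I₁ I₂ : X.IdealSheafData)
    (h : I₁ ⊓ I₂ = ⊥)
    (q₁ : ClSub.quotMod I₁ ⟶ ClSub.quotMod (I₁ ⊔ I₂)) (q₂ : ClSub.quotMod I₂ ⟶ ClSub.quotMod (I₁ ⊔ I₂))
    (hq₁ : ClSub.toSubscheme I₁ ≫ q₁ = ClSub.toSubscheme (I₁ ⊔ I₂))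
    (hq₂ : ClSub.toSubscheme I₂ ≫ q₂ = ClSub.toSubscheme (I₁ ⊔ I₂)) :
    Epi (biprod.desc q₁ (-q₂)) ∧
      ∃ w : biprod.lift (ClSub.toSubscheme I₁) (ClSub.toSubscheme I₂) ≫ biprod.desc q₁ (-q₂) = 0,
        Nonempty (IsLimit (KernelFork.ofι (biprod.lift (ClSub.toSubscheme I₁) (ClSub.toSubscheme I₂)) w)) := by
  haveI : Epi q₁ := by
    haveI : Epi (ClSub.toSubscheme I₁ ≫ q₁) := by rw [hq₁]; infer_instance
    exact epi_of_epi (ClSub.toSubscheme I₁) q₁
  haveI hepi : Epi (biprod.desc q₁ (-q₂)) := by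
    haveI : Epi (biprod.inl ≫ biprod.desc q₁ (-q₂)) := by rw [biprod.inl_desc]; infer_instance
    exact epi_of_epi biprod.inl _
  have w : biprod.lift (ClSub.toSubscheme I₁) (ClSub.toSubscheme I₂) ≫ biprod.desc q₁ (-q₂) = 0 := by
    rw [biprod.lift_desc, Preadditive.comp_neg, hq₁, hq₂, add_neg_cancel]
  refine ⟨hepi, w, ?_⟩
  let L := biprod.lift (ClSub.toSubscheme I₁) (ClSub.toSubscheme I₂)
  have e1 : ∀ (U : X.Opens) z, (biprod.fst : ClSub.quotMod I₁ ⊞ ClSub.quotMod I₂ ⟶ _).app U (L.app U z) =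
      (ClSub.toSubscheme I₁).app U z := fun U z =>
    congrArg (fun φ => φ.app U z) (biprod.lift_fst (ClSub.toSubscheme I₁) (ClSub.toSubscheme I₂))
  have e2 : ∀ (U : X.Opens) z, (biprod.snd : ClSub.quotMod I₁ ⊞ ClSub.quotMod I₂ ⟶ _).app U (L.app U z) =
      (ClSub.toSubscheme I₂).app U z := fun U z =>
    congrArg (fun φ => φ.app U z) (biprod.lift_snd (ClSub.toSubscheme I₁) (ClSub.toSubscheme I₂))
  haveI hm : Mono L := by
    refine (M1.mono_iff_app L).2 fun U => (injective_iff_map_eq_zero (L.app U).hom).2 fun z hz => ?_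
    refine M1.section_ext _ _ fun x hx => ?_
    obtain ⟨W, hW, hxW, hWU'⟩ := exists_isAffineOpen_mem_and_subset hx
    have hWU : W ≤ U := hWU'
    have hr : L.app W ((Coh.structureModule X).presheaf.map (homOfLE hWU).op z) = 0 :=
      (M1.map_app_eq L hWU z).trans ((congrArg _ hz).trans (map_zero _))
    have h0 : (Coh.structureModule X).presheaf.map (homOfLE hWU).op z = 0 := by
      have m1 := (toSub_app_eq_zero I₁ hW _).1 ((e1 W _).symm.trans ((congrArg _ hr).trans (map_zero _)))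
      have m2 := (toSub_app_eq_zero I₂ hW _).1 ((e2 W _).symm.trans ((congrArg _ hr).trans (map_zero _)))
      have m : _ ∈ (I₁ ⊓ I₂).ideal ⟨W, hW⟩ := ⟨m1, m2⟩
      rw [h] at m
      exact m
    rw [← (Coh.structureModule X).presheaf.germ_res_apply (homOfLE hWU) x hxW z, h0, map_zero, map_zero]
  have hex : (ShortComplex.mk L (biprod.desc q₁ (-q₂)) w).Exact := by
    rw [ShortComplex.exact_iff_epi_kernel_lift]
    refine (M1.epi_iff_locally_surjective _).2 fun U t x hx => ?_
    obtain ⟨W, hW, hxW, hWU'⟩ := exists_isAffineOpen_mem_and_subset hx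
    have hWU : W ≤ U := hWU'
    let t' := (kernel (biprod.desc q₁ (-q₂))).presheaf.map (homOfLE hWU).op t
    let c := (kernel.ι (biprod.desc q₁ (-q₂))).app W t'
    obtain ⟨s, hs⟩ := I₁.subschemeι_app_surjective ⟨W, hW⟩ ((biprod.fst : ClSub.quotMod I₁ ⊞ ClSub.quotMod I₂ ⟶ _).app W c)
    obtain ⟨r, hr⟩ := I₂.subschemeι_app_surjective ⟨W, hW⟩ ((biprod.snd : ClSub.quotMod I₁ ⊞ ClSub.quotMod I₂ ⟶ _).app W c)
    have hc : (biprod.desc q₁ (-q₂)).app W c = 0 :=
      congrArg (fun φ => φ.app W t') (kernel.condition (biprod.desc q₁ (-q₂)))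
    have hz : (ClSub.toSubscheme (I₁ ⊔ I₂)).app W s - (ClSub.toSubscheme (I₁ ⊔ I₂)).app W r = 0 := by
      rw [biprod.desc_eq, Preadditive.comp_neg] at hc
      refine Eq.trans ?_ hc
      rw [sub_eq_add_neg]
      refine congrArg₂ (· + ·) ?_ (congrArg Neg.neg ?_)
      · rw [← hq₁]
        exact congrArg (q₁.app W) hs
      · rw [← hq₂]
        exact congrArg (q₂.app W) hr
    have hm' : s - r ∈ (I₁ ⊔ I₂).ideal ⟨W, hW⟩ :=
      (toSub_app_eq_zero _ hW _).1 ((map_sub _ s r).trans hz)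
    rw [Scheme.IdealSheafData.ideal_sup, Pi.sup_apply, Submodule.mem_sup] at hm'
    obtain ⟨i, hi, j, hj, hij⟩ := hm'
    refine ⟨W, hWU, hxW, s - i, ?_⟩
    refine M1.app_injective (kernel.ι (biprod.desc q₁ (-q₂))) W ?_
    refine Eq.trans (congrArg (fun φ => φ.app W (s - i)) (kernel.lift_ι _ L w)) ?_
    refine biprod_app_ext W _ _ ((e1 W _).trans ?_) ((e2 W _).trans ?_)
    · refine (map_sub _ s i).trans ?_
      exact ((congrArg (_ - ·) ((toSub_app_eq_zero I₁ hW i).2 hi)).trans (sub_zero _)).trans hs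
    · have hsi : s - i = r + j := by linear_combination -hij
      rw [hsi]
      refine (map_add _ r j).trans ?_
      exact ((congrArg (_ + ·) ((toSub_app_eq_zero I₂ hW j).2 hj)).trans (add_zero _)).trans hr
  exact ⟨hex.fIsKernel⟩

end Groth.Agent.S19606
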