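import Groth.Statements.S19609
import Mathlib.Tactic
import Mathlib.RingTheory.MvPolynomial.Basic
import Mathlib.RingTheory.Ideal.Quotient.Operations
import Mathlib.LinearAlgebra.Basis.Basic
import Mathlib.Data.Matrix.Mul
import Mathlib.NumberTheory.Bernoulli
import Mathlib.RingTheory.PowerSeries.Inverse
import Mathlib.RingTheory.AdicCompletion.Basic
import Mathlib.LinearAlgebra.Matrix.Charpoly.Coeff
import Mathlib.Algebra.Polynomial.Expand
import Mathlib.NumberTheory.Padics.PadicVal.Basic
import Mathlib.RingTheory.IntegralClosure.IsIntegralClosure.Basic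
import Mathlib.GroupTheory.Torsion
import Mathlib.Algebra.MonoidAlgebra.Basic
import Mathlib.RingTheory.Norm.Basic
import Mathlib.LinearAlgebra.Eigenspace.Zero
import Mathlib.RingTheory.LocalRing.ResidueField.Basic
import Mathlib.RingTheory.Artinian.Module
import Mathlib.FieldTheory.IsAlgClosed.Basic
import Mathlib.RingTheory.Ideal.AssociatedPrime.Basic
import Mathlib.RingTheory.Ideal.MinimalPrime.Noetherian
import Mathlib.RingTheory.RegularLocalRing.Defs
import Mathlib.RingTheory.Ideal.KrullsHeightTheorem
import Mathlib.RingTheory.Nakayama

set_option autoImplicit false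
universe u
open CartMod

namespace Groth.Agent.S19609

/-- Let p be a prime and u : A → B a ring homomorphism between commutative rings which are complete and
separated for the p-adic topology and have no p-torsion (flat over the p-adic base). If u induces a
bijection A/pA → B/pB (injectivity: u a ∈ pB forces a ∈ pA; surjectivity: every b ∈ B is congruent
to some u a modulo pB), then u is bijective. (The published statement is for a morphism of flat
p-adic formal schemes over the Witt vectors of a perfect field: if its special fibre is an
isomorphism, so is the morphism; this row is its affine, ring-level case.) -/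
theorem result (p : ℕ) [Fact p.Prime]
    {A B : Type u} [CommRing A] [CommRing B]
    [IsAdicComplete (Ideal.span {(p : A)}) A] [IsAdicComplete (Ideal.span {(p : B)}) B]
    (hA : IsSMulRegular A (p : A)) (hB : IsSMulRegular B (p : B)) (u : A →+* B)
    (hinj : ∀ a : A, u a ∈ Ideal.span {(p : B)} → a ∈ Ideal.span {(p : A)})
    (hsurj : ∀ b : B, ∃ a : A, b - u a ∈ Ideal.span {(p : B)}) :
    Function.Bijective u := by
  have memA : ∀ (n : ℕ) (x : A), x ∈ (Ideal.span {(p : A)} ^ n • ⊤ : Submodule A A) ↔ ∃ c, x = (p : A) ^ n * c := by
    intro n x; rw [smul_eq_mul, Ideal.mul_top, Ideal.span_singleton_pow, Ideal.mem_span_singleton]; rfl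
  have memB : ∀ (n : ℕ) (x : B), x ∈ (Ideal.span {(p : B)} ^ n • ⊤ : Submodule B B) ↔ ∃ c, x = (p : B) ^ n * c := by
    intro n x; rw [smul_eq_mul, Ideal.mul_top, Ideal.span_singleton_pow, Ideal.mem_span_singleton]; rfl
  constructor
  · rw [injective_iff_map_eq_zero]
    intro a ha
    refine IsHausdorff.haus (inferInstance : IsHausdorff (Ideal.span {(p : A)}) A) a fun n => ?_
    rw [SModEq.zero, memA]
    induction n generalizing a with
    | zero => exact ⟨a, by simp⟩
    | succ n ih =>
      obtain ⟨b, rfl⟩ := Ideal.mem_span_singleton'.1 (hinj a (by simp [ha]))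
      rw [map_mul, map_natCast, mul_comm] at ha
      obtain ⟨c, rfl⟩ := ih b (hB (show (p : B) • u b = (p : B) • 0 by simpa using ha))
      exact ⟨c, by ring⟩
  · intro b
    choose s hs using hsurj
    choose r hr using fun b => Ideal.mem_span_singleton.1 (hs b)
    let rem : ℕ → B := fun n => r^[n] b
    let a : ℕ → A := fun n => ∑ i ∈ Finset.range n, (p : A) ^ i * s (rem i)
    have ha : ∀ n, b = u (a n) + (p : B) ^ n * rem n := by
      intro n
      induction n with
      | zero => simp [a, rem]
      | succ n ih =>
        have h := hr (rem n)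
        have hsucc : rem (n+1) = r (rem n) := Function.iterate_succ_apply' r n b
        simp only [a, Finset.sum_range_succ, map_add, map_mul, map_pow, map_natCast] at ih ⊢
        rw [hsucc]
        linear_combination ih + (p : B) ^ n * h
    obtain ⟨L, hL⟩ := IsPrecomplete.prec (inferInstance : IsPrecomplete (Ideal.span {(p : A)}) A) (f := a) (by
      intro m n hmn
      rw [SModEq.sub_mem, memA]
      refine ⟨-∑ i ∈ Finset.Ico m n, (p : A) ^ (i - m) * s (rem i), ?_⟩
      simp only [a]
      rw [← Finset.sum_range_add_sum_Ico _ hmn, sub_add_cancel_left, mul_neg, Finset.mul_sum]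
      congr 1
      refine Finset.sum_congr rfl fun i hi => ?_
      rw [← mul_assoc, ← pow_add, Nat.add_sub_cancel' (Finset.mem_Ico.1 hi).1])
    refine ⟨L, (sub_eq_zero.1 (IsHausdorff.haus (inferInstance : IsHausdorff (Ideal.span {(p : B)}) B) (b - u L) fun n => ?_)).symm⟩
    rw [SModEq.zero, memB]
    obtain ⟨c, hc⟩ := (memA n _).1 (SModEq.sub_mem.1 (hL n))
    refine ⟨rem n + u c, ?_⟩
    have := congrArg u hc
    simp only [map_sub, map_mul, map_pow, map_natCast] at this
    linear_combination ha n + this

end Groth.Agent.S19609
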