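import Groth.Statements.S19610
import Groth.Agent.Lib.FlatH4.LocCrit
import Groth.Agent.Lib.CAlgLow.TorNil
import Mathlib.Tactic

set_option autoImplicit false
universe u
open scoped TensorProduct
open CartMod

namespace Groth.Agent.S19610

/-- Let p be a prime and B a commutative algebra over the commutative ring A, both complete and
separated for the p-adic topology and both without p-torsion (flat over the p-adic base). If B/pB is
flat over A/pA, then B/p^nB is flat over A/p^nA for every n ≥ 1 (the quotients are written as base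
changes (A/p^n) ⊗_A B). (The published statement is for a morphism of flat p-adic formal schemes
over the Witt vectors of a perfect field: if its special fibre is flat, so are the induced morphisms
of schemes modulo every power of p; this row is its affine, ring-level case.) -/
theorem result (p : ℕ) [Fact p.Prime]
    {A B : Type u} [CommRing A] [CommRing B] [Algebra A B]
    [IsAdicComplete (Ideal.span {(p : A)}) A] [IsAdicComplete (Ideal.span {(p : B)}) B]
    (hA : IsSMulRegular A (p : A)) (hB : IsSMulRegular B (p : B))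
    (h : Module.Flat (A ⧸ Ideal.span {(p : A)}) ((A ⧸ Ideal.span {(p : A)}) ⊗[A] B))
    (n : ℕ) (hn : 1 ≤ n) :
    Module.Flat (A ⧸ (Ideal.span {(p : A)} ^ n)) ((A ⧸ (Ideal.span {(p : A)} ^ n)) ⊗[A] B) := by
  classical
  obtain ⟨N, rfl⟩ : ∃ N, n = N + 1 := ⟨n - 1, by omega⟩
  set I := Ideal.span {(p : A)} with hI
  let R' := A ⧸ I ^ (N + 1)
  let a : Ideal R' := Ideal.span {(p : R')}
  have hp0 : (p : R') ^ (N + 1) = 0 := by
    rw [show (p : R') = Ideal.Quotient.mk (I ^ (N + 1)) (p : A) from (map_natCast _ p).symm, ← map_pow, Ideal.Quotient.eq_zero_iff_mem]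
    exact Ideal.pow_mem_pow (Ideal.mem_span_singleton_self _) _
  have hone : ∀ m : R' ⊗[A] B, ∃ b : B, (1 : R') ⊗ₜ[A] b = m := fun m => CAlgLow.exists_one_tmul (I ^ (N + 1)) m
  refine FlatH4.flat_of_isNilpotent (A := R') (M := R' ⊗[A] B) a ⟨N + 1, by show (Ideal.span {(p : R')}) ^ (N + 1) = 0; rw [Ideal.span_singleton_pow (p : R'), hp0, Ideal.zero_eq_bot, Ideal.span_singleton_eq_bot]⟩ ?_ ?_
  · rw [injective_iff_map_eq_zero]
    intro z hz
    obtain ⟨m, rfl⟩ : ∃ m : R' ⊗[A] B, m ⊗ₜ[R'] (⟨(p : R'), Ideal.mem_span_singleton_self _⟩ : a) = z := by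
      clear hz
      induction z with
      | zero => exact ⟨0, TensorProduct.zero_tmul _ _⟩
      | add x y hx hy =>
        obtain ⟨m, rfl⟩ := hx; obtain ⟨m', rfl⟩ := hy
        exact ⟨m + m', TensorProduct.add_tmul _ _ _⟩
      | tmul x y =>
        obtain ⟨y, hy⟩ := y
        obtain ⟨c, rfl⟩ := Ideal.mem_span_singleton'.mp hy
        exact ⟨c • x, by rw [TensorProduct.smul_tmul]; rfl⟩
    obtain ⟨b, rfl⟩ := hone m
    rw [LinearMap.lTensor_tmul] at hz
    have hz' := congrArg (TensorProduct.rid R' (R' ⊗[A] B)) hz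
    rw [TensorProduct.rid_tmul, map_zero] at hz'
    have hz2 : (1 : R') ⊗ₜ[A] ((p : A) • b) = 0 := by
      refine Eq.trans ?_ hz'
      rw [TensorProduct.tmul_smul, Submodule.subtype_apply]
      show (p : A) • ((1 : R') ⊗ₜ[A] b) = (p : R') • ((1 : R') ⊗ₜ[A] b)
      rw [Nat.cast_smul_eq_nsmul, Nat.cast_smul_eq_nsmul]
    rw [CAlgLow.one_tmul_eq_zero_iff] at hz2
    obtain ⟨b', hb'⟩ : ∃ b', b = (p : A) ^ N • b' := by
      rw [hI, Ideal.span_singleton_pow, Submodule.ideal_span_singleton_smul] at hz2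
      obtain ⟨c, -, hc⟩ := hz2
      refine ⟨c, hB ?_⟩
      change (p : B) • b = (p : B) • ((p : A) ^ N • c)
      rw [Nat.cast_smul_eq_nsmul, Nat.cast_smul_eq_nsmul, ← Nat.cast_smul_eq_nsmul A, ← Nat.cast_smul_eq_nsmul A, smul_smul, ← pow_succ']
      exact hc.symm
    rw [hb', TensorProduct.tmul_smul, ← algebraMap_smul R' ((p : A) ^ N), TensorProduct.smul_tmul]
    have h0 : (algebraMap A R' ((p : A) ^ N)) • (⟨(p : R'), Ideal.mem_span_singleton_self _⟩ : a) = 0 := by
      refine Subtype.ext ?_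
      rw [Submodule.coe_smul, smul_eq_mul, map_pow, map_natCast, ← pow_succ, hp0]
      rfl
    rw [h0, TensorProduct.tmul_zero]
  · let φ : A ⧸ I →+* R' ⧸ a := Ideal.Quotient.lift I ((Ideal.Quotient.mk a).comp (Ideal.Quotient.mk (I ^ (N + 1)))) fun x hx => by
      obtain ⟨c, rfl⟩ := Ideal.mem_span_singleton'.mp hx
      rw [RingHom.comp_apply, map_mul, map_natCast, Ideal.Quotient.eq_zero_iff_mem]
      exact Ideal.mul_mem_left _ _ (Ideal.mem_span_singleton_self _)
    letI := φ.toAlgebra
    haveI : IsScalarTower A (A ⧸ I) (R' ⧸ a) := IsScalarTower.of_algebraMap_eq fun x => rfl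
    haveI := h
    exact Module.Flat.of_linearEquiv ((TensorProduct.AlgebraTensorModule.cancelBaseChange A R' (R' ⧸ a) (R' ⧸ a) B).trans
      (TensorProduct.AlgebraTensorModule.cancelBaseChange A (A ⧸ I) (R' ⧸ a) (R' ⧸ a) B).symm)

end Groth.Agent.S19610
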