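import Groth.Statements.S19611
import Mathlib.AlgebraicGeometry.Morphisms.Flat

set_option autoImplicit false
universe u
open CategoryTheory AlgebraicGeometry
open CartMod

namespace Groth.Agent.S19611

/-- For a prime p and a scheme Y of characteristic p, write Y♭ for the scheme-theoretic image of the
absolute Frobenius F_Y : Y → Y, i.e. the closed subscheme of Y defined by the sections of O_Y whose
p-th power vanishes, and Y → Y♭ for the canonical morphism through which F_Y factors. Then Y → Y♭ is
an epimorphism of schemes: two morphisms g₁, g₂ from Y♭ to a scheme Z with equal composites Y → Y♭ →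
Z are equal. (The published statement is for k-morphisms g₁, g₂ from Y♭ to a k-scheme Z over a
perfect field k of characteristic p, compared after Frobenius twist through Y → (Y♭)'; this row asks
right-cancellation against morphisms to every scheme Z, which is equivalent to it for k-morphisms.) -/
theorem result (p : ℕ) [Fact p.Prime] (Y : Scheme.{u}) [FrobSch.IsCharP Y p] :
    Epi (FrobSch.frob Y p).toImage := by
  set f := FrobSch.frob Y p
  have hbase : ⇑f = id := by funext x; rfl
  haveI : QuasiCompact f := ⟨fun U _ hU' => by rw [hbase]; exact hU'⟩
  have hι : ∀ x, f.imageι (f.toImage x) = x := fun x => by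
    rw [← Scheme.Hom.comp_apply, f.toImage_imageι]
    exact congrFun hbase x
  have hind : Topology.IsInducing f.toImage := by
    refine Topology.IsInducing.of_comp f.toImage.continuous f.imageι.continuous ?_
    rw [show ⇑f.imageι ∘ ⇑f.toImage = id from funext hι]
    exact Topology.IsInducing.id
  have hsurj : Function.Surjective f.toImage := fun z =>
    ⟨f.imageι z, f.imageι.isEmbedding.injective (hι _)⟩
  apply CategoryTheory.Functor.epi_of_epi_map (Scheme.forgetToLocallyRingedSpace)
  apply CategoryTheory.Functor.epi_of_epi_map (LocallyRingedSpace.forgetToSheafedSpace)
  apply SheafedSpace.epi_of_base_surjective_of_stalk_mono _ hsurj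
  intro x
  apply ConcreteCategory.mono_of_injective
  haveI := TopCat.Presheaf.stalkPushforward.stalkPushforward_iso_of_isInducing (C := CommRingCat) hind Y.presheaf x
  change Function.Injective ((TopCat.Presheaf.stalkPushforward CommRingCat f.toImage.base Y.presheaf x) ∘
    ((TopCat.Presheaf.stalkFunctor CommRingCat (f.toImage x)).map f.toImage.c))
  exact (ConcreteCategory.bijective_of_isIso _).1.comp (f.stalkFunctor_toImage_injective _)

end Groth.Agent.S19611
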