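import Groth.Statements.S19612
import Mathlib

set_option autoImplicit false
universe u
open scoped TensorProduct
open CartMod

namespace Groth.Agent.S19612
open TensorProduct

/-- Let k be a perfect field of characteristic p, W = W(k) the ring of Witt vectors of k, and A a
commutative W-algebra which is complete and separated for the p-adic topology (an adic W-algebra).
Then flatness of A over W is equivalent to flatness of A/p^nA = (W/p^nW) ⊗_W A over W/p^nW for every
n ≥ 1. -/
theorem result (p : ℕ) [Fact p.Prime] (k : Type u) [Field k]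
    [CharP k p] [PerfectRing k p] (A : Type u) [CommRing A] [Algebra (WittVector p k) A]
    [IsAdicComplete (Ideal.span {(p : WittVector p k)}) A] :
    Module.Flat (WittVector p k) A ↔
      ∀ n : ℕ, 1 ≤ n →
        Module.Flat (WittVector p k ⧸ (Ideal.span {(p : WittVector p k)} ^ n))
          ((WittVector p k ⧸ (Ideal.span {(p : WittVector p k)} ^ n)) ⊗[WittVector p k] A) := by
  set W := WittVector p k
  refine ⟨fun h n _ => Module.Flat.baseChange _ _ _, fun h => ?_⟩
  set π : W := (p : W)
  set I := Ideal.span {π}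
  have hirr : Irreducible π := WittVector.irreducible p
  have hπ0 : π ≠ 0 := hirr.ne_zero
  have hreg : ∀ x : A, π • x = 0 → x = 0 := by
    intro x hx
    refine IsHausdorff.haus (inferInstance : IsHausdorff I A) x fun m => ?_
    rw [SModEq.zero]
    haveI := h (m + 1) (by omega)
    set J := I ^ (m + 1)
    have hrel : ∑ _i : Fin 1, Ideal.Quotient.mk J π • ((1 : W ⧸ J) ⊗ₜ[W] x) = 0 := by
      rw [Fin.sum_univ_one, TensorProduct.smul_tmul', smul_eq_mul, mul_one,
        show (Ideal.Quotient.mk J π) = π • (1 : W ⧸ J) by rw [Algebra.smul_def, mul_one]; rfl,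
        TensorProduct.smul_tmul, hx, TensorProduct.tmul_zero]
    obtain ⟨κ, a, y, hy, ha⟩ := Module.Flat.isTrivialRelation_of_sum_smul_eq_zero hrel
    have hmap : ∀ j : Fin κ, ∃ b : W, a 0 j = Ideal.Quotient.mk J b ∧ b ∈ I ^ m := by
      intro j
      obtain ⟨b, hb⟩ := Ideal.Quotient.mk_surjective (a 0 j)
      have h2 := ha j
      rw [Fin.sum_univ_one, ← hb, ← map_mul, Ideal.Quotient.eq_zero_iff_mem] at h2
      refine ⟨b, hb.symm, ?_⟩
      simp only [J, I, Ideal.span_singleton_pow, Ideal.mem_span_singleton] at h2 ⊢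
      rw [pow_succ'] at h2
      exact (mul_dvd_mul_iff_left hπ0).1 h2
    choose b hb hbI using hmap
    have key : (1 : W ⧸ J) ⊗ₜ[W] x ∈ (I ^ m) • (⊤ : Submodule W ((W ⧸ J) ⊗[W] A)) := by
      rw [show (1 : W ⧸ J) ⊗ₜ[W] x = _ from hy 0]
      refine Submodule.sum_mem _ fun j _ => ?_
      rw [hb]
      rw [show Ideal.Quotient.mk J (b j) • y j = b j • y j from algebraMap_smul (W ⧸ J) (b j) (y j)]
      exact Submodule.smul_mem_smul (hbI j) trivial
    let e := TensorProduct.quotTensorEquivQuotSMul A J
    have h3 := Submodule.mem_map_of_mem (f := e.toLinearMap) key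
    rw [Submodule.map_smul'', Submodule.map_top, LinearEquiv.range] at h3
    have h4 : (Submodule.Quotient.mk x : A ⧸ J • (⊤ : Submodule W A)) ∈ (I ^ m) • (⊤ : Submodule W (A ⧸ J • (⊤ : Submodule W A))) := by
      convert h3 using 1
      show _ = e (Ideal.Quotient.mk J 1 ⊗ₜ[W] x)
      rw [TensorProduct.quotTensorEquivQuotSMul_mk_tmul, one_smul]
    rw [← Submodule.range_mkQ (J • (⊤ : Submodule W A)), ← Submodule.map_top, ← Submodule.map_smul''] at h4
    obtain ⟨x', hx', hxx⟩ := h4
    have h5 : x - x' ∈ J • (⊤ : Submodule W A) := by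
      rw [← Submodule.Quotient.mk_eq_zero, Submodule.Quotient.mk_sub, sub_eq_zero]; exact hxx.symm
    have h6 : J • (⊤ : Submodule W A) ≤ (I ^ m) • ⊤ := Submodule.smul_mono_left (Ideal.pow_le_pow_right (by omega))
    have := Submodule.add_mem _ (h6 h5) hx'
    rwa [sub_add_cancel] at this
  haveI : Module.IsTorsionFree W A := by
    refine Module.isTorsionFree_iff_smul_eq_zero.2 fun a x hax => ?_
    by_contra hc; push Not at hc
    obtain ⟨v, u, hav⟩ := IsDiscreteValuationRing.eq_unit_mul_pow_irreducible hc.1 hirr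
    rw [hav, mul_smul] at hax
    have h1 : π ^ v • x = 0 → False := by
      intro h2
      refine hc.2 ?_
      clear hav hax
      induction v with
      | zero => simpa using h2
      | succ v ih => exact ih (hreg _ (by rw [← mul_smul, ← pow_succ']; exact h2))
    exact h1 ((Units.isUnit u).smul_eq_zero.1 hax)
  exact inferInstance

end Groth.Agent.S19612
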