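import Groth.Statements.S19616
import Groth.Agent.Lib.Dilat28.Main

set_option autoImplicit false
universe u
open CartMod

namespace Groth.Agent.S19616

set_option maxHeartbeats 1000000 in
/-- Let p be a prime, A a commutative ring which is complete and separated for the p-adic topology and
has no p-torsion, and a_1, …, a_n elements of A (so that (p, a_1, …, a_n) is an open ideal
containing p). Then there is a commutative A-algebra D, complete and separated for the p-adic
topology and without p-torsion, in which each a_i is divisible by p, with the following universal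
property: for every A-algebra B which is p-adically complete and separated, has no p-torsion, and in
which each a_i is divisible by p, there is exactly one A-algebra homomorphism D → B; moreover this
homomorphism is surjective whenever A → B is. (D is the coordinate ring of the dilatation of Spf A
with respect to p along the closed subscheme defined by (p, a_1, …, a_n). The published statement is
for flat p-adic formal schemes locally of finite type over the Witt vectors of a perfect field; this
row is its affine, ring-level case without a finiteness hypothesis.) -/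
theorem result (p : ℕ) [Fact p.Prime]
    (A : Type u) [CommRing A] [IsAdicComplete (Ideal.span {(p : A)}) A]
    (hA : IsSMulRegular A (p : A)) {n : ℕ} (a : Fin n → A) :
    ∃ (D : Type u) (_ : CommRing D) (_ : Algebra A D),
      IsAdicComplete (Ideal.span {(p : D)}) D ∧ IsSMulRegular D (p : D) ∧
      (∀ i, algebraMap A D (a i) ∈ Ideal.span {(p : D)}) ∧
      ∀ (B : Type u) [CommRing B] [Algebra A B] [IsAdicComplete (Ideal.span {(p : B)}) B],
        IsSMulRegular B (p : B) → (∀ i, algebraMap A B (a i) ∈ Ideal.span {(p : B)}) →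
          Nonempty (D →ₐ[A] B) ∧ Subsingleton (D →ₐ[A] B) ∧
            (Function.Surjective (algebraMap A B) → ∀ f : D →ₐ[A] B, Function.Surjective f) := by
  let D₀ := Dilat28.pre (p : A) a
  have hc : algebraMap A D₀ (p : A) = (p : D₀) := map_natCast _ _
  have hreg : IsSMulRegular D₀ (p : D₀) := hc ▸ Dilat28.pre_regular (p : A) a
  let I : Ideal D₀ := Ideal.span {(p : D₀)}
  have fg : I.FG := ⟨{(p : D₀)}, by rw [Finset.coe_singleton]⟩
  have hI : I.map (algebraMap D₀ (AdicCompletion I D₀)) = Ideal.span {(p : (AdicCompletion I D₀))} := by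
    rw [Ideal.map_span, Set.image_singleton, map_natCast]
  haveI : IsScalarTower A D₀ (AdicCompletion I D₀) := inferInstance
  refine ⟨(AdicCompletion I D₀), inferInstance, inferInstance, ?_, ?_, ?_, ?_⟩
  · exact hI ▸ AdicCompletion.isAdicComplete_self I fg
  · have h := Dilat28.isSMulRegular_completion (p : D₀) hreg
    rwa [map_natCast] at h
  · intro i
    rw [IsScalarTower.algebraMap_apply A D₀ (AdicCompletion I D₀), ← hI]
    exact Ideal.mem_map_of_mem _ (show _ ∈ Ideal.span {(p : D₀)} from hc ▸ Dilat28.pre_dvd (p : A) a i)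
  · intro B _ _ _ hB hb
    have hcB : algebraMap A B (p : A) = (p : B) := map_natCast _ _
    have hB' : IsSMulRegular B (algebraMap A B (p : A)) := hcB.symm ▸ hB
    obtain ⟨g⟩ := Dilat28.exists_pre_hom (p : A) a hB' (hcB.symm ▸ hb)
    let J : Ideal B := Ideal.span {(p : B)}
    have hg : ∀ k, I ^ k ≤ (J ^ k).comap g := fun k => by
      refine le_trans ?_ (Ideal.le_comap_pow _ k)
      refine Ideal.pow_right_mono ?_ k
      rw [Ideal.span_singleton_le_iff_mem, Ideal.mem_comap, map_natCast]
      exact Ideal.mem_span_singleton_self _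
    let F : (k : ℕ) → (AdicCompletion I D₀) →ₐ[A] B ⧸ J ^ k := fun k =>
      (Ideal.quotientMapₐ (J ^ k) g (hg k)).comp ((AdicCompletion.evalₐ I k).restrictScalars A)
    have hF : ∀ {m k : ℕ} (hle : m ≤ k),
        (Ideal.Quotient.factorₐ A (Ideal.pow_le_pow_right hle)).comp (F k) = F m := by
      intro m k hle
      refine AlgHom.ext fun x => ?_
      obtain ⟨s, rfl⟩ := AdicCompletion.mk_surjective I D₀ x
      change Ideal.Quotient.factor (Ideal.pow_le_pow_right hle) (Ideal.quotientMapₐ (J ^ k) g (hg k)
        (AdicCompletion.evalₐ I k (AdicCompletion.mk I D₀ s))) =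
        Ideal.quotientMapₐ (J ^ m) g (hg m) (AdicCompletion.evalₐ I m (AdicCompletion.mk I D₀ s))
      rw [AdicCompletion.evalₐ_mk, AdicCompletion.evalₐ_mk,
        ← AdicCompletion.Ideal.mk_eq_mk I hle s]
      rfl
    refine ⟨⟨IsAdicComplete.liftAlgHom J F hF⟩, ⟨fun φ ψ => ?_⟩, fun hs f b => ?_⟩
    · refine IsAdicComplete.algHom_ext J fun k => AlgHom.ext fun x => ?_
      obtain ⟨z, hz⟩ := Ideal.Quotient.mk_surjective (AdicCompletion.evalₐ I k x)
      have hk : x - algebraMap D₀ (AdicCompletion I D₀) z ∈ Ideal.span {(p : (AdicCompletion I D₀))} ^ k := by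
        have h0 : AdicCompletion.evalₐ I k (x - algebraMap D₀ (AdicCompletion I D₀) z) = 0 := by
          rw [map_sub, AlgHom.commutes, ← hz]; exact sub_self _
        have h1 : x - algebraMap D₀ (AdicCompletion I D₀) z ∈
            (I ^ k • ⊤ : Submodule D₀ (AdicCompletion I D₀)) := by
          rw [AdicCompletion.pow_smul_top_eq_ker_eval fg, LinearMap.mem_ker,
            ← AdicCompletion.factor_evalₐ_eq_eval I _ (by simp), h0, map_zero]
        rw [← hI, ← Ideal.map_pow]
        refine Submodule.smul_induction_on h1 (fun r hr d _ => ?_) (fun _ _ => add_mem)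
        rw [show r • d = algebraMap D₀ (AdicCompletion I D₀) r * d from
          Subtype.ext (Algebra.smul_def (R := D₀) r d.val)]
        exact Ideal.mul_mem_right _ _ (Ideal.mem_map_of_mem _ hr)
      have hmem : ∀ χ : (AdicCompletion I D₀) →ₐ[A] B, χ (x - algebraMap D₀ (AdicCompletion I D₀) z) ∈ J ^ k := fun χ => by
        have h' := Ideal.mem_map_of_mem χ hk
        rwa [Ideal.map_pow, Ideal.map_span, Set.image_singleton, map_natCast] at h'
      have hz' : φ (algebraMap D₀ (AdicCompletion I D₀) z) = ψ (algebraMap D₀ (AdicCompletion I D₀) z) :=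
        AlgHom.congr_fun (Dilat28.pre_hom_ext (p : A) a hB'
          (φ.comp (IsScalarTower.toAlgHom A D₀ (AdicCompletion I D₀))) (ψ.comp (IsScalarTower.toAlgHom A D₀ (AdicCompletion I D₀)))) z
      change Ideal.Quotient.mk (J ^ k) (φ x) = Ideal.Quotient.mk (J ^ k) (ψ x)
      rw [Ideal.Quotient.eq]
      have := sub_mem (hmem φ) (hmem ψ)
      have e1 : φ (x - algebraMap D₀ (AdicCompletion I D₀) z) - ψ (x - algebraMap D₀ (AdicCompletion I D₀) z) = φ x - ψ x := by
        rw [map_sub φ, map_sub ψ, hz', sub_sub_sub_cancel_right]
      exact e1 ▸ this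
    · obtain ⟨r, rfl⟩ := hs b
      exact ⟨algebraMap A (AdicCompletion I D₀) r, f.commutes r⟩

end Groth.Agent.S19616
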