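import Groth.Statements.S19618
import Groth.Agent.Lib.EffCartier.Dense
import Mathlib

set_option autoImplicit false
universe u
open CategoryTheory CategoryTheory.Limits AlgebraicGeometry Opposite TopologicalSpace
open BlowUp

namespace Groth.Agent.S19618

/-- Let X be a locally Noetherian scheme, Y an effective Cartier divisor on X (a quasi-coherent ideal
sheaf which, near every point, is generated on some affine open by one nonzerodivisor; Y is its
support) and Z a closed integral subscheme (a closed immersion i from an integral scheme with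
generic point ξ). If Y and Z intersect properly — every point ζ of Y ∩ Z which is maximal under
generization inside Y ∩ Z satisfies dim O_{X,ζ} = codim(Y,X) + codim(Z,X), where codim(Y,X) is the
infimum over y ∈ Y of dim O_{X,y} and codim(Z,X) = dim O_{X,i(ξ)} — then Z is not contained in Y. -/
theorem result {X Z : Scheme.{u}}
    [IsLocallyNoetherian X] (𝓘 : X.IdealSheafData) (hY : BlowUp.IsEffCartierIdeal 𝓘)
    (i : Z ⟶ X) [IsClosedImmersion i] [IsIntegral Z]
    (hprop : ∀ ζ : ↥X, ζ ∈ (𝓘.support : Set ↥X) ∩ Set.range i.base →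
        (∀ ζ' : ↥X, ζ' ∈ (𝓘.support : Set ↥X) ∩ Set.range i.base → ζ' ⤳ ζ → ζ' = ζ) →
        ringKrullDim ↑(X.presheaf.stalk ζ) =
          (⨅ y : (𝓘.support : Set ↥X), ringKrullDim ↑(X.presheaf.stalk y.1)) +
            ringKrullDim ↑(X.presheaf.stalk (i (genericPoint ↥Z)))) :
    ¬ Set.range i.base ⊆ (𝓘.support : Set ↥X) := by
  intro hsub
  set ξ := i (genericPoint ↥Z)
  have hξ : ξ ∈ (𝓘.support : Set ↥X) ∩ Set.range i.base := ⟨hsub ⟨_, rfl⟩, ⟨_, rfl⟩⟩
  have hmax : ∀ ζ' : ↥X, ζ' ∈ (𝓘.support : Set ↥X) ∩ Set.range i.base → ζ' ⤳ ξ → ζ' = ξ := by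
    rintro ζ' ⟨-, z, rfl⟩ h
    exact (h.antisymm ((genericPoint_specializes z).map i.continuous)).eq
  have h := hprop ξ hξ hmax
  have hne : ringKrullDim ↑(X.presheaf.stalk ξ) ≠ ⊤ := ringKrullDim_ne_top
  have hle : (1 : WithBot ℕ∞) ≤ ⨅ y : (𝓘.support : Set ↥X), ringKrullDim ↑(X.presheaf.stalk y.1) := by
    refine le_iInf fun y => ?_
    obtain ⟨y', hy', hspec⟩ := EffCartier.exists_specializes_cmpl hY y.1
    have hne' : y' ≠ y.1 := fun e => hy' (e ▸ y.2)
    rw [ringKrullDim_stalk_eq_coheight]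
    have hlt : y.1 < y' := lt_iff_le_not_ge.2 ⟨hspec, fun h' => hne' (hspec.antisymm h').eq⟩
    have h1 : (1 : ℕ∞) ≤ Order.coheight y.1 :=
      le_trans le_add_self (Order.coheight_add_one_le hlt)
    exact_mod_cast h1
  rw [ringKrullDim_stalk_eq_coheight] at h hne
  generalize (⨅ y : (𝓘.support : Set ↥X), ringKrullDim ↑(X.presheaf.stalk y.1)) = m at h hle
  induction m using WithBot.recBotCoe with
  | bot => simp at hle
  | coe m =>
    have hm : (1 : ℕ∞) ≤ m := by exact_mod_cast hle
    have hc : Order.coheight ξ ≠ ⊤ := fun e => hne (by rw [e]; rfl)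
    obtain ⟨c, hc'⟩ := ENat.ne_top_iff_exists.1 hc
    have h2 : Order.coheight ξ = m + Order.coheight ξ := by exact_mod_cast h
    rw [← hc'] at h2
    induction m with
    | top => simp at h2
    | coe a => norm_cast at h2 hm; omega

end Groth.Agent.S19618
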