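import Groth.Statements.S19620
import Groth.Agent.Lib.DBC9.Good
import Groth.Agent.Lib.RHom.Support

set_option autoImplicit false
set_option linter.style.haveILetI false
set_option backward.isDefEq.respectTransparency false
universe u
open CategoryTheory CategoryTheory.Limits AlgebraicGeometry
attribute [local instance] HasDerivedCategory.standard
open DCoh

namespace Groth.Agent.S19620

/-- Let f : X → Y be a proper morphism of schemes, with Rf_* the total right derived functor of f_* on
the unbounded derived categories of modules (assumed to exist), let Z ⊆ X be a closed subset and E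
an object of D(O_X) whose cohomology sheaves are all supported in Z (every stalk at a point outside
Z is trivial). Then the cohomology sheaves of Rf_*E are supported in the closed subset f(Z) of Y.
(The published statement, made in a setting where all schemes are separated and of finite type over
a regular base, takes f proper and perfect and concludes that Rf_* carries perfect complexes acyclic
outside Z to perfect complexes acyclic outside f(Z); the perfectness of Rf_*E is a separate result,
and the support inclusion, which is what the published proof establishes, holds for every proper f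
and every E and is stated in that generality.) -/
theorem result {X Y : Scheme.{u}} (f : X ⟶ Y) [IsProper f]
    [DCoh.HasRpush f] (Z : Set ↥X) (hZ : IsClosed Z) (E : DCoh.D X)
    (hE : ∀ i : ℤ, CohB1.support (DCoh.HD E i) ⊆ Z) (i : ℤ) :
    CohB1.support (DCoh.HD ((DCoh.Rpush f).obj E) i) ⊆ f.base '' Z := by
  let W : Y.Opens := ⟨(f.base '' Z)ᶜ, (f.isClosedMap _ hZ).isOpen_compl⟩
  have hz : ∀ j : ℤ, IsZero (DCoh.HD ((DPerf.resD (f ⁻¹ᵁ W).ι).obj E) j) := fun j =>
    DPerf.isZero_of_stalks fun x => by
      suffices h : RHom.StalkZero x (DCoh.HD ((DPerf.resD (f ⁻¹ᵁ W).ι).obj E) j) from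
        AddCommGrpCat.subsingleton_of_isZero h
      refine RHom.stalkZero_iso (DPerf.hdResIso (f ⁻¹ᵁ W).ι E j).symm ((RHom.stalkZero_restrict_iff _ x _).2 ?_)
      have hx : x.1 ∉ Z := fun hx => x.2 ⟨x.1, hx, rfl⟩
      haveI := not_not.1 fun hn : ¬ Subsingleton ((DCoh.HD E j).presheaf.stalk x.1) => hx (hE j hn)
      exact AddCommGrpCat.isZero_of_subsingleton ((DCoh.HD E j).presheaf.stalk x.1)
  have h0 : IsZero ((DPerf.resD (f ⁻¹ᵁ W).ι).obj E) := by
    haveI : IsIso (0 : (DPerf.resD (f ⁻¹ᵁ W).ι).obj E ⟶ (DPerf.resD (f ⁻¹ᵁ W).ι).obj E) :=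
      (DerivedCategory.isIso_iff _ _).2 fun j => ⟨0, (hz j).eq_of_src _ _, (hz j).eq_of_src _ _⟩
    exact (IsZero.iff_id_eq_zero _).2 (by rw [← IsIso.hom_inv_id (0 : (DPerf.resD (f ⁻¹ᵁ W).ι).obj E ⟶ (DPerf.resD (f ⁻¹ᵁ W).ι).obj E), zero_comp])
  haveI := DBC9.hasRpush (f ∣_ W)
  obtain ⟨c⟩ := DBC9.nonempty_res_rpush f (f ∣_ W) W.ι (f ⁻¹ᵁ W).ι (isPullback_morphismRestrict f W)
  haveI : (DCoh.Rpush (f ∣_ W)).IsRightAdjoint := (DMon9.adjLP (f ∣_ W)).isRightAdjoint
  have hw : IsZero (DCoh.HD ((DPerf.resD W.ι).obj ((DCoh.Rpush f).obj E)) i) :=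
    (DerivedCategory.homologyFunctor _ i).map_isZero (((DCoh.Rpush (f ∣_ W)).map_isZero h0).of_iso (c.app E))
  intro y hy
  by_contra hyW
  refine hy (AddCommGrpCat.subsingleton_of_isZero ?_)
  exact (RHom.stalkZero_restrict_iff W.ι ⟨y, hyW⟩ _).1
    (RHom.stalkZero_of_isZero _ (hw.of_iso (DPerf.hdResIso W.ι ((DCoh.Rpush f).obj E) i).symm))

end Groth.Agent.S19620
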