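import Groth.Statements.S19621
import Groth.Agent.Lib.IndCofH28.Div
open Groth.Agent.IndCofH28 CategoryTheory CategoryTheory.Limits

set_option autoImplicit false
universe v
open IndCof

namespace Groth.Agent.S19621

open CategoryTheory CategoryTheory.Limits in
/-- Let C be a small abelian category all of whose objects are Artinian and killed by some positive
integer, and A an ind-object of C of cofinite type (A[n] is isomorphic to an object of C for every n
≥ 1). Then the following are equivalent: (i) the inverse system of copies of A indexed by the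
positive integers ordered by divisibility, with transition map from the m-th to the n-th copy
multiplication by m/n, is Mittag-Leffler (for every n the images of these maps in the n-th copy are
eventually constant): A is divisibly ML; (ii) A has a divisible sub-object B' (multiplication by
every positive integer is an epimorphism of B') such that A/B' is isomorphic to an object of C;
(iii) multiplication by p on A is an epimorphism for all but finitely many primes p. (The published
statement phrases (ii) as: A modulo its divisible part lies in C, and (iii) as: the p-primary part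
of A is divisible for almost all p; the divisible part is the largest divisible sub-object, and
multiplication by p on A is an epimorphism exactly when it is one on the p-primary part, the other
primary parts being uniquely p-divisible.) -/
theorem result {C : Type v} [SmallCategory C] [Abelian C]
    (hart : ∀ X : C, IsArtinianObject X)
    (htor : ∀ X : C, ∃ n : ℕ, 0 < n ∧ n • 𝟙 X = 0)
    (A : Ind C) (hA : ∀ n : ℕ, 0 < n → (Ind.yoneda (C := C)).essImage (kernel (n • 𝟙 A))) :
    ((∀ n : ℕ, 0 < n → ∃ m : ℕ, 0 < m ∧ n ∣ m ∧ ∀ m' : ℕ, 0 < m' → m ∣ m' →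
        imageSubobject ((m' / n) • 𝟙 A) = imageSubobject ((m / n) • 𝟙 A)) ↔
      ∃ B' : Subobject A, (∀ k : ℕ, 0 < k → Epi (k • 𝟙 (B' : Ind C))) ∧
        (Ind.yoneda (C := C)).essImage (cokernel B'.arrow)) ∧
    ((∃ B' : Subobject A, (∀ k : ℕ, 0 < k → Epi (k • 𝟙 (B' : Ind C))) ∧
        (Ind.yoneda (C := C)).essImage (cokernel B'.arrow)) ↔
      {p : ℕ | p.Prime ∧ ¬ Epi (p • 𝟙 A)}.Finite) := by
  classical
  have hkill : ∀ B' : Subobject A, (Ind.yoneda (C := C)).essImage (cokernel B'.arrow) →
      ∃ M, 0 < M ∧ M • 𝟙 (cokernel B'.arrow) = 0 := fun B' hQ => by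
    obtain ⟨M, hM, hX⟩ := htor hQ.witness
    have h0 := congrArg (Ind.yoneda (C := C)).map hX
    rw [Functor.map_nsmul, CategoryTheory.Functor.map_id, Functor.map_zero] at h0
    refine ⟨M, hM, ?_⟩
    rw [← cancel_epi hQ.getIso.hom, comp_zero, comp_smul_id, ← Category.id_comp hQ.getIso.hom,
      ← Preadditive.nsmul_comp, h0, zero_comp]
  have hess : ∀ m : ℕ, 0 < m → (Ind.yoneda (C := C)).essImage (cokernel (imageSubobject (m • 𝟙 A)).arrow) := by
    intro m hm
    haveI : IsIso (cokernel.desc (m • 𝟙 A) (cokernel.π (imageSubobject (m • 𝟙 A)).arrow) (image_comp_π _)) := by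
      refine ⟨cokernel.desc _ (cokernel.π (m • 𝟙 A)) ?_, ?_, ?_⟩
      · rw [← cancel_epi (factorThruImageSubobject (m • 𝟙 A)), ← Category.assoc, imageSubobject_arrow_comp,
          cokernel.condition, comp_zero]
      · exact coequalizer.hom_ext (by simp)
      · exact coequalizer.hom_ext (by simp)
    exact (ess_cokernel_smul hart htor hA hm).of_iso (asIso (cokernel.desc (m • 𝟙 A)
      (cokernel.π (imageSubobject (m • 𝟙 A)).arrow) (image_comp_π _)))
  refine ⟨⟨fun h => ?_, fun ⟨B', hdiv, hQ⟩ => ?_⟩, ⟨fun ⟨B', hdiv, hQ⟩ => ?_, fun hfin => ?_⟩⟩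
  · obtain ⟨m, hm, hepi⟩ := div_of_ml h
    exact ⟨_, hepi, hess m hm⟩
  · obtain ⟨M, hM, hk⟩ := hkill B' hQ
    exact ml_of_div hdiv hM hk
  · obtain ⟨M, hM, hk⟩ := hkill B' hQ
    refine (Set.finite_le_nat M).subset fun p ⟨hp, hnot⟩ => ?_
    by_contra hlt
    refine hnot (epi_of_refine _ fun X a => ?_)
    obtain ⟨u, v, huv⟩ := Nat.Coprime.isCoprime
      (hp.coprime_iff_not_dvd.2 fun hd => hlt (Nat.le_of_dvd hM hd)).symm
    have hMa : B'.Factors (M • a) := Subobject.factors_of_le _ (image_le_of_kills hk dvd_rfl)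
      (factors_image_smul (𝟙 X) a (by simp))
    obtain ⟨X', π, hπ, b, -, e⟩ := refine_of_epi_sub (hdiv p hp.pos) hMa
    refine ⟨X', π, hπ, u • b + v • ((Ind.yoneda (C := C)).map π ≫ a), ?_⟩
    rw [comp_smul_id, smul_add, smul_comm p u, ← e, smul_comm p v, Preadditive.comp_nsmul,
      ← natCast_zsmul _ M, ← natCast_zsmul _ p, smul_smul, smul_smul, ← add_smul, huv, one_smul]
  · choose N hN using fun p : {p : ℕ // p.Prime} => exists_pow_stab hart htor hA p.2
    let F := hfin.toFinset
    let e : ℕ → ℕ := fun p => if hp : p.Prime then N ⟨p, hp⟩ else 0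
    let M := ∏ p ∈ F, p ^ e p
    have hM : 0 < M := Nat.pos_of_ne_zero (Finset.prod_ne_zero_iff.2 fun p hp => (pow_pos ((hfin.mem_toFinset.1 hp).1.pos) _).ne')
    have hq : ∀ q : ℕ, q.Prime →
        Epi (q • 𝟙 ((imageSubobject (M • 𝟙 A) : Subobject A) : Ind C)) := by
      intro q hq
      refine epi_sub_of_refine fun X a ha => ?_
      obtain ⟨X', π, hπ, c, hc⟩ := exists_of_factors_image_smul ha
      obtain ⟨X'', π', hπ', d, hd⟩ : ∃ (X'' : C) (π' : X'' ⟶ X') (_ : Epi π')
          (d : (Ind.yoneda (C := C)).obj X'' ⟶ A),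
          M • ((Ind.yoneda (C := C)).map π' ≫ c) = q • (M • d) := by
        by_cases hF : q ∈ F
        · obtain ⟨X'', π', hπ', d, hd⟩ := hN ⟨q, hq⟩ X' c
          refine ⟨X'', π', hπ', d, ?_⟩
          have he : M = (∏ p ∈ F.erase q, p ^ e p) * q ^ N ⟨q, hq⟩ := by
            simp only [M, ← Finset.prod_erase_mul F _ hF, e, dif_pos hq]
          simp only at hd
          rw [he, mul_smul, hd, smul_smul, smul_smul]
          congr 1
          ring
        · haveI : Epi (q • 𝟙 A) := by
            by_contra h
            exact hF (hfin.mem_toFinset.2 ⟨hq, h⟩)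
          obtain ⟨X'', π', hπ', d, hd⟩ := exists_refine (q • 𝟙 A) c
          exact ⟨X'', π', hπ', d, by rw [hd, comp_smul_id, smul_comm]⟩
      refine ⟨X'', π' ≫ π, epi_comp _ _, M • d, factors_image_smul (𝟙 X'') d (by simp), ?_⟩
      rw [Functor.map_comp, Category.assoc, hc, Preadditive.comp_nsmul, hd]
    refine ⟨_, fun k hk => ?_, hess M hM⟩
    induction k using Nat.strong_induction_on with
    | _ k ih =>
      rcases eq_or_ne k 1 with rfl | hk1
      · rw [one_smul]; infer_instance
      · obtain ⟨q, hqp, c, rfl⟩ := Nat.exists_prime_and_dvd hk1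
        have hc : 0 < c := Nat.pos_of_mul_pos_left hk
        haveI := hq q hqp
        haveI := ih c ((Nat.lt_mul_iff_one_lt_left hc).2 hqp.one_lt) hc
        rw [mul_comm, mul_smul, ← comp_smul_id (q • 𝟙 _) c]
        exact epi_comp _ _

end Groth.Agent.S19621
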