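import Groth.Statements.S19624
import Groth.Agent.Lib.Lattice26.DetDVR
-- import your own Groth.Agent.* helpers here

set_option autoImplicit false
universe u v
open IntTh

namespace Groth.Agent.S19624

/-- Let B be a discrete valuation ring with its normalised additive valuation v (so v(0) = ∞) and ω a
ring automorphism of B. For each i in a finite index set let M_i and N_i be free B-modules with
chosen bases indexed by one and the same finite type, and χ_i : M_i → N_i an additive map which is
ω-semilinear, χ_i(b·x) = ω(b)·χ_i(x); write A_i for the matrix of χ_i in the chosen bases. Then the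
length over B of the cokernel of the direct sum χ = ⊕_i χ_i : ⊕_i M_i → ⊕_i N_i (the quotient of ⊕_i
N_i by the submodule generated by the image of χ) equals v(∏_i det A_i); in particular both sides
are infinite exactly when some det A_i is zero. -/
theorem result {B : Type u} [CommRing B] [IsDomain B]
    [IsDiscreteValuationRing B] (ω : B ≃+* B) {n : ℕ} (r : Fin n → ℕ)
    (M N : Fin n → Type v) [∀ i, AddCommGroup (M i)] [∀ i, Module B (M i)]
    [∀ i, AddCommGroup (N i)] [∀ i, Module B (N i)]
    (bM : ∀ i, Module.Basis (Fin (r i)) B (M i)) (bN : ∀ i, Module.Basis (Fin (r i)) B (N i))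
    (χ : ∀ i, M i →+ N i) (hχ : ∀ i (b : B) (x : M i), χ i (b • x) = ω b • χ i x) :
    Module.length B ((∀ i, N i) ⧸ Submodule.span B (Set.range (fun (x : ∀ i, M i) (i : Fin n) => χ i (x i)))) =
      IsDiscreteValuationRing.addVal B (∏ i, Matrix.det
        (Matrix.of fun (a c : Fin (r i)) => (bN i).repr (χ i (bM i c)) a)) := by
  exact Lattice26.length_coker_pi_semilinear ω r M N bM bN χ hχ

end Groth.Agent.S19624
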