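import Groth.Statements.S19625
import Groth.Agent.Lib.SurfRR10.Restrict
import Groth.Agent.Lib.SurfRR10.Proj
import Groth.Agent.Lib.VB17.Proper
import Groth.Agent.Lib.NumPoly18.SurfCartier

set_option autoImplicit false
set_option maxHeartbeats 1000000
set_option linter.style.haveILetI false
set_option backward.isDefEq.respectTransparency false
set_option backward.isDefEq.respectTransparency.types false
universe u
open CategoryTheory CategoryTheory.Limits AlgebraicGeometry
open Surf

namespace Groth.Agent.S19625

open TopologicalSpace Groth.Agent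
open Groth.Agent.NumPoly18 (ptIdeal)

noncomputable local instance instLaw19625 (Y : Scheme.{u}) : PicGrp.Law Y := M2.law Y

/-- Let k be a field and S an integral surface (dimension two) which is smooth over k and projective (a
closed immersion into some P^n_k over k). Let i : C → S be the closed immersion of an integral curve
(dimension one) all of whose local rings are regular, with ideal sheaf I ⊆ O_S, and let N =
Hom(i^*I, O_C) be the normal sheaf of C in S, the dual of the conormal sheaf i^*I (the sheaf Hom,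
assumed to exist as the right adjoint of tensoring with i^*I). Then the self-intersection number
C·C, namely the intersection number of O_S(C) with itself computed as the alternating sum χ(O_S) −
2χ(I) + χ(I ⊗ I) with the inverse I = O_S(−C) of O_S(C) (packaged as FGA.intNum), equals the degree
of N on C, the degree of a module M on C being χ(M) − χ(O_C). -/
theorem result (k : Type u) [Field k] (S : Scheme.{u}) [S.Over (Spec (CommRingCat.of k))]
    [IsIntegral S] (hdim : topologicalKrullDim S = 2) [Smooth (S ↘ (Spec (CommRingCat.of k)))]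
    (hproj : ∃ (n : ℕ) (ι : S ⟶ CohB1.ProjSpace n k), IsClosedImmersion ι ∧ ι ≫ CohB1.ProjSpace.toSpec n k = (S ↘ (Spec (CommRingCat.of k))))
    (C : Scheme.{u}) (i : C ⟶ S) [IsClosedImmersion i] [IsIntegral C] (hC : topologicalKrullDim C = 1)
    (hCreg : ∀ c : C, IsRegularLocalRing (C.presheaf.stalk c))
    [DCoh.HasSheafHom (Omega.conormal i)] :
    letI : C.Over (Spec (CommRingCat.of k)) := ⟨i ≫ (S ↘ (Spec (CommRingCat.of k)))⟩
    FGA.intNum k S 2 ![ClSub.idealMod i.ker, ClSub.idealMod i.ker] (Coh.structureModule S) =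
      Curv2.deg k C ((DCoh.sheafHom (Omega.conormal i)).obj (Coh.structureModule C)) 1 := by
  letI : C.Over (Spec (CommRingCat.of k)) := ⟨i ≫ (S ↘ (Spec (CommRingCat.of k)))⟩
  obtain ⟨n, ι, hι, hιk⟩ := hproj
  haveI := hι
  haveI : IsProper (S ↘ Spec (CommRingCat.of k)) := NumPoly18.isProper_of_closedImmersion ι hιk
  haveI : IsProper (C ↘ Spec (CommRingCat.of k)) :=
    inferInstanceAs (IsProper (i ≫ (S ↘ (Spec (CommRingCat.of k)))))
  have hd : topologicalKrullDim S ≤ ((2 : ℕ) : WithBot ℕ∞) := by rw [hdim]; rfl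
  -- the curve as a prime divisor
  let ξ := i (genericPoint ↥C)
  have hrange : Set.range i = closure ({ξ} : Set S) := by
    refine Set.Subset.antisymm ?_ (closure_minimal (Set.singleton_subset_iff.2 ⟨_, rfl⟩) i.isClosedEmbedding.isClosed_range)
    rintro _ ⟨c, rfl⟩
    exact specializes_iff_mem_closure.1 ((genericPoint_specializes c).map i.continuous)
  have hker : i.ker = ptIdeal ξ := by
    rw [SchImage.ker_eq_vanishingIdeal i]
    congr 1
    refine Closeds.ext ?_
    show closure (Set.range i) = closure {ξ}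
    rw [hrange, closure_closure]
  have hξ : topologicalKrullDim (closure ({ξ} : Set S)) = 1 := by
    rw [← hrange, ← i.isClosedEmbedding.isEmbedding.toHomeomorph.isHomeomorph.topologicalKrullDim_eq, hC]
  have hI : BlowUp.IsEffCartierIdeal i.ker := by
    rw [hker]; exact NumPoly18.isEffCartier_ptIdeal (k := k) (by rw [hdim]; rfl) hξ
  have hIi := M2.isInvertible_idealMod _ hI
  obtain ⟨N, hN, ⟨e⟩⟩ := M2.exists_inverse hIi
  have h1 := SurfRR10.sdot_curve (k := k) i rfl hI hN ⟨M2.tensorComm N _ ≪≫ e⟩ hd (PicGrp.cls _ hIi)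
  have h2 : SymSq10.sdot k (PicGrp.cls _ hIi) (PicGrp.cls _ hIi) = - SymSq10.sdot k (PicGrp.cls N hN) (PicGrp.cls _ hIi) := by
    have h := SymSq10.sdot_mul (k := k) hd (PicGrp.cls _ hIi) (PicGrp.cls N hN) (PicGrp.cls _ hIi)
    rw [(PicGrp.cls_mul_cls_eq_one_iff hIi hN).2 ⟨e⟩, SymSq10.sdot_one_left] at h
    linarith
  have hi1 : PicF.IsInvertible ((Scheme.Modules.pullback i).obj (ClSub.idealMod i.ker)) :=
    PicLoc.isInvertible_pullback i hIi
  have hi2 : PicF.IsInvertible ((Scheme.Modules.pullback i).obj N) := PicLoc.isInvertible_pullback i hN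
  obtain ⟨u⟩ := SurfRR10.nonempty_sheafHom_invertible (L := Omega.conormal i)
    (M := (Scheme.Modules.pullback i).obj N) hi1 (Kunneth22.pullInv i e) (Coh.structureModule C)
  have hX : CurveCoh17.CurveLike k C := VB17.curveLike (k := k) hC
  rw [SymSq10.intNum_eq' (k := k) hd hIi hIi, h2, h1, show Abel10.pc i (PicGrp.cls _ hIi) = PicGrp.cls _ hi1 from
    PicGrp.pullHom_cls i _ _ hIi, ← HypSq10.deg_eq hi1, CurveCoh17.deg_iso (u ≪≫ M2.tensorComm _ _ ≪≫ M2.tensorLUnit _),
    hX.deg_of_tensor_iso hi1 hi2 (Kunneth22.pullInv i e)]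

end Groth.Agent.S19625
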