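import Groth.Statements.S19628
import Groth.Agent.Lib.DR2.RingBC

set_option autoImplicit false
set_option backward.isDefEq.respectTransparency.types false
set_option backward.isDefEq.respectTransparency false
set_option synthInstance.maxHeartbeats 400000
universe u
open DeRham

namespace Groth.Agent.S19628

open exteriorPower in
/-- In the affine case, at ring level, let k ⊆ K be an extension of fields of characteristic zero, A a
smooth k-algebra and A' = K ⊗_k A (a pushout square of commutative rings with the scalar-tower
conventions). Let d be the de Rham differential of A over k, d' that of A' over K, and ψ the map of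
de Rham complexes induced by A → A', assumed compatible with d and d'. Then for every p the K-span
of ψ(closed p-forms of A/k) is the module of closed p-forms of A'/K, and the K-span of ψ(exact
p-forms of A/k) is the module of exact p-forms of A'/K. Together with the degreewise base-change
bijection for exterior powers of differentials, this says that the natural map H^p_dR(A/k) ⊗_k K →
H^p_dR(A'/K) is an isomorphism. (The source states the isomorphism H^i_dR(X) ⊗_k K ≅ H^i_dR(X_K) for
a smooth variety X, induced by a quasi-isomorphism of complexes; this row is the case of an affine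
X, phrased through closed and exact forms.) -/
theorem result
    (k K : Type u) [Field k] [Field K] [CharZero k] [Algebra k K]
    (A A' : Type u) [CommRing A] [CommRing A'] [Algebra k A] [Algebra.Smooth k A]
    [Algebra A A'] [Algebra k A'] [IsScalarTower k A A'] [Algebra K A'] [IsScalarTower k K A']
    [Algebra.IsPushout k K A A']
    (d : ∀ p : ℕ, ↥(⋀[A]^p (Ω[A⁄k])) →ₗ[k] ↥(⋀[A]^(p + 1) (Ω[A⁄k])))
    (hd : DeRham.IsDiff (KaehlerDifferential.D k A) d)
    (d' : ∀ p : ℕ, ↥(⋀[A']^p (Ω[A'⁄K])) →ₗ[K] ↥(⋀[A']^(p + 1) (Ω[A'⁄K])))
    (hd' : DeRham.IsDiff (KaehlerDifferential.D K A') d')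
    (ψ : ∀ p : ℕ, ↥(⋀[A]^p (Ω[A⁄k])) →+ ↥(⋀[A']^p (Ω[A'⁄K])))
    (hψ : DeRham.IsCxMap (KaehlerDifferential.D k A) (KaehlerDifferential.D K A') (algebraMap A A') ψ)
    (hcomm : ∀ (p : ℕ) (x : ↥(⋀[A]^p (Ω[A⁄k]))), ψ (p + 1) (d p x) = d' p (ψ p x))
    (p : ℕ) :
    Submodule.span K (ψ p '' (DeRham.cocycles d p : Set ↥(⋀[A]^p (Ω[A⁄k])))) = DeRham.cocycles d' p ∧
      Submodule.span K (ψ p '' (DeRham.coboundaries d p : Set ↥(⋀[A]^p (Ω[A⁄k])))) =
        DeRham.coboundaries d' p := by
  exact Groth.Agent.DR2.span_cocycles_coboundaries_baseChange d d' ψ hψ hcomm p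

end Groth.Agent.S19628
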