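import Groth.Statements.S19629
import Groth.Agent.Lib.CechLift2.Basic

set_option autoImplicit false
universe u
open DeRham

namespace Groth.Agent.S19629

open exteriorPower in
/-- In the chart case reached in its proof, let k be a field of characteristic zero and A a smooth
k-algebra carrying functions t_1, …, t_d whose differentials form a basis of Ω_{A/k} (a global
system of étale coordinates on X = Spec A), and let D_1, …, D_n be the coordinate hyperplanes
t_{e(1)} = 0, …, t_{e(n)} = 0 for an injection e, so that D = D_1 ∪ ⋯ ∪ D_n is a simple normal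
crossings divisor. For I ⊆ {1, …, n} write A_I = A/(t_{e(i)} : i ∈ I) for the coordinate ring of D_I
= ⋂_{i ∈ I} D_i, and let ψ_{I,J} (I ⊆ J) be the maps of de Rham complexes induced by the surjections
A_I → A_J. Then whenever s + 1 + m = d, the Čech differential ∏_{|I| = s} Ω^m_{A_I/k} → ∏_{|J| =
s+1} Ω^m_{A_J/k}, (ω_I) ↦ (Σ_{j ∈ J} ± ψ_{J∖j,J}(ω_{J∖j}))_J with the usual alternating signs, is
surjective; for s = 0 this is the surjectivity of Ω^{d-1}(X) → ⊕_i Ω^{d-1}(D_i). (The source states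
the surjectivity for a smooth affine variety X of dimension d with a simple normal crossings divisor
and reduces to this chart case étale-locally; here A_∅ is A/0 rather than A.) -/
theorem result
    (k : Type u) [Field k] [CharZero k] (A : Type u) [CommRing A] [Algebra k A] [Algebra.Smooth k A]
    (d n : ℕ) (t : Fin d → A) (e : Fin n ↪ Fin d)
    (b : Module.Basis (Fin d) A (Ω[A⁄k])) (hb : ∀ i, b i = KaehlerDifferential.D k A (t i))
    (ψ : ∀ (I J : Finset (Fin n)) (p : ℕ), ↥(⋀[(A ⧸ (⨆ i ∈ I, Ideal.span {t (e i)} : Ideal A))]^p (Ω[(A ⧸ (⨆ i ∈ I, Ideal.span {t (e i)} : Ideal A))⁄k])) →+ ↥(⋀[(A ⧸ (⨆ i ∈ J, Ideal.span {t (e i)} : Ideal A))]^p (Ω[(A ⧸ (⨆ i ∈ J, Ideal.span {t (e i)} : Ideal A))⁄k])))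
    (hψ : ∀ (I J : Finset (Fin n)) (h : I ⊆ J),
      DeRham.IsCxMap (KaehlerDifferential.D k (A ⧸ (⨆ i ∈ I, Ideal.span {t (e i)} : Ideal A))) (KaehlerDifferential.D k (A ⧸ (⨆ i ∈ J, Ideal.span {t (e i)} : Ideal A)))
        (Ideal.Quotient.factor (biSup_mono h)) (ψ I J))
    (s m : ℕ) (hs : s + 1 + m = d)
    (g : ∀ J : Finset (Fin n), ↥(⋀[(A ⧸ (⨆ i ∈ J, Ideal.span {t (e i)} : Ideal A))]^m (Ω[(A ⧸ (⨆ i ∈ J, Ideal.span {t (e i)} : Ideal A))⁄k]))) :
    ∃ ω : ∀ I : Finset (Fin n), ↥(⋀[(A ⧸ (⨆ i ∈ I, Ideal.span {t (e i)} : Ideal A))]^m (Ω[(A ⧸ (⨆ i ∈ I, Ideal.span {t (e i)} : Ideal A))⁄k])),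
      ∀ J : Finset (Fin n), J.card = s + 1 →
        (∑ j ∈ J.attach,
          ((-1 : ℤ) ^ (J.filter (fun i => i < j.1)).card) •
            ψ (J.erase j.1) J m (ω (J.erase j.1))) = g J := by
  refine Groth.Agent.CechLift2.exists_lift k t e hs ψ hψ ?_ g
  rw [← b.span_eq]
  exact congrArg (fun f => Submodule.span A (Set.range f)) (funext fun i => (hb i).symm)

end Groth.Agent.S19629
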