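import Groth.Statements.S19630
import Groth.Agent.Lib.DeRhamH7.Gen
import Mathlib.RingTheory.Unramified.Field
import Mathlib.RingTheory.Kaehler.TensorProduct

set_option autoImplicit false
universe u
open DeRham

namespace Groth.Agent.S19630

open exteriorPower in
/-- In the affine case, at ring level, let k ⊆ K be a finite extension of fields of characteristic zero
and B a smooth K-algebra, so that Y = Spec B is a smooth affine variety over K which may also be
regarded over k. Let ψ be the map of de Rham complexes from Ω•_{B/k} to Ω•_{B/K} induced by the
identity of B. Then ψ is bijective in every degree: the de Rham complex of Y over k and over K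
coincide, and hence the natural map H^i_dR(Y/k) → H^i_dR(Y/K) is an isomorphism. (The source states
the isomorphism on de Rham cohomology for any smooth variety Y over K, through the equality of the
two de Rham complexes; this row is that equality for affine Y.) -/
theorem result
    (k K : Type u) [Field k] [Field K] [CharZero k] [Algebra k K] [Module.Finite k K]
    (B : Type u) [CommRing B] [Algebra K B] [Algebra k B] [IsScalarTower k K B] [Algebra.Smooth K B]
    (ψ : ∀ p : ℕ, ↥(⋀[B]^p (Ω[B⁄k])) →+ ↥(⋀[B]^p (Ω[B⁄K])))
    (hψ : DeRham.IsCxMap (KaehlerDifferential.D k B) (KaehlerDifferential.D K B) (RingHom.id B) ψ)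
    (p : ℕ) :
    Function.Bijective (ψ p) := by
  haveI : Algebra.IsAlgebraic k K := Algebra.IsAlgebraic.of_finite k K
  haveI : Algebra.FormallyUnramified k K := Algebra.FormallyUnramified.of_isSeparable k K
  let l := KaehlerDifferential.map k K B B
  have hinj : Function.Injective l := by
    rw [injective_iff_map_eq_zero]
    intro x hx
    obtain ⟨y, rfl⟩ := (KaehlerDifferential.exact_mapBaseChange_map k K B x).1 hx
    rw [Subsingleton.elim y 0, map_zero]
  let e := LinearEquiv.ofBijective l ⟨hinj, KaehlerDifferential.map_surjective k K B⟩
  have he : ψ p = (exteriorPower.map p e.toLinearMap).toAddMonoidHom := by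
    refine DeRhamH7.ext_gen (KaehlerDifferential.span_range_derivation k B) fun b₀ b => ?_
    rw [hψ p b₀ b, DeRham.gen, DeRham.gen, LinearMap.toAddMonoidHom_coe, map_smul, exteriorPower.map_apply_ιMulti]
    congr 2
    funext i
    exact (KaehlerDifferential.map_D k K B B (b i)).symm
  rw [he]
  refine Function.bijective_iff_has_inverse.2 ⟨exteriorPower.map p e.symm.toLinearMap, fun x => ?_, fun x => ?_⟩
  · show (exteriorPower.map p e.symm.toLinearMap ∘ₗ exteriorPower.map p e.toLinearMap) x = x
    rw [← exteriorPower.map_comp, e.symm_comp, exteriorPower.map_id]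
    rfl
  · show (exteriorPower.map p e.toLinearMap ∘ₗ exteriorPower.map p e.symm.toLinearMap) x = x
    rw [← exteriorPower.map_comp, e.comp_symm, exteriorPower.map_id]
    rfl

end Groth.Agent.S19630
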