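import Groth.Statements.S19631
import Mathlib.AlgebraicGeometry.Morphisms.Proper
import Mathlib.AlgebraicGeometry.Morphisms.Etale
import Mathlib.AlgebraicGeometry.Morphisms.Separated
import Mathlib.AlgebraicGeometry.Morphisms.FormallyUnramified
import Mathlib.AlgebraicGeometry.ResidueField
import Mathlib.AlgebraicGeometry.Pullbacks
import Mathlib.AlgebraicTopology.CechNerve
import Mathlib.AlgebraicTopology.SimplicialObject.Coskeletal
import Mathlib.CategoryTheory.Limits.Constructions.Over.Basic
import Mathlib.CategoryTheory.Limits.Filtered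
import Mathlib.CategoryTheory.Limits.Preserves.Filtered
import Mathlib.CategoryTheory.Limits.Shapes.Pullback.Mono
import Mathlib.CategoryTheory.Limits.Types.Pullbacks
import Mathlib.CategoryTheory.Functor.ReflectsIso.Basic
import Mathlib.Tactic

set_option autoImplicit false
universe u
open Hyper

namespace Groth.Agent.S19631

open CategoryTheory CategoryTheory.Limits AlgebraicGeometry in
/-- Let f : X → Y be a morphism of schemes and X_• = cosk_0^Y(X) its Čech nerve, the simplicial scheme
over Y with X_p = X ×_Y ⋯ ×_Y X (p + 1 factors), face maps the projections forgetting one factor and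
degeneracies induced by diagonals. Then X_•, as a simplicial object of the category of schemes over
Y, is n-coskeletal for every n, i.e. the adjunction morphisms X_• → cosk_n sk_n X_• (coskeleta
relative to Y) are isomorphisms. In the source this is phrased as: for a class S of covering maps of
varieties containing the identities, X_• → Y is an S-hypercover whenever X → Y lies in S, the
adjunction maps X_p → (cosk_{p-1} sk_{p-1} X_•)_p being isomorphisms for p ≥ 1 and X_0 → Y being f.
(Stated for arbitrary schemes; the source has varieties over a field.) -/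
theorem result (X Y : Scheme.{u}) (f : X ⟶ Y) (n : ℕ) :
    SimplicialObject.IsCoskeletal (cechNerveTerminalFrom (Over.mk f)) n := by
  let z : SimplexCategory.Truncated n := ⟨SimplexCategory.mk 0, Nat.zero_le n⟩
  let cst : ∀ (m : SimplexCategory) (i : Fin (m.len + 1)), SimplexCategory.mk 0 ⟶ m := fun m i =>
    SimplexCategory.const (SimplexCategory.mk 0) m i
  let π : ∀ (m : SimplexCategoryᵒᵖ) (i : Fin (m.unop.len + 1)),
      (cechNerveTerminalFrom (Over.mk f)).obj m ⟶ Over.mk f :=
    fun m i => Pi.π (fun _ : Fin (m.unop.len + 1) => Over.mk f) i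
  have hext : ∀ (m : SimplexCategoryᵒᵖ) (W : Over Y) (a b : W ⟶ (cechNerveTerminalFrom (Over.mk f)).obj m),
      (∀ i, a ≫ π m i = b ≫ π m i) → a = b := fun m W a b h => Pi.hom_ext _ _ h
  have hmap : ∀ (m m' : SimplexCategoryᵒᵖ) (g : m ⟶ m') (i : Fin (m'.unop.len + 1)),
      (cechNerveTerminalFrom (Over.mk f)).map g ≫ π m' i = π m (g.unop.toOrderHom i) :=
    fun m m' g i => Pi.lift_π _ i
  refine ⟨⟨⟨IsTerminal.ofUniqueHom (fun E => ?_) (fun E g => ?_)⟩⟩⟩
  · let v : E.left.obj (Opposite.op (SimplexCategory.mk 0)) ⟶ Over.mk f :=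
      E.hom.app (Opposite.op z) ≫ π (Opposite.op (SimplexCategory.mk 0)) 0
    let ψ : ∀ m, E.left.obj m ⟶ (cechNerveTerminalFrom (Over.mk f)).obj m := fun m =>
      Pi.lift fun i => E.left.map (cst m.unop i).op ≫ v
    have hψ : ∀ m i, ψ m ≫ π m i = E.left.map (cst m.unop i).op ≫ v := fun m i => Pi.lift_π _ i
    refine CostructuredArrow.homMk { app := ψ, naturality := fun m m' g => ?_ } ?_
    · apply hext
      intro i
      change (E.left.map g ≫ ψ m') ≫ π m' i =
        (ψ m ≫ (cechNerveTerminalFrom (Over.mk f)).map g) ≫ π m' i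
      rw [Category.assoc, Category.assoc, hψ, hmap, hψ, ← Functor.map_comp_assoc]
      congr 2
    · refine NatTrans.ext (funext fun l => hext _ _ _ _ fun i => ?_)
      let t : z ⟶ l.unop := SimplexCategory.Truncated.Hom.tr (cst l.unop.obj i) (Nat.zero_le n) l.unop.property
      have hnat := E.hom.naturality t.op
      change (ψ (Opposite.op l.unop.obj) ≫ 𝟙 _) ≫ π (Opposite.op l.unop.obj) i =
        E.hom.app l ≫ π (Opposite.op l.unop.obj) i
      rw [Category.comp_id, hψ]
      change E.left.map (cst l.unop.obj i).op ≫ E.hom.app (Opposite.op z) ≫ _ = _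
      rw [← Category.assoc]
      refine (congrArg (fun q => q ≫ π (Opposite.op (SimplexCategory.mk 0)) 0) hnat).trans ?_
      change (E.hom.app l ≫ (cechNerveTerminalFrom (Over.mk f)).map (cst l.unop.obj i).op) ≫ _ = _
      rw [Category.assoc, hmap]
      rfl
  · ext m : 2
    apply hext
    intro i
    have hg := congr_app (CostructuredArrow.w g) (Opposite.op z)
    change g.left.app m ≫ π m i = Pi.lift _ ≫ Pi.π (fun _ : Fin (m.unop.len + 1) => Over.mk f) i
    rw [Pi.lift_π]
    change g.left.app m ≫ π m i = E.left.map (cst m.unop i).op ≫ E.hom.app (Opposite.op z) ≫ π (Opposite.op (SimplexCategory.mk 0)) 0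
    rw [← hg]
    change g.left.app m ≫ π m i = E.left.map (cst m.unop i).op ≫ (g.left.app (Opposite.op (SimplexCategory.mk 0)) ≫ 𝟙 _) ≫ π (Opposite.op (SimplexCategory.mk 0)) 0
    erw [Category.comp_id, ← Category.assoc, g.left.naturality]
    change g.left.app m ≫ π m i = (g.left.app m ≫ (cechNerveTerminalFrom (Over.mk f)).map (cst m.unop i).op) ≫ _
    exact ((congrArg (fun q => g.left.app m ≫ q) ((hmap _ _ (cst m.unop i).op 0).trans rfl)).symm).trans
      (Category.assoc _ _ _).symm

end Groth.Agent.S19631
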