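import Groth.Statements.S19632
import Mathlib.Algebra.Polynomial.Laurent
import Mathlib.RingTheory.Kaehler.Basic
import Mathlib.LinearAlgebra.Finsupp.LSum

set_option autoImplicit false
universe u
open DeRham

namespace Groth.Agent.S19632

/-- Let k be a field of characteristic zero and G_m = Spec k[t, t⁻¹] the multiplicative group. The
kernel of the differential d : k[t, t⁻¹] → Ω¹ of the de Rham complex of G_m consists of the
constants: for a Laurent polynomial f, df = 0 if and only if f lies in the image of k. Equivalently
H^0_dR(G_m/k) = k. (Characteristic zero is used: in characteristic p the element t^p is closed.) -/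
theorem result (k : Type u) [Field k] [CharZero k]
    (f : LaurentPolynomial k) :
    KaehlerDifferential.D k (LaurentPolynomial k) f = 0 ↔ f ∈ Set.range (algebraMap k (LaurentPolynomial k)) := by
  open LaurentPolynomial in
  let L : LaurentPolynomial k →ₗ[k] LaurentPolynomial k :=
    (Finsupp.lsum k fun n : ℤ => LinearMap.toSpanSingleton k (LaurentPolynomial k)
      ((n : k) • T (n - 1))) ∘ₗ (AddMonoidAlgebra.coeffLinearEquiv k).toLinearMap
  have hL : ∀ n r, L (C r * T n) = C (r * (n : k)) * T (n - 1) := fun n r => by
    have hc : (C r * T n : LaurentPolynomial k).coeff = Finsupp.single n r := by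
      rw [← single_eq_C_mul_T]; rfl
    show Finsupp.sum (C r * T n : LaurentPolynomial k).coeff _ = _
    rw [hc, Finsupp.sum_single_index]
    · simp [smul_eq_C_mul]
      ring
    · simp
  have hLeib : ∀ f g, L (f * g) = f • L g + g • L f := by
    intro f g
    simp only [smul_eq_mul]
    induction f using LaurentPolynomial.induction_on' with
    | add p q hp hq => simp only [add_mul, map_add, hp, hq]; ring
    | C_mul_T a r =>
      induction g using LaurentPolynomial.induction_on' with
      | add p q hp hq => simp only [mul_add, map_add, hp, hq]; ring
      | C_mul_T b s =>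
        rw [show C r * T a * (C s * T b) = C (r * s) * T (a + b) by rw [map_mul, T_add]; ring,
          hL, hL, hL, show C r * T a * (C (s * (b : k)) * T (b - 1)) +
            C s * T b * (C (r * (a : k)) * T (a - 1)) =
            C (r * (s * (b : k))) * (T a * T (b - 1)) + C (s * (r * (a : k))) * (T b * T (a - 1)) by
              simp only [map_mul]; ring]
        rw [← T_add, ← T_add, show a + (b - 1) = a + b - 1 by ring,
          show b + (a - 1) = a + b - 1 by ring, ← add_mul, ← map_add]
        push_cast
        ring_nf
  let der : Derivation k (LaurentPolynomial k) (LaurentPolynomial k) := Derivation.mk' L hLeib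
  constructor
  · intro h
    have h0 : L f = 0 := by
      have := der.liftKaehlerDifferential_comp_D f
      rw [h, map_zero] at this
      exact this.symm
    have hcoeff : ∀ (g : LaurentPolynomial k) (n : ℤ), (L g).coeff (n - 1) = g.coeff n * (n : k) := by
      intro g n
      induction g using LaurentPolynomial.induction_on' with
      | add p q hp hq => simp [map_add, hp, hq, add_mul]
      | C_mul_T a r =>
        rw [hL, ← single_eq_C_mul_T, ← single_eq_C_mul_T]
        simp only [AddMonoidAlgebra.coeff_single, Finsupp.single_apply]
        by_cases hna : a = n
        · subst hna; simp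
        · simp [hna]
    refine ⟨f.coeff 0, ?_⟩
    ext n
    rw [← C_eq_algebraMap, ← single_eq_C, AddMonoidAlgebra.coeff_single, Finsupp.single_apply]
    by_cases hn : (0 : ℤ) = n
    · subst hn; simp
    · have := hcoeff f n
      rw [h0] at this
      simp only [AddMonoidAlgebra.coeff_zero, Finsupp.zero_apply] at this
      rw [if_neg hn]
      rcases mul_eq_zero.1 this.symm with h1 | h1
      · exact h1.symm
      · exact absurd (Int.cast_eq_zero.1 h1) (fun h2 => hn h2.symm)
  · rintro ⟨c, rfl⟩
    exact Derivation.map_algebraMap _ c

end Groth.Agent.S19632
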