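import Groth.Statements.S19634
import Groth.Agent.Lib.DeRhamH7.Node

set_option autoImplicit false
universe u
open DeRham

namespace Groth.Agent.S19634

/-- Let k be a field of characteristic zero and A = k[X, Y]/(XY), the coordinate ring of two affine
lines crossing in a point. In the naive de Rham complex A → Ω¹_{A/k} the kernel of d consists of the
constants: dP = 0 if and only if P is in the image of k. -/
theorem result (k : Type u) [Field k] [CharZero k]
    (P : MvPolynomial (Fin 2) k ⧸ Ideal.span {(MvPolynomial.X 0 * MvPolynomial.X 1 : MvPolynomial (Fin 2) k)}) :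
    KaehlerDifferential.D k (MvPolynomial (Fin 2) k ⧸ Ideal.span {(MvPolynomial.X 0 * MvPolynomial.X 1 : MvPolynomial (Fin 2) k)}) P = 0 ↔
      P ∈ Set.range (algebraMap k (MvPolynomial (Fin 2) k ⧸ Ideal.span {(MvPolynomial.X 0 * MvPolynomial.X 1 : MvPolynomial (Fin 2) k)})) := by
  exact DeRhamH7.D_node_eq_zero_iff k P

end Groth.Agent.S19634
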