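import Groth.Statements.S19636
import Groth.Agent.Lib.CechLift2.Basic

set_option autoImplicit false
universe u
open DeRham

namespace Groth.Agent.S19636

open exteriorPower in
/-- In the chart case, let k be a field of characteristic zero, A a smooth k-algebra with functions t_1,
…, t_d whose differentials form a basis of Ω_{A/k}, D_1, …, D_n the coordinate hyperplanes t_{e(1)}
= 0, …, t_{e(n)} = 0 for an injection e (a simple normal crossings divisor D on X = Spec A), A_I =
A/(t_{e(i)} : i ∈ I) the coordinate ring of D_I = ⋂_{i∈I} D_i, ψ_{I,J} the maps of de Rham complexes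
induced by A_I → A_J, and d_I the de Rham differential of A_I over k. Consider the double complex
with component Ω^q(A_I/k) in bidegree (I, q), horizontal Čech differential (alternating sum of the
ψ_{J∖j,J}) and vertical differential (−1)^{|I|} d_I; its total complex computes the relative de Rham
cohomology of (X, D). Then every cochain ω of total degree d agrees, on all components with I
nonempty, with the total differential of some cochain η of degree d − 1; that is, modulo
coboundaries ω is concentrated on the component Ω^d(A_∅/k) = Ω^d(X), so every class in H^d_dR(X, D)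
is represented by a d-form on X. (The source states this for a smooth affine variety of dimension d
with a simple normal crossings divisor; the chart case with global coordinates is the one its proof
treats, and the double-complex description of H^d_dR(X, D) is taken as the setting.) -/
theorem result
    (k : Type u) [Field k] [CharZero k] (A : Type u) [CommRing A] [Algebra k A] [Algebra.Smooth k A]
    (d n : ℕ) (t : Fin d → A) (e : Fin n ↪ Fin d)
    (b : Module.Basis (Fin d) A (Ω[A⁄k])) (hb : ∀ i, b i = KaehlerDifferential.D k A (t i))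
    (ψ : ∀ (I J : Finset (Fin n)) (p : ℕ), ↥(⋀[(A ⧸ (⨆ i ∈ I, Ideal.span {t (e i)} : Ideal A))]^p (Ω[(A ⧸ (⨆ i ∈ I, Ideal.span {t (e i)} : Ideal A))⁄k])) →+ ↥(⋀[(A ⧸ (⨆ i ∈ J, Ideal.span {t (e i)} : Ideal A))]^p (Ω[(A ⧸ (⨆ i ∈ J, Ideal.span {t (e i)} : Ideal A))⁄k])))
    (hψ : ∀ (I J : Finset (Fin n)) (h : I ⊆ J),
      DeRham.IsCxMap (KaehlerDifferential.D k (A ⧸ (⨆ i ∈ I, Ideal.span {t (e i)} : Ideal A))) (KaehlerDifferential.D k (A ⧸ (⨆ i ∈ J, Ideal.span {t (e i)} : Ideal A)))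
        (Ideal.Quotient.factor (biSup_mono h)) (ψ I J))
    (dq : ∀ (I : Finset (Fin n)) (p : ℕ), ↥(⋀[(A ⧸ (⨆ i ∈ I, Ideal.span {t (e i)} : Ideal A))]^p (Ω[(A ⧸ (⨆ i ∈ I, Ideal.span {t (e i)} : Ideal A))⁄k])) →ₗ[k] ↥(⋀[(A ⧸ (⨆ i ∈ I, Ideal.span {t (e i)} : Ideal A))]^(p + 1) (Ω[(A ⧸ (⨆ i ∈ I, Ideal.span {t (e i)} : Ideal A))⁄k])))
    (hdq : ∀ I : Finset (Fin n), DeRham.IsDiff (KaehlerDifferential.D k (A ⧸ (⨆ i ∈ I, Ideal.span {t (e i)} : Ideal A))) (dq I))
    (ω : ∀ (J : Finset (Fin n)) (q : ℕ), ↥(⋀[(A ⧸ (⨆ i ∈ J, Ideal.span {t (e i)} : Ideal A))]^q (Ω[(A ⧸ (⨆ i ∈ J, Ideal.span {t (e i)} : Ideal A))⁄k]))) :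
    ∃ η : ∀ (I : Finset (Fin n)) (q : ℕ), ↥(⋀[(A ⧸ (⨆ i ∈ I, Ideal.span {t (e i)} : Ideal A))]^q (Ω[(A ⧸ (⨆ i ∈ I, Ideal.span {t (e i)} : Ideal A))⁄k])),
      (∀ (J : Finset (Fin n)) (q : ℕ), J.Nonempty → J.card + (q + 1) = d →
        ω J (q + 1) =
          (∑ j ∈ J.attach, ((-1 : ℤ) ^ (J.filter (fun i => i < j.1)).card) • ψ (J.erase j.1) J (q + 1) (η (J.erase j.1) (q + 1))) +
            ((-1 : ℤ) ^ J.card) • dq J q (η J q)) ∧
      (∀ J : Finset (Fin n), J.Nonempty → J.card = d →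
        ω J 0 = ∑ j ∈ J.attach, ((-1 : ℤ) ^ (J.filter (fun i => i < j.1)).card) • ψ (J.erase j.1) J 0 (η (J.erase j.1) 0)) := by
  classical
  have hspan : Submodule.span A (Set.range fun x => KaehlerDifferential.D k A (t x)) = ⊤ := by
    rw [← b.span_eq]
    exact congrArg (fun f => Submodule.span A (Set.range f)) (funext fun i => (hb i).symm)
  -- total lifting: at degree `m`, stratum size `d - m`
  have L : ∀ (m : ℕ) (g : ∀ J : Finset (Fin n), ↥(⋀[Groth.Agent.CechLift2.Q t e J]^m (Ω[Groth.Agent.CechLift2.Q t e J⁄k]))),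
      ∃ η : ∀ I : Finset (Fin n), ↥(⋀[Groth.Agent.CechLift2.Q t e I]^m (Ω[Groth.Agent.CechLift2.Q t e I⁄k])),
        ∀ J : Finset (Fin n), J.Nonempty → J.card + m = d →
          (∑ j ∈ J.attach, ((-1 : ℤ) ^ (J.filter (fun i => i < j.1)).card) •
            ψ (J.erase j.1) J m (η (J.erase j.1))) = g J := by
    intro m g
    by_cases h : m < d
    · obtain ⟨η, hη⟩ := Groth.Agent.CechLift2.exists_lift k t e (s := d - m - 1) (m := m) (by omega) ψ hψ hspan g
      exact ⟨η, fun J hne hJ => hη J (by omega)⟩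
    · exact ⟨fun _ => 0, fun J hne hJ => absurd hJ (by have := hne.card_pos; omega)⟩
  choose η' hη' using L
  let rec' : ∀ q : ℕ, ∀ I : Finset (Fin n), ↥(⋀[Groth.Agent.CechLift2.Q t e I]^q (Ω[Groth.Agent.CechLift2.Q t e I⁄k])) :=
    fun q => Nat.rec (motive := fun q => ∀ I : Finset (Fin n), ↥(⋀[Groth.Agent.CechLift2.Q t e I]^q (Ω[Groth.Agent.CechLift2.Q t e I⁄k])))
      (η' 0 fun J => ω J 0)
      (fun q prev => η' (q + 1) fun J => ω J (q + 1) - ((-1 : ℤ) ^ J.card) • dq J q (prev J)) q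
  refine ⟨fun I q => rec' q I, fun J q hne hJ => ?_, fun J hne hJ => ?_⟩
  · have h := hη' (q + 1) (fun J => ω J (q + 1) - ((-1 : ℤ) ^ J.card) • dq J q (rec' q J)) J hne hJ
    exact ((congrArg (· + ((-1 : ℤ) ^ J.card) • dq J q (rec' q J)) h).trans (sub_add_cancel _ _)).symm
  · exact (hη' 0 (fun J => ω J 0) J hne (by omega)).symm

end Groth.Agent.S19636
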