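import Groth.Statements.S19649
import Mathlib

set_option autoImplicit false
universe u v
open Instab

namespace Groth.Agent.S19649

section
open MvPolynomial DirectSum

variable {R : Type u} [CommRing R] {n : ℕ}
    {P : Type v} [AddCommGroup P] [Module (MvPolynomial (Fin n) R) P] [Module R P]
    [IsScalarTower R (MvPolynomial (Fin n) R) P]
    (ℳ : (Fin n → ℤ) → Submodule R P) [DirectSum.Decomposition ℳ]
    [SetLike.GradedSMul (MvPolynomial.weightedHomogeneousSubmodule R (fun i : Fin n => (Pi.single i 1 : Fin n → ℤ))) ℳ]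

local notation "𝔸" => MvPolynomial (Fin n) R

noncomputable def wt (s : Fin n →₀ ℕ) : Fin n → ℤ :=
  Finsupp.weight (fun i : Fin n => (Pi.single i 1 : Fin n → ℤ)) s

def tot (d : Fin n → ℤ) : ℤ := ∑ i, d i

lemma tot_wt_nonneg (s : Fin n →₀ ℕ) : 0 ≤ tot (wt s) := by
  refine Finset.sum_nonneg fun i _ => ?_
  rw [wt, Finsupp.weight_apply, Finsupp.sum, Finset.sum_apply]
  exact Finset.sum_nonneg fun j _ => by
    rw [Pi.smul_apply, Pi.single_apply]; split <;> simp

/-- Projection to a degree. -/
noncomputable def pr (d : Fin n → ℤ) : P →ₗ[R] P :=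
  (ℳ d).subtype ∘ₗ DFinsupp.lapply d ∘ₗ (DirectSum.decomposeLinearEquiv ℳ).toLinearMap

lemma pr_of_mem {d : Fin n → ℤ} {q : P} (h : q ∈ ℳ d) : pr ℳ d q = q :=
  DirectSum.decompose_of_mem_same ℳ h

lemma pr_of_ne {e d : Fin n → ℤ} {q : P} (h : q ∈ ℳ e) (hne : e ≠ d) : pr ℳ d q = 0 :=
  DirectSum.decompose_of_mem_ne ℳ h hne

lemma pr_mem (d : Fin n → ℤ) (q : P) : pr ℳ d q ∈ ℳ d := SetLike.coe_mem _

lemma monomial_smul_mem (s : Fin n →₀ ℕ) (c : R) {e : Fin n → ℤ} {g : P} (h : g ∈ ℳ e) :
    monomial s c • g ∈ ℳ (wt s + e) :=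
  SetLike.GradedSMul.smul_mem (A := weightedHomogeneousSubmodule R (fun i : Fin n => (Pi.single i 1 : Fin n → ℤ)))
    ((mem_weightedHomogeneousSubmodule _ _ _ _).2 (isWeightedHomogeneous_monomial _ _ _ rfl)) h

lemma pr_smul_mem {κ : Type*} (D : κ → (Fin n → ℤ)) (g : κ → P) (hg : ∀ j, g j ∈ ℳ (D j)) (d : Fin n → ℤ)
    {y : P} (hy : y ∈ Submodule.span 𝔸 (Set.range g)) :
    pr ℳ d y ∈ Submodule.span 𝔸 (Set.range g) := by
  induction hy using Submodule.closure_induction with
  | zero => simp
  | add x y _ _ hx hy => rw [map_add]; exact add_mem hx hy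
  | smul_mem a x hx =>
    obtain ⟨j, rfl⟩ := hx
    rw [a.as_sum, Finset.sum_smul, map_sum]
    refine Submodule.sum_mem _ fun s _ => ?_
    have h := monomial_smul_mem ℳ s (a.coeff s) (hg j)
    rcases eq_or_ne (wt s + D j) d with rfl | hne
    · rw [pr_of_mem ℳ h]; exact Submodule.smul_mem _ _ (Submodule.subset_span ⟨j, rfl⟩)
    · rw [pr_of_ne ℳ h hne]; exact zero_mem _

lemma eq_zero_of_tot_lt {κ : Type*} (D : κ → (Fin n → ℤ)) (g : κ → P) (hg : ∀ j, g j ∈ ℳ (D j))
    (hspan : Submodule.span 𝔸 (Set.range g) = ⊤) {d : Fin n → ℤ} (hd : ∀ j, tot d < tot (D j)) {q : P}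
    (hq : q ∈ ℳ d) : q = 0 := by
  rw [← pr_of_mem ℳ hq]
  have hy : q ∈ Submodule.span 𝔸 (Set.range g) := hspan ▸ Submodule.mem_top
  clear hq
  induction hy using Submodule.closure_induction with
  | zero => simp
  | add x y _ _ hx hy => rw [map_add, hx, hy, add_zero]
  | smul_mem a x hx =>
    obtain ⟨j, rfl⟩ := hx
    rw [a.as_sum, Finset.sum_smul, map_sum]
    refine Finset.sum_eq_zero fun s _ => pr_of_ne ℳ (monomial_smul_mem ℳ s _ (hg j)) fun h => ?_
    have := tot_wt_nonneg (n := n) s
    have h2 := hd j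
    rw [← h] at h2
    simp only [tot, Pi.add_apply, Finset.sum_add_distrib] at this h2
    omega

lemma pr_X_smul (i : Fin n) (d : Fin n → ℤ) (q : P) :
    pr ℳ d ((X i : 𝔸) • q) = (X i : 𝔸) • pr ℳ (d - Pi.single i 1) q := by
  induction q using DirectSum.Decomposition.inductionOn ℳ with
  | zero => simp
  | add x y hx hy => rw [smul_add, map_add, hx, hy, map_add, smul_add]
  | homogeneous m =>
    rename_i e
    have h : (X i : 𝔸) • (m : P) ∈ ℳ (Pi.single i 1 + e) := by
      have := monomial_smul_mem ℳ (Finsupp.single i 1) (1 : R) m.2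
      rwa [wt, Finsupp.weight_single, one_smul] at this
    rcases eq_or_ne (Pi.single i 1 + e) d with rfl | hne
    · rw [pr_of_mem ℳ h, show Pi.single i 1 + e - Pi.single i 1 = e by abel, pr_of_mem ℳ m.2]
    · rw [pr_of_ne ℳ h hne, pr_of_ne ℳ m.2 (fun he => hne (by rw [he]; abel)), smul_zero]

theorem exists_homogeneous_generators [Module.Finite 𝔸 P] :
    ∃ (M : ℕ) (D : Fin M → (Fin n → ℤ)) (g : Fin M → P), (∀ j, g j ∈ ℳ (D j)) ∧
      Submodule.span 𝔸 (Set.range g) = ⊤ := by
  classical
  obtain ⟨G, hG⟩ := (Module.Finite.fg_top : (⊤ : Submodule 𝔸 P).FG)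
  let T : Finset ((Fin n → ℤ) × P) :=
    G.biUnion fun x => (DirectSum.decompose ℳ x).support.image fun d => (d, (DirectSum.decompose ℳ x d : P))
  refine ⟨T.card, fun j => (T.equivFin.symm j).1.1, fun j => (T.equivFin.symm j).1.2, fun j => ?_, ?_⟩
  · have := (T.equivFin.symm j).2
    simp only [T, Finset.mem_biUnion, Finset.mem_image] at this
    obtain ⟨x, -, d, -, hd⟩ := this
    obtain ⟨h1, h2⟩ := Prod.ext_iff.1 hd
    show (T.equivFin.symm j).1.2 ∈ ℳ (T.equivFin.symm j).1.1
    rw [← h2, ← h1]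
    exact SetLike.coe_mem _
  · rw [eq_top_iff, ← hG, Submodule.span_le]
    intro x hx
    rw [← DirectSum.sum_support_decompose ℳ x]
    refine Submodule.sum_mem _ fun d hd => Submodule.subset_span ?_
    have hm : (d, (DirectSum.decompose ℳ x d : P)) ∈ T :=
      Finset.mem_biUnion.2 ⟨x, hx, Finset.mem_image.2 ⟨d, hd, rfl⟩⟩
    exact ⟨T.equivFin ⟨_, hm⟩, by simp⟩

lemma exists_eq_C_add (a : 𝔸) : ∃ b : Fin n → 𝔸, a = C (constantCoeff a) + ∑ i, X i * b i := by
  induction a using MvPolynomial.induction_on with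
  | C r => exact ⟨0, by simp⟩
  | add p q hp hq =>
    obtain ⟨b, hb⟩ := hp; obtain ⟨c, hc⟩ := hq
    refine ⟨b + c, ?_⟩
    conv_lhs => rw [hb, hc]
    simp [mul_add, Finset.sum_add_distrib]
    ring
  | mul_X p i hp =>
    classical
    refine ⟨Pi.single i p, ?_⟩
    simp [Pi.single_apply, mul_comm]

theorem span_eq (M : ℕ) (D : Fin M → (Fin n → ℤ)) (g : Fin M → P) (hg : ∀ j, g j ∈ ℳ (D j))
    (hspan : Submodule.span 𝔸 (Set.range g) = ⊤) {κ : Type*} (a : κ → Fin M) (t : 𝔸)
    (ht : ∀ j, t • g j ∈ Submodule.span 𝔸 (Set.range (g ∘ a))) (r : R) (hr : constantCoeff t ∣ r) (q : P) :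
    ∃ N : ℕ, (C r : 𝔸) ^ N • q ∈ Submodule.span 𝔸 (Set.range (g ∘ a)) := by
  classical
  set F := Submodule.span 𝔸 (Set.range (g ∘ a))
  let S : Submodule 𝔸 P :=
    { carrier := {q | ∃ N : ℕ, (C r : 𝔸) ^ N • q ∈ F}
      add_mem' := by
        rintro x y ⟨N, hN⟩ ⟨N', hN'⟩
        refine ⟨N + N', ?_⟩
        rw [smul_add]
        refine add_mem ?_ ?_
        · rw [pow_add, mul_comm, mul_smul]; exact F.smul_mem _ hN
        · rw [pow_add, mul_smul]; exact F.smul_mem _ hN'
      zero_mem' := ⟨0, by simp⟩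
      smul_mem' := by
        rintro c x ⟨N, hN⟩
        exact ⟨N, by rw [smul_comm]; exact F.smul_mem _ hN⟩ }
  suffices h : ∀ (k : ℕ) (d : Fin n → ℤ), (∀ j, tot d < tot (D j) + k) → ∀ q ∈ ℳ d, q ∈ S by
    have htop : ∀ j, g j ∈ S := fun j => by
      refine h ((∑ j', (tot (D j) - tot (D j')).natAbs) + 1) (D j) (fun j' => ?_) _ (hg j)
      have := Finset.single_le_sum (f := fun j' => (tot (D j) - tot (D j')).natAbs) (fun _ _ => Nat.zero_le _)
        (Finset.mem_univ j')
      zify at this
      have h' := le_abs_self (tot (D j) - tot (D j'))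
      simp only [Nat.cast_add, Nat.cast_one, Nat.cast_sum, Int.natCast_natAbs] at this ⊢
      linarith
    have : S = ⊤ := top_le_iff.1 (hspan ▸ Submodule.span_le.2 (Set.range_subset_iff.2 htop))
    exact this.ge (Submodule.mem_top (x := q))
  intro k
  induction k with
  | zero =>
    intro d hd q hq
    rw [eq_zero_of_tot_lt ℳ D g hg hspan (fun j => by simpa using hd j) hq]
    exact S.zero_mem
  | succ k ih =>
    intro d hd q hq
    have key : ∀ y : P, ∃ (z : P) (p : Fin n → P), z ∈ F ∧ (C r : 𝔸) • y = z + ∑ i, (X i : 𝔸) • p i := by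
      intro y
      have hy : y ∈ Submodule.span 𝔸 (Set.range g) := hspan ▸ Submodule.mem_top
      induction hy using Submodule.span_induction with
      | mem x hx =>
        obtain ⟨j, rfl⟩ := hx
        obtain ⟨b, hb⟩ := exists_eq_C_add (n := n) t
        obtain ⟨w, rfl⟩ := hr
        refine ⟨(C w : 𝔸) • (t • g j), fun i => -((C w * b i) • g j), F.smul_mem _ (ht j), ?_⟩
        simp only [smul_neg, smul_smul, Finset.sum_neg_distrib, ← Finset.sum_smul]
        rw [← sub_eq_add_neg, ← sub_smul]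
        congr 1
        rw [map_mul]
        conv_rhs => rw [hb]
        rw [mul_add, Finset.mul_sum, Finset.sum_congr rfl fun i _ => mul_left_comm (C w) (X i) (b i)]
        ring
      | zero => exact ⟨0, 0, F.zero_mem, by simp⟩
      | add x y _ _ hx hy =>
        obtain ⟨z, p, hz, e⟩ := hx; obtain ⟨z', p', hz', e'⟩ := hy
        exact ⟨z + z', p + p', add_mem hz hz', by
          rw [smul_add, e, e']; simp [smul_add, Finset.sum_add_distrib]; abel⟩
      | smul c x _ hx =>
        obtain ⟨z, p, hz, e⟩ := hx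
        refine ⟨c • z, fun i => c • p i, F.smul_mem _ hz, ?_⟩
        rw [smul_comm, e, smul_add, Finset.smul_sum]
        simp only [smul_comm c]
    obtain ⟨z, p, hz, e⟩ := key q
    have hCr : (C r : 𝔸) • q = r • q := by
      rw [← MvPolynomial.algebraMap_eq, algebraMap_smul]
    have hmem : (C r : 𝔸) • q ∈ ℳ d := hCr ▸ (ℳ d).smul_mem r hq
    have e' := congrArg (pr ℳ d) e
    rw [pr_of_mem ℳ hmem, map_add, map_sum] at e'
    have hrS : (C r : 𝔸) • q ∈ S := by
      rw [e']
      refine S.add_mem ⟨0, by simpa using pr_smul_mem ℳ (fun x => D (a x)) (g ∘ a) (fun x => hg _) d hz⟩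
        (Submodule.sum_mem _ fun i _ => ?_)
      rw [pr_X_smul]
      refine S.smul_mem _ (ih _ (fun j => ?_) _ (pr_mem ℳ _ _))
      have := hd j
      simp only [tot, Pi.sub_apply, Finset.sum_sub_distrib, Finset.sum_pi_single', Finset.mem_univ,
        if_true, Nat.cast_succ] at this ⊢
      omega
    obtain ⟨N, hN⟩ := hrS
    exact ⟨N + 1, by rw [pow_succ, mul_smul]; exact hN⟩

theorem result' [Module.Finite 𝔸 P] [Module.Projective 𝔸 P] (p : PrimeSpectrum R) :
    ∃ r : R, r ∉ p.asIdeal ∧ ∃ (m : ℕ) (d : Fin m → (Fin n → ℤ)) (f : Fin m → P), (∀ i, f i ∈ ℳ (d i)) ∧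
      (∀ q : P, ∃ (N : ℕ) (c : Fin m → 𝔸), (MvPolynomial.C r : 𝔸) ^ N • q = ∑ i, c i • f i) ∧
      (∀ c : Fin m → 𝔸, ∑ i, c i • f i = 0 →
        ∃ N : ℕ, ∀ i, (MvPolynomial.C r : 𝔸) ^ N * c i = 0) := by
  classical
  obtain ⟨M, D, g, hg, hspan⟩ := exists_homogeneous_generators ℳ
  haveI : Module.FinitePresentation 𝔸 P := Module.finitePresentation_of_projective 𝔸 P
  let σ : PrimeSpectrum R → PrimeSpectrum 𝔸 := PrimeSpectrum.comap constantCoeff
  let Q := σ p
  let L := Localization.AtPrime Q.asIdeal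
  let PL := LocalizedModule Q.asIdeal.primeCompl P
  let φ := LocalizedModule.mkLinearMap Q.asIdeal.primeCompl P
  have hL : Submodule.span L (Set.range (φ ∘ g ∘ ULift.down.{u})) = ⊤ := by
    rw [Set.range_comp, Set.range_comp g, Set.range_eq_univ.2 ULift.down_surjective, Set.image_univ,
      ← Submodule.localized'_span L Q.asIdeal.primeCompl φ, hspan, Submodule.localized'_top]
  obtain ⟨κ, a, bas, hb⟩ := Module.exists_basis_of_span_of_flat _ hL
  haveI : Finite κ := Module.Finite.finite_basis bas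
  letI : Fintype κ := Fintype.ofFinite κ
  let m := Fintype.card κ
  let e := (Fintype.equivFin κ).symm
  let a' : Fin m → Fin M := fun i => (a (e i)).down
  let F := Submodule.span 𝔸 (Set.range (g ∘ a'))
  have hF : Submodule.span L (φ '' Set.range (g ∘ a')) = ⊤ := by
    rw [← top_le_iff, ← bas.span_eq]
    refine Submodule.span_mono ?_
    rintro _ ⟨x, rfl⟩
    exact ⟨g (a x).down, ⟨e.symm x, by simp [a']⟩, (hb x).symm⟩
  have hden : ∀ j, ∃ t : Q.asIdeal.primeCompl, (t : 𝔸) • g j ∈ F := by
    intro j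
    have hj : φ (g j) ∈ F.localized' L Q.asIdeal.primeCompl φ := by
      rw [Submodule.localized'_span, hF]; trivial
    obtain ⟨x, hx, s, hxs⟩ := hj
    rw [IsLocalizedModule.mk'_eq_iff, Submonoid.smul_def, ← map_smul] at hxs
    obtain ⟨c, hc⟩ := IsLocalizedModule.exists_of_eq (S := Q.asIdeal.primeCompl) hxs
    refine ⟨c * s, ?_⟩
    rw [Submonoid.coe_mul, mul_smul]
    simp only [Submonoid.smul_def] at hc
    rw [← hc]
    exact F.smul_mem _ hx
  choose t ht using hden
  let T : 𝔸 := ∏ j, (t j : 𝔸)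
  have hT : ∀ j, T • g j ∈ F := fun j => by
    obtain ⟨c, hc⟩ : (t j : 𝔸) ∣ T := Finset.dvd_prod_of_mem _ (Finset.mem_univ j)
    rw [hc, mul_comm, mul_smul]; exact F.smul_mem _ (ht j)
  have hTQ : constantCoeff T ∉ p.asIdeal := by
    intro h
    have : T ∈ Q.asIdeal := h
    obtain ⟨j, -, hj⟩ := Q.isPrime.prod_mem_iff.1 this
    exact (t j).2 hj
  -- rank
  have hlc : IsLocallyConstant (fun x => Module.rankAtStalk (R := 𝔸) P (σ x)) :=
    Module.isLocallyConstant_rankAtStalk.comp_continuous (PrimeSpectrum.continuous_comap _)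
  have hm : Module.rankAtStalk (R := 𝔸) P Q = m := Module.finrank_eq_card_basis bas
  obtain ⟨U, ⟨r₂, rfl⟩, hpU, hU⟩ := PrimeSpectrum.isTopologicalBasis_basic_opens.exists_subset_of_mem_open
    (a := p) (u := {x | Module.rankAtStalk (R := 𝔸) P (σ x) = m}) hm (hlc.isOpen_fiber m)
  let r := constantCoeff T * r₂
  have hr : r ∉ p.asIdeal := fun h => (p.isPrime.mem_or_mem h).elim hTQ hpU
  have hsp := span_eq ℳ M D g hg hspan a' T hT r ⟨r₂, rfl⟩
  refine ⟨r, hr, m, fun i => D (a' i), fun i => g (a' i), fun i => hg _, fun q => ?_, fun c hc => ?_⟩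
  · obtain ⟨N, hN⟩ := hsp q
    obtain ⟨c, hc⟩ := (Submodule.mem_span_range_iff_exists_fun _).1 hN
    exact ⟨N, c, hc.symm⟩
  · have hrank : ∀ Q' : PrimeSpectrum 𝔸, (C r : 𝔸) ∉ Q'.asIdeal → Module.rankAtStalk P Q' = m := by
      intro Q' hQ'
      let x : PrimeSpectrum R := PrimeSpectrum.comap C Q'
      have hx : x ∈ {x | Module.rankAtStalk (R := 𝔸) P (σ x) = m} := hU fun h => hQ' (by
        show (C r : 𝔸) ∈ Q'.asIdeal
        rw [map_mul]
        exact Ideal.mul_mem_left _ _ h)
      let Q₀ : Ideal 𝔸 := x.asIdeal.map C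
      haveI hQ₀ : Q₀.IsPrime := by
        have h := RingHom.ker_isPrime (MvPolynomial.map (σ := Fin n) (Ideal.Quotient.mk x.asIdeal))
        rwa [MvPolynomial.ker_map, Ideal.mk_ker] at h
      have h1 : (⟨Q₀, hQ₀⟩ : PrimeSpectrum 𝔸) ≤ Q' := Ideal.map_le_iff_le_comap.2 le_rfl
      have h2 : (⟨Q₀, hQ₀⟩ : PrimeSpectrum 𝔸) ≤ σ x := Ideal.map_le_iff_le_comap.2 fun y hy => by
        show constantCoeff (C y : 𝔸) ∈ x.asIdeal
        rwa [constantCoeff_C]
      have key : ∀ {u w : PrimeSpectrum 𝔸}, u ≤ w → Module.rankAtStalk P u = Module.rankAtStalk P w := by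
        intro u w huw
        exact ((PrimeSpectrum.le_iff_specializes _ _).1 huw).mem_open
          (Module.isLocallyConstant_rankAtStalk.isOpen_fiber _) rfl
      rw [← key h1, key h2]
      exact hx
    have hrad : ∀ i, (C r : 𝔸) ∈ (Ideal.torsionOf 𝔸 𝔸 (c i)).radical := by
      intro i
      rw [Ideal.radical_eq_sInf, Submodule.mem_sInf]
      rintro (J : Ideal 𝔸) ⟨hJ, hJp⟩
      haveI := hJp
      by_contra hCr
      let Q' : PrimeSpectrum 𝔸 := ⟨J, hJp⟩
      let L' := Localization.AtPrime J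
      let φ' := LocalizedModule.mkLinearMap J.primeCompl P
      haveI : Module.Flat L' (LocalizedModule J.primeCompl P) :=
        Module.Flat.isBaseChange 𝔸 _ _ _ (IsLocalizedModule.isBaseChange J.primeCompl _ φ')
      haveI : Module.Free L' (LocalizedModule J.primeCompl P) := Module.free_of_flat_of_isLocalRing
      have hspan' : Submodule.span L' (Set.range fun i => φ' (g (a' i))) = ⊤ := by
        rw [← top_le_iff]
        intro y _
        induction y using LocalizedModule.induction_on with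
        | h x s =>
          obtain ⟨N, hN⟩ := hsp x
          have hmem : φ' ((C r : 𝔸) ^ N • x) ∈ Submodule.span L' (Set.range fun i => φ' (g (a' i))) := by
            rw [show (fun i => φ' (g (a' i))) = φ' ∘ (g ∘ a') from rfl, Set.range_comp φ',
              ← Submodule.localized'_span L' J.primeCompl φ']
            exact ⟨_, hN, 1, IsLocalizedModule.mk'_one _ _ _⟩
          have hu : IsUnit (algebraMap 𝔸 L' ((C r : 𝔸) ^ N * (s : 𝔸))) :=
            IsLocalization.map_units L' (⟨_, J.primeCompl.mul_mem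
              (J.primeCompl.pow_mem (show (C r : 𝔸) ∈ J.primeCompl from hCr) N) s.2⟩ : J.primeCompl)
          refine (Submodule.smul_mem_iff_of_isUnit _ hu).1 ?_
          rw [algebraMap_smul, mul_smul, LocalizedModule.smul'_mk, ← Submonoid.smul_def,
            LocalizedModule.mk_cancel]
          simpa [φ', LocalizedModule.mkLinearMap_apply, LocalizedModule.smul'_mk] using hmem
      have hli : LinearIndependent L' (fun i => φ' (g (a' i))) :=
        linearIndependent_of_top_le_span_of_card_eq_finrank hspan'.ge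
          (by rw [Fintype.card_fin]; exact (hrank Q' hCr).symm)
      have hzero := Fintype.linearIndependent_iff.1 hli (fun i => algebraMap 𝔸 L' (c i)) (by
        have := congrArg φ' hc
        simpa [map_sum, algebraMap_smul] using this)
      obtain ⟨s, hs⟩ := (IsLocalization.map_eq_zero_iff J.primeCompl L' (c i)).1 (hzero i)
      exact s.2 (hJ ((Ideal.mem_torsionOf_iff _ _).2 hs))
    choose N hN using hrad
    refine ⟨∑ i, N i, fun i => ?_⟩
    have := (Ideal.mem_torsionOf_iff _ _).1 (hN i)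
    obtain ⟨k, hk⟩ := Finset.dvd_prod_of_mem (fun i => (C r : 𝔸) ^ N i) (Finset.mem_univ i)
    rw [← Finset.prod_pow_eq_pow_sum, hk, mul_comm _ k, mul_assoc]
    exact mul_eq_zero_of_right _ this

end

open MvPolynomial DirectSum in
/-- The case of a point, in graded-module form over an affine base. Let R be a commutative ring, n a
natural number, A = R[x_1, …, x_n] the polynomial ring graded by ℤ^n with x_i of degree the i-th
basis vector (the weight grading of the standard action of the n-dimensional split torus on affine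
n-space), and P a finitely generated projective A-module carrying a compatible ℤ^n-grading (an
equivariant vector bundle on affine n-space over Spec R). Then P is graded-free Zariski-locally on
Spec R: for every prime p of R there are r ∉ p and finitely many homogeneous elements f_1, …, f_m of
P such that, after inverting r, the f_i form an A-basis of P — every element of P multiplied by a
power of r is an A-linear combination of the f_i, and the coefficients of every A-linear relation
among the f_i are killed by a power of r. (This is the case of a point of the source's description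
of filtered points of quotient stacks by the general linear group, whose argument the source gives
in full: an equivariant vector bundle on affine n-space over a base is, locally on the base, the
standard one attached to a cocharacter; the general case, an identification of mapping stacks, is
not stated here.) -/
theorem result
    {R : Type u} [CommRing R] (n : ℕ)
    {P : Type v} [AddCommGroup P] [Module (MvPolynomial (Fin n) R) P] [Module R P]
    [IsScalarTower R (MvPolynomial (Fin n) R) P]
    (ℳ : (Fin n → ℤ) → Submodule R P) [DirectSum.Decomposition ℳ]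
    [SetLike.GradedSMul (MvPolynomial.weightedHomogeneousSubmodule R (fun i : Fin n => (Pi.single i 1 : Fin n → ℤ))) ℳ]
    [Module.Finite (MvPolynomial (Fin n) R) P] [Module.Projective (MvPolynomial (Fin n) R) P]
    (p : PrimeSpectrum R) :
    ∃ r : R, r ∉ p.asIdeal ∧ ∃ (m : ℕ) (d : Fin m → (Fin n → ℤ)) (f : Fin m → P), (∀ i, f i ∈ ℳ (d i)) ∧
      (∀ q : P, ∃ (N : ℕ) (c : Fin m → MvPolynomial (Fin n) R), (MvPolynomial.C r : MvPolynomial (Fin n) R) ^ N • q = ∑ i, c i • f i) ∧
      (∀ c : Fin m → MvPolynomial (Fin n) R, ∑ i, c i • f i = 0 →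
        ∃ N : ℕ, ∀ i, (MvPolynomial.C r : MvPolynomial (Fin n) R) ^ N * c i = 0) := by
  exact result' ℳ p

end Groth.Agent.S19649
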