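import Groth.Statements.S1965
import Mathlib.Algebra.Polynomial.Taylor
import Mathlib.RingTheory.AdicCompletion.Basic
import Mathlib.RingTheory.Finiteness.Ideal
import Mathlib.RingTheory.Ideal.Height
import Mathlib.Algebra.Polynomial.Inductions
import Mathlib.Tactic.LinearCombination

set_option autoImplicit false
universe u
open Polynomial
open EtAlg

namespace Groth.Agent.S1965

/-- Let A be a complete Noetherian local domain of Krull dimension 1 with maximal ideal m, P a
polynomial over A and α a root of P which is not a root of the derivative P'. Then for every c there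
is an n such that for every polynomial Q all of whose coefficients lie in m^n, the polynomial P + Q
has a root β with β - α in m^c. -/
theorem result (A : Type u) [CommRing A] [IsDomain A] [IsLocalRing A] [IsNoetherianRing A]
    [IsAdicComplete (IsLocalRing.maximalIdeal A) A] (hdim : ringKrullDim A = 1) (P : A[X]) (α : A)
    (hα : P.eval α = 0) (hα' : (derivative P).eval α ≠ 0) (c : ℕ) :
    ∃ n : ℕ, ∀ Q : A[X], (∀ i, Q.coeff i ∈ IsLocalRing.maximalIdeal A ^ n) →
      ∃ β : A, (P + Q).eval β = 0 ∧ β - α ∈ IsLocalRing.maximalIdeal A ^ c := by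
  classical
  let m := IsLocalRing.maximalIdeal A
  let d := (derivative P).eval α
  obtain ⟨e, he⟩ : ∃ e, m ^ e ≤ Ideal.span {d} := by
    obtain ⟨e, he⟩ := Ideal.exists_radical_pow_le_of_fg (Ideal.span {d}) (IsNoetherian.noetherian _)
    refine ⟨e, le_trans (Ideal.pow_right_mono ?_ e) he⟩
    rw [Ideal.radical_eq_sInf]
    refine le_sInf fun p ⟨hdp, hp⟩ => ?_
    have hp0 : p ≠ ⊥ := fun h => hα' (by simpa [h] using hdp (Ideal.mem_span_singleton_self d))
    have : Ring.KrullDimLE 1 A := by rw [Ring.krullDimLE_iff, hdim, Nat.cast_one]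
    exact (IsLocalRing.eq_maximalIdeal ((Ring.krullDimLE_one_iff_of_noZeroDivisors.1 this) p hp0 hp)).ge
  refine ⟨c + 3 * e + 3, fun Q hQ => ?_⟩
  let N := c + 3 * e + 3
  let R := P + Q
  have hev : ∀ (T : A[X]), (∀ i, T.coeff i ∈ m ^ N) → ∀ x, T.eval x ∈ m ^ N := fun T hT x => by
    rw [eval_eq_sum]
    exact sum_mem fun i _ => Ideal.mul_mem_right _ _ (hT i)
  have hR0 : R.eval α ∈ m ^ N := by
    simp only [R, eval_add, hα, zero_add]
    exact hev Q hQ α
  have hR1 : (derivative R).eval α - d ∈ m ^ N := by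
    simp only [R, derivative_add, eval_add, d, add_sub_cancel_left]
    exact hev _ (fun i => by rw [coeff_derivative]; exact Ideal.mul_mem_right _ _ (hQ _)) α
  have hdiv : ∀ k x, x ∈ m ^ (e + k) → ∃ y ∈ m ^ k, x = d * y := fun k x hx => by
    rw [pow_add] at hx
    exact Ideal.mem_span_singleton_mul.1 (Ideal.mul_mono_left he hx) |>.imp fun y hy => ⟨hy.1, hy.2.symm⟩
  obtain ⟨q1, hq1, hq1'⟩ := hdiv (c + 2 * e + 3) _ (by rw [show e + (c + 2 * e + 3) = N by omega]; exact hR1)
  obtain ⟨y, hy, hy'⟩ := hdiv (c + 2 * e + 3) _ (by rw [show e + (c + 2 * e + 3) = N by omega]; exact hR0)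
  obtain ⟨q0, hq0, hq0'⟩ := hdiv (c + e + 3) y (by rw [show e + (c + e + 3) = c + 2 * e + 3 by omega]; exact hy)
  let H := (taylor α R).divX.divX
  have hH : ∀ x, R.eval (α + x) = R.eval α + (derivative R).eval α * x + x ^ 2 * H.eval x := fun x => by
    conv_lhs => rw [add_comm, ← taylor_eval, ← X_mul_divX_add (taylor α R), ← X_mul_divX_add (taylor α R).divX]
    simp only [eval_add, eval_mul, eval_X, eval_C, coeff_divX, zero_add, taylor_coeff_zero, taylor_coeff_one, H]
    ring
  have hmN : ∀ k, 1 ≤ k → m ^ k ≤ m := fun k hk => Ideal.pow_le_self (Nat.one_le_iff_ne_zero.1 hk)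
  have hu : IsUnit (1 + q1) := by
    by_contra hc
    have h1 : (1 + q1) ∈ m := hc
    have := m.sub_mem h1 (hmN _ (by omega) hq1)
    simp only [add_sub_cancel_right] at this
    exact (IsLocalRing.maximalIdeal.isMaximal A).ne_top ((Ideal.eq_top_iff_one _).2 this)
  obtain ⟨u, hu⟩ := hu.exists_right_inv
  let J : Ideal A := m ^ (c + 1)
  have hJ : ∀ a ∈ J, a ∈ m := fun a ha => hmN _ (by omega) ha
  let F : A → A := fun t => -u * (q0 + t ^ 2 * H.eval (d * t))
  have hFmem : ∀ t ∈ J, F t ∈ J := fun t ht => Ideal.mul_mem_left _ _ (J.add_mem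
    (Ideal.pow_le_pow_right (show c + 1 ≤ c + e + 3 by omega) hq0) (Ideal.mul_mem_right _ _ (Ideal.pow_mem_of_mem _ ht 2 two_pos)))
  have hFdiff : ∀ a ∈ J, ∀ b ∈ J, ∃ z ∈ m, F a - F b = (a - b) * z := by
    intro a ha b hb
    obtain ⟨w, hw⟩ := Polynomial.sub_dvd_eval_sub (d * a) (d * b) H
    refine ⟨-u * ((a + b) * H.eval (d * a) + b ^ 2 * d * w),
      Ideal.mul_mem_left _ _ (m.add_mem (Ideal.mul_mem_right _ _ (m.add_mem (hJ a ha) (hJ b hb)))
        (Ideal.mul_mem_right _ _ (Ideal.mul_mem_right _ _ (Ideal.pow_mem_of_mem _ (hJ b hb) 2 two_pos)))), ?_⟩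
    simp only [F]
    linear_combination -u * b ^ 2 * hw
  let t : ℕ → A := fun k => F^[k] 0
  have htJ : ∀ k, t k ∈ J := fun k => by
    induction k with
    | zero => exact J.zero_mem
    | succ k ih => simp only [t, Function.iterate_succ_apply']; exact hFmem _ ih
  have hstep : ∀ k, t (k + 1) - t k ∈ m ^ (k + 1) := fun k => by
    induction k with
    | zero =>
      rw [zero_add, pow_one]
      exact m.sub_mem (hJ _ (htJ 1)) (hJ _ (htJ 0))
    | succ k ih =>
      obtain ⟨z, hz, e'⟩ := hFdiff _ (htJ (k + 1)) _ (htJ k)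
      rw [show t (k + 1 + 1) = F (t (k + 1)) from Function.iterate_succ_apply' F (k + 1) 0,
        show F (t (k + 1)) - t (k + 1) = F (t (k + 1)) - F (t k) by rw [← Function.iterate_succ_apply' F k 0], e', pow_succ]
      exact Ideal.mul_mem_mul ih hz
  have hcauchy : ∀ {i j}, i ≤ j → t i ≡ t j [SMOD (m ^ i • ⊤ : Submodule A A)] := fun {i j} hij => by
    induction hij with
    | refl => exact SModEq.rfl
    | @step j hij ih =>
      refine ih.trans (SModEq.sub_mem.2 ?_)
      rw [smul_eq_mul, Ideal.mul_top, ← neg_mem_iff, neg_sub]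
      exact Ideal.pow_le_pow_right (Nat.le_succ_of_le hij) (hstep j)
  obtain ⟨L, hL⟩ := IsPrecomplete.prec (inferInstance : IsPrecomplete m A) (f := t) hcauchy
  have hL' : ∀ k, t k - L ∈ m ^ k := fun k => by
    have := SModEq.sub_mem.1 (hL k)
    rwa [smul_eq_mul, Ideal.mul_top] at this
  have hLJ : L ∈ J := by
    have h1 := J.sub_mem (htJ (c + 1)) (hL' (c + 1))
    rwa [sub_sub_cancel] at h1
  have hfix : F L - L = 0 := by
    refine IsHausdorff.haus (inferInstance : IsHausdorff m A) _ fun k => ?_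
    rw [SModEq.zero, smul_eq_mul, Ideal.mul_top]
    obtain ⟨z, -, e'⟩ := hFdiff _ hLJ _ (htJ k)
    have h1 : F L - L = (F L - F (t k)) + (t (k + 1) - L) := by
      rw [show t (k + 1) = F (t k) from Function.iterate_succ_apply' F k 0]; ring
    rw [h1, e']
    exact Ideal.add_mem _ (Ideal.mul_mem_right _ _ (by rw [← neg_mem_iff, neg_sub]; exact hL' k))
      (Ideal.pow_le_pow_right (Nat.le_succ k) (hL' (k + 1)))
  refine ⟨α + d * L, ?_, ?_⟩
  · show R.eval (α + d * L) = 0
    rw [hH, show R.eval α = d * (d * q0) by rw [hy', hq0'], show (derivative R).eval α = d * (1 + q1) by linear_combination hq1']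
    simp only [F] at hfix
    linear_combination (-(d ^ 2) * (1 + q1)) * hfix - d ^ 2 * (q0 + L ^ 2 * H.eval (d * L)) * hu
  · rw [add_sub_cancel_left]
    exact Ideal.mul_mem_left _ _ (Ideal.pow_le_pow_right (Nat.le_succ c) hLJ)

end Groth.Agent.S1965
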