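import Groth.Statements.S19651
import Mathlib.Algebra.Polynomial.Reverse
import Mathlib.RingTheory.Coprime.Lemmas

set_option autoImplicit false
universe u v
open AbVar

namespace Groth.Agent.S19651

open Polynomial in
theorem reverse_pow' {k : Type u} [Field k] (P : k[X]) (n : ℕ) : (P ^ n).reverse = P.reverse ^ n := by
  induction n with
  | zero => simp [reverse, reflect_one]
  | succ n ih => rw [pow_succ, pow_succ, reverse_mul_of_domain, ih]

open Polynomial in
theorem adj_aux {k : Type u} [Field k] {V : Type v} [AddCommGroup V] [Module k V] (f : Module.End k V)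
    (B : LinearMap.BilinForm k V) (hBf : ∀ (i : ℕ) (a b : V), B ((f ^ i) a) ((f ^ i) b) = B a b)
    (P : k[X]) (a b : V) :
    B (aeval f P a) ((f ^ P.natDegree) b) = B a (aeval f P.reverse b) := by
  rw [aeval_eq_sum_range, aeval_eq_sum_range' (lt_of_le_of_lt P.reverse_natDegree_le (Nat.lt_succ_self _))]
  simp only [LinearMap.sum_apply, map_sum, LinearMap.smul_apply, map_smul]
  conv_rhs => rw [← Finset.sum_range_reflect]
  refine Finset.sum_congr rfl fun i hi => ?_
  have hi' : i ≤ P.natDegree := Nat.lt_succ_iff.1 (Finset.mem_range.1 hi)
  have e : P.natDegree.succ - 1 - i = P.natDegree - i := by omega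
  rw [e, coeff_reverse, revAt_le (Nat.sub_le _ _), Nat.sub_sub_self hi']
  congr 1
  conv_lhs => rw [show P.natDegree = i + (P.natDegree - i) by omega, pow_add, Module.End.mul_apply]
  exact hBf i _ _


open Polynomial in
/-- Stated for an arbitrary invariant bilinear form, as the argument there allows. Let k be a field, V a
k-vector space with a bilinear form B and M a linear automorphism of V with B(Mx, My) = B(x, y) for
all x, y. If Q₁ and Q₂ are polynomials such that the reciprocal polynomial of Q₁ (its coefficient
list reversed) is coprime to Q₂, then every vector killed by a power of Q₁(M) is B-orthogonal to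
every vector killed by a power of Q₂(M). With Q₁ = Q₂ = Q this says that the generalized kernel of
Q(M) is totally isotropic whenever Q is coprime to its reciprocal polynomial, which for an
irreducible Q means that Q is not self-reciprocal. (The published statement takes M symplectic and
Q₁, Q₂ irreducible factors of the characteristic polynomial, with Q not self-reciprocal in the first
clause; its second clause asks Q₁ and Q₂ to be distinct and not reciprocal, which holds as proved
when this is read as saying that Q₂ is not the reciprocal of Q₁, but fails if it only means that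
neither is self-reciprocal, as the diagonal matrix with entries 2 and 1/2 preserving the standard
alternating form on k² shows; the coprimality of the reciprocal of Q₁ with Q₂, which is what the
published proof uses, is imposed here and covers both clauses.) -/
theorem result
    {k : Type u} [Field k] {V : Type v} [AddCommGroup V] [Module k V]
    (B : LinearMap.BilinForm k V) (M : V ≃ₗ[k] V)
    (hM : ∀ x y : V, B (M x) (M y) = B x y)
    (Q₁ Q₂ : k[X]) (h : IsCoprime Q₁.reverse Q₂)
    (x y : V)
    (hx : ∃ n : ℕ, (Polynomial.aeval (M : V →ₗ[k] V) Q₁ ^ n) x = 0)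
    (hy : ∃ n : ℕ, (Polynomial.aeval (M : V →ₗ[k] V) Q₂ ^ n) y = 0) :
    B x y = 0 := by
  obtain ⟨n, hn⟩ := hx
  obtain ⟨m, hm⟩ := hy
  obtain ⟨U, W, hUW⟩ := (IsCoprime.pow (m := n) (n := m) h)
  set f : Module.End k V := (M : V →ₗ[k] V) with hf
  have hBf : ∀ (i : ℕ) (a b : V), B ((f ^ i) a) ((f ^ i) b) = B a b := by
    intro i
    induction i with
    | zero => simp
    | succ i ih =>
      intro a b
      rw [pow_succ', Module.End.mul_apply, Module.End.mul_apply]
      exact (hM _ _).trans (ih a b)
  -- adjoint of a polynomial in M
  have adj : ∀ (P : k[X]) (a b : V),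
      B (aeval f P a) ((f ^ P.natDegree) b) = B a (aeval f P.reverse b) := by
    intro P a b
    exact adj_aux f B hBf P a b
  have hy' : y = aeval f (Q₁.reverse ^ n) (aeval f U y) := by
    have : aeval f (U * Q₁.reverse ^ n + W * Q₂ ^ m) y = y := by simp [hUW]
    conv_lhs => rw [← this]
    rw [map_add, LinearMap.add_apply, mul_comm U, map_mul, map_mul, Module.End.mul_apply, Module.End.mul_apply,
      map_pow (aeval f) Q₂, hm, map_zero, add_zero]
  rw [hy', ← reverse_pow', ← adj, map_pow, hn, map_zero, LinearMap.zero_apply]

end Groth.Agent.S19651
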