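import Groth.Statements.S19652
import Groth.Agent.Lib.AbVarAlg.GenKer
import Groth.Agent.S19651

set_option autoImplicit false
universe u v
open AbVar

namespace Groth.Agent.S19652

open Polynomial in
/-- Stated for an arbitrary invariant nondegenerate bilinear form, as the argument there allows. Let k
be a field, V a finite-dimensional k-vector space with a nondegenerate bilinear form B and M a
linear automorphism of V with B(Mx, My) = B(x, y) for all x, y. If Q is a polynomial associated to
its own reciprocal polynomial (its coefficient list reversed), then B restricted to the generalized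
kernel of Q(M), the union of the kernels of the powers Q(M)^n, is nondegenerate. (The published
statement takes M symplectic and Q a self-reciprocal divisor of the characteristic polynomial;
divisibility plays no role and is not assumed.) -/
theorem result
    {k : Type u} [Field k] {V : Type v} [AddCommGroup V] [Module k V] [FiniteDimensional k V]
    (B : LinearMap.BilinForm k V) (hB : B.Nondegenerate) (M : V ≃ₗ[k] V)
    (hM : ∀ x y : V, B (M x) (M y) = B x y)
    (Q : k[X]) (hQ : Associated Q Q.reverse) :
    (B.restrict (⨆ n : ℕ, LinearMap.ker (Polynomial.aeval (M : V →ₗ[k] V) Q ^ n))).Nondegenerate := by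
  obtain ⟨u, hu⟩ := hQ.symm
  obtain ⟨c, hc, hcu⟩ := Polynomial.isUnit_iff.1 u.isUnit
  set f : Module.End k V := Polynomial.aeval (M : V →ₗ[k] V) Q with hf
  set T : Module.End k V := (M : V →ₗ[k] V) ^ Q.natDegree with hT
  have hBf : ∀ (i : ℕ) (a b : V), B (((M : Module.End k V) ^ i) a) (((M : Module.End k V) ^ i) b) = B a b := by
    intro i
    induction i with
    | zero => simp
    | succ i ih =>
      intro a b
      rw [pow_succ', Module.End.mul_apply, Module.End.mul_apply]
      exact (hM _ _).trans (ih a b)
  have hBff : ∀ (i : ℕ) (a b : V), B.flip (((M : Module.End k V) ^ i) a) (((M : Module.End k V) ^ i) b) = B.flip a b :=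
    fun i a b => hBf i b a
  have hrev : aeval (M : V →ₗ[k] V) Q.reverse = c⁻¹ • f := by
    have hc0 : c ≠ 0 := hc.ne_zero
    have : f = c • aeval (M : V →ₗ[k] V) Q.reverse := by
      rw [hf]
      conv_lhs => rw [← hu]
      rw [← hcu, map_mul, aeval_C, ← Algebra.commutes, ← Algebra.smul_def]
    rw [this, inv_smul_smul₀ hc0]
  have hTinj : Function.Injective T := by
    rw [hT, Module.End.coe_pow]; exact M.injective.iterate _
  have hcomm : Commute T f := by
    rw [hT, hf, show (M : V →ₗ[k] V) ^ Q.natDegree = aeval (M : V →ₗ[k] V) ((X : k[X]) ^ Q.natDegree) by simp]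
    exact (Commute.all _ _).map _
  have h1 : ∀ x y, B.flip (T x) (f y) = c⁻¹ * B.flip (f x) y := fun x y => by
    have := Groth.Agent.S19651.adj_aux (M : Module.End k V) B hBf Q y x
    rw [hrev, LinearMap.smul_apply, map_smul, smul_eq_mul] at this
    exact this
  have h2 : ∀ x y, B (T x) (f y) = c⁻¹ * B (f x) y := fun x y => by
    have := Groth.Agent.S19651.adj_aux (M : Module.End k V) B.flip hBff Q y x
    rw [hrev, LinearMap.smul_apply, map_smul, smul_eq_mul] at this
    exact this
  constructor
  · intro x hx
    apply Subtype.ext
    refine hB.1 _ fun y => GenKer.eq_zero_of_ker_range (B (x : V)) f (fun z hz => hx ⟨z, hz⟩)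
      (fun z hz => GenKer.eq_zero_of_mem_ker_of_mem_range B T f f _ hTinj hcomm h2 x.2 hz) y
  · intro x hx
    apply Subtype.ext
    refine hB.2 _ fun y => GenKer.eq_zero_of_ker_range (B.flip (x : V)) f (fun z hz => hx ⟨z, hz⟩)
      (fun z hz => GenKer.eq_zero_of_mem_ker_of_mem_range B.flip T f f _ hTinj hcomm h1 x.2 hz) y

end Groth.Agent.S19652
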