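import Groth.Statements.S19653
import Groth.Agent.Lib.ProperConn5.Main

set_option backward.isDefEq.respectTransparency false
set_option linter.style.haveILetI false

set_option autoImplicit false
universe u
open AlgebraicGeometry CategoryTheory CategoryTheory.Limits
open EGA43

namespace Groth.Agent.S19653

/-- Let R be a discrete valuation ring and f : X → Spec R a flat, separated morphism of finite type
whose closed fibre is nonempty and proper over the residue field and whose generic fibre is
geometrically connected. Then f is proper, and its closed fibre is geometrically connected too. (The
published statement does not require the closed fibre to be nonempty; the affine line over the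
fraction field, viewed over R, has empty closed fibre and satisfies the other hypotheses without
being proper, and the published proof uses a point of the closed fibre, so nonemptiness is assumed
here.) -/
theorem result
    (R : Type u) [CommRing R] [IsDomain R] [IsDiscreteValuationRing R]
    (X : Scheme.{u}) (f : X ⟶ Spec (CommRingCat.of R))
    [Flat f] [IsSeparated f] [LocallyOfFiniteType f] [QuasiCompact f]
    [IsProper (f.fiberToSpecResidueField (IsLocalRing.closedPoint R))]
    [Nonempty ↥(f.fiber (IsLocalRing.closedPoint R))]
    [GeometricallyConnected (f.fiberToSpecResidueField (genericPoint ↥(Spec (CommRingCat.of R))))] :
    IsProper f ∧ GeometricallyConnected (f.fiberToSpecResidueField (IsLocalRing.closedPoint R)) := by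
  haveI := Groth.Agent.ProperConn5.isProper_trait f
  haveI : LocallyOfFinitePresentation f := LocallyOfFinitePresentation.iff_locallyOfFiniteType.mpr inferInstance
  exact ⟨inferInstance, Groth.Agent.ProperConn5.geometricallyConnected_fibre f
    (η := genericPoint ↥(Spec (CommRingCat.of R))) (genericPoint_specializes _)⟩

end Groth.Agent.S19653
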