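import Groth.Statements.S19654
import Groth.Agent.Lib.RegExt.Global
-- import your own Groth.Agent.* helpers here

set_option autoImplicit false
set_option linter.style.haveILetI false
universe u
open CategoryTheory CategoryTheory.Limits MonoidalCategory CartesianMonoidalCategory AlgebraicGeometry
open AbSch

namespace Groth.Agent.S19654

/-- Let S be a scheme and A an abelian scheme over S, that is an S-group scheme which is proper, smooth
and has geometrically connected fibres. Let T be a regular scheme (locally Noetherian with regular
local rings) with a morphism t : T → S, U a dense open subscheme of T and g : U → A a morphism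
compatible with the maps to S. Then there is a unique S-morphism T → A restricting to g on U; in
other words a rational S-map from a regular scheme to an abelian scheme is defined everywhere. -/
theorem result
    {S : Scheme.{u}} (A : Over S) [GrpObj A] [IsProper A.hom] [Smooth A.hom]
    [GeometricallyConnected A.hom]
    (T : Scheme.{u}) (t : T ⟶ S) [IsLocallyNoetherian T] (hT : Models.IsRegularScheme T)
    (U : T.Opens) (hU : Dense (U : Set T))
    (g : (U : Scheme.{u}) ⟶ A.left) (hg : g ≫ A.hom = U.ι ≫ t) :
    ∃! g' : T ⟶ A.left, g' ≫ A.hom = t ∧ U.ι ≫ g' = g := by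
  haveI : ∀ x : T, IsDomain (T.presheaf.stalk x) := fun x => haveI := hT x; RegLoc.isDomain _
  haveI : IsReduced T := isReduced_of_isReduced_stalk _
  haveI : IsDominant U.ι := ⟨by rw [DenseRange, Scheme.Opens.range_ι]; exact hU⟩
  let G := (Over.pullback t).obj A
  letI : GrpObj G := Functor.grpObjObj
  haveI : IsProper G.hom := by dsimp [G]; infer_instance
  haveI : Smooth G.hom := by dsimp [G]; infer_instance
  obtain ⟨s, hs, hsg⟩ := RegExt.exists_section hT G U hU (pullback.lift g U.ι hg) (pullback.lift_snd _ _ _)
  refine ⟨s ≫ pullback.fst A.hom t, ⟨?_, ?_⟩, fun g' hg' => ?_⟩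
  · rw [Category.assoc, pullback.condition, ← Category.assoc]
    exact (congrArg (· ≫ t) hs).trans (Category.id_comp _)
  · rw [reassoc_of% hsg, pullback.lift_fst]
  · refine ext_of_isDominant_of_isSeparated A.hom (hg'.1.trans ?_) U.ι (hg'.2.trans ?_)
    · rw [Category.assoc, pullback.condition, ← Category.assoc]
      exact ((congrArg (· ≫ t) hs).trans (Category.id_comp _)).symm
    · rw [reassoc_of% hsg, pullback.lift_fst]

end Groth.Agent.S19654
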