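import Groth.Statements.S19658
import Groth.Agent.Lib.TorsLift22.Lift

set_option autoImplicit false
universe u
open CategoryTheory CategoryTheory.Limits MonoidalCategory CartesianMonoidalCategory AlgebraicGeometry
open Neron

namespace Groth.Agent.S19658

/-- The first display of the lemma, in the generality its argument gives. Let R be a henselian local
ring with residue field k, G a commutative group scheme over Spec R that is smooth, separated and
quasi-compact, and N a natural number which is a unit in R. Then every k-valued point of G killed by
N lifts to exactly one R-valued point of G killed by N; that is, reduction G(R)[N] → G(k)[N] is a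
bijection on N-torsion. (The text applies this to the Néron model of an abelian variety over a
henselian discrete valuation ring, where G(R) = A(K).) -/
theorem result
    (R : Type u) [CommRing R] [HenselianLocalRing R]
    (G : Over (Spec (CommRingCat.of R))) [GrpObj G] [IsCommMonObj G]
    [Smooth G.hom] [IsSeparated G.hom] [QuasiCompact G.hom]
    (N : ℕ) (hN : IsUnit (N : R))
    (τ : Over.mk (Spec.map (CommRingCat.ofHom (IsLocalRing.residue R))) ⟶ G)
    (hτ : τ ∈ AbDual.torsPts G N (Over.mk (Spec.map (CommRingCat.ofHom (IsLocalRing.residue R))))) :
    ∃! σ : Over.mk (𝟙 (Spec (CommRingCat.of R))) ⟶ G,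
      σ ∈ AbDual.torsPts G N (Over.mk (𝟙 (Spec (CommRingCat.of R)))) ∧
        Over.homMk (Spec.map (CommRingCat.ofHom (IsLocalRing.residue R))) (Category.comp_id _) ≫ σ = τ := by
  exact TorsLift22.existsUnique_lift hN τ hτ

end Groth.Agent.S19658
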