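import Groth.Statements.S1966
import Groth.Agent.Lib.Hens.PairOps

set_option autoImplicit false
universe u
open EtAlg

namespace Groth.Agent.S1966

/-- Towers indexed by the natural numbers: let (A_k) be rings with surjective transition maps A_{k+1} ->
A_k whose kernels consist of nilpotent elements, and let A be a ring with compatible projections p_k
: A -> A_k identifying A with the set of compatible sequences (p is jointly injective and every
compatible sequence comes from an element of A). Then for every k the pair (A, ker p_k) is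
henselian. -/
theorem result (A : Type u) [CommRing A] (As : ℕ → Type u) [∀ k, CommRing (As k)]
    (t : ∀ k, As (k + 1) →+* As k) (ht : ∀ k, Function.Surjective (t k))
    (hnil : ∀ k (x : As (k + 1)), t k x = 0 → IsNilpotent x)
    (p : ∀ k, A →+* As k) (hp : ∀ k, (t k).comp (p (k + 1)) = p k)
    (hinj : ∀ a b : A, (∀ k, p k a = p k b) → a = b)
    (hsurj : ∀ x : ∀ k, As k, (∀ k, t k (x (k + 1)) = x k) → ∃ a : A, ∀ k, p k a = x k) (k : ℕ) :
    HenselianRing A (RingHom.ker (p k)) := by
  classical
  have hz : ∀ m (x : As (m + 1)), x ∈ RingHom.ker (t m) → IsNilpotent x := fun m x hx => hnil m x hx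
  have hker : ∀ m, HenselianRing (As (m + 1)) (RingHom.ker (t m)) := fun m => Hens.henselianRing_of_nilpotent (hz m)
  have hunit : ∀ m (x : As (m + 1)), IsUnit (t m x) → IsUnit x := fun m x hx => by
    obtain ⟨y, hy⟩ := hx.exists_right_inv
    obtain ⟨y, rfl⟩ := ht m y
    have hn : IsNilpotent (x * y - 1) := hnil m _ (by rw [map_sub, map_mul, hy, map_one, sub_self])
    have := hn.isUnit_one_add
    rw [add_sub_cancel] at this
    exact isUnit_of_mul_isUnit_left this
  have hdown : ∀ m (x : A), IsUnit (p (m + 1) x) → IsUnit (p m x) := fun m x hx => by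
    rw [← hp m, RingHom.comp_apply]; exact hx.map _
  have hdown' : ∀ m n (x : A), IsUnit (p (m + n) x) → IsUnit (p m x) := fun m n x => by
    induction n with
    | zero => exact id
    | succ n ih => exact fun hx => ih (hdown _ x hx)
  have hup : ∀ (x : A), IsUnit (p k x) → ∀ m, IsUnit (p m x) := fun x hx => by
    have h1 : ∀ n, IsUnit (p (k + n) x) := fun n => by
      induction n with
      | zero => exact hx
      | succ n ih =>
        refine hunit (k + n) _ ?_
        show IsUnit (((t (k + n)).comp (p (k + n + 1))) x)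
        rw [hp]
        exact ih
    exact fun m => hdown' m k x (by rw [Nat.add_comm]; exact h1 m)
  have hinv : ∀ x : A, IsUnit (p k x) → IsUnit x := fun x hx => by
    choose v hv using fun m => (hup x hx m).exists_right_inv
    obtain ⟨y, hy⟩ := hsurj v fun m => by
      refine (hup x hx m).mul_left_cancel ?_
      rw [hv m, ← hp m, RingHom.comp_apply, ← map_mul, hv (m + 1), map_one]
    exact IsUnit.of_mul_eq_one y (hinj _ _ fun m => by rw [map_mul, hy, hv, map_one])
  refine ⟨fun x hx => ?_, fun f hf a₀ h₀ h₁ => ?_⟩
  · rw [Ideal.mem_jacobson_bot]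
    intro y
    refine hinv _ ?_
    rw [map_add, map_mul, RingHom.mem_ker.1 hx, zero_mul, zero_add, map_one]
    exact isUnit_one
  · have hk : ∀ m n, m + n = k → p m (f.eval a₀) = 0 := fun m n => by
      induction n generalizing m with
      | zero => rintro rfl; exact h₀
      | succ n ih => intro e; rw [← hp m, RingHom.comp_apply, ih (m + 1) (by omega), map_zero]
    have hd : IsUnit (p k (f.derivative.eval a₀)) := by
      obtain ⟨w, hw⟩ := h₁.exists_right_inv
      obtain ⟨w, rfl⟩ := Ideal.Quotient.mk_surjective w
      rw [← map_mul, ← map_one (Ideal.Quotient.mk (RingHom.ker (p k))), Ideal.Quotient.eq, RingHom.mem_ker, map_sub,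
        map_mul, map_one, sub_eq_zero] at hw
      exact IsUnit.of_mul_eq_one _ hw
    let F : ∀ m, Polynomial (As m) := fun m => f.map (p m)
    let P : ∀ m, As m → Prop := fun m r =>
      (F m).eval r = 0 ∧ IsUnit ((F m).derivative.eval r) ∧ (m ≤ k → r = p m a₀)
    have hbase : ∀ m, m ≤ k → P m (p m a₀) := fun m hm => ⟨by
      rw [Polynomial.eval_map_apply]; exact hk m (k - m) (by omega), by
      rw [Polynomial.derivative_map, Polynomial.eval_map_apply]
      exact hup _ hd m, fun _ => rfl⟩
    have hFt : ∀ m, (F (m + 1)).map (t m) = F m := fun m => by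
      simp only [F, Polynomial.map_map, hp]
    have step : ∀ m (r : As m), P m r → ∃ r', P (m + 1) r' ∧ t m r' = r := by
      intro m r ⟨h0, h1, h2⟩
      by_cases hm : m + 1 ≤ k
      · exact ⟨_, hbase _ hm, by rw [← RingHom.comp_apply, hp, h2 (by omega)]⟩
      · obtain ⟨r₀, rfl⟩ := ht m r
        have e0 : (F (m + 1)).eval r₀ ∈ RingHom.ker (t m) := by
          rw [RingHom.mem_ker, ← Polynomial.eval_map_apply, hFt]; exact h0
        have e1 : IsUnit ((F (m + 1)).derivative.eval r₀) := hunit m _ (by
          rw [← Polynomial.eval_map_apply, ← Polynomial.derivative_map, hFt]; exact h1)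
        obtain ⟨r', hr', hrr⟩ := (hker m).is_henselian (F (m + 1)) (hf.map _) r₀ e0 (e1.map _)
        have he : t m r' = t m r₀ := by
          rw [← sub_eq_zero, ← map_sub]; exact hrr
        refine ⟨r', ⟨hr', hunit m _ ?_, fun h => absurd h hm⟩, he⟩
        rw [← Polynomial.eval_map_apply, ← Polynomial.derivative_map, hFt, he]
        exact h1
    choose g hg hgt using step
    let rec' : ∀ m, { r : As m // P m r } := fun m =>
      Nat.rec (motive := fun m => { r : As m // P m r }) ⟨p 0 a₀, hbase 0 (Nat.zero_le _)⟩
        (fun m r => ⟨g m r.1 r.2, hg m r.1 r.2⟩) m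
    obtain ⟨a, ha⟩ := hsurj (fun m => (rec' m).1) (fun m => hgt m _ _)
    refine ⟨a, hinj _ _ fun m => ?_, ?_⟩
    · rw [← Polynomial.eval_map_apply, map_zero, ha]
      exact (rec' m).2.1
    · rw [RingHom.mem_ker, map_sub, ha, (rec' k).2.2.2 le_rfl, sub_self]

end Groth.Agent.S1966
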