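import Groth.Statements.S19660
import Groth.Agent.Lib.AbVarAlg.GenKer

set_option autoImplicit false
universe u v
open AbVar

namespace Groth.Agent.S19660

/-- The text applies this to the Frobenius acting on the points of prime order of a principally
polarised abelian variety over a finite field with q elements and to their Weil pairing. Let k be a
field, V a finite-dimensional k-vector space with a nondegenerate bilinear form B, q a nonzero
element of k and M a linear automorphism of V with B(Mx, My) = q·B(x, y) for all x, y. Write V₁ and
V_q for the generalized eigenspaces of M at 1 and at q. Then every vector of V₁ that is B-orthogonal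
to all of V_q is zero, every vector of V_q that is B-orthogonal (on the right) to all of V₁ is zero,
and when q ≠ 1 the form B vanishes identically on V₁ × V₁ and on V_q × V_q. (The text asserts this
as the evident adaptation, to a form scaled by q, of the orthogonality and nondegeneracy facts for
generalized kernels of an automorphism preserving a form; the abstract statement is recorded here,
the application to the Weil pairing needing that pairing's formalism.) -/
theorem result
    {k : Type u} [Field k] {V : Type v} [AddCommGroup V] [Module k V] [FiniteDimensional k V]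
    (B : LinearMap.BilinForm k V) (hB : B.Nondegenerate) (q : k) (hq : q ≠ 0)
    (M : V ≃ₗ[k] V) (hM : ∀ x y : V, B (M x) (M y) = q * B x y) :
    (∀ x ∈ Module.End.maxGenEigenspace (M : Module.End k V) 1,
        (∀ y ∈ Module.End.maxGenEigenspace (M : Module.End k V) q, B x y = 0) → x = 0) ∧
      (∀ y ∈ Module.End.maxGenEigenspace (M : Module.End k V) q,
        (∀ x ∈ Module.End.maxGenEigenspace (M : Module.End k V) 1, B x y = 0) → y = 0) ∧
      (q ≠ 1 → ∀ x ∈ Module.End.maxGenEigenspace (M : Module.End k V) 1,
        ∀ x' ∈ Module.End.maxGenEigenspace (M : Module.End k V) 1, B x x' = 0) ∧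
      (q ≠ 1 → ∀ y ∈ Module.End.maxGenEigenspace (M : Module.End k V) q,
        ∀ y' ∈ Module.End.maxGenEigenspace (M : Module.End k V) q, B y y' = 0) := by
  set T : Module.End k V := (M : Module.End k V) with hT
  set g : Module.End k V := T - (1 : k) • (1 : Module.End k V) with hg
  set f : Module.End k V := T - q • (1 : Module.End k V) with hf
  have hTinj : Function.Injective T := M.injective
  have cTg : Commute T g := (Commute.refl T).sub_right ((Commute.one_right T).smul_right _)
  have cTf : Commute T f := (Commute.refl T).sub_right ((Commute.one_right T).smul_right _)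
  have cfg : Commute f g := cTg.sub_left ((Commute.one_left g).smul_left _)
  have h1 : ∀ x y, B (T x) (f y) = (-q) * B (g x) y := fun x y => by
    have : B (T x) (T y) = q * B x y := hM x y
    simp only [hf, hg, LinearMap.sub_apply, LinearMap.smul_apply, Module.End.one_apply, map_sub, map_smul,
      smul_eq_mul, one_smul, this]
    ring
  have h2 : ∀ x y, B.flip (T x) (g y) = (-1) * B.flip (f x) y := fun x y => by
    have : B (T y) (T x) = q * B y x := hM y x
    simp only [LinearMap.BilinForm.flip_apply, hf, hg, LinearMap.sub_apply, LinearMap.smul_apply, Module.End.one_apply, map_sub, map_smul,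
      smul_eq_mul, one_smul, this]
    ring
  have m1 : ∀ x, x ∈ Module.End.maxGenEigenspace (M : Module.End k V) 1 ↔ x ∈ ⨆ i, LinearMap.ker (g ^ i) := by
    intro x
    rw [Module.End.mem_maxGenEigenspace]
    exact (Submodule.mem_iSup_of_chain g.iterateKer x).symm
  have mq : ∀ x, x ∈ Module.End.maxGenEigenspace (M : Module.End k V) q ↔ x ∈ ⨆ i, LinearMap.ker (f ^ i) := by
    intro x
    rw [Module.End.mem_maxGenEigenspace]
    exact (Submodule.mem_iSup_of_chain f.iterateKer x).symm
  have dis : q ≠ 1 → ∀ (a b : k) (x : V), a ≠ b → (T - a • (1 : Module.End k V)) x = 0 →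
      (∃ n : ℕ, ((T - b • (1 : Module.End k V)) ^ n) x = 0) → x = 0 := by
    intro _ a b x hab hx ⟨n, hn⟩
    have e : (T - b • (1 : Module.End k V)) x = (a - b) • x := by
      have hx' : T x = a • x := by simpa [sub_eq_zero] using hx
      simp [hx', sub_smul]
    have e' : ∀ m : ℕ, ((T - b • (1 : Module.End k V)) ^ m) x = (a - b) ^ m • x := by
      intro m
      induction m with
      | zero => simp
      | succ m ih => rw [pow_succ', Module.End.mul_apply, ih, map_smul, e, smul_smul, pow_succ]
    rw [e'] at hn
    exact (smul_eq_zero.1 hn).resolve_left (pow_ne_zero _ (sub_ne_zero.2 hab))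
  refine ⟨?_, ?_, ?_, ?_⟩
  · intro x hx h
    refine hB.1 x fun y => GenKer.eq_zero_of_ker_range (B x) f (fun z hz => h z ((mq z).2 hz))
      (fun z hz => GenKer.eq_zero_of_mem_ker_of_mem_range B T f g _ hTinj cTg h1 ((m1 x).1 hx) hz) y
  · intro y hy h
    refine hB.2 y fun x => GenKer.eq_zero_of_ker_range (B.flip y) g (fun z hz => h z ((m1 z).2 hz))
      (fun z hz => GenKer.eq_zero_of_mem_ker_of_mem_range B.flip T g f _ hTinj cTf h2 ((mq y).1 hy) hz) x
  · intro hq1 x hx x' hx'
    refine GenKer.eq_zero_of_mem_ker_of_mem_range B T f g _ hTinj cTg h1 ((m1 x).1 hx) ?_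
    exact GenKer.ker_le_range_of_commute f g cfg (fun z hz hn => dis hq1 q 1 z hq1 hz hn) ((m1 x').1 hx')
  · intro hq1 y hy y' hy'
    refine GenKer.eq_zero_of_mem_ker_of_mem_range B.flip T g f _ hTinj cTf h2 ((mq y').1 hy') ?_
    exact GenKer.ker_le_range_of_commute g f cfg.symm (fun z hz hn => dis hq1 1 q z hq1.symm hz hn) ((mq y).1 hy)

end Groth.Agent.S19660
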