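import Groth.Statements.S19661
import Groth.Agent.Lib.GrassClosed13.Main

set_option autoImplicit false
universe u
open CategoryTheory CategoryTheory.Limits AlgebraicGeometry
open Grass

namespace Groth.Agent.S19661

/-- Let `X` be a scheme, `E₁`, `E₂` quasi-coherent `O_X`-modules, `v : E₁ ⟶ E₂` an epimorphism and `e ≥
0`. Let `(G₁, π₁, Q₁, q₁)` be a Grassmannian of rank-`e` locally free quotients of `E₁` over `X` (a
representing scheme with its universal quotient `q₁ : π₁^* E₁ ⟶ Q₁`) and `(G₂, π₂, Q₂, q₂)` one of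
`E₂`. Then the morphism `G₂ ⟶ G₁` over `X` classifying the rank-`e` quotient `π₂^* E₁ ⟶ π₂^* E₂ ⟶
Q₂` of `E₁` (every quotient of `E₂` is a quotient of `E₁`) is a closed immersion. (The base is an
arbitrary scheme and the modules are only assumed quasi-coherent; the form over an affine base with
the Grassmannians given by their points in affine schemes is a separate statement.) -/
theorem result (X G₁ G₂ : Scheme.{u}) (π₁ : G₁ ⟶ X) (π₂ : G₂ ⟶ X)
    (E₁ E₂ : X.Modules) (hE₁ : Coh.IsQCoh E₁) (hE₂ : Coh.IsQCoh E₂) (v : E₁ ⟶ E₂) [Epi v] (e : ℕ)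
    (Q₁ : G₁.Modules) (q₁ : (Scheme.Modules.pullback π₁).obj E₁ ⟶ Q₁) (hG₁ : Grass.IsGrass π₁ E₁ e Q₁ q₁)
    (Q₂ : G₂.Modules) (q₂ : (Scheme.Modules.pullback π₂).obj E₂ ⟶ Q₂) (hG₂ : Grass.IsGrass π₂ E₂ e Q₂ q₂) :
    IsClosedImmersion (hG₁.mapOfEpi hG₂ v) := by
  exact Groth.Agent.GrassClosed13.isClosedImmersion_mapOfEpi v hG₁ hG₂ hE₁ hE₂

end Groth.Agent.S19661
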