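import Groth.Statements.S19663
import Groth.Agent.Lib.Grass.FlagGrass

set_option autoImplicit false
universe u
open CategoryTheory CategoryTheory.Limits AlgebraicGeometry
open Grass

namespace Groth.Agent.S19663

/-- Let `X` be a scheme, `E` an `O_X`-module, `m ≥ 0` and `n : Fin (m+2) → ℕ`. Let `(F', π', Q', q')` be
the partial flag scheme of `E` of type `n` (universal nested locally free quotients `q' i : π'^* E ⟶
Q' i` of ranks `n i`, index `0` the largest) and `(F, π, Q, q)` the partial flag scheme of the
truncated type `n ∘ Fin.castSucc` (the first `m+1` steps). Then the morphism `F' ⟶ F` over `X`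
classifying the first `m+1` universal quotients of `F'`, together with the last universal quotient
`Q' (m+1)` and the epimorphism onto it from the pulled-back `Q m` (through the classifying
isomorphism and the factoring map `Q' m ⟶ Q' (m+1)`), is the Grassmannian over `F` of rank-`n (m+1)`
locally free quotients of the last universal quotient `Q m` of `F`. (The source takes the base of
finite type over a field, `E` locally free of finite rank and the ranks positive and strictly
decreasing; the statement is made here for any base scheme, any module and any type.) -/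
theorem result (X F F' : Scheme.{u}) (π : F ⟶ X) (π' : F' ⟶ X) (E : X.Modules)
    (m : ℕ) (n : Fin (m + 2) → ℕ)
    (Q : Fin (m + 1) → F.Modules) (q : ∀ i, (Scheme.Modules.pullback π).obj E ⟶ Q i)
    (hF : Grass.IsFlag π E (fun i => n (Fin.castSucc i)) Q q)
    (Q' : Fin (m + 2) → F'.Modules) (q' : ∀ i, (Scheme.Modules.pullback π').obj E ⟶ Q' i)
    (hF' : Grass.IsFlag π' E n Q' q') :
    Grass.IsGrass
      (hF.lift π' (fun i => Q' (Fin.castSucc i)) (fun i => hF'.rank (Fin.castSucc i)) (fun i => q' (Fin.castSucc i))
        (fun i => hF'.epi (Fin.castSucc i))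
        (fun i j hij => hF'.nested (Fin.castSucc i) (Fin.castSucc j) (Fin.castSucc_le_castSucc_iff.mpr hij)))
      (Q (Fin.last m)) (n (Fin.last (m + 1))) (Q' (Fin.last (m + 1)))
      ((hF.liftIso π' (fun i => Q' (Fin.castSucc i)) (fun i => hF'.rank (Fin.castSucc i)) (fun i => q' (Fin.castSucc i))
          (fun i => hF'.epi (Fin.castSucc i))
          (fun i j hij => hF'.nested (Fin.castSucc i) (Fin.castSucc j) (Fin.castSucc_le_castSucc_iff.mpr hij))
          (Fin.last m)).hom ≫
        (hF'.nested (Fin.castSucc (Fin.last m)) (Fin.last (m + 1)) (Fin.le_last _)).choose) := by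
  exact GrassLib.isGrass_last X F F' π π' E m n Q q hF Q' q' hF' _
    (hF.lift_comp _ _ _ _ _ _) (fun i => hF.liftIso _ _ _ _ _ _ i)
    (fun i => hF.quotBC_liftIso _ _ _ _ _ _ i) _
    (hF'.nested (Fin.castSucc (Fin.last m)) (Fin.last (m + 1)) (Fin.le_last _)).choose_spec

end Groth.Agent.S19663
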