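import Groth.Statements.S19672
import Groth.Agent.Lib.QuotExt3.TangentPt

set_option autoImplicit false
universe u
open CategoryTheory CategoryTheory.Limits AlgebraicGeometry
open Deform

namespace Groth.Agent.S19672

/-- Let k be an algebraically closed field, X a projective k-scheme (with a closed k-immersion into some
P^n_k) and H a coherent O_X-module. Let (Q, K_u) represent the Quot functor of H over k on locally
Noetherian k-schemes: Q is locally Noetherian, K_u ⊆ H_Q is a submodule on X ×_k Q with coherent
Q-flat quotient, and every submodule of H_T with coherent T-flat quotient (T locally Noetherian over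
k) is the pullback of K_u along a unique k-morphism T → Q. Let K ⊆ H be a submodule on X ×_k Spec k
with coherent quotient F = H/K and let g : Spec k → Q be the k-point [f] classifying it. Then the
Zariski cotangent space m/m² of the local ring of Q at [f], as a vector space over the residue
field, has the same dimension as the k-vector space Hom(K, F) of O-module maps on X ×_k Spec k,
where k acts through the projection X ×_k Spec k → Spec k. (The published statement identifies the
tangent space T_[f] Q with Hom(K, F); this row records the equality of dimensions.) -/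
theorem result
    {k : Type u} [Field k] [IsAlgClosed k] (X : Scheme.{u}) (x : X ⟶ (Spec (CommRingCat.of k)))
    (hprojX : ∃ (n : ℕ) (c : X ⟶ CohB1.ProjSpaceOver n (Spec (CommRingCat.of k))),
      IsClosedImmersion c ∧ c ≫ CohB1.ProjSpaceOver.toBase n (Spec (CommRingCat.of k)) = x)
    (H : X.Modules) (hH : Coh.IsCoh H)
    (Q : Over (Spec (CommRingCat.of k))) (Ku : FGA.QuotSet x H Q) (hQ : FGA.QuotRepresentedBy x H Q Ku)
    (K₀ : FGA.QuotSet x H (Over.mk (𝟙 (Spec (CommRingCat.of k))))) (g : (Over.mk (𝟙 (Spec (CommRingCat.of k)))) ⟶ Q)
    (hg : FGA.quotPull x H g Ku.1 = K₀.1) :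
    Module.finrank (IsLocalRing.ResidueField (Q.left.presheaf.stalk (g.left.base (IsLocalRing.closedPoint k))))
        (IsLocalRing.CotangentSpace (Q.left.presheaf.stalk (g.left.base (IsLocalRing.closedPoint k)))) =
      (letI : (PicF.XT x (Over.mk (𝟙 (Spec (CommRingCat.of k))))).Over (Spec (CommRingCat.of k)) :=
        ⟨PicF.XTproj x (Over.mk (𝟙 (Spec (CommRingCat.of k))))⟩
      Module.finrank k (Subobject.underlying.obj K₀.1 ⟶ cokernel K₀.1.arrow)) := by
  exact Groth.Agent.QuotExt3.finrank_cotangentSpace hQ hH K₀ g hg

end Groth.Agent.S19672
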