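import Groth.Statements.S19679
import Groth.Agent.Lib.ChBal21.CatQuot
-- import your own Groth.Agent.* helpers here

set_option autoImplicit false
universe u
open CategoryTheory MonoidalCategory CartesianMonoidalCategory MonObj AlgebraicGeometry
open ChGrp

namespace Groth.Agent.S19679

/-- Let k be an algebraically closed field of characteristic zero, G and H affine group schemes of
finite type over k (algebraic groups) with i : H → G a homomorphism which is a closed immersion, and
Z a reduced affine k-scheme of finite type (an affine variety) with an action of H. Let Y, with its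
G-action and j : G × Z → Y, be the balanced product G ×^H Z for the fppf topology: j is
G-equivariant for left translation on the first factor, it is a torsor for the twisted H-action
h·(g, z) = (g i(h)⁻¹, h·z), and it has sections fppf-locally on Y. If π_Z : Z → P is a categorical
quotient of Z by H and π_Y : Y → Q a categorical quotient of Y by G, then the projection G × Z → Z
induces an isomorphism Q ≅ P, inverse to the morphism induced by the H-invariant map z ↦ π_Y(j(e,
z)): there are mutually inverse φ : P → Q and χ : Q → P with π_Z followed by φ equal to z ↦ π_Y(j(e,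
z)) and j followed by π_Y and χ equal to the projection followed by π_Z (so Y//G ≅ Z//H). (The
source assumes G and H reductive and defines G ×^H Z as the quotient (G × Z)//H, a principal
H-bundle; here the quotients are part of the data, the balanced product is taken in its torsor form,
and reductivity is not needed.) -/
theorem result
    (k : Type u) [Field k] [IsAlgClosed k] [CharZero k]
    (G H Z Y P Q : Over (Spec (CommRingCat.of k))) [GrpObj G] [GrpObj H]
    [IsAffine G.left] [LocallyOfFiniteType G.hom] [IsAffine H.left] [LocallyOfFiniteType H.hom]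
    (i : H ⟶ G) [IsMonHom i] [IsClosedImmersion i.left]
    [IsAffine Z.left] [LocallyOfFiniteType Z.hom] [IsReduced Z.left]
    (aZ : AlgGrp.Action H Z) (aY : AlgGrp.Action G Y) (j : G ⊗ Z ⟶ Y)
    (hY : ChGrp.IsBalProd Scheme.fppfPrecoverage i aZ aY j)
    (πZ : Z ⟶ P) (hP : GIT.IsCatQuot aZ πZ) (πY : Y ⟶ Q) (hQ : GIT.IsCatQuot aY πY) :
    ∃ (φ : P ⟶ Q) (χ : Q ⟶ P), φ ≫ χ = 𝟙 P ∧ χ ≫ φ = 𝟙 Q ∧
      πZ ≫ φ = lift (toUnit Z ≫ η[G]) (𝟙 Z) ≫ j ≫ πY ∧ j ≫ πY ≫ χ = snd G Z ≫ πZ := by
  exact ChBal21.exists_isIso_catQuot i aZ aY j hY πZ hP πY hQ

end Groth.Agent.S19679
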