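import Groth.Statements.S19680
import Groth.Agent.Lib.Slice15.Main

set_option autoImplicit false
universe u
open CategoryTheory MonoidalCategory CartesianMonoidalCategory MonObj AlgebraicGeometry
open ChGrp

namespace Groth.Agent.S19680

/-- Let k be an algebraically closed field of characteristic zero, G a connected reductive group over k
(affine, smooth, connected, trivial unipotent radical) acting on a reduced affine k-scheme X of
finite type (an affine variety), π : X → Y a good quotient of X by G, and x a k-point of X whose
orbit is closed. Let i : H → G be the stabilizer of x: a homomorphism making H the fibre product of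
the orbit map G → X of x with the point x. Then there are a locally closed subscheme incl : V → X
which is affine and contains x, an action of H on V for which incl is equivariant (V is stable under
the stabilizer), a G-scheme W with a morphism j : G × V → W which is at once the categorical
quotient of G × V by the twisted H-action h·(g, v) = (g i(h)⁻¹, h·v) and the balanced product G ×^H
V for the fppf topology (G-equivariant for left translation, an H-torsor with fppf-local sections),
a G-equivariant morphism ψ : W → X with ψ(j(g, v)) = g·incl(v) (the morphism induced by the action),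
a good quotient π_W : W → Q of W by G and a morphism ψq : Q → Y with π_W followed by ψq equal to ψ
followed by π, such that: the image U of ψ is open in X and saturated (π⁻¹(π(U)) = U), ψq is étale,
and W is the fibre product of X and Q over Y through ψ and π_W; that is, ψ : G ×^H V → U is strongly
étale onto the saturated open U. (The published statement allows any reductive G; this row assumes G
connected, the case the source's argument covers.) -/
theorem result
    (k : Type u) [Field k] [IsAlgClosed k] [CharZero k]
    (G X Y : Over (Spec (CommRingCat.of k))) [GrpObj G] (hG : Red.IsReductiveOver k G)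
    [IsAffine X.left] [LocallyOfFiniteType X.hom] [IsReduced X.left]
    (a : AlgGrp.Action G X) (π : X ⟶ Y) (hπ : NRQuot.IsGoodQuot a π)
    (x : 𝟙_ (Over (Spec (CommRingCat.of k))) ⟶ X) (hx : IsClosed (Set.range (a.orbitMap x).left.base))
    (H : Over (Spec (CommRingCat.of k))) [GrpObj H] (i : H ⟶ G) [IsMonHom i]
    (hH : IsPullback i (toUnit H) (a.orbitMap x) x) :
    ∃ (V W Q : Over (Spec (CommRingCat.of k))) (incl : V ⟶ X) (v : 𝟙_ (Over (Spec (CommRingCat.of k))) ⟶ V) (aV : AlgGrp.Action H V)
      (aW : AlgGrp.Action G W) (j : G ⊗ V ⟶ W) (ψ : W ⟶ X) (πW : W ⟶ Q) (ψq : Q ⟶ Y),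
      IsImmersion incl.left ∧ IsAffine V.left ∧ v ≫ incl = x ∧
      aV.act ≫ incl = (H ◁ incl) ≫ (a.restrict i).act ∧
      GIT.IsCatQuot (ChGrp.twist i aV) j ∧ ChGrp.IsBalProd Scheme.fppfPrecoverage i aV aW j ∧
      j ≫ ψ = (G ◁ incl) ≫ a.act ∧ AlgGrp.Action.IsEquivariant aW a ψ ∧
      NRQuot.IsGoodQuot aW πW ∧ πW ≫ ψq = ψ ≫ π ∧
      IsOpen (Set.range ψ.left.base) ∧
      π.left.base ⁻¹' (π.left.base '' Set.range ψ.left.base) = Set.range ψ.left.base ∧
      AlgebraicGeometry.Etale ψq.left ∧ IsPullback ψ πW π ψq := by
  exact Slice15.exists_etale_slice G X Y hG a π hπ x hx H i hH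

end Groth.Agent.S19680
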