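import Groth.Statements.S19686
import Groth.Agent.Lib.AbSchRigid22.Biext

set_option autoImplicit false
universe u
open CategoryTheory CategoryTheory.Limits MonoidalCategory CartesianMonoidalCategory MonObj AlgebraicGeometry
open AbSch

namespace Groth.Agent.S19686

/-- Let S be a scheme and A₁, A₂, A₃ abelian S-schemes (smooth, proper, connected fibres). Then the
category of biextensions of (A₁, A₂) by A₃ is rigid: for every biextension B of (A₁, A₂) by A₃,
formed with the sheaves of points on the big fppf site of all S-schemes, the only endomorphism of B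
inducing the identity on A₁, A₂ and A₃ is the identity (equivalently, there is no non-zero
biadditive morphism from A₁ × A₂ to A₃). The source also asserts that every such biextension is
trivial; that assertion is not part of this statement. -/
theorem result {S : Scheme.{u}} (A₁ A₂ A₃ : Over S)
    [GrpObj A₁] [IsCommMonObj A₁] [Smooth A₁.hom] [IsProper A₁.hom]
    (hA₁ : ∀ s : S, ConnectedSpace ↥(A₁.hom.fiber s))
    [GrpObj A₂] [IsCommMonObj A₂] [Smooth A₂.hom] [IsProper A₂.hom]
    (hA₂ : ∀ s : S, ConnectedSpace ↥(A₂.hom.fiber s))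
    [GrpObj A₃] [IsCommMonObj A₃] [Smooth A₃.hom] [IsProper A₃.hom]
    (hA₃ : ∀ s : S, ConnectedSpace ↥(A₃.hom.fiber s))
    (B : Biext (QuotSh.J Scheme.fppfPrecoverage S) (CGrpSh.pts Scheme.fppfPrecoverage A₁) (CGrpSh.pts Scheme.fppfPrecoverage A₂) (CGrpSh.pts Scheme.fppfPrecoverage A₃))
    (f : Biext.Hom (QuotSh.J Scheme.fppfPrecoverage S) B B) : f = Biext.HomOver.id (QuotSh.J Scheme.fppfPrecoverage S) B := by
  exact AbSchRigid22.biextHom_eq_id _ A₁ A₂ A₃ hA₁ hA₂ B f

end Groth.Agent.S19686
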