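import Groth.Statements.S19687
import Groth.Agent.Lib.BiextSeq8.Main
-- import your own Groth.Agent.* helpers here

set_option autoImplicit false
universe u
open CategoryTheory CategoryTheory.Limits MonoidalCategory CartesianMonoidalCategory MonObj AlgebraicGeometry
open AbSch

namespace Groth.Agent.S19687

/-- Under two vanishing hypotheses stated below, let S be a scheme and A₁, A₂, A₃ be abelian S-schemes
(smooth, proper, connected fibres), viewed through their sheaves of points on the big fppf site of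
all S-schemes. Assume (i) the group of extensions of A₁ by the internal Hom sheaf from A₂ to A₃ is
zero, and (ii) every morphism of abelian sheaves from A₁ to the first Ext sheaf from A₂ with values
in A₃ is zero. Then every biextension of (A₁, A₂) by A₃ admits a splitting. (The source states the
conclusion unconditionally, deriving (i) and (ii) beforehand; here (i) and (ii) are assumptions.) -/
theorem result {S : Scheme.{u}} (A₁ A₂ A₃ : Over S)
    [GrpObj A₁] [IsCommMonObj A₁] [Smooth A₁.hom] [IsProper A₁.hom]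
    (hA₁ : ∀ s : S, ConnectedSpace ↥(A₁.hom.fiber s))
    [GrpObj A₂] [IsCommMonObj A₂] [Smooth A₂.hom] [IsProper A₂.hom]
    (hA₂ : ∀ s : S, ConnectedSpace ↥(A₂.hom.fiber s))
    [GrpObj A₃] [IsCommMonObj A₃] [Smooth A₃.hom] [IsProper A₃.hom]
    (hA₃ : ∀ s : S, ConnectedSpace ↥(A₃.hom.fiber s))
    (h₁ : ∀ e : Abelian.Ext (CGrpSh.pts Scheme.fppfPrecoverage A₁) (HomSh.homSh (QuotSh.J Scheme.fppfPrecoverage S) (CGrpSh.pts Scheme.fppfPrecoverage A₂) (CGrpSh.pts Scheme.fppfPrecoverage A₃)) 1, e = 0)
    (h₂ : ∀ φ : (CGrpSh.pts Scheme.fppfPrecoverage A₁) ⟶ (HomSh.extSh (QuotSh.J Scheme.fppfPrecoverage S) (CGrpSh.pts Scheme.fppfPrecoverage A₂) 1).obj (CGrpSh.pts Scheme.fppfPrecoverage A₃), φ = 0)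
    (B : Biext (QuotSh.J Scheme.fppfPrecoverage S) (CGrpSh.pts Scheme.fppfPrecoverage A₁) (CGrpSh.pts Scheme.fppfPrecoverage A₂) (CGrpSh.pts Scheme.fppfPrecoverage A₃)) :
    Biext.IsTrivial (QuotSh.J Scheme.fppfPrecoverage S) B := by
  exact BiextSeq8.isTrivial B h₁ h₂

end Groth.Agent.S19687
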