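import Groth.Statements.S1969
import Groth.Agent.Lib.FlatIdealsH7.Basic
import Mathlib.RingTheory.Flat.Localization
import Mathlib.RingTheory.Flat.TorsionFree
import Mathlib.RingTheory.Flat.Tensor
import Mathlib.RingTheory.LocalRing.Module

set_option autoImplicit false
universe u
open EtAlg

namespace Groth.Agent.S1969

/-- For a commutative ring A these are equivalent — all ideals are flat A-modules; all finitely
generated ideals are flat; flatness passes to submodules of flat modules; each localization at a
prime is a valuation ring (in particular a domain). Condition (1), weak dimension at most one, is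
not stated. -/
theorem result (A : Type u) [CommRing A] :
    List.TFAE [∀ I : Ideal A, Module.Flat A I,
      ∀ I : Ideal A, I.FG → Module.Flat A I,
      ∀ (M : Type u) [AddCommGroup M] [Module A M], Module.Flat A M → ∀ N : Submodule A M, Module.Flat A N,
      ∀ (p : Ideal A) [p.IsPrime], ∃ _ : IsDomain (Localization.AtPrime p), ValuationRing (Localization.AtPrime p)] := by
  tfae_have 1 → 2 := fun h I _ => h I
  tfae_have 2 → 3 := by
    intro h M _ _ hM N
    rw [Module.Flat.iff_rTensor_injective]
    intro I hI
    haveI := h I hI
    have e : (N.subtype.lTensor A) ∘ₗ (I.subtype.rTensor N) = (I.subtype.rTensor M) ∘ₗ (N.subtype.lTensor I) := by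
      rw [LinearMap.lTensor_comp_rTensor, LinearMap.rTensor_comp_lTensor]
    refine Function.Injective.of_comp (f := N.subtype.lTensor A) ?_
    rw [← LinearMap.coe_comp, e]
    exact (Module.Flat.rTensor_preserves_injective_linearMap (M := M) I.subtype Subtype.val_injective).comp
      (Module.Flat.lTensor_preserves_injective_linearMap (M := I) N.subtype Subtype.val_injective)
  tfae_have 3 → 1 := fun h I => h A inferInstance I
  tfae_have 3 → 4 := by
    intro h p hp
    let L := Localization.AtPrime p
    have hflat : ∀ J : Ideal L, Module.Flat L J := fun J => by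
      haveI : Module.Flat A L := IsLocalization.flat L p.primeCompl
      haveI : Module.Flat A J := h L inferInstance (J.restrictScalars A)
      exact (Module.flat_iff_of_isLocalization L p.primeCompl J).2 inferInstance
    have hgen : ∀ J : Ideal L, J.FG → J ≠ ⊥ → ∃ d, J = Ideal.span {d} ∧ d ∈ nonZeroDivisors L := by
      intro J hJ hJ0
      haveI := hflat J
      haveI : Module.Finite L J := Module.Finite.iff_fg.2 hJ
      haveI : Module.Free L J := Module.free_of_flat_of_isLocalRing
      let b := Module.Free.chooseBasis L J
      have hsub : Subsingleton (Module.Free.ChooseBasisIndex L J) := by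
        refine ⟨fun i j => by_contra fun hij => ?_⟩
        have e : ((b j : L)) • b i - ((b i : L)) • b j = 0 := Subtype.ext (by simp [mul_comm])
        have := congrArg (fun v => b.repr v i) e
        simp [Finsupp.single_apply, Ne.symm hij] at this
        exact b.ne_zero j this
      obtain ⟨i⟩ : Nonempty (Module.Free.ChooseBasisIndex L J) := by
        by_contra hemp
        rw [not_nonempty_iff] at hemp
        have : Subsingleton J := b.repr.injective.subsingleton
        exact hJ0 (eq_bot_iff.2 fun x hx => by
          rw [Submodule.mem_bot]; exact congrArg Subtype.val (Subsingleton.elim (⟨x, hx⟩ : J) 0))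
      haveI : Unique (Module.Free.ChooseBasisIndex L J) := uniqueOfSubsingleton i
      refine ⟨b i, le_antisymm (fun x hx => ?_) ((Ideal.span_singleton_le_iff_mem _).2 (b i).2), ?_⟩
      · have := congrArg Subtype.val (b.sum_repr ⟨x, hx⟩)
        rw [Fintype.sum_unique, show (default : Module.Free.ChooseBasisIndex L J) = i from Subsingleton.elim _ _] at this
        rw [Ideal.mem_span_singleton']
        exact ⟨_, this⟩
      · rw [mem_nonZeroDivisors_iff_right]
        intro r hr
        have hz : r • b i = 0 := Subtype.ext (by simpa using hr)
        have := congrArg (fun v => b.repr v i) hz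
        simpa using this
    haveI hdom : IsDomain L := by
      haveI : NoZeroDivisors L := ⟨fun {a b} hab => by
        by_cases ha : a = 0
        · exact Or.inl ha
        obtain ⟨d, hd, hdn⟩ := hgen (Ideal.span {a}) (Submodule.fg_span_singleton a) (by simpa using ha)
        obtain ⟨c, hc⟩ := Ideal.mem_span_singleton'.1 (hd ▸ Ideal.mem_span_singleton_self a : a ∈ Ideal.span {d})
        obtain ⟨c', hc'⟩ := Ideal.mem_span_singleton'.1 (hd.symm ▸ Ideal.mem_span_singleton_self d : d ∈ Ideal.span {a})
        refine Or.inr ((mem_nonZeroDivisors_iff_right.1 hdn) b ?_)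
        rw [← hc', mul_comm c', ← mul_assoc, mul_comm b, hab, zero_mul]⟩
      exact NoZeroDivisors.to_isDomain L
    refine ⟨hdom, ?_⟩
    rw [ValuationRing.iff_dvd_total]
    refine ⟨fun a b => ?_⟩
    by_cases h0 : Ideal.span ({a, b} : Set L) = ⊥
    · left
      rw [(Submodule.span_eq_bot.1 h0) b (by simp)]
      exact dvd_zero a
    obtain ⟨d, hd, hdn⟩ := hgen (Ideal.span {a, b}) (Submodule.fg_span ((Set.finite_singleton b).insert a)) h0
    obtain ⟨x, y, hxy⟩ := Ideal.mem_span_pair.1 (show d ∈ Ideal.span {a, b} by rw [hd]; exact Ideal.mem_span_singleton_self d)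
    obtain ⟨a', ha'⟩ := Ideal.mem_span_singleton'.1 (show a ∈ Ideal.span {d} by rw [← hd]; exact Ideal.subset_span (by simp))
    obtain ⟨b', hb'⟩ := Ideal.mem_span_singleton'.1 (show b ∈ Ideal.span {d} by rw [← hd]; exact Ideal.subset_span (by simp))
    have hone : x * a' + y * b' = 1 := by
      refine sub_eq_zero.1 ((mem_nonZeroDivisors_iff_right.1 hdn) _ ?_)
      linear_combination hxy + x * ha' + y * hb'
    rcases IsLocalRing.isUnit_or_isUnit_of_add_one hone with hu | hu
    · left
      rw [← ha', ← hb', (isUnit_of_mul_isUnit_right hu).mul_left_dvd]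
      exact dvd_mul_left d b'
    · right
      rw [← ha', ← hb', (isUnit_of_mul_isUnit_right hu).mul_left_dvd]
      exact dvd_mul_left d a'
  tfae_have 4 → 2 := by
    intro h I _
    refine Module.flat_of_localized_maximal I fun m hm => ?_
    obtain ⟨hd, hv⟩ := h m
    haveI := hd
    haveI := hv
    haveI : Module.Flat A (Localization.AtPrime m) := IsLocalization.flat _ m.primeCompl
    haveI : Module.Flat (Localization.AtPrime m) (LocalizedModule m.primeCompl I) := by
      rw [Module.Flat.flat_iff_torsion_eq_bot_of_isBezout, eq_bot_iff]
      rintro x ⟨⟨c, hc⟩, hcx⟩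
      rw [Submodule.mem_bot]
      induction x using LocalizedModule.induction_on with
      | _ i s =>
        obtain ⟨a, t, rfl⟩ := IsLocalization.exists_mk'_eq m.primeCompl c
        replace hcx : IsLocalization.mk' (Localization.AtPrime m) a t • LocalizedModule.mk i s = 0 := hcx
        have h2 : a • LocalizedModule.mk i s = (0 : LocalizedModule m.primeCompl I) := by
          rw [← algebraMap_smul (Localization.AtPrime m) a (LocalizedModule.mk i s),
            ← IsLocalization.mk'_spec' (Localization.AtPrime m) a t, mul_smul, hcx, smul_zero]
        rw [LocalizedModule.smul'_mk, ← LocalizedModule.zero_mk 1, LocalizedModule.mk_eq] at h2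
        obtain ⟨⟨u, hu⟩, hu0⟩ := h2
        simp only [one_smul, smul_zero, Submonoid.smul_def] at hu0
        have e := congrArg (algebraMap A (Localization.AtPrime m)) (congrArg Subtype.val hu0)
        simp only [SetLike.val_smul, smul_eq_mul, ZeroMemClass.coe_zero, map_zero, map_mul] at e
        have hai : algebraMap A (Localization.AtPrime m) (i : A) = 0 := by
          have hu' := (IsLocalization.map_units (Localization.AtPrime m) (⟨u, hu⟩ : m.primeCompl)).ne_zero
          have ha : algebraMap A (Localization.AtPrime m) a ≠ 0 := fun ha => nonZeroDivisors.ne_zero hc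
            (by rw [IsLocalization.mk'_eq_mul_mk'_one (M := m.primeCompl) a t, ha, zero_mul])
          rcases mul_eq_zero.1 e with e | e
          · exact absurd e hu'
          · exact (mul_eq_zero.1 e).resolve_left ha
        obtain ⟨v, hv⟩ := (IsLocalization.map_eq_zero_iff m.primeCompl (Localization.AtPrime m) _).1 hai
        rw [← LocalizedModule.zero_mk 1, LocalizedModule.mk_eq]
        exact ⟨v, by rw [one_smul, smul_zero, smul_zero]; exact Subtype.ext hv⟩
    exact Module.Flat.trans A (Localization.AtPrime m) _
  tfae_finish

end Groth.Agent.S1969
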