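import Groth.Statements.S19690
import Groth.Agent.Lib.OneMot8.Main

set_option autoImplicit false
universe u
open CategoryTheory CategoryTheory.Limits MonoidalCategory CartesianMonoidalCategory MonObj AlgebraicGeometry
open OneMot

namespace Groth.Agent.S19690

/-- Let k be an algebraically closed field of characteristic zero, M and N 1-motives over k, and f, g
morphisms of 1-motives from M to N. If for every integer m ≥ 1 the homomorphisms induced by f and by
g on the torsion realizations of level m, computed on k-points, are equal, then f = g. (The source
states that the realization functor to the inverse limit over all m is faithful; equality at every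
finite level implies equality on the limit.) -/
theorem result (k : Type u) [Field k] [IsAlgClosed k] [CharZero k]
    (M N : OneMot.Motive (Spec (CommRingCat.of k))) (f g : OneMot.Motive.Hom M N)
    (h : ∀ m : ℕ, 1 ≤ m → OneMot.tzMap m (Over.mk (𝟙 (Spec (CommRingCat.of k)))) f = OneMot.tzMap m (Over.mk (𝟙 (Spec (CommRingCat.of k)))) g) :
    f = g := by
  exact Groth.Agent.OneMot8.hom_eq f g h

end Groth.Agent.S19690
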