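import Groth.Statements.S19696
import Groth.Agent.Lib.Trace12.Rank

set_option autoImplicit false
universe u
open CategoryTheory CategoryTheory.Limits AlgebraicGeometry Opposite
open FinCov

namespace Groth.Agent.S19696

/-- Let X be a scheme, A a quasi-coherent O_X-algebra which is locally free of rank d as an O_X-module,
and τ : A → O_X its trace (the O_X-linear map which over every affine open where A is finite free is
the trace of the regular representation). If d is invertible in O_X(X), then τ is a split
epimorphism of O_X-modules — so 0 → ker τ → A → O_X → 0 is split exact — and its kernel ker τ is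
locally free of rank d − 1 as an O_X-module. -/
theorem result {X : Scheme.{u}}
    (A : RelSpec.QCAlg X) (d : ℕ) (hA : FlatMod.IsFinLocFreeOfRank d A.toModule)
    (τ : A.toModule ⟶ Coh.structureModule X) (hτ : FinCov.IsTrace A τ)
    (hd : IsUnit ((d : Γ(X, ⊤)))) :
    IsSplitEpi τ ∧ FlatMod.IsFinLocFreeOfRank (d - 1) (kernel τ) := by
  obtain ⟨s, hs⟩ := Groth.Agent.Trace12.exists_section_trace A hA τ hτ hd
  exact ⟨IsSplitEpi.mk' ⟨s, hs⟩, Groth.Agent.Trace12.isFinLocFreeOfRank_kernel A hA τ s hs⟩

end Groth.Agent.S19696
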