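import Groth.Statements.S19699
import Groth.Agent.Lib.Trace12.DblExists

set_option autoImplicit false
universe u
open CategoryTheory CategoryTheory.Limits AlgebraicGeometry Opposite
open FinCov

namespace Groth.Agent.S19699

/-- Let X be a scheme with 2 invertible in O_X(X), A a quasi-coherent O_X-algebra which is locally free
of rank 2 as an O_X-module, and τ : A → O_X its trace (the O_X-linear map which over every affine
open where A is finite free is the trace of the regular representation). Then there is a
homomorphism of O_X-modules m : ker τ ⊗ ker τ → O_X such that A, with the inclusion ker τ → A, is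
the algebra O_X ⊕ ker τ with product given by m: over every open subset, every section of A is
uniquely s·1 + l with s a function and l a section of ker τ, and l·l' = m(l ⊗ l')·1 for sections l,
l' of ker τ. -/
theorem result {X : Scheme.{u}} (A : RelSpec.QCAlg X)
    (hA : FlatMod.IsFinLocFreeOfRank 2 A.toModule)
    (τ : A.toModule ⟶ Coh.structureModule X) (hτ : FinCov.IsTrace A τ) (h2 : IsUnit (2 : Γ(X, ⊤))) :
    ∃ m : CohB1.tensorMod (kernel τ) (kernel τ) ⟶ Coh.structureModule X,
      FinCov.IsDblAlg (kernel τ) m A (kernel.ι τ) := Groth.Agent.Trace12.exists_isDblAlg_kernel A hA τ hτ h2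

end Groth.Agent.S19699
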