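import Groth.Statements.S19700
import Groth.Agent.Lib.Trace12.Dbl

set_option autoImplicit false
universe u
open CategoryTheory CategoryTheory.Limits AlgebraicGeometry Opposite
open FinCov

namespace Groth.Agent.S19700

/-- Let X be a scheme with 2 invertible in O_X(X), L an invertible O_X-module, m : L ⊗ L → O_X a
homomorphism of O_X-modules, (A, j : L → A) a quasi-coherent O_X-algebra presented as O_X ⊕ L with
product given by m (every section of A is uniquely s·1 + j(l), and j(l)·j(l') = m(l ⊗ l')·1), and τ
: A → O_X the trace of A (the O_X-linear map which over every affine open where A is finite free is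
the trace of the regular representation; A is locally free of rank 2 here). Then for every open
subset U of X and every section a of A over U, τ(a) = 0 if and only if a lies in the image of j over
U: the kernel of the trace is exactly j(L). -/
theorem result {X : Scheme.{u}} (L : X.Modules) (hL : PicF.IsInvertible L)
    (m : CohB1.tensorMod L L ⟶ Coh.structureModule X) (A : RelSpec.QCAlg X) (j : L ⟶ A.toModule)
    (h : FinCov.IsDblAlg L m A j) (h2 : IsUnit (2 : Γ(X, ⊤)))
    (τ : A.toModule ⟶ Coh.structureModule X) (hτ : FinCov.IsTrace A τ)
    (U : X.Opens) (a : A.toModule.val.obj (op U)) :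
    (τ.val.app (op U)).hom a = 0 ↔ a ∈ Set.range (j.val.app (op U)).hom := Groth.Agent.Trace12.trace_eq_zero_iff_mem_range L hL m A j h h2 τ hτ U a

end Groth.Agent.S19700
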