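import Groth.Statements.S19701
-- import your own Groth.Agent.* helpers here
import Groth.Agent.Lib.CurveCoh17.DegTwo
import Groth.Agent.Lib.AmpleFin18.PushEuler
import Groth.Agent.Lib.Trace12.Rank
import Groth.Agent.Lib.CurveCoh17.P1Genus
import Groth.Agent.Lib.CurveOm17.Apps
import Groth.Agent.Lib.CurveOm17.PowP1
import Groth.Agent.Lib.VB17.Proper
import Groth.Agent.Lib.CurveCoh17.HZero
import Groth.Agent.S10829

set_option autoImplicit false
universe u
open CategoryTheory CategoryTheory.Limits AlgebraicGeometry Opposite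
open Curves

namespace Groth.Agent.S19701

/-- Let k be an algebraically closed field of characteristic different from 2 and X a hyperelliptic
curve of genus g over k: X → Spec k is smooth and proper, X is connected of dimension one with g =
dim_k H¹(X, O_X) ≥ 2, and h : X → P¹_k is a k-morphism which is a double cover (finite, flat,
locally of finite presentation, of rank 2 at every point). Let τ : h_*O_X → O_{P¹} be the trace of h
(the O-linear map which over every affine open of P¹_k where h_*O_X is finite free is the trace of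
the regular representation). Then the kernel of τ — an invertible sheaf on P¹_k — has degree −g − 1,
the degree of a rank-one sheaf E on P¹_k being χ(E) − χ(O). (On P¹_k this says that ker τ is
isomorphic to O(−g − 1); only the degree is asserted here.) -/
theorem result (k : Type u) [Field k] [IsAlgClosed k]
    (h2 : (2 : k) ≠ 0) {X : Scheme.{u}} (p : X ⟶ Spec (CommRingCat.of k)) [IsProper p] [Smooth p]
    [ConnectedSpace ↥X] (hX : topologicalKrullDim ↥X = 1) (hg : 2 ≤ @Curv2.genus k _ X ⟨p⟩)
    (h : X ⟶ CohB1.ProjSpace 1 k) (hh : h ≫ CohB1.ProjSpace.toSpec 1 k = p)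
    [IsFinite h] [Flat h] [LocallyOfFinitePresentation h]
    (hr : ∀ y : ↥(CohB1.ProjSpace 1 k), h.finrank y = 2)
    (τ : (Scheme.Modules.pushforward h).obj (Coh.structureModule X) ⟶ Coh.structureModule (CohB1.ProjSpace 1 k))
    (hτ : FinCov.IsTraceHom h τ) :
    @Curv2.deg k _ (CohB1.ProjSpace 1 k) ⟨CohB1.ProjSpace.toSpec 1 k⟩ (kernel τ) 1 =
      -((@Curv2.genus k _ X ⟨p⟩ : ℤ) + 1) := by
  classical
  letI : X.Over (Spec (CommRingCat.of k)) := ⟨p⟩
  letI : (CohB1.ProjSpace 1 k).Over (Spec (CommRingCat.of k)) := ⟨CohB1.ProjSpace.toSpec 1 k⟩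
  haveI : IsProper (X ↘ Spec (CommRingCat.of k)) := ‹IsProper p›
  haveI : Smooth (X ↘ Spec (CommRingCat.of k)) := ‹Smooth p›
  haveI := Groth.Agent.VB17.isNoetherian_of_over (k := k) (X := X)
  haveI : IsIntegral X := Groth.Agent.VB17.isIntegral_of_connected fun x =>
    Groth.Agent.SmoothReg17.isDomain_stalk (X ↘ Spec (CommRingCat.of k)) x
  haveI := Groth.Agent.RegExt.isIntegral_projSpace 1 k
  haveI : IsProper ((CohB1.ProjSpace 1 k) ↘ Spec (CommRingCat.of k)) := Groth.Agent.ProjSpace.isProper_toSpec 1 k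
  haveI : IsNoetherian (CohB1.ProjSpace 1 k) := Groth.Agent.VB17.isNoetherian_of_over (k := k)
  have hdimY : topologicalKrullDim (CohB1.ProjSpace 1 k) = 1 := by rw [Groth.Agent.S10829.result k 1]; rfl
  have hCX := Groth.Agent.VB17.curveLike (k := k) (X := X) hX
  have hCY := Groth.Agent.VB17.curveLike (k := k) (X := CohB1.ProjSpace 1 k) hdimY
  haveI : JacobsonSpace X := LocallyOfFiniteType.jacobsonSpace (X ↘ Spec (CommRingCat.of k))
  have hξ := Groth.Agent.CurveOm17.map_genericPoint_of_isFinite hdimY.le hX h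
  have hd2 : h.residueDegree (genericPoint X) = 2 := by
    rw [← Groth.Agent.CurveCoh17.finrank_genericPoint_eq_residueDegree h hξ
      (fun x hx => Groth.Agent.AmpleFin18.preimage_genericPoint hX.le hdimY h hx)]
    exact hr _
  obtain ⟨n, hn⟩ := Groth.Agent.VB17.exists_rank_of_isFinLocFree (Groth.Agent.CurveCoh17.isFinLocFree_pushO h)
  obtain rfl : n = 2 := by
    have h1 := Groth.Agent.AmpleFin18.finrank_pushO_genericPoint hX.le hdimY h hξ hξ
    obtain ⟨e⟩ := Groth.Agent.CurveCoh17.nonempty_stalk_equiv hn (genericPoint (CohB1.ProjSpace 1 k))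
    rw [e.finrank_eq, Module.finrank_fin_fun, hd2] at h1
    exact h1
  let A := RelSpec.QCAlg.directImage h
  have hu : IsUnit (((2 : ℕ) : Γ(CohB1.ProjSpace 1 k, ⊤))) := by
    have := (isUnit_iff_ne_zero.2 h2).map (Coh.toGlobal (CohB1.ProjSpace.toSpec 1 k))
    rwa [map_ofNat] at this
  obtain ⟨s, hs⟩ := Groth.Agent.Trace12.exists_section_trace A hn τ hτ hu
  have hK : FlatMod.IsFinLocFreeOfRank 1 (kernel τ) :=
    Groth.Agent.Trace12.isFinLocFreeOfRank_kernel A hn τ s hs
  haveI : Epi τ := epi_of_epi_fac hs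
  let S : ShortComplex (CohB1.ProjSpace 1 k).Modules := ShortComplex.mk (kernel.ι τ) τ (kernel.condition τ)
  have hS : S.ShortExact := ⟨S.exact_of_f_is_kernel (kernelIsKernel τ)⟩
  have he := Groth.Agent.CurveCoh17.euler_add (k := k) hS
    (hCY.adm (Groth.Agent.CurveCoh17.isCoh_of_ofRank hK))
    (hCY.adm Groth.Agent.CurveCoh17.isCoh_structureModule)
  have hp := Groth.Agent.CurveCoh17.euler_pushO (k := k) h hh
  have hEX := (hCX.adm Groth.Agent.CurveCoh17.isCoh_structureModule).euler_eq
  have hEY := (hCY.adm Groth.Agent.CurveCoh17.isCoh_structureModule).euler_eq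
  have hg0 : Module.finrank k (Coh.HH (CohB1.ProjSpace 1 k) (Coh.structureModule (CohB1.ProjSpace 1 k)) 1) = 0 :=
    Groth.Agent.CurveCoh17.genus_P1 k
  rw [hCX.h0_eq_one] at hEX
  rw [hCY.h0_eq_one, hg0] at hEY
  change Curv2.euler k (CohB1.ProjSpace 1 k) ((Scheme.Modules.pushforward h).obj (Coh.structureModule X)) = _ at hp
  change Curv2.euler k _ ((Scheme.Modules.pushforward h).obj (Coh.structureModule X)) = Curv2.euler k _ (kernel τ) + _ at he
  rw [Curv2.deg, Curv2.genus]
  rw [hp, hEX, hEY] at he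
  rw [hEY]
  push_cast at he ⊢
  omega

end Groth.Agent.S19701
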