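import Groth.Statements.S19703
import Groth.Agent.Lib.GrpImage19.Basic
import Groth.Agent.Lib.Rigid19.AntiAffine

set_option autoImplicit false
universe u
open CategoryTheory MonoidalCategory CartesianMonoidalCategory MonObj GrpObj AlgebraicGeometry CategoryTheory.Limits
open AlgGrp

namespace Groth.Agent.S19703

/-- Let k be a field, G an anti-affine algebraic group over k (smooth, of finite type, with O(G) = k), H
a connected k-group scheme of finite type and j : M → H its largest anti-affine closed subgroup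
scheme H_ant (O(M) = k and every anti-affine closed subgroup scheme of H factors through M). Then
every morphism of k-schemes f : G → H with f(e_G) = e_H factors through H_ant. -/
theorem result (k : Type u) [Field k]
    (G H : Over (Spec (CommRingCat.of k))) [GrpObj G] [Smooth G.hom] [QuasiCompact G.hom]
    (hG : Function.Bijective ((Scheme.ΓSpecIso (CommRingCat.of k)).inv ≫ G.hom.appTop).hom)
    [GrpObj H] [LocallyOfFiniteType H.hom] [QuasiCompact H.hom] [ConnectedSpace ↥H.left]
    (M : Over (Spec (CommRingCat.of k))) [GrpObj M] [LocallyOfFiniteType M.hom] [QuasiCompact M.hom] (j : M ⟶ H) [IsMonHom j] [IsClosedImmersion j.left]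
    (hM : Function.Bijective ((Scheme.ΓSpecIso (CommRingCat.of k)).inv ≫ M.hom.appTop).hom)
    (hMmax : ∀ (M₁ : Over (Spec (CommRingCat.of k))) [GrpObj M₁] [LocallyOfFiniteType M₁.hom] [QuasiCompact M₁.hom] (j₁ : M₁ ⟶ H) [IsMonHom j₁] [IsClosedImmersion j₁.left],
      Function.Bijective ((Scheme.ΓSpecIso (CommRingCat.of k)).inv ≫ M₁.hom.appTop).hom → ∃ g : M₁ ⟶ M, g ≫ j = j₁)
    (f : G ⟶ H) (hf : η[G] ≫ f = η[H]) :
    ∃ g : G ⟶ M, g ≫ j = f := by
  haveI := Rigid19.quasiSeparated (X := G)
  haveI := AbRigid.isSeparated_of_grpObj H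
  haveI := Rigid19.isMonHom_of_unit_comp hG f hf
  haveI : QuasiCompact (f.left ≫ H.hom) := by rw [Over.w]; infer_instance
  haveI : QuasiCompact f.left := QuasiCompact.of_comp f.left H.hom
  let Z : Over (Spec (CommRingCat.of k)) := Over.mk (f.left.imageι ≫ H.hom)
  let i : Z ⟶ H := Over.homMk f.left.imageι rfl
  let q : G ⟶ Z := Over.homMk f.left.toImage (by simp [Z])
  haveI : IsClosedImmersion i.left := inferInstanceAs (IsClosedImmersion f.left.imageι)
  haveI : IsSchemeTheoreticallyDominant q.left := AbRigid.isSchemeTheoreticallyDominant_toImage f.left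
  have hqi : q ≫ i = f := by ext1; exact f.left.toImage_imageι
  obtain ⟨inst, hi, hq⟩ := GrpImage19.exists_grpObj f i q hqi
  haveI : QuasiCompact q.left := GrpImage19.quasiCompact_of_factor f i q hqi
  haveI : LocallyOfFiniteType Z.hom := inferInstanceAs (LocallyOfFiniteType (f.left.imageι ≫ H.hom))
  haveI : QuasiCompact Z.hom := inferInstanceAs (QuasiCompact (f.left.imageι ≫ H.hom))
  have hinj : Function.Injective q.left.appTop.hom := q.left.app_injective ⊤
  have e : ((Scheme.ΓSpecIso (CommRingCat.of k)).inv ≫ Z.hom.appTop) ≫ q.left.appTop =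
      (Scheme.ΓSpecIso (CommRingCat.of k)).inv ≫ G.hom.appTop := by
    rw [Category.assoc, ← Scheme.Hom.comp_appTop, Over.w q]
  have hZ : Function.Bijective ((Scheme.ΓSpecIso (CommRingCat.of k)).inv ≫ Z.hom.appTop).hom := by
    refine ⟨fun a b h => hG.1 ?_, fun y => ?_⟩
    · rw [← e]; exact congrArg q.left.appTop h
    · obtain ⟨c, hc⟩ := hG.2 (q.left.appTop y)
      refine ⟨c, hinj ?_⟩
      rw [← e] at hc
      exact hc
  obtain ⟨r, hr⟩ := hMmax Z i hZ
  exact ⟨q ≫ r, by rw [Category.assoc, hr, hqi]⟩

end Groth.Agent.S19703
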