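import Groth.Statements.S19704
import Groth.Agent.S19702
import Groth.Agent.Lib.AntiParts15.Main
import Groth.Agent.Lib.SepAff15.CommTorus
import Groth.Agent.Lib.AbelGrp20.Main
-- import your own Groth.Agent.* helpers here

set_option autoImplicit false
set_option backward.isDefEq.respectTransparency false
set_option backward.isDefEq.respectTransparency.types false
set_option maxSynthPendingDepth 3
set_option synthInstance.maxHeartbeats 400000
universe u
open CategoryTheory MonoidalCategory CartesianMonoidalCategory MonObj GrpObj AlgebraicGeometry CategoryTheory.Limits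
open AlgGrp

namespace Groth.Agent.S19704

/-- Let k be a field of characteristic 0 and G a connected commutative algebraic group over k whose
largest connected affine algebraic subgroup G_aff = N is the direct product T × U of a torus T and a
connected unipotent (vector) group U: homomorphisms t : T → N and u : U → N with multiplication T ×
U → N an isomorphism. Let q_s : G → G_s = G/U and q_u : G → G_u = G/T be flat surjective
homomorphisms of k-group schemes of finite type with kernels U and T. Then O(G) = k (G is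
anti-affine) exactly when both quotients G_s = G/U and G_u = G/T have only constant global
functions, O(G_s) = k and O(G_u) = k. Here k is any field of characteristic 0, not necessarily
algebraically closed. -/
theorem result (k : Type u) [Field k] [CharZero k]
    (G : Over (Spec (CommRingCat.of k))) [GrpObj G] [Smooth G.hom] [QuasiCompact G.hom] [ConnectedSpace ↥G.left] [IsCommMonObj G]
    (N : Over (Spec (CommRingCat.of k))) [GrpObj N] (i : N ⟶ G) [IsMonHom i] [IsClosedImmersion i.left]
    [Smooth N.hom] [ConnectedSpace ↥N.left] [IsAffine N.left] (hN : AlgGrp.IsNormalHom i)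
    (hNmax : ∀ (N' : Over (Spec (CommRingCat.of k))) [GrpObj N'] (i' : N' ⟶ G) [IsMonHom i'] [IsClosedImmersion i'.left]
      [Smooth N'.hom] [ConnectedSpace ↥N'.left] [IsAffine N'.left], AlgGrp.IsNormalHom i' → ∃ f : N' ⟶ N, f ≫ i = i')
    (T U : Over (Spec (CommRingCat.of k))) [GrpObj T] [GrpObj U] (t : T ⟶ N) (u : U ⟶ N) [IsMonHom t] [IsMonHom u]
    (hT : Red.IsTorus T)
    [Smooth U.hom] [ConnectedSpace ↥U.left] [IsAffine U.left] (hU : Red.HasNoSubtorus k U)
    (hTU : IsIso ((t ⊗ₘ u) ≫ μ[N]))
    (Gs Gu : Over (Spec (CommRingCat.of k))) [GrpObj Gs] [GrpObj Gu] [LocallyOfFiniteType Gs.hom] [QuasiCompact Gs.hom]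
    [LocallyOfFiniteType Gu.hom] [QuasiCompact Gu.hom]
    (qs : G ⟶ Gs) [IsMonHom qs] [Surjective qs.left] [Flat qs.left] (hs : AlgGrp.IsKernel (u ≫ i) qs)
    (qu : G ⟶ Gu) [IsMonHom qu] [Surjective qu.left] [Flat qu.left] (hu : AlgGrp.IsKernel (t ≫ i) qu) :
    Function.Bijective ((Scheme.ΓSpecIso (CommRingCat.of k)).inv ≫ G.hom.appTop).hom ↔
      Function.Bijective ((Scheme.ΓSpecIso (CommRingCat.of k)).inv ≫ Gs.hom.appTop).hom ∧
      Function.Bijective ((Scheme.ΓSpecIso (CommRingCat.of k)).inv ≫ Gu.hom.appTop).hom := by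
  haveI : Mono i := Over.mono_of_mono_left i
  haveI : IsCommMonObj N := AbelGrp20.isCommMonObj_of_mono i
  haveI : IsIso ((t ⊗ₘ u) ≫ μ[N]) := hTU
  haveI : Mono u := by
    have e : CartesianMonoidalCategory.lift (toUnit U ≫ η[T]) (𝟙 U) ≫ ((t ⊗ₘ u) ≫ μ[N]) = u := by
      rw [lift_map_assoc, Category.assoc, IsMonHom.one_hom, Category.id_comp, ← Hom.mul_def, ← Hom.one_def,
        _root_.one_mul]
    haveI : IsSplitMono (CartesianMonoidalCategory.lift (toUnit U ≫ η[T]) (𝟙 U)) :=
      IsSplitMono.mk' ⟨CartesianMonoidalCategory.snd _ _, lift_snd _ _⟩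
    rw [← e]
    exact mono_comp _ _
  haveI : IsCommMonObj U := AbelGrp20.isCommMonObj_of_mono u
  haveI : QuasiCompact qs.left := AlgGrpBasic19.quasiCompact_left qs
  haveI : QuasiCompact qu.left := AlgGrpBasic19.quasiCompact_left qu
  refine ⟨fun h => ⟨AntiParts15.antiAffine_of_surjective qs h, AntiParts15.antiAffine_of_surjective qu h⟩,
    fun ⟨hGs, hGu⟩ => ?_⟩
  let φ := Spec.map (CommRingCat.ofHom (algebraMap k (AlgebraicClosure k)))
  let P := Over.pullback φ
  rw [S19702.result k (AlgebraicClosure k) G]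
  haveI : Smooth (Red.bc φ G).hom := BorelFix21.smooth_bc φ G
  haveI : QuasiCompact (Red.bc φ G).hom :=
    MorphismProperty.of_isPullback (P := @QuasiCompact) (BorelFix21.isPullback_bc φ G) ‹_›
  haveI : ConnectedSpace (Red.bc φ G).left := BorelFix21.connectedSpace_bc φ G
  haveI : IsCommMonObj (Red.bc φ G) := inferInstance
  haveI : Smooth (Red.bc φ U).hom := BorelFix21.smooth_bc φ U
  haveI : IsAffine (Red.bc φ U).left := BorelFix21.isAffine_bc φ U
  haveI : ConnectedSpace (Red.bc φ U).left := BorelFix21.connectedSpace_bc φ U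
  haveI : LocallyOfFiniteType (Red.bc φ Gs).hom :=
    MorphismProperty.of_isPullback (P := @LocallyOfFiniteType) (BorelFix21.isPullback_bc φ Gs) ‹_›
  haveI : QuasiCompact (Red.bc φ Gs).hom :=
    MorphismProperty.of_isPullback (P := @QuasiCompact) (BorelFix21.isPullback_bc φ Gs) ‹_›
  haveI : LocallyOfFiniteType (Red.bc φ Gu).hom :=
    MorphismProperty.of_isPullback (P := @LocallyOfFiniteType) (BorelFix21.isPullback_bc φ Gu) ‹_›
  haveI : QuasiCompact (Red.bc φ Gu).hom :=
    MorphismProperty.of_isPullback (P := @QuasiCompact) (BorelFix21.isPullback_bc φ Gu) ‹_›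
  haveI : Surjective ((Over.pullback φ).map qs).left := BorelFix21.surjective_bc φ qs
  haveI : Surjective ((Over.pullback φ).map qu).left := BorelFix21.surjective_bc φ qu
  haveI : Flat ((Over.pullback φ).map qs).left :=
    MorphismProperty.of_isPullback (P := @Flat) (BorelFix21.isPullback_bc_map φ qs) ‹_›
  haveI : Flat ((Over.pullback φ).map qu).left :=
    MorphismProperty.of_isPullback (P := @Flat) (BorelFix21.isPullback_bc_map φ qu) ‹_›
  exact AntiParts15.antiAffine_of_parts ((Over.pullback φ).map (t ≫ i)) (TorPts21.isTorus_bc φ hT)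
    ((Over.pullback φ).map (u ≫ i)) (SepAff15.hasNoSubtorus_algClosure_comm U hU)
    ((Over.pullback φ).map qs) (AffPart25.isKernel_bc _ qs hs φ)
    ((Over.pullback φ).map qu) (AffPart25.isKernel_bc _ qu hu φ)
    ((S19702.result k (AlgebraicClosure k) Gs).1 hGs) ((S19702.result k (AlgebraicClosure k) Gu).1 hGu)


end Groth.Agent.S19704
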