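import Groth.Statements.S19707
import Groth.Agent.Lib.RadBC15.Complement
-- import your own Groth.Agent.* helpers here

set_option autoImplicit false
universe u
open CategoryTheory MonoidalCategory CartesianMonoidalCategory MonObj GrpObj AlgebraicGeometry CategoryTheory.Limits
open AlgGrp

namespace Groth.Agent.S19707

/-- Let k be a perfect field of characteristic p > 0, G a connected algebraic group over k, N = G_aff
its largest connected affine algebraic subgroup (normal, with abelian variety quotient), R the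
radical of N, T a maximal torus of R, H = G_gug the smallest normal connected algebraic subgroup of
G with semi-abelian quotient (contained in N), and M = G_ant the largest anti-affine closed subgroup
scheme of G. Let S = T · G_ant, the smooth closed subgroup of G onto which T × G_ant maps by
multiplication. Then G is the product H · S with H ∩ S finite (S is a quasi-complement to H), and S
is semi-abelian with maximal torus T: S is connected and the quotient S/T is an abelian variety. -/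
theorem result (k : Type u) [Field k] [PerfectField k]
    (p : ℕ) [Fact p.Prime] [CharP k p]
    (G : Over (Spec (CommRingCat.of k))) [GrpObj G] [Smooth G.hom] [QuasiCompact G.hom] [ConnectedSpace ↥G.left]
    (N : Over (Spec (CommRingCat.of k))) [GrpObj N] (i : N ⟶ G) [IsMonHom i] [IsClosedImmersion i.left]
    [Smooth N.hom] [IsAffine N.left] [ConnectedSpace ↥N.left] (hN : AlgGrp.IsNormalHom i)
    (A : Over (Spec (CommRingCat.of k))) [GrpObj A] (q : G ⟶ A) [IsMonHom q] [Surjective q.left] [Flat q.left]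
    [IsProper A.hom] [Smooth A.hom] [ConnectedSpace ↥A.left] (hq : AlgGrp.IsKernel i q)
    (hNmax : ∀ (N₁ : Over (Spec (CommRingCat.of k))) [GrpObj N₁] (i₁ : N₁ ⟶ G) [IsMonHom i₁] [IsClosedImmersion i₁.left],
      Smooth N₁.hom → IsAffine N₁.left → ConnectedSpace ↥N₁.left → ∃ f : N₁ ⟶ N, f ≫ i = i₁)
    (R : Over (Spec (CommRingCat.of k))) [GrpObj R] (r : R ⟶ N) [IsMonHom r] [IsClosedImmersion r.left]
    [Smooth R.hom] [ConnectedSpace ↥R.left] (hRs : Red.IsSolvableGrp R) (hRn : AlgGrp.IsNormalHom r)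
    (hRmax : ∀ (R₁ : Over (Spec (CommRingCat.of k))) [GrpObj R₁] (r₁ : R₁ ⟶ N) [IsMonHom r₁] [IsClosedImmersion r₁.left],
      Smooth R₁.hom → ConnectedSpace ↥R₁.left → Red.IsSolvableGrp R₁ → AlgGrp.IsNormalHom r₁ → ∃ f : R₁ ⟶ R, f ≫ r = r₁)
    (T : Over (Spec (CommRingCat.of k))) [GrpObj T] (t : T ⟶ R) (hT : Red.IsMaximalTorus t)
    (H : Over (Spec (CommRingCat.of k))) [GrpObj H] (h : H ⟶ G) [IsMonHom h] [IsClosedImmersion h.left]
    [Smooth H.hom] [ConnectedSpace ↥H.left] (hHn : AlgGrp.IsNormalHom h)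
    (Q : Over (Spec (CommRingCat.of k))) [GrpObj Q] (qH : G ⟶ Q) [IsMonHom qH] [Surjective qH.left] [Flat qH.left]
    (hHker : AlgGrp.IsKernel h qH) (hQ : (∃ (T : Over (Spec (CommRingCat.of k))) (_ : GrpObj T) (t : T ⟶ Q) (A : Over (Spec (CommRingCat.of k))) (_ : GrpObj A) (p : Q ⟶ A),
        IsMonHom t ∧ IsClosedImmersion t.left ∧ Red.IsTorus T ∧ IsMonHom p ∧ Surjective p.left ∧ Flat p.left ∧
        AlgGrp.IsKernel t p ∧ IsProper A.hom ∧ Smooth A.hom ∧ ConnectedSpace ↥A.left))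
    (hHmin : ∀ (H' : Over (Spec (CommRingCat.of k))) [GrpObj H'] (h' : H' ⟶ G) [IsMonHom h'] [IsClosedImmersion h'.left]
        (Q' : Over (Spec (CommRingCat.of k))) [GrpObj Q'] (q' : G ⟶ Q') [IsMonHom q'] [Surjective q'.left] [Flat q'.left],
        AlgGrp.IsNormalHom h' → Smooth H'.hom → ConnectedSpace ↥H'.left → AlgGrp.IsKernel h' q' → (∃ (T : Over (Spec (CommRingCat.of k))) (_ : GrpObj T) (t : T ⟶ Q') (A : Over (Spec (CommRingCat.of k))) (_ : GrpObj A) (p : Q' ⟶ A),
        IsMonHom t ∧ IsClosedImmersion t.left ∧ Red.IsTorus T ∧ IsMonHom p ∧ Surjective p.left ∧ Flat p.left ∧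
        AlgGrp.IsKernel t p ∧ IsProper A.hom ∧ Smooth A.hom ∧ ConnectedSpace ↥A.left) →
        ∃ f : H ⟶ H', f ≫ h' = h)
    (g : H ⟶ N) (hg : g ≫ i = h)
    (M : Over (Spec (CommRingCat.of k))) [GrpObj M] [LocallyOfFiniteType M.hom] [QuasiCompact M.hom] (j : M ⟶ G) [IsMonHom j] [IsClosedImmersion j.left]
    (hM : Function.Bijective ((Scheme.ΓSpecIso (CommRingCat.of k)).inv ≫ M.hom.appTop).hom)
    (hMmax : ∀ (M₁ : Over (Spec (CommRingCat.of k))) [GrpObj M₁] [LocallyOfFiniteType M₁.hom] [QuasiCompact M₁.hom] (j₁ : M₁ ⟶ G) [IsMonHom j₁] [IsClosedImmersion j₁.left],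
      Function.Bijective ((Scheme.ΓSpecIso (CommRingCat.of k)).inv ≫ M₁.hom.appTop).hom → ∃ g₁ : M₁ ⟶ M, g₁ ≫ j = j₁)
    (S : Over (Spec (CommRingCat.of k))) [GrpObj S] (s : S ⟶ G) [IsMonHom s] [IsClosedImmersion s.left] [Smooth S.hom]
    (tS : T ⟶ S) (mS : M ⟶ S) [IsMonHom tS] [IsMonHom mS] (htS : tS ≫ s = t ≫ r ≫ i) (hmS : mS ≫ s = j)
    (hS : Surjective ((tS ⊗ₘ mS) ≫ μ[S]).left) :
    Surjective ((h ⊗ₘ s) ≫ μ[G]).left ∧
    (∀ (P : Over (Spec (CommRingCat.of k))) (p₁ : P ⟶ H) (p₂ : P ⟶ S), IsPullback p₁ p₂ h s → IsFinite P.hom) ∧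
    ConnectedSpace ↥S.left ∧
    ∃ (B : Over (Spec (CommRingCat.of k))) (_ : GrpObj B) (qB : S ⟶ B), IsMonHom qB ∧ Surjective qB.left ∧ Flat qB.left ∧
      AlgGrp.IsKernel tS qB ∧ IsProper B.hom ∧ Smooth B.hom ∧ ConnectedSpace ↥B.left := by
  exact Groth.Agent.RadBC15.main k p G N i hN A q hq hNmax R r hRs hRn hRmax T t hT H h hHn
    (fun H' _ h' _ _ Q' _ q' _ _ _ h1 h2 h3 h4 h5 => hHmin H' h' Q' q' h1 h2 h3 h4 h5) qH hHker hQ g hg M j hM hMmax
    S s tS mS htS hmS hS

end Groth.Agent.S19707
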