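import Groth.Statements.S1971
import Groth.Agent.Lib.Hens.PairOps

set_option autoImplicit false
universe u
open EtAlg

namespace Groth.Agent.S1971

/-- Let A be a ring with ideals I and J having the same zero locus in Spec A. Then an A-algebra is a
henselization of the pair (A, I) if and only if it is a henselization of the pair (A, J). -/
theorem result (A : Type u) [CommRing A] (I J : Ideal A)
    (h : PrimeSpectrum.zeroLocus (I : Set A) = PrimeSpectrum.zeroLocus (J : Set A)) (B : Type u) [CommRing B] [Algebra A B] :
    Hens2.IsPairHenselization A I B ↔ Hens2.IsPairHenselization A J B := by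
  rw [PrimeSpectrum.zeroLocus_eq_iff] at h
  have key : ∀ {I J : Ideal A}, I.radical = J.radical →
      Hens2.IsPairHenselization A I B → Hens2.IsPairHenselization A J B := by
    intro I J h ⟨h1, h2⟩
    have hm : (I.map (algebraMap A B)).radical = (J.map (algebraMap A B)).radical := by
      have aux : ∀ K : Ideal A, (K.radical.map (algebraMap A B)).radical = (K.map (algebraMap A B)).radical := fun K =>
        le_antisymm (Ideal.radical_le_radical_iff.2 (Ideal.map_radical_le _))
          (Ideal.radical_mono (Ideal.map_mono Ideal.le_radical))
      rw [← aux I, h, aux J]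
    refine ⟨(Hens.henselianRing_iff_of_radical_eq hm).1 h1, fun C _ K f hK hle => h2 C K.radical f (Hens.henselianRing_radical hK) ?_⟩
    refine (Ideal.map_mono (Ideal.le_radical.trans h.le)).trans ((Ideal.map_radical_le f).trans ?_)
    exact Ideal.radical_mono hle
  exact ⟨key h, key h.symm⟩

end Groth.Agent.S1971
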