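import Groth.Statements.S19710
import Groth.Agent.S18175
import Groth.Agent.Lib.FunField.Chain

set_option autoImplicit false
open FunFld

namespace Groth.Agent.S19710

/-- Let `k` be an algebraically closed field of characteristic zero. A `g^r_d` on a function field `K/k`
of one variable is a divisor `D` of degree `d` with a subspace `V ⊆ L(D)` of dimension `r + 1`;
`V(-nP) = V ∩ L(D - nP)`, and the `i`-th vanishing order `m_i(V, P)` (`m_0 < ⋯ < m_r`) equals `m`
exactly when `dim V(-mP) = r + 1 - i` and `dim V(-(m+1)P) = r - i`. Let `K_Y` have genus `0` and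
carry a `g^r_d` `(D_Y, V_Y)` with at least a cusp at a place `Q_Y` (`dim V_Y(-2Q_Y) ≥ r`); let
`(D_Z, V_Z)` be a `g^r_d` on a second function field `K_Z`, compatible with `(D_Y, V_Y)` at a node
formed by a place `P ≠ Q_Y` of `K_Y` and a place `Q` of `K_Z` (`dim V_Y(-nP) + dim V_Z(-(d+1-n)Q) =
r + 1` for `0 ≤ n ≤ d + 1`), and let `P'` be a place of `K_Y` different from `P` and from `Q_Y`.
Then `m_i(V_Y, P') < m_i(V_Z, Q)` for all but at most one index: the set of `i ≤ r` for which the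
`i`-th vanishing order of `V_Y` at `P'` equals the `i`-th vanishing order of `V_Z` at `Q` has at
most one element. (In the source `Q_Y` is the point where the rational component `Y` meets a chain
of curves ending in a curve of positive genus, which forces the cusp condition assumed here; the
source works over the complex numbers.) -/
theorem result
    (k : Type*) [Field k] [IsAlgClosed k] [CharZero k]
    (KY : Type*) [Field KY] [Algebra k KY] (hKY : FunFld.IsFunctionField k KY) (hg0 : FunFld.genus k KY = 0)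
    (KZ : Type*) [Field KZ] [Algebra k KZ] (hKZ : FunFld.IsFunctionField k KZ)
    (d r : ℕ) (DY : FunFld.Divisor k KY) (hDY : DY.deg = d) (DZ : FunFld.Divisor k KZ) (hDZ : DZ.deg = d)
    (VY : Submodule k KY) (hVY : VY ≤ FunFld.L DY) (hVYr : Module.finrank k ↥VY = r + 1)
    (VZ : Submodule k KZ) (hVZ : VZ ≤ FunFld.L DZ) (hVZr : Module.finrank k ↥VZ = r + 1)
    (QY : FunFld.Place k KY) (hcusp : r ≤ Module.finrank k ↥(VY ⊓ FunFld.L (DY - Finsupp.single QY ((2 : ℤ)))))
    (P : FunFld.Place k KY) (hP : P ≠ QY) (Q : FunFld.Place k KZ)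
    (hcomp : ∀ n : ℕ, n ≤ d + 1 →
      Module.finrank k ↥(VY ⊓ FunFld.L (DY - Finsupp.single P ((n : ℤ)))) + Module.finrank k ↥(VZ ⊓ FunFld.L (DZ - Finsupp.single Q ((d : ℤ) + 1 - n))) = r + 1)
    (P' : FunFld.Place k KY) (hP'P : P' ≠ P) (hP'Q : P' ≠ QY) :
    {i : ℕ | i ≤ r ∧ ∃ m : ℕ,
        Module.finrank k ↥(VY ⊓ FunFld.L (DY - Finsupp.single P' ((m : ℤ)))) = r + 1 - i ∧
        Module.finrank k ↥(VY ⊓ FunFld.L (DY - Finsupp.single P' ((m : ℤ) + 1))) = r - i ∧
        Module.finrank k ↥(VZ ⊓ FunFld.L (DZ - Finsupp.single Q ((m : ℤ)))) = r + 1 - i ∧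
        Module.finrank k ↥(VZ ⊓ FunFld.L (DZ - Finsupp.single Q ((m : ℤ) + 1))) = r - i}.Subsingleton := by
  classical
  have key : ∀ i, i ≤ r → ∀ m : ℕ,
      Module.finrank k ↥(VY ⊓ FunFld.L (DY - Finsupp.single P' ((m : ℤ)))) = r + 1 - i →
      Module.finrank k ↥(VY ⊓ FunFld.L (DY - Finsupp.single P' ((m : ℤ) + 1))) = r - i →
      Module.finrank k ↥(VZ ⊓ FunFld.L (DZ - Finsupp.single Q ((m : ℤ)))) = r + 1 - i →
      Module.finrank k ↥(VZ ⊓ FunFld.L (DZ - Finsupp.single Q ((m : ℤ) + 1))) = r - i →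
      ∃ s ∈ VY, s ≠ 0 ∧ (∀ R : FunFld.Place k KY, R ≠ P → R ≠ P' → (FunFld.div k s + DY) R = 0) ∧
        (FunFld.div k s + DY) P' = m := by
    intro i hi m h1 _ h3 h4
    have hmd : m ≤ d := by
      by_contra hlt
      rw [Groth.Agent.FunField.L_eq_bot_of_deg_neg hKY.1 (by rw [Groth.Agent.FunField.deg_sub_single hKY.1, hDY]; omega),
        inf_bot_eq, finrank_bot] at h1
      omega
    have hc1 := hcomp (d - m) (by omega)
    rw [show ((d : ℤ) + 1 - ((d - m : ℕ) : ℤ)) = (m : ℤ) + 1 by omega, h4] at hc1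
    haveI := Groth.Agent.FunField.finiteDimensional_of_le_L hKY.1 hVY
    obtain ⟨s, hs, hs0⟩ : ∃ s ∈ (VY ⊓ FunFld.L (DY - Finsupp.single P' ((m : ℤ)))) ⊓
        (VY ⊓ FunFld.L (DY - Finsupp.single P (((d - m : ℕ) : ℤ)))), s ≠ 0 := by
      refine Submodule.exists_mem_ne_zero_of_ne_bot fun hbot => ?_
      have h5 := Submodule.finrank_sup_add_finrank_inf_eq (VY ⊓ FunFld.L (DY - Finsupp.single P' ((m : ℤ))))
        (VY ⊓ FunFld.L (DY - Finsupp.single P (((d - m : ℕ) : ℤ))))
      have h6 : Module.finrank k ↥((VY ⊓ FunFld.L (DY - Finsupp.single P' ((m : ℤ)))) ⊔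
          (VY ⊓ FunFld.L (DY - Finsupp.single P (((d - m : ℕ) : ℤ))))) ≤ r + 1 :=
        hVYr ▸ Submodule.finrank_mono (sup_le inf_le_left inf_le_left)
      rw [hbot, finrank_bot] at h5
      omega
    obtain ⟨⟨hsV, hs1⟩, -, hs2⟩ := hs
    have hnn : ∀ R, 0 ≤ (FunFld.div k s + DY) R := fun R => by
      have := (Groth.Agent.FunField.mem_L_iff_ord hs0).1 (hVY hsV) R
      rw [Finsupp.add_apply, Groth.Agent.FunField.div_apply hKY.1]; omega
    have hP' : (m : ℤ) ≤ (FunFld.div k s + DY) P' := by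
      have := (Groth.Agent.FunField.mem_L_iff_ord hs0).1 hs1 P'
      rw [Finsupp.sub_apply, Finsupp.single_eq_same] at this
      rw [Finsupp.add_apply, Groth.Agent.FunField.div_apply hKY.1]; omega
    have hPP : ((d - m : ℕ) : ℤ) ≤ (FunFld.div k s + DY) P := by
      have := (Groth.Agent.FunField.mem_L_iff_ord hs0).1 hs2 P
      rw [Finsupp.sub_apply, Finsupp.single_eq_same] at this
      rw [Finsupp.add_apply, Groth.Agent.FunField.div_apply hKY.1]; omega
    have hdeg : (FunFld.div k s + DY).deg = d := by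
      rw [Groth.Agent.FunField.deg_add, Groth.Agent.FunField.deg_div hKY.1, hDY, zero_add]
    have hsum : ∀ T : Finset (FunFld.Place k KY), ∑ R ∈ T, (FunFld.div k s + DY) R ≤ (d : ℤ) := by
      intro T
      rw [← hdeg, Groth.Agent.FunField.deg_eq_sum _ (T ∪ (FunFld.div k s + DY).support) Finset.subset_union_right]
      refine le_trans (le_of_eq (Finset.sum_congr rfl fun R _ => ?_))
        (Finset.sum_le_sum_of_subset_of_nonneg Finset.subset_union_left fun R _ _ => mul_nonneg (hnn R) (Int.natCast_nonneg _))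
      rw [Groth.Agent.FunField.deg_eq_one hKY.1, Nat.cast_one, mul_one]
    refine ⟨s, hsV, hs0, fun R hR hR' => ?_, ?_⟩
    · have h := hsum {R, P, P'}
      rw [Finset.sum_insert (by simp [hR, hR']), Finset.sum_pair hP'P.symm] at h
      have := hnn R
      omega
    · have h := hsum {P, P'}
      rw [Finset.sum_pair hP'P.symm] at h
      omega
  rintro i ⟨hi, m, a1, a2, a3, a4⟩ j ⟨hj, m', b1, b2, b3, b4⟩
  obtain ⟨s, hsV, hs0, hss, hsm⟩ := key i hi m a1 a2 a3 a4
  obtain ⟨t, htV, ht0, hts, htm⟩ := key j hj m' b1 b2 b3 b4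
  obtain ⟨c, rfl⟩ := Groth.Agent.S18175.result k KY hKY hg0 d r DY hDY VY hVY hVYr QY hcusp P P' hP hP'Q s t hsV htV hs0 ht0 hss hts
  have hc : c ≠ 0 := fun h => ht0 (by rw [h, zero_smul])
  have : (FunFld.div k (c • s) + DY) P' = (FunFld.div k s + DY) P' := by
    rw [Finsupp.add_apply, Finsupp.add_apply, Groth.Agent.FunField.div_apply hKY.1, Groth.Agent.FunField.div_apply hKY.1,
      Algebra.smul_def, Groth.Agent.FunField.ord_mul P' ((map_ne_zero _).2 hc) hs0, Groth.Agent.FunField.ord_const, zero_add]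
  rw [hsm, htm, Nat.cast_inj] at this
  subst this
  rw [a1] at b1
  omega

end Groth.Agent.S19710
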