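import Groth.Statements.S19711
import Mathlib.Algebra.Module.FinitePresentation
import Mathlib.RingTheory.Localization.FractionRing
import Mathlib.LinearAlgebra.Basis.VectorSpace
import Mathlib.RingTheory.Spectrum.Prime.Topology
import Mathlib.Algebra.Category.ModuleCat.Basic
-- import your own Groth.Agent.* helpers here

set_option autoImplicit false
universe u
open CategoryTheory
open Coh

namespace Groth.Agent.S19711

/-- Let A be a Noetherian integral domain and F an A-linear additive functor from A-modules to A-modules
with F(A) a finitely generated A-module. Call such a functor generically injective when there is a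
dense open subset U of Spec A such that for every point u of U whose residue field κ(u) is a
finitely generated A-algebra the comparison map F(A) ⊗_A κ(u) → F(κ(u)) is injective; since F is
A-linear this injectivity says: every m in F(A) whose image under F(A → κ(u)) vanishes satisfies s·m
∈ u·F(A) for some s outside u. If F is generically injective then so is every A-linear additive
subfunctor K ⊆ F (a natural transformation K → F with injective components). (The published
statement is over a reduced Noetherian affine scheme, for additive functors on quasi-coherent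
sheaves with values in abelian groups and the induced A-action, assumes F weakly bounded (F(A/p)
finitely generated for every prime ideal p) and also records that K is again weakly bounded; only
the finite generation of F(A), which its argument uses, is assumed here, and the integral case with
A-linear functors stated here is the one its argument by generic flatness treats.) -/
theorem result {A : Type u} [CommRing A] [IsNoetherianRing A] [IsDomain A]
    (F K : ModuleCat.{u} A ⥤ ModuleCat.{u} A) [F.Additive] [F.Linear A] [K.Additive] [K.Linear A]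
    (ι : K ⟶ F) (hι : ∀ X : ModuleCat.{u} A, Function.Injective (ι.app X).hom)
    (hfin : Module.Finite A (F.obj (ModuleCat.of A A)))
    (hGI : ∃ U : Set (PrimeSpectrum A), IsOpen U ∧ Dense U ∧ ∀ u ∈ U, Algebra.FiniteType A u.asIdeal.ResidueField →
        ∀ m : F.obj (ModuleCat.of A A),
          (F.map (ModuleCat.ofHom (Algebra.linearMap A u.asIdeal.ResidueField))).hom m = 0 →
            ∃ s ∉ u.asIdeal, s • m ∈ u.asIdeal • (⊤ : Submodule A (F.obj (ModuleCat.of A A)))) :
    ∃ U : Set (PrimeSpectrum A), IsOpen U ∧ Dense U ∧ ∀ u ∈ U, Algebra.FiniteType A u.asIdeal.ResidueField →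
        ∀ m : K.obj (ModuleCat.of A A),
          (K.map (ModuleCat.ofHom (Algebra.linearMap A u.asIdeal.ResidueField))).hom m = 0 →
            ∃ s ∉ u.asIdeal, s • m ∈ u.asIdeal • (⊤ : Submodule A (K.obj (ModuleCat.of A A))) := by
  classical
  obtain ⟨U, hUo, hUd, hU⟩ := hGI
  let S := nonZeroDivisors A
  let l : K.obj (ModuleCat.of A A) →ₗ[A] F.obj (ModuleCat.of A A) := (ι.app (ModuleCat.of A A)).hom
  have hl : Function.Injective l := hι _
  haveI := hfin
  haveI : IsNoetherian A (F.obj (ModuleCat.of A A)) := inferInstance
  haveI : Module.Finite A (K.obj (ModuleCat.of A A)) := Module.Finite.of_injective l hl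
  haveI : Module.FinitePresentation A (F.obj (ModuleCat.of A A)) := Module.finitePresentation_of_finite A _
  obtain ⟨a, ha, r, hr⟩ : ∃ a : A, a ≠ 0 ∧ ∃ r : F.obj (ModuleCat.of A A) →ₗ[A] K.obj (ModuleCat.of A A),
      ∀ m, r (l m) = a • m := by
    letI : Field (Localization S) := inferInstanceAs (Field (FractionRing A))
    obtain ⟨ρ, hρ⟩ := LinearMap.exists_leftInverse_of_injective (LocalizedModule.map S l)
      (LinearMap.ker_eq_bot.2 (LocalizedModule.map_injective S l hl))
    obtain ⟨r₀, s₀, hs₀⟩ := Module.FinitePresentation.exists_lift_of_isLocalizedModule S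
      (LocalizedModule.mkLinearMap S (K.obj (ModuleCat.of A A)))
      ((ρ.restrictScalars A).comp (LocalizedModule.mkLinearMap S (F.obj (ModuleCat.of A A))))
    obtain ⟨n, g, hg⟩ := Submodule.fg_iff_exists_fin_generating_family.1
      (Module.Finite.fg_top (R := A) (M := K.obj (ModuleCat.of A A)))
    have key : ∀ j, ∃ t : S, (t : A) • r₀ (l (g j)) = (t : A) • ((s₀ : A) • g j) := fun j => by
      have h1 : LocalizedModule.mkLinearMap S (K.obj (ModuleCat.of A A)) (r₀ (l (g j))) =
          LocalizedModule.mkLinearMap S (K.obj (ModuleCat.of A A)) ((s₀ : A) • g j) := by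
        refine (LinearMap.congr_fun hs₀ (l (g j))).trans ?_
        rw [map_smul]
        refine congrArg (fun z : LocalizedModule S (K.obj (ModuleCat.of A A)) => (s₀ : A) • z) ?_
        have := LinearMap.congr_fun hρ (LocalizedModule.mkLinearMap S _ (g j))
        simpa using this
      obtain ⟨t, ht⟩ := IsLocalizedModule.exists_of_eq (S := S) h1
      exact ⟨t, ht⟩
    choose t ht using key
    let T : A := ∏ j, (t j : A)
    refine ⟨T * s₀, mul_ne_zero (Finset.prod_ne_zero_iff.2 fun j _ => nonZeroDivisors.ne_zero (t j).2)
      (nonZeroDivisors.ne_zero s₀.2), T • r₀, fun m => ?_⟩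
    have e : (T • r₀).comp l = (T * (s₀ : A)) • LinearMap.id := LinearMap.ext_on_range hg fun j => by
      simp only [LinearMap.comp_apply, LinearMap.smul_apply, LinearMap.id_apply, mul_smul]
      change T • r₀ (l (g j)) = T • (s₀ : A) • g j
      rw [show T = (∏ k ∈ Finset.univ.erase j, (t k : A)) * (t j : A) from
        (Finset.prod_erase_mul _ _ (Finset.mem_univ j)).symm, mul_smul, mul_smul, ht]
    exact LinearMap.congr_fun e m
  refine ⟨U ∩ (PrimeSpectrum.basicOpen a : Set (PrimeSpectrum A)), hUo.inter (PrimeSpectrum.basicOpen a).2,
    hUd.inter_of_isOpen_left ((PrimeSpectrum.basicOpen a).2.dense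
      ⟨⟨⊥, Ideal.isPrime_bot⟩, fun h => ha (by simpa using h)⟩) hUo, ?_⟩
  rintro u ⟨huU, hua⟩ hft m hm
  obtain ⟨s, hs, hsm⟩ := hU u huU hft (l m) (by
    have h := congr($(ι.naturality (ModuleCat.ofHom (Algebra.linearMap A u.asIdeal.ResidueField))).hom m)
    refine h.symm.trans ?_
    exact (congrArg (ι.app _).hom hm).trans (map_zero _))
  refine ⟨a * s, fun h => (u.2.mem_or_mem h).elim hua hs, ?_⟩
  rw [mul_smul, smul_comm, ← hr, ← map_smul]
  have h2 := Submodule.mem_map_of_mem (f := r) hsm
  rw [Submodule.map_smul''] at h2
  exact Submodule.smul_mono le_rfl le_top h2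

end Groth.Agent.S19711
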