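import Groth.Statements.S19714
import Groth.Agent.Lib.StQC14.GdGerbe

set_option autoImplicit false
universe u
open TwSh

namespace Groth.Agent.S19714

open CategoryTheory AlgebraicGeometry in
/-- First assertion: let π : 𝒳 → 𝒴 be an fppf A-gerbe of algebraic stacks, for a presheaf of groups A on
schemes over S acting through the inertia of 𝒳, and let χ be any character of A. Inverse image along
π is an equivalence from quasi-coherent modules on 𝒴 onto the 0-fold twisted quasi-coherent modules
on 𝒳 (those on which A acts trivially through the inertia): the inverse-image functor is full and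
faithful, and every 0-fold twisted quasi-coherent module on 𝒳 is isomorphic to an inverse image.
(The published statement is for all modules on a gerbe over a locally ringed site and names direct
image as the quasi-inverse; this row is its quasi-coherent form over algebraic stacks and asserts
existence of the isomorphism only. That inverse images are 0-fold twisted holds by construction and
is not asserted.) -/
theorem result (S : Scheme.{u}) (𝒳 𝒴 : AlgSt.Cat S) (h𝒳 : AlgSt.IsAlgStack Scheme.fppfPrecoverage 𝒳) (h𝒴 : AlgSt.IsAlgStack Scheme.fppfPrecoverage 𝒴) (A : (Over S)ᵒᵖ ⥤ GrpCat.{u}) (χ : A ⟶ TwSh.GmPsh S) (π : 𝒳 ⥤ᵇ 𝒴) (ι : TwSh.BandHom 𝒳 A) (hπ : TwSh.IsBandedGerbe (QuotSh.J Scheme.fppfPrecoverage S) π ι) : ((StMod.comapQ π).Full ∧ (StMod.comapQ π).Faithful) ∧ ∀ F : StMod.QCoh 𝒳, TwSh.IsTwisted F.obj ι χ 0 → ∃ G : StMod.QCoh 𝒴, Nonempty (F ≅ (StMod.comapQ π).obj G) := by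
  have h₀ := h𝒳.isStack.1
  have h₁ := h𝒴.isStack.1
  have hc := StQC14.covBy_of_locSurjObj h₀ π hπ.1.1
  have hl : StQC14.HasLifts π h₀ := StQC14.hasLifts_of_locSurjHom π h₀ h₁ hπ.1.2
  refine ⟨⟨⟨fun {E G} u => ?_⟩, ⟨fun {E G v v'} e => ?_⟩⟩, fun F hF => ?_⟩
  · obtain ⟨v, hv, -⟩ := StQC14.existsUnique_descend (h := π) h₀ h₁ hc E G u fun {a' a} _ _ b x =>
      StQC14.comm_of_lifts hl ((StMod.comapQ π).obj G).property (StQC14.trQ π E.obj E.property)
        (StQC14.trQ π G.obj G.property) u.hom b x
    exact ⟨v, hv⟩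
  · obtain ⟨w, -, hw⟩ := StQC14.existsUnique_descend (h := π) h₀ h₁ hc E G ((StMod.comapQ π).map v) fun {a' a} _ _ b x =>
      StQC14.comm_of_lifts hl ((StMod.comapQ π).obj G).property (StQC14.trQ π E.obj E.property)
        (StQC14.trQ π G.obj G.property) _ b x
    exact (hw v rfl).trans (hw v' e.symm).symm
  · obtain ⟨R⟩ := StQC14.exists_tr hl F.property fun {z a} _ _ m m' e x => by
      obtain ⟨c, hc'⟩ := StQC14.exists_band_of_map_eq π h₀ (fun x => (hπ.2 x).2) h₁ m m' e
      rw [hc', StMod.Mod.mapTop_comp]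
      have := hF z c ⊤ (F.obj.mapTop m x)
      refine Eq.trans ?_ ((TwSh.inert_app_top F.obj z (ι.hom z c) _).symm.trans this).symm
      simp
    obtain ⟨G, e, -⟩ := StQC14.exists_descended (h := π) h₀ h₁ hc F R
    exact ⟨G, ⟨e.symm⟩⟩

end Groth.Agent.S19714
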