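import Groth.Statements.S19715
import Groth.Agent.Lib.StQC14.Twist
import Groth.Agent.Lib.StQC14.Fib

set_option autoImplicit false
universe u
open TwSh

namespace Groth.Agent.S19715

open CategoryTheory AlgebraicGeometry in
/-- Being twisted is local on the base. Let 𝒳 → X be an fppf A-gerbe over a scheme X, χ a character of
A, d an integer and F a quasi-coherent module on 𝒳. If {T_i → X} is a family of flat morphisms
locally of finite presentation whose images cover X, and for every i the restriction of F to the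
gerbe restricted over T_i is d-fold χ-twisted for the restricted action, then F is d-fold χ-twisted.
(The published statement is an equivalence, for arbitrary modules on an A-gerbe over a locally
ringed site and a covering of it; the converse implication holds by construction and is not
asserted, and this row is the quasi-coherent form over the big fppf site of a scheme.) -/
theorem result (S : Scheme.{u}) (X : Over S) (𝒳 : AlgSt.Cat S) (h𝒳 : AlgSt.IsAlgStack Scheme.fppfPrecoverage 𝒳) (A : (Over S)ᵒᵖ ⥤ GrpCat.{u}) (χ : A ⟶ TwSh.GmPsh S) (d : ℤ) (π : 𝒳 ⥤ᵇ AlgSt.ofSch X) (ι : TwSh.BandHom 𝒳 A) (hπ : TwSh.IsBandedGerbe (QuotSh.J Scheme.fppfPrecoverage S) π ι) (I : Type u) (η : I → (AlgSt.ofSch X).obj) (hfl : ∀ i, Flat (η i).sec.down.left) (hfp : ∀ i, LocallyOfFinitePresentation (η i).sec.down.left) (hcov : ∀ x : X.left, ∃ i, x ∈ Set.range (η i).sec.down.left.base) (F : StMod.QCoh 𝒳) (h : ∀ i, TwSh.IsTwisted (StMod.Mod.comap (StMod.fibFst π (η i)) F.obj) (TwSh.BandHom.fib π (η i)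 ι (TwSh.IsBandedGerbe.map_hom_eq_id π hπ)) χ d) : TwSh.IsTwisted F.obj ι χ d := by
  have h₀ := h𝒳.isStack.1
  refine StQC14.isTwisted_of_top h₀ F.property fun ξ hξ a x => ?_
  haveI := hξ
  refine StQC14.twisted_top_of_local F.property a (fun t => ?_) x
  let hX : StMod.sch 𝒳 ξ ⟶ X.left :=
    eqToHom (StMod.sch_obj_eq π ξ).symm ≫ (π.obj ξ).sec.down.left
  obtain ⟨i, t', ht'⟩ := hcov (hX t)
  obtain ⟨z, hz1, hz2⟩ := Scheme.Pullback.exists_preimage_pullback (f := hX) (g := (η i).sec.down.left) t t' ht'.symm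
  obtain ⟨W, hW, hzW, -⟩ := exists_isAffineOpen_mem_and_subset
    (X := Limits.pullback hX (η i).sec.down.left) (x := z) (U := ⊤) trivial
  haveI : IsAffine (W : Scheme.{u}) := hW
  haveI := hfl i
  obtain ⟨ξ', φ, e, he⟩ := StQC14.exists_lift_to h₀ ξ (W.ι ≫ Limits.pullback.fst hX (η i).sec.down.left)
  haveI : IsAffine (StMod.sch 𝒳 ξ') := IsAffine.of_isIso e.hom
  refine ⟨ξ', inferInstance, φ, by rw [he]; infer_instance, ?_, fun y => ?_⟩
  · obtain ⟨w, hw⟩ := e.hom.surjective ⟨z, hzW⟩
    refine ⟨w, ?_⟩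
    rw [he, Scheme.Hom.comp_apply, hw]
    exact hz1
  let bl : (π.obj ξ').base.left ⟶ (η i).base.left :=
    eqToHom (StMod.sch_obj_eq π ξ') ≫ e.hom ≫ W.ι ≫ Limits.pullback.snd hX (η i).sec.down.left
  have hsec : (π.obj ξ').sec.down.left = (π.map φ).hom.left ≫ (π.obj ξ).sec.down.left :=
    (congrArg (fun s => s.down.left) (π.map φ).map_sec).symm
  have hb : (π.map φ).hom.left = eqToHom (StMod.sch_obj_eq π ξ') ≫ StMod.bmap 𝒳 φ ≫
      eqToHom (StMod.sch_obj_eq π ξ).symm := StQC14.bmap_map π φ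
  have K : bl ≫ (η i).sec.down.left = (π.obj ξ').sec.down.left := by
    rw [hsec, hb, he]
    simp only [bl, Category.assoc, ← Limits.pullback.condition]
    rfl
  let β : (π.obj ξ').base ⟶ (η i).base := Over.homMk bl (by
    rw [← Over.w (η i).sec.down, ← Over.w (π.obj ξ').sec.down]
    exact (Category.assoc _ _ _).symm.trans (congrArg (· ≫ X.hom) K))
  let g : π.obj ξ' ⟶ η i := ⟨β, congrArg ULift.up (Over.OverMorphism.ext K)⟩
  let x' : (StMod.fibCat π (η i)).obj := CostructuredArrow.mk (S := π.toFunctor) (Y := ξ') g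
  have key := h i x' (A.map (𝒳.p.map φ).op a) ⊤ y
  change (TwSh.inert (StMod.Mod.comap (StMod.fibFst π (η i)) F.obj) x' (TwSh.autOFib π (η i) x' (ι.hom ξ' _) (TwSh.IsBandedGerbe.map_hom_eq_id π hπ ξ' _))).app ⊤ y = _ at key
  rw [TwSh.inert_comap_fibFst] at key
  refine ((TwSh.inert_app_top F.obj ξ' _ y).symm.trans key).trans ?_
  congr 1
  show (StMod.sch 𝒳 ξ').presheaf.map (𝟙 _) _ = _
  rw [CategoryTheory.Functor.map_id]
  rfl

end Groth.Agent.S19715
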