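import Groth.Statements.S19716
import Groth.Agent.Lib.StQC14.GdSection

set_option autoImplicit false
universe u
open TwSh

namespace Groth.Agent.S19716

open CategoryTheory AlgebraicGeometry in
/-- A section of a trivial gerbe identifies twisted sheaves with sheaves on the base. Let 𝒳 → X be an
fppf A-gerbe over a scheme X, χ a character of A, and σ a section of the gerbe (a functor X → 𝒳 over
(Sch/S) whose composite with the projection is isomorphic to the identity). Then inverse image along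
σ, restricted to the full subcategory of χ-twisted quasi-coherent modules on 𝒳, is an equivalence of
categories onto the quasi-coherent modules on X. (The published statement is about the stacks, over
the base, of twisted sheaves and of sheaves; this row is its quasi-coherent form on the categories
themselves.) -/
theorem result (S : Scheme.{u}) (X : Over S) (𝒳 : AlgSt.Cat S) (h𝒳 : AlgSt.IsAlgStack Scheme.fppfPrecoverage 𝒳) (A : (Over S)ᵒᵖ ⥤ GrpCat.{u}) (χ : A ⟶ TwSh.GmPsh S) (π : 𝒳 ⥤ᵇ AlgSt.ofSch X) (ι : TwSh.BandHom 𝒳 A) (hπ : TwSh.IsBandedGerbe (QuotSh.J Scheme.fppfPrecoverage S) π ι) (σ : AlgSt.ofSch X ⥤ᵇ 𝒳) (e : BasedFunctor.comp σ π ≅ BasedFunctor.id (AlgSt.ofSch X)) : ((TwSh.isTwistedQ 𝒳 ι χ 1).ι ⋙ StMod.comapQ σ).IsEquivalence := by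
  let D : StQC14.Sec π ι := ⟨h𝒳.isStack.1, Stk.isFibGrpd_ofPsh _, hπ, σ, e⟩
  haveI : ((TwSh.isTwistedQ 𝒳 ι χ 1).ι ⋙ StMod.comapQ σ).Faithful := ⟨fun {E G v v'} h => by
    refine InducedCategory.hom_ext ?_
    obtain ⟨w, -, hw⟩ := StQC14.existsUnique_descend (h := σ) D.h₁ D.h₀ D.covBy E.obj G.obj
      ((StMod.comapQ σ).map v.hom) fun {a' a} _ _ b x =>
        D.comm E.obj.property G.obj.property E.property G.property _ b x
    exact (hw v.hom rfl).trans (hw v'.hom h.symm).symm⟩
  haveI : ((TwSh.isTwistedQ 𝒳 ι χ 1).ι ⋙ StMod.comapQ σ).Full := ⟨fun {E G} u => by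
    obtain ⟨v, hv, -⟩ := StQC14.existsUnique_descend (h := σ) D.h₁ D.h₀ D.covBy E.obj G.obj u
      fun {a' a} _ _ b x => D.comm E.obj.property G.obj.property E.property G.property _ b x
    exact ⟨ObjectProperty.homMk v, hv⟩⟩
  haveI : ((TwSh.isTwistedQ 𝒳 ι χ 1).ι ⋙ StMod.comapQ σ).EssSurj := ⟨fun M => by
    obtain ⟨G, hG, hi⟩ := D.exists_twisted (χ := χ) M
    exact ⟨⟨G, hG⟩, hi⟩⟩
  exact { }

end Groth.Agent.S19716
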