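import Groth.Statements.S19717
import Groth.Agent.Lib.StQC14.GerbDesc

set_option autoImplicit false
universe u
open TwSh

namespace Groth.Agent.S19717

open CategoryTheory AlgebraicGeometry in
/-- Second assertion: let π : 𝒳 → 𝒴 be an fppf A-gerbe of algebraic stacks, for a presheaf of groups A
on schemes over S acting through the inertia of 𝒳, and let G be a quasi-coherent module on 𝒴. Then G
is of finite type if and only if its inverse image along π is; likewise for finite presentation, and
for being locally free of finite type. (The published statement is for all modules on a gerbe over a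
locally ringed site and for any property preserved by pullback along morphisms of sites, naming also
quasi-coherence, flatness and local freeness; this row is its quasi-coherent form for the three
properties named, local freeness being taken together with finite type.) -/
theorem result (S : Scheme.{u}) (𝒳 𝒴 : AlgSt.Cat S) (h𝒳 : AlgSt.IsAlgStack Scheme.fppfPrecoverage 𝒳) (h𝒴 : AlgSt.IsAlgStack Scheme.fppfPrecoverage 𝒴) (A : (Over S)ᵒᵖ ⥤ GrpCat.{u}) (π : 𝒳 ⥤ᵇ 𝒴) (ι : TwSh.BandHom 𝒳 A) (hπ : TwSh.IsBandedGerbe (QuotSh.J Scheme.fppfPrecoverage S) π ι) (G : StMod.QCoh 𝒴) : (G.obj.IsFinType ↔ ((StMod.comapQ π).obj G).obj.IsFinType) ∧ (G.obj.IsFinPres ↔ ((StMod.comapQ π).obj G).obj.IsFinPres) ∧ ((G.obj.IsLocFree ∧ G.obj.IsFinType) ↔ (((StMod.comapQ π).obj G).obj.IsLocFree ∧ ((StMod.comapQ π).obj G).obj.IsFinType)) := by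
  have hloc := hπ.1.1
  refine ⟨StQC14.forall_comap_iff StQC14.fppfLocalModProp_isFT π hloc G,
    StQC14.forall_comap_iff StQC14.fppfLocalModProp_isFP π hloc G, ?_⟩
  have e : ∀ {𝒵 : AlgSt.Cat S} (M : StMod.Mod 𝒵),
      (M.IsLocFree ∧ M.IsFinType) ↔ ∀ z, FlatMod.IsFinLocFree (M.obj z) := fun M =>
    ⟨fun h z => StQC14.isFinLocFree_iff_locallyFree.2 ⟨h.1 z, h.2 z⟩,
      fun h => ⟨fun z => (StQC14.isFinLocFree_iff_locallyFree.1 (h z)).1,
        fun z => (StQC14.isFinLocFree_iff_locallyFree.1 (h z)).2⟩⟩
  rw [e, e]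
  exact StQC14.forall_comap_iff StQC14.fppfLocalModProp_isFinLocFree π hloc G

end Groth.Agent.S19717
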