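import Groth.Statements.S19726
import Groth.Agent.Lib.NumPoly18.SurfCones

set_option autoImplicit false
universe u
open CategoryTheory CategoryTheory.Limits AlgebraicGeometry TopologicalSpace
open Surf

open Groth.Agent Groth.Agent.SurfR
namespace Groth.Agent.S19726

/-- Let k be an algebraically closed field of characteristic zero and X a smooth projective surface over
k (integral, proper and smooth over k, of dimension 2, with an ample invertible module); the notes
work over the complex numbers. Fix a group law on the Picard set of X, and let B be the intersection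
form on N¹(X)_ℝ = ℝ ⊗ (Pic X modulo numerical equivalence), the real bilinear form whose value on
the classes of invertible modules L, M is (L·M) = χ(O_X) − χ(L) − χ(M) + χ(L ⊗ M); assume N¹(X)_ℝ is
finite-dimensional (the notes take the Picard number finite). Let H be an ample invertible module.
Then the positive cone C₊ = {x ∈ N¹(X)_ℝ : B(x, x) > 0 and B(x, [H]) > 0}, which is the component of
{x : B(x, x) > 0} containing the ample classes, is an open and convex subset of N¹(X)_ℝ. (The
published statement describes C₊ through coordinates diagonalising the form as (1, ρ − 1) and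
identifies it with this set in a remark; the assertion for the opposite component C₋ = −C₊ follows
by symmetry and is not restated.) -/
theorem result (k : Type u) [Field k] [IsAlgClosed k] [CharZero k]
    (X : Scheme.{u}) [X.Over (Spec (CommRingCat.of k))] [IsProper (X ↘ (Spec (CommRingCat.of k)))]
    [Smooth (X ↘ (Spec (CommRingCat.of k)))] [AlgebraicGeometry.IsIntegral X] (hdim : topologicalKrullDim X = 2)
    (hproj : ∃ H : X.Modules, CohB1.IsAmple H) [PicGrp.Law X] [Module.Finite ℝ (NumR.N1R k X)]
    (B : NumR.N1R k X →ₗ[ℝ] NumR.N1R k X →ₗ[ℝ] ℝ) (hB : NumR.IsIntForm₂ k X B) (H : X.Modules) (hH : CohB1.IsAmple H) :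
    IsOpen (NumR.posCone k X B H hH.1) ∧ Convex ℝ (NumR.posCone k X B H hH.1) := by
  have hd : topologicalKrullDim X = ((2 : ℕ) : WithBot ℕ∞) := by simpa using hdim
  refine ⟨isOpen_pos hd hB hH, fun x hx y hy a b ha hb hab => ?_⟩
  have h := pos_pair hd hB hH hx hy.1.le hy.2
  obtain ⟨hxx, hxh⟩ := hx
  obtain ⟨hyy, hyh⟩ := hy
  refine ⟨?_, ?_⟩
  · simp only [map_add, map_smul, LinearMap.add_apply, LinearMap.smul_apply, smul_eq_mul, symm hd hB y x]
    rcases ha.lt_or_eq with ha | ha
    · nlinarith [mul_pos (mul_pos ha ha) hxx, mul_nonneg (mul_nonneg hb hb) hyy.le,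
        mul_nonneg (mul_nonneg ha.le hb) h.le]
    · subst ha
      obtain rfl : b = 1 := by linarith
      simpa using hyy
  · simp only [map_add, map_smul, LinearMap.add_apply, LinearMap.smul_apply, smul_eq_mul]
    rcases ha.lt_or_eq with ha | ha
    · nlinarith [mul_pos ha hxh, mul_nonneg hb hyh.le]
    · subst ha
      obtain rfl : b = 1 := by linarith
      simpa using hyh

end Groth.Agent.S19726
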