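import Groth.Statements.S19729
import Groth.Agent.Lib.NumPoly18.SurfCones

set_option autoImplicit false
universe u
open CategoryTheory CategoryTheory.Limits AlgebraicGeometry TopologicalSpace
open Surf

open Groth.Agent Groth.Agent.SurfR
namespace Groth.Agent.S19729

/-- Let k be an algebraically closed field of characteristic zero and X a smooth projective surface over
k (integral, proper and smooth over k, of dimension 2, with an ample invertible module); the notes
work over the complex numbers. Fix a group law on the Picard set of X, and let B be the intersection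
form on N¹(X)_ℝ = ℝ ⊗ (Pic X modulo numerical equivalence), the real bilinear form whose value on
the classes of invertible modules L, M is (L·M) = χ(O_X) − χ(L) − χ(M) + χ(L ⊗ M); assume N¹(X)_ℝ is
finite-dimensional. Let H be an ample invertible module. Then the ample cone A(X), the convex cone
of N¹(X)_ℝ generated by the classes of ample invertible modules, is open in N¹(X)_ℝ and is contained
in the positive cone C₊ = {x : B(x, x) > 0, B(x, [H]) > 0}. (The published statement says that A(X)
is open and convex inside C₊; convexity holds by construction and the inclusion in C₊ is the remark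
preceding the proposition.) -/
theorem result (k : Type u) [Field k] [IsAlgClosed k] [CharZero k]
    (X : Scheme.{u}) [X.Over (Spec (CommRingCat.of k))] [IsProper (X ↘ (Spec (CommRingCat.of k)))]
    [Smooth (X ↘ (Spec (CommRingCat.of k)))] [AlgebraicGeometry.IsIntegral X] (hdim : topologicalKrullDim X = 2)
    (hproj : ∃ H : X.Modules, CohB1.IsAmple H) [PicGrp.Law X] [Module.Finite ℝ (NumR.N1R k X)]
    (B : NumR.N1R k X →ₗ[ℝ] NumR.N1R k X →ₗ[ℝ] ℝ) (hB : NumR.IsIntForm₂ k X B) (H : X.Modules) (hH : CohB1.IsAmple H) :
    IsOpen (NumR.ampleCone k X : Set (NumR.N1R k X)) ∧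
      (NumR.ampleCone k X : Set (NumR.N1R k X)) ⊆ NumR.posCone k X B H hH.1 := by
  exact ⟨N1R.isOpen_ampleCone, fun x hx =>
    ⟨ample_ample (by simpa using hdim) hB hx hx, pos_H (by simpa using hdim) hB hH hx⟩⟩

end Groth.Agent.S19729
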