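import Groth.Statements.S1973
import Groth.Agent.Lib.EtaleLocal.Ring
import Mathlib.RingTheory.DedekindDomain.Dvr
import Mathlib.RingTheory.LocalProperties.IntegrallyClosed
import Mathlib.RingTheory.Ideal.MinimalPrime.Localization
import Mathlib.RingTheory.Noetherian.Basic
import Mathlib.RingTheory.Ideal.Quotient.Operations

set_option autoImplicit false
universe u
open EtAlg

namespace Groth.Agent.S1973

/-- Let A be a Dedekind domain and B an etale A-algebra. Then B is isomorphic as a ring to a finite
product of Dedekind domains, and for every maximal ideal q of B whose localization is not a field,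
the localization B_q is a discrete valuation ring. (The source states the last claim for all maximal
ideals; it fails for field factors, e.g. A a DVR with uniformizer π and B = A[1/π], so the guard is
needed.) -/
theorem result (A B : Type u) [CommRing A] [IsDedekindDomain A] [CommRing B] [Algebra A B]
    [Algebra.Etale A B] :
    (∃ (n : ℕ) (D : Fin n → Type u) (_ : ∀ i, CommRing (D i)) (_ : ∀ i, IsDedekindDomain (D i)),
      Nonempty (B ≃+* ∀ i, D i)) ∧
    ∀ (q : Ideal B) [q.IsMaximal], ¬ IsField (Localization.AtPrime q) →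
      ∃ _ : IsDomain (Localization.AtPrime q), IsDiscreteValuationRing (Localization.AtPrime q) := by
  classical
  haveI : IsNoetherianRing B := Algebra.FiniteType.isNoetherianRing A B
  have hloc : ∀ (q : Ideal B) [q.IsPrime],
      (IsDomain (Localization.AtPrime q) ∧ IsIntegrallyClosed (Localization.AtPrime q)) ∧
        Ring.KrullDimLE 1 (Localization.AtPrime q) := by
    intro q _
    let p := q.comap (algebraMap A B)
    haveI : q.LiesOver p := ⟨rfl⟩
    letI := Localization.AtPrime.algebraOfLiesOver p q
    haveI : IsDedekindDomain (Localization.AtPrime p) := inferInstance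
    refine ⟨(Groth.Agent.EtaleLocal.isNormal_iff p q).2 ⟨inferInstance, inferInstance⟩, ?_⟩
    haveI : (⊥ : Ideal (Localization.AtPrime p)).IsPrime := Ideal.isPrime_bot
    haveI : Ring.KrullDimLE 1 (Localization.AtPrime p) :=
      Ring.krullDimLE_one_iff_of_isPrime_bot.2 fun I hI hI' => Ring.DimensionLEOne.maximalOfPrime hI hI'
    rw [Ring.krullDimLE_iff, Groth.Agent.EtaleLocal.ringKrullDim_eq p q]
    exact Ring.krullDimLE_iff.1 inferInstance
  refine ⟨?_, fun q hq hnf => ?_⟩
  · have hker : ∀ (P : Ideal B), P ∈ minimalPrimes B → ∀ (m : Ideal B) [m.IsMaximal], P ≤ m →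
        RingHom.ker (algebraMap B (Localization.AtPrime m)) = P := by
      intro P hP m _ hPm
      haveI := (hloc m).1.1
      haveI hK : (RingHom.ker (algebraMap B (Localization.AtPrime m))).IsPrime := RingHom.ker_isPrime _
      have hle : RingHom.ker (algebraMap B (Localization.AtPrime m)) ≤ P := fun x hx => by
        obtain ⟨⟨c, hc⟩, hcx⟩ := (IsLocalization.map_eq_zero_iff m.primeCompl _ x).1 hx
        exact (hP.1.1.mem_or_mem ((hcx ▸ P.zero_mem : c * x ∈ P))).resolve_left fun h => hc (hPm h)
      exact le_antisymm hle (hP.2 ⟨hK, bot_le⟩ hle)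
    let S := minimalPrimes B
    haveI : Finite S := (minimalPrimes.finite_of_isNoetherianRing B).to_subtype
    let eS := Finite.equivFin S
    let P : Fin (Nat.card S) → Ideal B := fun i => (eS.symm i).1
    have hP : ∀ i, P i ∈ minimalPrimes B := fun i => (eS.symm i).2
    have hcop : Pairwise (Function.onFun IsCoprime P) := by
      intro i j hij
      show IsCoprime (P i) (P j)
      rw [Ideal.isCoprime_iff_sup_eq]
      by_contra h
      obtain ⟨m, hm, hle⟩ := Ideal.exists_le_maximal _ h
      haveI := hm
      exact hij (eS.symm.injective (Subtype.ext ((hker _ (hP i) m (le_sup_left.trans hle)).symm.trans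
        (hker _ (hP j) m (le_sup_right.trans hle)))))
    have hinf : (⨅ i, P i) = ⊥ := by
      rw [eq_bot_iff]
      intro x hx
      rw [Ideal.mem_iInf] at hx
      rw [Ideal.mem_bot]
      by_contra hx0
      have hann : LinearMap.ker (LinearMap.toSpanSingleton B B x) ≠ (⊤ : Ideal B) := fun h => hx0 (by
        have h1 : (1 : B) ∈ LinearMap.ker (LinearMap.toSpanSingleton B B x) := h ▸ Submodule.mem_top
        simpa using h1)
      obtain ⟨m, hm, hle⟩ := Ideal.exists_le_maximal _ hann
      haveI := hm
      obtain ⟨Q, hQ, hQm⟩ := Ideal.exists_minimalPrimes_le (I := (⊥ : Ideal B)) (J := m) bot_le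
      have hxQ : x ∈ Q := by
        have := hx (eS ⟨Q, hQ⟩)
        have e : (eS.symm (eS ⟨Q, hQ⟩)).1 = Q := by rw [Equiv.symm_apply_apply]
        exact e ▸ this
      rw [← hker Q hQ m hQm, RingHom.mem_ker, IsLocalization.map_eq_zero_iff m.primeCompl] at hxQ
      obtain ⟨⟨c, hc⟩, hcx⟩ := hxQ
      exact hc (hle (by simpa using hcx))
    refine ⟨Nat.card S, fun i => B ⧸ P i, fun i => inferInstance, fun i => ?_,
      ⟨((RingEquiv.quotientBot B).symm.trans (Ideal.quotEquivOfEq hinf.symm)).trans
        (Ideal.quotientInfRingEquivPiQuotient P hcop)⟩⟩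
    haveI : (P i).IsPrime := (hP i).1.1
    haveI : Ring.DimensionLEOne (B ⧸ P i) := ⟨fun {Q} hQ hQp => by
      haveI := hQp
      obtain ⟨M, hM, hQM⟩ := Ideal.exists_le_maximal Q hQp.ne_top
      haveI := hM
      suffices h : M.comap (Ideal.Quotient.mk (P i)) ≤ Q.comap (Ideal.Quotient.mk (P i)) by
        rwa [hQM.antisymm ((Ideal.comap_le_comap_iff_of_surjective _ Ideal.Quotient.mk_surjective M Q).1 h)]
      set m := M.comap (Ideal.Quotient.mk (P i))
      haveI : m.IsMaximal := Ideal.comap_isMaximal_of_surjective _ Ideal.Quotient.mk_surjective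
      set Q' := Q.comap (Ideal.Quotient.mk (P i))
      have hPQ : P i ≤ Q' := fun x hx => by
        show Ideal.Quotient.mk (P i) x ∈ Q
        rw [Ideal.Quotient.eq_zero_iff_mem.2 hx]; exact zero_mem _
      have hQm : Q' ≤ m := Ideal.comap_mono hQM
      obtain ⟨⟨hd, -⟩, hk⟩ := hloc m
      haveI := hd
      haveI := hk
      haveI : (⊥ : Ideal (Localization.AtPrime m)).IsPrime := Ideal.isPrime_bot
      have hdisj : Disjoint (m.primeCompl : Set B) (Q' : Set B) := Set.disjoint_left.2 fun a ha ha' => ha (hQm ha')
      have hmax : (Q'.map (algebraMap B (Localization.AtPrime m))).IsMaximal := by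
        refine Ring.krullDimLE_one_iff_of_isPrime_bot.1 hk _ (fun h => hQ ?_)
          (IsLocalization.isPrime_of_isPrime_disjoint m.primeCompl _ Q' inferInstance hdisj)
        rw [Ideal.map_eq_bot_iff_le_ker, hker _ (hP i) m (hPQ.trans hQm)] at h
        rw [← Ideal.map_comap_of_surjective _ Ideal.Quotient.mk_surjective Q, eq_bot_iff,
          Ideal.map_le_iff_le_comap]
        intro x hx
        exact Ideal.mem_comap.2 (Ideal.mem_bot.2 (Ideal.Quotient.eq_zero_iff_mem.2 (h hx)))
      rw [← IsLocalization.under_map_of_isPrime_disjoint m.primeCompl (Localization.AtPrime m) inferInstance hdisj,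
        IsLocalRing.eq_maximalIdeal hmax]
      exact le_of_eq (Localization.AtPrime.comap_maximalIdeal (I := m)).symm⟩
    haveI : IsIntegrallyClosed (B ⧸ P i) := IsIntegrallyClosed.of_localization_maximal fun M hM0 hM => by
      let m := M.comap (Ideal.Quotient.mk (P i))
      haveI := hM
      haveI : m.IsMaximal := Ideal.comap_isMaximal_of_surjective _ Ideal.Quotient.mk_surjective
      have hPm : P i ≤ m := fun x hx => by
        show Ideal.Quotient.mk (P i) x ∈ M
        rw [Ideal.Quotient.eq_zero_iff_mem.2 hx]; exact zero_mem _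
      have hk := hker _ (hP i) m hPm
      letI : Algebra (B ⧸ P i) (Localization.AtPrime m) :=
        (Ideal.Quotient.lift (P i) (algebraMap B (Localization.AtPrime m)) fun a ha => (hk.ge ha : _)).toAlgebra
      haveI : IsLocalization.AtPrime (Localization.AtPrime m) M := by
        refine (isLocalization_iff _ _).2 ⟨?_, fun z => ?_, fun {a b} h => ⟨1, ?_⟩⟩
        · rintro ⟨y, hy⟩
          obtain ⟨y, rfl⟩ := Ideal.Quotient.mk_surjective y
          exact IsLocalization.map_units (Localization.AtPrime m) (⟨y, hy⟩ : m.primeCompl)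
        · obtain ⟨⟨a, s⟩, h⟩ := IsLocalization.surj m.primeCompl z
          exact ⟨(Ideal.Quotient.mk (P i) a, ⟨Ideal.Quotient.mk (P i) s.1, s.2⟩), h⟩
        · obtain ⟨a, rfl⟩ := Ideal.Quotient.mk_surjective a
          obtain ⟨b, rfl⟩ := Ideal.Quotient.mk_surjective b
          have h' : algebraMap B (Localization.AtPrime m) a = algebraMap B (Localization.AtPrime m) b := h
          have : a - b ∈ P i := hk.le (by rw [RingHom.mem_ker, map_sub, h', sub_self])
          rw [Ideal.Quotient.eq.2 this]
      haveI := (hloc m).1.2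
      exact IsIntegrallyClosed.of_equiv
        (IsLocalization.algEquiv M.primeCompl (Localization.AtPrime m) (Localization.AtPrime M)).toRingEquiv
    exact { toIsDomain := inferInstance, toIsDedekindRing := {} }
  · obtain ⟨⟨hd, hic⟩, hk⟩ := hloc q
    haveI := hd
    haveI := hic
    haveI := hk
    haveI : (⊥ : Ideal (Localization.AtPrime q)).IsPrime := Ideal.isPrime_bot
    haveI : Ring.DimensionLEOne (Localization.AtPrime q) :=
      ⟨fun {P} hP hP' => Ring.krullDimLE_one_iff_of_isPrime_bot.1 hk P hP hP'⟩
    haveI : IsNoetherianRing (Localization.AtPrime q) := IsLocalization.isNoetherianRing q.primeCompl _ inferInstance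
    haveI : IsDedekindDomain (Localization.AtPrime q) := { toIsDomain := inferInstance, toIsDedekindRing := {} }
    exact ⟨hd, ((IsDiscreteValuationRing.TFAE (Localization.AtPrime q) hnf).out 0 2 (a := IsDiscreteValuationRing (Localization.AtPrime q)) (b := IsDedekindDomain (Localization.AtPrime q))).2 inferInstance⟩

end Groth.Agent.S1973
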