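import Groth.Statements.S19733
import Groth.Agent.Lib.NumPoly18.SurfCurves
import Mathlib.LinearAlgebra.FiniteDimensional.Lemmas

set_option autoImplicit false
universe u
open CategoryTheory CategoryTheory.Limits AlgebraicGeometry TopologicalSpace
open Surf

open Groth.Agent Groth.Agent.NumPoly18 Groth.Agent.SurfR
namespace Groth.Agent.S19733

/-- Let k be an algebraically closed field of characteristic zero and X a smooth projective surface over
k (integral, proper and smooth over k, of dimension 2, with an ample invertible module); the notes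
work over the complex numbers. Fix a group law on the Picard set of X, and let B be the intersection
form on N¹(X)_ℝ = ℝ ⊗ (Pic X modulo numerical equivalence), the real bilinear form whose value on
the classes of invertible modules L, M is (L·M) = χ(O_X) − χ(L) − χ(M) + χ(L ⊗ M). Real divisors are
finite real combinations of integral curves on X (quasi-coherent ideals with integral closed
subscheme of one-dimensional support and invertible ideal module); such a real divisor is ample when
it is a combination with positive real coefficients of integral divisors E_i whose Picard classes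
[O_X(E_i)] are classes of ample invertible modules, and numerically trivial when its class pairs to
zero under B with the class of every integral divisor. If D is an ample real divisor and D′ is a
real divisor with D′ − D numerically trivial, then D′ is ample. -/
theorem result (k : Type u) [Field k] [IsAlgClosed k] [CharZero k]
    (X : Scheme.{u}) [X.Over (Spec (CommRingCat.of k))] [IsProper (X ↘ (Spec (CommRingCat.of k)))]
    [Smooth (X ↘ (Spec (CommRingCat.of k)))] [AlgebraicGeometry.IsIntegral X] (hdim : topologicalKrullDim X = 2)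
    (hproj : ∃ H : X.Modules, CohB1.IsAmple H) [PicGrp.Law X]
    (B : NumR.N1R k X →ₗ[ℝ] NumR.N1R k X →ₗ[ℝ] ℝ) (hB : NumR.IsIntForm₂ k X B)
    (D D' : NumR.CDivR X) (hD : NumR.IsAmpleRDiv X D) (h : NumR.IsNumTrivialRDiv k X B (D' - D)) :
    NumR.IsAmpleRDiv X D' := by
  classical
  have hd : topologicalKrullDim X = ((2 : ℕ) : WithBot ℕ∞) := by simpa using hdim
  -- integral numerically trivial divisors keep integral divisors ample
  have hamp : ∀ (E T : NumR.CDiv X), NumR.IsNumTrivialRDiv k X B (NumR.CDiv.toR X T) →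
      (∃ (L : X.Modules) (hL : PicF.IsInvertible L), CohB1.IsAmple L ∧
        Additive.ofMul (PicGrp.cls L hL) = NumR.divCl X E) →
      ∃ (L : X.Modules) (hL : PicF.IsInvertible L), CohB1.IsAmple L ∧
        Additive.ofMul (PicGrp.cls L hL) = NumR.divCl X (E + T) := by
    rintro E T hT ⟨L, hL, hA, hLE⟩
    obtain ⟨N, hN, hNT⟩ := PicGrp.exists_eq_cls (NumR.divCl X T).toMul
    have hcl : Additive.ofMul (PicGrp.cls N hN) = NumR.divCl X T := by rw [← hNT]; rfl
    have hmul : PicGrp.cls (CohB1.tensorMod L N) (M2.isInvertible_tensor hL hN) =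
        PicGrp.cls L hL * PicGrp.cls N hN :=
      Subtype.ext (by rw [PicGrp.cls_val, PicGrp.cls_mul_cls_val])
    refine ⟨_, M2.isInvertible_tensor hL hN, isAmple_of_numEq (k := k) hL (M2.isInvertible_tensor hL hN)
      (fun ξ hξ => ?_) hA, by rw [hmul, ofMul_mul, hLE, hcl, map_add]⟩
    have hI := invertible_pt (k := k) hd hξ
    let c : NumR.Curve X := ⟨ptIdeal ξ, (isIntegral_pt ξ).1, (by
      rw [show ((ptIdeal ξ).support : Set X) = closure {ξ} from Scheme.IdealSheafData.coe_support_vanishingIdeal _]
      exact hξ), hI⟩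
    have hpt : NumR.divClR k X (NumR.CDiv.toR X (Finsupp.single c 1)) = ptCl k ξ := by
      rw [ptCl, dif_pos hI]
      simp [NumR.CDiv.toR, NumR.divClR, c]
    have hNc : NumR.clR k X N hN = NumR.divClR k X (NumR.CDiv.toR X T) := by
      rw [NumR.divClR_toR, ← hcl]; rfl
    have h0 : B (NumR.clR k X N hN) (ptCl k ξ) = 0 := by rw [hNc, ← hpt]; exact hT _
    refine Rat.cast_injective (α := ℝ) ?_
    rw [← B_ptCl hd hB hξ hL, ← B_ptCl hd hB hξ (M2.isInvertible_tensor hL hN), N1R.clR_tensor hL hN, map_add,
      LinearMap.add_apply, h0, add_zero]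
  -- a multiple of such a divisor keeps an ample real divisor ample
  have hadd : ∀ (D₀ : NumR.CDivR X) (T : NumR.CDiv X) (s : ℝ), NumR.IsAmpleRDiv X D₀ →
      NumR.IsNumTrivialRDiv k X B (NumR.CDiv.toR X T) → NumR.IsAmpleRDiv X (D₀ + s • NumR.CDiv.toR X T) := by
    rintro D₀ T s ⟨n, E, t, hn, ht, hE, rfl⟩ hT
    let i₀ : Fin n := ⟨0, hn⟩
    set r := s / t i₀
    set z : ℤ := ⌊r⌋
    have hz : ∀ w : ℤ, NumR.IsNumTrivialRDiv k X B (NumR.CDiv.toR X (w • T)) := fun w F => by
      have e : NumR.divClR k X (NumR.CDiv.toR X (w • T)) = w • NumR.divClR k X (NumR.CDiv.toR X T) := by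
        rw [map_zsmul, map_zsmul]
      rw [e, map_zsmul, LinearMap.smul_apply, hT F, smul_zero]
    refine ⟨n + 1, Fin.cons (E i₀ + (z - 1) • T) (Function.update E i₀ (E i₀ + (z + 1) • T)),
      Fin.cons (t i₀ * (((z : ℝ) + 1 - r) / 2)) (Function.update t i₀ (t i₀ * ((r - z + 1) / 2))),
      n.succ_pos, ?_, ?_, ?_⟩
    · refine Fin.cases ?_ fun i => ?_
      · simp only [Fin.cons_zero]
        exact mul_pos (ht i₀) (by have := Int.lt_floor_add_one r; linarith)
      · simp only [Fin.cons_succ]
        rcases eq_or_ne i i₀ with rfl | hi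
        · rw [Function.update_self]
          exact mul_pos (ht i₀) (by have := Int.floor_le r; linarith)
        · rw [Function.update_of_ne hi]; exact ht i
    · refine Fin.cases ?_ fun i => ?_
      · simp only [Fin.cons_zero]
        exact hamp _ _ (hz _) (hE i₀)
      · simp only [Fin.cons_succ]
        rcases eq_or_ne i i₀ with rfl | hi
        · rw [Function.update_self]; exact hamp _ _ (hz _) (hE i₀)
        · rw [Function.update_of_ne hi]; exact hE i
    · rw [Fin.sum_univ_succ]
      simp only [Fin.cons_zero, Fin.cons_succ]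
      rw [← Finset.add_sum_erase _ _ (Finset.mem_univ i₀), ← Finset.add_sum_erase _ _ (Finset.mem_univ i₀),
        Function.update_self, Function.update_self,
        Finset.sum_congr rfl (fun i hi => by
          rw [Function.update_of_ne (Finset.ne_of_mem_erase hi), Function.update_of_ne (Finset.ne_of_mem_erase hi)] :
          ∀ i ∈ Finset.univ.erase i₀, Function.update t i₀ (t i₀ * ((r - z + 1) / 2)) i •
              NumR.CDiv.toR X (Function.update E i₀ (E i₀ + (z + 1) • T) i) = t i • NumR.CDiv.toR X (E i))]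
      have hs : s = t i₀ * r := by simp only [r]; field_simp [(ht i₀).ne']
      have hcast : ∀ w : ℤ, NumR.CDiv.toR X (w • T) = (w : ℝ) • NumR.CDiv.toR X T := fun w => by
        rw [map_zsmul, Int.cast_smul_eq_zsmul]
      simp only [map_add, hcast, hs]
      push_cast
      module
  -- decompose the trivial part over a rational basis of its coefficients
  obtain ⟨T, hT0, rfl⟩ : ∃ T, NumR.IsNumTrivialRDiv k X B T ∧ D' = D + T := ⟨D' - D, h, by abel⟩
  let S := T.support
  let W : Submodule ℚ ℝ := Submodule.span ℚ (Set.range fun c : S => T c)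
  haveI : Module.Finite ℚ W := Module.Finite.iff_fg.2 (Submodule.fg_span (Set.finite_range _))
  let bas := Module.finBasis ℚ W
  let q : S → Fin (Module.finrank ℚ W) → ℚ := fun c l => bas.repr ⟨T c, Submodule.subset_span ⟨c, rfl⟩⟩ l
  let p : ℕ := ∏ cl : S × Fin (Module.finrank ℚ W), (q cl.1 cl.2).den
  have hp : 0 < p := Finset.prod_pos fun cl _ => (q cl.1 cl.2).den_pos
  have hint : ∀ c l, ∃ a : ℤ, (q c l) * p = a := fun c l => by
    obtain ⟨d, hd'⟩ := Finset.dvd_prod_of_mem (fun cl : S × Fin (Module.finrank ℚ W) => (q cl.1 cl.2).den)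
      (Finset.mem_univ (c, l))
    refine ⟨(q c l).num * d, ?_⟩
    rw [show (p : ℚ) = ((q c l).den : ℚ) * (d : ℚ) from by exact_mod_cast congrArg (Nat.cast : ℕ → ℚ) hd',
      ← mul_assoc, Rat.mul_den_eq_num]
    push_cast
    rfl
  choose a ha using hint
  let Tl : Fin (Module.finrank ℚ W) → NumR.CDiv X := fun l => ∑ c : S, Finsupp.single (c : NumR.Curve X) (a c l)
  have hTc : ∀ c : S, T c = ∑ l, ((q c l : ℚ) : ℝ) * (bas l : ℝ) := fun c => by
    have h' := congrArg (fun w : W => (w : ℝ)) (bas.sum_repr ⟨T c, Submodule.subset_span ⟨c, rfl⟩⟩)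
    simp only [Submodule.coe_sum, Submodule.coe_smul_of_tower, Rat.smul_def] at h'
    exact h'.symm
  have hdec : T = ∑ l, ((bas l : ℝ) / p) • NumR.CDiv.toR X (Tl l) := by
    have htoR : ∀ l, NumR.CDiv.toR X (Tl l) = ∑ c : S, Finsupp.single (c : NumR.Curve X) ((a c l : ℤ) : ℝ) :=
      fun l => by simp [Tl, map_sum, NumR.CDiv.toR]
    simp only [htoR, Finset.smul_sum, Finsupp.smul_single, smul_eq_mul]
    rw [Finset.sum_comm]
    conv_lhs => rw [← T.sum_single, Finsupp.sum, ← Finset.sum_coe_sort]
    refine Finset.sum_congr rfl fun c _ => ?_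
    rw [hTc c, Finsupp.single_finsetSum]
    refine Finset.sum_congr rfl fun l _ => congrArg _ ?_
    rw [show ((a c l : ℤ) : ℝ) = ((q c l : ℚ) : ℝ) * (p : ℝ) by exact_mod_cast congrArg (Rat.cast : ℚ → ℝ) (ha c l).symm]
    field_simp
  have htriv : ∀ l, NumR.IsNumTrivialRDiv k X B (NumR.CDiv.toR X (Tl l)) := by
    intro l F
    have hzero : ∀ F : NumR.CDiv X, ∀ l, ∃ z : ℤ,
        B (NumR.divClR k X (NumR.CDiv.toR X (Tl l))) (NumR.divClR k X (NumR.CDiv.toR X F)) = z := fun F l => by
      rw [NumR.divClR_toR, NumR.divClR_toR]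
      obtain ⟨L₁, hL₁, e₁⟩ := NumR.exists_eq_cl (NumR.toN1 k X (NumR.divCl X (Tl l)))
      obtain ⟨L₂, hL₂, e₂⟩ := NumR.exists_eq_cl (NumR.toN1 k X (NumR.divCl X F))
      rw [e₁, e₂]
      exact ⟨_, hB L₁ L₂ hL₁ hL₂⟩
    choose z hz using hzero F
    have h0 := hT0 F
    rw [hdec] at h0
    simp only [map_sum, map_smul, LinearMap.sum_apply, LinearMap.smul_apply, smul_eq_mul, hz] at h0
    have hli : LinearIndependent ℚ (fun l => (bas l : ℝ)) := bas.linearIndependent.map' W.subtype W.ker_subtype
    have := Fintype.linearIndependent_iff.1 hli (fun l => (z l : ℚ) / p) (by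
      rw [← h0]
      exact Finset.sum_congr rfl fun l _ => by rw [Rat.smul_def]; push_cast; ring) l
    have hzl : z l = 0 := by
      rcases div_eq_zero_iff.1 this with h' | h'
      · exact_mod_cast h'
      · exact absurd (Nat.cast_eq_zero.1 h') hp.ne'
    rw [hz l, hzl, Int.cast_zero]
  rw [hdec]
  refine Finset.induction_on (motive := fun S => NumR.IsAmpleRDiv X (D + ∑ l ∈ S, ((bas l : ℝ) / p) • NumR.CDiv.toR X (Tl l)))
    Finset.univ (by simpa using hD) fun l S hl ih => ?_
  rw [Finset.sum_insert hl, show D + (((bas l : ℝ) / p) • NumR.CDiv.toR X (Tl l) + ∑ l ∈ S, ((bas l : ℝ) / p) • NumR.CDiv.toR X (Tl l))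
    = (D + ∑ l ∈ S, ((bas l : ℝ) / p) • NumR.CDiv.toR X (Tl l)) + ((bas l : ℝ) / p) • NumR.CDiv.toR X (Tl l) from by abel]
  exact hadd _ _ _ ih (htriv l)

end Groth.Agent.S19733
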