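import Groth.Statements.S19734
import Groth.Agent.Lib.NumPoly18.SurfCones

set_option autoImplicit false
universe u
open CategoryTheory CategoryTheory.Limits AlgebraicGeometry TopologicalSpace
open Surf

open Groth.Agent Groth.Agent.SurfR
namespace Groth.Agent.S19734

/-- Let k be an algebraically closed field of characteristic zero and X a smooth projective surface over
k (integral, proper and smooth over k, of dimension 2, with an ample invertible module); the notes
work over the complex numbers. Fix a group law on the Picard set of X, and let B be the intersection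
form on N¹(X)_ℝ = ℝ ⊗ (Pic X modulo numerical equivalence), the real bilinear form whose value on
the classes of invertible modules L, M is (L·M) = χ(O_X) − χ(L) − χ(M) + χ(L ⊗ M); assume N¹(X)_ℝ is
finite-dimensional. Let A(X) be the ample cone (generated by the classes of ample invertible
modules), H an ample invertible module and C₊ = {x : B(x, x) > 0, B(x, [H]) > 0} the positive cone,
which contains A(X). Then the closure of A(X) in N¹(X)_ℝ is {x : B(x, x) ≥ 0 and B(x, [C]) ≥ 0 for
every integral curve C ⊆ X}, and the closure of A(X) inside C₊, that is the closure intersected with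
C₊, is {x : B(x, x) > 0 and B(x, [C]) ≥ 0 for every integral curve C}; here C runs over
quasi-coherent ideals with integral closed subscheme of one-dimensional support and invertible ideal
module, and [C] is minus the class of the ideal. -/
theorem result (k : Type u) [Field k] [IsAlgClosed k] [CharZero k]
    (X : Scheme.{u}) [X.Over (Spec (CommRingCat.of k))] [IsProper (X ↘ (Spec (CommRingCat.of k)))]
    [Smooth (X ↘ (Spec (CommRingCat.of k)))] [AlgebraicGeometry.IsIntegral X] (hdim : topologicalKrullDim X = 2)
    (hproj : ∃ H : X.Modules, CohB1.IsAmple H) [PicGrp.Law X] [Module.Finite ℝ (NumR.N1R k X)]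
    (B : NumR.N1R k X →ₗ[ℝ] NumR.N1R k X →ₗ[ℝ] ℝ) (hB : NumR.IsIntForm₂ k X B) (H : X.Modules) (hH : CohB1.IsAmple H) :
    closure (NumR.ampleCone k X : Set (NumR.N1R k X)) = {x | 0 ≤ B x x ∧ x ∈ NumR.nefCone₂ k X B} ∧
      closure (NumR.ampleCone k X : Set (NumR.N1R k X)) ∩ NumR.posCone k X B H hH.1 =
        {x | 0 < B x x ∧ x ∈ NumR.nefCone₂ k X B} := by
  have hd : topologicalKrullDim X = ((2 : ℕ) : WithBot ℕ∞) := by simpa using hdim
  have hnef : IsClosed (NumR.nefCone₂ k X B) := by
    simp only [NumR.nefCone₂, Set.setOf_forall]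
    exact isClosed_iInter fun I => isClosed_iInter fun _ => isClosed_iInter fun _ => isClosed_iInter fun _ =>
      isClosed_le continuous_const (continuous_left (B := B) _)
  have heq : closure (NumR.ampleCone k X : Set (NumR.N1R k X)) = NumR.nefCone₂ k X B := by
    refine (closure_minimal (fun x hx => nef_of_mem_ampleCone hd hB hx) hnef).antisymm fun x hx => ?_
    let h : NumR.N1R k X := NumR.clR k X H hH.1
    have hlin : Continuous (fun t : ℝ => t • h) :=
      IsModuleTopology.continuous_of_linearMap (LinearMap.toSpanSingleton ℝ (NumR.N1R k X) h)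
    have hc : Continuous (fun t : ℝ => x + t • h) := continuous_const.add hlin
    have h0 : x + (0 : ℝ) • h = x := by rw [zero_smul, add_zero]
    refine mem_closure_of_tendsto (tendsto_nhdsWithin_of_tendsto_nhds (s := Set.Ioi 0) (hc.tendsto' 0 x h0))
      (eventually_nhdsWithin_of_forall fun t ht => ?_)
    refine mem_ampleCone hd hB hH ?_ fun I hI h1 hinv => ?_
    · have h1 := self_nonneg_of_nef hd hB hH hx
      have h2 := nef_ample hd hB hx hH
      have h3 := self_pos hd hB hH
      simp only [map_add, map_smul, LinearMap.add_apply, LinearMap.smul_apply, smul_eq_mul, symm hd hB h x]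
      nlinarith [mul_pos (mul_pos (Set.mem_Ioi.1 ht) (Set.mem_Ioi.1 ht)) h3,
        mul_nonneg (Set.mem_Ioi.1 ht).le h2]
    · rw [map_add, LinearMap.add_apply, map_smul, LinearMap.smul_apply, smul_eq_mul]
      exact add_pos_of_nonneg_of_pos (hx I hI h1 hinv)
        (mul_pos ht (ample_curve hd hB (N1R.clR_mem_ampleCone hH) I hI h1 hinv))
  refine ⟨heq.trans (Set.ext fun x => ⟨fun hx => ⟨self_nonneg_of_nef hd hB hH hx, hx⟩, fun hx => hx.2⟩),
    Set.ext fun x => ?_⟩
  rw [heq]
  exact ⟨fun hx => ⟨hx.2.1, hx.1⟩, fun hx => ⟨hx.2, hx.1,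
    lt_of_le_of_ne (nef_ample hd hB hx.2 hH) (ne_zero_of_pos hd hB hH hx.1).symm⟩⟩

end Groth.Agent.S19734
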