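import Groth.Statements.S19735
import Groth.Agent.Lib.NumPoly18.SurfCurves
import Groth.Agent.S19734
import Mathlib.LinearAlgebra.Matrix.ToLinearEquiv

set_option autoImplicit false
universe u
open CategoryTheory CategoryTheory.Limits AlgebraicGeometry TopologicalSpace
open Surf

open Groth.Agent Groth.Agent.NumPoly18 Groth.Agent.SurfR
namespace Groth.Agent.S19735

/-- Let k be an algebraically closed field of characteristic zero and X a smooth projective surface over
k (integral, proper and smooth over k, of dimension 2, with an ample invertible module); the notes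
work over the complex numbers. Fix a group law on the Picard set of X, and let B be the intersection
form on N¹(X)_ℝ = ℝ ⊗ (Pic X modulo numerical equivalence), the real bilinear form whose value on
the classes of invertible modules L, M is (L·M) = χ(O_X) − χ(L) − χ(M) + χ(L ⊗ M); assume N¹(X)_ℝ is
finite-dimensional. Let H be an ample invertible module, C₊ = {x : B(x, x) > 0, B(x, [H]) > 0} the
positive cone and Ā(X) the closure of the ample cone taken inside C₊ (the closure in N¹(X)_ℝ of the
cone spanned by ample classes, intersected with C₊). Let C_1, …, C_r be pairwise distinct integral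
curves on X (quasi-coherent ideals I_i with integral closed subscheme of one-dimensional support and
invertible ideal module) with walls W^{C_i} = {x : B(x, [C_i]) = 0}. Then Ā(X) ∩ W^{C_1} ∩ ⋯ ∩
W^{C_r} is non-empty if and only if the curves C_i generate a negative definite sublattice: Σ_{i,j}
a_i a_j (I_i·I_j) < 0 for every nonzero integer vector a, where (I_i·I_j) = χ(O_X) − χ(I_i) − χ(I_j)
+ χ(I_i ⊗ I_j). (The published statement adds that, when non-empty, this intersection is open in
W^{C_1} ∩ ⋯ ∩ W^{C_r}; that is not correct as published: on the plane blown up in two points, with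
C_1 one exceptional curve, the class of a line lies in Ā(X) ∩ W^{C_1} but adding a small positive
multiple of the other exceptional curve leaves Ā(X) while staying in W^{C_1}. What the argument
there yields is a non-empty open subset of the intersection of the walls contained in Ā(X), and that
clause is not restated.) -/
theorem result (k : Type u) [Field k] [IsAlgClosed k] [CharZero k]
    (X : Scheme.{u}) [X.Over (Spec (CommRingCat.of k))] [IsProper (X ↘ (Spec (CommRingCat.of k)))]
    [Smooth (X ↘ (Spec (CommRingCat.of k)))] [AlgebraicGeometry.IsIntegral X] (hdim : topologicalKrullDim X = 2)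
    (hproj : ∃ H : X.Modules, CohB1.IsAmple H) [PicGrp.Law X] [Module.Finite ℝ (NumR.N1R k X)]
    (B : NumR.N1R k X →ₗ[ℝ] NumR.N1R k X →ₗ[ℝ] ℝ) (hB : NumR.IsIntForm₂ k X B) (H : X.Modules) (hH : CohB1.IsAmple H)
    (r : ℕ) (C : Fin r → X.IdealSheafData) (hC : Function.Injective C)
    (hCi : ∀ i, AlgebraicGeometry.IsIntegral (C i).subscheme) (hCd : ∀ i, topologicalKrullDim ((C i).support : Set X) = 1)
    (hCinv : ∀ i, PicF.IsInvertible (ClSub.idealMod (C i))) :
    (∃ x : NumR.N1R k X, x ∈ closure (NumR.ampleCone k X : Set (NumR.N1R k X)) ∧ x ∈ NumR.posCone k X B H hH.1 ∧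
        ∀ i, x ∈ NumR.wall k X B (C i) (hCinv i)) ↔
      (∀ a : Fin r → ℤ, a ≠ 0 →
      ∑ i, ∑ j, a i * a j * FGA.intNum k X 2 ![(ClSub.idealMod (C i)), (ClSub.idealMod (C j))] (Coh.structureModule X) < 0) := by
  have hd : topologicalKrullDim X = ((2 : ℕ) : WithBot ℕ∞) := by simpa using hdim
  obtain ⟨M, hM, hI, e, hdot, hsign, hij, hoff, hpos⟩ := exists_conf_modules (k := k) hd C hC hCi hCd
  obtain ⟨ξ, hξ, hCξ⟩ := exists_conf C hC hCi hCd
  have hclosure := (S19734.result k X hdim hproj B hB H hH).1
  let G : Fin r → Fin r → ℤ := fun i j =>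
    FGA.intNum k X 2 ![ClSub.idealMod (C i), ClSub.idealMod (C j)] (Coh.structureModule X)
  let h : Fin r → ℤ := fun i => - FGA.intNum k X 2 ![ClSub.idealMod (C i), H] (Coh.structureModule X)
  let y : Fin r → NumR.N1R k X := fun i => NumR.curveCl k X (C i) (hCinv i)
  have hy : ∀ i, y i = NumR.clR k X (M i) (hM i) := fun i => (N1R.clR_inverse (hCinv i) (hM i) (e i).some).symm
  have hGB : ∀ i j, (G i j : ℝ) = B (y i) (y j) := fun i j => by
    rw [hy, hy, B_clR hd hB (hM i) (hM j), ← hij, Rat.cast_intCast]
  have hhB : ∀ i, (h i : ℝ) = B (y i) (NumR.clR k X H hH.1) := fun i => by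
    rw [hy, B_clR hd hB (hM i) hH.1, show (h i : ℝ) = ((h i : ℚ) : ℝ) by push_cast; rfl]
    simp only [h, Int.cast_neg, hsign i H hH.1, neg_neg]
  have hh : ∀ i, 0 < h i := fun i => (Int.cast_pos (R := ℚ)).1 (by
    simp only [h, Int.cast_neg, hsign i H hH.1, neg_neg]; exact hpos hH i)
  have hGoff : ∀ i j, i ≠ j → 0 ≤ G i j := fun i j hne =>
    (Int.cast_nonneg_iff (R := ℚ)).1 (by simp only [G, hij]; exact hoff i j hne)
  refine ⟨?_, fun hneg => ?_⟩
  · rintro ⟨x, -, hxp, hxw⟩
    have key : ∀ b : Fin r → ℤ, B (∑ i, (b i : ℝ) • y i) (∑ i, (b i : ℝ) • y i) = ((Conf.pair G b b : ℤ) : ℝ) := fun b => by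
      simp only [map_sum, map_smul, LinearMap.sum_apply, LinearMap.smul_apply, smul_eq_mul, Finset.mul_sum,
        Conf.pair, Int.cast_sum, Int.cast_mul, hGB]
      rw [Finset.sum_comm]
      exact Finset.sum_congr rfl fun i _ => Finset.sum_congr rfl fun j _ => by ring
    have key' : ∀ b : Fin r → ℤ, B (∑ i, (b i : ℝ) • y i) (NumR.clR k X H hH.1) = ((∑ i, b i * h i : ℤ) : ℝ) :=
      fun b => by simp [map_sum, map_smul, hhB]
    have hzero : ∀ b : Fin r → ℤ, 0 ≤ Conf.pair G b b → ∑ i, (b i : ℝ) • y i = 0 := fun b hb =>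
      orth_pos hd hB hH hxp (by rw [key]; exact Int.cast_nonneg hb) (by
        rw [map_sum]
        exact Finset.sum_eq_zero fun i _ => by rw [map_smul, show B x (y i) = 0 from hxw i, smul_zero])
    intro a ha
    by_contra hge
    push Not at hge
    have hz := hzero a hge
    refine ha (Conf.eq_zero_of_null (G := G) (h := h) hGoff hh (fun b _ hbh => ?_) (fun j => ?_) ?_)
    · by_contra hbb
      push Not at hbb
      have h' := key' b
      rw [hzero b hbb] at h'
      simp only [map_zero, LinearMap.zero_apply] at h'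
      exact hbh (by exact_mod_cast h'.symm)
    · have h' : B (∑ i, (a i : ℝ) • y i) (y j) = 0 := by rw [hz]; simp
      simp only [map_sum, map_smul, LinearMap.sum_apply, LinearMap.smul_apply, smul_eq_mul, ← hGB] at h'
      exact_mod_cast h'
    · have h' := key' a
      rw [hz] at h'
      simp only [map_zero, LinearMap.zero_apply] at h'
      exact_mod_cast h'.symm
  · -- solve for the coefficients
    let Gm : Matrix (Fin r) (Fin r) ℤ := G
    have hdet : Gm.det ≠ 0 := fun h0 => by
      obtain ⟨v, hv, hv0⟩ := Matrix.exists_vecMul_eq_zero_iff.2 h0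
      have h1 : Conf.pair G v v = 0 := by
        rw [Conf.pair_eq]
        exact Finset.sum_eq_zero fun j _ => by
          rw [show ∑ i, v i * G i j = 0 from congrFun hv0 j, mul_zero]
      exact (hneg v hv).ne h1
    let a : Fin r → ℤ := Gm.det • Matrix.vecMul (-h) Gm.adjugate
    let D : ℤ := Gm.det * Gm.det
    have hD : 0 < D := mul_self_pos.2 hdet
    have haG : ∀ j, ∑ i, a i * G i j = - (D * h j) := fun j => by
      have h1 : Matrix.vecMul a Gm = fun j => - (D * h j) := by
        rw [show a = Gm.det • Matrix.vecMul (-h) Gm.adjugate from rfl, Matrix.smul_vecMul, Matrix.vecMul_vecMul,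
          Matrix.adjugate_mul, Matrix.vecMul_smul, Matrix.vecMul_one]
        funext i
        simp [D, mul_assoc]
      exact congrFun h1 j
    have ha : ∀ i, 0 ≤ a i := Conf.nonneg_of_pair_nonpos hGoff hneg fun j => by
      rw [haG]; exact (neg_neg_of_pos (mul_pos hD (hh j))).le
    set x : NumR.N1R k X := (D : ℝ) • NumR.clR k X H hH.1 + ∑ i, (a i : ℝ) • y i with hxdef
    have hxy : ∀ j, B x (y j) = 0 := fun j => by
      rw [hxdef]
      simp only [map_add, map_sum, map_smul, LinearMap.add_apply, LinearMap.sum_apply, LinearMap.smul_apply,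
        smul_eq_mul, ← hGB, symm hd hB (NumR.clR k X H hH.1) (y j), ← hhB]
      rw [show ∑ i, (a i : ℝ) * (G i j : ℝ) = ((∑ i, a i * G i j : ℤ) : ℝ) by push_cast; rfl, haG]
      push_cast
      ring
    have hxh : 0 < B x (NumR.clR k X H hH.1) := by
      rw [hxdef]
      simp only [map_add, map_sum, map_smul, LinearMap.add_apply, LinearMap.sum_apply, LinearMap.smul_apply,
        smul_eq_mul, ← hhB]
      exact add_pos_of_pos_of_nonneg (mul_pos (Int.cast_pos.2 hD) (self_pos hd hB hH))
        (Finset.sum_nonneg fun i _ => mul_nonneg (Int.cast_nonneg (ha i)) (Int.cast_nonneg (hh i).le))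
    have hxx : 0 < B x x := by
      conv => rhs; arg 2; rw [hxdef]
      simp only [map_add, map_sum, map_smul, hxy, smul_eq_mul, mul_zero, Finset.sum_const_zero, add_zero]
      exact mul_pos (Int.cast_pos.2 hD) hxh
    refine ⟨x, ?_, ⟨hxx, hxh⟩, fun i => hxy i⟩
    rw [hclosure]
    refine ⟨hxx.le, fun I hII h1 hinv => ?_⟩
    by_cases hex : ∃ j, I = C j
    · obtain ⟨j, rfl⟩ := hex
      exact (hxy j).ge
    push Not at hex
    obtain ⟨η, hIη, hη⟩ := exists_eq_ptIdeal I hII h1
    rw [hxdef]
    simp only [map_add, map_sum, map_smul, LinearMap.add_apply, LinearMap.sum_apply, LinearMap.smul_apply,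
      smul_eq_mul]
    refine add_nonneg (mul_nonneg (Int.cast_nonneg hD.le)
      (ample_curve hd hB (N1R.clR_mem_ampleCone hH) I hII h1 hinv).le)
      (Finset.sum_nonneg fun i _ => mul_nonneg (Int.cast_nonneg (ha i)) ?_)
    rw [hy, B_curveCl hd hB hinv (hM i), Rat.cast_nonneg, hIη]
    refine cdeg_pt_nonneg_of_divisor (SecDiv.isEffCartierIdeal_of_isInvertible _ (hI i)) (hM i) (e i).some hη
      fun hm => hex i ?_
    rw [(hCξ i).1, show ((ptIdeal (ξ i)).support : Set X) = closure {ξ i} from
      Scheme.IdealSheafData.coe_support_vanishingIdeal _] at hm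
    have hsp : ξ i ⤳ η := specializes_iff_mem_closure.2 hm
    rw [hIη, (hCξ i).1]
    by_contra hne
    have := VarDim.sdim_lt_of_specializes (X ↘ Spec (CommRingCat.of k)) hsp fun h => hne (by rw [h])
    rw [sdim_eq_one (k := k) (hCξ i).2, sdim_eq_one (k := k) hη] at this
    exact lt_irrefl _ this

end Groth.Agent.S19735
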