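import Groth.Statements.S19736
import Groth.Agent.Lib.NumPoly18.SurfCurves
import Mathlib.LinearAlgebra.Matrix.ToLinearEquiv

set_option autoImplicit false
universe u
open CategoryTheory CategoryTheory.Limits AlgebraicGeometry TopologicalSpace
open Surf

open Groth.Agent Groth.Agent.NumPoly18 Groth.Agent.SurfR
namespace Groth.Agent.S19736

/-- Let k be an algebraically closed field of characteristic zero and X a smooth projective surface over
k (integral, proper and smooth over k, of dimension 2, with an ample invertible module); the notes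
work over the complex numbers. Fix a group law on the Picard set of X, and let B be the intersection
form on N¹(X)_ℝ = ℝ ⊗ (Pic X modulo numerical equivalence), the real bilinear form whose value on
the classes of invertible modules L, M is (L·M) = χ(O_X) − χ(L) − χ(M) + χ(L ⊗ M); assume N¹(X)_ℝ is
finite-dimensional, of dimension the Picard number ρ. If C_1, …, C_r are pairwise distinct integral
curves on X (quasi-coherent ideals I_i with integral closed subscheme of one-dimensional support and
invertible ideal module) spanning a negative definite sublattice, Σ_{i,j} a_i a_j (I_i·I_j) < 0 for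
every nonzero integer vector a with (I_i·I_j) = χ(O_X) − χ(I_i) − χ(I_j) + χ(I_i ⊗ I_j), then r ≤ ρ
− 1. (The published corollary adds that the walls of curves of negative self-intersection form a
locally finite family along the closure of the ample cone in the positive cone; no argument is given
for that clause and it is not restated.) -/
theorem result (k : Type u) [Field k] [IsAlgClosed k] [CharZero k]
    (X : Scheme.{u}) [X.Over (Spec (CommRingCat.of k))] [IsProper (X ↘ (Spec (CommRingCat.of k)))]
    [Smooth (X ↘ (Spec (CommRingCat.of k)))] [AlgebraicGeometry.IsIntegral X] (hdim : topologicalKrullDim X = 2)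
    (hproj : ∃ H : X.Modules, CohB1.IsAmple H) [PicGrp.Law X] [Module.Finite ℝ (NumR.N1R k X)]
    (B : NumR.N1R k X →ₗ[ℝ] NumR.N1R k X →ₗ[ℝ] ℝ) (hB : NumR.IsIntForm₂ k X B)
    (r : ℕ) (C : Fin r → X.IdealSheafData) (hC : Function.Injective C)
    (hCi : ∀ i, AlgebraicGeometry.IsIntegral (C i).subscheme) (hCd : ∀ i, topologicalKrullDim ((C i).support : Set X) = 1)
    (hCinv : ∀ i, PicF.IsInvertible (ClSub.idealMod (C i)))
    (hneg : ∀ a : Fin r → ℤ, a ≠ 0 →
      ∑ i, ∑ j, a i * a j * FGA.intNum k X 2 ![(ClSub.idealMod (C i)), (ClSub.idealMod (C j))] (Coh.structureModule X) < 0) :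
    r + 1 ≤ Module.finrank ℝ (NumR.N1R k X) := by
  obtain ⟨H, hH⟩ := hproj
  have hd : topologicalKrullDim X = ((2 : ℕ) : WithBot ℕ∞) := by simpa using hdim
  obtain ⟨M, hM, hI, e, hdot, hsign, hij, hoff, hpos⟩ := exists_conf_modules (k := k) hd C hC hCi hCd
  let W : Fin (r + 1) → X.Modules := Fin.cons H M
  have hW : ∀ i, PicF.IsInvertible (W i) := Fin.cases hH.1 hM
  let G : Matrix (Fin (r + 1)) (Fin (r + 1)) ℤ :=
    fun i j => FGA.intNum k X 2 ![W i, W j] (Coh.structureModule X)
  have hG : ∀ i j, (G i j : ℚ) = dot k (W i) (W j) := fun i j => intNum2 hd.le (hW i) (hW j)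
  have hker : ∀ a : Fin (r + 1) → ℤ, Matrix.vecMul a G = 0 → a = 0 := by
    intro a ha
    have h : ∀ j, (a 0 : ℚ) * dot k H (W j) + ∑ i, (a i.succ : ℚ) * dot k (M i) (W j) = 0 := fun j => by
      have h := congrArg (fun z : ℤ => (z : ℚ)) (congrFun ha j)
      simp only [Matrix.vecMul, dotProduct, Pi.zero_apply, Int.cast_zero, Fin.sum_univ_succ] at h
      push_cast at h
      simp only [hG, W, Fin.cons_zero, Fin.cons_succ] at h
      exact h
    have h0 := h 0
    simp only [W, Fin.cons_zero] at h0
    have hj : ∀ j, (a 0 : ℚ) * dot k (M j) H + ∑ i, (a i.succ : ℚ) * dot k (M i) (M j) = 0 := fun j => by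
      have := h j.succ
      simp only [W, Fin.cons_succ] at this
      rwa [dot_comm H] at this
    have hb : (fun i : Fin r => a i.succ) = 0 := by
      by_contra hne
      have h1 := (Int.cast_lt (R := ℚ)).2 (hneg (fun i => a i.succ) hne)
      push_cast at h1
      simp only [hij] at h1
      have h2 : ∑ j, (a j.succ : ℚ) * ((a 0 : ℚ) * dot k (M j) H + ∑ i, (a i.succ : ℚ) * dot k (M i) (M j)) = 0 :=
        Finset.sum_eq_zero fun j _ => by rw [hj j, mul_zero]
      simp only [mul_add, Finset.sum_add_distrib, Finset.mul_sum] at h2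
      rw [Finset.sum_comm (f := fun j i => (a j.succ : ℚ) * ((a i.succ : ℚ) * dot k (M i) (M j)))] at h2
      have e1 : ∑ i, ∑ j, (a j.succ : ℚ) * ((a i.succ : ℚ) * dot k (M i) (M j)) =
          ∑ i, ∑ j, (a i.succ : ℚ) * (a j.succ : ℚ) * dot k (M i) (M j) :=
        Finset.sum_congr rfl fun i _ => Finset.sum_congr rfl fun j _ => by ring
      have e2 : ∑ j, (a j.succ : ℚ) * ((a 0 : ℚ) * dot k (M j) H) = - (a 0 : ℚ) ^ 2 * dot k H H := by
        rw [show ∑ j, (a j.succ : ℚ) * ((a 0 : ℚ) * dot k (M j) H) =
          (a 0 : ℚ) * ∑ j, (a j.succ : ℚ) * dot k (M j) H by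
            rw [Finset.mul_sum]; exact Finset.sum_congr rfl fun j _ => by ring,
          show ∑ j, (a j.succ : ℚ) * dot k (M j) H = - ((a 0 : ℚ) * dot k H H) by linarith]
        ring
      rw [e1, e2] at h2
      nlinarith [mul_nonneg (sq_nonneg (a 0 : ℚ)) (dot_self_pos (k := k) hd hH).le]
    have ha0 : a 0 = 0 := by
      simp only [show ∀ i : Fin r, a i.succ = 0 from congrFun hb, Int.cast_zero, zero_mul, Finset.sum_const_zero,
        add_zero] at h0
      exact_mod_cast (mul_eq_zero.1 h0).resolve_right (dot_self_pos (k := k) hd hH).ne'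
    exact funext (Fin.cases ha0 fun i => congrFun hb i)
  have hdet : (G.map (fun z : ℤ => (z : ℝ))).det ≠ 0 := by
    rw [show G.map (fun z : ℤ => (z : ℝ)) = (Int.castRingHom ℝ).mapMatrix G from rfl, ← RingHom.map_det]
    intro h0
    obtain ⟨a, ha, ha'⟩ := Matrix.exists_vecMul_eq_zero_iff.2 ((Int.cast_eq_zero (α := ℝ)).1 h0)
    exact ha (hker a ha')
  have hli : LinearIndependent ℝ (fun i => NumR.clR k X (W i) (hW i)) := by
    rw [Fintype.linearIndependent_iff]
    intro g hg
    by_contra hne
    push Not at hne
    refine hdet (Matrix.exists_vecMul_eq_zero_iff.1 ⟨g, fun h => hne.elim fun i hi => hi (congrFun h i), ?_⟩)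
    funext j
    have h := congrArg (fun v => B v (NumR.clR k X (W j) (hW j))) hg
    simp only [map_sum, map_smul, LinearMap.sum_apply, LinearMap.smul_apply, smul_eq_mul, map_zero,
      LinearMap.zero_apply, hB (W _) (W j) (hW _) (hW j)] at h
    exact h
  have := hli.fintype_card_le_finrank
  simpa using this

end Groth.Agent.S19736
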