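import Groth.Statements.S19737
import Groth.Agent.Lib.BlowPic10.Basic
import Groth.Agent.Lib.BlowInt10.Basic
import Groth.Agent.S7868
import Groth.Agent.S11345

set_option autoImplicit false
set_option maxHeartbeats 1000000
set_option linter.style.haveILetI false
set_option backward.isDefEq.respectTransparency false
set_option backward.isDefEq.respectTransparency.types false
universe u
open CategoryTheory CategoryTheory.Limits AlgebraicGeometry TopologicalSpace
open Surf

namespace Groth.Agent.S19737

open TopologicalSpace Groth.Agent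
open Groth.Agent.SymSq10 (sdot)
open scoped TensorProduct

noncomputable local instance instLawNR (Y : Scheme.{u}) : PicGrp.Law Y := M2.law Y

theorem over_eq {A S : Scheme.{u}} (a : A.Over S) (f : A ⟶ S) (h : (letI := a; A ↘ S) = f) : a = ⟨f⟩ := by
  cases a
  subst h
  rfl

/-- The numerically trivial classes are the radical of the intersection form. -/
theorem mem_subCl_iff {k : Type u} [Field k] [IsAlgClosed k] {X : Scheme.{u}} [X.Over (Spec (CommRingCat.of k))]
    [IsProper (X ↘ Spec (CommRingCat.of k))] [Smooth (X ↘ Spec (CommRingCat.of k))] [IsIntegral X]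
    (hdim : topologicalKrullDim X = 2) (c : PicLoc.PicSet X) :
    c ∈ PicGrp.subCl (Y := X) (Pic13.IsNumEquivZero k X) ↔ ∀ b : PicLoc.PicSet X, sdot k c b = 0 := by
  have hd := SurfRR10.dim_eq (k := k) (X := X) hdim
  constructor
  · intro hc
    induction hc using Subgroup.closure_induction with
    | mem c h =>
      obtain ⟨L, hL, hn, rfl⟩ := h
      intro b
      obtain ⟨Z, hZ, rfl⟩ := PicGrp.exists_eq_cls b
      have hO := PicLoc.isInvertible_structureModule X
      haveI : IsNoetherian X := CohFound.isNoetherian_of_isProper (X ↘ Spec (CommRingCat.of k))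
      have hLO : NumPoly18.NumEq k L (Coh.structureModule X) :=
        NumPoly18.numEq_of_curveDeg hL hO fun Y i _ hYi hY => by
          rw [hn Y i hYi hY]
          symm
          have e : (Pic13.curveDeg k (i ≫ (X ↘ Spec (CommRingCat.of k)))
              ((Scheme.Modules.pullback i).obj (Coh.structureModule X)) : ℚ) = 0 := by
            rw [NumPoly18.curveDeg_eq_cdeg i hY.le hO, NumPoly18.cdeg_eq, CurveCoh17.euler_iso (M2.tensorRUnit _), sub_self]
          exact_mod_cast e
      have h : NumPoly18.dot k L Z = 0 := by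
        rw [NumPoly18.dot]
        refine (NumPoly18.md_eq_of_numEq (k := k) 2
          (Fin.cons L (fun _ : Fin 1 => Z) : Fin 2 → X.Modules)
          (Fin.cons (Coh.structureModule X) (fun _ : Fin 1 => Z) : Fin 2 → X.Modules)
          (Fin.forall_fin_two.2 ⟨hL, hZ⟩) (Fin.forall_fin_two.2 ⟨hO, hZ⟩)
          (Fin.forall_fin_two.2 ⟨hLO, fun _ _ => rfl⟩) (Coh.structureModule X) (M1.isCoh_structureModule X) ?_).trans
          (NumPoly18.md_cons_unit _ _)
        exact Snapper.dim_le_of_subset (Set.subset_univ _)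
          ((Homeomorph.Set.univ X).isHomeomorph.topologicalKrullDim_eq.trans hd).le
      rw [SurfRR10.dot_eq_sdot (k := k) hdim hL hZ] at h
      exact_mod_cast h
    | one => exact fun b => SymSq10.sdot_one_left b
    | mul a a' _ _ h h' => exact fun b => by rw [SymSq10.sdot_mul (k := k) hd.le, h, h', add_zero]
    | inv a _ h => exact fun b => by rw [SurfRR10.sdot_inv_left (k := k) hdim, h, neg_zero]
  · intro h
    obtain ⟨L, hL, rfl⟩ := PicGrp.exists_eq_cls c
    exact PicGrp.cls_mem_subCl hL (NumPoly18.isNumEquivZero_of_dot hd hL fun Z hZ => by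
      rw [SurfRR10.dot_eq_sdot (k := k) hdim hL hZ, h, Int.cast_zero])

/-- With the preceding proposition: let k be an algebraically closed field of characteristic zero and X
a smooth projective surface over k (integral, proper and smooth over k, of dimension 2, with an
ample invertible module); the notes work over the complex numbers. Let x be a closed point of X and
π : X′ → X a blowing up of X in the ideal of x (characterised by its universal property), where X′
is again integral of dimension 2 with an ample invertible module and its structure morphism to Spec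
k is π followed by that of X, proper and smooth. Fix group laws on the Picard sets of X and X′ such
that pullback along π is multiplicative on classes, and let N¹(−)_ℝ = ℝ ⊗ (Pic modulo numerical
equivalence). If N¹(X)_ℝ is finite-dimensional, then N¹(X′)_ℝ is finite-dimensional and dim_ℝ
N¹(X′)_ℝ = dim_ℝ N¹(X)_ℝ + 1: the Picard number goes up by one, N¹(X′) being the direct sum of the
pullback of N¹(X) and the class of the exceptional curve. -/
theorem result (k : Type u) [Field k] [IsAlgClosed k] [CharZero k]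
    (X : Scheme.{u}) [X.Over (Spec (CommRingCat.of k))] [IsProper (X ↘ (Spec (CommRingCat.of k)))]
    [Smooth (X ↘ (Spec (CommRingCat.of k)))] [AlgebraicGeometry.IsIntegral X] (hdim : topologicalKrullDim X = 2)
    (hproj : ∃ H : X.Modules, CohB1.IsAmple H)
    (x : X) (hx : IsClosed ({x} : Set X))
    (X' : Scheme.{u}) [X'.Over (Spec (CommRingCat.of k))] (π : X' ⟶ X)
    (hover : X' ↘ (Spec (CommRingCat.of k)) = π ≫ (X ↘ (Spec (CommRingCat.of k))))
    (hπ : BlowUp.IsBlowUp π (Scheme.IdealSheafData.vanishingIdeal ⟨{x}, hx⟩))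
    [AlgebraicGeometry.IsIntegral X'] (hdim' : topologicalKrullDim X' = 2) (hproj' : ∃ H' : X'.Modules, CohB1.IsAmple H')
    [IsProper (X' ↘ (Spec (CommRingCat.of k)))] [Smooth (X' ↘ (Spec (CommRingCat.of k)))]
    [PicGrp.Law X] [PicGrp.Law X'] (hπm : PicGrp.PullMul π) [Module.Finite ℝ (NumR.N1R k X)] :
    Module.Finite ℝ (NumR.N1R k X') ∧
      Module.finrank ℝ (NumR.N1R k X') = Module.finrank ℝ (NumR.N1R k X) + 1 := by
  classical
  obtain rfl : ‹X'.Over (Spec (CommRingCat.of k))› = ⟨π ≫ (X ↘ Spec (CommRingCat.of k))⟩ := over_eq _ _ hover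
  letI : X'.Over (Spec (CommRingCat.of k)) := ⟨π ≫ (X ↘ Spec (CommRingCat.of k))⟩
  obtain rfl : ‹PicGrp.Law X› = M2.law X := Subsingleton.elim _ _
  obtain rfl : ‹PicGrp.Law X'› = M2.law X' := Subsingleton.elim _ _
  haveI : IsNoetherian X := CohFound.isNoetherian_of_isProper (X ↘ Spec (CommRingCat.of k))
  haveI : IsNoetherian X' := CohFound.isNoetherian_of_isProper (X' ↘ Spec (CommRingCat.of k))
  have hd' := SurfRR10.dim_eq (k := k) (X := X') hdim'
  have hd := SurfRR10.dim_eq (k := k) (X := X) hdim
  have hreg : ∀ y : X, IsRegularLocalRing (X.presheaf.stalk y) := SurfRR10.regular (k := k)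
  haveI := hreg x
  have hirr : ∀ Z ∈ irreducibleComponents (X : Type u), topologicalKrullDim Z = 2 := by
    intro Z hZ
    rw [irreducibleComponents_eq_singleton] at hZ
    rw [Set.mem_singleton_iff.1 hZ, (Homeomorph.Set.univ X).isHomeomorph.topologicalKrullDim_eq, hdim]
  have hst := BlowInt10.ringKrullDim_stalk_of_components (k := k) hirr hx
  set ε := NumConn10.icl hπ.1 with hε
  let P := BlowPic10.pbc π
  have hpull : ∀ a b, sdot k (P a) (P b) = sdot k a b ∧ sdot k (P a) ε = 0 ∧ sdot k ε ε = -1 := by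
    intro a b
    obtain ⟨L, hL, rfl⟩ := PicGrp.exists_eq_cls a
    obtain ⟨M, hM, rfl⟩ := PicGrp.exists_eq_cls b
    obtain ⟨h00, hce, hee⟩ := Groth.Agent.S7868.result k X hirr hreg x hx X' π hπ L M hL hM
    rw [CurveCoh17.finrank_residueField (k := k) hx] at hee
    rw [SymSq10.intNum_eq' hd'.le (M2.isInvertible_idealMod _ hπ.1) (M2.isInvertible_idealMod _ hπ.1)] at hee
    rw [SymSq10.intNum_eq' hd'.le (Twist.isInvertible_pullback π hL) (M2.isInvertible_idealMod _ hπ.1)] at hce
    rw [SymSq10.intNum_eq' hd'.le (Twist.isInvertible_pullback π hL) (Twist.isInvertible_pullback π hM),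
      SymSq10.intNum_eq' hd.le hL hM] at h00
    simp only [P, BlowPic10.pbc, PicGrp.pullHom_cls]
    exact ⟨h00, hce, hee.trans (by norm_num)⟩
  have hee : sdot k ε ε = -1 := (hpull 1 1).2.2
  have hzpow : ∀ (z : ℤ) (b : PicLoc.PicSet X'), sdot k (ε ^ z) b = z * sdot k ε b := fun z b => by
    cases z with
    | ofNat m => rw [Int.ofNat_eq_natCast, zpow_natCast, SurfRR10.sdot_pow_left (k := k) hdim']
    | negSucc m =>
      rw [zpow_negSucc, SurfRR10.sdot_inv_left (k := k) hdim', SurfRR10.sdot_pow_left (k := k) hdim',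
        Int.negSucc_eq]
      push_cast
      ring
  let S := PicGrp.subCl (Y := X) (Pic13.IsNumEquivZero k X)
  let S' := PicGrp.subCl (Y := X') (Pic13.IsNumEquivZero k X')
  have hker : ∀ (a : PicLoc.PicSet X) (z : ℤ), P a * ε ^ z ∈ S' ↔ a ∈ S ∧ z = 0 := by
    intro a z
    rw [mem_subCl_iff (k := k) hdim', mem_subCl_iff (k := k) hdim]
    constructor
    · intro h
      have h1 := h ε
      rw [SymSq10.sdot_mul (k := k) hd'.le, hzpow, (hpull a 1).2.1, hee] at h1
      obtain rfl : z = 0 := by omega
      refine ⟨fun b => ?_, rfl⟩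
      have h2 := h (P b)
      rwa [zpow_zero, mul_one, (hpull a b).1] at h2
    · rintro ⟨h, rfl⟩ c
      obtain ⟨b, m, rfl⟩ := BlowPic10.exists_decomp hx hst π hπ hreg c
      rw [zpow_zero, mul_one, SymSq10.sdot_comm, SymSq10.sdot_mul (k := k) hd'.le, hzpow, SymSq10.sdot_comm ε (P a),
        (hpull a 1).2.1, SymSq10.sdot_comm, (hpull a b).1, h b, mul_zero, add_zero]
  let G : PicGrp.modCl (Y := X) (Pic13.IsNumEquivZero k X) →* PicGrp.modCl (Y := X') (Pic13.IsNumEquivZero k X') :=
    QuotientGroup.lift S ((QuotientGroup.mk' S').comp P) fun a ha => (QuotientGroup.eq_one_iff _).2 (by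
      simpa using (hker a 0).2 ⟨ha, rfl⟩)
  let F : NumR.N1 k X × ℤ →+ NumR.N1 k X' :=
    (MonoidHom.toAdditive G).coprod (zmultiplesHom (NumR.N1 k X') (Additive.ofMul (QuotientGroup.mk' S' ε)))
  have hF : ∀ (a : PicLoc.PicSet X) (z : ℤ),
      F (Additive.ofMul (QuotientGroup.mk' S a), z) = Additive.ofMul (QuotientGroup.mk' S' (P a * ε ^ z)) := by
    intro a z
    rw [map_mul, map_zpow]
    rfl
  have hinj : Function.Injective F := by
    rw [injective_iff_map_eq_zero]
    rintro ⟨v, z⟩ hv
    obtain ⟨a, rfl⟩ : ∃ a, Additive.ofMul (QuotientGroup.mk' S a) = v := by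
      obtain ⟨a, ha⟩ := QuotientGroup.mk'_surjective S v.toMul
      exact ⟨a, congrArg Additive.ofMul ha⟩
    rw [hF, ofMul_eq_zero, QuotientGroup.mk'_apply, QuotientGroup.eq_one_iff] at hv
    obtain ⟨ha, rfl⟩ := (hker a z).1 hv
    exact Prod.ext (ofMul_eq_zero.2 ((QuotientGroup.eq_one_iff _).2 ha)) rfl
  have hsurj : Function.Surjective F := fun v => by
    obtain ⟨c, hc⟩ := QuotientGroup.mk'_surjective S' v.toMul
    obtain ⟨a, z, rfl⟩ := BlowPic10.exists_decomp hx hst π hπ hreg c
    exact ⟨_, (hF a z).trans (congrArg Additive.ofMul hc)⟩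
  let L₁ : (NumR.N1 k X × ℤ) ≃ₗ[ℤ] NumR.N1 k X' :=
    (AddEquiv.ofBijective F ⟨hinj, hsurj⟩).toIntLinearEquiv
  let L₂ : NumR.N1R k X' ≃ₗ[ℝ] (NumR.N1R k X × ℝ) :=
    (LinearEquiv.baseChange ℤ ℝ _ _ L₁.symm).trans
      ((TensorProduct.prodRight ℤ ℝ ℝ (NumR.N1 k X) ℤ).trans
        (LinearEquiv.prodCongr (LinearEquiv.refl ℝ _) (TensorProduct.AlgebraTensorModule.rid ℤ ℝ ℝ)))
  haveI hfin : Module.Finite ℝ (NumR.N1R k X') := Module.Finite.equiv L₂.symm
  refine ⟨hfin, ?_⟩
  rw [L₂.finrank_eq, Module.finrank_prod, Module.finrank_self]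

end Groth.Agent.S19737
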