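import Groth.Statements.S1974
import Groth.Agent.Lib.WEtaleH7.Field
import Mathlib.RingTheory.LocalRing.ResidueField.Ideal
import Mathlib.FieldTheory.SeparableClosure

set_option autoImplicit false
universe u
open EtAlg

namespace Groth.Agent.S1974

/-- Let A -> B be weakly etale and q a prime of B lying over the prime p of A. Then the residue field of
q is a separable algebraic extension of the residue field of p. -/
theorem result (A B : Type u) [CommRing A] [CommRing B] [Algebra A B]
    [Algebra.WeaklyEtale A B] (p : Ideal A) [p.IsPrime] (q : Ideal B) [q.IsPrime] [q.LiesOver p]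
    [Algebra (Localization.AtPrime p) (Localization.AtPrime q)] [Localization.AtPrime.IsLiesOverAlgebra p q] :
    Algebra.IsSeparable p.ResidueField q.ResidueField := by
  open scoped TensorProduct Polynomial in
  let φ : p.ResidueField ⊗[A] B →ₐ[p.ResidueField] q.ResidueField :=
    Algebra.TensorProduct.lift (Algebra.ofId _ _) (IsScalarTower.toAlgHom A B q.ResidueField)
      (fun _ _ => Commute.all _ _)
  have hsep : ∀ b : B, IsSeparable p.ResidueField (algebraMap B q.ResidueField b) := fun b => by
    obtain ⟨P, hP, hPb⟩ :=
      WEtaleH7.exists_separable_of_weaklyEtale (K := p.ResidueField) ((1 : p.ResidueField) ⊗ₜ[A] b)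
    refine hP.of_dvd (minpoly.dvd p.ResidueField _ ?_)
    have := congrArg φ hPb
    rw [← Polynomial.aeval_algHom_apply, map_zero] at this
    simpa [φ] using this
  rw [← separableClosure.eq_top_iff, eq_top_iff]
  intro x _
  obtain ⟨a, b, hb, rfl⟩ := IsFractionRing.div_surjective (A := B ⧸ q) x
  obtain ⟨a, rfl⟩ := Ideal.Quotient.mk_surjective a
  obtain ⟨b, rfl⟩ := Ideal.Quotient.mk_surjective b
  refine div_mem ?_ ?_
  · rw [← Ideal.Quotient.algebraMap_eq, ← IsScalarTower.algebraMap_apply, mem_separableClosure_iff]
    exact hsep a
  · rw [← Ideal.Quotient.algebraMap_eq, ← IsScalarTower.algebraMap_apply, mem_separableClosure_iff]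
    exact hsep b

end Groth.Agent.S1974
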