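import Groth.Statements.S19741
import Mathlib.RingTheory.AlgebraicIndependent.TranscendenceBasis
import Mathlib.RingTheory.Algebraic.Integral

set_option autoImplicit false
universe w u
open EssDim

namespace Groth.Agent.S19741

open CategoryTheory AlgebraicGeometry in
/-- For a field extension `K` of `k` and a presheaf of sets `P` on schemes over `k`, restrict `P` to
schemes over `K` by viewing a scheme over `Spec K` as a scheme over `Spec k`; then the essential
dimension over `K` of the restricted presheaf is at most the essential dimension of `P` over `k`.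
(The source states this for an algebraic stack over `k` and its base change to `K`, through the
presheaf of isomorphism classes of objects, whose restriction to schemes over `K` is the presheaf of
classes of the base-changed stack; the inequality is stated here for an arbitrary presheaf, which is
what the argument with composita of fields of definition gives.) -/
theorem result (k : Type u) [Field k] (K : Type u) [Field K] [Algebra k K]
    (P : (Over (Spec (CommRingCat.of k)))ᵒᵖ ⥤ Type w) :
    EssDim.ed (k := K) ((Over.map (Spec.map (CommRingCat.ofHom (algebraMap k K)))).op ⋙ P) ≤ EssDim.ed P := by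
  refine iSup_le fun L => iSup_le fun _ => iSup_le fun _ => iSup_le fun ξ => ?_
  letI : Algebra k L := ((algebraMap K L).comp (algebraMap k K)).toAlgebra
  haveI : IsScalarTower k K L := IsScalarTower.of_algebraMap_eq fun _ => rfl
  have hpt : ∀ (M : Type u) [Field M] [Algebra k M] [Algebra K M] [IsScalarTower k K M],
      Spec.map (CommRingCat.ofHom (algebraMap K M)) ≫ Spec.map (CommRingCat.ofHom (algebraMap k K)) =
        Spec.map (CommRingCat.ofHom (algebraMap k M)) := fun M _ _ _ _ => by
    rw [← Spec.map_comp, ← CommRingCat.ofHom_comp, ← IsScalarTower.algebraMap_eq]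
  let F := Over.map (Spec.map (CommRingCat.ofHom (algebraMap k K)))
  let e : F.obj (SGA7.pt (K := K) L) ≅ SGA7.pt (K := k) L :=
    Over.isoMk (Iso.refl _) (by exact (Category.id_comp _).trans (hpt L).symm)
  let η : EssDim.FPt P L := P.map e.inv.op ξ
  refine le_trans ?_ (EssDim.edAt_le_ed η)
  refine WithBot.coe_le_coe.mpr (le_iInf fun ⟨K₀, ξ₀, hξ₀⟩ => ?_)
  let K' : IntermediateField K L := IntermediateField.adjoin K (K₀ : Set L)
  letI : Algebra k K' := ((algebraMap K K').comp (algebraMap k K)).toAlgebra
  haveI : IsScalarTower k K K' := IsScalarTower.of_algebraMap_eq fun _ => rfl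
  let i : K₀ →+* K' :=
    { toFun := fun x => ⟨x.1, IntermediateField.subset_adjoin K _ x.2⟩
      map_one' := rfl, map_mul' := fun _ _ => rfl, map_zero' := rfl, map_add' := fun _ _ => rfl }
  have hi : i.comp (algebraMap k K₀) = algebraMap k K' := RingHom.ext fun c => Subtype.ext rfl
  let g : F.obj (SGA7.pt (K := K) K') ⟶ SGA7.pt (K := k) K₀ := Over.homMk (Spec.map (CommRingCat.ofHom i)) (by
    show Spec.map _ ≫ Spec.map _ = Spec.map _ ≫ Spec.map _
    rw [← Spec.map_comp, ← CommRingCat.ofHom_comp, hi, hpt K'])
  have hsq : F.map (EssDim.resPt K'.val) ≫ g = e.hom ≫ EssDim.resPt K₀.val := by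
    ext : 1
    show Spec.map _ ≫ Spec.map _ = 𝟙 _ ≫ Spec.map _
    rw [Category.id_comp, ← Spec.map_comp, ← CommRingCat.ofHom_comp]
    rfl
  have hd : EssDim.Descends (F.op ⋙ P) ξ K' := by
    refine ⟨P.map g.op ξ₀, ?_⟩
    show (P.map g.op ≫ P.map (F.map (EssDim.resPt K'.val)).op) ξ₀ = ξ
    rw [← P.map_comp, ← op_comp, hsq, op_comp, P.map_comp]
    show P.map e.hom.op (EssDim.fmap K₀.val ξ₀) = ξ
    rw [hξ₀]
    show (P.map e.inv.op ≫ P.map e.hom.op) ξ = ξ
    rw [← P.map_comp, ← op_comp, e.hom_inv_id, op_id, P.map_id]
    rfl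
  refine le_trans (EssDim.edAt_le_of_descends hd) (OrderHomClass.mono Cardinal.toENat ?_)
  obtain ⟨s, hs⟩ := exists_isTranscendenceBasis k K₀
  let s' : Set K' := i '' s
  refine le_trans (b := Cardinal.mk s') ?_ (Cardinal.mk_image_le.trans_eq hs.cardinalMk_eq_trdeg)
  let R := Algebra.adjoin K (K'.val '' s')
  have hR : ∀ a : K₀, IsAlgebraic R (a : L) := by
    intro a
    haveI := hs.isAlgebraic
    have ha : IsAlgebraic (Algebra.adjoin k (Set.range ((↑) : s → K₀))) a := Algebra.IsAlgebraic.isAlgebraic a
    have hsub : ∀ x : Algebra.adjoin k (Set.range ((↑) : s → K₀)), ((x : K₀) : L) ∈ R := by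
      rintro ⟨x, hx⟩
      induction hx using Algebra.adjoin_induction with
      | mem x hx =>
        obtain ⟨⟨y, hy⟩, rfl⟩ := hx
        exact Algebra.subset_adjoin ⟨i y, ⟨y, hy, rfl⟩, rfl⟩
      | algebraMap c => exact R.algebraMap_mem (algebraMap k K c)
      | add x y _ _ hx hy => exact R.add_mem hx hy
      | mul x y _ _ hx hy => exact R.mul_mem hx hy
    exact ha.ringHom_of_comp_eq (((algebraMap K₀ L).comp (Subalgebra.val _).toRingHom).codRestrict R hsub)
      (algebraMap K₀ L) (fun x y h => Subtype.ext (Subtype.ext (congrArg (fun z : R => (z : L)) h))) rfl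
  haveI hT : Algebra.IsAlgebraic (Algebra.adjoin K s') K' := by
    refine ⟨fun x => ?_⟩
    obtain ⟨a, ha, b, hb, hab⟩ := IntermediateField.mem_adjoin_iff_div.mp x.2
    have hmem : ∀ z ∈ Algebra.adjoin K (K₀ : Set L), IsAlgebraic R z := by
      intro z hz
      induction hz using Algebra.adjoin_induction with
      | mem z hz => exact hR ⟨z, hz⟩
      | algebraMap c => exact isAlgebraic_algebraMap (⟨algebraMap K L c, R.algebraMap_mem c⟩ : R)
      | add z w _ _ hz hw => exact hz.add hw
      | mul z w _ _ hz hw => exact hz.mul hw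
    have hx : IsAlgebraic R (x : L) := by
      rw [hab, div_eq_mul_inv]
      exact (hmem a ha).mul (hmem b hb).inv
    have hmap : (Algebra.adjoin K s').map K'.val = R := (AlgHom.map_adjoin K'.val s')
    let f : Algebra.adjoin K s' →+* R :=
      (Subalgebra.equivOfEq _ _ hmap).toAlgHom.toRingHom.comp
        (((Algebra.adjoin K s').equivMapOfInjective K'.val Subtype.val_injective).toAlgHom.toRingHom)
    refine hx.of_ringHom_of_comp_eq f K'.val.toRingHom ?_ Subtype.val_injective rfl
    exact (Subalgebra.equivOfEq _ _ hmap).surjective.comp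
      ((Algebra.adjoin K s').equivMapOfInjective K'.val Subtype.val_injective).surjective
  exact Algebra.IsAlgebraic.trdeg_le_cardinalMk K s'

end Groth.Agent.S19741
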