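import Groth.Statements.S19748
import Groth.Agent.Lib.GrSeg.Std
-- import your own Groth.Agent.* helpers here

set_option autoImplicit false
universe u
open scoped TensorProduct
open GrSegre

namespace Groth.Agent.S19748

/-- Let R and S be graded rings defined over a field k with Segre product T = R # S, M a graded R-module
and N a graded S-module. Suppose that multiplication by some homogeneous element f ∈ R_d of positive
degree d is bijective on M and multiplication by some homogeneous g ∈ S_e of positive degree e is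
bijective on N. Then multiplication by some homogeneous element of T of positive degree is bijective
on M # N. Here a graded ring defined over k is a commutative k-algebra of finite type, graded in
nonnegative degrees by k-subspaces with degree-zero part k·1; the Segre product T = R # S = ⊕_n R_n
⊗_k S_n is presented abstractly as a graded k-algebra T with an injective k-algebra homomorphism ψ :
T → R ⊗_k S carrying T_n onto the k-span of the elementary tensors a ⊗ b with a ∈ R_n, b ∈ S_n; the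
Segre product M # N = ⊕_n M_n ⊗_k N_n of a graded R-module M and a graded S-module N is presented
abstractly as a graded T-module P with an injective k-linear map φ : P → M ⊗_k N carrying P_n onto
the k-span of the tensors x ⊗ y with x ∈ M_n, y ∈ N_n and turning the action of t ∈ T into that of
ψ(t) (acting factorwise on M ⊗_k N). -/
theorem result (k : Type u) [Field k] (R : Type u) [CommRing R] [Algebra k R] (𝒜 : ℤ → Submodule k R) [GradedAlgebra 𝒜] (hposR : ∀ n : ℤ, n < 0 → 𝒜 n = ⊥) (h0R : 𝒜 0 = Submodule.span k {(1 : R)}) [Algebra.FiniteType k R] (S : Type u) [CommRing S] [Algebra k S] (ℬ : ℤ → Submodule k S) [GradedAlgebra ℬ] (hposS : ∀ n : ℤ, n < 0 → ℬ n = ⊥) (h0S : ℬ 0 = Submodule.span k {(1 : S)}) [Algebra.FiniteType k S] (T : Type u) [CommRing T] [Algebra k T] (𝒯 : ℤ → Submodule k T) [GradedAlgebra 𝒯] (ψ : T →ₐ[k] TensorProduct k R S) (hT : GrSeg.IsSegreRing 𝒜 ℬ 𝒯 ψ) (M : Type u) [AddCommGroup M] [Module R M] [Module k M] [IsScalarTower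 k R M] (ℳ : ℤ → AddSubgroup M) [DirectSum.Decomposition ℳ] [SetLike.GradedSMul 𝒜 ℳ] (N : Type u) [AddCommGroup N] [Module S N] [Module k N] [IsScalarTower k S N] (𝒩 : ℤ → AddSubgroup N) [DirectSum.Decomposition 𝒩] [SetLike.GradedSMul ℬ 𝒩] (P : Type u) [AddCommGroup P] [Module T P] [Module k P] [IsScalarTower k T P] (𝒬 : ℤ → AddSubgroup P) [DirectSum.Decomposition 𝒬] (φ : P →ₗ[k] TensorProduct k M N) (hP : GrSeg.IsSegreMod ψ ℳ 𝒩 𝒬 φ) (d : ℕ) (hd : 0 < d) (f : R) (hf : f ∈ 𝒜 (d : ℤ)) (hfM : Function.Bijective (fun x : M => f • x)) (e : ℕ) (he : 0 < e) (g : S) (hg : g ∈ ℬ (e : ℤ)) (hgN : Function.Bijective (fun y : N => g • y)) : ∃ (c : ℤ) (t : T), 0 < c ∧ t ∈ 𝒯 c ∧ Function.Bijective (fun p : P => t • p) := by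
  have hfe : f ^ e ∈ 𝒜 ((d * e : ℕ) : ℤ) := by
    have := SetLike.pow_mem_graded e hf
    rwa [show e • (d : ℤ) = ((d * e : ℕ) : ℤ) by simp [mul_comm]] at this
  have hgd : g ^ d ∈ ℬ ((d * e : ℕ) : ℤ) := by
    have := SetLike.pow_mem_graded d hg
    rwa [show d • (e : ℤ) = ((d * e : ℕ) : ℤ) by simp] at this
  obtain ⟨t, ht, hte⟩ : (f ^ e) ⊗ₜ[k] (g ^ d) ∈ (𝒯 ((d * e : ℕ) : ℤ)).map ψ.toLinearMap := by
    rw [hT.2]; exact Submodule.subset_span ⟨_, hfe, _, hgd, rfl⟩
  refine ⟨((d * e : ℕ) : ℤ), t, Int.natCast_pos.2 (Nat.mul_pos hd he), ht, ?_⟩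
  change ψ t = _ at hte
  have bfe : Function.Bijective (fun x : M => f ^ e • x) := by
    rw [show (fun x : M => f ^ e • x) = (fun x : M => f • x)^[e] from (smul_iterate f e).symm]
    exact hfM.iterate e
  have bgd : Function.Bijective (fun y : N => g ^ d • y) := by
    rw [show (fun y : N => g ^ d • y) = (fun y : N => g • y)^[d] from (smul_iterate g d).symm]
    exact hgN.iterate d
  let eM : M ≃ₗ[k] M := LinearEquiv.ofBijective ((DistribSMul.toLinearMap k M (f ^ e))) bfe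
  let eN : N ≃ₗ[k] N := LinearEquiv.ofBijective ((DistribSMul.toLinearMap k N (g ^ d))) bgd
  have hact : GrSeg.act k R S M N (ψ t) = (TensorProduct.congr eM eN).toLinearMap :=
    TensorProduct.ext' fun x y => by rw [hte, GrSeg.act_tmul]; rfl
  refine ⟨fun p q h => hP.injective ((TensorProduct.congr eM eN).injective ?_), fun p => ?_⟩
  · have h' := congrArg φ h
    simp only [hP.map_smul, hact] at h'
    exact h'
  · let z := (TensorProduct.congr eM eN).symm (φ p)
    have hcomm : ∀ w, Groth.Agent.GrSegLib.diag 𝒜 ℬ ℳ 𝒩 (GrSeg.act k R S M N (ψ t) w) =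
        GrSeg.act k R S M N (ψ t) (Groth.Agent.GrSegLib.diag 𝒜 ℬ ℳ 𝒩 w) := by
      intro w
      rw [hte]
      refine Groth.Agent.GrSegLib.tensor_induction ℳ 𝒩
        (P := fun w => Groth.Agent.GrSegLib.diag 𝒜 ℬ ℳ 𝒩 (GrSeg.act k R S M N ((f ^ e) ⊗ₜ[k] (g ^ d)) w) =
          GrSeg.act k R S M N ((f ^ e) ⊗ₜ[k] (g ^ d)) (Groth.Agent.GrSegLib.diag 𝒜 ℬ ℳ 𝒩 w)) (by simp)
        (fun a b ha hb => by simp only [map_add, ha, hb]) (fun i j x y hx hy => ?_) w
      have h1 := SetLike.GradedSMul.smul_mem (A := 𝒜) (B := ℳ) hfe hx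
      have h2 := SetLike.GradedSMul.smul_mem (A := ℬ) (B := 𝒩) hgd hy
      rw [GrSeg.act_tmul]
      rcases eq_or_ne i j with rfl | h
      · rw [Groth.Agent.GrSegLib.diag_tmul_same 𝒜 ℬ ℳ 𝒩 h1 h2, Groth.Agent.GrSegLib.diag_tmul_same 𝒜 ℬ ℳ 𝒩 hx hy,
          GrSeg.act_tmul]
      · rw [Groth.Agent.GrSegLib.diag_tmul_ne 𝒜 ℬ ℳ 𝒩 h1 h2 (fun e => h (add_left_cancel e)),
          Groth.Agent.GrSegLib.diag_tmul_ne 𝒜 ℬ ℳ 𝒩 hx hy h, map_zero]
    obtain ⟨q, hq⟩ : Groth.Agent.GrSegLib.diag 𝒜 ℬ ℳ 𝒩 z ∈ LinearMap.range φ := by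
      rw [Groth.Agent.GrSegLib.range_eq ℳ 𝒩 𝒬 hP.image_piece]
      exact Groth.Agent.GrSegLib.diag_mem_iSup 𝒜 ℬ ℳ 𝒩 z
    refine ⟨q, hP.injective ?_⟩
    rw [hP.map_smul, hq, ← hcomm, hact]
    refine (congrArg _ ((TensorProduct.congr eM eN).apply_symm_apply _)).trans
      (Groth.Agent.GrSegLib.diag_eq_self 𝒜 ℬ ℳ 𝒩 ?_)
    rw [← Groth.Agent.GrSegLib.range_eq ℳ 𝒩 𝒬 hP.image_piece]
    exact ⟨p, rfl⟩

end Groth.Agent.S19748
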