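import Groth.Statements.S19750
import Groth.Agent.Lib.GrSeg.Std
-- import your own Groth.Agent.* helpers here

set_option autoImplicit false
universe u
open scoped TensorProduct
open GrSegre

namespace Groth.Agent.S19750

/-- Let R and S be graded rings defined over a field k, both generated over k by their degree-one parts
and of positive Krull dimension, T = R # S with irrelevant ideal T_+, and let a ≥ b be integers.
Then the number of generators ν_T(R(a) # S(b)) = dim_k (R(a) # S(b)) / T_+ (R(a) # S(b)) equals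
dim_k R_{a−b}. Here a graded ring defined over k is a commutative k-algebra of finite type, graded
in nonnegative degrees by k-subspaces with degree-zero part k·1; the Segre product T = R # S = ⊕_n
R_n ⊗_k S_n is presented abstractly as a graded k-algebra T with an injective k-algebra homomorphism
ψ : T → R ⊗_k S carrying T_n onto the k-span of the elementary tensors a ⊗ b with a ∈ R_n, b ∈ S_n;
the Segre product R(a) # S(b) = ⊕_n R_{n+a} ⊗_k S_{n+b} of the shifted modules is presented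
abstractly as a graded T-module P with an injective k-linear map φ : P → R ⊗_k S carrying P_n onto
the k-span of the tensors x ⊗ y with x ∈ R_{n+a}, y ∈ S_{n+b} and turning the action of t ∈ T into
that of ψ(t); T_+ is the ideal spanned by the T_n with n > 0. -/
theorem result (k : Type u) [Field k] (R : Type u) [CommRing R] [Algebra k R] (𝒜 : ℤ → Submodule k R) [GradedAlgebra 𝒜] (hposR : ∀ n : ℤ, n < 0 → 𝒜 n = ⊥) (h0R : 𝒜 0 = Submodule.span k {(1 : R)}) [Algebra.FiniteType k R] (S : Type u) [CommRing S] [Algebra k S] (ℬ : ℤ → Submodule k S) [GradedAlgebra ℬ] (hposS : ∀ n : ℤ, n < 0 → ℬ n = ⊥) (h0S : ℬ 0 = Submodule.span k {(1 : S)}) [Algebra.FiniteType k S] (T : Type u) [CommRing T] [Algebra k T] (𝒯 : ℤ → Submodule k T) [GradedAlgebra 𝒯] (ψ : T →ₐ[k] TensorProduct k R S) (hT : GrSeg.IsSegreRing 𝒜 ℬ 𝒯 ψ) (hstdR : Ideal.span (⋃ n ∈ Set.Ioi (0 : ℤ), (𝒜 n : Set R)) = Ideal.span ((𝒜 1 : Submodule k R) : Set R)) (hstdS : Ideal.span (⋃ n ∈ Set.Ioi (0 : ℤ), (ℬ n : Set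 S)) = Ideal.span ((ℬ 1 : Submodule k S) : Set S)) (hr1 : 1 ≤ ringKrullDim R) (hs1 : 1 ≤ ringKrullDim S) (mT : HomogeneousIdeal 𝒯) (hmT : mT.toIdeal = Ideal.span (⋃ n ∈ Set.Ioi (0 : ℤ), (𝒯 n : Set T))) (a b : ℤ) (hab : b ≤ a) (P : Type u) [AddCommGroup P] [Module T P] [Module k P] [IsScalarTower k T P] (𝒬 : ℤ → AddSubgroup P) [DirectSum.Decomposition 𝒬] (φ : P →ₗ[k] TensorProduct k R S) (hP : GrSeg.IsSegreMod ψ (fun n : ℤ => 𝒜 (n + a)) (fun n : ℤ => ℬ (n + b)) 𝒬 φ) : Module.finrank k (P ⧸ (mT.toIdeal • (⊤ : Submodule T P))) = Module.finrank k (𝒜 (a - b)) := by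
  let ℳ : ℤ → Submodule k R := fun n => 𝒜 (n + a)
  let 𝒩 : ℤ → Submodule k S := fun n => ℬ (n + b)
  have iM : SetLike.GradedSMul 𝒜 ℳ := ⟨fun {i j} r x hr hx => by
    show r * x ∈ 𝒜 (i + j + a)
    rw [add_assoc]; exact SetLike.mul_mem_graded hr hx⟩
  have iN : SetLike.GradedSMul ℬ 𝒩 := ⟨fun {i j} r x hr hx => by
    show r * x ∈ ℬ (i + j + b)
    rw [add_assoc]; exact SetLike.mul_mem_graded hr hx⟩
  have hP' : GrSeg.IsSegreMod ψ ℳ 𝒩 𝒬 φ := hP
  have hzero : ∀ n : ℤ, n < -b → ∀ q ∈ 𝒬 n, q = (0 : P) := by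
    intro n hn q hq
    refine hP.injective ?_
    rw [map_zero]
    have : GrSeg.segrePiece k ℳ 𝒩 n = ⊥ := by
      rw [GrSeg.segrePiece, Submodule.span_eq_bot]
      rintro _ ⟨x, -, y, hy, rfl⟩
      change y ∈ ℬ (n + b) at hy
      rw [hposS (n + b) (by omega), Submodule.mem_bot] at hy
      rw [hy, TensorProduct.tmul_zero]
    simpa [this] using (Groth.Agent.GrSegLib.mem_piece_iff ℳ 𝒩 𝒬 hP').1 hq
  let μ : TensorProduct k R S →ₗ[k] TensorProduct k R S :=
    TensorProduct.map (Groth.Agent.GrSegLib.pr 𝒜 𝒜 (a - b)) (Groth.Agent.GrSegLib.pr ℬ ℬ 0)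
  let L := μ ∘ₗ φ
  have hL : ∀ n : ℤ, n ≠ -b → ∀ q ∈ 𝒬 n, L q = 0 := by
    intro n hn q hq
    have : GrSeg.segrePiece k ℳ 𝒩 n ≤ LinearMap.ker μ := Submodule.span_le.2 fun w ⟨x, hx, y, hy, hw⟩ => by
      subst hw
      change TensorProduct.map _ _ (x ⊗ₜ[k] y) = 0
      rw [TensorProduct.map_tmul, Groth.Agent.GrSegLib.pr_of_mem_ne 𝒜 𝒜 (show x ∈ 𝒜 (n + a) from hx) (by omega),
        TensorProduct.zero_tmul]
    exact this ((Groth.Agent.GrSegLib.mem_piece_iff ℳ 𝒩 𝒬 hP').1 hq)
  have hL' : ∀ q ∈ 𝒬 (-b), L q = φ q := by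
    intro q hq
    have : GrSeg.segrePiece k ℳ 𝒩 (-b) ≤ LinearMap.eqLocus μ LinearMap.id :=
      Submodule.span_le.2 fun w ⟨x, hx, y, hy, hw⟩ => by
        subst hw
        change TensorProduct.map _ _ (x ⊗ₜ[k] y) = _
        have hx' : x ∈ 𝒜 (a - b) := by rw [sub_eq_neg_add]; exact hx
        have hy' : y ∈ ℬ 0 := by rw [← neg_add_cancel b]; exact hy
        rw [TensorProduct.map_tmul, Groth.Agent.GrSegLib.pr_of_mem 𝒜 𝒜 hx', Groth.Agent.GrSegLib.pr_of_mem ℬ ℬ hy']
        rfl
    exact this ((Groth.Agent.GrSegLib.mem_piece_iff ℳ 𝒩 𝒬 hP').1 hq)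
  let J : Submodule k P := (mT.toIdeal • (⊤ : Submodule T P)).restrictScalars k
  have hup : ∀ m : ℕ, ∀ q ∈ 𝒬 (-b + m + 1), q ∈ J := by
    intro m q hq
    have h1 : φ q ∈ J.map φ := by
      refine Submodule.span_le.2 ?_ ((Groth.Agent.GrSegLib.segrePiece_succ_le 𝒜 ℬ hstdR hstdS
        (a := a) (b := b) (n := -b + m) (by omega) (by omega))
          ((Groth.Agent.GrSegLib.mem_piece_iff ℳ 𝒩 𝒬 hP').1 hq))
      rintro _ ⟨w, hw, v, hv, rfl⟩
      rw [← hT.2] at hw
      obtain ⟨t, ht, rfl⟩ := hw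
      obtain ⟨p, -, rfl⟩ := Groth.Agent.GrSegLib.exists_preimage ℳ 𝒩 𝒬 hP' hv
      have h1T : t ∈ mT.toIdeal := by
        rw [hmT]
        exact Ideal.subset_span (Set.mem_biUnion (x := (1 : ℤ)) (Set.mem_Ioi.2 zero_lt_one) ht)
      have h2T : t • p ∈ mT.toIdeal • (⊤ : Submodule T P) := Submodule.smul_mem_smul h1T Submodule.mem_top
      exact ⟨t • p, h2T, hP.map_smul t p⟩
    obtain ⟨p, hp, e⟩ := h1
    exact hP.injective e ▸ hp
  have hker : LinearMap.ker L = J := by
    refine le_antisymm (fun p hp => ?_) fun p hp => ?_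
    · classical
      rw [← DirectSum.sum_support_decompose 𝒬 p]
      refine Submodule.sum_mem _ fun n _ => ?_
      rcases lt_trichotomy n (-b) with h | rfl | h
      · rw [hzero n h _ (DirectSum.decompose 𝒬 p n).2]; exact Submodule.zero_mem _
      · have h0 : L p = φ (DirectSum.decompose 𝒬 p (-b) : P) := by
          conv_lhs => rw [← DirectSum.sum_support_decompose 𝒬 p]
          rw [map_sum, Finset.sum_eq_single (-b) (fun n _ hn => hL n hn _ (DirectSum.decompose 𝒬 p n).2)
            (fun h => by rw [DFinsupp.notMem_support_iff.1 h]; simp), hL' _ (DirectSum.decompose 𝒬 p (-b)).2]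
        rw [LinearMap.mem_ker.1 hp] at h0
        rw [hP.injective (h0.symm.trans (map_zero φ).symm)]; exact Submodule.zero_mem _
      · obtain ⟨m, rfl⟩ : ∃ m : ℕ, n = -b + m + 1 := ⟨(n - (-b) - 1).toNat, by omega⟩
        exact hup m _ (DirectSum.decompose 𝒬 p _).2
    · have hpos : ∀ t ∈ mT.toIdeal, ∀ s : T, ∀ q : P, L ((s * t) • q) = 0 := by
        intro t ht
        rw [hmT] at ht
        refine Submodule.span_induction (p := fun t _ => ∀ s : T, ∀ q : P, L ((s * t) • q) = 0) ?_ (by simp)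
          (fun a b _ _ ha hb s q => by rw [mul_add, add_smul, map_add, ha s q, hb s q, add_zero])
          (fun c a _ ha s q => by rw [smul_eq_mul, ← mul_assoc]; exact ha _ q) ht
        intro t ht s q
        obtain ⟨i, hi, ht⟩ := Set.mem_iUnion₂.1 ht
        rw [mul_comm, mul_smul]
        generalize s • q = q'
        induction q' using DirectSum.Decomposition.inductionOn 𝒬 with
        | zero => simp
        | @homogeneous j y =>
          have hty := Groth.Agent.GrSegLib.smul_mem_segre 𝒜 ℬ 𝒯 ℳ 𝒩 𝒬 hT.2 hP' ht y.2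
          rcases eq_or_ne (i + j) (-b) with h | h
          · rw [hzero j (by simp only [Set.mem_Ioi] at hi; omega) _ y.2]; simp
          · exact hL _ h _ hty
        | add a b ha hb => rw [smul_add, map_add, ha, hb, add_zero]
      have hp' : p ∈ mT.toIdeal • (⊤ : Submodule T P) := (Submodule.restrictScalars_mem k _ p).1 hp
      refine Submodule.smul_induction_on (p := fun z => z ∈ LinearMap.ker L) hp' (fun t ht q _ => ?_) fun x y hx hy => ?_
      · have h1 := hpos t ht 1 q
        rw [one_mul] at h1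
        exact LinearMap.mem_ker.2 h1
      · exact Submodule.add_mem _ hx hy
  have : Nontrivial S := by
    by_contra h
    rw [not_nontrivial_iff_subsingleton] at h
    rw [ringKrullDim_eq_bot_of_subsingleton] at hs1
    simp at hs1
  let ι : R →ₗ[k] TensorProduct k R S :=
    (Algebra.TensorProduct.includeLeft : R →ₐ[k] TensorProduct k R S).toLinearMap
  have hι : Function.Injective ι :=
    Algebra.TensorProduct.includeLeft_injective (S := k) (algebraMap k S).injective
  have hrange : LinearMap.range L = (𝒜 (a - b)).map ι := by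
    refine le_antisymm ?_ ?_
    · rintro _ ⟨p, rfl⟩
      change μ (φ p) ∈ _
      generalize φ p = z
      induction z using TensorProduct.induction_on with
      | zero => rw [map_zero]; exact Submodule.zero_mem _
      | add a b ha hb => rw [map_add]; exact Submodule.add_mem _ ha hb
      | tmul x y =>
        rw [TensorProduct.map_tmul]
        obtain ⟨c, hc⟩ := Submodule.mem_span_singleton.1 (h0S ▸ Groth.Agent.GrSegLib.pr_mem ℬ ℬ 0 y :
          Groth.Agent.GrSegLib.pr ℬ ℬ 0 y ∈ Submodule.span k {(1 : S)})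
        rw [← hc, TensorProduct.tmul_smul]
        exact Submodule.smul_mem _ c ⟨_, Groth.Agent.GrSegLib.pr_mem 𝒜 𝒜 _ x, rfl⟩
    · rintro _ ⟨x, hx, rfl⟩
      obtain ⟨p, hp, e⟩ := Groth.Agent.GrSegLib.exists_preimage ℳ 𝒩 𝒬 hP' (n := -b) (z := x ⊗ₜ[k] (1 : S))
        (Submodule.subset_span ⟨x, (by show x ∈ 𝒜 (-b + a); rwa [← sub_eq_neg_add]), 1,
          (by show (1 : S) ∈ ℬ (-b + b); rw [neg_add_cancel]; exact SetLike.one_mem_graded ℬ), rfl⟩)
      exact ⟨p, (hL' p hp).trans e⟩
  calc Module.finrank k (P ⧸ (mT.toIdeal • (⊤ : Submodule T P)))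
      = Module.finrank k (P ⧸ J) := ((Submodule.Quotient.restrictScalarsEquiv k _).finrank_eq).symm
    _ = Module.finrank k (LinearMap.range L) := by rw [← hker]; exact L.quotKerEquivRange.finrank_eq
    _ = Module.finrank k (𝒜 (a - b)) := by
        rw [hrange]; exact ((𝒜 (a - b)).equivMapOfInjective ι hι).finrank_eq.symm

end Groth.Agent.S19750
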