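import Groth.Statements.S19751
import Groth.Agent.Lib.GrDual21.Duality

set_option autoImplicit false
set_option backward.isDefEq.respectTransparency false
universe u
open GrDual

namespace Groth.Agent.S19751

/-- Let R be a graded ring defined over a field k with m = R_+, let F and M be finitely generated graded
R-modules and f : F → M a surjective homomorphism of graded R-modules, with dual f^* : M^* → F^* on
graded k-duals. Then f is minimal, that is Ker f ⊆ m F, if and only if f^* is essential: an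
injective homomorphism of graded modules such that every nonzero graded submodule of F^* meets its
image. Here a graded ring defined over k is a commutative k-algebra of finite type, graded in
nonnegative degrees by k-subspaces with degree-zero part k·1, and R_+ is the ideal spanned by the
R_n with n > 0; the graded k-dual M^* = ⊕_n Hom_k(M_{−n}, k) of a graded R-module M (with r ∈ R
acting by (r f)(x) = f(r x)) is presented abstractly as a graded R-module D with a k-bilinear
pairing β : D × M → k compatible with the R-actions, under which D_n pairs to zero with M_m for m ≠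
−n and is identified with the full dual space of M_{−n}; f^* is presented as the R-linear map g :
M^* → F^* with β_F(g d, x) = β_M(d, f x). -/
theorem result (k : Type u) [Field k] (R : Type u) [CommRing R] [Algebra k R] (𝒜 : ℤ → Submodule k R) [GradedAlgebra 𝒜] (hposR : ∀ n : ℤ, n < 0 → 𝒜 n = ⊥) (h0R : 𝒜 0 = Submodule.span k {(1 : R)}) [Algebra.FiniteType k R] (mR : HomogeneousIdeal 𝒜) (hmR : mR.toIdeal = Ideal.span (⋃ n ∈ Set.Ioi (0 : ℤ), (𝒜 n : Set R))) (F : Type u) [AddCommGroup F] [Module R F] [Module k F] [IsScalarTower k R F] (ℱ : ℤ → AddSubgroup F) [DirectSum.Decomposition ℱ] [SetLike.GradedSMul 𝒜 ℱ] [Module.Finite R F] (M : Type u) [AddCommGroup M] [Module R M] [Module k M] [IsScalarTower k R M] (ℳ : ℤ → AddSubgroup M) [DirectSum.Decomposition ℳ] [SetLike.GradedSMul 𝒜 ℳ] [Module.Finite R M] (f : F →ₗ[R] M) (hf : Function.Surjective f) (hfgr : GrLC.IsGrHom ℱ ℳ f) (DM : Type u) [AddCommGroup DM] [Module R DM] [Module k DM] [IsScalarTower k R DM] (𝒟M : ℤ → AddSubgroup DM) [DirectSum.Decomposition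 𝒟M] [SetLike.GradedSMul 𝒜 𝒟M] (βM : DM →ₗ[k] M →ₗ[k] k) (hDM : GrSeg.IsGDual R ℳ 𝒟M βM) (DF : Type u) [AddCommGroup DF] [Module R DF] [Module k DF] [IsScalarTower k R DF] (𝒟F : ℤ → AddSubgroup DF) [DirectSum.Decomposition 𝒟F] [SetLike.GradedSMul 𝒜 𝒟F] (βF : DF →ₗ[k] F →ₗ[k] k) (hDF : GrSeg.IsGDual R ℱ 𝒟F βF) (g : DM →ₗ[R] DF) (hg : GrSeg.IsGDualMap βM βF f g) : LinearMap.ker f ≤ mR.toIdeal • (⊤ : Submodule R F) ↔ GrLC.IsStarEss 𝒟M 𝒟F g := by
  have hgr := GrDual21.dualMap_grHom (𝒜 := 𝒜) hDM hDF hfgr hg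
  have hgi : Function.Injective g := fun a b h => GrDual21.ext_left hDM fun x => by
    obtain ⟨y, rfl⟩ := hf x
    rw [← hg, h, hg]
  constructor
  · intro hker
    refine (GrLC21.isStarEss_iff 𝒜).2 ⟨hgi, hgr, fun n d hd h0 => ?_⟩
    have hfg := Algebra.FiniteType.isNoetherianRing k R
    obtain ⟨b, hb⟩ := GrDual21.exists_lower_bound (ℳ := ℱ) hposR
    let A : Set ℤ := {a | ∃ r ∈ 𝒜 a, r • d ≠ 0}
    have hA : ∀ a ∈ A, a ≤ -b - n := fun a ha => by
      obtain ⟨r, hr, hrd⟩ := ha
      by_contra hlt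
      exact hrd (hDF.eq_zero _ _ (GrLC21.smul_mem 𝒜 𝒟F hr hd) fun x hx => by
        rw [hb _ (by omega) x hx, map_zero])
    obtain ⟨a, ⟨r, hr, hrd⟩, hmax⟩ := Int.exists_greatest_of_bdd ⟨_, hA⟩
      ⟨0, 1, SetLike.GradedOne.one_mem, by rwa [one_smul]⟩
    refine ⟨r, ?_, hrd⟩
    have hm : ∀ s ∈ mR.toIdeal, s • (r • d) = 0 := by
      have : mR.toIdeal ≤ (R ∙ (r • d)).annihilator := by
        rw [hmR, Ideal.span_le]
        intro s hs
        simp only [Set.mem_iUnion, Set.mem_Ioi, SetLike.mem_coe, exists_prop] at hs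
        obtain ⟨c, hc, hs⟩ := hs
        refine (Submodule.mem_annihilator_span_singleton _ _).2 (by_contra fun hne => ?_)
        have := hmax (c + a) ⟨s * r, SetLike.mul_mem_graded hs hr, by rwa [mul_smul]⟩
        omega
      exact fun s hs => (Submodule.mem_annihilator_span_singleton _ _).1 (this hs)
    have hk : LinearMap.ker (f.restrictScalars k) ≤ LinearMap.ker (βF (r • d)) := fun x hx => by
      have hle : mR.toIdeal • (⊤ : Submodule R F) ≤
          { carrier := {y | ∀ t : R, βF (r • d) (t • y) = 0}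
            zero_mem' := fun t => by simp
            add_mem' := fun {u v} hu hv t => by simp [smul_add, hu t, hv t]
            smul_mem' := fun c u hu t => by rw [smul_smul]; exact hu (t * c) } :=
        Submodule.smul_le.2 fun s hs y _ t => by
          rw [smul_comm, ← hDF.map_smul, hm s hs, map_zero, LinearMap.zero_apply]
      simpa using hle (hker hx) 1
    obtain ⟨φ, hφ⟩ : ∃ φ : M →ₗ[k] k, ∀ x, φ (f x) = βF (r • d) x :=
      ⟨((LinearMap.ker (f.restrictScalars k)).liftQ _ hk).comp
        ((f.restrictScalars k).quotKerEquivOfSurjective hf).symm.toLinearMap, fun x => by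
          rw [LinearMap.comp_apply, LinearEquiv.coe_coe,
            show f x = (f.restrictScalars k).quotKerEquivOfSurjective hf (Submodule.Quotient.mk x) from rfl,
            LinearEquiv.symm_apply_apply, Submodule.liftQ_apply]⟩
    obtain ⟨d', hd', e⟩ := hDM.exists_eq (a + n) φ
    refine ⟨d', sub_eq_zero.1 (hDF.eq_zero (a + n) _
      (sub_mem (hgr _ d' hd') (GrLC21.smul_mem 𝒜 𝒟F hr hd)) fun x hx => ?_)⟩
    rw [map_sub, LinearMap.sub_apply, hg, e _ (hfgr _ x hx), hφ, sub_self]
  · intro hess x hx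
    by_contra hxm
    have hI : (mR.toIdeal • (⊤ : Submodule R F)).IsHomogeneous ℱ := by
      intro g' z hz
      change GrLC21.proj ℱ g' z ∈ mR.toIdeal • (⊤ : Submodule R F)
      refine Submodule.smul_induction_on hz (fun s hs y _ => ?_) fun u v hu hv => by
        rw [map_add]; exact Submodule.add_mem _ hu hv
      rw [← GrLC21.sum_proj 𝒜 s, Finset.sum_smul, map_sum]
      refine Submodule.sum_mem _ fun h _ => ?_
      rw [GrLC21.proj_smul 𝒜 ℱ (GrLC21.proj_mem 𝒜 h s)]
      exact Submodule.smul_mem_smul (mR.isHomogeneous h hs) trivial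
    obtain ⟨n, hn⟩ : ∃ n, GrLC21.proj ℱ n x ∉ mR.toIdeal • (⊤ : Submodule R F) := by
      by_contra! h
      exact hxm (GrLC21.sum_proj ℱ x ▸ Submodule.sum_mem _ fun g' _ => h g')
    have hxn : f (GrLC21.proj ℱ n x) = 0 := by
      rw [GrLC21.map_proj hfgr, LinearMap.mem_ker.1 hx, map_zero]
    set xn := GrLC21.proj ℱ n x with hxn_def
    have hmem : xn ∈ ℱ n := GrLC21.proj_mem ℱ n x
    obtain ⟨φ, hφ, hφ0⟩ := Submodule.exists_dual_map_eq_bot_of_notMem
      (p := (mR.toIdeal • (⊤ : Submodule R F)).restrictScalars k) (x := xn) hn inferInstance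
    obtain ⟨y, hy, e⟩ := hDF.exists_eq (-n) φ
    have hy0 : y ≠ 0 := fun h => hφ (by
      rw [← e xn (by rw [neg_neg]; exact hmem), h, map_zero, LinearMap.zero_apply])
    have hmy : ∀ s ∈ mR.toIdeal, s • y = 0 := fun s hs => GrDual21.ext_left hDF fun z => by
      rw [hDF.map_smul, map_zero, LinearMap.zero_apply, GrDual21.pair_of_mem hDF hy, e _ (GrLC21.proj_mem ℱ _ _)]
      exact (Submodule.mem_bot k).1 (hφ0 ▸ ⟨_, hI _ (Submodule.smul_mem_smul hs trivial), rfl⟩)
    obtain ⟨r, ⟨d, hd⟩, hry⟩ := ((GrLC21.isStarEss_iff 𝒜).1 hess).2.2 (-n) y hy hy0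
    obtain ⟨c, hc⟩ := GrDual21.exists_eq_algebraMap_add (𝒜 := 𝒜) (fun j : ℤ => ℱ j) hposR h0R r
    have h1 := hmy _ (hmR.symm ▸ hc)
    rw [sub_smul, sub_eq_zero, IsScalarTower.algebraMap_smul] at h1
    have h2 : βF (g d) xn = c • βF y xn := by rw [hd, h1, map_smul, LinearMap.smul_apply]
    rw [hg, hxn, map_zero, e xn (by rw [neg_neg]; exact hmem)] at h2
    exact hry (by rw [h1, show c = 0 from (smul_eq_zero.1 h2.symm).resolve_right hφ, zero_smul])

end Groth.Agent.S19751
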