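import Groth.Statements.S19752
import Groth.Agent.Lib.GrDual21.Duality

set_option autoImplicit false
set_option backward.isDefEq.respectTransparency false
universe u
open GrDual

namespace Groth.Agent.S19752

/-- Let R = ⊕_{n ≥ 0} R_n be a Noetherian graded ring with R_0 = k a field, m = R_+ and k = R/m. Then
the graded k-dual R^* = ⊕_n Hom_k(R_{−n}, k) is the injective envelope of R/m in the category of
graded R-modules: for every injective homomorphism of graded R-modules e : R/m → R^*, the module R^*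
is an injective object of the graded category and every nonzero graded submodule of R^* meets the
image of e. Here a graded ring defined over k is a commutative k-algebra of finite type, graded in
nonnegative degrees by k-subspaces with degree-zero part k·1, and R_+ is the ideal spanned by the
R_n with n > 0 (a Noetherian such ring is the same as one of finite type over k); the graded k-dual
M^* = ⊕_n Hom_k(M_{−n}, k) of a graded R-module M (with r ∈ R acting by (r f)(x) = f(r x)) is
presented abstractly as a graded R-module D with a k-bilinear pairing β : D × M → k compatible with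
the R-actions, under which D_n pairs to zero with M_m for m ≠ −n and is identified with the full
dual space of M_{−n}. -/
theorem result (k : Type u) [Field k] (R : Type u) [CommRing R] [Algebra k R] (𝒜 : ℤ → Submodule k R) [GradedAlgebra 𝒜] (hposR : ∀ n : ℤ, n < 0 → 𝒜 n = ⊥) (h0R : 𝒜 0 = Submodule.span k {(1 : R)}) [Algebra.FiniteType k R] (mR : HomogeneousIdeal 𝒜) (hmR : mR.toIdeal = Ideal.span (⋃ n ∈ Set.Ioi (0 : ℤ), (𝒜 n : Set R))) (D : Type u) [AddCommGroup D] [Module R D] [Module k D] [IsScalarTower k R D] (𝒟 : ℤ → AddSubgroup D) [DirectSum.Decomposition 𝒟] [SetLike.GradedSMul 𝒜 𝒟] (β : D →ₗ[k] R →ₗ[k] k) (hD : GrSeg.IsGDual R 𝒜 𝒟 β) (e : (R ⧸ mR.toIdeal) →ₗ[R] D) (he : Function.Injective e) (hegr : GrLC.IsGrHom (GrLC.quotGr 𝒜 mR) 𝒟 e) : GrLC.IsStarInjHull 𝒜 (GrLC.quotGr 𝒜 mR) 𝒟 e := by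
  let e1 := e (Ideal.Quotient.mk mR.toIdeal 1)
  have he1 : e1 ∈ 𝒟 0 := hegr 0 _ ⟨1, (SetLike.GradedOne.one_mem : (1 : R) ∈ 𝒜 0), rfl⟩
  refine { toIsStarEss := (GrLC21.isStarEss_iff 𝒜).2 ⟨he, hegr, fun n d hd h0 => ?_⟩, starInj := ?_ }
  · obtain ⟨r, hr, hdr⟩ : ∃ r ∈ 𝒜 (-n), β d r ≠ 0 := by
      by_contra! h
      exact h0 (hD.eq_zero n d hd h)
    have hb : β e1 1 ≠ 0 := by
      intro hb
      have hz : e1 = 0 := hD.eq_zero 0 e1 he1 fun x hx => by
        rw [neg_zero, h0R, Submodule.mem_span_singleton] at hx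
        obtain ⟨c, rfl⟩ := hx
        rw [map_smul, hb, smul_zero]
      have h2 := he (hz.trans (map_zero e).symm)
      rw [Ideal.Quotient.eq_zero_iff_mem] at h2
      have h3 := GrLC21.proj_eq_zero_of_mem_pos (GrDual21.hpos' hposR) hmR h2 (le_refl (0 : ℤ))
      rw [GrLC21.proj_of_mem 𝒜 SetLike.GradedOne.one_mem] at h3
      exact hdr (by rw [← mul_one r, h3, mul_zero, map_zero])
    have hrd : r • d ∈ 𝒟 0 := by simpa using GrLC21.smul_mem 𝒜 𝒟 hr hd
    refine ⟨r, ?_, fun h => hdr ?_⟩
    · refine ⟨(β d r / β e1 1) • Ideal.Quotient.mk mR.toIdeal 1, ?_⟩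
      rw [LinearMap.map_smul_of_tower]
      refine (sub_eq_zero.1 (hD.eq_zero 0 _ (sub_mem (GrDual21.smul_k_mem (𝒜 := 𝒜) 𝒟 _ he1) hrd) fun x hx => ?_))
      rw [neg_zero, h0R, Submodule.mem_span_singleton] at hx
      obtain ⟨c, rfl⟩ := hx
      rw [map_sub, LinearMap.sub_apply, map_smul, map_smul, map_smul, LinearMap.smul_apply, hD.map_smul,
        smul_eq_mul r (1 : R), mul_one, smul_eq_mul (β d r / β e1 1), div_mul_cancel₀ _ hb, sub_self]
    · rw [← mul_one r, ← smul_eq_mul, ← hD.map_smul, h, map_zero, LinearMap.zero_apply]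
  · intro A B f hf hfi g hg
    let _ : Module k A.carrier := Module.compHom A.carrier (algebraMap k R)
    let _ : Module k B.carrier := Module.compHom B.carrier (algebraMap k R)
    have : IsScalarTower k R A.carrier := ⟨fun c r x => by
      rw [Algebra.smul_def, mul_smul]; rfl⟩
    have : IsScalarTower k R B.carrier := ⟨fun c r x => by
      rw [Algebra.smul_def, mul_smul]; rfl⟩
    let l : A.carrier →ₗ[k] k := (β.flip 1).comp (g.restrictScalars k)
    obtain ⟨μ, hμ⟩ := LinearMap.exists_extend
      (l.comp (LinearEquiv.ofInjective (f.restrictScalars k) hfi).symm.toLinearMap)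
    have hμ' : ∀ a, μ (f a) = β (g a) 1 := fun a => by
      have h := LinearMap.congr_fun hμ (LinearEquiv.ofInjective (f.restrictScalars k) hfi a)
      rw [LinearMap.comp_apply, LinearMap.comp_apply] at h
      refine h.trans ?_
      rw [LinearEquiv.coe_coe, LinearEquiv.symm_apply_apply]
      rfl
    obtain ⟨h, hh, hβ⟩ := GrDual21.exists_cofree_map (ℬ := B.gr) hD
      (μ.comp (GrDual21.projₗ 𝒜 B.gr 0)) 0 fun d hd b hb => by
        show μ (GrLC21.proj B.gr 0 b) = 0
        rw [GrLC21.proj_of_mem_ne B.gr hb hd, map_zero]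
    refine ⟨h, fun d b hb => by simpa using hh d b hb, LinearMap.ext fun a => ?_⟩
    refine GrDual21.ext_left (GrDual21.isGDual_self hD) fun r => ?_
    rw [LinearMap.comp_apply, hβ]
    show μ (GrLC21.proj B.gr 0 (r • f a)) = β (g a) r
    rw [← map_smul f, ← GrLC21.map_proj hf, hμ']
    have h4 := GrDual21.pair_of_mem_right (GrDual21.isGDual_self hD) (m := 0) (x := (1 : R)) (SetLike.GradedOne.one_mem (A := 𝒜)) (g (r • a))
    rw [neg_zero] at h4
    rw [GrLC21.map_proj hg, ← h4, map_smul, hD.map_smul, smul_eq_mul, mul_one]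

end Groth.Agent.S19752
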