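import Groth.Statements.S19754
import Groth.Agent.Lib.SegLC.SegDim
-- import your own Groth.Agent.* helpers here

set_option autoImplicit false
universe u
open scoped TensorProduct
open GrSegre

namespace Groth.Agent.S19754

/-- Let R and S be graded rings defined over a field k, T = R # S, M a finitely generated graded
Cohen–Macaulay R-module of dimension r ≥ 1 and N a finitely generated graded Cohen–Macaulay S-module
of dimension s ≥ 1. Then either M # N = 0 or dim (M # N) = r + s − 1. The letters r and s stand here
for the dimensions of the modules M and N themselves and are not assumed to equal dim R and dim S;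
the proof by homogeneous parameter systems of M and N establishes this general form. Here a graded
ring defined over k is a commutative k-algebra of finite type, graded in nonnegative degrees by
k-subspaces with degree-zero part k·1; the Segre product T = R # S = ⊕_n R_n ⊗_k S_n is presented
abstractly as a graded k-algebra T with an injective k-algebra homomorphism ψ : T → R ⊗_k S carrying
T_n onto the k-span of the elementary tensors a ⊗ b with a ∈ R_n, b ∈ S_n; the Segre product M # N =
⊕_n M_n ⊗_k N_n of a graded R-module M and a graded S-module N is presented abstractly as a graded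
T-module P with an injective k-linear map φ : P → M ⊗_k N carrying P_n onto the k-span of the
tensors x ⊗ y with x ∈ M_n, y ∈ N_n and turning the action of t ∈ T into that of ψ(t) (acting
factorwise on M ⊗_k N); a module over a ring is called Cohen–Macaulay when each of its localizations
at a prime ideal is zero or a Cohen–Macaulay module over the local ring (dimension of the support
equal to the depth), and the dimension of a module is the Krull dimension of its support. -/
theorem result (k : Type u) [Field k] (R : Type u) [CommRing R] [Algebra k R] (𝒜 : ℤ → Submodule k R) [GradedAlgebra 𝒜] (hposR : ∀ n : ℤ, n < 0 → 𝒜 n = ⊥) (h0R : 𝒜 0 = Submodule.span k {(1 : R)}) [Algebra.FiniteType k R] (S : Type u) [CommRing S] [Algebra k S] (ℬ : ℤ → Submodule k S) [GradedAlgebra ℬ] (hposS : ∀ n : ℤ, n < 0 → ℬ n = ⊥) (h0S : ℬ 0 = Submodule.span k {(1 : S)}) [Algebra.FiniteType k S] (T : Type u) [CommRing T] [Algebra k T] (𝒯 : ℤ → Submodule k T) [GradedAlgebra 𝒯] (ψ : T →ₐ[k] TensorProduct k R S) (hT : GrSeg.IsSegreRing 𝒜 ℬ 𝒯 ψ) (M : Type u) [AddCommGroup M] [Module R M] [Module k M] [IsScalarTower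 k R M] (ℳ : ℤ → AddSubgroup M) [DirectSum.Decomposition ℳ] [SetLike.GradedSMul 𝒜 ℳ] [Module.Finite R M] (N : Type u) [AddCommGroup N] [Module S N] [Module k N] [IsScalarTower k S N] (𝒩 : ℤ → AddSubgroup N) [DirectSum.Decomposition 𝒩] [SetLike.GradedSMul ℬ 𝒩] [Module.Finite S N] (P : Type u) [AddCommGroup P] [Module T P] [Module k P] [IsScalarTower k T P] (𝒬 : ℤ → AddSubgroup P) [DirectSum.Decomposition 𝒬] (φ : P →ₗ[k] TensorProduct k M N) (hP : GrSeg.IsSegreMod ψ ℳ 𝒩 𝒬 φ) (r s : ℕ) (h1r : 1 ≤ r) (h1s : 1 ≤ s) (hdM : Module.supportDim R M = r) (hdN : Module.supportDim S N = s) (hMcm : (∀ (q : Ideal R) [q.IsPrime], Subsingleton (LocalizedModule q.primeCompl M) ∨ LocCoh.IsCohenMacaulayModule (Localization.AtPrime q) (LocalizedModule q.primeCompl M))) (hNcm : (∀ (q : Ideal S) [q.IsPrime], Subsingleton (LocalizedModule q.primeCompl N) ∨ LocCoh.IsCohenMacaulayModule (Localization.AtPrime q) (LocalizedModule q.primeCompl N))) : Module.supportDim T P = ((r + s - 1 : ℕ) : WithBot ℕ∞) ∨ Subsingleton P := by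
  classical
  have : IsNoetherianRing R := Algebra.FiniteType.isNoetherianRing k R
  have : IsNoetherianRing S := Algebra.FiniteType.isNoetherianRing k S
  have : Nontrivial R := by
    by_contra hA
    rw [not_nontrivial_iff_subsingleton] at hA
    have := Module.subsingleton R M
    rw [Module.supportDim_eq_bot_of_subsingleton] at hdM
    simp at hdM
  have : Nontrivial S := by
    by_contra hA
    rw [not_nontrivial_iff_subsingleton] at hA
    have := Module.subsingleton S N
    rw [Module.supportDim_eq_bot_of_subsingleton] at hdN
    simp at hdN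
  rcases subsingleton_or_nontrivial P with h | h
  · exact Or.inr h
  refine Or.inl ?_
  obtain ⟨g, x, hx, hx0, y, hy, hy0⟩ := Groth.Agent.SegLC.exists_pair_of_nontrivial hP
  exact le_antisymm (Groth.Agent.SegLC.supportDim_segre_le hT hposR h0R hposS h0S hP hdM hdN h1r h1s)
    (Groth.Agent.SegLC.le_supportDim_segre hT hposR h0R hposS h0S hP hx hy
      ((Groth.Agent.SegLC.ringKrullDim_annihilator_of_cm hposR h0R hMcm hx hx0).trans hdM)
      ((Groth.Agent.SegLC.ringKrullDim_annihilator_of_cm hposS h0S hNcm hy hy0).trans hdN) h1r h1s)

end Groth.Agent.S19754
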