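import Groth.Statements.S19756
import Groth.Agent.Lib.SegLC.SegCM
-- import your own Groth.Agent.* helpers here

set_option autoImplicit false
universe u
open scoped TensorProduct
open GrSegre

namespace Groth.Agent.S19756

/-- Let R and S be graded rings defined over a field k with m = R_+ and T = R # S, let M be a finitely
generated graded Cohen–Macaulay R-module of dimension 1 and N a finitely generated graded
Cohen–Macaulay S-module of dimension s ≥ 1, and assume M # N ≠ 0. (ii) If s ≥ 2, then M # N is a
Cohen–Macaulay T-module if and only if H^1_m(M) # N = 0, that is, for every degree d, H^1_m(M)_d = 0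
or N_d = 0. (iii) If s = 1, then M # N is a Cohen–Macaulay T-module. The numbers 1 and s are here
the dimensions of the modules M and N themselves and are not assumed to equal dim R and dim S. Here
a graded ring defined over k is a commutative k-algebra of finite type, graded in nonnegative
degrees by k-subspaces with degree-zero part k·1; the Segre product T = R # S = ⊕_n R_n ⊗_k S_n is
presented abstractly as a graded k-algebra T with an injective k-algebra homomorphism ψ : T → R ⊗_k
S carrying T_n onto the k-span of the elementary tensors a ⊗ b with a ∈ R_n, b ∈ S_n; the Segre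
product M # N = ⊕_n M_n ⊗_k N_n of a graded R-module M and a graded S-module N is presented
abstractly as a graded T-module P with an injective k-linear map φ : P → M ⊗_k N carrying P_n onto
the k-span of the tensors x ⊗ y with x ∈ M_n, y ∈ N_n and turning the action of t ∈ T into that of
ψ(t) (acting factorwise on M ⊗_k N); a module over a ring is called Cohen–Macaulay when each of its
localizations at a prime ideal is zero or a Cohen–Macaulay module over the local ring (dimension of
the support equal to the depth), and the dimension of a module is the Krull dimension of its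
support; the graded local cohomology pieces are computed from a *injective resolution of M in the
graded category. -/
theorem result (k : Type u) [Field k] (R : Type u) [CommRing R] [Algebra k R] (𝒜 : ℤ → Submodule k R) [GradedAlgebra 𝒜] (hposR : ∀ n : ℤ, n < 0 → 𝒜 n = ⊥) (h0R : 𝒜 0 = Submodule.span k {(1 : R)}) [Algebra.FiniteType k R] (S : Type u) [CommRing S] [Algebra k S] (ℬ : ℤ → Submodule k S) [GradedAlgebra ℬ] (hposS : ∀ n : ℤ, n < 0 → ℬ n = ⊥) (h0S : ℬ 0 = Submodule.span k {(1 : S)}) [Algebra.FiniteType k S] (T : Type u) [CommRing T] [Algebra k T] (𝒯 : ℤ → Submodule k T) [GradedAlgebra 𝒯] (ψ : T →ₐ[k] TensorProduct k R S) (hT : GrSeg.IsSegreRing 𝒜 ℬ 𝒯 ψ) (mR : HomogeneousIdeal 𝒜) (hmR : mR.toIdeal = Ideal.span (⋃ n ∈ Set.Ioi (0 : ℤ), (𝒜 n : Set R))) (M : Type u) [AddCommGroup M] [Module R M] [Module k M] [IsScalarTower k R M] (ℳ : ℤ → AddSubgroup M) [DirectSum.Decomposition ℳ] [SetLike.GradedSMul 𝒜 ℳ] [Module.Finite R M] (EM : GrLC.StarInjRes 𝒜 ℳ) (N : Type u) [AddCommGroup N] [Module S N] [Module k N] [IsScalarTower k S N] (𝒩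 : ℤ → AddSubgroup N) [DirectSum.Decomposition 𝒩] [SetLike.GradedSMul ℬ 𝒩] [Module.Finite S N] (P : Type u) [AddCommGroup P] [Module T P] [Module k P] [IsScalarTower k T P] (𝒬 : ℤ → AddSubgroup P) [DirectSum.Decomposition 𝒬] (φ : P →ₗ[k] TensorProduct k M N) (hP : GrSeg.IsSegreMod ψ ℳ 𝒩 𝒬 φ) [Nontrivial P] (s : ℕ) (h1s : 1 ≤ s) (hdM : Module.supportDim R M = 1) (hdN : Module.supportDim S N = s) (hMcm : (∀ (q : Ideal R) [q.IsPrime], Subsingleton (LocalizedModule q.primeCompl M) ∨ LocCoh.IsCohenMacaulayModule (Localization.AtPrime q) (LocalizedModule q.primeCompl M))) (hNcm : (∀ (q : Ideal S) [q.IsPrime], Subsingleton (LocalizedModule q.primeCompl N) ∨ LocCoh.IsCohenMacaulayModule (Localization.AtPrime q) (LocalizedModule q.primeCompl N))) : (2 ≤ s → ((∀ (q : Ideal T) [q.IsPrime], Subsingleton (LocalizedModule q.primeCompl P) ∨ LocCoh.IsCohenMacaulayModule (Localization.AtPrime q) (LocalizedModule q.primeCompl P)) ↔ ∀ d : ℤ, EM.Hcomp mR 1 d = ⊥ ∨ 𝒩 d = ⊥)) ∧ (s = 1 → (∀ (q : Ideal T) [q.IsPrime], Subsingleton (LocalizedModule q.primeCompl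 P) ∨ LocCoh.IsCohenMacaulayModule (Localization.AtPrime q) (LocalizedModule q.primeCompl P))) := by
  classical
  have : IsNoetherianRing R := Algebra.FiniteType.isNoetherianRing k R
  have : IsNoetherianRing S := Algebra.FiniteType.isNoetherianRing k S
  let mT : HomogeneousIdeal 𝒯 := Groth.Agent.SegLC.irr 𝒯
  have : Nontrivial R := by
    by_contra hA
    rw [not_nontrivial_iff_subsingleton] at hA
    have := Module.subsingleton R M
    rw [Module.supportDim_eq_bot_of_subsingleton] at hdM
    simp at hdM
  have : Nontrivial S := by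
    by_contra hA
    rw [not_nontrivial_iff_subsingleton] at hA
    have := Module.subsingleton S N
    rw [Module.supportDim_eq_bot_of_subsingleton] at hdN
    simp at hdN
  let mS : HomogeneousIdeal ℬ := Groth.Agent.SegLC.irr ℬ
  have D : Groth.Agent.SegLC.Data 𝒜 ℬ 𝒯 ψ mR mS mT := ⟨hT, hposR, hposS, hmR, rfl, rfl⟩
  obtain ⟨EN⟩ := Groth.Agent.GrLC21.nonempty_res (𝒜 := ℬ) 𝒩
  have key := D.cm_segre_iff h0R h0S EM EN hP (r := 1) le_rfl h1s (by simpa using hdM) hdN hMcm hNcm
  refine ⟨fun h2 => ?_, fun hs1 => key.2 ⟨fun h => absurd h (by omega), fun h => absurd h (by omega)⟩⟩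
  rw [key]
  simp only [AddSubgroup.eq_bot_iff_forall, h2, forall_const, show ¬ (2 : ℕ) ≤ 1 by omega, false_implies, true_and]

end Groth.Agent.S19756
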