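import Groth.Statements.S1976
import Groth.Agent.Lib.WEtaleH7.Field
import Mathlib.RingTheory.Smooth.Fiber
import Mathlib.Algebra.Category.Ring.FilteredColimits
import Mathlib.CategoryTheory.Limits.Preserves.Over
import Mathlib.CategoryTheory.Limits.ConcreteCategory.Basic

set_option autoImplicit false
universe u
open CategoryTheory
open EtAlg

namespace Groth.Agent.S1976

/-- (2) ⇔ (3): a K-algebra B over a field K is weakly etale exactly when it can be written as a filtered
colimit of etale K-algebras, and in that case its finitely generated K-subalgebras are etale. -/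
theorem result (K : Type u) [Field K] (B : Type u) [CommRing B] [Algebra K B] :
    (Algebra.WeaklyEtale K B ↔ EtPBC.IsIndEtale K B) ∧
    (Algebra.WeaklyEtale K B → ∀ S : Subalgebra K B, S.FG → Algebra.Etale K S) := by
  open CategoryTheory CategoryTheory.Limits in
  have het : Algebra.WeaklyEtale K B → ∀ S : Subalgebra K B, S.FG → Algebra.Etale K S := by
    intro h S hS
    haveI : Algebra.WeaklyEtale K S := (WEtaleH7.weaklyEtale_subalgebra_iff S).2 fun x _ =>
      WEtaleH7.exists_separable_of_weaklyEtale x
    haveI : Algebra.FiniteType K S := S.fg_iff_finiteType.1 hS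
    haveI : Algebra.FinitePresentation K S := Algebra.FinitePresentation.of_finiteType.1 inferInstance
    haveI := WEtaleH7.formallyUnramified_of_weaklyEtale (A := K) (B := S)
    exact Algebra.Etale.of_formallyUnramified_of_flat
  refine ⟨⟨fun h => ?_, fun h => ?_⟩, het⟩
  · haveI : IsDirected {S : Subalgebra K B // S.FG} (· ≤ ·) :=
      ⟨fun S T => ⟨⟨S.1 ⊔ T.1, S.2.sup T.2⟩, le_sup_left (a := S.1), le_sup_right (b := T.1)⟩⟩
    haveI : Nonempty {S : Subalgebra K B // S.FG} := ⟨⟨⊥, Subalgebra.fg_bot⟩⟩
    let D : {S : Subalgebra K B // S.FG} ⥤ Under (CommRingCat.of K) :=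
      { obj := fun S => Under.mk (CommRingCat.ofHom (algebraMap K S.1))
        map := fun {S T} f => Under.homMk (CommRingCat.ofHom (Subalgebra.inclusion f.le).toRingHom)
          (by ext; rfl) }
    let c : Cocone D :=
      { pt := Under.mk (CommRingCat.ofHom (algebraMap K B))
        ι := { app := fun S => Under.homMk (CommRingCat.ofHom S.1.val.toRingHom) (by ext; rfl)
               naturality := fun {S T} f => by ext; rfl } }
    have hfg : ∀ t : Finset B, (Algebra.adjoin K (t : Set B)).FG := fun t => ⟨t, rfl⟩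
    let J : B → {S : Subalgebra K B // S.FG} := fun x =>
      ⟨Algebra.adjoin K (({x} : Finset B) : Set B), hfg _⟩
    have hJ : ∀ x, x ∈ (J x).1 := fun x => Algebra.subset_adjoin (by simp)
    let g : ∀ (s : Cocone D) (S : {S : Subalgebra K B // S.FG}), S.1 →+* s.pt.right :=
      fun s S => (s.ι.app S).right.hom
    have hg : ∀ (s : Cocone D) S T, ∀ (x : B) (h1 : x ∈ (S : {S : Subalgebra K B // S.FG}).1)
        (h2 : x ∈ (T : {S : Subalgebra K B // S.FG}).1), g s S ⟨x, h1⟩ = g s T ⟨x, h2⟩ := by
      intro s S T x h1 h2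
      obtain ⟨U, hSU, hTU⟩ := exists_ge_ge S T
      have e1 := congrArg (fun f : D.obj S ⟶ _ => f.right.hom ⟨x, h1⟩) (s.w (homOfLE hSU))
      have e2 := congrArg (fun f : D.obj T ⟶ _ => f.right.hom ⟨x, h2⟩) (s.w (homOfLE hTU))
      exact e1.symm.trans e2
    let d : ∀ s : Cocone D, B →+* s.pt.right := fun s =>
      { toFun := fun x => g s (J x) ⟨x, hJ x⟩
        map_one' := map_one (g s (J 1))
        map_zero' := map_zero (g s (J 0))
        map_mul' := fun x y => by
          let U : {S : Subalgebra K B // S.FG} := ⟨(J x).1 ⊔ (J y).1, (J x).2.sup (J y).2⟩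
          have hx : x ∈ U.1 := le_sup_left (a := (J x).1) (hJ x)
          have hy : y ∈ U.1 := le_sup_right (b := (J y).1) (hJ y)
          rw [hg s _ U _ _ (U.1.mul_mem hx hy), hg s _ U x _ hx, hg s _ U y _ hy, ← map_mul]
          rfl
        map_add' := fun x y => by
          let U : {S : Subalgebra K B // S.FG} := ⟨(J x).1 ⊔ (J y).1, (J x).2.sup (J y).2⟩
          have hx : x ∈ U.1 := le_sup_left (a := (J x).1) (hJ x)
          have hy : y ∈ U.1 := le_sup_right (b := (J y).1) (hJ y)
          rw [hg s _ U _ _ (U.1.add_mem hx hy), hg s _ U x _ hx, hg s _ U y _ hy, ← map_add]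
          rfl }
    refine ⟨{S : Subalgebra K B // S.FG}, inferInstance, inferInstance, D, c,
      { desc := fun s => Under.homMk (CommRingCat.ofHom (d s)) ?_
        fac := ?_
        uniq := ?_ }, fun S => ?_, ⟨Iso.refl _⟩⟩
    · ext r
      exact (ConcreteCategory.congr_hom (Under.w (s.ι.app (J (algebraMap K B r)))) r :)
    · intro s S
      ext x
      exact hg s _ _ _ _ x.2
    · intro s m hm
      ext x
      exact congrArg (fun f : D.obj (J x) ⟶ s.pt => f.right.hom ⟨x, hJ x⟩) (hm (J x))
    · letI : Algebra K S.1 := inferInstance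
      convert! het h S.1 S.2
      exact Algebra.algebra_ext _ _ fun _ => rfl
  · obtain ⟨J, _, _, D, c, hc, hD, ⟨e⟩⟩ := h
    rw [WEtaleH7.weaklyEtale_iff_forall_separable]
    intro x
    obtain ⟨j, y, hy⟩ := Concrete.isColimit_exists_rep (D ⋙ Under.forget _)
      (isColimitOfPreserves (Under.forget _) hc) (e.inv.right.hom x)
    letI := (D.obj j).hom.hom.toAlgebra
    haveI : Algebra.Etale K (D.obj j).right := hD j
    let φ : (D.obj j).right →ₐ[K] B :=
      { (c.ι.app j ≫ e.hom).right.hom with
        commutes' := fun r => (ConcreteCategory.congr_hom (Under.w (c.ι.app j ≫ e.hom)) r :) }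
    obtain ⟨P, hP, hPy⟩ := WEtaleH7.exists_separable_of_weaklyEtale (K := K) (B := (D.obj j).right) y
    refine ⟨P, hP, ?_⟩
    have hφ : φ y = x := by
      show e.hom.right.hom ((c.ι.app j).right.hom y) = x
      rw [show (c.ι.app j).right.hom y = e.inv.right.hom x from hy]
      exact (congrArg (fun f : Under.mk (CommRingCat.ofHom (algebraMap K B)) ⟶ _ => f.right.hom x) e.inv_hom_id :)
    rw [← hφ, Polynomial.aeval_algHom_apply, hPy, map_zero]

end Groth.Agent.S1976
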