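import Groth.Statements.S19760
import Groth.Agent.Lib.GrDual21.Duality

set_option autoImplicit false
set_option backward.isDefEq.respectTransparency false
universe u
open GrDual

namespace Groth.Agent.S19760

/-- Let R = ⊕_{n ≥ 0} R_n be a Noetherian graded ring with R_0 = k a field and R^* = ⊕_n Hom_k(R_{−n},
k) its graded k-dual. A graded R-module M is Artinian exactly when, for some t and some integer
shifts n_1, …, n_t, it embeds as a graded module into the direct sum of the shifted duals R^*(n_1),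
…, R^*(n_t), that is, when there is an injective R-linear map M → (R^*)^t whose i-th component
carries M_g into R^*_{g+n_i} for every g. Here a graded ring defined over k is a commutative
k-algebra of finite type, graded in nonnegative degrees by k-subspaces with degree-zero part k·1,
and R_+ is the ideal spanned by the R_n with n > 0 (a Noetherian such ring is the same as one of
finite type over k); the graded k-dual M^* = ⊕_n Hom_k(M_{−n}, k) of a graded R-module M (with r ∈ R
acting by (r f)(x) = f(r x)) is presented abstractly as a graded R-module D with a k-bilinear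
pairing β : D × M → k compatible with the R-actions, under which D_n pairs to zero with M_m for m ≠
−n and is identified with the full dual space of M_{−n}. -/
theorem result (k : Type u) [Field k] (R : Type u) [CommRing R] [Algebra k R] (𝒜 : ℤ → Submodule k R) [GradedAlgebra 𝒜] (hposR : ∀ n : ℤ, n < 0 → 𝒜 n = ⊥) (h0R : 𝒜 0 = Submodule.span k {(1 : R)}) [Algebra.FiniteType k R] (D : Type u) [AddCommGroup D] [Module R D] [Module k D] [IsScalarTower k R D] (𝒟 : ℤ → AddSubgroup D) [DirectSum.Decomposition 𝒟] [SetLike.GradedSMul 𝒜 𝒟] (β : D →ₗ[k] R →ₗ[k] k) (hD : GrSeg.IsGDual R 𝒜 𝒟 β) (M : Type u) [AddCommGroup M] [Module R M] [Module k M] [IsScalarTower k R M] (ℳ : ℤ → AddSubgroup M) [DirectSum.Decomposition ℳ] [SetLike.GradedSMul 𝒜 ℳ] : IsArtinian R M ↔ ∃ (t : ℕ) (sh : Fin t → ℤ) (f : M →ₗ[R] (Fin t → D)), Function.Injective f ∧ ∀ (i : Fin t) (g : ℤ) (x : M), x ∈ ℳ g → f x i ∈ 𝒟 (g + sh i) := by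
  have := Algebra.FiniteType.isNoetherianRing k R
  constructor
  · intro hA
    let K : (M →ₗ[k] k) × ℤ → Submodule R M := fun q => LinearMap.ker
      (GrDual21.exists_cofree_map (ℬ := ℳ) hD (q.1.comp (GrDual21.projₗ 𝒜 ℳ q.2)) q.2
        (fun d hd b hb => by
          show q.1 (GrLC21.proj ℳ q.2 b) = 0
          rw [GrLC21.proj_of_mem_ne ℳ hb hd, map_zero])).choose
    obtain ⟨_, ⟨S, rfl⟩, hmin⟩ := IsArtinian.set_has_minimal (R := R) (M := M)
      (Set.range fun S : Finset ((M →ₗ[k] k) × ℤ) => S.inf K) ⟨_, ⟨∅, rfl⟩⟩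
    have h0 : S.inf K = ⊥ := by
      by_contra hne
      obtain ⟨x, hx, hx0⟩ := (Submodule.ne_bot_iff _).1 hne
      obtain ⟨g, hg⟩ : ∃ g, GrLC21.proj ℳ g x ≠ 0 := by
        by_contra! h
        exact hx0 (GrLC21.eq_zero_of_proj ℳ h)
      obtain ⟨φ, hφ, -⟩ := Submodule.exists_dual_map_eq_bot_of_notMem (p := (⊥ : Submodule k M))
        (x := GrLC21.proj ℳ g x) ((Submodule.mem_bot k).not.2 hg) inferInstance
      classical
      refine hmin _ ⟨insert (φ, g) S, rfl⟩ (lt_of_le_not_ge (Finset.inf_mono (Finset.subset_insert _ _))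
        fun h => hφ ?_)
      have h1 : x ∈ K (φ, g) := SetLike.le_def.1 (Finset.inf_le (f := K) (Finset.mem_insert_self (φ, g) S)) (h hx)
      obtain ⟨-, h2⟩ := (GrDual21.exists_cofree_map (ℬ := ℳ) hD (φ.comp (GrDual21.projₗ 𝒜 ℳ g)) g
        (fun d hd b hb => by
          show φ (GrLC21.proj ℳ g b) = 0
          rw [GrLC21.proj_of_mem_ne ℳ hb hd, map_zero])).choose_spec
      have h3 := h2 x 1
      rw [LinearMap.mem_ker.1 h1, map_zero, LinearMap.zero_apply, one_smul] at h3
      exact h3.symm
    let e := S.equivFin.symm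
    choose h hh hhμ using fun i : Fin S.card => GrDual21.exists_cofree_map (ℬ := ℳ) hD
      ((e i).1.1.comp (GrDual21.projₗ 𝒜 ℳ (e i).1.2)) (e i).1.2
      (fun d hd b hb => by
        show (e i).1.1 (GrLC21.proj ℳ (e i).1.2 b) = 0
        rw [GrLC21.proj_of_mem_ne ℳ hb hd, map_zero])
    refine ⟨S.card, fun i => -(e i).1.2, LinearMap.pi h, ?_, fun i g x hx => hh i g x hx⟩
    rw [injective_iff_map_eq_zero]
    intro x hx
    rw [← Submodule.mem_bot R, ← h0, Submodule.mem_finsetInf]
    intro q hq
    obtain ⟨i, hi⟩ := e.surjective ⟨q, hq⟩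
    have h3 : h i x = 0 := congrFun hx i
    obtain ⟨-, h2⟩ := (GrDual21.exists_cofree_map (ℬ := ℳ) hD (q.1.comp (GrDual21.projₗ 𝒜 ℳ q.2)) q.2
      (fun d hd b hb => by
        show q.1 (GrLC21.proj ℳ q.2 b) = 0
        rw [GrLC21.proj_of_mem_ne ℳ hb hd, map_zero])).choose_spec
    refine GrDual21.ext_left (GrDual21.isGDual_self hD) fun r => ?_
    rw [h2, map_zero, LinearMap.zero_apply]
    have h4 := hhμ i x r
    rw [h3, map_zero, LinearMap.zero_apply, hi] at h4
    exact h4.symm
  · rintro ⟨t, sh, f, hf, -⟩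
    have := GrDual21.isArtinian_dual hposR h0R (GrDual21.isGDual_self hD)
    exact isArtinian_of_injective f hf

end Groth.Agent.S19760
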