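import Groth.Statements.S19762
import Groth.Agent.Lib.GrDual21.Duality

set_option autoImplicit false
set_option backward.isDefEq.respectTransparency false
universe u
open GrDual

namespace Groth.Agent.S19762

/-- Let R = ⊕_{n ≥ 0} R_n be a Noetherian graded ring with R_0 = k a field. The graded k-dual is an
equivalence between Noetherian graded R-modules and the opposite category of Artinian graded
R-modules; on morphisms: for finitely generated graded R-modules F and M, every homomorphism of
graded R-modules g : M^* → F^* is f^* for a unique homomorphism of graded R-modules f : F → M. Here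
a graded ring defined over k is a commutative k-algebra of finite type, graded in nonnegative
degrees by k-subspaces with degree-zero part k·1, and R_+ is the ideal spanned by the R_n with n > 0
(a Noetherian such ring is the same as one of finite type over k); the graded k-dual M^* = ⊕_n
Hom_k(M_{−n}, k) of a graded R-module M (with r ∈ R acting by (r f)(x) = f(r x)) is presented
abstractly as a graded R-module D with a k-bilinear pairing β : D × M → k compatible with the
R-actions, under which D_n pairs to zero with M_m for m ≠ −n and is identified with the full dual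
space of M_{−n}; f^* = g means β_F(g d, x) = β_M(d, f x) for all d and x. -/
theorem result (k : Type u) [Field k] (R : Type u) [CommRing R] [Algebra k R] (𝒜 : ℤ → Submodule k R) [GradedAlgebra 𝒜] (hposR : ∀ n : ℤ, n < 0 → 𝒜 n = ⊥) (h0R : 𝒜 0 = Submodule.span k {(1 : R)}) [Algebra.FiniteType k R] (F : Type u) [AddCommGroup F] [Module R F] [Module k F] [IsScalarTower k R F] (ℱ : ℤ → AddSubgroup F) [DirectSum.Decomposition ℱ] [SetLike.GradedSMul 𝒜 ℱ] [Module.Finite R F] (M : Type u) [AddCommGroup M] [Module R M] [Module k M] [IsScalarTower k R M] (ℳ : ℤ → AddSubgroup M) [DirectSum.Decomposition ℳ] [SetLike.GradedSMul 𝒜 ℳ] [Module.Finite R M] (DM : Type u) [AddCommGroup DM] [Module R DM] [Module k DM] [IsScalarTower k R DM] (𝒟M : ℤ → AddSubgroup DM) [DirectSum.Decomposition 𝒟M] [SetLike.GradedSMul 𝒜 𝒟M] (βM : DM →ₗ[k] M →ₗ[k] k) (hDM : GrSeg.IsGDual R ℳ 𝒟M βM) (DF : Type u) [AddCommGroup DF] [Module R DF] [Module k DF] [IsScalarTower k R DF] (𝒟F : ℤ → AddSubgroup DF) [DirectSum.Decomposition 𝒟F] [SetLike.GradedSMul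 𝒜 𝒟F] (βF : DF →ₗ[k] F →ₗ[k] k) (hDF : GrSeg.IsGDual R ℱ 𝒟F βF) (g : DM →ₗ[R] DF) (hg : GrLC.IsGrHom 𝒟M 𝒟F g) : ∃! f : F →ₗ[R] M, GrLC.IsGrHom ℱ ℳ f ∧ GrSeg.IsGDualMap βM βF f g := by
  have := Algebra.FiniteType.isNoetherianRing k R
  have hex : ∀ x : F, ∃ y : M, ∀ d, βM d y = βF (g d) x := by
    intro x
    refine GrLC21.spans_induction (GrLC21.spans_of_decomposition ℱ) x ⟨0, by simp⟩ ?_ fun n a ha => ?_
    · rintro a b ⟨y, hy⟩ ⟨z, hz⟩
      exact ⟨y + z, fun d => by rw [map_add, map_add, hy, hz]⟩
    · have := GrDual21.finite_piece_of_finite (𝒜 := 𝒜) ℳ h0R n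
      obtain ⟨y, -, hy⟩ := GrDual21.exists_rep hDM (𝒜 := 𝒜) (n := n) ((βF.flip a).comp (g.restrictScalars k))
        fun m e d hd => hDF.vanish m _ (hg m d hd) n (fun h => e (by omega)) a ha
      exact ⟨y, hy⟩
  choose f hf using hex
  let f' : F →ₗ[R] M :=
    { toFun := f
      map_add' := fun x y => GrDual21.ext_right hDM (𝒜 := 𝒜) fun d => by rw [map_add, hf, hf, hf, map_add]
      map_smul' := fun r x => GrDual21.ext_right hDM (𝒜 := 𝒜) fun d => by
        rw [RingHom.id_apply, hf, ← hDM.map_smul, hf, map_smul g, hDF.map_smul] }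
  have hgr : GrLC.IsGrHom ℱ ℳ f' := fun n x hx => by
    rw [show f' x = GrLC21.proj ℳ n (f x) from GrDual21.ext_right hDM (𝒜 := 𝒜) fun d => ?_]
    · exact GrLC21.proj_mem ℳ n _
    refine GrLC21.spans_induction (GrLC21.spans_of_decomposition 𝒟M) d (by simp)
      (fun a b ha hb => by simp [ha, hb]) fun m a ha => ?_
    rcases eq_or_ne n (-m) with rfl | e
    · exact GrDual21.pair_of_mem hDM ha _
    · rw [hDM.vanish m a ha n e _ (GrLC21.proj_mem ℳ n _)]
      exact (hf x a).trans (hDF.vanish m _ (hg m a ha) n e x hx)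
  refine ⟨f', ⟨hgr, fun d x => (hf x d).symm⟩, fun f₂ h₂ => LinearMap.ext fun x => ?_⟩
  exact GrDual21.ext_right hDM (𝒜 := 𝒜) fun d => (h₂.2 d x).symm.trans (hf x d).symm

end Groth.Agent.S19762
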