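import Groth.Statements.S19765
import Groth.Agent.Lib.SegLC.Formula
-- import your own Groth.Agent.* helpers here

set_option autoImplicit false
universe u
open scoped TensorProduct
open GrSegre

namespace Groth.Agent.S19765

/-- Let R and S be graded rings defined over a field k with m = R_+, n = S_+, T = R # S with irrelevant
ideal T_+, and let M be a finitely generated graded R-module and N a finitely generated graded
S-module such that H^q_m(M) and H^q_n(N) vanish for q = 0, 1. Then for every q ≥ 0, H^q_{T_+}(M # N)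
≅ (M # H^q_n(N)) ⊕ (H^q_m(M) # N) ⊕ ⊕_{i+j=q+1} (H^i_m(M) # H^j_n(N)); stated here degree by degree
as the equality of finite dimensions dim H^q_{T_+}(M # N)_d = dim M_d · dim H^q_n(N)_d + dim
H^q_m(M)_d · dim N_d + Σ_{i+j=q+1} dim H^i_m(M)_d · dim H^j_n(N)_d (the published statement is for
arbitrary graded M, N and gives the isomorphism itself; finite generation makes every dimension
finite). Here a graded ring defined over k is a non-zero commutative k-algebra of finite type,
graded in nonnegative degrees by k-subspaces with degree-zero part k·1 (a copy of the field k); the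
Segre product T = R # S = ⊕_n R_n ⊗_k S_n is presented abstractly as a graded k-algebra T with an
injective k-algebra homomorphism ψ : T → R ⊗_k S carrying T_n onto the k-span of the elementary
tensors a ⊗ b with a ∈ R_n, b ∈ S_n; the Segre product M # N = ⊕_n M_n ⊗_k N_n of a graded R-module
M and a graded S-module N is presented abstractly as a graded T-module P with an injective k-linear
map φ : P → M ⊗_k N carrying P_n onto the k-span of the tensors x ⊗ y with x ∈ M_n, y ∈ N_n and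
turning the action of t ∈ T into that of ψ(t) (acting factorwise on M ⊗_k N); the graded local
cohomology pieces are computed from *injective resolutions in the graded categories of R, S and T
and their dimensions are taken over the respective degree-zero fields (all equal to k). -/
theorem result (k : Type u) [Field k] (R : Type u) [CommRing R] [Nontrivial R] [Algebra k R] (𝒜 : ℤ → Submodule k R) [GradedAlgebra 𝒜] (hposR : ∀ n : ℤ, n < 0 → 𝒜 n = ⊥) (h0R : 𝒜 0 = Submodule.span k {(1 : R)}) [Algebra.FiniteType k R] (S : Type u) [CommRing S] [Nontrivial S] [Algebra k S] (ℬ : ℤ → Submodule k S) [GradedAlgebra ℬ] (hposS : ∀ n : ℤ, n < 0 → ℬ n = ⊥) (h0S : ℬ 0 = Submodule.span k {(1 : S)}) [Algebra.FiniteType k S] (T : Type u) [CommRing T] [Algebra k T] (𝒯 : ℤ → Submodule k T) [GradedAlgebra 𝒯] (ψ : T →ₐ[k] TensorProduct k R S) (hT : GrSeg.IsSegreRing 𝒜 ℬ 𝒯 ψ) (mR : HomogeneousIdeal 𝒜) (hmR : mR.toIdeal = Ideal.span (⋃ n ∈ Set.Ioi (0 : ℤ), (𝒜 n : Set R))) (mS : HomogeneousIdeal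 ℬ) (hmS : mS.toIdeal = Ideal.span (⋃ n ∈ Set.Ioi (0 : ℤ), (ℬ n : Set S))) (mT : HomogeneousIdeal 𝒯) (hmT : mT.toIdeal = Ideal.span (⋃ n ∈ Set.Ioi (0 : ℤ), (𝒯 n : Set T))) (M : Type u) [AddCommGroup M] [Module R M] [Module k M] [IsScalarTower k R M] (ℳ : ℤ → AddSubgroup M) [DirectSum.Decomposition ℳ] [SetLike.GradedSMul 𝒜 ℳ] [Module.Finite R M] (EM : GrLC.StarInjRes 𝒜 ℳ) (N : Type u) [AddCommGroup N] [Module S N] [Module k N] [IsScalarTower k S N] (𝒩 : ℤ → AddSubgroup N) [DirectSum.Decomposition 𝒩] [SetLike.GradedSMul ℬ 𝒩] [Module.Finite S N] (EN : GrLC.StarInjRes ℬ 𝒩) (P : Type u) [AddCommGroup P] [Module T P] [Module k P] [IsScalarTower k T P] (𝒬 : ℤ → AddSubgroup P) [DirectSum.Decomposition 𝒬] [SetLike.GradedSMul 𝒯 𝒬] (φ : P →ₗ[k] TensorProduct k M N) (hP : GrSeg.IsSegreMod ψ ℳ 𝒩 𝒬 φ) (EP : GrLC.StarInjRes 𝒯 𝒬) (hM : ∀ (q : ℕ) (d : ℤ), q ≤ 1 → EM.Hcomp mR q d = ⊥) (hN : ∀ (q : ℕ) (d : ℤ), q ≤ 1 → EN.Hcomp mS q d = ⊥) (q : ℕ) (d : ℤ) : Module.finrank (GrLC.deg0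 𝒯) (EP.Hcomp mT q d) = Module.finrank (GrLC.deg0 𝒜) (GrLC.comp 𝒜 ℳ d) * Module.finrank (GrLC.deg0 ℬ) (EN.Hcomp mS q d) + Module.finrank (GrLC.deg0 𝒜) (EM.Hcomp mR q d) * Module.finrank (GrLC.deg0 ℬ) (GrLC.comp ℬ 𝒩 d) + (Finset.range (q + 2)).sum (fun i => Module.finrank (GrLC.deg0 𝒜) (EM.Hcomp mR i d) * Module.finrank (GrLC.deg0 ℬ) (EN.Hcomp mS (q + 1 - i) d)) := by
  have : IsNoetherianRing R := Algebra.FiniteType.isNoetherianRing k R
  have : IsNoetherianRing S := Algebra.FiniteType.isNoetherianRing k S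
  have : IsNoetherianRing T := Groth.Agent.GrSegLib.isNoetherianRing_segre 𝒜 ℬ 𝒯 hT.1 hT.2
  have D : Groth.Agent.SegLC.Data 𝒜 ℬ 𝒯 ψ mR mS mT := ⟨hT, hposR, hposS, hmR, hmS, hmT⟩
  exact D.finrank_formula h0R h0S EM EN EP (fun g => hM 0 g zero_le_one) (fun g => hN 0 g zero_le_one) hP q d

end Groth.Agent.S19765
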