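import Groth.Statements.S19766
import Groth.Agent.Lib.CubeField.MumfordTriv

set_option autoImplicit false
universe u
open CategoryTheory MonoidalCategory CartesianMonoidalCategory MonObj GrpObj AlgebraicGeometry
open AbVar

namespace Groth.Agent.S19766

/-- Let X be an abelian variety over a field k (a proper, geometrically integral k-group scheme), L an
invertible O_X-module, and i : K → X a closed immersion exhibiting K as K(L): the maximal closed
subscheme of X over which the Mumford bundle m^*L ⊗ p_1^*L⁻¹ ⊗ p_2^*L⁻¹ on X ×_k X, restricted to X
×_k K, is the inverse image of an invertible module on K, with its universal property for morphisms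
T → X. Let T be a k-scheme and x : T → X a T-valued point, t_x : X_T → X_T the translation by x and
L_T the inverse image of L on X_T = X ×_k T. Then x factors through i if and only if t_x^*L_T ⊗
L_T⁻¹ is the inverse image of a line bundle on T, stated without inverses: there is an invertible
O_T-module M with L_T ⊗ pr_T^*M ≅ t_x^*L_T. -/
theorem result (k : Type u) [Field k] (X : Over (Spec (CommRingCat.of k)))
    [GrpObj X] [IsProper X.hom] [GeometricallyIntegral X.hom] (L : X.left.Modules) (hL : PicF.IsInvertible L)
    (K : Over (Spec (CommRingCat.of k))) (i : K ⟶ X) (hK : ThetaGrp.IsKL X L i)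
    (T : Over (Spec (CommRingCat.of k))) (x : T ⟶ X) :
    (∃ y : T ⟶ K, y ≫ i = x) ↔ ∃ M : T.left.Modules, PicF.IsInvertible M ∧
      Nonempty (CohB1.tensorMod ((Scheme.Modules.pullback (fst X T).left).obj L)
          ((Scheme.Modules.pullback (snd X T).left).obj M) ≅
        (Scheme.Modules.pullback (ThetaGrp.transl X x ≫ fst X T).left).obj L) := by
  exact Groth.Agent.CubeField.factors_iff hL hK x

end Groth.Agent.S19766
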