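import Groth.Statements.S1977
import Groth.Agent.Lib.WEtaleH7.Field

set_option autoImplicit false
universe u
open EtAlg

namespace Groth.Agent.S1977

/-- Let K be a field and A a K-algebra. The supremum of the weakly etale K-subalgebras of A is itself
weakly etale over K; it is therefore the largest weakly etale K-subalgebra of A. -/
theorem result (K : Type u) [Field K] (A : Type u) [CommRing A] [Algebra K A] :
    Algebra.WeaklyEtale K ↥(EtAlgD.maxWeaklyEtale K A) := by
  open scoped TensorProduct Polynomial in
  rw [WEtaleH7.weaklyEtale_subalgebra_iff]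
  intro x hx
  refine WEtaleH7.exists_separable_of_mem_adjoin (K := K)
    (s := {y : A | ∃ P : K[X], P.Separable ∧ Polynomial.aeval y P = 0}) (fun y hy => hy) ?_
  have hle : EtAlgD.maxWeaklyEtale K A ≤
      Algebra.adjoin K {y : A | ∃ P : K[X], P.Separable ∧ Polynomial.aeval y P = 0} :=
    sSup_le fun S hS y hy =>
      Algebra.subset_adjoin ((WEtaleH7.weaklyEtale_subalgebra_iff S).1 hS y hy)
  exact hle hx

end Groth.Agent.S1977
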