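import Groth.Statements.S19771
import Groth.Agent.Lib.KLFin22.Main

set_option autoImplicit false
universe u
open CategoryTheory MonoidalCategory CartesianMonoidalCategory MonObj GrpObj AlgebraicGeometry
open AbSch

namespace Groth.Agent.S19771

/-- Let S be a scheme, A an abelian scheme over S (an S-group scheme whose structure morphism is proper
and smooth with geometrically connected fibres), L an O_A-module that is ample relative to A → S
(the structure morphism is quasi-compact and L restricted to the preimage of every affine open of S
is ample; in particular L is invertible), and i : K → A a closed immersion of S-schemes exhibiting K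
as K(L): the maximal closed subscheme over which the Mumford bundle m^*L ⊗ p_1^*L⁻¹ ⊗ p_2^*L⁻¹ on A
×_S A, restricted to A ×_S K, is the inverse image of an invertible module on K, with its universal
property for S-morphisms T → A. Then K is finite over S. -/
theorem result {S : Scheme.{u}} (A : Over S)
    [GrpObj A] [IsProper A.hom] [Smooth A.hom] [GeometricallyConnected A.hom] (L : A.left.Modules)
    (hL : RelAmple.IsRelAmple A.hom L)
    (K : Over S) (i : K ⟶ A) (hK : ThetaGrp.IsKL A L i) :
    IsFinite K.hom := by
  exact Groth.Agent.KLFin22.isFinite_KL L hL K i hK

end Groth.Agent.S19771
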