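import Groth.Statements.S19774
import Groth.Agent.Lib.RRKL13.Descent
import Groth.Agent.Lib.FMBase13.Functors
import Groth.Agent.Lib.FMBase13.Classes
import Groth.Agent.Lib.Poinc13.Push

set_option autoImplicit false
set_option backward.isDefEq.respectTransparency false
set_option backward.isDefEq.respectTransparency.types false
set_option linter.style.haveILetI false
set_option maxHeartbeats 3200000
universe u
open CategoryTheory CategoryTheory.Limits MonoidalCategory CartesianMonoidalCategory MonObj GrpObj AlgebraicGeometry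
attribute [local instance] HasDerivedCategory.standard
open AbVar

namespace Groth.Agent.S19774

attribute [local instance] DBC9.hasRpush

noncomputable local instance (Y : Scheme.{u}) : PicGrp.Law Y := M2.law Y

/-- Let k be an algebraically closed field, A an abelian variety over k (a proper smooth k-group scheme
with geometrically connected fibres) of dimension g, with group law m : A × A → A, projections p_1,
p_2 and inversion [-1]; let L be an invertible O_A-module with an inverse L' (L ⊗ L' ≅ O_A), and i :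
K → A a closed immersion exhibiting K as K(L) (the maximal closed subscheme over which the Mumford
bundle m^*L ⊗ p_1^*L⁻¹ ⊗ p_2^*L⁻¹, restricted to A ×_k K, is the inverse image of an invertible
module on K, with its universal property). Assume L non-degenerate: K is finite over k. Then the
convolution L ∗ [-1]^*L⁻¹ = Rm_*(p_1^*L ⊗ p_2^*[-1]^*L') is isomorphic, in D(O_A), to
Ri_*(L|_K)[-g], the direct image of the restriction of L to K placed in degree g (existence of an
isomorphism; the derived direct images along m and i are assumed to exist). (The published lemma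
allows any line bundle L; for L the structure sheaf and g ≥ 1 the left side is O_A ⊗ RΓ(A, O_A),
with non-zero cohomology in degree 0, while the right side is O_A[-g], so the two are not
isomorphic; the printed argument identifies an inverse image of the skyscraper at the origin of the
dual with the structure sheaf of the kernel of φ_L, which is correct when φ_L is flat, that is for L
non-degenerate — the case stated here and the one used afterwards.) -/
theorem result (k : Type u) [Field k] [IsAlgClosed k]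
    (A : Over (Spec (CommRingCat.of k))) [GrpObj A] [IsProper A.hom] [Smooth A.hom] [GeometricallyConnected A.hom]
    (g : ℕ) (hg : topologicalKrullDim ↥A.left = g)
    (L : A.left.Modules) (hL : PicF.IsInvertible L) (L' : A.left.Modules)
    (hL' : Nonempty (CohB1.tensorMod L L' ≅ Coh.structureModule A.left))
    (K : Over (Spec (CommRingCat.of k))) (i : K ⟶ A) (hK : ThetaGrp.IsKL A L i) [IsFinite K.hom]
    [DCoh.HasRpush μ[A].left] [DCoh.HasRpush i.left] :
    Nonempty ((DCoh.Rpush μ[A].left).obj
        (DCoh.inD (A ⊗ A).left (CohB1.tensorMod ((Scheme.Modules.pullback (fst A A).left).obj L)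
          ((Scheme.Modules.pullback (snd A A ≫ (𝟙 A)⁻¹).left).obj L'))) ≅
      (shiftFunctor (DCoh.D A.left) (-(g : ℤ))).obj
        ((DCoh.Rpush i.left).obj (DCoh.inD K.left ((Scheme.Modules.pullback i.left).obj L)))) := by
  haveI : GeometricallyIntegral A.hom := AbRigid.geometricallyIntegral_of_smooth A
  haveI : IsCommMonObj A := isCommMonObj_of_isProper_of_geometricallyIntegral A
  obtain ⟨eLL⟩ := hL'
  have hL'i : PicF.IsInvertible L' := M2.isInvertible_of_tensor_iso hL (M2.tensorComm L' L ≪≫ eLL)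
  obtain ⟨gK, Q, gQ, q, P, hP, hi, hq, hQp, hQg, hqfin, hqflat, hqsurj, hker, hD, hpc⟩ :=
    RRKL13.exists_pLike hL hK
  haveI := hi; haveI := hq; haveI := hQp; haveI := hQg; haveI := hqfin; haveI := hqflat; haveI := hqsurj
  haveI : Smooth Q.hom := @smooth_of_grpObj k _ _ Q.hom _ (show GrpObj (Over.mk Q.hom) from ‹GrpObj Q›) _
  haveI := CubeField.geometricallyConnected_of_irreducible Q.hom
  haveI : IsClosedImmersion i.left := hK.closed
  haveI : IsClosedImmersion η[Q].left :=
    isClosedImmersion_of_comp_eq_id Q.hom η[Q].left (Over.w η[Q])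
  haveI : IsProper (snd A A).left := inferInstanceAs (IsProper (pullback.snd A.hom A.hom))
  haveI : Flat (snd A A).left := inferInstanceAs (Flat (pullback.snd A.hom A.hom))
  haveI : IsProper (snd A Q).left := inferInstanceAs (IsProper (pullback.snd A.hom Q.hom))
  haveI : Flat (snd A Q).left := inferInstanceAs (Flat (pullback.snd A.hom Q.hom))
  -- the shear
  let ψ : A ⊗ A ⟶ A ⊗ A := lift (snd A A * fst A A) (fst A A)⁻¹
  let χ : A ⊗ A ⟶ A ⊗ A := lift (snd A A)⁻¹ (fst A A * snd A A)
  have hψχ : ψ ≫ χ = 𝟙 _ := by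
    apply CartesianMonoidalCategory.hom_ext <;> simp [ψ, χ, MonObj.comp_mul, GrpObj.comp_inv]
  have hχψ : χ ≫ ψ = 𝟙 _ := by
    apply CartesianMonoidalCategory.hom_ext <;> simp [ψ, χ, MonObj.comp_mul, GrpObj.comp_inv]
  have hμ : μ[A] = fst A A * snd A A := by rw [Hom.mul_def, lift_fst_snd, Category.id_comp]
  have hχμ : χ ≫ snd A A = μ[A] := by rw [hμ]; simp [χ]
  let eχ : DMon9.lP χ.left ⋙ DMon9.lP ψ.left ≅ 𝟭 _ :=
    DMon9.lPComp ψ.left χ.left (by rw [← Over.comp_left, hψχ, Over.id_left]) ≪≫ DBC9.lPId _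
  let eψ : DMon9.lP ψ.left ⋙ DMon9.lP χ.left ≅ 𝟭 _ :=
    DMon9.lPComp χ.left ψ.left (by rw [← Over.comp_left, hχψ, Over.id_left]) ≪≫ DBC9.lPId _
  let rχ : DCoh.Rpush χ.left ≅ DMon9.lP ψ.left := (DMon9.adjLP χ.left).rightAdjointUniq
    (CategoryTheory.Equivalence.mk (DMon9.lP χ.left) (DMon9.lP ψ.left) eχ.symm eψ).toAdjunction
  let rμ : DCoh.Rpush μ[A].left ≅ DMon9.lP ψ.left ⋙ DCoh.Rpush (snd A A).left :=
    (FMBase13.rpushComp χ.left (snd A A).left (by rw [← Over.comp_left, hχμ])).symm ≪≫
      Functor.isoWhiskerRight rχ _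
  -- the module after the shear
  let M := CohB1.tensorMod ((Scheme.Modules.pullback (fst A A).left).obj L)
    ((Scheme.Modules.pullback (snd A A ≫ (𝟙 A)⁻¹).left).obj L')
  have hM : PicF.IsInvertible M :=
    M2.isInvertible_tensor (PicLoc.isInvertible_pullback _ hL) (PicLoc.isInvertible_pullback _ hL'i)
  let Λ := (Scheme.Modules.pullback (A ◁ q).left).obj P
  have hΛ : PicF.IsInvertible Λ := PicLoc.isInvertible_pullback _ hP
  let N := (Scheme.Modules.pullback (snd A A).left).obj L
  have hN : PicF.IsInvertible N := PicLoc.isInvertible_pullback _ hL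
  obtain ⟨eM⟩ : Nonempty ((Scheme.Modules.pullback ψ.left).obj M ≅ CohB1.tensorMod Λ N) := by
    refine FMBase13.nonempty_iso_of_cls (hL := PicLoc.isInvertible_pullback _ hM)
      (hM := M2.isInvertible_tensor hΛ hN) ?_
    have hc' : PicGrp.cls L' hL'i = (PicGrp.cls L hL)⁻¹ := by
      apply eq_inv_of_mul_eq_one_right
      rw [AlgEquiv22.cls_tensor]
      exact (PicGrp.cls_eq_one_iff _).2 ⟨eLL⟩
    have e1 : PicGrp.cls ((Scheme.Modules.pullback ψ.left).obj M) (PicLoc.isInvertible_pullback _ hM) =
        AlgEquiv22.pb ψ (AlgEquiv22.pb (fst A A) (PicGrp.cls L hL) *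
          AlgEquiv22.pb (snd A A ≫ (𝟙 A)⁻¹) (PicGrp.cls L' hL'i)) := by
      simp only [AlgEquiv22.pb, PicGrp.pullHom_cls]
      rw [AlgEquiv22.cls_tensor, PicGrp.pullHom_cls]
    have e2 : PicGrp.cls (CohB1.tensorMod Λ N) (M2.isInvertible_tensor hΛ hN) =
        RR22.mumC (PicGrp.cls L hL) * AlgEquiv22.pb (snd A A) (PicGrp.cls L hL) := by
      rw [← AlgEquiv22.cls_tensor hΛ hN, ← hpc]
      simp only [AlgEquiv22.pb, PicGrp.pullHom_cls]
      rfl
    rw [e1, e2, hc']
    simp only [RR22.mumC, map_mul, map_inv, AlgEquiv22.pb_pb]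
    rw [show ψ ≫ fst A A = snd A A * fst A A by simp [ψ],
      show ψ ≫ snd A A ≫ (𝟙 A)⁻¹ = fst A A by simp [ψ, GrpObj.comp_inv], _root_.mul_comm (snd A A) (fst A A),
      ← hμ]
    simp [_root_.mul_assoc]
  -- the square of the quotient
  obtain ⟨bc⟩ := TwistBC9.nonempty_bc_inD (FMBase13.isPullback_whisker A q) P (Twist.isQCoh_of_isInvertible hP)
    (FMBase13.isFlatOver_of_isInvertible _ hP)
  obtain ⟨o⟩ := Poinc13.nonempty_rpush_origin hP hD hg
  have hsq : IsPullback (toUnit K).left i.left η[Q].left q.left := (IsPullback.map (Over.forget _) hker).flip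
  obtain ⟨fb⟩ := FMBase13.nonempty_flatBC hsq
  obtain ⟨e0⟩ := FMBase13.nonempty_lP_modM (toUnit K).left
    (PicLoc.isInvertible_structureModule (Spec (CommRingCat.of k)))
  obtain ⟨hsh, -⟩ := DPush.exists_commShift_isTriangulated q.left
  letI := hsh
  letI := (DMon9.adjLP q.left).leftAdjointCommShift ℤ
  let oK : (DCoh.Rpush (snd A A).left).obj ((DerivedCategory.singleFunctor _ 0).obj Λ) ≅
      (shiftFunctor (DCoh.D A.left) (-(g : ℤ))).obj ((DCoh.Rpush i.left).obj
        ((DerivedCategory.singleFunctor K.left.Modules 0).obj (Coh.structureModule K.left))) :=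
    bc.symm ≪≫ (DMon9.lP q.left).mapIso o ≪≫ ((DMon9.lP q.left).commShiftIso (-(g : ℤ))).app _ ≪≫
      (shiftFunctor (DCoh.D A.left) (-(g : ℤ))).mapIso
        (fb.app ⟨(DerivedCategory.singleFunctor (Spec (CommRingCat.of k)).Modules 0).obj
            (Coh.structureModule (Spec (CommRingCat.of k))), TwistBC9.isQCohD_inD _ (M1.isQCoh_structureModule _) 0⟩ ≪≫
          (DCoh.Rpush i.left).mapIso (e0 ≪≫
            (DerivedCategory.singleFunctor K.left.Modules 0).mapIso (PicLoc.pullbackStructureIso _)))
  -- the twists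
  obtain ⟨lM⟩ := FMBase13.nonempty_lP_modM ψ.left hM
  obtain ⟨tM⟩ := FMBase13.nonempty_modM_tensor Λ N hN
  obtain ⟨pS⟩ := FMBase13.nonempty_pushTwist (snd A A).left hL
  obtain ⟨pI⟩ := FMBase13.nonempty_pushTwist i.left hL
  haveI := PnKoszul9.preservesFiniteLimits_tensorRightMod L hL
  obtain ⟨tw⟩ := FMBase13.nonempty_tenF_twD L hL
  have hiL : PicF.IsInvertible ((Scheme.Modules.pullback i.left).obj L) := PicLoc.isInvertible_pullback _ hL
  obtain ⟨tK⟩ := FMBase13.nonempty_modM_tensor (Coh.structureModule K.left)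
    ((Scheme.Modules.pullback i.left).obj L) hiL
  let r := (DerivedCategory.singleFunctor K.left.Modules 0).mapIso
    (M2.tensorLUnit ((Scheme.Modules.pullback i.left).obj L))
  refine ⟨rμ.app _ ≪≫ (DCoh.Rpush (snd A A).left).mapIso (lM ≪≫
      (DerivedCategory.singleFunctor (A ⊗ A).left.Modules 0).mapIso eM ≪≫ tM.symm) ≪≫
    (pS.app ((DerivedCategory.singleFunctor (A ⊗ A).left.Modules 0).obj Λ)).symm ≪≫
    (TwistBC9.tenF L).mapIso oK ≪≫ tw.app _ ≪≫ ((PnKoszul9.twD L).commShiftIso (-(g : ℤ))).app _ ≪≫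
    (shiftFunctor (DCoh.D A.left) (-(g : ℤ))).mapIso ((tw.app _).symm ≪≫
      pI.app ((DerivedCategory.singleFunctor K.left.Modules 0).obj (Coh.structureModule K.left)) ≪≫
      (DCoh.Rpush i.left).mapIso (tK ≪≫ r))⟩

end Groth.Agent.S19774
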