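import Groth.Statements.S19778
-- Template for statement S19778 (row 19777; see the milestone table for weights).
-- Copy to Groth/Agent/S19778.lean and replace the sorry. The statement below is byte-identical to the frozen
-- statement CAlg.GrothFrozen.S19778 (Groth/Statements/S19778.lean; the theorem CAlg.exists_finiteProjective_baseChange_adicCompletion_away_of_henselian);
-- the grader kernel-checks Groth.Agent.S19778.result against that frozen type. Keep the theorem IN THIS FILE
-- (a `result` declared elsewhere and merely imported here is not credited); helpers may live anywhere
-- under Groth/Agent/.
import Mathlib
import Groth.Agent.Lib.DenseProj.Instances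
import Groth.Agent.S15749

set_option autoImplicit false
universe u
open TensorProduct
open CAlg

namespace Groth.Agent.S19778
open Polynomial TensorProduct
open CAlg

open Groth.Agent.DenseProj

/-- For general linear groups, in the case A[1/t] → Â[1/t], let A be a commutative ring and t ∈ A with
(A, tA) a Henselian pair and the t-power torsion of A bounded, let Â be the t-adic completion and
give Â[1/t] the A[1/t]-algebra structure of the canonical map. Then every finitely generated
projective Â[1/t]-module is the base change of a finitely generated projective A[1/t]-module. (The
published statement is the bijection H¹(A[1/t], G) ≅ H¹(Â[1/t], G) for every quasi-affine smooth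
group G; this row is the case of the general linear groups, stated as essential surjectivity of base
change on finitely generated projective modules of arbitrary rank.) -/
theorem result (A : Type u) [CommRing A]
    (t : A) [HenselianRing A (Ideal.span {t})]
    (hbd : ∃ N : ℕ, ∀ a : A, (∃ m : ℕ, t ^ m * a = 0) → t ^ N * a = 0)
    [Algebra (Localization.Away t) (Localization.Away (algebraMap A (AdicCompletion (Ideal.span {t}) A) t))]
    (halg : algebraMap (Localization.Away t) (Localization.Away (algebraMap A (AdicCompletion (Ideal.span {t}) A) t)) = Localization.awayMap (algebraMap A (AdicCompletion (Ideal.span {t}) A)) t)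
    (M' : Type u) [AddCommGroup M'] [Module (Localization.Away (algebraMap A (AdicCompletion (Ideal.span {t}) A) t)) M']
    [Module.Finite (Localization.Away (algebraMap A (AdicCompletion (Ideal.span {t}) A) t)) M'] [Module.Projective (Localization.Away (algebraMap A (AdicCompletion (Ideal.span {t}) A) t)) M'] :
    ∃ (M : Type u) (_ : AddCommGroup M) (_ : Module (Localization.Away t) M),
      Module.Finite (Localization.Away t) M ∧ Module.Projective (Localization.Away t) M ∧
      Nonempty ((Localization.Away (algebraMap A (AdicCompletion (Ideal.span {t}) A) t)) ⊗[Localization.Away t] M ≃ₗ[Localization.Away (algebraMap A (AdicCompletion (Ideal.span {t}) A) t)] M') := by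
  have hH : HenselianRing A (Ideal.span {t}) := inferInstance
  have ht : t ∈ (⊥ : Ideal A).jacobson := hH.jac (Ideal.mem_span_singleton_self t)
  exact (cpl_adicCompletion ht).exists_projective_descend (fun a => by
    rw [halg]; exact IsLocalization.map_eq _ a) M'

end Groth.Agent.S19778
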