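import Groth.Prelude.Def_EtAlgD
import Mathlib.RingTheory.TensorProduct.Basic
import Mathlib.RingTheory.Adjoin.Basic
import Groth.Agent.Lib.MaxWE3.Basic
-- import your own Groth.Agent.* helpers here

namespace EtAlg
end EtAlg

set_option autoImplicit false
universe u
open TensorProduct
open EtAlg

namespace Groth.Agent.S1978

/-- Let L/K be a field extension and A a K-algebra. Then the largest weakly etale L-subalgebra of L ⊗_K
A is the L-subalgebra generated by the image of the largest weakly etale K-subalgebra of A. -/
theorem result (K L : Type u) [Field K] [Field L] [Algebra K L] (A : Type u) [CommRing A] [Algebra K A] :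
    EtAlgD.maxWeaklyEtale L (L ⊗[K] A) =
      Algebra.adjoin L ((Algebra.TensorProduct.includeRight : A →ₐ[K] L ⊗[K] A) '' (EtAlgD.maxWeaklyEtale K A : Set A)) := by
  exact Groth.Agent.MaxWE3.maxWeaklyEtale_baseChange

end Groth.Agent.S1978
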