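import Groth.Statements.S19783
import Groth.Agent.Lib.GITHM15.Semistable
-- import your own Groth.Agent.* helpers here

set_option autoImplicit false
universe u
open CategoryTheory MonoidalCategory CartesianMonoidalCategory MonObj AlgebraicGeometry Opposite
open GIT

namespace Groth.Agent.S19783

/-- Let k be an algebraically closed field of characteristic zero, G a connected reductive algebraic
group over k acting by σ on a scheme X proper over k, and L an ample G-linearised line bundle on X,
taken in total-space form (a line bundle V(L) → X with a linear atlas and a fibrewise-linear lifting
of σ, whose weight-one functions are the sections of L; ample meaning that X is covered by affine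
opens X_f with f a section of some positive power of L). For a k-point x of X and a one-parameter
subgroup λ : 𝔾_m → G, say that μ^L(x, λ) takes the value m when the limit y of λ(u)·x as u → 0
exists and 𝔾_m, acting through λ, acts on the fibre of L over the fixed point y with exponent m
(equivalently on the fibre of V(L) with exponent −m; with this sign μ^{O(1)}(x, λ) = max{−r_i : x_i
≠ 0} on projective space when λ acts by x_i ↦ u^{r_i} x_i). Then x is semi-stable for L if and only
if μ^L(x, λ) ≥ 0 for every one-parameter subgroup λ of G, in the sense that every value m taken by
μ^L(x, λ) is non-negative. (The published statement is for any reductive G over an algebraically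
closed field of any characteristic; this row is the characteristic-zero case with G connected, the
case the main text proves.) -/
theorem result (k : Type u) [Field k] [IsAlgClosed k] [CharZero k]
    (G X : Over (Spec (CommRingCat.of k))) [GrpObj G] (hG : Red.IsReductive G) [IsProper X.hom]
    (a : AlgGrp.Action G X) (B : GLinSh.LinBun G a) (hB : HMNum.AmpleCover B)
    (x : 𝟙_ (Over (Spec (CommRingCat.of k))) ⟶ X) (p : (𝟙_ (Over (Spec (CommRingCat.of k)))).left) :
    B.IsSemistablePt (x.left.base p) ↔
      ∀ (l : Red.Gm (Spec (CommRingCat.of k)) ⟶ G) [IsMonHom l] (m : ℤ), HMNum.IsMu B l x m → 0 ≤ m := by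
  obtain ⟨A, _, _, ei, hiso, hmon, hft, hLR⟩ := Groth.Agent.GITHM15.exists_model_LR hG
  haveI : IsAffine G.left := (Groth.Agent.TorPts21.props_of_isReductive hG).1
  haveI := hiso
  haveI := hmon
  haveI := hft
  constructor
  · exact fun hx l _ m hm => Groth.Agent.GITHM15.nonneg_of_semistable B hB x p hx l m hm
  · intro h
    by_contra hx
    obtain ⟨l, hl, m, hm, hneg⟩ := Groth.Agent.GITHM15.exists_neg_of_not_semistable B ei hB hLR x p hx
    haveI := hl
    exact absurd (h l m hm) (not_le.2 hneg)


end Groth.Agent.S19783
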