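import Groth.Statements.S19788
import Groth.Agent.Lib.WtMu19.Family

set_option autoImplicit false
universe u
open CategoryTheory MonoidalCategory CartesianMonoidalCategory MonObj AlgebraicGeometry Opposite
open GIT

namespace Groth.Agent.S19788

/-- Let k be an algebraically closed field, G a connected reductive algebraic group over k, i : T → G a
maximal torus of G, X a scheme proper over k on which G acts by σ, and L an ample G-linearised line
bundle on X in total-space form (a line bundle V(L) → X with a linear atlas and a fibrewise-linear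
lifting of σ; ample meaning that X is covered by affine opens X_f with f a section of a positive
power of L). Then there are finitely many maps ℓ_1, …, ℓ_n from the one-parameter subgroups of T to
ℚ, additive for the pointwise product of one-parameter subgroups (so: linear functionals on Hom(𝔾_m,
T) ⊗ ℝ that are rational on Hom(𝔾_m, T) ⊗ ℚ), with the following property: for every k-point x of X
there is a subset I of the indices (non-empty, since μ^L(x, ·) takes a value at every one-parameter
subgroup when X is proper) such that, for every one-parameter subgroup λ of T, μ^L(x, i∘λ) =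
max{ℓ_j(λ) : j ∈ I} — the numerical function of x at the one-parameter subgroup i∘λ of G (the limit
of λ(u)·x as u → 0 exists and 𝔾_m acts on the fibre of L over it with exponent m) takes the value m
exactly when m is the largest of the numbers ℓ_j(λ), j ∈ I. (The published statement is for any
reductive G; this row takes G connected.) -/
theorem result (k : Type u) [Field k] [IsAlgClosed k]
    (G X T : Over (Spec (CommRingCat.of k))) [GrpObj G] [GrpObj T] (hG : Red.IsReductive G)
    (i : T ⟶ G) [IsMonHom i] (hi : Red.IsMaximalTorus i) [IsProper X.hom]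
    (a : AlgGrp.Action G X) (B : GLinSh.LinBun G a) (hB : HMNum.AmpleCover B) :
    ∃ (n : ℕ) (ℓ : Fin n → (Red.Gm (Spec (CommRingCat.of k)) ⟶ T) → ℚ),
      (∀ (j : Fin n) (l₁ l₂ : Red.Gm (Spec (CommRingCat.of k)) ⟶ T) [IsMonHom l₁] [IsMonHom l₂],
          ℓ j (l₁ * l₂) = ℓ j l₁ + ℓ j l₂) ∧
      ∀ (x : 𝟙_ (Over (Spec (CommRingCat.of k))) ⟶ X), ∃ I : Finset (Fin n),
        ∀ (l : Red.Gm (Spec (CommRingCat.of k)) ⟶ T) [IsMonHom l] (m : ℤ),
          HMNum.IsMu B (l ≫ i) x m ↔ ∃ j ∈ I, (m : ℚ) = ℓ j l ∧ ∀ j' ∈ I, ℓ j' l ≤ ℓ j l := by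
  classical
  haveI := hG.1
  haveI : IsAffine G.left := isAffine_of_isAffineHom G.hom
  haveI : Infinite k := IsAlgClosed.instInfinite
  obtain ⟨r, f, n, hn, hne, hgood, hcov⟩ := WtMu19.exists_family B hi.2.2.1 i hB
  refine ⟨r, fun j l => -(WtMu19.expo B (l ≫ i) (f j) : ℚ) / (n j : ℚ), fun j l₁ l₂ _ _ => ?_, fun x => ?_⟩
  · have h1 := WtMu19.eig_expo B ((hgood j).2 l₁)
    have h2 := WtMu19.eig_expo B ((hgood j).2 l₂)
    have e : (l₁ * l₂) ≫ i = (l₁ ≫ i) * (l₂ ≫ i) := MonObj.mul_comp _ _ _
    have h12 := WtMu19.Eig.mul B h1 h2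
    have h3 := WtMu19.Eig.unique B (hne j) (WtMu19.eig_expo B ⟨_, h12⟩) h12
    dsimp only
    rw [e, h3]
    push_cast
    ring
  · refine ⟨Finset.univ.filter fun j => WtMu19.Supp B x (f j), fun l _ m => ?_⟩
    obtain ⟨w, hw, huniq, hle, j₀, hj₀, he₀⟩ := WtMu19.mu_spec B (l ≫ i) x f n
      (fun j => WtMu19.expo B (l ≫ i) (f j)) hn (fun j => (hgood j).1)
      (fun j => WtMu19.eig_expo B ((hgood j).2 l)) hcov
    have hnq : ∀ j, (0 : ℚ) < (n j : ℚ) := fun j => by exact_mod_cast (hn j : 0 < n j)
    have hval : ((-w : ℤ) : ℚ) = -(WtMu19.expo B (l ≫ i) (f j₀) : ℚ) / (n j₀ : ℚ) := by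
      rw [← he₀]; push_cast; have := (hnq j₀).ne'; field_simp
    have hmax : ∀ j, WtMu19.Supp B x (f j) →
        -(WtMu19.expo B (l ≫ i) (f j) : ℚ) / (n j : ℚ) ≤ ((-w : ℤ) : ℚ) := by
      intro j hj
      rw [div_le_iff₀ (hnq j)]
      have h := (Int.cast_le (R := ℚ)).2 (hle j hj)
      push_cast at h ⊢
      linarith
    simp only [Finset.mem_filter, Finset.mem_univ, true_and]
    constructor
    · intro h
      obtain rfl := huniq m h
      exact ⟨j₀, hj₀, hval, fun j' hj' => (hmax j' hj').trans_eq hval⟩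
    · rintro ⟨j, hj, hm, hjmax⟩
      suffices m = -w by rwa [this]
      have h1 : (m : ℚ) ≤ ((-w : ℤ) : ℚ) := hm ▸ hmax j hj
      have h2 : ((-w : ℤ) : ℚ) ≤ (m : ℚ) := hm ▸ hval ▸ hjmax j₀ hj₀
      exact_mod_cast le_antisymm h1 h2

end Groth.Agent.S19788
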