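import Groth.Statements.S19789
import Groth.Agent.Lib.WtMu19.Family

set_option autoImplicit false
universe u
open CategoryTheory MonoidalCategory CartesianMonoidalCategory MonObj AlgebraicGeometry Opposite
open GIT

namespace Groth.Agent.S19789

/-- Let k be an algebraically closed field, G a connected reductive algebraic group over k, i : T → G a
maximal torus of G, X a scheme proper over k on which G acts, L an ample G-linearised line bundle on
X in total-space form, x a k-point of X, and λ₁, λ₂ one-parameter subgroups of T with pointwise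
product λ₁λ₂ (a one-parameter subgroup of T, which is commutative). Then μ^L(x, i∘(λ₁λ₂)) ≤ μ^L(x,
i∘λ₁) + μ^L(x, i∘λ₂): whenever the numerical function (the limit of the orbit as u → 0 exists and
𝔾_m acts on the fibre of L over it with the stated exponent) takes the values m₁ at i∘λ₁, m₂ at i∘λ₂
and m at i∘(λ₁λ₂), one has m ≤ m₁ + m₂. (The published statement is for any reductive G; this row
takes G connected.) -/
theorem result (k : Type u) [Field k] [IsAlgClosed k]
    (G X T : Over (Spec (CommRingCat.of k))) [GrpObj G] [GrpObj T] (hG : Red.IsReductive G)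
    (i : T ⟶ G) [IsMonHom i] (hi : Red.IsMaximalTorus i) [IsProper X.hom]
    (a : AlgGrp.Action G X) (B : GLinSh.LinBun G a) (hB : HMNum.AmpleCover B)
    (x : 𝟙_ (Over (Spec (CommRingCat.of k))) ⟶ X)
    (l₁ l₂ : Red.Gm (Spec (CommRingCat.of k)) ⟶ T) [IsMonHom l₁] [IsMonHom l₂] [IsMonHom ((l₁ * l₂) ≫ i)]
    (m₁ m₂ m : ℤ) (h₁ : HMNum.IsMu B (l₁ ≫ i) x m₁) (h₂ : HMNum.IsMu B (l₂ ≫ i) x m₂)
    (h : HMNum.IsMu B ((l₁ * l₂) ≫ i) x m) : m ≤ m₁ + m₂ := by
  classical
  haveI := hG.1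
  haveI : IsAffine G.left := isAffine_of_isAffineHom G.hom
  haveI : Infinite k := IsAlgClosed.instInfinite
  obtain ⟨r, f, n, hn, hne, hgood, hcov⟩ := WtMu19.exists_family B hi.2.2.1 i hB
  have he₁ := fun j => WtMu19.eig_expo B ((hgood j).2 l₁)
  have he₂ := fun j => WtMu19.eig_expo B ((hgood j).2 l₂)
  obtain ⟨w₁, -, u₁, le₁, -⟩ := WtMu19.mu_spec B (l₁ ≫ i) x f n _ hn (fun j => (hgood j).1) he₁ hcov
  obtain ⟨w₂, -, u₂, le₂, -⟩ := WtMu19.mu_spec B (l₂ ≫ i) x f n _ hn (fun j => (hgood j).1) he₂ hcov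
  have hmul : (l₁ * l₂) ≫ i = (l₁ ≫ i) * (l₂ ≫ i) := MonObj.mul_comp _ _ _
  obtain ⟨w, -, u₀, -, j, hj, hje⟩ := WtMu19.mu_spec B ((l₁ * l₂) ≫ i) x f n
    (fun j => WtMu19.expo B (l₁ ≫ i) (f j) + WtMu19.expo B (l₂ ≫ i) (f j)) hn (fun j => (hgood j).1)
    (fun j => by rw [hmul]; exact WtMu19.Eig.mul B (he₁ j) (he₂ j)) hcov
  have e₁ := le₁ j hj
  have e₂ := le₂ j hj
  rw [u₀ m h, u₁ m₁ h₁, u₂ m₂ h₂]
  have hpos : (0 : ℤ) < (n j : ℤ) := by exact_mod_cast hn j
  have h3 : (n j : ℤ) * (w₁ + w₂) ≤ (n j : ℤ) * w := by rw [mul_add, hje]; omega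
  have := le_of_mul_le_mul_left h3 hpos
  omega

end Groth.Agent.S19789
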