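import Groth.Statements.S19790
import Groth.Agent.Lib.HMBound15.Conj
import Groth.Agent.Lib.HMBound15.Bilin
import Groth.Agent.S19788
import Groth.Agent.S19786
-- import your own Groth.Agent.* helpers here

set_option autoImplicit false
universe u
open CategoryTheory MonoidalCategory CartesianMonoidalCategory MonObj AlgebraicGeometry Opposite
open GIT

namespace Groth.Agent.S19790

/-- Let k be an algebraically closed field, G a connected reductive algebraic group over k, i : T → G a
maximal torus, X a scheme proper over k on which G acts by σ, and L an ample G-linearised line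
bundle on X in total-space form. Fix a norm on one-parameter subgroups as for the flag complex: a
symmetric biadditive form b on the one-parameter subgroups of T (a group under pointwise product)
with rational values, positive on every non-trivial one-parameter subgroup, and a real function ‖·‖
on the one-parameter subgroups of G such that for every one-parameter subgroup λ of T and every
k-point γ of G the conjugate u ↦ γ·i(λ(u))·γ⁻¹ has ‖γ·(i∘λ)·γ⁻¹‖ ≥ 0 and ‖γ·(i∘λ)·γ⁻¹‖² = b(λ, λ)
(every one-parameter subgroup of G is conjugate under G(k) to one of T, so this determines ‖·‖ on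
all of them; consistency forces b to be invariant under the Weyl group, and such forms exist). Then
there is a constant K such that |μ^L(x, λ)| ≤ K·‖λ‖ for every k-point x of X and every one-parameter
subgroup λ of G: whenever the numerical function of x at λ (the limit of λ(u)·x as u → 0 exists and
𝔾_m acts on the fibre of L over it with exponent m) takes the value m, |m| ≤ K·‖λ‖. In other words
the normalised function ν^L(x, λ) = μ^L(x, λ)/‖λ‖ is bounded in absolute value, uniformly in x and
λ. (The published statement is for any reductive G; this row takes G connected.) -/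
theorem result (k : Type u) [Field k] [IsAlgClosed k]
    (G X T : Over (Spec (CommRingCat.of k))) [GrpObj G] [GrpObj T] (hG : Red.IsReductive G)
    (i : T ⟶ G) [IsMonHom i] (hi : Red.IsMaximalTorus i) [IsProper X.hom]
    (a : AlgGrp.Action G X) (B : GLinSh.LinBun G a) (hB : HMNum.AmpleCover B)
    (b : (Red.Gm (Spec (CommRingCat.of k)) ⟶ T) → (Red.Gm (Spec (CommRingCat.of k)) ⟶ T) → ℚ)
    (hb_add : ∀ (l₁ l₂ l₃ : Red.Gm (Spec (CommRingCat.of k)) ⟶ T) [IsMonHom l₁] [IsMonHom l₂] [IsMonHom l₃],
      b (l₁ * l₂) l₃ = b l₁ l₃ + b l₂ l₃)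
    (hb_symm : ∀ (l₁ l₂ : Red.Gm (Spec (CommRingCat.of k)) ⟶ T) [IsMonHom l₁] [IsMonHom l₂], b l₁ l₂ = b l₂ l₁)
    (hb_pos : ∀ (l : Red.Gm (Spec (CommRingCat.of k)) ⟶ T) [IsMonHom l], l ≠ 1 → 0 < b l l)
    (nrm : (Red.Gm (Spec (CommRingCat.of k)) ⟶ G) → ℝ)
    (hnrm : ∀ (l : Red.Gm (Spec (CommRingCat.of k)) ⟶ T) [IsMonHom l] (g : 𝟙_ (Over (Spec (CommRingCat.of k))) ⟶ G),
      0 ≤ nrm ((toUnit _ ≫ g) * (l ≫ i) * (toUnit _ ≫ g)⁻¹) ∧
        nrm ((toUnit _ ≫ g) * (l ≫ i) * (toUnit _ ≫ g)⁻¹) ^ 2 = ((b l l : ℚ) : ℝ)) :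
    ∃ K : ℝ, ∀ (x : 𝟙_ (Over (Spec (CommRingCat.of k))) ⟶ X) (l : Red.Gm (Spec (CommRingCat.of k)) ⟶ G) [IsMonHom l] (m : ℤ),
      HMNum.IsMu B l x m → |(m : ℝ)| ≤ K * nrm l := by
  classical
  obtain ⟨n, ell, hadd, hmu⟩ := Groth.Agent.S19788.result k G X T hG i hi a B hB
  obtain ⟨r, ⟨C⟩⟩ := Groth.Agent.TorPts21.exists_chars hi.2.2.1
  obtain ⟨E, hE, hEinj⟩ := Groth.Agent.HMBound15.exists_exponents C
  have hcomm : ∀ {Z : Over (Spec (CommRingCat.of k))} (x y : Z ⟶ T), x * y = y * x :=
    fun x y => (Groth.Agent.TorPts21.commute_of_chars C x y).eq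
  let H : Subgroup (Red.Gm (Spec (CommRingCat.of k)) ⟶ T) :=
    { carrier := {l | IsMonHom l}
      mul_mem' := fun {l m} hl hm => by
        haveI : IsMonHom l := hl
        haveI : IsMonHom m := hm
        exact Groth.Agent.TorsorSch25.isMonHom_of_points (l * m) fun Z x y => by
          simp only [MonObj.comp_mul, MonObj.mul_comp]
          rw [_root_.mul_assoc, ← _root_.mul_assoc (y ≫ l), hcomm (y ≫ l) (x ≫ m), _root_.mul_assoc,
            ← _root_.mul_assoc]
      one_mem' := Groth.Agent.TorsorSch25.isMonHom_of_points (1 : Red.Gm (Spec (CommRingCat.of k)) ⟶ T) fun Z x y => by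
        simp only [MonObj.comp_one, _root_.mul_one]
      inv_mem' := fun {l} hl => by
        haveI : IsMonHom l := hl
        exact Groth.Agent.TorsorSch25.isMonHom_of_points l⁻¹ fun Z x y => by
          simp only [GrpObj.comp_inv, MonObj.mul_comp, mul_inv_rev]
          exact hcomm _ _ }
  letI : CommGroup H := { (inferInstance : Group H) with mul_comm := fun x y => Subtype.ext (hcomm x.1 y.1) }
  let A := Additive H
  let val : A → (Red.Gm (Spec (CommRingCat.of k)) ⟶ T) := fun w => (Additive.toMul w).1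
  have hval : ∀ w, IsMonHom (val w) := fun w => (Additive.toMul w).2
  have hvadd : ∀ w w', val (w + w') = val w * val w' := fun w w' => rfl
  let EA : A →+ (Fin r → ℤ) := AddMonoidHom.mk' (fun w => E (val w)) fun w w' => by
    rw [hvadd]
    exact hE _ _ (hval w) (hval w') (hvadd w w' ▸ hval (w + w'))
  haveI : Module.Finite ℤ A := Module.Finite.of_injective EA.toIntLinearMap fun w w' h =>
    Additive.toMul.injective (Subtype.ext (hEinj _ _ (hval w) (hval w') h))
  let β : A →+ A →+ ℚ := AddMonoidHom.mk' (fun w => AddMonoidHom.mk' (fun w' => b (val w) (val w')) fun u v => by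
      haveI := hval w; haveI := hval u; haveI := hval v; haveI := hval (u + v)
      rw [hb_symm (val w) (val (u + v)), hvadd, hb_add (val u) (val v) (val w), hb_symm (val w) (val u),
        hb_symm (val w) (val v)]) fun u v => AddMonoidHom.ext fun w => by
      haveI := hval w; haveI := hval u; haveI := hval v
      show b (val (u + v)) (val w) = b (val u) (val w) + b (val v) (val w)
      rw [hvadd, hb_add (val u) (val v) (val w)]
  have hs : ∀ u v, β u v = β v u := fun u v => by
    haveI := hval u; haveI := hval v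
    exact hb_symm _ _
  have hp : ∀ u, u ≠ 0 → 0 < β u u := fun u hu => by
    haveI := hval u
    exact hb_pos _ fun h => hu (Additive.toMul.injective (Subtype.ext h))
  let φ : Fin n → A →+ ℚ := fun j => AddMonoidHom.mk' (fun w => ell j (val w)) fun u v => by
    haveI := hval u; haveI := hval v
    rw [hvadd]
    exact hadd j _ _
  choose K hK0 hK using fun j => Groth.Agent.HMBound15.exists_bound β hs hp (φ j)
  refine ⟨∑ j, K j, fun x l _ m hm => ?_⟩
  obtain ⟨g, l₀, hl₀, hl⟩ := Groth.Agent.HMBound15.exists_conj_cochar hG i hi l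
  haveI := hl₀
  obtain ⟨hGa, hGs, -⟩ := Groth.Agent.TorPts21.props_of_isReductive hG
  haveI := hGa
  haveI := hGs
  haveI : QuasiCompact G.hom := inferInstance
  have hm' : HMNum.IsMu B (l₀ ≫ i) (lift g⁻¹ x ≫ a.act) m :=
    (Groth.Agent.S19786.result k G X a B x (l₀ ≫ i) g⁻¹ l
      (by rw [hl, GrpObj.comp_inv, inv_inv]) m).2 hm
  obtain ⟨I, hI⟩ := hmu (lift g⁻¹ x ≫ a.act)
  obtain ⟨j, -, hj, -⟩ := (hI l₀ m).1 hm'
  obtain ⟨hn0, hn2⟩ := hnrm l₀ g
  rw [← hl] at hn0 hn2
  have hk := hK j (Additive.ofMul ⟨l₀, hl₀⟩)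
  change |((ell j l₀ : ℚ) : ℝ)| ≤ K j * Real.sqrt ((b l₀ l₀ : ℚ) : ℝ) at hk
  rw [← hj, Rat.cast_intCast, ← hn2, Real.sqrt_sq hn0] at hk
  exact hk.trans (mul_le_mul_of_nonneg_right
    (Finset.single_le_sum (fun j _ => hK0 j) (Finset.mem_univ j)) hn0)


end Groth.Agent.S19790
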