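import Groth.Statements.S19791
import Groth.Agent.Lib.HMNum19.Translate

set_option autoImplicit false
universe u
open CategoryTheory MonoidalCategory CartesianMonoidalCategory MonObj AlgebraicGeometry Opposite
open GIT

namespace Groth.Agent.S19791

/-- Let k be an algebraically closed field, G a connected reductive algebraic group over k acting by σ
on a scheme X proper over k, L an ample G-linearised line bundle on X in total-space form, and ‖·‖ a
real-valued function on the one-parameter subgroups of G invariant under conjugation by k-points of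
G (‖γ·λ·γ⁻¹‖ = ‖λ‖; nothing else is assumed of ‖·‖). For a k-point x of X consider the set of real
numbers μ^L(x, λ)/‖λ‖, where λ runs over the non-trivial one-parameter subgroups of G and μ^L(x, λ)
= m means that the limit of λ(u)·x as u → 0 exists and 𝔾_m acts on the fibre of L over it with
exponent m; its infimum is the number M^L(x). Then for every k-point g of G the sets attached to g·x
and to x coincide, so that M^L(g·x) = M^L(x). (The published statement is for any reductive G, not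
necessarily connected, acting on a projective variety; this row takes G connected and X any scheme
proper over k.) -/
theorem result (k : Type u) [Field k] [IsAlgClosed k]
    (G X : Over (Spec (CommRingCat.of k))) [GrpObj G] (hG : Red.IsReductive G) [IsProper X.hom]
    (a : AlgGrp.Action G X) (B : GLinSh.LinBun G a) (hB : HMNum.AmpleCover B)
    (nrm : (Red.Gm (Spec (CommRingCat.of k)) ⟶ G) → ℝ)
    (hnrm : ∀ (l : Red.Gm (Spec (CommRingCat.of k)) ⟶ G) [IsMonHom l] (g : 𝟙_ (Over (Spec (CommRingCat.of k))) ⟶ G),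
      nrm ((toUnit _ ≫ g) * l * (toUnit _ ≫ g)⁻¹) = nrm l)
    (x : 𝟙_ (Over (Spec (CommRingCat.of k))) ⟶ X) (g : 𝟙_ (Over (Spec (CommRingCat.of k))) ⟶ G) (q : ℝ) :
    (∃ (l : Red.Gm (Spec (CommRingCat.of k)) ⟶ G) (_ : IsMonHom l) (m : ℤ),
        l ≠ 1 ∧ HMNum.IsMu B l (lift g x ≫ a.act) m ∧ q = (m : ℝ) / nrm l) ↔
      ∃ (l : Red.Gm (Spec (CommRingCat.of k)) ⟶ G) (_ : IsMonHom l) (m : ℤ),
        l ≠ 1 ∧ HMNum.IsMu B l x m ∧ q = (m : ℝ) / nrm l := by
  haveI : Subsingleton ↥(𝟙_ (Over (Spec (CommRingCat.of k)))).left := inferInstanceAs (Subsingleton (PrimeSpectrum k))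
  haveI : Nonempty ↥(𝟙_ (Over (Spec (CommRingCat.of k)))).left := inferInstanceAs (Nonempty (PrimeSpectrum k))
  have e0 : lift g x ≫ a.act = x ≫ HMNum19.tr a g := by
    rw [HMNum19.comp_tr, Subsingleton.elim (toUnit (𝟙_ (Over (Spec (CommRingCat.of k))))) (𝟙 _), Category.id_comp]
  have conj : ∀ (γ : 𝟙_ (Over (Spec (CommRingCat.of k))) ⟶ G)
      (l : Red.Gm (Spec (CommRingCat.of k)) ⟶ G) [IsMonHom l],
      IsMonHom ((toUnit _ ≫ γ) * l * (toUnit _ ≫ γ)⁻¹) := by
    intro γ l _
    have hf : ∀ {T : Over (Spec (CommRingCat.of k))} (u : T ⟶ Red.Gm (Spec (CommRingCat.of k))),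
        u ≫ ((toUnit _ ≫ γ) * l * (toUnit _ ≫ γ)⁻¹) = (toUnit T ≫ γ) * (u ≫ l) * (toUnit T ≫ γ)⁻¹ := by
      intro T u
      rw [MonObj.comp_mul, MonObj.comp_mul, GrpObj.comp_inv, ← Category.assoc, comp_toUnit]
    refine ⟨?_, ?_⟩
    · rw [hf, IsMonHom.one_hom (f := l), one_eq_one, _root_.mul_one, mul_inv_cancel]
    · have e : μ[Red.Gm (Spec (CommRingCat.of k))] = fst _ _ * snd _ _ := by
        rw [Hom.mul_def, lift_fst_snd, Category.id_comp]
      rw [← lift_fst_comp_snd_comp, ← Hom.mul_def, e, hf, hf, hf, MonObj.mul_comp]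
      group
  have step : ∀ (γ : 𝟙_ (Over (Spec (CommRingCat.of k))) ⟶ G) (y : 𝟙_ (Over (Spec (CommRingCat.of k))) ⟶ X),
      (∃ (l : Red.Gm (Spec (CommRingCat.of k)) ⟶ G) (_ : IsMonHom l) (m : ℤ),
        l ≠ 1 ∧ HMNum.IsMu B l y m ∧ q = (m : ℝ) / nrm l) →
      ∃ (l : Red.Gm (Spec (CommRingCat.of k)) ⟶ G) (_ : IsMonHom l) (m : ℤ),
        l ≠ 1 ∧ HMNum.IsMu B l (y ≫ HMNum19.tr a γ) m ∧ q = (m : ℝ) / nrm l := by
    rintro γ y ⟨l, _, m, hl1, hmu, hq⟩
    haveI := conj γ l
    refine ⟨(toUnit _ ≫ γ) * l * (toUnit _ ≫ γ)⁻¹, conj γ l, m, fun h => hl1 ?_, HMNum19.isMu B γ l _ rfl hmu, ?_⟩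
    · rwa [mul_inv_eq_one, mul_eq_left] at h
    · rw [hnrm l γ, hq]
  rw [e0]
  exact ⟨fun h => by simpa only [HMNum19.tr_tr] using step g⁻¹ _ h, fun h => step g x h⟩

end Groth.Agent.S19791
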