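import Groth.Statements.S19792
import Groth.Agent.Lib.MTRigid29.LocSplitTori

set_option autoImplicit false
open CategoryTheory MonoidalCategory CartesianMonoidalCategory MonObj GrpObj AlgebraicGeometry
universe u
open SGA3x

namespace Groth.Agent.S19792

/-- Let S be an arbitrary scheme and G an S-group of finite multiplicative type. The locally split
subtori of G (subgroup monomorphisms T ⟶ G with T Zariski-locally on S isomorphic to split tori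
D(ℤ^r)) form a directed family: any two of them, E₁ ⟶ G and E₂ ⟶ G, both factor through a third
locally split subtorus E₃ ⟶ G. -/
theorem result {S : Scheme.{u}} {G : Over S} [GrpObj G]
    (hG : SGA3x.IsMultTypeFT G) {E₁ E₂ : Over S} [GrpObj E₁] [GrpObj E₂]
    (j₁ : E₁ ⟶ G) [IsMonHom j₁] [Mono j₁] (j₂ : E₂ ⟶ G) [IsMonHom j₂] [Mono j₂]
    (h₁ : ∀ s : ↥S, ∃ U : S.Opens, s ∈ U ∧ ∃ r : ℕ, Red.IsSplitTorusWith (Fin r → ℤ) (Red.bc U.ι E₁))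
    (h₂ : ∀ s : ↥S, ∃ U : S.Opens, s ∈ U ∧ ∃ r : ℕ, Red.IsSplitTorusWith (Fin r → ℤ) (Red.bc U.ι E₂)) :
    ∃ (E₃ : Over S) (_ : GrpObj E₃) (j₃ : E₃ ⟶ G) (g₁ : E₁ ⟶ E₃) (g₂ : E₂ ⟶ E₃), IsMonHom j₃ ∧ Mono j₃ ∧
      (∀ s : ↥S, ∃ U : S.Opens, s ∈ U ∧ ∃ r : ℕ, Red.IsSplitTorusWith (Fin r → ℤ) (Red.bc U.ι E₃)) ∧
      g₁ ≫ j₃ = j₁ ∧ g₂ ≫ j₃ = j₂ := by
  exact MTRigid29.exists_directed hG j₁ j₂ h₁ h₂

end Groth.Agent.S19792
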