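import Groth.Statements.S19795
import Groth.Agent.Lib.CocharExt20.Basic
-- import your own Groth.Agent.* helpers here

set_option autoImplicit false
open CategoryTheory MonoidalCategory CartesianMonoidalCategory MonObj GrpObj AlgebraicGeometry
universe u
open SGA3x

namespace Groth.Agent.S19795

set_option linter.style.haveILetI false
set_option backward.isDefEq.respectTransparency false
set_option backward.isDefEq.respectTransparency.types false
set_option maxSynthPendingDepth 3
open CategoryTheory.Limits Groth.Agent.MTRigid29 Groth.Agent.DiagGL

/-- Let S be an integral, normal, locally Noetherian scheme with function field K, f : Spec K ⟶ S the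
inclusion of the generic point, and T an S-torus. Then X_*(T)(S) = X_*(T)(K): every homomorphism of
K-groups (𝔾_{m,S}) ×_S Spec K ⟶ T ×_S Spec K is the base change along f of exactly one homomorphism
of S-groups 𝔾_{m,S} ⟶ T. (The published statement assumes S connected, normal and locally
Noetherian, which makes S integral.) -/
theorem result {S : Scheme.{u}} [IsIntegral S]
    [IsLocallyNoetherian S] (hnorm : ∀ x : ↥S, IsDomain (S.presheaf.stalk x) ∧ IsIntegrallyClosed (S.presheaf.stalk x))
    {T : Over S} [GrpObj T] (hT : Red.IsTorus T)
    (lamK : Red.bc (S.fromSpecStalk (genericPoint S)) (Red.Gm S) ⟶ Red.bc (S.fromSpecStalk (genericPoint S)) T)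
    [IsMonHom lamK] :
    ∃! lam : Red.Gm S ⟶ T, IsMonHom lam ∧ (Over.pullback (S.fromSpecStalk (genericPoint S))).map lam = lamK := by
  haveI : AddGroup.FG ℤ := AddGroup.fg_iff_mul_fg.2 inferInstance
  have hS := CocharExt20.geomUnibranch_of_normal hnorm
  let e : Spec (S.residueField (genericPoint S)) ⟶ Spec (S.presheaf.stalk (genericPoint S)) :=
    Spec.map (S.residue (genericPoint S))
  have he : e ≫ S.fromSpecStalk (genericPoint S) = S.fromSpecResidueField (genericPoint S) := rfl
  haveI : Subsingleton (Spec (S.presheaf.stalk (genericPoint S))) :=
    inferInstanceAs (Subsingleton (PrimeSpectrum S.functionField))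
  haveI : IsDominant e := ⟨fun x => by
    obtain ⟨pt⟩ := (inferInstance : Nonempty (Spec (S.residueField (genericPoint S))))
    exact subset_closure ⟨pt, Subsingleton.elim _ _⟩⟩
  haveI : IsReduced (Spec (S.presheaf.stalk (genericPoint S))) :=
    inferInstanceAs (IsReduced (Spec S.functionField))
  exact CocharExt20.existsUnique_extend hS (isMultTypeFT_of_chars (charsDS S ℤ)) (isMultTypeFT_of_torus hT)
    (S.fromSpecStalk (genericPoint S)) e he lamK


end Groth.Agent.S19795
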