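import Groth.Statements.S19796
import Groth.Agent.S7640
import Groth.Agent.Lib.CurveCoh17.DegTwo
import Groth.Agent.Lib.CurveCoh17.Clifford
import Groth.Agent.Lib.Curve17.ProjSep
import Groth.Agent.Lib.CurveCoh17.HZero
import Groth.Agent.Lib.Twist.GlobalProjSpace
import Groth.Agent.Lib.RegSmooth17.Scheme
import Groth.Agent.Lib.CurveOm17.Apps
import Groth.Agent.Lib.AmpleFin18.Birational

set_option autoImplicit false
set_option linter.style.haveILetI false
set_option backward.isDefEq.respectTransparency false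
set_option maxHeartbeats 4000000
universe u
open CategoryTheory CategoryTheory.Limits AlgebraicGeometry Opposite
open Curves

namespace Groth.Agent.S19796

section Helpers

open Groth.Agent.M1 Groth.Agent.Twist TopologicalSpace MvPolynomial

variable {k : Type u} [Field k] {n : ℕ}

local notation "𝒢" => CohB1.polyGrading n k
local notation "O1" => _root_.Twist.twist (CohB1.polyGrading n k) 1

variable {X : Scheme.{u}}

theorem sec_linForm (pX : X ⟶ Spec (CommRingCat.of k)) (r : X ⟶ Proj 𝒢)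
    (hr : r ≫ CohB1.ProjSpace.toSpec n k = pX) (c : Fin (n + 1) → k) :
    ProjUP.sec 𝒢 r (Curve17.linForm_mem c) = Curve17.vSec pX r c := by
  refine TopCat.Presheaf.section_ext ⟨_, ((Scheme.Modules.pullback r).obj O1).isSheaf⟩ ⊤ _ _ fun P hPt => ?_
  obtain ⟨i, hi⟩ := Curve17.exists_X_notMem (r P)
  have hP : P ∈ r ⁻¹ᵁ Proj.basicOpen 𝒢 (MvPolynomial.X i) := hi
  refine Eq.trans ?_ (Curve17.germ_vSec pX r i P hP hr c).symm
  rw [← germ_mres _ (le_top : r ⁻¹ᵁ Proj.basicOpen 𝒢 (MvPolynomial.X i) ≤ ⊤) hP,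
    ProjUP.sec_eq_ev_smul 𝒢 r (Curve17.X_mem i) (Curve17.linForm_mem c) _ le_rfl, germ_smul]
  rfl

theorem vSec_injective (pX : X ⟶ Spec (CommRingCat.of k)) (r : X ⟶ Proj 𝒢)
    (hr : r ≫ CohB1.ProjSpace.toSpec n k = pX)
    (hnd : ∀ s : LinSer.Sect (CohB1.ProjSpace n k) (_root_.Twist.twistProjSpace n k 1), s ≠ 0 →
      OmegaSh.pullSect r (_root_.Twist.twistProjSpace n k 1) ⊤ s ≠ 0)
    {c : Fin (n + 1) → k} (hc : Curve17.vSec pX r c = 0) : c = 0 := by
  have h0 : ProjUP.sec 𝒢 r (Curve17.linForm_mem c) = 0 := (sec_linForm pX r hr c).trans hc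
  have h1 : _root_.Twist.globalOf 𝒢 (⟨Curve17.linForm c, Curve17.linForm_mem c⟩ : 𝒢 1) = 0 :=
    by_contra fun hne => hnd _ hne h0
  have h2 : (⟨Curve17.linForm c, Curve17.linForm_mem c⟩ : 𝒢 1) = 0 := by
    refine (Twist.globalOf_bijective_polyGrading (R := k) (n := n) 1).1 (h1.trans (Twist.sec_ext fun x hx => ?_))
    exact (Localization.mk_zero _).symm.trans (Twist.val_globalOf 𝒢 0 x hx fun h => x.isPrime.ne_top ((Ideal.eq_top_iff_one _).mpr h)).symm
  funext j
  have := congrArg (MvPolynomial.eval (Pi.single j (1 : k))) (congrArg Subtype.val h2)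
  simpa [Curve17.linForm, Pi.single_apply, eq_comm] using this

/-- Vanishing of a linear form along `r` gives vanishing along `φ ≫ r`. -/
theorem vSec_comp_eq_zero [IsIntegral X] {Y : Scheme.{u}} [IsIntegral Y] (φ : Y ⟶ X)
    (pX : X ⟶ Spec (CommRingCat.of k)) (r : X ⟶ Proj 𝒢) (hr : r ≫ CohB1.ProjSpace.toSpec n k = pX)
    {c : Fin (n + 1) → k} (hc : Curve17.vSec pX r c = 0) : Curve17.vSec (φ ≫ pX) (φ ≫ r) c = 0 := by
  rw [← sec_linForm (φ ≫ pX) (φ ≫ r) (by rw [Category.assoc, hr]) c]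
  obtain ⟨j, hj⟩ := Curve17.exists_X_notMem (r (φ (genericPoint Y)))
  let V := r ⁻¹ᵁ Proj.basicOpen 𝒢 (MvPolynomial.X j)
  let U := φ ⁻¹ᵁ V
  have hev : ProjUP.ev 𝒢 (ProjSpace.X_mem' n k j) r V le_rfl (Curve17.linForm c) = 0 :=
    ((ProjUP.isGen_sec_of_le 𝒢 r (ProjSpace.X_mem' n k j) (U := V) le_rfl) V le_rfl).1 (by
      simp only [mres_id, zero_smul]
      rw [← ProjUP.sec_eq_ev_smul 𝒢 r (ProjSpace.X_mem' n k j) (Curve17.linForm_mem c) V le_rfl,
        (sec_linForm pX r hr c).trans hc, map_zero])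
  have hev' : ProjUP.ev 𝒢 (ProjSpace.X_mem' n k j) (φ ≫ r) U le_rfl (Curve17.linForm c) = 0 :=
    (ProjUP.ev_comp 𝒢 (ProjSpace.X_mem' n k j) φ r (U := V) (V := U) le_rfl le_rfl _).symm.trans
      ((congrArg _ hev).trans (map_zero _))
  refine CurveCoh17.eq_zero_of_germ_eq_zero (E := (Scheme.Modules.pullback (φ ≫ r)).obj O1)
    ((M2.isInvertible_iff_isFinLocFreeOfRank_one _).1
      (Twist.isInvertible_pullback (φ ≫ r) (Twist.isInvertible_twistProjSpace n k 1)))
    (ProjUP.sec 𝒢 (φ ≫ r) (Curve17.linForm_mem c)) (x := genericPoint Y) ?_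
  rw [← germ_mres _ (le_top : U ≤ ⊤) (show genericPoint Y ∈ U from hj),
    ProjUP.sec_eq_ev_smul 𝒢 (φ ≫ r) (ProjSpace.X_mem' n k j) (Curve17.linForm_mem c) U le_rfl, hev', zero_smul, map_zero]

theorem succ_le_h0 [X.Over (Spec (CommRingCat.of k))] (r : X ⟶ Proj 𝒢)
    [Module.Finite k (Coh.HH X ((Scheme.Modules.pullback r).obj O1) 0)]
    (hinj : ∀ {c : Fin (n + 1) → k}, Curve17.vSec (X ↘ Spec (CommRingCat.of k)) r c = 0 → c = 0) :
    n + 1 ≤ Module.finrank k (Coh.HH X ((Scheme.Modules.pullback r).obj O1) 0) := by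
  let L := (Scheme.Modules.pullback r).obj O1
  let v : Fin (n + 1) → Coh.HH X L 0 := fun j => (CurveCoh17.hh0 L).symm (ProjUP.sec 𝒢 r (Curve17.X_mem j))
  have hsum : ∀ c : Fin (n + 1) → k, CurveCoh17.hh0 L (∑ j, c j • v j) = Curve17.vSec (X ↘ Spec (CommRingCat.of k)) r c := fun c => by
    rw [map_sum]
    refine Finset.sum_congr rfl fun j _ => ?_
    refine (CurveCoh17.hh0_smul (M := L) _ _).trans ?_
    rw [AddEquiv.apply_symm_apply]
    rfl
  have hv : LinearIndependent k v := Fintype.linearIndependent_iff.2 fun c hc => by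
    refine congrFun (hinj ?_)
    rw [← hsum, hc, map_zero]
  have h := hv.fintype_card_le_finrank
  rwa [Fintype.card_fin] at h

end Helpers

/-- Let X be a smooth projective curve over an algebraically closed field k of characteristic 0
(integral, proper over k, of dimension one, all local rings regular) and ψ : X ⟶ P^r_k a k-morphism
which is non-degenerate (every nonzero global section of O(1) pulls back to a nonzero section of
ψ^*O(1)), with deg ψ^*O(1) = 2r + c for some 0 ≤ c ≤ r - 2; equivalently ψ is the map of a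
base-point-free linear system of dimension r and degree 2r + c. Suppose ψ is not birational onto its
image, in the following form: ψ = π ≫ η ≫ j where π : X ⟶ Γ is a k-morphism, finite and flat of
constant rank a ≥ 2, onto a smooth projective curve Γ over k, j : Y ⟶ P^r_k is an integral closed
subscheme and η : Γ ⟶ Y restricts to an isomorphism over a nonempty open subset of Y. Then a = 2 and
the genus γ of Γ satisfies 2γ ≤ c. Degrees are χ(·) - χ(O_X). -/
theorem result (k : Type u) [Field k] [IsAlgClosed k] [CharZero k] (X : Scheme.{u}) [X.Over (Spec (CommRingCat.of k))]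
    [IsIntegral X] [IsProper (X ↘ (Spec (CommRingCat.of k)))] (hdim : topologicalKrullDim X = 1)
    (hreg : ∀ x : X, IsRegularLocalRing (X.presheaf.stalk x))
    (r c : ℕ) (hc : c + 2 ≤ r)
    (Γ : Scheme.{u}) [Γ.Over (Spec (CommRingCat.of k))] [IsIntegral Γ] [IsProper (Γ ↘ (Spec (CommRingCat.of k)))]
    (hdimΓ : topologicalKrullDim Γ = 1) (hregΓ : ∀ y : Γ, IsRegularLocalRing (Γ.presheaf.stalk y))
    (π : X ⟶ Γ) (hπ : π ≫ (Γ ↘ Spec (CommRingCat.of k)) = X ↘ Spec (CommRingCat.of k))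
    [IsFinite π] [Flat π] (a : ℕ) (ha2 : 2 ≤ a) (ha : ∀ y : Γ, Scheme.Hom.finrank π y = a)
    (Y : Scheme.{u}) [IsIntegral Y] (j : Y ⟶ CohB1.ProjSpace r k) [IsClosedImmersion j] (η : Γ ⟶ Y)
    (hη : η ≫ j ≫ CohB1.ProjSpace.toSpec r k = Γ ↘ Spec (CommRingCat.of k))
    (hbir : ∃ U : Y.Opens, (U : Set Y).Nonempty ∧ IsIso (η ∣_ U))
    (hnd : ∀ s : LinSer.Sect (CohB1.ProjSpace r k) (Twist.twistProjSpace r k 1), s ≠ 0 → OmegaSh.pullSect (π ≫ η ≫ j) (Twist.twistProjSpace r k 1) ⊤ s ≠ 0)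
    (hdeg : Curv2.deg k X ((Scheme.Modules.pullback (π ≫ η ≫ j)).obj (Twist.twistProjSpace r k 1)) 1 = 2 * r + c) :
    a = 2 ∧ 2 * Curv2.genus k Γ ≤ (c : ℤ) := by
  classical
  let rΓ : Γ ⟶ CohB1.ProjSpace r k := η ≫ j
  have hrΓ : rΓ ≫ CohB1.ProjSpace.toSpec r k = Γ ↘ Spec (CommRingCat.of k) := by
    rw [Category.assoc]; exact hη
  let L := (Scheme.Modules.pullback rΓ).obj (_root_.Twist.twistProjSpace r k 1)
  haveI : Smooth (Γ ↘ Spec (CommRingCat.of k)) :=
    Groth.Agent.RegSmooth17.smooth_of_regular_of_perfectField (Γ ↘ Spec (CommRingCat.of k)) hregΓ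
  obtain ⟨hR, h0, -⟩ := Groth.Agent.VB17.setup (k := k) (X := Γ) hdimΓ
  haveI := hR.like.noetherian
  have hX := Groth.Agent.VB17.curveLike (k := k) (X := X) hdim
  haveI := hX.noetherian
  have hLi : PicF.IsInvertible L := Groth.Agent.Twist.isInvertible_pullback rΓ (Groth.Agent.Twist.isInvertible_twistProjSpace r k 1)
  have hL1 := Groth.Agent.CurveCoh17.rkOne_of_invertible hR.like.dim hLi
  haveI := hR.like.fin L hL1.coh 0
  haveI := hR.like.fin L hL1.coh 1
  -- sections
  have hinjX : ∀ {c' : Fin (r + 1) → k}, Groth.Agent.Curve17.vSec (X ↘ Spec (CommRingCat.of k)) (π ≫ rΓ) c' = 0 → c' = 0 :=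
    fun {c'} h => vSec_injective _ (π ≫ rΓ) (by rw [Category.assoc, hrΓ, hπ]) (fun s hs => hnd s hs) h
  have hh0 : r + 1 ≤ Module.finrank k (Coh.HH Γ L 0) :=
    @succ_le_h0 _ _ _ _ _ rΓ (hR.like.fin L hL1.coh 0) fun {c'} h => hinjX (by
      have h' := vSec_comp_eq_zero π (Γ ↘ Spec (CommRingCat.of k)) rΓ hrΓ h
      rwa [hπ] at h')
  -- the map
  have huniq : ∀ x : X, π x = genericPoint Γ → x = genericPoint X := fun x hx => by
    by_contra hne
    have hcl := Groth.Agent.AmpleFin18.isClosed_of_ne_genericPoint hdim.le hne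
    have h1 : IsClosed ({π x} : Set Γ) := by
      simpa using π.isClosedMap _ hcl
    rw [hx] at h1
    exact Groth.Agent.CurveCoh17.genericPoint_ne_of_isClosed hdimΓ h1 rfl
  haveI : LocallyOfFinitePresentation π := inferInstance
  obtain ⟨x, hx⟩ : ∃ x : X, π x = genericPoint Γ := by
    have hopen : IsOpen (Set.range π) := π.isOpenMap.isOpen_range
    exact ((genericPoint_spec Γ).mem_open_set_iff hopen).2 ⟨π (genericPoint X), trivial, ⟨_, rfl⟩⟩
  have hgen : π (genericPoint X) = genericPoint Γ := huniq x hx ▸ hx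
  have hdegmul := Groth.Agent.S7640.result k X Γ hdim hdimΓ π hπ hgen 1 L
    ((Groth.Agent.M2.isInvertible_iff_isFinLocFreeOfRank_one _).1 hLi)
  have hiso : Curv2.deg k X ((Scheme.Modules.pullback π).obj L) 1 = 2 * r + c := by
    rw [← hdeg]
    exact Groth.Agent.CurveCoh17.deg_iso
      ((Scheme.Modules.pullbackComp π rΓ).app _)
  rw [hiso, ← Groth.Agent.CurveCoh17.finrank_genericPoint_eq_residueDegree π hgen huniq, ha] at hdegmul
  haveI : Nontrivial (Coh.HH Γ L 0) := Module.nontrivial_of_finrank_pos (R := k) (by omega)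
  have hle := hR.like.h0_le_deg_add hL1 inferInstance
  rw [h0] at hle
  have hrd : (r : ℤ) ≤ Curv2.deg k Γ L 1 := by omega
  by_cases h1 : Nontrivial (Coh.HH Γ L 1)
  · have hcl := hR.like.clifford hL1 inferInstance h1
    rw [h0] at hcl
    exfalso
    have h2 : (2 * r : ℤ) ≤ Curv2.deg k Γ L 1 := by omega
    have h3 : (2 : ℤ) * Curv2.deg k Γ L 1 ≤ a * Curv2.deg k Γ L 1 :=
      mul_le_mul_of_nonneg_right (by exact_mod_cast ha2) (by omega)
    omega
  rw [not_nontrivial_iff_subsingleton] at h1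
  have hrr := hR.like.rr hL1.coh
  have h10 : Module.finrank k (Coh.HH Γ L 1) = 0 := Module.finrank_zero_of_subsingleton
  have ha3 : a < 3 := by
    by_contra hge
    have h3 : (3 : ℤ) * Curv2.deg k Γ L 1 ≤ a * Curv2.deg k Γ L 1 :=
      mul_le_mul_of_nonneg_right (by omega) (by omega)
    omega
  obtain rfl : a = 2 := by omega
  push_cast at hdegmul
  exact ⟨rfl, by omega⟩

end Groth.Agent.S19796
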