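import Groth.Statements.S19799
import Mathlib
import Groth.Agent.Lib.H2Alg.FinAlgClosed

set_option autoImplicit false
universe u v w
open scoped TensorProduct
open CAlg

namespace Groth.Agent.S19799
open TensorProduct H2Alg

/-- Let k be an algebraically closed field and A, B commutative k-algebras, each finite-dimensional as a
k-vector space. Then reduction commutes with tensor products: the kernel of the canonical surjection
A ⊗_k B ⟶ (A/nilradical A) ⊗_k (B/nilradical B) equals the nilradical of A ⊗_k B, so that this
surjection induces an isomorphism (A ⊗_k B)_red ≅ A_red ⊗_k B_red and in particular A_red ⊗_k B_red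
is reduced. -/
theorem result (k : Type u) [Field k]
    [IsAlgClosed k] (A : Type v) [CommRing A] [Algebra k A] [Module.Finite k A]
    (B : Type w) [CommRing B] [Algebra k B] [Module.Finite k B] :
    RingHom.ker (Algebra.TensorProduct.map (Ideal.Quotient.mkₐ k (nilradical A))
      (Ideal.Quotient.mkₐ k (nilradical B))).toRingHom = nilradical (A ⊗[k] B) := by
  have := FinAlg.isReduced_tensor k (A ⧸ nilradical A) (B ⧸ nilradical B)
  apply le_antisymm
  · show RingHom.ker (Algebra.TensorProduct.map (Ideal.Quotient.mkₐ k (nilradical A)) (Ideal.Quotient.mkₐ k (nilradical B))) ≤ _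
    rw [Algebra.TensorProduct.map_ker _ _ (Ideal.Quotient.mkₐ_surjective k _) (Ideal.Quotient.mkₐ_surjective k _)]
    refine sup_le ?_ ?_ <;> refine Ideal.map_le_iff_le_comap.2 fun x hx => ?_
    · have hx' : IsNilpotent x := mem_nilradical.1 (Ideal.Quotient.eq_zero_iff_mem.1 hx)
      exact mem_nilradical.2 (hx'.map _)
    · have hx' : IsNilpotent x := mem_nilradical.1 (Ideal.Quotient.eq_zero_iff_mem.1 hx)
      exact mem_nilradical.2 (hx'.map _)
  · intro x hx
    exact ((mem_nilradical.1 hx).map (Algebra.TensorProduct.map (Ideal.Quotient.mkₐ k (nilradical A))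
      (Ideal.Quotient.mkₐ k (nilradical B))).toRingHom).eq_zero

end Groth.Agent.S19799
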