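import Groth.Statements.S1980
import Groth.Agent.Lib.EppASH7.FrameMain
import Groth.Agent.Lib.EppASH7.FrameExists
import Groth.Agent.Lib.EppASH7.CohenDVR
import Groth.Agent.S1979
-- import your own Groth.Agent.* helpers here

set_option autoImplicit false
universe u
open EtAlg

open IsLocalRing Groth.Agent Groth.Agent.EppASH7

set_option linter.style.haveILetI false

namespace Groth.Agent.S1980

/-- In residue characteristic zero every weak solution is a solution. -/
theorem solution_charZero (A B K L : Type u) [CommRing A] [IsDomain A] [IsDiscreteValuationRing A]
    [CommRing B] [IsDomain B] [IsDiscreteValuationRing B] [Algebra A B] [IsLocalHom (algebraMap A B)]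
    (hinj : Function.Injective (algebraMap A B))
    [Field K] [Field L] [Algebra A K] [IsFractionRing A K] [Algebra B L] [IsFractionRing B L]
    [Algebra K L] [Algebra A L] [IsScalarTower A K L] [IsScalarTower A B L] [hc0 : CharP (ResidueField A) 0] :
    ∃ (K₁ : Type u) (_ : Field K₁) (_ : Algebra K K₁) (_ : FiniteDimensional K K₁), EtRam.IsSolution B K L K₁ := by
  obtain ⟨K₁, i₁, i₂, hfin, hweak⟩ := Groth.Agent.S1979.result A B K L hinj fun p hp hc => by
    haveI := hc
    exact absurd (CharP.eq (ResidueField A) hc hc0) hp.ne_zero
  refine ⟨K₁, i₁, i₂, hfin, ?_⟩
  intro M _ _ _ _ _ _ hgen W hW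
  refine ⟨hweak M hgen W hW, ?_⟩
  let cB : B →+* W := RingHom.codRestrict _ W hW.1
  haveI : IsLocalHom cB := EtRamH7.isLocalHom_cod hW
  let iA : ResidueField A →+* ResidueField W := (ResidueField.map cB).comp (ResidueField.map (algebraMap A B))
  let iV : ResidueField (W.comap (algebraMap K₁ M)) →+* ResidueField W :=
    ResidueField.map (EtRam.inclOfComap W (algebraMap K₁ M))
  letI : Algebra (ResidueField (W.comap (algebraMap K₁ M))) (ResidueField W) := iV.toAlgebra
  haveI : CharP (ResidueField W) 0 := (iA.charP_iff iA.injective 0).1 inferInstance
  haveI : CharP (ResidueField (W.comap (algebraMap K₁ M))) 0 := (iV.charP_iff iV.injective 0).2 inferInstance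
  haveI : CharZero (ResidueField (W.comap (algebraMap K₁ M))) := CharP.charP_to_charZero _
  exact geomRed_of_perfectField _ _


/-- Suppose A -> B makes the discrete valuation ring B an extension of the discrete valuation ring A,
with B essentially of finite type over A, and write K ⊂ L for their fraction fields. Then there is a
finite extension K₁ of K which is a solution for A -> B: for every compositum M of L and K₁ and
every valuation subring W of M dominating B, the extension W ∩ K₁ -> W is weakly unramified with
separable (geometrically reduced, possibly transcendental) residue field extension (equivalently,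
formally smooth for the adic topology). -/
theorem result (A B K L : Type u) [CommRing A] [IsDomain A] [IsDiscreteValuationRing A]
    [CommRing B] [IsDomain B] [IsDiscreteValuationRing B] [Algebra A B] [IsLocalHom (algebraMap A B)]
    (hinj : Function.Injective (algebraMap A B))
    [Field K] [Field L] [Algebra A K] [IsFractionRing A K] [Algebra B L] [IsFractionRing B L]
    [Algebra K L] [Algebra A L] [IsScalarTower A K L] [IsScalarTower A B L] [Algebra.EssFiniteType A B] :
    ∃ (K₁ : Type u) (_ : Field K₁) (_ : Algebra K K₁) (_ : FiniteDimensional K K₁), EtRam.IsSolution B K L K₁ := by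
  classical
  obtain ⟨p, hchar⟩ := CharP.exists (ResidueField A)
  haveI := hchar
  rcases CharP.char_is_prime_or_zero (ResidueField A) p with hp | rfl
  · obtain ⟨ι, _, x, hind, hfin⟩ := exists_frame A B K L hinj
    exact solution_of_frame A B K L hinj hp x hind hfin
  · exact solution_charZero A B K L hinj

end Groth.Agent.S1980
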