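import Groth.Statements.S19801
import Groth.Agent.Lib.NumPoly18.Growth
import Mathlib.Analysis.Asymptotics.Lemmas

set_option autoImplicit false
universe u
open CategoryTheory CategoryTheory.Limits AlgebraicGeometry Asymptotics
open Variety

namespace Groth.Agent.S19801

/-- Let X be a projective variety of dimension d over a field k, i.e. a geometrically integral scheme
proper over k admitting an ample invertible module, with dim X = d; let L be an invertible
O_X-module and F a coherent O_X-module. Then dim_k H^0(X, F ⊗ L^m) = O(m^d) as m → ∞. -/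
theorem result (k : Type u) [Field k] (X : Scheme.{u})
    [X.Over (Spec (CommRingCat.of k))] [IsIntegral X] [GeometricallyIntegral (X ↘ Spec (CommRingCat.of k))]
    [IsProper (X ↘ Spec (CommRingCat.of k))] (hproj : ∃ A : X.Modules, CohB1.IsAmple A)
    (d : ℕ) (hd : topologicalKrullDim X = d) (L : X.Modules) (hL : PicF.IsInvertible L)
    (F : X.Modules) (hF : Coh.IsCoh F) :
    (fun m : ℕ => (Module.finrank k (Coh.HH X (CohB1.tensorMod F (CohB1.tensorPow L m)) 0) : ℝ)) =O[Filter.atTop]
      (fun m : ℕ => (m : ℝ) ^ d) := by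
  obtain ⟨A, hA⟩ := hproj
  haveI : Nonempty X := inferInstance
  obtain ⟨C, hC⟩ := Groth.Agent.NumPoly18.exists_h0_bound k (d := d) hd.le hA hL hF
  refine Asymptotics.IsBigO.of_bound ((max C 0 : ℚ) * 2 ^ d : ℝ) ?_
  filter_upwards [Filter.eventually_ge_atTop 1] with m hm
  rw [Real.norm_natCast, Real.norm_of_nonneg (by positivity)]
  have h1 : (Module.finrank k (Coh.HH X (CohB1.tensorMod F (CohB1.tensorPow L m)) 0) : ℝ) ≤
      (C : ℝ) * ((m : ℝ) + 1) ^ d := by
    exact_mod_cast hC m
  have hm' : ((m : ℝ) + 1) ≤ 2 * (m : ℝ) := by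
    have : (1 : ℝ) ≤ (m : ℝ) := by exact_mod_cast hm
    linarith
  calc (Module.finrank k (Coh.HH X (CohB1.tensorMod F (CohB1.tensorPow L m)) 0) : ℝ)
      ≤ (C : ℝ) * ((m : ℝ) + 1) ^ d := h1
    _ ≤ ((max C 0 : ℚ) : ℝ) * (2 * (m : ℝ)) ^ d :=
        mul_le_mul (by exact_mod_cast le_max_left C 0) (pow_le_pow_left₀ (by positivity) hm' d) (by positivity)
          (by exact_mod_cast le_max_right C 0)
    _ = _ := by rw [mul_pow]; push_cast; ring

end Groth.Agent.S19801
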