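import Groth.Statements.S19804
import Groth.Agent.Lib.Azumaya.Criteria
import Mathlib.RingTheory.Spectrum.Prime.FreeLocus

set_option autoImplicit false
open scoped TensorProduct
universe u v w
open Brauer

namespace Groth.Agent.S19804

/-- Let R be a commutative ring with Spec R connected, A an Azumaya R-algebra and e an idempotent
element of A. If for some nonzero commutative R-algebra R' the element 1 ⊗ e of R' ⊗_R A is 0, then
e = 0; and if 1 ⊗ e = 1 in R' ⊗_R A, then e = 1. (The published statement is for an Azumaya algebra
over a connected scheme S and base change to an arbitrary nonempty S-scheme T; this row takes S and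
T affine.) -/
theorem result {R : Type u} [CommRing R]
    [ConnectedSpace (PrimeSpectrum R)] {A : Type v} [Ring A] [Algebra R A] [IsAzumaya R A]
    (e : A) (he : IsIdempotentElem e) (R' : Type w) [CommRing R'] [Nontrivial R'] [Algebra R R'] :
    ((1 : R') ⊗ₜ[R] e = (0 : R' ⊗[R] A) → e = 0) ∧ ((1 : R') ⊗ₜ[R] e = (1 : R' ⊗[R] A) → e = 1) := by
  have aux : ∀ f : A, IsIdempotentElem f → (1 : R') ⊗ₜ[R] f = (0 : R' ⊗[R] A) → f = 0 := by
    intro f hf h0
    let L : A →ₗ[R] A := LinearMap.mulLeft R f
    let N := LinearMap.range L
    have hL : ∀ x ∈ N, L x = x := by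
      rintro _ ⟨y, rfl⟩
      simp [L, ← mul_assoc, hf.eq]
    let π : A →ₗ[R] N := L.rangeRestrict
    have hπ : π.comp N.subtype = LinearMap.id :=
      LinearMap.ext fun x => Subtype.ext (hL x x.2)
    haveI : Module.Finite R N := Module.Finite.of_surjective π L.surjective_rangeRestrict
    haveI : Module.Projective R N := Module.Projective.of_split N.subtype π hπ
    haveI : Module.FinitePresentation R N := Module.finitePresentation_of_projective R N
    haveI : Subsingleton (R' ⊗[R] N) := by
      refine ⟨fun x y => ?_⟩
      have hz : ∀ z : R' ⊗[R] N, z = 0 := fun z => by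
        induction z using TensorProduct.induction_on with
        | zero => rfl
        | add a b ha hb => rw [ha, hb, add_zero]
        | tmul r x =>
          have h1 : (r ⊗ₜ[R] (x : A)) = 0 := by
            rw [← hL x x.2]
            calc r ⊗ₜ[R] (f * (x : A)) = ((1 : R') ⊗ₜ[R] f) * (r ⊗ₜ[R] (x : A)) := by simp
              _ = 0 := by rw [h0, zero_mul]
          have := congrArg (LinearMap.lTensor R' π) h1
          rw [LinearMap.lTensor_tmul, map_zero] at this
          rwa [show π (x : A) = x from LinearMap.congr_fun hπ x] at this
      rw [hz x, hz y]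
    obtain ⟨q⟩ := (inferInstance : Nonempty (PrimeSpectrum R'))
    have hq : Module.rankAtStalk (R := R) N (PrimeSpectrum.comap (algebraMap R R') q) = 0 := by
      rw [← Module.rankAtStalk_baseChange q, Module.rankAtStalk_eq_zero_of_subsingleton]
      rfl
    have hall : Module.rankAtStalk (R := R) N = 0 := funext fun p => by
      rw [Pi.zero_apply, ← hq]
      exact (Module.isLocallyConstant_rankAtStalk (R := R) (M := N)).apply_eq_of_preconnectedSpace _ _
    haveI : Subsingleton N := Module.rankAtStalk_eq_zero_iff_subsingleton.1 hall
    have := congrArg Subtype.val (Subsingleton.elim (π 1) 0)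
    simpa [π, L] using this
  refine ⟨aux e he, fun h1 => ?_⟩
  have := aux (1 - e) he.one_sub (by rw [TensorProduct.tmul_sub, h1]; simp [Algebra.TensorProduct.one_def])
  exact (sub_eq_zero.1 this).symm
end Groth.Agent.S19804
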