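import Groth.Statements.S19805
import Groth.Agent.Lib.NumPoly18.Vol

set_option autoImplicit false
universe u
open CategoryTheory CategoryTheory.Limits AlgebraicGeometry
open scoped ENNReal
open Variety

open Groth.Agent Groth.Agent.NumPoly18
namespace Groth.Agent.S19805

/-- Let X be a projective variety of dimension d over a field k (a geometrically integral scheme, proper
over k, admitting an ample invertible module, with dim X = d) and L an invertible O_X-module; write
vol(L) for the upper limit of dim_k H^0(X, L^m) / m^d as m → ∞, taken in the extended non-negative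
reals (the volume of L up to the factor d!). Then for every integer a ≥ 1 the volume is homogeneous
of degree d: vol(L^a) = a^d · vol(L). -/
theorem result (k : Type u) [Field k] (X : Scheme.{u})
    [X.Over (Spec (CommRingCat.of k))] [IsIntegral X] [GeometricallyIntegral (X ↘ Spec (CommRingCat.of k))]
    [IsProper (X ↘ Spec (CommRingCat.of k))]
    (hproj : ∃ A : X.Modules, CohB1.IsAmple A) (d : ℕ) (hd : topologicalKrullDim X = d)
    (L : X.Modules) (hL : PicF.IsInvertible L) (a : ℕ) (ha : 0 < a) :
    Filter.limsup (fun m : ℕ => (Module.finrank k (Coh.HH X (CohB1.tensorPow (CohB1.tensorPow L a) m) 0) : ℝ≥0∞) /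
        (m : ℝ≥0∞) ^ d) Filter.atTop =
      (a : ℝ≥0∞) ^ d * Filter.limsup (fun m : ℕ => (Module.finrank k (Coh.HH X (CohB1.tensorPow L m) 0) : ℝ≥0∞) /
        (m : ℝ≥0∞) ^ d) Filter.atTop := by
  obtain ⟨A, hA⟩ := hproj
  have hfun : (fun m : ℕ => (Module.finrank k (Coh.HH X (CohB1.tensorPow (CohB1.tensorPow L a) m) 0) : ℝ≥0∞) /
      (m : ℝ≥0∞) ^ d) = fun m : ℕ => (a : ℝ≥0∞) ^ d * volSeq k L d (a * m) := funext fun m => by
    rw [volSeq, (CurveCoh17.hequiv k (M2.tensorPowPow L a m) 0).finrank_eq, Nat.cast_mul, mul_pow, ← mul_div_assoc,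
      ENNReal.mul_div_mul_left _ _ (pow_ne_zero _ (Nat.cast_ne_zero.2 ha.ne'))
        (ENNReal.pow_ne_top (ENNReal.natCast_ne_top a))]
  rw [hfun, ENNReal.limsup_const_mul_of_ne_top (ENNReal.pow_ne_top (ENNReal.natCast_ne_top a)),
    limsup_volSeq_mul k hd hA hL ha]
  rfl

end Groth.Agent.S19805
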