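import Groth.Statements.S19809
import Groth.Agent.Lib.Trisec28.Basic

set_option autoImplicit false
universe u
open RatCurv

namespace Groth.Agent.S19809

/-- A smooth rational quintic curve C ⊂ P^3 has a one-parameter family of 3-secant lines. Stated, as for
the nondegenerate case, through binary forms: C is the image of P^1 under a 4-dimensional linear
series V of binary quintic forms which separates every length-2 subscheme of P^1 (for every nonzero
quadratic form e, the forms of V together with the multiples of e span all quintic forms), so that
P^1 → P(V^*) = P^3 is a closed embedding; the linear forms on P^3 are the elements of V, a line L ⊂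
P^3 is the 2-dimensional space of linear forms vanishing on it, and L ∩ C has length at least 3
exactly when that space is contained in g · K[s,t]_2 for a cubic form g. The conclusion: there are
infinitely many pairwise non-proportional nonzero cubic forms g with dim (V ∩ g · K[s,t]_2) ≥ 2,
i.e. for every finite set of cubics there is such a g proportional to none of them. (The ground
field is algebraically closed of characteristic zero in place of the complex numbers; the third
printed assertion, on curves all of whose 3-secants are 4-secant, is not stated.) -/
theorem result (K : Type u) [Field K] [IsAlgClosed K]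
    [CharZero K] (V : Submodule K (MvPolynomial (Fin 2) K))
    (hV : V ≤ MvPolynomial.homogeneousSubmodule (Fin 2) K 5) (hdim : Module.finrank K ↥V = 4)
    (hsep : ∀ e ∈ MvPolynomial.homogeneousSubmodule (Fin 2) K 2, e ≠ 0 →
      ∀ F ∈ MvPolynomial.homogeneousSubmodule (Fin 2) K 5, ∃ v ∈ V,
        ∃ h ∈ MvPolynomial.homogeneousSubmodule (Fin 2) K 3, F = v + e * h)
    (F : Finset (MvPolynomial (Fin 2) K)) :
    ∃ g ∈ MvPolynomial.homogeneousSubmodule (Fin 2) K 3, g ≠ 0 ∧
      2 ≤ Module.finrank K ↥(V ⊓ (MvPolynomial.homogeneousSubmodule (Fin 2) K 2).map (LinearMap.mulLeft K g)) ∧
      ∀ g' ∈ F, ∀ c : K, g ≠ c • g' := by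
  exact Groth.Agent.Trisec28.main V hV hdim hsep F

end Groth.Agent.S19809
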