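import Groth.Statements.S1981
import Groth.Agent.S1980
import Groth.Agent.Lib.PerturbH7.SepSol
import Groth.Agent.Lib.FSC5.Ess
-- import your own Groth.Agent.* helpers here

set_option autoImplicit false
universe u
open EtAlg

namespace Groth.Agent.S1981

/-- Suppose A -> B makes the discrete valuation ring B an extension of the discrete valuation ring A,
write K ⊂ L for their fraction fields, and assume that B is essentially of finite type over A, A or
B is a Nagata ring, and L/K is separable (in the sense for arbitrary extensions: L is geometrically
reduced over K, as elsewhere in this problem; L need not be algebraic over K). Then there is a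
finite separable extension K₁ of K which is a solution for A -> B. -/
theorem result (A B K L : Type u) [CommRing A] [IsDomain A] [IsDiscreteValuationRing A]
    [CommRing B] [IsDomain B] [IsDiscreteValuationRing B] [Algebra A B] [IsLocalHom (algebraMap A B)]
    (hinj : Function.Injective (algebraMap A B))
    [Field K] [Field L] [Algebra A K] [IsFractionRing A K] [Algebra B L] [IsFractionRing B L]
    [Algebra K L] [Algebra A L] [IsScalarTower A K L] [IsScalarTower A B L] [Algebra.EssFiniteType A B]
    (hN : CAlg.IsNagata A ∨ CAlg.IsNagata B) [Algebra.IsGeometricallyReduced K L] :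
    ∃ (K₁ : Type u) (_ : Field K₁) (_ : Algebra K K₁) (_ : FiniteDimensional K K₁) (_ : Algebra.IsSeparable K K₁),
      EtRam.IsSolution B K L K₁ := by
  have hB : CAlg.IsNagata B := hN.elim (fun h => Groth.Agent.FSC5.isNagata_of_essFiniteType A B h) id
  obtain ⟨K₂, _, _, hfin, h₂⟩ := Groth.Agent.S1980.result A B K L hinj
  haveI := hfin
  exact Groth.Agent.PerturbH7.exists_separable_solution A B K L hinj hB K₂ h₂

end Groth.Agent.S1981
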