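import Groth.Statements.S19821
import Groth.Agent.Lib.DepthAlong11.DepthExtend
import Groth.Agent.Lib.DepthAlong11.Flat
import Groth.Agent.Lib.FlatDepth.SkFlat

set_option autoImplicit false
universe u
open QGor

namespace Groth.Agent.S19821

open CategoryTheory AlgebraicGeometry in
/-- For a proper S₂-morphism Y → Spec A to a Noetherian affine base, of pure relative dimension d, with
relative canonical sheaf ω (characterised by the d-dualizing property over A), and an open subset U
of the relative Gorenstein locus whose complement has codimension at least 2 in every fibre (the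
local ring of the fibre at every point outside U has dimension ≥ 2), each reflexive power ω^{[m]}, m
∈ ℤ (the double dual of the m-th tensor power of ω, resp. of its dual for m < 0), is the direct
image of its restriction to U: the unit ω^{[m]} → j_* (ω^{[m]}|_U) of the restriction–direct-image
adjunction along j : U → Y is an isomorphism. (On U the sheaf ω is invertible, so ω^{[m]}|_U is the
m-th tensor power of ω|_U; the source phrases the conclusion as ω^{[m]} ≅ j_*(ω_U^{⊗ m}).) -/
theorem result
    (A : Type u) [CommRing A] [IsNoetherianRing A] (Y : Scheme.{u}) [Y.Over (Spec (CommRingCat.of A))]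
    [IsProper (Y ↘ Spec (CommRingCat.of A))] (d : ℕ)
    (hS : RelCanon.IsSkMor (Y ↘ Spec (CommRingCat.of A)) 2) (hd : Cyc.HasRelDim (Y ↘ Spec (CommRingCat.of A)) d)
    (ω : Y.Modules) (hω : RelCanon.IsDualizingSheaf A Y d ω)
    (U : Y.Opens) (hU : (U : Set Y) ⊆ RelCanon.gorLocus (Y ↘ Spec (CommRingCat.of A)))
    (hcod : ∀ y : Y, y ∉ U → (2 : WithBot ℕ∞) ≤ ringKrullDim (((Y ↘ Spec (CommRingCat.of A)).fiber ((Y ↘ Spec (CommRingCat.of A)) y)).presheaf.stalk ((Y ↘ Spec (CommRingCat.of A)).asFiber y)))
    (m : ℤ) :
    IsIso ((Scheme.Modules.restrictAdjunction U.ι).unit.app (RelCanon.refPowZ ω m)) := by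
  obtain ⟨hfl, hft, hSk⟩ := hS
  haveI := hfl
  haveI := hft
  let g := Y ↘ Spec (CommRingCat.of A)
  haveI : IsLocallyNoetherian Y := LocallyOfFiniteType.isLocallyNoetherian g
  haveI : Coh.IsQCoh (Coh.structureModule Y) := M1.isQCoh_structureModule Y
  have hext : RH26.ExtU U (Coh.structureModule Y) := DepthAlong11.extU_of_hasSlicePair _
    (DepthAlong11.hasSlicePair_of_depth _ (M1.isCoh_structureModule Y) U fun z hz => by
      have h1 : (2 : ℕ∞) ≤ LocCoh.depth (CInt.fiberStalk g z) (CInt.fiberStalk g z) := by
        haveI : Module.Finite ((g.fiber (g z)).presheaf.stalk (g.asFiber z))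
            ((Coh.structureModule (g.fiber (g z))).presheaf.stalk (g.asFiber z) : Type u) :=
          Module.Finite.equiv (RH26.str (X := g.fiber (g z)) (g.asFiber z))
        have h := FlatDepth.min_le_depth_of_hasSk (hSk z)
        rw [← Module.supportDim_eq_of_equiv (RH26.str (X := g.fiber (g z)) (g.asFiber z)),
          Module.supportDim_self_eq_ringKrullDim] at h
        have he : LocCoh.depth ((g.fiber (g z)).presheaf.stalk (g.asFiber z))
            ((Coh.structureModule (g.fiber (g z))).presheaf.stalk (g.asFiber z) : Type u) =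
            LocCoh.depth (CInt.fiberStalk g z) (CInt.fiberStalk g z) :=
          (DepthLib.idealDepth_congr (RH26.str (X := g.fiber (g z)) (g.asFiber z))).symm
        rw [he, min_eq_left (by exact_mod_cast hcod z hz)] at h
        exact WithBot.coe_le_coe.1 h
      haveI : Module.Flat ((Spec (CommRingCat.of A)).presheaf.stalk (g z)) (Y.presheaf.stalk z) :=
        Flat.stalkMap g z
      haveI : IsLocalHom (algebraMap ((Spec (CommRingCat.of A)).presheaf.stalk (g z)) (Y.presheaf.stalk z)) :=
        g.toLRSHom.prop z
      obtain ⟨e₀⟩ := FlatDepth.nonempty_fiberStalkEquiv g z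
      let e : EGA4.FibRing ((Spec (CommRingCat.of A)).presheaf.stalk (g z)) (Y.presheaf.stalk z) ≃+*
        CInt.fiberStalk g z := e₀
      have h2 : LocCoh.depth (Y.presheaf.stalk z) (Y.presheaf.stalk z) =
          LocCoh.depth ((Spec (CommRingCat.of A)).presheaf.stalk (g z))
            ((Spec (CommRingCat.of A)).presheaf.stalk (g z)) + LocCoh.depth (CInt.fiberStalk g z) (CInt.fiberStalk g z) := by
        rw [SMT.depth_eq_of_ringEquiv e, ← DepthAlong11.depth_baseChange]
        exact (DepthLib.idealDepth_congr (TensorProduct.AlgebraTensorModule.rid _ _ _)).symm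
      have h3 : LocCoh.depth (Y.presheaf.stalk z) ((Coh.structureModule Y).presheaf.stalk z) =
          LocCoh.depth (Y.presheaf.stalk z) (Y.presheaf.stalk z) :=
        (DepthLib.idealDepth_congr (RH26.str (X := Y) z)).symm
      rw [h3, h2]
      exact le_trans h1 (self_le_add_left _ _))
  cases m with
  | ofNat n => exact RH26.isIso_unit_of_extU (RH26.extU_homSh hext _)
  | negSucc n => exact RH26.isIso_unit_of_extU (RH26.extU_homSh hext _)

end Groth.Agent.S19821
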