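import Groth.Statements.S19832
import Groth.Agent.Lib.FibDepth5.GeomRkOpen
import Groth.Agent.Lib.LimH13.FibDimDescend
import Groth.Agent.Lib.Cyc26.MVExact
import Groth.Agent.Lib.LocCoh.EquidimS2_27
import Groth.Agent.Lib.RefHull26.Dual
import Groth.Agent.Lib.Dlz27.ToEnd

set_option autoImplicit false
set_option backward.isDefEq.respectTransparency false
set_option backward.isDefEq.respectTransparency.types false
universe u
open QGor

namespace Groth.Agent.S19832

open CategoryTheory AlgebraicGeometry in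
theorem skAt_structureModule_iff {Z : Scheme.{u}} (k : ℕ) (z : Z) :
    RelCanon.SkAt k (Coh.structureModule Z) z ↔ LocCoh.HasSk k (Z.presheaf.stalk z) (Z.presheaf.stalk z) :=
  ⟨FibDepth5.hasSk_congr' (RH26.str (X := Z) z).symm, FibDepth5.hasSk_congr' (RH26.str (X := Z) z)⟩

theorem isEquidim_of_catenary {A : Type u} [CommRing A] [IsLocalRing A] [IsNoetherianRing A]
    (hc : CAlg.IsCatenary A) (h : LocCoh.HasSk 2 A A) : EGA4.IsEquidim A := by
  intro p hp
  refine LocCohLib.ringKrullDim_quotient_minimalPrime hc (fun q hq => ?_) p hp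
  have h1 := h q.asIdeal
  rw [DepthLib.supportDim_eq_ringKrullDim_of_isPrime, DepthLib.depth_localizedModule_self] at h1
  have h3 : ((2 : ℕ∞) : WithBot ℕ∞) ≤ (q.asIdeal.height : WithBot ℕ∞) := WithBot.coe_le_coe.2 hq
  rw [min_eq_left (le_of_eq_of_le (by rfl) h3)] at h1
  exact WithBot.coe_le_coe.1 (le_of_eq_of_le (by rfl) h1)

open CategoryTheory AlgebraicGeometry in
theorem isCatenary_stalk_of_field {K : Type u} [Field K] {Z : Scheme.{u}} (q : Z ⟶ Spec (CommRingCat.of K))
    [LocallyOfFiniteType q] (z : Z) : CAlg.IsCatenary (Z.presheaf.stalk z) := by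
  letI := (q.stalkMap z).hom.toAlgebra
  haveI : Algebra.EssFiniteType ((Spec (CommRingCat.of K)).presheaf.stalk (q z)) (Z.presheaf.stalk z) :=
    LocallyOfFiniteType.stalkMap q z
  have hU : CAlg.IsUniversallyCatenary (Z.presheaf.stalk z) := UCat.isUniversallyCatenary_of_essFiniteType _ _
    (Cyc26.isUniversallyCatenary_stalk_field K (q z))
  exact hU.2 _ (inferInstance : Algebra.FiniteType (Z.presheaf.stalk z) (Z.presheaf.stalk z))

open CategoryTheory AlgebraicGeometry in
theorem exists_dim_add_rd {Y T : Scheme.{u}} (f : Y ⟶ T) [LocallyOfFiniteType f] (z : Y) :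
    ∃ b : ℕ, ringKrullDim (CInt.fiberStalk f z) = (b : WithBot ℕ∞) ∧
      FlatMor.fibreDimAt f z = ((FibDim14.rd f z + b : ℕ) : WithBot ℕ∞) := by
  obtain ⟨b, hb, hb'⟩ := CMEquiDim4.exists_stalk_dim (FibDim14.toPt f (f z)) (f.asFiber z)
  rw [← FibDim14.rd_fiberι, f.fiberι_asFiber] at hb'
  exact ⟨b, hb, hb'⟩

open CategoryTheory AlgebraicGeometry in
/-- Take f : Y → T flat and locally of finite type with Y and T locally Noetherian, an integer k ≥ 2, a
point y of Y at which the fibre through y satisfies Serre's condition S_k, and an open subset Y° of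
Y not containing y. Suppose the local codimension at y of Y_{f(y)} ∖ Y° in the fibre is at least c:
at every point z ∉ Y° of the fibre through y which specializes to y, the local ring of the fibre has
dimension ≥ c. Then y has an open neighbourhood U such that U → T is an S_k-morphism (flat, locally
of finite type, all fibres S_k at all points) of pure relative dimension (every irreducible
component of every fibre of U → T has the same dimension e), and at every point z ∈ U with z ∉ Y°
the local ring at z of the fibre of f through z has dimension ≥ c; that is, codim(U_t ∖ Y°, U_t) ≥ c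
for every t. -/
theorem result
    {Y T : Scheme.{u}} (f : Y ⟶ T) [IsLocallyNoetherian Y] [IsLocallyNoetherian T]
    [Flat f] [LocallyOfFiniteType f] (k : ℕ) (hk : 2 ≤ k) (y : Y)
    (hy : RelCanon.SkAt k (Coh.structureModule (f.fiber (f y))) (f.asFiber y))
    (Yo : Y.Opens) (hyo : y ∉ Yo) (c : WithBot ℕ∞)
    (hc : ∀ z : Y, f z = f y → z ∉ Yo → z ⤳ y →
      c ≤ ringKrullDim ((f.fiber (f z)).presheaf.stalk (f.asFiber z))) :
    ∃ U : Y.Opens, y ∈ U ∧ RelCanon.IsSkMor (U.ι ≫ f) k ∧
      (∃ e : ℕ, Cyc.HasRelDim (U.ι ≫ f) e) ∧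
      ∀ z : Y, z ∈ U → z ∉ Yo → c ≤ ringKrullDim ((f.fiber (f z)).presheaf.stalk (f.asFiber z)) := by
  haveI : LocallyOfFinitePresentation f := inferInstance
  have hsk : LocCoh.HasSk k (CInt.fiberStalk f y) (CInt.fiberStalk f y) := (skAt_structureModule_iff k _).1 hy
  haveI : IsLocallyNoetherian (f.fiber (f y)) :=
    LocallyOfFiniteType.isLocallyNoetherian (f.fiberToSpecResidueField (f y))
  have heq : EGA4.IsEquidim (CInt.fiberStalk f y) :=
    isEquidim_of_catenary (isCatenary_stalk_of_field (f.fiberToSpecResidueField (f y)) _)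
      (FibDepth5.hasSk_mono hk hsk)
  let G : Y.Opens := ⟨_, FibDepth5.isOpen_ring_equidim_hasSk f k (by omega)⟩
  obtain ⟨W, hyW, hW⟩ := FibDepth5.exists_nhd_fibreDimAt_const f y
    ⟨heq, FibDepth5.hasSk_mono (by omega) hsk⟩
  obtain ⟨b₀, hb₀, hd₀⟩ := exists_dim_add_rd f y
  obtain ⟨e, he⟩ : ∃ e : ℕ, FlatMor.fibreDimAt f y = (e : WithBot ℕ∞) := ⟨_, hd₀⟩
  have hWe : ∀ z ∈ W, ∀ b : ℕ, ringKrullDim (CInt.fiberStalk f z) = (b : WithBot ℕ∞) →
      FibDim14.rd f z + b = e := by
    intro z hz b hb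
    obtain ⟨b', hb', hd⟩ := exists_dim_add_rd f z
    rw [hW z hz, he, Nat.cast_inj] at hd
    rw [hb, Nat.cast_inj] at hb'
    omega
  obtain ⟨N, hN, hNc, hNy⟩ : ∃ C : Set Y, IsClosed C ∧ (∀ z ∈ W, z ∉ C → z ∉ Yo →
      c ≤ ringKrullDim (CInt.fiberStalk f z)) ∧ y ∉ C := by
    cases c with
    | bot => exact ⟨∅, isClosed_empty, fun _ _ _ _ => bot_le, fun h => h⟩
    | coe n =>
      have hy0 := hc y rfl hyo specializes_rfl
      rw [show ringKrullDim _ = _ from hb₀] at hy0
      cases n with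
      | top => exact absurd (top_le_iff.1 (WithBot.coe_le_coe.1 hy0)) (ENat.natCast_ne_top _)
      | coe m =>
        refine ⟨FibDepth5.upSet f (Yo : Set Y)ᶜ (e + 1 - m), FibDepth5.isClosed_upSet f Yo.2.isClosed_compl _, ?_, ?_⟩
        · intro z hz hzC hzo
          obtain ⟨b, hb, -⟩ := exists_dim_add_rd f z
          have h1 := hWe z hz b hb
          rw [hb]
          by_contra hlt
          have h2 : ¬ m ≤ b := fun hle => hlt (WithBot.coe_le_coe.2 (Nat.cast_le.2 hle))
          exact hzC ⟨z, specializes_rfl, rfl, hzo, by omega⟩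
        · rintro ⟨w, hw, hwe, hwo, hr⟩
          obtain ⟨b, hb, -⟩ := exists_dim_add_rd f w
          have h1 := hWe w (hw.mem_open W.2 hyW) b hb
          have h2 := hc w hwe hwo hw
          rw [show ringKrullDim _ = _ from hb] at h2
          have h3 : m ≤ b := Nat.cast_le.1 (WithBot.coe_le_coe.1 h2)
          omega
  let C : Y.Opens := ⟨Nᶜ, hN.isOpen_compl⟩
  refine ⟨G ⊓ W ⊓ C, ⟨⟨⟨heq, hsk⟩, hyW⟩, hNy⟩, ⟨inferInstance, inferInstance, fun w => ?_⟩, ⟨e, ?_⟩,
    fun z hz hzo => hNc z hz.1.2 hz.2 hzo⟩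
  · obtain ⟨eq⟩ := FibDepth5.nonempty_fiberStalk_openImmersion (G ⊓ W ⊓ C).ι f w
    exact (skAt_structureModule_iff k _).2
      ((FibDepth5.hasSk_iff_of_ringEquiv eq k).2 w.2.1.1.2)
  · refine (LimH13.hasRelDim_iff_fibreDimAt _ e).2 fun w => ?_
    rw [FibDim14.fibreDimAt_etale_comp, ← he]
    exact hW _ w.2.1.2

end Groth.Agent.S19832
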