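import Groth.Statements.S1984
import Groth.Agent.Lib.EtRamH7.TotRam
import Mathlib.RingTheory.AdjoinRoot
import Mathlib.RingTheory.TensorProduct.Finite
import Mathlib.RingTheory.Adjoin.Polynomial.Basic
import Mathlib.RingTheory.LocalRing.RingHom.Basic

set_option autoImplicit false
universe u
open EtAlg

namespace Groth.Agent.S1984

open TensorProduct in
/-- Let A -> B be a weakly unramified extension of discrete valuation rings with fraction fields K ⊂ L,
and K₁/K a finite separable extension which is totally ramified with respect to A. Then L ⊗_K K₁ is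
a field and K₁ is a weak solution for A -> B (the valuation ring of L ⊗_K K₁ over B is weakly
unramified over that of K₁ over A). -/
theorem result (A B K L : Type u) [CommRing A] [IsDomain A] [IsDiscreteValuationRing A]
    [CommRing B] [IsDomain B] [IsDiscreteValuationRing B] [Algebra A B] [IsLocalHom (algebraMap A B)]
    (hinj : Function.Injective (algebraMap A B))
    [Field K] [Field L] [Algebra A K] [IsFractionRing A K] [Algebra B L] [IsFractionRing B L]
    [Algebra K L] [Algebra A L] [IsScalarTower A K L] [IsScalarTower A B L]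
    (hw : EtRam.IsWeaklyUnramified A B) (K₁ : Type u) [Field K₁] [Algebra K K₁] [FiniteDimensional K K₁]
    [Algebra.IsSeparable K K₁] (ht : EtRam.IsTotallyRamified A ((algebraMap K K₁).comp (algebraMap A K))) :
    IsField (L ⊗[K] K₁) ∧ EtRam.IsWeakSolution B K L K₁ := by
  classical
  letI : Algebra A K₁ := ((algebraMap K K₁).comp (algebraMap A K)).toAlgebra
  haveI : IsScalarTower A K K₁ := IsScalarTower.of_algebraMap_eq fun _ => rfl
  obtain ⟨V, hV, hn, ϖ, π, b, huniq, hmax, hϖ0, hπ, hb0, haev, hadj⟩ :=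
    Groth.Agent.EtRamH7.exists_eisenstein A K K₁ ht
  generalize hndef : Module.finrank K K₁ = n at *
  have hπB : Irreducible (algebraMap A B π) := by
    rw [IsDiscreteValuationRing.irreducible_iff_uniformizer, ← hw, hπ.maximalIdeal_eq, Ideal.map_span,
      Set.image_singleton]
  have hirr : Irreducible (((Groth.Agent.EtRamH7.eisPoly n π b).map (algebraMap A B)).map (algebraMap B L)) := by
    rw [Groth.Agent.EtRamH7.eisPoly_map]
    exact Groth.Agent.EtRamH7.eisPoly_irreducible B L hn hπB (hb0.map (algebraMap A B))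
  rw [Polynomial.map_map, ← IsScalarTower.algebraMap_eq] at hirr
  have hfinT : Module.finrank L (L ⊗[K] K₁) = n := Module.finrank_baseChange.trans hndef
  constructor
  · haveI : Fact (Irreducible ((Groth.Agent.EtRamH7.eisPoly n π b).map (algebraMap A L))) := ⟨hirr⟩
    let x : L ⊗[K] K₁ := (1 : L) ⊗ₜ[K] (ϖ : K₁)
    have hx : Polynomial.aeval x ((Groth.Agent.EtRamH7.eisPoly n π b).map (algebraMap A L)) = 0 := by
      rw [Polynomial.aeval_map_algebraMap]
      show Polynomial.aeval ((Algebra.TensorProduct.includeRight : K₁ →ₐ[K] L ⊗[K] K₁).restrictScalars A (ϖ : K₁)) _ = 0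
      rw [Polynomial.aeval_algHom_apply, haev, map_zero]
    let φ : AdjoinRoot ((Groth.Agent.EtRamH7.eisPoly n π b).map (algebraMap A L)) →ₐ[L] L ⊗[K] K₁ :=
      AdjoinRoot.liftAlgHom _ (Algebra.ofId L _) x hx
    have hsurj : Function.Surjective φ := by
      intro t
      induction t using TensorProduct.induction_on with
      | zero => exact ⟨0, map_zero _⟩
      | tmul l k =>
        have hk : k ∈ Algebra.adjoin K {(ϖ : K₁)} := by rw [hadj]; trivial
        rw [Algebra.adjoin_singleton_eq_range_aeval] at hk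
        obtain ⟨g, rfl⟩ := hk
        refine ⟨algebraMap L _ l * Polynomial.aeval (AdjoinRoot.root _) (g.map (algebraMap K L)), ?_⟩
        rw [map_mul, AlgHom.commutes, ← Polynomial.aeval_algHom_apply,
          show φ (AdjoinRoot.root _) = x from AdjoinRoot.liftAlgHom_root _ _ _ _,
          Polynomial.aeval_map_algebraMap,
          show x = (Algebra.TensorProduct.includeRight : K₁ →ₐ[K] L ⊗[K] K₁) (ϖ : K₁) from rfl,
          Polynomial.aeval_algHom_apply, Algebra.TensorProduct.includeRight_apply,
          Algebra.TensorProduct.algebraMap_apply, Algebra.TensorProduct.tmul_mul_tmul, mul_one, one_mul]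
        rfl
      | add s t hs ht =>
        obtain ⟨s', rfl⟩ := hs; obtain ⟨t', rfl⟩ := ht; exact ⟨s' + t', map_add _ _ _⟩
    haveI : Nontrivial (L ⊗[K] K₁) := Module.nontrivial_of_finrank_pos (R := L) (hfinT.symm ▸ hn)
    have hbij : Function.Bijective φ := ⟨φ.toRingHom.injective, hsurj⟩
    exact MulEquiv.isField (Field.toIsField _) (RingEquiv.ofBijective φ hbij).symm.toMulEquiv
  intro M _ _ _ _ _ _ hgen W hW
  -- `M` is finite over `L` of degree at most `n`
  let ψ : L ⊗[K] K₁ →ₐ[L] M := Algebra.TensorProduct.lift (Algebra.ofId L M)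
    (IsScalarTower.toAlgHom K K₁ M) (fun _ _ => Commute.all _ _)
  have hψsurj : Function.Surjective ψ := by
    intro m
    have hm : m ∈ ψ.range := by
      have hle : Algebra.adjoin L (Set.range (algebraMap K₁ M)) ≤ ψ.range :=
        Algebra.adjoin_le (by rintro _ ⟨k, rfl⟩; exact ⟨1 ⊗ₜ k, by simp [ψ]⟩)
      exact hle (by rw [hgen]; trivial)
    exact hm
  haveI : FiniteDimensional L M := Module.Finite.of_surjective ψ.toLinearMap hψsurj
  have hMn : Module.finrank L M ≤ n := by
    rw [← hfinT]
    exact LinearMap.finrank_le_finrank_of_surjective (f := ψ.toLinearMap) hψsurj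
  haveI := Groth.Agent.EtRamH7.dvr_of_dominates B L M _ rfl W hW
  letI algBW : Algebra B W := (RingHom.codRestrict _ W hW.1).toAlgebra
  haveI : IsLocalHom (algebraMap B W) := Groth.Agent.EtRamH7.isLocalHom_cod hW
  letI : Algebra B M := ((algebraMap L M).comp (algebraMap B L)).toAlgebra
  haveI : IsScalarTower B L M := IsScalarTower.of_algebraMap_eq fun _ => rfl
  haveI : IsScalarTower B W M := IsScalarTower.of_algebraMap_eq fun _ => rfl
  have hinjW := Groth.Agent.EtRamH7.injective_cod B L M _ rfl W hW.1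
  have hcomp : ∀ a : A, algebraMap K₁ M (algebraMap A K₁ a) = algebraMap B M (algebraMap A B a) := fun a => by
    show algebraMap K₁ M (algebraMap K K₁ (algebraMap A K a)) = algebraMap L M (algebraMap B L (algebraMap A B a))
    rw [← IsScalarTower.algebraMap_apply K K₁ M, ← IsScalarTower.algebraMap_apply A B L,
      IsScalarTower.algebraMap_apply A K L, ← IsScalarTower.algebraMap_apply K L M]
  have hAW : EtRam.Dominates A ((algebraMap K₁ M).comp (algebraMap A K₁)) W := by
    refine ⟨fun a => ?_, fun a ha => ?_⟩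
    · show algebraMap K₁ M (algebraMap A K₁ a) ∈ W
      rw [hcomp]; exact hW.1 _
    · show W.valuation (algebraMap K₁ M (algebraMap A K₁ a)) < 1
      rw [hcomp]
      exact hW.2 _ (((IsLocalRing.local_hom_TFAE (algebraMap A B)).out 0 2 rfl rfl).1 inferInstance
        (Ideal.mem_map_of_mem _ ha))
  obtain rfl := huniq _ (Groth.Agent.EtRamH7.dominates_comap (algebraMap K₁ M) hAW)
  letI algVW : Algebra (W.comap (algebraMap K₁ M)) W := (EtRam.inclOfComap W (algebraMap K₁ M)).toAlgebra
  show EtRam.IsWeaklyUnramified _ _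
  letI algAV : Algebra A (W.comap (algebraMap K₁ M)) := (RingHom.codRestrict _ _ hV.1).toAlgebra
  haveI : IsScalarTower A (W.comap (algebraMap K₁ M)) K₁ := IsScalarTower.of_algebraMap_eq fun _ => rfl
  let inc := EtRam.inclOfComap W (algebraMap K₁ M)
  let x : W := inc ϖ
  have hrel : ϖ ^ n = algebraMap A (W.comap (algebraMap K₁ M)) π *
      ∑ j : Fin n, algebraMap A (W.comap (algebraMap K₁ M)) (b j) * ϖ ^ (j : ℕ) := by
    rw [← sub_eq_zero]
    apply Subtype.val_injective
    have h := haev
    rw [show (ϖ : K₁) = algebraMap (W.comap (algebraMap K₁ M)) K₁ ϖ from rfl,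
      Polynomial.aeval_algebraMap_apply] at h
    simp only [Groth.Agent.EtRamH7.eisPoly, map_sub, map_mul, map_pow, map_sum, Polynomial.aeval_X,
      Polynomial.aeval_C] at h ⊢
    push_cast at h ⊢
    exact h
  have hϖm : ϖ ∈ IsLocalRing.maximalIdeal (W.comap (algebraMap K₁ M)) := by
    rw [hmax]; exact Ideal.mem_span_singleton_self _
  have hsu : IsUnit (∑ j : Fin n, algebraMap A (W.comap (algebraMap K₁ M)) (b j) * ϖ ^ (j : ℕ)) := by
    by_contra hns
    rw [← mem_nonunits_iff, ← IsLocalRing.mem_maximalIdeal,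
      ← Finset.add_sum_erase _ _ (Finset.mem_univ (⟨0, hn⟩ : Fin n))] at hns
    have hrest : (∑ j ∈ Finset.univ.erase (⟨0, hn⟩ : Fin n),
        algebraMap A (W.comap (algebraMap K₁ M)) (b j) * ϖ ^ (j : ℕ)) ∈
        IsLocalRing.maximalIdeal (W.comap (algebraMap K₁ M)) := by
      refine Ideal.sum_mem _ fun j hj => Ideal.mul_mem_left _ _ (Ideal.pow_mem_of_mem _ hϖm _ ?_)
      exact Nat.pos_of_ne_zero fun h => Finset.ne_of_mem_erase hj (Fin.ext h)
    have h0 := (Ideal.add_mem_iff_left _ hrest).1 hns
    simp only [pow_zero, mul_one] at h0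
    exact (IsLocalRing.mem_maximalIdeal _).1 h0 (hb0.map _)
  have hincA : inc (algebraMap A (W.comap (algebraMap K₁ M)) π) = algebraMap B W (algebraMap A B π) :=
    Subtype.ext (hcomp π)
  have hx : x ^ n = algebraMap B W (algebraMap A B π) *
      inc (∑ j : Fin n, algebraMap A (W.comap (algebraMap K₁ M)) (b j) * ϖ ^ (j : ℕ)) := by
    rw [← hincA, ← map_mul, ← hrel, map_pow]
  have hx0 : x ≠ 0 := by
    intro h
    have h1 : algebraMap K₁ M (ϖ : K₁) = 0 := congrArg Subtype.val h
    exact hϖ0 (Subtype.ext ((map_eq_zero _).1 h1))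
  have hxu : ¬ IsUnit x := fun h =>
    (IsLocalRing.mem_maximalIdeal ϖ).1 hϖm ((EtRam.isLocalHom_inclOfComap W (algebraMap K₁ M)).map_nonunit ϖ h)
  obtain ⟨ρ, hρ⟩ := IsDiscreteValuationRing.exists_irreducible W
  obtain ⟨k, u, hu⟩ := IsDiscreteValuationRing.eq_unit_mul_pow_irreducible hx0 hρ
  set eW := Ideal.ramificationIdx' (IsLocalRing.maximalIdeal B) (IsLocalRing.maximalIdeal W) with heW
  have hmapW := Groth.Agent.EtRamH7.map_maximalIdeal_eq_pow B W hinjW
  rw [← heW, hπB.maximalIdeal_eq, hρ.maximalIdeal_eq, Ideal.map_span, Set.image_singleton,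
    Ideal.span_singleton_pow, Ideal.span_singleton_eq_span_singleton] at hmapW
  have hassoc : Associated (ρ ^ (k * n)) (ρ ^ eW) := by
    refine Associated.trans ?_ hmapW
    have h1 : Associated (x ^ n) (algebraMap B W (algebraMap A B π)) := by
      rw [hx]; exact associated_mul_unit_left _ _ (hsu.map inc)
    refine Associated.trans ?_ h1
    rw [pow_mul]
    exact Associated.pow_pow (by rw [hu]; exact (associated_unit_mul_left _ _ u.isUnit).symm)
  have hke : k * n = eW := le_antisymm ((pow_dvd_pow_iff hρ.ne_zero hρ.not_isUnit).1 hassoc.dvd)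
    ((pow_dvd_pow_iff hρ.ne_zero hρ.not_isUnit).1 hassoc.dvd')
  have hk1 : k = 1 := by
    have h7 := Groth.Agent.S7132.result B W L M hinjW
    haveI := h7.1
    have h8 : eW ≤ n := le_trans (le_trans (Nat.le_mul_of_pos_right _ Module.finrank_pos) h7.2) hMn
    rw [← hke] at h8
    have hk : k ≠ 0 := by
      intro h0
      rw [h0, pow_zero, mul_one] at hu
      exact hxu (hu ▸ u.isUnit)
    have h9 : k ≤ 1 := Nat.le_of_mul_le_mul_right (by rwa [one_mul]) hn
    omega
  show Ideal.map inc (IsLocalRing.maximalIdeal _) = IsLocalRing.maximalIdeal W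
  rw [hmax, Ideal.map_span, Set.image_singleton, hρ.maximalIdeal_eq, Ideal.span_singleton_eq_span_singleton]
  show Associated x ρ
  rw [hu, hk1, pow_one]
  exact associated_unit_mul_left _ _ u.isUnit

end Groth.Agent.S1984
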