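import Groth.Statements.S19856
import Mathlib
import Groth.Agent.Lib.CI2.TameLinear

set_option autoImplicit false
universe u v
open CAlg

namespace Groth.Agent.S19856
open scoped TensorProduct

open IsLocalRing

/-- Ring-level form: let O be a discrete valuation ring and G a finite group acting faithfully on O by
ring automorphisms, such that every element of G acts trivially on the residue field of O (that is,
g • a - a lies in the maximal ideal for all a) and such that the order of G is nonzero in the
residue field of O. Then G is cyclic. (The source states this for a finite group of order invertible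
in an algebraically closed field k acting faithfully on a smooth connected k-variety and the
subgroup of elements fixing pointwise a codimension-one irreducible component of the ramification
locus, applied to the local ring at the generic point of that component; it is stated here for an
arbitrary discrete valuation ring with a faithful action. The source also shows that this subgroup
is nontrivial; that geometric part is not stated.) -/
theorem result
    (O : Type u) [CommRing O] [IsDomain O] [IsDiscreteValuationRing O]
    (G : Type v) [Group G] [Finite G] [MulSemiringAction G O] [FaithfulSMul G O]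
    (htriv : ∀ (g : G) (a : O), g • a - a ∈ IsLocalRing.maximalIdeal O)
    (hcard : ((Nat.card G : ℕ) : IsLocalRing.ResidueField O) ≠ 0) :
    IsCyclic G := by
  classical
  obtain ⟨π, hπ⟩ := IsDiscreteValuationRing.exists_irreducible O
  have hm := hπ.maximalIdeal_eq
  have hdiv : ∀ g : G, π ∣ g • π := fun g => by
    rw [← Ideal.mem_span_singleton, ← hm]
    have h := add_mem (htriv g π) (show π ∈ maximalIdeal O by rw [hm]; exact Ideal.mem_span_singleton_self π)
    rwa [sub_add_cancel] at h
  choose c hc using hdiv
  let χ : G →* ResidueField O :=
    { toFun := fun g => residue O (c g)
      map_one' := by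
        rw [show c 1 = 1 from mul_left_cancel₀ hπ.ne_zero (by rw [← hc, one_smul, mul_one]), map_one]
      map_mul' := fun g h => by
        have e : c (g * h) = c g * (g • c h) := mul_left_cancel₀ hπ.ne_zero (by
          rw [← hc, mul_smul, hc h, smul_mul', hc g, mul_assoc])
        rw [e, map_mul]
        congr 1
        rw [← sub_eq_zero, ← map_sub, residue_eq_zero_iff]
        exact htriv g (c h) }
  refine isCyclic_of_subgroup_isDomain χ ((MonoidHom.ker_eq_bot_iff χ).1 ((Subgroup.eq_bot_iff_forall _).2 fun g hg => ?_))
  refine FaithfulSMul.eq_of_smul_eq_smul (α := O) fun a => ?_
  rw [one_smul]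
  refine Groth.Agent.CI2.TameLinear.eq_self (MulSemiringAction.toRingHom G O g) (Nat.card G) ?_ (fun x => ?_)
    (htriv g) (fun x hx => ?_) a
  · rw [← IsLocalRing.residue_ne_zero_iff_isUnit, map_natCast]; exact hcard
  · have : ∀ m : ℕ, (MulSemiringAction.toRingHom G O g)^[m] x = g ^ m • x := by
      intro m; induction m with
      | zero => simp
      | succ m ih => rw [Function.iterate_succ_apply', ih, pow_succ', mul_smul]; rfl
    rw [this, pow_card_eq_one', one_smul]
  · rw [hm, Ideal.mem_span_singleton] at hx
    obtain ⟨b, rfl⟩ := hx
    show g • (π * b) - π * b ∈ _
    have hχ : residue O (c g) = 1 := hg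
    have h1 : c g - 1 ∈ maximalIdeal O := by rw [← residue_eq_zero_iff, map_sub, hχ, map_one, sub_self]
    rw [smul_mul', hc g, show π * c g * (g • b) - π * b = π * ((c g - 1) * (g • b) + (g • b - b)) by ring, pow_two]
    exact Ideal.mul_mem_mul (by rw [hm]; exact Ideal.mem_span_singleton_self π)
      (add_mem (Ideal.mul_mem_right _ _ h1) (htriv g b))

end Groth.Agent.S19856
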