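import Groth.Statements.S19859
import Groth.Agent.Lib.Dlz27.LocalExt
-- import your own Groth.Agent.* helpers here

set_option autoImplicit false
universe u
open CategoryTheory
attribute [local instance] HasDerivedCategory.standard
open Dual

namespace Groth.Agent.S19859

/-- Let A be a Noetherian local ring with a normalized dualizing complex ω (so the codimension function
of ω vanishes at the closed point) and M a nonzero finite A-module with support of dimension d. Then
Ext^{-d}(M, ω), the A-module of morphisms M → ω[-d] in D(A), is nonzero. (The source states this at
every point x of a locally Noetherian scheme with a dualizing complex, in the degree given by the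
codimension function at x minus the dimension of the stalk; localizing and shifting reduces to the
closed point of a local ring with a normalized complex, which is the form stated here.) -/
theorem result (A : Type u) [CommRing A] [IsLocalRing A]
    [IsNoetherianRing A] (ω : Dual.D A) (hω : Dual.IsDualizing A ω) (hn : Dual.IsNormalized A ω)
    (M : Type u) [AddCommGroup M] [Module A M] [Module.Finite A M] [Nontrivial M]
    (d : ℕ) (hd : Module.supportDim A M = d) :
    Nontrivial (Dual.inD A M ⟶ ω⟦(-(d : ℤ))⟧) := by
  exact Dlz27.nontrivial_hom_supportDim hω (Dlz27.model hω) hn M d hd

end Groth.Agent.S19859
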