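import Groth.Statements.S19860
import Groth.Agent.Lib.CMReg18.FlatReduced

set_option autoImplicit false
universe u
open CategoryTheory CategoryTheory.Limits AlgebraicGeometry
open Variety

open Groth.Agent Groth.Agent.CMReg18
namespace Groth.Agent.S19860

/-- Let A be a Noetherian local integral domain, f : X ⟶ Spec A a proper morphism, L an invertible
O_X-module ample relative to f and F a coherent O_X-module. Then F is flat over Spec A if and only
if the Hilbert polynomials of F on the generic fibre and on the closed fibre coincide: for every n ≥
0 the Euler characteristic, over the fraction field, of the pullback of F ⊗ L^{⊗n} to the fibre over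
the generic point equals the Euler characteristic, over the residue field, of its pullback to the
fibre over the closed point. (The source works with k-schemes of finite type over an algebraically
closed field of characteristic zero, A a local integral k-algebra and f projective with a relatively
very ample O(1); the argument uses only that A is a Noetherian local domain and that some power of L
is relatively very ample, so it is stated here for proper f with an f-ample L and no base field.) -/
theorem result
    (A : Type u) [CommRing A] [IsDomain A] [IsNoetherianRing A] [IsLocalRing A]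
    (X : Scheme.{u}) (f : X ⟶ Spec (CommRingCat.of A)) [IsProper f]
    (L : X.Modules) (hL : RelAmple.IsRelAmple f L) (F : X.Modules) (hF : Coh.IsCoh F) :
    FlatMod.IsFlatOver f F ↔
      ∀ n : ℕ,
        @Curv2.euler ((Spec (CommRingCat.of A)).residueField (⊥ : PrimeSpectrum A)) _ (f.fiber (⊥ : PrimeSpectrum A))
          ⟨f.fiberToSpecResidueField (⊥ : PrimeSpectrum A)⟩
          ((Scheme.Modules.pullback (f.fiberι (⊥ : PrimeSpectrum A))).obj (CohB1.tensorMod F (CohB1.tensorPow L n))) =
        @Curv2.euler ((Spec (CommRingCat.of A)).residueField (IsLocalRing.closedPoint A)) _ (f.fiber (IsLocalRing.closedPoint A))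
          ⟨f.fiberToSpecResidueField (IsLocalRing.closedPoint A)⟩
          ((Scheme.Modules.pullback (f.fiberι (IsLocalRing.closedPoint A))).obj (CohB1.tensorMod F (CohB1.tensorPow L n))) := by
  haveI : LocallyOfFinitePresentation f := inferInstance
  haveI : IsLocallyNoetherian X := LocallyOfFiniteType.isLocallyNoetherian f
  have hη : ∀ s : ↥(Spec (CommRingCat.of A)), (⊥ : PrimeSpectrum A) ⤳ s := fun s =>
    (PrimeSpectrum.le_iff_specializes (⊥ : PrimeSpectrum A) s).1 bot_le
  have hc : ∀ s : ↥(Spec (CommRingCat.of A)), s ⤳ IsLocalRing.closedPoint A := fun s =>
    IsLocalRing.specializes_closedPoint s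
  have hFp := M1.isFP_of_isCoh hF
  refine ⟨fun hfl n => ?_, fun h => isFlatOver_of_locallyConstant f hL hF fun s => ⟨⊤, trivial, fun s' _ n => ?_⟩⟩
  · obtain ⟨U, hU0, hU⟩ := exists_nhd_fibChi_eq f hFp hfl 1 (fun _ => L)
      (fun _ => RA.isInvertible_of_isRelAmple f hL) (IsLocalRing.closedPoint A)
    exact congrFun (hU _ ((hη _).mem_open U.isOpen hU0)) (fun _ => n)
  · exact (fibChi_eq_of_two_points f hL hFp hη hc h s' n).trans (fibChi_eq_of_two_points f hL hFp hη hc h s n).symm

end Groth.Agent.S19860
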