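import Groth.Statements.S19864
import Groth.Agent.Lib.FSFlat3.RegularHom
import Groth.Agent.Lib.CplDomain.GRing

set_option autoImplicit false
universe u
open CAlg

namespace Groth.Agent.S19864

open scoped TensorProduct

theorem isRegularLocalRing_tensor (A B : Type u) [CommRing A] [CommRing B] [Algebra A B] (k' : Type u) [CommRing k'] [Algebra A k']
    (Q : Ideal (k' ⊗[A] B)) [Q.IsPrime] (q : Ideal B) [q.IsPrime]
    (hq : q = Q.comap (Algebra.TensorProduct.includeRight : B →ₐ[A] k' ⊗[A] B))
    [IsRegularRing (k' ⊗[A] Localization.AtPrime q)] : IsRegularLocalRing (Localization.AtPrime Q) := by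
  let S := k' ⊗[A] B
  let f : S →ₐ[k'] k' ⊗[A] Localization.AtPrime q :=
    Algebra.TensorProduct.map (AlgHom.id k' k') (IsScalarTower.toAlgHom A B (Localization.AtPrime q))
  letI : Algebra S (k' ⊗[A] Localization.AtPrime q) := f.toRingHom.toAlgebra
  haveI : IsScalarTower k' S (k' ⊗[A] Localization.AtPrime q) := .of_algebraMap_eq fun x => (f.commutes x).symm
  haveI := IsLocalization.tensorProduct_tensorProduct_right A k' q.primeCompl (Localization.AtPrime q)
    (RingHom.ext fun x => by
      show f (1 ⊗ₜ x) = _
      exact Algebra.TensorProduct.map_tmul _ _ _ _)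
  let M := q.primeCompl.map (Algebra.TensorProduct.includeRight (R := A) (A := k') (B := B))
  have hM : M ≤ Q.primeCompl := by
    rintro _ ⟨b, hb, rfl⟩ h
    exact hb (hq ▸ h)
  let Q' := Q.map (algebraMap S (k' ⊗[A] Localization.AtPrime q))
  have hdisj : Disjoint (M : Set S) (Q : Set S) := Set.disjoint_left.2 fun x hx hx' => hM hx hx'
  haveI : Q'.IsPrime := IsLocalization.isPrime_of_isPrime_disjoint M _ Q ‹_› hdisj
  have hc : Q'.comap (algebraMap S (k' ⊗[A] Localization.AtPrime q)) = Q :=
    IsLocalization.comap_map_of_isPrime_disjoint M _ ‹_› hdisj
  haveI : IsRegularLocalRing (Localization.AtPrime Q') := inferInstance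
  haveI h1 := IsLocalization.isLocalization_isLocalization_atPrime_isLocalization M (Localization.AtPrime Q') Q'
  have e : (Q'.comap (algebraMap S (k' ⊗[A] Localization.AtPrime q))).primeCompl = Q.primeCompl := by
    ext x
    show x ∉ Q'.comap _ ↔ x ∉ Q
    rw [hc]
  have h2 : IsLocalization Q.primeCompl (Localization.AtPrime Q') := e ▸ h1
  exact IsRegularLocalRing.of_ringEquiv (R := Localization.AtPrime Q')
    (IsLocalization.algEquiv Q.primeCompl (Localization.AtPrime Q') (Localization.AtPrime Q)).toRingEquiv

/-- Let A and B be Noetherian rings and B an A-algebra. Then A → B is a regular homomorphism (flat with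
Noetherian, geometrically regular fibres) if and only if for every prime q of B lying over the prime
p of A the induced local homomorphism A_p → B_q is formally smooth for the adic topologies of the
maximal ideals (equivalently, for the adic topology of the maximal ideal of B_q). -/
theorem result (A B : Type u)
    [CommRing A] [CommRing B] [Algebra A B] [IsNoetherianRing A] [IsNoetherianRing B] :
    CAlg.IsRegularHom A B ↔
      ∀ (q : Ideal B) [q.IsPrime],
        letI := (Localization.localRingHom (Ideal.comap (algebraMap A B) q) q (algebraMap A B) rfl).toAlgebra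
        CAlgX.IsAdicFormallySmooth (Localization.AtPrime (Ideal.comap (algebraMap A B) q))
          (Localization.AtPrime q) (IsLocalRing.maximalIdeal (Localization.AtPrime q)) := by
  constructor
  · rintro ⟨hflat, h⟩ q _
    letI := (Localization.localRingHom (Ideal.comap (algebraMap A B) q) q (algebraMap A B) rfl).toAlgebra
    haveI := hflat
    haveI : IsScalarTower A (Localization.AtPrime (Ideal.comap (algebraMap A B) q)) (Localization.AtPrime q) :=
      .of_algebraMap_eq fun x => by
        rw [IsScalarTower.algebraMap_apply A B (Localization.AtPrime q)]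
        exact (Localization.localRingHom_to_map _ _ _ rfl x).symm
    exact FSFlat3.isAdicFormallySmooth_localization _ q rfl (h _).2
  · intro h
    have key : ∀ (q : Ideal B) [q.IsPrime] (r : Ideal A) [r.IsPrime], r = q.comap (algebraMap A B) →
        ∀ (k' : Type u) [Field k'] [Algebra r.ResidueField k'] [Algebra A k'] [IsScalarTower A r.ResidueField k'],
          Module.Finite r.ResidueField k' →
          IsRegularRing (k' ⊗[A] Localization.AtPrime q) ∧ Module.Flat A (Localization.AtPrime q) := by
      intro q _ r _ hr k' _ _ _ _ hfin
      subst hr
      letI := (Localization.localRingHom (Ideal.comap (algebraMap A B) q) q (algebraMap A B) rfl).toAlgebra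
      haveI : IsScalarTower A (Localization.AtPrime (Ideal.comap (algebraMap A B) q)) (Localization.AtPrime q) :=
        .of_algebraMap_eq fun x => by
          rw [IsScalarTower.algebraMap_apply A B (Localization.AtPrime q)]
          exact (Localization.localRingHom_to_map _ _ _ rfl x).symm
      exact FSFlat3.isRegularRing_tensor_localization_of_isAdicFormallySmooth _ q rfl (h q) k' hfin
    refine ⟨?_, fun p _ => ⟨CplDomain.isNoetherianRing_tensor_essFiniteType A B p.ResidueField, fun k' _ _ hfin => ?_⟩⟩
    · refine Module.flat_of_isLocalized_maximal B B (fun m [m.IsMaximal] => Localization.AtPrime m)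
        (fun m _ => Algebra.linearMap B _) fun m _ => (key m _ rfl (m.comap (algebraMap A B)).ResidueField inferInstance).2
    · letI : Algebra A k' := ((algebraMap p.ResidueField k').comp (algebraMap A _)).toAlgebra
      haveI : IsScalarTower A p.ResidueField k' := .of_algebraMap_eq fun _ => rfl
      haveI : IsRegularRing (k' ⊗[A] B) := by
        haveI : IsNoetherianRing (k' ⊗[A] B) := by
          haveI : Algebra.EssFiniteType A p.ResidueField := inferInstance
          haveI : Algebra.EssFiniteType A k' := Algebra.EssFiniteType.comp A p.ResidueField k'
          exact CplDomain.isNoetherianRing_tensor_essFiniteType A B k'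
        refine (isRegularRing_iff).2 fun Q _ => ?_
        let q := Q.comap (Algebra.TensorProduct.includeRight : B →ₐ[A] k' ⊗[A] B)
        have hq : q.comap (algebraMap A B) = p := by
          ext a
          show (1 : k') ⊗ₜ[A] algebraMap A B a ∈ Q ↔ a ∈ p
          rw [Algebra.algebraMap_eq_smul_one, ← TensorProduct.smul_tmul, Algebra.smul_def, mul_one,
            IsScalarTower.algebraMap_apply A p.ResidueField k']
          constructor
          · intro ha
            by_contra hap
            have hne : algebraMap A p.ResidueField a ≠ 0 := fun h0 => hap (Ideal.algebraMap_residueField_eq_zero.1 h0)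
            have hu : IsUnit (algebraMap p.ResidueField k' (algebraMap A p.ResidueField a)) := (IsUnit.mk0 _ hne).map _
            exact (‹Q.IsPrime›).ne_top (Ideal.eq_top_of_isUnit_mem _ ha
              (hu.map (Algebra.TensorProduct.includeLeft : k' →ₐ[A] k' ⊗[A] B)))
          · intro ha
            rw [Ideal.algebraMap_residueField_eq_zero.2 ha, map_zero, TensorProduct.zero_tmul]
            exact Q.zero_mem
        haveI := (key q p hq.symm k' hfin).1
        exact isRegularLocalRing_tensor A B k' Q q rfl
      exact IsRegularRing.of_ringEquiv (Algebra.TensorProduct.cancelBaseChange A p.ResidueField p.ResidueField k' B).symm.toRingEquiv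

end Groth.Agent.S19864
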