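import Groth.Statements.S19868
import Groth.Agent.Lib.PLie23.Jacobson
import Mathlib.Algebra.DualNumber
import Mathlib.Tactic.LinearCombination

set_option autoImplicit false
universe u v
open PLie

namespace Groth.Agent.S19868

open scoped DualNumber
open TrivSqZeroExt

open DualNumber in
/-- Let K be a field of prime characteristic p, K[ε] the ring of dual numbers (taken with its
characteristic-p structure) and a, …, i ∈ K. Let L be a Lie algebra over K[ε], free as a module with
basis x = bs 0, y = bs 1, z = bs 2 and brackets [x,y] = aε x + bε y + cε z, [x,z] = dε x + eε y + fε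
z, [y,z] = (1 + gε) x + hε y + iε z, a first-order deformation of the Heisenberg algebra (the Jacobi
identity forces b + f = 0). Then L carries a p-mapping over K[ε] if and only if b = c = e = 0 when p
= 2; for odd p there is no condition. (The published statement is about the singularity of the point
h_3 in the restrictable locus of the rank-one-centre stratum of the moduli scheme of based
three-dimensional Lie algebras over the prime field; this row states the restrictability criterion
for the first-order deformations of h_3 asserted in its proof, over any field of characteristic p in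
place of the prime field.) -/
theorem result (K : Type u) [Field K] (p : ℕ) [Fact p.Prime] [CharP K p]
    [CharP (DualNumber K) p] (a b c d e f g h i : K)
    (L : Type v) [LieRing L] [LieAlgebra (DualNumber K) L] (bs : Module.Basis (Fin 3) (DualNumber K) L)
    (hxy : ⁅bs 0, bs 1⁆ = (a • ε : DualNumber K) • bs 0 + (b • ε : DualNumber K) • bs 1 + (c • ε : DualNumber K) • bs 2)
    (hxz : ⁅bs 0, bs 2⁆ = (d • ε : DualNumber K) • bs 0 + (e • ε : DualNumber K) • bs 1 + (f • ε : DualNumber K) • bs 2)
    (hyz : ⁅bs 1, bs 2⁆ = (1 + g • ε : DualNumber K) • bs 0 + (h • ε : DualNumber K) • bs 1 + (i • ε : DualNumber K) • bs 2) :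
    Nonempty (PLie.PMap (DualNumber K) p L) ↔ (p = 2 → b = 0 ∧ c = 0 ∧ e = 0) := by

  have hp := (Fact.out : p.Prime)
  have hyx : ⁅bs 1, bs 0⁆ = -⁅bs 0, bs 1⁆ := (lie_skew _ _).symm
  have hzx : ⁅bs 2, bs 0⁆ = -⁅bs 0, bs 2⁆ := (lie_skew _ _).symm
  have hzy : ⁅bs 2, bs 1⁆ = -⁅bs 1, bs 2⁆ := (lie_skew _ _).symm
  -- Jacobi
  have hbf : b + f = 0 := by
    have hJ := lie_jacobi (bs 0) (bs 1) (bs 2)
    have := congrArg (fun v => (bs.repr v 0).snd) hJ
    simp [hxy, hxz, hyz, hyx, hzx, hzy] at this
    linear_combination (norm := ring) (-1 : K) * this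
  set Y := LieAlgebra.ad (DualNumber K) L (bs 1) with hY
  set Z := LieAlgebra.ad (DualNumber K) L (bs 2) with hZ
  have hX2 : (LieAlgebra.ad (DualNumber K) L (bs 0)) ^ 2 = 0 := by
    refine bs.ext fun j => bs.ext_elem fun k => ?_
    fin_cases j <;> fin_cases k <;> ext <;> simp [pow_two, hxy, hxz, hyz, hyx, hzx, hzy]
  have hY20 : (Y ^ 2) (bs 0) = (-(c • ε) : DualNumber K) • bs 0 := by
    refine bs.ext_elem fun k => ?_
    fin_cases k <;> ext <;> simp [hY, pow_two, hxy, hxz, hyz, hyx, hzx, hzy]
  have hY21 : (Y ^ 2) (bs 1) = 0 := by simp [hY, pow_two]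
  have hY22 : (Y ^ 2) (bs 2) = ((i - a) • ε : DualNumber K) • bs 0
      + (-(b • ε) : DualNumber K) • bs 1 + (-(c • ε) : DualNumber K) • bs 2 := by
    refine bs.ext_elem fun k => ?_
    fin_cases k <;> ext <;> simp [hY, pow_two, hxy, hxz, hyz, hyx, hzx, hzy] <;> ring
  have hZ20 : (Z ^ 2) (bs 0) = (e • ε : DualNumber K) • bs 0 := by
    refine bs.ext_elem fun k => ?_
    fin_cases k <;> ext <;> simp [hZ, pow_two, hxy, hxz, hyz, hyx, hzx, hzy]
  have hZ21 : (Z ^ 2) (bs 1) = ((h + d) • ε : DualNumber K) • bs 0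
      + (e • ε : DualNumber K) • bs 1 + (f • ε : DualNumber K) • bs 2 := by
    refine bs.ext_elem fun k => ?_
    fin_cases k <;> ext <;> simp [hZ, pow_two, hxy, hxz, hyz, hyx, hzx, hzy] <;> ring
  have hZ22 : (Z ^ 2) (bs 2) = 0 := by simp [hZ, pow_two]
  have hY4 : Y ^ 4 = 0 := by
    refine bs.ext fun j => bs.ext_elem fun k => ?_
    rw [show (4 : ℕ) = 2 + 2 from rfl, pow_add, Module.End.mul_apply]
    fin_cases j <;> fin_cases k <;> ext <;> simp [hY20, hY21, hY22]
  have hZ4 : Z ^ 4 = 0 := by
    refine bs.ext fun j => bs.ext_elem fun k => ?_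
    rw [show (4 : ℕ) = 2 + 2 from rfl, pow_add, Module.End.mul_apply]
    fin_cases j <;> fin_cases k <;> ext <;> simp [hZ20, hZ21, hZ22]
  constructor
  · rintro ⟨φ⟩ rfl
    have main : ∀ (i' j : Fin 3) (k : Fin 3),
        bs.repr ((LieAlgebra.ad (DualNumber K) L (bs i') ^ 2) (bs j)) k =
        bs.repr (⁅∑ l, (bs.repr (φ.toFun (bs i')) l) • bs l, bs j⁆) k := by
      intro i' j k
      rw [bs.sum_repr, Groth.Agent.PLie23.ad_pow_lie]
    set u := fun (i' l : Fin 3) => bs.repr (φ.toFun (bs i')) l with hu
    simp only [Fin.sum_univ_three, add_lie, smul_lie, ← hu] at main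
    have A1 := congrArg TrivSqZeroExt.fst (main 1 1 0)
    have A2 := congrArg TrivSqZeroExt.fst (main 1 2 0)
    have A3 := congrArg TrivSqZeroExt.snd (main 1 0 0)
    have A4 := congrArg TrivSqZeroExt.snd (main 1 1 1)
    have A5 := congrArg TrivSqZeroExt.snd (main 1 2 1)
    have B1 := congrArg TrivSqZeroExt.fst (main 2 1 0)
    have B2 := congrArg TrivSqZeroExt.fst (main 2 2 0)
    have B3 := congrArg TrivSqZeroExt.snd (main 2 0 0)
    rw [← hY] at A1 A2 A3 A4 A5
    rw [← hZ] at B1 B2 B3
    simp [hY20, hY21, hY22, hZ20, hZ21, hZ22, hxy, hxz, hyz, hyx, hzx, hzy] at A1 A2 A3 A4 A5 B1 B2 B3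
    set w0 := (bs.repr (φ.toFun (bs 1)) 0).fst
    have hc : c = 0 := by simpa [A1, A2.symm] using A3
    have he : e = 0 := by simpa [B1, B2.symm] using B3
    refine ⟨?_, hc, he⟩
    simpa [A1, A2.symm, he] using A5
  · intro hcond
    let y : Fin 3 → L := fun j =>
      if p = 2 then ![0, ((i - a) • ε : DualNumber K) • bs 1, ((-(h + d)) • ε : DualNumber K) • bs 2] j
      else if p = 3 then ![0, ((-c) • ε : DualNumber K) • bs 1, (e • ε : DualNumber K) • bs 2] j
      else 0
    obtain ⟨φ, -⟩ := Groth.Agent.PLie23.exists_pMap_of_basis bs y (p := p) fun j => by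
      simp only [y]
      split_ifs with h2 h3
      · subst h2
        obtain ⟨rfl, rfl, rfl⟩ := hcond rfl
        rw [zero_add] at hbf
        subst hbf
        fin_cases j
        · show (LieAlgebra.ad (DualNumber K) L (bs 0)) ^ 2 = _
          simp [hX2]
        · show Y ^ 2 = _
          refine bs.ext fun j => bs.ext_elem fun k => ?_
          fin_cases j <;> fin_cases k <;> ext <;>
            simp [hY20, hY21, hY22, hxy, hxz, hyz, hyx, hzx, hzy]
        · show Z ^ 2 = _
          refine bs.ext fun j => bs.ext_elem fun k => ?_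
          fin_cases j <;> fin_cases k <;> ext <;>
            simp [hZ20, hZ21, hZ22, hxy, hxz, hyz, hyx, hzx, hzy]
      · subst h3
        fin_cases j
        · show (LieAlgebra.ad (DualNumber K) L (bs 0)) ^ 3 = _
          simp [pow_eq_zero_of_le (by norm_num : 2 ≤ 3) hX2]
        · show Y ^ 3 = _
          refine bs.ext fun j => bs.ext_elem fun k => ?_
          rw [pow_succ' Y 2, Module.End.mul_apply, show ∀ z, Y z = ⁅bs 1, z⁆ from fun _ => rfl]
          fin_cases j <;> fin_cases k <;> ext <;>
            simp [hY20, hY21, hY22, hxy, hxz, hyz, hyx, hzx, hzy]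
        · show Z ^ 3 = _
          refine bs.ext fun j => bs.ext_elem fun k => ?_
          rw [pow_succ' Z 2, Module.End.mul_apply, show ∀ z, Z z = ⁅bs 2, z⁆ from fun _ => rfl]
          fin_cases j <;> fin_cases k <;> ext <;>
            simp [hZ20, hZ21, hZ22, hxy, hxz, hyz, hyx, hzx, hzy]
      · have hp4 : 4 ≤ p := by have := hp.two_le; omega
        rw [map_zero]
        fin_cases j
        · exact pow_eq_zero_of_le (by omega) hX2
        · exact pow_eq_zero_of_le hp4 hY4
        · exact pow_eq_zero_of_le hp4 hZ4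
    exact ⟨φ⟩


end Groth.Agent.S19868
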