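import Groth.Statements.S19871
import Groth.Agent.Lib.WeilH13.Corr

set_option autoImplicit false
set_option backward.isDefEq.respectTransparency.types false
universe u v
open CategoryTheory AlgebraicGeometry
open WeilCoh

namespace Groth.Agent.S19871

/-- Let `H` be a Weil cohomology theory with coefficients in a field `K` of characteristic zero on
nonsingular connected projective varieties over an algebraically closed field `k`; let `X`, `Y` be
such varieties and `P` a product `X × Y` with projections `p`, `q`, of dimension `dim X + dim Y`.
For an integer `r`, sending a class `φ ∈ H^{2 dim X + r}(P)` to the family, indexed by all integers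
`i`, of the `K`-linear maps `H^i(X) → H^{i+r}(Y)`, `x ↦ q_*(p^* x ∪ φ)`, is a bijection from `H^{2
dim X + r}(P)` onto the families of linear maps `(H^i(X) → H^{i+r}(Y))_i`, i.e. onto the degree-`r`
homomorphisms of graded vector spaces from `H•(X)` to `H•(Y)` (the factors with `i` outside `[0, 2
dim X]` are zero). The target degree is written `i + (2 dim X + r) + 2 dim Y − 2 dim P`, the
indexing of the push-forward; it equals `i + r` by the dimension hypothesis. (The published lemma
states a canonical isomorphism `Hom^r(H•X, H•Y) ≅ H^{2 dim X + r}(X × Y)(dim X)` obtained from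
Poincaré duality on `X` and the Künneth formula, for smooth projective varieties over an arbitrary
field with Tate twists; this row is its case of connected varieties over an algebraically closed
field, without twists, with the isomorphism written as the action of a class by pull-back, cup
product and push-forward.) -/
theorem result (k : Type u) [Field k] [IsAlgClosed k] (K : Type v) [Field K] [CharZero K]
    (T : WeilCoh.Theory k K) (X Y P : WeilCoh.Var k) (p : P ⟶ X) (q : P ⟶ Y) (hP : WeilCoh.IsProd p q)
    (hdim : WeilCoh.dim P.obj.left = WeilCoh.dim X.obj.left + WeilCoh.dim Y.obj.left) (r : ℤ) :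
    Function.Bijective (fun φ : ↥(T.gr P (2 * (WeilCoh.dim X.obj.left : ℤ) + r)) => fun i : ℤ =>
      (T.push q (i + (2 * (WeilCoh.dim X.obj.left : ℤ) + r))) ∘ₗ
        ((LinearMap.mulRight K (φ : T.H P)).restrict (p := T.gr P i) (q := T.gr P (i + (2 * (WeilCoh.dim X.obj.left : ℤ) + r)))
          (fun x hx => SetLike.mul_mem_graded hx φ.2)) ∘ₗ
        (T.pullDeg p i)) := by
  constructor
  · intro φ ψ h
    have h0 : φ - ψ = 0 := Groth.Agent.WeilH13.act_injective T hP _ fun i ↦ by
      have h1 := Groth.Agent.WeilH13.act_add T p q (2 * (WeilCoh.dim X.obj.left : ℤ) + r) i ψ (φ - ψ)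
      rw [add_sub_cancel] at h1
      have h2 : Groth.Agent.WeilH13.act T p q (2 * (WeilCoh.dim X.obj.left : ℤ) + r) i φ =
          Groth.Agent.WeilH13.act T p q (2 * (WeilCoh.dim X.obj.left : ℤ) + r) i ψ := congrFun h i
      rw [h2] at h1
      refine LinearMap.ext fun x ↦ ?_
      have h3 := LinearMap.congr_fun h1 x
      rw [LinearMap.add_apply] at h3
      exact left_eq_add.1 h3
    exact sub_eq_zero.1 h0
  · intro g
    obtain ⟨φ, hφ⟩ := Groth.Agent.WeilH13.act_surjective T hP g
    exact ⟨φ, funext hφ⟩

end Groth.Agent.S19871
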