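import Groth.Statements.S19878
import Groth.Agent.Lib.BlowUpExist.Local
import Mathlib

set_option autoImplicit false
universe u
open LVCorr

namespace Groth.Agent.S19878

open AlgebraicGeometry CategoryTheory CategoryTheory.Limits in
/-- Let k be a field, C a k-scheme of finite type, X a k-scheme and c = (c₁, c₂) : C → X ×_k X a
correspondence; let Fix(c) = C ×_{X ×_k X} X be its scheme of fixed points (pullback along the
diagonal), with projections i : Fix(c) → C and δ : Fix(c) → X. Let Z ⊂ X be the closed subscheme of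
a quasi-coherent ideal I and suppose c is contracting near Z in a neighbourhood of the fixed points:
there is an open W ⊆ C containing the image of Fix(c) such that on W the inverse image ideal of I
under c₁ is contained in the inverse image ideal of I under c₂ (c stabilizes Z on W) and some power
(I·O_W via c₁)^k₀ is contained in (I·O_W via c₂)^(k₀+1). Then every connected open subset β of
Fix(c) whose image under δ meets Z is contained, as a set, in δ⁻¹(Z). (The source works with
separated schemes of finite type over an algebraically closed field; this row assumes only that C is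
of finite type over a field k.) -/
theorem result {C X Fx : Scheme.{u}} (k : Type u) [Field k]
    (pC : C ⟶ Spec (CommRingCat.of k)) [LocallyOfFiniteType pC] [QuasiCompact pC]
    (pX : X ⟶ Spec (CommRingCat.of k)) (c₁ c₂ : C ⟶ X) (hc : c₁ ≫ pX = c₂ ≫ pX)
    (i : Fx ⟶ C) (δ : Fx ⟶ X) (hF : IsPullback i δ (pullback.lift c₁ c₂ hc) (pullback.diagonal pX))
    (I : X.IdealSheafData) (W : C.Opens) (hW : Set.range i.base ⊆ (W : Set C))
    (hle : I.comap (W.ι ≫ c₁) ≤ I.comap (W.ι ≫ c₂))
    (k₀ : ℕ) (hpow : I.comap (W.ι ≫ c₁) ^ k₀ ≤ I.comap (W.ι ≫ c₂) ^ (k₀ + 1))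
    (β : Fx.Opens) (hβ : _root_.IsConnected (β : Set Fx))
    (hβZ : (δ.base '' (β : Set Fx) ∩ (I.support : Set X)).Nonempty) :
    (β : Set Fx) ⊆ δ.base ⁻¹' (I.support : Set X) := by

  have hδ : ∀ c : C ⟶ X, (∀ (w : pullback.lift c₁ c₂ hc ≫ pullback.fst pX pX = c ∨ pullback.lift c₁ c₂ hc ≫ pullback.snd pX pX = c), i ≫ c = δ) := by
    intro c w
    rcases w with w | w <;> rw [← w, reassoc_of% hF.w] <;> simp
  have hδ₁ : i ≫ c₁ = δ := hδ c₁ (Or.inl (pullback.lift_fst _ _ _))
  have hδ₂ : i ≫ c₂ = δ := hδ c₂ (Or.inr (pullback.lift_snd _ _ _))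
  have hi : Set.range i.base ⊆ Set.range W.ι.base := by
    rw [Scheme.Opens.range_ι]
    exact hW
  let l := IsOpenImmersion.lift W.ι i hi
  have hl : l ≫ W.ι = i := IsOpenImmersion.lift_fac _ _ _
  let J := I.comap δ
  have hJ : J ^ k₀ ≤ J ^ (k₀ + 1) := by
    have h := Scheme.IdealSheafData.comap_mono l hpow
    simp only [BlowUpExist.comap_pow, ← Scheme.IdealSheafData.comap_comp, ← Category.assoc, hl, hδ₁, hδ₂] at h
    exact h
  haveI : IsLocallyNoetherian C := LocallyOfFiniteType.isLocallyNoetherian pC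
  haveI : LocallyOfFiniteType i :=
    MorphismProperty.of_isPullback hF.flip (inferInstance : LocallyOfFiniteType (pullback.diagonal pX))
  haveI : IsLocallyNoetherian Fx := LocallyOfFiniteType.isLocallyNoetherian i
  have hopen : IsOpen (J.support : Set Fx) := by
    refine isOpen_iff_forall_mem_open.2 fun x hx => ?_
    obtain ⟨U, hU, hxU, -⟩ := exists_isAffineOpen_mem_and_subset (X := Fx) (x := x) (U := ⊤) trivial
    let U' : Fx.affineOpens := ⟨U, hU⟩
    haveI : IsNoetherianRing Γ(Fx, U) := IsLocallyNoetherian.component_noetherian U'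
    have hle' : (J.ideal U') ^ k₀ ≤ (J.ideal U') ^ (k₀ + 1) := hJ U'
    have hmem : ∀ y ∈ U, (y ∈ J.support ↔ ∀ s ∈ J.ideal U', y ∉ Fx.basicOpen s) := fun y hy => by
      rw [Scheme.IdealSheafData.mem_support_iff_of_mem (U := U') hy]
      exact Scheme.mem_zeroLocus_iff Fx _ y
    rcases Nat.eq_zero_or_pos k₀ with rfl | hk
    · exfalso
      rw [pow_zero, pow_one, Ideal.one_eq_top, top_le_iff] at hle'
      have h1 := (hmem x hxU).1 hx 1 (by rw [hle']; trivial)
      rw [Scheme.basicOpen_of_isUnit _ isUnit_one] at h1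
      exact h1 hxU
    have hidem : IsIdempotentElem ((J.ideal U') ^ k₀) := by
      have hst : ∀ m, (J.ideal U') ^ k₀ ≤ (J.ideal U') ^ (k₀ + m) := fun m => by
        induction m with
        | zero => exact le_rfl
        | succ m ih =>
          refine ih.trans ?_
          have := Ideal.mul_mono_left (K := (J.ideal U') ^ m) hle'
          rw [← pow_add, ← pow_add, show k₀ + 1 + m = k₀ + (m + 1) by ring] at this
          exact this
      exact le_antisymm Ideal.mul_le_right (by rw [← pow_add]; exact hst k₀)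
    obtain ⟨e, he, hspan⟩ := (Ideal.isIdempotentElem_iff_of_fg _ (IsNoetherian.noetherian _)).1 hidem
    have hbot : Fx.basicOpen e ⊓ Fx.basicOpen (1 - e) = ⊥ := by
      rw [← Scheme.basicOpen_mul, he.mul_one_sub_self, Scheme.basicOpen_zero]
    refine ⟨Fx.basicOpen (1 - e), fun y hy => ?_, (Fx.basicOpen (1 - e)).2, ?_⟩
    · have hyU : y ∈ U := Fx.basicOpen_le _ hy
      refine (hmem y hyU).2 fun s hs hys => ?_
      have hs' : s ^ k₀ ∈ (J.ideal U') ^ k₀ := Ideal.pow_mem_pow hs k₀
      rw [hspan] at hs'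
      obtain ⟨t, ht⟩ := Ideal.mem_span_singleton'.1 hs'
      have h1 : y ∈ Fx.basicOpen (s ^ k₀) := by rwa [Scheme.basicOpen_pow _ _ hk]
      rw [← ht, Scheme.basicOpen_mul] at h1
      exact (hbot.le ⟨h1.2, hy⟩ : y ∈ (⊥ : Fx.Opens))
    · have hex : x ∉ Fx.basicOpen e := fun h => by
        have he' : e ∈ J.ideal U' := Ideal.pow_le_self hk.ne' (hspan ▸ Ideal.mem_span_singleton_self e)
        exact (hmem x hxU).1 hx e he' h
      rw [Scheme.mem_basicOpen _ _ x hxU] at hex
      show x ∈ Fx.basicOpen (1 - e)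
      rw [Scheme.mem_basicOpen _ _ x hxU, map_sub, map_one]
      exact (IsLocalRing.isUnit_or_isUnit_one_sub_self _).resolve_left hex
  have hsupp : (J.support : Set Fx) = δ.base ⁻¹' (I.support : Set X) := by
    rw [Scheme.IdealSheafData.support_comap]; rfl
  rw [← hsupp]
  obtain ⟨_, ⟨b, hb, rfl⟩, hbZ⟩ := hβZ
  exact hβ.isPreconnected.subset_isClopen ⟨J.support.isClosed, hopen⟩ ⟨b, hb, by rw [hsupp]; exact hbZ⟩

end Groth.Agent.S19878
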