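import Groth.Statements.S19879
import Groth.Agent.Lib.SectionCompOpen4
import Groth.Agent.S18397
import Groth.Agent.S19878

set_option autoImplicit false
universe u
open LVCorr

namespace Groth.Agent.S19879

open AlgebraicGeometry CategoryTheory CategoryTheory.Limits in
/-- Let k₀ be a finite field with p^e elements, K an algebraic closure of k₀, C₀ a scheme of finite type
over k₀, C = C₀ ×_{k₀} Spec K with its projections, and Fr : C → C the n-th power of the geometric
Frobenius (over K, compatible with the (e·n)-th power of the absolute p-Frobenius of C₀). Let X be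
locally of finite type over K and c₁, c₂ : C → X morphisms over K with c₂ locally quasi-finite, and
let d < p^(e n) be such that for every closed point x of X, with J_x the inverse image under c₂ of
the ideal sheaf of the reduced point x, one has (√J_x)^d ⊂ J_x (so p^(e n) exceeds the ramification
degree of c₂). Then the scheme of fixed points of the twisted correspondence (c₁ ∘ Fr, c₂), namely
the pullback of (c₁ ∘ Fr, c₂) : C → X ×_K X along the diagonal of X, has finite and discrete
underlying topological space. (In the source X, c₁ and c₂ are also defined over k₀ and all schemes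
are separated; neither is needed here.) -/
theorem result {C C₀ X Fx : Scheme.{u}}
    (p : ℕ) [Fact p.Prime] (k₀ : Type u) [Field k₀] [Fintype k₀] [CharP k₀ p] (e : ℕ)
    (hq : Fintype.card k₀ = p ^ e) (K : Type u) [Field K] [Algebra k₀ K] [IsAlgClosure k₀ K]
    (f₀ : C₀ ⟶ Spec (CommRingCat.of k₀)) [LocallyOfFiniteType f₀] [QuasiCompact f₀] [FrobSch.IsCharP C₀ p]
    (πC₀ : C ⟶ C₀) (πK : C ⟶ Spec (CommRingCat.of K))
    (hC : IsPullback πC₀ πK f₀ (Spec.map (CommRingCat.ofHom (algebraMap k₀ K))))
    (n : ℕ) (Fr : C ⟶ C)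
    (hFr₀ : Fr ≫ πC₀ = πC₀ ≫ End.asHom (End.of (FrobSch.frob C₀ p) ^ (e * n)))
    (hFrK : Fr ≫ πK = πK)
    (pX : X ⟶ Spec (CommRingCat.of K)) [LocallyOfFiniteType pX]
    (c₁ c₂ : C ⟶ X) (hc₁ : c₁ ≫ pX = πK) (hc₂ : c₂ ≫ pX = πK)
    [LocallyQuasiFinite c₂] [LocallyOfFiniteType c₂]
    (hcomm : (Fr ≫ c₁) ≫ pX = c₂ ≫ pX) (d : ℕ) (hn : d < p ^ (e * n))
    (hd : ∀ (x : X) (hx : IsClosed ({x} : Set X)),
      ((Scheme.IdealSheafData.vanishingIdeal ⟨{x}, hx⟩).comap c₂).radical ^ d ≤
        (Scheme.IdealSheafData.vanishingIdeal ⟨{x}, hx⟩).comap c₂)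
    (i : Fx ⟶ C) (δ : Fx ⟶ X) (hF : IsPullback i δ (pullback.lift (Fr ≫ c₁) c₂ hcomm) (pullback.diagonal pX)) :
    Finite Fx ∧ DiscreteTopology Fx := by
  haveI : LocallyOfFiniteType πK := MorphismProperty.of_isPullback hC inferInstance
  haveI : QuasiCompact πK := MorphismProperty.of_isPullback hC inferInstance
  haveI : IsLocallyNoetherian X := LocallyOfFiniteType.isLocallyNoetherian pX
  haveI : LocallyOfFiniteType i :=
    MorphismProperty.of_isPullback hF.flip (inferInstance : LocallyOfFiniteType (pullback.diagonal pX))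
  haveI : QuasiSeparated pX := HasAffineProperty.iff_of_isAffine.mpr (inferInstance : QuasiSeparatedSpace X)
  haveI : QuasiCompact i :=
    MorphismProperty.of_isPullback hF.flip (inferInstance : QuasiCompact (pullback.diagonal pX))
  haveI : CompactSpace C := QuasiCompact.compactSpace_of_compactSpace πK
  haveI : CompactSpace Fx := QuasiCompact.compactSpace_of_compactSpace i
  have hi₁ : i ≫ Fr ≫ c₁ = δ := by
    rw [← pullback.lift_fst (Fr ≫ c₁) c₂ hcomm, reassoc_of% hF.w, pullback.diagonal_fst, Category.comp_id]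
  have hi₂ : i ≫ c₂ = δ := by
    rw [← pullback.lift_snd (Fr ≫ c₁) c₂ hcomm, reassoc_of% hF.w, pullback.diagonal_snd, Category.comp_id]
  haveI : Mono i := by
    refine ⟨fun a b h => hF.hom_ext h ?_⟩
    rw [← cancel_mono (pullback.diagonal pX), Category.assoc, Category.assoc, ← hF.w, reassoc_of% h]
  haveI : JacobsonSpace C := LocallyOfFiniteType.jacobsonSpace πK
  haveI : JacobsonSpace X := LocallyOfFiniteType.jacobsonSpace pX
  haveI : JacobsonSpace Fx := LocallyOfFiniteType.jacobsonSpace i
  haveI : IsLocallyNoetherian C := LocallyOfFiniteType.isLocallyNoetherian πK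
  haveI : IsLocallyNoetherian Fx := LocallyOfFiniteType.isLocallyNoetherian i
  haveI : LocallyConnectedSpace Fx := SectionCompOpen4.locallyConnectedSpace Fx
  haveI : IsImmersion i := MorphismProperty.of_isPullback hF.flip (inferInstance : IsImmersion (pullback.diagonal pX))
  have hinj : Function.Injective i.base := i.isEmbedding.injective
  have key : ∀ z : Fx, IsOpen ({z} : Set Fx) := by
    intro z
    let β : Fx.Opens := ⟨connectedComponent z, isOpen_connectedComponent⟩
    obtain ⟨w, hwβ, hwc⟩ := nonempty_inter_closedPoints (X := Fx) (Z := (β : Set Fx)) ⟨z, mem_connectedComponent⟩ β.2.isLocallyClosed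
    haveI : LocallyOfFiniteType δ := by rw [← hi₂]; infer_instance
    have hx : IsClosed ({δ.base w} : Set X) := δ.closePoints_subset_preimage_closedPoints hwc
    obtain ⟨W, hW, hle, k, hpow⟩ :=
      S18397.result p k₀ e hq K f₀ πC₀ πK hC n Fr hFr₀ hFrK pX c₁ c₂ hc₁ hc₂ hcomm d hn hd _ hx
    have hrange : Set.range i.base ⊆ (W : Set C) := by
      rintro _ ⟨t, rfl⟩
      refine hW ⟨δ.base t, ?_⟩
      exact (congrArg (fun g : Fx ⟶ pullback pX pX => g t) hF.w).symm
    have hsub := S19878.result K πK pX (Fr ≫ c₁) c₂ hcomm i δ hF _ W hrange hle k hpow β isConnected_connectedComponent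
      ⟨δ.base w, ⟨w, hwβ, rfl⟩, (Scheme.IdealSheafData.coe_support_vanishingIdeal _).ge rfl⟩
    rw [Scheme.IdealSheafData.coe_support_vanishingIdeal] at hsub
    let S : Set Fx := δ.base ⁻¹' {δ.base w}
    haveI : DiscreteTopology S := by
      have h1 : _root_.IsDiscrete (c₂.base ⁻¹' {δ.base w}) := c₂.isDiscrete_preimage_singleton _
      have h2 : S = i.base ⁻¹' (c₂.base ⁻¹' {δ.base w}) := by
        show δ.base ⁻¹' _ = _
        rw [← Set.preimage_comp]
        congr 1
        rw [← hi₂]
        rfl
      exact (h2 ▸ h1.preimage i.continuous.continuousOn hinj : _root_.IsDiscrete S).to_subtype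
    obtain ⟨O, hO, hOS⟩ := isOpen_induced_iff.1 (isOpen_discrete ({⟨z, hsub mem_connectedComponent⟩} : Set S))
    have hz : ({z} : Set Fx) = O ∩ β := by
      ext t
      refine ⟨fun ht => ?_, fun ⟨htO, htβ⟩ => ?_⟩
      · rw [Set.mem_singleton_iff] at ht
        subst ht
        exact ⟨(hOS.ge rfl : (⟨t, _⟩ : S) ∈ Subtype.val ⁻¹' O), mem_connectedComponent⟩
      · have h : (⟨t, hsub htβ⟩ : S) ∈ Subtype.val ⁻¹' O := htO
        rw [hOS] at h
        exact congrArg Subtype.val h
    rw [hz]
    exact hO.inter β.2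
  haveI : DiscreteTopology Fx := discreteTopology_iff_forall_isOpen.2 fun s => by
    rw [← Set.biUnion_of_singleton s]
    exact isOpen_biUnion fun z _ => key z
  exact ⟨finite_of_compact_of_discrete, inferInstance⟩

end Groth.Agent.S19879
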