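import Groth.Statements.S19880
import Groth.Agent.Lib.CurvePts22.SepClosed

set_option linter.style.haveILetI false
set_option backward.isDefEq.respectTransparency false
set_option backward.isDefEq.respectTransparency.types false
set_option autoImplicit false
universe u
open CategoryTheory CategoryTheory.Limits AlgebraicGeometry
open JacVar

namespace Groth.Agent.S19880

/-- Let k be a separably closed field, C a smooth proper geometrically connected curve of genus g > 0
over k with a k-rational point, and r > 2g an integer. Then for every effective divisor D of degree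
r on C there is an (r − g)-tuple γ = (P_1, …, P_{r−g}) of k-rational points of C with h⁰(D − P_1 − ⋯
− P_{r−g}) = 1; since every invertible module L of degree r > 2g − 2 is of the form O(D) with D
effective, this is stated as: for every invertible module L of degree r on C there are k-rational
points P_1, …, P_{r−g} with h⁰(C, L ⊗ I_{P_1} ⊗ ⋯ ⊗ I_{P_{r−g}}) = 1. (In the source this is the
statement that the symmetric power C^(r) is the union of the open pieces C^γ.) -/
theorem result (k : Type u) [Field k] [IsSepClosed k]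
    (C : Scheme.{u}) [C.Over (Spec (CommRingCat.of k))]
    [IsProper (C ↘ Spec (CommRingCat.of k))] [Smooth (C ↘ Spec (CommRingCat.of k))] [GeometricallyConnected (C ↘ Spec (CommRingCat.of k))]
    (hdim : topologicalKrullDim ↥C = 1)
    (g : ℕ) (hg : Curv2.genus k C = g) (hg0 : 0 < g)
    (σ₀ : Spec (CommRingCat.of k) ⟶ C) (hσ₀ : σ₀ ≫ (C ↘ Spec (CommRingCat.of k)) = 𝟙 _)
    (r : ℕ) (hr : 2 * g < r)
    (L : C.Modules) (hL : PicF.IsInvertible L) (hLdeg : Curv2.deg k C L 1 = (r : ℤ)) :
    ∃ σ : Fin (r - g) → (Spec (CommRingCat.of k) ⟶ C), (∀ t, σ t ≫ (C ↘ Spec (CommRingCat.of k)) = 𝟙 _) ∧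
      Module.finrank k (Coh.HH C (CohB1.tensorMod L (FGA.tensorList (List.ofFn fun t : Fin (r - g) =>
        ClSub.idealMod (σ t).ker))) 0) = 1 := by
  haveI : IsIntegral C := Groth.Agent.VB17.isIntegral_of_smooth (k := k) (X := C)
  obtain ⟨hX, h0, -⟩ := Groth.Agent.CurvePts22.setup hdim σ₀ hσ₀
  haveI := hX.like.noetherian
  haveI := hX.like.h1_subsingleton_of_deg (Groth.Agent.CurveCoh17.rkOne_of_invertible hdim.le hL) h0
    (by rw [hLdeg, hg]; omega)
  have hrr := hX.like.rr (Groth.Agent.CurveCoh17.isCoh_of_ofRank
    ((Groth.Agent.M2.isInvertible_iff_isFinLocFreeOfRank_one _).1 hL))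
  rw [hLdeg, hg, h0, Module.finrank_zero_of_subsingleton (M := Coh.HH C L 1)] at hrr
  obtain ⟨σ, hσ, h⟩ := Groth.Agent.CurvePts22.exists_points_drop (k := k) hdim (r - g) L hL (by omega)
  exact ⟨σ, hσ, by omega⟩

end Groth.Agent.S19880
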