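import Groth.Statements.S19881
import Groth.Agent.Lib.GrLC21.StdRegSeq
-- import your own Groth.Agent.* helpers here

set_option autoImplicit false
universe u
open GrLC

namespace Groth.Agent.S19881

/-- Let R = ⊕_{n ≥ 0} R_n be a (Noetherian) positively ℤ-graded ring which is standard graded
(irrelevant ideal generated by R_1), with R_0 Artinian, *local with unique homogeneous maximal ideal
m, Cohen–Macaulay of Krull dimension d, and with infinite residue field R/m. If the a-invariant of R
equals −d, i.e. the end (largest nonzero degree) of the graded local cohomology module H^d_m(R),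
computed from any *injective resolution of R in the graded category, is −d, then R is a polynomial
ring over R_0 in d variables of degree one: there is an R_0-algebra isomorphism R_0[T_1, …, T_d] ≅ R
mapping every variable into R_1. (The published statement asserts the equivalence of a(R) = −d with
R ≅ R_0[T_1, …, T_d] without the residue-field hypothesis; its argument treats the case of an
infinite residue field, which is the case stated here, and only the forward implication is stated.) -/
theorem result (R : Type u) [CommRing R]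
    [LocCoh.IsCohenMacaulayRing R] (𝒜 : ℤ → AddSubgroup R) [GradedRing 𝒜]
    (hpos : ∀ n : ℤ, n < 0 → 𝒜 n = ⊥)
    (hstd : Ideal.span (⋃ n ∈ Set.Ioi (0 : ℤ), (𝒜 n : Set R)) = Ideal.span ((𝒜 1 : AddSubgroup R) : Set R))
    [IsArtinianRing (GrLC.deg0 𝒜)] (m : HomogeneousIdeal 𝒜) (hm : GrLC.IsStarLocal 𝒜 m)
    (hinf : Infinite (R ⧸ m.toIdeal)) (d : ℕ) (hd : ringKrullDim R = d) (I : GrLC.StarInjRes 𝒜 𝒜)
    (ha : GrLC.endDeg (I.Hgr m d) = (((-(d : ℤ) : ℤ) : WithTop ℤ) : WithBot (WithTop ℤ))) :
    ∃ e : MvPolynomial (Fin d) (GrLC.deg0 𝒜) ≃ₐ[GrLC.deg0 𝒜] R, ∀ t : Fin d, e (MvPolynomial.X t) ∈ 𝒜 1 := by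
  have hpos' : ∀ n : ℤ, n < 0 → ∀ r ∈ 𝒜 n, r = 0 := fun n hn r hr => by
    rw [hpos n hn, AddSubgroup.mem_bot] at hr
    exact hr
  obtain ⟨f, hf1, hreg⟩ := Groth.Agent.GrLC21.exists_linear_regular_sequence hpos' hstd hm hinf hd d le_rfl
  exact Groth.Agent.GrLC21.exists_algEquiv_mvPolynomial hpos' hm hd f hf1 hreg
    ((Groth.Agent.GrLC21.endDeg_le_iff_van I d (-(d : ℤ))).1 ha.le)

end Groth.Agent.S19881
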