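import Groth.Statements.S19888
import Groth.Agent.Lib.PinchModH7.Main

set_option autoImplicit false
universe u
open CategoryTheory AlgebraicGeometry
open Pinch

namespace Groth.Agent.S19888

/-- Let f_X : Z → X, f_Y : Z → Y, g_X : X → T and g_Y : Y → T be morphisms of schemes with g_X ∘ f_X =
g_Y ∘ f_Y forming a pushout square in the category of ringed spaces, and let M and N be locally free
O_T-modules of finite rank. For an O_T-module P write ξ_P : f_X^* g_X^* P ≅ f_Y^* g_Y^* P for the
canonical isomorphism. Then the functor P ↦ (g_X^* P, g_Y^* P, ξ_P) is fully faithful on such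
modules: a morphism φ : M → N is determined by the pair (g_X^* φ, g_Y^* φ), and every pair of
morphisms a : g_X^* M → g_X^* N, b : g_Y^* M → g_Y^* N with ξ_N ∘ f_X^*(a) = f_Y^*(b) ∘ ξ_M is of
this form. (The source states the equivalence of categories for the pinching square of a closed
immersion Z → X along a finite surjective Z → Z'; the full-faithfulness half is established there
for any square of schemes that is a pushout of ringed spaces, which is the form given here. The
essential-surjectivity half is a separate statement.) -/
theorem result {X Y Z T : Scheme.{u}}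
    (fX : Z ⟶ X) (fY : Z ⟶ Y) (gX : X ⟶ T) (gY : Y ⟶ T) (hw : fX ≫ gX = fY ≫ gY)
    (hpo : IsPushout ((Scheme.forgetToLocallyRingedSpace ⋙ LocallyRingedSpace.forgetToSheafedSpace).map fX) ((Scheme.forgetToLocallyRingedSpace ⋙ LocallyRingedSpace.forgetToSheafedSpace).map fY)
      ((Scheme.forgetToLocallyRingedSpace ⋙ LocallyRingedSpace.forgetToSheafedSpace).map gX) ((Scheme.forgetToLocallyRingedSpace ⋙ LocallyRingedSpace.forgetToSheafedSpace).map gY))
    (M N : T.Modules) (hM : FlatMod.IsFinLocFree M) (hN : FlatMod.IsFinLocFree N) :
    (∀ φ ψ : M ⟶ N, (Scheme.Modules.pullback gX).map φ = (Scheme.Modules.pullback gX).map ψ →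
        (Scheme.Modules.pullback gY).map φ = (Scheme.Modules.pullback gY).map ψ → φ = ψ) ∧
      (∀ (a : (Scheme.Modules.pullback gX).obj M ⟶ (Scheme.Modules.pullback gX).obj N)
        (b : (Scheme.Modules.pullback gY).obj M ⟶ (Scheme.Modules.pullback gY).obj N),
        (Scheme.Modules.pullback fX).map a ≫
            ((Scheme.Modules.pullbackComp fX gX).app N ≪≫ (Scheme.Modules.pullbackCongr hw).app N ≪≫
              ((Scheme.Modules.pullbackComp fY gY).app N).symm).hom =
          ((Scheme.Modules.pullbackComp fX gX).app M ≪≫ (Scheme.Modules.pullbackCongr hw).app M ≪≫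
              ((Scheme.Modules.pullbackComp fY gY).app M).symm).hom ≫
            (Scheme.Modules.pullback fY).map b →
        ∃ φ : M ⟶ N, (Scheme.Modules.pullback gX).map φ = a ∧ (Scheme.Modules.pullback gY).map φ = b) := by
  exact Groth.Agent.PinchModH7.faithful_full fX fY gX gY hw hpo M hN

end Groth.Agent.S19888
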