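import Groth.Statements.S3016
import Groth.Agent.Lib.GrpDim20.Basic

set_option autoImplicit false
universe u
open CategoryTheory MonoidalCategory CartesianMonoidalCategory MonObj GrpObj AlgebraicGeometry TensorProduct
open SGA3

namespace Groth.Agent.S3016

/-- Let A be a local artinian ring and u : G → H a quasi-compact homomorphism between group schemes
locally of finite type over A. Then the image u(G) is a closed subset of H, and dim G = dim u(G) +
dim Ker u (dimensions of the underlying topological spaces; Ker u is the fibre of u over the unit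
section). -/
theorem result (A : Type u) [CommRing A] [IsArtinianRing A] [IsLocalRing A]
    (G H : Over (Spec (CommRingCat.of A))) [GrpObj G] [GrpObj H] [LocallyOfFiniteType G.hom] [LocallyOfFiniteType H.hom]
    (u : G ⟶ H) [IsMonHom u] [QuasiCompact u.left] :
    IsClosed (Set.range u.left.base) ∧
    topologicalKrullDim G.left =
      topologicalKrullDim (Set.range u.left.base) +
        topologicalKrullDim ↥(Limits.pullback u.left (η[H] : 𝟙_ (Over (Spec (CommRingCat.of A))) ⟶ H).left) := by
  let i₀ : Spec (CommRingCat.of (IsLocalRing.ResidueField A)) ⟶ Spec (CommRingCat.of A) :=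
    Spec.map (CommRingCat.ofHom (IsLocalRing.residue A))
  haveI : IsClosedImmersion i₀ := IsClosedImmersion.spec_of_surjective _ IsLocalRing.residue_surjective
  haveI : Surjective i₀ := ⟨fun y => ⟨IsLocalRing.closedPoint _, Subsingleton.elim (α := PrimeSpectrum A) _ _⟩⟩
  let N : Over (Spec (CommRingCat.of A)) :=
    Over.mk (Limits.pullback.fst u.left η[H].left ≫ G.hom)
  let j : N ⟶ G := Over.homMk (Limits.pullback.fst u.left η[H].left) rfl
  have hsnd : (toUnit N).left = Limits.pullback.snd u.left η[H].left := by
    have e := Over.w (toUnit N)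
    have e1 : (toUnit N).left = N.hom := (Category.comp_id _).symm.trans e
    rw [e1]
    show Limits.pullback.fst u.left η[H].left ≫ G.hom = _
    rw [← Over.w u, Limits.pullback.condition_assoc, Over.w η[H]]
    exact Category.comp_id _
  have hN : IsPullback j (toUnit N) u η[H] := by
    refine IsPullback.of_map (Over.forget _) (by ext1; rw [Over.comp_left, Over.comp_left, hsnd]; exact Limits.pullback.condition) ?_
    show IsPullback (Limits.pullback.fst u.left η[H].left) (toUnit N).left u.left η[H].left
    rw [hsnd]
    exact IsPullback.of_hasPullback u.left η[H].left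
  let F := Over.pullback i₀
  letI : GrpObj (F.obj G) := Functor.grpObjObj
  letI : GrpObj (F.obj H) := Functor.grpObjObj
  haveI : LocallyOfFiniteType (F.obj G).hom := inferInstanceAs (LocallyOfFiniteType (Limits.pullback.snd G.hom i₀))
  haveI : LocallyOfFiniteType (F.obj H).hom := inferInstanceAs (LocallyOfFiniteType (Limits.pullback.snd H.hom i₀))
  have sq := Groth.Agent.GrpFin20.isPullback_map i₀ u
  haveI : QuasiCompact (F.map u).left := MorphismProperty.of_isPullback sq ‹QuasiCompact u.left›
  obtain ⟨h1, h2⟩ := Groth.Agent.GrpDim20.range_closed_and_dim _ _ (F.obj N) (F.map u) (F.map j)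
    (Groth.Agent.GrpFin20.kernel_map i₀ u j hN)
  have hh : ∀ X : Over (Spec (CommRingCat.of A)), IsHomeomorph (Limits.pullback.fst X.hom i₀).base := fun X =>
    isHomeomorph_iff_isEmbedding_surjective.2 ⟨(Limits.pullback.fst X.hom i₀).isClosedEmbedding.isEmbedding,
      (Limits.pullback.fst X.hom i₀).surjective⟩
  have hrange : Set.range u.left.base = (Limits.pullback.fst H.hom i₀).base '' Set.range (F.map u).left.base := by
    rw [← Set.range_comp, ← TopCat.coe_comp, ← Scheme.Hom.comp_base, ← sq.w, Scheme.Hom.comp_base, TopCat.coe_comp]
    exact ((hh G).surjective.range_comp _).symm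
  refine ⟨hrange ▸ (hh H).isClosedMap _ h1, ?_⟩
  have e1 : topologicalKrullDim (Set.range u.left.base) = topologicalKrullDim (Set.range (F.map u).left.base) := by
    rw [hrange]
    exact (IsHomeomorph.topologicalKrullDim_eq _
      ((hh H).homeomorph.isEmbedding.homeomorphImage (Set.range (F.map u).left.base)).isHomeomorph).symm
  refine ((hh G).topologicalKrullDim_eq).symm.trans (h2.trans ?_)
  rw [e1]
  congr 1
  exact (hh N).topologicalKrullDim_eq


end Groth.Agent.S3016
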