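import Groth.Statements.S19889
import Groth.Agent.S7520
import Groth.Agent.S3016
import Groth.Agent.Lib.Desc.Over
import Mathlib.AlgebraicGeometry.AlgClosed.Basic
-- import your own Groth.Agent.* helpers here

set_option autoImplicit false
universe u
open CategoryTheory CategoryTheory.Limits MonoidalCategory CartesianMonoidalCategory MonObj GrpObj AlgebraicGeometry
open GrpSch

namespace Groth.Agent.S19889

set_option linter.style.haveILetI false
set_option backward.isDefEq.respectTransparency.types false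


/-- Let k be an algebraically closed field, G a commutative group scheme locally of finite type over k,
and i : G⁰ → G its identity component (a homomorphism that is an open immersion onto the connected
component of the unit point). Then the natural map from the torsion subgroup of G(k) to the torsion
subgroup of G(k)/G⁰(k) is surjective: if g is a k-point of G and gⁿ lies in G⁰(k) for some n ≥ 1,
then there is a k-point t of G of finite order such that t⁻¹ g lies in G⁰(k). -/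
theorem result (k : Type u) [Field k] [IsAlgClosed k]
    {G G0 : Over (Spec (CommRingCat.of k))} [GrpObj G] [IsCommMonObj G] [GrpObj G0]
    [LocallyOfFiniteType G.hom] (i : G0 ⟶ G) [IsMonHom i] (hi : AutSch.IsIdComp i)
    (g : 𝟙_ (Over (Spec (CommRingCat.of k))) ⟶ G) (n : ℕ) (hn : 0 < n)
    (hg : g ^ n ∈ AutSch.ptsRange i) :
    ∃ t : 𝟙_ (Over (Spec (CommRingCat.of k))) ⟶ G, IsOfFinOrder t ∧ t⁻¹ * g ∈ AutSch.ptsRange i := by
  classical
haveI : IsOpenImmersion i.left := hi.2.1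
haveI : LocallyOfFiniteType G0.hom := by rw [← Over.w i]; infer_instance
obtain ⟨G₁, _, incl, _, _, _, hr₁, _, hc₁⟩ := Groth.Agent.S7520.result k G
have hrange : Set.range i.left.base = connectedComponent (η[G].left (IsLocalRing.closedPoint k)) := by
  rw [hi.2.2, SGA3x.neutralSet]
  ext x
  simp only [Set.mem_iUnion]
  have key : ∀ p : ↥(𝟙_ (Over (Spec (CommRingCat.of k)))).left,
      connectedComponentIn (G.hom.base ⁻¹' {(𝟙_ (Over (Spec (CommRingCat.of k)))).hom.base p}) (η[G].left.base p) =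
        connectedComponent (η[G].left (IsLocalRing.closedPoint k)) := fun p => by
    haveI : Subsingleton ↥(Spec (CommRingCat.of k)) := inferInstanceAs (Subsingleton (PrimeSpectrum k))
    haveI : Subsingleton ↥(𝟙_ (Over (Spec (CommRingCat.of k)))).left := inferInstanceAs (Subsingleton (PrimeSpectrum k))
    rw [show G.hom.base ⁻¹' {(𝟙_ (Over (Spec (CommRingCat.of k)))).hom.base p} = Set.univ from
      Set.eq_univ_of_forall fun y => Subsingleton.elim _ _, connectedComponentIn_univ,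
      Subsingleton.elim p (IsLocalRing.closedPoint k)]
  exact ⟨fun ⟨p, hp⟩ => key p ▸ hp, fun h => ⟨IsLocalRing.closedPoint k, (key _).symm ▸ h⟩⟩
haveI : CompactSpace ↥G0.left := by
  rw [← isCompact_univ_iff, i.left.isOpenEmbedding.isEmbedding.isCompact_iff, Set.image_univ, hrange, ← hr₁]
  exact isCompact_range incl.left.continuous
haveI : IsLocallyNoetherian G0.left := LocallyOfFiniteType.isLocallyNoetherian G0.hom
haveI : IsNoetherian G0.left := {}
haveI : IsLocallyNoetherian G.left := LocallyOfFiniteType.isLocallyNoetherian G.hom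
haveI : JacobsonSpace ↥G0.left := LocallyOfFiniteType.jacobsonSpace G0.hom
let u : ℕ → (G0 ⟶ G) := fun m => i ≫ (𝟙 G : G ⟶ G) ^ (n ^ m)
have hu : ∀ (m : ℕ) (T : Over (Spec (CommRingCat.of k))) (z : T ⟶ G0), z ≫ u m = (z ≫ i) ^ (n ^ m) := fun m T z => by
  show z ≫ i ≫ _ = _
  rw [← Category.assoc, MonObj.comp_pow, Category.comp_id]
have hh : ∀ m, IsMonHom (u m) := fun m => by
  refine Desc.isMonHom_of_points _ (fun T => ?_) (fun T a b => ?_)
  · rw [hu, MonObj.one_comp, one_pow]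
  · rw [hu, hu, hu, MonObj.mul_comp, mul_pow]
have hqc : ∀ m, QuasiCompact (u m).left := fun m => inferInstance
let C : ℕ → TopologicalSpace.Closeds ↥G0.left := fun m =>
  ⟨i.left.base ⁻¹' Set.range (u m).left.base,
    ((haveI := hh m; haveI := hqc m; Groth.Agent.S3016.result k G0 G (u m)).1).preimage i.left.continuous⟩
have hstep : ∀ m, C (m + 1) ≤ C m := fun m => by
  intro z hz
  obtain ⟨w, hw⟩ := hz
  refine ⟨((𝟙 G0 : G0 ⟶ G0) ^ n).left w, ?_⟩
  have e : ((𝟙 G0 : G0 ⟶ G0) ^ n) ≫ u m = u (m + 1) := by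
    rw [hu]
    have : ((𝟙 G0 : G0 ⟶ G0) ^ n) ≫ i = (𝟙 G0 ≫ i) ^ n := map_pow (IsMonHom.monoidHom i G0) _ n
    rw [this, ← pow_mul, ← pow_succ', ← hu, Category.id_comp]
  rw [← hw, ← e]
  rfl
haveI : WellFoundedLT (TopologicalSpace.Closeds ↥G0.left) := inferInstance
obtain ⟨_, ⟨m, rfl⟩, hmin⟩ := (wellFounded_lt (α := TopologicalSpace.Closeds ↥G0.left)).has_min (Set.range C) ⟨_, 0, rfl⟩
have hst : C (m + 1) = C m := (eq_or_lt_of_le (hstep m)).resolve_right (hmin _ ⟨_, rfl⟩)
obtain ⟨x0, hx0⟩ := (AutSch.mem_ptsRange_iff i _).1 hg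
obtain ⟨w0, hw0⟩ : ∃ w : G0.left, i.left w = (x0 ≫ u m).left (IsLocalRing.closedPoint k) := by
  refine ⟨(x0 ≫ (𝟙 G0 : G0 ⟶ G0) ^ (n ^ m)).left (IsLocalRing.closedPoint k), ?_⟩
  have e : (x0 ≫ (𝟙 G0 : G0 ⟶ G0) ^ (n ^ m)) ≫ i = x0 ≫ u m := by
    rw [MonObj.comp_pow, Category.comp_id, hu]
    exact map_pow (IsMonHom.monoidHom i _) x0 (n ^ m)
  rw [← e]; rfl
have hmem : w0 ∈ C m := ⟨x0.left (IsLocalRing.closedPoint k), hw0.symm⟩
rw [← hst] at hmem
obtain ⟨v, hv⟩ := hmem
haveI : JacobsonSpace ↥G.left := LocallyOfFiniteType.jacobsonSpace G.hom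
have hcl : IsClosed ({(x0 ≫ u m).left (IsLocalRing.closedPoint k)} : Set G.left) :=
  (pointEquivClosedPoint G.hom ⟨(x0 ≫ u m).left, Over.w (x0 ≫ u m)⟩).2
have hne : ((u (m + 1)).left.base ⁻¹' {(x0 ≫ u m).left (IsLocalRing.closedPoint k)}).Nonempty :=
  ⟨v, hv.trans hw0⟩
obtain ⟨y, hy, hyc⟩ := nonempty_inter_closedPoints hne (hcl.preimage (u (m + 1)).left.continuous).isLocallyClosed
let yp : 𝟙_ (Over (Spec (CommRingCat.of k))) ⟶ G0 :=
  Over.homMk (pointOfClosedPoint G0.hom y hyc) (pointOfClosedPoint_comp _ _ _)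
have hpt : (yp ≫ i) ^ (n ^ (m + 1)) = (g ^ n) ^ (n ^ m) := by
  rw [← hu, ← hx0, ← hu]
  ext : 1
  refine ext_of_apply_closedPoint_eq G.hom (Over.w (yp ≫ u (m + 1))) (Over.w (x0 ≫ u m)) ?_
  show (u (m + 1)).left (pointOfClosedPoint G0.hom y hyc (IsLocalRing.closedPoint k)) = _
  rw [pointOfClosedPoint_apply]
  exact hy
refine ⟨g * (yp ≫ i)⁻¹, isOfFinOrder_iff_pow_eq_one.2 ⟨n ^ (m + 1), pow_pos hn _, ?_⟩, ?_⟩
· rw [mul_pow, inv_pow, hpt, ← pow_mul, ← pow_succ', mul_inv_cancel]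
· refine (AutSch.mem_ptsRange_iff i _).2 ⟨yp, ?_⟩
  rw [_root_.mul_inv_rev, _root_.inv_inv, _root_.mul_assoc, inv_mul_cancel, _root_.mul_one]

end Groth.Agent.S19889
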