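import Groth.Statements.S1989
import Groth.Agent.Lib.EtRamH7.Tower

set_option autoImplicit false
universe u
open EtAlg

namespace Groth.Agent.S1989

/-- Let K be the fraction field of a discrete valuation ring A, and K ⊂ L ⊂ M finite separable
extensions. If M is tamely ramified, respectively unramified, with respect to A, then so is L. -/
theorem result (A K : Type u) [CommRing A] [IsDomain A] [IsDiscreteValuationRing A] [Field K] [Algebra A K] [IsFractionRing A K] (L M : Type u) [Field L] [Field M]
    [Algebra K L] [Algebra K M] [Algebra L M] [IsScalarTower K L M] [FiniteDimensional K M] [Algebra.IsSeparable K M] :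
    (EtRam.IsTamelyRamified A ((algebraMap K M).comp (algebraMap A K)) →
      EtRam.IsTamelyRamified A ((algebraMap K L).comp (algebraMap A K))) ∧
    (EtRam.IsUnramifiedExt A ((algebraMap K M).comp (algebraMap A K)) →
      EtRam.IsUnramifiedExt A ((algebraMap K L).comp (algebraMap A K))) := by
  haveI : FiniteDimensional K L := FiniteDimensional.left K L M
  have hcomp : (algebraMap K M).comp (algebraMap A K) =
      (algebraMap L M).comp ((algebraMap K L).comp (algebraMap A K)) := by
    rw [← RingHom.comp_assoc, ← IsScalarTower.algebraMap_eq K L M]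
  constructor
  · intro hM V hV
    letI algAV : Algebra A V := (RingHom.codRestrict _ V hV.1).toAlgebra
    intro _
    obtain ⟨W, hW⟩ := Groth.Agent.EtRamH7.exists_comap_eq (algebraMap L M) V
    subst hW
    have hAW : EtRam.Dominates A ((algebraMap K M).comp (algebraMap A K)) W := by
      rw [hcomp]
      exact Groth.Agent.EtRamH7.dominates_trans hV _
        (Groth.Agent.EtRamH7.dominates_self_comap (algebraMap L M) W)
    letI : Algebra A W := (RingHom.codRestrict _ W hAW.1).toAlgebra
    letI : Algebra (W.comap (algebraMap L M)) W := (EtRam.inclOfComap W (algebraMap L M)).toAlgebra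
    haveI : IsLocalHom (algebraMap A W) := Groth.Agent.EtRamH7.isLocalHom_cod hAW
    haveI : IsLocalHom (algebraMap (W.comap (algebraMap L M)) W) :=
      EtRam.isLocalHom_inclOfComap W (algebraMap L M)
    haveI : IsScalarTower A (W.comap (algebraMap L M)) W := IsScalarTower.of_algebraMap_eq fun a =>
      Subtype.ext (DFunLike.congr_fun hcomp a)
    haveI := Groth.Agent.EtRamH7.dvr_of_dominates A K L _ rfl _ hV
    haveI := Groth.Agent.EtRamH7.dvr_of_dominates A K M _ rfl _ hAW
    obtain ⟨hs, he⟩ := @hM W hAW (inferInstance : IsLocalHom (algebraMap A W))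
    refine ⟨Groth.Agent.EtRamH7.sep_bot A (W.comap (algebraMap L M)) W hs, fun p hp hc hdvd => he p hp hc ?_⟩
    rw [Groth.Agent.EtRamH7.ramificationIdx'_mul A (W.comap (algebraMap L M)) W
      (Groth.Agent.EtRamH7.injective_cod A K L _ rfl _ hV.1)
      (fun a b h => Subtype.ext ((algebraMap L M).injective (congrArg Subtype.val h)))]
    exact hdvd.mul_right _
  · intro hM V hV
    letI algAV : Algebra A V := (RingHom.codRestrict _ V hV.1).toAlgebra
    intro _
    obtain ⟨W, hW⟩ := Groth.Agent.EtRamH7.exists_comap_eq (algebraMap L M) V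
    subst hW
    have hAW : EtRam.Dominates A ((algebraMap K M).comp (algebraMap A K)) W := by
      rw [hcomp]
      exact Groth.Agent.EtRamH7.dominates_trans hV _
        (Groth.Agent.EtRamH7.dominates_self_comap (algebraMap L M) W)
    letI : Algebra A W := (RingHom.codRestrict _ W hAW.1).toAlgebra
    letI : Algebra (W.comap (algebraMap L M)) W := (EtRam.inclOfComap W (algebraMap L M)).toAlgebra
    haveI : IsLocalHom (algebraMap A W) := Groth.Agent.EtRamH7.isLocalHom_cod hAW
    haveI : IsLocalHom (algebraMap (W.comap (algebraMap L M)) W) :=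
      EtRam.isLocalHom_inclOfComap W (algebraMap L M)
    haveI : IsScalarTower A (W.comap (algebraMap L M)) W := IsScalarTower.of_algebraMap_eq fun a =>
      Subtype.ext (DFunLike.congr_fun hcomp a)
    haveI := Groth.Agent.EtRamH7.dvr_of_dominates A K L _ rfl _ hV
    haveI := Groth.Agent.EtRamH7.dvr_of_dominates A K M _ rfl _ hAW
    obtain ⟨hw, hs⟩ := @hM W hAW (inferInstance : IsLocalHom (algebraMap A W))
    refine ⟨?_, Groth.Agent.EtRamH7.sep_bot A (W.comap (algebraMap L M)) W hs⟩
    have hV' := Groth.Agent.EtRamH7.injective_cod A K L _ rfl _ hV.1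
    have hW' : Function.Injective (algebraMap (W.comap (algebraMap L M)) W) :=
      fun a b h => Subtype.ext ((algebraMap L M).injective (congrArg Subtype.val h))
    rw [Groth.Agent.EtRamH7.weaklyUnramified_iff A W
      (Groth.Agent.EtRamH7.injective_cod A K M _ rfl _ hAW.1),
      Groth.Agent.EtRamH7.ramificationIdx'_mul A (W.comap (algebraMap L M)) W hV' hW'] at hw
    exact (Groth.Agent.EtRamH7.weaklyUnramified_iff A _ hV').2 (Nat.eq_one_of_mul_eq_one_right hw)

end Groth.Agent.S1989
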