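import Groth.Statements.S19890
import Mathlib
import Groth.Agent.Lib.RegLoc.UFD

set_option autoImplicit false
universe u
open CAlg

namespace Groth.Agent.S19890
open TensorProduct

theorem isPrincipal_descends {R R' : Type u} [CommRing R] [CommRing R'] [IsDomain R'] [IsLocalRing R']
    [Algebra R R'] [Module.FaithfullyFlat R R'] (p : Ideal R)
    (hp : (p.map (algebraMap R R')).IsPrincipal) : p.IsPrincipal := by
  obtain ⟨g, hg⟩ := hp
  change p.map (algebraMap R R') = Ideal.span {g} at hg
  have back : ∀ a ∈ p, p.map (algebraMap R R') = Ideal.span {algebraMap R R' a} → p = Ideal.span {a} := fun a ha h => by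
    rw [← Ideal.comap_map_eq_self_of_faithfullyFlat (B := R') p, h, ← Set.image_singleton, ← Ideal.map_span,
      Ideal.comap_map_eq_self_of_faithfullyFlat]
  by_cases hg0 : g = 0
  · exact ⟨0, back 0 (zero_mem _) (by rw [hg, hg0, map_zero])⟩
  classical
  have hgm : g ∈ p.map (algebraMap R R') := hg ▸ Ideal.mem_span_singleton_self g
  have hdiv : ∀ a ∈ p, g ∣ algebraMap R R' a := fun a ha =>
    Ideal.mem_span_singleton.1 (hg ▸ Ideal.mem_map_of_mem _ ha)
  by_cases hex : ∃ a ∈ p, ∃ s, IsUnit s ∧ algebraMap R R' a = g * s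
  · obtain ⟨a, ha, s, hs, he⟩ := hex
    exact ⟨a, back a ha (by rw [hg, he, Ideal.span_singleton_mul_right_unit hs])⟩
  · exfalso
    have : p.map (algebraMap R R') ≤ Ideal.span {g} * IsLocalRing.maximalIdeal R' := by
      refine Ideal.map_le_iff_le_comap.2 fun a ha => ?_
      obtain ⟨s, hs⟩ := hdiv a ha
      rw [Ideal.mem_comap, hs]
      exact Ideal.mul_mem_mul (Ideal.mem_span_singleton_self g) (fun hu => hex ⟨a, ha, s, hu, hs⟩)
    obtain ⟨m, hm, hgm'⟩ := Ideal.mem_span_singleton_mul.1 (this hgm)
    have : m = 1 := mul_left_cancel₀ hg0 (hgm'.trans (mul_one g).symm)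
    exact (IsLocalRing.mem_maximalIdeal _).1 (this ▸ hm) isUnit_one

/-- Let R → R' be a faithfully flat ring map between Noetherian integrally closed local domains. Then
unique factorization descends along this map: when R' is a UFD, so is R. (The first assertion of the
lemma, descent of principality for an ideal whose extension to R' is principal, is a separate
statement.) -/
theorem result
    (R R' : Type u) [CommRing R] [CommRing R'] [IsDomain R] [IsDomain R']
    [IsNoetherianRing R] [IsNoetherianRing R'] [IsLocalRing R] [IsLocalRing R']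
    [IsIntegrallyClosed R] [IsIntegrallyClosed R']
    [Algebra R R'] [Module.FaithfullyFlat R R'] [UniqueFactorizationMonoid R'] :
    UniqueFactorizationMonoid R := by
  classical
  have hinter : ∀ a b : R, (Ideal.span {a} ⊓ Ideal.span {b}).IsPrincipal := fun a b => by
    refine isPrincipal_descends (R' := R') _ ?_
    have hmap : (Ideal.span {a} ⊓ Ideal.span {b}).map (algebraMap R R') = Ideal.span {algebraMap R R' a} ⊓ Ideal.span {algebraMap R R' b} := by
      refine le_antisymm ((Ideal.map_inf_le _).trans_eq (by simp [Ideal.map_span])) ?_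
      intro x hx
      obtain ⟨h1, h2⟩ := Submodule.mem_inf.1 hx
      obtain ⟨s, rfl⟩ := Ideal.mem_span_singleton'.1 h1
      obtain ⟨t, ht⟩ := Ideal.mem_span_singleton'.1 h2
      have hrel : ∑ i, (![a, -b]) i • (![s, t]) i = 0 := by
        simp [Fin.sum_univ_two, Algebra.smul_def, mul_comm _ t, ht, mul_comm _ s]
      obtain ⟨k, c, y, hy, hc⟩ := Module.Flat.isTrivialRelation_of_sum_smul_eq_zero (M := R') (f := ![a, -b]) (x := ![s, t]) (by convert hrel)
      have hs : s = ∑ j, c 0 j • y j := hy 0
      rw [hs, Finset.sum_mul]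
      refine sum_mem fun j _ => ?_
      rw [Algebra.smul_def, mul_right_comm, ← map_mul]
      refine Ideal.mul_mem_right _ _ (Ideal.mem_map_of_mem _ (Submodule.mem_inf.2 ⟨?_, ?_⟩))
      · exact Ideal.mem_span_singleton'.2 ⟨c 0 j, rfl⟩
      · have := hc j
        simp only [Fin.sum_univ_two, Matrix.cons_val_zero, Matrix.cons_val_one] at this
        exact Ideal.mem_span_singleton'.2 ⟨c 1 j, by linear_combination -this⟩
    rw [hmap]
    letI := UniqueFactorizationMonoid.toGCDMonoid R'
    exact ⟨lcm (algebraMap R R' a) (algebraMap R R' b), by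
      ext x; simp [Ideal.mem_span_singleton, lcm_dvd_iff]⟩
  have : GCDMonoid R := gcdMonoidOfExistsLCM fun a b => by
    obtain ⟨c, hc⟩ := hinter a b
    change _ = Ideal.span {c} at hc
    exact ⟨c, fun d => by
      rw [← Ideal.mem_span_singleton, ← Ideal.mem_span_singleton, ← Ideal.mem_span_singleton, ← hc, Submodule.mem_inf]⟩
  exact UniqueFactorizationMonoid.iff_exists_prime_factors.2 fun x hx => UniqueFactorizationMonoid.exists_prime_factors x hx

end Groth.Agent.S19890
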