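import Groth.Statements.S19891
import Groth.Agent.Lib.ValCritRes.Criterion

set_option autoImplicit false
universe u
open CategoryTheory AlgebraicGeometry
open ValCrit

namespace Groth.Agent.S19891

/-- Let h : Z → Y and f : Y → X be morphisms of quasi-compact quasi-separated schemes, with h dominant.
Then f is separated if and only if the following refined uniqueness criterion holds: for every point
z of Z, every valuation ring R of the residue field κ(z) and every morphism φ : Spec R → X whose
restriction to Spec κ(z) is the canonical morphism Spec κ(z) → Z → Y → X, any two morphisms Spec R →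
Y lying over φ and restricting to Spec κ(z) → Z → Y on the generic point coincide. (The published
statement does not require h to be dominant; its proof uses that every point of Y generalises to a
point of h(Z), and for Z empty the criterion holds whatever f is, so dominance of h is assumed
here.) -/
theorem result {X Y Z : Scheme.{u}} (h : Z ⟶ Y) (f : Y ⟶ X)
    [CompactSpace ↥Z] [QuasiSeparatedSpace ↥Z] [CompactSpace ↥Y] [QuasiSeparatedSpace ↥Y]
    [CompactSpace ↥X] [QuasiSeparatedSpace ↥X] (hd : DenseRange h.base) :
    IsSeparated f ↔
      ∀ (z : ↥Z) (R : ValuationSubring ↑(Z.residueField z)) (φ : Spec (CommRingCat.of ↥R) ⟶ X),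
        Spec.map (CommRingCat.ofHom R.subtype) ≫ φ = Z.fromSpecResidueField z ≫ h ≫ f →
        ∀ φ₁ φ₂ : Spec (CommRingCat.of ↥R) ⟶ Y,
          Spec.map (CommRingCat.ofHom R.subtype) ≫ φ₁ = Z.fromSpecResidueField z ≫ h → φ₁ ≫ f = φ →
          Spec.map (CommRingCat.ofHom R.subtype) ≫ φ₂ = Z.fromSpecResidueField z ≫ h → φ₂ ≫ f = φ →
          φ₁ = φ₂ := by
  exact ⟨fun _ => Groth.Agent.ValCritRes.uniqueLifts_of_isSeparated h f,
    Groth.Agent.ValCritRes.isSeparated_of_uniqueLifts h f hd⟩

end Groth.Agent.S19891
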