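import Groth.Statements.S19892
import Groth.Agent.Lib.ValCritRes.Criterion

set_option autoImplicit false
universe u
open CategoryTheory AlgebraicGeometry
open ValCrit

namespace Groth.Agent.S19892

/-- Let h : Z → Y and f : Y → X be morphisms of quasi-compact quasi-separated schemes, with h dominant
and f locally of finite type. Then f is proper if and only if the following refined valuative
criterion holds: for every point z of Z, every valuation ring R of the residue field κ(z) and every
morphism φ : Spec R → X whose restriction to Spec κ(z) is the canonical morphism Spec κ(z) → Z → Y →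
X, there is exactly one morphism Spec R → Y lying over φ and restricting to Spec κ(z) → Z → Y on the
generic point. (The published statement does not require h to be dominant; its proof uses that every
point of Y generalises to a point of h(Z), and for Z empty the criterion holds whatever f is, so
dominance of h is assumed here.) -/
theorem result {X Y Z : Scheme.{u}} (h : Z ⟶ Y) (f : Y ⟶ X)
    [CompactSpace ↥Z] [QuasiSeparatedSpace ↥Z] [CompactSpace ↥Y] [QuasiSeparatedSpace ↥Y]
    [CompactSpace ↥X] [QuasiSeparatedSpace ↥X] (hd : DenseRange h.base)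
    [LocallyOfFiniteType f] :
    IsProper f ↔
      ∀ (z : ↥Z) (R : ValuationSubring ↑(Z.residueField z)) (φ : Spec (CommRingCat.of ↥R) ⟶ X),
        Spec.map (CommRingCat.ofHom R.subtype) ≫ φ = Z.fromSpecResidueField z ≫ h ≫ f →
        ∃! φ' : Spec (CommRingCat.of ↥R) ⟶ Y,
          Spec.map (CommRingCat.ofHom R.subtype) ≫ φ' = Z.fromSpecResidueField z ≫ h ∧ φ' ≫ f = φ := by
  refine ⟨fun _ z R φ w => ?_, fun H => ?_⟩
  · have hv := IsProper.eq_valuativeCriterion ▸ (inferInstance : IsProper f)
    let sq : ValuativeCommSq f :=
      { R := R, K := Z.residueField z, i₁ := Z.fromSpecResidueField z ≫ h, i₂ := φ,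
        commSq := ⟨by rw [Category.assoc]; exact w.symm⟩ }
    obtain ⟨⟨l⟩⟩ := (ValuativeCriterion.existence hv.1.1.1) sq
    exact ⟨l.l, ⟨l.fac_left, l.fac_right⟩, fun φ' hφ' =>
      Groth.Agent.ValCritRes.uniqueLifts_of_isSeparated h f z R φ w φ' l.l hφ'.1 hφ'.2 l.fac_left l.fac_right⟩
  · haveI : IsSeparated f := Groth.Agent.ValCritRes.isSeparated_of_uniqueLifts h f hd
      fun z R φ w φ₁ φ₂ a₁ b₁ a₂ b₂ => (H z R φ w).unique ⟨a₁, b₁⟩ ⟨a₂, b₂⟩
    haveI : QuasiCompact f := inferInstance
    haveI : UniversallyClosed f := UniversallyClosed.of_valuativeCriterion f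
      (Groth.Agent.ValCritRes.existence_of_lifts h f hd fun z R φ w => (H z R φ w).exists)
    exact {}

end Groth.Agent.S19892
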