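import Groth.Statements.S19894
import Groth.Agent.Lib.ArtinApproxH7.Node

set_option autoImplicit false
universe u
open IsLocalRing
open Hensel

namespace Groth.Agent.S19894

open MvPowerSeries in
/-- Let R be a strictly henselian (henselian with separably closed residue field) excellent Noetherian
local domain which is a unique factorization domain and whose completion R^ at the maximal ideal is
also a unique factorization domain; let Δ ≠ 0 and t₁, t₂ be elements of the maximal ideal of R with
t₁ t₂ = Δ, and let C be a local R-algebra, essentially of finite type over R with local structure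
map, given with a ring isomorphism ψ from the completion C^ of C onto R^[[u,v]]/(uv − Δ) compatible
with the structure maps from R. Then there are an R-algebra homomorphism g : C → R and a ring
homomorphism ĝ : C^ → R^ inducing g (ĝ restricted to C is g followed by R → R^) such that ĝ(ψ⁻¹(u))
generates the ideal t₁R^ and ĝ(ψ⁻¹(v)) generates t₂R^. (This is the local-ring form of the statement
that, for a base scheme S with étale local ring R at a geometric point s̄, an S-scheme X of finite
presentation and a closed point x of the geometric fibre whose completed étale local ring is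
presented as R^[[u,v]]/(uv − Δ), some étale neighbourhood of s̄ carries a section of X through x
sending u, v to generators of (t₁), (t₂); the retraction g of the local ring C of X ×_S Spec R at x
is such a section by finite presentation. The source assumes S excellent and smooth-factorial and
takes R^ to be factorial; here the properties of R that the argument uses are assumed directly, so
that the statement covers in particular every strictly henselian excellent regular local ring. The
published statement allows Δ = 0; this one assumes Δ ≠ 0.) -/
theorem result
    (R : Type u) [CommRing R] [IsNoetherianRing R] [IsDomain R] [UniqueFactorizationMonoid R] [HenselianLocalRing R]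
    [IsSepClosed (ResidueField R)] (hR : EGA4.IsExcellent R)
    [IsDomain (AdicCompletion (maximalIdeal R) R)] [UniqueFactorizationMonoid (AdicCompletion (maximalIdeal R) R)]
    (Δ t₁ t₂ : R) (hΔ : Δ ≠ 0) (ht₁ : t₁ ∈ maximalIdeal R) (ht₂ : t₂ ∈ maximalIdeal R) (ht : t₁ * t₂ = Δ)
    (C : Type u) [CommRing C] [IsLocalRing C] [Algebra R C] [IsLocalHom (algebraMap R C)]
    [Algebra.EssFiniteType R C]
    (ψ : AdicCompletion (maximalIdeal C) C ≃+*
      (MvPowerSeries (Fin 2) (AdicCompletion (maximalIdeal R) R) ⧸
        Ideal.span {(X 0 * X 1 - MvPowerSeries.C (algebraMap R (AdicCompletion (maximalIdeal R) R) Δ) :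
          MvPowerSeries (Fin 2) (AdicCompletion (maximalIdeal R) R))}))
    (hψ : ψ.toRingHom.comp ((algebraMap C (AdicCompletion (maximalIdeal C) C)).comp (algebraMap R C)) =
      (Ideal.Quotient.mk _).comp ((MvPowerSeries.C : AdicCompletion (maximalIdeal R) R →+*
        MvPowerSeries (Fin 2) (AdicCompletion (maximalIdeal R) R)).comp
          (algebraMap R (AdicCompletion (maximalIdeal R) R)))) :
    ∃ (g : C →ₐ[R] R) (ĝ : AdicCompletion (maximalIdeal C) C →+* AdicCompletion (maximalIdeal R) R),
      ĝ.comp (algebraMap C (AdicCompletion (maximalIdeal C) C)) =
        (algebraMap R (AdicCompletion (maximalIdeal R) R)).comp g.toRingHom ∧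
      Ideal.span {ĝ (ψ.symm (Ideal.Quotient.mk _ (X 0)))} =
        Ideal.span {algebraMap R (AdicCompletion (maximalIdeal R) R) t₁} ∧
      Ideal.span {ĝ (ψ.symm (Ideal.Quotient.mk _ (X 1)))} =
        Ideal.span {algebraMap R (AdicCompletion (maximalIdeal R) R) t₂} := by
  exact ArtinApproxH7.exists_node_retraction R hR.2.2.1 Δ t₁ t₂ hΔ ht₁ ht₂ ht C ψ hψ

end Groth.Agent.S19894
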