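import Groth.Statements.S19895
import Groth.Statements.S19895
import Mathlib

set_option autoImplicit false
open Complex
open VerlindeComb

namespace Groth.Agent.S19895

lemma perm_eq_one_of_strictMono {r : ℕ} (q : Equiv.Perm (Fin r)) (hq : StrictMono q) : q = 1 := by
  have h : (StrictMono.orderIsoOfSurjective q hq q.surjective) = OrderIso.refl (Fin r) := Subsingleton.elim _ _
  ext i
  have := congrArg (fun e : Fin r ≃o Fin r => (e i : ℕ)) h
  simpa using this

set_option maxHeartbeats 1000000 in
/-- Fix integers r ≥ 2 and k ≥ 1, and two partitions λ, λ' with k ≥ λ_1 ≥ ⋯ ≥ λ_{r-1} ≥ λ_r = 0 and k ≥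
λ'_1 ≥ ⋯ ≥ λ'_{r-1} ≥ λ'_r = 0 such that λ is not equivalent to the dual partition λ'* = (k − λ'_r,
…, k − λ'_1), two integer vectors being equivalent when their difference is a constant vector (a, …,
a). For an integer vector v with r + k > v_1 > ⋯ > v_{r-1} > v_r = 0 put z(v)_j = exp(2πi v_j / (r +
k)), let S_μ(v) = det(z(v)_j^{μ_i + r − i}) / det(z(v)_j^{r − i}) be the Schur value and P(v) =
∏_{i<j} (2 sin(π (v_i − v_j)/(r + k)))². Then the sum over all such v of exp(−2πi (|λ| + |λ'|) (v_1
+ ⋯ + v_r) / (r (r + k))) · S_λ(v) · S_{λ'}(v) · P(v) vanishes; that is, the genus-zero Verlinde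
number of rank r, degree 0 and level k with two parabolic points of types λ, λ' is zero. (Only the
vanishing case is stated; the complementary case, where the number equals 1, is not part of this
statement. The source allows r = 1, where the non-equivalence hypothesis cannot hold.) Indices are
0-based below: lam i stands for λ_{i+1}. -/
theorem result (r k : ℕ) (hr : 2 ≤ r)
    (hk : 1 ≤ k) (lam lam' : Fin r → ℕ) (hlam : Antitone lam) (hlamk : ∀ i, lam i ≤ k)
    (hlam0 : ∀ i : Fin r, (i : ℕ) = r - 1 → lam i = 0)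
    (hlam' : Antitone lam') (hlam'k : ∀ i, lam' i ≤ k) (hlam'0 : ∀ i : Fin r, (i : ℕ) = r - 1 → lam' i = 0)
    (hne : ¬ ∃ a : ℤ, ∀ i, (lam i : ℤ) - ((k - lam' (Fin.rev i) : ℕ) : ℤ) = a)
    (z : (Fin r → ℕ) → Fin r → ℂ)
    (hz : ∀ v j, z v j = Complex.exp (2 * Real.pi * Complex.I * (v j : ℂ) / ((r : ℂ) + k)))
    (S : (Fin r → ℕ) → (Fin r → ℕ) → ℂ)
    (hS : ∀ μ v, S μ v = (Matrix.of fun i j : Fin r => z v j ^ (μ i + (r - 1 - (i : ℕ)))).det /
        (Matrix.of fun i j : Fin r => z v j ^ (r - 1 - (i : ℕ))).det)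
    (P : (Fin r → ℕ) → ℝ)
    (hP : ∀ v, P v = ∏ p ∈ (Finset.univ : Finset (Fin r × Fin r)).filter (fun p => p.1 < p.2),
        ((2 : ℝ) * Real.sin (Real.pi * ((v p.1 : ℝ) - (v p.2 : ℝ)) / ((r : ℝ) + k))) ^ 2) :
    (∑ v ∈ (Finset.univ : Finset (Fin r → Fin (r + k))).filter
        (fun v : Fin r → Fin (r + k) => StrictAnti v ∧ ∀ i : Fin r, (i : ℕ) = r - 1 → (v i : ℕ) = 0),
      Complex.exp (-(2 * Real.pi * Complex.I * (((∑ i, lam i) + (∑ i, lam' i) : ℕ) : ℂ) *
          ((∑ j, (v j : ℕ) : ℕ) : ℂ) / ((r : ℂ) * ((r : ℂ) + k)))) *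
        S lam (fun j => (v j : ℕ)) * S lam' (fun j => (v j : ℕ)) * (P (fun j => (v j : ℕ)) : ℂ)) = 0 := by
  classical
  set n := r + k with hn
  have : NeZero n := ⟨by omega⟩
  set ζ : ℂ := Complex.exp (2 * Real.pi * Complex.I / n) with hζdef
  have hζ : IsPrimitiveRoot ζ n := Complex.isPrimitiveRoot_exp n (NeZero.ne n)
  have hζ0 : ζ ≠ 0 := Complex.exp_ne_zero _
  have hzζ : ∀ v j, z v j = ζ ^ (v j) := by
    intro v j
    rw [hz, hζdef, ← Complex.exp_nat_mul]
    congr 1
    rw [hn]; push_cast; ring
  have hncast : (n : ℂ) = (r : ℂ) + k := by rw [hn]; push_cast; ring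
  set last : Fin r := ⟨r - 1, by omega⟩ with hlast
  set L : ℕ := (∑ i, lam i) + (∑ i, lam' i) with hL
  let a : Fin r → ℕ := fun i => lam i + (r - 1 - (i : ℕ))
  let a' : Fin r → ℕ := fun i => lam' i + (r - 1 - (i : ℕ))
  have ha : StrictAnti a := fun i j hij => by
    have := hlam hij.le
    have : (i : ℕ) < j := hij
    have := j.isLt
    simp only [a]; omega
  have ha' : StrictAnti a' := fun i j hij => by
    have := hlam' hij.le
    have : (i : ℕ) < j := hij
    have := j.isLt
    simp only [a']; omega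
  let A : (Fin r → ℕ) → (Fin r → ℕ) → ℂ := fun e v => (Matrix.of fun i j : Fin r => (ζ ^ v j) ^ e i).det
  let Φ : (Fin r → ℕ) → ℂ := fun v =>
    Complex.exp (-(2 * Real.pi * Complex.I * (L : ℂ) * ((∑ j, v j : ℕ) : ℂ) / ((r : ℂ) * n))) *
      A a v * A a' v / (∏ j, ζ ^ v j) ^ (r - 1)
  set Sset := (Finset.univ : Finset (Fin r → Fin n)).filter
    (fun v : Fin r → Fin n => StrictAnti v ∧ ∀ i : Fin r, (i : ℕ) = r - 1 → (v i : ℕ) = 0) with hSset
  set N := ((Finset.univ : Finset (Fin r × Fin r)).filter (fun p => p.1 < p.2)).card with hN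
  -- normal form of the summand
  suffices hmain : ∑ v ∈ Sset, Φ (fun j => (v j : ℕ)) = 0 by
    rw [← mul_zero ((-1 : ℂ) ^ N), ← hmain, Finset.mul_sum]
    refine Finset.sum_congr rfl fun v hv => ?_
    rw [hSset, Finset.mem_filter] at hv
    set w : Fin r → ℕ := fun j => (v j : ℕ) with hw
    have hwinj : Function.Injective (fun j => ζ ^ w j) := fun i j hij =>
      hv.2.1.injective (Fin.ext (hζ.pow_inj (v i).isLt (v j).isLt hij))
    have hΔ : ((Matrix.of fun i j : Fin r => z w j ^ (r - 1 - (i : ℕ))).det) ^ 2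
        = ∏ p ∈ (Finset.univ : Finset (Fin r × Fin r)).filter (fun p => p.1 < p.2),
            (ζ ^ w p.1 - ζ ^ w p.2) ^ 2 := by
      have h1 : (Matrix.of fun i j : Fin r => z w j ^ (r - 1 - (i : ℕ)))
          = ((Matrix.vandermonde fun j => ζ ^ w j).transpose).submatrix Fin.revPerm id := by
        ext i j
        simp only [Matrix.of_apply, Matrix.submatrix_apply, Matrix.transpose_apply,
          Matrix.vandermonde_apply, Fin.revPerm_apply, id, Fin.val_rev, hzζ]
        congr 1
        omega
      rw [h1, Matrix.det_permute, Matrix.det_transpose, Matrix.det_vandermonde, mul_pow]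
      have h2 : (((Equiv.Perm.sign (Fin.revPerm : Equiv.Perm (Fin r)) : ℤˣ) : ℤ) : ℂ) ^ 2 = 1 := by
        rcases Int.units_eq_one_or (Equiv.Perm.sign (Fin.revPerm : Equiv.Perm (Fin r))) with h | h <;> simp [h]
      rw [h2, one_mul, Finset.prod_filter, Fintype.prod_prod_type, ← Finset.prod_pow]
      refine Finset.prod_congr rfl fun i _ => ?_
      rw [← Finset.prod_filter, ← Finset.prod_pow, Finset.filter_lt_eq_Ioi]
      exact Finset.prod_congr rfl fun j _ => by ring
    have hprodpairs : ∏ p ∈ (Finset.univ : Finset (Fin r × Fin r)).filter (fun p => p.1 < p.2),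
        (ζ ^ w p.1 * ζ ^ w p.2) = (∏ j, ζ ^ w j) ^ (r - 1) := by
      rw [Finset.prod_mul_distrib, Finset.prod_filter, Finset.prod_filter, Fintype.prod_prod_type,
        Fintype.prod_prod_type_right, ← Finset.prod_mul_distrib, ← Finset.prod_pow]
      refine Finset.prod_congr rfl fun i _ => ?_
      rw [← Finset.prod_filter, ← Finset.prod_filter, Finset.filter_lt_eq_Ioi, Finset.filter_gt_eq_Iio]
      dsimp only
      rw [Finset.prod_const, Finset.prod_const, Fin.card_Ioi, Fin.card_Iio, ← pow_add]
      congr 1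
      omega
    have hsq : ∀ x y : ℕ, (ζ ^ x - ζ ^ y) ^ 2 = -(((((2 : ℝ) * Real.sin (Real.pi * ((x : ℝ) - (y : ℝ)) / ((r : ℝ) + k))) ^ 2 : ℝ)) : ℂ)
        * (ζ ^ x * ζ ^ y) := by
      intro x y
      set α : ℂ := Real.pi * (x : ℂ) / n with hα
      set β : ℂ := Real.pi * (y : ℂ) / n with hβ
      have hx : ζ ^ x = Complex.exp (α * I) * Complex.exp (α * I) := by
        rw [hζdef, ← Complex.exp_nat_mul, ← Complex.exp_add]; congr 1; rw [hα]; ring
      have hy : ζ ^ y = Complex.exp (β * I) * Complex.exp (β * I) := by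
        rw [hζdef, ← Complex.exp_nat_mul, ← Complex.exp_add]; congr 1; rw [hβ]; ring
      have hsin : ((Real.sin (Real.pi * ((x : ℝ) - (y : ℝ)) / ((r : ℝ) + k)) : ℝ) : ℂ) = Complex.sin (α - β) := by
        rw [Complex.ofReal_sin]; congr 1; rw [hα, hβ, hncast]; push_cast; ring
      push_cast [hsin] at *
      rw [hsin, hx, hy, Complex.sin, show -(α - β) * I = β * I + -(α * I) by ring,
        show (α - β) * I = α * I + -(β * I) by ring, Complex.exp_add, Complex.exp_add, Complex.exp_neg, Complex.exp_neg]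
      have e1 := Complex.exp_ne_zero (α * I)
      have e2 := Complex.exp_ne_zero (β * I)
      field_simp
      ring_nf
      simp [Complex.I_sq]
      try ring
    have hΔ2 : ((Matrix.of fun i j : Fin r => z w j ^ (r - 1 - (i : ℕ))).det) ^ 2
        = (-1) ^ N * ((P w : ℝ) : ℂ) * (∏ j, ζ ^ w j) ^ (r - 1) := by
      rw [hΔ, hP, Complex.ofReal_prod, ← hprodpairs, hN, ← Finset.prod_const, ← Finset.prod_mul_distrib,
        ← Finset.prod_mul_distrib]
      exact Finset.prod_congr rfl fun p _ => by rw [hsq]; ring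
    have hΔ0 : (Matrix.of fun i j : Fin r => z w j ^ (r - 1 - (i : ℕ))).det ≠ 0 := by
      intro h
      rw [h, zero_pow (by norm_num)] at hΔ
      obtain ⟨p, hp, hp0⟩ := Finset.prod_eq_zero_iff.1 hΔ.symm
      rw [Finset.mem_filter] at hp
      exact hp.2.ne (hwinj (sub_eq_zero.1 (pow_eq_zero_iff (by norm_num) |>.1 hp0)))
    have hp0 : (∏ j, ζ ^ w j) ^ (r - 1) ≠ 0 :=
      pow_ne_zero _ (Finset.prod_ne_zero_iff.2 fun j _ => pow_ne_zero _ hζ0)
    set Δ := (Matrix.of fun i j : Fin r => z w j ^ (r - 1 - (i : ℕ))).det with hΔdef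
    rw [hS, hS, ← hΔdef]
    simp only [hzζ, Φ, A, a, a', hncast, ← hL]
    have hN2 : ((-1 : ℂ) ^ N) * (-1) ^ N = 1 := by rw [← mul_pow]; norm_num
    field_simp
    linear_combination (-((-1 : ℂ) ^ N) *
      (Matrix.of fun i j : Fin r => (ζ ^ w j) ^ (lam i + (r - 1 - (i : ℕ)))).det *
      (Matrix.of fun i j : Fin r => (ζ ^ w j) ^ (lam' i + (r - 1 - (i : ℕ)))).det) * hΔ2
      + (-((Matrix.of fun i j : Fin r => (ζ ^ w j) ^ (lam i + (r - 1 - (i : ℕ)))).det *
      (Matrix.of fun i j : Fin r => (ζ ^ w j) ^ (lam' i + (r - 1 - (i : ℕ)))).det * ((P w : ℝ) : ℂ) * (∏ j, ζ ^ w j) ^ (r - 1))) * hN2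
  -- the exponent sums
  have hsuma : (∑ i, a i) + (∑ i, a' i) = L + r * (r - 1) := by
    have e : 2 * ∑ i : Fin r, (r - 1 - (i : ℕ)) = r * (r - 1) := by
      have h2 : ∑ i : Fin r, (r - 1 - (i : ℕ)) = ∑ i : Fin r, (i : ℕ) := by
        rw [← Equiv.sum_comp Fin.revPerm (fun i : Fin r => (i : ℕ))]
        exact Finset.sum_congr rfl fun i _ => by simp [Fin.val_rev]; omega
      rw [h2, Fin.sum_univ_eq_sum_range (fun i => i), mul_comm 2, Finset.sum_range_id_mul_two]
    simp only [a, a', Finset.sum_add_distrib, hL]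
    omega
  -- scaling and permuting columns
  have hA : ∀ (e : Fin r → ℕ) (v : Fin r → ℕ) (p : Equiv.Perm (Fin r)) (s : ℂ) (w : Fin r → ℕ),
      (∀ j, ζ ^ w j = s * ζ ^ v (p j)) →
      A e w = ((Equiv.Perm.sign p : ℤ) : ℂ) * s ^ (∑ i, e i) * A e v := by
    intro e v p s w hw
    simp only [A]
    have h1 : (Matrix.of fun i j : Fin r => (ζ ^ w j) ^ e i)
        = Matrix.of fun i j : Fin r => (s ^ e i) * ((Matrix.of fun i j : Fin r => (ζ ^ v j) ^ e i).submatrix id p) i j := by
      ext i j; simp [hw, mul_pow]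
    rw [h1, Matrix.det_mul_column, Matrix.det_permute', Finset.prod_pow_eq_pow_sum]
    ring
  have hsign : ∀ p : Equiv.Perm (Fin r), ((Equiv.Perm.sign p : ℤ) : ℂ) * ((Equiv.Perm.sign p : ℤ) : ℂ) = 1 := by
    intro p
    rcases Int.units_eq_one_or (Equiv.Perm.sign p) with h | h <;> simp [h]
  by_cases hdvd : r ∣ L
  · -- periodic case: sum over all functions
    obtain ⟨M, hM⟩ := hdvd
    have hΦ : ∀ v : Fin r → ℕ, Φ v = A a v * A a' v * ∏ j, (ζ ^ v j) ^ (-((M + (r - 1) : ℕ) : ℤ)) := by
      intro v
      have he : Complex.exp (-(2 * Real.pi * Complex.I * (L : ℂ) * ((∑ j, v j : ℕ) : ℂ) / ((r : ℂ) * n)))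
          = ((∏ j, ζ ^ v j) ^ M)⁻¹ := by
        rw [Finset.prod_pow_eq_pow_sum, ← pow_mul, hζdef, ← Complex.exp_nat_mul, ← Complex.exp_neg]
        congr 1
        have : (r : ℂ) ≠ 0 := by exact_mod_cast (show r ≠ 0 by omega)
        rw [hM]; push_cast
        field_simp
      simp only [Φ]
      rw [he, Finset.prod_zpow, zpow_neg, zpow_natCast, pow_add]
      field_simp
    let T := Fintype.piFinset fun j : Fin r => if j = last then ({0} : Finset (Fin n)) else Finset.univ
    have hT : ∑ v ∈ T, Φ (fun j => (v j : ℕ)) = 0 := by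
      simp only [hΦ, A, Matrix.det_apply', Matrix.of_apply, Finset.mul_sum, Finset.sum_mul]
      rw [Finset.sum_comm]
      refine Finset.sum_eq_zero fun σ _ => ?_
      rw [Finset.sum_comm]
      refine Finset.sum_eq_zero fun τ _ => ?_
      let ex : Fin r → ℤ := fun j => (a (τ j) : ℤ) + a' (σ j) - ((M + (r - 1) : ℕ) : ℤ)
      suffices hz0 : ∑ v ∈ T, ∏ j, (ζ ^ ex j) ^ ((v j : ℕ)) = 0 by
        rw [← mul_zero (((Equiv.Perm.sign τ : ℤ) : ℂ) * ((Equiv.Perm.sign σ : ℤ) : ℂ)), ← hz0, Finset.mul_sum]
        refine Finset.sum_congr rfl fun v _ => ?_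
        have : ∀ j, (ζ ^ ex j) ^ ((v j : ℕ)) = (ζ ^ (v j : ℕ)) ^ a (τ j) * (ζ ^ (v j : ℕ)) ^ a' (σ j)
            * (ζ ^ (v j : ℕ)) ^ (-((M + (r - 1) : ℕ) : ℤ)) := by
          intro j
          rw [← zpow_natCast (ζ ^ ex j), ← zpow_mul, mul_comm, zpow_mul, zpow_natCast, ← zpow_natCast _ (a (τ j)),
            ← zpow_natCast _ (a' (σ j)), ← zpow_add₀ (pow_ne_zero _ hζ0), ← zpow_add₀ (pow_ne_zero _ hζ0)]
          simp only [ex, sub_eq_add_neg]
        rw [Finset.prod_congr rfl fun j _ => this j, Finset.prod_mul_distrib, Finset.prod_mul_distrib]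
        ring
      rw [← Finset.prod_univ_sum (f := fun j (x : Fin n) => (ζ ^ ex j) ^ (x : ℕ))]
      by_contra hne0
      rw [← ne_eq, Finset.prod_ne_zero_iff] at hne0
      have hdiv : ∀ j, j ≠ last → (n : ℤ) ∣ ex j := by
        intro j hj
        by_contra hnd
        apply hne0 j (Finset.mem_univ j)
        rw [if_neg hj, Fin.sum_univ_eq_sum_range (fun x => (ζ ^ ex j) ^ x), geom_sum_eq]
        · have : (ζ ^ ex j) ^ n = 1 := by
            rw [← zpow_natCast (ζ ^ ex j), ← zpow_mul, mul_comm, zpow_mul, zpow_natCast, hζ.pow_eq_one, one_zpow]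
          rw [this, sub_self, zero_div]
        · exact fun h => hnd ((hζ.zpow_eq_one_iff_dvd _).1 h)
      have hsumex : ∑ j, ex j = 0 := by
        simp only [ex, Finset.sum_sub_distrib, Finset.sum_add_distrib, Equiv.sum_comp τ (fun i => (a i : ℤ)),
          Equiv.sum_comp σ (fun i => (a' i : ℤ)), Finset.sum_const, Finset.card_univ, Fintype.card_fin,
          nsmul_eq_mul]
        have : ((∑ i, a i : ℕ) : ℤ) + ((∑ i, a' i : ℕ) : ℤ) = ((L + r * (r - 1) : ℕ) : ℤ) := by exact_mod_cast hsuma
        push_cast [hM] at this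
        push_cast
        linarith
      have hall : ∀ j, (n : ℤ) ∣ ex j := by
        intro j
        by_cases hj : j = last
        · subst hj
          rw [← Finset.add_sum_erase _ _ (Finset.mem_univ last), add_eq_zero_iff_eq_neg] at hsumex
          rw [hsumex, dvd_neg]
          exact Finset.dvd_sum fun i hi => hdiv i (Finset.mem_erase.1 hi).1
        · exact hdiv j hj
      -- each pair sum is `mm` or `mm + n`; exactness of the total forces equality
      set Q : ℤ := ((M + (r - 1) : ℕ) : ℤ) with hQ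
      choose c hc using hall
      have hbound : ∀ i, a i < n ∧ a' i < n := fun i => by
        have := hlamk i; have := hlam'k i
        simp only [a, a']; omega
      have ha0 : a last = 0 := by simp only [a]; rw [hlam0 last rfl]; simp [hlast]
      have hab : ∀ j j', c j ≤ c j' + 1 := by
        intro j j'
        have h1 := hc j; have h2 := hc j'
        simp only [ex] at h1 h2
        have := hbound (τ j); have := hbound (σ j); have := hbound (τ j'); have := hbound (σ j')
        have hpos : (0 : ℤ) < n := by exact_mod_cast (show 0 < n by omega)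
        nlinarith
      set j0 := τ.symm last with hj0
      have hle : ∀ j, c j0 ≤ c j := by
        intro j
        have h1 := hc j; have h0 := hc j0
        simp only [ex, hj0, Equiv.apply_symm_apply, ha0, Nat.cast_zero] at h1 h0
        have hb1 := (hbound (σ (τ.symm last))).2
        have hb2 := (hbound (τ j)).1
        by_contra hlt
        have : c j + 1 ≤ c j0 := by omega
        have hpos : (0 : ℤ) < n := by exact_mod_cast (show 0 < n by omega)
        rw [hj0] at *
        have hm := mul_le_mul_of_nonneg_left this hpos.le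
        rw [mul_add, mul_one] at hm
        linarith [Int.natCast_nonneg (a (τ j)), Int.natCast_nonneg (a' (σ j)), (by exact_mod_cast hb1 : (a' (σ (τ.symm last)) : ℤ) < n)]
      have hcsum : ∑ j, c j = 0 := by
        have : (n : ℤ) * ∑ j, c j = 0 := by rw [Finset.mul_sum, ← hsumex]; exact Finset.sum_congr rfl fun j _ => (hc j).symm
        rcases mul_eq_zero.1 this with h | h
        · have : n = 0 := by exact_mod_cast h
          omega
        · exact h
      have hczero : ∀ j, c j = 0 := by
        -- `c` takes the values `c j0` and `c j0 + 1`, the former at `j0`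
        have h1 : c j0 * r ≤ 0 := by
          have := Finset.sum_le_sum (s := Finset.univ) fun j (_ : j ∈ (Finset.univ : Finset (Fin r))) => hle j
          rw [Finset.sum_const, Finset.card_univ, Fintype.card_fin, nsmul_eq_mul, hcsum] at this
          linarith
        have h2 : 0 < (c j0 + 1) * r := by
          have := Finset.sum_lt_sum (s := Finset.univ) (fun j (_ : j ∈ (Finset.univ : Finset (Fin r))) => hab j j0)
            ⟨j0, Finset.mem_univ _, by omega⟩
          rw [Finset.sum_const, Finset.card_univ, Fintype.card_fin, nsmul_eq_mul, hcsum] at this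
          linarith
        have hc0 : c j0 = 0 := by
          have hrpos : (0 : ℤ) < r := by exact_mod_cast (show 0 < r by omega)
          nlinarith
        intro j
        have := (Finset.sum_eq_zero_iff_of_nonneg fun i _ => hc0 ▸ hle i).1 hcsum j (Finset.mem_univ j)
        exact this
      -- hence the pairing is the reversal
      let π : Equiv.Perm (Fin r) := τ.symm.trans σ
      have hpair : ∀ i, (a i : ℤ) + a' (π i) = Q := by
        intro i
        have := hc (τ.symm i)
        rw [hczero, mul_zero] at this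
        simp only [ex, Equiv.apply_symm_apply] at this
        simp only [π, Equiv.trans_apply]
        linarith
      have hπ : ∀ i, π i = Fin.rev i := by
        have : StrictMono (Fin.revPerm.trans π) := by
          intro i j hij
          simp only [Equiv.trans_apply, Fin.revPerm_apply]
          have h1 := ha (Fin.rev_lt_rev.2 hij)
          have h2 := hpair (Fin.rev i); have h3 := hpair (Fin.rev j)
          exact ha'.lt_iff_gt.1 (by omega)
        intro i
        have := congrArg (fun q : Equiv.Perm (Fin r) => q (Fin.rev i)) (perm_eq_one_of_strictMono _ this)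
        simpa using this
      apply hne
      refine ⟨Q - (r - 1 : ℕ) - k, fun i => ?_⟩
      have := hpair i
      rw [hπ] at this
      have := hlam'k (Fin.rev i)
      have := i.isLt
      simp only [a, a', Fin.val_rev] at *
      omega
    -- from all functions to the sorted ones
    let Fx := (Finset.univ : Finset (Equiv.Perm (Fin r))).filter fun p => p last = last
    have hfac : ∀ (v : Fin r → ℕ) (p : Equiv.Perm (Fin r)), Φ (fun j => v (p j)) = Φ v := by
      intro v p
      rw [hΦ, hΦ, hA a v p 1 _ (fun j => (one_mul _).symm), hA a' v p 1 _ (fun j => (one_mul _).symm),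
        Equiv.prod_comp p (fun j => (ζ ^ v j) ^ (-((M + (r - 1) : ℕ) : ℤ)))]
      linear_combination (1 : ℂ) ^ (∑ i, a i) * 1 ^ (∑ i, a' i) * A a v * A a' v *
        (∏ j, (ζ ^ v j) ^ (-((M + (r - 1) : ℕ) : ℤ))) * hsign p
    have hzero : ∀ v : Fin r → Fin n, ¬ Function.Injective v → Φ (fun j => (v j : ℕ)) = 0 := by
      intro v hv
      simp only [Function.Injective, not_forall] at hv
      obtain ⟨i, j, hij, hne'⟩ := hv
      simp only [Φ, A]
      rw [Matrix.det_zero_of_column_eq hne' (fun l => by simp [hij])]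
      simp
    have hbij : ∑ v ∈ T.filter (fun v => Function.Injective v), Φ (fun j => (v j : ℕ))
        = ∑ q ∈ Fx ×ˢ Sset, Φ (fun j => (q.2 (q.1 j) : ℕ)) := by
      symm
      refine Finset.sum_bij (fun q _ => q.2 ∘ q.1) ?_ ?_ ?_ (fun _ _ => rfl)
      · intro q hq
        simp only [Finset.mem_product, Fx, hSset, Finset.mem_filter, Finset.mem_univ, true_and] at hq
        simp only [Finset.mem_filter, T, Fintype.mem_piFinset]
        refine ⟨fun j => ?_, hq.2.1.injective.comp q.1.injective⟩
        by_cases hj : j = last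
        · subst hj
          rw [if_pos rfl, Finset.mem_singleton, Function.comp_apply, hq.1]
          exact Fin.ext (by simpa using hq.2.2 last rfl)
        · simp [hj]
      · intro q hq q' hq' he
        simp only [Finset.mem_product, Fx, hSset, Finset.mem_filter, Finset.mem_univ, true_and] at hq hq'
        have he' : ∀ j, q.2 (q.1 j) = q'.2 (q'.1 j) := congrFun he
        have : q.1.symm.trans q'.1 = 1 := by
          refine perm_eq_one_of_strictMono _ fun i j hij => ?_
          have h1 := he' (q.1.symm i); have h2 := he' (q.1.symm j)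
          rw [Equiv.apply_symm_apply] at h1 h2
          have := hq.2.1 hij
          rw [h1, h2] at this
          exact hq'.2.1.lt_iff_gt.1 this
        have hp : q.1 = q'.1 := by
          ext j
          have := congrArg (fun p : Equiv.Perm (Fin r) => p (q.1 j)) this
          simp at this
          rw [this]
        refine Prod.ext hp (funext fun j => ?_)
        have := he' (q.1.symm j)
        rwa [← hp, Equiv.apply_symm_apply] at this
      · intro v hv
        simp only [Finset.mem_filter, T, Fintype.mem_piFinset] at hv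
        have hv0 : (v last : ℕ) = 0 := by
          have := hv.1 last
          rw [if_pos rfl, Finset.mem_singleton] at this
          simp [this]
        let p : Equiv.Perm (Fin r) := Fin.revPerm.trans (Tuple.sort v)
        have hs : StrictAnti (v ∘ p) := by
          refine Antitone.strictAnti_of_injective ?_ (hv.2.comp p.injective)
          intro i j hij
          exact Tuple.monotone_sort v (Fin.rev_le_rev.2 hij)
        have hpl : p last = last := by
          by_contra hne'
          have h1 : p.symm last ≤ last := by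
            show (p.symm last : ℕ) ≤ r - 1
            have := (p.symm last).isLt; omega
          have h2 : p.symm last < last := lt_of_le_of_ne h1 fun h => hne' (by
            conv_lhs => rw [← h]
            rw [Equiv.apply_symm_apply])
          have h3 := hs h2
          simp only [Function.comp_apply, Equiv.apply_symm_apply] at h3
          have : (v (p last) : ℕ) < v last := h3
          omega
        refine ⟨(p.symm, v ∘ p), ?_, ?_⟩
        · simp only [Finset.mem_product, Fx, hSset, Finset.mem_filter, Finset.mem_univ, true_and]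
          refine ⟨by rw [Equiv.symm_apply_eq, hpl], hs, fun i hi => ?_⟩
          have : i = last := Fin.ext hi
          subst this
          simp [hpl, hv0]
        · funext j; simp
    rw [← Finset.sum_filter_add_sum_filter_not T (fun v => Function.Injective v),
      Finset.sum_eq_zero (s := T.filter fun v => ¬ Function.Injective v)
        (fun v hv => hzero v (Finset.mem_filter.1 hv).2), add_zero, hbij, Finset.sum_product] at hT
    have hT' : (Fx.card : ℂ) * ∑ v ∈ Sset, Φ (fun j => (v j : ℕ)) = 0 := by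
      rw [← nsmul_eq_mul, ← Finset.sum_const, ← hT]
      exact Finset.sum_congr rfl fun p _ => Finset.sum_congr rfl fun v _ => (hfac (fun j => (v j : ℕ)) p).symm
    rcases mul_eq_zero.1 hT' with h | h
    · have : Fx.card = 0 := by exact_mod_cast h
      exact absurd this (Finset.card_ne_zero.2 ⟨1, by simp [Fx]⟩)
    · exact h
  · -- rotation case
    set ξ : ℂ := Complex.exp (-(2 * Real.pi * Complex.I * (L : ℂ) / r)) with hξ
    have hξ1 : ξ ≠ 1 := by
      intro h
      rw [hξ, Complex.exp_eq_one_iff] at h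
      obtain ⟨m, hm⟩ := h
      have hr0 : (r : ℂ) ≠ 0 := by exact_mod_cast (show r ≠ 0 by omega)
      have h2 : (2 * Real.pi * Complex.I : ℂ) ≠ 0 := Complex.two_pi_I_ne_zero
      rw [div_eq_mul_inv] at hm
      have : (L : ℂ) = -(m : ℂ) * r := by
        field_simp at hm
        linear_combination -hm
      have : (L : ℤ) = -m * r := by exact_mod_cast this
      exact hdvd (Int.natCast_dvd_natCast.1 ⟨-m, by rw [this]; ring⟩)
    let pre : Fin r := ⟨r - 2, by omega⟩
    let c : (Fin r → Fin n) → ℕ := fun v => (v pre : ℕ)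
    let ρ : (Fin r → Fin n) → (Fin r → Fin n) := fun v j =>
      if (j : ℕ) = 0 then Fin.ofNat n (n - c v) else Fin.ofNat n ((v ⟨(j : ℕ) - 1, by omega⟩ : ℕ) - c v)
    have hmem : ∀ v ∈ Sset, StrictAnti v ∧ (v last : ℕ) = 0 ∧ 0 < c v := by
      intro v hv
      rw [hSset, Finset.mem_filter] at hv
      refine ⟨hv.2.1, hv.2.2 last rfl, ?_⟩
      have h : v last < v pre := hv.2.1 (show (pre : ℕ) < last by simp [pre, hlast]; omega)
      exact lt_of_le_of_lt (Nat.zero_le _) h
    have hρv : ∀ v ∈ Sset, ∀ j : Fin r, (ρ v j : ℕ) = if (j : ℕ) = 0 then n - c v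
        else (v ⟨(j : ℕ) - 1, by omega⟩ : ℕ) - c v := by
      intro v hv j
      have := (hmem v hv).2.2
      simp only [ρ]
      split_ifs
      · simp only [Fin.val_ofNat]; exact Nat.mod_eq_of_lt (by omega)
      · simp only [Fin.val_ofNat]; exact Nat.mod_eq_of_lt (lt_of_le_of_lt (Nat.sub_le _ _) (Fin.isLt _))
    have hge : ∀ v ∈ Sset, ∀ j : Fin r, (j : ℕ) ≤ r - 2 → c v ≤ (v j : ℕ) := by
      intro v hv j hj
      exact (hmem v hv).1.antitone (show j ≤ pre from hj)
    have hρmem : ∀ v ∈ Sset, ρ v ∈ Sset := by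
      intro v hv
      rw [hSset, Finset.mem_filter]
      refine ⟨Finset.mem_univ _, fun i j hij => ?_, fun i hi => ?_⟩
      · show (ρ v j : ℕ) < ρ v i
        have hij' : (i : ℕ) < j := hij
        have := j.isLt
        rw [hρv v hv, hρv v hv, if_neg (by omega)]
        have h1 := hge v hv ⟨(j : ℕ) - 1, by omega⟩ (by simp; omega)
        split_ifs with hi0
        · have := (v ⟨(j : ℕ) - 1, by omega⟩).isLt
          omega
        · have h2 : (v ⟨(j : ℕ) - 1, by omega⟩ : ℕ) < v ⟨(i : ℕ) - 1, by omega⟩ :=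
            (hmem v hv).1 (show ((i : ℕ) - 1) < (j : ℕ) - 1 by omega)
          omega
      · rw [hρv v hv, if_neg (by omega)]
        simp only [c, pre, hi, show r - 1 - 1 = r - 2 by omega, Nat.sub_self]
    have hρinj : ∀ v ∈ Sset, ∀ w ∈ Sset, ρ v = ρ w → v = w := by
      intro v hv w hw h
      have hc0 : n - c v = n - c w := by
        have := congrArg (fun u : Fin r → Fin n => (u ⟨0, by omega⟩ : ℕ)) h
        simpa [hρv v hv, hρv w hw] using this
      have : c v = c w := by
        have := (v pre).isLt; have := (w pre).isLt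
        simp only [c] at hc0 ⊢; omega
      funext i
      apply Fin.ext
      by_cases hi : (i : ℕ) = r - 1
      · rw [show i = last from Fin.ext hi, (hmem v hv).2.1, (hmem w hw).2.1]
      · have hi' : (i : ℕ) + 1 < r := by omega
        have hh := congrArg (fun u : Fin r → Fin n => (u ⟨(i : ℕ) + 1, hi'⟩ : ℕ)) h
        simp [hρv v hv, hρv w hw] at hh
        have := hge v hv i (by omega); have := hge w hw i (by omega)
        omega
    have hrot : ∀ v ∈ Sset, Φ (fun j => (ρ v j : ℕ)) = ξ * Φ (fun j => (v j : ℕ)) := by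
      intro v hv
      set C := c v with hC
      have hCn : C ≤ n := (v pre).isLt.le
      let p : Equiv.Perm (Fin r) := (finRotate r).symm
      have hp : ∀ j : Fin r, (p j : ℕ) = if (j : ℕ) = 0 then r - 1 else (j : ℕ) - 1 := by
        intro j
        obtain ⟨i, rfl⟩ := (finRotate r).surjective j
        obtain ⟨q, rfl⟩ : ∃ q, r = q + 1 := ⟨r - 1, by omega⟩
        simp only [p, Equiv.symm_apply_apply, coe_finRotate]
        split_ifs with h1 h2 h2 <;> simp_all <;> omega
      have hval : ∀ j : Fin r, (ρ v j : ℕ) + C = (v (p j) : ℕ) + if (j : ℕ) = 0 then n else 0 := by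
        intro j
        rw [hρv v hv]
        split_ifs with h
        · have : p j = last := Fin.ext (by rw [hp, if_pos h])
          rw [this, (hmem v hv).2.1]; omega
        · have : p j = ⟨(j : ℕ) - 1, by omega⟩ := Fin.ext (by rw [hp, if_neg h])
          rw [this]
          have := hge v hv ⟨(j : ℕ) - 1, by omega⟩ (by simp; omega)
          omega
      have hs : ∀ j : Fin r, ζ ^ (ρ v j : ℕ) = (ζ ^ C)⁻¹ * ζ ^ (v (p j) : ℕ) := by
        intro j
        rw [eq_inv_mul_iff_mul_eq₀ (pow_ne_zero _ hζ0), ← pow_add, add_comm, hval, pow_add]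
        split_ifs
        · rw [hζ.pow_eq_one, mul_one]
        · rw [pow_zero, mul_one]
      have hsum : (∑ j, (ρ v j : ℕ)) + r * C = (∑ j, (v j : ℕ)) + n := by
        have := Finset.sum_congr rfl fun j (_ : j ∈ (Finset.univ : Finset (Fin r))) => hval j
        rw [Finset.sum_add_distrib, Finset.sum_add_distrib, Finset.sum_const, Finset.card_univ,
          Fintype.card_fin, smul_eq_mul, Equiv.sum_comp p (fun j => (v j : ℕ))] at this
        rw [this]
        congr 1
        rw [Finset.sum_eq_single (⟨0, by omega⟩ : Fin r)]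
        · simp
        · intro j _ hj
          rw [if_neg fun h => hj (Fin.ext h)]
        · simp
      have hexp : Complex.exp (-(2 * Real.pi * Complex.I * (L : ℂ) * ((∑ j, (ρ v j : ℕ) : ℕ) : ℂ) / ((r : ℂ) * n)))
          = Complex.exp (-(2 * Real.pi * Complex.I * (L : ℂ) * ((∑ j, (v j : ℕ) : ℕ) : ℂ) / ((r : ℂ) * n)))
            * (ζ ^ C) ^ L * ξ := by
        rw [← pow_mul, hζdef, ← Complex.exp_nat_mul, hξ, ← Complex.exp_add, ← Complex.exp_add]
        congr 1
        have hr0 : (r : ℂ) ≠ 0 := by exact_mod_cast (show r ≠ 0 by omega)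
        have hn0 : (n : ℂ) ≠ 0 := by exact_mod_cast (show n ≠ 0 by omega)
        have := congrArg (fun x : ℕ => (x : ℂ)) hsum
        push_cast at this ⊢
        field_simp
        linear_combination (-((L : ℂ))) * this
      simp only [Φ]
      rw [hexp, hA a (fun j => (v j : ℕ)) p _ _ hs, hA a' (fun j => (v j : ℕ)) p _ _ hs,
        Finset.prod_congr rfl fun j _ => hs j, Finset.prod_mul_distrib, Finset.prod_const, Finset.card_univ,
        Fintype.card_fin, Equiv.prod_comp p (fun j => ζ ^ (v j : ℕ))]
      have hC0 : ζ ^ C ≠ 0 := pow_ne_zero _ hζ0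
      have hkey : ((ζ ^ C)⁻¹) ^ (∑ i, a i) * ((ζ ^ C)⁻¹) ^ (∑ i, a' i)
          = ((ζ ^ C) ^ L)⁻¹ * (((ζ ^ C)⁻¹) ^ r) ^ (r - 1) := by
        rw [← pow_add, hsuma, pow_add, pow_mul, inv_pow (ζ ^ C) L]
      rw [mul_pow]
      set s := (ζ ^ C)⁻¹
      have hs0 : (s ^ r) ^ (r - 1) ≠ 0 := pow_ne_zero _ (pow_ne_zero _ (inv_ne_zero hC0))
      have hsg := hsign p
      generalize ((Equiv.Perm.sign p : ℤ) : ℂ) = e at *
      generalize s ^ (∑ i, a i) = x at *
      generalize s ^ (∑ i, a' i) = y at *
      generalize (s ^ r) ^ (r - 1) = t at *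
      generalize hw : (ζ ^ C) ^ L = w at *
      have hw0 : w ≠ 0 := hw ▸ pow_ne_zero _ hC0
      have hxy : w * x * y = t := by rw [mul_assoc, hkey, ← mul_assoc, mul_inv_cancel₀ hw0, one_mul]
      field_simp
      linear_combination (e * e * ((∏ i, ζ ^ (v i : ℕ))⁻¹) ^ (r - 1) * ξ
          * A a (fun j => (v j : ℕ)) * A a' (fun j => (v j : ℕ))) * hxy
        + (t * ((∏ i, ζ ^ (v i : ℕ))⁻¹) ^ (r - 1) * ξ
          * A a (fun j => (v j : ℕ)) * A a' (fun j => (v j : ℕ))) * hsg
    set G := ∑ v ∈ Sset, Φ (fun j => (v j : ℕ)) with hG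
    have : ξ * G = G := by
      rw [hG, Finset.mul_sum, ← Finset.sum_congr rfl hrot]
      refine Finset.sum_bij (fun v _ => ρ v) hρmem (fun v hv w hw h => hρinj v hv w hw h) ?_ (fun _ _ => rfl)
      exact fun w hw => Finset.surj_on_of_inj_on_of_card_le (fun v _ => ρ v) hρmem
        (fun v w hv hw h => hρinj v hv w hw h) le_rfl w hw |>.imp fun v hv => ⟨hv.1, hv.2.symm⟩
    by_contra hG0
    exact hξ1 (mul_right_cancel₀ hG0 (this.trans (one_mul G).symm))

end Groth.Agent.S19895
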