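import Groth.Statements.S19898
import Groth.Statements.S19898
import Groth.Agent.Lib.GammaD.Gamma
import Mathlib.LinearAlgebra.Determinant

set_option autoImplicit false
universe u
open scoped TensorProduct
open SymTen

namespace Groth.Agent.S19898

/-- Let R be a commutative ring and R' a commutative R-algebra that is free of rank d as an R-module.
Let (C, γ) be the degree-d divided power algebra of R' over R, given as an R-algebra C with a
multiplicative homogeneous degree-d polynomial law γ : R' → C that is universal among such laws; let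
φ : C → T^d_R(R') be the R-algebra homomorphism into the d-fold tensor power whose composite with γ
is the law x ↦ x ⊗ ⋯ ⊗ x, and π : C → R the R-algebra homomorphism whose composite with γ is the
norm law of R' over R. Let T^d_R(R') act on itself factor by factor and let I_d ⊂ T^d_R(R') be the
R-span of the pure tensors with two equal factors, so that T^d_R(R')/I_d is the top exterior power
Λ^d_R(R'), free of rank one. Then for every c ∈ C and every x ∈ T^d_R(R') the element φ(c)·x − π(c)
x lies in I_d: the symmetric tensor φ(c) acts on Λ^d_R(R') as multiplication by the scalar π(c),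
i.e. the homomorphism TS^d_R(R') → R given by the action on the top exterior power, composed with φ,
equals π. (The source states this for R' finite locally free of constant rank d; the free case is
the affine-local form.) -/
theorem result (R : Type u) [CommRing R] (R' : Type u) [CommRing R']
    [Algebra R R'] [Module.Free R R'] [Module.Finite R R'] (d : ℕ) (hd : Module.finrank R R' = d)
    {C : Type u} [CommRing C] [Algebra R C] (γ : PolLaw.MulLaw R R' C d) (hγ : PolLaw.IsGammaD γ)
    (φ : C →ₐ[R] (⨂[R] _ : Fin d, R')) (hφ : PolLaw.MulLaw.postcomp φ γ = SymTen.tpowLaw R R' d)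
    (π : C →ₐ[R] R) (hπ : PolLaw.MulLaw.postcomp π γ = PolLaw.normLaw R R' d hd)
    (c : C) (x : ⨂[R] _ : Fin d, R') :
    SymTen.tpowAct R R' R' d (φ c) x - π c • x ∈ SymTen.altSpan R R' d := by
  classical
  rcases subsingleton_or_nontrivial R with hR | hR
  · have := Module.subsingleton R (⨂[R] _ : Fin d, R')
    rw [Subsingleton.elim (SymTen.tpowAct R R' R' d (φ c) x - π c • x) 0]
    exact zero_mem _
  let b := Module.finBasisOfFinrankEq R R' hd
  let D : (⨂[R] _ : Fin d, R') →ₗ[R] R := PiTensorProduct.lift b.det.toMultilinearMap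
  let A := SymTen.altSpan R R' d
  let q : R' [⋀^Fin d]→ₗ[R] ((⨂[R] _ : Fin d, R') ⧸ A) :=
    { A.mkQ.compMultilinearMap (PiTensorProduct.tprod R) with
      map_eq_zero_of_eq' := fun p i j hp hij =>
        (Submodule.Quotient.mk_eq_zero A).2 (Submodule.subset_span ⟨p, i, j, hij, hp, rfl⟩) }
  have hker : ∀ t, A.mkQ t = D t • q b := by
    intro t
    induction t using PiTensorProduct.induction_on with
    | smul_tprod r p =>
      have hq : q = (LinearMap.toSpanSingleton R _ (q b)).compAlternatingMap b.det := by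
        refine Module.Basis.ext_alternating b fun i h => ?_
        let σ : Equiv.Perm (Fin d) := Equiv.ofBijective i (Finite.injective_iff_bijective.1 h)
        change q (b ∘ σ) = _
        simp only [AlternatingMap.map_perm, LinearMap.compAlternatingMap_apply, LinearMap.toSpanSingleton_apply]
        rw [show (fun j => b (i j)) = b ∘ σ from rfl, AlternatingMap.map_perm, Module.Basis.det_self]
        simp [Units.smul_def, Int.cast_smul_eq_zsmul]
      have h := congrArg (fun f : R' [⋀^Fin d]→ₗ[R] _ => f p) hq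
      rw [map_smul, map_smul, smul_assoc]
      congr 1
      refine Eq.trans ?_ (h.trans ?_)
      · rfl
      · simp [D]
    | add u v hu hv => rw [map_add, map_add, hu, hv, add_smul]
  suffices h : ∀ t, D (SymTen.tpowAct R R' R' d (φ c) t) = π c * D t by
    refine (Submodule.Quotient.mk_eq_zero _).1 ?_
    show A.mkQ _ = 0
    rw [hker, map_sub, map_smul, h, smul_eq_mul, sub_self, zero_smul]
  intro t
  induction t using PiTensorProduct.induction_on with
  | add u v hu hv => rw [map_add, map_add, hu, hv, map_add, mul_add]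
  | smul_tprod r p =>
  rw [map_smul, map_smul, map_smul, smul_eq_mul, smul_eq_mul, mul_left_comm]
  congr 1
  let Φ : (⨂[R] _ : Fin d, R') →ₗ[R] R :=
    D ∘ₗ (LinearMap.applyₗ (PiTensorProduct.tprod R p)) ∘ₗ SymTen.tpowAct R R' R' d
  let h₁ : C →ₗ[R] R := Φ ∘ₗ φ.toLinearMap
  let h₂ : C →ₗ[R] R := (D (PiTensorProduct.tprod R p)) • π.toLinearMap
  suffices hh : h₁ = h₂ by
    have := LinearMap.congr_fun hh c
    simp only [h₁, h₂, Φ, LinearMap.comp_apply, LinearMap.applyₗ_apply_apply, LinearMap.smul_apply,
      AlgHom.toLinearMap_apply, smul_eq_mul] at this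
    rw [this, mul_comm]
  suffices hh : h₁ ∘ₗ Groth.Agent.GammaD.G γ = h₂ ∘ₗ Groth.Agent.GammaD.G γ by
    ext y
    obtain ⟨z, rfl⟩ := Groth.Agent.GammaD.G_surjective γ hγ y
    exact LinearMap.congr_fun hh z
  have key := Groth.Agent.GammaD.eq_on_orbit (Groth.Agent.GammaD.bP R R') (d := d)
    (h₁ ∘ₗ Groth.Agent.GammaD.G γ) (h₂ ∘ₗ Groth.Agent.GammaD.G γ) (fun T => ?_)
  · refine LinearMap.ext fun z => ?_
    have := LinearMap.congr_fun key z
    simp only [LinearMap.comp_apply] at this ⊢
    rwa [Groth.Agent.GammaD.G_R] at this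
  set S := MvPolynomial (R' →₀ ℕ) R with hS
  rw [LinearMap.lTensor_comp S h₁ (Groth.Agent.GammaD.G γ), LinearMap.lTensor_comp S h₂ (Groth.Agent.GammaD.G γ),
    LinearMap.comp_apply, LinearMap.comp_apply, Groth.Agent.GammaD.G_tl]
  set y := (Groth.Agent.GammaD.piP R R').toLinearMap.lTensor S (Groth.Agent.GammaD.gen _ T) with hy
  have e1 : φ.toLinearMap.lTensor S (γ.law.toFun' S y) = Groth.Agent.GammaD.tl R R' d S y :=
    congrFun (congrFun (congrFun (congrFun (congrArg PolynomialLaw.toFun'
      (congrArg PolLaw.MulLaw.law hφ)) S) _) _) y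
  have e2 : π.toLinearMap.lTensor S (γ.law.toFun' S y) = Algebra.norm S y ⊗ₜ[R] (1 : R) :=
    (congrFun (congrFun (congrFun (congrFun (congrArg PolynomialLaw.toFun'
      (congrArg PolLaw.MulLaw.law hπ)) S) _) _) y).trans (PolLaw.normLaw_apply R R' d hd S y)
  simp only [h₁, h₂]
  rw [LinearMap.lTensor_comp S Φ φ.toLinearMap, LinearMap.comp_apply, e1, LinearMap.lTensor_smul, LinearMap.smul_apply, e2]
  let bS := Algebra.TensorProduct.basis S b
  have hdet1 : ∀ v : Fin d → R', bS.det (fun i => (1 : S) ⊗ₜ[R] v i) = algebraMap R S (b.det v) := by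
    intro v
    rw [Module.Basis.det_apply, Module.Basis.det_apply, RingHom.map_det]
    congr 1
    ext i j
    simp [Module.Basis.toMatrix_apply, bS, Algebra.TensorProduct.basis_repr_tmul]
  have hmul : bS.det (fun i => y * ((1 : S) ⊗ₜ[R] p i)) = Algebra.norm S y * algebraMap R S (b.det p) := by
    rw [← hdet1, Algebra.norm_apply, ← Module.Basis.det_comp]
    rfl
  have hD : D (PiTensorProduct.tprod R p) = b.det p := by simp [D]
  rw [hD]
  apply (TensorProduct.rid R S).injective
  rw [map_smul, TensorProduct.rid_tmul, one_smul, Algebra.smul_def, mul_comm, ← hmul]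
  have hy' : y = ∑ m ∈ T, (MvPolynomial.X m : S) ⊗ₜ[R]
      Groth.Agent.GammaD.piP R R' (Groth.Agent.GammaD.bP R R' m) := by
    rw [hy, Groth.Agent.GammaD.gen, map_sum]; rfl
  rw [hy', Groth.Agent.GammaD.tl_sum, map_sum, map_sum]
  have hs : ∀ i, (∑ m ∈ T, (MvPolynomial.X m : S) ⊗ₜ[R] Groth.Agent.GammaD.piP R R' (Groth.Agent.GammaD.bP R R' m))
      * ((1 : S) ⊗ₜ[R] p i)
      = ∑ m ∈ T, (MvPolynomial.X m : S) ⊗ₜ[R] (Groth.Agent.GammaD.piP R R' (Groth.Agent.GammaD.bP R R' m) * p i) := by
    intro i
    refine (map_sum (LinearMap.mulRight R ((1 : S) ⊗ₜ[R] p i)) _ _).trans (Finset.sum_congr rfl fun m _ => ?_)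
    exact (Algebra.TensorProduct.tmul_mul_tmul _ _ _ _).trans (by rw [mul_one])
  refine Eq.trans ?_ (congrArg bS.det (funext fun i => (hs i).symm))
  rw [← AlternatingMap.coe_multilinearMap, MultilinearMap.map_sum_finset]
  refine Finset.sum_congr rfl fun k _ => ?_
  have e : (fun i => (MvPolynomial.X (k i) : S) ⊗ₜ[R] (Groth.Agent.GammaD.piP R R' (Groth.Agent.GammaD.bP R R' (k i)) * p i))
      = fun i => (MvPolynomial.X (k i) : S) • ((1 : S) ⊗ₜ[R] (Groth.Agent.GammaD.piP R R' (Groth.Agent.GammaD.bP R R' (k i)) * p i)) := by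
    funext i; rw [TensorProduct.smul_tmul', smul_eq_mul, mul_one]
  rw [e, MultilinearMap.map_smul_univ, AlternatingMap.coe_multilinearMap, hdet1,
    LinearMap.lTensor_tmul, TensorProduct.rid_tmul, Algebra.smul_def, mul_comm]
  rw [smul_eq_mul]
  congr 2
  simp [Φ, D, SymTen.tpowAct]

end Groth.Agent.S19898
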