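import Groth.Statements.S1990
import Groth.Agent.Lib.EtRamH7.Tower

set_option autoImplicit false
universe u
open EtAlg

namespace Groth.Agent.S1990

/-- Let K be the fraction field of a discrete valuation ring A, and K ⊂ L ⊂ M finite separable
extensions. If L/K is tamely ramified (resp. unramified) with respect to A and M/L is tamely
ramified (resp. unramified) with respect to every valuation subring of L dominating A, then M/K is
tamely ramified (resp. unramified) with respect to A. -/
theorem result (A K : Type u) [CommRing A] [IsDomain A] [IsDiscreteValuationRing A] [Field K] [Algebra A K] [IsFractionRing A K] (L M : Type u) [Field L] [Field M]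
    [Algebra K L] [Algebra K M] [Algebra L M] [IsScalarTower K L M] [FiniteDimensional K M] [Algebra.IsSeparable K M] :
    (EtRam.IsTamelyRamified A ((algebraMap K L).comp (algebraMap A K)) →
      (∀ (V : ValuationSubring L), EtRam.Dominates A ((algebraMap K L).comp (algebraMap A K)) V →
        EtRam.IsTamelyRamified V ((algebraMap L M).comp V.subtype)) →
      EtRam.IsTamelyRamified A ((algebraMap K M).comp (algebraMap A K))) ∧
    (EtRam.IsUnramifiedExt A ((algebraMap K L).comp (algebraMap A K)) →
      (∀ (V : ValuationSubring L), EtRam.Dominates A ((algebraMap K L).comp (algebraMap A K)) V →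
        EtRam.IsUnramifiedExt V ((algebraMap L M).comp V.subtype)) →
      EtRam.IsUnramifiedExt A ((algebraMap K M).comp (algebraMap A K))) := by
  haveI : FiniteDimensional K L := FiniteDimensional.left K L M
  have hcomp : (algebraMap K M).comp (algebraMap A K) =
      (algebraMap L M).comp ((algebraMap K L).comp (algebraMap A K)) := by
    rw [← RingHom.comp_assoc, ← IsScalarTower.algebraMap_eq K L M]
  constructor
  · intro hL hM W hAW
    letI algAW : Algebra A W := (RingHom.codRestrict _ W hAW.1).toAlgebra
    intro _
    have hV : EtRam.Dominates A ((algebraMap K L).comp (algebraMap A K)) (W.comap (algebraMap L M)) :=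
      Groth.Agent.EtRamH7.dominates_comap _ (hcomp ▸ hAW)
    have hVW := Groth.Agent.EtRamH7.dominates_self_comap (algebraMap L M) W
    letI : Algebra A (W.comap (algebraMap L M)) := (RingHom.codRestrict _ _ hV.1).toAlgebra
    letI : Algebra (W.comap (algebraMap L M)) W := (RingHom.codRestrict _ W hVW.1).toAlgebra
    haveI : IsLocalHom (algebraMap A (W.comap (algebraMap L M))) := Groth.Agent.EtRamH7.isLocalHom_cod hV
    haveI : IsLocalHom (algebraMap (W.comap (algebraMap L M)) W) := Groth.Agent.EtRamH7.isLocalHom_cod hVW
    haveI : IsScalarTower A (W.comap (algebraMap L M)) W := IsScalarTower.of_algebraMap_eq fun a =>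
      Subtype.ext (DFunLike.congr_fun hcomp a)
    haveI := Groth.Agent.EtRamH7.dvr_of_dominates A K L _ rfl _ hV
    haveI := Groth.Agent.EtRamH7.dvr_of_dominates A K M _ rfl _ hAW
    obtain ⟨hs, he⟩ := @hL _ hV (inferInstance : IsLocalHom (algebraMap A (W.comap (algebraMap L M))))
    obtain ⟨hs', he'⟩ := @hM _ hV W hVW (inferInstance : IsLocalHom (algebraMap (W.comap (algebraMap L M)) W))
    refine ⟨Groth.Agent.EtRamH7.sep_trans A (W.comap (algebraMap L M)) W hs hs', fun p hp hc hdvd => ?_⟩
    rw [Groth.Agent.EtRamH7.ramificationIdx'_mul A (W.comap (algebraMap L M)) W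
      (Groth.Agent.EtRamH7.injective_cod A K L _ rfl _ hV.1)
      (fun a b h => Subtype.ext ((algebraMap L M).injective (congrArg Subtype.val h)))] at hdvd
    rcases hp.dvd_mul.1 hdvd with h | h
    · exact he p hp hc h
    · exact he' p hp (Groth.Agent.EtRamH7.charP_residue A (W.comap (algebraMap L M)) hc) h
  · intro hL hM W hAW
    letI algAW : Algebra A W := (RingHom.codRestrict _ W hAW.1).toAlgebra
    intro _
    have hV : EtRam.Dominates A ((algebraMap K L).comp (algebraMap A K)) (W.comap (algebraMap L M)) :=
      Groth.Agent.EtRamH7.dominates_comap _ (hcomp ▸ hAW)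
    have hVW := Groth.Agent.EtRamH7.dominates_self_comap (algebraMap L M) W
    letI : Algebra A (W.comap (algebraMap L M)) := (RingHom.codRestrict _ _ hV.1).toAlgebra
    letI : Algebra (W.comap (algebraMap L M)) W := (RingHom.codRestrict _ W hVW.1).toAlgebra
    haveI : IsLocalHom (algebraMap A (W.comap (algebraMap L M))) := Groth.Agent.EtRamH7.isLocalHom_cod hV
    haveI : IsLocalHom (algebraMap (W.comap (algebraMap L M)) W) := Groth.Agent.EtRamH7.isLocalHom_cod hVW
    haveI : IsScalarTower A (W.comap (algebraMap L M)) W := IsScalarTower.of_algebraMap_eq fun a =>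
      Subtype.ext (DFunLike.congr_fun hcomp a)
    obtain ⟨hw, hs⟩ := @hL _ hV (inferInstance : IsLocalHom (algebraMap A (W.comap (algebraMap L M))))
    obtain ⟨hw', hs'⟩ := @hM _ hV W hVW (inferInstance : IsLocalHom (algebraMap (W.comap (algebraMap L M)) W))
    exact ⟨Groth.Agent.EtRamH7.weakly_trans A (W.comap (algebraMap L M)) W hw hw',
      Groth.Agent.EtRamH7.sep_trans A (W.comap (algebraMap L M)) W hs hs'⟩

end Groth.Agent.S1990
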