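import Groth.Agent.Lib.SepDesc16.Basic
import Groth.Statements.S19900
-- import your own Groth.Agent.* helpers here

set_option autoImplicit false
universe u
open CategoryTheory AlgebraicGeometry
open AlgSt

namespace Groth.Agent.S19900

/-- Let f : 𝒳 → 𝒴 and g : 𝒴 → 𝒵 be morphisms of algebraic stacks with composite h : 𝒳 → 𝒵. If f is flat,
surjective, universally injective and locally of finite presentation, the diagonal of f is
universally closed and h is separated, then g is separated. (The published statement does not ask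
the diagonal of f to be universally closed, and without it the statement fails: over the affine line
T over a field let G be the constant group scheme with two elements, H the etale group scheme
obtained from G by gluing its two sections over the complement of the origin, and f the morphism
from the classifying stack of G to that of H induced by the quotient map; then f is flat,
surjective, universally injective and locally of finite presentation, the classifying stack of G is
separated over T since G is finite, and that of H is not since H is not separated. The published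
argument uses that the diagonal of f is universally closed.) -/
theorem result
    (S : Scheme.{u}) (𝒳 : AlgSt.Cat S) (𝒴 : AlgSt.Cat S) (𝒵 : AlgSt.Cat S)
    (h𝒳 : AlgSt.IsAlgStack Scheme.fppfPrecoverage 𝒳)
    (h𝒴 : AlgSt.IsAlgStack Scheme.fppfPrecoverage 𝒴)
    (h𝒵 : AlgSt.IsAlgStack Scheme.fppfPrecoverage 𝒵)
    (f : 𝒳 ⥤ᵇ 𝒴) (g : 𝒴 ⥤ᵇ 𝒵)
    (hf₁ : AlgSt.IsSurjective f) (hf₂ : AlgSt.LocQ (AlgSp.LocP @Flat) f)
    (hf₃ : AlgSt.LocQ (AlgSp.LocP @LocallyOfFinitePresentation) f)
    (hf₄ : AlgSt.IsUnivInjective Scheme.fppfPrecoverage f)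
    (hf₅ : AlgSt.RepByAlgSpWith AlgSp.IsUnivClosedMor (FibCat.diag f))
    (hh : AlgSt.IsSeparatedMor (BasedFunctor.comp f g)) :
    AlgSt.IsSeparatedMor g := by
  have g𝒳 := h𝒳.isStack.1
  have g𝒴 := h𝒴.isStack.1
  have g𝒵 := h𝒵.isStack.1
  have gΔ := FC16.fp_isFibGrpd g𝒳 g𝒳 g𝒴 f f
  have hs := StAlg16.with_surjective_of_isSurjective g𝒳 gΔ (StAlg.repByAlgSp1_of_with hf₅)
    (StAlg16.isSurjective_diag_of_isUnivInjective h𝒳 hf₄)
  have hd : AlgSt.RepByAlgSpWith (AlgSp.IsUnivClosedMor ⊓ AlgSp.IsSurjectiveMor) (FibCat.diag f) :=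
    StAlg16.with_inf StAlg16.goodP_isUnivClosedMor.preIso StAlg.goodP_surjective.preIso g𝒳 gΔ hf₅ hs
  let i : BasedFunctor.comp (FibCat.diag f) (StAlg.cmp f f g) ≅ FibCat.diag (BasedFunctor.comp f g) :=
    BasedNatIso.mkNatIso
      (NatIso.ofComponents (fun x => FC16.fpIsoMk (Iso.refl _) (Iso.refl _) (by
        show g.map (f.map (𝟙 _)) ≫ 𝟙 _ = g.map (𝟙 _) ≫ g.map (f.map (𝟙 _))
        simp)) (fun {x y} φ => FC16.fp_hom_ext
          (by show φ ≫ 𝟙 _ = 𝟙 _ ≫ φ; simp) (by show φ ≫ 𝟙 _ = 𝟙 _ ≫ φ; simp)))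
      (fun x => @FC16.isHomLift_of_fst _ _ _ _ _ _ _ _ _ _ _ _ _ (IsHomLift.id rfl))
  have hQ : AlgSt.RepByAlgSpWith AlgSp.IsProperMor (StAlg.cmp f f g) :=
    SepDesc16.with_right_of_comp (P₁ := AlgSp.IsUnivClosedMor ⊓ AlgSp.IsSurjectiveMor)
      (P₂ := AlgSp.LocP @LocallyOfFiniteType) StAlg.pbP_isProperMor
      (StAlg.GoodP.inf StAlg16.goodP_isUnivClosedMor StAlg.goodP_surjective) StAlg.pbP_locP
      (fun X Y Z hX hY hZ a b ha hb hab => ProperSub15.isProperMor_of_jointly (κ := PUnit.{1})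
        (A := fun _ => X) (a := fun _ => a) (fun _ => hX) hY hZ
        (fun w => let ⟨x, hx⟩ := ha.2 w; ⟨⟨⟩, x, hx⟩) (fun _ => ha.1) hb (fun _ => hab))
      g𝒳 gΔ (FC16.fp_isFibGrpd g𝒳 g𝒳 g𝒵 _ _) hd (StAlg.with_cmp' f f (StAlg.lft_diag h𝒴 h𝒵 g))
      (StAlg.with_of_iso i.symm hh)
  exact SepDesc16.with_diag_of_with_cmp StAlg.pbP_isProperMor
    (StAlg.isLocalOnBase_fppf_of_fpqc StAlg.isLocalOnBase_fpqc_isProperMor) h𝒳 h𝒴 h𝒵 hf₁ hf₂ hf₃ hQ
end Groth.Agent.S19900
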