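import Groth.Statements.S19907
import Groth.Agent.Lib.AlgSpace.SmoothSource
import Mathlib.RingTheory.Extension.ExtendScalars
import Mathlib.RingTheory.Etale.Field

set_option autoImplicit false
universe u
open CategoryTheory TensorProduct
open ArtFun

namespace Groth.Agent.S19907

open TensorProduct in
theorem finite_and_equiv {Λ K L : Type u} [CommRing Λ] [IsNoetherianRing Λ] [Field K] [Field L] [Algebra Λ K]
    [Algebra K L] [Algebra Λ L] [IsScalarTower Λ K L] (hs : Function.Surjective (algebraMap Λ K))
    [Algebra.IsStandardEtale K L] :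
    Module.Finite L (L ⊗[K] Algebra.H1Cotangent Λ K) ∧
      Nonempty ((L ⊗[K] Algebra.H1Cotangent Λ K) ≃ₗ[L] Algebra.H1Cotangent Λ L) := by
  classical
  let P : Algebra.Extension.{u} Λ K := .ofSurjective (Algebra.ofId Λ K) hs
  haveI : Algebra.FormallySmooth Λ P.Ring := inferInstanceAs (Algebra.FormallySmooth Λ Λ)
  let eP : P.H1Cotangent ≃ₗ[K] Algebra.H1Cotangent Λ K := Algebra.Extension.equivH1CotangentOfFormallySmooth P
  haveI : Module.Finite K P.Cotangent := by
    haveI : IsNoetherianRing P.Ring := ‹IsNoetherianRing Λ›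
    haveI : Module.Finite P.Ring P.ker := Module.Finite.iff_fg.2 (IsNoetherian.noetherian P.ker)
    haveI : Module.Finite P.Ring P.Cotangent := .of_surjective Algebra.Extension.Cotangent.mk Algebra.Extension.Cotangent.mk_surjective
    exact Module.Finite.of_restrictScalars_finite P.Ring K _
  haveI : Module.Finite K (Algebra.H1Cotangent Λ K) :=
    Module.Finite.equiv ((P.h1CotangentEquivOfSurjective Function.surjective_id).symm.trans eP)
  refine ⟨inferInstance, ?_⟩
  let Pr : StandardEtalePresentation K L := Algebra.IsStandardEtale.nonempty_standardEtalePresentation.some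
  obtain ⟨P₀, n, hf, hg⟩ := AlgSpace.exists_lift_pair (algebraMap P.Ring K) P.algebraMap_surjective Pr.P
  let S₀ := P₀.Ring
  let T' := K ⊗[P.Ring] S₀
  let P₀' : StandardEtalePresentation P.Ring S₀ :=
    ⟨P₀, P₀.X, P₀.hasMap_X, by rw [StandardEtalePair.lift_X_left]; exact Function.bijective_id⟩
  letI : Algebra Λ S₀ := ((algebraMap P.Ring S₀).comp (algebraMap Λ P.Ring)).toAlgebra
  haveI : IsScalarTower Λ P.Ring S₀ := .of_algebraMap_eq' rfl
  obtain ⟨e₁⟩ := AlgSpace.nonempty_ringEquiv_of_pow Pr.P (P₀.map (algebraMap P.Ring K)) hf hg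
  let e : T' ≃ₐ[K] L := ((P₀'.baseChange (T := K)).equivRing.trans e₁).trans Pr.equivRing.symm
  have : Algebra.FormallySmooth Λ S₀ := .comp Λ P.Ring S₀
  let inR : S₀ →ₐ[P.Ring] T' := Algebra.TensorProduct.includeRight
  have hsurj : Function.Surjective inR :=
    Algebra.TensorProduct.includeRight_surjective S₀ P.algebraMap_surjective
  let π : S₀ →ₐ[Λ] L := (e.restrictScalars Λ).toAlgHom.comp (inR.restrictScalars Λ)
  let Q : Algebra.Extension.{u} Λ L := .ofSurjective π (e.surjective.comp hsurj)
  let f : P.Hom Q :=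
  { toRingHom := algebraMap P.Ring S₀
    toRingHom_algebraMap := fun x => (IsScalarTower.algebraMap_apply Λ P.Ring S₀ x).symm
    algebraMap_toRingHom := fun x => by
      change e (inR (algebraMap P.Ring S₀ x)) = algebraMap K L (algebraMap P.Ring K x)
      rw [AlgHom.commutes, IsScalarTower.algebraMap_apply P.Ring K T', AlgEquiv.commutes] }
  letI : Algebra P.Ring Q.Ring := (inferInstance : Algebra P.Ring S₀)
  have : Algebra.FormallySmooth Λ Q.Ring := ‹Algebra.FormallySmooth Λ S₀›
  have H₁ : f.toRingHom.FormallyEtale :=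
    RingHom.formallyEtale_algebraMap.mpr (inferInstance : Algebra.FormallyEtale P.Ring S₀)
  have H₂ : Function.Bijective ((f.mapKer rfl).liftBaseChange Q.Ring) := by
    have : Module.Flat P.Ring Q.Ring := (inferInstance : Module.Flat P.Ring S₀)
    refine AlgSpace.bijective_liftBaseChange (f.mapKer rfl) (fun i => rfl) (fun x hx => ?_)
    exact AlgSpDescent.mem_map_ker_of_includeRight_eq_zero (D := P.Ring) (B := K) (C := S₀) P.algebraMap_surjective x
      (e.injective (hx.trans (map_zero e).symm))
  exact ⟨((TensorProduct.AlgebraTensorModule.congr (LinearEquiv.refl L L) eP.symm).trans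
    (Algebra.Extension.tensorH1CotangentOfFormallyEtale f rfl H₁ H₂)).trans
      (Algebra.Extension.equivH1CotangentOfFormallySmooth Q)⟩

open TensorProduct in
theorem bij {Λ K L : Type u} [CommRing Λ] [IsNoetherianRing Λ] [Field K] [Field L] [Algebra Λ K]
    [Algebra K L] [Algebra Λ L] [IsScalarTower Λ K L] (hs : Function.Surjective (algebraMap Λ K))
    [Module.Finite K L] [Algebra.IsSeparable K L] :
    Function.Bijective ((Algebra.H1Cotangent.map Λ Λ K L).liftBaseChange L) := by
  haveI : Algebra.FormallyEtale K L := Algebra.FormallyEtale.of_isSeparable K L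
  haveI : Algebra.Etale K L := ⟨inferInstance, Algebra.FinitePresentation.of_finiteType.1 inferInstance⟩
  obtain ⟨g, hg, hge⟩ := Algebra.IsEtaleAt.exists_isStandardEtale (R := K) (⊥ : Ideal L)
  haveI := hge
  haveI : Algebra.IsStandardEtale K L :=
    .of_equiv (((IsLocalization.atUnit L (Localization.Away g) g
      (isUnit_iff_ne_zero.2 fun h => hg (by rw [h]; exact zero_mem _))).symm).restrictScalars K)
  obtain ⟨hfin, ⟨e⟩⟩ := finite_and_equiv (L := L) hs
  haveI := hfin
  haveI : Module.Finite L (Algebra.H1Cotangent Λ L) := Module.Finite.equiv e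
  have hsur : Function.Surjective ((Algebra.H1Cotangent.map Λ Λ K L).liftBaseChange L) := fun y =>
    (Algebra.H1Cotangent.exact_liftBaseChange_map_of_flat Λ K L y).1 (Subsingleton.elim _ _)
  exact ⟨(LinearMap.injective_iff_surjective_of_finrank_eq_finrank e.finrank_eq).2 hsur, hsur⟩



/-- Let Λ be a Noetherian ring with a finite ring map to a field k, let k' ⊂ k be the image of Λ and m_Λ
the kernel, so that m_Λ/m_Λ² = H₁(L_{k'/Λ}) (Λ → k' being surjective with kernel m_Λ). If k is
separable over k', the canonical map m_Λ/m_Λ² ⊗_{k'} k → H₁(L_{k/Λ}) is an isomorphism. Stated for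
H₁(L_{k'/Λ}) in place of m_Λ/m_Λ²: the k-linear base change of the functoriality map H₁(L_{k'/Λ}) →
H₁(L_{k/Λ}) is bijective. (The general construction of the map and the case k = k' are the other
assertions of the source; only the separable case is stated here.) -/
theorem result {Λ : Type u} {k : Type u} [CommRing Λ] [Field k] [Algebra Λ k]
    [IsNoetherianRing Λ] [Module.Finite Λ k]
    [Algebra.IsSeparable (↥(algebraMap Λ k).range) k] :
    letI : Algebra Λ (↥(algebraMap Λ k).range) := (algebraMap Λ k).rangeRestrict.toAlgebra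
    letI : IsScalarTower Λ (↥(algebraMap Λ k).range) k := IsScalarTower.of_algebraMap_eq (fun _ ↦ rfl)
    Function.Bijective ((Algebra.H1Cotangent.map Λ Λ (↥(algebraMap Λ k).range) k).liftBaseChange k) := by
  letI : Algebra Λ (↥(algebraMap Λ k).range) := (algebraMap Λ k).rangeRestrict.toAlgebra
  letI : IsScalarTower Λ (↥(algebraMap Λ k).range) k := IsScalarTower.of_algebraMap_eq (fun _ ↦ rfl)
  haveI : Module.Finite (↥(algebraMap Λ k).range) k := Module.Finite.of_restrictScalars_finite Λ _ k
  have hF : IsField (↥(algebraMap Λ k).range) :=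
    isField_of_isIntegral_of_isField Subtype.val_injective (Field.toIsField k)
  letI := hF.toField
  exact bij (algebraMap Λ k).rangeRestrict_surjective

end Groth.Agent.S19907
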