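import Groth.Statements.S1991
import Groth.Agent.Lib.EtRamH7.Compositum
import Groth.Agent.S1989
import Mathlib.FieldTheory.Galois.Basic
import Mathlib.FieldTheory.Normal.Closure
import Mathlib.FieldTheory.SeparableClosure

set_option autoImplicit false
universe u
open EtAlg

namespace Groth.Agent.S1991

/-- Let A be a discrete valuation ring with fraction field K. A finite separable extension L/K that is
unramified (resp. tamely ramified) with respect to A embeds over K into a finite Galois extension of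
K that is unramified (resp. tamely ramified) with respect to A; and two finite separable extensions
of K that are unramified (resp. tamely ramified) with respect to A embed over K into a common finite
separable extension with the same property. -/
theorem result (A K : Type u) [CommRing A] [IsDomain A] [IsDiscreteValuationRing A] [Field K] [Algebra A K] [IsFractionRing A K] :
    (∀ (L : Type u) [Field L] [Algebra K L] [FiniteDimensional K L] [Algebra.IsSeparable K L],
      (EtRam.IsUnramifiedExt A ((algebraMap K L).comp (algebraMap A K)) →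
        ∃ (M : Type u) (_ : Field M) (_ : Algebra K M) (_ : FiniteDimensional K M) (_ : IsGalois K M) (_ : L →ₐ[K] M),
          EtRam.IsUnramifiedExt A ((algebraMap K M).comp (algebraMap A K))) ∧
      (EtRam.IsTamelyRamified A ((algebraMap K L).comp (algebraMap A K)) →
        ∃ (M : Type u) (_ : Field M) (_ : Algebra K M) (_ : FiniteDimensional K M) (_ : IsGalois K M) (_ : L →ₐ[K] M),
          EtRam.IsTamelyRamified A ((algebraMap K M).comp (algebraMap A K)))) ∧
    (∀ (L₁ L₂ : Type u) [Field L₁] [Field L₂] [Algebra K L₁] [Algebra K L₂] [FiniteDimensional K L₁] [FiniteDimensional K L₂]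
      [Algebra.IsSeparable K L₁] [Algebra.IsSeparable K L₂],
      (EtRam.IsUnramifiedExt A ((algebraMap K L₁).comp (algebraMap A K)) →
        EtRam.IsUnramifiedExt A ((algebraMap K L₂).comp (algebraMap A K)) →
        ∃ (M : Type u) (_ : Field M) (_ : Algebra K M) (_ : FiniteDimensional K M) (_ : Algebra.IsSeparable K M)
          (_ : L₁ →ₐ[K] M) (_ : L₂ →ₐ[K] M), EtRam.IsUnramifiedExt A ((algebraMap K M).comp (algebraMap A K))) ∧
      (EtRam.IsTamelyRamified A ((algebraMap K L₁).comp (algebraMap A K)) →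
        EtRam.IsTamelyRamified A ((algebraMap K L₂).comp (algebraMap A K)) →
        ∃ (M : Type u) (_ : Field M) (_ : Algebra K M) (_ : FiniteDimensional K M) (_ : Algebra.IsSeparable K M)
          (_ : L₁ →ₐ[K] M) (_ : L₂ →ₐ[K] M), EtRam.IsTamelyRamified A ((algebraMap K M).comp (algebraMap A K)))) := by
  classical
  let Ω := AlgebraicClosure K
  -- pairs of subfields
  have hgen : ∀ (E₁ E₂ : IntermediateField K Ω) [FiniteDimensional K E₁],
      letI : Algebra E₁ (↥(E₁ ⊔ E₂)) := (IntermediateField.inclusion (le_sup_left : E₁ ≤ E₁ ⊔ E₂)).toRingHom.toAlgebra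
      letI : Algebra E₂ (↥(E₁ ⊔ E₂)) := (IntermediateField.inclusion (le_sup_right : E₂ ≤ E₁ ⊔ E₂)).toRingHom.toAlgebra
      Algebra.adjoin E₂ (Set.range (algebraMap E₁ (↥(E₁ ⊔ E₂)))) = ⊤ := by
    intro E₁ E₂ _
    letI : Algebra E₁ (↥(E₁ ⊔ E₂)) := (IntermediateField.inclusion (le_sup_left : E₁ ≤ E₁ ⊔ E₂)).toRingHom.toAlgebra
    letI : Algebra E₂ (↥(E₁ ⊔ E₂)) := (IntermediateField.inclusion (le_sup_right : E₂ ≤ E₁ ⊔ E₂)).toRingHom.toAlgebra
    refine top_le_iff.1 fun y _ => ?_
    have hy : (y : Ω) ∈ E₁.toSubalgebra ⊔ E₂.toSubalgebra := by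
      rw [← IntermediateField.sup_toSubalgebra_of_left]; exact y.2
    rw [← Algebra.adjoin_eq E₁.toSubalgebra, ← Algebra.adjoin_eq E₂.toSubalgebra, ← Algebra.adjoin_union] at hy
    have key : ∀ z, ∀ (hz : z ∈ Algebra.adjoin K ((E₁.toSubalgebra : Set Ω) ∪ E₂.toSubalgebra)) (hz' : z ∈ E₁ ⊔ E₂),
        (⟨z, hz'⟩ : ↥(E₁ ⊔ E₂)) ∈ Algebra.adjoin E₂ (Set.range (algebraMap E₁ (↥(E₁ ⊔ E₂)))) := by
      intro z hz
      have hsub : Algebra.adjoin K ((E₁.toSubalgebra : Set Ω) ∪ E₂.toSubalgebra) ≤ (E₁ ⊔ E₂).toSubalgebra :=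
        Algebra.adjoin_le (Set.union_subset (fun a ha => (le_sup_left : E₁ ≤ E₁ ⊔ E₂) ha)
          (fun a ha => (le_sup_right : E₂ ≤ E₁ ⊔ E₂) ha))
      induction hz using Algebra.adjoin_induction with
      | mem z hz =>
        intro hz'
        rcases hz with hz | hz
        · exact Algebra.subset_adjoin ⟨⟨z, hz⟩, rfl⟩
        · exact Subalgebra.algebraMap_mem _ (⟨z, hz⟩ : E₂)
      | algebraMap c =>
        intro hz'
        exact Subalgebra.algebraMap_mem _ (algebraMap K E₂ c)
      | add a b ha hb iha ihb =>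
        intro hz'
        exact add_mem (iha (hsub ha)) (ihb (hsub hb))
      | mul a b ha hb iha ihb =>
        intro hz'
        exact mul_mem (iha (hsub ha)) (ihb (hsub hb))
    exact key _ hy y.2
  have pairU : ∀ (E₁ E₂ : IntermediateField K Ω) [FiniteDimensional K E₁] [FiniteDimensional K E₂],
      EtRam.IsUnramifiedExt A ((algebraMap K E₁).comp (algebraMap A K)) →
      EtRam.IsUnramifiedExt A ((algebraMap K E₂).comp (algebraMap A K)) →
      EtRam.IsUnramifiedExt A ((algebraMap K (↥(E₁ ⊔ E₂))).comp (algebraMap A K)) := by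
    intro E₁ E₂ _ _ h₁ h₂
    letI : Algebra E₁ (↥(E₁ ⊔ E₂)) := (IntermediateField.inclusion (le_sup_left : E₁ ≤ E₁ ⊔ E₂)).toRingHom.toAlgebra
    letI : Algebra E₂ (↥(E₁ ⊔ E₂)) := (IntermediateField.inclusion (le_sup_right : E₂ ≤ E₁ ⊔ E₂)).toRingHom.toAlgebra
    haveI : IsScalarTower K E₁ (↥(E₁ ⊔ E₂)) := IsScalarTower.of_algebraMap_eq fun _ => rfl
    haveI : IsScalarTower K E₂ (↥(E₁ ⊔ E₂)) := IsScalarTower.of_algebraMap_eq fun _ => rfl
    exact Groth.Agent.EtRamH7.unramified_compositum A K E₁ E₂ _ (hgen E₁ E₂) h₁ h₂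
  have pairT : ∀ (E₁ E₂ : IntermediateField K Ω) [FiniteDimensional K E₁] [FiniteDimensional K E₂],
      EtRam.IsTamelyRamified A ((algebraMap K E₁).comp (algebraMap A K)) →
      EtRam.IsTamelyRamified A ((algebraMap K E₂).comp (algebraMap A K)) →
      EtRam.IsTamelyRamified A ((algebraMap K (↥(E₁ ⊔ E₂))).comp (algebraMap A K)) := by
    intro E₁ E₂ _ _ h₁ h₂
    letI : Algebra E₁ (↥(E₁ ⊔ E₂)) := (IntermediateField.inclusion (le_sup_left : E₁ ≤ E₁ ⊔ E₂)).toRingHom.toAlgebra
    letI : Algebra E₂ (↥(E₁ ⊔ E₂)) := (IntermediateField.inclusion (le_sup_right : E₂ ≤ E₁ ⊔ E₂)).toRingHom.toAlgebra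
    haveI : IsScalarTower K E₁ (↥(E₁ ⊔ E₂)) := IsScalarTower.of_algebraMap_eq fun _ => rfl
    haveI : IsScalarTower K E₂ (↥(E₁ ⊔ E₂)) := IsScalarTower.of_algebraMap_eq fun _ => rfl
    exact Groth.Agent.EtRamH7.tame_compositum A K E₁ E₂ _ (hgen E₁ E₂) h₁ h₂
  -- transport to the image in `Ω`
  have move : ∀ (L : Type u) [Field L] [Algebra K L] [FiniteDimensional K L] [Algebra.IsSeparable K L] (f : L →ₐ[K] Ω),
      Algebra.IsSeparable K f.fieldRange ∧
      (EtRam.IsTamelyRamified A ((algebraMap K L).comp (algebraMap A K)) →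
        EtRam.IsTamelyRamified A ((algebraMap K f.fieldRange).comp (algebraMap A K))) ∧
      (EtRam.IsUnramifiedExt A ((algebraMap K L).comp (algebraMap A K)) →
        EtRam.IsUnramifiedExt A ((algebraMap K f.fieldRange).comp (algebraMap A K))) := by
    intro L _ _ _ _ f
    refine ⟨AlgEquiv.Algebra.isSeparable (AlgHom.equivFieldRange f), ?_⟩
    letI : Algebra f.fieldRange L := (AlgHom.equivFieldRange f).symm.toAlgHom.toRingHom.toAlgebra
    haveI : IsScalarTower K f.fieldRange L :=
      IsScalarTower.of_algebraMap_eq fun z => ((AlgHom.equivFieldRange f).symm.commutes z).symm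
    exact Groth.Agent.S1989.result A K f.fieldRange L
  constructor
  · intro L _ _ _ _
    let σ₀ : L →ₐ[K] Ω := IsAlgClosed.lift
    let N := IntermediateField.normalClosure K L Ω
    haveI : ∀ f : L →ₐ[K] Ω, FiniteDimensional K f.fieldRange := fun f =>
      LinearEquiv.finiteDimensional (AlgHom.equivFieldRange f).toLinearEquiv
    have hN : N = σ₀.fieldRange ⊔ (Finset.univ : Finset (L →ₐ[K] Ω)).sup (fun f => f.fieldRange) := by
      refine le_antisymm (iSup_le fun f => le_trans (Finset.le_sup (f := fun f : L →ₐ[K] Ω => f.fieldRange)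
        (Finset.mem_univ f)) le_sup_right) (sup_le (le_iSup (fun f : L →ₐ[K] Ω => f.fieldRange) σ₀) ?_)
      exact Finset.sup_le fun f _ => le_iSup (fun f : L →ₐ[K] Ω => f.fieldRange) f
    let fL : L →ₐ[K] N := (IntermediateField.inclusion (le_iSup (fun f : L →ₐ[K] Ω => f.fieldRange) σ₀)).comp
      (AlgHom.equivFieldRange σ₀).toAlgHom
    haveI hsepf : ∀ f : L →ₐ[K] Ω, Algebra.IsSeparable K f.fieldRange := fun f => (move L f).1
    haveI : Algebra.IsSeparable K N := IntermediateField.isSeparable_iSup (t := fun f : L →ₐ[K] Ω => f.fieldRange)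
    haveI : IsGalois K N := {}
    refine ⟨fun h => ⟨N, inferInstance, inferInstance, inferInstance, inferInstance, fL, ?_⟩,
      fun h => ⟨N, inferInstance, inferInstance, inferInstance, inferInstance, fL, ?_⟩⟩
    · rw [hN]
      suffices hs : ∀ s : Finset (L →ₐ[K] Ω), FiniteDimensional K ↥(σ₀.fieldRange ⊔ s.sup fun f => f.fieldRange) ∧
          EtRam.IsUnramifiedExt A ((algebraMap K ↥(σ₀.fieldRange ⊔ s.sup fun f => f.fieldRange)).comp (algebraMap A K)) from
        (hs _).2
      intro s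
      induction s using Finset.induction with
      | empty =>
        rw [Finset.sup_empty, sup_bot_eq]
        exact ⟨inferInstance, (move L σ₀).2.2 h⟩
      | insert f s _ ih =>
        obtain ⟨ihf, ihp⟩ := ih
        haveI := ihf
        rw [Finset.sup_insert, sup_left_comm]
        exact ⟨inferInstance, pairU _ _ ((move L f).2.2 h) ihp⟩
    · rw [hN]
      suffices hs : ∀ s : Finset (L →ₐ[K] Ω), FiniteDimensional K ↥(σ₀.fieldRange ⊔ s.sup fun f => f.fieldRange) ∧
          EtRam.IsTamelyRamified A ((algebraMap K ↥(σ₀.fieldRange ⊔ s.sup fun f => f.fieldRange)).comp (algebraMap A K)) from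
        (hs _).2
      intro s
      induction s using Finset.induction with
      | empty =>
        rw [Finset.sup_empty, sup_bot_eq]
        exact ⟨inferInstance, (move L σ₀).2.1 h⟩
      | insert f s _ ih =>
        obtain ⟨ihf, ihp⟩ := ih
        haveI := ihf
        rw [Finset.sup_insert, sup_left_comm]
        exact ⟨inferInstance, pairT _ _ ((move L f).2.1 h) ihp⟩
  · intro L₁ L₂ _ _ _ _ _ _ _ _
    let σ₁ : L₁ →ₐ[K] Ω := IsAlgClosed.lift
    let σ₂ : L₂ →ₐ[K] Ω := IsAlgClosed.lift
    haveI : FiniteDimensional K σ₁.fieldRange := LinearEquiv.finiteDimensional (AlgHom.equivFieldRange σ₁).toLinearEquiv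
    haveI : FiniteDimensional K σ₂.fieldRange := LinearEquiv.finiteDimensional (AlgHom.equivFieldRange σ₂).toLinearEquiv
    haveI := (move L₁ σ₁).1
    haveI := (move L₂ σ₂).1
    let M := σ₁.fieldRange ⊔ σ₂.fieldRange
    let f₁ : L₁ →ₐ[K] M := (IntermediateField.inclusion (le_sup_left : σ₁.fieldRange ≤ M)).comp
      (AlgHom.equivFieldRange σ₁).toAlgHom
    let f₂ : L₂ →ₐ[K] M := (IntermediateField.inclusion (le_sup_right : σ₂.fieldRange ≤ M)).comp
      (AlgHom.equivFieldRange σ₂).toAlgHom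
    exact ⟨fun h₁ h₂ => ⟨M, inferInstance, inferInstance, inferInstance, inferInstance, f₁, f₂,
        pairU _ _ ((move L₁ σ₁).2.2 h₁) ((move L₂ σ₂).2.2 h₂)⟩,
      fun h₁ h₂ => ⟨M, inferInstance, inferInstance, inferInstance, inferInstance, f₁, f₂,
        pairT _ _ ((move L₁ σ₁).2.1 h₁) ((move L₂ σ₂).2.1 h₂)⟩⟩

end Groth.Agent.S1991
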