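import Groth.Statements.S19912
import Groth.Agent.Lib.RegLoc.Basic

set_option autoImplicit false
set_option linter.style.haveILetI false
set_option backward.isDefEq.respectTransparency false
universe u
open CategoryTheory CategoryTheory.Limits AlgebraicGeometry
open Models

namespace Groth.Agent.S19912

/-- Let R be a discrete valuation ring with fraction field K and YR a scheme over Spec R. Let V be a
discrete valuation ring which is an R-algebra in such a way that the maximal ideal of R generates
the maximal ideal of V (ramification index one), and let σ : Spec V -> YR be a morphism over Spec R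
sending the closed point of Spec V to y. If the local ring of YR at y is regular, then the local
ring at y of the special fibre of YR, namely O_{YR,y}/𝔪_R O_{YR,y}, is regular. (The published
statement takes YR a normal projective flat model of a smooth projective geometrically connected
curve Y over K and phrases the hypothesis through a point Q of Y rational over an extension L of K
unramified over K with y in the closure of Q: by the valuative criterion such a point yields a
morphism as above from the spectrum of the localization of the integral closure of R in L at a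
maximal ideal over y, which is the form used here.) -/
theorem result
    (R : Type u) [CommRing R] [IsDomain R] [IsDiscreteValuationRing R]
    (YR : Over (Spec (CommRingCat.of R)))
    (V : Type u) [CommRing V] [IsDomain V] [IsDiscreteValuationRing V] [Algebra R V]
    (hV : Ideal.map (algebraMap R V) (IsLocalRing.maximalIdeal R) = IsLocalRing.maximalIdeal V)
    (σ : Spec (CommRingCat.of V) ⟶ YR.left)
    (hσ : σ ≫ YR.hom = Spec.map (CommRingCat.ofHom (algebraMap R V)))
    (y : YR.left) (hy : σ.base (IsLocalRing.closedPoint V) = y)
    (hreg : IsRegularLocalRing (YR.left.presheaf.stalk y)) :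
    IsRegularLocalRing (YR.left.presheaf.stalk y ⧸
      Ideal.map (Models.stalkHom R YR y) (IsLocalRing.maximalIdeal R)) := by
  subst hy
  set φ : YR.left.presheaf.stalk (σ.base (IsLocalRing.closedPoint V)) ⟶ CommRingCat.of V :=
    Scheme.stalkClosedPointTo σ with hφ
  have hcompat : φ.hom.comp (Models.stalkHom R YR (σ.base (IsLocalRing.closedPoint V))) =
      algebraMap R V := by
    have key : (Spec (CommRingCat.of R)).presheaf.germ ⊤ _ trivial ≫
        Scheme.stalkClosedPointTo (σ ≫ YR.hom) =
        (Scheme.ΓSpecIso _).hom ≫ CommRingCat.ofHom (algebraMap R V) := by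
      rw [hσ]
      exact Scheme.germ_stalkClosedPointTo_Spec _
    rw [Scheme.stalkClosedPointTo_comp] at key
    replace key := (Scheme.Hom.germ_stalkMap_assoc YR.hom ⊤ (σ.base (IsLocalRing.closedPoint V))
      trivial (Scheme.stalkClosedPointTo σ)).symm.trans key
    ext r
    have := congrArg (fun t => t.hom ((Scheme.ΓSpecIso (CommRingCat.of R)).inv.hom r)) key
    simp only [CommRingCat.hom_comp, RingHom.comp_apply, CommRingCat.hom_ofHom] at this
    rw [show (Scheme.ΓSpecIso (CommRingCat.of R)).hom.hom
      ((Scheme.ΓSpecIso (CommRingCat.of R)).inv.hom r) = r from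
      congrArg (fun t => t.hom r) (Scheme.ΓSpecIso (CommRingCat.of R)).inv_hom_id] at this
    exact this
  obtain ⟨π, hπ⟩ := IsDiscreteValuationRing.exists_irreducible R
  have hgen : IsLocalRing.maximalIdeal R = Ideal.span {π} := hπ.maximalIdeal_eq
  rw [hgen, Ideal.map_span, Set.image_singleton]
  have hVgen : IsLocalRing.maximalIdeal V = Ideal.span {algebraMap R V π} := by
    rw [← hV, hgen, Ideal.map_span, Set.image_singleton]
  have hirr : Irreducible (algebraMap R V π) :=
    (IsDiscreteValuationRing.irreducible_iff_uniformizer _).2 hVgen
  have himg : φ.hom (Models.stalkHom R YR (σ.base (IsLocalRing.closedPoint V)) π) =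
      algebraMap R V π := RingHom.congr_fun hcompat π
  haveI : IsLocalHom φ.hom := Scheme.isLocalHom_stalkClosedPointTo' σ
  have hle : ∀ a ∈ IsLocalRing.maximalIdeal
      (YR.left.presheaf.stalk (σ.base (IsLocalRing.closedPoint V))),
      φ.hom a ∈ IsLocalRing.maximalIdeal V := fun a ha => map_nonunit φ.hom a ha
  have hx : Models.stalkHom R YR (σ.base (IsLocalRing.closedPoint V)) π ∈
      IsLocalRing.maximalIdeal (YR.left.presheaf.stalk (σ.base (IsLocalRing.closedPoint V))) := by
    intro hu
    exact hirr.not_isUnit (himg ▸ hu.map φ.hom)
  have hx2 : Models.stalkHom R YR (σ.base (IsLocalRing.closedPoint V)) π ∉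
      IsLocalRing.maximalIdeal
        (YR.left.presheaf.stalk (σ.base (IsLocalRing.closedPoint V))) ^ 2 := by
    intro h2
    have h3 := Ideal.mem_map_of_mem φ.hom h2
    rw [Ideal.map_pow, himg] at h3
    have h4 : algebraMap R V π ∈ IsLocalRing.maximalIdeal V ^ 2 :=
      Ideal.pow_right_mono (Ideal.map_le_iff_le_comap.2 hle) 2 h3
    rw [hVgen, Ideal.span_singleton_pow, Ideal.mem_span_singleton] at h4
    obtain ⟨c, hc⟩ := h4
    apply hirr.not_isUnit
    refine .of_mul_eq_one c ?_
    apply mul_left_cancel₀ hirr.ne_zero
    rw [mul_one, ← mul_assoc, ← pow_two, ← hc]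
  exact (RegLoc.quotient_span_singleton hx hx2).1

end Groth.Agent.S19912
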