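import Groth.Statements.S19913
-- import your own Groth.Agent.* helpers here
import Groth.Agent.Lib.CentreMT25.Main

set_option autoImplicit false
universe u
open CategoryTheory MonoidalCategory CartesianMonoidalCategory MonObj GrpObj AlgebraicGeometry
open AGF

namespace Groth.Agent.S19913

/-- Let p be a prime, k a field of characteristic p, G a reductive k-group scheme (affine, smooth,
connected reductive geometric fibre), z : Z ⟶ G its scheme-theoretic centre, and u : U ⟶ G a closed
subgroup scheme which is affine, smooth and connected and whose geometric fibre contains no
non-trivial subtorus (a smooth connected unipotent k-subgroup). Then Z ∩ U = 1 scheme-theoretically: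
for every k-scheme X and all X-valued points a of Z and b of U with the same image in G(X), that
image is the identity. (The published assertion allows any smooth unipotent k-subgroup U; it is
stated here for connected U. The consequence that U maps by a closed immersion into the quotient of
G by Z is not restated.) -/
theorem result (p : ℕ) [Fact p.Prime]
    (k : Type u) [Field k] [CharP k p]
    (G : Over (Spec (CommRingCat.of k))) [GrpObj G] (hG : Red.IsReductive G)
    (Z : Over (Spec (CommRingCat.of k))) [GrpObj Z] (z : Z ⟶ G) (hz : Red.IsCentre z)
    (U : Over (Spec (CommRingCat.of k))) [GrpObj U] [IsAffine U.left] [Smooth U.hom] [ConnectedSpace ↥U.left]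
    (hU : ∀ s : ↥(Spec (CommRingCat.of k)),
      Red.HasNoSubtorus (AlgebraicClosure ((Spec (CommRingCat.of k)).residueField s)) (Red.geomFibre s U))
    (u : U ⟶ G) [IsMonHom u] (hu : IsClosedImmersion u.left)
    (X : Over (Spec (CommRingCat.of k))) (a : X ⟶ Z) (b : X ⟶ U) (hab : a ≫ z = b ≫ u) :
    b ≫ u = 1 := by
  haveI := hu
  exact Groth.Agent.CentreMT25.comp_eq_one hG hz u hU a b hab

end Groth.Agent.S19913
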