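import Groth.Statements.S19914
import Groth.Agent.Lib.StAlg.Apps

set_option autoImplicit false
open CategoryTheory AlgebraicGeometry
universe u
open AlgSt

namespace Groth.Agent.S19914
set_option linter.style.haveILetI false
set_option backward.isDefEq.respectTransparency false
set_option backward.isDefEq.respectTransparency.types false


/-- Let S be a scheme and let 𝒳, 𝒴, 𝒵 be algebraic stacks over (Sch/S) for the etale topology (stacks in
groupoids for the big etale topology whose diagonal is representable by algebraic spaces, with a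
smooth surjective atlas from a scheme representable by algebraic spaces), with functors f : 𝒳 → 𝒵
and g : 𝒴 → 𝒵 over (Sch/S). Then the 2-fibre product 𝒳 ×_𝒵 𝒴 over (Sch/S) is an algebraic stack for
the etale topology. -/
theorem result (S : Scheme.{u}) (𝒳 𝒴 𝒵 : AlgSt.Cat S)
    (h𝒳 : AlgSt.IsAlgStack Scheme.etalePrecoverage 𝒳) (h𝒴 : AlgSt.IsAlgStack Scheme.etalePrecoverage 𝒴)
    (h𝒵 : AlgSt.IsAlgStack Scheme.etalePrecoverage 𝒵)
    (f : 𝒳 ⥤ᵇ 𝒵) (g : 𝒴 ⥤ᵇ 𝒵) :
    AlgSt.IsAlgStack Scheme.etalePrecoverage (FibCat.fp f g) := by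
  exact Groth.Agent.StAlg.isAlgStack_fp h𝒵.isStack h𝒵.diag h𝒳 h𝒴 f g

end Groth.Agent.S19914
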