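import Groth.Statements.S19917
import Groth.Agent.Lib.TameKummer.Basic

set_option autoImplicit false
universe u
open CategoryTheory CategoryTheory.Limits AlgebraicGeometry MonObj
open SGA7

namespace Groth.Agent.S19917

/-- Let R be a discrete valuation ring with fraction field K and residue field k, Ω a separable closure
of K and W a valuation subring of Ω lying over R. Assume that every K-automorphism of Ω belongs to
the inertia group at W, i.e. K coincides with its maximal extension inside Ω at which the
restriction of W is unramified over R. Let r ≥ 1 be an integer whose image in k is non-zero. Then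
there is exactly one intermediate field L of Ω over K with [L : K] = r and L Galois over K; moreover
every such L is totally (and tamely) ramified over R: every maximal ideal of the integral closure of
R in L has ramification index r over R. -/
theorem result (R K Ω : Type u) [CommRing R] [IsDomain R]
    [IsDiscreteValuationRing R] [Field K] [Algebra R K] [IsFractionRing R K] [Field Ω] [Algebra K Ω]
    [IsSepClosure K Ω] [Algebra R Ω] [IsScalarTower R K Ω]
    (W : ValuationSubring Ω) (hW : SGA7.LiesOver K R W)
    (hI : ∀ σ : Ω ≃ₐ[K] Ω, SGA7.IsInertia W σ)
    (r : ℕ) (hr : 0 < r) (hrk : (r : IsLocalRing.ResidueField R) ≠ 0) :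
    (∃! L : IntermediateField K Ω, Module.finrank K L = r ∧ IsGalois K L) ∧
      ∀ L : IntermediateField K Ω, Module.finrank K L = r → IsGalois K L →
        ∀ P : Ideal (integralClosure R L), P.IsMaximal → P.ramificationIdx R = r := by
  exact TameKummer.Data.main ⟨hW, hI, hr, hrk⟩

end Groth.Agent.S19917
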