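import Groth.Statements.S19918
import Groth.Agent.Lib.ArInter.Tw

set_option autoImplicit false
universe u
open CategoryTheory CategoryTheory.Limits AlgebraicGeometry
open Models

namespace Groth.Agent.S19918

/-- Kernel of Pic(X)[n] → Pic(C)[n]: let R be a discrete valuation ring with fraction field K, C a
smooth proper curve over K with H^0(C, O_C) = K, X a regular proper model of C with generic-fibre
inclusion g : C → X, Γ_1, …, Γ_n the irreducible components of the closed fibre with multiplicities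
m_1, …, m_n, d = gcd(m_1, …, m_n), and L_i invertible O_X-modules with L_i ⊗ I(Γ_i) ≅ O_X (that is,
L_i = O_X(Γ_i)). Let h ≥ 1 and put e = gcd(h, d). If M is an invertible O_X-module with M^{⊗h} ≅ O_X
whose pullback to C is trivial, then there is exactly one natural number k < e with M ≅ L_1^{k
m_1/e} ⊗ ⋯ ⊗ L_n^{k m_n/e} = O_X(k·(1/e)·X_s). In other words the kernel of Pic(X)[h] → Pic(C)[h] is
cyclic of order gcd(h, d), generated by the class of O_X((1/e)·X_s). -/
theorem result (R : Type u) [CommRing R] [IsDomain R] [IsDiscreteValuationRing R]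
    (C X : Scheme.{u}) (f : C ⟶ Spec (CommRingCat.of (FractionRing R))) (p : X ⟶ Spec (CommRingCat.of R))
    (hC : Curve.IsSmoothProperCurve (FractionRing R) C f) (hH0 : IsIso f.appTop)
    (hX : Models.IsRegularProperModel R X p C f)
    {n : ℕ} (Γ : Fin n → ArSurf.VertComp R (Over.mk p)) (hΓ : Models.IsComponentList R (Over.mk p) Γ)
    (g : C ⟶ X) (hg : IsPullback g f p (Spec.map (CommRingCat.ofHom (algebraMap R (FractionRing R)))))
    (L : Fin n → X.Modules) (hL : ∀ i, ClSub.IsInverseOf (L i) (ClSub.idealMod (Γ i).ι.ker))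
    (h : ℕ) (hh : 0 < h)
    (M : X.Modules) (hM : PicF.IsInvertible M)
    (htors : Nonempty (CohB1.tensorPow M h ≅ Coh.structureModule X))
    (htriv : Nonempty ((Scheme.Modules.pullback g).obj M ≅ Coh.structureModule C)) :
    ∃! k : ℕ, k < Nat.gcd h (Models.multGcd R (Over.mk p) Γ) ∧
      Nonempty (M ≅ FGA.multiTwist L (fun i => k * (Models.mult R (Over.mk p) (Γ i) / Nat.gcd h (Models.multGcd R (Over.mk p) Γ)))) := by
  have c : Groth.Agent.ArInter.Ctx R C X f p Γ L := ⟨hC, hH0, hX, hΓ, hL⟩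
  let m : Fin n → ℕ := fun i => Models.mult R (Over.mk p) (Γ i)
  let d := Models.multGcd R (Over.mk p) Γ
  let e := Nat.gcd h d
  have he : 0 < e := Nat.gcd_pos_of_pos_left _ hh
  have hem : ∀ i, e ∣ m i := fun i => (Nat.gcd_dvd_right h d).trans (Finset.gcd_dvd (Finset.mem_univ i))
  have hme : ∀ i, ((m i / e : ℕ) : ℤ) * (e : ℤ) = (m i : ℤ) := fun i => by
    rw [← Nat.cast_mul, Nat.div_mul_cancel (hem i)]
  obtain ⟨v, hv⟩ := c.exists_rep_of_trivial hg hM htriv
  obtain ⟨k, hk⟩ := (c.trivial_iff (c.rep_pow hv h)).mp htors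
  obtain ⟨t, ht⟩ := Groth.Agent.ArInter.exists_bezout Finset.univ m
  have hhk : (h : ℤ) * (∑ j, t j * v j) = (d : ℤ) * k := by
    rw [Finset.mul_sum, show (d : ℤ) = ∑ j, t j * (m j : ℤ) from ht.symm, Finset.sum_mul]
    exact Finset.sum_congr rfl fun j _ => by linear_combination t j * hk j
  have he' : (e : ℤ) ≠ 0 := Int.natCast_ne_zero.mpr he.ne'
  have hh' : (h : ℤ) = ((h / e : ℕ) : ℤ) * (e : ℤ) := by
    rw [← Nat.cast_mul, Nat.div_mul_cancel (Nat.gcd_dvd_left h d)]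
  have hd' : (d : ℤ) = ((d / e : ℕ) : ℤ) * (e : ℤ) := by
    rw [← Nat.cast_mul, Nat.div_mul_cancel (Nat.gcd_dvd_right h d)]
  obtain ⟨k₀, hk₀⟩ : ((h / e : ℕ) : ℤ) ∣ k := by
    refine IsCoprime.dvd_of_dvd_mul_left (y := ((d / e : ℕ) : ℤ))
      (Nat.isCoprime_iff_coprime.mpr (Nat.coprime_div_gcd_div_gcd he)) ⟨∑ j, t j * v j, ?_⟩
    refine mul_right_cancel₀ he' ?_
    linear_combination -hhk - (∑ j, t j * v j) * hh'.symm * 1 + k * hd'.symm * 1
  have hv0 : ∀ i, v i = k₀ * ((m i / e : ℕ) : ℤ) := fun i => by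
    have hne : ((h / e : ℕ) : ℤ) ≠ 0 := fun h0 => by
      rw [h0, zero_mul] at hh'
      exact Int.natCast_ne_zero.mpr hh.ne' hh'
    refine mul_left_cancel₀ (mul_ne_zero hne he') ?_
    linear_combination hk i - v i * hh' + (m i : ℤ) * hk₀ - ((h / e : ℕ) : ℤ) * k₀ * hme i
  let r := (k₀ % (e : ℤ)).toNat
  have hr : (r : ℤ) = k₀ % (e : ℤ) := Int.toNat_of_nonneg (Int.emod_nonneg _ he')
  have hrlt : r < e := by
    have := Int.emod_lt_of_pos k₀ (Int.natCast_pos.mpr he)
    omega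
  have key : ∀ s : ℕ, Nonempty (M ≅ FGA.multiTwist L (fun i => s * (m i / e))) ↔
      ∃ l : ℤ, k₀ - (s : ℤ) = l * (e : ℤ) := fun s => by
    rw [c.rep_iso_iff hv (c.rep_mt fun i => s * (m i / e))]
    refine ⟨fun ⟨l, hl⟩ => ⟨l, ?_⟩, fun ⟨l, hl⟩ => ⟨l, fun i => ?_⟩⟩
    · obtain ⟨i₀⟩ := c.nonempty_index
      refine mul_right_cancel₀ (b := ((m i₀ / e : ℕ) : ℤ)) (fun h0 => ?_) ?_
      · have := hme i₀
        rw [h0, zero_mul] at this
        exact (Int.natCast_ne_zero.mpr (c.mult_pos i₀).ne') this.symm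
      · have := hl i₀
        simp only [hv0 i₀, Nat.cast_mul] at this ⊢
        linear_combination this - l * hme i₀
    · simp only [hv0 i, Nat.cast_mul]
      linear_combination ((m i / e : ℕ) : ℤ) * hl + l * hme i
  refine ⟨r, ⟨hrlt, (key r).mpr ⟨k₀ / (e : ℤ), ?_⟩⟩, fun s ⟨hs, hse⟩ => ?_⟩
  · rw [hr]
    linear_combination (Int.mul_ediv_add_emod k₀ (e : ℤ)).symm
  · obtain ⟨l, hl⟩ := (key s).mp hse
    have h1 : ((s : ℤ)) % (e : ℤ) = k₀ % (e : ℤ) := by
      rw [show k₀ = (s : ℤ) + l * (e : ℤ) by linarith, Int.add_mul_emod_self_right]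
    rw [Int.emod_eq_of_lt (Int.natCast_nonneg s) (Int.ofNat_lt.mpr hs)] at h1
    omega

end Groth.Agent.S19918
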