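import Groth.Statements.S1992
import Mathlib.RingTheory.Localization.Integral
import Mathlib.FieldTheory.IsAlgClosed.Basic
import Mathlib.RingTheory.Henselian

set_option autoImplicit false
universe u
open Polynomial
open EtAlg

namespace Groth.Agent.S1992

/-- Let A be an absolutely integrally closed ring, i.e. every monic polynomial over A is a product of
linear factors X - a. Then for every prime p of A the localization A_p is a strictly henselian local
ring (henselian with separably closed residue field). -/
theorem result (A : Type u) [CommRing A]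
    (hA : ∀ f : A[X], f.Monic → ∃ s : Multiset A, f = (s.map fun a => X - C a).prod)
    (p : Ideal A) [p.IsPrime] :
    EtCoh.IsStrictlyHenselianLocalRing (Localization.AtPrime p) := by
  classical
  set L := Localization.AtPrime p
  have key : ∀ f : L[X], f.Monic →
      ∃ (r : Multiset A) (s : L), IsUnit s ∧ r.card = f.natDegree ∧
        f.scaleRoots s = (r.map fun a => X - C (algebraMap A L a)).prod := by
    intro f hf
    obtain ⟨g, hg, hgd, hgm⟩ := Polynomial.lifts_and_natDegree_eq_and_monic
      (IsLocalization.scaleRoots_commonDenom_mem_lifts p.primeCompl f (by rw [hf.leadingCoeff]; exact one_mem _))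
      ((Polynomial.monic_scaleRoots_iff _).2 hf)
    obtain ⟨r, rfl⟩ := hA g hgm
    refine ⟨r, algebraMap A L (IsLocalization.commonDenom p.primeCompl f.support f.coeff),
      IsLocalization.map_units L _, ?_, ?_⟩
    · rcases subsingleton_or_nontrivial A with h | h
      · exact absurd (Ideal.IsPrime.ne_top ‹_›) (fun h' => h' (Subsingleton.elim _ _))
      rw [← Polynomial.natDegree_multiset_prod_X_sub_C_eq_card r, hgd, Polynomial.natDegree_scaleRoots]
    · rw [← hg, Polynomial.map_multiset_prod, Multiset.map_map]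
      simp [Function.comp_def]
  have key2 : ∀ (k : Type u) [Field k] (ψ : L →+* k) (f : L[X]) (a₀ : k), f.Monic → f.eval₂ ψ a₀ = 0 →
      ∃ a : L, f.IsRoot a ∧ ψ a = a₀ := by
    intro k _ ψ f a₀ hf h0
    obtain ⟨r, s, hs, -, hfr⟩ := key f hf
    have h1 := Polynomial.scaleRoots_eval₂_eq_zero ψ (s := s) h0
    rw [hfr, Polynomial.eval₂_multiset_prod, Multiset.prod_eq_zero_iff, Multiset.map_map, Multiset.mem_map] at h1
    obtain ⟨x, hx, hx0⟩ := h1
    simp only [Function.comp_apply, Polynomial.eval₂_sub, Polynomial.eval₂_X, Polynomial.eval₂_C, sub_eq_zero] at hx0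
    obtain ⟨u, rfl⟩ := hs
    refine ⟨↑u⁻¹ * algebraMap A L x, ?_, ?_⟩
    · have h2 := Polynomial.scaleRoots_eval_mul f (↑u⁻¹ * algebraMap A L x) (↑u : L)
      rw [← mul_assoc, Units.mul_inv, one_mul, hfr, Polynomial.eval_multiset_prod, Multiset.map_map,
        Multiset.prod_eq_zero (Multiset.mem_map.2 ⟨x, hx, by simp⟩)] at h2
      exact ((u.isUnit.pow f.natDegree).mul_right_eq_zero).1 h2.symm
    · rw [map_mul, ← hx0, ← mul_assoc, ← map_mul, Units.inv_mul, map_one, one_mul]
  refine ⟨{ is_henselian := fun f hf a₀ h0 _ => ?_ }, ?_⟩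
  · have h0' : f.eval₂ (IsLocalRing.residue L) (IsLocalRing.residue L a₀) = 0 := by
      rw [Polynomial.eval₂_at_apply, IsLocalRing.residue_eq_zero_iff]; exact h0
    obtain ⟨a, ha, ha'⟩ := key2 _ (IsLocalRing.residue L) f _ hf h0'
    refine ⟨a, ha, ?_⟩
    rw [← IsLocalRing.residue_eq_zero_iff, map_sub, ha', sub_self]
  · have : IsAlgClosed (IsLocalRing.ResidueField L) := IsAlgClosed.of_exists_root _ fun q hq hirr => by
      obtain ⟨f, hf, hfd, hfm⟩ := Polynomial.lifts_and_natDegree_eq_and_monic
        (Polynomial.mem_lifts q |>.2 (Polynomial.map_surjective _ IsLocalRing.residue_surjective q)) hq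
      obtain ⟨r, s, hs, hcard, hfr⟩ := key f hfm
      obtain ⟨x, hx⟩ : ∃ x, x ∈ r := Multiset.card_pos_iff_exists_mem.1 (by rw [hcard, hfd]; exact hirr.natDegree_pos)
      obtain ⟨u, rfl⟩ := hs
      have h2 := Polynomial.scaleRoots_eval_mul f (↑u⁻¹ * algebraMap A L x) (↑u : L)
      rw [← mul_assoc, Units.mul_inv, one_mul, hfr, Polynomial.eval_multiset_prod, Multiset.map_map,
        Multiset.prod_eq_zero (Multiset.mem_map.2 ⟨x, hx, by simp⟩)] at h2
      refine ⟨IsLocalRing.residue L (↑u⁻¹ * algebraMap A L x), ?_⟩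
      rw [← hf, Polynomial.eval_map, Polynomial.eval₂_at_apply, ((u.isUnit.pow f.natDegree).mul_right_eq_zero).1 h2.symm, map_zero]
    infer_instance

end Groth.Agent.S1992
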