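import Groth.Statements.S19920
import Groth.Agent.Lib.IndexMult.Section
import Groth.Agent.Lib.IndexMult.Index
import Groth.Agent.Lib.IndexMult.Fibre
-- import your own Groth.Agent.* helpers here

set_option autoImplicit false
universe u
open CategoryTheory CategoryTheory.Limits AlgebraicGeometry
open Models

namespace Groth.Agent.S19920

/-- Let R be a discrete valuation ring that is Henselian, whose residue field k is algebraically closed,
with fraction field K, and let 𝒳 be an R-scheme of finite type, flat over R, whose generic fibre is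
X (𝒳 is a model of the K-scheme X) and special fibre Y = 𝒳 ⊗_R k. Then the index of X over K (the
greatest common divisor of the degrees of its closed points) divides the multiplicity of Y (the
greatest common divisor of the lengths of the local rings of Y at its points of codimension 0): for
every point η of Y which is maximal for specialization, the local ring O_{Y,η} has finite length ℓ
and ℓ lies in the subgroup of ℤ generated by the degrees of the closed points of X. -/
theorem result (R : Type u) [CommRing R]
    [IsDomain R] [IsDiscreteValuationRing R] [HenselianLocalRing R] (hk : IsAlgClosed (IsLocalRing.ResidueField R))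
    (X : Scheme.{u}) (f : X ⟶ Spec (CommRingCat.of (FractionRing R)))
    (𝒳 : Scheme.{u}) (p : 𝒳 ⟶ Spec (CommRingCat.of R)) (h𝒳 : Models.IsModel R 𝒳 p X f)
    (η : ↥(Models.specialFibre R 𝒳 p)) (hη : ∀ y : ↥(Models.specialFibre R 𝒳 p), y ⤳ η → y = η) :
    ∃ ℓ : ℕ, Module.length ((Models.specialFibre R 𝒳 p).presheaf.stalk η) ((Models.specialFibre R 𝒳 p).presheaf.stalk η) = ℓ ∧
      (ℓ : ℤ) ∈ Curv2.indexSubgroup f := by
  haveI := hk
  obtain ⟨π, hπ⟩ := IsDiscreteValuationRing.exists_irreducible R
  obtain ⟨hflat, hlft, hqc, g, hg⟩ := h𝒳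
  haveI := hflat; haveI := hlft
  haveI : LocallyOfFiniteType f := MorphismProperty.of_isPullback hg inferInstance
  haveI : IsClosedImmersion (Spec.map (CommRingCat.ofHom (IsLocalRing.residue R))) :=
    IsClosedImmersion.spec_of_surjective _ IsLocalRing.residue_surjective
  let i : Models.specialFibre R 𝒳 p ⟶ 𝒳 := pullback.fst p (Spec.map (CommRingCat.ofHom (IsLocalRing.residue R)))
  haveI : IsClosedImmersion i := by
    show IsClosedImmersion (pullback.fst p (Spec.map (CommRingCat.ofHom (IsLocalRing.residue R))))
    infer_instance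
  let x₀ : 𝒳 := i η
  obtain ⟨U, hU, hx₀⟩ := Groth.Agent.DivDesc12.exists_affine x₀
  let A : Type u := Γ(𝒳, U)
  let φR : R →+* A := ((Scheme.ΓSpecIso (CommRingCat.of R)).inv ≫ p.appLE ⊤ U le_top).hom
  letI : Algebra R A := φR.toAlgebra
  haveI : Algebra.FiniteType R A := by
    show φR.FiniteType
    exact (p.finiteType_appLE (isAffineOpen_top _) hU le_top).comp
      (RingHom.FiniteType.of_surjective _ (ConcreteCategory.bijective_of_isIso (Scheme.ΓSpecIso (CommRingCat.of R)).inv).2)
  haveI : Module.Flat R A := by
    show φR.Flat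
    exact RingHom.Flat.comp (RingHom.Flat.of_bijective (ConcreteCategory.bijective_of_isIso (Scheme.ΓSpecIso (CommRingCat.of R)).inv))
      (p.flat_appLE (isAffineOpen_top _) hU le_top)
  have htf : ∀ a : A, π • a = 0 → a = 0 := fun a ha =>
    (Module.Flat.isSMulRegular_of_nonZeroDivisors (M := A) (mem_nonZeroDivisors_of_ne_zero hπ.ne_zero))
      (ha.trans (smul_zero π).symm)
  let pr := hU.primeIdealOf ⟨x₀, hx₀⟩
  let P : Ideal A := pr.asIdeal
  haveI : P.IsPrime := pr.isPrime
  have hfs : ∀ w : Spec Γ(𝒳, U), p (hU.fromSpec w) = IsLocalRing.closedPoint R ↔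
      algebraMap R A π ∈ w.asIdeal := fun w => by
    have e := IsAffineOpen.SpecMap_appLE_fromSpec p (isAffineOpen_top (Spec (CommRingCat.of R))) hU le_top
    have hw : p (hU.fromSpec w) = Spec.map (CommRingCat.ofHom φR) w := by
      rw [← Scheme.Hom.comp_apply, ← e, IsAffineOpen.fromSpec_top, Scheme.isoSpec_Spec_inv, ← Spec.map_comp]
      rfl
    rw [hw]
    constructor
    · intro h
      have h1 : π ∈ (Spec.map (CommRingCat.ofHom φR) w).asIdeal := by
        rw [h]; exact hπ.not_isUnit
      exact h1
    · intro h
      apply PrimeSpectrum.ext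
      haveI := w.isPrime
      exact ((IsLocalRing.maximalIdeal.isMaximal R).eq_of_le
        (Ideal.IsPrime.comap φR).ne_top (by
          rw [(IsDiscreteValuationRing.irreducible_iff_uniformizer π).mp hπ, Ideal.span_singleton_le_iff_mem]
          exact h)).symm
  have hrange : Set.range i = Models.specialFibreSet R (Over.mk p) := Groth.Agent.ArInter.range_fst_fibre (X := Over.mk p)
  have hπP : algebraMap R A π ∈ P := by
    refine (hfs pr).mp ?_
    rw [IsAffineOpen.fromSpec_primeIdealOf]
    exact (hrange.le ⟨η, rfl⟩ : x₀ ∈ _)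
  have hmin : P ∈ (Ideal.span {algebraMap R A π}).minimalPrimes := by
    refine ⟨⟨inferInstance, (Ideal.span_singleton_le_iff_mem _).mpr hπP⟩, fun Q ⟨hQ, hπQ⟩ hle => ?_⟩
    let w : Spec Γ(𝒳, U) := ⟨Q, hQ⟩
    have hwx : hU.fromSpec w ⤳ x₀ := by
      have := ((PrimeSpectrum.le_iff_specializes w pr).mp hle).map hU.fromSpec.continuous
      rwa [IsAffineOpen.fromSpec_primeIdealOf] at this
    obtain ⟨η', hη'⟩ := (hrange.ge ((hfs w).mpr ((Ideal.span_singleton_le_iff_mem _).mp hπQ)) :
      hU.fromSpec w ∈ Set.range i)
    obtain rfl : η' = η := hη η' (i.isEmbedding.isInducing.specializes_iff.mp (hη' ▸ hwx))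
    have hwe : w = pr := hU.fromSpec.isOpenEmbedding.injective (by rw [← hη', IsAffineOpen.fromSpec_primeIdealOf])
    exact le_of_eq (congrArg PrimeSpectrum.asIdeal hwe).symm
  obtain ⟨a, C, c1, c2, φ, hφ, hCf, hCfree, hlen⟩ := Groth.Agent.IndexMult.exists_section hπ htf P hmin
  refine ⟨Module.finrank R C, ?_, ?_⟩
  · -- the local ring of the fibre
    let S := 𝒳.presheaf.stalk x₀
    letI : Algebra A S := 𝒳.presheaf.algebra_section_stalk (⟨x₀, hx₀⟩ : U)
    haveI : IsLocalization.AtPrime S P := hU.isLocalization_stalk ⟨x₀, hx₀⟩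
    have hker : RingHom.ker (i.stalkMap η).hom = Ideal.span {algebraMap A S (algebraMap R A π)} :=
      (Groth.Agent.ArInter.ker_stalkMap_fst_fibre (X := Over.mk p) hπ η).trans
        (congrArg (fun z => Ideal.span {z}) (Groth.Agent.ArInter.stalkHom_eq_germ (X := Over.mk p) U x₀ hx₀ π))
    let e₁ := (Ideal.quotEquivOfEq hker.symm).trans
      (RingHom.quotientKerEquivOfSurjective (SurjectiveOnStalks.stalkMap_surjective i η))
    let e₂ : Localization.AtPrime P ≃ₐ[A] S := IsLocalization.algEquiv P.primeCompl _ _
    rw [show Module.length ((Models.specialFibre R 𝒳 p).presheaf.stalk η) ((Models.specialFibre R 𝒳 p).presheaf.stalk η) =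
      Module.length (S ⧸ Ideal.span {algebraMap A S (algebraMap R A π)}) (S ⧸ Ideal.span {algebraMap A S (algebraMap R A π)})
      from (Groth.Agent.IndexMult.length_congr e₁).symm, ← hlen]
    exact (Groth.Agent.IndexMult.length_congr (Ideal.quotientEquiv _ _ e₂.toRingEquiv (by
      rw [Ideal.map_span, Set.image_singleton]
      exact congrArg (fun z => Ideal.span {z}) (e₂.commutes _).symm))).symm
  · -- the generic fibre of the section
    let K := FractionRing R
    haveI := hCf; haveI := hCfree
    haveI : Module.Finite K (TensorProduct R K C) := Module.Finite.base_change R K C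
    rw [← Module.finrank_baseChange (R := K) (S := R) (M' := C)]
    let ψ : A →+* C := φ.toRingHom.comp (algebraMap A (Localization.Away a))
    have hψR : ψ.comp φR = algebraMap R C := RingHom.ext fun r => by
      show φ (algebraMap A (Localization.Away a) (algebraMap R A r)) = _
      rw [← IsScalarTower.algebraMap_apply R A (Localization.Away a), φ.commutes]
    let inR : C →+* TensorProduct R K C := Algebra.TensorProduct.includeRight.toRingHom
    let j₁ : Spec (CommRingCat.of (TensorProduct R K C)) ⟶ 𝒳 :=
      (Spec.map (CommRingCat.ofHom inR) ≫ Spec.map (CommRingCat.ofHom φ.toRingHom) ≫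
        Spec.map (CommRingCat.ofHom (algebraMap A (Localization.Away a)))) ≫ hU.fromSpec
    haveI : SurjectiveOnStalks (Spec.map (CommRingCat.ofHom inR)) :=
      SurjectiveOnStalks.Spec_iff.mpr (RingHom.SurjectiveOnStalks.baseChange' (R := R) (S := K) (T := C)
        (RingHom.surjectiveOnStalks_of_isLocalization (nonZeroDivisors R) K))
    haveI : SurjectiveOnStalks (Spec.map (CommRingCat.ofHom φ.toRingHom)) :=
      SurjectiveOnStalks.Spec_iff.mpr (RingHom.surjectiveOnStalks_of_surjective hφ)
    haveI : SurjectiveOnStalks (Spec.map (CommRingCat.ofHom (algebraMap A (Localization.Away a)))) :=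
      SurjectiveOnStalks.Spec_iff.mpr (RingHom.surjectiveOnStalks_of_isLocalization (Submonoid.powers a) _)
    haveI : SurjectiveOnStalks j₁ := inferInstance
    have hj₁ : j₁ ≫ p = Spec.map (CommRingCat.ofHom (algebraMap K (TensorProduct R K C))) ≫
        Spec.map (CommRingCat.ofHom (algebraMap R K)) := by
      have e := IsAffineOpen.SpecMap_appLE_fromSpec p (isAffineOpen_top (Spec (CommRingCat.of R))) hU le_top
      simp only [j₁, Category.assoc, ← e, IsAffineOpen.fromSpec_top, Scheme.isoSpec_Spec_inv, ← Spec.map_comp]
      congr 1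
      refine CommRingCat.hom_ext (RingHom.ext fun r => ?_)
      show inR (ψ (φR r)) = algebraMap K (TensorProduct R K C) (algebraMap R K r)
      refine (congrArg inR (RingHom.congr_fun hψR r)).trans ?_
      rw [← IsScalarTower.algebraMap_apply R K (TensorProduct R K C)]
      exact AlgHom.commutes (Algebra.TensorProduct.includeRight (R := R) (A := K) (B := C)) r
    let j := hg.lift j₁ (Spec.map (CommRingCat.ofHom (algebraMap K (TensorProduct R K C)))) hj₁
    haveI : SurjectiveOnStalks (j ≫ g) := by rw [hg.lift_fst]; infer_instance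
    haveI : SurjectiveOnStalks j := SurjectiveOnStalks.of_comp j g
    exact Groth.Agent.IndexMult.finrank_mem f j (hg.lift_snd _ _ _)

end Groth.Agent.S19920
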