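import Groth.Statements.S19923
import Groth.Agent.Lib.KernelKL22.SymmApply

set_option autoImplicit false
universe u
open CategoryTheory CategoryTheory.Limits MonoidalCategory CartesianMonoidalCategory MonObj GrpObj AlgebraicGeometry
open AbVar

namespace Groth.Agent.S19923

/-- Let A be an abelian variety over a field k (a proper, geometrically integral commutative k-group
scheme; k arbitrary), given with a dual (Â, φ_A) and a dual (Â̂, φ_Â) of Â — each represents the
fppf-sheafified functor of invertible classes algebraically equivalent to zero on geometric fibres,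
with φ multiplicative — and with a Poincaré class ξ on A ×_k Â whose transpose ξ' on Â ×_k A lies in
Pic⁰ on the fibres over A; put ι_A = φ_Â(ξ') : A → Â̂ (the double-duality morphism). Let L be an
invertible O_A-module with an inverse L⁻¹, and let Λ be a module on A ×_k A isomorphic to m^*L ⊗
p₁^*L⁻¹ ⊗ p₂^*L⁻¹ (m the group law, p₁, p₂ the projections) whose class lies in Pic⁰ on the fibres
over the second factor, so that φ_L := φ_A(Λ) : A → Â is the homomorphism a ↦ t_a^*L ⊗ L⁻¹. If φ̂_L
: Â̂ → Â is a transpose of φ_L (φ_A of the pull-back of a Pic⁰ class c along (φ_L)_T equals φ_Â(c)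
followed by φ̂_L), then φ_L = ι_A followed by φ̂_L: the homomorphism φ_L is symmetric. -/
theorem result (K : Type u) [Field K]
    (A At Att : Over (Spec (CommRingCat.of K)))
    [GrpObj A] [IsCommMonObj A] [IsProper A.hom] [GeometricallyIntegral A.hom]
    [GrpObj At] [IsCommMonObj At] [IsProper At.hom] [GeometricallyIntegral At.hom]
    [GrpObj Att] [IsCommMonObj Att] [IsProper Att.hom] [GeometricallyIntegral Att.hom]
    (φA : ∀ T : Over (Spec (CommRingCat.of K)), PicF.Cl (PicF.XT A.hom T) → (T ⟶ At))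
    (hAt : AbDual.IsDualAV Scheme.fppfPrecoverage A At φA)
    (φAt : ∀ T : Over (Spec (CommRingCat.of K)), PicF.Cl (PicF.XT At.hom T) → (T ⟶ Att))
    (hAtt : AbDual.IsDualAV Scheme.fppfPrecoverage At Att φAt)
    (ξ : PicF.Cl (PicF.XT A.hom At)) (hξ : AbDual.IsPoincareCl A At φA ξ)
    (hξ' : AbDual.IsPicZeroCl At.hom A (PicF.pullCl (pullbackSymmetry At.hom A.hom).hom ξ))
    (L Linv : A.left.Modules) (hL : PicF.IsInvertible L)
    (hLinv : Nonempty (CohB1.tensorMod L Linv ≅ Coh.structureModule A.left))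
    (Λ : (PicF.XT A.hom A).Modules)
    (hΛ : Nonempty (Λ ≅ CohB1.tensorMod (CohB1.tensorMod ((Scheme.Modules.pullback (μ[A]).left).obj L)
      ((Scheme.Modules.pullback (fst A A).left).obj Linv)) ((Scheme.Modules.pullback (snd A A).left).obj Linv)))
    (hΛ0 : AbDual.IsPicZeroCl A.hom A (PicF.cl Λ))
    (tl : Att ⟶ At) [IsMonHom tl]
    (htl : AbDual.IsTranspose (φA A (PicF.cl Λ)) φA φAt tl) :
    φA A (PicF.cl Λ) = φAt A (PicF.pullCl (pullbackSymmetry At.hom A.hom).hom ξ) ≫ tl := by
  letI : ∀ Y : Scheme.{u}, PicGrp.Law Y := fun Y => M2.law Y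
  refine Groth.Agent.KernelKL22.lambda_symmetric hAt ξ hξ hξ' (PicGrp.cls L hL) _ ?_ hΛ0 htl
  have hi : (PicGrp.cls L hL)⁻¹.1 = PicF.cl Linv :=
    Groth.Agent.KernelKL22.inv_val_of_mul_eq_one _ (M2.cl_eq_of_iso hLinv.some)
  rw [← map_inv, ← map_inv, PicGrp.mul_val, PicGrp.mul_val, Groth.Agent.KernelKL22.pb_val,
    Groth.Agent.KernelKL22.pb_val, Groth.Agent.KernelKL22.pb_val, hi, PicGrp.cls_val]
  exact M2.cl_eq_of_iso hΛ.some

end Groth.Agent.S19923
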