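import Groth.Statements.S19924
import Groth.Agent.Lib.ArInter.Tw

set_option autoImplicit false
universe u
open CategoryTheory CategoryTheory.Limits AlgebraicGeometry
open Models

namespace Groth.Agent.S19924

/-- Let R be a discrete valuation ring with fraction field K, C a smooth proper curve over K with H^0(C,
O_C) = K, X a regular proper model of C with generic-fibre inclusion g : C → X, Γ_1, …, Γ_n the
irreducible components of the closed fibre with multiplicities m_1, …, m_n, and L_i invertible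
O_X-modules with L_i ⊗ I(Γ_i) ≅ O_X. Let h ≥ 1, let N be an invertible O_C-module with N^{⊗h} ≅ O_C,
let M be an invertible O_X-module whose pullback to C is N, and let a, b be exponent vectors with
M^{⊗h} ⊗ L_1^{a_1} ⊗ ⋯ ⊗ L_n^{a_n} ≅ L_1^{b_1} ⊗ ⋯ ⊗ L_n^{b_n}, i.e. M^{⊗h} ≅ O_X(Σ (b_i − a_i)
Γ_i). Then N is the pullback of some invertible O_X-module M' with M'^{⊗h} ≅ O_X if and only if
there are integers c_1, …, c_n and e with b_i − a_i = h c_i + e m_i for all i: the class of Σ (b_i −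
a_i) Γ_i modulo h ℤ^n + ℤ·(m_1, …, m_n) is the obstruction to lifting the h-torsion class N to an
h-torsion class on X. -/
theorem result (R : Type u) [CommRing R] [IsDomain R] [IsDiscreteValuationRing R]
    (C X : Scheme.{u}) (f : C ⟶ Spec (CommRingCat.of (FractionRing R))) (p : X ⟶ Spec (CommRingCat.of R))
    (hC : Curve.IsSmoothProperCurve (FractionRing R) C f) (hH0 : IsIso f.appTop)
    (hX : Models.IsRegularProperModel R X p C f)
    {n : ℕ} (Γ : Fin n → ArSurf.VertComp R (Over.mk p)) (hΓ : Models.IsComponentList R (Over.mk p) Γ)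
    (g : C ⟶ X) (hg : IsPullback g f p (Spec.map (CommRingCat.ofHom (algebraMap R (FractionRing R)))))
    (L : Fin n → X.Modules) (hL : ∀ i, ClSub.IsInverseOf (L i) (ClSub.idealMod (Γ i).ι.ker))
    (h : ℕ) (hh : 0 < h)
    (N : C.Modules) (hN : PicF.IsInvertible N) (hNt : Nonempty (CohB1.tensorPow N h ≅ Coh.structureModule C))
    (M : X.Modules) (hM : PicF.IsInvertible M) (hMN : Nonempty ((Scheme.Modules.pullback g).obj M ≅ N))
    (a b : Fin n → ℕ)
    (hab : Nonempty (CohB1.tensorMod (CohB1.tensorPow M h) (FGA.multiTwist L a) ≅ FGA.multiTwist L b)) :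
    (∃ M' : X.Modules, PicF.IsInvertible M' ∧ Nonempty (CohB1.tensorPow M' h ≅ Coh.structureModule X) ∧
        Nonempty ((Scheme.Modules.pullback g).obj M' ≅ N)) ↔
      ∃ (c : Fin n → ℤ) (e : ℤ), ∀ i, ((b i : ℤ) - (a i : ℤ)) = (h : ℤ) * c i + e * (Models.mult R (Over.mk p) (Γ i) : ℤ) := by
  have c : Groth.Agent.ArInter.Ctx R C X f p Γ L := ⟨hC, hH0, hX, hΓ, hL⟩
  obtain ⟨eN⟩ := hMN
  have hMh : Groth.Agent.ArInter.Rep L (CohB1.tensorPow M h) (fun i => (b i : ℤ) - (a i : ℤ)) :=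
    ⟨a, b, fun i => by ring, hab⟩
  constructor
  · rintro ⟨M', hM', ht, ⟨eN'⟩⟩
    obtain ⟨v, T, hT, hTv, ⟨e⟩⟩ := c.exists_rep_quot hg hM hM' ⟨eN' ≪≫ eN.symm⟩
    obtain ⟨et⟩ := ht
    obtain ⟨k, hk⟩ := (c.trivial_iff (c.rep_mul hMh (c.rep_pow hTv h))).mp
      ⟨(Groth.Agent.M2.tensorPowMul M T h).symm ≪≫ Groth.Agent.M2.tensorPowIso e.symm h ≪≫ et⟩
    exact ⟨fun i => -v i, k, fun i => by linarith [hk i]⟩
  · rintro ⟨w, e, hw⟩
    obtain ⟨T, hT, hTv⟩ := c.exists_rep fun i => -w i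
    obtain ⟨et⟩ := (c.trivial_iff (c.rep_mul hMh (c.rep_pow hTv h))).mpr ⟨e, fun i => by linarith [hw i]⟩
    obtain ⟨eT⟩ := c.pullback_rep hg hTv
    exact ⟨CohB1.tensorMod M T, Groth.Agent.M2.isInvertible_tensor hM hT,
      ⟨Groth.Agent.M2.tensorPowMul M T h ≪≫ et⟩,
      ⟨Groth.Agent.M2.pullTensorIso g M T ≪≫ Groth.Agent.M2.tensorIso eN eT ≪≫ Groth.Agent.M2.tensorRUnit _⟩⟩

end Groth.Agent.S19924
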