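import Groth.Statements.S19946
import Groth.Agent.Lib.ThetaGrp19.AV

set_option autoImplicit false
universe u
open CategoryTheory MonoidalCategory CartesianMonoidalCategory MonObj GrpObj AlgebraicGeometry
open ThetaGrp

namespace Groth.Agent.S19946

set_option backward.isDefEq.respectTransparency.types false
open CategoryTheory.Limits CategoryTheory.Pseudofunctor Groth.Agent.ThetaGrp19 Groth.Agent.PicDesc21


/-- Let X be an abelian variety over a field k (a proper, geometrically integral, commutative k-group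
scheme) and L an invertible O_X-module whose subscheme K(L) is all of X: the identity of X has the
universal property of K(L), i.e. for every k-scheme Z and every Z-valued point z of X the Mumford
bundle m^*L ⊗ p_1^*L⁻¹ ⊗ p_2^*L⁻¹ restricted along X ×_k Z → X ×_k X is the inverse image of an
invertible module on Z (equivalently, the class of L lies in Pic⁰_{X/k}). Then the commutator
pairing e_L of the theta group is identically 1: for every k-scheme T, any two points (x₁, φ₁), (x₂,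
φ₂) of G(L)(T) (x_i a T-valued point of X, φ_i : L_T ≅ t_{x_i}^*L_T) commute. -/
theorem result (k : Type u) [Field k]
    (A : Over (Spec (CommRingCat.of k))) [GrpObj A] [IsCommMonObj A] [IsProper A.hom] [GeometricallyIntegral A.hom]
    (L : A.left.Modules) (hL : PicF.IsInvertible L)
    (hK : ThetaGrp.IsKL A L (𝟙 A))
    (T : Over (Spec (CommRingCat.of k))) (β₁ β₂ : ThetaGrp.thetaPts A L T) :
    β₁ * β₂ = β₂ * β₁ := by
  have hA := hzero_of_field A
  let P := A ⊗ A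
  have hlift : ∀ (z : P ⟶ A) (p : P.left), ∃ U : P.left.Opens, p ∈ U ∧
      ∃ β : thetaPts A L (Over.mk (U.ι ≫ P.hom)),
        IsOverPt β ((Over.homMk U.ι rfl : Over.mk (U.ι ≫ P.hom) ⟶ P) ≫ z) :=
    fun z p => exists_pt_of_mumfordTriv hL ((hK.univ P z).2 ⟨z, Category.comp_id z⟩) p
  have hV : ∀ p : P.left, ∃ U : P.left.Opens, p ∈ U ∧ ∃ (a b : thetaPts A L (Over.mk (U.ι ≫ P.hom)))
      (r : Γ((U : Scheme.{u}), ⊤)), IsOverPt a ((Over.homMk U.ι rfl : Over.mk (U.ι ≫ P.hom) ⟶ P) ≫ fst A A) ∧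
        IsOverPt b ((Over.homMk U.ι rfl : Over.mk (U.ι ≫ P.hom) ⟶ P) ≫ snd A A) ∧ IsComm a b r := by
    intro p
    obtain ⟨U₁, hp₁, γ₁, hγ₁⟩ := hlift (fst A A) p
    obtain ⟨U₂, hp₂, γ₂, hγ₂⟩ := hlift (snd A A) p
    let g : Over.mk ((U₁ ⊓ U₂).ι ≫ P.hom) ⟶ P := Over.homMk (U₁ ⊓ U₂).ι rfl
    let a₁ : Over.mk ((U₁ ⊓ U₂).ι ≫ P.hom) ⟶ Over.mk (U₁.ι ≫ P.hom) :=
      Over.homMk (P.left.homOfLE inf_le_left) (by simp)
    let a₂ : Over.mk ((U₁ ⊓ U₂).ι ≫ P.hom) ⟶ Over.mk (U₂.ι ≫ P.hom) :=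
      Over.homMk (P.left.homOfLE inf_le_right) (by simp)
    have e₁ : a₁ ≫ Over.homMk U₁.ι rfl = g := Over.OverMorphism.ext (by simp [a₁, g])
    have e₂ : a₂ ≫ Over.homMk U₂.ι rfl = g := Over.OverMorphism.ext (by simp [a₂, g])
    obtain ⟨δ₁, hδ₁, -⟩ := exists_restrictPt a₁ γ₁ hγ₁
    obtain ⟨δ₂, hδ₂, -⟩ := exists_restrictPt a₂ γ₂ hγ₂
    rw [← Category.assoc, e₁] at hδ₁
    rw [← Category.assoc, e₂] at hδ₂
    obtain ⟨r, hr⟩ := exists_isComm hA hL δ₁ δ₂
    exact ⟨U₁ ⊓ U₂, ⟨hp₁, hp₂⟩, δ₁, δ₂, r, hδ₁, hδ₂, hr⟩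
  choose V hpV a b r ha hb hr using hV
  let inc : ∀ p : P.left, Over.mk ((V p).ι ≫ P.hom) ⟶ P := fun p => Over.homMk (V p).ι rfl
  obtain ⟨s, hs⟩ := exists_glue_fun V hpV r (fun p q => by
    let W := Over.mk ((V p ⊓ V q).ι ≫ P.hom)
    let g₁ : W ⟶ Over.mk ((V p).ι ≫ P.hom) := Over.homMk (P.left.homOfLE inf_le_left) (by simp [W])
    let g₂ : W ⟶ Over.mk ((V q).ι ≫ P.hom) := Over.homMk (P.left.homOfLE inf_le_right) (by simp [W])
    have e : g₁ ≫ inc p = g₂ ≫ inc q := Over.OverMorphism.ext (by simp [g₁, g₂, inc])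
    exact IsComm.eq_of_maps hA hL (hr p) (hr q) (ha p) (hb p) (ha q) (hb q) g₁ g₂
      (by rw [← Category.assoc, e, Category.assoc]) (by rw [← Category.assoc, e, Category.assoc]))
  have key : ∀ (T' : Over (Spec (CommRingCat.of k))) (c d : thetaPts A L T') (x y : T' ⟶ A),
      IsOverPt c x → IsOverPt d y → ∀ t, IsComm c d t → t = (lift x y).left.appTop s := by
    intro T' c d x y hc hd t ht
    refine eq_of_locally (fun z => (lift x y).left ⁻¹ᵁ V ((lift x y).left z)) (fun z => hpV _) _ _ fun z => ?_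
    let p := (lift x y).left z
    let W := (lift x y).left ⁻¹ᵁ V p
    let g₁ : Over.mk (W.ι ≫ T'.hom) ⟶ T' := Over.homMk W.ι rfl
    let g₂ : Over.mk (W.ι ≫ T'.hom) ⟶ Over.mk ((V p).ι ≫ P.hom) :=
      Over.homMk ((lift x y).left ∣_ V p) (by
        show ((lift x y).left ∣_ V p) ≫ (V p).ι ≫ P.hom = W.ι ≫ T'.hom
        rw [morphismRestrict_ι_assoc, Over.w (lift x y)])
    have e : g₂ ≫ inc p = g₁ ≫ lift x y := Over.OverMorphism.ext (morphismRestrict_ι _ _)
    have h1 := IsComm.eq_of_maps hA hL ht (hr p) hc hd (ha p) (hb p) g₁ g₂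
      (by rw [← Category.assoc g₂, e, Category.assoc, lift_fst])
      (by rw [← Category.assoc g₂, e, Category.assoc, lift_snd])
    refine h1.trans ?_
    rw [← hs p]
    show ((inc p).left.appTop ≫ g₂.left.appTop) s = ((lift x y).left.appTop ≫ g₁.left.appTop) s
    rw [← Scheme.Hom.comp_appTop, ← Scheme.Hom.comp_appTop, ← Over.comp_left, ← Over.comp_left, e]
  obtain ⟨s₀, hs₀⟩ := (bijective_snd hA A).2 s
  obtain ⟨c₀, rfl⟩ : ∃ c₀, A.hom.appTop c₀ = s₀ :=
    have := geometricallyConnected_of_integral A.hom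
    (Groth.Agent.AbDual21.bijective_appTop A.hom).2 s₀
  have hconst : ∀ (T' : Over (Spec (CommRingCat.of k))) (z : T' ⟶ P), z.left.appTop s = T'.hom.appTop c₀ := by
    intro T' z
    rw [← hs₀]
    show (A.hom.appTop ≫ (snd A A).left.appTop ≫ z.left.appTop) c₀ = _
    rw [← Scheme.Hom.comp_appTop, ← Scheme.Hom.comp_appTop, Category.assoc, Over.w (snd A A), Over.w z]
  have hc₀ : c₀ = 1 := by
    have h1 := key (𝟙_ _) 1 1 1 1 (by rw [IsOverPt, transl_one]; rfl) (by rw [IsOverPt, transl_one]; rfl) 1 (isComm_one _)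
    rw [hconst] at h1
    have e : (𝟙_ (Over (Spec (CommRingCat.of k)))).hom.appTop c₀ = c₀ := by
      show (𝟙 (Spec (CommRingCat.of k)) : _ ⟶ _).appTop c₀ = c₀
      rw [Scheme.Hom.id_appTop]; rfl
    exact e.symm.trans h1.symm
  obtain ⟨x, hx⟩ := β₁.2
  obtain ⟨y, hy⟩ := β₂.2
  obtain ⟨t, ht⟩ := exists_isComm hA hL β₁ β₂
  refine (mul_comm_iff hA hL ht).2 ?_
  rw [key T β₁ β₂ x y hx hy t ht, hconst, hc₀, map_one]

end Groth.Agent.S19946
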