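import Groth.Statements.S19950
import Groth.Agent.Lib.RRKL13.Quotient

set_option autoImplicit false
universe u
open CategoryTheory MonoidalCategory CartesianMonoidalCategory MonObj GrpObj AlgebraicGeometry
open ThetaGrp

namespace Groth.Agent.S19950

/-- Let k be an algebraically closed field, X an abelian variety over k (a proper, geometrically
integral, commutative k-group scheme) and L a non-degenerate invertible O_X-module: for a closed
immersion i : K → X exhibiting K as K(L) (the maximal closed subscheme of X over which the Mumford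
bundle m^*L ⊗ p_1^*L⁻¹ ⊗ p_2^*L⁻¹, restricted to X ×_k K, is the inverse image of an invertible
module on K, with its universal property) the scheme K is finite over k. Then the theta group G(L)
is non-degenerate, in the form: the multiplicative group is the whole centre of G(L), i.e. the
commutator pairing e_L on K(L) has trivial kernel. Concretely, for a k-scheme T and a T-valued point
y of K such that i(y) is orthogonal to every point of K(L) — after every base change T' → T, every
point of G(L)(T') lying over the translation by i(y) commutes with every point lying over the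
translation by a point of K — the point i(y) is the unit. (The source states the corollary over any
field, as an isomorphism K(L) ≅ K(L)^D; it is given here over an algebraically closed field, where
the argument through a maximal totally isotropic subgroup applies, and in the centre form, which for
finite K(L) the source notes is equivalent.) -/
theorem result (k : Type u) [Field k] [IsAlgClosed k]
    (A : Over (Spec (CommRingCat.of k))) [GrpObj A] [IsCommMonObj A] [IsProper A.hom] [GeometricallyIntegral A.hom]
    (L : A.left.Modules) (hL : PicF.IsInvertible L)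
    (K : Over (Spec (CommRingCat.of k))) (iK : K ⟶ A) (hK : ThetaGrp.IsKL A L iK) [IsFinite K.hom]
    (T : Over (Spec (CommRingCat.of k))) (y : T ⟶ K)
    (hy : ThetaGrp.IsPerpPt L iK (y ≫ iK)) :
    y ≫ iK = 1 := by
  haveI : IsAffine K.left := isAffine_of_isAffineHom K.hom
  obtain ⟨Z, gZ, z, hz, hzm, hkey⟩ := Groth.Agent.ThetaPerp13.exists_perp hL hK (𝟙 K)
  haveI := hz; haveI := hzm
  rw [Category.id_comp] at hkey
  obtain ⟨w, hw⟩ := (hkey T y).2 hy
  haveI : IsClosedImmersion iK.left := hK.closed
  haveI : IsClosedImmersion (z ≫ iK).left := by rw [Over.comp_left]; infer_instance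
  have hiso : ThetaGrp.IsIsotropic L (z ≫ iK) := fun T x x' β₁ β₂ h₁ h₂ =>
    (hkey _ (x ≫ z)).1 ⟨x, rfl⟩ T (𝟙 T) (x' ≫ z) β₁ β₂ (by rw [Category.id_comp, Category.assoc]; exact h₁)
      (by rw [Category.assoc]; exact h₂)
  obtain ⟨B, gB, f, KM, iM, M, d, hBp, hBg, hfm, hffin, hfflat, hfs, hD⟩ :=
    Groth.Agent.RRKL13.exists_descended hL hK (z ≫ iK) ⟨z, rfl⟩ hiso
  haveI := hBp; haveI := hBg; haveI := hfm; haveI := hffin; haveI := hfflat; haveI := hfs
  haveI := hD.fin
  -- every point of `K(L)` is orthogonal to the centre
  have hall : ∀ (T : Over (Spec (CommRingCat.of k))) (a : T ⟶ K), ThetaGrp.IsPerpPt L (z ≫ iK) (a ≫ iK) :=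
    fun T a T' φ x β₁ β₂ h₁ h₂ => ((hkey _ (x ≫ z)).1 ⟨x, rfl⟩ T' (𝟙 T') (φ ≫ a) β₂ β₁
      (by rw [Category.id_comp, Category.assoc]; exact h₂) (by rw [Category.assoc]; exact h₁)).symm
  obtain ⟨h, hh⟩ := (hD.factors K iK).2 ⟨⟨𝟙 K, Category.id_comp _⟩, by simpa only [Category.id_comp] using hall K (𝟙 K)⟩
  haveI : IsClosedImmersion iM.left := hD.kl.closed
  have hpb : CategoryTheory.IsPullback iK h f iM := by
    refine ⟨⟨hh.symm⟩, ⟨Limits.PullbackCone.IsLimit.mk _
      (fun s => (((hD.factors s.pt s.fst).1 ⟨s.snd, s.condition.symm⟩).1).choose) ?_ ?_ ?_⟩⟩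
    · exact fun s => (((hD.factors s.pt s.fst).1 ⟨s.snd, s.condition.symm⟩).1).choose_spec
    · intro s
      haveI : Mono ((Over.forget (Spec (CommRingCat.of k))).map iM) := inferInstanceAs (Mono iM.left)
      haveI : Mono iM := (Over.forget (Spec (CommRingCat.of k))).mono_of_mono_map ‹_›
      rw [← cancel_mono iM, Category.assoc, hh, ← Category.assoc,
        (((hD.factors s.pt s.fst).1 ⟨s.snd, s.condition.symm⟩).1).choose_spec, s.condition]
    · intro s m hm _
      haveI : Mono ((Over.forget (Spec (CommRingCat.of k))).map iK) := inferInstanceAs (Mono iK.left)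
      haveI : Mono iK := (Over.forget (Spec (CommRingCat.of k))).mono_of_mono_map ‹_›
      rw [← cancel_mono iK, (((hD.factors s.pt s.fst).1 ⟨s.snd, s.condition.symm⟩).1).choose_spec]
      exact hm
  have hpb' : CategoryTheory.IsPullback iK.left h.left f.left iM.left := CategoryTheory.IsPullback.map (Over.forget _) hpb
  haveI : IsFinite h.left := MorphismProperty.of_isPullback hpb' inferInstance
  haveI : Flat h.left := MorphismProperty.of_isPullback hpb' inferInstance
  have hd : ∀ p : KM.left, Scheme.Hom.finrank h.left p = d := fun p => by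
    rw [Scheme.Hom.finrank_of_isPullback _ _ _ _ hpb' p, hD.deg]
  let s : ↥(Spec (CommRingCat.of k)) := IsLocalRing.closedPoint k
  have h1 : Scheme.Hom.finrank K.hom s = d * Scheme.Hom.finrank KM.hom s :=
    (Groth.Agent.RRKL13.finrank_eq_of_eq (Over.w h).symm s).trans
      (Groth.Agent.RRKL13.finrank_comp h.left KM.hom d hd s)
  have h2 := hD.rank_eq s
  have h3 := hD.rank_pos s
  have h4 : 1 ≤ d := by
    rw [← hD.deg (f.left (η[A].left s))]
    exact Scheme.Hom.one_le_finrank_map f.left _
  have hd1 : d = 1 := by
    have h5 : d ^ 2 * Scheme.Hom.finrank KM.hom s = d * Scheme.Hom.finrank KM.hom s := h2.symm.trans h1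
    have h6 : d ^ 2 = d * 1 := by
      rw [Nat.mul_one]
      exact Nat.eq_of_mul_eq_mul_right h3 h5
    rw [sq] at h6
    exact Nat.eq_of_mul_eq_mul_left h4 h6
  haveI : IsClosedImmersion (z.left ≫ iK.left) := by rw [← Over.comp_left]; infer_instance
  haveI : IsFinite Z.hom := by rw [← Over.w z]; infer_instance
  haveI : IsIso Z.hom := (Scheme.Hom.isIso_iff_finrank_eq Z.hom).2 (funext fun t => (hD.rank_ker t).trans hd1)
  have hZ : ∀ a : T ⟶ Z, a = 1 := fun a => Over.OverMorphism.ext ((cancel_mono Z.hom).1 (by rw [Over.w, Over.w]))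
  rw [← hw, hZ w, Category.assoc, MonObj.one_comp]

end Groth.Agent.S19950
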