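import Groth.Statements.S19952
import Groth.Agent.Lib.ThetaSch13.Level
import Groth.Agent.Lib.ThetaSch13.Quot
import Groth.Agent.S3030
import Groth.Agent.S19947

set_option autoImplicit false
universe u
open CategoryTheory MonoidalCategory CartesianMonoidalCategory MonObj GrpObj AlgebraicGeometry
open ThetaGrp

namespace Groth.Agent.S19952

/-- Let X be an abelian variety over a field k (a proper, geometrically integral, commutative k-group
scheme), L an invertible O_X-module, and G a k-group scheme with a point u ∈ G(L)(G) representing
the theta group of L (every point of G(L)(T) is the base change of u along a unique T → G,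
multiplicatively). Let j : H → G be a level subgroup — H a k-group scheme, j a homomorphism of group
schemes and an immersion, such that a point of H whose image lies over the identity translation is
trivial — and let i_H : H → X be the morphism it lies over: for every k-scheme T and T-valued point
h of H the base change of u along j(h) lies over the translation by i_H(h). Then there are an
abelian variety Y over k (proper, geometrically integral k-group scheme), a surjective homomorphism
f : X → Y whose kernel is i_H (i_H and f form a cartesian square with the unit section of Y), and an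
invertible O_Y-module M with f^*M ≅ L. (The source states a bijection between level subgroups and
isomorphism classes of such pairs (f, M); this row is the existence of a pair for a given level
subgroup.) -/
theorem result (k : Type u) [Field k]
    (A : Over (Spec (CommRingCat.of k))) [GrpObj A] [IsCommMonObj A] [IsProper A.hom] [GeometricallyIntegral A.hom]
    (L : A.left.Modules) (hL : PicF.IsInvertible L)
    (G : Over (Spec (CommRingCat.of k))) [GrpObj G] (u : ThetaGrp.thetaPts A L G)
    (hG : ThetaGrp.IsThetaGrpSch A L G u)
    (H : Over (Spec (CommRingCat.of k))) [GrpObj H] (j : H ⟶ G) (hj : ThetaGrp.IsLevelSubgrp u j)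
    (iH : H ⟶ A)
    (hover : ∀ (T : Over (Spec (CommRingCat.of k))) (h : T ⟶ H) (β : ThetaGrp.thetaPts A L T),
      ThetaGrp.IsBaseChange β (h ≫ j) u → ThetaGrp.IsOverPt β (h ≫ iH)) :
    ∃ (B : Over (Spec (CommRingCat.of k))) (_ : GrpObj B) (f : A ⟶ B),
      IsProper B.hom ∧ GeometricallyIntegral B.hom ∧ IsMonHom f ∧ Surjective f.left ∧
      AlgGrp.IsKernel iH f ∧
      ∃ M : B.left.Modules, PicF.IsInvertible M ∧ Nonempty ((Scheme.Modules.pullback f.left).obj M ≅ L) := by
  obtain ⟨hlft, hnoe⟩ := ThetaSch13.finiteType_of_isLevelSubgrp hL hG hj
  haveI := hlft
  haveI := hnoe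
  haveI := ThetaSch13.isMonHom_iH hG hj hover
  haveI := ThetaSch13.mono_iH hG hj hover
  haveI : QuasiCompact iH.left := quasiCompact_of_noetherianSpace_source _
  haveI : IsMonHom j := hj.2.1
  have hN : AlgGrp.IsNormalHom iH := fun T g n => ⟨n, by rw [mul_comm g, _root_.mul_assoc, mul_inv_cancel, _root_.mul_one]⟩
  obtain ⟨B, iB, f, hf, hflat, hsurj, hlfp, hker, hsep, -, -⟩ := S3030.result k H A iH hN
  haveI := hf; haveI := hflat; haveI := hsurj; haveI := hlfp; haveI := hsep
  haveI : IsProper (f.left ≫ B.hom) := by rw [Over.w f]; infer_instance
  haveI : GeometricallyIntegral (f.left ≫ B.hom) := by rw [Over.w f]; infer_instance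
  haveI : IsProper B.hom := ThetaSch13.isProper_of_fppf f.left B.hom
  haveI : GeometricallyIntegral B.hom := ThetaSch13.geometricallyIntegral_of_flat_surjective f.left B.hom
  haveI : IsCommMonObj B := isCommMonObj_of_isProper_of_geometricallyIntegral B
  exact ⟨B, iB, f, inferInstance, inferInstance, hf, hsurj, hker,
    (S19947.result k A B f hsurj H iH hker L hL G u hG).2 ⟨j, hj.2.1, hover⟩⟩

end Groth.Agent.S19952
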