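import Groth.Statements.S19955
import Groth.Agent.Lib.ThetaGrp19.AV
import Groth.Agent.Lib.AbDual21.PicZero

set_option autoImplicit false
universe u
open CategoryTheory MonoidalCategory CartesianMonoidalCategory MonObj GrpObj AlgebraicGeometry
open ThetaGrp

namespace Groth.Agent.S19955

set_option backward.isDefEq.respectTransparency.types false
open CategoryTheory.Limits CategoryTheory.Pseudofunctor Groth.Agent.ThetaGrp19 Groth.Agent.PicDesc21

variable {S : Scheme.{u}}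

theorem mulCl_left_cancel {Y : Scheme.{u}} {c a b : PicF.Cl Y} (hc : PicF.IsInvertibleCl c)
    (h : PicGrp.mulCl a c = PicGrp.mulCl b c) : a = b := by
  obtain ⟨d, hd⟩ := Groth.Agent.M2.exists_invCl ⟨c, hc⟩
  have h' := congrArg (fun q => PicGrp.mulCl q d.1) h
  simp only [Groth.Agent.M2.mulCl_assoc, Groth.Agent.M2.mulCl_comm c d.1, hd, mulCl_one] at h'
  exact h'

instance : Std.Associative (@PicGrp.mulCl S) := ⟨fun a b c => Groth.Agent.M2.mulCl_assoc a b c⟩
instance : Std.Commutative (@PicGrp.mulCl S) := ⟨fun a b => Groth.Agent.M2.mulCl_comm a b⟩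

variable {A : Over S} [GrpObj A] [IsCommMonObj A]

theorem comp_lift_iK {K T : Over S} (y : T ⟶ K) (iK : K ⟶ A) :
    y ≫ lift iK (1 : K ⟶ A) = lift (y ≫ iK) (1 : T ⟶ A) := by
  rw [comp_lift, MonObj.comp_one]

omit [IsCommMonObj A] in
theorem mul_fst {T : Over S} (a b : T ⟶ A ⊗ A) : (a * b) ≫ fst A A = (a ≫ fst A A) * (b ≫ fst A A) :=
  MonObj.mul_comp a b (fst A A)

omit [IsCommMonObj A] in
theorem mul_snd {T : Over S} (a b : T ⟶ A ⊗ A) : (a * b) ≫ snd A A = (a ≫ snd A A) * (b ≫ snd A A) :=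
  MonObj.mul_comp a b (snd A A)

theorem transl_coords {T : Over S} (x : T ⟶ A) :
    transl (A ⊗ A) (lift x (1 : T ⟶ A)) ≫ fst (A ⊗ A) T ≫ fst A A =
        (fst (A ⊗ A) T ≫ fst A A) * (snd (A ⊗ A) T ≫ x) ∧
      transl (A ⊗ A) (lift x (1 : T ⟶ A)) ≫ fst (A ⊗ A) T ≫ snd A A = fst (A ⊗ A) T ≫ snd A A ∧
      transl (A ⊗ A) (lift x (1 : T ⟶ A)) ≫ fst (A ⊗ A) T ≫ μ[A] =
        (fst (A ⊗ A) T ≫ μ[A]) * (snd (A ⊗ A) T ≫ x) := by
  have hμ : (μ[A] : A ⊗ A ⟶ A) = fst A A * snd A A := by rw [Hom.mul_def, lift_fst_snd, Category.id_comp]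
  have h1 : transl (A ⊗ A) (lift x (1 : T ⟶ A)) ≫ fst (A ⊗ A) T ≫ fst A A =
      (fst (A ⊗ A) T ≫ fst A A) * (snd (A ⊗ A) T ≫ x) := by
    rw [← Category.assoc, transl_fst, mul_fst, Category.assoc, lift_fst]
  have h2 : transl (A ⊗ A) (lift x (1 : T ⟶ A)) ≫ fst (A ⊗ A) T ≫ snd A A = fst (A ⊗ A) T ≫ snd A A := by
    rw [← Category.assoc, transl_fst, mul_snd, Category.assoc, lift_snd, MonObj.comp_one, _root_.mul_one]
  refine ⟨h1, h2, ?_⟩
  rw [hμ, comp_mul, comp_mul, h1, h2, mul_right_comm]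

/-- Translation by `(x, 0)` fixes the class of the Mumford bundle when `x` is in `K(L)`. -/
theorem cl_transl_eq (L : A.left.Modules) (hL : PicF.IsInvertible L) (Λ : (A ⊗ A).left.Modules)
    (hΛ : AgPol.IsLambdaSheaf μ[A].left (fst A A).left (snd A A).left L Λ)
    {T : Over S} {x : T ⟶ A} (hx : IsMumfordTriv A L x) :
    PicF.pullCl (fst (A ⊗ A) T).left (PicF.cl Λ) =
      PicF.pullCl (transl (A ⊗ A) (lift x (1 : T ⟶ A)) ≫ fst (A ⊗ A) T).left (PicF.cl Λ) := by
  obtain ⟨M, hM, ⟨e⟩⟩ := hx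
  obtain ⟨e'⟩ := hΛ
  have hcl := Groth.Agent.M2.cl_eq_of_iso e'
  have hx' := Groth.Agent.M2.cl_eq_of_iso e
  simp only [← PicGrp.mulCl_cl, ← PicLoc.pullCl_cl] at hcl hx'
  rw [whiskerLeft_mul] at hx'
  let ζ := PicF.pullCl (snd (A ⊗ A) T).left (PicF.cl M)
  let ξ := PicF.pullCl (snd (A ⊗ A) T ≫ x).left (PicF.cl L)
  have key : ∀ h : (A ⊗ A) ⊗ T ⟶ A, PicF.pullCl (h * (snd (A ⊗ A) T ≫ x)).left (PicF.cl L) =
      PicGrp.mulCl (PicGrp.mulCl ζ (PicF.pullCl h.left (PicF.cl L))) ξ := by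
    intro h
    have h0 := congrArg (PicF.pullCl (lift h (snd (A ⊗ A) T)).left) hx'
    rw [pullCl_mulCl, pullCl_mulCl, pullCl_pullCl, pullCl_pullCl, pullCl_pullCl, pullCl_pullCl,
      ← Over.comp_left, ← Over.comp_left, ← Over.comp_left, ← Over.comp_left, lift_snd, lift_fst,
      lift_snd_assoc, transl_fst, comp_mul, lift_fst, lift_snd_assoc] at h0
    exact h0.symm
  obtain ⟨h1, h2, h3⟩ := transl_coords x
  let w := transl (A ⊗ A) (lift x (1 : T ⟶ A)) ≫ fst (A ⊗ A) T
  have h0 := congrArg (PicF.pullCl (fst (A ⊗ A) T).left) hcl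
  have ht := congrArg (PicF.pullCl w.left) hcl
  simp only [pullCl_mulCl, pullCl_pullCl, ← Over.comp_left] at h0 ht
  rw [show w ≫ fst A A = _ from (Category.assoc _ _ _).trans h1,
    show w ≫ snd A A = _ from (Category.assoc _ _ _).trans h2,
    show w ≫ μ[A] = _ from (Category.assoc _ _ _).trans h3, key, key, ← h0] at ht
  have hl : PicF.IsInvertibleCl (PicF.cl L) := ⟨L, rfl, hL⟩
  refine (mulCl_left_cancel (c := PicGrp.mulCl (PicGrp.mulCl (PicGrp.mulCl ζ
      (PicF.pullCl (fst (A ⊗ A) T ≫ fst A A).left (PicF.cl L))) ξ)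
      (PicF.pullCl (fst (A ⊗ A) T ≫ snd A A).left (PicF.cl L))) ?_ ?_).symm
  · exact Groth.Agent.M2.isInvertibleCl_mulCl (Groth.Agent.M2.isInvertibleCl_mulCl
      (Groth.Agent.M2.isInvertibleCl_mulCl (isInvertibleCl_pull _ ⟨M, rfl, hM⟩) (isInvertibleCl_pull _ hl))
      (isInvertibleCl_pull _ hl)) (isInvertibleCl_pull _ hl)
  · rw [← Groth.Agent.M2.mulCl_assoc, ht]
    ac_rfl

/-- The restriction of the Mumford bundle to `A × 0` is trivial. -/
theorem pullCl_Λ_zero {k : Type u} [Field k] {A : Over (Spec (CommRingCat.of k))} [GrpObj A]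
    (L : A.left.Modules) (hL : PicF.IsInvertible L) (Λ : (A ⊗ A).left.Modules)
    (hΛ : AgPol.IsLambdaSheaf μ[A].left (fst A A).left (snd A A).left L Λ) :
    Nonempty ((Scheme.Modules.pullback A.hom).obj (Coh.structureModule (Spec (CommRingCat.of k))) ≅
      (Scheme.Modules.pullback (lift (𝟙 A) (1 : A ⟶ A)).left).obj Λ) := by
  obtain ⟨e'⟩ := hΛ
  have hcl := Groth.Agent.M2.cl_eq_of_iso e'
  simp only [← PicGrp.mulCl_cl, ← PicLoc.pullCl_cl] at hcl
  have hl : PicF.IsInvertibleCl (PicF.cl L) := ⟨L, rfl, hL⟩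
  have h0 := congrArg (PicF.pullCl (lift (𝟙 A) (1 : A ⟶ A)).left) hcl
  have hμ : lift (𝟙 A) (1 : A ⟶ A) ≫ μ[A] = 𝟙 A := by
    rw [← Hom.mul_def, _root_.mul_one]
  have h1 : PicF.IsTrivialCl (PicF.pullCl (1 : A ⟶ A).left (PicF.cl L)) := by
    rw [Hom.one_def, Over.comp_left, ← pullCl_pullCl]
    exact pullCl_trivial _ (Groth.Agent.AbDual21.isTrivialCl_spec_field (Ω := k) (isInvertibleCl_pull _ hl))
  simp only [pullCl_mulCl, pullCl_pullCl, ← Over.comp_left] at h0
  rw [lift_fst, lift_snd, hμ, show PicF.pullCl (1 : A ⟶ A).left (PicF.cl L) = _ from h1, mulCl_one] at h0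
  have h2 : PicF.pullCl (lift (𝟙 A) (1 : A ⟶ A)).left (PicF.cl Λ) = PicF.cl (Coh.structureModule A.left) :=
    mulCl_left_cancel (isInvertibleCl_pull _ hl) (h0.trans (Groth.Agent.M2.one_mulCl _).symm)
  refine (PicGrp.cl_eq_cl_iff _ _).1 ?_
  rw [← PicLoc.pullCl_cl, ← PicLoc.pullCl_cl, pullCl_structure, h2]

omit [GrpObj A] [IsCommMonObj A] in
theorem hzero_tensor {A : Over S} (hA : HZero A) : HZero (A ⊗ A) := by
  intro T τ
  let q := pullback.fst A.hom τ
  have H := ((IsPullback.of_hasPullback (pullback.fst A.hom A.hom) q).flip.paste_vert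
    (IsPullback.of_hasPullback A.hom A.hom)).flip
  show Function.Bijective (pullback.snd (pullback.fst A.hom A.hom ≫ A.hom) τ).appTop
  have h2 : Function.Bijective (pullback.snd (pullback.fst A.hom A.hom) q).appTop := by
    have h' := hA (pullback A.hom τ) (q ≫ A.hom)
    have e : pullback.snd (pullback.fst A.hom A.hom) q = H.isoPullback.hom ≫ pullback.snd A.hom (q ≫ A.hom) :=
      (H.isoPullback_hom_snd).symm
    rw [e, Scheme.Hom.comp_appTop]
    exact ((ConcreteCategory.isIso_iff_bijective H.isoPullback.hom.appTop).1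
      (inferInstanceAs (IsIso (Scheme.Γ.map (H.isoPullback.hom).op)))).comp h'
  have H2 : IsPullback (pullback.fst (pullback.fst A.hom A.hom) q)
      (pullback.snd (pullback.fst A.hom A.hom) q ≫ pullback.snd A.hom τ) (pullback.fst A.hom A.hom ≫ A.hom) τ :=
    ((IsPullback.of_hasPullback (pullback.fst A.hom A.hom) q).flip.paste_horiz
      (IsPullback.of_hasPullback A.hom τ).flip).flip
  have e : pullback.snd (pullback.fst A.hom A.hom ≫ A.hom) τ =
      H2.isoPullback.inv ≫ pullback.snd (pullback.fst A.hom A.hom) q ≫ pullback.snd A.hom τ := by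
    rw [IsPullback.isoPullback_inv_snd]
  rw [e, Scheme.Hom.comp_appTop, Scheme.Hom.comp_appTop]
  exact ((ConcreteCategory.isIso_iff_bijective H2.isoPullback.inv.appTop).1
      (inferInstanceAs (IsIso (Scheme.Γ.map (H2.isoPullback.inv).op)))).comp
    (h2.comp (hA T τ))

omit [IsCommMonObj A] in
theorem bcLift_mapObj' {B : Over S} [GrpObj B] (f : A ⟶ B) [IsMonHom f] {M : B.left.Modules} {T T' : Over S}
    (g : T ⟶ T') :
    bcLift A ((Scheme.Modules.pullback f.left).obj M) g ≫ mapObj f M T' = mapObj f M T ≫ bcLift B M g := by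
  refine hom_ext_of_cart (isCart_proj B M T') ?_ ?_
  · show (A ◁ g).left ≫ (mapObj f M T').base = (mapObj f M T).base ≫ (B ◁ g).left
    rw [mapObj_base, mapObj_base, ← Over.comp_left, ← Over.comp_left, whisker_exchange]
  · rw [Category.assoc, Category.assoc, mapObj_proj, bcLift_proj, mapObj_proj, ← Category.assoc, bcLift_proj]


/-- Let A be an abelian variety over a field k (a proper, geometrically integral, commutative k-group
scheme), L an invertible O_A-module, and Λ an invertible module on A ×_k A which is the Mumford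
bundle of L, stated without inverses: Λ ⊗ p_1^*L ⊗ p_2^*L ≅ m^*L for the group law m and the
projections p_1, p_2. Let i : K → A be a closed subgroup scheme exhibiting K as K(L) (the maximal
closed subscheme of A over which Λ, restricted to A ×_k K, is the inverse image of an invertible
module on K, with its universal property), and let G be a k-group scheme with a point u ∈ G(Λ)(G)
representing the theta group of Λ on the k-group scheme A ×_k A (every point of G(Λ)(T) — a T-valued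
point z of A × A with an isomorphism Λ_T ≅ t_z^*Λ_T — is the base change of u along a unique T → G,
multiplicatively). Then the action of K × {e} on A × A by translations lifts to Λ compatibly with
the group law of K: there is a homomorphism of group schemes j : K → G such that for every k-scheme
T and every T-valued point y of K, the base change of u along j(y) lies over the translation by the
point (i(y), e) of A × A. (In the source L is a fixed ample invertible module and the equivariant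
structure is moreover shown to be unique once an isomorphism of the fibre of L at e with k is fixed;
the argument for existence uses only that L is invertible, and the uniqueness is not part of this
statement.) -/
theorem result (k : Type u) [Field k]
    (A : Over (Spec (CommRingCat.of k))) [GrpObj A] [IsCommMonObj A] [IsProper A.hom] [GeometricallyIntegral A.hom]
    (L : A.left.Modules) (hL : PicF.IsInvertible L)
    (Λ : (A ⊗ A).left.Modules) (hΛi : PicF.IsInvertible Λ)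
    (hΛ : AgPol.IsLambdaSheaf μ[A].left (fst A A).left (snd A A).left L Λ)
    (K : Over (Spec (CommRingCat.of k))) [GrpObj K] (iK : K ⟶ A) [IsMonHom iK] (hK : ThetaGrp.IsKL A L iK)
    (G : Over (Spec (CommRingCat.of k))) [GrpObj G] (u : ThetaGrp.thetaPts (A ⊗ A) Λ G)
    (hG : ThetaGrp.IsThetaGrpSch (A ⊗ A) Λ G u) :
    ∃ j : K ⟶ G, IsMonHom j ∧
      ∀ (T : Over (Spec (CommRingCat.of k))) (y : T ⟶ K) (β : ThetaGrp.thetaPts (A ⊗ A) Λ T),
        ThetaGrp.IsBaseChange β (y ≫ j) u → ThetaGrp.IsOverPt β (y ≫ lift iK (1 : K ⟶ A)) := by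
  have hA := hzero_of_field A
  obtain ⟨e⟩ := pullCl_Λ_zero L hL Λ hΛ
  let φ : A ⟶ A ⊗ A := lift (𝟙 A) 1
  have hφ : IsMonHom φ := by
    have hmul : ∀ {T : Over (Spec (CommRingCat.of k))} (a b : T ⟶ A), (a * b) ≫ φ = (a ≫ φ) * (b ≫ φ) := by
      intro T a b
      apply CartesianMonoidalCategory.hom_ext
      · rw [mul_fst]; simp [φ]
      · rw [mul_snd]; simp [φ]
    refine { one_hom := ?_, mul_hom := ?_ }
    · have h : (1 : 𝟙_ (Over (Spec (CommRingCat.of k))) ⟶ A) ≫ φ = 1 :=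
        left_eq_mul.mp (show (1 : 𝟙_ (Over (Spec (CommRingCat.of k))) ⟶ A) ≫ φ = (1 : 𝟙_ (Over (Spec (CommRingCat.of k))) ⟶ A) ≫ φ * (1 : 𝟙_ (Over (Spec (CommRingCat.of k))) ⟶ A) ≫ φ by rw [← hmul, _root_.one_mul])
      simpa [Hom.one_def] using h
    · have h := hmul (fst A A) (snd A A)
      simp only [Hom.mul_def, lift_fst_snd, Category.id_comp] at h
      rw [h]
      congr 1
  let L₀ := (Scheme.Modules.pullback φ.left).obj Λ
  have hL₀ : PicF.IsInvertible L₀ := PicLoc.isInvertible_pullback _ hΛi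
  let O : CoGrothendieck (modPF.{u}) := ⟨Spec (CommRingCat.of k), Coh.structureModule _⟩
  let l : (⟨A.left, L₀⟩ : CoGrothendieck (modPF.{u})) ⟶ O := ⟨A.hom, e.inv⟩
  let D : ∀ T : Over (Spec (CommRingCat.of k)), thetaObj A L₀ T ⟶ O := fun T => proj A L₀ T ≫ l
  have hDc : ∀ T, IsCart (D T) := fun T => (isCart_proj A L₀ T).comp (inferInstanceAs (IsIso e.inv))
  have hDb : ∀ (T : Over (Spec (CommRingCat.of k))) (x : T ⟶ A), (transl A x).left ≫ (D T).base = (D T).base := by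
    intro T x
    show (transl A x).left ≫ (fst A T).left ≫ A.hom = (fst A T).left ≫ A.hom
    rw [Over.w (fst A T), Over.w (transl A x)]
  let Nrm : ∀ {T : Over (Spec (CommRingCat.of k))}, (T ⟶ A) → thetaPts (A ⊗ A) Λ T → Prop := fun {T} x β =>
    IsOverPt β (x ≫ φ) ∧ ∃ α : thetaPts A L₀ T, IsOverPt α x ∧ α.1.hom ≫ D T = D T ∧
      α.1.hom ≫ mapObj φ Λ T = mapObj φ Λ T ≫ β.1.hom
  have hxφ : ∀ {T : Over (Spec (CommRingCat.of k))} (x : T ⟶ A), x ≫ φ = lift x (1 : T ⟶ A) := by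
    intro T x
    simp only [φ, comp_lift, Category.comp_id, MonObj.comp_one]
  have hP : HZero (A ⊗ A) := hzero_tensor hA
  have nrm_unique : ∀ {T : Over (Spec (CommRingCat.of k))} (x : T ⟶ A) (β β' : thetaPts (A ⊗ A) Λ T),
      Nrm x β → Nrm x β' → β = β' := by
    intro T x β β' h h'
    obtain ⟨hb, α, ha, hd, hm⟩ := h
    obtain ⟨hb', α', ha', hd', hm'⟩ := h'
    obtain ⟨r, hr⟩ := exists_scalar_of_isOverPt hP hΛi hb hb'
    have hα : α'.1.hom = α.1.hom := hom_ext_of_cart (hDc T) (ha'.trans ha.symm) (hd'.trans hd.symm)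
    rw [hα, hr, ← Category.assoc, comp_scalar hΛi (mapObj φ Λ T) (𝟙 T) (mapObj_base_snd φ Λ T),
      Category.assoc, ← hm, show (𝟙 T : T ⟶ T).left.appTop r = r by simp] at hm'
    have hs : scalar A L₀ T r ≫ α.1.hom = α.1.hom :=
      hom_ext_of_cart (isCart_mapObj φ Λ T) (Category.id_comp _) ((Category.assoc _ _ _).trans hm'.symm)
    obtain rfl : r = 1 := scalar_injective hA hL₀ (by
      rw [scalar_one, ← cancel_mono α.1.hom, Category.id_comp, hs])
    rw [scalar_one, Category.id_comp] at hr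
    exact Subtype.ext (Iso.ext hr.symm)
  have nrm_exists : ∀ {T : Over (Spec (CommRingCat.of k))} (x : T ⟶ A), IsMumfordTriv A L x →
      ∃ β : thetaPts (A ⊗ A) Λ T, Nrm x β := by
    intro T x hx
    obtain ⟨β₀, hβ₀⟩ : ∃ β₀ : thetaPts (A ⊗ A) Λ T, IsOverPt β₀ (x ≫ φ) := by
      refine exists_pt_of_pullCl _ ?_
      rw [hxφ]
      exact cl_transl_eq L hL Λ hΛ hx
    obtain ⟨p, ⟨hpb, hpd⟩, -⟩ := existsUnique_lift (hDc T) (D T) (transl A x).left (hDb T x)
    obtain ⟨α, hα, hαp⟩ := exists_pt A L₀ x p hpb (IsCart.of_comp (by rw [hpd]; exact hDc T) (hDc T))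
    obtain ⟨α', hα', hα'm⟩ := exists_mapPt φ Λ x β₀ hβ₀
    obtain ⟨r, hr⟩ := exists_scalar_of_isOverPt hA hL₀ hα' hα
    obtain ⟨r', hr'⟩ := exists_scalar_of_isOverPt hA hL₀ hα hα'
    have h1 : r * r' = 1 := scalar_injective hA hL₀ (by
      rw [scalar_one, ← scalar_mul, ← cancel_mono α.1.hom, Category.id_comp, Category.assoc, ← hr', ← hr])
    let s : thetaObj (A ⊗ A) Λ T ≅ thetaObj (A ⊗ A) Λ T :=
      { hom := scalar (A ⊗ A) Λ T r
        inv := scalar (A ⊗ A) Λ T r'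
        hom_inv_id := by rw [scalar_mul, h1, scalar_one]
        inv_hom_id := by rw [scalar_mul, mul_comm, h1, scalar_one] }
    let β : thetaPts (A ⊗ A) Λ T := ⟨s ≪≫ β₀.1, x ≫ φ, (Category.id_comp _).trans hβ₀⟩
    refine ⟨β, (Category.id_comp _).trans hβ₀, α, hα, by rw [hαp, hpd], ?_⟩
    show α.1.hom ≫ _ = _ ≫ scalar (A ⊗ A) Λ T r ≫ β₀.1.hom
    rw [← Category.assoc (mapObj φ Λ T), comp_scalar hΛi (mapObj φ Λ T) (𝟙 T) (mapObj_base_snd φ Λ T),
      Category.assoc, ← hα'm, show (𝟙 T : T ⟶ T).left.appTop r = r by simp, hr, Category.assoc]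
  obtain ⟨βK, hβK⟩ := nrm_exists iK ((hK.univ K iK).2 ⟨𝟙 K, Category.id_comp iK⟩)
  obtain ⟨j, hj, -⟩ := hG.univ K βK
  have hbc : ∀ (T : Over (Spec (CommRingCat.of k))) (y : T ⟶ K),
      ∃ β : thetaPts (A ⊗ A) Λ T, IsBaseChange β (y ≫ j) u ∧ Nrm (y ≫ iK) β := by
    intro T y
    obtain ⟨hb, α, ha, hd, hm⟩ := hβK
    obtain ⟨β, h1, h2⟩ := exists_restrictPt y βK hb
    obtain ⟨α', h1', h2'⟩ := exists_restrictPt y α ha
    refine ⟨β, ?_, ?_, α', h1', ?_, ?_⟩
    · show _ ≫ bcLift (A ⊗ A) Λ (y ≫ j) = bcLift (A ⊗ A) Λ (y ≫ j) ≫ _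
      rw [← bcLift_comp, reassoc_of% h2, hj, Category.assoc]
    · rwa [Category.assoc]
    · have e : bcLift A L₀ y ≫ D K = D T := by simp only [D, ← Category.assoc, bcLift_proj]
      rw [← e, reassoc_of% h2', hd]
    · refine hom_ext_of_cart (isCart_bcLift (A ⊗ A) Λ y) ?_ ?_
      · show α'.1.hom.base ≫ (mapObj φ Λ T).base = (mapObj φ Λ T).base ≫ β.1.hom.base
        rw [h1', transl_mapObj_base, h1, Category.assoc]
      · rw [Category.assoc, ← bcLift_mapObj', reassoc_of% h2', hm, ← Category.assoc, bcLift_mapObj',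
          Category.assoc, Category.assoc, h2]
  have hmul : ∀ {T : Over (Spec (CommRingCat.of k))} (y z : T ⟶ K), (y * z) ≫ j = (y ≫ j) * (z ≫ j) := by
    intro T y z
    obtain ⟨b₁, hb₁, hn₁, α₁, ha₁, hd₁, hm₁⟩ := hbc T y
    obtain ⟨b₂, hb₂, hn₂, α₂, ha₂, hd₂, hm₂⟩ := hbc T z
    obtain ⟨b₃, hb₃, h₃⟩ := hbc T (y * z)
    have e : b₃ = b₁ * b₂ := by
      refine nrm_unique _ _ _ h₃ ⟨?_, α₁ * α₂, ?_, ?_, ?_⟩
      · show (b₂.1.hom ≫ b₁.1.hom).base = _
        rw [CoGrothendieck.categoryStruct_comp_base, hn₁, hn₂, ← Over.comp_left, ← transl_mul, ← MonObj.mul_comp,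
          mul_comm (z ≫ iK), ← MonObj.mul_comp]
      · show (α₂.1.hom ≫ α₁.1.hom).base = _
        rw [CoGrothendieck.categoryStruct_comp_base, ha₁, ha₂, ← Over.comp_left, ← transl_mul, mul_comm (z ≫ iK),
          ← MonObj.mul_comp]
      · show (α₂.1.hom ≫ α₁.1.hom) ≫ _ = _
        rw [Category.assoc, hd₁, hd₂]
      · show (α₂.1.hom ≫ α₁.1.hom) ≫ _ = _ ≫ b₂.1.hom ≫ b₁.1.hom
        rw [Category.assoc, hm₁, reassoc_of% hm₂]
    rw [e] at hb₃
    exact (hG.univ T _).unique hb₃ (hG.mul T _ _ _ _ hb₁ hb₂)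
  have hmon : IsMonHom j :=
    { one_hom := by
        have h : (1 : 𝟙_ (Over (Spec (CommRingCat.of k))) ⟶ K) ≫ j = 1 :=
          left_eq_mul.mp (show (1 : 𝟙_ (Over (Spec (CommRingCat.of k))) ⟶ K) ≫ j = (1 : 𝟙_ (Over (Spec (CommRingCat.of k))) ⟶ K) ≫ j * (1 : 𝟙_ (Over (Spec (CommRingCat.of k))) ⟶ K) ≫ j by rw [← hmul, _root_.one_mul])
        simpa [Hom.one_def] using h
      mul_hom := by
        have h := hmul (fst K K) (snd K K)
        simp only [Hom.mul_def, lift_fst_snd, Category.id_comp] at h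
        rw [h]
        congr 1
        }
  refine ⟨j, hmon, fun T y β hβ => ?_⟩
  obtain ⟨b, hb, hn, -⟩ := hbc T y
  rw [(hG.exists_bc T (y ≫ j)).unique hβ hb, comp_lift_iK, ← hxφ]
  exact hn

end Groth.Agent.S19955
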