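import Groth.Statements.S19956
import Groth.Agent.Lib.ThetaGrp19.Kernel
import Groth.Agent.S19945

set_option autoImplicit false
universe u
open CategoryTheory MonoidalCategory CartesianMonoidalCategory MonObj GrpObj AlgebraicGeometry
open ThetaGrp

namespace Groth.Agent.S19956

set_option backward.isDefEq.respectTransparency.types false
open CategoryTheory.Limits CategoryTheory.Pseudofunctor Groth.Agent.ThetaGrp19


/-- Let f : X → Y be a surjective homomorphism of abelian varieties over a field k (proper,
geometrically integral, commutative k-group schemes), i : N → X its kernel (a homomorphism forming a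
cartesian square with the unit section of Y), M an invertible O_Y-module and L = f^*M. Let G be a
k-group scheme with a point u ∈ G(L)(G) representing the theta group of L (every point of G(L)(T) is
the base change of u along a unique T → G, multiplicatively), and j : N → G a level subgroup lying
over i: a homomorphism of group schemes and an immersion such that a point of N whose image lies
over the identity translation is trivial, and such that for every T-valued point n of N the base
change of u along j(n) lies over the translation by i(n). Let i_M : K_M → Y be a closed immersion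
exhibiting K_M as K(M) (the maximal closed subscheme of Y over which the Mumford bundle of M,
restricted to Y ×_k K_M, is the inverse image of an invertible module on K_M, with its universal
property). For a k-scheme T, a T-valued point g of G and the T-valued point x of X under it (the
base change of u along g lies over the translation by x): g lies in the centralizer of j(N) — for
every T' → T and every T'-valued point n of N, the restriction of g commutes with j(n) in the group
G(T') — if and only if f(x) factors through i_M. (The source states this for the level subgroup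
attached to the descent M; by the source's description of f⁻¹(K(M)) as Ker(f)^⊥ both sides depend
only on Ker(f), so it is stated for any level structure over i. The identification of G(M) with the
centralizer modulo j(N) is not part of this statement.) -/
theorem result (k : Type u) [Field k]
    (A : Over (Spec (CommRingCat.of k))) [GrpObj A] [IsCommMonObj A] [IsProper A.hom] [GeometricallyIntegral A.hom]
    (B : Over (Spec (CommRingCat.of k))) [GrpObj B] [IsCommMonObj B] [IsProper B.hom] [GeometricallyIntegral B.hom]
    (f : A ⟶ B) [IsMonHom f] (hf : Surjective f.left)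
    (N : Over (Spec (CommRingCat.of k))) [GrpObj N] (i : N ⟶ A) [IsMonHom i] (hN : AlgGrp.IsKernel i f)
    (M : B.left.Modules) (hM : PicF.IsInvertible M)
    (G : Over (Spec (CommRingCat.of k))) [GrpObj G]
    (u : ThetaGrp.thetaPts A ((Scheme.Modules.pullback f.left).obj M) G)
    (hG : ThetaGrp.IsThetaGrpSch A ((Scheme.Modules.pullback f.left).obj M) G u)
    (j : N ⟶ G) [IsMonHom j] (hj : ThetaGrp.IsLevelSubgrp u j)
    (hover : ∀ (T : Over (Spec (CommRingCat.of k))) (n : T ⟶ N)
      (β : ThetaGrp.thetaPts A ((Scheme.Modules.pullback f.left).obj M) T),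
      ThetaGrp.IsBaseChange β (n ≫ j) u → ThetaGrp.IsOverPt β (n ≫ i))
    (KM : Over (Spec (CommRingCat.of k))) (iM : KM ⟶ B) (hKM : ThetaGrp.IsKL B M iM)
    (T : Over (Spec (CommRingCat.of k))) (g : T ⟶ G) (x : T ⟶ A)
    (β : ThetaGrp.thetaPts A ((Scheme.Modules.pullback f.left).obj M) T)
    (hβ : ThetaGrp.IsBaseChange β g u) (hx : ThetaGrp.IsOverPt β x) :
    (∀ (T' : Over (Spec (CommRingCat.of k))) (t : T' ⟶ T) (n : T' ⟶ N),
        (t ≫ g) * (n ≫ j) = (n ≫ j) * (t ≫ g)) ↔
      ∃ y : T ⟶ KM, y ≫ iM = x ≫ f := by
  have hA := hzero_of_field A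
  have hL : PicF.IsInvertible ((Scheme.Modules.pullback f.left).obj M) := PicLoc.isInvertible_pullback _ hM
  have hi : i ≫ f = 1 := by rw [hN.w, Hom.one_def]
  -- base change of `β`
  have hrestr : ∀ {T' : Over (Spec (CommRingCat.of k))} (t : T' ⟶ T),
      ∃ β' : thetaPts A ((Scheme.Modules.pullback f.left).obj M) T',
        IsOverPt β' (t ≫ x) ∧ IsBaseChange β' (t ≫ g) u := by
    intro T' t
    obtain ⟨β', h1, h2⟩ := exists_restrictPt t β hx
    refine ⟨β', h1, ?_⟩
    show _ ≫ bcLift A _ (t ≫ g) = bcLift A _ (t ≫ g) ≫ _
    rw [← bcLift_comp, reassoc_of% h2, hβ, Category.assoc]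
  constructor
  · intro hcomm
    refine (Groth.Agent.S19945.result k B M hM KM iM hKM T (x ≫ f)).2 fun t => ?_
    have := hf
    have hperp : ∀ β' b : thetaPts A ((Scheme.Modules.pullback f.left).obj M) (N ⊗ T),
        IsOverPt β' (snd N T ≫ x) → IsOverPt b (fst N T ≫ i) → β' * b = b * β' := by
      intro β' b h₁ h₂
      obtain ⟨βt, ht₁, ht₂⟩ := hrestr (snd N T)
      obtain ⟨βn, hn₂, -⟩ := hG.exists_bc (N ⊗ T) (fst N T ≫ j)
      have hn₁ := hover _ _ βn hn₂
      have hm := hcomm (N ⊗ T) (snd N T) (fst N T)
      have e1 := hG.mul _ _ _ _ _ ht₂ hn₂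
      have e2 := hG.mul _ _ _ _ _ hn₂ ht₂
      rw [hm] at e1
      have e : βt * βn = βn * βt := (hG.exists_bc _ _).unique e1 e2
      obtain ⟨r, hr⟩ := exists_isComm hA hL βt βn
      obtain rfl := (mul_comm_iff hA hL hr).1 e
      obtain ⟨s₁, hs₁⟩ := exists_scalar_of_isOverPt hA hL ht₁ h₁
      obtain ⟨s₂, hs₂⟩ := exists_scalar_of_isOverPt hA hL hn₁ h₂
      exact (mul_comm_iff hA hL ((hr.scalar_left hL hs₁).scalar_right hL hs₂)).2 rfl
    obtain ⟨γ, hγ⟩ := exists_descPt f hM i hN hx hperp
    obtain ⟨γ', hγ', -⟩ := exists_restrictPt (Over.homMk (⊤ : T.left.Opens).ι rfl :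
      Over.mk ((⊤ : T.left.Opens).ι ≫ T.hom) ⟶ T) γ hγ
    exact ⟨⊤, trivial, γ', hγ'⟩
  · intro hKM' T' t n
    obtain ⟨βt, ht₁, ht₂⟩ := hrestr t
    obtain ⟨βn, hn₂, -⟩ := hG.exists_bc T' (n ≫ j)
    have hn₁ := hover _ _ βn hn₂
    have e : βt * βn = βn * βt := by
      refine commute_kernel f hA hM (by rw [Category.assoc, hi, MonObj.comp_one]) (fun s => ?_) ht₁ hn₁
      refine (Groth.Agent.S19945.result k B M hM KM iM hKM T' ((t ≫ x) ≫ f)).1 ?_ s
      obtain ⟨y', hy'⟩ := hKM'
      exact ⟨t ≫ y', by rw [Category.assoc, hy', Category.assoc]⟩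
    have e1 := hG.mul _ _ _ _ _ ht₂ hn₂
    have e2 := hG.mul _ _ _ _ _ hn₂ ht₂
    rw [← e] at e2
    exact (hG.univ _ _).unique e1 e2

end Groth.Agent.S19956
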