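import Groth.Statements.S19957
import Groth.Agent.Lib.GrpdEt19.Main

set_option autoImplicit false
universe u
open CategoryTheory CategoryTheory.Limits AlgebraicGeometry
open Grpd

namespace Groth.Agent.S19957

theorem residue_surjective_of_preimmersion {X Y : Scheme.{u}} (f : X ⟶ Y) [IsPreimmersion f] (x : X) :
    Function.Surjective (f.residueFieldMap x) := by
  intro b
  obtain ⟨a, ha⟩ := IsLocalRing.residue_surjective (R := X.presheaf.stalk x) b
  obtain ⟨c, hc⟩ := f.stalkMap_surjective x a
  refine ⟨Y.residue (f x) c, ?_⟩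
  rw [← CommRingCat.comp_apply, Scheme.residue_residueFieldMap, CommRingCat.comp_apply, hc]
  exact ha

theorem mem_image_stabilizer_iff {S : Scheme.{u}} (G : Grpd.GroupoidScheme S) (u : ↥G.U) {K : Type u} [Field K]
    (q : Spec (CommRingCat.of K) ⟶ G.R) (τ : ↥(Spec (CommRingCat.of K))) :
    q τ ∈ pullback.fst G.j G.diag '' {g | pullback.snd G.j G.diag g = u} ↔
      q ≫ G.t = q ≫ G.s ∧ G.s (q τ) = u := by
  haveI : IsImmersion G.diag := inferInstanceAs (IsImmersion (pullback.diagonal G.pU))
  have hcond := pullback.condition (f := G.j) (g := G.diag)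
  have ht : pullback.fst G.j G.diag ≫ G.t = pullback.snd G.j G.diag :=
    calc pullback.fst G.j G.diag ≫ G.t = (pullback.fst G.j G.diag ≫ G.j) ≫ pullback.fst G.pU G.pU := by
          rw [Category.assoc, GrpdB.j_fst]
      _ = pullback.snd G.j G.diag := by rw [hcond, Category.assoc, GrpdB.diag_fst, Category.comp_id]
  have hs : pullback.fst G.j G.diag ≫ G.s = pullback.snd G.j G.diag :=
    calc pullback.fst G.j G.diag ≫ G.s = (pullback.fst G.j G.diag ≫ G.j) ≫ pullback.snd G.pU G.pU := by
          rw [Category.assoc, GrpdB.j_snd]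
      _ = pullback.snd G.j G.diag := by rw [hcond, Category.assoc, GrpdB.diag_snd, Category.comp_id]
  constructor
  · rintro ⟨g, hg, hgq⟩
    obtain ⟨l, hl, -⟩ := GrpdEt19.exists_fieldPoint (pullback.fst G.j G.diag) g
      (residue_surjective_of_preimmersion _ g) q τ hgq.symm
    refine ⟨?_, ?_⟩
    · rw [← hl, Category.assoc, Category.assoc, ht, hs]
    · rw [← hgq, ← Scheme.Hom.comp_apply, hs]; exact hg
  · rintro ⟨hts, hu⟩
    let l : Spec (CommRingCat.of K) ⟶ pullback G.j G.diag :=
      pullback.lift q (q ≫ G.s) (GrpdB.lift_cond q (q ≫ G.s) hts rfl)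
    have hl : l ≫ pullback.fst G.j G.diag = q := pullback.lift_fst _ _ _
    refine ⟨l τ, ?_, ?_⟩
    · show pullback.snd G.j G.diag (l τ) = u
      rw [← hs, ← Scheme.Hom.comp_apply, ← Category.assoc, hl, Scheme.Hom.comp_apply, hu]
    · rw [← Scheme.Hom.comp_apply, hl]

theorem apply_eq_of_comp_eq {X Y : Scheme.{u}} {f g : X ⟶ Y} {T : Scheme.{u}} (k : T ⟶ X)
    (h : k ≫ f = k ≫ g) (τ : T) : f (k τ) = g (k τ) := by
  rw [← Scheme.Hom.comp_apply, h, Scheme.Hom.comp_apply]

/-- Let (U, R, s, t, c) be a groupoid scheme over S with U affine and s, t separated, flat and locally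
of finite presentation, and let u ∈ U be a point such that the set of points of the stabilizer G → U
(the base change of j = (t, s) : R → U ×_S U along the diagonal of U) lying over u is finite and s
is quasi-finite at the image in R of each of these points. Then there exist an etale morphism U' → U
with U' affine and a point u' of U' lying over u with trivial residue field extension κ(u) = κ(u'),
such that the restriction R' of R to U' (the groupoid scheme on U' whose arrows form the base change
of j along U' ×_S U' → U ×_S U) is split over u': there is an open subscheme P ⊂ R' which is a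
subgroupoid (the identity of U', the inverse of P and the composition of composable pairs of P land
in P), with s'|_P and t'|_P finite, and containing the image in R' of every point of the stabilizer
G' → U' of R' lying over u'. -/
theorem result (S : Scheme.{u}) (G : Grpd.GroupoidScheme S) [IsAffine G.U]
    [IsSeparated G.s] [IsSeparated G.t] [Flat G.s] [Flat G.t]
    [LocallyOfFinitePresentation G.s] [LocallyOfFinitePresentation G.t]
    (u : ↥G.U) (hfin : Set.Finite {g : ↥G.stabilizer | G.stabilizerToU g = u})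
    (hqf : ∀ g : ↥G.stabilizer, G.stabilizerToU g = u →
      Dual3.QuasiFiniteAt G.s ((pullback.fst G.j G.diag : G.stabilizer ⟶ G.R) g)) :
    ∃ (G' : Grpd.GroupoidScheme S) (φ : Grpd.GroupoidScheme.Hom G' G) (u' : ↥G'.U),
      IsAffine G'.U ∧ Etale φ.fU ∧ φ.fU u' = u ∧ IsIso (φ.fU.residueFieldMap u') ∧
      IsPullback φ.fR G'.j G.j
        (pullback.map G'.pU G'.pU G.pU G.pU φ.fU φ.fU (𝟙 S)
          ((Category.comp_id _).trans φ.fU_over.symm) ((Category.comp_id _).trans φ.fU_over.symm)) ∧
      ∃ (P : Scheme.{u}) (ιP : P ⟶ G'.R), IsOpenImmersion ιP ∧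
        (∃ eP : G'.U ⟶ P, eP ≫ ιP = G'.e) ∧ (∃ iP : P ⟶ P, iP ≫ ιP = ιP ≫ G'.i) ∧
        (∃ cP : pullback (ιP ≫ G'.s) (ιP ≫ G'.t) ⟶ P,
          cP ≫ ιP = pullback.map (ιP ≫ G'.s) (ιP ≫ G'.t) G'.s G'.t ιP ιP (𝟙 G'.U)
            (Category.comp_id _) (Category.comp_id _) ≫ G'.c) ∧
        IsFinite (ιP ≫ G'.s) ∧ IsFinite (ιP ≫ G'.t) ∧
        ∀ g' : ↥G'.stabilizer, G'.stabilizerToU g' = u' →
          ∃ p : ↥P, ιP p = (pullback.fst G'.j G'.diag : G'.stabilizer ⟶ G'.R) g' := by
  have hpt : ∀ r ∈ pullback.fst G.j G.diag '' {g | pullback.snd G.j G.diag g = u},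
      G.t r = G.s r ∧ G.s r = u := by
    intro r hr
    obtain ⟨h1, h2⟩ := (mem_image_stabilizer_iff G u (K := G.R.residueField r) (G.R.fromSpecResidueField r)
      (IsLocalRing.closedPoint (G.R.residueField r))).1
      ((Scheme.fromSpecResidueField_apply r (IsLocalRing.closedPoint _)).symm ▸ hr)
    rw [Scheme.fromSpecResidueField_apply] at h2
    have h := apply_eq_of_comp_eq _ h1 (IsLocalRing.closedPoint (G.R.residueField r))
    rw [Scheme.fromSpecResidueField_apply] at h
    exact ⟨h, h2⟩
  obtain ⟨G', φ, u', h1, h2, h3, h4, h5, P, ιP, h6, h7, h8, h9, h10, h11, h12⟩ :=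
    GrpdEt19.exists_split G u _
      ((show Set.Finite {g : ↥(pullback G.j G.diag) | pullback.snd G.j G.diag g = u} from hfin).image _)
      (fun r hr => (hpt r hr).2) (fun r hr => (hpt r hr).1.trans (hpt r hr).2)
      (by rintro _ ⟨g, hg, rfl⟩; exact hqf g hg)
      (by
        have e : (G.U.fromSpecResidueField u ≫ G.e) (IsLocalRing.closedPoint (G.U.residueField u)) = G.e u := by
          rw [Scheme.Hom.comp_apply, Scheme.fromSpecResidueField_apply]
        rw [← e]
        refine (mem_image_stabilizer_iff G u (K := G.U.residueField u) (G.U.fromSpecResidueField u ≫ G.e)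
          (IsLocalRing.closedPoint (G.U.residueField u))).2 ⟨?_, ?_⟩
        · rw [Category.assoc, Category.assoc, G.e_t, G.e_s]
        · exact (congrArg _ e).trans (GrpdB.s_e u))
      (fun K _ q r h τ hr => by
        obtain ⟨hr1, hr2⟩ := (mem_image_stabilizer_iff G u r τ).1 hr
        rw [mem_image_stabilizer_iff, mem_image_stabilizer_iff, GrpdB.cmp_t, GrpdB.cmp_s,
          ← Scheme.Hom.comp_apply (GrpdB.cmp G q r h) G.s, GrpdB.cmp_s, ← Scheme.Hom.comp_apply q G.s, h, hr1,
          Scheme.Hom.comp_apply r G.s])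
  refine ⟨G', φ, u', h1, h2, h3, h4, h5, P, ιP, h6, h7, h8, h9, h10, h11, fun g' hg' => ?_⟩
  let r₁ : ↥G'.R := pullback.fst G'.j G'.diag g'
  let k := G'.R.fromSpecResidueField r₁
  let τ : ↥(Spec (CommRingCat.of (G'.R.residueField r₁))) := IsLocalRing.closedPoint _
  have hk : k τ = r₁ := Scheme.fromSpecResidueField_apply _ _
  obtain ⟨k1, k2⟩ := (mem_image_stabilizer_iff G' u' (K := G'.R.residueField r₁) k τ).1
    ⟨g', hg', hk.symm⟩
  rw [hk] at k2
  have k3 := apply_eq_of_comp_eq k k1 τ
  rw [hk] at k3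
  refine h12 r₁ k2 (k3.trans k2) ?_
  rw [← hk, ← Scheme.Hom.comp_apply]
  refine (mem_image_stabilizer_iff G u (K := G'.R.residueField r₁) (k ≫ φ.fR) τ).2 ⟨?_, ?_⟩
  · rw [Category.assoc, Category.assoc, φ.comm_t, φ.comm_s, ← Category.assoc, k1, Category.assoc]
  · rw [Scheme.Hom.comp_apply, hk, ← Scheme.Hom.comp_apply, φ.comm_s, Scheme.Hom.comp_apply, k2, h3]

end Groth.Agent.S19957
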