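import Groth.Statements.S19958
-- import your own Groth.Agent.* helpers here
import Groth.Agent.Lib.DlzCurve17.HomDualEuler

set_option autoImplicit false
universe u
open CategoryTheory CategoryTheory.Limits AlgebraicGeometry
attribute [local instance] HasDerivedCategory.standard
open TFCurv

namespace Groth.Agent.S19958

/-- Let X be an integral proper curve (integral, proper, of dimension one) over an algebraically closed
field k, ω_X its dualizing module (the cohomology sheaf in degree -1 of f^! O for f : X → Spec k,
assuming the derived direct image Rf_* on D_QCoh and its right adjoint exist, which is how the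
prelude presents f^!), and F a coherent torsion-free O_X-module. Write G* = 𝓗om_{O_X}(G, ω_X) for
the ω-dual of a module G. Then the canonical map η : F → F** = 𝓗om(𝓗om(F, ω_X), ω_X), sending a
local section m to evaluation at m, is an isomorphism. The map is pinned by its stalks: for every
point x, every v ∈ F_x and every germ θ of F* at x, the stalk map η_x sends v to the stalk
homomorphism whose value on θ is θ_x(v); since F* is of finite type such an η is unique, and the
statement asserts that it exists and is an isomorphism. -/
theorem result (k : Type u) [Field k] [IsAlgClosed k] (X : Scheme.{u}) [X.Over (Spec (CommRingCat.of k))]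
    [IsIntegral X] [IsProper (X ↘ (Spec (CommRingCat.of k)))] (hdim : topologicalKrullDim X = 1)
    [DCoh.HasRpush (X ↘ (Spec (CommRingCat.of k)))] (h : DCoh.RpushPreservesQCoh (X ↘ (Spec (CommRingCat.of k)))) [DCoh.HasShriek (X ↘ (Spec (CommRingCat.of k))) h]
    (OY : DCoh.DQCoh (Spec (CommRingCat.of k))) (hOY : Nonempty (OY.obj ≅ DCoh.inD (Spec (CommRingCat.of k)) (Coh.structureModule (Spec (CommRingCat.of k)))))
    (F : X.Modules) (hFc : Coh.IsCoh F) (hFt : TorSh.IsTorsionFree F) :
    ∃ η : F ⟶ RefHull.homSh (RefHull.homSh F (DCoh.dualizingMod (X ↘ (Spec (CommRingCat.of k))) h OY 1)) (DCoh.dualizingMod (X ↘ (Spec (CommRingCat.of k))) h OY 1),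
      (∀ (x : X) (v : F.presheaf.stalk x) (θ : (RefHull.homSh F (DCoh.dualizingMod (X ↘ (Spec (CommRingCat.of k))) h OY 1)).presheaf.stalk x),
        RefHull.evalStalk (RefHull.homSh F (DCoh.dualizingMod (X ↘ (Spec (CommRingCat.of k))) h OY 1)) (DCoh.dualizingMod (X ↘ (Spec (CommRingCat.of k))) h OY 1) x (RefHull.stalkMapₗ η x v) θ =
          RefHull.evalStalk F (DCoh.dualizingMod (X ↘ (Spec (CommRingCat.of k))) h OY 1) x θ v) ∧
      IsIso η := by
  exact ⟨Groth.Agent.DlzCurve17.evalMap F _,
    Groth.Agent.DlzCurve17.evalStalk_evalMap F _,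
    Groth.Agent.DlzCurve17.isIso_evalMap k X h OY hOY hdim hFc hFt⟩

end Groth.Agent.S19958
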