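import Groth.Statements.S19959
import Groth.Agent.Lib.SmoothingH7.LiftFactor

set_option autoImplicit false
universe u
open Smoothing

namespace Groth.Agent.S19959

/-- Let R be Noetherian, Λ an R-algebra and π ∈ R with the annihilators of π and π² equal both in R and
in Λ. Let A → Λ be an R-algebra map with A finitely presented and π strictly standard in A over R,
and let A → C → Λ/π⁸Λ be a factorization of the induced map A → Λ/π⁸Λ with C a finitely presented
R/π⁸R-algebra. Then there is a factorization A → B → Λ with B finitely presented over R such that R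
→ B is smooth at every prime of B not containing π (equivalently, B being finitely presented, R_π →
B_π is smooth) and such that the extension to Λ/π⁸Λ of the singular ideal of C over R/π⁸R (the
radical ideal of the non-smooth locus) is contained in the image in Λ/π⁸Λ of the radical of the
extension to Λ of the singular ideal of B over R. -/
theorem result {R Λ A C : Type u} [CommRing R] [IsNoetherianRing R] [CommRing Λ]
    [Algebra R Λ] (π : R) (hR : ∀ r : R, π ^ 2 * r = 0 → π * r = 0)
    (hΛ : ∀ x : Λ, π ^ 2 • x = 0 → π • x = 0) [CommRing A] [Algebra R A]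
    [Algebra.FinitePresentation R A] (φ : A →ₐ[R] Λ)
    (hπ : Smoothing.IsStrictlyStandard R A (algebraMap R A π))
    [CommRing C] [Algebra R C] [Algebra (R ⧸ Ideal.span {π ^ 8}) C] [IsScalarTower R (R ⧸ Ideal.span {π ^ 8}) C]
    [Algebra.FinitePresentation (R ⧸ Ideal.span {π ^ 8}) C]
    (γ : A →ₐ[R] C) (g : C →ₐ[R] Λ ⧸ Ideal.span {algebraMap R Λ (π ^ 8)})
    (hfac : ∀ a : A, g (γ a) = Ideal.Quotient.mk (Ideal.span {algebraMap R Λ (π ^ 8)}) (φ a)) :
    ∃ (B : Type u) (_ : CommRing B) (_ : Algebra R B), Algebra.FinitePresentation R B ∧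
      ∃ (α : A →ₐ[R] B) (β : B →ₐ[R] Λ), β.comp α = φ ∧
        (∀ (Q : Ideal B) [Q.IsPrime], algebraMap R B π ∉ Q → Algebra.IsSmoothAt R Q) ∧
        (Smoothing.singularIdeal (R ⧸ Ideal.span {π ^ 8}) C).map g ≤
          ((Smoothing.singularIdeal R B).map β).radical.map (Ideal.Quotient.mk (Ideal.span {algebraMap R Λ (π ^ 8)})) := by
  exact Groth.Agent.Lib.SmoothingH7.exists_factor_of_mod π hR hΛ φ hπ (π ^ 8) (by rw [← pow_mul]) γ g hfac

end Groth.Agent.S19959
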