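import Groth.Statements.S1996
import Groth.Agent.Lib.WEtaleH7.AbsFlat
import Groth.Agent.Lib.WEtaleH7.Misc

set_option autoImplicit false
universe u
open EtAlg

namespace Groth.Agent.S1996

/-- Let A -> B -> C be ring maps with B -> C faithfully flat. Weak etaleness of A -> C then implies weak
etaleness of A -> B. -/
theorem result (A B C : Type u) [CommRing A] [CommRing B] [CommRing C] [Algebra A B]
    [Algebra B C] [Algebra A C] [IsScalarTower A B C] [Module.FaithfullyFlat B C] [Algebra.WeaklyEtale A C] :
    Algebra.WeaklyEtale A B := by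
  open scoped TensorProduct Polynomial in
  have hff : (algebraMap B C).FaithfullyFlat := RingHom.faithfullyFlat_algebraMap_iff.2 inferInstance
  have hflat : Module.Flat A B := RingHom.flat_algebraMap_iff.1
    (WEtaleH7.flat_of_comp_faithfullyFlat (algebraMap A B) (algebraMap B C) hff (by
      rw [← IsScalarTower.algebraMap_eq]
      exact RingHom.flat_algebraMap_iff.2 inferInstance))
  refine { flat_lmul' := ?_ }
  let μ := Algebra.TensorProduct.map (IsScalarTower.toAlgHom A B C) (IsScalarTower.toAlgHom A B C)
  have hBC : (IsScalarTower.toAlgHom A B C).Flat := hff.flat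
  have hμ : μ.Flat := RingHom.Flat.tensorProductMap hBC hBC
  refine WEtaleH7.flat_of_comp_faithfullyFlat (Algebra.TensorProduct.lmul' A (S := B)).toRingHom
    (algebraMap B C) hff ?_
  have hcomp : ((Algebra.TensorProduct.lmul' A (S := C)).comp μ) =
      (IsScalarTower.toAlgHom A B C).comp (Algebra.TensorProduct.lmul' A (S := B)) := by
    ext <;> simp [μ]
  have h2 : ((Algebra.TensorProduct.lmul' A (S := C)).comp μ).Flat :=
    hμ.comp (Algebra.WeaklyEtale.flat_lmul' A C)
  rw [hcomp] at h2
  exact h2

end Groth.Agent.S1996
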