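import Groth.Statements.S19962
import Groth.Agent.Lib.BE1.Punctured

set_option autoImplicit false
universe u
open CAlg

namespace Groth.Agent.S19962




/-- Let R be a Noetherian commutative ring, not assumed local, and 0 → R^(n_e) → ⋯ → R^(n_1) → R^(n_0) a
complex of finite free modules with 1 ≤ e, the map R^(n_(i+1)) → R^(n_i) being given by the matrix A
i. Suppose that for every 1 ≤ j ≤ e the matrix of R^(n_j) → R^(n_(j-1)) has rank n_j - n_(j+1) + ⋯ ±
n_e, the rank of a matrix being the largest size of a nonzero minor, and that its ideal of minors of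
that size is either the unit ideal or contains an R-regular sequence of length j. Then the complex
is exact at R^(n_e), …, R^(n_1). -/
theorem result {R : Type u} [CommRing R] [IsNoetherianRing R]
    (e : ℕ) (he : 1 ≤ e) (n : ℕ → ℕ) (A : (i : ℕ) → Matrix (Fin (n i)) (Fin (n (i + 1))) R)
    (hA : ∀ i, i + 2 ≤ e → A i * A (i + 1) = 0)
    (hrank : ∀ j, 1 ≤ j → j ≤ e →
      (CAlgX.matrixRank (A (j - 1)) : ℤ) = ∑ t ∈ Finset.Icc j e, (-1 : ℤ) ^ (t - j) * (n t : ℤ))
    (hdet : ∀ j, 1 ≤ j → j ≤ e →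
      CAlgX.detIdeal (A (j - 1)) = ⊤ ∨
        ∃ rs : List R, rs.length = j ∧ (∀ r ∈ rs, r ∈ CAlgX.detIdeal (A (j - 1))) ∧
          RingTheory.Sequence.IsRegular R rs) :
    LinearMap.ker (A (e - 1)).mulVecLin = ⊥ ∧
      ∀ i, i + 2 ≤ e → LinearMap.ker (A i).mulVecLin = LinearMap.range (A (i + 1)).mulVecLin := by
  let ρ : ℕ → ℕ := fun i => if i < e then CAlgX.matrixRank (A i) else 0
  have hsum : ∀ i ≤ e, (ρ i : ℤ) = ∑ t ∈ Finset.Icc (i + 1) e, (-1 : ℤ) ^ (t - (i + 1)) * (n t : ℤ) := by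
    intro i hi
    simp only [ρ]
    split_ifs with h'
    · exact hrank (i + 1) (by omega) (by omega)
    · rw [Finset.Icc_eq_empty (by omega), Finset.sum_empty]
      rfl
  have hρ : Groth.Agent.BE1.Rec e n ρ := by
    refine ⟨if_neg (lt_irrefl e), fun i hi => ?_⟩
    have h1 := hsum i hi.le
    have h2 := hsum (i + 1) hi
    have h3 : ∑ t ∈ Finset.Icc (i + 1) e, (-1 : ℤ) ^ (t - (i + 1)) * (n t : ℤ) =
        (n (i + 1) : ℤ) - ∑ t ∈ Finset.Icc (i + 1 + 1) e, (-1 : ℤ) ^ (t - (i + 1 + 1)) * (n t : ℤ) := by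
      rw [← Finset.add_sum_Ioc_eq_sum_Icc (by omega : i + 1 ≤ e), ← Finset.Icc_add_one_left_eq_Ioc, Nat.sub_self,
        pow_zero, one_mul, sub_eq_add_neg, ← Finset.sum_neg_distrib]
      congr 1
      refine Finset.sum_congr rfl fun t ht => ?_
      have := (Finset.mem_Icc.mp ht).1
      rw [show t - (i + 1) = t - (i + 1 + 1) + 1 by omega, pow_succ]
      ring
    omega
  refine Groth.Agent.BE1.result_of_ex he hA (Groth.Agent.BE1.ex_of_depthCond e R n ρ A hA hρ fun i hi => ?_)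
  simp only [ρ, if_pos hi]
  obtain h1 | ⟨rs, hl, hm, hr⟩ := hdet (i + 1) (by omega) (by omega)
  · exact Or.inl h1
  · exact Or.inr ⟨rs, hl, hm, hr.toIsWeaklyRegular⟩

end Groth.Agent.S19962
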