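import Groth.Statements.S19963
import Mathlib
import Groth.Agent.Lib.H2Alg.HorrocksPatch

set_option autoImplicit false
open Polynomial TensorProduct
universe u
open CAlg

namespace Groth.Agent.S19963
open Polynomial TensorProduct
open CAlg

open Matrix Groth.Agent.H2Horrocks

variable {A : Type u} [CommRing A] {m n : Type} [Fintype m] [Fintype n] [DecidableEq m] [DecidableEq n]

theorem basis_repr' {S : Type u} [CommRing S] {Y : Type u} [AddCommGroup Y] [Module S Y]
    (g : (n → S) →ₗ[S] Y) (v : n → S) : g v = ∑ i, v i • g (Pi.single i 1) := by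
  conv_lhs => rw [pi_eq_sum_univ' v]
  simp [map_sum, map_smul]

/-- split idempotent presentation of a base change -/
theorem exists_split_baseChange (S : Type u) [CommRing S] [Algebra A S] {P : Type u} [AddCommGroup P]
    [Module A P] (π : (n → A) →ₗ[A] P) (s : P →ₗ[A] (n → A)) (hs : ∀ p, π (s p) = p)
    (e : Matrix n n A) (he : ∀ v, s (π v) = e *ᵥ v) :
    ∃ (a : S ⊗[A] P →ₗ[S] (n → S)) (b : (n → S) →ₗ[S] S ⊗[A] P),
      (∀ z, b (a z) = z) ∧ (∀ v, a (b v) = e.map (algebraMap A S) *ᵥ v) := by
  let ι : (n → A) →ₗ[A] (n → S) := LinearMap.compLeft (Algebra.linearMap A S) n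
  let a : S ⊗[A] P →ₗ[S] (n → S) := LinearMap.liftBaseChange S (ι ∘ₗ s)
  let b : (n → S) →ₗ[S] S ⊗[A] P :=
    { toFun := fun v => ∑ i, v i ⊗ₜ[A] π (Pi.single i 1)
      map_add' := fun v w => by simp [add_tmul, Finset.sum_add_distrib]
      map_smul' := fun c v => by simp [Finset.smul_sum, TensorProduct.smul_tmul'] }
  refine ⟨a, b, fun z => ?_, fun v => ?_⟩
  · induction z using TensorProduct.induction_on with
    | zero => simp
    | add p q hp hq => simp only [map_add, hp, hq]
    | tmul l p =>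
      have : b (a (l ⊗ₜ p)) = ∑ i, (l * algebraMap A S (s p i)) ⊗ₜ[A] π (Pi.single i 1) := rfl
      rw [this]
      conv_rhs => rw [← hs p, basis_repr' π (s p), tmul_sum]
      refine Finset.sum_congr rfl fun i _ => ?_
      rw [← smul_tmul, Algebra.smul_def, mul_comm]
  · funext k
    simp only [b, LinearMap.coe_mk, AddHom.coe_mk, map_sum, Finset.sum_apply, a,
      LinearMap.liftBaseChange_tmul, Pi.smul_apply, smul_eq_mul, LinearMap.comp_apply, he,
      Matrix.mulVec_single_one]
    show _ = ∑ i, algebraMap A S (e k i) * v i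
    exact Finset.sum_congr rfl fun i _ => mul_comm _ _

theorem exists_split_mod (P : Type u) [AddCommGroup P] [Module A P] [Module.Finite A P] [Module.Projective A P] :
    ∃ (k : ℕ) (e : Matrix (Fin k) (Fin k) A) (π : (Fin k → A) →ₗ[A] P) (s : P →ₗ[A] (Fin k → A)),
      (∀ p, π (s p) = p) ∧ (∀ v, s (π v) = e *ᵥ v) ∧ e * e = e := by
  classical
  obtain ⟨k, π, hπ⟩ := Module.Finite.exists_fin' A P
  obtain ⟨s, hs⟩ := Module.projective_lifting_property π LinearMap.id hπ
  have hs' : ∀ p, π (s p) = p := fun p => LinearMap.congr_fun hs p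
  refine ⟨k, LinearMap.toMatrix' (s ∘ₗ π), π, s, hs', fun v => (LinearMap.toMatrix'_mulVec (s ∘ₗ π) v).symm, ?_⟩
  rw [← LinearMap.toMatrix'_comp]
  exact congrArg _ (LinearMap.ext fun v => by simp [hs'])

omit [Fintype m] [Fintype n] [DecidableEq m] [DecidableEq n] in
theorem idem_C {e : Matrix m m A} [Fintype m] (he : e * e = e) :
    e.map (Polynomial.C : A →+* A[X]) * e.map Polynomial.C = e.map Polynomial.C := idem_map _ he

/-- the gluing construction: isomorphic over the chart overlap implies isomorphic -/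
theorem sim_of_glue_data (e0 : Matrix m m A) (e1 : Matrix n n A) (h0 : e0 * e0 = e0) (h1 : e1 * e1 = e1)
    (U : Matrix m n A[X]) (V : Matrix n m A[X]) (k : ℕ) (hk : 1 ≤ k) (G : A[X]) (hG : G.eval 0 = 1)
    (hUV : U * V = (X ^ k * G) • e0.map Polynomial.C) (hVU : V * U = (X ^ k * G) • e1.map Polynomial.C)
    (h0U : e0.map Polynomial.C * U = U) (hU1 : U * e1.map Polynomial.C = U)
    (h1V : e1.map Polynomial.C * V = V) (hV0 : V * e0.map Polynomial.C = V) :
    Sim e0 e1 := by
  have hcop : IsCoprime (X ^ k : A[X]) G := by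
    refine IsCoprime.pow_left ?_
    obtain ⟨q, hq⟩ : (X : A[X]) ∣ G - 1 := X_dvd_iff.2 (by simp [coeff_zero_eq_eval_zero, hG])
    exact ⟨-q, 1, by linear_combination hq⟩
  obtain ⟨a, b, hab⟩ := hcop
  set c0 := e0.map (Polynomial.C : A →+* A[X]) with hc0
  set c1 := e1.map (Polynomial.C : A →+* A[X]) with hc1
  have hc00 : c0 * c0 = c0 := idem_map _ h0
  have hc11 : c1 * c1 = c1 := idem_map _ h1
  let E : Matrix (m ⊕ n) (m ⊕ n) A[X] :=
    Matrix.fromBlocks ((a * X ^ k) • c0) (b • U) (a • V) ((b * G) • c1)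
  -- Laurent gluing
  let L : A[X] →+* LaurentPolynomial A := Polynomial.toLaurent
  let ti : LaurentPolynomial A := LaurentPolynomial.T (-(k : ℤ))
  have hti : ti * L (X ^ k) = 1 := by
    show LaurentPolynomial.T (-(k : ℤ)) * Polynomial.toLaurent (X ^ k) = 1
    rw [Polynomial.toLaurent_X_pow, ← LaurentPolynomial.T_add, neg_add_cancel, LaurentPolynomial.T_zero]
  let Um : Matrix (m ⊕ n) m (LaurentPolynomial A) := Matrix.fromRows (c0.map L) (ti • V.map L)
  let Vm : Matrix m (m ⊕ n) (LaurentPolynomial A) :=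
    Matrix.fromCols (L (a * X ^ k) • c0.map L) (L b • U.map L)
  have hsmul : ∀ (r : A[X]) {p q : Type} (Q : Matrix p q A[X]), (r • Q).map L = L r • Q.map L :=
    fun r p q Q => Matrix.ext fun i j => map_mul L _ _
  have hVUm : Vm * Um = c0.map L := by
    have hs : a * X ^ k + b * G = 1 := hab
    simp only [Um, Vm, Matrix.fromCols_mul_fromRows, Matrix.smul_mul, Matrix.mul_smul, smul_smul,
      ← Matrix.map_mul, hc00, hUV, hsmul]
    rw [← add_smul]
    convert one_smul (LaurentPolynomial A) (c0.map L) using 2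
    rw [map_mul L (X ^ k) G, show ti * (L b * (L (X ^ k) * L G)) = L b * L G * (ti * L (X ^ k)) by ring, hti,
      mul_one, ← map_mul, ← map_add, hs, map_one]
  have hUVm : Um * Vm = E.map L := by
    simp only [Um, Vm, E, Matrix.fromRows_mul_fromCols, Matrix.fromBlocks_map, Matrix.smul_mul,
      Matrix.mul_smul, smul_smul, ← Matrix.map_mul, hc00, h0U, hV0, hVU, hsmul]
    congr 1
    · congr 1
      rw [map_mul L a, show L a * L (X ^ k) * ti = L a * (ti * L (X ^ k)) by ring, hti, mul_one]
    · congr 1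
      rw [map_mul L (X ^ k) G, show L b * (ti * (L (X ^ k) * L G)) = L b * L G * (ti * L (X ^ k)) by ring, hti,
        mul_one, ← map_mul]
  have hc0idem : c0.map L * c0.map L = c0.map L := by rw [← Matrix.map_mul, hc00]
  have hUmc : Um * c0.map L = Um := by
    simp only [Um, Matrix.fromRows_mul, Matrix.smul_mul, ← Matrix.map_mul, hc00, hV0]
  have hcVm : c0.map L * Vm = Vm := by
    simp only [Vm, Matrix.mul_fromCols, Matrix.mul_smul, ← Matrix.map_mul, hc00, h0U]
  have hEL : (E * E).map L = E.map L := by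
    rw [Matrix.map_mul, ← hUVm, Matrix.mul_assoc, ← Matrix.mul_assoc Vm Um Vm, hVUm, hcVm]
  have hEE : E * E = E := Matrix.map_injective Polynomial.toLaurent_injective hEL
  have hsig : c0.map (sig (A := A)) = c0.map L := by
    simp only [hc0, Matrix.map_map]
    refine Matrix.ext fun i j => ?_
    simp [L, sig_apply]
  have hglue : Glue E c0 Um Vm := by
    refine ⟨hEE, hc00, hUVm, by rw [hsig]; exact hVUm, ?_, ?_⟩
    · show E.map L * Um = Um
      rw [← hUVm, Matrix.mul_assoc, hVUm, hUmc]
    · rw [hsig]; exact hcVm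
  have hext := extended_of_glue hglue
  -- specialise
  have hev : ∀ (x : A) {p q : Type} (r : A[X]) (Q : Matrix p q A[X]),
      (r • Q).map (evalRingHom x) = r.eval x • Q.map (evalRingHom x) :=
    fun x p q r Q => Matrix.ext fun i j => by simp
  have hec : ∀ (x : A) {p q : Type} (Q : Matrix p q A), (Q.map (Polynomial.C : A →+* A[X])).map (evalRingHom x) = Q :=
    fun x p q Q => Matrix.ext fun i j => by simp
  have hmapmul : ∀ (x : A) {p q r : Type} [Fintype q] (P : Matrix p q A[X]) (Q : Matrix q r A[X]),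
      (P * Q).map (evalRingHom x) = P.map (evalRingHom x) * Q.map (evalRingHom x) :=
    fun x p q r _ P Q => Matrix.map_mul
  have hs : a * X ^ k + b * G = 1 := hab
  have hx0 : b.eval 0 = 1 := by
    have := congrArg (Polynomial.eval 0) hs
    simpa [zero_pow (by omega : k ≠ 0), hG] using this
  have hx1 : a.eval 1 + b.eval 1 * G.eval 1 = 1 := by
    have := congrArg (Polynomial.eval 1) hs
    simpa using this
  have hE01 : Sim (E.map (evalRingHom 1)) (E.map (evalRingHom 0)) := by
    have := Sim.map (evalRingHom (1 : A)) hext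
    rwa [Matrix.map_map, ← RingHom.coe_comp, ← RingHom.comp_assoc,
      show (evalRingHom (1 : A)).comp (Polynomial.C : A →+* A[X]) = RingHom.id A from
        RingHom.ext fun r => by simp, RingHom.id_comp] at this
  have hAt : ∀ x : A, E.map (evalRingHom x) * E.map (evalRingHom x) = E.map (evalRingHom x) :=
    fun x => idem_map _ hEE
  have hA : Sim e1 (E.map (evalRingHom 0)) := by
    refine Sim.symm ⟨Matrix.fromRows (U.map (evalRingHom 0)) e1,
      Matrix.fromCols (a.eval 0 • V.map (evalRingHom 0)) e1, ?_, ?_⟩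
    · simp only [E, Matrix.fromRows_mul_fromCols, Matrix.fromBlocks_map, hev, hc0, hc1, hec,
        Matrix.mul_smul, h1, Polynomial.eval_mul, hx0, hG, mul_one, one_smul, ← hmapmul, hUV, hUV]
      congr 1
      · simp [zero_pow (by omega : k ≠ 0)]
      · have := congrArg (fun Q => Q.map (evalRingHom (0 : A))) hU1
        simp only [hmapmul, hc1, hec] at this; exact this
      · congr 1
        have := congrArg (fun Q => Q.map (evalRingHom (0 : A))) h1V
        simp only [hmapmul, hc1, hec] at this; exact this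
    · simp only [Matrix.fromCols_mul_fromRows, Matrix.smul_mul, h1, ← hmapmul, hVU, hev,
        Polynomial.eval_mul, eval_pow, eval_X, zero_pow (by omega : k ≠ 0), zero_mul, zero_smul,
        smul_zero, zero_add]
  have hB : Sim e0 (E.map (evalRingHom 1)) := by
    refine Sim.symm ⟨Matrix.fromRows e0 (V.map (evalRingHom 1)),
      Matrix.fromCols (a.eval 1 • e0) (b.eval 1 • U.map (evalRingHom 1)), ?_, ?_⟩
    · simp only [E, Matrix.fromRows_mul_fromCols, Matrix.fromBlocks_map, hev, hc0, hc1, hec,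
        Matrix.mul_smul, h0, ← hmapmul, hVU, smul_smul, Polynomial.eval_mul, eval_pow, eval_X, one_pow,
        mul_one, one_mul]
      congr 1
      · congr 1
        have := congrArg (fun Q => Q.map (evalRingHom (1 : A))) h0U
        simp only [hmapmul, hc0, hec] at this; exact this
      · congr 1
        have := congrArg (fun Q => Q.map (evalRingHom (1 : A))) hV0
        simp only [hmapmul, hc0, hec] at this; exact this
    · simp only [Matrix.fromCols_mul_fromRows, Matrix.smul_mul, h0, ← hmapmul, hUV, hev, hc0, hec,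
        smul_smul, Polynomial.eval_mul, eval_pow, eval_X, one_pow, one_mul, ← add_smul, hx1, one_smul]
  exact ((hB.trans hE01 h0 (hAt 0)).trans hA.symm h0 h1)

/-- reflection as an additive map -/
theorem reflect_sum' {ι : Type} (N : ℕ) (s : Finset ι) (p : ι → A[X]) :
    reflect N (∑ i ∈ s, p i) = ∑ i ∈ s, reflect N (p i) := by
  classical
  induction s using Finset.induction with
  | empty => simp
  | insert i s hi ih => simp [Finset.sum_insert hi, reflect_add, ih]

omit [DecidableEq m] [DecidableEq n] [Fintype m] in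
theorem reflect_mul_matrix {p : Type} {N : ℕ} (U : Matrix m n A[X]) (V : Matrix n p A[X])
    (hU : ∀ i j, (U i j).natDegree ≤ N) (hV : ∀ i j, (V i j).natDegree ≤ N) :
    (U * V).map (reflect (N + N)) = U.map (reflect N) * V.map (reflect N) := by
  refine Matrix.ext fun i j => ?_
  simp only [Matrix.map_apply, Matrix.mul_apply, reflect_sum']
  exact Finset.sum_congr rfl fun l _ => reflect_mul _ _ (hU _ _) (hV _ _)

/-- Let A be a commutative ring and let A(t) denote the localization of the polynomial ring A[t] at the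
multiplicative subset of monic polynomials, viewed as an A-algebra. If P and P' are finitely
generated projective A-modules such that A(t) ⊗_A P and A(t) ⊗_A P' are isomorphic A(t)-modules,
then P and P' are isomorphic A-modules: non-isomorphic finite projective modules stay non-isomorphic
over A(t). (The published statement also covers base change to the ring A((t)) of Laurent power
series, and modules over A(t) itself; only the A(t) assertion for modules over A is stated.) -/
theorem result
    (A : Type u) [CommRing A] (M : Submonoid A[X]) (hM : ∀ f : A[X], f ∈ M ↔ f.Monic)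
    (At : Type u) [CommRing At] [Algebra A[X] At] [IsLocalization M At]
    [Algebra A At] [IsScalarTower A A[X] At]
    (P P' : Type u) [AddCommGroup P] [Module A P] [Module.Finite A P] [Module.Projective A P]
    [AddCommGroup P'] [Module A P'] [Module.Finite A P'] [Module.Projective A P']
    (h : Nonempty ((At ⊗[A] P) ≃ₗ[At] (At ⊗[A] P'))) :
    Nonempty (P ≃ₗ[A] P') := by
  classical
  obtain ⟨φ⟩ := h
  obtain ⟨k0, e0, π0, s0, hs0, he0, hee0⟩ := exists_split_mod (A := A) P
  obtain ⟨k1, e1, π1, s1, hs1, he1, hee1⟩ := exists_split_mod (A := A) P'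
  obtain ⟨a0, b0, hba0, hab0⟩ := exists_split_baseChange At π0 s0 hs0 e0 he0
  obtain ⟨a1, b1, hba1, hab1⟩ := exists_split_baseChange At π1 s1 hs1 e1 he1
  let U0 := LinearMap.toMatrix' (a0 ∘ₗ φ.symm.toLinearMap ∘ₗ b1)
  let V0 := LinearMap.toMatrix' (a1 ∘ₗ φ.toLinearMap ∘ₗ b0)
  set E0 := e0.map (algebraMap A At) with hE0
  set E1 := e1.map (algebraMap A At) with hE1
  have hU : ∀ v, U0 *ᵥ v = a0 (φ.symm (b1 v)) := fun v => LinearMap.toMatrix'_mulVec _ v
  have hV : ∀ v, V0 *ᵥ v = a1 (φ (b0 v)) := fun v => LinearMap.toMatrix'_mulVec _ v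
  have r1 : U0 * V0 = E0 := Matrix.ext_of_mulVec_single fun i => by
    rw [← Matrix.mulVec_mulVec, hU, hV, hba1, LinearEquiv.symm_apply_apply, hab0]
  have r2 : V0 * U0 = E1 := Matrix.ext_of_mulVec_single fun i => by
    rw [← Matrix.mulVec_mulVec, hU, hV, hba0, LinearEquiv.apply_symm_apply, hab1]
  have r3 : E0 * U0 = U0 := Matrix.ext_of_mulVec_single fun i => by
    rw [← Matrix.mulVec_mulVec, hU, ← hab0, hba0]
  have r4 : E1 * V0 = V0 := Matrix.ext_of_mulVec_single fun i => by
    rw [← Matrix.mulVec_mulVec, hV, ← hab1, hba1]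
  have r5 : U0 * E1 = U0 := by rw [← r2, ← Matrix.mul_assoc, r1, r3]
  have r6 : V0 * E0 = V0 := by rw [← r1, ← Matrix.mul_assoc, r2, r4]
  -- clear denominators
  obtain ⟨f, hf⟩ := IsLocalization.exist_integer_multiples_of_finite M
    (fun x : (Fin k0 × Fin k1) ⊕ (Fin k1 × Fin k0) => Sum.elim (fun p => U0 p.1 p.2) (fun p => V0 p.1 p.2) x)
  choose w hw using hf
  let U1 : Matrix (Fin k0) (Fin k1) A[X] := Matrix.of fun i j => w (Sum.inl (i, j))
  let V1 : Matrix (Fin k1) (Fin k0) A[X] := Matrix.of fun i j => w (Sum.inr (i, j))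
  let φ' : A[X] →+* At := algebraMap A[X] At
  have hinj : Function.Injective φ' := IsLocalization.injective At fun g hg =>
    mem_nonZeroDivisors_iff_right.2 fun x hx => ((hM g).1 hg).mul_left_eq_zero_iff.1 hx
  have hU1 : U1.map φ' = φ' (f : A[X]) • U0 := Matrix.ext fun i j => by
    show φ' (w (Sum.inl (i, j))) = _
    rw [hw, Algebra.smul_def]; rfl
  have hV1 : V1.map φ' = φ' (f : A[X]) • V0 := Matrix.ext fun i j => by
    show φ' (w (Sum.inr (i, j))) = _
    rw [hw, Algebra.smul_def]; rfl
  have hC : ∀ {p q : ℕ} (Q : Matrix (Fin p) (Fin q) A),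
      (Q.map (Polynomial.C : A →+* A[X])).map φ' = Q.map (algebraMap A At) := fun Q => Matrix.ext fun i j => by
    simp only [Matrix.map_apply, φ', IsScalarTower.algebraMap_apply A A[X] At, Polynomial.algebraMap_eq]
  have hsm : ∀ (r : A[X]) {p q : ℕ} (Q : Matrix (Fin p) (Fin q) A[X]), (r • Q).map φ' = φ' r • Q.map φ' :=
    fun r p q Q => Matrix.ext fun i j => map_mul φ' _ _
  have mi : ∀ {p q : ℕ} {Q Q' : Matrix (Fin p) (Fin q) A[X]}, Q.map φ' = Q'.map φ' → Q = Q' :=
    fun h => Matrix.map_injective hinj h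
  set g := (f : A[X]) * (f : A[X]) with hg
  have q1 : U1 * V1 = g • e0.map (Polynomial.C : A →+* A[X]) := mi (by
    rw [Matrix.map_mul, hU1, hV1, hsm, hC, Matrix.smul_mul, Matrix.mul_smul, smul_smul, r1, map_mul])
  have q2 : V1 * U1 = g • e1.map (Polynomial.C : A →+* A[X]) := mi (by
    rw [Matrix.map_mul, hU1, hV1, hsm, hC, Matrix.smul_mul, Matrix.mul_smul, smul_smul, r2, map_mul])
  have q3 : e0.map (Polynomial.C : A →+* A[X]) * U1 = U1 := mi (by
    rw [Matrix.map_mul, hU1, hC, Matrix.mul_smul, r3])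
  have q4 : U1 * e1.map (Polynomial.C : A →+* A[X]) = U1 := mi (by
    rw [Matrix.map_mul, hU1, hC, Matrix.smul_mul, r5])
  have q5 : e1.map (Polynomial.C : A →+* A[X]) * V1 = V1 := mi (by
    rw [Matrix.map_mul, hV1, hC, Matrix.mul_smul, r4])
  have q6 : V1 * e0.map (Polynomial.C : A →+* A[X]) = V1 := mi (by
    rw [Matrix.map_mul, hV1, hC, Matrix.smul_mul, r6])
  -- degrees
  obtain ⟨N, hN⟩ : ∃ N, g.natDegree + 1 ≤ N ∧ ∀ x, (w x).natDegree ≤ N :=
    ⟨g.natDegree + 1 + Finset.univ.sup (fun x => (w x).natDegree), by omega,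
      fun x => (Finset.le_sup (f := fun x => (w x).natDegree) (Finset.mem_univ x)).trans (by omega)⟩
  have hgm : g.Monic := ((hM _).1 f.2).mul ((hM _).1 f.2)
  let G := reflect g.natDegree g
  let k := N + N - g.natDegree
  have hG : G.eval 0 = 1 := by
    rw [← coeff_zero_eq_eval_zero, coeff_reflect, revAt_le (Nat.zero_le _), Nat.sub_zero]
    exact hgm
  have hrg : reflect (N + N) g = X ^ k * G := by
    have h2 := reflect_mul g (1 : A[X]) (le_refl g.natDegree) (G := k) (by simp)
    rw [mul_one, show g.natDegree + k = N + N by omega, ← map_one (Polynomial.C : A →+* A[X]), reflect_C,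
      map_one, one_mul] at h2
    rw [h2, mul_comm]
  have hrs : ∀ {p q : ℕ} (Q : Matrix (Fin p) (Fin q) A),
      (g • Q.map (Polynomial.C : A →+* A[X])).map (reflect (N + N)) =
        (X ^ k * G) • Q.map (Polynomial.C : A →+* A[X]) := fun Q => Matrix.ext fun i j => by
    simp only [Matrix.map_apply, Matrix.smul_apply, smul_eq_mul]
    rw [mul_comm g, reflect_C_mul, hrg]; ring
  have hrl : ∀ {p q r : ℕ} (Q : Matrix (Fin p) (Fin q) A) (W : Matrix (Fin q) (Fin r) A[X]),
      (Q.map (Polynomial.C : A →+* A[X]) * W).map (reflect N) =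
        Q.map (Polynomial.C : A →+* A[X]) * W.map (reflect N) := fun Q W => Matrix.ext fun i j => by
    simp only [Matrix.map_apply, Matrix.mul_apply, reflect_sum', reflect_C_mul]
  have hrr : ∀ {p q r : ℕ} (W : Matrix (Fin p) (Fin q) A[X]) (Q : Matrix (Fin q) (Fin r) A),
      (W * Q.map (Polynomial.C : A →+* A[X])).map (reflect N) =
        W.map (reflect N) * Q.map (Polynomial.C : A →+* A[X]) := fun W Q => Matrix.ext fun i j => by
    simp only [Matrix.map_apply, Matrix.mul_apply, reflect_sum']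
    exact Finset.sum_congr rfl fun l _ => by rw [mul_comm, reflect_C_mul, mul_comm]
  have hsim : Sim e0 e1 := sim_of_glue_data e0 e1 hee0 hee1 (U1.map (reflect N)) (V1.map (reflect N))
    k (by omega) G hG
    (by rw [← reflect_mul_matrix U1 V1 (fun i j => hN.2 _) (fun i j => hN.2 _), q1, hrs])
    (by rw [← reflect_mul_matrix V1 U1 (fun i j => hN.2 _) (fun i j => hN.2 _), q2, hrs])
    (by rw [← hrl, q3]) (by rw [← hrr, q4]) (by rw [← hrl, q5]) (by rw [← hrr, q6])
  obtain ⟨F, H, hFH, hHF, hF0, hF1, hH1, hH0⟩ := hsim.normal hee0 hee1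
  refine ⟨LinearEquiv.ofLinearMap (π1 ∘ₗ Matrix.mulVecLin H ∘ₗ s0) (π0 ∘ₗ Matrix.mulVecLin F ∘ₗ s1) ?_ ?_⟩
  · refine LinearMap.ext fun p => ?_
    show π1 (H *ᵥ s0 (π0 (F *ᵥ s1 p))) = p
    rw [he0, Matrix.mulVec_mulVec, Matrix.mulVec_mulVec, hH0, hHF, ← he1, hs1, hs1]
  · refine LinearMap.ext fun p => ?_
    show π0 (F *ᵥ s1 (π1 (H *ᵥ s0 p))) = p
    rw [he1, Matrix.mulVec_mulVec, Matrix.mulVec_mulVec, hF1, hFH, ← he0, hs0, hs0]

end Groth.Agent.S19963
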