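import Groth.Statements.S19964
import Groth.Agent.Lib.FlatClosure19.Basic
import Groth.Agent.Lib.MTRigid29.CentralizerNormalizer
import Groth.Agent.Lib.GrpFin20.Basic

set_option autoImplicit false
universe u
open CategoryTheory MonoidalCategory CartesianMonoidalCategory MonObj GrpObj AlgebraicGeometry CategoryTheory.Limits
open Neron

namespace Groth.Agent.S19964

open CategoryTheory Limits MonoidalCategory CartesianMonoidalCategory MonObj AlgebraicGeometry

set_option linter.style.haveILetI false
set_option backward.isDefEq.respectTransparency.types false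

/-- Let R be a Dedekind domain with fraction field K, G a group scheme over Spec R and i : H_K → G_K a
closed subgroup scheme of the generic fibre G_K = G ×_R K (a homomorphism which is a closed
immersion). Then there are a group scheme H over Spec R, flat over Spec R, and a homomorphism j : H
→ G which is a closed immersion, together with a morphism H_K → H presenting H_K as the generic
fibre H ×_R K compatibly with i and the embedding G_K → G, and with trivial kernel ideal sheaf (H_K
is schematically dense in H). In words: the schematic closure in G of a closed K-subgroup of the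
generic fibre is a flat closed R-subgroup scheme of G. (The source states this for group algebraic
spaces over a connected Dedekind scheme; the case of schemes over an affine base is stated.) -/
theorem result
    (R : Type u) [CommRing R] [IsDedekindDomain R]
    (G : Over (Spec (CommRingCat.of R))) [GrpObj G]
    (HK : Over (Spec (CommRingCat.of (FractionRing R)))) [GrpObj HK]
    (i : HK ⟶ Red.bc (Neron.genPt R) G) [IsMonHom i] [IsClosedImmersion i.left] :
    ∃ (H : Over (Spec (CommRingCat.of R))) (_ : GrpObj H) (j : H ⟶ G) (φ : HK.left ⟶ H.left),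
      IsMonHom j ∧ IsClosedImmersion j.left ∧ Flat H.hom ∧
      IsPullback φ HK.hom H.hom (Neron.genPt R) ∧
      φ ≫ j.left = i.left ≫ pullback.fst G.hom (Neron.genPt R) ∧
      φ.ker = ⊥ := by
  let η₀ := Neron.genPt R
  haveI : IsPreimmersion η₀ := FlatClosure19.isPreimmersion_gen R
  haveI : Flat η₀ := FlatClosure19.flat_gen R
  let F := Over.pullback η₀
  let f : HK.left ⟶ G.left := i.left ≫ pullback.fst G.hom η₀
  haveI : QuasiCompact (pullback.fst G.hom η₀) := MorphismProperty.pullback_fst _ _ inferInstance
  haveI : QuasiCompact f := inferInstanceAs (QuasiCompact (i.left ≫ pullback.fst G.hom η₀))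
  let H : Over (Spec (CommRingCat.of R)) := Over.mk (f.imageι ≫ G.hom)
  let j : H ⟶ G := Over.homMk f.imageι rfl
  haveI : IsClosedImmersion j.left := inferInstanceAs (IsClosedImmersion f.imageι)
  haveI : Mono j := Over.mono_of_mono_left _
  haveI := FlatClosure19.isSchemeTheoreticallyDominant_toImage f
  have w : f.toImage ≫ H.hom = HK.hom ≫ η₀ := by
    show f.toImage ≫ f.imageι ≫ G.hom = _
    rw [Scheme.Hom.toImage_imageι_assoc, ← Over.w i]
    show (i.left ≫ pullback.fst G.hom η₀) ≫ G.hom = (i.left ≫ pullback.snd G.hom η₀) ≫ η₀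
    rw [Category.assoc, pullback.condition, Category.assoc]
  haveI hflat : Flat H.hom := FlatClosure19.flat_of_dominant R f.toImage H.hom HK.hom w
  let u₀ : HK.left ⟶ pullback H.hom η₀ := pullback.lift f.toImage HK.hom w
  let v : HK ⟶ F.obj H := Over.homMk u₀ (pullback.lift_snd _ _ _)
  have hv : v ≫ F.map j = i := by
    refine Over.OverMorphism.ext (pullback.hom_ext ?_ ?_)
    · show (u₀ ≫ (F.map j).left) ≫ pullback.fst G.hom η₀ = f
      rw [Category.assoc]
      show pullback.lift f.toImage HK.hom w ≫ pullback.lift _ _ _ ≫ pullback.fst G.hom η₀ = f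
      rw [pullback.lift_fst]
      exact (pullback.lift_fst_assoc _ _ _ _).trans f.toImage_imageι
    · exact (Over.w (v ≫ F.map j)).trans (Over.w i).symm
  haveI : IsIso u₀ := by
    haveI : IsClosedImmersion u₀ := by
      haveI : IsClosedImmersion (u₀ ≫ (F.map j).left) := by
        rw [show u₀ ≫ (F.map j).left = i.left from congrArg (fun z => z.left) hv]; infer_instance
      haveI : IsClosedImmersion (F.map j).left := MorphismProperty.of_isPullback
        (GrpFin20.isPullback_map η₀ j) ‹IsClosedImmersion j.left›
      exact IsClosedImmersion.of_comp u₀ (F.map j).left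
    haveI : Mono η₀ := inferInstance
    have hsq : IsPullback (𝟙 HK.left) u₀ f.toImage (pullback.fst H.hom η₀) := by
      refine ⟨⟨by rw [Category.id_comp, pullback.lift_fst]⟩, ⟨PullbackCone.IsLimit.mk _ (fun s => s.fst)
        (fun s => Category.comp_id _) (fun s => ?_) fun s m h₁ _ => (Category.comp_id m).symm.trans h₁⟩⟩
      rw [← cancel_mono (pullback.fst H.hom η₀), Category.assoc, pullback.lift_fst, ← s.condition]
    haveI : IsSchemeTheoreticallyDominant u₀ := .of_isPullback hsq
    exact IsClosedImmersion.isIso_iff_ker_eq_bot.2 u₀.ker_eq_bot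
  haveI : IsIso v := by
    haveI : IsIso v.left := ‹IsIso u₀›
    haveI : IsIso ((Over.forget _).map v) := ‹IsIso u₀›
    exact isIso_of_reflects_iso v (Over.forget _)
  have hvi : ∀ {T : Over (Spec (CommRingCat.of R))} (a : T ⟶ H), (F.map a ≫ inv v) ≫ i = F.map (a ≫ j) := fun a => by
    rw [← hv, Category.assoc, IsIso.inv_hom_id_assoc, Functor.map_comp]
  have hext : ∀ {T : Over (Spec (CommRingCat.of R))}, Flat T.hom → ∀ (x : T ⟶ G) (q : F.obj T ⟶ HK),
      q ≫ i = F.map x → ∃ l : T ⟶ H, l ≫ j = x := by
    intro T hT x q hq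
    obtain ⟨l, hl⟩ := FlatClosure19.exists_lift_image R f T.hom x.left q.left (by
      show q.left ≫ i.left ≫ pullback.fst G.hom η₀ = _
      rw [← Category.assoc, ← Over.comp_left, hq]
      exact pullback.lift_fst _ _ _)
    refine ⟨Over.homMk l ?_, Over.OverMorphism.ext hl⟩
    show l ≫ f.imageι ≫ G.hom = T.hom
    rw [reassoc_of% hl, Over.w]
  haveI : Flat (H ⊗ H).hom := by
    haveI : Flat (fst H H).left := MorphismProperty.pullback_fst H.hom H.hom hflat
    rw [← Over.w (fst H H)]; infer_instance
  obtain ⟨m, hm⟩ := hext (T := H ⊗ H) inferInstance ((fst H H ≫ j) * (snd H H ≫ j))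
    ((F.map (fst H H) ≫ inv v) * (F.map (snd H H) ≫ inv v)) (by
      rw [MonObj.mul_comp, hvi, hvi, Functor.map_mul])
  obtain ⟨e, he⟩ := hext (T := 𝟙_ _) (inferInstanceAs (Flat (𝟙 (Spec (CommRingCat.of R))))) 1 1 (by
    rw [MonObj.one_comp, Functor.map_one])
  obtain ⟨n, hn⟩ := hext (T := H) hflat j⁻¹ (inv v)⁻¹ (by
    have h := hvi (𝟙 H)
    rw [F.map_id, Category.id_comp, Category.id_comp] at h
    rw [GrpObj.inv_comp, h, Functor.map_inv'])
  obtain ⟨_, hjm⟩ := MTRigid29.exists_grpObj_of_subgroup j
    (fun X a b => ⟨lift a b ≫ m, by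
      rw [Category.assoc, hm, MonObj.comp_mul, lift_fst_assoc, lift_snd_assoc]⟩)
    ⟨e, he⟩ (fun X a => ⟨a ≫ n, by rw [Category.assoc, hn, GrpObj.comp_inv]⟩)
  exact ⟨H, inferInstance, j, f.toImage, hjm, inferInstance, hflat,
    IsPullback.of_iso_pullback ⟨w⟩ (asIso u₀) (pullback.lift_fst _ _ _) (pullback.lift_snd _ _ _),
    f.toImage_imageι, f.toImage.ker_eq_bot⟩

end Groth.Agent.S19964
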