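import Groth.Statements.S19967
import Mathlib

set_option autoImplicit false
universe u
open CategoryTheory CategoryTheory.Limits AlgebraicGeometry
open FlatMor

namespace Groth.Agent.S19967

/-- Let f : S' → S be a flat morphism of locally Noetherian schemes, i : C → S and i' : C' → S' closed
immersions with C and C' integral, and g : C' → C with g ≫ i = i' ≫ f. Let φ : C' → C ×_S S' be the
induced morphism and η ∈ S the image of the generic point of C. If φ becomes an isomorphism after
base change along the canonical morphism Spec O_{S,η} → S (that is, after pulling back to (C ×_S S')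
×_S Spec O_{S,η}), then φ is an isomorphism. (In the source S and S' are excellent surfaces over an
algebraically closed field, C and C' regular curves not inside the singular loci, and the
isomorphism over Spec O_{S,η} is part of the definition of a morphism of surface-curve pairs; those
extra hypotheses play no part.) -/
theorem result
    {S S' C C' : Scheme.{u}} [IsLocallyNoetherian S] [IsLocallyNoetherian S']
    (f : S' ⟶ S) [Flat f] (i : C ⟶ S) [IsClosedImmersion i] [IsIntegral C]
    (i' : C' ⟶ S') [IsClosedImmersion i'] [IsIntegral C']
    (g : C' ⟶ C) (hsq : g ≫ i = i' ≫ f)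
    (hgen : IsIso (pullback.snd (pullback.lift g i' hsq)
      (pullback.fst (pullback.fst i f ≫ i) (S.fromSpecStalk (i.base (genericPoint C)))))) :
    IsIso (pullback.lift g i' hsq) := by
  let η := genericPoint C
  have hd : IsDominant (C.fromSpecStalk η) := by
    rw [isDominant_iff, DenseRange, dense_iff_closure_eq]
    refine top_le_iff.1 ?_
    show (⊤ : Set C) ≤ _
    rw [Set.top_eq_univ, ← genericPoint_closure]
    exact closure_mono (Set.singleton_subset_iff.mpr ⟨IsLocalRing.closedPoint _, Scheme.fromSpecStalk_closedPoint⟩)
  haveI := IsSchemeTheoreticallyDominant.of_isDominant (C.fromSpecStalk η)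
  haveI : QuasiCompact (C.fromSpecStalk η) := by
    haveI : IsLocallyNoetherian C := LocallyOfFiniteType.isLocallyNoetherian i
    infer_instance
  let φ := pullback.lift g i' hsq
  haveI : IsClosedImmersion (φ ≫ pullback.snd i f) := by
    rw [pullback.lift_snd]; infer_instance
  haveI : IsClosedImmersion φ := IsClosedImmersion.of_comp φ (pullback.snd i f)
  let q := pullback.fst (pullback.fst i f ≫ i) (S.fromSpecStalk (i.base η))
  let p := pullback.snd (C.fromSpecStalk η) (pullback.fst i f)
  have hw : p ≫ pullback.fst i f ≫ i =
      (pullback.fst (C.fromSpecStalk η) (pullback.fst i f) ≫ Spec.map (i.stalkMap η)) ≫ S.fromSpecStalk (i.base η) := by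
    rw [Category.assoc, Scheme.SpecMap_stalkMap_fromSpecStalk, ← pullback.condition_assoc]
  let t := pullback.lift p _ hw ≫ @inv _ _ _ _ (pullback.snd φ q) hgen ≫ pullback.fst φ q
  have ht : t ≫ φ = p := by
    haveI : IsIso (pullback.snd φ q) := hgen
    show (pullback.lift p _ hw ≫ inv (pullback.snd φ q) ≫ pullback.fst φ q) ≫ φ = p
    rw [Category.assoc, Category.assoc, (pullback.condition (f := φ) (g := q)), IsIso.inv_hom_id_assoc]
    exact pullback.lift_fst _ _ _
  haveI : IsSchemeTheoreticallyDominant p := inferInstance
  have hk : φ.ker = ⊥ := by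
    apply le_bot_iff.mp
    refine (Scheme.Hom.le_ker_comp t φ).trans ?_
    rw [ht, p.ker_eq_bot]
  exact IsClosedImmersion.isIso_of_ker_eq φ (𝟙 _) _ (Category.comp_id φ) (hk.trans (Scheme.Hom.ker_eq_bot _).symm)

end Groth.Agent.S19967
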