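import Groth.Statements.S19968
import Groth.Agent.Lib.RelAmple18.Ops

set_option autoImplicit false
universe u
open CategoryTheory AlgebraicGeometry Opposite
open LinSer

namespace Groth.Agent.S19968

/-- Rational points impose at most one condition each on a complete linear system. Let k be a field, X a
scheme over k, L an invertible O_X-module, and p_1, …, p_n morphisms Spec k → X over k (k-rational
points). Suppose there are n + 1 global sections of L, given as morphisms t_0, …, t_n : O_X → L,
whose values in Γ(X, L) are linearly independent over k. Then there is a nonzero morphism s : O_X →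
L such that no p_i lands in the open X_s where s generates L; that is, s vanishes at every p_i and
the p_i lie on a common member of the complete linear system of L. (The source has X an irreducible
projective variety over the complex numbers, L base-point-free and the points closed, and phrases
this as surjectivity of the incidence correspondence onto X^n for n at most the dimension of the
linear system; only rationality of the points and the dimension count are used, and
base-point-freeness plays no part in this item.) -/
theorem result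
    (k : Type u) [Field k] (X : Scheme.{u}) [X.Over (Spec (CommRingCat.of k))]
    (L : X.Modules) (hL : PicF.IsInvertible L)
    (n : ℕ) (p : Fin n → (Spec (CommRingCat.of k) ⟶ X))
    (hp : ∀ i, p i ≫ (X ↘ Spec (CommRingCat.of k)) = 𝟙 _)
    (t : Fin (n + 1) → (Coh.structureModule X ⟶ L))
    (ht : LinSer.LinIndep k X L (fun j => (L.unitHomEquiv (t j)).val (op ⊤))) :
    ∃ s : Coh.structureModule X ⟶ L, s ≠ 0 ∧
      ∀ i, (p i) (IsLocalRing.closedPoint k) ∉ CohB1.genLocus L s := by
  have hgen : ∀ i, ∃ e : Γ((Scheme.Modules.pullback (p i)).obj L, ⊤), Groth.Agent.M2.IsGenerator e := fun i => by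
    obtain ⟨U, e, hU, -, -, he⟩ := Groth.Agent.Amp.exists_isGenerator (PicLoc.isInvertible_pullback (p i) hL)
      (V := ⊤) (x := IsLocalRing.closedPoint k) trivial
    have hT : U = ⊤ := top_le_iff.mp fun z _ => by rwa [Subsingleton.elim z (IsLocalRing.closedPoint k)]
    subst hT
    exact ⟨e, he⟩
  choose e he using hgen
  let G : (Fin (n + 1) → k) → Γ(L, ⊤) := fun c =>
    ∑ j, (show Γ(X, ⊤) from Coh.toGlobal (X ↘ Spec (CommRingCat.of k)) (c j)) • Groth.Agent.Amp.gval (t j)
  have hc : ∀ i j, ∃ a : Γ(Spec (CommRingCat.of k), ⊤), a • e i =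
      (show Γ((Scheme.Modules.pullback (p i)).obj L, ⊤) from Groth.Agent.M2.pullSec (p i) L (Groth.Agent.Amp.gval (t j))) :=
    fun i j => Groth.Agent.Amp.exists_coeff (he i) _
  choose a ha using hc
  let M : (Fin (n + 1) → k) →ₗ[k] (Fin n → k) :=
    LinearMap.pi fun i => ∑ j, ((Scheme.ΓSpecIso (CommRingCat.of k)).hom (a i j)) • LinearMap.proj j
  have hker : LinearMap.ker M ≠ ⊥ := LinearMap.ker_ne_bot_of_finrank_lt (by simp)
  obtain ⟨c, hc, hc0⟩ := Submodule.exists_mem_ne_zero_of_ne_bot hker
  refine ⟨Groth.Agent.M1.secHom (G c), fun h0 => hc0 (ht c ?_), fun i hi => ?_⟩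
  · have := congrArg Groth.Agent.Amp.gval h0
    rw [Groth.Agent.Amp.gval_secHom] at this
    exact this
  · rw [Groth.Agent.Amp.mem_genLocus_iff hL, Groth.Agent.Amp.gval_secHom,
      ← Groth.Agent.Amp.gen_pullSec_iff (p i) hL (U := ⊤) (y := IsLocalRing.closedPoint k) trivial] at hi
    have happ : ∀ x : k, (p i).app ⊤ (Coh.toGlobal (X ↘ Spec (CommRingCat.of k)) x) =
        (Scheme.ΓSpecIso (CommRingCat.of k)).inv x := fun x => by
      change ((X ↘ Spec (CommRingCat.of k)).appTop ≫ (p i).appTop) ((Scheme.ΓSpecIso (CommRingCat.of k)).inv x) = _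
      rw [← Scheme.Hom.comp_appTop, hp i]
      rfl
    have hsum : (show Γ((Scheme.Modules.pullback (p i)).obj L, ⊤) from Groth.Agent.M2.pullSec (p i) L (G c)) = 0 := by
      have e1 : (show Γ((Scheme.Modules.pullback (p i)).obj L, ⊤) from Groth.Agent.M2.pullSec (p i) L (G c)) =
          (∑ j, (Scheme.ΓSpecIso (CommRingCat.of k)).inv (c j) * a i j) • e i := by
        rw [Finset.sum_smul]
        refine (map_sum _ _ _).trans (Finset.sum_congr rfl fun j _ => ?_)
        rw [mul_smul, ha i j, ← happ]
        exact Groth.Agent.M2.pullSec_smul (p i) L _ _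
      have hz := congrFun (LinearMap.mem_ker.mp hc) i
      simp only [M, LinearMap.pi_apply, LinearMap.coe_sum, Finset.sum_apply, LinearMap.smul_apply,
        LinearMap.proj_apply, smul_eq_mul, Pi.zero_apply] at hz
      have e2 : (∑ j, (Scheme.ΓSpecIso (CommRingCat.of k)).inv (c j) * a i j) = 0 := by
        apply (ConcreteCategory.bijective_of_isIso (Scheme.ΓSpecIso (CommRingCat.of k)).hom).1
        rw [map_sum, map_zero, ← hz]
        refine Finset.sum_congr rfl fun j _ => ?_
        rw [map_mul, Iso.inv_hom_id_apply, mul_comm]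
      rw [e1, e2, zero_smul]
    rw [show Groth.Agent.M2.pullSec (p i) L (G c) = 0 from hsum] at hi
    refine Groth.Agent.Amp.not_gen_zero (PicLoc.isInvertible_pullback (p i) hL) (IsLocalRing.closedPoint k) (Eq.mp (congrArg _ ?_) hi)
    exact map_zero _

end Groth.Agent.S19968
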