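import Groth.Statements.S19969
import Groth.Agent.Lib.WeilClosed.Over

set_option autoImplicit false
universe u
open CategoryTheory MonoidalCategory CartesianMonoidalCategory AlgebraicGeometry
open AlgGrp

namespace Groth.Agent.S19969

/-- Let k be a field, X and Y arbitrary k-schemes and a : Y ×_k X → X a k-morphism such that every open
subscheme U of X is stable under a, in the sense that the preimage of U under the projection Y ×_k X
→ X is contained in the preimage of U under a. Consider the subfunctor X^a of X whose T-valued
points, for a k-scheme T, are the k-morphisms x : T → X with a ∘ (id_Y × x) = x ∘ pr_T as morphisms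
Y ×_k T → X. Then X^a is represented by a closed subscheme of X: there is a closed immersion j : Z →
X over k lying in X^a(Z) through which every element of X^a(T) factors. Neither separatedness of X
nor any finiteness condition on X or Y is assumed. -/
theorem result (k : Type u) [Field k]
    (X Y : Over (Spec (CommRingCat.of k))) (a : Y ⊗ X ⟶ X)
    (hstab : ∀ U : X.left.Opens, (CartesianMonoidalCategory.snd Y X).left ⁻¹ᵁ U ≤ a.left ⁻¹ᵁ U) :
    ∃ (Z : Over (Spec (CommRingCat.of k))) (j : Z ⟶ X), IsClosedImmersion j.left ∧
      (Y ◁ j) ≫ a = CartesianMonoidalCategory.snd Y Z ≫ j ∧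
      ∀ (T : Over (Spec (CommRingCat.of k))) (x : T ⟶ X),
        (Y ◁ x) ≫ a = CartesianMonoidalCategory.snd Y T ≫ x → ∃ z : T ⟶ Z, z ≫ j = x := by
  obtain ⟨Z, j, hj, hZ⟩ := Groth.Agent.WeilClosed.exists_closedSubscheme_over Y X X a (snd Y X)
    (Groth.Agent.WeilClosed.projective_cover_field Y X)
    (Groth.Agent.WeilClosed.stable_cover Y X a hstab)
  refine ⟨Z, j, hj, ?_, fun T x hx => (hZ T x).2 (by rw [hx, whiskerLeft_snd])⟩
  rw [(hZ Z j).1 ⟨𝟙 Z, Category.id_comp j⟩, whiskerLeft_snd]

end Groth.Agent.S19969
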