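import Groth.Statements.S19971
import Groth.Agent.Lib.EpiMul8.Main
-- import your own Groth.Agent.* helpers here

set_option autoImplicit false
universe u
open CategoryTheory CategoryTheory.Limits MonoidalCategory CartesianMonoidalCategory MonObj AlgebraicGeometry
open AbSch

namespace Groth.Agent.S19971

/-- Let S be a scheme and A, B, C abelian S-schemes (commutative S-group schemes which are smooth and
proper over S with connected fibres). Then the group of morphisms from A to the S-sheaf of
extensions of B by C is torsion-free: on the big fppf site of S, if φ is a morphism of abelian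
sheaves from the sheaf of points of A to the first Ext sheaf from the sheaf of points of B with
values in the sheaf of points of C, and n · φ = 0 for some nonzero integer n, then φ = 0. -/
theorem result {S : Scheme.{u}} (A B C : Over S)
    [GrpObj A] [IsCommMonObj A] [Smooth A.hom] [IsProper A.hom]
    (hA : ∀ s : S, ConnectedSpace ↥(A.hom.fiber s))
    [GrpObj B] [IsCommMonObj B] [Smooth B.hom] [IsProper B.hom]
    (hB : ∀ s : S, ConnectedSpace ↥(B.hom.fiber s))
    [GrpObj C] [IsCommMonObj C] [Smooth C.hom] [IsProper C.hom]
    (hC : ∀ s : S, ConnectedSpace ↥(C.hom.fiber s))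
    (φ : (CGrpSh.pts Scheme.fppfPrecoverage A) ⟶ (HomSh.extSh (QuotSh.J Scheme.fppfPrecoverage S) (CGrpSh.pts Scheme.fppfPrecoverage B) 1).obj (CGrpSh.pts Scheme.fppfPrecoverage C))
    (n : ℤ) (hn : n ≠ 0) (h : n • φ = 0) : φ = 0 := by
  haveI := EpiMul8.epi_zsmul A hA n hn
  refine (cancel_epi (n • 𝟙 (CGrpSh.pts Scheme.fppfPrecoverage A))).1 ?_
  rw [Preadditive.zsmul_comp, Category.id_comp, h, comp_zero]

end Groth.Agent.S19971
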