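import Groth.Statements.S19974
import Mathlib

set_option autoImplicit false
universe u v w x
open scoped BigOperators
open DefMod

namespace Groth.Agent.S19974

/-- Let K be a field of characteristic 0, O a commutative K-algebra with a K-linear derivation δ, and D
the ring of differential operators O[∂], presented abstractly as a K-algebra D with an algebra map ι
: O → D and an element ∂ of D such that ∂ ι(f) = ι(f) ∂ + ι(δ f) for every f in O and such that
every element of D is in a unique way a finite sum of terms ι(f_i) ∂^i. Let E be a left D-module,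
given as a K-vector space with a K-algebra map ρ : D → End_K(E), which is finite free as an
O-module. A K-derivation of D with values in the D-bimodule End_K(E) is a K-linear map s with s(PQ)
= s(P) ρ(Q) + ρ(P) s(Q); a K-derivation of O with values in End_K(E) is a K-linear map r with r(fg)
= r(f) ρ(ι g) + ρ(ι f) r(g). Then: (a) for every K-derivation s of D into End_K(E), the pair (r, v)
= (s ∘ ι, s(∂)) satisfies the identity [r(f), ρ(∂)] + [ρ(ι f), v] + r(δ f) = 0 for all f in O; (b)
conversely, for every K-derivation r of O into End_K(E) and every v in End_K(E) satisfying that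
identity for all f, there is exactly one K-derivation s of D into End_K(E) with s ∘ ι = r and s(∂) =
v. In other words s ↦ (s ∘ ι, s(∂)) maps the K-derivations of D injectively onto the pairs
satisfying the identity. -/
theorem result
    (K : Type u) [Field K] [CharZero K]
    (O : Type v) [CommRing O] [Algebra K O] (δ : Derivation K O O)
    (D : Type w) [Ring D] [Algebra K D] (ι : O →ₐ[K] D) (d : D)
    (hd : ∀ f : O, d * ι f = ι f * d + ι (δ f))
    (hbasis : Function.Bijective (fun c : ℕ →₀ O => c.sum (fun i f => ι f * d ^ i)))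
    (E : Type x) [AddCommGroup E] [Module K E] (ρ : D →ₐ[K] Module.End K E)
    (hE : ∃ (n : ℕ) (b : Fin n → E), Function.Bijective (fun c : Fin n → O => ∑ i, ρ (ι (c i)) (b i))) :
    (∀ s : D →ₗ[K] Module.End K E, (∀ P Q : D, s (P * Q) = s P * ρ Q + ρ P * s Q) →
      ∀ f : O, (s (ι f) * ρ d - ρ d * s (ι f)) + (ρ (ι f) * s d - s d * ρ (ι f)) + s (ι (δ f)) = 0) ∧
    ∀ (r : O →ₗ[K] Module.End K E) (v : Module.End K E),
      (∀ f g : O, r (f * g) = r f * ρ (ι g) + ρ (ι f) * r g) →
      (∀ f : O, (r f * ρ d - ρ d * r f) + (ρ (ι f) * v - v * ρ (ι f)) + r (δ f) = 0) →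
      ∃! s : D →ₗ[K] Module.End K E,
        (∀ P Q : D, s (P * Q) = s P * ρ Q + ρ P * s Q) ∧ s ∘ₗ ι.toLinearMap = r ∧ s d = v := by
  classical
  refine ⟨fun s hs f => ?_, fun r v hr hrv => ?_⟩
  · have h1 := congrArg s (hd f)
    rw [hs, map_add, hs] at h1
    linear_combination (norm := abel) -h1
  -- operators on E × E
  let mk : Module.End K E → Module.End K E → Module.End K (E × E) := fun A B =>
    (A ∘ₗ LinearMap.fst K E E + B ∘ₗ LinearMap.snd K E E).prod (A ∘ₗ LinearMap.snd K E E)
  have mk_mul : ∀ A B A' B', mk A B * mk A' B' = mk (A * A') (A * B' + B * A') := by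
    intro A B A' B'
    refine LinearMap.ext fun x => Prod.ext ?_ ?_ <;> simp [mk, Module.End.mul_apply, add_assoc]
  have mk_add : ∀ A B A' B', mk A B + mk A' B' = mk (A + A') (B + B') := by
    intro A B A' B'
    refine LinearMap.ext fun x => Prod.ext ?_ ?_ <;> simp [mk, add_comm, add_left_comm]
  let Af : O →ₗ[K] Module.End K (E × E) :=
    { toFun := fun f => mk (ρ (ι f)) (r f)
      map_add' := fun f g => by simp only [mk_add, map_add]
      map_smul' := fun c f => by
        refine LinearMap.ext fun x => Prod.ext ?_ ?_ <;> simp [mk] }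
  let B : Module.End K (E × E) := mk (ρ d) v
  have hA : ∀ f g, Af (f * g) = Af f * Af g := fun f g => by
    show mk _ _ = mk _ _ * mk _ _
    rw [mk_mul, map_mul, map_mul, hr, add_comm (r f * ρ (ι g))]
  have hB : ∀ f, B * Af f = Af f * B + Af (δ f) := fun f => by
    show mk _ _ * mk _ _ = mk _ _ * mk _ _ + mk _ _
    rw [mk_mul, mk_mul, mk_add, ← map_mul ρ, hd, map_add, map_mul]
    congr 1
    linear_combination (norm := abel) -hrv f
  let e : (ℕ →₀ O) ≃ₗ[K] D := LinearEquiv.ofBijective
    (Finsupp.lsum K fun i => (LinearMap.mulRight K (d ^ i)) ∘ₗ ι.toLinearMap) (by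
      convert hbasis using 1
      exact funext fun c => rfl)
  let Ψ : D →ₗ[K] Module.End K (E × E) :=
    (Finsupp.lsum K fun i => (LinearMap.mulRight K (B ^ i)) ∘ₗ Af) ∘ₗ e.symm.toLinearMap
  have hΨ : ∀ f i, Ψ (ι f * d ^ i) = Af f * B ^ i := fun f i => by
    have he : e (Finsupp.single i f) = ι f * d ^ i := by simp [e]
    rw [← he]
    simp [Ψ]
  have hind : ∀ {p : D → Prop}, (∀ f i, p (ι f * d ^ i)) → p 0 → (∀ a b, p a → p b → p (a + b)) → ∀ P, p P := by
    intro p h1 h0 ha P
    obtain ⟨c, rfl⟩ := e.surjective P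
    induction c using Finsupp.induction_linear with
    | zero => rw [map_zero]; exact h0
    | add a b ha' hb' => rw [map_add]; exact ha _ _ ha' hb'
    | single i f => simp only [e, LinearEquiv.ofBijective_apply, Finsupp.lsum_single, LinearMap.comp_apply, LinearMap.mulRight_apply]; exact h1 f i
  have hAone : Af 1 = 1 := by
    have h1 : r 1 = 0 := by
      have := hr 1 1
      simpa using this
    show mk _ _ = _
    rw [h1]
    refine LinearMap.ext fun x => Prod.ext ?_ ?_ <;> simp [mk]
  have hl : ∀ f P, Ψ (ι f * P) = Af f * Ψ P := fun f => by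
    refine hind (fun g i => ?_) (by simp) (fun a b ha hb => by rw [mul_add, map_add, map_add, ha, hb, mul_add])
    rw [← mul_assoc, ← map_mul, hΨ, hΨ, hA, mul_assoc]
  have hdl : ∀ P, Ψ (d * P) = B * Ψ P := by
    refine hind (fun g i => ?_) (by simp) (fun a b ha hb => by rw [mul_add, map_add, map_add, ha, hb, mul_add])
    rw [← mul_assoc, hd, add_mul, mul_assoc, ← pow_succ', map_add, hΨ, hΨ, hΨ, ← mul_assoc, hB, add_mul, mul_assoc, ← pow_succ']
  have hpow : ∀ i P, Ψ (d ^ i * P) = B ^ i * Ψ P := by
    intro i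
    induction i with
    | zero => simp
    | succ i ih => intro P; rw [pow_succ', mul_assoc, hdl, ih, pow_succ', mul_assoc]
  have hmul : ∀ P Q, Ψ (P * Q) = Ψ P * Ψ Q := by
    intro P Q
    revert P
    refine hind (fun f i => ?_) (by simp) (fun a b ha hb => by rw [add_mul, map_add, map_add, ha, hb, add_mul])
    rw [mul_assoc, hl, hpow, hΨ, mul_assoc]
  have hdiag : ∀ P, ∀ x : E × E, (Ψ P x).2 = ρ P x.2 ∧ (Ψ P (x.1, 0)).1 = ρ P x.1 := by
    have hBi : ∀ i, ∀ x : E × E, ((B ^ i) x).2 = ρ (d ^ i) x.2 ∧ (B ^ i) (x.1, 0) = (ρ (d ^ i) x.1, 0) := by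
      intro i
      induction i with
      | zero => intro x; simp
      | succ i ih =>
        intro x
        simp only [pow_succ', map_mul, Module.End.mul_apply, (ih x).2]
        simp [B, mk, (ih x).1]
    refine hind (fun f i x => ?_) (by simp) (fun a b ha hb x => by simp [(ha x).1, (hb x).1, (ha x).2, (hb x).2])
    simp only [hΨ, map_mul, Module.End.mul_apply, (hBi i x).2]
    simp [Af, mk, (hBi i x).1]
  let s : D →ₗ[K] Module.End K E :=
    { toFun := fun P => LinearMap.fst K E E ∘ₗ Ψ P ∘ₗ LinearMap.inr K E E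
      map_add' := fun P Q => by simp only [map_add, LinearMap.comp_add, LinearMap.add_comp]
      map_smul' := fun c P => by simp only [map_smul, LinearMap.comp_smul, LinearMap.smul_comp, RingHom.id_apply] }
  have hs : ∀ P Q, s (P * Q) = s P * ρ Q + ρ P * s Q := fun P Q => LinearMap.ext fun y => by
    show (Ψ (P * Q) (0, y)).1 = (Ψ P (0, ρ Q y)).1 + ρ P ((Ψ Q (0, y)).1)
    rw [hmul, Module.End.mul_apply,
      show Ψ Q (0, y) = ((Ψ Q (0, y)).1, 0) + (0, ρ Q y) from Prod.ext (by simp) (by simp [(hdiag Q (0, y)).1]),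
      map_add, Prod.fst_add, (hdiag P ((Ψ Q (0, y)).1, 0)).2, add_comm]
    simp
  refine ⟨s, ⟨hs, ?_, ?_⟩, ?_⟩
  · refine LinearMap.ext fun f => LinearMap.ext fun y => ?_
    show (Ψ (ι f) (0, y)).1 = r f y
    rw [show ι f = ι f * d ^ 0 by simp, hΨ, pow_zero, mul_one]
    simp [Af, mk]
  · refine LinearMap.ext fun y => ?_
    show (Ψ d (0, y)).1 = v y
    rw [show d = ι 1 * d ^ 1 by simp, hΨ, pow_one, hAone, one_mul]
    simp [B, mk]
  · rintro s' ⟨hs', hr', hv'⟩
    have h1 : ∀ f, s' (ι f) = r f := fun f => LinearMap.congr_fun hr' f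
    have hsd : ∀ i, s' (d ^ i) = s (d ^ i) := by
      intro i
      induction i with
      | zero =>
        rw [pow_zero, ← map_one ι, h1]
        refine LinearMap.ext fun y => ?_
        show _ = (Ψ (ι 1) (0, y)).1
        rw [show ι (1 : O) = ι 1 * d ^ 0 by simp, hΨ, pow_zero, mul_one]
        simp [Af, mk]
      | succ i ih =>
        rw [pow_succ, hs', hs, ih, hv']
        congr 2
        refine LinearMap.ext fun y => ?_
        show v y = (Ψ d (0, y)).1
        rw [show d = ι 1 * d ^ 1 by simp, hΨ, pow_one, hAone, one_mul]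
        simp [B, mk]
    refine LinearMap.ext (hind (fun f i => ?_) (by simp) (fun a b ha hb => by rw [map_add, map_add, ha, hb]))
    rw [hs', hs, hsd, h1]
    congr 2
    refine LinearMap.ext fun y => ?_
    show r f y = (Ψ (ι f) (0, y)).1
    rw [show ι f = ι f * d ^ 0 by simp, hΨ, pow_zero, mul_one]
    simp [Af, mk]

end Groth.Agent.S19974
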