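import Groth.Statements.S19976
import Groth.Agent.Lib.StrongApproxH28.Lines

set_option autoImplicit false
universe u
open NumberField

namespace Groth.Agent.S19976

open Groth.Agent.StrongApproxH28
open WithZero (exp exp_zero exp_lt_exp exp_le_exp)

/-- Strong approximation off a place v₀ for the complement of a closed subset of codimension at least 2
in affine n-space over a number field, here in the following explicit form for a finite place v₀ and
the standard integral model. Let k be a number field with ring of integers O_k, n ≥ 1, and f_1, …,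
f_m polynomials in n variables with coefficients in O_k whose common zero locus F in 𝔸ⁿ_k has
codimension at least 2, i.e. the k-algebra k[x_1, …, x_n]/(f_1, …, f_m) has Krull dimension at most
n − 2 (dimension −∞ when F is empty). Put U = 𝔸ⁿ_k ∖ F and 𝒰 = 𝔸ⁿ_{O_k} ∖ V(f_1, …, f_m), so that
for a finite place v the O_v-points of 𝒰 are the P ∈ O_vⁿ with some f_j(P) a unit. Let S_f be a
finite set of finite places containing v₀ (the set S of the source is S_f together with all infinite
places). Suppose given, for every v ∈ S_f other than v₀, a point P_v ∈ U(k_v) with an open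
neighbourhood N_v ⊆ k_vⁿ; for every infinite place w, a point P_w ∈ U(k_w) with an open
neighbourhood N_w ⊆ k_wⁿ; for every v in a finite set T of finite places disjoint from S_f, a point
Q_v ∈ 𝒰(O_v) with an open neighbourhood W_v ⊆ k_vⁿ; and suppose 𝒰(O_v) is nonempty for every finite
place v ∉ S_f. Then there is a point P ∈ kⁿ whose coordinates are v-integral and some f_j(P) is a
v-unit at every finite place v ∉ S_f (so P ∈ 𝒰(O_S)), and whose image lies in N_v for v ∈ S_f ∖
{v₀}, in N_w for every infinite w, and in W_v for v ∈ T. (The source states strong approximation off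
an arbitrary place v₀ and for every model over O_S; this row is the case of a finite v₀ and of the
standard model, approximation at a basic open set of the restricted product.) -/
theorem result
    (k : Type u) [Field k] [NumberField k] (n : ℕ) (hn : 1 ≤ n) (m : ℕ)
    (f : Fin m → MvPolynomial (Fin n) (NumberField.RingOfIntegers k))
    (hcodim : ringKrullDim (MvPolynomial (Fin n) k ⧸ Ideal.span (Set.range fun j =>
        MvPolynomial.map (algebraMap (NumberField.RingOfIntegers k) k) (f j))) + 2 ≤ (n : WithBot ℕ∞))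
    (v₀ : IsDedekindDomain.HeightOneSpectrum (NumberField.RingOfIntegers k)) (Sf : Finset (IsDedekindDomain.HeightOneSpectrum (NumberField.RingOfIntegers k))) (hv₀ : v₀ ∈ Sf)
    (Pf : (v : IsDedekindDomain.HeightOneSpectrum (NumberField.RingOfIntegers k)) → (Fin n → v.adicCompletion k))
    (hPf : ∀ v ∈ Sf, v ≠ v₀ → ∃ j, MvPolynomial.aeval (Pf v)
      (MvPolynomial.map (algebraMap (NumberField.RingOfIntegers k) k) (f j)) ≠ 0)
    (Nf : (v : IsDedekindDomain.HeightOneSpectrum (NumberField.RingOfIntegers k)) → Set (Fin n → v.adicCompletion k))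
    (hNf : ∀ v ∈ Sf, v ≠ v₀ → IsOpen (Nf v) ∧ Pf v ∈ Nf v)
    (Pi : (w : NumberField.InfinitePlace k) → (Fin n → w.Completion))
    (hPi : ∀ w, ∃ j, MvPolynomial.aeval (Pi w)
      (MvPolynomial.map (algebraMap (NumberField.RingOfIntegers k) k) (f j)) ≠ 0)
    (Ni : (w : NumberField.InfinitePlace k) → Set (Fin n → w.Completion))
    (hNi : ∀ w, IsOpen (Ni w) ∧ Pi w ∈ Ni w)
    (T : Finset (IsDedekindDomain.HeightOneSpectrum (NumberField.RingOfIntegers k))) (hT : Disjoint T Sf)
    (Q : (v : IsDedekindDomain.HeightOneSpectrum (NumberField.RingOfIntegers k)) → (Fin n → v.adicCompletion k))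
    (hQ : ∀ v ∈ T, (∀ i, Q v i ∈ v.adicCompletionIntegers k) ∧ ∃ j, Valued.v (MvPolynomial.aeval (Q v)
      (MvPolynomial.map (algebraMap (NumberField.RingOfIntegers k) k) (f j))) = 1)
    (W : (v : IsDedekindDomain.HeightOneSpectrum (NumberField.RingOfIntegers k)) → Set (Fin n → v.adicCompletion k))
    (hW : ∀ v ∈ T, IsOpen (W v) ∧ Q v ∈ W v)
    (hne : ∀ v : IsDedekindDomain.HeightOneSpectrum (NumberField.RingOfIntegers k), v ∉ Sf → ∃ R : Fin n → v.adicCompletion k,
      (∀ i, R i ∈ v.adicCompletionIntegers k) ∧ ∃ j, Valued.v (MvPolynomial.aeval R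
        (MvPolynomial.map (algebraMap (NumberField.RingOfIntegers k) k) (f j))) = 1) :
    ∃ P : Fin n → k,
      (∀ v : IsDedekindDomain.HeightOneSpectrum (NumberField.RingOfIntegers k), v ∉ Sf → (∀ i, v.valuation k (P i) ≤ 1) ∧
        ∃ j, v.valuation k (MvPolynomial.aeval P
          (MvPolynomial.map (algebraMap (NumberField.RingOfIntegers k) k) (f j))) = 1) ∧
      (∀ v ∈ Sf, v ≠ v₀ → (fun i => algebraMap k (v.adicCompletion k) (P i)) ∈ Nf v) ∧
      (∀ w : NumberField.InfinitePlace k, (fun i => algebraMap k w.Completion (P i)) ∈ Ni w) ∧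
      (∀ v ∈ T, (fun i => algebraMap k (v.adicCompletion k) (P i)) ∈ W v) := by
  classical
  let ι : NumberField.RingOfIntegers k →+* k := algebraMap _ k
  have hι : ∀ (v : IsDedekindDomain.HeightOneSpectrum (NumberField.RingOfIntegers k)) r,
      v.valuation k (ι r) ≤ 1 := fun v r => v.valuation_le_one r
  have hev : ∀ {S : Type u} [CommRing S] [Algebra k S] (x : Fin n → S) (p : MvPolynomial (Fin n) (NumberField.RingOfIntegers k)),
      MvPolynomial.aeval x (MvPolynomial.map ι p) = MvPolynomial.eval₂ ((algebraMap k S).comp ι) x p :=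
    fun x p => by rw [MvPolynomial.aeval_def, MvPolynomial.eval₂_map]
  have hevk : ∀ (x : Fin n → k) (p : MvPolynomial (Fin n) (NumberField.RingOfIntegers k)),
      MvPolynomial.eval x (MvPolynomial.map ι p) = MvPolynomial.eval₂ ι x p :=
    fun x p => MvPolynomial.eval_map ι x p
  have hιv : ∀ (v : IsDedekindDomain.HeightOneSpectrum (NumberField.RingOfIntegers k)) r,
      Valued.v (((algebraMap k (v.adicCompletion k)).comp ι) r) ≤ 1 := fun v r => by
    rw [RingHom.comp_apply, valued_algebraMap]; exact hι v r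
  have hexp1 : (exp (-1 : ℤ) : WithZero (Multiplicative ℤ)) < 1 := by
    rw [← exp_zero, exp_lt_exp]; norm_num
  have he1 : ∀ N : ℕ, 1 ≤ N → (exp (-(N : ℤ)) : WithZero (Multiplicative ℤ)) < 1 := fun N hN => by
    rw [← exp_zero, exp_lt_exp]; omega
  -- a form nonvanishing on a direction
  obtain ⟨n, rfl⟩ : ∃ n', n = n' + 1 := ⟨n - 1, by omega⟩
  obtain ⟨r₁, hr₁I, hr₁0, -⟩ := exists_invariant _ hcodim (1 : Fin (n + 1) → k) one_ne_zero
  obtain ⟨d₁, hd₁, g, hgI, hg⟩ := exists_multiple_mem f hr₁I
  have hg0 : g ≠ 0 := by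
    intro h
    rw [h, map_zero, eq_comm, mul_eq_zero, MvPolynomial.C_eq_zero] at hg
    exact hg.elim (fun h => hd₁ ((map_eq_zero_iff _ (IsFractionRing.injective _ k)).1 h)) hr₁0
  set D := g.totalDegree with hD
  have hgD : MvPolynomial.homogeneousComponent D g * MvPolynomial.X 0 ≠ 0 := by
    refine mul_ne_zero ?_ (MvPolynomial.X_ne_zero 0)
    obtain ⟨s, hs, hsD⟩ := Finset.exists_mem_eq_sup _ (MvPolynomial.support_nonempty.2 hg0)
      (fun s => Finsupp.degree s)
    intro h
    have h1 := congrArg (MvPolynomial.coeff s) h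
    rw [MvPolynomial.coeff_homogeneousComponent, MvPolynomial.coeff_zero, if_pos] at h1
    · exact MvPolynomial.mem_support_iff.1 hs h1
    · rw [hD, ← hsD]; rfl
  obtain ⟨u, hu⟩ : ∃ u : Fin (n + 1) → NumberField.RingOfIntegers k,
      MvPolynomial.eval u (MvPolynomial.homogeneousComponent D g * MvPolynomial.X 0) ≠ 0 := by
    by_contra h
    push Not at h
    exact hgD (MvPolynomial.funext fun x => by rw [h x, map_zero])
  rw [map_mul, MvPolynomial.eval_X, mul_ne_zero_iff] at hu
  have huk : (fun i => ι (u i)) ≠ 0 := fun h =>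
    hu.2 ((map_eq_zero_iff ι (IsFractionRing.injective _ k)).1 (congrFun h 0))
  obtain ⟨r₂, hr₂I, hr₂0, hr₂inv⟩ := exists_invariant _ hcodim _ huk
  obtain ⟨d, hd, r, hrI, hr⟩ := exists_multiple_mem f hr₂I
  have hrk : MvPolynomial.map ι r ≠ 0 := by
    rw [hr]
    exact mul_ne_zero (by simpa [MvPolynomial.C_eq_zero] using
      (map_ne_zero_iff _ (IsFractionRing.injective _ k)).2 hd) hr₂0
  have hrinv : ∀ (P : Fin (n + 1) → k) (s : k),
      MvPolynomial.eval₂ ι (fun i => P i + s * ι (u i)) r = MvPolynomial.eval₂ ι P r := fun P s => by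
    rw [← hevk, ← hevk, hr, map_mul, map_mul, hr₂inv P s, MvPolynomial.eval_C, MvPolynomial.eval_C]
  -- the bad primes of the direction
  let cc : NumberField.RingOfIntegers k :=
    ((Nat.factorial D : ℕ) : NumberField.RingOfIntegers k) * MvPolynomial.eval u (MvPolynomial.homogeneousComponent D g)
  have hcc : cc ≠ 0 := mul_ne_zero (Nat.cast_ne_zero.2 (Nat.factorial_ne_zero D)) hu.1
  let Tsm := (finite_dvd k hcc).toFinset.filter fun v => v ∉ Sf ∧ v ∉ T
  let F0 := Sf.erase v₀ ∪ T ∪ Tsm
  choose R hR1 hR2 using hne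
  -- centres at the finite places
  have hcen : ∀ v ∈ F0, ∃ q : Fin (n + 1) → k, ∃ N : ℕ, 1 ≤ N ∧ ∀ a : Fin (n + 1) → k,
      (∀ i, v.valuation k (a i - q i) ≤ exp (-(N : ℤ))) →
      (v ∈ Sf → v ≠ v₀ → (fun i => algebraMap k (v.adicCompletion k) (a i)) ∈ Nf v) ∧
      (v ∈ T → (fun i => algebraMap k (v.adicCompletion k) (a i)) ∈ W v) ∧
      (v ∉ Sf → (∀ i, v.valuation k (a i) ≤ 1) ∧
        ∃ j, v.valuation k (MvPolynomial.eval₂ ι a (f j)) = 1) := by
    intro v hv
    -- integrality and unit from closeness to an integral point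
    have key : ∀ (x : Fin (n + 1) → v.adicCompletion k), (∀ i, x i ∈ v.adicCompletionIntegers k) →
        (∃ j, Valued.v (MvPolynomial.aeval x (MvPolynomial.map ι (f j))) = 1) →
        ∀ a : Fin (n + 1) → k, (∀ i, Valued.v (algebraMap k (v.adicCompletion k) (a i) - x i) < 1) →
        (∀ i, v.valuation k (a i) ≤ 1) ∧ ∃ j, v.valuation k (MvPolynomial.eval₂ ι a (f j)) = 1 := by
      intro x hx ⟨j, hj⟩ a ha
      refine ⟨fun i => ?_, j, ?_⟩
      · rw [← valued_algebraMap, ← sub_add_cancel (algebraMap k (v.adicCompletion k) (a i)) (x i)]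
        exact (Valued.v.map_add _ _).trans (max_le (ha i).le (hx i))
      · rw [← valued_algebraMap, MvPolynomial.hom_eval₂]
        rw [hev] at hj
        have h := val_eval_sub_lt (Valued.v) ((algebraMap k (v.adicCompletion k)).comp ι) (hιv v) hx ha (f j)
        rw [← hj] at h
        exact (Valuation.map_eq_of_sub_lt _ h).trans hj
    by_cases hvS : v ∈ Sf
    · have hv0 : v ≠ v₀ := by
        intro h
        subst h
        simp only [F0, Tsm, Finset.mem_union, Finset.mem_erase, ne_eq, not_true_eq_false, false_and,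
          Finset.mem_filter, false_or] at hv
        exact hv.elim (fun h => Finset.disjoint_left.1 hT h hvS) (fun h => h.2.1 hvS)
      obtain ⟨q, N, hN, -, ha⟩ := exists_center_pi v (Nf v) (hNf v hvS hv0).1 _ (hNf v hvS hv0).2
      exact ⟨q, N, hN, fun a h => ⟨fun _ _ => ha a h,
        fun h' => absurd hvS (Finset.disjoint_left.1 hT h'), fun h' => absurd hvS h'⟩⟩
    · obtain ⟨x, U, hU, hxU, hx1, hx2, hUW⟩ : ∃ (x : Fin (n + 1) → v.adicCompletion k)
          (U : Set (Fin (n + 1) → v.adicCompletion k)), IsOpen U ∧ x ∈ U ∧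
          (∀ i, x i ∈ v.adicCompletionIntegers k) ∧
          (∃ j, Valued.v (MvPolynomial.aeval x (MvPolynomial.map ι (f j))) = 1) ∧ (v ∈ T → U = W v) := by
        by_cases hvT : v ∈ T
        · exact ⟨Q v, W v, (hW v hvT).1, (hW v hvT).2, (hQ v hvT).1, (hQ v hvT).2, fun _ => rfl⟩
        · exact ⟨R v hvS, Set.univ, isOpen_univ, trivial, hR1 v hvS, hR2 v hvS, fun h => absurd h hvT⟩
      obtain ⟨q, N, hN, hq, ha⟩ := exists_center_pi v U hU x hxU
      refine ⟨q, N, hN, fun a h => ⟨fun h' => absurd h' hvS, fun h' => hUW h' ▸ ha a h,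
        fun _ => key x hx1 hx2 a fun i => ?_⟩⟩
      rw [← sub_add_sub_cancel (algebraMap k (v.adicCompletion k) (a i)) (algebraMap k _ (q i)) (x i)]
      refine (Valued.v.map_add _ _).trans_lt (max_lt ?_ ((hq i).trans_lt hexp1))
      rw [← map_sub, valued_algebraMap]
      exact (h i).trans_lt (he1 N hN)
  choose! q N hN hq using hcen
  let N₀ := ∑ v ∈ F0, N v
  have hN₀ : ∀ v ∈ F0, exp (-(N₀ : ℤ)) ≤ (exp (-(N v : ℤ)) : WithZero (Multiplicative ℤ)) := fun v hv =>
    exp_le_exp.2 (by
      have : N v ≤ N₀ := Finset.single_le_sum (fun w _ => Nat.zero_le (N w)) hv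
      omega)
  have hv₀F : v₀ ∉ F0 := by
    simp only [F0, Tsm, Finset.mem_union, Finset.mem_erase, ne_eq, not_true_eq_false, false_and,
      Finset.mem_filter, false_or, not_or]
    exact ⟨fun h => Finset.disjoint_left.1 hT h hv₀, fun h => h.2.1 hv₀⟩
  -- infinite places: shrink to avoid the zero locus of `r`
  have w₀ : NumberField.InfinitePlace k := Classical.arbitrary _
  let Z : (w : NumberField.InfinitePlace k) → Set (Fin (n + 1) → w.Completion) :=
    fun w => {x | w = w₀ → MvPolynomial.aeval x (MvPolynomial.map ι r) ≠ 0}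
  have hZo : ∀ w, IsOpen (Z w) := by
    intro w
    by_cases h : w = w₀
    · simp only [Z, h, forall_const]
      refine isOpen_ne_fun ?_ continuous_const
      simp only [MvPolynomial.aeval_def, ← MvPolynomial.eval_map]
      exact MvPolynomial.continuous_eval _
    · simp [Z, h]
  have hZd : ∀ w, ∃ x, x ∈ Ni w ∧ x ∈ Z w := by
    intro w
    by_cases h : w = w₀
    · obtain ⟨e, he, hball⟩ := Metric.isOpen_iff.1 (hNi w).1 (Pi w) (hNi w).2
      by_contra hcon
      push Not at hcon
      refine hrk (MvPolynomial.map_injective (algebraMap k w.Completion) (RingHom.injective _) ?_)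
      rw [map_zero]
      refine MvPolynomial.funext_set (fun i => Metric.ball (Pi w i) e) (fun i => ?_) fun x hx => ?_
      · obtain ⟨N, hN⟩ := exists_nat_gt (1 / e)
        have hN0 : 0 < (N : ℝ) := lt_trans (by positivity) hN
        refine Set.infinite_of_injective_forall_mem
          (f := fun j : ℕ => Pi w i + algebraMap k w.Completion (((j + N : ℕ) : k))⁻¹) (fun a b hab => ?_) fun j => ?_
        · have h1 := (algebraMap k w.Completion).injective (add_left_cancel hab)
          have := Nat.cast_injective (inv_injective h1)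
          omega
        · rw [Metric.mem_ball, dist_eq_norm, add_sub_cancel_left,
            NumberField.InfinitePlace.Completion.algebraMap_apply, NumberField.InfinitePlace.Completion.norm_coe]
          have hw : w (((j + N : ℕ) : k)) = ((j + N : ℕ) : ℝ) := by
            rw [← NumberField.InfinitePlace.norm_embedding_eq, map_natCast, Complex.norm_natCast]
          show w (((j + N : ℕ) : k))⁻¹ < e
          rw [map_inv₀, hw]
          have hjN : (N : ℝ) ≤ ((j + N : ℕ) : ℝ) := by exact_mod_cast Nat.le_add_left N j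
          refine (inv_lt_comm₀ (lt_of_lt_of_le hN0 hjN) he).2 ?_
          rw [← one_div]
          exact lt_of_lt_of_le hN hjN
      · rw [map_zero, MvPolynomial.eval_map, ← MvPolynomial.aeval_def]
        have h1 := hcon x (hball (by rw [Metric.mem_ball, dist_pi_lt_iff he]; exact fun i => hx i trivial))
        simpa [Z, h] using h1
    · exact ⟨Pi w, (hNi w).2, fun h' => absurd h' h⟩
  choose x hxN hxZ using hZd
  have heps : ∀ w, ∃ e : ℝ, 0 < e ∧ ∀ y, dist y (x w) < e → y ∈ Ni w ∧ y ∈ Z w := by
    intro w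
    obtain ⟨e, he, h⟩ := Metric.isOpen_iff.1 ((hNi w).1.inter (hZo w)) (x w) ⟨hxN w, hxZ w⟩
    exact ⟨e, he, fun y hy => h hy⟩
  choose e he hball using heps
  obtain ⟨ε, hε, hεe⟩ : ∃ ε : ℝ, 0 < ε ∧ ∀ w, ε ≤ e w :=
    ⟨Finset.univ.inf' Finset.univ_nonempty e, (Finset.lt_inf'_iff _).2 fun w _ => he w,
      fun w => Finset.inf'_le _ (Finset.mem_univ w)⟩
  -- targets in `k`
  have hT0 : ∀ i, ∃ t : k, ∀ w : NumberField.InfinitePlace k,
      dist (algebraMap k w.Completion t) (x w i) < ε / 4 := by
    intro i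
    obtain ⟨t, ht⟩ := (NumberField.InfiniteAdeleRing.denseRange_algebraMap (K := k)).exists_mem_open
      (isOpen_set_pi Set.finite_univ fun w _ => Metric.isOpen_ball (x := x w i) (ε := ε / 4))
      ⟨fun w => x w i, fun w _ => Metric.mem_ball_self (by positivity)⟩
    exact ⟨t, fun w => ht w trivial⟩
  choose T0 hT0 using hT0
  have hnorm : ∀ (w : NumberField.InfinitePlace k) (a b : k),
      dist (algebraMap k w.Completion a) (algebraMap k w.Completion b) = w (a - b) := by
    intro w a b
    rw [dist_eq_norm, ← map_sub, NumberField.InfinitePlace.Completion.algebraMap_apply,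
      NumberField.InfinitePlace.Completion.norm_coe]
    rfl
  have hclose : ∀ a : Fin (n + 1) → k, (∀ i (w : NumberField.InfinitePlace k), w (a i - T0 i) < ε / 2) →
      ∀ w : NumberField.InfinitePlace k,
        (fun i => algebraMap k w.Completion (a i)) ∈ Ni w ∧
        (fun i => algebraMap k w.Completion (a i)) ∈ Z w := by
    intro a ha w
    refine hball w _ ((dist_pi_lt_iff (he w)).2 fun i => ?_)
    refine (dist_triangle _ (algebraMap k w.Completion (T0 i)) _).trans_lt ?_
    rw [hnorm]
    have := ha i w; have := hT0 i w; have := hεe w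
    linarith
  choose P₀ hP₀int hP₀F hP₀inf using fun i =>
    strong_approx v₀ F0 hv₀F (fun v => q v i) N₀ (T0 i) (ε / 4) (by positivity)
  have hr0 : MvPolynomial.eval₂ ι P₀ r ≠ 0 := by
    intro h
    have h1 := (hclose P₀ (fun i w => (hP₀inf i w).trans (by linarith)) w₀).2 rfl
    rw [hev, ← MvPolynomial.hom_eval₂, h, map_zero] at h1
    exact h1 rfl
  let Bad := (finite_valuation_ne_one k hr0).toFinset.filter fun v => v ∉ Sf ∧ v ∉ F0
  have hchoice : ∀ v ∈ Bad, ∃ s : NumberField.RingOfIntegers k, ∀ a : Fin (n + 1) → k, ∀ s' : k,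
      v.valuation k (s' - ι s) < 1 → (∀ i, a i = P₀ i + s' * ι (u i)) →
        ∃ j, v.valuation k (MvPolynomial.eval₂ ι a (f j)) = 1 := by
    intro v hv
    simp only [Bad, Finset.mem_filter] at hv
    have hvne : v ≠ v₀ := fun h => hv.2.1 (h ▸ hv₀)
    have hz : ∀ i, ∃ z : NumberField.RingOfIntegers k, v.valuation k (ι z - P₀ i) < 1 :=
      fun i => by simpa using v.exists_valuation_sub_lt_of_integer (hP₀int i v hv.2.2 hvne) 1
    choose z hz using hz
    have hvc : cc ∉ v.asIdeal := by
      intro h
      refine hv.2.2 (Finset.mem_union_right _ (Finset.mem_filter.2 ⟨(finite_dvd k hcc).mem_toFinset.2 h, hv.2.1, ?_⟩))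
      exact fun h' => hv.2.2 (Finset.mem_union_left _ (Finset.mem_union_right _ h'))
    obtain ⟨hdeg, hco⟩ := coeff_top_line g z u D le_rfl
    obtain ⟨s, hs⟩ := exists_root_free (k := k) v (D := D)
      (fun h => hvc (Ideal.mul_mem_right _ _ h)) _ hdeg
      (by rw [hco]; exact fun h => hvc (Ideal.mul_mem_left _ _ h))
    refine ⟨s, fun a s' hs' ha => ?_⟩
    let zs : Fin (n + 1) → k := fun i => ι (z i + s * u i)
    have hzs : ∀ i, v.valuation k (zs i) ≤ 1 := fun i => hι v _
    have hclose' : ∀ i, v.valuation k (a i - zs i) < 1 := by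
      intro i
      have e : a i - zs i = -(ι (z i) - P₀ i) + (s' - ι s) * ι (u i) := by
        simp only [zs, map_add, map_mul, ha i]; ring
      rw [e]
      refine (Valuation.map_add _ _ _).trans_lt (max_lt (by rw [Valuation.map_neg]; exact hz i) ?_)
      rw [map_mul]
      exact (mul_le_of_le_one_right' (hι v _)).trans_lt hs'
    have hga : v.valuation k (MvPolynomial.eval₂ ι a g) = 1 := by
      have h1 : v.valuation k (MvPolynomial.eval₂ ι zs g) = 1 := by
        rw [show zs = ι ∘ (fun i => z i + s * u i) from rfl, ← MvPolynomial.eval₂_comp]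
        refine (v.valuation_eq_one_iff_notMem (K := k)).2 ?_
        convert hs using 2
        rw [← Polynomial.coe_evalRingHom, MvPolynomial.aeval_def, MvPolynomial.hom_eval₂]
        refine congrArg₂ (fun φ x => MvPolynomial.eval₂ φ x g) (RingHom.ext fun b => ?_) (funext fun i => ?_)
        · simp only [RingHom.comp_apply, RingHom.id_apply, Polynomial.algebraMap_eq,
            Polynomial.coe_evalRingHom, Polynomial.eval_C]
        · simp only [Polynomial.coe_evalRingHom, Polynomial.eval_add, Polynomial.eval_mul,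
            Polynomial.eval_C, Polynomial.eval_X]
          ring
      have h2 := val_eval_sub_lt (v.valuation k) ι (hι v) hzs hclose' g
      rw [← h1] at h2
      exact (Valuation.map_eq_of_sub_lt _ h2).trans h1
    refine exists_unit_of_mem (v.valuation k) ι (hι v) (fun i => ?_) f hgI hga
    rw [← sub_add_cancel (a i) (zs i)]
    exact (Valuation.map_add _ _ _).trans (max_le (hclose' i).le (hzs i))
  choose! sb hsb using hchoice
  obtain ⟨M, hM, hMu⟩ : ∃ M : ℝ, 0 < M ∧ ∀ i (w : NumberField.InfinitePlace k), w (ι (u i)) ≤ M :=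
    ⟨1 + ∑ i, ∑ w : NumberField.InfinitePlace k, w (ι (u i)), by
      have : 0 ≤ ∑ i, ∑ w : NumberField.InfinitePlace k, w (ι (u i)) :=
        Finset.sum_nonneg fun i _ => Finset.sum_nonneg fun w _ => apply_nonneg w _
      linarith, fun i w => le_trans ((Finset.single_le_sum (fun w' _ => apply_nonneg w' _)
        (Finset.mem_univ w)).trans (Finset.single_le_sum (f := fun j => ∑ w : NumberField.InfinitePlace k, w (ι (u j)))
        (fun j _ => Finset.sum_nonneg fun w' _ => apply_nonneg w' _) (Finset.mem_univ i)))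
        (le_add_of_nonneg_left zero_le_one)⟩
  have hv₀B : v₀ ∉ F0 ∪ Bad := by
    simp only [Finset.mem_union, not_or, Bad, Finset.mem_filter]
    exact ⟨hv₀F, fun h => h.2.1 hv₀⟩
  obtain ⟨s, hsint, hsF, hsw⟩ := strong_approx v₀ (F0 ∪ Bad) hv₀B
    (fun v => if v ∈ F0 then 0 else ι (sb v)) (N₀ + 1) 0 (ε / (4 * M)) (by positivity)
  let P : Fin (n + 1) → k := fun i => P₀ i + s * ι (u i)
  have hPinf := hclose P fun i w => by
    have e : P i - T0 i = (P₀ i - T0 i) + s * ι (u i) := by simp only [P]; ring
    rw [e]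
    refine (map_add_le_add w.1 _ _).trans_lt ?_
    show w (P₀ i - T0 i) + w (s * ι (u i)) < _
    rw [map_mul]
    have h1 := hP₀inf i w
    have h2 : w s < ε / (4 * M) := by simpa using hsw w
    have h3 : w s * w (ι (u i)) ≤ ε / (4 * M) * M :=
      mul_le_mul h2.le (hMu i w) (apply_nonneg w _) (by positivity)
    have h4 : ε / (4 * M) * M = ε / 4 := by field_simp
    linarith
  have hPF : ∀ v ∈ F0, (v ∈ Sf → v ≠ v₀ → (fun i => algebraMap k (v.adicCompletion k) (P i)) ∈ Nf v) ∧
      (v ∈ T → (fun i => algebraMap k (v.adicCompletion k) (P i)) ∈ W v) ∧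
      (v ∉ Sf → (∀ i, v.valuation k (P i) ≤ 1) ∧ ∃ j, v.valuation k (MvPolynomial.eval₂ ι P (f j)) = 1) := by
    intro v hv
    refine hq v hv P fun i => ?_
    have e : P i - q v i = (P₀ i - q v i) + s * ι (u i) := by simp only [P]; ring
    rw [e]
    refine (Valuation.map_add _ _ _).trans (max_le ((hP₀F i v hv).trans (hN₀ v hv)) ?_)
    have h1 := hsF v (Finset.mem_union_left _ hv)
    rw [if_pos hv, sub_zero] at h1
    rw [map_mul]
    refine (mul_le_of_le_one_right' (hι v _)).trans (h1.trans (le_trans ?_ (hN₀ v hv)))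
    exact exp_le_exp.2 (by push_cast; omega)
  refine ⟨P, fun v hv => ?_, fun v hv hv0 => ?_, fun w => (hPinf w).1, fun v hv => ?_⟩
  · have haev : ∀ j, MvPolynomial.aeval P (MvPolynomial.map ι (f j)) = MvPolynomial.eval₂ ι P (f j) :=
      fun j => hevk P (f j)
    simp only [ι] at haev
    simp only [haev]
    have hvne : v ≠ v₀ := fun h => hv (h ▸ hv₀)
    by_cases hvF : v ∈ F0
    · exact (hPF v hvF).2.2 hv
    · have hsv : v.valuation k s ≤ 1 := by
        by_cases hvB : v ∈ Bad
        · have h1 := hsF v (Finset.mem_union_right _ hvB)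
          rw [if_neg hvF] at h1
          rw [← sub_add_cancel s (ι (sb v))]
          exact (Valuation.map_add _ _ _).trans (max_le (h1.trans (he1 _ (Nat.le_add_left 1 N₀)).le) (hι v _))
        · exact hsint v (by simp [hvF, hvB]) hvne
      have hint : ∀ i, v.valuation k (P i) ≤ 1 := fun i => (Valuation.map_add _ _ _).trans
        (max_le (hP₀int i v hvF hvne) (by rw [map_mul]; exact mul_le_one' hsv (hι v _)))
      refine ⟨hint, ?_⟩
      by_cases hvB : v ∈ Bad
      · have h1 := hsF v (Finset.mem_union_right _ hvB)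
        rw [if_neg hvF] at h1
        exact hsb v hvB P s (h1.trans_lt (he1 _ (Nat.le_add_left 1 N₀))) fun i => rfl
      · refine exists_unit_of_mem (v.valuation k) ι (hι v) hint f hrI ?_
        rw [hrinv]
        by_contra h
        exact hvB (Finset.mem_filter.2 ⟨(finite_valuation_ne_one k hr0).mem_toFinset.2 h, hv, hvF⟩)
  · exact (hPF v (Finset.mem_union_left _ (Finset.mem_union_left _ (Finset.mem_erase.2 ⟨hv0, hv⟩)))).1 hv hv0
  · exact (hPF v (Finset.mem_union_left _ (Finset.mem_union_right _ hv))).2.1 hv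

end Groth.Agent.S19976
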