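import Groth.Statements.S19978
import Groth.Agent.Lib.Alb8.Proper

set_option autoImplicit false
universe u
open CategoryTheory MonoidalCategory CartesianMonoidalCategory MonObj GrpObj AlgebraicGeometry CategoryTheory.Limits
open AbVar

namespace Groth.Agent.S19978

/-- Over an algebraically closed field k, let X be an integral separated k-scheme of finite type which
is proper over k. Call large group a commutative separated k-group scheme G locally of finite type
given with a connected open subgroup scheme G⁰ (its neutral component) which is semiabelian: G⁰ has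
a closed subgroup scheme T that is a torus and is the kernel of a flat surjective homomorphism from
G⁰ onto an abelian variety (a proper smooth connected k-group scheme). Let A be a large group, with
neutral component A⁰, and u : X → A a k-morphism which is universal for morphisms to large groups
(every k-morphism from X to a large group G is u followed by a unique homomorphism A → G), i.e. (A,
u) is the Albanese scheme of X. Then A⁰ is proper over k: the neutral component of the Albanese
scheme of a proper scheme is an abelian variety. (The published statement is for any proper reduced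
scheme of finite type over a perfect field; this row states the case of an integral scheme over an
algebraically closed field.) -/
theorem result (k : Type u) [Field k] [IsAlgClosed k]
    (X : Over (Spec (CommRingCat.of k))) [IsIntegral X.left] [IsProper X.hom]
    (A : Over (Spec (CommRingCat.of k))) [GrpObj A] [IsCommMonObj A] [IsSeparated A.hom] [LocallyOfFiniteType A.hom]
    (A0 : Over (Spec (CommRingCat.of k))) [GrpObj A0] (e₀ : A0 ⟶ A) [IsMonHom e₀] [IsOpenImmersion e₀.left]
    [ConnectedSpace ↥A0.left]
    (T₀ : Over (Spec (CommRingCat.of k))) [GrpObj T₀] (i₀ : T₀ ⟶ A0) [IsMonHom i₀] [IsClosedImmersion i₀.left]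
    (hT₀ : Red.IsTorus T₀)
    (B₀ : Over (Spec (CommRingCat.of k))) [GrpObj B₀] [IsProper B₀.hom] [Smooth B₀.hom] [ConnectedSpace ↥B₀.left]
    (q₀ : A0 ⟶ B₀) [IsMonHom q₀] [Surjective q₀.left] [Flat q₀.left] (hker₀ : AlgGrp.IsKernel i₀ q₀)
    (u : X ⟶ A)
    (huniv : ∀ (G : Over (Spec (CommRingCat.of k))) [GrpObj G] [IsCommMonObj G] [IsSeparated G.hom] [LocallyOfFiniteType G.hom]
      (G0 : Over (Spec (CommRingCat.of k))) [GrpObj G0] (e : G0 ⟶ G) [IsMonHom e] [IsOpenImmersion e.left]
      [ConnectedSpace ↥G0.left]
      (T : Over (Spec (CommRingCat.of k))) [GrpObj T] (i : T ⟶ G0) [IsMonHom i] [IsClosedImmersion i.left]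
      (_ : Red.IsTorus T)
      (B : Over (Spec (CommRingCat.of k))) [GrpObj B] [IsProper B.hom] [Smooth B.hom] [ConnectedSpace ↥B.left]
      (q : G0 ⟶ B) [IsMonHom q] [Surjective q.left] [Flat q.left] (_ : AlgGrp.IsKernel i q)
      (φ : X ⟶ G), ∃! h : A ⟶ G, IsMonHom h ∧ u ≫ h = φ) :
    IsProper A0.hom := by
  refine Groth.Agent.Alb8.isProper_neutral e₀
    ⟨T₀, inferInstance, i₀, B₀, inferInstance, q₀, inferInstance, inferInstance, hT₀, inferInstance, inferInstance,
      inferInstance, hker₀, inferInstance, inferInstance, inferInstance⟩ u ?_
  intro G _ _ _ _ G0 _ e _ _ _ hSA φ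
  obtain ⟨T, _, i, B, _, q, hi, hic, hT, hq, hqs, hqf, hk, hBp, hBs, hBc⟩ := hSA
  haveI := hi; haveI := hic; haveI := hq; haveI := hqs; haveI := hqf; haveI := hBp; haveI := hBs; haveI := hBc
  exact huniv G G0 e T i hT B q hk φ

end Groth.Agent.S19978
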