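import Groth.Statements.S19985
import Groth.Agent.Lib.ConeFib5.Gen
import Groth.Agent.Lib.ConeFib5.Fibre
import Groth.Agent.Lib.RelCone11.Retraction
import Groth.Agent.Lib.RelCone11.ConeImm
-- import your own Groth.Agent.* helpers here

set_option autoImplicit false
universe u
open CategoryTheory CategoryTheory.Limits AlgebraicGeometry Opposite TopologicalSpace
open scoped HomogeneousIdeal
noncomputable section
open EGA2

set_option backward.isDefEq.respectTransparency false
set_option linter.style.haveILetI false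
open HomogeneousLocalization Groth.Agent.ConeFib5
open scoped HomogeneousIdeal
noncomputable section

namespace Groth.Agent.S19985

theorem comp_awayMap {B S τ : Type u} [CommRing B] [CommRing S] [SetLike τ B] [AddSubgroupClass τ B]
    {ℬ : ℕ → τ} [GradedRing ℬ] (Φ : B →+* S) {e : ℕ} {f g x : B} (hg : g ∈ ℬ e) (hx : x = f * g)
    (huf : IsUnit (Φ f)) (hux : IsUnit (Φ x)) :
    ((IsLocalization.Away.lift (S := Localization.Away x) x hux).comp
        (algebraMap (Away ℬ x) (Localization.Away x))).comp (awayMap ℬ hg hx) =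
      (IsLocalization.Away.lift (S := Localization.Away f) f huf).comp
        (algebraMap (Away ℬ f) (Localization.Away f)) := by
  refine RingHom.ext fun q => ?_
  have hu : IsUnit (algebraMap B (Localization.Away x) f) :=
    isUnit_of_dvd_unit ⟨algebraMap B (Localization.Away x) g, by rw [← map_mul, hx]⟩
      (IsLocalization.Away.algebraMap_isUnit x)
  have h1 : (IsLocalization.Away.lift (S := Localization.Away x) x hux).comp
      (Localization.awayLift (algebraMap B (Localization.Away x)) f hu) =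
      IsLocalization.Away.lift (S := Localization.Away f) f huf := by
    refine IsLocalization.ringHom_ext (Submonoid.powers f) (RingHom.ext fun b => ?_)
    simp only [RingHom.comp_apply, Localization.awayLift, IsLocalization.Away.lift_eq]
  simp only [RingHom.comp_apply, HomogeneousLocalization.algebraMap_apply, val_awayMap]
  exact RingHom.congr_fun h1 q.val


/-- Let 𝒮 be a quasi-coherent positively graded O_Y-algebra with 𝒮_0 = O_Y which is generated by 𝒮_1
(over every affine open U the ring 𝒮(U) is generated by its degree-0 and degree-1 parts), Ŝ = 𝒮[z]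
(graded homomorphism ι : 𝒮 → Ŝ and a degree-one global section z, polynomial over affine opens), C =
Spec(𝒮), X = Proj(𝒮) and Ĉ = Proj(Ŝ) with their charts, E ⊆ C and Ê ⊆ Ĉ the pointed cones, i : C → Ĉ
the canonical open immersion and p : Ê → X the canonical retraction (the morphism which on each
affine piece Spec Ŝ(U)_(ι f), f ∈ 𝒮(U) homogeneous of positive degree, is Spec of 𝒮(U)_(f) → Ŝ(U)_(ι
f) followed by the chart of X). Then p is of finite type (locally of finite type and quasi-compact)
and for every point x of X the fibre p⁻¹(x) = Ê ×_X Spec k(x) is isomorphic over k(x) to the affine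
line Spec k(x)[T]; and for every factorisation i' : E → Ê of i restricted to E, the composite π = p
∘ i' : E → X is of finite type and its fibre at every x is isomorphic over k(x) to Spec k(x)[T,
T⁻¹]. -/
theorem result {Y PC P : Scheme.{u}} (𝒮 𝒮h : RelProj.QCGrAlg Y) (h0 : RelCone.StrZeroBij 𝒮)
    (hgen : 𝒮.IsGenDegOne)
    (ι : 𝒮.toQCAlg ⟶ 𝒮h.toQCAlg) (z : 𝒮h.presheaf.obj (op ⊤)) (hz : RelCone.IsPolyOver 𝒮 𝒮h ι z)
    (pC : PC ⟶ Y)
    (chartC : ∀ (U : Y.Opens) (hU : IsAffineOpen U), (((pC ⁻¹ᵁ U : PC.Opens) : Scheme.{u}) ≅ Proj (𝒮h.deg U hU)))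
    (hPC : RelProj.IsRelProj 𝒮h pC chartC)
    (p : P ⟶ Y)
    (chart : ∀ (U : Y.Opens) (hU : IsAffineOpen U), (((p ⁻¹ᵁ U : P.Opens) : Scheme.{u}) ≅ Proj (𝒮.deg U hU)))
    (hP : RelProj.IsRelProj 𝒮 p chart)
    (i : 𝒮.toQCAlg.spec ⟶ PC) (hi : RelCone.IsConeImm 𝒮 hz pC chartC i)
    (r : ((RelCone.pointedProjCone 𝒮 hz pC chartC : PC.Opens) : Scheme.{u}) ⟶ P)
    (hr : (∀ (U : Y.Opens) (hU : IsAffineOpen U) (d : ℕ) (hd : 0 < d) (f : 𝒮.presheaf.obj (op U)) (hf : f ∈ 𝒮.deg U hU d)
        (g : Spec (CommRingCat.of (HomogeneousLocalization.Away (𝒮h.deg U hU) ((RelProj.gradedHomAt ι hz.graded U hU) f))) ⟶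
          ((RelCone.pointedProjCone 𝒮 hz pC chartC : PC.Opens) : Scheme.{u})),
        g ≫ (RelCone.pointedProjCone 𝒮 hz pC chartC).ι =
            Proj.awayι (𝒮h.deg U hU) ((RelProj.gradedHomAt ι hz.graded U hU) f) ((RelProj.gradedHomAt ι hz.graded U hU).2 hf) hd ≫
              RelProj.emb pC chartC U hU →
          g ≫ r =
            Spec.map (CommRingCat.ofHom (HomogeneousLocalization.Away.map (RelProj.gradedHomAt ι hz.graded U hU) f)) ≫
              Proj.awayι (𝒮.deg U hU) f hf hd ≫ RelProj.emb p chart U hU)) :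
    (LocallyOfFiniteType r ∧ QuasiCompact r ∧
        ∀ x : ↥P, ∃ e : pullback r (P.fromSpecResidueField x) ≅ Spec (CommRingCat.of (Polynomial (P.residueField x))),
          e.hom ≫ Spec.map (CommRingCat.ofHom (algebraMap (P.residueField x) (Polynomial (P.residueField x)))) =
            pullback.snd r (P.fromSpecResidueField x)) ∧
      ∀ i' : ((RelCone.pointedCone 𝒮 : 𝒮.toQCAlg.spec.Opens) : Scheme.{u}) ⟶
          ((RelCone.pointedProjCone 𝒮 hz pC chartC : PC.Opens) : Scheme.{u}),
        i' ≫ (RelCone.pointedProjCone 𝒮 hz pC chartC).ι = (RelCone.pointedCone 𝒮).ι ≫ i →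
          LocallyOfFiniteType (i' ≫ r) ∧ QuasiCompact (i' ≫ r) ∧
        ∀ x : ↥P, ∃ e : pullback (i' ≫ r) (P.fromSpecResidueField x) ≅ Spec (CommRingCat.of (LaurentPolynomial (P.residueField x))),
          e.hom ≫ Spec.map (CommRingCat.ofHom (algebraMap (P.residueField x) (LaurentPolynomial (P.residueField x)))) =
            pullback.snd (i' ≫ r) (P.fromSpecResidueField x) := by
  let η := fun (U : Y.Opens) (hU : IsAffineOpen U) => RelProj.gradedHomAt ι hz.graded U hU
  have hcov : ∀ x : ↥P, ∃ (U : Y.Opens) (hU : IsAffineOpen U) (f : 𝒮.presheaf.obj (op U)) (hf : f ∈ 𝒮.deg U hU 1),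
      x ∈ (Proj.awayι (𝒮.deg U hU) f hf Nat.one_pos ≫ RelProj.emb p chart U hU).opensRange := by
    intro x
    obtain ⟨U, hU, w, rfl⟩ := RelCone11.exists_emb chart x
    obtain ⟨f, hf, hfw⟩ : ∃ f ∈ 𝒮.deg U hU 1, f ∉ w.asHomogeneousIdeal.toIdeal := by
      by_contra hc
      push Not at hc
      exact w.not_irrelevant_le ((Gen.irrelevant_le_span (𝒮.deg U hU) (hgen U hU)).trans
        (Ideal.span_le.2 fun y hy => hc y hy))
    obtain ⟨v, hv⟩ := (Proj.opensRange_awayι (𝒮.deg U hU) f hf Nat.one_pos).ge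
      (show w ∈ Proj.basicOpen (𝒮.deg U hU) f from (ProjectiveSpectrum.mem_basicOpen _ _ _).2 hfw)
    exact ⟨U, hU, f, hf, v, congrArg (RelProj.emb p chart U hU) hv⟩
  have hsub : ∀ (U : Y.Opens) (hU : IsAffineOpen U) (f : 𝒮.presheaf.obj (op U)) (hf : f ∈ 𝒮.deg U hU 1),
      Set.range (Proj.awayι (𝒮h.deg U hU) (η U hU f) ((η U hU).2 hf) Nat.one_pos ≫ RelProj.emb pC chartC U hU) ⊆
        Set.range (RelCone.pointedProjCone 𝒮 hz pC chartC).ι := by
    intro U hU f hf
    rintro _ ⟨y, rfl⟩
    rw [Scheme.Opens.range_ι]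
    exact RelCone11.mem_PPC_of_not_mem hz pC chartC hU Nat.one_pos hf ((ProjectiveSpectrum.mem_basicOpen _ _ _).1
      ((Proj.opensRange_awayι (𝒮h.deg U hU) _ _ Nat.one_pos).le ⟨y, rfl⟩))
  let gC := fun U hU f hf => IsOpenImmersion.lift (RelCone.pointedProjCone 𝒮 hz pC chartC).ι _ (hsub U hU f hf)
  have gfac : ∀ U hU f hf, gC U hU f hf ≫ (RelCone.pointedProjCone 𝒮 hz pC chartC).ι =
      Proj.awayι (𝒮h.deg U hU) (η U hU f) ((η U hU).2 hf) Nat.one_pos ≫ RelProj.emb pC chartC U hU :=
    fun U hU f hf => IsOpenImmersion.lift_fac _ _ _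
  have hmemr : ∀ (U : Y.Opens) (hU : IsAffineOpen U) (f : 𝒮.presheaf.obj (op U)) (hf : f ∈ 𝒮.deg U hU 1)
      (c : ((RelCone.pointedProjCone 𝒮 hz pC chartC : PC.Opens) : Scheme.{u})),
      r c ∈ (Proj.awayι (𝒮.deg U hU) f hf Nat.one_pos ≫ RelProj.emb p chart U hU).opensRange ↔
        ∃ y : Proj (𝒮h.deg U hU), η U hU f ∉ y.asHomogeneousIdeal ∧ RelProj.emb pC chartC U hU y = c.1 := by
    intro U hU f hf c
    rw [Scheme.Hom.opensRange_comp, Proj.opensRange_awayι]
    refine (RelCone11.retr_mem_iff hz pC chartC hPC p chart hP hr hU Nat.one_pos hf c).trans ⟨?_, ?_⟩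
    · intro h
      obtain ⟨y, hy, hyc⟩ := (RelProj11.mem_range_qC _).1 h
      refine ⟨y, ?_, hyc⟩
      refine (RelCone11.mem_range_qC_diag hz pC chartC hU Nat.one_pos hf y).1 ?_
      rw [hyc]; exact h
    · rintro ⟨y, hy, hyc⟩
      exact hyc ▸ (RelCone11.mem_range_qC_diag hz pC chartC hU Nat.one_pos hf y).2 hy
  constructor
  · refine of_charts r (fun K => CommRingCat.of (Polynomial K)) (fun K => algebraMap K (Polynomial K)) fun x => ?_
    obtain ⟨U, hU, f, hf, hx⟩ := hcov x
    haveI : IsOpenImmersion (gC U hU f hf) := by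
      haveI : IsOpenImmersion (gC U hU f hf ≫ (RelCone.pointedProjCone 𝒮 hz pC chartC).ι) := by
        rw [gfac U hU f hf]; infer_instance
      exact IsOpenImmersion.of_comp _ (RelCone.pointedProjCone 𝒮 hz pC chartC).ι
    have hbij := Gen.toPAway_bijective (𝒮.deg U hU) hf (η U hU) (ι.hom.app (op U)).hom
      (RelCone.restrictTop 𝒮h z U) (fun a => rfl) (hz.bij U hU)
    refine ⟨_, _, CommRingCat.ofHom (Away.map (η U hU) f),
      Proj.awayι (𝒮.deg U hU) f hf Nat.one_pos ≫ RelProj.emb p chart U hU, inferInstance, gC U hU f hf, hx, ?_, ?_,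
      fun g => ?_⟩
    · refine IsOpenImmersion.isPullback _ _ _ _ (hr U hU 1 Nat.one_pos f hf _ (gfac U hU f hf)) ?_
      ext c
      rw [SetLike.mem_coe, SetLike.mem_coe, Scheme.Hom.mem_preimage, hmemr U hU f hf c]
      constructor
      · rintro ⟨y, hy, hyc⟩
        obtain ⟨v, hv⟩ := (Proj.opensRange_awayι (𝒮h.deg U hU) (η U hU f) ((η U hU).2 hf) Nat.one_pos).ge
          ((ProjectiveSpectrum.mem_basicOpen _ _ _).2 hy)
        refine ⟨v, (RelCone.pointedProjCone 𝒮 hz pC chartC).ι.isOpenEmbedding.injective ?_⟩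
        exact (congr($(gfac U hU f hf) v)).trans ((congrArg _ hv).trans hyc)
      · rintro ⟨y, rfl⟩
        refine ⟨Proj.awayι (𝒮h.deg U hU) (η U hU f) ((η U hU).2 hf) Nat.one_pos y,
          (ProjectiveSpectrum.mem_basicOpen _ _ _).1 ((Proj.opensRange_awayι (𝒮h.deg U hU) _ _ Nat.one_pos).le ⟨y, rfl⟩), ?_⟩
        exact (congr($(gfac U hU f hf) y)).symm
    · have h : Away.map (η U hU) f = (Gen.toPAway (𝒮.deg U hU) hf (η U hU) (RelCone.restrictTop 𝒮h z U)).comp Polynomial.C :=
        RingHom.ext fun b => (Gen.toPAway_C (𝒮.deg U hU) hf (η U hU) _ b).symm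
      show (Away.map (η U hU) f).FiniteType
      rw [h]
      refine (RingHom.FiniteType.of_surjective _ hbij.2).comp ?_
      rw [← Polynomial.algebraMap_eq]
      exact RingHom.finiteType_algebraMap.2 inferInstance
    · letI := g.toAlgebra
      letI := (Away.map (η U hU) f).toAlgebra
      exact poly_key _ hbij fun b => Gen.toPAway_C (𝒮.deg U hU) hf (η U hU) _ b
  · intro i' hi'
    refine of_charts (i' ≫ r) (fun K => CommRingCat.of (LaurentPolynomial K))
      (fun K => algebraMap K (LaurentPolynomial K)) fun x => ?_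
    obtain ⟨U, hU, f, hf, hx⟩ := hcov x
    let zU := RelCone.restrictTop 𝒮h z U
    let Φ := (algebraMap (𝒮.presheaf.obj (op U)) (Localization.Away f)).comp (hz.evalOne U hU)
    have hΦι : ∀ a, Φ (η U hU a) = algebraMap _ (Localization.Away f) a := fun a => by
      show algebraMap _ (Localization.Away f) (hz.evalOne U hU (η U hU a)) = _
      congr 1
      exact hz.evalOne_ι U hU a
    have hΦη : Φ (η U hU f) = algebraMap _ _ f := hΦι f
    have hΦz : Φ zU = 1 := by simp only [Φ, RingHom.comp_apply, zU, hz.evalOne_z, map_one]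
    have huη : IsUnit (Φ (η U hU f)) := hΦη ▸ IsLocalization.Away.algebraMap_isUnit f
    have huz : IsUnit (Φ zU) := hΦz ▸ isUnit_one
    have hux : IsUnit (Φ (zU * η U hU f)) := by rw [map_mul]; exact huz.mul huη
    let τ := (IsLocalization.Away.lift (S := Localization.Away (η U hU f)) (η U hU f) huη).comp
      (algebraMap (Away (𝒮h.deg U hU) (η U hU f)) (Localization.Away (η U hU f)))
    let ρ := (IsLocalization.Away.lift (S := Localization.Away (zU * η U hU f)) (zU * η U hU f) hux).comp
      (algebraMap (Away (𝒮h.deg U hU) (zU * η U hU f)) (Localization.Away (zU * η U hU f)))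
    have hcomm : Spec.map (CommRingCat.ofHom (algebraMap (𝒮.presheaf.obj (op U)) (Localization.Away f))) ≫
        RelCone11.coneChart hz U hU =
        Spec.map (CommRingCat.ofHom τ) ≫ Proj.awayι (𝒮h.deg U hU) (η U hU f) ((η U hU).2 hf) Nat.one_pos := by
      have hz' : (algebraMap (𝒮.presheaf.obj (op U)) (Localization.Away f)).comp (hz.awayZToBase U hU) =
          (IsLocalization.Away.lift (S := Localization.Away zU) zU huz).comp
            (algebraMap (Away (𝒮h.deg U hU) zU) (Localization.Away zU)) := by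
        rw [RelCone.IsPolyOver.awayZToBase, ← RingHom.comp_assoc]
        congr 1
        refine IsLocalization.ringHom_ext (Submonoid.powers zU) (RingHom.ext fun b => ?_)
        simp only [RingHom.comp_apply, IsLocalization.Away.lift_eq, zU, Φ]
      have hxm : zU * η U hU f ∈ 𝒮h.deg U hU (1 + 1) := SetLike.mul_mem_graded (hz.deg_z U hU) ((η U hU).2 hf)
      have e1 := Proj.SpecMap_awayMap_awayι (𝒜 := 𝒮h.deg U hU) (f := zU) (m := 1) (hz.deg_z U hU) Nat.one_pos
        (g := η U hU f) ((η U hU).2 hf) (x := zU * η U hU f) rfl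
      have e2 := Proj.SpecMap_awayMap_awayι (𝒜 := 𝒮h.deg U hU) (f := η U hU f) (m := 1) ((η U hU).2 hf) Nat.one_pos
        (g := zU) (hz.deg_z U hU) (x := zU * η U hU f) (mul_comm _ _)
      rw [RelCone11.coneChart, ← Category.assoc, ← Spec.map_comp, ← CommRingCat.ofHom_comp]
      erw [hz']
      rw [show τ = ρ.comp (awayMap (𝒮h.deg U hU) (hz.deg_z U hU) (mul_comm zU (η U hU f))) from
          (comp_awayMap Φ _ _ huη hux).symm,
        ← comp_awayMap Φ ((η U hU).2 hf) (rfl : zU * η U hU f = zU * η U hU f) huz hux]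
      simp only [CommRingCat.ofHom_comp, Spec.map_comp, Category.assoc]
      erw [e1, e2]
      simp only [ρ, CommRingCat.ofHom_comp, Spec.map_comp, Category.assoc]
    have hsub' : Set.range (Spec.map (CommRingCat.ofHom (algebraMap (𝒮.presheaf.obj (op U)) (Localization.Away f))) ≫
        𝒮.toQCAlg.ι U hU) ⊆ Set.range (RelCone.pointedCone 𝒮).ι := by
      rw [Scheme.Opens.range_ι]
      rintro _ ⟨q, rfl⟩
      refine (RelCone11.mem_pointedCone_iff 𝒮 hU _).2 (RelCone11.mem_vertexCompl.2 fun hle => ?_)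
      have := hle (HomogeneousIdeal.mem_irrelevant_of_mem _ Nat.one_pos hf)
      exact q.2.ne_top (Ideal.eq_top_of_isUnit_mem _ this (IsLocalization.Away.algebraMap_isUnit f))
    let cf : Spec (CommRingCat.of (Localization.Away f)) ⟶ (RelCone.pointedCone 𝒮 : Scheme.{u}) :=
      IsOpenImmersion.lift (RelCone.pointedCone 𝒮).ι _ hsub'
    have cfac : cf ≫ (RelCone.pointedCone 𝒮).ι =
        Spec.map (CommRingCat.ofHom (algebraMap (𝒮.presheaf.obj (op U)) (Localization.Away f))) ≫ 𝒮.toQCAlg.ι U hU :=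
      IsOpenImmersion.lift_fac _ _ _
    haveI : IsOpenImmersion cf := by
      haveI : IsOpenImmersion (Spec.map (CommRingCat.ofHom (algebraMap (𝒮.presheaf.obj (op U)) (Localization.Away f)))) :=
        IsOpenImmersion.of_isLocalization f
      haveI : IsOpenImmersion (cf ≫ (RelCone.pointedCone 𝒮).ι) := by rw [cfac]; infer_instance
      exact IsOpenImmersion.of_comp _ (RelCone.pointedCone 𝒮).ι
    have hcf : cf ≫ i' = Spec.map (CommRingCat.ofHom τ) ≫ gC U hU f hf := by
      rw [← cancel_mono (RelCone.pointedProjCone 𝒮 hz pC chartC).ι, Category.assoc, Category.assoc, hi', gfac U hU f hf,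
        reassoc_of% cfac, RelCone11.ι_coneImm hz hi U hU, reassoc_of% hcomm]
    have hτA : τ.comp (Away.map (η U hU) f) = algebraMap (Away (𝒮.deg U hU) f) (Localization.Away f) := by
      refine RingHom.ext fun q => ?_
      obtain ⟨n, a, ha, rfl⟩ := Away.mk_surjective (𝒮.deg U hU) hf q
      simp only [RingHom.comp_apply, Away.map_mk, τ, HomogeneousLocalization.algebraMap_apply, Away.val_mk,
        Localization.mk_eq_mk']
      rw [IsLocalization.Away.lift, IsLocalization.lift_mk'_spec]
      show Φ (η U hU a) = Φ (η U hU f ^ n) * _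
      rw [map_pow, hΦη, ← map_pow, mul_comm]
      exact (hΦι a).trans (IsLocalization.mk'_spec _ _ _).symm
    refine ⟨_, _, CommRingCat.ofHom (algebraMap (Away (𝒮.deg U hU) f) (Localization.Away f)),
      Proj.awayι (𝒮.deg U hU) f hf Nat.one_pos ≫ RelProj.emb p chart U hU, inferInstance, cf, hx, ?_, ?_,
      fun g => ?_⟩
    · refine IsOpenImmersion.isPullback _ _ _ _ ?_ ?_
      · rw [reassoc_of% hcf]
        erw [hr U hU 1 Nat.one_pos f hf _ (gfac U hU f hf)]
        rw [← Category.assoc, ← Spec.map_comp, ← CommRingCat.ofHom_comp, hτA]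
      · ext c
        rw [SetLike.mem_coe, SetLike.mem_coe, Scheme.Hom.mem_preimage, Scheme.Hom.comp_apply,
          hmemr U hU f hf (i' c)]
        have hic : (i' c).1 = i c.1 := congr($hi' c)
        constructor
        · rintro ⟨y, hy, hyc⟩
          rw [hic] at hyc
          have hcU : 𝒮.toQCAlg.π c.1 ∈ U := by
            rw [← RelCone11.coneImm_comp hz hPC hi, Scheme.Hom.comp_apply, ← hyc]
            exact RelCone11.emb_mem chartC U hU y
          obtain ⟨q, hq⟩ := RelCone11.mem_range_ι 𝒮.toQCAlg hU c.1 hcU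
          rw [← hq, ← Scheme.Hom.comp_apply, RelCone11.ι_coneImm hz hi U hU, Scheme.Hom.comp_apply] at hyc
          obtain rfl := RelCone11.emb_injective chartC U hU hyc
          have hfq : f ∉ q.asIdeal := fun h => hy ((RelCone11.coneChart_basic hz hU Nat.one_pos hf q).2 h)
          obtain ⟨v, hv⟩ : q ∈ Set.range (Spec.map (CommRingCat.ofHom (algebraMap (𝒮.presheaf.obj (op U)) (Localization.Away f)))) := by
            show (q : PrimeSpectrum _) ∈ Set.range (PrimeSpectrum.comap _)
            rw [CommRingCat.hom_ofHom, PrimeSpectrum.localization_away_comap_range (Localization.Away f) f]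
            exact hfq
          refine ⟨v, (RelCone.pointedCone 𝒮).ι.isOpenEmbedding.injective ?_⟩
          exact (congr($cfac v)).trans ((congrArg _ hv).trans hq)
        · rintro ⟨q, rfl⟩
          have h1 : i' (cf q) = gC U hU f hf (Spec.map (CommRingCat.ofHom τ) q) := congr($hcf q)
          rw [h1]
          refine ⟨Proj.awayι (𝒮h.deg U hU) (η U hU f) ((η U hU).2 hf) Nat.one_pos (Spec.map (CommRingCat.ofHom τ) q),
            (ProjectiveSpectrum.mem_basicOpen _ _ _).1 ((Proj.opensRange_awayι (𝒮h.deg U hU) _ _ Nat.one_pos).le ⟨_, rfl⟩),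
            (congr($(gfac U hU f hf) (Spec.map (CommRingCat.ofHom τ) q))).symm⟩
    · show (algebraMap (Away (𝒮.deg U hU) f) (Localization.Away f)).FiniteType
      exact finiteType_laurent _ _ (Gen.toAway_bijective (𝒮.deg U hU) hf).2 fun b => Gen.toAway_C _ b
    · letI := g.toAlgebra
      exact laurent_key _ (Gen.toAway_bijective (𝒮.deg U hU) hf) fun b => Gen.toAway_C _ b

end Groth.Agent.S19985
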