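import Groth.Statements.S1999
import Groth.Agent.Lib.EtAlgH7.Inertia

set_option autoImplicit false
universe u
open scoped Pointwise
open EtAlg

namespace Groth.Agent.S1999

/-- Parts (2)–(5) in the case of part (6): let A be a discrete valuation ring with fraction field K, L/K
a finite Galois extension with group G, B the integral closure of A in L, m a maximal ideal of B
whose residue field is separable over that of A, and e the ramification index of m over A. Let D be
the decomposition group (stabilizer of m), I the inertia group (elements acting trivially on B/m)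
and P the wild inertia group, here the elements of D acting trivially on B/m² (the description valid
in the separable residue field case). Then P ≤ I, P is normal in D, P is a p-group if the residue
characteristic is p > 0 and trivial if it is 0, and I/P is cyclic of order the prime-to-p part of e
and isomorphic to a subgroup of the e-th roots of unity of B/m — more precisely to the full group of
e-th roots of unity of B/m. -/
theorem result (A K L B : Type u) [CommRing A] [IsDomain A] [IsDiscreteValuationRing A]
    [CommRing B] [IsDomain B] [Field K] [Field L] [Algebra A K] [Algebra B L] [IsFractionRing A K] [IsFractionRing B L]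
    [Algebra A B] [Algebra K L] [Algebra A L] [IsScalarTower A K L] [IsScalarTower A B L] [IsIntegralClosure B A L]
    [FiniteDimensional K L] [IsGalois K L] (m : Ideal B) [m.IsMaximal]
    [Algebra.IsSeparable (A ⧸ m.comap (algebraMap A B)) (B ⧸ m)] :
    letI := IsIntegralClosure.MulSemiringAction A K L B
    let D : Subgroup (L ≃ₐ[K] L) := MulAction.stabilizer (L ≃ₐ[K] L) m
    let I : Subgroup (L ≃ₐ[K] L) := m.inertia (L ≃ₐ[K] L)
    let P : Subgroup (L ≃ₐ[K] L) := D ⊓ (m ^ 2).inertia (L ≃ₐ[K] L)
    let e : ℕ := Ideal.ramificationIdx' (IsLocalRing.maximalIdeal A) m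
    P ≤ I ∧ I ≤ D ∧ (P.subgroupOf D).Normal ∧
    (∀ p : ℕ, p.Prime → CharP (A ⧸ m.comap (algebraMap A B)) p → IsPGroup p P) ∧
    (CharZero (A ⧸ m.comap (algebraMap A B)) → P = ⊥) ∧
    (∀ [(P.subgroupOf I).Normal],
      IsCyclic (I ⧸ P.subgroupOf I) ∧
      (∀ p : ℕ, p.Prime → CharP (A ⧸ m.comap (algebraMap A B)) p → Nat.card (I ⧸ P.subgroupOf I) = e / p ^ e.factorization p) ∧
      (CharZero (A ⧸ m.comap (algebraMap A B)) → Nat.card (I ⧸ P.subgroupOf I) = e) ∧
      Nonempty (I ⧸ P.subgroupOf I ≃* ↥(rootsOfUnity e (B ⧸ m)))) := by
  letI := IsIntegralClosure.MulSemiringAction A K L B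
  haveI : Algebra.IsSeparable K L := inferInstance
  haveI : Module.Finite A B := IsIntegralClosure.finite A K L B
  haveI : IsDedekindDomain B := IsIntegralClosure.isDedekindDomain A K L B
  haveI : Algebra.IsIntegral A B := Algebra.IsIntegral.of_finite A B
  haveI : IsGaloisGroup (L ≃ₐ[K] L) A B :=
    IsGaloisGroup.of_isFractionRing (L ≃ₐ[K] L) A B K L
  haveI : FaithfulSMul A B := by
    rw [faithfulSMul_iff_algebraMap_injective]
    intro x y h
    apply IsFractionRing.injective A K
    apply (algebraMap K L).injective
    rw [← IsScalarTower.algebraMap_apply, ← IsScalarTower.algebraMap_apply,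
      IsScalarTower.algebraMap_apply A B L, IsScalarTower.algebraMap_apply A B L, h]
  exact Groth.Agent.Lib.EtAlgH7.tame_structure (A := A) (G := L ≃ₐ[K] L) m

end Groth.Agent.S1999
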