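import Groth.Statements.S19990
import Groth.Agent.Lib.GerbAbs16.MorGerbe
import Groth.Agent.Lib.StAlg16.QSBase
import Groth.Agent.Lib.SmoothSection.Scheme
import Groth.Agent.Lib.EtEff25.Field
import Groth.Agent.S5038
-- import your own Groth.Agent.* helpers here

set_option autoImplicit false
set_option backward.isDefEq.respectTransparency false
set_option backward.isDefEq.respectTransparency.types false
universe u
open CategoryTheory CategoryTheory.Limits AlgebraicGeometry
open Gerb

namespace Groth.Agent.S19990

/-- Let R be a strictly henselian local ring, M a finite abelian group and D(M) the diagonalizable group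
scheme over R with character group M. Let ℋ be an algebraic stack over R which is an fppf gerbe over
Spec R, banded by D(M): the automorphism groups of its objects over the identity are identified with
the points of D(M), compatibly with all morphisms of ℋ. Then ℋ(R) is non-empty: ℋ has an object
lying over Spec R. The published statement is for a gerbe banded by an arbitrary finite linearly
reductive group scheme G over R, and its argument reduces, through rigidification by the connected
diagonalizable part of G, to the vanishing of the degree-two fppf cohomology of R with coefficients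
in a product of groups of roots of unity, which the Kummer sequence gives; this row states the
special case G = D(M) of a finite diagonalizable band, to which that Kummer argument applies
directly (bands by non-commutative groups are not available here). -/
theorem result (R : Type u) [CommRing R]
    [HenselianLocalRing R] [IsSepClosed (IsLocalRing.ResidueField R)] (M : Type) [AddCommGroup M] [Finite M]
    (ℋ : AlgSt.Cat (Spec (CommRingCat.of R))) (hℋ : AlgSt.IsAlgStack Scheme.fppfPrecoverage ℋ)
    (hger : Gerb.IsGerbe (QuotSh.J Scheme.fppfPrecoverage (Spec (CommRingCat.of R))) ℋ)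
    (β : Gerb.Banding ℋ (yonedaGrpObj (Red.diag R M))) :
    Nonempty (ℋ.p.Fiber (Over.mk (𝟙 (Spec (CommRingCat.of R))))) := by
  let T : Over (Spec (CommRingCat.of R)) := Over.mk (𝟙 (Spec (CommRingCat.of R)))
  let f := FibCat.toSelf ℋ
  let y : FibCat.overCat T ⥤ᵇ FibCat.selfOver (Over (Spec (CommRingCat.of R))) := FibCat.toSelf _
  have hs : AlgSt.IsAlgStack Scheme.fppfPrecoverage (FibCat.selfOver (Over (Spec (CommRingCat.of R)))) :=
    StAlg16.isAlgStack_selfOver
  obtain ⟨U, h, c, ⟨j⟩, hc, hcs⟩ := StAlg16.exists_good hℋ hs f y
  have hπ := GerbAbs.isGerbeOver_fpFst (StAlg16.isAlgStack_overCat T).isStack.1 hs.isStack.1 y hger.2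
  have hA := StAlg.isAlgStack_fp hs.isStack hs.diag (StAlg16.isAlgStack_overCat T) hℋ y f
  haveI : Smooth h.left := GerbAbs.Chart.smooth_chart hA hπ hc j
  haveI : Surjective h.left := (GerbAbs.Chart.flat_lfp_surjective hA hπ hc hcs j).2.2
  let g₀ : U.left ⟶ Spec (CommRingCat.of R) := h.left
  obtain ⟨S', g, s', hg, hgs, v, hv⟩ :=
    SmoothSection.exists_etale_section g₀ (Surjective.surj (f := g₀) (IsLocalRing.closedPoint R)).choose
  haveI := hg
  let r := Spec.map (CommRingCat.ofHom (IsLocalRing.residue R))
  obtain ⟨w, -, -⟩ := Scheme.Pullback.exists_preimage_pullback (f := g) (g := r) s'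
    (IsLocalRing.closedPoint (IsLocalRing.ResidueField R)) (by
      rw [hgs, (Surjective.surj (f := g₀) (IsLocalRing.closedPoint R)).choose_spec]
      exact (IsLocalRing.comap_closedPoint (IsLocalRing.residue R)).symm)
  obtain ⟨ι, hι, -⟩ := EtEff25.exists_factor_of_sepClosed (Limits.pullback.snd g r)
    ((Limits.pullback g r).fromSpecResidueField w)
  obtain ⟨u, hu, -⟩ := Groth.Agent.S5038.result R g₀ (ι ≫ Limits.pullback.fst g r ≫ v) (by
    rw [Category.assoc, Category.assoc, hv, Limits.pullback.condition, reassoc_of% hι])
  have hw : U.hom = g₀ := by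
    have e := Over.w h
    exact (e.symm.trans (Category.comp_id _))
  let σ : T ⟶ U := Over.homMk u (by rw [hw]; exact hu)
  let F := BasedFunctor.comp c (FibCat.fpSnd y f)
  exact ⟨⟨F.obj (Over.mk σ), F.w_obj (Over.mk σ)⟩⟩

end Groth.Agent.S19990
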