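import Groth.Statements.S19992
import Groth.Agent.Lib.StCoh16.Kummer
import Groth.Agent.Lib.Quot16.Basic

set_option autoImplicit false
universe u
open CategoryTheory CategoryTheory.Limits AlgebraicGeometry
open StCoh

set_option backward.isDefEq.respectTransparency false
set_option backward.isDefEq.respectTransparency.types false

namespace Groth.Agent.S19992

/-- Let k be a field, G a finite étale group scheme over k, BG its classifying stack of fppf torsors and
n ≥ 1. The Kummer sequence gives a short exact sequence 0 → Pic(BG)/n → H²(BG, μ_n) → H²(BG, G_m)[n]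
→ 0 in the cohomology of the big fppf site of BG: the map H²(BG, μ_n) → H²(BG, G_m) induced by the
inclusion of the n-th roots of unity has image the subgroup of classes killed by n, and its kernel
is isomorphic to the quotient of H¹(BG, G_m) by the multiples of n (existence of an isomorphism for
the kernel; in the source it is induced by the connecting homomorphism). The description of the
central extension attached to a character, in the second sentence of the source, is not stated. -/
theorem result (k : Type u) [Field k]
    (G : Over (Spec (CommRingCat.of k))) [GrpObj G] (hG : IsFinite G.hom ∧ Etale G.hom)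
    [StCoh.BaseCont Scheme.fppfPrecoverage (AlgSt.BG Scheme.fppfPrecoverage G)] (n : ℕ) (hn : 0 < n) :
    (Sheaf.H.map (StCoh.muι Scheme.fppfPrecoverage (AlgSt.BG Scheme.fppfPrecoverage G) n) 2).range =
        (DistribSMul.toAddMonoidHom (StCoh.BrCoh Scheme.fppfPrecoverage (AlgSt.BG Scheme.fppfPrecoverage G)) n).ker ∧
      Nonempty ((Sheaf.H.map (StCoh.muι Scheme.fppfPrecoverage (AlgSt.BG Scheme.fppfPrecoverage G) n) 2).ker ≃+
        StCoh.H Scheme.fppfPrecoverage (StCoh.Gm Scheme.fppfPrecoverage (AlgSt.BG Scheme.fppfPrecoverage G)) 1 ⧸
          (DistribSMul.toAddMonoidHom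
            (StCoh.H Scheme.fppfPrecoverage (StCoh.Gm Scheme.fppfPrecoverage (AlgSt.BG Scheme.fppfPrecoverage G)) 1) n).range) := by
  have hG' : FibCat.IsFibGrpd (AlgSt.BG Scheme.fppfPrecoverage G).p :=
    Groth.Agent.Quot16.isFibGrpd (aX := AlgSt.trivAction G)
  exact Groth.Agent.StCoh16.Kummer.kummer (AlgSt.BG Scheme.fppfPrecoverage G) hG' n hn 1

end Groth.Agent.S19992
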