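import Groth.Statements.S19995
import Groth.Agent.Lib.SchExt28.Basic

set_option autoImplicit false
universe u
open CategoryTheory AlgebraicGeometry
open WildQuot

namespace Groth.Agent.S19995

/-- Let `S` be a Noetherian scheme, `f_1 : G_1 → S` and `f_2 : G_2 → S` finite flat morphisms, and `U ⊆
S` an open subset such that at every point of `S` outside `U` the local ring of `S` has depth at
least `2` (equivalently, for Noetherian `S`: `U` contains every point of codimension at most `1` and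
every point at which `S` fails Serre's condition `S_2`). Then every morphism `f_1⁻¹(U) → f_2⁻¹(U)`
over `U` is the restriction of exactly one `S`-morphism `G_1 → G_2`. (The published statements draw
this conclusion for homomorphisms of finite flat group schemes and for group-scheme actions on
finite flat schemes; this row states the underlying extension property of morphisms of finite flat
`S`-schemes, from which those follow by uniqueness.) -/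
theorem result
    (S G₁ G₂ : Scheme.{u}) [AlgebraicGeometry.IsNoetherian S] (f₁ : G₁ ⟶ S) (f₂ : G₂ ⟶ S)
    [AlgebraicGeometry.IsFinite f₁] [AlgebraicGeometry.Flat f₁]
    [AlgebraicGeometry.IsFinite f₂] [AlgebraicGeometry.Flat f₂]
    (U : S.Opens)
    (hU : ∀ s : S, s ∉ U → (2 : ℕ∞) ≤ LocCoh.depth (S.presheaf.stalk s) (S.presheaf.stalk s))
    (φU : ((f₁ ⁻¹ᵁ U : G₁.Opens) : Scheme.{u}) ⟶ ((f₂ ⁻¹ᵁ U : G₂.Opens) : Scheme.{u}))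
    (hφU : φU ≫ (f₂ ⁻¹ᵁ U).ι ≫ f₂ = (f₁ ⁻¹ᵁ U).ι ≫ f₁) :
    ∃! φ : G₁ ⟶ G₂, φ ≫ f₂ = f₁ ∧ (f₁ ⁻¹ᵁ U).ι ≫ φ = φU ≫ (f₂ ⁻¹ᵁ U).ι := by
  haveI : IsLocallyNoetherian G₁ := LocallyOfFiniteType.isLocallyNoetherian f₁
  -- local data over the affine opens of the base
  have hbij : ∀ (V : G₁.Opens), Function.Bijective (Scheme.Opens.ι (V.ι ⁻¹ᵁ (f₁ ⁻¹ᵁ U))).appTop := by
    intro V
    haveI : IsLocallyNoetherian (V : Scheme.{u}) := LocallyOfFiniteType.isLocallyNoetherian V.ι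
    refine FEtEq25.bijective_appTop_of_depth_two _ fun z hz => ?_
    rw [Scheme.Opens.range_ι] at hz
    obtain ⟨g, hg⟩ : ∃ g : (V : Scheme.{u}) ⟶ S, g = V.ι ≫ f₁ := ⟨_, rfl⟩
    haveI : Flat g := by rw [hg]; infer_instance
    have hgz : g z ∉ U := by subst hg; exact hz
    exact le_trans (hU _ hgz) (FEtEq25.depth_le_of_flat_local (g.stalkMap z).hom (Flat.stalkMap g z))
  let ι' := fun (V : G₁.Opens) => Scheme.Opens.ι (V.ι ⁻¹ᵁ (f₁ ⁻¹ᵁ U))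
  have hlift : ∀ V : G₁.Opens, ∃ i : ((V.ι ⁻¹ᵁ (f₁ ⁻¹ᵁ U) : (V : Scheme.{u}).Opens) : Scheme.{u}) ⟶ (f₁ ⁻¹ᵁ U : G₁.Opens),
      ι' V ≫ V.ι = i ≫ (f₁ ⁻¹ᵁ U).ι := fun V =>
    ⟨IsOpenImmersion.lift (f₁ ⁻¹ᵁ U).ι (ι' V ≫ V.ι) (by
      rw [Scheme.Opens.range_ι]
      rintro _ ⟨z, rfl⟩
      exact z.2), (IsOpenImmersion.lift_fac _ _ _).symm⟩
  choose lft hlft using hlift
  -- uniqueness on each piece
  have huniq : ∀ (V : S.affineOpens) (O : G₁.Opens), O ≤ f₁ ⁻¹ᵁ V.1 → ∀ a b : (O : Scheme.{u}) ⟶ G₂,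
      a ≫ f₂ = O.ι ≫ f₁ → b ≫ f₂ = O.ι ≫ f₁ → ι' O ≫ a = ι' O ≫ b → a = b := by
    intro V O hO a b ha hb hab
    haveI : IsAffine ((f₂ ⁻¹ᵁ V.1 : G₂.Opens) : Scheme.{u}) := V.2.preimage f₂
    have hrange : ∀ c : (O : Scheme.{u}) ⟶ G₂, c ≫ f₂ = O.ι ≫ f₁ → Set.range c ⊆ Set.range (f₂ ⁻¹ᵁ V.1).ι := by
      intro c hc
      rw [Scheme.Opens.range_ι]
      rintro _ ⟨z, rfl⟩
      show (c ≫ f₂) z ∈ V.1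
      rw [hc]
      exact hO z.2
    rw [← IsOpenImmersion.lift_fac (f₂ ⁻¹ᵁ V.1).ι a (hrange a ha), ← IsOpenImmersion.lift_fac (f₂ ⁻¹ᵁ V.1).ι b (hrange b hb)]
    congr 1
    refine SchExt28.hom_ext_affine (ι' O) (hbij O).1 _ _ ?_
    rw [← cancel_mono (f₂ ⁻¹ᵁ V.1).ι, Category.assoc, Category.assoc, IsOpenImmersion.lift_fac, IsOpenImmersion.lift_fac, hab]
  -- existence on each piece
  have hex : ∀ V : S.affineOpens, ∃ a : ((f₁ ⁻¹ᵁ V.1 : G₁.Opens) : Scheme.{u}) ⟶ G₂,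
      a ≫ f₂ = (f₁ ⁻¹ᵁ V.1).ι ≫ f₁ ∧ ι' _ ≫ a = lft _ ≫ φU ≫ (f₂ ⁻¹ᵁ U).ι := by
    intro V
    set O := f₁ ⁻¹ᵁ V.1
    haveI : IsAffine ((f₂ ⁻¹ᵁ V.1 : G₂.Opens) : Scheme.{u}) := V.2.preimage f₂
    haveI : IsAffine (V.1 : Scheme.{u}) := V.2
    set b := lft O ≫ φU ≫ (f₂ ⁻¹ᵁ U).ι with hb
    have hbf : b ≫ f₂ = ι' O ≫ O.ι ≫ f₁ := by
      rw [hb, Category.assoc, Category.assoc, hφU, ← Category.assoc, ← hlft, Category.assoc]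
    have hr : Set.range b ⊆ Set.range (f₂ ⁻¹ᵁ V.1).ι := by
      rw [Scheme.Opens.range_ι]
      rintro _ ⟨z, rfl⟩
      show (b ≫ f₂) z ∈ V.1
      rw [hbf]
      exact ((ι' O) z).2
    obtain ⟨a, ha⟩ := SchExt28.exists_extend_affine (ι' O) (hbij O) (IsOpenImmersion.lift (f₂ ⁻¹ᵁ V.1).ι b hr)
    refine ⟨a ≫ (f₂ ⁻¹ᵁ V.1).ι, ?_, by rw [← Category.assoc, ha, IsOpenImmersion.lift_fac]⟩
    rw [Category.assoc, ← Scheme.Hom.resLE_comp_ι f₂ (le_refl (f₂ ⁻¹ᵁ V.1)), ← Category.assoc,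
      ← Scheme.Hom.resLE_comp_ι f₁ (le_refl O)]
    congr 1
    refine SchExt28.hom_ext_affine (ι' O) (hbij O).1 _ _ ?_
    rw [← cancel_mono (V.1 : S.Opens).ι]
    simp only [Category.assoc, Scheme.Hom.resLE_comp_ι]
    rw [← Category.assoc, ha, IsOpenImmersion.lift_fac_assoc, hbf]
  choose aV haV1 haV2 using hex
  have hcov : TopologicalSpace.IsOpenCover (fun V : S.affineOpens => f₁ ⁻¹ᵁ V.1) := by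
    rw [TopologicalSpace.IsOpenCover, ← Scheme.Hom.preimage_iSup, iSup_affineOpens_eq_top, Scheme.Hom.preimage_top]
  let 𝒰 := Scheme.openCoverOfIsOpenCover G₁ _ hcov
  have hker : ∀ (V : S.affineOpens) (O : G₁.Opens) (h : O ≤ f₁ ⁻¹ᵁ V.1), ι' O ≫ G₁.homOfLE h ≫ aV V = lft O ≫ φU ≫ (f₂ ⁻¹ᵁ U).ι := by
    intro V O h
    obtain ⟨k, hk⟩ : ∃ k, ι' O ≫ G₁.homOfLE h = k ≫ ι' (f₁ ⁻¹ᵁ V.1) :=
      ⟨IsOpenImmersion.lift (ι' _) (ι' O ≫ G₁.homOfLE h) (by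
        rw [Scheme.Opens.range_ι]
        rintro _ ⟨z, rfl⟩
        have hz : O.ι ((ι' O) z) ∈ f₁ ⁻¹ᵁ U := z.2
        show (G₁.homOfLE h ≫ (f₁ ⁻¹ᵁ V.1).ι) ((ι' O) z) ∈ f₁ ⁻¹ᵁ U
        rw [Scheme.homOfLE_ι]
        exact hz), (IsOpenImmersion.lift_fac _ _ _).symm⟩
    have hl : k ≫ lft (f₁ ⁻¹ᵁ V.1) = lft O := by
      rw [← cancel_mono (f₁ ⁻¹ᵁ U).ι, Category.assoc, ← hlft, ← Category.assoc, ← hk, Category.assoc, Scheme.homOfLE_ι, hlft]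
    rw [← Category.assoc, hk, Category.assoc, haV2, ← Category.assoc, hl]
  have hglue : ∀ V V' : S.affineOpens, Limits.pullback.fst (f₁ ⁻¹ᵁ V.1).ι (f₁ ⁻¹ᵁ V'.1).ι ≫ aV V =
      Limits.pullback.snd (f₁ ⁻¹ᵁ V.1).ι (f₁ ⁻¹ᵁ V'.1).ι ≫ aV V' := by
    intro V V'
    set O := f₁ ⁻¹ᵁ V.1 ⊓ f₁ ⁻¹ᵁ V'.1
    have heq : G₁.homOfLE (inf_le_left : O ≤ _) ≫ aV V = G₁.homOfLE (inf_le_right : O ≤ _) ≫ aV V' :=
      huniq V O inf_le_left _ _ (by rw [Category.assoc, haV1, Scheme.homOfLE_ι_assoc])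
        (by rw [Category.assoc, haV1, Scheme.homOfLE_ι_assoc]) (by rw [hker, hker])
    obtain ⟨l, hl1⟩ : ∃ l, Limits.pullback.fst (f₁ ⁻¹ᵁ V.1).ι (f₁ ⁻¹ᵁ V'.1).ι ≫ (f₁ ⁻¹ᵁ V.1).ι = l ≫ O.ι :=
      ⟨IsOpenImmersion.lift O.ι _ (by
        rw [Scheme.Opens.range_ι]
        rintro _ ⟨z, rfl⟩
        refine ⟨(Limits.pullback.fst (f₁ ⁻¹ᵁ V.1).ι (f₁ ⁻¹ᵁ V'.1).ι z).2, ?_⟩
        rw [Limits.pullback.condition]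
        exact (Limits.pullback.snd (f₁ ⁻¹ᵁ V.1).ι (f₁ ⁻¹ᵁ V'.1).ι z).2), (IsOpenImmersion.lift_fac _ _ _).symm⟩
    have e1 : Limits.pullback.fst (f₁ ⁻¹ᵁ V.1).ι (f₁ ⁻¹ᵁ V'.1).ι = l ≫ G₁.homOfLE inf_le_left := by
      rw [← cancel_mono (f₁ ⁻¹ᵁ V.1).ι, Category.assoc, Scheme.homOfLE_ι, hl1]
    have e2 : Limits.pullback.snd (f₁ ⁻¹ᵁ V.1).ι (f₁ ⁻¹ᵁ V'.1).ι = l ≫ G₁.homOfLE inf_le_right := by
      rw [← cancel_mono (f₁ ⁻¹ᵁ V'.1).ι, Category.assoc, Scheme.homOfLE_ι, ← Limits.pullback.condition, hl1]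
    rw [e1, e2, Category.assoc, Category.assoc, heq]
  let φ := 𝒰.glueMorphisms aV hglue
  have hφι : ∀ V : S.affineOpens, (f₁ ⁻¹ᵁ V.1).ι ≫ φ = aV V := fun V => 𝒰.ι_glueMorphisms aV hglue V
  refine ⟨φ, ⟨?_, ?_⟩, ?_⟩
  · refine 𝒰.hom_ext _ _ fun (V : S.affineOpens) => ?_
    show (f₁ ⁻¹ᵁ V.1).ι ≫ φ ≫ f₂ = (f₁ ⁻¹ᵁ V.1).ι ≫ f₁
    rw [← Category.assoc, hφι, haV1]
  · have hcov' : TopologicalSpace.IsOpenCover (fun V : S.affineOpens => (f₁ ⁻¹ᵁ U).ι ⁻¹ᵁ (f₁ ⁻¹ᵁ V.1)) := by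
      rw [TopologicalSpace.IsOpenCover, ← Scheme.Hom.preimage_iSup, hcov.iSup_eq_top, Scheme.Hom.preimage_top]
    refine (Scheme.openCoverOfIsOpenCover ((f₁ ⁻¹ᵁ U : G₁.Opens) : Scheme.{u}) _ hcov').hom_ext _ _ fun (V : S.affineOpens) => ?_
    show ((f₁ ⁻¹ᵁ U).ι ⁻¹ᵁ (f₁ ⁻¹ᵁ V.1)).ι ≫ (f₁ ⁻¹ᵁ U).ι ≫ φ = ((f₁ ⁻¹ᵁ U).ι ⁻¹ᵁ (f₁ ⁻¹ᵁ V.1)).ι ≫ φU ≫ (f₂ ⁻¹ᵁ U).ι
    obtain ⟨k, hk⟩ : ∃ k, ((f₁ ⁻¹ᵁ U).ι ⁻¹ᵁ (f₁ ⁻¹ᵁ V.1)).ι ≫ (f₁ ⁻¹ᵁ U).ι = k ≫ ι' (f₁ ⁻¹ᵁ V.1) ≫ (f₁ ⁻¹ᵁ V.1).ι :=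
      ⟨IsOpenImmersion.lift (ι' (f₁ ⁻¹ᵁ V.1) ≫ (f₁ ⁻¹ᵁ V.1).ι) (((f₁ ⁻¹ᵁ U).ι ⁻¹ᵁ (f₁ ⁻¹ᵁ V.1)).ι ≫ (f₁ ⁻¹ᵁ U).ι) (by
        rintro _ ⟨z, rfl⟩
        exact ⟨⟨⟨_, z.2⟩, z.1.2⟩, rfl⟩), (IsOpenImmersion.lift_fac _ _ _).symm⟩
    have hl : k ≫ lft (f₁ ⁻¹ᵁ V.1) = ((f₁ ⁻¹ᵁ U).ι ⁻¹ᵁ (f₁ ⁻¹ᵁ V.1)).ι := by
      rw [← cancel_mono (f₁ ⁻¹ᵁ U).ι, Category.assoc, ← hlft, hk]
    rw [← Category.assoc, hk, Category.assoc, Category.assoc, hφι, haV2, ← Category.assoc, hl]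
  · rintro ψ ⟨hψ, hψU⟩
    refine 𝒰.hom_ext _ _ fun (V : S.affineOpens) => ?_
    show (f₁ ⁻¹ᵁ V.1).ι ≫ ψ = (f₁ ⁻¹ᵁ V.1).ι ≫ φ
    rw [hφι]
    refine huniq V _ le_rfl _ _ (by rw [Category.assoc, hψ]) (haV1 V) ?_
    rw [haV2, ← Category.assoc, hlft, Category.assoc, hψU]

end Groth.Agent.S19995
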