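import Groth.Statements.S2000
import Groth.Agent.Lib.GlueH7.Exists

set_option autoImplicit false
universe u
open TensorProduct
open EtAlg

namespace Groth.Agent.S2000

/-- Beauville–Laszlo, essential surjectivity with glueability: take a glueing pair (R -> R', f). Fix an
R'-module M', an R-module M₁ on which multiplication by f is bijective (i.e. an R_f-module), and α
an R'-linear isomorphism from the localization of M' at f to R' ⊗_R M₁ (an isomorphism of
R'_f-modules). Then there is an R-module M, glueable for (R -> R', f), with an R'-isomorphism R' ⊗_R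
M ≅ M' and an R-isomorphism M_f ≅ M₁ under which α becomes the canonical identification (R' ⊗_R M)_f
= R' ⊗_R M_f. -/
theorem result (R R' : Type u) [CommRing R] [CommRing R'] [Algebra R R'] (f : R)
    (hRR : EtGlue.IsGlueingPair R R' f) (M' : Type u) [AddCommGroup M'] [Module R' M'] (M₁ : Type u) [AddCommGroup M₁]
    [Module R M₁] (hf : Function.Bijective fun x : M₁ => f • x)
    (α : LocalizedModule (Submonoid.powers (algebraMap R R' f)) M' ≃ₗ[R'] R' ⊗[R] M₁) :
    ∃ (M : Type u) (_ : AddCommGroup M) (_ : Module R M) (_ : EtGlue.IsGlueable R R' f M)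
      (e' : R' ⊗[R] M ≃ₗ[R'] M') (e₁ : LocalizedModule (Submonoid.powers f) M ≃ₗ[R] M₁),
      ∀ m : M, α (LocalizedModule.mkLinearMap (Submonoid.powers (algebraMap R R' f)) M' (e' ((1 : R') ⊗ₜ[R] m))) =
        (1 : R') ⊗ₜ[R] e₁ (LocalizedModule.mkLinearMap (Submonoid.powers f) M m) := by
  letI : Module R M' := Module.compHom M' (algebraMap R R')
  haveI : IsScalarTower R R' M' := ⟨fun r r' x => by
    show (r • r') • x = algebraMap R R' r • (r' • x)
    rw [Algebra.smul_def, mul_smul]⟩
  let β : M' →ₗ[R'] R' ⊗[R] M₁ :=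
    α.toLinearMap.comp (LocalizedModule.mkLinearMap (Submonoid.powers (algebraMap R R' f)) M')
  haveI : IsLocalizedModule (Submonoid.powers (algebraMap R R' f)) β := IsLocalizedModule.of_linearEquiv _ _ _
  let M : Submodule R (M' × M₁) :=
    LinearMap.eqLocus ((β.restrictScalars R).comp (LinearMap.fst R M' M₁))
      ((TensorProduct.mk R R' M₁ 1).comp (LinearMap.snd R M' M₁))
  let p₁ : M →ₗ[R] M' := (LinearMap.fst R M' M₁).comp M.subtype
  let p₂ : M →ₗ[R] M₁ := (LinearMap.snd R M' M₁).comp M.subtype
  have d : Groth.Agent.GlueH7.GlueData β p₁ p₂ :=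
    ⟨fun m => m.2, fun m h1 h2 => Subtype.ext (Prod.ext h1 h2), fun x y h => ⟨⟨(x, y), h⟩, rfl, rfl⟩⟩
  haveI := d.isLocalizedModule hf
  refine ⟨M, inferInstance, inferInstance, d.isGlueable hRR hf,
    LinearEquiv.ofBijective _ (d.bijective hRR hf), IsLocalizedModule.iso (Submonoid.powers f) p₂, fun m => ?_⟩
  rw [LinearEquiv.ofBijective_apply, LinearMap.liftBaseChange_tmul, one_smul]
  have he : IsLocalizedModule.iso (Submonoid.powers f) p₂
      (LocalizedModule.mkLinearMap (Submonoid.powers f) M m) = p₂ m :=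
    IsLocalizedModule.iso_mk_one (Submonoid.powers f) p₂ m
  rw [he]
  exact d.comm m

end Groth.Agent.S2000
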