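import Groth.Statements.S20000
import Groth.Agent.Lib.GaExt14.Main

set_option autoImplicit false
universe u
open Neron

namespace Groth.Agent.S20000

open CategoryTheory AlgebraicGeometry in
/-- Let `κ` be an arbitrary field and `G`, `G''` smooth connected commutative group schemes of finite
type over `κ`. Let `q : G → G''` be a homomorphism which is flat and surjective, and `i : 𝔾_a → G` a
homomorphism exhibiting the additive group as the kernel of `q` (so `0 → 𝔾_a → G → G'' → 0` is exact
in the fppf topology). If `G''` is unirational, i.e. admits a dominant `κ`-morphism from a nonempty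
open subscheme of an affine space over `κ`, then so does `G`. (The published statement allows the
kernel to be any repeated extension of copies of `𝔾_a`; this row is the case of a single copy, from
which the general case follows by induction on the length.) -/
theorem result
    (κ : Type u) [Field κ]
    (G G'' : Over (Spec (CommRingCat.of κ))) [GrpObj G] [IsCommMonObj G] [GrpObj G''] [IsCommMonObj G'']
    [Smooth G.hom] [LocallyOfFiniteType G.hom] [QuasiCompact G.hom] [ConnectedSpace G.left]
    [Smooth G''.hom] [LocallyOfFiniteType G''.hom] [QuasiCompact G''.hom] [ConnectedSpace G''.left]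
    (q : G ⟶ G'') [IsMonHom q] [Flat q.left] (hq : Function.Surjective q.left.base)
    (i : Red.Ga (Spec (CommRingCat.of κ)) ⟶ G) [IsMonHom i] (hker : AlgGrp.IsKernel i q)
    (huni : ∃ (n : ℕ) (V : (AffineSpace (ULift.{u} (Fin n)) (Spec (CommRingCat.of κ))).Opens)
        (ψ : (V : Scheme.{u}) ⟶ G''.left),
      (V : Set (AffineSpace (ULift.{u} (Fin n)) (Spec (CommRingCat.of κ)))).Nonempty ∧ DenseRange ψ.base ∧
      ψ ≫ G''.hom = V.ι ≫ (AffineSpace (ULift.{u} (Fin n)) (Spec (CommRingCat.of κ)) ↘ Spec (CommRingCat.of κ))) :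
    ∃ (n : ℕ) (V : (AffineSpace (ULift.{u} (Fin n)) (Spec (CommRingCat.of κ))).Opens)
        (ψ : (V : Scheme.{u}) ⟶ G.left),
      (V : Set (AffineSpace (ULift.{u} (Fin n)) (Spec (CommRingCat.of κ)))).Nonempty ∧ DenseRange ψ.base ∧
      ψ ≫ G.hom = V.ι ≫ (AffineSpace (ULift.{u} (Fin n)) (Spec (CommRingCat.of κ)) ↘ Spec (CommRingCat.of κ)) := by
  haveI : Surjective q.left := ⟨hq⟩
  obtain ⟨n, V, ψ, hV, hd, hψ⟩ := huni
  exact Groth.Agent.GaExt14.exists_dominant q i hker n V ψ hV hd hψ

end Groth.Agent.S20000
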