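import Groth.Statements.S20004
import Groth.Agent.S15800
import Groth.Agent.Lib.WildQuotH28.AutCard
open IsLocalRing

set_option autoImplicit false
universe u v w
open WildQuot

namespace Groth.Agent.S20004

/-- Let `A` be a complete regular local ring of Krull dimension at least `2` and prime characteristic
`p`; let `k` be a field with `k → A` mapping onto the residue field, such that `k` has no Galois
extension of degree `p`; let `G` be a group of order `p` acting on `A` by `k`-algebra automorphisms,
ramified precisely at the origin (for every non-maximal prime `P`, the inertia subgroup of `P` is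
trivial). Let `R` be a `k`-algebra with an injective structure map `R → A` whose image is fixed by
`G` (so `R ⊆ A^G`), with `A` finite over `R`. Galois extensions of fraction fields are expressed
through automorphism counts: since `A` and `A^G` are normal domains finite over `R`,
`Frac(A^G)/Frac(R)` is Galois exactly when `p` times the number of `k`-algebra automorphisms of
`A^G` fixing the image of `R` equals the rank `[Frac A : Frac R]` of `A` over `R`, and
`Frac(A)/Frac(R)` is Galois exactly when the number of `R`-algebra automorphisms of `A` equals that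
rank. The row: the first equality implies the second. (The published statement assumes `R ⊆ A^G`
finite with `Frac(A^G)/Frac(R)` Galois and concludes that `Frac(A)/Frac(R)` is Galois; here `R` is
taken to contain `k`, as the norm subrings of the source do.) -/
theorem result
    (p : ℕ) [Fact p.Prime] (A : Type u) [CommRing A] [IsRegularLocalRing A] [CharP A p]
    [IsAdicComplete (IsLocalRing.maximalIdeal A) A] (hdim : 2 ≤ ringKrullDim A)
    (k : Type v) [Field k] [Algebra k A]
    (hk : Function.Surjective (IsLocalRing.residue A ∘ algebraMap k A))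
    (hkp : ∀ (L : Type v) [Field L] [Algebra k L], IsGalois k L → Module.finrank k L ≠ p)
    (G : Type w) [Group G] [Finite G] [MulSemiringAction G A] (hcard : Nat.card G = p)
    [SMulCommClass G k A]
    (hram : ∀ P : Ideal A, P.IsPrime → P ≠ IsLocalRing.maximalIdeal A → P.inertia G = ⊥)
    (R : Type v) [CommRing R] [Algebra k R] [Algebra R A] [IsScalarTower k R A] [Module.Finite R A]
    (hRinj : Function.Injective (algebraMap R A))
    (hRG : ∀ (σ : G) (r : R), σ • algebraMap R A r = algebraMap R A r)
    (hgal : p * Nat.card {φ : FixedPoints.subalgebra k A G ≃ₐ[k] FixedPoints.subalgebra k A G //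
        ∀ b : FixedPoints.subalgebra k A G, (b : A) ∈ Set.range (algebraMap R A) → (φ b : A) = b} =
      Module.finrank R A) :
    Nat.card (A ≃ₐ[R] A) = Module.finrank R A := by
  haveI := RegLoc.isDomain A
  haveI := RegLoc.ufd_of_isRegularLocalRing A
  have hGk : ∀ (σ : G) (c : k), σ • algebraMap k A c = algebraMap k A c := fun σ c => by
    rw [Algebra.algebraMap_eq_smul_one, smul_comm, smul_one]
  obtain ⟨hfin, hle⟩ := WildQuotH28.finite_and_card_algEquiv_le R A hRinj
  refine le_antisymm hle ?_
  rw [← hgal, ← hcard, ← Nat.card_prod]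
  have hext : ∀ φ : FixedPoints.subalgebra k A G ≃ₐ[k] FixedPoints.subalgebra k A G,
      ∃ ψ : A ≃ₐ[k] A, ∀ x : FixedPoints.subalgebra k A G, ψ x = φ x :=
    S15800.result p A hdim k hk hkp G hcard hram
  choose ψ hψ using hext
  let Φ : G × {φ : FixedPoints.subalgebra k A G ≃ₐ[k] FixedPoints.subalgebra k A G //
      ∀ b : FixedPoints.subalgebra k A G, (b : A) ∈ Set.range (algebraMap R A) → (φ b : A) = b} → (A ≃ₐ[R] A) :=
    fun x => AlgEquiv.ofRingEquiv (f := (ψ x.2.1).toRingEquiv.trans (MulSemiringAction.toRingEquiv G A x.1))
      fun r => by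
        show x.1 • ψ x.2.1 (algebraMap R A r) = algebraMap R A r
        have h1 : ψ x.2.1 (algebraMap R A r) = algebraMap R A r := by
          have := hψ x.2.1 ⟨algebraMap R A r, fun σ => hRG σ r⟩
          exact this.trans (x.2.2 ⟨algebraMap R A r, fun σ => hRG σ r⟩ ⟨r, rfl⟩)
        rw [h1, hRG]
  refine Nat.card_le_card_of_injective Φ fun x y h => ?_
  have h1 : ∀ a : A, x.1 • ψ x.2.1 a = y.1 • ψ y.2.1 a := fun a => AlgEquiv.congr_fun h a
  have h2 : x.2 = y.2 := Subtype.ext (AlgEquiv.ext fun b => Subtype.ext (by
    have := h1 (b : A)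
    rwa [hψ, hψ, (x.2.1 b).2 x.1, (y.2.1 b).2 y.1] at this))
  refine Prod.ext ?_ h2
  have hne : (⊥ : Ideal A) ≠ maximalIdeal A := fun h => by
    have hf := (IsLocalRing.isField_iff_maximalIdeal_eq.2 h.symm)
    rw [ringKrullDim_eq_zero_of_isField hf] at hdim
    exact absurd hdim (by decide)
  have h3 : y.1⁻¹ * x.1 ∈ (⊥ : Ideal A).inertia G := by
    rw [AddSubgroup.mem_inertia]
    intro a
    obtain ⟨z, rfl⟩ := (ψ x.2.1).surjective a
    show _ ∈ (⊥ : Ideal A)
    rw [Ideal.mem_bot, mul_smul, h1 z, ← h2, inv_smul_smul, sub_self]
  rw [hram ⊥ Ideal.isPrime_bot hne, Subgroup.mem_bot] at h3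
  exact (inv_mul_eq_one.1 h3).symm

end Groth.Agent.S20004
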