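import Groth.Statements.S2001
import Groth.Agent.Lib.GlueH7.Glueable

set_option autoImplicit false
universe u
open TensorProduct
open EtAlg

namespace Groth.Agent.S2001

/-- Let (R -> R', f) be a glueing pair and M, N R-modules glueable for it. Given an R'-linear map φ' :
R' ⊗_R M -> R' ⊗_R N and an R-linear map φ₁ : M_f -> N_f which induce the same map into (R' ⊗_R N)_f
on elements of M, there is a unique R-linear map ψ : M -> N whose base change to R' is φ' and whose
localization is φ₁. -/
theorem result (R R' : Type u) [CommRing R] [CommRing R'] [Algebra R R'] (f : R)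
    (hRR : EtGlue.IsGlueingPair R R' f) (M N : Type u) [AddCommGroup M] [Module R M] [AddCommGroup N] [Module R N]
    (hM : EtGlue.IsGlueable R R' f M) (hN : EtGlue.IsGlueable R R' f N)
    (φ' : R' ⊗[R] M →ₗ[R'] R' ⊗[R] N)
    (φ₁ : LocalizedModule (Submonoid.powers f) M →ₗ[R] LocalizedModule (Submonoid.powers f) N)
    (hc : ∀ m : M, EtGlue.locOfTensor R R' f N (φ' ((1 : R') ⊗ₜ[R] m)) =
      EtGlue.tensorOfLoc R R' f N (φ₁ (LocalizedModule.mkLinearMap (Submonoid.powers f) M m))) :
    ∃! ψ : M →ₗ[R] N, ψ.baseChange R' = φ' ∧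
      IsLocalizedModule.map (Submonoid.powers f) (LocalizedModule.mkLinearMap (Submonoid.powers f) M)
        (LocalizedModule.mkLinearMap (Submonoid.powers f) N) ψ = φ₁ := by
  have key : ∀ m : M, ∃! n : N, (1 : R') ⊗ₜ[R] n = φ' ((1 : R') ⊗ₜ[R] m) ∧
      LocalizedModule.mkLinearMap (Submonoid.powers f) N n =
        φ₁ (LocalizedModule.mkLinearMap (Submonoid.powers f) M m) := by
    intro m
    obtain ⟨n, hn⟩ := hN.2 _ _ (hc m)
    exact ⟨n, hn, fun n' hn' => hN.1 (Prod.ext (hn'.1.trans hn.1.symm) (hn'.2.trans hn.2.symm))⟩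
  choose g hg huniq using key
  let ψ : M →ₗ[R] N :=
    { toFun := g
      map_add' := fun a b => (huniq (a + b) _ ⟨by
          rw [TensorProduct.tmul_add, (hg a).1, (hg b).1, ← map_add, ← TensorProduct.tmul_add], by
          rw [map_add, (hg a).2, (hg b).2, ← map_add, ← map_add]⟩).symm
      map_smul' := fun c a => (huniq (c • a) _ ⟨by
          rw [RingHom.id_apply, TensorProduct.tmul_smul, (hg a).1, ← LinearMap.map_smul_of_tower, TensorProduct.tmul_smul], by
          rw [RingHom.id_apply, map_smul, (hg a).2, ← map_smul, ← map_smul]⟩).symm }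
  refine ⟨ψ, ⟨?_, ?_⟩, ?_⟩
  · apply LinearMap.ext
    intro z
    induction z using TensorProduct.induction_on with
    | zero => simp
    | tmul a m =>
      have : a ⊗ₜ[R] m = a • ((1 : R') ⊗ₜ[R] m) := by rw [TensorProduct.smul_tmul', smul_eq_mul, mul_one]
      rw [this, map_smul, map_smul, LinearMap.baseChange_tmul]
      exact congrArg (a • ·) (hg m).1
    | add a b ha hb => rw [map_add, map_add, ha, hb]
  · apply IsLocalizedModule.linearMap_ext (Submonoid.powers f) (LocalizedModule.mkLinearMap (Submonoid.powers f) M)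
      (LocalizedModule.mkLinearMap (Submonoid.powers f) N)
    ext m
    rw [LinearMap.comp_apply, LinearMap.comp_apply, IsLocalizedModule.map_apply]
    exact (hg m).2
  · rintro χ ⟨h1, h2⟩
    refine LinearMap.ext fun m => huniq m _ ⟨?_, ?_⟩
    · rw [← h1, LinearMap.baseChange_tmul]
    · rw [← h2, IsLocalizedModule.map_apply]

end Groth.Agent.S2001
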