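import Groth.Statements.S20012
import Groth.Agent.S7383
import Groth.Agent.S9220
import Groth.Agent.S9199
import Groth.Agent.Lib.ModApprox2.Stage
import Groth.Agent.Lib.ModApprox2.Image
import Groth.Agent.Lib.BlowUpExist.Proper

set_option autoImplicit false
set_option backward.isDefEq.respectTransparency false
set_option backward.isDefEq.respectTransparency.types false
universe u
open CategoryTheory CategoryTheory.Limits AlgebraicGeometry TopologicalSpace
open ModPair

namespace Groth.Agent.S20012

/-- Let (S, I_S) be a modulus pair — a scheme with the quasi-coherent ideal sheaf of an effective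
Cartier divisor — with S quasi-compact and quasi-separated, and let (X, I_X) be a modulus pair with
an ambient morphism f : X ⟶ S (modulus condition I_X ≤ I_S.comap f) which is quasi-compact and
separated. Then (X, I_X) is a limit of finite-type S-pairs along affine, minimal,
scheme-theoretically dominant transitions: there are a cofiltered system D of S-schemes with limit X
(as an S-scheme) and quasi-coherent ideal sheaves J_i of effective Cartier divisors on its members
such that every X_i ⟶ S is separated and of finite type and satisfies the modulus condition J_i ≥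
I_S pulled back, every transition morphism is affine, minimal (J_i is the pull-back of J_j) and
scheme-theoretically dominant, and I_X is the pull-back of J_i along the projection for every i.
(The full faithfulness half of the published statement is the hom formula for such systems and is
not part of this row.) -/
theorem result
    {X S : Scheme.{u}} [CompactSpace S] [QuasiSeparatedSpace S]
    (IS : S.IdealSheafData) (hS : BlowUp.IsEffCartierIdeal IS)
    (IX : X.IdealSheafData) (hX : BlowUp.IsEffCartierIdeal IX)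
    (f : X ⟶ S) [QuasiCompact f] [IsSeparated f] (hf : ModPair.IsAmbient IX IS f) :
    ∃ (I : Type u) (_ : SmallCategory I) (_ : IsCofiltered I) (D : I ⥤ Over S) (c : Cone D)
      (_ : IsLimit c) (e : c.pt ≅ Over.mk f) (J : ∀ i, (D.obj i).left.IdealSheafData),
      (∀ i, BlowUp.IsEffCartierIdeal (J i)) ∧
      (∀ i, LocallyOfFiniteType (D.obj i).hom ∧ QuasiCompact (D.obj i).hom ∧ IsSeparated (D.obj i).hom) ∧
      (∀ i, ModPair.IsAmbient (J i) IS (D.obj i).hom) ∧
      (∀ (i j : I) (t : i ⟶ j), IsAffineHom (D.map t).left ∧ ModPair.IsMinimal (J i) (J j) (D.map t).left ∧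
          IsSchemeTheoreticallyDominant (D.map t).left) ∧
      (∀ i, IX = (J i).comap (e.inv.left ≫ (c.π.app i).left)) := by
  haveI : CompactSpace X := QuasiCompact.compactSpace_of_compactSpace f
  haveI : QuasiSeparatedSpace X := quasiSeparatedSpace_of_quasiSeparated f
  obtain ⟨I, _, hdir, hne, D, c, hc, hD, hDa, ⟨eiso⟩⟩ := Groth.Agent.S7383.result f
  haveI := hdir
  haveI := hne
  haveI : IsFiltered I := isFiltered_of_directed_le_nonempty I
  haveI : IsConnected Iᵒᵖ := IsCofiltered.isConnected _
  haveI hDaff : ∀ {a b : Iᵒᵖ} (t : a ⟶ b), IsAffineHom (D.map t).left := fun t => hDa _ _ t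
  haveI : ∀ {a b : Iᵒᵖ} (t : a ⟶ b), IsAffineHom ((D ⋙ Over.forget S).map t) := fun t => hDa _ _ t
  haveI hπaff : ∀ i, IsAffineHom (c.π.app i).left := fun i =>
    isAffineHom_π_app (D ⋙ Over.forget S) _ (isLimitOfPreserves (Over.forget S) hc) i
  haveI : ∀ i, QuasiCompact (c.π.app i).left := fun i => inferInstance
  let G := Groth.Agent.ModApprox2.im D c
  let c' := Groth.Agent.ModApprox2.imCone D c
  let hc' : IsLimit c' := Groth.Agent.ModApprox2.isLimitImCone D c hc
  let F : Iᵒᵖ ⥤ Scheme.{u} := G ⋙ Over.forget S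
  let cF : Cone F := (Over.forget S).mapCone c'
  let hcF : IsLimit cF := isLimitOfPreserves (Over.forget S) hc'
  have hG : ∀ i, LocallyOfFiniteType (G.obj i).hom ∧ QuasiCompact (G.obj i).hom ∧
      CompactSpace (G.obj i).left ∧ QuasiSeparatedSpace (G.obj i).left := by
    intro i
    obtain ⟨h1, h2, h3⟩ := hD i
    haveI := h1; haveI := h2; haveI := h3
    haveI i1 : LocallyOfFiniteType (G.obj i).hom := by
      change LocallyOfFiniteType ((c.π.app i).left.imageι ≫ (D.obj i).hom)
      infer_instance
    haveI i2 : QuasiCompact (G.obj i).hom := by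
      change QuasiCompact ((c.π.app i).left.imageι ≫ (D.obj i).hom)
      infer_instance
    haveI i3 : QuasiSeparated (G.obj i).hom := by
      change QuasiSeparated ((c.π.app i).left.imageι ≫ (D.obj i).hom)
      infer_instance
    exact ⟨i1, i2, QuasiCompact.compactSpace_of_compactSpace (G.obj i).hom,
      quasiSeparatedSpace_of_quasiSeparated (G.obj i).hom⟩
  haveI : ∀ i, CompactSpace (F.obj i) := fun i => (hG i).2.2.1
  haveI : ∀ i, QuasiSeparatedSpace (F.obj i) := fun i => (hG i).2.2.2
  haveI hFaff : ∀ {a b : Iᵒᵖ} (t : a ⟶ b), IsAffineHom (F.map t) := fun t => by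
    haveI := hDaff t
    exact Groth.Agent.ModApprox2.isAffineHom_im_map D c t
  haveI : ∀ (a b : Iᵒᵖ) (t : a ⟶ b), IsAffineHom (F.map t) := fun a b t => hFaff t
  haveI : ∀ i, IsSchemeTheoreticallyDominant (cF.π.app i) := fun i =>
    Groth.Agent.ModApprox2.dominant_imCone_π D c i
  haveI : IsIso eiso.hom.left := ((Over.forget S).mapIso eiso).isIso_hom
  have hX' : BlowUp.IsEffCartierIdeal (IX.comap eiso.hom.left) :=
    Groth.Agent.BlowUpExist.isEffCartierIdeal_comap_of_isOpenImmersion hX _
  obtain ⟨i, K, hK, hKc⟩ := Groth.Agent.S9220.result F cF hcF (IX.comap eiso.hom.left)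
    (fun U => Groth.Agent.EffCartier.fg_ideal hX' U)
  let τ : F ⟶ (Functor.const Iᵒᵖ).obj S :=
    { app := fun i => (G.obj i).hom
      naturality := fun a b t => by
        show (G.map t).left ≫ (G.obj b).hom = (G.obj a).hom ≫ 𝟙 S
        rw [Over.w, Category.comp_id] }
  have hw : ∀ i, cF.π.app i ≫ τ.app i = eiso.hom.left ≫ f := fun i =>
    (Over.w (c'.π.app i)).trans (Over.w eiso.hom).symm
  haveI : IsSeparated (cF.π.app i ≫ τ.app i) := by
    rw [hw]
    infer_instance
  obtain ⟨i₁, hi₁⟩ := Groth.Agent.S9199.result S F τ cF hcF i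
  have hle : K.comap (cF.π.app i) ≤ (IS.comap (G.obj i).hom).comap (cF.π.app i) := by
    rw [hKc, ← Scheme.IdealSheafData.comap_comp, show cF.π.app i ≫ (G.obj i).hom = _ from hw i,
      Scheme.IdealSheafData.comap_comp]
    exact Scheme.IdealSheafData.comap_mono _ hf
  obtain ⟨j, hj⟩ := Groth.Agent.ModApprox2.exists_stage cF hcF K (IS.comap (G.obj i).hom) hK
    (hKc ▸ hX') hle
  let m : Iᵒᵖ := IsCofiltered.min j.left i₁
  let a : m ⟶ j.left := IsCofiltered.minToLeft _ _
  let b : m ⟶ i₁ := IsCofiltered.minToRight _ _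
  have hgood : ∀ p : Over m, BlowUp.IsEffCartierIdeal (K.comap (F.map (p.hom ≫ a ≫ j.hom))) ∧
      K.comap (F.map (p.hom ≫ a ≫ j.hom)) ≤ (IS.comap (G.obj i).hom).comap (F.map (p.hom ≫ a ≫ j.hom)) :=
    fun p => hj (Over.mk (p.hom ≫ a ≫ j.hom)) (Over.homMk (p.hom ≫ a) (Category.assoc _ _ _))
  refine ⟨Over m, inferInstance, inferInstance, Over.forget m ⋙ G, c'.whisker (Over.forget m),
    (Functor.Initial.isLimitWhiskerEquiv (Over.forget m) c').symm hc', eiso,
    fun p => K.comap (F.map (p.hom ≫ a ≫ j.hom)), fun p => (hgood p).1,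
    fun p => ⟨(hG p.left).1, (hG p.left).2.1, hi₁ p.left (p.hom ≫ b)⟩, fun p => ?_, fun p q t => ⟨?_, ?_, ?_⟩,
    fun p => ?_⟩
  · refine (hgood p).2.trans ?_
    rw [← Scheme.IdealSheafData.comap_comp]
    exact le_of_eq (congrArg IS.comap (Over.w (G.map (p.hom ≫ a ≫ j.hom))))
  · exact hFaff t.left
  · show K.comap (F.map (p.hom ≫ a ≫ j.hom)) = (K.comap (F.map (q.hom ≫ a ≫ j.hom))).comap (F.map t.left)
    rw [← Scheme.IdealSheafData.comap_comp, ← F.map_comp, ← Category.assoc t.left, Over.w t]
  · exact Groth.Agent.ModApprox2.dominant_im_map D c t.left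
  · show IX = (K.comap (F.map (p.hom ≫ a ≫ j.hom))).comap (eiso.inv.left ≫ cF.π.app p.left)
    rw [← Scheme.IdealSheafData.comap_comp, Category.assoc, cF.w, Scheme.IdealSheafData.comap_comp, hKc,
      ← Scheme.IdealSheafData.comap_comp, ← Over.comp_left, eiso.inv_hom_id]
    exact (Scheme.IdealSheafData.comap_id IX).symm

end Groth.Agent.S20012
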