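import Groth.Statements.S20013
import Groth.Agent.Lib.RegRes18.Resolution
-- import your own Groth.Agent.* helpers here

set_option autoImplicit false
universe u
open KRR

namespace Groth.Agent.S20013

open CategoryTheory CategoryTheory.Limits AlgebraicGeometry in
/-- Let T be any scheme, p : P^n_T ⟶ T the projection, and F a quasi-coherent O-module on P^n_T which is
regular relative to p, i.e. R^i p_*(F(-i)) = 0 for every i ≥ 1 (higher direct images of the
underlying abelian sheaves). Then F has a resolution 0 ⟶ p^*(T_n)(-n) ⟶ … ⟶ p^*(T_1)(-1) ⟶ p^*(T_0)
⟶ F ⟶ 0 with T_0, …, T_n quasi-coherent O_T-modules: there are such modules, a chain complex L of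
O-modules on P^n_T whose i-th term is isomorphic to p^*(T_i)(-i) for i ≤ n and is zero for i > n,
and a quasi-isomorphism from L to F placed in degree 0. (Stated for P^n_T rather than for the
projective bundle of a vector bundle of rank n + 1, and for quasi-coherent modules, the generality
in which regularity is defined in the text; only the existence of the resolution is asserted, not
that the T_i are canonically determined by F or exact in F.) -/
theorem result (n : ℕ) (T : Scheme.{u})
    (F : (KRR.PY n T).Modules) (hF : Coh.IsQCoh F) (hreg : KRR.IsRegSheaf n T F) :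
    ∃ (Tm : ℕ → T.Modules) (L : ChainComplex (KRR.PY n T).Modules ℕ)
      (π : L ⟶ (ChainComplex.single₀ (KRR.PY n T).Modules).obj F),
      (∀ i, Coh.IsQCoh (Tm i)) ∧
      (∀ i, i ≤ n → Nonempty (L.X i ≅
        KRR.twF n T (-(i : ℤ)) ((Scheme.Modules.pullback (KRR.pr n T)).obj (Tm i)))) ∧
      (∀ i, n < i → IsZero (L.X i)) ∧ QuasiIso π := by
  exact Groth.Agent.RegRes18.exists_resolution hF hreg

end Groth.Agent.S20013
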