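import Groth.Statements.S20015
import Groth.Agent.Lib.LiaisonH1.Final
import Groth.Agent.S18865

set_option autoImplicit false
universe u
open Liaison

namespace Groth.Agent.S20015

open Groth.Agent.LiaisonH1 in
theorem key (K : Type u) [Field K] (n c : ℕ) (hc : 2 ≤ c)
    (𝔠 I J : Ideal (MvPolynomial (Fin (n + 1)) K))
    (h𝔠 : 𝔠.IsHomogeneous (GrSyz.stdGr K (Fin (n + 1)))) (hI : I.IsHomogeneous (GrSyz.stdGr K (Fin (n + 1))))
    (hJ : J.IsHomogeneous (GrSyz.stdGr K (Fin (n + 1))))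
    [LocCoh.IsGorensteinRing (MvPolynomial (Fin (n + 1)) K ⧸ 𝔠)] (h𝔠c : 𝔠.height = c)
    (hIJ : 𝔠.colon (I : Set (MvPolynomial (Fin (n + 1)) K)) = J) (hJI : 𝔠.colon (J : Set (MvPolynomial (Fin (n + 1)) K)) = I)
    [LocCoh.IsCohenMacaulayRing (MvPolynomial (Fin (n + 1)) K ⧸ I)] :
    LocCoh.IsCohenMacaulayRing (MvPolynomial (Fin (n + 1)) K ⧸ J) := by
  by_cases hJ𝔠 : J ≤ 𝔠
  · obtain rfl : J = 𝔠 := le_antisymm hJ𝔠 (hIJ ▸ le_colon I)
    infer_instance
  · have hle : 𝔠 ≤ I := hJI ▸ le_colon J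
    have hIc : I.height = c :=
      hJI ▸ (Groth.Agent.S18865.result K n c hc 𝔠 J h𝔠 hJ h𝔠c hJ𝔠).1
    exact hIJ ▸ isCM_colon I hle (fun q _ => height_comap_factor h𝔠 hI hle h𝔠c hIc q)



/-- Let K be a field, R = K[x_0, …, x_n] graded by degree, c ≥ 2, 𝔠 ⊂ R a homogeneous ideal of height c
such that R/𝔠 is a Gorenstein ring, and I, J ⊂ R homogeneous ideals directly linked by 𝔠, that is 𝔠
: I = J and 𝔠 : J = I. Then R/I is a Cohen–Macaulay ring if and only if R/J is a Cohen–Macaulay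
ring: of two directly linked subschemes of projective space one is arithmetically Cohen–Macaulay
exactly when the other is. (A Gorenstein ideal of the notes, one whose quotient is Cohen–Macaulay
with last graded Betti number 1, is rendered as: the quotient ring is Gorenstein; the statement is
given at the level of homogeneous ideals, as the notes define linkage.) -/
theorem result (K : Type u) [Field K] (n c : ℕ) (hc : 2 ≤ c)
    (𝔠 I J : Ideal (MvPolynomial (Fin (n + 1)) K))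
    (h𝔠 : 𝔠.IsHomogeneous (GrSyz.stdGr K (Fin (n + 1)))) (hI : I.IsHomogeneous (GrSyz.stdGr K (Fin (n + 1))))
    (hJ : J.IsHomogeneous (GrSyz.stdGr K (Fin (n + 1))))
    [LocCoh.IsGorensteinRing (MvPolynomial (Fin (n + 1)) K ⧸ 𝔠)] (h𝔠c : 𝔠.height = c)
    (hIJ : 𝔠.colon (I : Set (MvPolynomial (Fin (n + 1)) K)) = J) (hJI : 𝔠.colon (J : Set (MvPolynomial (Fin (n + 1)) K)) = I) :
    LocCoh.IsCohenMacaulayRing (MvPolynomial (Fin (n + 1)) K ⧸ I) ↔ LocCoh.IsCohenMacaulayRing (MvPolynomial (Fin (n + 1)) K ⧸ J) := by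
  constructor
  · intro h; exact key K n c hc 𝔠 I J h𝔠 hI hJ h𝔠c hIJ hJI
  · intro h; exact key K n c hc 𝔠 J I h𝔠 hJ hI h𝔠c hJI hIJ

end Groth.Agent.S20015
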