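import Groth.Statements.S20016
import Groth.Agent.Lib.EffCartier.Basic
import Mathlib.RingTheory.Smooth.IntegralClosure
import Mathlib.AlgebraicGeometry.Morphisms.Etale
import Mathlib.RingTheory.Flat.TorsionFree

set_option autoImplicit false
set_option linter.style.haveILetI false
universe u
open CategoryTheory AlgebraicGeometry TopologicalSpace Opposite
open ModPair

namespace Groth.Agent.S20016

open TensorProduct Groth.Agent.EffCartier

theorem alg_step {A B Af Bb : Type u} [CommRing A] [CommRing B] [Algebra A B] [Algebra.Smooth A B] (f : A)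
    [CommRing Af] [Algebra A Af] [IsLocalization.Away f Af] [CommRing Bb] [Algebra B Bb]
    [IsLocalization.Away (algebraMap A B f) Bb]
    (h : ∀ s : Af, IsIntegral A s → s ∈ Set.range (algebraMap A Af)) (t : Bb) (ht : IsIntegral B t) :
    t ∈ Set.range (algebraMap B Bb) := by
  haveI : IsLocalization.Away (algebraMap A B f) (B ⊗[A] Af) := by
    have := IsLocalization.tensor (S := B) Af (Submonoid.powers f)
    rwa [Algebra.algebraMapSubmonoid_powers] at this
  let e : Bb ≃ₐ[B] B ⊗[A] Af := IsLocalization.algEquiv (Submonoid.powers (algebraMap A B f)) _ _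
  obtain ⟨w, hw⟩ := TensorProduct.toIntegralClosure_bijective_of_smooth.2
    (⟨e t, ht.map e.toAlgHom⟩ : integralClosure B (B ⊗[A] Af))
  have hr : ∀ w : B ⊗[A] integralClosure A Af,
      ∃ b : B, (TensorProduct.toIntegralClosure A B Af w).1 = algebraMap B (B ⊗[A] Af) b := fun w => by
    induction w with
    | zero => exact ⟨0, by simp⟩
    | add x y hx hy => obtain ⟨⟨a, ha⟩, b, hb⟩ := And.intro hx hy; exact ⟨a + b, by simp [ha, hb, TensorProduct.add_tmul]⟩
    | tmul b s =>
      obtain ⟨a, ha⟩ := h s.1 s.2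
      refine ⟨a • b, ?_⟩
      show b ⊗ₜ[A] s.1 = (a • b) ⊗ₜ[A] (1 : Af)
      rw [← ha, Algebra.algebraMap_eq_smul_one, smul_tmul]
  obtain ⟨b, hb⟩ := hr w
  refine ⟨b, e.injective ?_⟩
  rw [e.commutes, ← hb, hw]

theorem inj_of_local {Y : Scheme.{u}} (W : Y.Opens)
    (h : ∀ y : Y, ∀ O : Y.Opens, y ∈ O → ∃ O' ≤ O, y ∈ O' ∧
      Function.Injective (Y.presheaf.map (homOfLE (inf_le_left : O' ⊓ W ≤ O')).op))
    (O : Y.Opens) : Function.Injective (Y.presheaf.map (homOfLE (inf_le_left : O ⊓ W ≤ O)).op) := fun a b hab => by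
  choose O' hle hmem hinj using fun y : O => h y.1 O y.2
  refine TopCat.Sheaf.eq_of_locally_eq' Y.sheaf O' O (fun y => homOfLE (hle y))
    (fun y hy => Opens.mem_iSup.2 ⟨⟨y, hy⟩, hmem _⟩) a b fun y => hinj y ?_
  have := congrArg (Y.presheaf.map (homOfLE (inf_le_inf_right W (hle y))).op) hab
  show Y.presheaf.map _ (Y.presheaf.map _ a) = Y.presheaf.map _ (Y.presheaf.map _ b)
  simp only [← CommRingCat.comp_apply, ← Functor.map_comp] at this ⊢
  exact this

end Groth.Agent.S20016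

namespace Groth.Agent.S20016

/-- Let (X, I_X) be a modulus pair — a scheme X with the quasi-coherent ideal sheaf I_X of an effective
Cartier divisor — with interior X° (the open complement of the support of I_X), and suppose O_X is
integrally closed in O_{X°}: for every affine open U of X, every section of O_X over U ∩ X° which is
integral over Γ(U, O_X) along the restriction map is the restriction of a section over U. Let g : Y
⟶ X be an étale morphism and Y° = g⁻¹(X°). Then O_Y is integrally closed in O_{Y°}: for every affine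
open V of Y, every section of O_Y over V ∩ Y° which is integral over Γ(V, O_Y) along the restriction
map is the restriction of a section over V. (The text does not spell out the phrase integrally
closed for sheaves; it is rendered here affine-locally through restriction maps.) -/
theorem result {X Y : Scheme.{u}}
    (IX : X.IdealSheafData) (hX : BlowUp.IsEffCartierIdeal IX)
    (hint : ∀ U ∈ X.affineOpens, ∀ s : Γ(X, U ⊓ ModPair.interior IX),
      (X.presheaf.map (homOfLE (inf_le_left : U ⊓ ModPair.interior IX ≤ U)).op).hom.IsIntegralElem s →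
        s ∈ Set.range (X.presheaf.map (homOfLE (inf_le_left : U ⊓ ModPair.interior IX ≤ U)).op).hom)
    (g : Y ⟶ X) [Etale g] :
    ∀ V ∈ Y.affineOpens, ∀ t : Γ(Y, V ⊓ g ⁻¹ᵁ ModPair.interior IX),
      (Y.presheaf.map (homOfLE (inf_le_left : V ⊓ g ⁻¹ᵁ ModPair.interior IX ≤ V)).op).hom.IsIntegralElem t →
        t ∈ Set.range (Y.presheaf.map (homOfLE (inf_le_left : V ⊓ g ⁻¹ᵁ ModPair.interior IX ≤ V)).op).hom := by
  intro V hV t ht
  have hloc : ∀ y : Y, ∀ O : Y.Opens, y ∈ O → ∃ (U : X.affineOpens) (f : Γ(X, U.1)) (O' : Y.Opens) (e : O' ≤ g ⁻¹ᵁ U.1),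
      EffCartier.IsEqn IX U f ∧ IsAffineOpen O' ∧ y ∈ O' ∧ O' ≤ O := fun y O hy => by
    obtain ⟨U, hU, f, hf⟩ := EffCartier.isEffCartierIdeal_iff.1 hX (g y)
    obtain ⟨O', hO', hyO', hle⟩ := exists_isAffineOpen_mem_and_subset (X := Y) (x := y) (U := O ⊓ g ⁻¹ᵁ U.1) ⟨hy, hU⟩
    exact ⟨U, f, O', hle.trans inf_le_right, hf, hO', hyO', hle.trans inf_le_left⟩
  have hbo : ∀ (U : X.affineOpens) (f : Γ(X, U.1)) (O' : Y.Opens) (e : O' ≤ g ⁻¹ᵁ U.1), EffCartier.IsEqn IX U f →
      O' ⊓ g ⁻¹ᵁ ModPair.interior IX = Y.basicOpen (g.appLE U.1 O' e f) := fun U f O' e hf => by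
    rw [Scheme.Hom.appLE, CommRingCat.comp_apply, Scheme.basicOpen_res, ← Scheme.preimage_basicOpen,
      EffCartier.basicOpen_eq hf]
    ext y
    exact ⟨fun h => ⟨h.1, h.2, e h.1⟩, fun h => ⟨h.1, h.2.1⟩⟩
  have hinj := inj_of_local (g ⁻¹ᵁ ModPair.interior IX) fun y O hy => by
    obtain ⟨U, f, O', e, hf, hO', hyO', hle⟩ := hloc y O hy
    refine ⟨O', hle, hyO', ?_⟩
    letI := (g.appLE U.1 O' e).hom.toAlgebra
    haveI : Algebra.Etale Γ(X, U.1) Γ(Y, O') := g.etale_appLE U.2 hO' e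
    letI : Algebra Γ(Y, O') Γ(Y, O' ⊓ g ⁻¹ᵁ ModPair.interior IX) := (Y.presheaf.map (homOfLE inf_le_left).op).hom.toAlgebra
    haveI : IsLocalization.Away (g.appLE U.1 O' e f) Γ(Y, O' ⊓ g ⁻¹ᵁ ModPair.interior IX) :=
      hO'.isLocalization_of_eq_basicOpen _ (homOfLE inf_le_left) (hbo U f O' e hf)
    refine IsLocalization.injective (M := Submonoid.powers (g.appLE U.1 O' e f)) _ (Submonoid.powers_le.2 ?_)
    rw [mem_nonZeroDivisors_iff_right]
    intro z hz
    exact (Module.Flat.isSMulRegular_of_nonZeroDivisors (M := Γ(Y, O')) hf.mem).right_eq_zero_of_smul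
      ((Algebra.smul_def f z).trans ((mul_comm _ z).trans hz))
  choose U f O' e hf hO' hyO' hle using fun y : V => hloc y.1 V y.2
  have hsec : ∀ y : V, ∃ a : Γ(Y, O' y), Y.presheaf.map (homOfLE inf_le_left).op a =
      Y.presheaf.map (homOfLE (inf_le_inf_right (g ⁻¹ᵁ ModPair.interior IX) (hle y))).op t := fun y => by
    letI := (g.appLE (U y).1 (O' y) (e y)).hom.toAlgebra
    haveI : Algebra.Etale Γ(X, (U y).1) Γ(Y, O' y) := g.etale_appLE (U y).2 (hO' y) (e y)
    letI : Algebra Γ(Y, O' y) Γ(Y, O' y ⊓ g ⁻¹ᵁ ModPair.interior IX) := (Y.presheaf.map (homOfLE inf_le_left).op).hom.toAlgebra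
    haveI : IsLocalization.Away (algebraMap Γ(X, (U y).1) Γ(Y, O' y) (f y)) Γ(Y, O' y ⊓ g ⁻¹ᵁ ModPair.interior IX) :=
      (hO' y).isLocalization_of_eq_basicOpen _ (homOfLE inf_le_left) (hbo (U y) (f y) (O' y) (e y) (hf y))
    letI : Algebra Γ(X, (U y).1) Γ(X, (U y).1 ⊓ ModPair.interior IX) := (X.presheaf.map (homOfLE inf_le_left).op).hom.toAlgebra
    haveI : IsLocalization.Away (f y) Γ(X, (U y).1 ⊓ ModPair.interior IX) :=
      (U y).2.isLocalization_of_eq_basicOpen _ (homOfLE inf_le_left) ((inf_comm _ _).trans (EffCartier.basicOpen_eq (hf y)).symm)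
    refine alg_step (f y) (fun s hs => hint _ (U y).2 s hs) _ ?_
    obtain ⟨P, hP, hPt⟩ := ht
    refine ⟨P.map (Y.presheaf.map (homOfLE (hle y)).op).hom, hP.map _, ?_⟩
    have h0 := congrArg (Y.presheaf.map (homOfLE (inf_le_inf_right (g ⁻¹ᵁ ModPair.interior IX) (hle y))).op).hom hPt
    rw [map_zero, Polynomial.hom_eval₂] at h0
    rw [Polynomial.eval₂_map]
    refine Eq.trans ?_ h0
    congr 1
    show (Y.presheaf.map _ ≫ Y.presheaf.map _).hom = (Y.presheaf.map _ ≫ Y.presheaf.map _).hom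
    rw [← Functor.map_comp, ← Functor.map_comp]
    rfl
  choose a ha using hsec
  have hcompat : TopCat.Presheaf.IsCompatible Y.presheaf O' a := fun y y' => by
    refine hinj _ ?_
    have h₁ := congrArg (Y.presheaf.map (homOfLE (inf_le_inf_right (g ⁻¹ᵁ ModPair.interior IX) (inf_le_left : O' y ⊓ O' y' ≤ O' y))).op) (ha y)
    have h₂ := congrArg (Y.presheaf.map (homOfLE (inf_le_inf_right (g ⁻¹ᵁ ModPair.interior IX) (inf_le_right : O' y ⊓ O' y' ≤ O' y'))).op) (ha y')
    simp only [← CommRingCat.comp_apply, ← Functor.map_comp] at h₁ h₂ ⊢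
    exact h₁.trans h₂.symm
  obtain ⟨a₀, ha₀, -⟩ := TopCat.Sheaf.existsUnique_gluing' Y.sheaf O' V (fun y => homOfLE (hle y))
    (fun y hy => Opens.mem_iSup.2 ⟨⟨y, hy⟩, hyO' _⟩) a hcompat
  refine ⟨a₀, TopCat.Sheaf.eq_of_locally_eq' Y.sheaf (fun y => O' y ⊓ g ⁻¹ᵁ ModPair.interior IX) _
    (fun y => homOfLE (inf_le_inf_right _ (hle y)))
    (fun y hy => Opens.mem_iSup.2 ⟨⟨y, hy.1⟩, hyO' _, hy.2⟩) _ _ fun y => ?_⟩
  refine Eq.trans ?_ (ha y)
  have := congrArg (Y.presheaf.map (homOfLE (inf_le_left : O' y ⊓ g ⁻¹ᵁ ModPair.interior IX ≤ O' y)).op) (ha₀ y)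
  refine Eq.trans ?_ this
  change Y.presheaf.map _ (Y.presheaf.map _ a₀) = Y.presheaf.map _ (Y.presheaf.map _ a₀)
  rw [← CommRingCat.comp_apply, ← CommRingCat.comp_apply, ← Functor.map_comp, ← Functor.map_comp]
  rfl

end Groth.Agent.S20016
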