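import Groth.Statements.S20017
-- import your own Groth.Agent.* helpers here
import Groth.Agent.Lib.IsomTors25.Basic
import Groth.Agent.Lib.TorsorSch25.Normal

set_option autoImplicit false
set_option backward.isDefEq.respectTransparency.types false
universe u
open CategoryTheory AlgebraicGeometry
open NonAbH1

namespace Groth.Agent.S20017

/-- Let X be a normal integral scheme (integral, with every local ring integrally closed), G a group
scheme over X whose structure morphism is finite and flat, and U ⊆ X a dense open subscheme. Then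
the restriction map H¹(X, G) → H¹(U, G|_U) on classes of fppf G-torsors — X-schemes with a G-action
which are pseudo-torsors and acquire sections on the members of some fppf covering family, up to
equivariant isomorphism — given by base change along the open immersion U → X, is injective. (G is
not assumed commutative; injectivity is that of a map of pointed sets.) -/
theorem result
    (X : Scheme.{u}) [AlgebraicGeometry.IsIntegral X] (hX : Pi1.IsNormalScheme X)
    (G : Over X) [GrpObj G] [IsFinite G.hom] [Flat G.hom]
    (U : X.Opens) (hU : Dense (U : Set X)) :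
    Function.Injective (NonAbH1.H1Sch.bcMap U.ι G Scheme.fppfPrecoverage) := by
  intro c d hcd
  induction c using Quot.ind with | mk P => ?_
  induction d using Quot.ind with | mk Q => ?_
  have hP : NonAbH1.IsTorsorFor Scheme.fpqcPrecoverage P.act := ⟨P.isTorsor.1, P.isTorsor.2.choose,
    Scheme.fppfPrecoverage_le_fpqcPrecoverage _ P.isTorsor.2.choose_spec.1, P.isTorsor.2.choose_spec.2⟩
  haveI := TorsorSch25.isFinite_of_isTorsorFor_fppf P.isTorsor
  haveI := TorsorSch25.isFinite_of_isTorsorFor_fppf Q.isTorsor
  haveI := TorsorSch25.flat_descendsAlong.{u}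
  haveI : Flat P.X.hom := TorsorSch25.prop_of_isTorsorFor @Flat hP inferInstance
  haveI := IsomTors25.surjective_of_isTorsorFor hP
  obtain ⟨e⟩ := TorsorSch25.nonempty_equivIso_of_cl_eq (P := P.bc U.ι) (Q := Q.bc U.ι) hcd
  obtain ⟨I⟩ := IsomTors25.exists_isom hP.1 Q.act
  haveI := I.isFinite
  obtain ⟨u⟩ := I.exists_point hP U.ι e
  have hη : genericPoint X ∈ U :=
    ((genericPoint_spec X).mem_open_set_iff U.2).2 (by
      obtain ⟨x, hx⟩ := hU.nonempty
      exact ⟨x, trivial, hx⟩)
  let t : Spec (X.presheaf.stalk (genericPoint X)) ⟶ I.U.left := U.fromSpecStalkOfMem _ hη ≫ u.left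
  have ht : t ≫ I.U.hom = X.fromSpecStalk (genericPoint X) := by
    show (_ ≫ u.left) ≫ _ = _
    rw [Category.assoc, Over.w u]
    exact U.fromSpecStalkOfMem_ι _ hη
  obtain ⟨s, hs, -⟩ := TorsorSch25.exists_section_of_generic hX I.U.hom t ht
  obtain ⟨φ, hφ⟩ := I.exists_hom (Over.homMk s hs)
  haveI := TorsorSch25.isIso_of_equivariant hP Q.isTorsor.1 φ hφ
  exact Quot.sound ⟨⟨asIso φ, hφ⟩⟩

end Groth.Agent.S20017
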