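import Groth.Statements.S20018
import Mathlib

set_option autoImplicit false
open CAlg

namespace Groth.Agent.S20018

open PowerSeries in

open PowerSeries in
/-- Product expansion of big Witt vectors: let R be a commutative ring and x ∈ 1 + tR[[t]] a formal
power series with constant term 1. Then x can be written uniquely as an infinite product ∏_{i ≥ 1}
(1 - α_i t^i) with α_i ∈ R. The infinite product is expressed through its truncations: there is a
unique sequence α : ℕ → R (α i standing for the coefficient attached to t^{i+1}) such that for every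
N the series x and the finite product ∏_{i=0}^{N} (1 - α_i t^{i+1}) agree modulo t^{N+2}. -/
theorem result
    (R : Type*) [CommRing R] (x : PowerSeries R) (hx : PowerSeries.constantCoeff x = 1) :
    ∃! α : ℕ → R, ∀ N : ℕ,
      PowerSeries.trunc (N + 2) x =
        PowerSeries.trunc (N + 2) (∏ i ∈ Finset.range (N + 1),
          (1 - PowerSeries.C (α i) * PowerSeries.X ^ (i + 1) : PowerSeries R)) := by
  classical
  let P : ℕ → PowerSeries R := fun n => Nat.rec 1 (fun n p => p * (1 - C (coeff (n + 1) p - coeff (n + 1) x) * X ^ (n + 1))) n
  let α : ℕ → R := fun n => coeff (n + 1) (P n) - coeff (n + 1) x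
  have hP : ∀ n, P n = ∏ i ∈ Finset.range n, (1 - C (α i) * X ^ (i + 1)) := by
    intro n
    induction n with
    | zero => simp [P]
    | succ n ih => rw [Finset.prod_range_succ, ← ih]
  have hc0 : ∀ (β : ℕ → R) n, constantCoeff (∏ i ∈ Finset.range n, (1 - C (β i) * X ^ (i + 1))) = 1 := by
    intro β n; simp [map_prod]
  have hlow : ∀ (p : PowerSeries R) (c : R) (n j : ℕ), constantCoeff p = 1 →
      coeff j (p * (1 - C c * X ^ (n + 1))) = if j < n + 1 then coeff j p else if j = n + 1 then coeff j p - c else coeff j (p * (1 - C c * X ^ (n + 1))) := by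
    intro p c n j hp
    split_ifs with h1 h2
    · rw [mul_sub, mul_one, map_sub, ← mul_assoc, coeff_mul_X_pow', if_neg (by omega), sub_zero]
    · subst h2
      rw [mul_sub, mul_one, map_sub, ← mul_assoc, coeff_mul_X_pow', if_pos le_rfl, Nat.sub_self, coeff_zero_eq_constantCoeff, map_mul, hp, constantCoeff_C, one_mul]
    · rfl
  have hgood : ∀ N, ∀ j ≤ N, coeff j (P N) = coeff j x := by
    intro N
    induction N with
    | zero => intro j hj; obtain rfl : j = 0 := by omega
              simp [P, hx]
    | succ N ih =>
      intro j hj
      show coeff j (P N * (1 - C (α N) * X ^ (N + 1))) = _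
      rw [hlow _ _ _ _ (by rw [hP]; exact hc0 α N)]
      split_ifs with h1 h2
      · exact ih j (by omega)
      · subst h2; simp [α]
      · omega
  refine ⟨α, fun N => ?_, fun β hβ => ?_⟩
  · rw [← hP]
    ext j
    simp only [coeff_trunc]
    split_ifs with h
    · exact (hgood (N + 1) j (by omega)).symm
    · rfl
  · funext N
    induction N using Nat.strong_induction_on with
    | _ N ih =>
      have h := congrArg (fun q => Polynomial.coeff q (N + 1)) (hβ N)
      simp only [coeff_trunc, if_pos (show N + 1 < N + 2 by omega)] at h
      rw [Finset.prod_range_succ, hlow _ _ _ _ (hc0 β N), if_neg (lt_irrefl _), if_pos rfl,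
        Finset.prod_congr rfl (fun i hi => by rw [ih i (Finset.mem_range.1 hi)] : ∀ i ∈ Finset.range N, (1 - C (β i) * X ^ (i + 1) : PowerSeries R) = 1 - C (α i) * X ^ (i + 1)), ← hP] at h
      show β N = coeff (N + 1) (P N) - coeff (N + 1) x
      rw [h]; ring

end Groth.Agent.S20018
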