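import Groth.Statements.S20019
import Groth.Agent.Lib.RepRing23.Char
import Groth.Agent.Lib.RepRing23.IntFin
import Groth.Agent.Lib.CharInt11.Basic
import Groth.Agent.Lib.HopfGL23.Basic
import Groth.Agent.Lib.HopfRedH28.Basic
import Mathlib.RingTheory.Adjoin.FG

set_option autoImplicit false
open scoped TensorProduct
open HopfRep

namespace Groth.Agent.S20019

open Polynomial

variable {B : Type} [CommRing B] [HopfAlgebra ℂ B]

/-- The power maps of a group, on the coordinate ring. -/
noncomputable def powHom (B : Type) [CommRing B] [HopfAlgebra ℂ B] : ℕ → (B →ₐ[ℂ] B)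
  | 0 => (Algebra.ofId ℂ B).comp (Bialgebra.counitAlgHom ℂ B)
  | s + 1 => (Algebra.TensorProduct.lift (powHom B s) (AlgHom.id ℂ B) fun _ _ => Commute.all _ _).comp
      (Bialgebra.comulAlgHom ℂ B)

theorem powHom_isMul {ι : Type} [Fintype ι] [DecidableEq ι] {Z : Matrix ι ι B} (hZ : Chevalley.IsMul (k := ℂ) Z)
    (s : ℕ) (i j : ι) : powHom B s (Z i j) = (Z ^ s) i j := by
  induction s generalizing i j with
  | zero =>
    rw [powHom, pow_zero, Matrix.one_apply, AlgHom.comp_apply, Bialgebra.counitAlgHom_apply, hZ.counit]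
    split_ifs <;> simp
  | succ s ih =>
    rw [powHom, pow_succ, Matrix.mul_apply, AlgHom.comp_apply, Bialgebra.comulAlgHom_apply, hZ.comul, map_sum]
    exact Finset.sum_congr rfl fun l _ => by simp [ih]

/-- An element, read along all powers. -/
noncomputable def seqHom (B : Type) [CommRing B] [HopfAlgebra ℂ B] : B →ₐ[ℂ] (ℕ → B) := Pi.algHom ℂ _ (powHom B)

/-- The shift of sequences. -/
noncomputable def shift (R0 : Subalgebra ℂ B) : (ℕ → B) →ₐ[R0] (ℕ → B) :=
  Pi.algHom R0 _ fun s => Pi.evalAlgHom R0 (fun _ : ℕ => B) (s + 1)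

theorem shift_apply (R0 : Subalgebra ℂ B) (f : ℕ → B) (s : ℕ) : shift R0 f s = f (s + 1) := rfl

/-- A sequence lying in a finitely generated shift-stable module. -/
def Good (R0 : Subalgebra ℂ B) (f : ℕ → B) : Prop :=
  ∃ N : Submodule R0 (ℕ → B), N.FG ∧ f ∈ N ∧ N.map (shift R0).toLinearMap ≤ N

theorem good_add {R0 : Subalgebra ℂ B} {f g : ℕ → B} (hf : Good R0 f) (hg : Good R0 g) : Good R0 (f + g) := by
  obtain ⟨N, hN, hfN, hsN⟩ := hf
  obtain ⟨M, hM, hgM, hsM⟩ := hg
  refine ⟨N ⊔ M, hN.sup hM, add_mem (Submodule.mem_sup_left hfN) (Submodule.mem_sup_right hgM), ?_⟩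
  rw [Submodule.map_sup]
  exact sup_le_sup hsN hsM

theorem good_mul {R0 : Subalgebra ℂ B} {f g : ℕ → B} (hf : Good R0 f) (hg : Good R0 g) : Good R0 (f * g) := by
  obtain ⟨N, hN, hfN, hsN⟩ := hf
  obtain ⟨M, hM, hgM, hsM⟩ := hg
  refine ⟨N * M, hN.mul hM, Submodule.mul_mem_mul hfN hgM, ?_⟩
  rw [Submodule.map_mul]
  exact mul_le_mul' hsN hsM

theorem good_algebraMap (R0 : Subalgebra ℂ B) (c : ℂ) : Good R0 (algebraMap ℂ (ℕ → B) c) := by
  refine ⟨Submodule.span R0 {algebraMap ℂ (ℕ → B) c}, Submodule.fg_span_singleton _, Submodule.mem_span_singleton_self _, ?_⟩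
  rw [Submodule.map_span, Submodule.span_le]
  rintro _ ⟨x, rfl, rfl⟩
  exact Submodule.mem_span_singleton_self _

theorem good_geom {R0 : Subalgebra ℂ B} {b : B} (hb : b ∈ R0) : Good R0 (fun s => b ^ s) := by
  refine ⟨Submodule.span R0 {fun s => b ^ s}, Submodule.fg_span_singleton _, Submodule.mem_span_singleton_self _, ?_⟩
  rw [Submodule.map_span, Submodule.span_le]
  rintro _ ⟨x, rfl, rfl⟩
  refine Submodule.mem_span_singleton.2 ⟨⟨b, hb⟩, funext fun s => ?_⟩
  show b * b ^ s = b ^ (s + 1)
  rw [pow_succ']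

theorem good_entry {n : ℕ} {R0 : Subalgebra ℂ B} (y : Matrix (Fin n) (Fin n) B) {p : R0[X]} (hp : p.Monic)
    (hpy : aeval y p = 0) (i j : Fin n) : Good R0 (fun s => (y ^ s) i j) := by
  let Y : ℕ → Fin n → Fin n → (ℕ → B) := fun t a b s => (y ^ (s + t)) a b
  let N : Submodule R0 (ℕ → B) :=
    Submodule.span R0 (Set.range fun q : Fin (p.natDegree + 1) × Fin n × Fin n => Y q.1 q.2.1 q.2.2)
  have hY : ∀ (m : ℕ) a b, Y m a b ∈ N := by
    intro m a b
    have hm : y ^ m = ∑ t ∈ Finset.range (p.natDegree + 1), ((X ^ m) %ₘ p).coeff t • y ^ t := by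
      rw [← aeval_eq_sum_range' (Nat.lt_succ_of_le (Polynomial.natDegree_modByMonic_le _ hp)) y,
        Polynomial.modByMonic_eq_sub_mul_div, map_sub, map_mul, hpy, zero_mul, sub_zero, map_pow, aeval_X]
    have e : Y m a b = ∑ t ∈ Finset.range (p.natDegree + 1), ((X ^ m) %ₘ p).coeff t • Y t a b := by
      funext s
      simp only [Y, Finset.sum_apply, Pi.smul_apply]
      rw [pow_add, hm, Finset.mul_sum, Matrix.sum_apply]
      exact Finset.sum_congr rfl fun t _ => by rw [Matrix.mul_smul, Matrix.smul_apply, pow_add]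
    rw [e]
    exact Submodule.sum_mem _ fun t ht =>
      N.smul_mem _ (Submodule.subset_span ⟨(⟨t, Finset.mem_range.1 ht⟩, a, b), rfl⟩)
  refine ⟨N, Submodule.fg_span (Set.finite_range _), ?_, ?_⟩
  · have := hY 0 i j
    simpa [Y] using this
  · rw [Submodule.map_span, Submodule.span_le]
    rintro _ ⟨_, ⟨⟨t, a, b⟩, rfl⟩, rfl⟩
    have e : shift R0 (Y t a b) = Y (t + 1) a b := funext fun s => by
      simp only [shift_apply, Y]
      rw [add_assoc, add_comm 1 (t : ℕ)]
    show shift R0 (Y t a b) ∈ N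
    rw [e]
    exact hY _ _ _

/-- If every element is good, every corepresentation matrix is integral. -/
theorem isIntegral_matrix {R0 : Subalgebra ℂ B} (hall : ∀ b, Good R0 (seqHom B b)) {ι : Type} [Fintype ι]
    [DecidableEq ι] {Z : Matrix ι ι B} (hZ : Chevalley.IsMul (k := ℂ) Z) : IsIntegral R0 Z := by
  choose Nf hfg hmem hst using hall
  let N : Submodule R0 (ℕ → B) := ⨆ q : ι × ι, Nf (Z q.1 q.2)
  have hN : N.FG := Submodule.fg_iSup _ fun q => hfg _
  haveI : Module.Finite R0 N := Module.Finite.iff_fg.2 hN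
  have hsN : ∀ f ∈ N, shift R0 f ∈ N := fun f hf => by
    have h : N.map (shift R0).toLinearMap ≤ N := by
      rw [Submodule.map_iSup]
      exact iSup_mono fun q => hst _
    exact h (Submodule.mem_map_of_mem hf)
  let σ : Module.End R0 N := (shift R0).toLinearMap.restrict hsN
  obtain ⟨q, hq, hq0⟩ := LinearMap.exists_monic_and_aeval_eq_zero R0 σ
  refine ⟨q, hq, ?_⟩
  have key : ∀ (r : R0[X]) (x : N) (s : ℕ) (i j : ι), (∀ t, (x : ℕ → B) t = (Z ^ (t + s)) i j) →
      ((aeval σ r x : N) : ℕ → B) 0 = (Z ^ s * aeval Z r) i j := by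
    intro r x s i j hx
    induction r using Polynomial.induction_on' with
    | add u v hu hv =>
      rw [map_add, map_add, LinearMap.add_apply, Submodule.coe_add, Pi.add_apply, hu, hv, mul_add, Matrix.add_apply]
    | monomial e c =>
      have hpow : ∀ e, ∀ t, (((σ ^ e) x : N) : ℕ → B) t = (x : ℕ → B) (t + e) := by
        intro e
        induction e with
        | zero => simp
        | succ e ih =>
          intro t
          rw [pow_succ', Module.End.mul_apply]
          show (((σ ^ e) x : N) : ℕ → B) (t + 1) = _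
          rw [ih, add_assoc, add_comm 1 e]
      rw [aeval_monomial, aeval_monomial, Algebra.algebraMap_eq_smul_one, smul_mul_assoc, one_mul,
        LinearMap.smul_apply, Submodule.coe_smul, Pi.smul_apply, hpow, hx, Algebra.algebraMap_eq_smul_one,
        smul_mul_assoc, one_mul, Matrix.mul_smul, Matrix.smul_apply, zero_add, ← pow_add, add_comm e s]
  show aeval Z q = 0
  refine Matrix.ext fun i j => ?_
  have hx : seqHom B (Z i j) ∈ N := (le_iSup (fun q : ι × ι => Nf (Z q.1 q.2)) (i, j)) (hmem _)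
  have h := key q ⟨_, hx⟩ 0 i j fun t => powHom_isMul hZ t i j
  rw [hq0, pow_zero, one_mul] at h
  exact h.symm

theorem isIntegral_trace [Algebra.FiniteType ℂ B] [IsReduced B] {R0 : Subalgebra ℂ B} {d : ℕ}
    {Z : Matrix (Fin d) (Fin d) B} (hZ : IsIntegral R0 Z) : IsIntegral R0 Z.trace := by
  haveI : IsNoetherianRing B := Algebra.FiniteType.isNoetherianRing ℂ B
  rcases isEmpty_or_nonempty (Fin d) with h | h
  · rw [Matrix.trace, Finset.univ_eq_empty, Finset.sum_empty]
    exact isIntegral_zero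
  · rw [Matrix.trace_eq_neg_charpoly_coeff]
    exact (CharInt11.isIntegral_matrix_charpoly_coeff (R := R0) (S := B) Z hZ _).neg

theorem trace_eq_char {C : Type} [CommRing C] [HopfAlgebra ℂ C] (d : ℕ) (c : HopfRep.Comod ℂ C (Fin d → ℂ)) :
    ∑ i : Fin d, TensorProduct.lid ℂ C (LinearMap.rTensor C (LinearMap.proj i)
        (@HopfRep.Comod.coact ℂ C _ _ _ _ (Fin d → ℂ) _ _ c (Pi.single i 1))) =
      (letI := c; (Chevalley.matrixOf (k := ℂ) (A := C) (Pi.basisFun ℂ (Fin d))).trace) := by
  letI := c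
  refine Finset.sum_congr rfl fun i _ => ?_
  have e : (Pi.basisFun ℂ (Fin d)).coord i = LinearMap.proj i := LinearMap.ext fun v => by simp
  show _ = TensorProduct.lid ℂ C (LinearMap.rTensor C ((Pi.basisFun ℂ (Fin d)).coord i) _)
  rw [e, Pi.basisFun_apply]

theorem exists_char {C : Type} [CommRing C] [HopfAlgebra ℂ C] {d : ℕ} {X : Matrix (Fin d) (Fin d) C}
    (hX : Chevalley.IsMul (k := ℂ) X) :
    ∃ p : (Σ d : ℕ, HopfRep.Comod ℂ C (Fin d → ℂ)),
      ∑ i : Fin p.1, TensorProduct.lid ℂ C (LinearMap.rTensor C (LinearMap.proj i)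
          (@HopfRep.Comod.coact ℂ C _ _ _ _ (Fin p.1 → ℂ) _ _ p.2 (Pi.single i 1))) = X.trace := by
  refine ⟨⟨d, Chevalley.matComod hX⟩, Finset.sum_congr rfl fun i _ => ?_⟩
  rw [← Pi.basisFun_apply]
  show TensorProduct.lid ℂ C (LinearMap.rTensor C (LinearMap.proj i) (Chevalley.matCoact X (Pi.basisFun ℂ (Fin d) i))) = _
  rw [Chevalley.matCoact_basis]
  simp [Pi.single_apply, Matrix.diag, Finset.sum_ite_eq]

theorem IsMul.map {C D : Type} [CommRing C] [HopfAlgebra ℂ C] [CommRing D] [HopfAlgebra ℂ D] {ι : Type} [Fintype ι]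
    [DecidableEq ι] {X : Matrix ι ι C} (hX : Chevalley.IsMul (k := ℂ) X) (f : C →ₐc[ℂ] D) :
    Chevalley.IsMul (k := ℂ) (X.map f) where
  comul i j := by
    rw [Matrix.map_apply, ← CoalgHomClass.map_comp_comul_apply f, hX.comul, map_sum]
    simp
  counit i j := (CoalgHomClass.counit_comp_apply f _).trans (hX.counit i j)


/-- Let A → B be a surjective homomorphism of finitely generated commutative Hopf algebras over the
complex numbers, that is a closed embedding H ↪ G of complex linear algebraic groups with G = Spec A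
and H = Spec B. For a comodule structure on the coordinate space ℂ^d with coaction e_i ↦ Σ_j e_j ⊗
a_ji, its character is Σ_i a_ii. Then R(H) is a finite R(G)-module, with the complexified
representation rings realised inside the coordinate rings by characters: there are finitely many
characters f_1, …, f_r of H-comodule structures such that every ℂ-linear combination of characters
of H-comodule structures on coordinate spaces is of the form Σ_j s_j f_j with each s_j in the
ℂ-subalgebra of B generated by the images of the characters of G-comodule structures on coordinate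
spaces. (The representation rings of the published statement are rendered through characters; over
the complex numbers the characters of pairwise non-isomorphic simple comodules are linearly
independent, so the span of characters is the complexified representation ring.) -/
theorem result
    (A B : Type) [CommRing A] [HopfAlgebra ℂ A] [Algebra.FiniteType ℂ A]
    [CommRing B] [HopfAlgebra ℂ B] [Algebra.FiniteType ℂ B]
    (π : A →ₐc[ℂ] B) (hπ : Function.Surjective π) :
    ∃ F : Finset B,
      (↑F : Set B) ⊆ Set.range (fun p : (Σ d : ℕ, HopfRep.Comod ℂ B (Fin d → ℂ)) =>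
          ∑ i : Fin p.1, TensorProduct.lid ℂ B (LinearMap.rTensor B (LinearMap.proj i)
            (@HopfRep.Comod.coact ℂ B _ _ _ _ (Fin p.1 → ℂ) _ _ p.2 (Pi.single i 1)))) ∧
      (↑(Submodule.span ℂ (Set.range (fun p : (Σ d : ℕ, HopfRep.Comod ℂ B (Fin d → ℂ)) =>
          ∑ i : Fin p.1, TensorProduct.lid ℂ B (LinearMap.rTensor B (LinearMap.proj i)
            (@HopfRep.Comod.coact ℂ B _ _ _ _ (Fin p.1 → ℂ) _ _ p.2 (Pi.single i 1)))))) : Set B) ⊆
        ↑(Submodule.span (Algebra.adjoin ℂ (π '' Set.range (fun p : (Σ d : ℕ, HopfRep.Comod ℂ A (Fin d → ℂ)) =>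
          ∑ i : Fin p.1, TensorProduct.lid ℂ A (LinearMap.rTensor A (LinearMap.proj i)
            (@HopfRep.Comod.coact ℂ A _ _ _ _ (Fin p.1 → ℂ) _ _ p.2 (Pi.single i 1))))))
          (↑F : Set B)) := by
  classical
  haveI : IsReduced B := HopfRedH28.isReduced_of_charZero ℂ B
  haveI : Nontrivial B := (Bialgebra.counitAlgHom ℂ B).toRingHom.domain_nontrivial
  haveI : IsNoetherianRing B := Algebra.FiniteType.isNoetherianRing ℂ B
  obtain ⟨n, πA, hπA⟩ := HopfGL23.exists_surjective (k := ℂ) (A := A)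
  let πB : CoordGrp.GLn n ℂ →ₐc[ℂ] B := π.comp πA
  have hπB : ∀ b, ∃ z, πB z = b := fun b => by
    obtain ⟨a, rfl⟩ := hπ b
    obtain ⟨z, rfl⟩ := hπA a
    exact ⟨z, rfl⟩
  let g : Matrix (Fin n) (Fin n) (CoordGrp.GLn n ℂ) := fun i j => CoordGrp.GLn.X i j
  have hg : Chevalley.IsMul (k := ℂ) g := ⟨fun i j => CoordGrp.GLn.comul_X i j, fun i j => CoordGrp.GLn.counit_X i j⟩
  let g1 : Matrix (Fin 1) (Fin 1) (CoordGrp.GLn n ℂ) := fun _ _ => CoordGrp.GLn.Dinv
  have hg1 : Chevalley.IsMul (k := ℂ) g1 := ⟨fun i j => by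
      rw [Fintype.sum_unique]; exact CoordGrp.GLn.comul_Dinv,
    fun i j => by rw [if_pos (Subsingleton.elim i j)]; exact CoordGrp.GLn.counit_Dinv⟩
  let x := g.map πA
  have hx : Chevalley.IsMul (k := ℂ) x := IsMul.map hg πA
  let y := g.map πB
  have hy : Chevalley.IsMul (k := ℂ) y := IsMul.map hg πB
  let dB := πB CoordGrp.GLn.Dinv
  have hd1 : Chevalley.IsMul (k := ℂ) (g1.map πB) := IsMul.map hg1 πB
  -- the characters
  let chA : Set A := Set.range (fun p : (Σ d : ℕ, HopfRep.Comod ℂ A (Fin d → ℂ)) =>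
          ∑ i : Fin p.1, TensorProduct.lid ℂ A (LinearMap.rTensor A (LinearMap.proj i)
            (@HopfRep.Comod.coact ℂ A _ _ _ _ (Fin p.1 → ℂ) _ _ p.2 (Pi.single i 1))))
  let chB : Set B := Set.range (fun p : (Σ d : ℕ, HopfRep.Comod ℂ B (Fin d → ℂ)) =>
          ∑ i : Fin p.1, TensorProduct.lid ℂ B (LinearMap.rTensor B (LinearMap.proj i)
            (@HopfRep.Comod.coact ℂ B _ _ _ _ (Fin p.1 → ℂ) _ _ p.2 (Pi.single i 1))))
  let R' := Algebra.adjoin ℂ (π '' chA)
  have hR' : ∀ {d : ℕ} {X : Matrix (Fin d) (Fin d) A}, Chevalley.IsMul (k := ℂ) X → π X.trace ∈ R' := fun hX => by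
    obtain ⟨p, hp⟩ := exists_char hX
    exact Algebra.subset_adjoin ⟨_, ⟨p, rfl⟩, congrArg π hp⟩
  let S : Finset B := insert dB ((Finset.range (n + 1)).image fun j => y.charpoly.coeff j)
  let R0 := Algebra.adjoin ℂ (S : Set B)
  have hR0 : R0 ≤ R' := by
    refine Algebra.adjoin_le fun b hb => ?_
    rw [Finset.mem_coe, Finset.mem_insert, Finset.mem_image] at hb
    rcases hb with rfl | ⟨j, hj, rfl⟩
    · have h := hR' (IsMul.map hg1 πA)
      rw [Matrix.trace_fin_one] at h
      exact h
    · rw [Finset.mem_range] at hj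
      obtain ⟨r, Y, hY, htr⟩ := RepRing23.exists_isMul_trace_minors hx (n - j)
      have h := hR' hY
      rw [htr, map_sum] at h
      have e := Matrix.charpoly_coeff_eq_sum_minors y (n - j) (by rw [Fintype.card_fin]; omega)
      rw [Fintype.card_fin, show n - (n - j) = j by omega] at e
      rw [e]
      refine mul_mem (pow_mem (neg_mem (one_mem _)) _) ?_
      convert h using 2 with s hs
      exact ((π : A →ₐ[ℂ] B).map_det _).symm
  have hdR0 : dB ∈ R0 := Algebra.subset_adjoin (Finset.mem_insert_self _ _)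
  have hlift : y.charpoly ∈ Polynomial.lifts (algebraMap R0 B) := by
    refine (Polynomial.lifts_iff_coeff_lifts _).2 fun j => ?_
    by_cases hj : j ≤ n
    · exact ⟨⟨_, Algebra.subset_adjoin (Finset.mem_insert_of_mem (Finset.mem_image.2
        ⟨j, Finset.mem_range.2 (by omega), rfl⟩))⟩, rfl⟩
    · exact ⟨0, by rw [map_zero, Polynomial.coeff_eq_zero_of_natDegree_lt]; rw [y.charpoly_natDegree_eq_dim, Fintype.card_fin]; omega⟩
  obtain ⟨p, hpmap, -, hp'⟩ := Polynomial.lifts_and_degree_eq_and_monic hlift y.charpoly_monic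
  have hpy : Polynomial.aeval y p = 0 := by
    rw [← Polynomial.aeval_map_algebraMap B, hpmap, Matrix.aeval_self_charpoly]
  let G : Subalgebra ℂ B :=
    { carrier := {b | Good R0 (seqHom B b)}
      add_mem' := fun {a b} ha hb => by
        show Good R0 (seqHom B (a + b))
        rw [map_add]; exact good_add ha hb
      mul_mem' := fun {a b} ha hb => by
        show Good R0 (seqHom B (a * b))
        rw [map_mul]; exact good_mul ha hb
      algebraMap_mem' := fun c => by
        show Good R0 (seqHom B (algebraMap ℂ B c))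
        rw [AlgHom.commutes]; exact good_algebraMap R0 c }
  have hall : ∀ b, b ∈ G := by
    intro b
    obtain ⟨z, rfl⟩ := hπB b
    obtain ⟨z, rfl⟩ : ∃ w : MvPolynomial (CoordGrp.GLPoly.Idx n) ℂ, CoordGrp.GLn.mk n ℂ w = z :=
      Ideal.Quotient.mk_surjective z
    induction z using MvPolynomial.induction_on with
    | C r =>
      have e : πB (CoordGrp.GLn.mk n ℂ (algebraMap ℂ (CoordGrp.GLb n ℂ) r)) = algebraMap ℂ B r := by
        rw [AlgHom.commutes]
        exact (πB : CoordGrp.GLn n ℂ →ₐ[ℂ] B).commutes r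
      exact e.symm ▸ G.algebraMap_mem r
    | add p q hp hq =>
      rw [show CoordGrp.GLn.mk n ℂ (p + q : MvPolynomial (CoordGrp.GLPoly.Idx n) ℂ) =
        CoordGrp.GLn.mk n ℂ p + CoordGrp.GLn.mk n ℂ q from map_add (CoordGrp.GLn.mk n ℂ) p q, map_add]
      exact G.add_mem hp hq
    | mul_X p s hp =>
      rw [show CoordGrp.GLn.mk n ℂ (p * MvPolynomial.X s : MvPolynomial (CoordGrp.GLPoly.Idx n) ℂ) =
        CoordGrp.GLn.mk n ℂ p * CoordGrp.GLn.mk n ℂ (MvPolynomial.X s) from map_mul (CoordGrp.GLn.mk n ℂ) p _, map_mul]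
      refine G.mul_mem hp ?_
      rcases s with ⟨i, j⟩ | ⟨⟩
      · show Good R0 (seqHom B (y i j))
        have h := good_entry y hp' hpy i j
        convert h using 1
        exact funext fun s => powHom_isMul hy s i j
      · show Good R0 (seqHom B dB)
        have h := good_geom (R0 := R0) hdR0
        convert h using 1
        funext s
        have h1 := powHom_isMul hd1 s 0 0
        refine h1.trans ?_
        induction s with
        | zero => simp
        | succ s ih => rw [pow_succ, Matrix.mul_apply, Fin.sum_univ_one, ih (powHom_isMul hd1 s 0 0), pow_succ]; rfl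
  have hint : ∀ b ∈ chB, b ∈ integralClosure R0 B := by
    rintro _ ⟨⟨d, c⟩, rfl⟩
    letI := c
    dsimp only
    show IsIntegral R0 _
    rw [trace_eq_char d c]
    exact isIntegral_trace (isIntegral_matrix hall (Chevalley.isMul_matrixOf _))
  haveI : Algebra.FiniteType ℂ R0 := (Subalgebra.fg_iff_finiteType R0).1 (Subalgebra.fg_adjoin_finset S)
  haveI : IsNoetherianRing R0 := Algebra.FiniteType.isNoetherianRing ℂ R0
  haveI : Module.Finite R0 (integralClosure R0 B) := RepRing23.finite_integralClosure_reduced ℂ R0 B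
  have hfg : (Submodule.span R0 chB).FG := by
    haveI := isNoetherian_of_fg_of_noetherian (Subalgebra.toSubmodule (integralClosure R0 B))
      (Module.Finite.iff_fg.1 (inferInstanceAs (Module.Finite R0 (integralClosure R0 B))))
    refine (isNoetherian_submodule.1 this) _ (Submodule.span_le.2 fun b hb => hint b hb)
  obtain ⟨F, hF, hFs⟩ := (Submodule.fg_span_iff_fg_span_finset_subset _).1 hfg
  refine ⟨F, hF, fun b hb => ?_⟩
  have h1 : b ∈ Submodule.span R0 chB := Submodule.span_le_restrictScalars ℂ R0 chB hb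
  rw [hFs] at h1
  have h2 : Submodule.span R0 (F : Set B) ≤
      { carrier := (Submodule.span R' (F : Set B) : Set B)
        add_mem' := fun ha hb => add_mem ha hb
        zero_mem' := zero_mem _
        smul_mem' := fun r x hx => (Submodule.span R' (F : Set B)).smul_mem ⟨r.1, hR0 r.2⟩ hx } :=
    Submodule.span_le.2 Submodule.subset_span
  exact h2 h1
end Groth.Agent.S20019
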