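import Groth.Statements.S20021
import Groth.Agent.Lib.OrbitH28.Stab
import Groth.Agent.Lib.OrbitH28.Dim
import Groth.Agent.Lib.FormSub28.GLStable

set_option autoImplicit false
universe u
open GIT

namespace Groth.Agent.S20021

/-- Let k be an algebraically closed field of arbitrary characteristic, A a reduced commutative Hopf
algebra of finite type over k all of whose finite-dimensional comodules are semisimple (a linearly
reductive affine algebraic group G = Spec A, an affine variety), and R a reduced commutative
k-algebra of finite type carrying an A-comodule structure whose coaction is an algebra map (an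
action of G on the affine variety X = Spec R, which may be reducible). Call a k-point x of X stable
when the image of its orbit morphism Spec A → Spec R is closed and A modulo the stabiliser ideal of
x is a finite k-module (closed orbit and zero-dimensional stabiliser). Then there is a set S of
invariant elements of R such that x is stable if and only if some member of S does not vanish at x;
in particular the stable locus is a union of basic open sets X_f with f invariant, hence open. (The
further assertion that the quotient map restricted to the stable locus is a geometric quotient onto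
an open subset of Spec R^G is not part of this row. No hypothesis on the characteristic of k.) -/
theorem result (k : Type u) [Field k]
    [IsAlgClosed k] (A : Type u) [CommRing A] [HopfAlgebra k A] [Algebra.FiniteType k A] [IsReduced A]
    (hG : HopfRep.IsLinearlyReductive k A)
    (R : Type u) [CommRing R] [IsReduced R] [Algebra k R] [Algebra.FiniteType k R]
    [HopfRep.Comod k A R] [GLin.IsCoactAlg k A R] :
    ∃ S : Set R, S ⊆ (GLin.invariants k A R : Set R) ∧
      ∀ x : R →ₐ[k] k, GLin.IsStablePt k A x ↔ ∃ f ∈ S, x f ≠ 0 := by
  have hst : ∀ x : R →ₐ[k] k, GLin.IsStablePt k A x ↔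
      Groth.Agent.OrbitH28.Closed A x ∧ Groth.Agent.OrbitH28.FinStab A x := fun x =>
    ⟨fun h => ⟨(Groth.Agent.OrbitH28.closed_iff_isClosedOrbit x).2 h.1,
        Groth.Agent.FormSub28.finStab_of_hasFiniteStab h.2⟩,
      fun h => ⟨(Groth.Agent.OrbitH28.closed_iff_isClosedOrbit x).1 h.1,
        Groth.Agent.FormSub28.hasFiniteStab_of_finStab h.2⟩⟩
  refine ⟨{f : R | f ∈ GLin.invariants k A R ∧ ∀ z : R →ₐ[k] k, z f ≠ 0 → GLin.IsStablePt k A z},
    fun f hf => hf.1, fun x => ⟨fun hx => ?_, ?_⟩⟩
  · obtain ⟨hcl, hfin⟩ := (hst x).1 hx
    obtain ⟨d, hd, hdx, hdz⟩ := Groth.Agent.OrbitH28.exists_invariant_finStab hG hcl hfin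
    refine ⟨d, ⟨hd, fun z hz => (hst z).2 ((Groth.Agent.OrbitH28.stable_iff hG z).2 fun z' hz' => ?_)⟩, by
      rw [hdx]; exact one_ne_zero⟩
    exact hdz z' (by rw [hz' d hd]; exact hz)
  · rintro ⟨f, hf, hfx⟩
    exact hf.2 x hfx

end Groth.Agent.S20021
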