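import Groth.Statements.S20022
import Groth.Agent.Lib.GrLC21.GradedField

set_option autoImplicit false
set_option backward.isDefEq.respectTransparency false
universe u
open GrLC

namespace Groth.Agent.S20022

/-- Let R be a commutative ℤ-graded ring whose degree-zero subring R_0 is a field k and which is the
Laurent polynomial ring k[T, T⁻¹] on a homogeneous invertible element T of positive degree d, in the
following intrinsic sense: T is a unit lying in R_d, and every nonzero homogeneous element of degree
n equals a·T^j for some a ∈ R_0 and some integer j with j·d = n (so R_n = 0 unless d divides n, and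
R_{jd} = k·T^j). Then every graded R-module M is free in the graded sense: M has an R-basis
consisting of homogeneous elements. (The other case of condition (2), R = k concentrated in degree
zero, is not included.) -/
theorem result (R : Type u) [CommRing R]
    (𝒜 : ℤ → AddSubgroup R) [GradedRing 𝒜] (h0 : IsField (GrLC.deg0 𝒜))
    (d : ℤ) (hd : 0 < d) (T : Rˣ) (hT : (T : R) ∈ 𝒜 d)
    (hA : ∀ (n : ℤ) (x : R), x ∈ 𝒜 n → x ≠ 0 →
      ∃ j : ℤ, ∃ a ∈ 𝒜 0, j * d = n ∧ x = a * ((T ^ j : Rˣ) : R))
    (M : Type u) [AddCommGroup M] [Module R M] (ℳ : ℤ → AddSubgroup M)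
    [DirectSum.Decomposition ℳ] [SetLike.GradedSMul 𝒜 ℳ] :
    ∃ (κ : Type u) (b : Module.Basis κ R M), ∀ i : κ, SetLike.IsHomogeneousElem ℳ (b i) := by
  refine GrLC21.exists_homogeneous_basis (𝒜 := 𝒜) ℳ fun n x hx hx0 => ?_
  obtain ⟨j, a, ha, -, rfl⟩ := hA n x hx hx0
  refine IsUnit.mul ?_ (T ^ j).isUnit
  obtain ⟨b, hb⟩ := h0.mul_inv_cancel (a := ⟨a, ha⟩) (fun e => hx0 (by
    have : a = 0 := congrArg Subtype.val e
    rw [this, zero_mul]))
  exact IsUnit.of_mul_eq_one (b : R) (congrArg Subtype.val hb)

end Groth.Agent.S20022
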