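import Groth.Statements.S20025
import Groth.Agent.Lib.Quartic28.Orbit

set_option autoImplicit false
universe u
open InvQ

namespace Groth.Agent.S20025

/-- For the special fibre of the invariant map, over a field in which 2 and 3 are nonzero, consider a
split binary quartic f = ∏_i (μ_i X₀ − λ_i X₁) given by four root points (λ_i, μ_i) ≠ (0, 0), with a
double zero (vanishing discriminant ∏_{i<j} (λ_j μ_i − λ_i μ_j)²) and no triple zero (no three root
points pairwise proportional); these are the forms of the fibre over the special point P³/Q² = 6 of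
the invariant map. Then exactly one of the two alternatives holds: f is a nonzero constant times the
form X₀² X₁ (X₀ − X₁) after an invertible linear substitution of the variables, or f is a nonzero
constant times X₀² X₁² after such a substitution. So this fibre consists of exactly two classes
under substitutions and scalars (one double zero and two simple zeros; two double zeros). (The
dimensions of the two orbits and which of them is open or closed in the fibre are not part of this
row; stated for split forms over any such field.) -/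
theorem result (k : Type u) [Field k]
    (h2 : (2 : k) ≠ 0) (h3 : (3 : k) ≠ 0) (la mu : Fin 4 → k)
    (hne : ∀ i, la i ≠ 0 ∨ mu i ≠ 0) (hd : W4c6intromoduli.disc la mu = 0)
    (h3z : ∀ i j l : Fin 4, i ≠ j → j ≠ l → i ≠ l →
      ¬ (la i * mu j = la j * mu i ∧ la j * mu l = la l * mu j)) :
    Xor
      (∃ (M : Matrix (Fin 2) (Fin 2) k) (c : k), IsUnit M.det ∧ c ≠ 0 ∧
        W4c6intromoduli.binForm la mu =
          MvPolynomial.C c * W4c6intromoduli.subst M
            (MvPolynomial.X 0 ^ 2 * MvPolynomial.X 1 * (MvPolynomial.X 0 - MvPolynomial.X 1)))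
      (∃ (M : Matrix (Fin 2) (Fin 2) k) (c : k), IsUnit M.det ∧ c ≠ 0 ∧
        W4c6intromoduli.binForm la mu =
          MvPolynomial.C c * W4c6intromoduli.subst M
            (MvPolynomial.X 0 ^ 2 * MvPolynomial.X 1 ^ 2)) := by
  rw [xor_def]
  suffices H : _ ∨ _ by
    rcases H with H | H
    · exact Or.inl ⟨H, fun H' => Groth.Agent.Quartic28.not_both H H'⟩
    · exact Or.inr ⟨H, fun H' => Groth.Agent.Quartic28.not_both H' H⟩
  obtain ⟨i, j, hij, h0⟩ : ∃ i j : Fin 4, i ≠ j ∧ Groth.Agent.Quartic28.br la mu i j = 0 := by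
    rw [W4c6intromoduli.disc, Finset.prod_eq_zero_iff] at hd
    obtain ⟨⟨i, j⟩, hlt, h⟩ := hd
    simp only [Finset.mem_filter] at hlt
    rw [pow_eq_zero_iff two_ne_zero] at h
    exact ⟨i, j, hlt.2.ne, by simp only [Groth.Agent.Quartic28.br]; linear_combination -h⟩
  let σ : Equiv.Perm (Fin 4) := Equiv.swap 0 i * Equiv.swap 1 (Equiv.swap 0 i j)
  have hj' : (0 : Fin 4) ≠ Equiv.swap 0 i j := fun e => hij (by
    have := congrArg (Equiv.swap 0 i) e
    rwa [Equiv.swap_apply_self, Equiv.swap_apply_left] at this)
  have hσ0 : σ 0 = i := by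
    simp only [σ, Equiv.Perm.mul_apply]
    rw [Equiv.swap_apply_of_ne_of_ne (by decide) hj', Equiv.swap_apply_left]
  have hσ1 : σ 1 = j := by
    simp only [σ, Equiv.Perm.mul_apply]
    rw [Equiv.swap_apply_left, Equiv.swap_apply_self]
  have hnz : ∀ l : Fin 4, l ≠ 0 → l ≠ 1 → Groth.Agent.Quartic28.br (la ∘ σ) (mu ∘ σ) 0 l ≠ 0 := by
    intro l hl0 hl1 h
    simp only [Groth.Agent.Quartic28.br, sub_eq_zero, Function.comp] at h h0
    rw [hσ0] at h
    refine h3z j i (σ l) hij.symm (fun e => hl0 (σ.injective (e.symm.trans hσ0.symm)))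
      (fun e => hl1 (σ.injective (e.symm.trans hσ1.symm))) ⟨h0.symm, ?_⟩
    exact h
  have := Groth.Agent.Quartic28.degenerate_forms (la := la ∘ σ) (mu := mu ∘ σ) (fun i => hne _)
    (by simpa [Groth.Agent.Quartic28.br, hσ0, hσ1] using h0) (hnz 2 (by decide) (by decide)) (hnz 3 (by decide) (by decide))
  rwa [Groth.Agent.Quartic28.binForm_comp] at this

end Groth.Agent.S20025
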