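import Groth.Statements.S20026
import Groth.Agent.Lib.TFNodal17.Beta
-- import your own Groth.Agent.* helpers here

set_option autoImplicit false
universe u
open CategoryTheory CategoryTheory.Limits AlgebraicGeometry
open TFNodal

set_option backward.isDefEq.respectTransparency false
set_option backward.isDefEq.respectTransparency.types false
set_option maxHeartbeats 1000000
open Groth.Agent Groth.Agent.TFNodal17 Groth.Agent.CurveCoh17

namespace Groth.Agent.S20026

/-- Let k be algebraically closed of characteristic zero, X a connected proper curve over k (dimension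
one) whose closed points are smooth points or nodes, and π : Y → X its normalization, given as a
finite morphism from a smooth k-scheme that is an isomorphism over the complement U of the nodes
with dense preimage of U; let F be a coherent O_X-module, torsion free of rank r with type a(x) at
each node x (stalk free of rank r off the nodes, isomorphic to O_x^{a(x)} ⊕ m_x^{r − a(x)} at a node
x). Let p : π^*F → E₀ be an epimorphism onto a locally free O_Y-module of rank r, β : F → π_*E₀ the
composite of the unit with π_*p, and let i : F → π_*E be a monomorphism into the direct image of a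
locally free O_Y-module E of rank r, factored as i = β ≫ π_*λ with λ : E₀ → E. Then at every node x
the stalk of coker(i) has length a(x) plus the length of the stalk of coker(π_*λ), and at every
other point the two stalks have the same length (lengths over the local ring O_{X,x}, valued in ℕ∞).
The published statement compares only the total lengths (that of coker(i) exceeds that of
coker(π_*λ) by the sum of the types a(x) over the nodes); the statement here gives the comparison at
each point. -/
theorem result (k : Type u) [Field k] [IsAlgClosed k] [CharZero k]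
    (X : Scheme.{u}) [X.Over (Spec (CommRingCat.of k))] [IsProper (X ↘ Spec (CommRingCat.of k))]
    [ConnectedSpace X] (hdim : topologicalKrullDim X = 1) (hnod : Curv2.AtWorstNodal k X)
    (Y : Scheme.{u}) (π : Y ⟶ X) [IsFinite π] [Smooth (π ≫ (X ↘ Spec (CommRingCat.of k)))]
    (U : X.Opens) (hU : ∀ x : X, x ∈ U ↔ ¬ Curv2.IsNode k X x) (hUiso : IsIso (π ∣_ U))
    (hUd : Dense ((π ⁻¹ᵁ U : Y.Opens) : Set Y))
    (r : ℕ) (F : X.Modules) (hF : Coh.IsCoh F) (a : X → ℕ)
    (hfree : ∀ x : X, ¬ Curv2.IsNode k X x →
      Nonempty (F.presheaf.stalk x ≃ₗ[X.presheaf.stalk x] (Fin r → X.presheaf.stalk x)))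
    (htype : ∀ x : X, Curv2.IsNode k X x → a x ≤ r ∧
      Nonempty (F.presheaf.stalk x ≃ₗ[X.presheaf.stalk x]
        ((Fin (a x) → X.presheaf.stalk x) × (Fin (r - a x) → IsLocalRing.maximalIdeal (X.presheaf.stalk x)))))
    (E₀ : Y.Modules) (hE₀ : FlatMod.IsFinLocFreeOfRank r E₀)
    (p : (Scheme.Modules.pullback π).obj F ⟶ E₀) [Epi p]
    (E : Y.Modules) (hE : FlatMod.IsFinLocFreeOfRank r E)
    (i : F ⟶ (Scheme.Modules.pushforward π).obj E) [Mono i]
    (lam : E₀ ⟶ E) (hlam : (Scheme.Modules.pullbackPushforwardAdjunction π).unit.app F ≫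
      (Scheme.Modules.pushforward π).map p ≫ (Scheme.Modules.pushforward π).map lam = i) :
    (∀ x : X, Curv2.IsNode k X x →
      Module.length (X.presheaf.stalk x) ((cokernel i).presheaf.stalk x) =
        (a x : ℕ∞) + Module.length (X.presheaf.stalk x)
          ((cokernel ((Scheme.Modules.pushforward π).map lam)).presheaf.stalk x)) ∧
    (∀ x : X, ¬ Curv2.IsNode k X x →
      Module.length (X.presheaf.stalk x) ((cokernel i).presheaf.stalk x) =
        Module.length (X.presheaf.stalk x)
          ((cokernel ((Scheme.Modules.pushforward π).map lam)).presheaf.stalk x)) := by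
  have D : Data k X π r F a := ⟨hdim, hnod, inferInstance, ⟨U, hU, hUiso, hUd⟩, hF, hfree, htype⟩
  let β := (Scheme.Modules.pullbackPushforwardAdjunction π).unit.app F ≫ (Scheme.Modules.pushforward π).map p
  let L := (Scheme.Modules.pushforward π).map lam
  have hi : ∀ x (f : F.presheaf.stalk x), stalkLin i x f = stalkLin L x (stalkLin β x f) := fun x f =>
    ((stalkLin_comp β L x f).symm.trans (congrArg (fun φ => stalkLin φ x f) ((Category.assoc _ _ _).trans hlam))).symm
  have hiinj : ∀ x, Function.Injective (stalkLin i x) := fun x => (M1.mono_iff_stalk i).1 inferInstance x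
  refine ⟨fun x hx => ?_, fun x hx => ?_⟩
  · obtain ⟨ci⟩ := nonempty_coker_stalk i x
    obtain ⟨cl⟩ := nonempty_coker_stalk L x
    obtain ⟨t, htm, htn⟩ := D.exists_nzd hx
    have hLinj : Function.Injective (stalkLin L x) := by
      rw [injective_iff_map_eq_zero]
      intro z hz
      obtain ⟨f, hf⟩ := D.smul_mem_beta hE₀ p hx htm z
      have hf0 : f = 0 := hiinj x (by rw [hi, hf, map_smul, hz, smul_zero, map_zero])
      refine D.torsionFree_push hE₀ htn ?_
      rw [← hf, hf0, map_zero]
    rw [ci.length_eq, cl.length_eq, ← D.beta_length hE₀ p hx]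
    let Bβ := LinearMap.range (stalkLin β x)
    let Bi := LinearMap.range (stalkLin i x)
    have hle : Bβ ≤ Bi.comap (stalkLin L x) := by
      rintro _ ⟨f, rfl⟩
      exact ⟨f, hi x f⟩
    have hBi : Bi ≤ LinearMap.range (stalkLin L x) := by
      rintro _ ⟨f, rfl⟩
      exact ⟨_, (hi x f).symm⟩
    refine Module.length_eq_add_of_exact (Submodule.mapQ Bβ Bi (stalkLin L x) hle) (Submodule.factor hBi) ?_ ?_ ?_
    · rw [injective_iff_map_eq_zero]
      intro z hz
      obtain ⟨z, rfl⟩ := Submodule.Quotient.mk_surjective _ z
      obtain ⟨f, hf⟩ := (Submodule.Quotient.mk_eq_zero _).1 hz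
      exact (Submodule.Quotient.mk_eq_zero _).2 ⟨f, hLinj ((hi x f).symm.trans hf)⟩
    · intro z
      obtain ⟨z, rfl⟩ := Submodule.Quotient.mk_surjective _ z
      exact ⟨Submodule.Quotient.mk z, rfl⟩
    · intro z
      obtain ⟨z, rfl⟩ := Submodule.Quotient.mk_surjective _ z
      constructor
      · intro hz
        obtain ⟨w, hw⟩ := (Submodule.Quotient.mk_eq_zero _).1 hz
        exact ⟨Submodule.Quotient.mk w, congrArg Submodule.Quotient.mk hw⟩
      · rintro ⟨w, hw⟩
        obtain ⟨w, rfl⟩ := Submodule.Quotient.mk_surjective _ w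
        rw [← hw]
        exact (Submodule.Quotient.mk_eq_zero _).2 ⟨w, rfl⟩
  · obtain ⟨ci⟩ := nonempty_coker_stalk i x
    obtain ⟨cl⟩ := nonempty_coker_stalk ((Scheme.Modules.pushforward π).map lam) x
    rw [ci.length_eq, cl.length_eq]
    refine (Submodule.quotEquivOfEq _ _ (le_antisymm ?_ ?_)).length_eq
    · rintro _ ⟨f, rfl⟩
      exact ⟨_, (hi x f).symm⟩
    · rintro _ ⟨z, rfl⟩
      obtain ⟨f, rfl⟩ := D.beta_surjective hE₀ p hx z
      exact ⟨f, hi x f⟩

end Groth.Agent.S20026
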