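import Groth.Statements.S20027
import Groth.Agent.Lib.Ver21.PolyVer
-- import your own Groth.Agent.* helpers here

set_option autoImplicit false
universe u
open GrLC

namespace Groth.Agent.S20027

/-- Let k be a field, s ≥ 1, d ≥ 1, and R = k[X_1, …, X_s] graded with every variable in degree 1.
Present the Veronese subring R^(d) = ⊕_j R_{jd} as a commutative ring R' with an injective ring
homomorphism φ : R' → R whose image is the set of polynomials whose homogeneous components in all
degrees not divisible by d are zero, and let m' be the maximal ideal of R' that is the preimage of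
the ideal of polynomials with zero constant term (the irrelevant ideal of R^(d)). Let n be the least
integer such that n ≥ s and d divides n. Then the type of R^(d), namely the Bass number μ_s(m', R')
= dim over the residue field of Ext^s over the local ring R'_{m'} from its residue field to R'_{m'}
(here s = dim R'), equals the binomial coefficient (n − 1 choose s − 1). -/
theorem result (k : Type u) [Field k] (s d : ℕ) (hs : 1 ≤ s)
    (hd : 1 ≤ d) (R' : Type u) [CommRing R'] (φ : R' →+* MvPolynomial (Fin s) k)
    (hφ : Function.Injective φ)
    (hrange : ∀ p : MvPolynomial (Fin s) k, p ∈ φ.range ↔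
      ∀ j : ℕ, ¬ d ∣ j → MvPolynomial.homogeneousComponent j p = 0)
    (m' : Ideal R') [m'.IsMaximal]
    (hm' : m' = Ideal.comap φ (RingHom.ker (MvPolynomial.constantCoeff : MvPolynomial (Fin s) k →+* k)))
    (n : ℕ) (hsn : s ≤ n) (hdn : d ∣ n) (hmin : ∀ n' : ℕ, s ≤ n' → d ∣ n' → n ≤ n') :
    GrLC.bassNum m' R' s = (Nat.choose (n - 1) (s - 1) : ℕ∞) := by
  exact Groth.Agent.Ver21.bassNum_veronese_polyGr hs hd φ hφ hrange m' hm' n hsn hdn hmin

end Groth.Agent.S20027
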