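import Groth.Statements.S20029
import Groth.Agent.Lib.HdgLef1.Main
import Groth.Agent.Lib.HdgLef1.Abs

set_option autoImplicit false
universe u
open CategoryTheory CategoryTheory.Limits AlgebraicGeometry
open Coh

namespace Groth.Agent.S20029

/-- Let k be a field of characteristic p > 0 whose Frobenius endomorphism is finite, X a scheme smooth
and proper over k of relative dimension N, and 𝓘 a quasi-coherent ideal of X whose ideal module is
invertible with an ample tensor-inverse L, such that the closed subscheme Y defined by 𝓘, with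
inclusion i : Y → X, is smooth over k (a smooth hypersurface section; no boundary divisor). Suppose
Y is sufficiently ample with respect to X: for every q ≥ 0 and every O_X-module Ω which is a q-th
exterior power of the sheaf of absolute differentials Ω_{X/ℤ}, one has H^i(X, 𝓘^{⊗ n} ⊗ Ω) = 0 for
all n ≥ 1 and all i with i + q ≤ N − 1. Then the analogous vanishing holds on Y one degree lower:
for every q ≥ 0 and every O_Y-module Ω' which is a q-th exterior power of the absolute differentials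
Ω_{Y/ℤ}, H^i(Y, (i^*𝓘)^{⊗ n} ⊗ Ω') = 0 for all n ≥ 1 and all i with i + q ≤ N − 2, where i^*𝓘 is the
module pullback of the ideal module along i (the conormal sheaf O_Y(−Y)). -/
theorem result
    (k : Type u) [Field k] (p : ℕ) [Fact p.Prime] [CharP k p] (hF : (frobenius k p).Finite)
    (X : Scheme.{u}) (f : X ⟶ Spec (CommRingCat.of k)) [IsProper f] (N : ℕ)
    [SmoothOfRelativeDimension N f]
    (𝓘 : X.IdealSheafData) (L : X.Modules) (hL : ClSub.IsInverseOf L (ClSub.idealMod 𝓘)) (hamp : CohB1.IsAmple L)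
    [Smooth (𝓘.subschemeι ≫ f)]
    (hsa : ∀ (q : ℕ) (Ω : X.Modules), ExtPow.IsExtPow q (Omega.sheaf (specULiftZIsTerminal.from X)) Ω → ∀ n i : ℕ, 1 ≤ n → i + q + 1 ≤ N → Subsingleton (Coh.HH X (CohB1.tensorMod (CohB1.tensorPow (ClSub.idealMod 𝓘) n) Ω) i)) :
    ∀ (q : ℕ) (Ω' : (𝓘.subscheme).Modules),
      ExtPow.IsExtPow q (Omega.sheaf (specULiftZIsTerminal.from 𝓘.subscheme)) Ω' →
      ∀ n i : ℕ, 1 ≤ n → i + q + 2 ≤ N →
        Subsingleton (Coh.HH 𝓘.subscheme
          (CohB1.tensorMod (CohB1.tensorPow ((Scheme.Modules.pullback 𝓘.subschemeι).obj (ClSub.idealMod 𝓘)) n) Ω') i) := by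
  open Groth.Agent in
  letI : X.Over (Spec (CommRingCat.of k)) := ⟨f⟩
  letI : Scheme.Over 𝓘.subscheme (Spec (CommRingCat.of k)) := ⟨𝓘.subschemeι ≫ f⟩
  haveI : Smooth f := SmoothOfRelativeDimension.smooth N f
  obtain ⟨eL⟩ := hL
  have hM : PicF.IsInvertible (ClSub.idealMod 𝓘) := M2.isInvertible_of_tensor_iso (Amp.isAmple_iff.1 hamp).1
    (M2.tensorComm (ClSub.idealMod 𝓘) L ≪≫ eL)
  let b : Spec (CommRingCat.of k) ⟶ Spec (CommRingCat.of (ULift.{u} ℤ)) := specULiftZIsTerminal.from _
  have eX : specULiftZIsTerminal.from X = f ≫ b := specULiftZIsTerminal.hom_ext _ _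
  have eY : specULiftZIsTerminal.from 𝓘.subscheme = 𝓘.subschemeι ≫ f ≫ b := specULiftZIsTerminal.hom_ext _ _
  have hc : HdgLef1.Conormal 𝓘 (Omega.sheaf (specULiftZIsTerminal.from X))
      (Omega.sheaf (specULiftZIsTerminal.from 𝓘.subscheme)) := by
    rw [eX, eY]
    exact HdgLef1.conormal_abs p hF f b 𝓘 hM
  intro q Ω' hΩ' n i hn hiq
  obtain ⟨t⟩ := ExtFil4.isoExtPow (HdgLef1.isExtPow_E hc.locFree' q) hΩ'
  exact HdgLef1.van_congr k (M2.tensorIso t (M2.pullTensorPowIso _ _ n) ≪≫ M2.tensorComm _ _)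
    (hc.van_neg k rfl N (fun j c l hj hcl => HdgLef1.van_congr k (M2.tensorComm _ _)
      (hsa c _ (HdgLef1.isExtPow_E hc.locFree c) j l hj (by omega))) q i n hn (by omega))

end Groth.Agent.S20029
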