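import Groth.Statements.S2004
import Groth.Agent.Lib.GlueH7.Glueable

set_option autoImplicit false
universe u
open TensorProduct
open EtAlg

namespace Groth.Agent.S2004

/-- Let R -> R' induce bijections R/f^n R -> R'/f^n R' for all n > 0. Then (R -> R', f) is a glueing
pair if and only if R -> R' maps the f-power torsion of R bijectively onto the f-power torsion of R'
(stated as: injective on f-power torsion elements, and every f-power torsion element of R' is the
image of one of R). -/
theorem result (R R' : Type u) [CommRing R] [CommRing R'] [Algebra R R'] (f : R)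
    (hq : EtGlue.QuotPowBijective R R' f) :
    EtGlue.IsGlueingPair R R' f ↔
      ((∀ x : R, (∃ n : ℕ, f ^ n * x = 0) → algebraMap R R' x = 0 → x = 0) ∧
       (∀ x' : R', (∃ n : ℕ, algebraMap R R' f ^ n * x' = 0) →
          ∃ x : R, (∃ n : ℕ, f ^ n * x = 0) ∧ algebraMap R R' x = x')) := by
  have hz : ∀ x : R, algebraMap R (Localization.Away f) x = 0 ↔ ∃ n : ℕ, f ^ n * x = 0 := by
    intro x
    rw [IsLocalization.map_eq_zero_iff (Submonoid.powers f)]
    constructor
    · rintro ⟨⟨_, n, rfl⟩, h⟩; exact ⟨n, h⟩
    · rintro ⟨n, h⟩; exact ⟨⟨f ^ n, n, rfl⟩, h⟩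
  have hz' : ∀ x : R', algebraMap R' (Localization.Away (algebraMap R R' f)) x = 0 ↔
      ∃ n : ℕ, algebraMap R R' f ^ n * x = 0 := by
    intro x
    rw [IsLocalization.map_eq_zero_iff (Submonoid.powers (algebraMap R R' f))]
    constructor
    · rintro ⟨⟨_, n, rfl⟩, h⟩; exact ⟨n, h⟩
    · rintro ⟨n, h⟩; exact ⟨⟨algebraMap R R' f ^ n, n, rfl⟩, h⟩
  have haw : ∀ r : R, Localization.awayMap (algebraMap R R') f (algebraMap R (Localization.Away f) r) =
      algebraMap R' (Localization.Away (algebraMap R R' f)) (algebraMap R R' r) := fun r => by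
    rw [Localization.awayMap, IsLocalization.Away.map, IsLocalization.map_eq]
  constructor
  · rintro ⟨-, hinj, hmid, -⟩
    refine ⟨fun x hx h1 => hinj (Prod.ext ?_ ?_), fun x' hx' => ?_⟩
    · show algebraMap R R' x = algebraMap R R' 0
      rw [h1, map_zero]
    · show algebraMap R _ x = algebraMap R _ 0
      rw [(hz x).2 hx, map_zero]
    · obtain ⟨r, h1, h2⟩ := hmid x' 0 (by rw [(hz' x').2 hx', map_zero])
      exact ⟨r, (hz r).1 h2, h1⟩
  · rintro ⟨hinj, hsurj⟩
    refine ⟨hq, fun a b hab => ?_, fun x y hxy => ?_, fun z => ?_⟩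
    · rw [← sub_eq_zero]
      refine hinj _ ((hz _).1 ?_) ?_
      · rw [map_sub, sub_eq_zero]; exact congrArg Prod.snd hab
      · rw [map_sub, sub_eq_zero]; exact congrArg Prod.fst hab
    · obtain ⟨n, r, hr⟩ := IsLocalization.Away.surj f y
      have h1 : algebraMap R' (Localization.Away (algebraMap R R' f))
          (x * algebraMap R R' f ^ n - algebraMap R R' r) = 0 := by
        rw [map_sub, map_mul, hxy, map_pow, ← haw f, ← map_pow, ← map_mul, hr, haw, sub_self]
      obtain ⟨k, hk⟩ := (hz' _).1 h1
      obtain ⟨r₀, hr₀⟩ := Groth.Agent.GlueH7.dvd_of_dvd hq (n := k + n) (r := f ^ k * r) (y := x)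
        (by rw [map_mul, map_pow, pow_add]; linear_combination -hk)
      obtain ⟨t, ht, htx⟩ := hsurj (x - algebraMap R R' r₀) ⟨k + n, by
        have := congrArg (algebraMap R R') hr₀
        rw [map_mul, map_mul, map_pow, map_pow] at this
        linear_combination hk + this + x * (pow_add (algebraMap R R' f) k n)⟩
      refine ⟨r₀ + t, by rw [map_add, htx, add_sub_cancel], ?_⟩
      rw [map_add, (hz t).2 ht, add_zero]
      have hu : IsUnit (algebraMap R (Localization.Away f) (f ^ (k + n))) := by
        rw [map_pow]; exact (IsLocalization.Away.algebraMap_isUnit f).pow _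
      apply hu.mul_left_cancel
      rw [← map_mul, ← hr₀, map_mul, map_pow, map_pow, pow_add, ← hr]
      ring
    · obtain ⟨n, a, ha⟩ := IsLocalization.Away.surj (algebraMap R R' f) z
      obtain ⟨r, x, rfl⟩ := Groth.Agent.GlueH7.exists_eq_add hq n a
      obtain ⟨v, hv⟩ := ((IsLocalization.Away.algebraMap_isUnit (S := Localization.Away f) f).pow n).exists_left_inv
      refine ⟨x, -(algebraMap R _ r * v), ?_⟩
      have hu : IsUnit (algebraMap R' (Localization.Away (algebraMap R R' f)) (algebraMap R R' f) ^ n) :=
        (IsLocalization.Away.algebraMap_isUnit _).pow n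
      have hv' : Localization.awayMap (algebraMap R R') f v *
          algebraMap R' (Localization.Away (algebraMap R R' f)) (algebraMap R R' f) ^ n = 1 := by
        rw [← haw, ← map_pow, ← map_mul, hv, map_one]
      apply hu.mul_right_cancel
      rw [ha, map_add, map_neg, map_mul, map_mul, map_pow, haw]
      linear_combination (algebraMap R' _ (algebraMap R R' r)) * hv'

end Groth.Agent.S2004
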