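import Groth.Statements.S2007
import Groth.Agent.Lib.FormalGlueH7.Basic

set_option autoImplicit false
universe u
open TensorProduct
open EtAlg

namespace Groth.Agent.S2007

/-- Let R -> S be a flat ring map and I a finitely generated ideal of R such that R/I -> S/IS is
bijective. Let N be an R-module, M' an S-module and φ : M' -> S ⊗_R N an S-linear map whose kernel
and cokernel are I-power torsion (every element of the kernel, resp. of the target modulo the image,
is killed by some power of I). Then there are an R-module M, an R-linear map ψ : M -> N and an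
S-isomorphism S ⊗_R M ≅ M' identifying φ with the base change of ψ. -/
theorem result (R S : Type u) [CommRing R] [CommRing S] [Algebra R S] [Module.Flat R S] (I : Ideal R)
    (hI : I.FG) (hq : Function.Bijective (Ideal.quotientMap (I.map (algebraMap R S)) (algebraMap R S) Ideal.le_comap_map))
    (N : Type u) [AddCommGroup N] [Module R N] (M' : Type u) [AddCommGroup M'] [Module S M'] (φ : M' →ₗ[S] S ⊗[R] N)
    (hker : ∀ x : M', φ x = 0 → ∃ n : ℕ, ∀ a ∈ I ^ n, algebraMap R S a • x = 0)
    (hcoker : ∀ y : S ⊗[R] N, ∃ n : ℕ, ∀ a ∈ I ^ n, algebraMap R S a • y ∈ LinearMap.range φ) :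
    ∃ (M : Type u) (_ : AddCommGroup M) (_ : Module R M) (ψ : M →ₗ[R] N) (e : S ⊗[R] M ≃ₗ[S] M'),
      φ ∘ₗ e.toLinearMap = ψ.baseChange S := by
  letI : Module R M' := Module.compHom M' (algebraMap R S)
  haveI : IsScalarTower R S M' := ⟨fun r r' x => by
    show (r • r') • x = algebraMap R S r • (r' • x)
    rw [Algebra.smul_def, mul_smul]⟩
  let M : Submodule R (N × M') :=
    LinearMap.eqLocus ((TensorProduct.mk R S N 1).comp (LinearMap.fst R N M'))
      ((φ.restrictScalars R).comp (LinearMap.snd R N M'))
  let p₁ : M →ₗ[R] N := (LinearMap.fst R N M').comp M.subtype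
  let p₂ : M →ₗ[R] M' := (LinearMap.snd R N M').comp M.subtype
  have hcomm : ∀ m : M, φ (p₂ m) = (1 : S) ⊗ₜ[R] p₁ m := fun m => (Eq.symm m.2 :)
  have hb := Groth.Agent.FormalGlueH7.glue_lift_bijective hq φ
    (fun x hx => by
      obtain ⟨n, hn⟩ := hker x hx
      exact ⟨n, fun a ha => by rw [← IsScalarTower.algebraMap_smul S a]; exact hn a ha⟩)
    (fun y => by
      obtain ⟨n, hn⟩ := hcoker y
      exact ⟨n, fun a ha => by rw [← IsScalarTower.algebraMap_smul S a]; exact hn a ha⟩)
    p₁ p₂ hcomm (fun m h1 h2 => Subtype.ext (Prod.ext h1 h2)) (fun n x h => ⟨⟨(n, x), h.symm⟩, rfl, rfl⟩)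
  refine ⟨M, inferInstance, inferInstance, p₁, LinearEquiv.ofBijective _ hb, ?_⟩
  apply LinearMap.ext
  intro z
  induction z using TensorProduct.induction_on with
  | zero => simp
  | tmul s m =>
    simp only [LinearMap.comp_apply, LinearEquiv.coe_coe, LinearEquiv.ofBijective_apply,
      LinearMap.liftBaseChange_tmul, map_smul, hcomm, LinearMap.baseChange_tmul]
    rw [TensorProduct.smul_tmul', smul_eq_mul, mul_one]
  | add a b ha hb' => simp only [map_add, ha, hb']

end Groth.Agent.S2007
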