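import Groth.Statements.S2008
import Groth.Agent.Lib.FormalGlueH7.Basic
import Mathlib.RingTheory.Flat.FaithfullyFlat.Algebra
import Mathlib.RingTheory.TensorProduct.Quotient
import Mathlib.RingTheory.Spectrum.Prime.RingHom
import Mathlib.RingTheory.Flat.Stability

set_option autoImplicit false
universe u
open TensorProduct
open EtAlg

namespace Groth.Agent.S2008

/-- For a ring map R -> S and an ideal I of R the following are equivalent: (1) S is flat over R and
S/IS is faithfully flat over R/I; (2) S is flat over R and Spec(S/IS) -> Spec(R/I) is surjective;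
(3) S is flat over R and S ⊗_R M is nonzero for every nonzero R-module M killed by I; (4) S is flat
over R and S ⊗_R M is nonzero for every nonzero I-power torsion R-module M. (Faithfulness of base
change on these subcategories is stated as detection of nonzero objects, which is equivalent for an
exact functor.) -/
theorem result (R S : Type u) [CommRing R] [CommRing S] [Algebra R S] (I : Ideal R) :
    List.TFAE [
      Module.Flat R S ∧ Module.FaithfullyFlat (R ⧸ I) (S ⧸ I.map (algebraMap R S)),
      Module.Flat R S ∧ Function.Surjective (PrimeSpectrum.comap (Ideal.quotientMap (I.map (algebraMap R S)) (algebraMap R S) Ideal.le_comap_map)),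
      Module.Flat R S ∧ ∀ (M : Type u) [AddCommGroup M] [Module R M], (∀ (a : R) (m : M), a ∈ I → a • m = 0) →
        Nontrivial M → Nontrivial (S ⊗[R] M),
      Module.Flat R S ∧ ∀ (M : Type u) [AddCommGroup M] [Module R M], (∀ m : M, ∃ n : ℕ, ∀ a ∈ I ^ n, a • m = 0) →
        Nontrivial M → Nontrivial (S ⊗[R] M)] := by
  tfae_have 1 → 2
  | ⟨h1, h2⟩ => ⟨h1, PrimeSpectrum.comap_surjective_of_faithfullyFlat
      (A := R ⧸ I) (B := S ⧸ I.map (algebraMap R S))⟩
  tfae_have 2 → 1
  | ⟨h1, h2⟩ => by
    haveI : Module.Flat (R ⧸ I) (S ⧸ I.map (algebraMap R S)) :=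
      Module.Flat.of_linearEquiv (Algebra.TensorProduct.quotIdealMapEquivQuotTensor S I).toLinearEquiv
    exact ⟨h1, Module.FaithfullyFlat.of_comap_surjective h2⟩
  tfae_have 2 → 3
  | ⟨h1, h2⟩ => by
    refine ⟨h1, fun M _ _ hM hne => ?_⟩
    obtain ⟨m, hm⟩ := exists_ne (0 : M)
    let J : Ideal R := LinearMap.ker (LinearMap.toSpanSingleton R M m)
    have hIJ : I ≤ J := fun a ha => hM a m ha
    have hJ : J ≠ ⊤ := fun h => hm (by simpa [J] using (Ideal.eq_top_iff_one J).1 h)
    obtain ⟨P, hP, hJP⟩ := Ideal.exists_le_maximal J hJ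
    have hP' : (P.map (Ideal.Quotient.mk I)).IsPrime :=
      Ideal.map_isPrime_of_surjective Ideal.Quotient.mk_surjective (by rw [Ideal.mk_ker]; exact hIJ.trans hJP)
    obtain ⟨Q, hQ⟩ := h2 ⟨_, hP'⟩
    let q : Ideal S := Q.asIdeal.comap (Ideal.Quotient.mk _)
    have hJq : J.map (algebraMap R S) ≤ q := by
      refine Ideal.map_le_iff_le_comap.2 fun r hr => ?_
      show Ideal.Quotient.mk _ (algebraMap R S r) ∈ Q.asIdeal
      have : Ideal.Quotient.mk I r ∈ (PrimeSpectrum.comap (Ideal.quotientMap (I.map (algebraMap R S))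
          (algebraMap R S) Ideal.le_comap_map) Q).asIdeal := by
        rw [hQ]
        exact Ideal.mem_map_of_mem _ (hJP hr)
      exact this
    have hne' : Nontrivial (S ⧸ J.map (algebraMap R S)) :=
      Ideal.Quotient.nontrivial_iff.2 fun h => (Q.isPrime.comap _).ne_top (top_le_iff.1 (h ▸ hJq))
    haveI : Nontrivial (S ⊗[R] (R ⧸ J)) :=
      (Algebra.TensorProduct.quotIdealMapEquivTensorQuot S J).symm.toEquiv.nontrivial
    exact (Module.Flat.lTensor_preserves_injective_linearMap (M := S)
      (J.liftQ (LinearMap.toSpanSingleton R M m) le_rfl)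
      (LinearMap.ker_eq_bot.1 (Submodule.ker_liftQ_eq_bot _ _ _ le_rfl))).nontrivial
  tfae_have 3 → 2
  | ⟨h1, h3⟩ => by
    refine ⟨h1, fun p => ?_⟩
    let P : PrimeSpectrum R := PrimeSpectrum.comap (Ideal.Quotient.mk I) p
    have hIP : I ≤ P.asIdeal := fun a ha => by
      show Ideal.Quotient.mk I a ∈ p.asIdeal
      rw [Ideal.Quotient.eq_zero_iff_mem.2 ha]
      exact zero_mem _
    have hk := h3 P.asIdeal.ResidueField (fun a x ha => by
      rw [Algebra.smul_def, Ideal.algebraMap_residueField_eq_zero.2 (hIP ha), zero_mul]) inferInstance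
    haveI : Nontrivial (P.asIdeal.ResidueField ⊗[R] S) :=
      (TensorProduct.comm R P.asIdeal.ResidueField S).toEquiv.nontrivial
    obtain ⟨q, hq⟩ := (PrimeSpectrum.nontrivial_iff_mem_rangeComap (S := S) P).1 inferInstance
    have hIq : I.map (algebraMap R S) ≤ q.asIdeal := by
      rw [Ideal.map_le_iff_le_comap]
      rw [← hq] at hIP
      exact hIP
    have hq' : (q.asIdeal.map (Ideal.Quotient.mk (I.map (algebraMap R S)))).IsPrime :=
      Ideal.map_isPrime_of_surjective Ideal.Quotient.mk_surjective (by rwa [Ideal.mk_ker])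
    refine ⟨⟨_, hq'⟩, PrimeSpectrum.comap_injective_of_surjective (Ideal.Quotient.mk I) Ideal.Quotient.mk_surjective ?_⟩
    show _ = P
    rw [← hq]
    apply PrimeSpectrum.ext
    ext r
    show Ideal.Quotient.mk _ (algebraMap R S r) ∈ q.asIdeal.map _ ↔ algebraMap R S r ∈ q.asIdeal
    refine ⟨fun h => ?_, Ideal.mem_map_of_mem _⟩
    rw [← Ideal.mem_comap, Ideal.comap_map_of_surjective' _ Ideal.Quotient.mk_surjective, Ideal.mk_ker,
      sup_eq_left.2 hIq] at h
    exact h
  tfae_have 3 → 4
  | ⟨h1, h3⟩ => by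
    refine ⟨h1, fun M _ _ hM hne => ?_⟩
    let N : Submodule R M := Submodule.torsionBySet R M (I : Set R)
    have hkey : ∀ (n : ℕ) (m : M), (∀ a ∈ I ^ n, a • m = 0) → m ≠ 0 → Nontrivial N := by
      intro n
      induction n with
      | zero => exact fun m h hm => absurd (by simpa using h 1 (by simp)) hm
      | succ n ih =>
        intro m h hm
        by_cases h0 : ∀ a ∈ I ^ n, a • m = 0
        · exact ih m h0 hm
        · simp only [not_forall] at h0
          obtain ⟨a, ha, ham⟩ := h0
          refine ⟨⟨⟨a • m, (Submodule.mem_torsionBySet_iff _ _).2 fun b => ?_⟩, 0, fun h' => ham (congrArg Subtype.val h')⟩⟩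
          rw [smul_smul]
          exact h _ (by rw [pow_succ']; exact Ideal.mul_mem_mul b.2 ha)
    obtain ⟨m, hm⟩ := exists_ne (0 : M)
    obtain ⟨n, hn⟩ := hM m
    haveI := h3 N (fun a x ha => Subtype.ext ((Submodule.mem_torsionBySet_iff _ _).1 x.2 ⟨a, ha⟩)) (hkey n m hn hm)
    exact (Module.Flat.lTensor_preserves_injective_linearMap (M := S) N.subtype N.injective_subtype).nontrivial
  tfae_have 4 → 3
  | ⟨h1, h4⟩ => ⟨h1, fun M _ _ hM hne => h4 M (fun m => ⟨1, fun a ha => hM a m (by simpa using ha)⟩) hne⟩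
  tfae_finish

end Groth.Agent.S2008
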