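import Groth.Statements.S2009
import Groth.Agent.Lib.FormalGlueH7.Basic
import Mathlib.RingTheory.TensorProduct.Quotient

set_option autoImplicit false
universe u
open TensorProduct
open EtAlg

namespace Groth.Agent.S2009

/-- Let R -> S be flat with S/IS faithfully flat over R/I. Then the natural map M -> S ⊗_R M is
bijective for every I-power torsion R-module M if and only if R/I -> S/IS is bijective. -/
theorem result (R S : Type u) [CommRing R] [CommRing S] [Algebra R S] (I : Ideal R)
    [Module.Flat R S] [Module.FaithfullyFlat (R ⧸ I) (S ⧸ I.map (algebraMap R S))] :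
    (∀ (M : Type u) [AddCommGroup M] [Module R M], (∀ m : M, ∃ n : ℕ, ∀ a ∈ I ^ n, a • m = 0) →
      Function.Bijective (TensorProduct.mk R S M 1)) ↔
    Function.Bijective (Ideal.quotientMap (I.map (algebraMap R S)) (algebraMap R S) Ideal.le_comap_map) := by
  constructor
  · intro h
    have hb := h (R ⧸ I) fun m => ⟨1, fun a ha => by
      obtain ⟨x, rfl⟩ := Ideal.Quotient.mk_surjective m
      rw [pow_one] at ha
      show Ideal.Quotient.mk I (a • x) = 0
      rw [Ideal.Quotient.eq_zero_iff_mem]
      exact Ideal.mul_mem_right _ _ ha⟩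
    have hc : ∀ q, Algebra.TensorProduct.quotIdealMapEquivTensorQuot S I
        (Ideal.quotientMap (I.map (algebraMap R S)) (algebraMap R S) Ideal.le_comap_map q) =
        TensorProduct.mk R S (R ⧸ I) 1 q := by
      intro q
      obtain ⟨r, rfl⟩ := Ideal.Quotient.mk_surjective q
      rw [Ideal.quotientMap_mk, Algebra.TensorProduct.quotIdealMapEquivTensorQuot_mk, TensorProduct.mk_apply,
        Algebra.algebraMap_eq_smul_one, TensorProduct.smul_tmul, ← map_one (Ideal.Quotient.mk I), ← Ideal.Quotient.mk_eq_mk,
        ← Submodule.Quotient.mk_smul, Ideal.Quotient.mk_eq_mk, smul_eq_mul, mul_one]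
    refine ⟨fun a b hab => hb.1 ?_, fun y => ?_⟩
    · rw [← hc, ← hc, hab]
    · obtain ⟨q, hq⟩ := hb.2 (Algebra.TensorProduct.quotIdealMapEquivTensorQuot S I y)
      exact ⟨q, (Algebra.TensorProduct.quotIdealMapEquivTensorQuot S I).injective ((hc q).trans hq)⟩
  · intro hq M _ _ hM
    exact Groth.Agent.FormalGlueH7.mk_bijective_of_torsion hq hM

end Groth.Agent.S2009
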