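import Groth.Statements.S2011
import Groth.Agent.Lib.EGA43Top.GoldmanRing
import Mathlib.RingTheory.Jacobson.Ring
import Mathlib.RingTheory.Localization.Away.Basic

set_option autoImplicit false
universe u
open EtAlg

namespace Groth.Agent.S2011

/-- Let A be a Noetherian ring and I an ideal contained in the Jacobson radical of A (a Zariski pair).
Then for every f in I the localization A_f is a Jacobson ring. -/
theorem result (A : Type u) [CommRing A] [IsNoetherianRing A] (I : Ideal A)
    (hI : I ≤ (⊥ : Ideal A).jacobson) (f : A) (hf : f ∈ I) : IsJacobsonRing (Localization.Away f) := by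
  rw [isJacobsonRing_iff_prime_eq]
  intro q hq
  refine le_antisymm (fun y hy => ?_) Ideal.le_jacobson
  by_contra hyq
  obtain ⟨⟨a, ⟨_, n, rfl⟩⟩, ha⟩ := IsLocalization.surj (Submonoid.powers f) y
  dsimp only at ha
  have hd := (IsLocalization.isPrime_iff_isPrime_disjoint (Submonoid.powers f) (Localization.Away f) q).1 hq
  have hp : (q.comap (algebraMap A (Localization.Away f))).IsPrime := hd.1
  have hfp : f ∉ q.comap (algebraMap A (Localization.Away f)) := fun h =>
    Set.disjoint_left.1 hd.2 ⟨1, pow_one f⟩ h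
  have hu : IsUnit (algebraMap A (Localization.Away f) (f ^ n)) :=
    IsLocalization.map_units _ (⟨f ^ n, n, rfl⟩ : Submonoid.powers f)
  have hap : a ∉ q.comap (algebraMap A (Localization.Away f)) := by
    rw [Ideal.mem_comap, ← ha]
    exact fun h => hyq ((Ideal.mul_unit_mem_iff_mem q hu).1 h)
  have hfa : f * a ∉ q.comap (algebraMap A (Localization.Away f)) := fun h => (hp.mem_or_mem h).elim hfp hap
  let S : Set (Ideal A) := {P : Ideal A | P.IsPrime ∧ q.comap (algebraMap A (Localization.Away f)) ≤ P ∧ f * a ∉ P}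
  have hex : ∃ P : Ideal A, P ∈ S ∧ ∀ Q : Ideal A, Q ∈ S → ¬ P < Q :=
    set_has_maximal_iff_noetherian.2 (inferInstance : IsNoetherian A A) S ⟨_, hp, le_rfl, hfa⟩
  obtain ⟨P, ⟨hP, hqP, haP⟩, hmax⟩ := hex
  have hfP : f ∉ P := fun h => haP (P.mul_mem_right a h)
  have hQ : ∀ Q : Ideal A, Q.IsPrime → P < Q → f * a ∈ Q := fun Q hQ hPQ => by
    by_contra h
    exact hmax Q ⟨hQ, hqP.trans hPQ.le, h⟩ hPQ
  have hc : Ideal.Quotient.mk P (f * a) ≠ 0 := fun h => haP (Ideal.Quotient.eq_zero_iff_mem.1 h)
  have hfield : IsField (Localization.Away (Ideal.Quotient.mk P (f * a))) := by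
    refine (Groth.Agent.EGA43Top.isField_away_iff hc).2 fun R hR hR0 => ?_
    refine hQ (R.comap (Ideal.Quotient.mk P)) (hR.comap _) (lt_of_le_of_ne ?_ ?_)
    · exact fun x hx => by rw [Ideal.mem_comap, Ideal.Quotient.eq_zero_iff_mem.2 hx]; exact R.zero_mem
    · intro e
      apply hR0
      rw [← Ideal.map_comap_of_surjective _ Ideal.Quotient.mk_surjective R, ← e, Ideal.map_quotient_self]
  have hdim : Finite (MaximalSpectrum (A ⧸ P)) ∧ ringKrullDim (A ⧸ P) ≤ 1 :=
    (((Groth.Agent.EGA43Top.goldman_tfae (B := A ⧸ P)).out 0 2) :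
      (∃ c : A ⧸ P, c ≠ 0 ∧ IsField (Localization.Away c)) ↔ _).1 ⟨_, hc, hfield⟩
  have : Ring.KrullDimLE 1 (A ⧸ P) := by rw [Ring.krullDimLE_iff, Nat.cast_one]; exact hdim.2
  have hmax' : ∀ Q : Ideal A, Q.IsPrime → P < Q → f ∈ Q := by
    intro Q hQ' hPQ
    have hQm : (Q.map (Ideal.Quotient.mk P)).IsPrime :=
      Ideal.map_isPrime_of_surjective Ideal.Quotient.mk_surjective (by rw [Ideal.mk_ker]; exact hPQ.le)
    have hQ0 : Q.map (Ideal.Quotient.mk P) ≠ ⊥ := fun h => by
      rw [Ideal.map_eq_bot_iff_le_ker, Ideal.mk_ker] at h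
      exact hPQ.not_ge h
    have hQmax := (Ring.krullDimLE_one_iff_of_noZeroDivisors.1 inferInstance) _ hQ0 hQm
    have : Q.IsMaximal := by
      have := Ideal.comap_isMaximal_of_surjective (Ideal.Quotient.mk P) Ideal.Quotient.mk_surjective (K := Q.map (Ideal.Quotient.mk P))
      rwa [Ideal.comap_map_of_surjective _ Ideal.Quotient.mk_surjective, ← RingHom.ker_eq_comap_bot, Ideal.mk_ker,
        sup_eq_left.2 hPQ.le] at this
    exact (hI.trans (sInf_le ⟨bot_le, this⟩)) hf
  have hPd : Disjoint (Submonoid.powers f : Set A) (P : Set A) :=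
    (Ideal.disjoint_powers_iff_notMem f hP.isRadical).2 hfP
  have hM : (P.map (algebraMap A (Localization.Away f))).IsMaximal := by
    have hMp := IsLocalization.isPrime_of_isPrime_disjoint (Submonoid.powers f) (Localization.Away f) P hP hPd
    obtain ⟨M, hM, hle⟩ := Ideal.exists_le_maximal _ hMp.ne_top
    have hMd := (IsLocalization.isPrime_iff_isPrime_disjoint (Submonoid.powers f) (Localization.Away f) M).1 hM.isPrime
    have hPM : P ≤ M.comap (algebraMap A (Localization.Away f)) := Ideal.map_le_iff_le_comap.1 hle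
    rcases hPM.eq_or_lt with e | e
    · rw [e, IsLocalization.map_comap (Submonoid.powers f)]
      exact hM
    · exact absurd (hmax' _ hMd.1 e) fun h => Set.disjoint_left.1 hMd.2 ⟨1, pow_one f⟩ h
  have hle : q ≤ P.map (algebraMap A (Localization.Away f)) := by
    rw [← IsLocalization.map_comap (Submonoid.powers f) (Localization.Away f) q]
    exact Ideal.map_mono hqP
  have hyM : y ∈ P.map (algebraMap A (Localization.Away f)) :=
    (Ideal.mem_sInf.1 hy) ⟨hle, hM⟩
  have : a ∈ P := by
    rw [← IsLocalization.comap_map_of_isPrime_disjoint (Submonoid.powers f) (Localization.Away f) hP hPd,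
      Ideal.mem_comap, ← ha]
    exact Ideal.mul_mem_right _ _ hyM
  exact haP (P.mul_mem_left f this)

end Groth.Agent.S2011
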