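import Groth.Statements.S2012
import Mathlib.RingTheory.Flat.EquationalCriterion
import Mathlib.RingTheory.Finiteness.ModuleFinitePresentation
import Mathlib.RingTheory.Nakayama
import Mathlib.RingTheory.IntegralClosure.IsIntegralClosure.Basic

set_option autoImplicit false
universe u
open EtAlg

namespace Groth.Agent.S2012

/-- Let A be a ring and I an ideal contained in its Jacobson radical. Let B be an A-algebra which is
flat, integral and of finite presentation over A and such that A/I -> B/IB is bijective. Then A -> B
is bijective. -/
theorem result (A B : Type u) [CommRing A] [CommRing B] [Algebra A B]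
    (I : Ideal A) (hI : I ≤ (⊥ : Ideal A).jacobson) [Module.Flat A B] [Algebra.IsIntegral A B] [Algebra.FinitePresentation A B]
    (hq : Function.Bijective (Ideal.quotientMap (I.map (algebraMap A B)) (algebraMap A B) Ideal.le_comap_map)) :
    Function.Bijective (algebraMap A B) := by
  have : Module.Finite A B := Algebra.IsIntegral.finite
  have : Module.FinitePresentation A B := Module.FinitePresentation.of_finite_of_finitePresentation A B
  have : Module.Projective A B := Module.Flat.projective_of_finitePresentation
  have hsurj : Function.Surjective (Algebra.linearMap A B) := by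
    rw [← LinearMap.range_eq_top]
    refine eq_top_iff.2 (Submodule.le_of_le_smul_of_le_jacobson_bot Module.Finite.fg_top hI fun b _ => ?_)
    obtain ⟨a, ha⟩ := hq.2 (Ideal.Quotient.mk _ b)
    obtain ⟨a, rfl⟩ := Ideal.Quotient.mk_surjective a
    rw [Ideal.quotientMap_mk, Ideal.Quotient.eq] at ha
    rw [Ideal.smul_top_eq_map]
    exact Submodule.mem_sup.2 ⟨algebraMap A B a, ⟨a, rfl⟩, -(algebraMap A B a - b), neg_mem ha, by abel⟩
  obtain ⟨s, hs⟩ := Module.projective_lifting_property (Algebra.linearMap A B) LinearMap.id hsurj
  let g : A →ₗ[A] A := LinearMap.id - s ∘ₗ Algebra.linearMap A B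
  have hg : LinearMap.range g = LinearMap.ker (Algebra.linearMap A B) := by
    refine le_antisymm ?_ fun a ha => ⟨a, by simp [g, LinearMap.mem_ker.1 ha]⟩
    rintro _ ⟨a, rfl⟩
    have := LinearMap.congr_fun hs (algebraMap A B a)
    simp only [LinearMap.comp_apply, LinearMap.id_apply] at this
    simp only [Algebra.linearMap_apply] at this
    simp [g, this]
  have hker : LinearMap.ker (Algebra.linearMap A B) = ⊥ := by
    refine Submodule.eq_bot_of_le_smul_of_le_jacobson_bot I _ ?_ ?_ hI
    · rw [← hg, ← Submodule.map_top]
      exact Module.Finite.fg_top.map g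
    · intro a ha
      have haI : a ∈ I := by
        rw [← Ideal.Quotient.eq_zero_iff_mem]
        apply hq.1
        rw [Ideal.quotientMap_mk, map_zero, show algebraMap A B a = 0 from LinearMap.mem_ker.1 ha, map_zero]
      have : a = a • g 1 := by
        rw [← g.map_smul, smul_eq_mul, mul_one]
        simp [g, LinearMap.mem_ker.1 ha]
      rw [this]
      exact Submodule.smul_mem_smul haI (hg ▸ LinearMap.mem_range_self g 1)
  exact ⟨LinearMap.ker_eq_bot.1 hker, hsurj⟩

end Groth.Agent.S2012
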