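import Groth.Statements.S2013
import Groth.Agent.Lib.RedHyp1.Main
import Groth.Agent.Lib.HartConn6.Codim

set_option autoImplicit false
universe u
open EtAlg

namespace Groth.Agent.S2013

/-- Let R be a catenary Noetherian local normal domain and J a nonzero radical ideal of R. Then J
contains a nonzero element f such that R/fR is reduced. (The source does not say 'nonzero ideal' but
its conclusion requires it.) -/
theorem result (R : Type u) [CommRing R] [IsDomain R] [IsNoetherianRing R]
    [IsLocalRing R] [IsIntegrallyClosed R] (hc : CAlg.IsCatenary R) (J : Ideal R) (hJ : J.IsRadical) (hJ0 : J ≠ ⊥) :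
    ∃ f ∈ J, f ≠ 0 ∧ IsReduced (R ⧸ Ideal.span {f}) := by
  have hht := IsLocalRing.maximalIdeal_height_eq_ringKrullDim (R := R)
  obtain ⟨d, hd⟩ := ENat.ne_top_iff_exists.1 (Ideal.height_ne_top (I := IsLocalRing.maximalIdeal R) (Ideal.IsPrime.ne_top inferInstance))
  rw [← hd] at hht
  rcases Nat.eq_zero_or_pos d with rfl | hpos
  · have hm : IsLocalRing.maximalIdeal R = ⊥ := by
      rw [Nat.cast_zero, eq_comm, Ideal.height_eq_zero_iff, IsDomain.minimalPrimes_eq_singleton_bot,
        Set.mem_singleton_iff] at hd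
      exact hd
    have hJt : J = ⊤ := by_contra fun h => hJ0 (le_bot_iff.1 (hm ▸ IsLocalRing.le_maximalIdeal h))
    haveI : Subsingleton (R ⧸ Ideal.span {(1 : R)}) := Ideal.Quotient.subsingleton_iff.2 Ideal.span_singleton_one
    exact ⟨1, hJt ▸ Submodule.mem_top, one_ne_zero, inferInstance⟩
  obtain ⟨D, rfl⟩ : ∃ D, d = D + 1 := ⟨d - 1, by omega⟩
  have hA : EGA4.IsEquidim R := fun p hp => by
    rw [IsDomain.minimalPrimes_eq_singleton_bot, Set.mem_singleton_iff] at hp
    subst hp
    exact ringKrullDim_eq_of_ringEquiv (RingEquiv.quotientBot R)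
  refine RedHyp1.exists_reduced D hht.symm (fun P hP h1 => ?_) J hJ hJ0
  have hp : Order.height (⟨P, hP⟩ : PrimeSpectrum R) = ((1 : ℕ) : ℕ∞) := by
    rw [← PrimeSpectrum.height_eq_orderHeight, Nat.cast_one]
    exact h1
  have e := HartConn6.height_add_coheight hA hc 1 ⟨P, hP⟩ hp
  have e2 : ringKrullDim (R ⧸ P) = (Order.coheight (⟨P, hP⟩ : PrimeSpectrum R) : WithBot ℕ∞) := by
    rw [ringKrullDim_quotient, show PrimeSpectrum.zeroLocus (P : Set R) = Set.Ici (⟨P, hP⟩ : PrimeSpectrum R) from
      Set.ext fun _ => Iff.rfl]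
    exact (Order.coheight_eq_krullDim_Ici (x := (⟨P, hP⟩ : PrimeSpectrum R))).symm
  rw [hp, ← hht, WithBot.coe_add, ← e2, add_comm, Nat.cast_add] at e
  refine le_antisymm (RedHyp1.le_of_add_one_le (le_of_eq e)) ?_
  revert e
  generalize ringKrullDim (R ⧸ P) = x
  intro e
  induction x with
  | bot => exact absurd e.symm (by simpa using WithBot.coe_ne_bot (a := ((D : ℕ∞) + 1)))
  | coe x =>
    have h' : x + 1 = (D : ℕ∞) + 1 := by exact_mod_cast e
    exact_mod_cast ((ENat.add_le_add_iff_right ENat.one_ne_top).1 h'.ge)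

end Groth.Agent.S2013
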