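import Groth.Statements.S2014
import Mathlib.RingTheory.Length
import Mathlib.RingTheory.Nakayama
import Mathlib.RingTheory.Ideal.MinimalPrime.Noetherian

set_option autoImplicit false
universe u
open EtAlg

namespace Groth.Agent.S2014

/-- Let R be a Noetherian local ring of Krull dimension 1 and x an element of the maximal ideal
contained in no minimal prime of R. Then the number of minimal prime ideals of R is at most the
length of R/xR as an R-module. -/
theorem result (R : Type u) [CommRing R] [IsNoetherianRing R] [IsLocalRing R]
    (hdim : ringKrullDim R = 1) (x : R) (hx : x ∈ IsLocalRing.maximalIdeal R) (hmin : ∀ p ∈ minimalPrimes R, x ∉ p) :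
    (Set.ncard (minimalPrimes R) : ℕ∞) ≤ Module.length R (R ⧸ Ideal.span {x}) := by
  classical
  have hfin : (minimalPrimes R).Finite := minimalPrimes.finite_of_isNoetherianRing R
  suffices key : ∀ S : Finset (Ideal R), (∀ p ∈ S, p ∈ minimalPrimes R) →
      (S.card : ℕ∞) ≤ Module.length R (R ⧸ (S.inf id ⊔ Ideal.span {x})) by
    have h1 := key hfin.toFinset fun p hp => hfin.mem_toFinset.1 hp
    rw [Set.ncard_eq_toFinset_card _ hfin]
    exact h1.trans (Module.length_le_of_surjective (Submodule.factor le_sup_right) (Submodule.factor_surjective _))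
  intro S
  induction S using Finset.induction_on with
  | empty => intro; simp
  | insert p S hpS ih =>
    intro hS
    have ih := ih fun q hq => hS q (Finset.mem_insert_of_mem hq)
    have hp : p ∈ minimalPrimes R := hS p (Finset.mem_insert_self p S)
    have hpp : p.IsPrime := hp.1.1
    rw [Finset.card_insert_of_notMem hpS, Finset.inf_insert, id_eq]
    have hle : p ⊓ S.inf id ⊔ Ideal.span {x} ≤ S.inf id ⊔ Ideal.span {x} := sup_le_sup_right inf_le_right _
    have hne : ¬ S.inf id ⊔ Ideal.span {x} ≤ p ⊓ S.inf id ⊔ Ideal.span {x} := by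
      intro h
      have hJ : S.inf id ≤ p ⊓ S.inf id ⊔ IsLocalRing.maximalIdeal R • S.inf id := by
        intro a ha
        obtain ⟨b, hb, c, hc, rfl⟩ := Submodule.mem_sup.1 (h (Submodule.mem_sup_left ha))
        obtain ⟨d, rfl⟩ := Ideal.mem_span_singleton'.1 hc
        refine Submodule.add_mem_sup hb ?_
        rw [mul_comm d x]
        refine Submodule.smul_mem_smul hx ?_
        rw [Submodule.mem_finsetInf] at ha ⊢
        intro q hq
        have hqm : q ∈ minimalPrimes R := hS q (Finset.mem_insert_of_mem hq)
        have hdx : d * x ∈ q := by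
          simpa using q.sub_mem (ha q hq) ((Submodule.mem_finsetInf.1 hb.2) q hq)
        exact (hqm.1.1.mem_or_mem hdx).resolve_right (hmin q hqm)
      have h2 : S.inf id ≤ p := (Submodule.le_of_le_smul_of_le_jacobson_bot (IsNoetherian.noetherian _)
        (IsLocalRing.maximalIdeal_le_jacobson _) hJ).trans inf_le_left
      obtain ⟨q, hq, hqp⟩ := hpp.inf_le'.1 h2
      have hqm : q ∈ minimalPrimes R := hS q (Finset.mem_insert_of_mem hq)
      exact hpS ((le_antisymm (hp.2 hqm.1 hqp) hqp : p = q) ▸ hq)
    let g := Submodule.factor hle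
    rw [Module.length_eq_add_of_exact (LinearMap.ker g).subtype g (Submodule.subtype_injective _)
      (Submodule.factor_surjective hle) (LinearMap.exact_subtype_ker_map g)]
    have : Nontrivial (LinearMap.ker g) := by
      rw [Submodule.nontrivial_iff_ne_bot]
      intro hb
      refine hne fun a ha => ?_
      rw [← Submodule.Quotient.mk_eq_zero]
      have : (Submodule.Quotient.mk a : R ⧸ (p ⊓ S.inf id ⊔ Ideal.span {x})) ∈ LinearMap.ker g := by
        rw [LinearMap.mem_ker]
        exact (Submodule.Quotient.mk_eq_zero _).2 ha
      rwa [hb, Submodule.mem_bot] at this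
    have hpos : (1 : ℕ∞) ≤ Module.length R (LinearMap.ker g) := Order.one_le_iff_pos.2 Module.length_pos
    rw [Nat.cast_add, Nat.cast_one, add_comm]
    exact add_le_add hpos ih

end Groth.Agent.S2014
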