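import Groth.Statements.S2015
import Mathlib.Algebra.Module.FinitePresentation
import Mathlib.LinearAlgebra.Pi
import Mathlib.RingTheory.Ideal.Quotient.Operations
import Mathlib.Data.Fin.Tuple.Basic

set_option autoImplicit false
universe u
open EtAlg

namespace Groth.Agent.S2015

/-- Let R be a nonzero ring such that for all a, b in R either a divides b or b divides a. Then each
finitely presented R-module decomposes as a direct sum of finitely many cyclic modules R/fR. -/
theorem result (R : Type u) [CommRing R] [Nontrivial R] (h : ∀ a b : R, a ∣ b ∨ b ∣ a)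
    (M : Type u) [AddCommGroup M] [Module R M] [Module.FinitePresentation R M] :
    ∃ (n : ℕ) (f : Fin n → R), Nonempty (M ≃ₗ[R] ((i : Fin n) → R ⧸ Ideal.span {f i})) := by
  classical
  suffices key : ∀ (n m : ℕ) (v : Fin m → Fin n → R), ∃ (r : ℕ) (f : Fin r → R),
      Nonempty (((Fin n → R) ⧸ Submodule.span R (Set.range v)) ≃ₗ[R] ((i : Fin r) → R ⧸ Ideal.span {f i})) by
    obtain ⟨n, K, e, hK⟩ := Module.FinitePresentation.exists_fin R M
    obtain ⟨m, v, rfl⟩ := Submodule.fg_iff_exists_fin_generating_family.1 hK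
    obtain ⟨r, f, ⟨e'⟩⟩ := key n m v
    exact ⟨r, f, ⟨e.trans e'⟩⟩
  intro n
  induction n with
  | zero => exact fun m v => ⟨0, Fin.elim0, ⟨LinearEquiv.ofSubsingleton _ _⟩⟩
  | succ n ih =>
    intro m v
    obtain ⟨i, a, w, hwi, hdvd, hmem⟩ : ∃ (i : Fin (n + 1)) (a : R) (w : Fin (n + 1) → R), w i = 1 ∧
        (∀ l j, a ∣ v l j) ∧ a • w ∈ Submodule.span R (Set.range v) := by
      rcases isEmpty_or_nonempty (Fin m × Fin (n + 1)) with he | hne
      · refine ⟨0, 0, fun _ => 1, rfl, fun l j => he.elim (l, j), ?_⟩
        rw [zero_smul]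
        exact zero_mem _
      · have hmin : ∀ S : Finset (Fin m × Fin (n + 1)), S.Nonempty → ∃ p ∈ S, ∀ q ∈ S, v p.1 p.2 ∣ v q.1 q.2 := by
          intro S hS
          induction S using Finset.induction_on with
          | empty => exact absurd hS Finset.not_nonempty_empty
          | insert x S hxS ih' =>
            rcases S.eq_empty_or_nonempty with rfl | hS'
            · exact ⟨x, by simp, by simp⟩
            · obtain ⟨p, hp, hpmin⟩ := ih' hS'
              rcases h (v p.1 p.2) (v x.1 x.2) with hd | hd
              · exact ⟨p, Finset.mem_insert_of_mem hp, Finset.forall_mem_insert _ _ _ |>.2 ⟨hd, hpmin⟩⟩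
              · exact ⟨x, Finset.mem_insert_self _ _, Finset.forall_mem_insert _ _ _ |>.2
                  ⟨dvd_rfl, fun q hq => hd.trans (hpmin q hq)⟩⟩
        obtain ⟨⟨l₀, i⟩, -, hd⟩ := hmin Finset.univ Finset.univ_nonempty
        choose u hu using fun j => hd (l₀, j) (Finset.mem_univ _)
        refine ⟨i, v l₀ i, Function.update u i 1, Function.update_self _ _ _, fun l j => hd (l, j) (Finset.mem_univ _), ?_⟩
        have e' : v l₀ i • Function.update u i 1 = v l₀ := by
          funext j
          by_cases hj : j = i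
          · subst hj; simp
          · simp [Function.update_of_ne hj, hu j]
        rw [e']
        exact Submodule.subset_span (Set.mem_range_self l₀)
    let P : (Fin (n + 1) → R) →ₗ[R] (Fin n → R) :=
      LinearMap.funLeft R R i.succAbove ∘ₗ (LinearMap.id - (LinearMap.proj i).smulRight w)
    have hP : ∀ x j, P x j = x (i.succAbove j) - x i * w (i.succAbove j) := fun x j => rfl
    obtain ⟨r, f, ⟨e⟩⟩ := ih m fun l => P (v l)
    let K' := Submodule.span R (Set.range fun l => P (v l))
    let φ : (Fin (n + 1) → R) →ₗ[R] (R ⧸ Ideal.span {a}) × ((Fin n → R) ⧸ K') :=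
      ((Ideal.span {a}).mkQ ∘ₗ LinearMap.proj i).prod (K'.mkQ ∘ₗ P)
    have hker : LinearMap.ker φ = Submodule.span R (Set.range v) := by
      refine le_antisymm (fun x hx => ?_) (Submodule.span_le.2 ?_)
      · obtain ⟨hx1, hx2⟩ := Prod.mk_eq_zero.1 (LinearMap.mem_ker.1 hx)
        obtain ⟨c, hc⟩ := Ideal.mem_span_singleton'.1 ((Submodule.Quotient.mk_eq_zero _).1 hx1)
        obtain ⟨d, hd⟩ := (Submodule.mem_span_range_iff_exists_fun R).1 ((Submodule.Quotient.mk_eq_zero _).1 hx2)
        have hy : ∀ y : Fin (n + 1) → R, y i = 0 → P y = 0 → y = 0 := fun y h1 h2 => by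
          funext j
          rcases Fin.eq_self_or_eq_succAbove i j with rfl | ⟨j', rfl⟩
          · exact h1
          · have := congrFun h2 j'
            simpa [hP, h1] using this
        choose u hu using fun l => hdvd l i
        have hPw : P w = 0 := funext fun j => by rw [hP, hwi, one_mul, sub_self]; rfl
        have e : x = (∑ l, d l • (v l - u l • (a • w))) + c • (a • w) := by
          refine sub_eq_zero.1 (hy _ ?_ ?_)
          · have hx' : x i = c * a := hc.symm
            simp [hu, hwi, hx', mul_comm]
          · rw [map_sub, map_add, map_sum, map_smul, map_smul, hPw, smul_zero, smul_zero, add_zero, sub_eq_zero, ← hd]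
            refine Finset.sum_congr rfl fun l _ => ?_
            rw [map_smul, map_sub, map_smul, map_smul, hPw, smul_zero, smul_zero, sub_zero]
        rw [e]
        exact add_mem (sum_mem fun l _ => Submodule.smul_mem _ _
          (sub_mem (Submodule.subset_span ⟨l, rfl⟩) (Submodule.smul_mem _ _ hmem))) (Submodule.smul_mem _ _ hmem)
      · rintro _ ⟨l, rfl⟩
        exact LinearMap.mem_ker.2 (Prod.ext ((Submodule.Quotient.mk_eq_zero _).2 (Ideal.mem_span_singleton.2 (hdvd l i)))
          ((Submodule.Quotient.mk_eq_zero _).2 (Submodule.subset_span ⟨l, rfl⟩)))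
    have hsurj : Function.Surjective φ := by
      rintro ⟨p, q⟩
      obtain ⟨b, rfl⟩ := Submodule.mkQ_surjective _ p
      obtain ⟨y, rfl⟩ := Submodule.mkQ_surjective _ q
      refine ⟨Fin.insertNth i b fun j => y j + b * w (i.succAbove j), Prod.ext ?_ ?_⟩
      · simp [φ, Fin.insertNth_apply_same]
      · refine congrArg (Submodule.mkQ _) (funext fun j => ?_)
        rw [hP, Fin.insertNth_apply_succAbove, Fin.insertNth_apply_same, add_sub_cancel_right]
    let g : Fin (r + 1) → R := Fin.cons a f
    let E : ((R ⧸ Ideal.span {a}) × ((j : Fin r) → R ⧸ Ideal.span {f j})) ≃ₗ[R] ((j : Fin (r + 1)) → R ⧸ Ideal.span {g j}) :=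
      { (Fin.consEquiv fun j : Fin (r + 1) => R ⧸ Ideal.span {g j}) with
        map_add' := fun x y => funext fun j => Fin.cases rfl (fun _ => rfl) j
        map_smul' := fun c x => funext fun j => Fin.cases rfl (fun _ => rfl) j }
    exact ⟨r + 1, g, ⟨(Submodule.quotEquivOfEq _ _ hker.symm).trans ((φ.quotKerEquivOfSurjective hsurj).trans
      (((LinearEquiv.refl R _).prodCongr e).trans E))⟩⟩

end Groth.Agent.S2015
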