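import Groth.Statements.S2016
import Groth.Agent.Lib.PureProjH7.Basic

set_option autoImplicit false
universe u
open EtAlg

namespace Groth.Agent.S2016

/-- Let R be a ring such that for every maximal ideal m and all a, b in R_m, either a divides b or b
divides a in R_m. Then each finitely presented R-module is a direct summand of a direct sum of
finitely many cyclic modules R/fR. -/
theorem result (R : Type u) [CommRing R]
    (h : ∀ (m : Ideal R) [m.IsMaximal], ∀ a b : Localization.AtPrime m, a ∣ b ∨ b ∣ a)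
    (M : Type u) [AddCommGroup M] [Module R M] [Module.FinitePresentation R M] :
    ∃ (n : ℕ) (f : Fin n → R) (N : Type u) (_ : AddCommGroup N) (_ : Module R N),
      Nonempty ((M × N) ≃ₗ[R] ((i : Fin n) → R ⧸ Ideal.span {f i})) := by
  obtain ⟨ι, hι, f, φ, ψ, hfac⟩ := Groth.Agent.PureProjH7.fac_one (M := M) h
  let σ := (Fintype.equivFin ι).symm
  let e : ((i : Fin (Fintype.card ι)) → R ⧸ Ideal.span {f (σ i)}) ≃ₗ[R] ((i : ι) → R ⧸ Ideal.span {f i}) :=
    LinearEquiv.piCongrLeft R (fun i => R ⧸ Ideal.span {f i}) σ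
  let φ' := φ ∘ₗ e.toLinearMap
  let ψ' := e.symm.toLinearMap ∘ₗ ψ
  have h1 : ∀ x, φ' (ψ' x) = x := fun x => by
    show φ (e (e.symm (ψ x))) = x
    rw [LinearEquiv.apply_symm_apply, hfac, one_smul]
  refine ⟨_, fun i => f (σ i), LinearMap.ker φ', inferInstance, inferInstance, ⟨?_⟩⟩
  refine
    { toFun := fun p => ψ' p.1 + p.2.1
      map_add' := fun p q => by simp only [Prod.fst_add, Prod.snd_add, map_add, Submodule.coe_add]; abel
      map_smul' := fun r p => by simp only [Prod.smul_fst, Prod.smul_snd, map_smul, SetLike.val_smul, RingHom.id_apply, smul_add]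
      invFun := fun y => (φ' y, ⟨y - ψ' (φ' y), by rw [LinearMap.mem_ker, map_sub, h1, sub_self]⟩)
      left_inv := fun p => ?_
      right_inv := fun y => ?_ }
  · have h2 : φ' p.2.1 = 0 := p.2.2
    have h3 : φ' (ψ' p.1 + p.2.1) = p.1 := by rw [map_add, h2, h1, add_zero]
    refine Prod.ext h3 (Subtype.ext ?_)
    show ψ' p.1 + p.2.1 - ψ' (φ' (ψ' p.1 + p.2.1)) = p.2.1
    rw [h3, add_sub_cancel_left]
  · exact add_sub_cancel _ _

end Groth.Agent.S2016
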