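import Groth.Statements.S2017


set_option autoImplicit false
universe u
open EtAlg

namespace Groth.Agent.S2017

/-- Let R be a Noetherian ring, A, B, C R-algebras of finite type, f : A -> B a surjective R-algebra map
and g : C -> B an R-algebra map making B a finite C-module. Then the fibre product A ×_B C (the
equalizer of f ∘ pr₁ and g ∘ pr₂ in A × C) is an R-algebra of finite type. -/
theorem result (R A B C : Type u) [CommRing R] [IsNoetherianRing R] [CommRing A] [CommRing B]
    [CommRing C] [Algebra R A] [Algebra R B] [Algebra R C] [Algebra.FiniteType R A] [Algebra.FiniteType R B]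
    [Algebra.FiniteType R C] (f : A →ₐ[R] B) (hf : Function.Surjective f) (g : C →ₐ[R] B)
    (hg : (g.toRingHom).Finite) :
    Algebra.FiniteType R ↥(AlgHom.equalizer (f.comp (AlgHom.fst R A C)) (g.comp (AlgHom.snd R A C))) := by
  classical
  set P := AlgHom.equalizer (f.comp (AlgHom.fst R A C)) (g.comp (AlgHom.snd R A C))
  have mem : ∀ (a : A) (c : C), f a = g c → (a, c) ∈ P := fun a c h => h
  letI : Module C B := (g.toRingHom).toModule
  have : Module.Finite C B := hg
  obtain ⟨s, hs⟩ := Module.finite_def.1 this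
  choose σ hσ using hf
  have hfin : Module.Finite ↥P (A × C) := by
    refine Module.finite_def.2 ⟨s.image (fun b => (σ b, (0 : C))) ∪ {((1 : A), (0 : C)), ((0 : A), (1 : C))}, ?_⟩
    rw [eq_top_iff]
    set N : Submodule ↥P (A × C) := Submodule.span ↥P (↑(s.image (fun b => (σ b, (0 : C))) ∪ {((1 : A), (0 : C)), ((0 : A), (1 : C))}) : Set (A × C)) with hN
    have hsub : ∀ x ∈ s.image (fun b => (σ b, (0 : C))) ∪ {((1 : A), (0 : C)), ((0 : A), (1 : C))}, x ∈ N :=
      fun x hx => Submodule.subset_span (Finset.mem_coe.2 hx)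
    have h0 : ∀ b : B, ∃ a : A, f a = b ∧ (a, (0 : C)) ∈ N := by
      intro b
      have hb : b ∈ Submodule.span C (s : Set B) := hs ▸ Submodule.mem_top
      induction hb using Submodule.span_induction with
      | mem x hx => exact ⟨σ x, hσ x, hsub _ (Finset.mem_union_left _ (Finset.mem_image_of_mem _ (Finset.mem_coe.1 hx)))⟩
      | zero => exact ⟨0, map_zero f, N.zero_mem⟩
      | add x y _ _ hx hy =>
        obtain ⟨a, ha, ha'⟩ := hx; obtain ⟨a', ha2, ha2'⟩ := hy
        exact ⟨a + a', by rw [map_add, ha, ha2], by simpa using N.add_mem ha' ha2'⟩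
      | smul c x _ hx =>
        obtain ⟨a, ha, ha'⟩ := hx
        refine ⟨σ (g c) * a, by rw [map_mul, hσ, ha]; rfl, ?_⟩
        have := N.smul_mem (⟨(σ (g c), c), mem _ _ (hσ _)⟩ : ↥P) ha'
        simpa [Subalgebra.smul_def, Prod.mk_mul_mk] using this
    rintro ⟨a, c⟩ -
    obtain ⟨a', ha', ha''⟩ := h0 (f a)
    have h1 : (a - a', (0 : C)) ∈ N := by
      have := N.smul_mem (⟨(a - a', (0 : C)), mem _ _ (by simp [ha'])⟩ : ↥P)
        (hsub ((1 : A), (0 : C)) (by simp))
      simpa [Subalgebra.smul_def] using this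
    have h2 : ((0 : A), c) ∈ N := by
      have := N.smul_mem (⟨(σ (g c), c), mem _ _ (hσ _)⟩ : ↥P) (hsub ((0 : A), (1 : C)) (by simp))
      simpa [Subalgebra.smul_def] using this
    simpa using N.add_mem (N.add_mem ha'' h1) h2
  exact ⟨fg_of_fg_of_fg R ↥P (A × C) Algebra.FiniteType.out hfin.fg_top Subtype.coe_injective⟩

end Groth.Agent.S2017
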