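import Groth.Statements.S2018
import Mathlib.RingTheory.IntegralClosure.Algebra.Basic

set_option autoImplicit false
universe u
open EtAlg

namespace Groth.Agent.S2018

/-- Let g : A' -> A be a surjective ring map and f : B -> A an integral ring map. Then the projection
from the fibre product B ×_A A' (the equalizer of f ∘ pr₁ and g ∘ pr₂ in B × A') to A' is integral. -/
theorem result (A A' B : Type u) [CommRing A] [CommRing A'] [CommRing B] (g : A' →+* A)
    (hg : Function.Surjective g) (f : B →+* A) (hf : f.IsIntegral) :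
    ((RingHom.snd B A').comp ((f.comp (RingHom.fst B A')).eqLocus (g.comp (RingHom.snd B A'))).subtype).IsIntegral := by
  intro a'
  obtain ⟨P, hPm, hP⟩ := hf (g a')
  let E := (f.comp (RingHom.fst B A')).eqLocus (g.comp (RingHom.snd B A'))
  let ψ : E →+* A' := (RingHom.snd B A').comp E.subtype
  have hlift : Function.Surjective ((RingHom.fst B A').comp E.subtype) := fun b => by
    obtain ⟨d, hd⟩ := hg (f b)
    exact ⟨⟨(b, d), hd.symm⟩, rfl⟩
  cases subsingleton_or_nontrivial B with
  | inl hB =>
    have h1 : (1 : A) = 0 := by rw [← map_one f, Subsingleton.elim (1 : B) 0, map_zero]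
    let w : E := ⟨((0 : B), a'), by
      show f 0 = g a'
      rw [map_zero, ← mul_one (g a'), h1, mul_zero]⟩
    exact ⟨Polynomial.X - Polynomial.C w, Polynomial.monic_X_sub_C w, by simp [w, E]⟩
  | inr hB =>
  obtain ⟨Q, hQ, hQdeg, hQm⟩ := Polynomial.lifts_and_degree_eq_and_monic
    ((Polynomial.map_surjective _ hlift) P) hPm
  have hzero : g (Q.eval₂ ψ a') = 0 := by
    rw [Polynomial.hom_eval₂, ← hP, ← hQ, Polynomial.eval₂_map]
    congr 1
    ext x
    exact x.2.symm
  let z : E := ⟨((0 : B), Q.eval₂ ψ a'), by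
    show f 0 = g (Q.eval₂ ψ a')
    rw [map_zero, hzero]⟩
  by_cases hd : Q.degree ≤ 0
  · have hQ1 : Q = 1 := hQm.degree_le_zero_iff_eq_one.1 hd
    have hP1 : P = 1 := by rw [← hQ, hQ1, Polynomial.map_one]
    have h1 : (1 : A) = 0 := by simpa [hP1] using hP
    let w : E := ⟨((0 : B), a'), by
      show f 0 = g a'
      rw [map_zero, ← mul_one (g a'), h1, mul_zero]⟩
    exact ⟨Polynomial.X - Polynomial.C w, Polynomial.monic_X_sub_C w, by simp [w, E]⟩
  · refine ⟨Q - Polynomial.C z, hQm.sub_of_left (lt_of_le_of_lt Polynomial.degree_C_le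
      (lt_of_not_ge hd)), ?_⟩
    simp [z, E, ψ]

end Groth.Agent.S2018
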