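import Groth.Statements.S2019
import Groth.Agent.Lib.MilnorSqH7.Glue

set_option autoImplicit false
universe u
open TensorProduct
open EtAlg

namespace Groth.Agent.S2019

/-- Let B' = B ×_A A' be a fibre product of rings with A' -> A surjective, N a B-module, M' an A'-module
and φ : A ⊗_B N ≅ A ⊗_{A'} M' an A-linear isomorphism. For the glued B'-module N' = N ×_φ M' (pairs
with matching images), the canonical maps B ⊗_{B'} N' -> N and A' ⊗_{B'} N' -> M' induced by the two
projections are bijective. -/
theorem result (B' B A' A : Type u) [CommRing B'] [CommRing B] [CommRing A'] [CommRing A]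
    [Algebra B' B] [Algebra B' A'] [Algebra B A] [Algebra A' A] [Algebra B' A] [IsScalarTower B' B A] [IsScalarTower B' A' A]
    (hsq : EtMil.IsFibreSquare B' B A' A)
    (N M' : Type u) [AddCommGroup N] [Module B N] [Module B' N] [IsScalarTower B' B N]
    [AddCommGroup M'] [Module A' M'] [Module B' M'] [IsScalarTower B' A' M'] (φ : A ⊗[B] N ≃ₗ[A] A ⊗[A'] M') :
    Function.Bijective (LinearMap.liftBaseChange B (EtMil.glueFst B' φ)) ∧
    Function.Bijective (LinearMap.liftBaseChange A' (EtMil.glueSnd B' φ)) := by
  exact ⟨Groth.Agent.MilnorH7.glue_baseChange_fst_bijective φ (Groth.Agent.MilnorH7.weak_of_isFibreSquare hsq),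
    Groth.Agent.MilnorH7.glue_baseChange_snd_bijective φ hsq⟩

end Groth.Agent.S2019
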