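import Groth.Statements.S2020
import Groth.Agent.Lib.MilnorSqH7.Glue

set_option autoImplicit false
universe u
open TensorProduct
open EtAlg

namespace Groth.Agent.S2020

/-- Let B' → B, B' → A', B → A and A' → A be ring homomorphisms forming a commutative square that is a
fibre product, B' = B ×_A A', with A' → A surjective. (1) Given a flat B-module N, a flat A'-module
M' and an A-linear isomorphism φ : A ⊗_B N ≅ A ⊗_{A'} M', the glued module N ×_φ M' (pairs (n, m')
with φ(1 ⊗ n) = 1 ⊗ m') is a flat B'-module. (2) For every flat B'-module L', the map L' → (B ⊗_{B'}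
L') × (A' ⊗_{B'} L') is injective, and any pair (x, y) whose two images in A ⊗_{B'} L' agree comes
from an element of L'. -/
theorem result (B' B A' A : Type u) [CommRing B'] [CommRing B] [CommRing A'] [CommRing A]
    [Algebra B' B] [Algebra B' A'] [Algebra B A] [Algebra A' A] [Algebra B' A] [IsScalarTower B' B A] [IsScalarTower B' A' A]
    (hsq : EtMil.IsFibreSquare B' B A' A) :
    (∀ (N M' : Type u) [AddCommGroup N] [Module B N] [Module B' N] [IsScalarTower B' B N]
    [AddCommGroup M'] [Module A' M'] [Module B' M'] [IsScalarTower B' A' M'] (φ : A ⊗[B] N ≃ₗ[A] A ⊗[A'] M'), Module.Flat B N → Module.Flat A' M' → Module.Flat B' ↥(EtMil.glue B' φ)) ∧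
    (∀ (L' : Type u) [AddCommGroup L'] [Module B' L'], Module.Flat B' L' →
      Function.Injective (fun l : L' => (((1 : B) ⊗ₜ[B'] l : B ⊗[B'] L'), ((1 : A') ⊗ₜ[B'] l : A' ⊗[B'] L'))) ∧
      ∀ (x : B ⊗[B'] L') (y : A' ⊗[B'] L'),
        (IsScalarTower.toAlgHom B' B A).toLinearMap.rTensor L' x = (IsScalarTower.toAlgHom B' A' A).toLinearMap.rTensor L' y →
          ∃ l : L', (1 : B) ⊗ₜ[B'] l = x ∧ (1 : A') ⊗ₜ[B'] l = y) := by
  refine ⟨?_, ?_⟩
  · intro N M' _ _ _ _ _ _ _ _ φ hN hM
    exact Groth.Agent.MilnorH7.glue_flat φ hsq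
  · intro L' _ _ hL
    refine ⟨fun a b hab => sub_eq_zero.1 (Groth.Agent.MilnorH7.eq_zero_of_pair hsq L' ?_ ?_), fun x y hxy =>
      Groth.Agent.MilnorH7.exists_lift_pair L' (Groth.Agent.MilnorH7.weak_of_isFibreSquare hsq) x y hxy⟩
    · rw [TensorProduct.tmul_sub, sub_eq_zero]
      exact congrArg Prod.fst hab
    · rw [TensorProduct.tmul_sub, sub_eq_zero]
      exact congrArg Prod.snd hab

end Groth.Agent.S2020
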