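import Groth.Statements.S2040
import Groth.Agent.Lib.CohenAlg3.Deform

set_option autoImplicit false
universe u
open CAlg

namespace Groth.Agent.S2040

/-- For a complete Noetherian local ring `A` with residue field `k`, and a complete Noetherian local
`k`-algebra `B` which is formally smooth over `k` for the adic topology of its maximal ideal, there
is a Noetherian complete local ring `C` with a local homomorphism `A → C`, formally smooth for the
adic topology of the maximal ideal of `C`, whose special fibre `C ⊗ k` is isomorphic to `B` over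
`k`. -/
theorem result {A B : Type u} [CommRing A] [IsLocalRing A]
    [IsNoetherianRing A] [IsAdicComplete (IsLocalRing.maximalIdeal A) A] [CommRing B] [IsLocalRing B]
    [IsNoetherianRing B] [IsAdicComplete (IsLocalRing.maximalIdeal B) B]
    [Algebra (IsLocalRing.maximalIdeal A).ResidueField B]
    (hB : CAlgX.IsAdicFormallySmooth (IsLocalRing.maximalIdeal A).ResidueField B (IsLocalRing.maximalIdeal B)) :
    ∃ (C : Type u) (_ : CommRing C) (_ : IsLocalRing C) (_ : Algebra A C),
      IsNoetherianRing C ∧ IsAdicComplete (IsLocalRing.maximalIdeal C) C ∧ IsLocalHom (algebraMap A C) ∧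
        CAlgX.IsAdicFormallySmooth A C (IsLocalRing.maximalIdeal C) ∧
        Nonempty ((IsLocalRing.maximalIdeal A).Fiber C ≃ₐ[(IsLocalRing.maximalIdeal A).ResidueField] B) := by
  let κ := (IsLocalRing.maximalIdeal A).ResidueField
  have hk : Function.Surjective (algebraMap A κ) := (IsLocalRing.maximalIdeal A).algebraMap_residueField_surjective
  haveI : IsRegularLocalRing B := AdicSmooth.isRegularLocalRing_of_adicFS hB
  have hm : ∀ a ∈ IsLocalRing.maximalIdeal A, algebraMap A κ a = 0 := fun a ha => Ideal.algebraMap_residueField_eq_zero.2 ha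
  letI : Algebra (IsLocalRing.ResidueField A) B :=
    ((algebraMap κ B).comp (Ideal.Quotient.lift (IsLocalRing.maximalIdeal A) (algebraMap A κ) hm)).toAlgebra
  obtain ⟨C, iC, iCl, iCn, iCA, iloc, π, hc, hflat, hπ, hker, hπA⟩ := CohenAlg3.exists_lift A B
  obtain ⟨e⟩ := CohenAlg3.nonempty_fibre_algEquiv' (k := κ) hk π hπ hker (fun a => (hπA a).trans rfl)
  exact ⟨C, iC, iCl, iCA, iCn, hc, iloc, (FSFlat3.isAdicFormallySmooth_iff hk).2
    ⟨hflat, CohenAlg3.isGeometricallyRegular_of_algEquiv e.symm (FSFlat3.adicFS_iff_geometricallyRegular.1 hB)⟩, ⟨e⟩⟩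

end Groth.Agent.S2040
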