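import Groth.Statements.S2042
import Groth.Agent.Lib.HensH7.Factor

set_option autoImplicit false
universe u
open CAlg

namespace Groth.Agent.S2042

open Polynomial Groth.Agent.Hens Groth.Agent.HensH7

lemma core {R : Type u} [CommRing R] (I : Ideal R) (f : R[X]) (hf : f.Monic) (g h : (R ⧸ I)[X])
    (hg : g.Monic) (hh : h.Monic) (hcop : IsCoprime g h)
    (hgh : f.map (Ideal.Quotient.mk I) = g * h) :
    ∃ (i : PNbhd I) (g' h' : i.S[X]), g'.Monic ∧ h'.Monic ∧ f.map (algebraMap R i.S) = g' * h' ∧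
      g'.map i.σ.toRingHom = g ∧ h'.map i.σ.toRingHom = h := by
  classical
  let P := PHs I
  let J : Ideal P := I.map (algebraMap R P)
  let q : R ⧸ I →+* P ⧸ J := Ideal.quotientMap J (algebraMap R P) Ideal.le_comap_map
  obtain ⟨G, H, hGm, hHm, hGH, -, hG, hH⟩ := exists_factor_lift PHs.henselianRing
    (f.map (algebraMap R P)) (hf.map _) (g.map q) (h.map q) (hg.map _) (hh.map _)
    (hcop.map (Polynomial.mapRingHom q))
    (by rw [← Polynomial.map_mul, ← hgh, Polynomial.map_map, Polynomial.map_map]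
        rfl)
  have hres : ∀ (p : P[X]) (p₀ : (R ⧸ I)[X]), p.map (Ideal.Quotient.mk J) = p₀.map q →
      p.map (PHs.res : P →ₐ[R] R ⧸ I).toRingHom = p₀ := by
    intro p p₀ hp
    ext n
    obtain ⟨s, hs⟩ := Ideal.Quotient.mk_surjective (p₀.coeff n)
    have hn := congrArg (fun t => coeff t n) hp
    simp only [coeff_map, ← hs] at hn
    have hmem : p.coeff n - algebraMap R P s ∈ RingHom.ker (PHs.res : P →ₐ[R] R ⧸ I) :=
      PHs.ker_res.ge (Ideal.Quotient.eq.mp hn)
    rw [RingHom.mem_ker, map_sub, AlgHom.commutes, sub_eq_zero] at hmem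
    rw [coeff_map, ← hs]
    exact hmem
  obtain ⟨i, hi⟩ := exists_finset_toPHs (G.coeffs ∪ H.coeffs) id
  have hlift : ∀ p : P[X], p.Monic → p.coeffs ⊆ G.coeffs ∪ H.coeffs →
      ∃ p' : i.S[X], p'.map (toPHs i).toRingHom = p ∧ p'.Monic := fun p hm hp => by
    obtain ⟨p', h1, -, h3⟩ := lifts_and_natDegree_eq_and_monic (f := (toPHs i).toRingHom) (p := p)
      ((lifts_iff_coeff_lifts p).mpr fun n => by
        rcases eq_or_ne (p.coeff n) 0 with h0 | h0
        · exact ⟨0, by rw [h0, map_zero]⟩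
        · exact hi _ (hp (coeff_mem_coeffs h0))) hm
    exact ⟨p', h1, h3⟩
  obtain ⟨G₁, hG₁, hG₁m⟩ := hlift G hGm Finset.subset_union_left
  obtain ⟨H₁, hH₁, hH₁m⟩ := hlift H hHm Finset.subset_union_right
  let d := f.map (algebraMap R i.S) - G₁ * H₁
  obtain ⟨j, ψ, hψ⟩ := exists_kill d.support i d.coeff fun n _ => by
    show (toPHs i).toRingHom (d.coeff n) = 0
    rw [← coeff_map, Polynomial.map_sub, Polynomial.map_mul, hG₁, hH₁, Polynomial.map_map,
      show (toPHs i).toRingHom.comp (algebraMap R i.S) = algebraMap R P from (toPHs i).comp_algebraMap,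
      hGH, sub_self, coeff_zero]
  have hσ : j.σ.toRingHom.comp ψ.toRingHom =
      (PHs.res : P →ₐ[R] R ⧸ I).toRingHom.comp (toPHs i).toRingHom := RingHom.ext fun s => by
    show j.σ (ψ s) = PHs.res (toPHs i s)
    rw [← res_toPHs, toPHs_comp]
  refine ⟨j, G₁.map ψ.toRingHom, H₁.map ψ.toRingHom, hG₁m.map _, hH₁m.map _, ?_, ?_, ?_⟩
  · have h0 : d.map ψ.toRingHom = 0 := by
      ext n
      rw [coeff_map, coeff_zero]
      by_cases hn : n ∈ d.support
      · exact hψ n hn
      · rw [notMem_support_iff.mp hn, map_zero]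
    rw [Polynomial.map_sub, Polynomial.map_mul, sub_eq_zero, Polynomial.map_map,
      show ψ.toRingHom.comp (algebraMap R i.S) = algebraMap R j.S from ψ.comp_algebraMap] at h0
    exact h0
  · rw [Polynomial.map_map, hσ, ← Polynomial.map_map, hG₁, hres G g hG]
  · rw [Polynomial.map_map, hσ, ← Polynomial.map_map, hH₁, hres H h hH]



open Polynomial in
/-- Let `I ⊆ A` be an ideal and `f ∈ A[X]` monic whose image in `(A/I)[X]` factors as a product of two
monic polynomials generating the unit ideal. Then over some étale `A`-algebra `A'` with `A/I →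
A'/IA'` bijective, `f` factors as a product of two monic polynomials lifting the given factors. -/
theorem result {A : Type u} [CommRing A] (I : Ideal A) (f : A[X])
    (hf : f.Monic) (g h : (A ⧸ I)[X]) (hg : g.Monic) (hh : h.Monic) (hcop : IsCoprime g h)
    (hfgh : f.map (Ideal.Quotient.mk I) = g * h) :
    ∃ (A' : Type u) (_ : CommRing A') (_ : Algebra A A'), Algebra.Etale A A' ∧
      Function.Bijective (algebraMap (A ⧸ I) (A' ⧸ I.map (algebraMap A A'))) ∧
      ∃ g' h' : A'[X], g'.Monic ∧ h'.Monic ∧ f.map (algebraMap A A') = g' * h' ∧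
        g'.map (Ideal.Quotient.mk (I.map (algebraMap A A'))) =
          g.map (algebraMap (A ⧸ I) (A' ⧸ I.map (algebraMap A A'))) ∧
        h'.map (Ideal.Quotient.mk (I.map (algebraMap A A'))) =
          h.map (algebraMap (A ⧸ I) (A' ⧸ I.map (algebraMap A A'))) := by
  obtain ⟨i, g', h', hg', hh', hf', hgm, hhm⟩ := core I f hf g h hg hh hcop hfgh
  refine ⟨i.S, inferInstance, inferInstance, i.etale, bijective_of_point i.σ i.ker_σ,
    g', h', hg', hh', hf', ?_, ?_⟩
  · rw [← hgm]
    ext n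
    rw [Polynomial.coeff_map, Polynomial.coeff_map, Polynomial.coeff_map]
    obtain ⟨r, hr⟩ := Ideal.Quotient.mk_surjective (i.σ.toRingHom (g'.coeff n))
    rw [← hr]
    refine Ideal.Quotient.eq.mpr ?_
    rw [← i.ker_σ, RingHom.mem_ker, map_sub, AlgHom.commutes, sub_eq_zero]
    exact hr.symm
  · rw [← hhm]
    ext n
    rw [Polynomial.coeff_map, Polynomial.coeff_map, Polynomial.coeff_map]
    obtain ⟨r, hr⟩ := Ideal.Quotient.mk_surjective (i.σ.toRingHom (h'.coeff n))
    rw [← hr]
    refine Ideal.Quotient.eq.mpr ?_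
    rw [← i.ker_σ, RingHom.mem_ker, map_sub, AlgHom.commutes, sub_eq_zero]
    exact hr.symm

end Groth.Agent.S2042
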