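import Groth.Statements.S2043
import Groth.Agent.Lib.SmoothLiftH7.Apps
import Groth.Agent.Lib.SmoothLiftH7.IdemMatrix
import Groth.Agent.Lib.SmoothLiftH7.System
import Groth.Agent.Lib.SmoothLiftH7.Away
import Groth.Agent.Lib.Hens.SmoothLift

set_option autoImplicit false
universe u
open CAlg

namespace Groth.Agent.S2043


open MvPolynomial Groth.Agent



/-- Let `I ⊆ A` be an ideal, `B` a smooth `A`-algebra and `B → A/I` an `A`-algebra map. Then there is an
étale `A`-algebra `A'` with `A/I → A'/IA'` bijective and an `A`-algebra map `B → A'` lifting the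
given map. -/
theorem result {A B : Type u} [CommRing A] [CommRing B] [Algebra A B]
    [Algebra.Smooth A B] (I : Ideal A) (σ : B →ₐ[A] A ⧸ I) :
    ∃ (A' : Type u) (_ : CommRing A') (_ : Algebra A A'), Algebra.Etale A A' ∧
      Function.Bijective (algebraMap (A ⧸ I) (A' ⧸ I.map (algebraMap A A'))) ∧
      ∃ τ : B →ₐ[A] A', ∀ b : B,
        Ideal.Quotient.mk (I.map (algebraMap A A')) (τ b) =
          algebraMap (A ⧸ I) (A' ⧸ I.map (algebraMap A A')) (σ b) := by
  classical
  obtain ⟨n, π, hπ, hJfg⟩ := Algebra.FinitePresentation.out (R := A) (A := B)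
  let J : Ideal (MvPolynomial (Fin n) A) := RingHom.ker π
  have hJfg : J.FG := hJfg
  let π₁ : (MvPolynomial (Fin n) A ⧸ J * J) →ₐ[A] B := Ideal.Quotient.liftₐ (J * J) π fun a ha =>
    Ideal.mul_le_left ha
  have hπ₁ : Function.Surjective π₁ := fun s => by
    obtain ⟨x, rfl⟩ := hπ s
    exact ⟨Ideal.Quotient.mk _ x, rfl⟩
  have hnil : IsNilpotent (RingHom.ker π₁) := by
    refine ⟨2, ?_⟩
    have : RingHom.ker π₁ = J.map (Ideal.Quotient.mk (J * J)) := by
      ext x
      obtain ⟨x, rfl⟩ := Ideal.Quotient.mk_surjective x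
      rw [Ideal.mem_quotient_iff_mem Ideal.mul_le_left]
      rfl
    rw [this, ← Ideal.map_pow, pow_two, Ideal.map_quotient_self]
    rfl
  let s := Algebra.FormallySmooth.liftOfSurjective (AlgHom.id A B) π₁ hπ₁ hnil
  choose y hy using fun k => Ideal.Quotient.mk_surjective (s (π (X k)))
  let g : Fin n → MvPolynomial (Fin n) A := fun k => X k - y k
  have hg : ∀ k, g k ∈ J := by
    intro k
    show π (X k - y k) = 0
    have := congrArg π₁ (hy k)
    rw [Algebra.FormallySmooth.liftOfSurjective_apply] at this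
    rw [map_sub, sub_eq_zero]
    exact this.symm
  have hgJ : ∀ f ∈ J, f - ∑ k, pderiv k f * g k ∈ J * J := by
    intro f hf
    have hcomp : s.comp π = (Ideal.Quotient.mkₐ A (J * J)).comp (aeval (fun k => X k - g k)) :=
      MvPolynomial.algHom_ext fun k => by
        simp only [AlgHom.comp_apply, aeval_X, g, sub_sub_cancel]
        exact (hy k).symm
    have h0 : aeval (fun k => X k - g k) f ∈ J * J := by
      have := congr($hcomp f)
      simp only [AlgHom.comp_apply, show π f = 0 from hf, map_zero] at this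
      exact Ideal.Quotient.eq_zero_iff_mem.mp this.symm
    have := sub_mem h0 (Hens.taylor_mem_sq J g hg f)
    rwa [sub_sub_cancel] at this
  choose a₀ ha₀ using fun k => Ideal.Quotient.mk_surjective (σ (π (X k)))
  have hσ : (Ideal.Quotient.mkₐ A I).comp (aeval a₀) = σ.comp π :=
    MvPolynomial.algHom_ext fun k => by simpa using ha₀ k
  have hJI : ∀ (T : Type u) [CommRing T] [Algebra A T] (a : Fin n → T),
      (∀ k, a k - algebraMap A T (a₀ k) ∈ I.map (algebraMap A T)) →
      ∀ f ∈ J, aeval a f ∈ I.map (algebraMap A T) := by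
    intro T _ _ a ha f hf
    have h0 : aeval a₀ f ∈ I := by
      rw [← Ideal.Quotient.eq_zero_iff_mem]
      simpa [show π f = 0 from hf] using congr($hσ f)
    have : (Ideal.Quotient.mkₐ A (I.map (algebraMap A T))).comp (aeval a) =
        (Ideal.Quotient.mkₐ A _).comp ((Algebra.ofId A T).comp (aeval a₀)) :=
      MvPolynomial.algHom_ext fun k => by
        simp only [AlgHom.comp_apply, aeval_X, Ideal.Quotient.mkₐ_eq_mk, Algebra.ofId_apply]
        exact Ideal.Quotient.eq.2 (ha k)
    rw [← Ideal.Quotient.eq_zero_iff_mem]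
    refine (congr($this f)).trans (Ideal.Quotient.eq_zero_iff_mem.2 ?_)
    exact Ideal.mem_map_of_mem _ h0
  let E : Matrix (Fin n) (Fin n) A := Matrix.of fun l k => aeval a₀ (pderiv k (g l))
  have hEI : ∀ l j, (E * E - E) l j ∈ I := by
    intro l j
    have h1 := Hens.pderiv_mem_of_mem_sq J (hgJ _ (hg l)) j
    have h2 : pderiv j (g l) - ∑ k, pderiv k (g l) * pderiv j (g k) ∈ J := by
      have : (∑ k, pderiv j (pderiv k (g l)) * g k) ∈ J :=
        Ideal.sum_mem _ fun k _ => Ideal.mul_mem_left _ _ (hg k)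
      convert add_mem h1 this using 1
      simp only [map_sub, map_sum, pderiv_mul, Finset.sum_add_distrib]
      ring
    have h3 := hJI A a₀ (fun k => by simp) _ h2
    simp only [map_sub, map_sum, map_mul, Algebra.algebraMap_self, Ideal.map_id] at h3
    simpa [E, Matrix.mul_apply] using I.neg_mem h3
  obtain ⟨A1, _, _, het1, φ1, hker1, P, hP, hPE⟩ :=
    SmoothLiftH7.exists_etale_idempotent_lift I E hEI
  let I1 : Ideal A1 := I.map (algebraMap A A1)
  let a1 : Fin n → A1 := fun k => algebraMap A A1 (a₀ k)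
  let G : Fin n → MvPolynomial (Fin n) A1 := fun l =>
    MvPolynomial.map (algebraMap A A1) (g l) + ∑ k, C ((1 - P) l k) * (X k - C (a1 k))
  have hevmap : ∀ (a : Fin n → A1) (f : MvPolynomial (Fin n) A),
      MvPolynomial.eval a (MvPolynomial.map (algebraMap A A1) f) = aeval a f := fun a f => by
    rw [MvPolynomial.eval_map]; rfl
  have hG0 : ∀ l, MvPolynomial.eval a1 (G l) ∈ I1 := fun l => by
    simp only [G, map_add, hevmap, map_sum, map_mul, map_sub, eval_C, eval_X, sub_self, mul_zero,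
      Finset.sum_const_zero, add_zero]
    exact hJI A1 a1 (fun k => by simp [a1]) _ (hg l)
  have hE1 : ∀ i j, aeval a1 (pderiv j (g i)) = algebraMap A A1 (E i j) := fun i j => by
    simp only [E, Matrix.of_apply]
    exact (MvPolynomial.comp_aeval_apply a₀ (Algebra.ofId A A1) _).symm
  have hjac : IsUnit (Ideal.Quotient.mk I1 (MvPolynomial.eval a1 (Hens.jacDet G))) := by
    have : (Matrix.of fun i j => MvPolynomial.pderiv j (G i)).map
        ((Ideal.Quotient.mk I1).comp (MvPolynomial.eval a1)) = 1 := by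
      ext i j
      have hd : MvPolynomial.eval a1 (pderiv j (G i)) = algebraMap A A1 (E i j) + (1 - P) i j := by
        simp [G, MvPolynomial.pderiv_map, hevmap, hE1, pderiv_X, Pi.single_apply,
          apply_ite (MvPolynomial.eval a1)]
      simp only [Matrix.map_apply, Matrix.of_apply, RingHom.comp_apply, hd, Matrix.sub_apply]
      rw [show algebraMap A A1 (E i j) + ((1 : Matrix (Fin n) (Fin n) A1) i j - P i j) =
        (1 : Matrix (Fin n) (Fin n) A1) i j - (P i j - algebraMap A A1 (E i j)) by ring, map_sub,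
        Ideal.Quotient.eq_zero_iff_mem.mpr (hPE i j), sub_zero]
      simp [Matrix.one_apply, apply_ite (Ideal.Quotient.mk I1)]
    rw [Hens.jacDet, ← RingHom.comp_apply, RingHom.map_det, RingHom.mapMatrix_apply, this,
      Matrix.det_one]
    exact isUnit_one
  obtain ⟨A2, _, _, het2, φ2, hφ2, hker2, x, hx, hxI⟩ :=
    SmoothLiftH7.exists_etale_zero_of_isUnit_jacDet I1 G a1 hG0 hjac
  letI : Algebra A A2 := Algebra.compHom A2 (algebraMap A A1)
  haveI : IsScalarTower A A1 A2 := IsScalarTower.of_algebraMap_eq' rfl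
  haveI : Algebra.Etale A A2 := Algebra.Etale.comp A A1 A2
  let I2 : Ideal A2 := I.map (algebraMap A A2)
  have hI2 : I1.map (algebraMap A1 A2) = I2 := by
    rw [Ideal.map_map, ← IsScalarTower.algebraMap_eq]
  have hxI2 : ∀ k, x k - algebraMap A A2 (a₀ k) ∈ I2 := fun k => by
    rw [← hI2, IsScalarTower.algebraMap_apply A A1 A2]
    exact hxI k
  let Q : Matrix (Fin n) (Fin n) A2 := P.map (algebraMap A1 A2)
  have hQ : Q * Q = Q := by rw [← Matrix.map_mul, hP]
  let v : Fin n → A2 := fun l => aeval x (g l)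
  let N : Ideal A2 := J.map (aeval x).toRingHom
  have hmapJ : ∀ f ∈ J, aeval x f ∈ N := fun f hf => Ideal.mem_map_of_mem _ hf
  have hv : ∀ l, v l = -((1 - Q).mulVec (fun k => x k - algebraMap A A2 (a₀ k))) l := fun l => by
    have h1 := hx l
    simp only [G, map_add, aeval_map_algebraMap, map_sum, map_mul, map_sub, aeval_C, aeval_X, a1,
      ← IsScalarTower.algebraMap_apply] at h1
    refine eq_neg_of_add_eq_zero_left (Eq.trans ?_ h1)
    congr 1
    simp only [Matrix.mulVec, dotProduct]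
    refine Finset.sum_congr rfl fun k _ => ?_
    congr 1
    simp [Q, Matrix.one_apply, apply_ite (algebraMap A1 A2)]
  have hQv : Q.mulVec v = 0 := by
    rw [show v = -((1 - Q).mulVec (fun k => x k - algebraMap A A2 (a₀ k))) from funext hv,
      Matrix.mulVec_neg, Matrix.mulVec_mulVec, mul_sub, mul_one, hQ, sub_self, Matrix.zero_mulVec,
      neg_zero]
  have hsq : ∀ f ∈ J * J, aeval x f ∈ I2 • N := by
    intro f hf
    refine Submodule.mul_induction_on hf (fun p hp q hq => ?_) (fun p q hp hq => ?_)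
    · rw [map_mul]
      exact Submodule.smul_mem_smul (hJI A2 x hxI2 p hp) (hmapJ q hq)
    · rw [map_add]; exact add_mem hp hq
  have hvN : ∀ l, v l ∈ I2 • N := by
    intro l
    have h4 : ∀ k, aeval x (pderiv k (g l)) - Q l k ∈ I2 := fun k => by
      have h5 : aeval x (pderiv k (g l)) - algebraMap A A2 (aeval a₀ (pderiv k (g l))) ∈ I2 := by
        rw [← Ideal.Quotient.eq]
        have : (Ideal.Quotient.mkₐ A I2).comp (aeval x) =
            (Ideal.Quotient.mkₐ A I2).comp ((Algebra.ofId A A2).comp (aeval a₀)) :=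
          MvPolynomial.algHom_ext fun k => by
            simp only [AlgHom.comp_apply, aeval_X, Ideal.Quotient.mkₐ_eq_mk, Algebra.ofId_apply]
            exact Ideal.Quotient.eq.2 (hxI2 k)
        exact congr($this _)
      have h6 : Q l k - algebraMap A A2 (E l k) ∈ I2 := by
        rw [← hI2, IsScalarTower.algebraMap_apply A A1 A2]
        show algebraMap A1 A2 (P l k) - _ ∈ _
        rw [← map_sub]
        exact Ideal.mem_map_of_mem _ (hPE l k)
      convert sub_mem h5 h6 using 1
      simp [E]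
    have h7 : v l = aeval x (g l - ∑ k, pderiv k (g l) * g k) +
        ∑ k, (aeval x (pderiv k (g l)) - Q l k) * v k := by
      have : ∑ k, Q l k * v k = 0 := congrFun hQv l
      simp only [map_sub, map_sum, map_mul, sub_mul, Finset.sum_sub_distrib, this, sub_zero, v]
      ring
    rw [h7]
    exact add_mem (hsq _ (hgJ _ (hg l))) (Submodule.sum_mem _ fun k _ =>
      Submodule.smul_mem_smul (h4 k) (hmapJ _ (hg k)))
  have hN : N ≤ I2 • N := by
    show Ideal.map (aeval x).toRingHom J ≤ I2 • N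
    rw [Ideal.map_le_iff_le_comap]
    intro f hf
    rw [Ideal.mem_comap, show f = (∑ k, pderiv k f * g k) + (f - ∑ k, pderiv k f * g k) by ring]
    show aeval x _ ∈ _
    rw [map_add]
    refine add_mem ?_ (hsq _ (hgJ f hf))
    rw [map_sum]
    refine Submodule.sum_mem _ fun k _ => ?_
    rw [map_mul]
    exact Ideal.mul_mem_left _ _ (hvN k)
  obtain ⟨r, hr, hr0⟩ :=
    Submodule.exists_sub_one_mem_and_smul_eq_zero_of_fg_of_le_smul I2 N (hJfg.map _) hN
  let κ : A1 →ₐ[A] A ⧸ I := φ1
  let κ1 : (A1 ⧸ I1) →ₐ[A] A ⧸ I := Ideal.Quotient.liftₐ I1 κ fun a ha => by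
    rw [← RingHom.mem_ker, hker1]; exact ha
  let ψ : A2 →ₐ[A] A ⧸ I := κ1.comp (φ2.restrictScalars A)
  have hψs : Function.Surjective ψ := fun z => by
    obtain ⟨a, rfl⟩ := Ideal.Quotient.mk_surjective z
    exact ⟨algebraMap A A2 a, ψ.commutes a⟩
  have hψ : RingHom.ker ψ = I2 := by
    rw [← hI2, ← hker2]
    ext z
    obtain ⟨w, hw⟩ := Ideal.Quotient.mk_surjective (φ2 z)
    rw [RingHom.mem_ker, RingHom.mem_ker, ← hw, Ideal.Quotient.eq_zero_iff_mem]
    show κ1 (φ2 z) = 0 ↔ _
    rw [← hw]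
    show κ w = 0 ↔ _
    rw [← RingHom.mem_ker, hker1]
  have hru : IsUnit (ψ r) := by
    have : ψ (r - 1) = 0 := by rw [← RingHom.mem_ker, hψ]; exact hr
    rw [map_sub, map_one, sub_eq_zero] at this
    rw [this]; exact isUnit_one
  obtain ⟨ψ', hψ's, hψ'c, hψ'k⟩ := SmoothLiftH7.exists_away_lift ψ hψs I2 hψ.ge r hru
    (fun z hz => ⟨0, by rw [pow_zero, one_mul, ← hψ]; exact hz⟩)
  let A3 := Localization.Away r
  haveI : Algebra.Etale A A3 := Algebra.Etale.comp A A2 A3
  have hI3 : RingHom.ker ψ' = I.map (algebraMap A A3) := by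
    rw [hψ'k, IsScalarTower.algebraMap_eq A A2 A3, ← Ideal.map_map]
  refine ⟨A3, inferInstance, inferInstance, inferInstance,
    SmoothLiftH7.bijective_quotientMap I ψ' hI3, ?_⟩
  let τ₀ : MvPolynomial (Fin n) A →ₐ[A] A3 := (IsScalarTower.toAlgHom A A2 A3).comp (aeval x)
  have hz : RingHom.ker π.toRingHom ≤ RingHom.ker τ₀.toRingHom := fun f hf => by
    show algebraMap A2 A3 (aeval x f) = 0
    refine (IsLocalization.Away.algebraMap_isUnit (S := A3) r).mul_right_eq_zero.1 ?_
    rw [← map_mul, ← smul_eq_mul, hr0 _ (hmapJ f hf), map_zero]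
  refine ⟨AlgHom.liftOfSurjective π hπ τ₀ hz, fun b => ?_⟩
  obtain ⟨f, rfl⟩ := hπ b
  rw [AlgHom.liftOfSurjective_apply]
  have hcomp : ψ'.comp τ₀ = σ.comp π := by
    rw [← hσ]
    refine MvPolynomial.algHom_ext fun k => ?_
    simp only [τ₀, AlgHom.comp_apply, aeval_X, IsScalarTower.coe_toAlgHom', hψ'c,
      Ideal.Quotient.mkₐ_eq_mk]
    have : ψ (x k - algebraMap A A2 (a₀ k)) = 0 := by rw [← RingHom.mem_ker, hψ]; exact hxI2 k
    rw [map_sub, AlgHom.commutes, sub_eq_zero] at this
    exact (hψ'c _).trans this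
  rw [show σ (π f) = ψ' (τ₀ f) from congr($hcomp.symm f)]
  obtain ⟨a, ha⟩ := Ideal.Quotient.mk_surjective (ψ' (τ₀ f))
  rw [← ha]
  show Ideal.Quotient.mk _ (τ₀ f) = Ideal.Quotient.mk _ (algebraMap A A3 a)
  rw [Ideal.Quotient.eq, ← hI3, RingHom.mem_ker, map_sub, AlgHom.commutes, sub_eq_zero]
  exact ha.symm

end Groth.Agent.S2043
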