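import Groth.Statements.S2044
import Groth.Agent.S2041

set_option autoImplicit false
universe u
open CAlg

namespace Groth.Agent.S2044


open TensorProduct Matrix

variable {A : Type u} [CommRing A]

lemma matrix_lift (I : Ideal A) {n : ℕ} (e : Matrix (Fin n) (Fin n) (A ⧸ I))
    (he : IsIdempotentElem e) :
    ∃ (A' : Type u) (_ : CommRing A') (_ : Algebra A A'), Algebra.Etale A A' ∧
      Function.Bijective (algebraMap (A ⧸ I) (A' ⧸ I.map (algebraMap A A'))) ∧
      ∃ E : Matrix (Fin n) (Fin n) A', IsIdempotentElem E ∧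
        E.map (Ideal.Quotient.mk (I.map (algebraMap A A'))) =
          e.map (algebraMap (A ⧸ I) (A' ⧸ I.map (algebraMap A A'))) := by
  classical
  obtain ⟨M, rfl⟩ : ∃ M : Matrix (Fin n) (Fin n) A, M.map (Ideal.Quotient.mk I) = e := by
    choose M hM using fun i j => Ideal.Quotient.mk_surjective (e i j)
    exact ⟨Matrix.of M, by ext i j; simp [hM]⟩
  let p := M.charpoly
  have hp : p.Monic := M.charpoly_monic
  let B := AdjoinRoot p
  have : Module.Finite A B := hp.finite_adjoinRoot
  let J := I.map (algebraMap A B)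
  let C := B ⧸ J
  let x : B := AdjoinRoot.root p
  let f : B →ₐ[A] Matrix (Fin n) (Fin n) A := Ideal.Quotient.liftₐ (Ideal.span {p})
    (Polynomial.aeval M) fun a ha => by
      obtain ⟨c, rfl⟩ := Ideal.mem_span_singleton'.1 ha
      rw [map_mul, Matrix.aeval_self_charpoly, mul_zero]
  have hfx : f x = M := by
    show Polynomial.aeval M Polynomial.X = M
    simp
  have hnil : IsNilpotent (Ideal.Quotient.mk J (x ^ 2 - x)) := by
    rw [nilpotent_iff_mem_prime]
    intro Q hQ
    let K := FractionRing (C ⧸ Q)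
    let ψ : B →+* K := (algebraMap (C ⧸ Q) K).comp ((Ideal.Quotient.mk Q).comp (Ideal.Quotient.mk J))
    have hI : ∀ a ∈ I, (ψ.comp (algebraMap A B)) a = 0 := by
      intro a ha
      have : Ideal.Quotient.mk J (algebraMap A B a) = 0 :=
        Ideal.Quotient.eq_zero_iff_mem.2 (Ideal.mem_map_of_mem _ ha)
      simp [ψ, this]
    let χ : A ⧸ I →+* K := Ideal.Quotient.lift I (ψ.comp (algebraMap A B)) hI
    let N : Matrix (Fin n) (Fin n) K := (M.map (Ideal.Quotient.mk I)).map χ
    have hNM : N = M.map (ψ.comp (algebraMap A B)) := by ext i j; simp [N, χ]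
    have hN2 : N * N = N := by
      have := congrArg χ.mapMatrix he.eq
      rwa [map_mul] at this
    have hev : (Matrix.scalar (Fin n) (ψ x) - N).det = 0 := by
      rw [← Matrix.eval_charpoly, hNM, Matrix.charpoly_map, Polynomial.eval_map,
        ← Polynomial.hom_eval₂]
      have : Polynomial.eval₂ (algebraMap A B) x p = 0 := AdjoinRoot.eval₂_root p
      rw [this, map_zero]
    obtain ⟨v, hv0, hv⟩ := Matrix.exists_mulVec_eq_zero_iff.2 hev
    have hv1 : N *ᵥ v = ψ x • v := by
      rw [Matrix.sub_mulVec, sub_eq_zero] at hv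
      rw [← hv, Matrix.scalar_apply]
      ext i
      simp [Matrix.mulVec_diagonal]
    have hv2 : (ψ x * ψ x) • v = ψ x • v := by
      have := congrArg (fun w => N *ᵥ w) hv1
      rw [Matrix.mulVec_mulVec, hN2, hv1, Matrix.mulVec_smul, hv1, smul_smul] at this
      exact this.symm
    obtain ⟨i, hi⟩ : ∃ i, v i ≠ 0 := by
      by_contra! h; exact hv0 (funext h)
    have hx : ψ x * ψ x = ψ x := mul_right_cancel₀ hi (congrFun hv2 i)
    have : ψ (x ^ 2 - x) = 0 := by rw [map_sub, map_pow, sq, hx, sub_self]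
    have h2 : Ideal.Quotient.mk Q (Ideal.Quotient.mk J (x ^ 2 - x)) = 0 :=
      IsFractionRing.injective (C ⧸ Q) K (by rw [map_zero]; exact this)
    exact Ideal.Quotient.eq_zero_iff_mem.1 h2
  let y : C := Ideal.Quotient.mk J x
  have hy : IsNilpotent (y ^ 2 - y) := by simpa [y] using hnil
  obtain ⟨k, hk⟩ := hy
  obtain ⟨e₀, he₀, he₀y⟩ := exists_isIdempotentElem_eq_of_ker_isNilpotent
    (Ideal.Quotient.mk (Ideal.span {y ^ 2 - y}))
    (fun z hz => by
      rw [Ideal.mk_ker, Ideal.mem_span_singleton'] at hz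
      obtain ⟨c, rfl⟩ := hz
      exact ⟨k, by rw [mul_pow, hk, mul_zero]⟩)
    (Ideal.Quotient.mk _ y) ⟨y, rfl⟩ (by
      show _ * _ = _
      rw [← map_mul, Ideal.Quotient.eq, Ideal.mem_span_singleton]
      exact ⟨1, by ring⟩)
  have he₀y' : IsNilpotent (e₀ - y) := by
    rw [Ideal.Quotient.eq, Ideal.mem_span_singleton'] at he₀y
    obtain ⟨c, hc⟩ := he₀y
    exact ⟨k, by rw [← hc, mul_pow, hk, mul_zero]⟩
  obtain ⟨A', _, _, het, hbij, e', he', hb⟩ := Groth.Agent.S2041.result I e₀ he₀
  refine ⟨A', inferInstance, inferInstance, het, hbij, ?_⟩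
  obtain ⟨b, hb0⟩ := Ideal.Quotient.mk_surjective e₀
  let I' := I.map (algebraMap A A')
  let g : A' ⊗[A] B →ₐ[A'] Matrix (Fin n) (Fin n) A' :=
    Algebra.TensorProduct.lift (Algebra.ofId A' _) ((Algebra.ofId A A').mapMatrix.comp f)
      (fun a b => Algebra.commutes a _)
  refine ⟨g e', he'.map g, ?_⟩
  let G : A' ⊗[A] B →+* Matrix (Fin n) (Fin n) (A' ⧸ I') :=
    (Ideal.Quotient.mk I').mapMatrix.comp g.toRingHom
  have hker : I.map (algebraMap A (A' ⊗[A] B)) ≤ RingHom.ker G := by
    rw [Ideal.map_le_iff_le_comap]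
    intro a ha
    have hg : g (algebraMap A (A' ⊗[A] B) a) = algebraMap A' _ (algebraMap A A' a) := by
      rw [IsScalarTower.algebraMap_apply A A' (A' ⊗[A] B), AlgHom.commutes]
    have h0 : Ideal.Quotient.mk I' (algebraMap A A' a) = 0 :=
      Ideal.Quotient.eq_zero_iff_mem.2 (Ideal.mem_map_of_mem _ ha)
    ext i j
    show Ideal.Quotient.mk I' (g _ i j) = 0
    rw [hg, Matrix.algebraMap_matrix_apply]
    split_ifs <;> simp [h0]
  have hG : G e' = (Ideal.Quotient.mk I').mapMatrix ((Algebra.ofId A A').mapMatrix (f b)) := by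
    have := hker (hb b hb0)
    rw [RingHom.mem_ker, map_sub, sub_eq_zero] at this
    rw [this]
    simp [G, g]
  let q := Ideal.Quotient.mk I
  let F : B →+* Matrix (Fin n) (Fin n) (A ⧸ I) := q.mapMatrix.comp f.toRingHom
  have hF : F b = M.map q := by
    have hJ : ∀ z ∈ J, F z = 0 := by
      show J ≤ RingHom.ker F
      rw [Ideal.map_le_iff_le_comap]
      intro a ha
      ext i j
      simp [F, Matrix.algebraMap_matrix_apply, apply_ite q, q, Ideal.Quotient.eq_zero_iff_mem.2 ha]
    let F' : C →+* _ := Ideal.Quotient.lift J F hJ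
    have h1 : F' e₀ = F b := by rw [← hb0]; rfl
    have h2 : F' y = M.map q := by
      show F x = _
      simp [F, hfx]
    rw [← h1, ← h2]
    apply eq_of_isNilpotent_sub_of_isIdempotentElem_of_commute (he₀.map F') (h2 ▸ he)
      (by simpa using he₀y'.map F')
    exact (Commute.all e₀ y).map F'
  show G e' = _
  rw [hG, ← hF]
  rfl



open TensorProduct in
/-- Let `I ⊆ A` be an ideal and `P` a finite projective `A/I`-module. Then there is an étale `A`-algebra
`A'` with `A/I → A'/IA'` bijective and a finite projective `A'`-module whose reduction modulo `IA'`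
is the base change of `P`. -/
theorem result {A : Type u} [CommRing A] (I : Ideal A) (P : Type u)
    [AddCommGroup P] [Module (A ⧸ I) P] [Module.Finite (A ⧸ I) P] [Module.Projective (A ⧸ I) P] :
    ∃ (A' : Type u) (_ : CommRing A') (_ : Algebra A A'), Algebra.Etale A A' ∧
      Function.Bijective (algebraMap (A ⧸ I) (A' ⧸ I.map (algebraMap A A'))) ∧
      ∃ (P' : Type u) (_ : AddCommGroup P') (_ : Module A' P'), Module.Finite A' P' ∧
        Module.Projective A' P' ∧
        Nonempty (((A' ⧸ I.map (algebraMap A A')) ⊗[A'] P') ≃ₗ[A' ⧸ I.map (algebraMap A A')]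
          ((A' ⧸ I.map (algebraMap A A')) ⊗[A ⧸ I] P)) := by
  classical
  obtain ⟨n, q, hq⟩ := Module.Finite.exists_fin' (A ⧸ I) P
  obtain ⟨s, hs⟩ := Module.projective_lifting_property q LinearMap.id hq
  have he : IsIdempotentElem (LinearMap.toMatrix' (s ∘ₗ q)) := by
    show _ * _ = _
    rw [← LinearMap.toMatrix'_comp, LinearMap.comp_assoc, ← LinearMap.comp_assoc q s q, hs,
      LinearMap.id_comp]
  obtain ⟨A', _, _, het, hbij, E, hE, hEe⟩ := matrix_lift I _ he
  refine ⟨A', inferInstance, inferInstance, het, hbij, ?_⟩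
  set R' := A' ⧸ I.map (algebraMap A A')
  let L : (Fin n → A') →ₗ[A'] (Fin n → A') := Matrix.toLin' E
  have hL : ∀ v, L (L v) = L v := fun v => by
    simp [L, Matrix.toLin'_apply, Matrix.mulVec_mulVec, hE.eq]
  let π : (Fin n → A') →ₗ[A'] LinearMap.range L := L.rangeRestrict
  have hπ : ∀ x : LinearMap.range L, π x = x := by
    rintro ⟨_, v, rfl⟩; exact Subtype.ext (hL v)
  refine ⟨LinearMap.range L, inferInstance, inferInstance, inferInstance,
    Module.Projective.of_split (LinearMap.range L).subtype π (LinearMap.ext hπ), ?_⟩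
  let ι : (Fin n → A ⧸ I) →ₗ[A ⧸ I] (Fin n → R') := (Algebra.linearMap (A ⧸ I) R').compLeft _
  let μ : (Fin n → A') →ₗ[A'] (Fin n → R') := (Algebra.linearMap A' R').compLeft _
  let τ : R' ⊗[A'] LinearMap.range L →ₗ[R'] (Fin n → R') :=
    (μ ∘ₗ (LinearMap.range L).subtype).liftBaseChange R'
  let σ : R' ⊗[A ⧸ I] P →ₗ[R'] (Fin n → R') := (ι ∘ₗ s).liftBaseChange R'
  let θ : (Fin n → R') →ₗ[R'] R' ⊗[A'] LinearMap.range L :=
    (Pi.basisFun R' (Fin n)).constr R' fun i => 1 ⊗ₜ π (Pi.single i 1)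
  let θ' : (Fin n → R') →ₗ[R'] R' ⊗[A ⧸ I] P :=
    (Pi.basisFun R' (Fin n)).constr R' fun i => 1 ⊗ₜ q (Pi.single i 1)
  have hθμ : ∀ v : Fin n → A', θ (μ v) = 1 ⊗ₜ π v := by
    intro v
    conv_rhs => rw [pi_eq_sum_univ' v]
    simp only [θ, Module.Basis.constr_apply_fintype, map_sum, map_smul, tmul_sum, tmul_smul]
    refine Finset.sum_congr rfl fun i _ => ?_
    rw [Pi.basisFun_equivFun]
    exact algebraMap_smul R' (v i) _
  have hθι : ∀ v : Fin n → A ⧸ I, θ' (ι v) = 1 ⊗ₜ q v := by
    intro v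
    conv_rhs => rw [pi_eq_sum_univ' v]
    simp only [θ', Module.Basis.constr_apply_fintype, map_sum, map_smul, tmul_sum, tmul_smul]
    refine Finset.sum_congr rfl fun i _ => ?_
    simp [ι, algebraMap_smul]
  have hθτ : ∀ z, θ (τ z) = z := by
    intro z
    induction z using TensorProduct.induction_on with
    | zero => simp
    | add a b ha hb => simp [ha, hb]
    | tmul r x =>
      simp only [τ, LinearMap.liftBaseChange_tmul, map_smul, LinearMap.comp_apply,
        Submodule.coe_subtype, hθμ, hπ, smul_tmul', smul_eq_mul, mul_one]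
  have hθσ : ∀ z, θ' (σ z) = z := by
    intro z
    induction z using TensorProduct.induction_on with
    | zero => simp
    | add a b ha hb => simp [ha, hb]
    | tmul r p =>
      simp only [σ, LinearMap.liftBaseChange_tmul, map_smul, LinearMap.comp_apply, hθι,
        smul_tmul', smul_eq_mul, mul_one]
      rw [← LinearMap.comp_apply, hs, LinearMap.id_apply]
  have key : τ ∘ₗ θ = σ ∘ₗ θ' := by
    refine (Pi.basisFun R' (Fin n)).ext fun i => ?_
    simp only [τ, σ, θ, θ', LinearMap.comp_apply, Module.Basis.constr_basis,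
      LinearMap.liftBaseChange_tmul, one_smul]
    ext j
    have := congrFun (congrFun hEe j) i
    simpa [μ, ι, π, L, R', Ideal.Quotient.algebraMap_eq, LinearMap.toMatrix'_apply, Matrix.toLin'_apply] using this
  have key' : ∀ v, τ (θ v) = σ (θ' v) := LinearMap.congr_fun key
  exact ⟨LinearEquiv.ofLinear (θ' ∘ₗ τ) (θ ∘ₗ σ)
    (LinearMap.ext fun z => by
      show θ' (τ (θ (σ z))) = z
      rw [key', hθσ, hθσ])
    (LinearMap.ext fun z => by
      show θ (σ (θ' (τ z))) = z
      rw [← key', hθτ, hθτ])⟩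

end Groth.Agent.S2044
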