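import Groth.Statements.S2046
import Groth.Agent.Lib.AndreFS1.Cpl
import Groth.Agent.Lib.GRing6.HensExc
import Groth.Agent.S2817

set_option autoImplicit false
universe u
open CAlg

namespace Groth.Agent.S2046

open IsLocalRing in
theorem adicFS_of_formallySmooth_field {k K : Type u} [Field k] [Field K] [Algebra k K] [Algebra.FormallySmooth k K] :
    CAlgX.IsAdicFormallySmooth k K (maximalIdeal K) := by
  intro C _ _ J hJ ψ _
  exact Algebra.FormallySmooth.comp_surjective _ _ J hJ ψ


/-- If `R` is a Noetherian local G-ring then its strict henselization is a G-ring. -/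
theorem result {R S : Type u} [CommRing R] [IsLocalRing R] [IsNoetherianRing R]
    (hR : CAlg.IsGRing R) [CommRing S] [IsLocalRing S] [Algebra R S] [IsLocalHom (algebraMap R S)]
    [Hensel.IsStrictHenselization R S] : CAlg.IsGRing S := by
  haveI : IsNoetherianRing S := Hens.strictHenselization_isNoetherianRing R S
  haveI : Module.FaithfullyFlat R S := Hens.strictHenselization_faithfullyFlat R S
  haveI : Module.FaithfullyFlat S (EGA4.Cpl S) := CplLocH7.faithfullyFlat_cpl S
  haveI := CplLocH7.isNoetherianRing_cpl S
  haveI := (Hensel.IsStrictHenselization.isSepClosure (R := R) (S := S)).separable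
  haveI : Algebra.FormallyEtale (IsLocalRing.ResidueField R) (IsLocalRing.ResidueField S) :=
    Algebra.FormallyEtale.of_isSeparable _ _
  obtain ⟨e⟩ := CohenAlg3.nonempty_fibre_algEquiv (IsLocalRing.residue S) IsLocalRing.residue_surjective
    (by rw [IsLocalRing.ker_residue, Hens.strictHenselization_map_maximalIdeal R S]) (fun a => rfl)
  have hfs : CAlgX.IsAdicFormallySmooth R S (IsLocalRing.maximalIdeal S) :=
    (FSFlat3.isAdicFormallySmooth_iff (k := IsLocalRing.ResidueField R) IsLocalRing.residue_surjective).2
      ⟨inferInstance, CohenAlg3.isGeometricallyRegular_of_algEquiv e.symm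
        (FSFlat3.adicFS_iff_geometricallyRegular.1 adicFS_of_formallySmooth_field)⟩
  have hpi : GRing6.HasPiFibres R S := fun p _ => Groth.Agent.S2817.result R S p
  exact GRing6.isGRing_of_local S (GRing6.isRegularHom_up_piFibres R S (EGA4.Cpl S) hpi
    (AndreFS1.isRegularHom_to_cpl (GRing6.regularProp.hom_cpl_of_gAll R hR.2) hfs))

end Groth.Agent.S2046
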