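import Groth.Statements.S2055
import Groth.Agent.Lib.FormalGlueH7.Basic
import Mathlib.LinearAlgebra.TensorProduct.Pi
import Mathlib.RingTheory.TensorProduct.Pi

set_option autoImplicit false
universe u
open CAlg

namespace Groth.Agent.S2055

open TensorProduct Groth.Agent.FormalGlueH7 in
theorem exists_one_tmul_of_killed {R S N : Type u} [CommRing R] [CommRing S] [Algebra R S] [Module.Flat R S]
    (I : Ideal R) (hI : I.FG) (hq : QBij S I) [AddCommGroup N] [Module R N] (y : S ⊗[R] N) (n : ℕ)
    (hy : ∀ a ∈ I ^ n, a • y = 0) :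
    ∃ t : N, (∀ a ∈ I ^ n, a • t = 0) ∧ (1 : S) ⊗ₜ[R] t = y := by
  classical
  obtain ⟨G, hG⟩ := hI.pow (n := n)
  let g : N →ₗ[R] ({x // x ∈ G} → N) := LinearMap.pi fun a => LinearMap.lsmul R N (a : R)
  let T := LinearMap.ker g
  have hex : Function.Exact (T.subtype.lTensor S) (g.lTensor S) :=
    Module.Flat.lTensor_exact S (LinearMap.exact_subtype_ker_map g)
  have h0 : g.lTensor S y = 0 := by
    apply (TensorProduct.piRight R R S fun _ : {x // x ∈ G} => N).injective
    rw [map_zero]
    ext a
    have : ∀ z : S ⊗[R] N, TensorProduct.piRight R R S (fun _ : {x // x ∈ G} => N) (g.lTensor S z) a =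
        (a : R) • z := fun z => by
      induction z using TensorProduct.induction_on with
      | zero => simp
      | add z z' hz hz' => simp only [map_add, Pi.add_apply, hz, hz', smul_add]
      | tmul s m => simp [g, TensorProduct.tmul_smul]
    rw [this, hy _ (hG ▸ Submodule.subset_span a.2)]
    rfl
  obtain ⟨w, hw⟩ := (hex y).1 h0
  have hT : ∀ a ∈ I ^ n, ∀ x : N, x ∈ T → a • x = 0 := fun a ha x hx => by
    have ha' : a ∈ Submodule.span R (G : Set R) := (SetLike.ext_iff.1 hG a).2 ha
    refine Submodule.span_induction (p := fun a _ => a • x = 0) ?_ (zero_smul _ _)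
      (fun a b _ _ ha hb => by rw [add_smul, ha, hb, add_zero])
      (fun c a _ ha => by rw [smul_eq_mul, mul_smul, ha, smul_zero]) ha'
    intro b hb
    exact congrFun (LinearMap.mem_ker.1 hx) ⟨b, hb⟩
  obtain ⟨t, rfl⟩ := mk_surjective_of_torsion (M := T) hq
    (fun x => ⟨n, fun a ha => Subtype.ext (hT a ha _ x.2)⟩) w
  exact ⟨t, fun a ha => hT a ha _ t.2, by rw [← hw]; rfl⟩


open TensorProduct in
/-- Let `R → S` be flat and `I ⊆ R` a finitely generated ideal with `R/I → S/IS` bijective. If one of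
the `R`-modules `M`, `N` has every element killed by a power of `I`, then base change of linear maps
`Hom_R(M, N) → Hom_S(S ⊗ M, S ⊗ N)` is bijective. -/
theorem result {R S M N : Type u} [CommRing R] [CommRing S]
    [Algebra R S] [Module.Flat R S] (I : Ideal R) (hI : I.FG)
    (hq : Function.Bijective (algebraMap (R ⧸ I) (S ⧸ I.map (algebraMap R S))))
    [AddCommGroup M] [Module R M] [AddCommGroup N] [Module R N]
    (hMN : (∀ x : M, ∃ n : ℕ, ∀ a ∈ I ^ n, a • x = 0) ∨ (∀ y : N, ∃ n : ℕ, ∀ a ∈ I ^ n, a • y = 0)) :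
    Function.Bijective (fun f : M →ₗ[R] N => LinearMap.baseChange S f) := by
  classical
  have hq' : Groth.Agent.FormalGlueH7.QBij S I := hq
  rcases hMN with hM | hN
  · have key : ∀ (f : M →ₗ[R] N) (m : M) (n : ℕ), (∀ a ∈ I ^ n, a • m = 0) → ∀ a ∈ I ^ n, a • f m = 0 :=
      fun f m n h a ha => by rw [← map_smul, h a ha, map_zero]
    constructor
    · intro f g hfg
      ext m
      obtain ⟨n, hn⟩ := hM m
      have h1 : LinearMap.baseChange S f ((1 : S) ⊗ₜ m) = LinearMap.baseChange S g ((1 : S) ⊗ₜ m) :=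
        LinearMap.congr_fun hfg _
      rw [← sub_eq_zero]
      refine Groth.Agent.FormalGlueH7.eq_zero_of_torsion hq' (n := n)
        (fun a ha => by rw [smul_sub, key f m n hn a ha, key g m n hn a ha, sub_zero]) ?_
      rw [TensorProduct.tmul_sub, sub_eq_zero]
      simpa using h1
    · intro φ
      have hex : ∀ m : M, ∃! t : N, (∃ n, ∀ a ∈ I ^ n, a • t = 0) ∧
          (1 : S) ⊗ₜ[R] t = φ ((1 : S) ⊗ₜ m) := fun m => by
        obtain ⟨n, hn⟩ := hM m
        obtain ⟨t, ht, ht'⟩ := exists_one_tmul_of_killed I hI hq' (φ ((1 : S) ⊗ₜ m)) n fun a ha => by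
          rw [← LinearMap.map_smul_of_tower, ← TensorProduct.tmul_smul, hn a ha, TensorProduct.tmul_zero,
            map_zero]
        refine ⟨t, ⟨⟨n, ht⟩, ht'⟩, fun t' ⟨⟨n', hn'⟩, ht''⟩ => ?_⟩
        rw [← sub_eq_zero]
        refine Groth.Agent.FormalGlueH7.eq_zero_of_torsion hq' (n := n + n') (fun a ha => ?_)
          (by rw [TensorProduct.tmul_sub, ht', ht'', sub_self])
        rw [smul_sub, hn' a (Ideal.pow_le_pow_right (Nat.le_add_left _ _) ha),
          ht a (Ideal.pow_le_pow_right (Nat.le_add_right _ _) ha), sub_zero]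
      choose T hT hTu using hex
      have hadd : ∀ a b, T (a + b) = T a + T b := fun a b => by
        refine (hTu (a + b) _ ⟨?_, ?_⟩).symm
        · obtain ⟨n, hn⟩ := (hT a).1
          obtain ⟨n', hn'⟩ := (hT b).1
          exact ⟨n + n', fun x hx => by
            rw [smul_add, hn x (Ideal.pow_le_pow_right (Nat.le_add_right _ _) hx),
              hn' x (Ideal.pow_le_pow_right (Nat.le_add_left _ _) hx), add_zero]⟩
        · rw [TensorProduct.tmul_add, (hT a).2, (hT b).2, ← map_add, ← TensorProduct.tmul_add]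
      have hsmul : ∀ (r : R) a, T (r • a) = r • T a := fun r a => by
        refine (hTu (r • a) _ ⟨?_, ?_⟩).symm
        · obtain ⟨n, hn⟩ := (hT a).1
          exact ⟨n, fun x hx => by rw [smul_comm, hn x hx, smul_zero]⟩
        · rw [TensorProduct.tmul_smul, (hT a).2, TensorProduct.tmul_smul, LinearMap.map_smul_of_tower]
      refine ⟨{ toFun := T, map_add' := hadd, map_smul' := hsmul }, ?_⟩
      ext m
      simpa using (hT m).2
  · let e := LinearEquiv.ofBijective _ (Groth.Agent.FormalGlueH7.mk_bijective_of_torsion (M := N) hq' hN)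
    have he : ∀ y, e y = (1 : S) ⊗ₜ[R] y := fun y => rfl
    constructor
    · intro f g hfg
      ext m
      refine e.injective ?_
      have h1 := LinearMap.congr_fun hfg ((1 : S) ⊗ₜ m)
      rw [he, he]
      simpa using h1
    · intro φ
      refine ⟨e.symm.toLinearMap.comp ((φ.restrictScalars R).comp (TensorProduct.mk R S M 1)), ?_⟩
      ext m
      have h1 := e.apply_symm_apply (φ ((1 : S) ⊗ₜ m))
      rw [he] at h1
      simpa using h1

end Groth.Agent.S2055
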