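import Groth.Statements.S2057
import Groth.Agent.Lib.CAlgLow.FactorFP

set_option autoImplicit false
universe u
open CAlg

namespace Groth.Agent.S2057

open TensorProduct in
theorem tmul_fun {R N : Type u} [CommRing R] [AddCommGroup N] [Module R N] {n : ℕ} (x : Fin n → N)
    (w : N ⊗[R] (Fin n → R)) (hw : ∀ i, TensorProduct.rid R N ((LinearMap.proj i).lTensor N w) = x i) :
    w = ∑ i, x i ⊗ₜ Pi.single i 1 := by
  classical
  obtain ⟨c, hc⟩ := Groth.Agent.CAlgLow.exists_sum_tmul (fun k => Pi.single (M := fun _ : Fin n => R) k 1)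
    ((congrArg (Submodule.span R) (congrArg Set.range (funext fun k => (Pi.basisFun_apply R (Fin n) k).symm))).trans
      (Pi.basisFun R (Fin n)).span_eq)
    (TensorProduct.comm R N (Fin n → R) w)
  have hw' : w = ∑ k, c k ⊗ₜ Pi.single k 1 := by
    apply (TensorProduct.comm R N (Fin n → R)).injective
    rw [hc]; simp
  subst hw'
  refine Finset.sum_congr rfl fun i _ => ?_
  have := hw i
  simp [Pi.single_apply] at this
  rw [this]

open TensorProduct in
theorem col {R N : Type u} [CommRing R] [AddCommGroup N] [Module R N] {n m : ℕ} (y : Fin m → N)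
    (a : Fin n → Fin m → R) :
    ∑ i, (∑ j, a i j • y j) ⊗ₜ[R] (Pi.single i 1 : Fin n → R) = ∑ j, y j ⊗ₜ (fun i => a i j) := by
  classical
  simp only [sum_tmul, smul_tmul]
  rw [Finset.sum_comm]
  refine Finset.sum_congr rfl fun j _ => ?_
  rw [← tmul_sum]
  congr 1
  ext i
  simp [Pi.single_apply]



/-- An injective linear map `f : M₁ → M₂` is universally injective if and only if: whenever elements
`x_i` of `M₁` satisfy `f(x_i) = Σ_j a_{ij} y_j` for some `y_j ∈ M₂` and scalars `a_{ij}`, there are
`z_j ∈ M₁` with `x_i = Σ_j a_{ij} z_j`. -/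
theorem result {R M₁ M₂ : Type u} [CommRing R] [AddCommGroup M₁]
    [Module R M₁] [AddCommGroup M₂] [Module R M₂] (f : M₁ →ₗ[R] M₂) (hf : Function.Injective f) :
    CAlgX.UniversallyInjective R f ↔
      ∀ (n m : ℕ) (x : Fin n → M₁) (y : Fin m → M₂) (a : Fin n → Fin m → R),
        (∀ i, f (x i) = ∑ j, a i j • y j) → ∃ z : Fin m → M₁, ∀ i, x i = ∑ j, a i j • z j := by
  classical
  constructor
  · intro hu n m x y a hfx
    let At : (Fin m → R) →ₗ[R] (Fin n → R) := LinearMap.pi fun i => Fintype.linearCombination R (a i)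
    have hAt : ∀ j, At (Pi.single j 1) = fun i => a i j := fun j => funext fun i => by
      simp [At, Fintype.linearCombination_apply, Pi.single_apply]
    let q := (LinearMap.range At).mkQ
    have hw : (∑ i, x i ⊗ₜ[R] q (Pi.single i 1)) = 0 := by
      refine hu _ ?_
      simp only [map_zero, map_sum, LinearMap.rTensor_tmul, hfx]
      have := congrArg (q.lTensor M₂) (col y a)
      simp only [map_sum, LinearMap.lTensor_tmul] at this
      rw [this]
      refine Finset.sum_eq_zero fun j _ => ?_
      rw [← hAt, show q (At _) = 0 from (Submodule.Quotient.mk_eq_zero _).2 ⟨_, rfl⟩, TensorProduct.tmul_zero]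
    obtain ⟨w, hw'⟩ := (lTensor_exact M₁ (LinearMap.exact_map_mkQ_range At) (Submodule.mkQ_surjective _)
      (∑ i, x i ⊗ₜ[R] (Pi.single i 1 : Fin n → R))).1 (by rw [map_sum]; exact hw)
    refine ⟨fun j => TensorProduct.rid R M₁ ((LinearMap.proj j).lTensor M₁ w), fun i => ?_⟩
    rw [tmul_fun (fun j => TensorProduct.rid R M₁ ((LinearMap.proj j).lTensor M₁ w)) w fun _ => rfl] at hw'
    have h2 := congrArg ((TensorProduct.rid R M₁).toLinearMap ∘ₗ (LinearMap.proj i).lTensor M₁) hw'
    simp [hAt, Pi.single_apply] at h2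
    exact h2.symm
  · intro h Q _ _
    rw [injective_iff_map_eq_zero]
    intro z hz
    refine LinearMap.mem_ker.1 ((Groth.Agent.CAlgLow.dominates_iff_finitePresentation f LinearMap.id).2 ?_ Q
      (LinearMap.mem_ker.2 hz)) |> fun e => by simpa using e
    intro Q' _ _ hQ' z hz
    rw [LinearMap.mem_ker] at hz ⊢
    rw [LinearMap.rTensor_id, LinearMap.id_apply]
    obtain ⟨n, K, e, hK⟩ := Module.FinitePresentation.exists_fin R Q'
    obtain ⟨m, k, hk⟩ := Submodule.fg_iff_exists_fin_generating_family.1 hK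
    let p : (Fin n → R) →ₗ[R] Q' := e.symm.toLinearMap ∘ₗ K.mkQ
    have hp : Function.Surjective p := e.symm.surjective.comp K.mkQ_surjective
    obtain ⟨w, rfl⟩ := LinearMap.lTensor_surjective M₁ hp z
    rw [← LinearMap.comp_apply, LinearMap.rTensor_comp_lTensor, ← LinearMap.lTensor_comp_rTensor,
      LinearMap.comp_apply] at hz
    have hex : Function.Exact (Fintype.linearCombination R k) p :=
      LinearMap.exact_iff.2 (by simp [p, LinearMap.ker_comp, Fintype.range_linearCombination, hk])
    obtain ⟨v, hv⟩ := (lTensor_exact M₂ hex hp _).1 hz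
    let x := fun i => TensorProduct.rid R M₁ ((LinearMap.proj i).lTensor M₁ w)
    let y := fun j => TensorProduct.rid R M₂ ((LinearMap.proj j).lTensor M₂ v)
    rw [tmul_fun x w fun _ => rfl, tmul_fun y v fun _ => rfl] at hv
    have hfx : ∀ i, f (x i) = ∑ j, k j i • y j := fun i => by
      have h2 := congrArg ((TensorProduct.rid R M₂).toLinearMap ∘ₗ (LinearMap.proj i).lTensor M₂) hv
      simp [Fintype.linearCombination_apply_single, Pi.single_apply] at h2
      exact h2.symm
    obtain ⟨zz, hzz⟩ := h n m x y (fun i j => k j i) hfx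
    rw [tmul_fun x w fun _ => rfl]
    simp only [hzz]
    rw [col, map_sum]
    refine Finset.sum_eq_zero fun j _ => ?_
    rw [LinearMap.lTensor_tmul, show p (fun i => k j i) = 0 from ?_, TensorProduct.tmul_zero]
    exact (hex _).2 ⟨Pi.single j 1, by simp [Fintype.linearCombination_apply_single]⟩

end Groth.Agent.S2057
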