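import Groth.Statements.S2058
import Groth.Agent.Lib.Depth.Basic
import Mathlib.RingTheory.RegularLocalRing.Defs
import Mathlib.RingTheory.Ideal.AssociatedPrime.Finiteness
import Mathlib.RingTheory.Localization.Away.Basic

set_option autoImplicit false
set_option linter.style.haveILetI false
universe u
open CAlg

namespace Groth.Agent.S2058

/-- A finite module whose associated primes avoid the maximal ideal has a regular element. -/
theorem exists_regular_of_notMem {R : Type u} [CommRing R] [IsLocalRing R] [IsNoetherianRing R]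
    (M : Type u) [AddCommGroup M] [Module R M] [Module.Finite R M]
    (h : IsLocalRing.maximalIdeal R ∉ associatedPrimes R M) :
    ∃ x ∈ IsLocalRing.maximalIdeal R, IsSMulRegular M x := by
  by_contra hc
  push Not at hc
  have hsub : (IsLocalRing.maximalIdeal R : Set R) ⊆ ⋃ p ∈ associatedPrimes R M, p := by
    rw [biUnion_associatedPrimes_eq_zero_divisors]
    intro r hr
    have hreg := hc r hr
    rw [isSMulRegular_iff_right_eq_zero_of_smul] at hreg
    push Not at hreg
    obtain ⟨x, hx, hx0⟩ := hreg
    exact ⟨x, hx0, hx⟩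
  obtain ⟨p, hp, hle⟩ := (Ideal.subset_union_prime_finite (associatedPrimes.finite R M) ⊥ ⊥
    (fun i hi _ _ => (AssociatedPrimes.mem_iff.1 hi).isPrime)).1 hsub
  exact h (le_antisymm hle (IsLocalRing.le_maximalIdeal (AssociatedPrimes.mem_iff.1 hp).isPrime.ne_top) ▸ hp)

/-- Elements killed by the maximal ideal witness that it is associated. -/
theorem exists_of_mem {R : Type u} [CommRing R] [IsLocalRing R] [IsNoetherianRing R]
    (M : Type u) [AddCommGroup M] [Module R M] (h : IsLocalRing.maximalIdeal R ∈ associatedPrimes R M) :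
    ∃ z : M, z ≠ 0 ∧ ∀ a ∈ IsLocalRing.maximalIdeal R, a • z = 0 := by
  obtain ⟨hp, z, hz⟩ := isAssociatedPrime_iff.1 h
  refine ⟨z, fun h0 => hp.ne_top ?_, fun a ha => ?_⟩
  · rw [hz, h0]; simp
  · rw [hz, Submodule.mem_colon_singleton] at ha
    exact (Submodule.mem_bot R).1 ha


/-- Let R be a Noetherian local ring which is not Artinian, is not a regular local ring of dimension
one, and has depth at most one. Then there is a finite ring map R → R' with R' ≠ 0, not bijective,
whose kernel and cokernel are killed by a power of the maximal ideal of R, such that the maximal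
ideal of R is not an associated prime of the R-module R'. (This says that the four cases for a
Noetherian local ring — Artinian, regular of dimension one, depth at least two, or admitting such a
map — cover everything; that they are mutually exclusive is not asserted.) -/
theorem result {R : Type u} [CommRing R] [IsLocalRing R] [IsNoetherianRing R]
    (h1 : ¬ IsArtinianRing R) (h2 : ¬ (IsRegularLocalRing R ∧ ringKrullDim R = 1))
    (h3 : LocCoh.depth R R ≤ 1) :
    ∃ (R' : Type u) (_ : CommRing R') (_ : Algebra R R'), Nontrivial R' ∧ Module.Finite R R' ∧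
      ¬ Function.Bijective (algebraMap R R') ∧
      (∃ n : ℕ, (∀ x : R, algebraMap R R' x = 0 → ∀ a ∈ IsLocalRing.maximalIdeal R ^ n, a * x = 0) ∧
        (∀ y : R', ∀ a ∈ IsLocalRing.maximalIdeal R ^ n, a • y ∈ Set.range (algebraMap R R'))) ∧
      IsLocalRing.maximalIdeal R ∉ associatedPrimes R R' := by
  set m := IsLocalRing.maximalIdeal R
  by_cases h0 : m ∈ associatedPrimes R R
  · -- remove the torsion supported at the closed point
    let f : ℕ →o Ideal R :=
      ⟨fun n => (⊥ : Ideal R).colon ((m ^ n : Ideal R) : Set R), fun a b hab r hr => by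
        rw [Submodule.mem_colon] at hr ⊢
        exact fun y hy => hr y (Ideal.pow_le_pow_right hab hy)⟩
    obtain ⟨N, hN⟩ := monotone_stabilizes_iff_noetherian.2 (inferInstance : IsNoetherian R R) f
    have hmem : ∀ {k : ℕ} {r : R}, r ∈ f k ↔ ∀ a ∈ m ^ k, r * a = 0 := fun {k r} => by
      show r ∈ (⊥ : Ideal R).colon _ ↔ _
      rw [Submodule.mem_colon]
      simp
    have hne : f N ≠ ⊤ := by
      intro htop
      have hnil : m ^ N = ⊥ := by
        refine eq_bot_iff.2 fun a ha => ?_
        have := hmem.1 (show (1 : R) ∈ f N by rw [htop]; trivial) a ha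
        simpa using this
      refine h1 (isArtinianRing_iff_isNilpotent_maximalIdeal R |>.2 ⟨N, ?_⟩)
      rw [Ideal.zero_eq_bot]; exact hnil
    refine ⟨R ⧸ f N, inferInstance, inferInstance, Ideal.Quotient.nontrivial_iff.2 hne, inferInstance, ?_, ⟨N, ?_, ?_⟩, ?_⟩
    · intro hb
      obtain ⟨z, hz0, hz⟩ := exists_of_mem R h0
      refine hz0 (hb.injective ((Ideal.Quotient.eq_zero_iff_mem.2 ?_).trans (map_zero _).symm))
      have h1' : z ∈ f 1 := hmem.2 fun a ha => by rw [mul_comm]; exact hz a (by rwa [pow_one] at ha)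
      rcases le_total 1 N with hle | hle
      · exact f.mono hle h1'
      · rw [hN 1 hle]; exact h1'
    · intro x hx a ha
      rw [mul_comm]
      exact hmem.1 (Ideal.Quotient.eq_zero_iff_mem.1 hx) a ha
    · intro y a _
      obtain ⟨y, rfl⟩ := Ideal.Quotient.mk_surjective y
      exact ⟨a * y, rfl⟩
    · intro hass
      obtain ⟨z, hz0, hz⟩ := exists_of_mem (R ⧸ f N) hass
      obtain ⟨z, rfl⟩ := Ideal.Quotient.mk_surjective z
      refine hz0 (Ideal.Quotient.eq_zero_iff_mem.2 ?_)
      rw [hN (N + 1) (Nat.le_succ N)]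
      refine hmem.2 fun a ha => ?_
      rw [pow_succ] at ha
      induction ha using Submodule.mul_induction_on' with
      | mem_mul_mem b hb c hc =>
        have h3 : c * z ∈ f N := by
          rw [← Ideal.Quotient.eq_zero_iff_mem, map_mul]
          exact hz c hc
        have h4 := hmem.1 h3 b hb
        linear_combination h4
      | add b _ c _ hb hc => rw [mul_add, hb, hc, add_zero]
  obtain ⟨x, hxm, hx⟩ := exists_regular_of_notMem R h0
  have hx0 : ∀ r, x * r = 0 → r = 0 := fun r hr => hx (show x • r = x • 0 by rw [smul_zero]; exact hr)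
  have hass : m ∈ associatedPrimes R (R ⧸ Ideal.span {x}) := by
    by_contra hna
    obtain ⟨y, hym, hy⟩ := exists_regular_of_notMem (R ⧸ Ideal.span {x}) hna
    have hmtop : m • (⊤ : Submodule R R) ≠ ⊤ := by
      rw [smul_eq_mul, Ideal.mul_top]; exact (IsLocalRing.maximalIdeal.isMaximal R).ne_top
    have h2' : (2 : ℕ∞) ≤ LocCoh.depth R R := by
      refine (DepthLib.natCast_le_idealDepth_iff_exists hmtop 2).2 ⟨[x, y], ⟨?_, by
        intro r hr
        rcases List.mem_cons.1 hr with rfl | hr
        · exact hxm
        · rw [List.mem_singleton.1 hr]; exact hym⟩, le_rfl⟩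
      rw [RingTheory.Sequence.isWeaklyRegular_cons_iff, RingTheory.Sequence.isWeaklyRegular_singleton_iff]
      refine ⟨hx, (LinearEquiv.isSMulRegular_congr (Submodule.quotEquivOfEq _ _ ?_) y).2 hy⟩
      rw [← Submodule.ideal_span_singleton_smul, smul_eq_mul, Ideal.mul_top]
    exact absurd (h2'.trans h3) (by norm_num)
  obtain ⟨y, hy0, hy⟩ := exists_of_mem _ hass
  obtain ⟨y, rfl⟩ := Ideal.Quotient.mk_surjective y
  have hyx : y ∉ Ideal.span {x} := fun h => hy0 (Ideal.Quotient.eq_zero_iff_mem.2 h)
  have hmy : ∀ a ∈ m, ∃ c, a * y = x * c := fun a ha => by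
    have h := hy a ha
    rw [Algebra.smul_def, Ideal.Quotient.algebraMap_eq, ← map_mul, Ideal.Quotient.eq_zero_iff_mem,
      Ideal.mem_span_singleton] at h
    exact h
  by_cases hB : ∃ a ∈ m, ∃ u : Rˣ, a * y = x * u
  · -- the maximal ideal is principal
    exfalso
    obtain ⟨a, ha, u, hu⟩ := hB
    have hy' : ∀ r, y * r = 0 → r = 0 := fun r hr => by
      refine (Units.mul_right_eq_zero u).1 (hx0 _ ?_)
      linear_combination a * hr - r * hu
    have hm : m = Ideal.span {a} := by
      refine le_antisymm (fun b hb => ?_) ((Ideal.span_singleton_le_iff_mem _).2 ha)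
      obtain ⟨c, hc⟩ := hmy b hb
      rw [Ideal.mem_span_singleton]
      refine ⟨c * (↑u⁻¹ : R), ?_⟩
      have h5 : b * u - a * c = 0 := hy' _ (by linear_combination (↑u : R) * hc - c * hu)
      linear_combination (↑u⁻¹ : R) * h5 - b * u.mul_inv
    have hle : (m.spanFinrank : WithBot ℕ∞) ≤ 1 := by
      rw [hm]
      have := Submodule.spanFinrank_span_le_ncard_of_finite (R := R) (Set.finite_singleton a)
      rw [Set.ncard_singleton] at this
      exact_mod_cast this
    have hdim : ringKrullDim R = 1 := by
      refine le_antisymm ((ringKrullDim_le_spanFinrank_maximalIdeal R).trans hle) ?_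
      by_contra hlt
      refine h1 (isArtinianRing_iff_krullDimLE_zero.2 (Ring.krullDimLE_iff.2 ?_))
      obtain ⟨d, hd⟩ := WithBot.ne_bot_iff_exists.1
        (ne_bot_of_le_ne_bot (WithBot.coe_ne_bot (a := (0 : ℕ∞))) (ringKrullDim_nonneg_of_nontrivial (R := R)))
      have hlt' : ((d : ℕ∞) : WithBot ℕ∞) < ((1 : ℕ∞) : WithBot ℕ∞) := by rw [hd]; exact not_le.1 hlt
      rw [← hd, Nat.cast_zero, ← WithBot.coe_zero, WithBot.coe_le_coe]
      exact (Order.lt_one_iff.1 (WithBot.coe_lt_coe.1 hlt')).le
    exact h2 ⟨IsRegularLocalRing.of_spanFinrank_maximalIdeal_le R (hdim ▸ hle), hdim⟩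
  push Not at hB
  let L := Localization.Away x
  have hinj : Function.Injective (algebraMap R L) := IsLocalization.injective L
    (Submonoid.powers_le.2 (mem_nonZeroDivisors_iff_right.2 fun r hr => hx0 r (by rwa [mul_comm])))
  have hxu : IsUnit (algebraMap R L x) := IsLocalization.Away.algebraMap_isUnit x
  let t : L := algebraMap R L y * ↑hxu.unit⁻¹
  have ht : algebraMap R L x * t = algebraMap R L y := by
    show algebraMap R L x * (algebraMap R L y * _) = _
    rw [mul_left_comm, hxu.mul_val_inv, mul_one]
  let S := Algebra.adjoin R {t}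
  let N : Submodule R L := Submodule.map (Algebra.linearMap R L) m
  have hstab : ∀ s ∈ S, ∀ n ∈ N, s * n ∈ N := by
    intro s hs
    induction hs using Algebra.adjoin_induction with
    | mem s hs =>
      rw [Set.mem_singleton_iff] at hs
      subst hs
      rintro _ ⟨a, ha, rfl⟩
      obtain ⟨c, hc⟩ := hmy a ha
      refine ⟨c, fun hcu => hB a ha hcu.unit hc, hxu.mul_left_cancel ?_⟩
      show algebraMap R L x * algebraMap R L c = algebraMap R L x * (t * algebraMap R L a)
      rw [← mul_assoc, ht, ← map_mul, ← map_mul, ← hc, mul_comm]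
    | algebraMap r => exact fun n hn => by rw [← Algebra.smul_def]; exact N.smul_mem r hn
    | add p q _ _ hp hq => exact fun n hn => by rw [add_mul]; exact N.add_mem (hp n hn) (hq n hn)
    | mul p q _ _ hp hq => exact fun n hn => by rw [mul_assoc]; exact hp _ (hq n hn)
  haveI : Module.Finite R N := Module.Finite.iff_fg.2 ((IsNoetherian.noetherian m).map _)
  haveI hfin : Module.Finite R S := by
    let g : S →ₗ[R] N := LinearMap.codRestrict N
      (LinearMap.mulRight R (algebraMap R L x) ∘ₗ S.val.toLinearMap) fun s => hstab s s.2 _ ⟨x, hxm, rfl⟩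
    refine Module.Finite.of_injective g fun p q h => Subtype.ext (hxu.mul_right_cancel ?_)
    exact congrArg Subtype.val h
  refine ⟨S, inferInstance, inferInstance, ?_, hfin, ?_, ⟨1, ?_, ?_⟩, ?_⟩
  · haveI : Nontrivial L := hinj.nontrivial
    infer_instance
  · intro hb
    obtain ⟨r, hr⟩ := hb.surjective ⟨t, Algebra.self_mem_adjoin_singleton R t⟩
    have hr' : algebraMap R L r = t := congrArg Subtype.val hr
    refine hyx (Ideal.mem_span_singleton.2 ⟨r, hinj ?_⟩)
    rw [map_mul, hr', ht]
  · intro r hr a _
    have hr' : algebraMap R L r = 0 := congrArg Subtype.val hr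
    rw [(injective_iff_map_eq_zero _).1 hinj r hr', mul_zero]
  · intro s a ha
    rw [pow_one] at ha
    obtain ⟨c, -, hc⟩ := hstab s s.2 _ ⟨a, ha, rfl⟩
    refine ⟨c, Subtype.ext ?_⟩
    show algebraMap R L c = a • (s : L)
    rw [Algebra.smul_def, mul_comm]
    exact hc
  · intro hass'
    obtain ⟨z, hz0, hz⟩ := exists_of_mem S hass'
    refine hz0 (Subtype.ext (hxu.mul_left_cancel ?_))
    have := congrArg Subtype.val (hz x hxm)
    rw [ZeroMemClass.coe_zero, mul_zero, ← Algebra.smul_def]
    exact this

end Groth.Agent.S2058
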