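import Groth.Statements.S2059
import Mathlib

set_option autoImplicit false
universe u
open CAlg

namespace Groth.Agent.S2059


namespace Aux2059

universe v

open Cardinal

theorem isAlgebraic_field {k L : Type v} [Field k] [Field L] [Algebra k L] (t : Set L) (ht : Algebra.adjoin k t = ⊤)
    (hc : max ℵ₀ #t < #k) : Algebra.IsAlgebraic k L := by
  refine ⟨fun x => ?_⟩
  by_contra hx
  have hli := Transcendental.linearIndependent_sub_inv (hx : Transcendental k x)
  have h1 := hli.cardinal_le_rank
  have h2 : Submodule.span k (Submonoid.closure t : Set L) = ⊤ := by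
    rw [← Algebra.adjoin_eq_span, ht, Algebra.top_toSubmodule]
  have h3 : Module.rank k L ≤ #(Submonoid.closure t : Set L) := by
    rw [← rank_top, ← h2]
    exact rank_span_le _
  have h4 : #(Submonoid.closure t : Set L) ≤ max ℵ₀ #t := by
    refine le_trans ?_ (Cardinal.mk_list_le_max t)
    refine Cardinal.mk_le_of_surjective (f := fun l : List t =>
      (⟨(l.map Subtype.val).prod, Submonoid.list_prod_mem _ fun y hy => by
        obtain ⟨a, -, rfl⟩ := List.mem_map.1 hy
        exact Submonoid.subset_closure a.2⟩ : Submonoid.closure t)) fun y => ?_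
    obtain ⟨l, hl, hly⟩ := Submonoid.exists_list_of_mem_closure y.2
    exact ⟨l.pmap Subtype.mk hl, Subtype.ext (by simp [List.map_pmap, hly])⟩
  exact (h1.trans (h3.trans h4)).not_gt hc

theorem isAlgebraic_quotient {k S : Type v} [Field k] [CommRing S] [Algebra k S] (s : Set S)
    (hs : Algebra.adjoin k s = ⊤) (hc : max ℵ₀ #s < #k) (m : Ideal S) [m.IsMaximal] : Algebra.IsAlgebraic k (S ⧸ m) := by
  letI := Ideal.Quotient.field m
  refine isAlgebraic_field (Ideal.Quotient.mkₐ k m '' s) ?_ (lt_of_le_of_lt (max_le_max le_rfl Cardinal.mk_image_le) hc)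
  rw [Algebra.adjoin_image, hs, Algebra.map_top, AlgHom.range_eq_top]
  exact Ideal.Quotient.mk_surjective

theorem isJacobson {k S : Type v} [Field k] [CommRing S] [Algebra k S] (s : Set S)
    (hs : Algebra.adjoin k s = ⊤) (hc : max ℵ₀ #s < #k) : IsJacobsonRing S := by
  refine isJacobsonRing_iff_prime_eq.2 fun P hP => le_antisymm (fun f hf => ?_) Ideal.le_jacobson
  by_contra hfP
  let T := Localization.Away f
  let P' : Ideal T := P.map (algebraMap S T)
  have hP' : P' ≠ ⊤ := by
    refine (IsLocalization.isPrime_of_isPrime_disjoint (Submonoid.powers f) T P hP ?_).ne_top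
    rw [Set.disjoint_left]
    rintro _ ⟨n, rfl⟩ hn
    exact hfP (hP.mem_of_pow_mem n hn)
  obtain ⟨m, hm, hle⟩ := Ideal.exists_le_maximal _ hP'
  let t : Set T := insert (IsLocalization.Away.invSelf f) (algebraMap S T '' s)
  have himg : ∀ x : S, algebraMap S T x ∈ Algebra.adjoin k t := by
    intro x
    have h1 : IsScalarTower.toAlgHom k S T x ∈ (Algebra.adjoin k s).map (IsScalarTower.toAlgHom k S T) :=
      ⟨x, hs ▸ Algebra.mem_top, rfl⟩
    rw [← Algebra.adjoin_image] at h1
    exact Algebra.adjoin_mono (Set.subset_insert _ _) h1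
  have ht : Algebra.adjoin k t = ⊤ := by
    refine eq_top_iff.2 fun z _ => ?_
    obtain ⟨n, a, ha⟩ := IsLocalization.Away.surj f z
    have hu : z = algebraMap S T a * IsLocalization.Away.invSelf f ^ n := by
      rw [← ha, mul_assoc, ← mul_pow, IsLocalization.Away.mul_invSelf, one_pow, mul_one]
    rw [hu]
    exact Subalgebra.mul_mem _ (himg a) (Subalgebra.pow_mem _ (Algebra.subset_adjoin (Set.mem_insert _ _)) n)
  have hct : max ℵ₀ #t < #k := by
    refine lt_of_le_of_lt (max_le (le_max_left _ _) ?_) hc
    refine (Cardinal.mk_insert_le).trans ((add_le_add Cardinal.mk_image_le le_rfl).trans ?_)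
    refine (Cardinal.add_le_max _ _).trans ?_
    exact max_le (max_le (le_max_right _ _) ((Cardinal.one_le_aleph0).trans (le_max_left _ _))) (le_max_left _ _)
  haveI := hm
  haveI := isAlgebraic_quotient t ht hct m
  let q := m.comap (algebraMap S T)
  haveI : q.IsPrime := Ideal.comap_isPrime _ _
  let g : (S ⧸ q) →ₐ[k] (T ⧸ m) := Ideal.quotientMapₐ m (IsScalarTower.toAlgHom k S T) le_rfl
  have hg : Function.Injective g := Ideal.quotientMap_injective
  haveI : Algebra.IsAlgebraic k (S ⧸ q) := Algebra.IsAlgebraic.of_injective g hg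
  haveI : Algebra.IsIntegral k (S ⧸ q) := Algebra.IsAlgebraic.isIntegral
  have hq : q.IsMaximal := Ideal.Quotient.maximal_of_isField _
    (isField_of_isIntegral_of_isField' (R := k) (Field.toIsField k))
  have hfq : f ∈ q := (Ideal.mem_sInf.1 hf) ⟨(Ideal.map_le_iff_le_comap.1 hle), hq⟩
  exact hm.ne_top (Ideal.eq_top_of_isUnit_mem _ hfq (IsLocalization.Away.algebraMap_isUnit f))

end Aux2059



/-- Let `k` be a field and `S` a `k`-algebra generated by a set of cardinality smaller than that of `k`.
Then for every maximal ideal `𝔪` of `S` the residue field `S/𝔪` is algebraic over `k`, and `S` is a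
Jacobson ring. -/
theorem result {k S : Type u} [Field k] [CommRing S] [Algebra k S]
    (s : Set S) (hs : Algebra.adjoin k s = ⊤) (hcard : Cardinal.mk s < Cardinal.mk k) :
    (∀ (m : Ideal S) [m.IsMaximal], Algebra.IsAlgebraic k (S ⧸ m)) ∧ IsJacobsonRing S := by
  by_cases hfin : s.Finite
  · haveI : Algebra.FiniteType k S := ⟨⟨hfin.toFinset, by rw [Set.Finite.coe_toFinset, hs]⟩⟩
    refine ⟨fun m hm => ?_, isJacobsonRing_of_finiteType (A := k)⟩
    letI := Ideal.Quotient.field m
    haveI : Module.Finite k (S ⧸ m) := finite_of_finite_type_of_isJacobsonRing k (S ⧸ m)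
    exact Algebra.IsAlgebraic.of_finite k _
  · have hc : max Cardinal.aleph0 (Cardinal.mk s) < Cardinal.mk k := by
      haveI : Infinite s := Set.infinite_coe_iff.2 hfin
      rw [max_eq_right (Cardinal.aleph0_le_mk s)]
      exact hcard
    exact ⟨fun m _ => Aux2059.isAlgebraic_quotient s hs hc m, Aux2059.isJacobson s hs hc⟩

end Groth.Agent.S2059
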