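import Groth.Statements.S2060
import Groth.Agent.Lib.AdicSmooth.FormallySmoothLocal
import Groth.Agent.Lib.AdicSmooth.Jacobian
import Groth.Agent.Lib.AdicSmooth.SmallExt

set_option autoImplicit false
universe u
open CAlg

namespace Groth.Agent.S2060

/-- Let `R` be Noetherian, `S` of finite type over `R` and `𝔮` a prime of `S`. Then `R → S` is smooth at
`𝔮` if and only if for every surjection `B' → B` of Artinian local `R`-algebras whose kernel is
principal and killed by the maximal ideal of `B'`, every `R`-algebra map `S → B` under which the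
maximal ideal pulls back to `𝔮` lifts to `B'`. -/
theorem result {R S : Type u} [CommRing R] [IsNoetherianRing R]
    [CommRing S] [Algebra R S] [Algebra.FiniteType R S] (q : Ideal S) [q.IsPrime] :
    Algebra.IsSmoothAt R q ↔
      ∀ (B' B : Type u) [CommRing B'] [CommRing B] [IsLocalRing B'] [IsLocalRing B]
        [IsArtinianRing B'] [IsArtinianRing B] [Algebra R B'] [Algebra R B] (π : B' →ₐ[R] B),
        Function.Surjective π →
        (∃ t : B', RingHom.ker π.toRingHom = Ideal.span {t} ∧
          ∀ a ∈ IsLocalRing.maximalIdeal B', a * t = 0) →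
        ∀ g : S →ₐ[R] B, (IsLocalRing.maximalIdeal B).comap g = q →
          ∃ g' : S →ₐ[R] B', π.comp g' = g := by
  constructor
  · intro hs B' B _ _ _ _ _ _ _ _ π hπ ht g hg
    obtain ⟨t, ht, ht0⟩ := ht
    have : Algebra.FormallySmooth R (Localization.AtPrime q) := hs
    have hu : ∀ y : q.primeCompl, IsUnit (g y.1) := fun y => by
      by_contra h
      exact y.2 (hg.le ((IsLocalRing.mem_maximalIdeal _).2 h))
    let G : Localization.AtPrime q →ₐ[R] B :=
      { IsLocalization.lift (g := g.toRingHom) hu with
        commutes' := fun r => by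
          show IsLocalization.lift (g := g.toRingHom) hu (algebraMap R _ r) = _
          rw [IsScalarTower.algebraMap_apply R S (Localization.AtPrime q), IsLocalization.lift_eq]
          exact g.commutes r }
    have htm : t ∈ IsLocalRing.maximalIdeal B' :=
      IsLocalRing.le_maximalIdeal (RingHom.ker_ne_top π.toRingHom) (ht ▸ Ideal.mem_span_singleton_self t)
    have hnil : IsNilpotent (RingHom.ker (π : B' →+* B)) := by
      refine ⟨2, ?_⟩
      show (RingHom.ker π.toRingHom) ^ 2 = 0
      rw [ht, Ideal.span_singleton_pow, pow_two, ht0 t htm]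
      exact Ideal.span_singleton_eq_bot.2 rfl
    refine ⟨(Algebra.FormallySmooth.liftOfSurjective G π hπ hnil).comp
      (IsScalarTower.toAlgHom R S _), AlgHom.ext fun s => ?_⟩
    exact (Algebra.FormallySmooth.liftOfSurjective_apply G π hπ hnil _).trans (IsLocalization.lift_eq hu s)
  · intro hl
    set p := Ideal.comap (algebraMap R S) q
    let Rp := Localization.AtPrime p
    let Sq := Localization.AtPrime q
    let _ : Algebra Rp Sq := (Localization.localRingHom p q (algebraMap R S) rfl).toAlgebra
    have : IsScalarTower R Rp Sq := IsScalarTower.of_algebraMap_eq fun r => by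
      rw [RingHom.algebraMap_toAlgebra, Localization.localRingHom_to_map, ← IsScalarTower.algebraMap_apply]
    have : IsLocalHom (algebraMap Rp Sq) := Localization.isLocalHom_localRingHom p q _ _
    have : Algebra.FormallySmooth R Rp := Algebra.FormallySmooth.of_isLocalization p.primeCompl
    have : IsNoetherianRing S := Algebra.FiniteType.isNoetherianRing R S
    have hsmall : Groth.Agent.AdicSmooth.SmallLifts Rp Sq := by
      intro A _ _ _ _ _ J hJ hlen _ ψ hψ _
      let _ : Algebra R A := ((algebraMap Rp A).comp (algebraMap R Rp)).toAlgebra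
      have : IsScalarTower R Rp A := IsScalarTower.of_algebraMap_eq fun r => rfl
      have : IsScalarTower R Rp (A ⧸ J) := IsScalarTower.of_algebraMap_eq fun r => rfl
      have : IsSimpleModule A J := Module.length_eq_one_iff.1 hlen
      have : Nontrivial J := IsSimpleModule.nontrivial A J
      obtain ⟨⟨t, htJ⟩, ht0⟩ := exists_ne (0 : J)
      have hgen : J = Ideal.span {t} := by
        refine le_antisymm (fun y hy => ?_) ((Ideal.span_singleton_le_iff_mem _).2 htJ)
        obtain ⟨c, hc⟩ := IsSimpleModule.toSpanSingleton_surjective A ht0 ⟨y, hy⟩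
        exact Ideal.mem_span_singleton'.2 ⟨c, congrArg Subtype.val hc⟩
      have hmt : ∀ a ∈ IsLocalRing.maximalIdeal A, a * t = 0 := by
        intro a ha
        by_contra hne
        obtain ⟨c, hc⟩ := IsSimpleModule.toSpanSingleton_surjective A
          (m := (⟨a * t, J.mul_mem_left a htJ⟩ : J)) (fun h => hne (congrArg Subtype.val h)) ⟨t, htJ⟩
        have hc' : c * (a * t) = t := congrArg Subtype.val hc
        have hu : IsUnit (1 - c * a) := by
          refine (IsLocalRing.isUnit_or_isUnit_one_sub_self (c * a)).resolve_left fun h => ?_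
          exact ha (isUnit_of_mul_isUnit_right h)
        refine ht0 (Subtype.ext (hu.mul_right_eq_zero.1 ?_))
        linear_combination -hc'
      let g : S →ₐ[R] A ⧸ J := (ψ.restrictScalars R).comp (IsScalarTower.toAlgHom R S Sq)
      have hg : (IsLocalRing.maximalIdeal (A ⧸ J)).comap g = q := by
        have h1 : (IsLocalRing.maximalIdeal (A ⧸ J)).comap ψ.toRingHom = IsLocalRing.maximalIdeal Sq :=
          (IsLocalRing.local_hom_TFAE ψ.toRingHom).out 0 4 |>.1 hψ
        show (IsLocalRing.maximalIdeal (A ⧸ J)).comap (ψ.toRingHom.comp (algebraMap S Sq)) = q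
        rw [← Ideal.comap_comap, h1]
        exact IsLocalization.AtPrime.under_maximalIdeal Sq q
      obtain ⟨g', hg'⟩ := hl A (A ⧸ J) (Ideal.Quotient.mkₐ R J) Ideal.Quotient.mk_surjective
        ⟨t, (Ideal.mk_ker).trans hgen, hmt⟩ g hg
      have hu : ∀ y : q.primeCompl, IsUnit (g' y.1) := fun y => by
        have h1 : IsUnit (g y.1) := by
          by_contra h
          exact y.2 (hg.le ((IsLocalRing.mem_maximalIdeal _).2 h))
        rw [← hg'] at h1
        have : IsLocalHom (Ideal.Quotient.mk J) := IsLocalHom.of_surjective _ Ideal.Quotient.mk_surjective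
        exact (isUnit_map_iff (Ideal.Quotient.mk J) _).1 h1
      let χ₀ : Sq →+* A := IsLocalization.lift (g := g'.toRingHom) hu
      have hχR : χ₀.comp (algebraMap Rp Sq) = algebraMap Rp A := by
        refine IsLocalization.ringHom_ext p.primeCompl (RingHom.ext fun r => ?_)
        show χ₀ (algebraMap Rp Sq (algebraMap R Rp r)) = algebraMap Rp A (algebraMap R Rp r)
        rw [← IsScalarTower.algebraMap_apply, IsScalarTower.algebraMap_apply R S Sq, IsLocalization.lift_eq]
        exact g'.commutes r
      refine ⟨{ χ₀ with commutes' := RingHom.congr_fun hχR }, AlgHom.coe_ringHom_injective ?_⟩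
      refine IsLocalization.ringHom_ext q.primeCompl (RingHom.ext fun s => ?_)
      show Ideal.Quotient.mk J (χ₀ (algebraMap S Sq s)) = ψ (algebraMap S Sq s)
      rw [IsLocalization.lift_eq]
      exact AlgHom.congr_fun hg' s
    have : IsNoetherianRing Sq := IsLocalization.isNoetherianRing q.primeCompl _ inferInstance
    exact Groth.Agent.AdicSmooth.isSmoothAt_of_isAdicFormallySmooth q
      (Groth.Agent.AdicSmooth.trans_discrete (Λ := R) (A := Rp) _
        (Groth.Agent.AdicSmooth.isAdicFormallySmooth_of_smallLifts hsmall))

end Groth.Agent.S2060
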