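import Groth.Statements.S2061
import Groth.Agent.Lib.RegLoc.GlobalDim
import Mathlib.RingTheory.Ideal.Cotangent

set_option autoImplicit false
universe u
open CategoryTheory
open CAlg

namespace Groth.Agent.S2061

/-- For a Noetherian local ring `R` write `𝔪` for its maximal ideal and `κ` for its residue field. The
projective dimension of `κ` as an `R`-module is at least the `κ`-dimension of `𝔪/𝔪²`: if `κ` has
projective dimension less than `d` then `dim_κ 𝔪/𝔪² < d`. -/
theorem result {R : Type u} [CommRing R] [IsLocalRing R]
    [IsNoetherianRing R] (d : ℕ)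
    (hd : HasProjectiveDimensionLT (ModuleCat.of R (IsLocalRing.ResidueField R)) d) :
    Module.finrank (IsLocalRing.ResidueField R) (IsLocalRing.CotangentSpace R) < d := by
  rw [← IsLocalRing.spanFinrank_maximalIdeal_eq_finrank_cotangentSpace]
  exact Groth.Agent.RegLoc.spanFinrank_lt_of_hasProjectiveDimensionLT hd

end Groth.Agent.S2061
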