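import Groth.Statements.S2064
import Groth.Agent.Lib.Depth.CM
import Groth.Agent.Lib.Depth.BaseChange
import Groth.Agent.Lib.Depth.Devissage
import Mathlib.Algebra.Homology.ShortComplex.ModuleCat
import Mathlib.Algebra.Homology.ShortComplex.HomologicalComplex

set_option autoImplicit false
universe u
open CategoryTheory
open CAlg

namespace Groth.Agent.S2064

open CategoryTheory IsLocalRing in
theorem depth_range {R : Type u} [CommRing R] [IsLocalRing R] [IsNoetherianRing R]
    (C : ChainComplex (ModuleCat.{u} R) ℕ) (e : ℕ) (hzero : ∀ j, e < j → Limits.IsZero (C.X j))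
    (hfin : ∀ j, Module.Finite R (C.X j)) (hdepth : ∀ j, j ≤ e → (j : ℕ∞) ≤ LocCoh.depth R (C.X j))
    (i : ℕ) (habove : ∀ j, i < j → C.ExactAt j) :
    ∀ (n j : ℕ), e ≤ j + n → i ≤ j →
      ((j + 1 : ℕ) : ℕ∞) ≤ LocCoh.depth R (LinearMap.range (C.d (j + 1) j).hom) := by
  intro n
  induction n with
  | zero =>
    intro j hj _
    have hz : Subsingleton (C.X (j + 1)) := ModuleCat.subsingleton_of_isZero (hzero (j + 1) (by omega))
    have : Subsingleton (LinearMap.range (C.d (j + 1) j).hom) := by
      refine ⟨fun a b => ?_⟩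
      obtain ⟨x, hx⟩ := a.2
      obtain ⟨y, hy⟩ := b.2
      exact Subtype.ext (by rw [← hx, ← hy, Subsingleton.elim x y])
    rw [LocCoh.depth, LocCoh.idealDepth, if_pos (Subsingleton.elim _ _)]
    exact le_top
  | succ n ih =>
    intro j hj hij
    by_cases hje : e ≤ j + n
    · exact ih j hje hij
    haveI := hfin (j + 2)
    haveI := hfin (j + 1)
    haveI := hfin j
    have hex := (C.exactAt_iff' (j + 2) (j + 1) j (by simp) (by simp)).1 (habove (j + 1) (by omega))
    rw [ShortComplex.moduleCat_exact_iff_range_eq_ker] at hex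
    change LinearMap.range (C.d (j + 2) (j + 1)).hom = LinearMap.ker (C.d (j + 1) j).hom at hex
    have hS := DepthLib.shortExact_of_linearMap (f := (LinearMap.range (C.d (j + 2) (j + 1)).hom).subtype)
      (g := (C.d (j + 1) j).hom.rangeRestrict) (Submodule.injective_subtype _) (LinearMap.surjective_rangeRestrict _)
      (LinearMap.exact_iff.2 (by rw [LinearMap.ker_rangeRestrict, Submodule.range_subtype, hex]))
    refine le_trans (le_min ?_ ?_) (DepthLib.idealDepth_shortExact (I := maximalIdeal R) hS).2.1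
    · exact hdepth (j + 1) (by omega)
    · refine le_trans (le_of_eq ?_) (tsub_le_tsub_right (ih (j + 1) (by omega) (by omega)) 1)
      exact_mod_cast (by omega : j + 1 = j + 1 + 1 - 1)


/-- Let `R` be a Noetherian local ring and `0 → M_e → M_{e-1} → … → M_0` a complex of finite `R`-modules
with `depth(M_j) ≥ j`. If `i > 0` is the largest index at which the complex is not exact, then the
homology at `M_i` has depth at least one. -/
theorem result {R : Type u} [CommRing R] [IsLocalRing R] [IsNoetherianRing R]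
    (C : ChainComplex (ModuleCat.{u} R) ℕ) (e : ℕ) (hzero : ∀ j, e < j → Limits.IsZero (C.X j))
    (hfin : ∀ j, Module.Finite R (C.X j)) (hdepth : ∀ j, j ≤ e → (j : ℕ∞) ≤ LocCoh.depth R (C.X j))
    (i : ℕ) (hi : 0 < i) (hnot : ¬ C.ExactAt i) (habove : ∀ j, i < j → C.ExactAt j) :
    1 ≤ LocCoh.depth R (C.homology i) := by
  classical
  have hie : i ≤ e := by
    by_contra h
    exact hnot ((C.exactAt_iff' (i + 1) i (i - 1) (by simp) (by cases i <;> simp)).2
      (ShortComplex.exact_of_isZero_X₂ _ (hzero i (by omega))))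
  let T := C.sc' (i + 1) i (i - 1)
  haveI := hfin (i + 1)
  haveI := hfin i
  haveI : Module.Finite R T.X₂ := hfin i
  haveI : IsNoetherian R T.X₂ := isNoetherian_of_isNoetherianRing_of_finite R _
  let eH : C.homology i ≃ₗ[R] T.moduleCatLeftHomologyData.H :=
    (C.homologyIsoSc' (i + 1) i (i - 1) (by simp) (by cases i <;> simp) ≪≫ T.moduleCatHomologyIso).toLinearEquiv
  haveI : Module.Finite R T.moduleCatLeftHomologyData.H :=
    Module.Finite.of_surjective (Submodule.mkQ (LinearMap.range T.moduleCatToCycles)) (Submodule.mkQ_surjective _)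
  haveI : Module.Finite R (C.homology i) := Module.Finite.equiv eH.symm
  obtain ⟨x, hxm, hx⟩ | hno := em (∃ x ∈ IsLocalRing.maximalIdeal R, IsSMulRegular (C.homology i) x)
  · exact DepthLib.one_le_idealDepth_of_regular hxm hx
  exfalso
  push Not at hno
  obtain ⟨h, hh0, hh⟩ := DepthLib.exists_ne_zero_smul_eq_zero hno
  obtain ⟨z, hz⟩ := Submodule.mkQ_surjective (LinearMap.range T.moduleCatToCycles) (eH h)
  refine hh0 (eH.injective ?_)
  rw [map_zero, ← hz]
  refine (Submodule.Quotient.mk_eq_zero _).2 ?_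
  let d : C.X (i + 1) →ₗ[R] C.X i := (C.d (i + 1) i).hom
  have hrz : ∀ r ∈ IsLocalRing.maximalIdeal R, (r • z.1 : C.X i) ∈ LinearMap.range d := by
    intro r hr
    have h1 : Submodule.Quotient.mk (p := LinearMap.range T.moduleCatToCycles) (r • z) = 0 := by
      rw [Submodule.Quotient.mk_smul]
      show r • Submodule.mkQ _ z = 0
      have h2 := congrArg eH (hh r hr)
      rwa [map_smul, map_zero, ← hz] at h2
    obtain ⟨w, hw⟩ := (Submodule.Quotient.mk_eq_zero _).1 h1
    exact ⟨w, congrArg Subtype.val hw⟩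
  suffices hzB : (z.1 : C.X i) ∈ LinearMap.range d by
    obtain ⟨w, hw⟩ := hzB
    exact ⟨w, Subtype.ext hw⟩
  have hB := depth_range C e hzero hfin hdepth i habove e i (by omega) le_rfl
  have hM : (1 : ℕ∞) ≤ LocCoh.depth R (C.X i) := le_trans (by exact_mod_cast hi) (hdepth i hie)
  rcases subsingleton_or_nontrivial (C.X i) with hs | hs
  · rw [@Subsingleton.elim (C.X i) hs z.1 0]; exact zero_mem _
  obtain ⟨x, hxm, hxM⟩ := DepthLib.exists_isSMulRegular_of_one_le_idealDepth
    (DepthLib.smul_top_ne_top (IsLocalRing.maximalIdeal.isMaximal R).ne_top) hM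
  let B := LinearMap.range d
  have hxB : IsSMulRegular B x := fun a b hab => Subtype.ext (hxM (congrArg Subtype.val hab))
  let b : B := ⟨x • z.1, hrz x hxm⟩
  have hQ : (1 : ℕ∞) ≤ LocCoh.depth R (QuotSMulTop x B) := by
    have h1 := (DepthLib.natCast_le_idealDepth_quotSMulTop_iff hxm hxB 1).2
      (le_trans (by exact_mod_cast (by omega : 1 + 1 ≤ i + 1)) hB)
    exact_mod_cast h1
  have hb : (Submodule.Quotient.mk b : QuotSMulTop x B) = 0 := by
    rcases subsingleton_or_nontrivial (QuotSMulTop x B) with hs' | hs'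
    · exact Subsingleton.elim _ _
    obtain ⟨y, hym, hy⟩ := DepthLib.exists_isSMulRegular_of_one_le_idealDepth
      (DepthLib.smul_top_ne_top (IsLocalRing.maximalIdeal.isMaximal R).ne_top) hQ
    apply hy
    show y • _ = y • (0 : QuotSMulTop x B)
    rw [smul_zero, ← Submodule.Quotient.mk_smul, Submodule.Quotient.mk_eq_zero]
    refine (Submodule.mem_smul_pointwise_iff_exists _ _ _).2 ⟨⟨y • z.1, hrz y hym⟩, trivial, Subtype.ext ?_⟩
    exact smul_comm x y z.1
  obtain ⟨b', -, hb'⟩ := (Submodule.mem_smul_pointwise_iff_exists _ _ _).1 ((Submodule.Quotient.mk_eq_zero _).1 hb)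
  have : (b' : C.X i) = z.1 := hxM (congrArg Subtype.val hb')
  exact this ▸ b'.2

end Groth.Agent.S2064
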