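import Groth.Statements.S2065
import Groth.Agent.Lib.BE1.Exact

set_option autoImplicit false
universe u
open CAlg

namespace Groth.Agent.S2065


open Groth.Agent in
theorem _root_.Groth.Agent.BE1.rec_sum {e : ℕ} {n ρ : ℕ → ℕ} (hρ : BE1.Rec e n ρ) : ∀ d j, j + d = e →
    (ρ j : ℤ) = ∑ t ∈ Finset.Icc (j + 1) e, (-1 : ℤ) ^ (t - (j + 1)) * (n t : ℤ) := by
  intro d
  induction d with
  | zero =>
    intro j hj
    rw [Finset.Icc_eq_empty (by omega), Finset.sum_empty, show j = e by omega, hρ.1]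
    rfl
  | succ d ih =>
    intro j hj
    rw [← Finset.add_sum_Ioc_eq_sum_Icc (by omega : j + 1 ≤ e), ← Finset.Icc_add_one_left_eq_Ioc, Nat.sub_self,
      pow_zero, one_mul]
    have h1 : ∑ t ∈ Finset.Icc (j + 1 + 1) e, (-1 : ℤ) ^ (t - (j + 1)) * (n t : ℤ) =
        -∑ t ∈ Finset.Icc (j + 1 + 1) e, (-1 : ℤ) ^ (t - (j + 1 + 1)) * (n t : ℤ) := by
      rw [← Finset.sum_neg_distrib]
      refine Finset.sum_congr rfl fun t ht => ?_
      have := (Finset.mem_Icc.mp ht).1
      rw [show t - (j + 1) = t - (j + 1 + 1) + 1 by omega, pow_succ]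
      ring
    rw [h1, ← ih (j + 1) (by omega)]
    have := hρ.2 j (by omega)
    omega



/-- Let `R` be a Noetherian local ring and `0 → R^{n_e} → … → R^{n_1} → R^{n_0}` a complex of finite
free modules, the map `R^{n_{i+1}} → R^{n_i}` being given by the matrix `A i`. The complex is exact
at `R^{n_e}, …, R^{n_1}` if and only if for each `1 ≤ j ≤ e` the matrix of `R^{n_j} → R^{n_{j-1}}`
has rank `n_j - n_{j+1} + … ± n_e` and its ideal of minors of that size is the unit ideal or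
contains a regular sequence of length `j`. -/
theorem result {R : Type u} [CommRing R] [IsLocalRing R] [IsNoetherianRing R]
    (e : ℕ) (he : 1 ≤ e) (n : ℕ → ℕ) (A : (i : ℕ) → Matrix (Fin (n i)) (Fin (n (i + 1))) R)
    (hA : ∀ i, i + 2 ≤ e → A i * A (i + 1) = 0) :
    (LinearMap.ker (A (e - 1)).mulVecLin = ⊥ ∧
        ∀ i, i + 2 ≤ e → LinearMap.ker (A i).mulVecLin = LinearMap.range (A (i + 1)).mulVecLin) ↔
      ∀ j, 1 ≤ j → j ≤ e →
        (CAlgX.matrixRank (A (j - 1)) : ℤ) = ∑ t ∈ Finset.Icc j e, (-1 : ℤ) ^ (t - j) * (n t : ℤ) ∧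
          (CAlgX.detIdeal (A (j - 1)) = ⊤ ∨
            ∃ rs : List R, rs.length = j ∧ (∀ r ∈ rs, r ∈ CAlgX.detIdeal (A (j - 1))) ∧
              RingTheory.Sequence.IsRegular R rs) := by
  constructor
  · rintro ⟨htop, hex⟩
    have hEx : BE1.Ex e A := by
      intro j hj v hv
      rw [BE1.bd]
      split_ifs with h
      · rw [← hex j (by omega)]; exact hv
      · obtain rfl : j = e - 1 := by omega
        exact htop.le hv
    obtain ⟨ρ, hρ⟩ := BE1.exists_rec hA hEx
    have hC := BE1.depthCond_of_ex e R n ρ A hA hρ hEx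
    intro j hj1 hj2
    obtain ⟨i, rfl⟩ : ∃ i, j = i + 1 := ⟨j - 1, by omega⟩
    show (CAlgX.matrixRank (A i) : ℤ) = _ ∧ (CAlgX.detIdeal (A i) = ⊤ ∨
      ∃ rs : List R, rs.length = i + 1 ∧ (∀ r ∈ rs, r ∈ CAlgX.detIdeal (A i)) ∧ RingTheory.Sequence.IsRegular R rs)
    have hi : i < e := by omega
    obtain ⟨hb, hann⟩ := BE1.generic_facts hA hEx hρ hi
    have hne : CAlgX.minorIdeal (A i) (ρ i) ≠ ⊥ := fun h => by
      rw [h, Submodule.annihilator_bot] at hann
      exact top_ne_bot hann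
    have hup : ∀ r ∈ {r : ℕ | CAlgX.minorIdeal (A i) r ≠ ⊥}, r ≤ ρ i := fun r hr => by
      by_contra hlt
      have hmono : Antitone (CAlgX.minorIdeal (A i)) := antitone_nat_of_succ_le (BE1.minorIdeal_succ_le (A i))
      exact hr (le_bot_iff.mp ((hmono (by omega : ρ i + 1 ≤ r)).trans hb.le))
    have hrank : CAlgX.matrixRank (A i) = ρ i := le_antisymm (csSup_le' hup) (le_csSup ⟨ρ i, hup⟩ hne)
    refine ⟨by rw [hrank]; exact BE1.rec_sum hρ (e - i) i (by omega), ?_⟩
    rw [CAlgX.detIdeal, hrank]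
    refine or_iff_not_imp_left.mpr fun hJ => ?_
    obtain ⟨rs, hl, hm, hr⟩ := (hC i hi).resolve_left hJ
    exact ⟨rs, hl, hm, DepthLib.isRegular_of_isWeaklyRegular hr hm (by rwa [smul_eq_mul, Ideal.mul_top])⟩
  · intro h
    let ρ : ℕ → ℕ := fun i => if i < e then CAlgX.matrixRank (A i) else 0
    have hsum : ∀ i ≤ e, (ρ i : ℤ) = ∑ t ∈ Finset.Icc (i + 1) e, (-1 : ℤ) ^ (t - (i + 1)) * (n t : ℤ) := by
      intro i hi
      simp only [ρ]
      split_ifs with h'
      · exact (h (i + 1) (by omega) (by omega)).1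
      · rw [Finset.Icc_eq_empty (by omega), Finset.sum_empty]
        rfl
    have hρ : BE1.Rec e n ρ := by
      refine ⟨if_neg (lt_irrefl e), fun i hi => ?_⟩
      have h1 := hsum i hi.le
      have h2 := hsum (i + 1) hi
      have h3 : ∑ t ∈ Finset.Icc (i + 1) e, (-1 : ℤ) ^ (t - (i + 1)) * (n t : ℤ) =
          (n (i + 1) : ℤ) - ∑ t ∈ Finset.Icc (i + 1 + 1) e, (-1 : ℤ) ^ (t - (i + 1 + 1)) * (n t : ℤ) := by
        rw [← Finset.add_sum_Ioc_eq_sum_Icc (by omega : i + 1 ≤ e), ← Finset.Icc_add_one_left_eq_Ioc, Nat.sub_self,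
          pow_zero, one_mul, sub_eq_add_neg, ← Finset.sum_neg_distrib]
        congr 1
        refine Finset.sum_congr rfl fun t ht => ?_
        have := (Finset.mem_Icc.mp ht).1
        rw [show t - (i + 1) = t - (i + 1 + 1) + 1 by omega, pow_succ]
        ring
      omega
    have hC : BE1.DepthCond e A ρ := by
      intro i hi
      simp only [ρ, if_pos hi]
      obtain h1 | ⟨rs, hl, hm, hr⟩ := (h (i + 1) (by omega) (by omega)).2
      · exact Or.inl h1
      · exact Or.inr ⟨rs, hl, hm, hr.toIsWeaklyRegular⟩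
    have hEx := BE1.ex_of_depthCond e R n ρ A hA hρ hC
    refine ⟨?_, fun i hi => le_antisymm (fun v hv => ?_) ?_⟩
    · rw [LinearMap.ker_eq_bot']
      intro v hv
      have := hEx (e - 1) (by omega) v hv
      rwa [BE1.bd, if_neg (by omega), Submodule.mem_bot] at this
    · have := hEx i (by omega) v hv
      rwa [BE1.bd, if_pos (by omega)] at this
    · rintro _ ⟨w, rfl⟩
      rw [LinearMap.mem_ker, Matrix.mulVecLin_apply, Matrix.mulVecLin_apply, Matrix.mulVec_mulVec, hA i hi,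
        Matrix.zero_mulVec]

end Groth.Agent.S2065
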