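import Groth.Statements.S2069
import Mathlib

set_option autoImplicit false
universe u
open CAlg TensorProduct

namespace Groth.Agent.S2069

section
open TensorProduct
variable {R : Type u} {S : Type u} {N : Type u} [CommRing R] [CommRing S] [Algebra R S]
  [AddCommGroup N] [Module S N] [Module R N] [IsScalarTower R S N]

lemma quot_equiv (p : Ideal R) :
    Nonempty ((N ⧸ p.map (algebraMap R S) • (⊤ : Submodule S N)) ≃ₗ[S] N ⊗[R] (R ⧸ p)) := by
  let g : N →ₗ[S] N ⊗[R] (R ⧸ p) :=
    AlgebraTensorModule.lTensor S N p.mkQ ∘ₗ (AlgebraTensorModule.rid R S N).symm.toLinearMap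
  have hg : Function.Surjective g := fun z => by
    obtain ⟨y, hy⟩ := LinearMap.lTensor_surjective N p.mkQ_surjective z
    exact ⟨AlgebraTensorModule.rid R S N y, by simpa [g] using hy⟩
  have hker : LinearMap.ker g = p.map (algebraMap R S) • (⊤ : Submodule S N) := by
    refine le_antisymm (fun n hn => ?_) ?_
    · obtain ⟨w, hw⟩ := (lTensor_exact N (LinearMap.exact_subtype_mkQ p) p.mkQ_surjective
        ((AlgebraTensorModule.rid R S N).symm n)).1 hn
      rw [← (AlgebraTensorModule.rid R S N).apply_symm_apply n, ← hw]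
      clear hw hn
      induction w using TensorProduct.induction_on with
      | zero => simp
      | tmul a x =>
        show AlgebraTensorModule.rid R S N (a ⊗ₜ (x : R)) ∈ _
        rw [AlgebraTensorModule.rid_tmul, ← algebraMap_smul S (x : R) a]
        exact Submodule.smul_mem_smul (Ideal.mem_map_of_mem (algebraMap R S) x.2) Submodule.mem_top
      | add a b ha hb => rw [map_add, map_add]; exact add_mem ha hb
    · rw [Ideal.map, Submodule.span_smul_eq, Submodule.set_smul_le_iff]
      rintro s n ⟨r, hr, rfl⟩ -
      rw [LinearMap.mem_ker, map_smul, algebraMap_smul]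
      show r • (n ⊗ₜ[R] p.mkQ 1) = 0
      rw [← tmul_smul, ← map_smul, smul_eq_mul, mul_one, Submodule.mkQ_apply, (Submodule.Quotient.mk_eq_zero p).2 hr, tmul_zero]
  exact ⟨(Submodule.quotEquivOfEq _ _ hker.symm).trans (g.quotKerEquivOfSurjective hg)⟩

lemma mem_filtration [IsNoetherianRing R] [Module.Flat R N] (K : Type u) [AddCommGroup K] [Module R K] [Module.Finite R K]
    (P : Ideal S) (hP : P ∈ associatedPrimes S (N ⊗[R] K)) :
    ∃ p : PrimeSpectrum R, p ∈ Module.support R K ∧
      P ∈ associatedPrimes S (N ⧸ p.asIdeal.map (algebraMap R S) • (⊤ : Submodule S N)) := by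
  revert hP
  induction (inferInstance : Module.Finite R K) using IsNoetherianRing.induction_on_isQuotientEquivQuotientPrime R with
  | subsingleton K => exact fun hP => (not_isAssociatedPrime_of_subsingleton hP).elim
  | quotient K p e =>
    intro hP
    refine ⟨p, ?_, ?_⟩
    · rw [LinearEquiv.support_eq e, Module.support_eq_zeroLocus, Ideal.annihilator_quotient]
      exact le_refl p.asIdeal
    · obtain ⟨q⟩ := quot_equiv (S := S) (N := N) p.asIdeal
      exact ((AlgebraTensorModule.congr (LinearEquiv.refl S N) e).trans q.symm).isAssociatedPrime_iff.1 hP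
  | exact K₁ K₂ K₃ f g hf hg hfg ih1 ih3 =>
    intro hP
    have h1 : Function.Injective (AlgebraTensorModule.lTensor S N f) :=
      Module.Flat.lTensor_preserves_injective_linearMap f hf
    have h2 : Function.Exact (AlgebraTensorModule.lTensor S N f) (AlgebraTensorModule.lTensor S N g) :=
      lTensor_exact N hfg hg
    rcases associatedPrimes.subset_union_of_exact h1 h2 hP with h | h
    · obtain ⟨p, hp, hp'⟩ := ih1 h
      exact ⟨p, Module.support_subset_of_injective f hf hp, hp'⟩
    · obtain ⟨p, hp, hp'⟩ := ih3 h
      exact ⟨p, Module.support_subset_of_surjective g hg hp, hp'⟩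

lemma comap_eq [IsNoetherianRing R] [Module.Flat R N] (p : Ideal R) [p.IsPrime] (P : Ideal S)
    (hP : P ∈ associatedPrimes S (N ⧸ p.map (algebraMap R S) • (⊤ : Submodule S N))) :
    P.comap (algebraMap R S) = p := by
  obtain ⟨e⟩ := quot_equiv (S := S) (N := N) p
  obtain ⟨hPp, z, hz⟩ := e.isAssociatedPrime_iff.1 hP
  ext a
  rw [Ideal.mem_comap, hz]
  constructor
  · rintro ⟨n, hn⟩
    rw [Submodule.mem_colon_singleton, Submodule.mem_bot, ← map_pow, algebraMap_smul] at hn
    by_contra ha
    have hinj : Function.Injective (LinearMap.lsmul R (R ⧸ p) (a ^ n)) := by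
      intro x y hxy
      obtain ⟨x, rfl⟩ := Ideal.Quotient.mk_surjective x
      obtain ⟨y, rfl⟩ := Ideal.Quotient.mk_surjective y
      rw [LinearMap.lsmul_apply, LinearMap.lsmul_apply, ← algebraMap_smul (R ⧸ p) (a ^ n) (Ideal.Quotient.mk p x),
        ← algebraMap_smul (R ⧸ p) (a ^ n) (Ideal.Quotient.mk p y)] at hxy
      exact mul_left_cancel₀ (fun h0 => ha (Ideal.IsPrime.mem_of_pow_mem ‹p.IsPrime› n (Ideal.Quotient.eq_zero_iff_mem.1 h0))) hxy
    have h0 := Module.Flat.lTensor_preserves_injective_linearMap (M := N) _ hinj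
    have hz0 : z = 0 := h0 (by
      rw [map_zero, ← hn]
      clear hz hn
      induction z using TensorProduct.induction_on with
      | zero => simp
      | tmul x y => simp
      | add x y hx hy => rw [map_add, hx, hy, smul_add])
    refine hPp.ne_top ?_
    rw [hz, hz0, Ideal.radical_eq_top, Ideal.eq_top_iff_one, Submodule.mem_colon_singleton]
    simp
  · intro ha
    refine ⟨1, ?_⟩
    rw [pow_one, Submodule.mem_colon_singleton, Submodule.mem_bot, algebraMap_smul]
    clear hz
    induction z using TensorProduct.induction_on with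
    | zero => simp
    | tmul x y =>
      obtain ⟨y, rfl⟩ := Ideal.Quotient.mk_surjective y
      rw [← tmul_smul, ← algebraMap_smul (R ⧸ p) a (Ideal.Quotient.mk p y), Ideal.Quotient.algebraMap_eq,
        Ideal.Quotient.eq_zero_iff_mem.2 ha, zero_smul, tmul_zero]
    | add x y hx hy => rw [smul_add, hx, hy, add_zero]
end


open TensorProduct in
/-- Let `R → S` be a ring map, `M` an `R`-module and `N` an `S`-module flat over `R`. Then a prime of
`S` is associated to `N ⊗_R M` if and only if it is associated to `N/𝔭N` for some prime `𝔭` of `R`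
associated to `M`. -/
theorem result {R S M N : Type u} [CommRing R] [IsNoetherianRing R] [CommRing S]
    [Algebra R S] [AddCommGroup M] [Module R M] [AddCommGroup N] [Module S N] [Module R N]
    [IsScalarTower R S N] [Module.Flat R N] :
    associatedPrimes S (N ⊗[R] M) =
      ⋃ p ∈ associatedPrimes R M, associatedPrimes S (N ⧸ p.map (algebraMap R S) • (⊤ : Submodule S N)) := by
  classical
  ext P
  simp only [Set.mem_iUnion]
  constructor
  · intro hP
    obtain ⟨hPp, z, hz⟩ := hP
    obtain ⟨s, hs⟩ := TensorProduct.exists_finset z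
    let M₀ : Submodule R M := Submodule.span R (s.image Prod.snd : Set M)
    haveI : Module.Finite R M₀ := Module.Finite.span_of_finite R (Finset.finite_toSet _)
    let z₀ : N ⊗[R] M₀ := ∑ i ∈ s.attach, i.1.1 ⊗ₜ ⟨i.1.2, Submodule.subset_span (Finset.mem_image_of_mem _ i.2)⟩
    have hz₀ : AlgebraTensorModule.lTensor S N M₀.subtype z₀ = z := by
      rw [hs, map_sum]
      exact (Finset.sum_congr rfl fun i _ => by simp).trans (s.sum_attach fun i => i.1 ⊗ₜ[R] i.2)
    have hinj : Function.Injective (AlgebraTensorModule.lTensor S N M₀.subtype) :=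
      Module.Flat.lTensor_preserves_injective_linearMap M₀.subtype M₀.injective_subtype
    let q := P.comap (algebraMap R S)
    obtain ⟨k, hk⟩ : ∃ k, q ^ k ≤ ((⊥ : Submodule S (N ⊗[R] M)).colon {z}).comap (algebraMap R S) := by
      refine Ideal.exists_pow_le_of_le_radical_of_fg (fun a ha => ?_) (IsNoetherian.noetherian _)
      rw [← Ideal.comap_radical, Ideal.mem_comap, ← hz]
      exact ha
    obtain ⟨t, ht⟩ := (IsNoetherian.noetherian (q ^ k) : (q ^ k).FG)
    let φ : M₀ →ₗ[R] (t → M₀) := LinearMap.pi fun a => LinearMap.lsmul R M₀ a.1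
    let K := LinearMap.ker φ
    have hφz : φ.lTensor N z₀ = 0 := by
      refine (TensorProduct.piRight R R N (fun _ : t => M₀)).injective (funext fun a => ?_)
      have h1 : TensorProduct.piRight R R N (fun _ : t => M₀) (φ.lTensor N z₀) a = (a.1 : R) • z₀ := by
        clear_value z₀
        clear hz₀
        induction z₀ using TensorProduct.induction_on with
        | zero => simp
        | tmul x y => simp [φ]
        | add x y hx hy => simp only [map_add, Pi.add_apply, hx, hy, smul_add]
      rw [h1, map_zero, Pi.zero_apply]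
      refine hinj ?_
      have := hk (ht ▸ Submodule.subset_span a.2)
      rw [Ideal.mem_comap, Submodule.mem_colon_singleton, Submodule.mem_bot, algebraMap_smul] at this
      rw [map_zero, ← algebraMap_smul S (a.1 : R), map_smul, hz₀, algebraMap_smul]
      exact this
    have hex : Function.Exact (K.subtype.lTensor N) (φ.lTensor N) :=
      Module.Flat.lTensor_exact N (LinearMap.exact_subtype_ker_map φ)
    obtain ⟨w, hw⟩ := (hex z₀).1 hφz
    have hinj' : Function.Injective (AlgebraTensorModule.lTensor S N (M₀.subtype ∘ₗ K.subtype)) :=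
      Module.Flat.lTensor_preserves_injective_linearMap _ (M₀.injective_subtype.comp K.injective_subtype)
    have hwz : AlgebraTensorModule.lTensor S N (M₀.subtype ∘ₗ K.subtype) w = z := by
      rw [← hz₀, ← hw]
      exact LinearMap.lTensor_comp_apply N M₀.subtype K.subtype w
    have hPK : P ∈ associatedPrimes S (N ⊗[R] K) := by
      refine ⟨hPp, w, ?_⟩
      rw [hz]
      congr 1
      ext r
      rw [Submodule.mem_colon_singleton, Submodule.mem_colon_singleton, Submodule.mem_bot, Submodule.mem_bot,
        ← hwz, ← map_smul, map_eq_zero_iff _ hinj']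
    obtain ⟨p, hp, hPp'⟩ := mem_filtration K P hPK
    have hpq : q = p.asIdeal := comap_eq p.asIdeal P hPp'
    refine ⟨p.asIdeal, ?_, hPp'⟩
    have hqk : q ^ k ≤ Module.annihilator R K := by
      rw [← ht, Submodule.span_le]
      intro a ha
      rw [SetLike.mem_coe, Module.mem_annihilator]
      intro m
      exact Subtype.ext (congrFun (show φ m.1 = 0 from m.2) ⟨a, ha⟩)
    have hmin : p.asIdeal ∈ (Module.annihilator R K).minimalPrimes :=
      ⟨⟨p.isPrime, Module.annihilator_le_of_mem_support hp⟩, fun Q hQ _ =>
        hpq ▸ (Ideal.IsPrime.le_of_pow_le (n := k) (hP := hQ.1) (hqk.trans hQ.2))⟩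
    exact IsAssociatedPrime.map_of_injective (M₀.subtype ∘ₗ K.subtype)
      (Module.associatedPrimes.minimalPrimes_annihilator_subset_associatedPrimes R K hmin) (M₀.injective_subtype.comp K.injective_subtype)
  · rintro ⟨p, hp, hP⟩
    obtain ⟨hpp, x, hx⟩ := isAssociatedPrime_iff.1 hp
    let f : R ⧸ p →ₗ[R] M := Submodule.liftQ p (LinearMap.toSpanSingleton R M x) (fun a ha => by
      rw [hx, Submodule.mem_colon_singleton, Submodule.mem_bot] at ha
      simpa using ha)
    have hf : Function.Injective f := by
      rw [← LinearMap.ker_eq_bot]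
      refine Submodule.ker_liftQ_eq_bot _ _ _ fun a ha => ?_
      rw [hx, Submodule.mem_colon_singleton, Submodule.mem_bot]
      simpa using ha
    obtain ⟨e⟩ := quot_equiv (S := S) (N := N) p
    exact IsAssociatedPrime.map_of_injective (AlgebraTensorModule.lTensor S N f ∘ₗ e.toLinearMap) hP
      ((Module.Flat.lTensor_preserves_injective_linearMap f hf).comp e.injective)

end Groth.Agent.S2069
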