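import Groth.Statements.S2071
import Mathlib

set_option autoImplicit false
universe u
open CAlg

namespace Groth.Agent.S2071


theorem charZero_absurd {L : Type u} [Field L] [CharZero L] {x y : L} (hxy : x ≠ y)
    (h : ∀ c : ℤ, x + (c : L) ≠ 0 ∧ ∃ n : ℕ, 0 < n ∧ (x + c) ^ n = (y + c) ^ n)
    (hx : IsIntegral ℚ x) (hy : IsIntegral ℚ y) : False := by
  let F := IntermediateField.adjoin ℚ ({x, y} : Set L)
  haveI : FiniteDimensional ℚ F := IntermediateField.finiteDimensional_adjoin fun z hz => by
    rcases hz with rfl | rfl <;> assumption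
  haveI : NumberField F := { }
  let x' : F := ⟨x, IntermediateField.subset_adjoin ℚ _ (Or.inl rfl)⟩
  let y' : F := ⟨y, IntermediateField.subset_adjoin ℚ _ (Or.inr rfl)⟩
  have hne : ∀ c : ℤ, x' + c ≠ 0 := fun c e => (h c).1 (by have := congrArg Subtype.val e; simpa [x'] using this)
  let ζ : ℤ → F := fun c => (y' + c) / (x' + c)
  have hpow : ∀ c, ∃ n, 0 < n ∧ ζ c ^ n = 1 := fun c => by
    obtain ⟨-, n, hn, he⟩ := h c
    refine ⟨n, hn, ?_⟩
    rw [div_pow, div_eq_one_iff_eq (pow_ne_zero _ (hne c))]
    apply Subtype.ext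
    simpa [x', y'] using he.symm
  have hfin : (Set.range ζ).Finite := by
    refine (NumberField.Embeddings.finite_of_norm_le F ℂ 1).subset ?_
    rintro _ ⟨c, rfl⟩
    obtain ⟨n, hn, he⟩ := hpow c
    refine ⟨IsIntegral.of_pow hn (he ▸ isIntegral_one), fun φ => le_of_eq ?_⟩
    exact Complex.norm_eq_one_of_pow_eq_one (by rw [← map_pow, he, map_one]) hn.ne'
  obtain ⟨c, -, d, -, hcd, he⟩ := Set.infinite_univ.exists_ne_map_eq_of_mapsTo
    (fun c _ => Set.mem_range_self (f := ζ) c) hfin
  simp only [ζ] at he
  rw [div_eq_div_iff (hne c) (hne d)] at he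
  have h1 : ((c : F) - d) * (x' - y') = 0 := by linear_combination he
  rcases mul_eq_zero.1 h1 with h2 | h2
  · exact hcd (by exact_mod_cast sub_eq_zero.1 h2)
  · exact hxy (congrArg Subtype.val (sub_eq_zero.1 h2))

theorem isAlgebraic_of_pow_eq {F L : Type u} [Field F] [Field L] [Algebra F L] {x y : L} (hxy : x ≠ y)
    (hx0 : x ≠ 0) (hx1 : x + 1 ≠ 0) {n m : ℕ} (hn : 0 < n) (hm : 0 < m) (h : x ^ n = y ^ n)
    (h1 : (x + 1) ^ m = (y + 1) ^ m) : IsAlgebraic F x := by
  let ζ := y / x
  let η := (y + 1) / (x + 1)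
  have hζ : IsIntegral F ζ := IsIntegral.of_pow hn (by
    rw [div_pow, ← h, div_self (pow_ne_zero _ hx0)]; exact isIntegral_one)
  have hη : IsIntegral F η := IsIntegral.of_pow hm (by
    rw [div_pow, ← h1, div_self (pow_ne_zero _ hx1)]; exact isIntegral_one)
  have hne : ζ ≠ η := fun e => hxy (by
    have := (div_eq_div_iff hx0 hx1).1 e
    linear_combination -this)
  have : x = (η - 1) / (ζ - η) := by
    rw [eq_div_iff (sub_ne_zero.2 hne)]
    have e1 : ζ * x = y := div_mul_cancel₀ _ hx0
    have e2 : η * (x + 1) = y + 1 := div_mul_cancel₀ _ hx1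
    linear_combination e1 - e2
  rw [this, div_eq_mul_inv]
  exact (hη.sub isIntegral_one).isAlgebraic.mul (hζ.sub hη).isAlgebraic.inv


/-- For a field extension `k'/k`, every element of `k'` has a positive power in `k` if and only if
either `k' = k`, or the characteristic is a prime `p` and either `k'/k` is purely inseparable or
`k'` is algebraic over its prime field. -/
theorem result {k k' : Type u} [Field k] [Field k'] [Algebra k k'] :
    (∀ x : k', ∃ n : ℕ, 0 < n ∧ x ^ n ∈ Set.range (algebraMap k k')) ↔
      Function.Surjective (algebraMap k k') ∨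
        ∃ p : ℕ, p.Prime ∧ CharP k' p ∧
          (IsPurelyInseparable k k' ∨ Algebra.IsAlgebraic (⊥ : Subfield k') k') := by
  constructor
  · intro h
    by_cases hs : Function.Surjective (algebraMap k k')
    · exact Or.inl hs
    right
    haveI : Algebra.IsAlgebraic k k' := ⟨fun x => by
      obtain ⟨n, hn, r, hr⟩ := h x
      exact (IsIntegral.of_pow hn (hr ▸ isIntegral_algebraMap)).isAlgebraic⟩
    let L := AlgebraicClosure k'
    let i : k' →ₐ[k] L := IsScalarTower.toAlgHom k k' L
    have hpow : ∀ (σ : k' →ₐ[k] L) (x : k'), ∃ n : ℕ, 0 < n ∧ σ x ^ n = i x ^ n := fun σ x => by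
      obtain ⟨n, hn, r, hr⟩ := h x
      exact ⟨n, hn, by rw [← map_pow, ← map_pow, ← hr, AlgHom.commutes, AlgHom.commutes]⟩
    have hnot : ¬ IsPurelyInseparable k k' → ∃ (σ : k' →ₐ[k] L) (x : k'), σ x ≠ i x := by
      intro hp
      by_contra! hc
      refine hp ((isPurelyInseparable_iff_finSepDegree_eq_one k k').2 ?_)
      haveI : Subsingleton (Field.Emb k k') := ⟨fun a b => AlgHom.ext fun x => (hc a x).trans (hc b x).symm⟩
      exact Nat.card_of_subsingleton (default : Field.Emb k k')
    obtain ⟨q, hq⟩ := CharP.exists k'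
    rcases CharP.char_is_prime_or_zero k' q with hqp | rfl
    · refine ⟨q, hqp, hq, ?_⟩
      by_cases hp : IsPurelyInseparable k k'
      · exact Or.inl hp
      right
      obtain ⟨σ, x, hx⟩ := hnot hp
      have hmoved : ∀ z : k', σ z ≠ i z → IsAlgebraic (⊥ : Subfield k') z := fun z hz => by
        obtain ⟨n, hn, h1⟩ := hpow σ z
        obtain ⟨m, hm, h2⟩ := hpow σ (z + 1)
        rw [map_add, map_one, map_add, map_one] at h2
        have hz0 : i z ≠ 0 := fun e => hz (by rw [(map_eq_zero i).1 e, map_zero, map_zero])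
        have hz1 : i z + 1 ≠ 0 := fun e => hz (by
          rw [eq_neg_of_add_eq_zero_left ((map_eq_zero i).1 (show i (z + 1) = 0 by rw [map_add, map_one, e])),
            map_neg, map_neg, map_one, map_one])
        exact (isAlgebraic_algebraMap_iff (algebraMap k' L).injective).1
          (isAlgebraic_of_pow_eq (F := (⊥ : Subfield k')) (Ne.symm hz) hz0 hz1 hn hm h1.symm h2.symm)
      refine ⟨fun y => ?_⟩
      by_cases hy : σ y = i y
      · have h1 := hmoved x hx
        have h2 := hmoved (x + y) (by rw [map_add, map_add, hy]; exact fun e => hx (add_right_cancel e))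
        have := h2.sub h1
        rwa [add_sub_cancel_left] at this
      · exact hmoved y hy
    · exfalso
      haveI : CharZero k' := CharP.charP_to_charZero k'
      haveI : CharZero k := (algebraMap k k').charZero
      haveI : CharZero L := charZero_of_injective_algebraMap (algebraMap k' L).injective
      have hp : ¬ IsPurelyInseparable k k' := fun hp => hs (IsPurelyInseparable.surjective_algebraMap_of_isSeparable k k')
      obtain ⟨σ, x, hx⟩ := hnot hp
      have hx0 : ∀ c : ℤ, i x + c ≠ 0 := fun c e => hx (by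
        have : i (x + c) = 0 := by rw [map_add, map_intCast, e]
        rw [eq_neg_of_add_eq_zero_left ((map_eq_zero i).1 this), map_neg, map_neg, map_intCast, map_intCast])
      have hall : ∀ c : ℤ, i x + (c : L) ≠ 0 ∧ ∃ n : ℕ, 0 < n ∧ (i x + c) ^ n = (σ x + c) ^ n := fun c => by
        obtain ⟨n, hn, he⟩ := hpow σ (x + c)
        rw [map_add, map_intCast, map_add, map_intCast] at he
        exact ⟨hx0 c, n, hn, he.symm⟩
      obtain ⟨-, n, hn, h1⟩ := hall 0
      obtain ⟨-, m, hm, h2⟩ := hall 1
      rw [Int.cast_zero, add_zero, add_zero] at h1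
      rw [Int.cast_one] at h2
      have hx00 : i x ≠ 0 := by simpa using hx0 0
      have hx01 : i x + 1 ≠ 0 := by simpa using hx0 1
      let LQ : Subfield L := ⊥
      have hia : IsIntegral ℚ (i x) := by
        let ζ := σ x / i x
        let η := (σ x + 1) / (i x + 1)
        have hζ : IsIntegral ℚ ζ := IsIntegral.of_pow hn (by
          rw [div_pow, ← h1, div_self (pow_ne_zero _ hx00)]; exact isIntegral_one)
        have hη : IsIntegral ℚ η := IsIntegral.of_pow hm (by
          rw [div_pow, ← h2, div_self (pow_ne_zero _ hx01)]; exact isIntegral_one)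
        have hne : ζ ≠ η := fun e => hx (by
          have := (div_eq_div_iff hx00 hx01).1 e
          linear_combination this)
        have : i x = (η - 1) / (ζ - η) := by
          rw [eq_div_iff (sub_ne_zero.2 hne)]
          have e1 : ζ * i x = σ x := div_mul_cancel₀ _ hx00
          have e2 : η * (i x + 1) = σ x + 1 := div_mul_cancel₀ _ hx01
          linear_combination e1 - e2
        rw [this, div_eq_mul_inv]
        exact ((hη.sub isIntegral_one).isAlgebraic.mul (hζ.sub hη).isAlgebraic.inv).isIntegral
      have hσa : IsIntegral ℚ (σ x) := IsIntegral.of_pow hn (h1 ▸ hia.pow n)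
      exact charZero_absurd (Ne.symm hx) hall hia hσa
  · rintro (hs | ⟨p, hp, hchar, hpi | halg⟩) x
    · exact ⟨1, one_pos, by obtain ⟨r, rfl⟩ := hs x; exact ⟨r, (pow_one _).symm⟩⟩
    · haveI := hchar
      haveI : Fact p.Prime := ⟨hp⟩
      haveI : CharP k p := (Algebra.charP_iff k k' p).2 hchar
      obtain ⟨n, hn⟩ := IsPurelyInseparable.pow_mem k p x
      exact ⟨p ^ n, pow_pos hp.pos n, hn⟩
    · haveI := hchar
      haveI : Fact p.Prime := ⟨hp⟩
      by_cases hx : x = 0
      · exact ⟨1, one_pos, 0, by rw [hx, map_zero, pow_one]⟩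
      let P : Subfield k' := ⊥
      haveI : Finite P := Nat.finite_of_card_ne_zero (by rw [Subfield.card_bot k' p]; exact hp.ne_zero)
      let E := IntermediateField.adjoin P ({x} : Set k')
      haveI : FiniteDimensional P E := IntermediateField.adjoin.finiteDimensional (halg.isAlgebraic x).isIntegral
      haveI : Finite E := Module.finite_of_finite P
      haveI : Fintype E := Fintype.ofFinite E
      let e : E := ⟨x, IntermediateField.mem_adjoin_simple_self P x⟩
      have he : e ≠ 0 := fun h => hx (congrArg Subtype.val h)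
      refine ⟨Fintype.card E - 1, Nat.sub_pos_of_lt Fintype.one_lt_card, 1, ?_⟩
      rw [map_one]
      exact (congrArg Subtype.val (FiniteField.pow_card_sub_one_eq_one e he)).symm

end Groth.Agent.S2071
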