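import Groth.Statements.S2073
import Mathlib

set_option autoImplicit false
universe u
open CAlg

namespace Groth.Agent.S2073

attribute [local instance] MvPolynomial.algebraMvPolynomial

open scoped nonZeroDivisors in
theorem exists_coordinates_integral {R S : Type u} [CommRing R] [IsDomain R] [CommRing S] [Algebra R S]
    [Algebra.FiniteType R S] (hinj : Function.Injective (algebraMap R S)) :
    ∃ (d : ℕ) (y : Fin d → S), AlgebraicIndependent R y ∧
      ∀ s : S, ∃ r : R, r ≠ 0 ∧ (MvPolynomial.aeval (R := R) y).toRingHom.IsIntegralElem (r • s) := by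
  classical
  let K := FractionRing R
  let M' : Submonoid S := Algebra.algebraMapSubmonoid S R⁰
  let L := Localization M'
  let _ : Algebra K L := localizationAlgebra R⁰ S
  have : IsScalarTower R K L := IsScalarTower.of_algebraMap_eq fun r => by
    rw [RingHom.algebraMap_toAlgebra, IsLocalization.map_eq, ← IsScalarTower.algebraMap_apply]
  have : Algebra.IsPushout R K S L := (Algebra.isPushout_of_isLocalization R⁰ K S L).symm
  have : Algebra.FiniteType K L :=
    Algebra.FiniteType.equiv inferInstance (Algebra.IsPushout.equiv R K S L)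
  have h0 : (0 : S) ∉ M' := fun ⟨r, hr, h⟩ =>
    nonZeroDivisors.ne_zero hr (hinj (h.trans (map_zero _).symm))
  have : Nontrivial L := ⟨0, 1, fun h => by
    obtain ⟨⟨c, hc⟩, h'⟩ := (IsLocalization.map_eq_zero_iff M' L 1).1 (by rw [map_one]; exact h.symm)
    rw [mul_one] at h'
    exact h0 (h' ▸ hc)⟩
  obtain ⟨d, g, hginj, hgint⟩ := exists_integral_inj_algHom_of_fg K L
  have hnum : ∀ z : L, ∃ (r : R) (s : S), r ≠ 0 ∧ algebraMap R K r • z = algebraMap S L s := fun z => by
    obtain ⟨⟨s, ⟨_, r, hr, rfl⟩⟩, h⟩ := IsLocalization.surj M' z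
    refine ⟨r, s, nonZeroDivisors.ne_zero hr, ?_⟩
    rw [Algebra.smul_def, ← IsScalarTower.algebraMap_apply, IsScalarTower.algebraMap_apply R S L, mul_comm]
    exact h
  choose c y hc hy using fun i => hnum (g (MvPolynomial.X i))
  let σ : MvPolynomial (Fin d) K →ₐ[K] MvPolynomial (Fin d) K :=
    MvPolynomial.aeval fun i => MvPolynomial.C (algebraMap R K (c i)) * MvPolynomial.X i
  let σ' : MvPolynomial (Fin d) K →ₐ[K] MvPolynomial (Fin d) K :=
    MvPolynomial.aeval fun i => MvPolynomial.C (algebraMap R K (c i))⁻¹ * MvPolynomial.X i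
  have hc' : ∀ i, algebraMap R K (c i) ≠ 0 := fun i => by simpa using hc i
  have h1 : σ'.comp σ = AlgHom.id _ _ := by
    apply MvPolynomial.algHom_ext
    intro i
    rw [AlgHom.comp_apply, AlgHom.id_apply]
    simp only [σ, σ', MvPolynomial.aeval_X, map_mul, MvPolynomial.aeval_C, MvPolynomial.algebraMap_eq]
    rw [← mul_assoc, ← map_mul, mul_inv_cancel₀ (hc' i), map_one, one_mul]
  have h2 : σ.comp σ' = AlgHom.id _ _ := by
    apply MvPolynomial.algHom_ext
    intro i
    rw [AlgHom.comp_apply, AlgHom.id_apply]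
    simp only [σ, σ', MvPolynomial.aeval_X, map_mul, MvPolynomial.aeval_C, MvPolynomial.algebraMap_eq]
    rw [← mul_assoc, ← map_mul, inv_mul_cancel₀ (hc' i), map_one, one_mul]
  let e := AlgEquiv.ofAlgHom σ σ' h2 h1
  let ψ : MvPolynomial (Fin d) K →ₐ[K] L := MvPolynomial.aeval fun i => algebraMap S L (y i)
  have hψ : ψ = g.comp e.toAlgHom := by
    apply MvPolynomial.algHom_ext
    intro i
    show MvPolynomial.aeval (fun j => algebraMap S L (y j)) (MvPolynomial.X i) = _
    rw [MvPolynomial.aeval_X]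
    simp [e, σ, ← hy, Algebra.smul_def]
  have hψinj : Function.Injective ψ := by rw [hψ]; exact hginj.comp e.injective
  have hψint : ψ.toRingHom.IsIntegral := by
    rw [hψ]
    exact RingHom.IsIntegral.trans e.toAlgHom.toRingHom g.toRingHom
      (e.toAlgHom.toRingHom.isIntegral_of_surjective e.surjective) hgint
  let φ : MvPolynomial (Fin d) R →ₐ[R] S := MvPolynomial.aeval y
  have hcomm : ψ.toRingHom.comp (MvPolynomial.map (algebraMap R K)) =
      (algebraMap S L).comp φ.toRingHom := by
    refine MvPolynomial.ringHom_ext (fun r => ?_) (fun i => ?_)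
    · simp [ψ, φ, ← IsScalarTower.algebraMap_apply]
    · simp [ψ, φ]
  refine ⟨d, y, ?_, fun s => ?_⟩
  · intro p q hpq
    apply MvPolynomial.map_injective (algebraMap R K) (IsFractionRing.injective R K)
    apply hψinj
    show (ψ.toRingHom.comp (MvPolynomial.map (algebraMap R K))) p =
      (ψ.toRingHom.comp (MvPolynomial.map (algebraMap R K))) q
    rw [hcomm]
    exact congrArg (algebraMap S L) hpq
  let _ : Algebra (MvPolynomial (Fin d) K) L := ψ.toRingHom.toAlgebra
  let _ : Algebra (MvPolynomial (Fin d) R) L := ((algebraMap S L).comp φ.toRingHom).toAlgebra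
  have : IsScalarTower (MvPolynomial (Fin d) R) (MvPolynomial (Fin d) K) L :=
    IsScalarTower.of_algebraMap_eq fun p => (RingHom.congr_fun hcomm p).symm
  obtain ⟨⟨_, r, hr, rfl⟩, hm⟩ := IsIntegral.exists_multiple_integral_of_isLocalization
    (R := MvPolynomial (Fin d) R) (R⁰.map MvPolynomial.C) (Rₘ := MvPolynomial (Fin d) K)
    (algebraMap S L s) (hψint (algebraMap S L s))
  obtain ⟨q, hq, hq0⟩ := hm
  have e1 : (MvPolynomial.C r : MvPolynomial (Fin d) R) • algebraMap S L s = algebraMap S L (r • s) := by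
    rw [Algebra.smul_def (MvPolynomial.C r : MvPolynomial (Fin d) R), RingHom.algebraMap_toAlgebra,
      Algebra.smul_def r s, map_mul]
    simp [φ]
  rw [Submonoid.smul_def, e1, RingHom.algebraMap_toAlgebra, ← Polynomial.hom_eval₂,
    IsLocalization.map_eq_zero_iff M'] at hq0
  obtain ⟨⟨_, r', hr', rfl⟩, hq0⟩ := hq0
  refine ⟨r' * r, mul_ne_zero (nonZeroDivisors.ne_zero hr') (nonZeroDivisors.ne_zero hr),
    q.scaleRoots (MvPolynomial.C r'), (Polynomial.monic_scaleRoots_iff _).2 hq, ?_⟩
  have hx : (r' * r) • s = φ.toRingHom (MvPolynomial.C r') * (r • s) := by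
    rw [mul_smul, Algebra.smul_def r' (r • s)]
    simp [φ]
  show Polynomial.eval₂ φ.toRingHom ((r' * r) • s) _ = 0
  rw [hx, Polynomial.scaleRoots_eval₂_mul]
  have hφC : φ.toRingHom (MvPolynomial.C r') = algebraMap R S r' := by simp [φ]
  rw [hφC]
  obtain hdeg | ⟨k, hk⟩ : q.natDegree = 0 ∨ ∃ k, q.natDegree = k + 1 := by
    cases q.natDegree with
    | zero => exact .inl rfl
    | succ k => exact .inr ⟨k, rfl⟩
  · exfalso
    rw [Polynomial.eq_one_of_monic_natDegree_zero hq hdeg, Polynomial.eval₂_one, mul_one] at hq0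
    exact nonZeroDivisors.ne_zero hr' (hinj (hq0.trans (map_zero _).symm))
  · rw [hk, pow_succ, mul_assoc]
    exact mul_eq_zero_of_right _ hq0


/-- Let `R` be a domain and `R → S` an injective ring map of finite type. Then there are elements `y_1,
…, y_d` of `S` algebraically independent over `R`, a finitely generated `R`-subalgebra `S'` of `S`
containing them and integral over `R[y_1, …, y_d]`, and a nonzero `f ∈ R` such that every element of
`S` lands in `S'` after multiplication by a power of `f`. -/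
theorem result {R S : Type u} [CommRing R] [IsDomain R] [CommRing S] [Algebra R S]
    [Algebra.FiniteType R S] (hinj : Function.Injective (algebraMap R S)) :
    ∃ (d : ℕ) (y : Fin d → S) (S' : Subalgebra R S), AlgebraicIndependent R y ∧ (∀ i, y i ∈ S') ∧ S'.FG ∧
      (∀ s ∈ S', IsIntegral (Algebra.adjoin R (Set.range y)) s) ∧
      ∃ f : R, f ≠ 0 ∧ ∀ s : S, ∃ n : ℕ, (f ^ n) • s ∈ S' := by
  classical
  obtain ⟨d, y, hind, hint⟩ := exists_coordinates_integral hinj
  choose r hr hri using hint
  obtain ⟨t, ht⟩ := ‹Algebra.FiniteType R S›.out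
  let F : Finset S := Finset.univ.image y ∪ t.image (fun s => r s • s)
  let A := Algebra.adjoin R (Set.range y)
  let S' := Algebra.adjoin R (F : Set S)
  have hyS' : ∀ i, y i ∈ S' := fun i => Algebra.subset_adjoin (by simp [F])
  have hle : S' ≤ (integralClosure A S).restrictScalars R := by
    refine Algebra.adjoin_le fun x hx => ?_
    simp only [F, Finset.coe_union, Finset.coe_image, Set.mem_union, Set.mem_image, Finset.mem_coe] at hx
    rcases hx with ⟨i, _, rfl⟩ | ⟨s, _, rfl⟩
    · exact isIntegral_algebraMap (R := A) (x := (⟨y i, Algebra.subset_adjoin ⟨i, rfl⟩⟩ : A))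
    · show IsIntegral A (r s • s)
      obtain ⟨q, hq, hq0⟩ := hri s
      let φ' : MvPolynomial (Fin d) R →ₐ[R] A := (MvPolynomial.aeval (R := R) y).codRestrict A fun p => by
        show _ ∈ Algebra.adjoin R (Set.range y)
        rw [Algebra.adjoin_range_eq_range_aeval]; exact ⟨p, rfl⟩
      refine ⟨q.map φ'.toRingHom, hq.map _, ?_⟩
      rw [Polynomial.eval₂_map]
      exact hq0
  refine ⟨d, y, S', hind, hyS', ⟨F, rfl⟩, fun s hs => hle hs, ∏ s ∈ t, r s,
    Finset.prod_ne_zero_iff.2 fun s _ => hr s, fun s => ?_⟩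
  generalize hf : ∏ s ∈ t, r s = f
  have hs : s ∈ Algebra.adjoin R (t : Set S) := ht ▸ Algebra.mem_top
  induction hs using Algebra.adjoin_induction with
  | mem x hx =>
    refine ⟨1, ?_⟩
    rw [pow_one, ← hf, ← Finset.prod_erase_mul t r hx, mul_smul]
    exact S'.smul_mem (Algebra.subset_adjoin (Finset.mem_coe.2
      (Finset.mem_union_right _ (Finset.mem_image_of_mem _ hx)))) _
  | algebraMap a => exact ⟨0, by rw [pow_zero, one_smul]; exact S'.algebraMap_mem a⟩
  | add x y _ _ hx hy =>
    obtain ⟨a, ha⟩ := hx; obtain ⟨b, hb⟩ := hy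
    refine ⟨a + b, ?_⟩
    rw [smul_add]
    refine add_mem ?_ ?_
    · rw [add_comm a, pow_add, mul_smul]; exact S'.smul_mem ha _
    · rw [pow_add, mul_smul]; exact S'.smul_mem hb _
  | mul x y _ _ hx hy =>
    obtain ⟨a, ha⟩ := hx; obtain ⟨b, hb⟩ := hy
    refine ⟨a + b, ?_⟩
    rw [pow_add, ← smul_mul_smul_comm]
    exact mul_mem ha hb

end Groth.Agent.S2073
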