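import Groth.Statements.S2080
import Groth.Agent.Lib.FiniteNhd12.Basic


set_option autoImplicit false
universe u
open CategoryTheory AlgebraicGeometry
open Mor
open Groth.Agent.FiniteNhd12

namespace Groth.Agent.S2080

/-- Let `f : X → Y` be locally of finite type, quasi-compact and quasi-separated, and `η` a generic
point of an irreducible component of `Y`. Then `f⁻¹{η}` is finite if and only if there is an affine
open `V ∋ η` such that `f⁻¹(V) → V` is finite. -/
theorem result {X Y : Scheme.{u}} (f : X ⟶ Y) [LocallyOfFiniteType f]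
    [QuasiCompact f] [QuasiSeparated f] (η : Y) (hη : closure {η} ∈ irreducibleComponents (Y : Type u)) :
    (f.base ⁻¹' {η}).Finite ↔ ∃ V : Y.Opens, IsAffineOpen V ∧ η ∈ V ∧ IsFinite (f ∣_ V) := by
  refine ⟨fun h => ?_, ?_⟩
  · exact exists_affine_isFinite f (fun v hv => eq_of_specializes_of_component hη hv) h
  · rintro ⟨V, -, hηV, hfin⟩
    have : (((f ∣_ V)) ⁻¹' {⟨η, hηV⟩}).Finite :=
      (f ∣_ V).finite_preimage (Set.finite_singleton _)
    refine (this.image (f ⁻¹ᵁ V).ι).subset fun x hx => ?_
    have hxV : f x ∈ V := (show f x = η from hx) ▸ hηV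
    exact ⟨⟨x, hxV⟩, Subtype.ext ((morphismRestrict_base_coe f V _).trans hx), rfl⟩


end Groth.Agent.S2080
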