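import Groth.Statements.S2081
import Groth.Agent.Lib.FiniteNhd12.Basic


set_option autoImplicit false
universe u
open CategoryTheory AlgebraicGeometry
open Mor
open Groth.Agent.FiniteNhd12 Groth.Agent.AlgSpDecent

namespace Groth.Agent.S2081

/-- Let `f : X → Y` be locally of finite type and quasi-compact. Suppose `X` and `Y` have finitely many
irreducible components and that a point of `X` is a generic point of an irreducible component
exactly when its image is one in `Y`. Then `f⁻¹(V) → V` is finite for some dense open `V ⊆ Y`. -/
theorem result {X Y : Scheme.{u}} (f : X ⟶ Y) [LocallyOfFiniteType f]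
    [QuasiCompact f] (hX : (irreducibleComponents (X : Type u)).Finite) (hY : (irreducibleComponents (Y : Type u)).Finite)
    (hgen : ∀ x : X, closure {x} ∈ irreducibleComponents (X : Type u) ↔
      closure {f.base x} ∈ irreducibleComponents (Y : Type u)) :
    ∃ V : Y.Opens, Dense (V : Set Y) ∧ IsFinite (f ∣_ V) := by
  choose V _ hmem hfin using fun η : genericPoints (Y : Type u) =>
    exists_affine_isFinite_of_generic f hX (fun v hv => eq_of_specializes_of_component η.2 hv)
      (fun x hx => (hgen x).2 ((hx : f.base x = η.1) ▸ η.2))
  refine ⟨⨆ η, V η, ?_, isFinite_restrict_iSup' f V hfin⟩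
  refine Dense.mono (fun η hη => ?_) (dense_iff_closure_eq.2 genericPoints.closure)
  exact TopologicalSpace.Opens.mem_iSup.2 ⟨⟨η, hη⟩, hmem _⟩


end Groth.Agent.S2081
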