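import Groth.Statements.S2083
import Groth.Agent.Lib.Depth.CM
import Mathlib

set_option autoImplicit false
universe u
open CAlg

namespace Groth.Agent.S2083


open IsLocalRing


/-- Let `R` be a Noetherian local ring, `M` a finite Cohen–Macaulay `R`-module and `g` a member of the
maximal ideal for which the support of `M/gM` has dimension exactly one less than that of `M`. Then
`g` is a nonzerodivisor on `M`, and the quotient `M/gM` is again Cohen–Macaulay, with depth one
smaller than that of `M`. -/
theorem result {R M : Type u} [CommRing R] [IsLocalRing R] [IsNoetherianRing R]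
    [AddCommGroup M] [Module R M] [Module.Finite R M] (hM : LocCoh.IsCohenMacaulayModule R M) (g : R)
    (hg : g ∈ IsLocalRing.maximalIdeal R)
    (hdim : Module.supportDim R (M ⧸ Ideal.span {g} • (⊤ : Submodule R M)) + 1 = Module.supportDim R M) :
    IsSMulRegular M g ∧ LocCoh.IsCohenMacaulayModule R (M ⧸ Ideal.span {g} • (⊤ : Submodule R M)) ∧
      LocCoh.depth R (M ⧸ Ideal.span {g} • (⊤ : Submodule R M)) + 1 = LocCoh.depth R M := by
  have := Groth.Agent.DepthLib.nontrivial_of_isCohenMacaulayModule hM
  have hreg : IsSMulRegular M g := by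
    by_contra hreg
    obtain ⟨p, hp, hgp⟩ : ∃ p ∈ associatedPrimes R M, g ∈ p := by
      simp only [isSMulRegular_iff_right_eq_zero_of_smul, not_forall] at hreg
      obtain ⟨x, hx, hx0⟩ := hreg
      have : g ∈ ⋃ p ∈ associatedPrimes R M, (p : Set R) := by
        rw [biUnion_associatedPrimes_eq_zero_divisors]; exact ⟨x, hx0, hx⟩
      simpa using this
    haveI := IsAssociatedPrime.isPrime hp
    have h1 := Groth.Agent.DepthLib.ringKrullDim_quotient_le_supportDim_quotient
      (Groth.Agent.DepthLib.mem_support_of_mem_associatedPrimes hp)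
      ((Ideal.span_singleton_le_iff_mem p).2 hgp)
    rw [Groth.Agent.DepthLib.ringKrullDim_quotient_eq_of_mem_associatedPrimes hM hp, ← hdim] at h1
    rcases subsingleton_or_nontrivial (M ⧸ Ideal.span {g} • (⊤ : Submodule R M)) with hs | hs
    · rw [Module.supportDim_eq_bot_of_subsingleton R (M ⧸ Ideal.span {g} • (⊤ : Submodule R M)), WithBot.bot_add] at hdim
      exact (Module.supportDim_ne_bot_iff_nontrivial R M).2 inferInstance hdim.symm
    obtain ⟨a, ha⟩ := Groth.Agent.DepthLib.exists_supportDim_eq_natCast (R := R)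
      (M := M ⧸ Ideal.span {g} • (⊤ : Submodule R M))
    rw [ha] at h1
    norm_cast at h1
    omega
  let e : QuotSMulTop g M ≃ₗ[R] M ⧸ Ideal.span {g} • (⊤ : Submodule R M) :=
    Submodule.quotEquivOfEq _ _ (Submodule.ideal_span_singleton_smul g _).symm
  have hcm := (Groth.Agent.DepthLib.isCohenMacaulayModule_quotSMulTop_iff hg hreg).2 hM
  refine ⟨hreg, ?_, ?_⟩
  · unfold LocCoh.IsCohenMacaulayModule LocCoh.depth at hcm ⊢
    rwa [← Module.supportDim_eq_of_equiv e, ← Groth.Agent.DepthLib.idealDepth_congr e]
  · rw [LocCoh.depth, ← Groth.Agent.DepthLib.idealDepth_congr e]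
    exact Groth.Agent.DepthLib.idealDepth_quotSMulTop_add_one hg hreg

end Groth.Agent.S2083
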