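import Groth.Statements.S2084
import Groth.Agent.Lib.Depth.CM
import Mathlib.RingTheory.KrullDimension.Basic

set_option autoImplicit false
universe u
open CAlg

namespace Groth.Agent.S2084

open IsLocalRing in
theorem supportDim_of_full {A M : Type u} [CommRing A] [AddCommGroup M] [Module A M]
    (h : Module.support A M = Set.univ) : Module.supportDim A M = ringKrullDim A := by
  rw [Module.supportDim, h]
  exact Order.krullDim_eq_of_orderIso OrderIso.Set.univ

theorem full_localized {A M : Type u} [CommRing A] [AddCommGroup M] [Module A M]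
    (h : Module.support A M = Set.univ) (q : Ideal A) [q.IsPrime] :
    Module.support (Localization.AtPrime q) (LocalizedModule q.primeCompl M) = Set.univ := by
  refine Set.eq_univ_of_forall fun P => ?_
  let p := PrimeSpectrum.comap (algebraMap A (Localization.AtPrime q)) P
  obtain ⟨m, hm⟩ := Module.mem_support_iff'.1 (h ▸ Set.mem_univ p : p ∈ Module.support A M)
  refine Module.mem_support_iff'.2 ⟨LocalizedModule.mkLinearMap q.primeCompl M m, fun a ha h0 => ?_⟩
  obtain ⟨r, s, rfl⟩ := IsLocalization.exists_mk'_eq q.primeCompl a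
  have hr : r ∉ p.asIdeal := fun hr => ha (by
    rw [IsLocalization.mk'_eq_mul_mk'_one (M := q.primeCompl)]
    exact P.asIdeal.mul_mem_right _ hr)
  have h1 : (algebraMap A (Localization.AtPrime q) r) • LocalizedModule.mkLinearMap q.primeCompl M m = 0 := by
    rw [← IsLocalization.mk'_spec' (M := q.primeCompl) (Localization.AtPrime q) r s, mul_smul, h0, smul_zero]
  rw [algebraMap_smul, ← map_smul, IsLocalizedModule.eq_zero_iff q.primeCompl] at h1
  obtain ⟨t, ht⟩ := h1
  rw [Submonoid.smul_def, ← mul_smul] at ht
  have htp : (t : A) ∉ p.asIdeal := fun h1 =>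
    P.isPrime.ne_top (Ideal.eq_top_of_isUnit_mem _ h1 (IsLocalization.map_units _ t))
  exact hm _ (fun h2 => (p.isPrime.mem_or_mem h2).elim htp hr) ht

theorem dim_formula {A M : Type u} [CommRing A] [IsLocalRing A] [IsNoetherianRing A] [AddCommGroup M]
    [Module A M] [Module.Finite A M] (hM : LocCoh.IsCohenMacaulayModule A M)
    (h : Module.support A M = Set.univ) (p : PrimeSpectrum A) :
    ringKrullDim A = ringKrullDim (A ⧸ p.asIdeal) + p.asIdeal.height := by
  have hp : (⟨p.asIdeal, p.isPrime⟩ : PrimeSpectrum A) ∈ Module.support A M := h ▸ Set.mem_univ _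
  obtain ⟨-, -, h3⟩ := DepthLib.isCohenMacaulayModule_localizedModule hM p.asIdeal hp
  rwa [supportDim_of_full h, supportDim_of_full (full_localized h p.asIdeal),
    IsLocalization.AtPrime.ringKrullDim_eq_height p.asIdeal (Localization.AtPrime p.asIdeal)] at h3

open Order in
theorem height_succ {R M : Type u} [CommRing R] [IsLocalRing R] [IsNoetherianRing R] [AddCommGroup M]
    [Module R M] [Module.Finite R M] (hM : LocCoh.IsCohenMacaulayModule R M)
    (hsupp : Module.support R M = Set.univ) {p q : PrimeSpectrum R} (h : p ⋖ q) :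
    q.asIdeal.height = p.asIdeal.height + 1 := by
  let S := Localization.AtPrime q.asIdeal
  have hqs : (⟨q.asIdeal, q.isPrime⟩ : PrimeSpectrum R) ∈ Module.support R M := hsupp ▸ Set.mem_univ _
  have hMS := (DepthLib.isCohenMacaulayModule_localizedModule hM q.asIdeal hqs).1
  have hd : Disjoint (q.asIdeal.primeCompl : Set R) (p.asIdeal : Set R) :=
    Set.disjoint_left.mpr fun a ha hap => ha (h.le hap)
  let p' : PrimeSpectrum S :=
    ⟨p.asIdeal.map (algebraMap R S), IsLocalization.isPrime_of_isPrime_disjoint q.asIdeal.primeCompl S _ p.2 hd⟩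
  have hc : PrimeSpectrum.comap (algebraMap R S) p' = p := PrimeSpectrum.ext
    (IsLocalization.under_map_of_isPrime_disjoint q.asIdeal.primeCompl S p.2 hd)
  have hm : PrimeSpectrum.comap (algebraMap R S) (IsLocalRing.closedPoint S) = q :=
    PrimeSpectrum.ext (IsLocalization.AtPrime.under_maximalIdeal S q.asIdeal)
  let e : PrimeSpectrum S ↪o PrimeSpectrum R := OrderEmbedding.ofMapLEIff (PrimeSpectrum.comap (algebraMap R S))
    fun a b => (IsLocalization.orderEmbedding q.asIdeal.primeCompl S).le_iff_le (a := a.asIdeal) (b := b.asIdeal)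
  have hlt : p' < IsLocalRing.closedPoint S := e.lt_iff_lt.mp (lt_of_eq_of_lt hc (lt_of_lt_of_eq h.lt hm.symm))
  have hle : ∀ x : PrimeSpectrum S, x ≤ IsLocalRing.closedPoint S := fun x => IsLocalRing.le_maximalIdeal x.2.ne_top
  have hcov : p' ⋖ IsLocalRing.closedPoint S := ⟨hlt, fun y hy1 hy2 =>
    h.2 (lt_of_eq_of_lt hc.symm (e.strictMono hy1)) (lt_of_lt_of_eq (e.strictMono hy2) hm)⟩
  have hco : coheight p' = 1 := by
    refine le_antisymm (coheight_le fun s hs => ?_) ?_
    · by_contra hl
      have hl' : 1 < s.length := by exact_mod_cast not_le.mp hl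
      have h1 : s ⟨0, by omega⟩ < s ⟨1, by omega⟩ := s.strictMono Nat.zero_lt_one
      have h2 : s ⟨1, by omega⟩ < s ⟨2, by omega⟩ := s.strictMono Nat.one_lt_two
      exact hcov.2 (lt_of_eq_of_lt hs.symm h1) (h2.trans_le (hle _))
    · rw [Order.one_le_iff_pos]
      exact Order.coheight_pos.mpr fun hmax => hlt.not_ge (hmax hlt.le)
  have hdim := dim_formula hMS (full_localized hsupp q.asIdeal) p'
  have hq : ringKrullDim (S ⧸ p'.asIdeal) = 1 := by
    rw [ringKrullDim_quotient]
    exact ((Order.coheight_eq_krullDim_Ici (x := p')).trans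
      (Order.krullDim_eq_of_orderIso (OrderIso.setCongr (Set.Ici p') _ rfl))).symm.trans (congrArg _ hco)
  rw [IsLocalization.AtPrime.ringKrullDim_eq_height q.asIdeal S, hq,
    show p'.asIdeal.height = p.asIdeal.height from IsLocalization.height_map_of_disjoint q.asIdeal.primeCompl p.asIdeal hd,
    add_comm] at hdim
  exact_mod_cast hdim


/-- Let `R` be a Noetherian local ring admitting a finite Cohen–Macaulay module whose support is all of
`Spec R`. Then every maximal chain of prime ideals (starting at a minimal prime, ending at the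
maximal ideal, with no prime strictly between consecutive members) has length equal to the dimension
of `R`. -/
theorem result {R M : Type u} [CommRing R] [IsLocalRing R] [IsNoetherianRing R]
    [AddCommGroup M] [Module R M] [Module.Finite R M] (hM : LocCoh.IsCohenMacaulayModule R M)
    (hsupp : Module.support R M = Set.univ) (s : LTSeries (PrimeSpectrum R))
    (hhead : s.head.asIdeal ∈ minimalPrimes R) (hlast : s.last.asIdeal = IsLocalRing.maximalIdeal R)
    (hsat : ∀ i : Fin s.length, s (Fin.castSucc i) ⋖ s (Fin.succ i)) :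
    (s.length : WithBot ℕ∞) = ringKrullDim R := by
  have key : ∀ i : Fin (s.length + 1), (s i).asIdeal.height = (i : ℕ) := by
    intro i
    induction i using Fin.induction with
    | zero => simpa [RelSeries.head] using Ideal.height_eq_zero_iff.2 hhead
    | succ i ih =>
      rw [height_succ hM hsupp (hsat i), ih, Fin.val_succ, Fin.val_castSucc]
      push_cast; ring
  rw [← IsLocalRing.maximalIdeal_height_eq_ringKrullDim, ← hlast]
  have h2 := key (Fin.last _)
  rw [show s (Fin.last _) = s.last from rfl] at h2
  rw [h2]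
  rfl

end Groth.Agent.S2084
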