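import Groth.Statements.S2085
import Groth.Agent.Lib.Depth.CM
import Groth.Agent.Lib.ClosedAlong.Criteria

set_option autoImplicit false
universe u
open CAlg

namespace Groth.Agent.S2085

lemma annihilator_le {R M : Type u} [CommRing R] [AddCommGroup M] [Module R M] [Module.Finite R M]
    (p q : Ideal R) [p.IsPrime] [q.IsPrime] (hqp : q ≤ p) (hq : Module.annihilator R M ≤ q) :
    Module.annihilator (Localization.AtPrime p) (LocalizedModule p.primeCompl M) ≤
      q.map (algebraMap R (Localization.AtPrime p)) := by
  classical
  intro z hz
  obtain ⟨r, s, rfl⟩ := IsLocalization.exists_mk'_eq p.primeCompl z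
  rw [Module.mem_annihilator] at hz
  have hm : ∀ m : M, ∃ t : R, t ∉ p ∧ t * r ∈ (Submodule.span R {m}).annihilator := by
    intro m
    have h := hz (LocalizedModule.mkLinearMap p.primeCompl M m)
    rw [← IsLocalizedModule.mk'_one p.primeCompl (LocalizedModule.mkLinearMap p.primeCompl M),
      IsLocalizedModule.mk'_smul_mk', IsLocalizedModule.mk'_eq_zero'] at h
    obtain ⟨t, ht⟩ := h
    refine ⟨t, t.2, (Submodule.mem_annihilator_span_singleton _ _).2 ?_⟩
    rwa [mul_smul, ← Submonoid.smul_def]
  choose t ht htr using hm
  obtain ⟨G, hG⟩ := Module.Finite.fg_top (R := R) (M := M)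
  have hann : (∏ m ∈ G, t m) * r ∈ Module.annihilator R M := by
    rw [← Submodule.annihilator_top, ← hG, Submodule.mem_annihilator_span]
    rintro ⟨m, hm⟩
    have hm' : m ∈ G := hm
    rw [← Finset.prod_erase_mul _ _ hm', mul_assoc, mul_smul,
      (Submodule.mem_annihilator_span_singleton _ _).1 (htr m), smul_zero]
  have hT : (∏ m ∈ G, t m) ∉ q := fun h => by
    obtain ⟨m, -, hm⟩ := (Ideal.IsPrime.prod_mem_iff (p := q)).1 h
    exact ht m (hqp hm)
  rw [IsLocalization.mk'_mem_iff]
  exact Ideal.mem_map_of_mem _ ((Ideal.IsPrime.mem_or_mem ‹q.IsPrime› (hq hann)).resolve_left hT)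


/-- Let `M` be a finite module over a Noetherian ring `R`. Then every associated prime of `M` is minimal
in the support of `M` (no embedded primes) if and only if `M` satisfies Serre's condition `(S_1)`. -/
theorem result {R M : Type u} [CommRing R] [IsNoetherianRing R] [AddCommGroup M] [Module R M]
    [Module.Finite R M] :
    (∀ p ∈ associatedPrimes R M, p ∈ (Module.annihilator R M).minimalPrimes) ↔ LocCoh.HasSk 1 R M := by
  constructor
  · intro h p _
    by_cases hp : p ∈ associatedPrimes R M
    · have hmin := h p hp
      have hsub : (Module.support (Localization.AtPrime p) (LocalizedModule p.primeCompl M)).Subsingleton := by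
        intro a ha b hb
        have key : ∀ q ∈ Module.support (Localization.AtPrime p) (LocalizedModule p.primeCompl M),
            PrimeSpectrum.comap (algebraMap R (Localization.AtPrime p)) q = ⟨p, inferInstance⟩ := by
          intro q hq
          have h1 := DepthLib.mem_support_comap p hq
          have hle : (PrimeSpectrum.comap (algebraMap R (Localization.AtPrime p)) q).asIdeal ≤ p :=
            (Ideal.comap_mono (IsLocalRing.le_maximalIdeal q.isPrime.ne_top)).trans
              (Localization.AtPrime.under_maximalIdeal).le
          exact PrimeSpectrum.ext (le_antisymm hle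
            (hmin.2 ⟨(PrimeSpectrum.comap _ q).isPrime, Module.annihilator_le_of_mem_support h1⟩ hle))
        exact PrimeSpectrum.localization_comap_injective (Localization.AtPrime p) p.primeCompl
          ((key a ha).trans (key b hb).symm)
      have : Subsingleton (Module.support (Localization.AtPrime p) (LocalizedModule p.primeCompl M)) :=
        hsub.coe_sort
      refine (min_le_right _ _).trans ((?_ : Module.supportDim _ _ ≤ 0).trans (WithBot.coe_le_coe.2 bot_le))
      exact Order.krullDim_nonpos_of_subsingleton
    · refine (min_le_left _ _).trans ?_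
      have := ClosedAlong.one_le_depth_of_notMem_associatedPrimes p hp
      exact_mod_cast this
  · intro h p hp
    have hpp : p.IsPrime := IsAssociatedPrime.isPrime hp
    have hann : Module.annihilator R M ≤ p :=
      Module.annihilator_le_of_mem_support (DepthLib.mem_support_of_mem_associatedPrimes hp)
    obtain ⟨q, hq, hqp⟩ := Ideal.exists_minimalPrimes_le hann
    haveI := hq.1.1
    by_contra hne
    have hlt : q < p := lt_of_le_of_ne hqp fun e => hne (e ▸ hq)
    have hdisj : Disjoint (p.primeCompl : Set R) (q : Set R) :=
      Set.disjoint_left.2 fun x hx hxq => hx (hqp hxq)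
    haveI hQ : (q.map (algebraMap R (Localization.AtPrime p))).IsPrime :=
      IsLocalization.isPrime_of_isPrime_disjoint p.primeCompl _ q inferInstance hdisj
    let Q : PrimeSpectrum (Localization.AtPrime p) := ⟨_, hQ⟩
    have hQmem : Q ∈ Module.support (Localization.AtPrime p) (LocalizedModule p.primeCompl M) := by
      rw [Module.support_eq_zeroLocus]
      exact annihilator_le p q hqp hq.1.2
    let P : PrimeSpectrum (Localization.AtPrime p) := ⟨IsLocalRing.maximalIdeal _, inferInstance⟩
    have hPQ : Q < P := lt_of_le_of_ne (IsLocalRing.le_maximalIdeal hQ.ne_top) fun e => hlt.ne (by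
      have h1 : (q.map (algebraMap R (Localization.AtPrime p))).comap (algebraMap R _) = q :=
        IsLocalization.under_map_of_isPrime_disjoint p.primeCompl (Localization.AtPrime p) inferInstance hdisj
      rw [← h1, show q.map (algebraMap R (Localization.AtPrime p)) = IsLocalRing.maximalIdeal _ from
        congrArg PrimeSpectrum.asIdeal e]
      exact Localization.AtPrime.under_maximalIdeal)
    have hPmem : P ∈ Module.support (Localization.AtPrime p) (LocalizedModule p.primeCompl M) :=
      Module.mem_support_mono hPQ.le hQmem
    have h1 : (1 : WithBot ℕ∞) ≤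
        Module.supportDim (Localization.AtPrime p) (LocalizedModule p.primeCompl M) :=
      Order.one_le_krullDim_iff.2 ⟨⟨Q, hQmem⟩, ⟨P, hPmem⟩, hPQ⟩
    have h2 := h p
    rw [Nat.cast_one, min_eq_left h1] at h2
    exact ClosedAlong.notMem_associatedPrimes_of_one_le_depth p (by exact_mod_cast h2) hp

end Groth.Agent.S2085
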