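import Groth.Statements.S2088
import Groth.Agent.Lib.ResExt.Basic

set_option autoImplicit false
universe u
open CAlg

namespace Groth.Agent.S2088

/-- Let `(R, 𝔪, k)` be a local ring and `K/k` a field extension. Then there is a flat local homomorphism
of local rings `R → R'` with `𝔪R' = 𝔪_{R'}` whose residue field is isomorphic to `K` over `k`. -/
theorem result {R K : Type u} [CommRing R] [IsLocalRing R] [Field K]
    [Algebra (IsLocalRing.ResidueField R) K] :
    ∃ (R' : Type u) (_ : CommRing R') (_ : IsLocalRing R') (_ : Algebra R R') (_ : IsLocalHom (algebraMap R R')),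
      Module.Flat R R' ∧ (IsLocalRing.maximalIdeal R).map (algebraMap R R') = IsLocalRing.maximalIdeal R' ∧
      Nonempty (IsLocalRing.ResidueField R' ≃ₐ[IsLocalRing.ResidueField R] K) := by
  obtain ⟨R', i1, i2, i3, i4, φ, hflat, hmap, hsurj, hker, hcomm⟩ := Groth.Agent.ResExt.exists_flat_local_extension (R := R) (K := K)
  refine ⟨R', i1, i2, i3, i4, hflat, hmap, ⟨AlgEquiv.ofRingEquiv
    (f := (Ideal.quotEquivOfEq hker.symm).trans (RingHom.quotientKerEquivOfSurjective hsurj)) fun c => ?_⟩⟩
  obtain ⟨r, rfl⟩ := IsLocalRing.residue_surjective c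
  exact hcomm r

end Groth.Agent.S2088
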