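import Groth.Statements.S2089
import Groth.Agent.Lib.Depth.CM

set_option autoImplicit false
universe u
open CAlg

namespace Groth.Agent.S2089

/-- Let `R` be a Noetherian local ring and `M` a finite `R`-module. For every associated prime `𝔭` of
`M` the depth of `M` is at most the dimension of `R/𝔭`. -/
theorem result {R M : Type u} [CommRing R] [IsLocalRing R] [IsNoetherianRing R]
    [AddCommGroup M] [Module R M] [Module.Finite R M] (p : Ideal R) (hp : p ∈ associatedPrimes R M) :
    ((LocCoh.depth R M : ℕ∞) : WithBot ℕ∞) ≤ ringKrullDim (R ⧸ p) := by
  exact DepthLib.depth_le_of_mem_associatedPrimes hp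

end Groth.Agent.S2089
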