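import Groth.Statements.S2090
import Groth.Agent.Lib.Depth.More
import Mathlib

set_option autoImplicit false
universe u
open CAlg

namespace Groth.Agent.S2090




/-- Let `R` be Noetherian and `φ : M → N` a map of `R`-modules with `M` finite. Suppose that for every
prime `𝔭` either `φ_𝔭` is bijective, or `M_𝔭` has depth at least two and `𝔭` is not an associated
prime of `N`. Then `φ` is bijective. -/
theorem result {R M N : Type u} [CommRing R] [IsNoetherianRing R] [AddCommGroup M]
    [Module R M] [Module.Finite R M] [AddCommGroup N] [Module R N] (φ : M →ₗ[R] N)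
    (h : ∀ (p : Ideal R) [p.IsPrime],
      Function.Bijective (LocalizedModule.map p.primeCompl φ) ∨
        (2 ≤ LocCoh.depth (Localization.AtPrime p) (LocalizedModule p.primeCompl M) ∧
          p ∉ associatedPrimes R N)) :
    Function.Bijective φ := by
  classical
  have nak : ∀ (p : Ideal R) [p.IsPrime], Nontrivial (LocalizedModule p.primeCompl M) →
      IsLocalRing.maximalIdeal (Localization.AtPrime p) • (⊤ : Submodule (Localization.AtPrime p) (LocalizedModule p.primeCompl M)) ≠ ⊤ := by
    intro p _ hn he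
    haveI : Module.Finite (Localization.AtPrime p) (LocalizedModule p.primeCompl M) :=
      Module.Finite.of_isLocalizedModule p.primeCompl (LocalizedModule.mkLinearMap p.primeCompl M)
    exact not_subsingleton (LocalizedModule p.primeCompl M) (Submodule.subsingleton_iff (Localization.AtPrime p) |>.1 (subsingleton_of_bot_eq_top
      (Submodule.eq_bot_of_le_smul_of_le_jacobson_bot _ ⊤ Module.Finite.fg_top he.ge
        (IsLocalRing.maximalIdeal_le_jacobson _)).symm))
  have hinj : Function.Injective φ := by
    rw [← LinearMap.ker_eq_bot]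
    by_contra hK
    haveI : Nontrivial (LinearMap.ker φ) := Submodule.nontrivial_iff_ne_bot.2 hK
    obtain ⟨p, hp⟩ := associatedPrimes.nonempty R (LinearMap.ker φ)
    obtain ⟨hpr, z, hz⟩ := isAssociatedPrime_iff.1 hp
    have hmem : ∀ r, r ∈ p ↔ r • z.1 = 0 := fun r => by
      rw [hz, Submodule.mem_colon_singleton, Submodule.mem_bot, ← Submodule.coe_smul, Submodule.coe_eq_zero]
    haveI := hpr
    have hz1 : (LocalizedModule.mk z.1 1 : LocalizedModule p.primeCompl M) ≠ 0 := by
      rw [← LocalizedModule.zero_mk 1, Ne, LocalizedModule.mk_eq]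
      rintro ⟨u, hu⟩
      exact u.2 ((hmem u).2 (by simpa [Submonoid.smul_def] using hu))
    rcases h p with hb | ⟨hd, -⟩
    · refine hz1 (hb.1 ?_)
      rw [LocalizedModule.map_mk, map_zero, LinearMap.mem_ker.1 z.2, LocalizedModule.zero_mk]
    · haveI : Nontrivial (LocalizedModule p.primeCompl M) := ⟨⟨_, 0, hz1⟩⟩
      obtain ⟨x, hx, hxr⟩ := Groth.Agent.DepthLib.exists_isSMulRegular_of_one_le_idealDepth (nak p inferInstance)
        (le_trans (by norm_num) hd)
      obtain ⟨⟨r, s⟩, hrs⟩ := IsLocalization.surj p.primeCompl x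
      have hr : r ∈ p := (IsLocalization.AtPrime.to_map_mem_maximal_iff _ p r).1 (hrs ▸ Ideal.mul_mem_right _ _ hx)
      refine hz1 ((IsLocalization.map_units (Localization.AtPrime p) s).smul_eq_zero.1 (hxr ?_))
      show x • _ = x • (0 : LocalizedModule p.primeCompl M)
      rw [smul_zero, smul_smul, hrs, algebraMap_smul, LocalizedModule.smul'_mk, (hmem r).1 hr, LocalizedModule.zero_mk]
  refine ⟨hinj, LinearMap.range_eq_top.1 ?_⟩
  by_contra hQ
  haveI : Nontrivial (N ⧸ LinearMap.range φ) := Submodule.Quotient.nontrivial_iff.2 hQ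
  obtain ⟨p, hp⟩ := associatedPrimes.nonempty R (N ⧸ LinearMap.range φ)
  obtain ⟨hpr, zb, hzb⟩ := isAssociatedPrime_iff.1 hp
  obtain ⟨z, rfl⟩ := Submodule.Quotient.mk_surjective _ zb
  haveI := hpr
  have hmem : ∀ r, r ∈ p ↔ r • z ∈ LinearMap.range φ := fun r => by
    rw [hzb, Submodule.mem_colon_singleton, Submodule.mem_bot, ← Submodule.Quotient.mk_smul, Submodule.Quotient.mk_eq_zero]
  let Rp := Localization.AtPrime p
  let S := p.primeCompl
  let φp := LocalizedModule.map S φ
  let z1 : LocalizedModule S N := LocalizedModule.mk z 1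
  have hnot : ∀ c, φp c ≠ z1 := by
    intro c hc
    induction c using LocalizedModule.induction_on with
    | h a s =>
      rw [LocalizedModule.map_mk, LocalizedModule.mk_eq] at hc
      obtain ⟨u, hu⟩ := hc
      simp only [Submonoid.smul_def, one_smul, smul_smul, OneMemClass.coe_one, mul_one] at hu
      exact (u * s).2 ((hmem _).2 ⟨(u : R) • a, by rw [map_smul]; exact hu⟩)
  rcases h p with hb | ⟨hd, hpN⟩
  · obtain ⟨c, hc⟩ := hb.2 z1
    exact hnot c hc
  have hφp : Function.Injective φp := LocalizedModule.map_injective S φ hinj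
  have hlift : ∀ w ∈ IsLocalRing.maximalIdeal Rp, ∃ e, φp e = w • z1 := by
    intro w hw
    obtain ⟨r, s, rfl⟩ := IsLocalization.exists_mk'_eq S w
    obtain ⟨a, ha⟩ := (hmem r).1 ((IsLocalization.AtPrime.mk'_mem_maximal_iff Rp p r s).1 hw)
    refine ⟨LocalizedModule.mk a s, ?_⟩
    rw [LocalizedModule.map_mk]
    show _ = IsLocalization.mk' (Localization p.primeCompl) r s • LocalizedModule.mk z 1
    rw [← Localization.mk_eq_mk', LocalizedModule.mk_smul_mk, mul_one, ha]
  by_cases hs : Subsingleton (LocalizedModule S M)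
  · refine hpN ?_
    refine isAssociatedPrime_iff.2 ?_
    have hkill : ∀ r ∈ p, ∃ t : S, (t : R) • r • z = 0 := by
      intro r hr
      obtain ⟨e, he⟩ := hlift _ ((IsLocalization.AtPrime.to_map_mem_maximal_iff Rp p r).2 hr)
      rw [Subsingleton.elim e 0, map_zero, algebraMap_smul, LocalizedModule.smul'_mk, ← LocalizedModule.zero_mk 1,
        LocalizedModule.mk_eq] at he
      obtain ⟨t, ht⟩ := he
      exact ⟨t, by simpa [Submonoid.smul_def] using ht.symm⟩
    obtain ⟨t, ht⟩ := IsNoetherian.noetherian p
    choose u hu using fun r : t => hkill r.1 (ht ▸ Submodule.subset_span r.2)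
    refine ⟨hpr, (∏ r, (u r : R)) • z, le_antisymm (fun r hr => ?_) fun r hr => ?_⟩
    · rw [Submodule.mem_colon_singleton, Submodule.mem_bot]
      rw [← ht] at hr
      induction hr using Submodule.span_induction with
      | zero => simp
      | add a b _ _ ha hb => rw [add_smul, ha, hb, add_zero]
      | smul c a _ ha => rw [smul_eq_mul, mul_smul, ha, smul_zero]
      | mem a ha =>
        rw [← Finset.prod_erase_mul Finset.univ _ (Finset.mem_univ (⟨a, ha⟩ : t)), mul_smul, smul_comm a,
          smul_comm a, hu, smul_zero]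
    · rw [Submodule.mem_colon_singleton, Submodule.mem_bot, smul_smul] at hr
      by_contra hrp
      have hm : (r * ∏ q, (u q : R)) ∈ S :=
        mul_mem (show r ∈ S from hrp) (Submonoid.prod_mem _ fun q _ => (u q).2)
      refine hnot 0 ?_
      rw [map_zero, eq_comm, ← LocalizedModule.zero_mk 1, LocalizedModule.mk_eq]
      exact ⟨⟨_, hm⟩, by simpa [Submonoid.smul_def] using hr⟩
  haveI := not_subsingleton_iff_nontrivial.1 hs
  obtain ⟨rs, h1, h2, h3⟩ := Groth.Agent.DepthLib.exists_isWeaklyRegular_of_le_idealDepth (nak p inferInstance) (n := 2)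
    (by exact_mod_cast hd)
  obtain ⟨x, y, rfl⟩ := List.length_eq_two.1 h3
  rw [RingTheory.Sequence.isWeaklyRegular_cons_iff, RingTheory.Sequence.isWeaklyRegular_singleton_iff] at h1
  obtain ⟨a, ha⟩ := hlift x (h2 x (by simp))
  obtain ⟨b, hb⟩ := hlift y (h2 y (by simp))
  have hya : y • a = x • b := hφp (by rw [map_smul, map_smul, ha, hb, smul_comm])
  obtain ⟨c, rfl⟩ : ∃ c, x • c = a := by
    have : Submodule.Quotient.mk a ∈ (⊥ : Submodule Rp (QuotSMulTop x (LocalizedModule S M))) := by
      rw [Submodule.mem_bot]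
      refine h1.2 ?_
      show y • Submodule.Quotient.mk a = y • (0 : QuotSMulTop x (LocalizedModule S M))
      rw [smul_zero, ← Submodule.Quotient.mk_smul, hya, Submodule.Quotient.mk_eq_zero]
      exact Submodule.smul_mem_pointwise_smul b x ⊤ Submodule.mem_top
    rw [Submodule.mem_bot, Submodule.Quotient.mk_eq_zero] at this
    obtain ⟨c, -, hc⟩ := (Submodule.mem_smul_pointwise_iff_exists _ _ _).1 this
    exact ⟨c, hc⟩
  have hw0 : ∀ w ∈ IsLocalRing.maximalIdeal Rp, w • (z1 - φp c) = 0 := by
    intro w hw
    obtain ⟨e, he⟩ := hlift w hw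
    have h4 : x • e = x • (w • c) := hφp (by
      rw [map_smul, he, smul_comm, ← ha, map_smul, map_smul, map_smul]
      exact smul_comm w x _)
    rw [smul_sub, ← he, h1.1 h4, map_smul, sub_self]
  induction c using LocalizedModule.induction_on with
  | h m s =>
    let n := (s : R) • z - φ m
    have hn : z1 - φp (LocalizedModule.mk m s) = LocalizedModule.mk n s := by
      rw [LocalizedModule.map_mk, sub_eq_iff_eq_add, LocalizedModule.mk_add_mk, LocalizedModule.mk_eq]
      refine ⟨1, ?_⟩
      simp only [n, Submonoid.smul_def, Submonoid.coe_mul, one_smul, OneMemClass.coe_one, smul_sub, smul_add,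
        mul_smul, sub_add_cancel]
    have hkill : ∀ r ∈ p, ∃ t : S, (t : R) • r • n = 0 := by
      intro r hr
      have := hw0 _ ((IsLocalization.AtPrime.to_map_mem_maximal_iff Rp p r).2 hr)
      rw [hn, algebraMap_smul, LocalizedModule.smul'_mk, ← LocalizedModule.zero_mk s, LocalizedModule.mk_eq] at this
      obtain ⟨t, ht⟩ := this
      exact ⟨t * s, by simpa [Submonoid.smul_def, mul_smul] using ht⟩
    obtain ⟨t, ht⟩ := IsNoetherian.noetherian p
    choose u hu using fun r : t => hkill r.1 (ht ▸ Submodule.subset_span r.2)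
    refine hpN (isAssociatedPrime_iff.2 ⟨hpr, (∏ r, (u r : R)) • n, le_antisymm (fun r hr => ?_) fun r hr => ?_⟩)
    · rw [Submodule.mem_colon_singleton, Submodule.mem_bot]
      rw [← ht] at hr
      induction hr using Submodule.span_induction with
      | zero => simp
      | add a b _ _ ha hb => rw [add_smul, ha, hb, add_zero]
      | smul c a _ ha => rw [smul_eq_mul, mul_smul, ha, smul_zero]
      | mem a ha =>
        rw [← Finset.prod_erase_mul Finset.univ _ (Finset.mem_univ (⟨a, ha⟩ : t)), mul_smul, smul_comm a,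
          smul_comm a, hu, smul_zero]
    · rw [Submodule.mem_colon_singleton, Submodule.mem_bot, smul_smul] at hr
      by_contra hrp
      have hm : (r * ∏ q, (u q : R)) ∈ S :=
        mul_mem (show r ∈ S from hrp) (Submonoid.prod_mem _ fun q _ => (u q).2)
      refine hnot (LocalizedModule.mk m s) (sub_eq_zero.1 ?_).symm
      rw [hn, ← LocalizedModule.zero_mk 1, LocalizedModule.mk_eq]
      exact ⟨⟨_, hm⟩, by simpa [Submonoid.smul_def] using hr⟩

end Groth.Agent.S2090
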