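import Groth.Statements.S2093
import Groth.Agent.Lib.CAlgLow.AnUnramNagata
import Groth.Agent.Lib.FlatDepth.CplQuot
import Groth.Agent.Lib.CplLocH7.Basic
import Mathlib

set_option autoImplicit false
universe u
open CAlg

namespace Groth.Agent.S2093

/-- Let `(R, 𝔪)` be a Noetherian local domain and `x ∈ 𝔪` nonzero such that `R/xR` has no embedded
associated primes, and for every associated prime `𝔭` of `R/xR` the local ring `R_𝔭` is regular and
the completion of `R/𝔭` is reduced. Then the completion of `R` is reduced. -/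
theorem result {R : Type u} [CommRing R] [IsDomain R] [IsLocalRing R]
    [IsNoetherianRing R] (x : R) (hx : x ≠ 0) (hxm : x ∈ IsLocalRing.maximalIdeal R)
    (hemb : ∀ p ∈ associatedPrimes R (R ⧸ Ideal.span {x}), p ∈ (Ideal.span {x}).minimalPrimes)
    (hreg : ∀ p ∈ associatedPrimes R (R ⧸ Ideal.span {x}), ∀ (_ : p.IsPrime),
      IsRegularLocalRing (Localization.AtPrime p) ∧
        IsReduced (AdicCompletion ((IsLocalRing.maximalIdeal R).map (Ideal.Quotient.mk p)) (R ⧸ p))) :
    IsReduced (AdicCompletion (IsLocalRing.maximalIdeal R) R) := by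
  classical
  haveI : Module.FaithfullyFlat R (AdicCompletion (IsLocalRing.maximalIdeal R) R) := CplLocH7.faithfullyFlat_cpl R
  haveI : IsNoetherianRing (AdicCompletion (IsLocalRing.maximalIdeal R) R) := CplLocH7.isNoetherianRing_cpl R
  haveI : Module.Flat R (AdicCompletion (IsLocalRing.maximalIdeal R) R) := inferInstance
  refine AnUnram.isReduced_of_reduced_quotients (AdicCompletion (IsLocalRing.maximalIdeal R) R) hx (fun p hp => ?_)
    (fun p hp => ?_) fun z hz => ?_
  · haveI := hp.isPrime
    obtain ⟨hreg', -⟩ := hreg p hp hp.isPrime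
    have hxp : x ∈ p := (hemb p hp).1.2 (Ideal.mem_span_singleton_self x)
    let A := Localization.AtPrime p
    haveI : IsRegularLocalRing A := hreg'
    have hinj : Function.Injective (algebraMap R A) := IsLocalization.injective A p.primeCompl_le_nonZeroDivisors
    have hh : p.height = 1 := by
      refine le_antisymm (Ideal.height_le_one_of_isPrincipal_of_mem_minimalPrimes (Ideal.span {x}) p (hemb p hp)) ?_
      have hlt : (⊥ : Ideal R) < p := bot_lt_iff_ne_bot.mpr fun h => hx (by simpa [h] using hxp)
      exact Order.one_le_iff_pos.mpr (lt_of_le_of_lt zero_le (Ideal.height_strict_mono_of_isPrime hlt))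
    have hdim : ringKrullDim A = 1 := by rw [IsLocalization.AtPrime.ringKrullDim_eq_height p A, hh]; rfl
    have hnf : ¬ IsField A := fun hf => by
      rw [ringKrullDim_eq_zero_of_isField hf] at hdim
      exact zero_ne_one hdim
    haveI : IsDiscreteValuationRing A := by
      refine ((IsDiscreteValuationRing.TFAE A hnf).out 0 4).2 ?_
      have hfin := (isRegularLocalRing_iff (R := A)).mp hreg'
      rw [hdim] at hfin
      have h1 : (IsLocalRing.maximalIdeal A).spanFinrank = 1 := by exact_mod_cast hfin
      exact ((Submodule.spanFinrank_eq_one_iff _).mp h1).1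
    obtain ⟨ϖ, hϖ⟩ := IsDiscreteValuationRing.exists_irreducible A
    obtain ⟨π, t, hπt⟩ := IsLocalization.exists_mk'_eq p.primeCompl ϖ
    have hassoc : Associated ϖ (algebraMap R A π) := by
      refine ⟨(IsLocalization.map_units A t).unit, ?_⟩
      rw [IsUnit.unit_spec, ← hπt, IsLocalization.mk'_spec]
    have hspan : p.map (algebraMap R A) = (Ideal.span {π}).map (algebraMap R A) := by
      rw [Ideal.map_span, Set.image_singleton]
      refine (IsLocalization.AtPrime.map_eq_maximalIdeal p A).trans ?_
      rw [hϖ.maximalIdeal_eq]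
      exact Ideal.span_singleton_eq_span_singleton.mpr hassoc
    have hπ0 : π ≠ 0 := fun h => hϖ.ne_zero (by rw [← hπt, h, IsLocalization.mk'_zero])
    obtain ⟨k, hk⟩ := IsDiscreteValuationRing.associated_pow_irreducible
      (x := algebraMap R A x) (fun h => hx (hinj (h.trans (map_zero _).symm))) hϖ
    have hkπ : algebraMap R A (π ^ k) ∈ (Ideal.span {x}).map (algebraMap R A) := by
      rw [Ideal.map_span, Set.image_singleton, Ideal.mem_span_singleton, map_pow]
      exact (hk.trans hassoc.pow_pow).dvd
    obtain ⟨u, hu, hux⟩ := (IsLocalization.algebraMap_mem_map_algebraMap_iff p.primeCompl A _ _).mp hkπ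
    obtain ⟨G, hG⟩ := IsNoetherian.noetherian p
    choose s hs hsG using fun a : G => (IsLocalization.algebraMap_mem_map_algebraMap_iff p.primeCompl A _ _).mp
      (hspan ▸ Ideal.mem_map_of_mem (algebraMap R A) (hG ▸ Submodule.subset_span a.2 : (a : R) ∈ p))
    refine ⟨π, ∏ a, s a, hπ0, fun h => ?_, fun a ha => ?_, k, u, hu, hux⟩
    · obtain ⟨i, -, hi⟩ := (hp.isPrime).prod_mem_iff.mp h
      exact hs i hi
    · rw [← hG] at ha
      induction ha using Submodule.span_induction with
      | mem a ha =>
        have := Ideal.mul_mem_left (Ideal.span {π}) (∏ b ∈ Finset.univ.erase (⟨a, ha⟩ : G), s b) (hsG ⟨a, ha⟩)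
        rwa [← mul_assoc, Finset.prod_erase_mul _ _ (Finset.mem_univ _)] at this
      | zero => rw [mul_zero]; exact zero_mem _
      | add a b _ _ ha hb => rw [mul_add]; exact add_mem ha hb
      | smul c a _ ha => rw [smul_eq_mul, mul_left_comm]; exact Ideal.mul_mem_left _ _ ha
  · haveI := hp.isPrime
    obtain ⟨-, hred⟩ := hreg p hp hp.isPrime
    haveI : IsLocalRing (R ⧸ p) := IsLocalRing.of_surjective' (Ideal.Quotient.mk p) Ideal.Quotient.mk_surjective
    rw [IsLocalRing.map_maximalIdeal_of_surjective _ Ideal.Quotient.mk_surjective] at hred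
    have hk : p.map (algebraMap R (AdicCompletion (IsLocalRing.maximalIdeal R) R)) =
        RingHom.ker (FlatDepth.cplQuotHom R (R ⧸ p) Ideal.Quotient.mk_surjective) :=
      (congrArg (Ideal.map (algebraMap R (AdicCompletion (IsLocalRing.maximalIdeal R) R))) (Ideal.mk_ker).symm).trans
        (FlatDepth.ker_cplQuotHom R (R ⧸ p) Ideal.Quotient.mk_surjective).symm
    rw [hk]
    haveI : IsReduced (EGA4.Cpl (R ⧸ p)) := hred
    exact AnUnram.isReduced_quotient_ker _
  · rw [← Submodule.mem_bot (AdicCompletion (IsLocalRing.maximalIdeal R) R),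
      ← Ideal.iInf_pow_eq_bot_of_isLocalRing (IsLocalRing.maximalIdeal (AdicCompletion (IsLocalRing.maximalIdeal R) R))
      (IsLocalRing.maximalIdeal.isMaximal _).ne_top, Submodule.mem_iInf]
    intro n
    obtain ⟨w, rfl⟩ := hz n
    rw [Algebra.smul_def, map_pow]
    refine Ideal.mul_mem_right _ _ (Ideal.pow_mem_pow ?_ n)
    rw [CplLocH7.maximalIdeal_cpl R]
    exact Ideal.mem_map_of_mem _ hxm

end Groth.Agent.S2093
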