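import Groth.Statements.S2094
import Groth.Agent.Lib.SmoothRetractH7.Sym
import Mathlib

set_option autoImplicit false
universe u
open CAlg

namespace Groth.Agent.S2094


open TrivSqZeroExt


/-- The symmetric algebra of an `A`-module is a smooth `A`-algebra exactly when the module is finite
projective. -/
theorem result {A M : Type u} [CommRing A] [AddCommGroup M] [Module A M] :
    Algebra.Smooth A (SymmetricAlgebra A M) ↔ Module.Finite A M ∧ Module.Projective A M := by
  constructor
  · intro h
    letI : Module Aᵐᵒᵖ M := Module.compHom _ ((RingHom.id A).fromOpposite mul_comm)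
    haveI : IsCentralScalar A M := ⟨fun r m => rfl⟩
    refine ⟨?_, ?_⟩
    · classical
      obtain ⟨T, hT⟩ := (inferInstance : Algebra.FiniteType A (SymmetricAlgebra A M)).out
      have hcov : ∀ x : SymmetricAlgebra A M, ∃ t : Finset M,
          x ∈ Algebra.adjoin A (SymmetricAlgebra.ι A M '' (t : Set M)) := by
        intro x
        induction x using SymmetricAlgebra.induction with
        | algebraMap r => exact ⟨∅, Subalgebra.algebraMap_mem _ r⟩
        | ι m => exact ⟨{m}, Algebra.subset_adjoin ⟨m, by simp, rfl⟩⟩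
        | add a b ha hb =>
          obtain ⟨s, hs⟩ := ha
          obtain ⟨t, ht⟩ := hb
          exact ⟨s ∪ t, add_mem
            (Algebra.adjoin_mono (Set.image_mono (by simp)) hs) (Algebra.adjoin_mono (Set.image_mono (by simp)) ht)⟩
        | mul a b ha hb =>
          obtain ⟨s, hs⟩ := ha
          obtain ⟨t, ht⟩ := hb
          exact ⟨s ∪ t, mul_mem
            (Algebra.adjoin_mono (Set.image_mono (by simp)) hs) (Algebra.adjoin_mono (Set.image_mono (by simp)) ht)⟩
      choose t ht using hcov
      let s : Finset M := T.biUnion t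
      let N : Submodule A M := Submodule.span A (s : Set M)
      letI : Module Aᵐᵒᵖ (M ⧸ N) := Module.compHom _ ((RingHom.id A).fromOpposite mul_comm)
      haveI : IsCentralScalar A (M ⧸ N) := ⟨fun r m => rfl⟩
      let φ : SymmetricAlgebra A M →ₐ[A] TrivSqZeroExt A (M ⧸ N) :=
        SymmetricAlgebra.lift ((TrivSqZeroExt.inrHom A (M ⧸ N)).comp N.mkQ)
      let ψ : SymmetricAlgebra A M →ₐ[A] TrivSqZeroExt A (M ⧸ N) :=
        SymmetricAlgebra.lift 0
      have htop : (⊤ : Subalgebra A (SymmetricAlgebra A M)) ≤ AlgHom.equalizer φ ψ := by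
        rw [← hT, Algebra.adjoin_le_iff]
        intro x hx
        refine Algebra.adjoin_le_iff.2 ?_ (ht x)
        rintro _ ⟨m, hm, rfl⟩
        have hm' : m ∈ N := Submodule.subset_span (Finset.mem_biUnion.2 ⟨x, hx, hm⟩)
        show φ (SymmetricAlgebra.ι A M m) = ψ (SymmetricAlgebra.ι A M m)
        simp [φ, ψ, (Submodule.Quotient.mk_eq_zero N).2 hm']
      refine ⟨⟨s, eq_top_iff.2 fun m _ => ?_⟩⟩
      have h1 : φ (SymmetricAlgebra.ι A M m) = ψ (SymmetricAlgebra.ι A M m) :=
        htop (x := SymmetricAlgebra.ι A M m) trivial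
      simp [φ, ψ] at h1
      exact (Submodule.Quotient.mk_eq_zero N).1 (TrivSqZeroExt.inr_injective (h1.trans (TrivSqZeroExt.inr_zero A).symm))
    · let π : (M →₀ A) →ₗ[A] M := Finsupp.linearCombination A (id : M → M)
      let g := TrivSqZeroExt.map π
      have hg : Function.Surjective g := fun x => by
        obtain ⟨f, hf⟩ := Finsupp.linearCombination_id_surjective A M x.snd
        exact ⟨inl x.fst + inr f, by ext <;> simp [g, π, hf]⟩
      have hnil : IsNilpotent (RingHom.ker g) := ⟨2, by
        rw [Submodule.pow_succ, Submodule.pow_one, Ideal.zero_eq_bot, eq_bot_iff, Ideal.mul_le]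
        intro x hx y hy
        have h1 : x.fst = 0 := by
          have := congrArg TrivSqZeroExt.fst (RingHom.mem_ker.1 hx); simpa [g] using this
        have h2 : y.fst = 0 := by
          have := congrArg TrivSqZeroExt.fst (RingHom.mem_ker.1 hy); simpa [g] using this
        rw [Submodule.mem_bot]
        ext <;> simp [TrivSqZeroExt.fst_mul, TrivSqZeroExt.snd_mul, h1, h2]⟩
      let f : SymmetricAlgebra A M →ₐ[A] TrivSqZeroExt A M :=
        SymmetricAlgebra.lift (TrivSqZeroExt.inrHom A M)
      let l := Algebra.FormallySmooth.liftOfSurjective f g hg hnil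
      refine Module.Projective.of_split
        ((TrivSqZeroExt.sndHom A (M →₀ A)).comp (l.toLinearMap.comp (SymmetricAlgebra.ι A M))) π (LinearMap.ext fun m => ?_)
      have h1 : g (l (SymmetricAlgebra.ι A M m)) = f (SymmetricAlgebra.ι A M m) :=
        Algebra.FormallySmooth.liftOfSurjective_apply f g hg hnil _
      have h2 := congrArg TrivSqZeroExt.snd h1
      simpa [g, f, π] using h2
  · rintro ⟨h1, h2⟩
    exact ⟨Groth.Agent.SmoothRetractH7.formallySmooth_symmetricAlgebra A M,
      Groth.Agent.SmoothRetractH7.finitePresentation_symmetricAlgebra A M⟩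

end Groth.Agent.S2094
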