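import Groth.Statements.S2095
import Groth.Agent.Lib.AdicSmooth.Deriv
import Mathlib

set_option autoImplicit false
universe u
open CAlg

namespace Groth.Agent.S2095

open TensorProduct in
/-- Let `R → S` be a ring map, `𝔫 ⊆ S` an ideal and `R → R'` a ring map admitting an `R`-linear
retraction. If `R' → R' ⊗ S` is formally smooth for the adic topology of the extension of `𝔫`, then
`R → S` is formally smooth for the `𝔫`-adic topology. -/
theorem result {R S R' : Type u} [CommRing R] [CommRing S] [Algebra R S]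
    (𝔫 : Ideal S) [CommRing R'] [Algebra R R'] (ρ : R' →ₗ[R] R) (hρ : ∀ r : R, ρ (algebraMap R R' r) = r)
    (h : CAlgX.IsAdicFormallySmooth R' (R' ⊗[R] S)
      (𝔫.map (Algebra.TensorProduct.includeRight : S →ₐ[R] R' ⊗[R] S))) :
    CAlgX.IsAdicFormallySmooth R S 𝔫 := by
  intro A _ _ J hJ ψ hψ
  obtain ⟨k, hk⟩ := hψ
  let inA : A →ₐ[R] R' ⊗[R] A := Algebra.TensorProduct.includeRight
  let π : R' ⊗[R] A →ₐ[R'] R' ⊗[R] (A ⧸ J) :=
    Algebra.TensorProduct.map (AlgHom.id R' R') (Ideal.Quotient.mkₐ R J)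
  have hπ : Function.Surjective π :=
    LinearMap.lTensor_surjective (g := (Ideal.Quotient.mkₐ R J).toLinearMap) R' Ideal.Quotient.mk_surjective
  have hker : RingHom.ker π.toRingHom = J.map inA := by
    have := Algebra.TensorProduct.lTensor_ker (A := R') (Ideal.Quotient.mkₐ R J) Ideal.Quotient.mk_surjective
    rw [show RingHom.ker (Ideal.Quotient.mkₐ R J) = J from Ideal.mk_ker] at this
    exact this
  have hnil : IsNilpotent (RingHom.ker π) := by
    refine ⟨2, ?_⟩
    show (RingHom.ker π.toRingHom) ^ 2 = 0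
    rw [hker, ← Ideal.map_pow, hJ, Ideal.map_bot]
    rfl
  let ψ' : R' ⊗[R] S →ₐ[R'] R' ⊗[R] (A ⧸ J) := Algebra.TensorProduct.map (AlgHom.id R' R') ψ
  obtain ⟨χ', hχ'⟩ := Groth.Agent.AdicSmooth.exists_lift_of_surjective h π hπ hnil ψ' ⟨k, fun x hx => by
    rw [← Ideal.map_pow] at hx
    refine (Ideal.map_le_iff_le_comap.2 fun y hy => ?_ :
      (𝔫 ^ k).map (Algebra.TensorProduct.includeRight : S →ₐ[R] R' ⊗[R] S) ≤ RingHom.ker ψ'.toRingHom) hx
    show ψ' (1 ⊗ₜ y) = 0
    rw [Algebra.TensorProduct.map_tmul, hk y hy, TensorProduct.tmul_zero]⟩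
  let Φ : R' ⊗[R] A →ₗ[R] A := (TensorProduct.lid R A).toLinearMap.comp (ρ.rTensor A)
  have hΦ : ∀ (r : R') (a : A), Φ (r ⊗ₜ a) = ρ r • a := fun r a => rfl
  have hρ1 : ρ 1 = 1 := by simpa using hρ 1
  have hlin : ∀ (a : A) z, Φ (inA a * z) = a * Φ z := by
    intro a z
    induction z using TensorProduct.induction_on with
    | zero => simp
    | tmul r b =>
      rw [show inA a = (1 : R') ⊗ₜ[R] a from rfl, Algebra.TensorProduct.tmul_mul_tmul, one_mul, hΦ, hΦ,
        mul_smul_comm]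
    | add x y hx hy => rw [mul_add, map_add, hx, hy, map_add, mul_add]
  have hone : ∀ a, Φ (inA a) = a := fun a => by
    rw [show inA a = (1 : R') ⊗ₜ[R] a from rfl, hΦ, hρ1, one_smul]
  have hJm : ∀ j ∈ J.map inA, Φ j ∈ J := by
    suffices h : ∀ j ∈ J.map inA, ∀ z, Φ (z * j) ∈ J from fun j hj => by simpa using h j hj 1
    intro j hj
    induction hj using Submodule.span_induction with
    | mem x hx =>
      intro z
      obtain ⟨a, ha, rfl⟩ := hx
      rw [mul_comm, hlin]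
      exact J.mul_mem_right _ ha
    | zero => intro z; rw [mul_zero, map_zero]; exact J.zero_mem
    | add x y _ _ hx hy => intro z; rw [mul_add, map_add]; exact J.add_mem (hx z) (hy z)
    | smul c x _ hx => intro z; rw [smul_eq_mul, ← mul_assoc]; exact hx _
  have hsq : ∀ x ∈ J, ∀ y ∈ J, x * y = 0 := fun x hx y hy => by
    have := Ideal.mul_mem_mul hx hy
    rwa [← pow_two, hJ] at this
  have hsq' : ∀ x ∈ J.map inA, ∀ y ∈ J.map inA, x * y = 0 := fun x hx y hy => by
    have := Ideal.mul_mem_mul hx hy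
    rw [← pow_two, ← Ideal.map_pow, hJ, Ideal.map_bot] at this
    exact this
  -- the values of the lift
  have hval : ∀ s : S, ∃ a : A, Ideal.Quotient.mk J a = ψ s ∧ χ' (1 ⊗ₜ s) - inA a ∈ J.map inA := fun s => by
    obtain ⟨a, ha⟩ := Ideal.Quotient.mk_surjective (ψ s)
    refine ⟨a, ha, ?_⟩
    rw [← hker, RingHom.mem_ker]
    show π (χ' (1 ⊗ₜ s) - inA a) = 0
    rw [map_sub, ← AlgHom.comp_apply, hχ']
    show (1 : R') ⊗ₜ[R] ψ s - (1 : R') ⊗ₜ[R] Ideal.Quotient.mk J a = 0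
    rw [ha, sub_self]
  let χ : S →ₐ[R] A :=
    AlgHom.ofLinearMap (Φ.comp (((χ'.restrictScalars R).comp
      (Algebra.TensorProduct.includeRight : S →ₐ[R] R' ⊗[R] S)).toLinearMap))
      (by
        show Φ (χ' (1 ⊗ₜ (1 : S))) = 1
        rw [← Algebra.TensorProduct.one_def, map_one, ← map_one inA, hone])
      (fun s t => by
        obtain ⟨a, -, ha⟩ := hval s
        obtain ⟨b, -, hb⟩ := hval t
        show Φ (χ' (1 ⊗ₜ (s * t))) = Φ (χ' (1 ⊗ₜ s)) * Φ (χ' (1 ⊗ₜ t))
        rw [show (1 : R') ⊗ₜ[R] (s * t) = (1 ⊗ₜ s) * (1 ⊗ₜ t) by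
          rw [Algebra.TensorProduct.tmul_mul_tmul, one_mul], map_mul]
        generalize χ' (1 ⊗ₜ s) = x at ha ⊢
        generalize χ' (1 ⊗ₜ t) = y at hb ⊢
        obtain ⟨i, hi, rfl⟩ : ∃ i ∈ J.map inA, x = inA a + i := ⟨_, ha, by ring⟩
        obtain ⟨j, hj, rfl⟩ : ∃ j ∈ J.map inA, y = inA b + j := ⟨_, hb, by ring⟩
        rw [show (inA a + i) * (inA b + j) = inA (a * b) + inA a * j + inA b * i + i * j by
          rw [map_mul]; ring, hsq' i hi j hj, add_zero, map_add, map_add, map_add, map_add, hone, hone,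
          hone, hlin, hlin]
        have := hsq _ (hJm i hi) _ (hJm j hj)
        linear_combination -this)
  refine ⟨χ, AlgHom.ext fun s => ?_⟩
  obtain ⟨a, ha, ha'⟩ := hval s
  show Ideal.Quotient.mk J (Φ (χ' (1 ⊗ₜ s))) = ψ s
  rw [← ha, Ideal.Quotient.eq]
  have := hJm _ ha'
  rwa [map_sub, hone] at this

end Groth.Agent.S2095
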