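import Groth.Statements.S2096
import Groth.Agent.Lib.WEtaleH7.IndEtale15
import Mathlib.FieldTheory.SeparableClosure
import Mathlib.RingTheory.HopkinsLevitzki
import Mathlib.RingTheory.LocalRing.ResidueField.Fiber

set_option autoImplicit false
universe u
open CAlg

namespace Groth.Agent.S2096

open scoped TensorProduct

/-- Let `B` be a Noetherian ind-étale `A`-algebra (a filtered colimit of étale algebras) and `𝔭` a prime
of `A`. Then only finitely many primes of `B` lie over `𝔭`, the fibre ring `B ⊗ κ(𝔭)` is reduced of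
dimension zero, and each residue field extension `κ(𝔮)/κ(𝔭)` is separable algebraic. -/
theorem result {A B : Type u} [CommRing A] [CommRing B] [Algebra A B] (hB : EtPBC.IsIndEtale A B)
    [IsNoetherianRing B] (p : Ideal A) [p.IsPrime] :
    {q : PrimeSpectrum B | q.asIdeal.LiesOver p}.Finite ∧ IsReduced (p.Fiber B) ∧ ringKrullDim (p.Fiber B) ≤ 0 ∧
      ∀ (q : Ideal B) [q.IsPrime] [q.LiesOver p],
        @Algebra.IsSeparable p.ResidueField q.ResidueField _ _
          (Ideal.ResidueField.mapₐ p q (Algebra.ofId A B) (q.over_def p)).toRingHom.toAlgebra := by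
  haveI := WEtaleH7.weaklyEtale_of_isIndEtale hB
  let F := p.Fiber B
  haveI : Algebra.WeaklyEtale p.ResidueField F := inferInstance
  have hV : WEtaleH7.IsVNR F := WEtaleH7.vnr_of_weaklyEtale_field (K := p.ResidueField)
  have hd : Ring.KrullDimLE 0 F := Ring.krullDimLE_zero_iff.2 fun P hP => hV.isMaximal_of_isPrime P
  haveI : IsNoetherianRing (B ⊗[A] p.ResidueField) := Algebra.EssFiniteType.isNoetherianRing B _
  haveI : IsNoetherianRing F :=
    isNoetherianRing_of_ringEquiv _ (Algebra.TensorProduct.comm A B p.ResidueField).toRingEquiv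
  haveI : IsArtinianRing F := isArtinianRing_iff_krullDimLE_zero.2 hd
  refine ⟨?_, hV.isReduced, ?_, ?_⟩
  · haveI : Finite (PrimeSpectrum F) := inferInstance
    let H := PrimeSpectrum.preimageHomeomorphFiber A B ⟨p, inferInstance⟩
    haveI : Finite (PrimeSpectrum.comap (algebraMap A B) ⁻¹' {⟨p, inferInstance⟩}) := H.toEquiv.finite_iff.2 ‹_›
    refine Set.Finite.subset (Set.toFinite (PrimeSpectrum.comap (algebraMap A B) ⁻¹' {⟨p, inferInstance⟩})) ?_
    intro q hq
    exact PrimeSpectrum.ext (hq.over).symm
  · exact Ring.krullDimLE_iff.1 hd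
  · intro q _ _
    letI := (Ideal.ResidueField.mapₐ p q (Algebra.ofId A B) (q.over_def p)).toRingHom.toAlgebra
    haveI : IsScalarTower A p.ResidueField q.ResidueField := IsScalarTower.of_algebraMap_eq fun r =>
      ((Ideal.ResidueField.mapₐ p q (Algebra.ofId A B) (q.over_def p)).commutes r).symm
    let π : F →ₐ[p.ResidueField] q.ResidueField :=
      Algebra.TensorProduct.lift (Algebra.ofId _ _) (IsScalarTower.toAlgHom A B q.ResidueField) fun _ _ => .all _ _
    have hb : ∀ b : B, algebraMap B q.ResidueField b ∈ separableClosure p.ResidueField q.ResidueField := fun b => by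
      obtain ⟨P, hP, hPx⟩ := WEtaleH7.exists_separable_of_weaklyEtale (K := p.ResidueField) ((1 : p.ResidueField) ⊗ₜ[A] b : F)
      rw [mem_separableClosure_iff]
      have h0 : Polynomial.aeval (algebraMap B q.ResidueField b) P = 0 := by
        have := congrArg π hPx
        rw [← Polynomial.aeval_algHom_apply, map_zero] at this
        rw [show π ((1 : p.ResidueField) ⊗ₜ[A] b : F) = algebraMap B q.ResidueField b from by
          rw [Algebra.TensorProduct.lift_tmul, map_one, one_mul]; rfl] at this
        exact this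
      exact hP.of_dvd (minpoly.dvd _ _ h0)
    refine ⟨fun x => (mem_separableClosure_iff (F := p.ResidueField)).1 ?_⟩
    obtain ⟨a, c, hc, rfl⟩ := IsFractionRing.div_surjective (B ⧸ q) (K := q.ResidueField) x
    obtain ⟨a, rfl⟩ := Ideal.Quotient.mk_surjective a
    obtain ⟨c, rfl⟩ := Ideal.Quotient.mk_surjective c
    exact div_mem (hb a) (hb c)

end Groth.Agent.S2096
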