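import Groth.Statements.S2097
import Mathlib.RingTheory.Smooth.Basic
import Mathlib.RingTheory.Noetherian.Nilpotent
import Mathlib.RingTheory.Ideal.Quotient.Operations

set_option autoImplicit false
universe u
open CAlg

namespace Groth.Agent.S2097

/-- Let `R → S` be smooth, `A` an `R`-algebra and `I ⊆ A` an ideal all of whose elements are nilpotent.
Every `R`-algebra map `S → A/I` lifts to an `R`-algebra map `S → A`. -/
theorem result {R S A : Type u} [CommRing R] [CommRing S] [Algebra R S] [Algebra.Smooth R S]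
    [CommRing A] [Algebra R A] (I : Ideal A) (hI : ∀ x ∈ I, IsNilpotent x) (g : S →ₐ[R] A ⧸ I) :
    ∃ f : S →ₐ[R] A, (Ideal.Quotient.mkₐ R I).comp f = g := by
  classical
  obtain ⟨n, φ, hφ, hker⟩ := (inferInstance : Algebra.FinitePresentation R S).out
  obtain ⟨T, hT⟩ := hker
  choose v hv using fun i => Ideal.Quotient.mk_surjective (g (φ (MvPolynomial.X i)))
  let ψ : MvPolynomial (Fin n) R →ₐ[R] A := MvPolynomial.aeval v
  have hψ : (Ideal.Quotient.mkₐ R I).comp ψ = g.comp φ :=
    MvPolynomial.algHom_ext fun i => by simp [ψ, hv]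
  let J : Ideal A := Ideal.span (T.image ψ : Set A)
  have hJI : J ≤ I := by
    rw [Ideal.span_le]
    intro a ha
    obtain ⟨t, ht, rfl⟩ := Finset.mem_image.1 ha
    refine Ideal.Quotient.eq_zero_iff_mem.1 ?_
    have := AlgHom.congr_fun hψ t
    simp only [AlgHom.comp_apply, Ideal.Quotient.mkₐ_eq_mk] at this
    rw [this, show φ t = 0 from RingHom.mem_ker.1 (hT ▸ Submodule.subset_span ht), map_zero]
  have hJ : IsNilpotent J := (Ideal.FG.isNilpotent_iff_le_nilradical ⟨_, rfl⟩).2
    fun x hx => mem_nilradical.2 (hI x (hJI hx))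
  let g₀ : (MvPolynomial (Fin n) R ⧸ RingHom.ker φ) →ₐ[R] A ⧸ J :=
    Ideal.Quotient.liftₐ _ ((Ideal.Quotient.mkₐ R J).comp ψ) fun a ha => by
      have hle : RingHom.ker φ ≤ J.comap ψ := by
        rw [show RingHom.ker φ = Ideal.span (T : Set (MvPolynomial (Fin n) R)) from hT.symm, Ideal.span_le]
        exact fun t ht => Ideal.subset_span (Finset.mem_image_of_mem _ ht)
      exact Ideal.Quotient.eq_zero_iff_mem.2 (hle ha)
  let e := Ideal.quotientKerAlgEquivOfSurjective hφ
  obtain ⟨f, hf⟩ := Algebra.FormallySmooth.exists_lift J hJ (g₀.comp e.symm.toAlgHom)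
  refine ⟨f, AlgHom.ext fun s => ?_⟩
  obtain ⟨p, rfl⟩ := hφ s
  have h1 : Ideal.Quotient.mk J (f (φ p)) = g₀ (e.symm (φ p)) := AlgHom.congr_fun hf (φ p)
  rw [show e.symm (φ p) = Ideal.Quotient.mk _ p from e.symm_apply_eq.2 rfl] at h1
  have h2 : f (φ p) - ψ p ∈ J := Ideal.Quotient.eq.1 h1
  change Ideal.Quotient.mk I (f (φ p)) = g (φ p)
  rw [show g (φ p) = Ideal.Quotient.mk I (ψ p) from (AlgHom.congr_fun hψ p).symm, Ideal.Quotient.eq]
  exact hJI h2

end Groth.Agent.S2097
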