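import Groth.Statements.S2098
import Mathlib.RingTheory.Filtration
import Mathlib.RingTheory.Finiteness.Cardinality
import Mathlib.LinearAlgebra.Quotient.Basic

set_option autoImplicit false
universe u
open CAlg

namespace Groth.Agent.S2098

variable {R : Type u} [CommRing R]

lemma pi_mem_pow_smul {ι : Type} [Fintype ι] {N : Type u} [AddCommGroup N] [Module R N] (J : Ideal R)
    (q : ι → N) (h : ∀ i, q i ∈ J • (⊤ : Submodule R N)) : q ∈ J • (⊤ : Submodule R (ι → N)) := by
  classical
  rw [← Finset.univ_sum_single q]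
  refine Submodule.sum_mem _ fun i _ => ?_
  have := Submodule.mem_map_of_mem (f := LinearMap.single R (fun _ : ι => N) i) (h i)
  rw [Submodule.map_smul''] at this
  exact Submodule.smul_mono le_rfl le_top this

lemma comp_mem_pow_smul {ι : Type} [Fintype ι] {N : Type u} [AddCommGroup N] [Module R N] (J : Ideal R)
    {q : ι → N} (h : q ∈ J • (⊤ : Submodule R (ι → N))) (i : ι) : q i ∈ J • (⊤ : Submodule R N) := by
  have := Submodule.mem_map_of_mem (f := LinearMap.proj (R := R) (φ := fun _ : ι => N) i) h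
  rw [Submodule.map_smul''] at this
  exact Submodule.smul_mono le_rfl le_top this

/-- Artin-Rees for the range of a map -/
lemma exists_preimage_pow [IsNoetherianRing R] (I : Ideal R) {P Q : Type u} [AddCommGroup P] [Module R P]
    [AddCommGroup Q] [Module R Q] [Module.Finite R Q] (T : P →ₗ[R] Q) :
    ∃ c : ℕ, ∀ m, c ≤ m → ∀ x, T x ∈ I ^ m • (⊤ : Submodule R Q) →
      ∃ δ ∈ I ^ (m - c) • (⊤ : Submodule R P), T δ = T x := by
  obtain ⟨c, hc⟩ := I.exists_pow_inf_eq_pow_smul (LinearMap.range T)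
  refine ⟨c, fun m hm x hx => ?_⟩
  have h1 : T x ∈ I ^ m • (⊤ : Submodule R Q) ⊓ LinearMap.range T := ⟨hx, x, rfl⟩
  rw [hc m hm] at h1
  have h2 : T x ∈ I ^ (m - c) • Submodule.map T ⊤ := by
    rw [Submodule.map_top]; exact Submodule.smul_mono le_rfl inf_le_right h1
  rw [← Submodule.map_smul''] at h2
  obtain ⟨δ, hδ, e⟩ := h2
  exact ⟨δ, hδ, e⟩


/-- Let `R` be Noetherian, `I` an ideal inside the Jacobson radical and `u : N → M` a map of finite
`R`-modules. If for arbitrarily large `n` the induced map `N/IⁿN → M/IⁿM` has a left inverse, then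
`u` has a left inverse. -/
theorem result {R M N : Type u} [CommRing R] [IsNoetherianRing R] (I : Ideal R)
    (hI : I ≤ (⊥ : Ideal R).jacobson) [AddCommGroup M] [Module R M] [Module.Finite R M] [AddCommGroup N] [Module R N]
    [Module.Finite R N] (u : N →ₗ[R] M)
    (h : ∀ n₀ : ℕ, ∃ n, n₀ ≤ n ∧ ∃ s : (M ⧸ (I ^ n) • (⊤ : Submodule R M)) →ₗ[R] (N ⧸ (I ^ n) • (⊤ : Submodule R N)),
      ∀ x : N, s (Submodule.Quotient.mk (u x)) = Submodule.Quotient.mk x) :
    ∃ s : M →ₗ[R] N, s.comp u = LinearMap.id := by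
  classical
  obtain ⟨a, p, hp⟩ := Module.Finite.exists_fin' R M
  obtain ⟨e, q, hq⟩ := Module.Finite.exists_fin' R N
  haveI : Module.Finite R (LinearMap.ker p) := Module.IsNoetherian.finite R _
  obtain ⟨b, r, hr⟩ := Module.Finite.exists_fin' R (LinearMap.ker p)
  let φ : (Fin a → N) →ₗ[R] ((Fin a → R) →ₗ[R] N) :=
    { toFun := fun t => Fintype.linearCombination R t
      map_add' := fun t t' => LinearMap.ext fun v => by simp [Fintype.linearCombination_apply, smul_add, Finset.sum_add_distrib]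
      map_smul' := fun c t => LinearMap.ext fun v => by simp [Fintype.linearCombination_apply, Finset.smul_sum, smul_comm (v _) c] }
  have hφ : ∀ t v, φ t v = ∑ i, v i • t i := fun t v => Fintype.linearCombination_apply ..
  let T : (Fin a → N) →ₗ[R] (Fin b → N) :=
    LinearMap.pi fun j => (LinearMap.applyₗ ((LinearMap.ker p).subtype (r (Pi.single j 1)))).comp φ
  obtain ⟨c, hc⟩ := exists_preimage_pow I T
  let ev : (N →ₗ[R] N) →ₗ[R] (Fin e → N) := LinearMap.pi fun i => LinearMap.applyₗ (q (Pi.single i 1))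
  have hev : Function.Injective ev := fun f g hfg => by
    have : f ∘ₗ q = g ∘ₗ q := by
      refine (Pi.basisFun R (Fin e)).ext fun i => ?_
      simpa [ev] using congrFun hfg i
    ext x; obtain ⟨v, rfl⟩ := hq x; exact LinearMap.congr_fun this v
  haveI : Module.Finite R (N →ₗ[R] N) := Module.Finite.of_injective ev hev
  obtain ⟨c', hc'⟩ := exists_preimage_pow I ev
  let W : Submodule R (N →ₗ[R] N) := LinearMap.range (LinearMap.lcomp R N u)
  suffices hid : (LinearMap.id : N →ₗ[R] N) ∈ W by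
    obtain ⟨s, hs⟩ := hid; exact ⟨s, hs⟩
  rw [← Submodule.Quotient.mk_eq_zero]
  have hbot := I.iInf_pow_smul_eq_bot_of_le_jacobson (M := (N →ₗ[R] N) ⧸ W) hI
  rw [← Submodule.mem_bot (R := R), ← hbot, Submodule.mem_iInf]
  intro n
  obtain ⟨m, hm, s, hs⟩ := h (n + c + c')
  choose t ht using fun i => Submodule.Quotient.mk_surjective _ (s (Submodule.Quotient.mk (p (Pi.single i 1))))
  have hmk : ∀ v, Submodule.Quotient.mk (φ t v) = s (Submodule.Quotient.mk (p v)) := by
    intro v
    conv_rhs => rw [pi_eq_sum_univ' v]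
    simp only [hφ, map_sum, map_smul, ← Submodule.mkQ_apply]
    exact Finset.sum_congr rfl fun i _ => congrArg (v i • ·) (ht i)
  have hT : T t ∈ I ^ m • (⊤ : Submodule R (Fin b → N)) := pi_mem_pow_smul _ _ fun j => by
    rw [← Submodule.Quotient.mk_eq_zero]
    show Submodule.Quotient.mk (φ t _) = 0
    rw [hmk, show p ((LinearMap.ker p).subtype (r (Pi.single j 1))) = 0 from (r (Pi.single j 1)).2, Submodule.Quotient.mk_zero, map_zero]
  obtain ⟨δ, hδ, hTδ⟩ := hc m (by omega) t hT
  have hker : LinearMap.ker p ≤ LinearMap.ker (φ (t - δ)) := by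
    intro v hv
    obtain ⟨w, hw⟩ := hr ⟨v, hv⟩
    have hz : φ (t - δ) ∘ₗ (LinearMap.ker p).subtype ∘ₗ r = 0 := by
      refine (Pi.basisFun R (Fin b)).ext fun j => ?_
      simpa [T, map_sub, sub_eq_zero] using (congrFun hTδ j).symm
    have := LinearMap.congr_fun hz w
    simpa [hw] using this
  let s' : M →ₗ[R] N := (LinearMap.ker p).liftQ _ hker ∘ₗ (p.quotKerEquivOfSurjective hp).symm.toLinearMap
  have hs' : ∀ x, s' (u x) - x ∈ I ^ (m - c) • (⊤ : Submodule R N) := by
    intro x
    obtain ⟨v, hv⟩ := hp (u x)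
    have e1 : s' (u x) = φ t v - φ δ v := by
      have : (p.quotKerEquivOfSurjective hp).symm (p v) = Submodule.Quotient.mk v := by
        rw [LinearEquiv.symm_apply_eq]; rfl
      simp [s', ← hv, this, map_sub]
    have e2 : φ t v - x ∈ I ^ (m - c) • (⊤ : Submodule R N) := by
      refine Submodule.smul_mono_left (Ideal.pow_le_pow_right (Nat.sub_le m c)) ?_
      rw [← Submodule.Quotient.mk_eq_zero, Submodule.Quotient.mk_sub, hmk, hv, hs, sub_self]
    have e3 : φ δ v ∈ I ^ (m - c) • (⊤ : Submodule R N) := by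
      rw [hφ]; exact Submodule.sum_mem _ fun i _ => Submodule.smul_mem _ _ (comp_mem_pow_smul _ hδ i)
    rw [e1, sub_right_comm]; exact Submodule.sub_mem _ e2 e3
  let g : N →ₗ[R] N := s' ∘ₗ u - LinearMap.id
  have hg : ev g ∈ I ^ (m - c) • (⊤ : Submodule R (Fin e → N)) := pi_mem_pow_smul _ _ fun i => hs' _
  obtain ⟨g', hg', hgg⟩ := hc' (m - c) (by omega) g hg
  rw [hev hgg] at hg'
  have hgn : g ∈ I ^ n • (⊤ : Submodule R (N →ₗ[R] N)) :=
    Submodule.smul_mono_left (Ideal.pow_le_pow_right (by omega)) hg'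
  have : W.mkQ LinearMap.id = W.mkQ (-g) := by
    rw [Submodule.mkQ_apply, Submodule.mkQ_apply, Submodule.Quotient.eq]
    exact ⟨s', by ext y; simp [g]⟩
  change W.mkQ LinearMap.id ∈ _
  rw [this]
  have hm' := Submodule.mem_map_of_mem (f := W.mkQ) (Submodule.neg_mem _ hgn)
  rw [Submodule.map_smul''] at hm'
  exact Submodule.smul_mono le_rfl le_top hm'

end Groth.Agent.S2098
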