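import Groth.Statements.S2099
import Mathlib

set_option autoImplicit false
universe u
open CAlg

namespace Groth.Agent.S2099

open MvPolynomial in
/-- A map from a polynomial ring is surjective modulo every power of an ideal spanned by the images of the variables
modulo its square. -/
theorem exists_approx {R S : Type u} [CommRing R] [CommRing S] [Algebra R S] {ι : Type} (I : Ideal S)
    (χ : MvPolynomial ι R →ₐ[R] S) (h0 : ∀ s, ∃ r, s - algebraMap R S r ∈ I)
    (h1 : ∀ b ∈ I, ∃ q, χ q ∈ I ∧ b - χ q ∈ I ^ 2) (k : ℕ) :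
    ∀ s, ∃ p, s - χ p ∈ I ^ k := by
  have key : ∀ k, ∀ a ∈ I ^ k, ∃ q, χ q ∈ I ^ k ∧ a - χ q ∈ I ^ (k + 1) := by
    intro k
    induction k with
    | zero =>
      intro a _
      obtain ⟨r, hr⟩ := h0 a
      exact ⟨C r, by simp, by rw [zero_add, pow_one, ← algebraMap_eq, χ.commutes]; exact hr⟩
    | succ k ih =>
      intro a ha
      rw [pow_succ] at ha
      refine Submodule.mul_induction_on ha (fun x hx y hy => ?_) (fun x y hx hy => ?_)
      · obtain ⟨qx, hqx, hx'⟩ := ih x hx
        obtain ⟨qy, hqy, hy'⟩ := h1 y hy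
        refine ⟨qx * qy, ?_, ?_⟩
        · rw [map_mul, pow_succ]; exact Ideal.mul_mem_mul hqx hqy
        · rw [map_mul, show x * y - χ qx * χ qy = x * (y - χ qy) + (x - χ qx) * χ qy by ring]
          refine add_mem ?_ ?_
          · rw [show k + 1 + 1 = k + 2 from rfl, pow_add]; exact Ideal.mul_mem_mul hx hy'
          · rw [pow_succ I (k + 1)]; exact Ideal.mul_mem_mul hx' hqy
      · obtain ⟨qx, hqx, hx'⟩ := hx
        obtain ⟨qy, hqy, hy'⟩ := hy
        refine ⟨qx + qy, by rw [map_add]; exact add_mem hqx hqy, ?_⟩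
        rw [map_add, add_sub_add_comm]
        exact add_mem hx' hy'
  induction k with
  | zero => exact fun s => ⟨0, by simp⟩
  | succ k ih =>
    intro s
    obtain ⟨p, hp⟩ := ih s
    obtain ⟨q, -, hq⟩ := key k _ hp
    exact ⟨p + q, by rw [map_add, ← sub_sub]; exact hq⟩

open MvPolynomial in
theorem sub_C_mem {R : Type u} [CommRing R] {ι : Type} (p : MvPolynomial ι R) :
    p - C (constantCoeff p) ∈ idealOfVars ι R := by
  induction p using MvPolynomial.induction_on with
  | C r => simp
  | add p q hp hq => rw [map_add, map_add, add_sub_add_comm]; exact add_mem hp hq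
  | mul_X p i _ =>
    rw [map_mul, constantCoeff_X, mul_zero, map_zero, sub_zero]
    exact Ideal.mul_mem_left _ _ (Ideal.subset_span ⟨i, rfl⟩)

theorem filtration_diff {A B : Type u} [CommRing A] [CommRing B] (ρ π : A →+* B) (J : Ideal A) (Jb : Ideal B)
    (hρJ : ∀ b ∈ J, ρ b ∈ Jb) (hπJ : ∀ b ∈ J, π b ∈ Jb) (hd0 : ∀ c, ρ c - π c ∈ Jb)
    (hd1 : ∀ b ∈ J, ρ b - π b ∈ Jb ^ 2) (k : ℕ) :
    ∀ b ∈ J ^ k, ρ b - π b ∈ Jb ^ (k + 1) ∧ ρ b ∈ Jb ^ k := by
  induction k with
  | zero => exact fun b _ => ⟨by rw [zero_add, pow_one]; exact hd0 b, by simp⟩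
  | succ k ih =>
    intro b hb
    rw [pow_succ] at hb
    refine Submodule.mul_induction_on hb (fun x hx y hy => ?_) (fun x y hx hy => ?_)
    · refine ⟨?_, ?_⟩
      · rw [map_mul, map_mul, show ρ x * ρ y - π x * π y = ρ x * (ρ y - π y) + (ρ x - π x) * π y by ring]
        refine add_mem ?_ ?_
        · rw [show k + 1 + 1 = k + 2 from rfl, pow_add]; exact Ideal.mul_mem_mul (ih x hx).2 (hd1 y hy)
        · rw [pow_succ Jb (k + 1)]; exact Ideal.mul_mem_mul (ih x hx).1 (hπJ y hy)
      · rw [map_mul, pow_succ]; exact Ideal.mul_mem_mul (ih x hx).2 (hρJ y hy)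
    · rw [map_add, map_add, add_sub_add_comm]
      exact ⟨add_mem hx.1 hy.1, add_mem hx.2 hy.2⟩

open MvPolynomial in
set_option maxHeartbeats 400000 in
/-- An endomorphism which is the identity on linear terms does not kill anything. -/
theorem mem_pow_of_eq_zero {R : Type u} [CommRing R] {d n : ℕ}
    (ρ : MvPolynomial (Fin d) R →ₐ[R] MvPolynomial (Fin d) R ⧸ idealOfVars (Fin d) R ^ n)
    (hρ : ∀ i, ρ (X i) - Ideal.Quotient.mk _ (X i) ∈ (idealOfVars (Fin d) R ^ 2).map (Ideal.Quotient.mk _))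
    (p : MvPolynomial (Fin d) R) (hp : ρ p = 0) : p ∈ idealOfVars (Fin d) R ^ n := by
  have hρ2 : ∀ i, ρ (X i) - (Ideal.Quotient.mk (idealOfVars (Fin d) R ^ n)) (X i) ∈ (Ideal.map (Ideal.Quotient.mk (idealOfVars (Fin d) R ^ n)) (idealOfVars (Fin d) R)) ^ 2 := fun i => by rw [← Ideal.map_pow]; exact hρ i
  have hXb : ∀ i, (Ideal.Quotient.mk (idealOfVars (Fin d) R ^ n)) (X i) ∈ (Ideal.map (Ideal.Quotient.mk (idealOfVars (Fin d) R ^ n)) (idealOfVars (Fin d) R)) := fun i => Ideal.mem_map_of_mem (Ideal.Quotient.mk (idealOfVars (Fin d) R ^ n)) (Ideal.subset_span ⟨i, rfl⟩)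
  have hρJ : ∀ b ∈ (idealOfVars (Fin d) R), ρ b ∈ (Ideal.map (Ideal.Quotient.mk (idealOfVars (Fin d) R ^ n)) (idealOfVars (Fin d) R)) := by
    intro b hb
    refine Submodule.span_induction ?_ ?_ ?_ ?_ hb
    · rintro _ ⟨i, rfl⟩
      rw [← sub_add_cancel (ρ (X i)) ((Ideal.Quotient.mk (idealOfVars (Fin d) R ^ n)) (X i))]
      exact add_mem (Ideal.pow_le_self two_ne_zero (hρ2 i)) (hXb i)
    · rw [map_zero]; exact zero_mem _
    · intro x y _ _ hx hy; rw [map_add]; exact add_mem hx hy
    · intro a x _ hx; rw [smul_eq_mul, map_mul]; exact Ideal.mul_mem_left _ _ hx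
  have hd0 : ∀ c, ρ c - (Ideal.Quotient.mk (idealOfVars (Fin d) R ^ n)) c ∈ (Ideal.map (Ideal.Quotient.mk (idealOfVars (Fin d) R ^ n)) (idealOfVars (Fin d) R)) := by
    intro c
    have h := sub_C_mem c
    have h1 := hρJ _ h
    have h2 := Ideal.mem_map_of_mem (Ideal.Quotient.mk (idealOfVars (Fin d) R ^ n)) h
    have hC : ρ (C (constantCoeff c)) = (Ideal.Quotient.mk (idealOfVars (Fin d) R ^ n)) (C (constantCoeff c)) := by
      rw [← algebraMap_eq, ρ.commutes]; rfl
    rw [show ρ c - (Ideal.Quotient.mk (idealOfVars (Fin d) R ^ n)) c = ρ (c - C (constantCoeff c)) - (Ideal.Quotient.mk (idealOfVars (Fin d) R ^ n)) (c - C (constantCoeff c)) by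
      rw [map_sub, map_sub, hC]; ring]
    exact sub_mem h1 h2
  have hd1 : ∀ b ∈ (idealOfVars (Fin d) R), ρ b - (Ideal.Quotient.mk (idealOfVars (Fin d) R ^ n)) b ∈ (Ideal.map (Ideal.Quotient.mk (idealOfVars (Fin d) R ^ n)) (idealOfVars (Fin d) R)) ^ 2 := by
    intro b hb
    refine Submodule.span_induction ?_ ?_ ?_ ?_ hb
    · rintro _ ⟨i, rfl⟩; exact hρ2 i
    · simp
    · intro x y _ _ hx hy; rw [map_add, map_add, add_sub_add_comm]; exact add_mem hx hy
    · intro a x hx' hx
      rw [smul_eq_mul, map_mul, map_mul, show ρ a * ρ x - (Ideal.Quotient.mk (idealOfVars (Fin d) R ^ n)) a * (Ideal.Quotient.mk (idealOfVars (Fin d) R ^ n)) x = ρ a * (ρ x - (Ideal.Quotient.mk (idealOfVars (Fin d) R ^ n)) x) + (ρ a - (Ideal.Quotient.mk (idealOfVars (Fin d) R ^ n)) a) * (Ideal.Quotient.mk (idealOfVars (Fin d) R ^ n)) x by ring]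
      refine add_mem (Ideal.mul_mem_left _ _ hx) ?_
      rw [pow_two]
      exact Ideal.mul_mem_mul (hd0 a) (Ideal.mem_map_of_mem (Ideal.Quotient.mk (idealOfVars (Fin d) R ^ n)) hx')
  have hd := filtration_diff (ρ : MvPolynomial (Fin d) R →+* _) (Ideal.Quotient.mk (idealOfVars (Fin d) R ^ n))
    (idealOfVars (Fin d) R) _ hρJ (fun b hb => Ideal.mem_map_of_mem _ hb) hd0 hd1
  have hk : ∀ k, k ≤ n → p ∈ (idealOfVars (Fin d) R) ^ k := by
    intro k
    induction k with
    | zero => simp
    | succ k ih =>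
      intro hkn
      have h := (hd k p (ih (by omega))).1
      simp only [RingHom.coe_coe] at h
      rw [hp, zero_sub, neg_mem_iff, ← Ideal.map_pow,
        Ideal.mem_quotient_iff_mem (Ideal.pow_le_pow_right hkn)] at h
      exact h
  exact hk n le_rfl


theorem factor_evalₐ {A : Type u} [CommRing A] (K : Ideal A) {m n : ℕ} (h : m ≤ n) (x : AdicCompletion K A) :
    Ideal.Quotient.factor (Ideal.pow_le_pow_right h) (AdicCompletion.evalₐ K n x) = AdicCompletion.evalₐ K m x := by
  induction x using AdicCompletion.induction_on with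
  | h y =>
    rw [AdicCompletion.evalₐ_mk, AdicCompletion.evalₐ_mk, Ideal.Quotient.factor_mk, Ideal.Quotient.eq]
    have := y.property h
    rw [SModEq.sub_mem, smul_eq_mul, Ideal.mul_top] at this
    rw [← neg_sub]; exact neg_mem this

/-- Let `R → S` be smooth with an `R`-algebra retraction `σ : S → R` and `I = ker σ`. If `I/I²` is free
of rank `d` over `R`, then the `I`-adic completion of `S` is isomorphic as an `R`-algebra to the
power series ring in `d` variables over `R`. -/
theorem result {R S : Type u} [CommRing R] [CommRing S] [Algebra R S]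
    [Algebra.Smooth R S] (σ : S →ₐ[R] R) (d : ℕ)
    (e : (RingHom.ker σ.toRingHom).Cotangent ≃ₗ[R] (Fin d → R)) :
    Nonempty (AdicCompletion (RingHom.ker σ.toRingHom) S ≃ₐ[R] MvPowerSeries (Fin d) R) := by
  classical
  set I := RingHom.ker σ.toRingHom with hI
  let J := MvPolynomial.idealOfVars (Fin d) R
  choose f hf using fun i => Ideal.toCotangent_surjective I (e.symm (Pi.single i 1))
  let χ : MvPolynomial (Fin d) R →ₐ[R] S := MvPolynomial.aeval fun i => (f i : S)
  have hσ : ∀ s, s - algebraMap R S (σ s) ∈ I := fun s => by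
    show σ _ = 0
    rw [map_sub, σ.commutes]; simp
  have hsmul : ∀ (r : R) (x : I), algebraMap R S r • I.toCotangent x = r • I.toCotangent x := fun r x =>
    algebraMap_smul S r _
  have h1 : ∀ b ∈ I, ∃ q, χ q ∈ I ∧ b - χ q ∈ I ^ 2 := by
    intro b hb
    let c := e (I.toCotangent ⟨b, hb⟩)
    let x : I := ∑ i, algebraMap R S (c i) • f i
    refine ⟨∑ i, MvPolynomial.C (c i) * MvPolynomial.X i, ?_⟩
    have hx : χ (∑ i, MvPolynomial.C (c i) * MvPolynomial.X i) = (x : S) := by
      simp [x, χ, Algebra.smul_def]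
    rw [hx]
    refine ⟨x.2, (Ideal.toCotangent_eq I (x := ⟨b, hb⟩) (y := x)).1 (e.injective ?_)⟩
    simp only [x, map_sum, algebraMap_smul, LinearMap.map_smul_of_tower, map_smul, hf, LinearEquiv.apply_symm_apply]
    exact pi_eq_sum_univ' c
  have hχJ : ∀ k, J ^ k ≤ (I ^ k).comap χ := by
    intro k
    refine le_trans ?_ (Ideal.le_comap_pow χ k)
    refine Ideal.pow_right_mono (Ideal.span_le.2 ?_) k
    rintro _ ⟨i, rfl⟩
    show χ _ ∈ I
    simp [χ]
  let χn : ∀ n, (MvPolynomial (Fin d) R ⧸ J ^ n) →ₐ[R] S ⧸ I ^ n := fun n =>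
    Ideal.quotientMapₐ (I ^ n) χ (hχJ n)
  have hsurj : ∀ n, Function.Surjective (χn n) := by
    intro n y
    obtain ⟨s, rfl⟩ := Ideal.Quotient.mk_surjective y
    obtain ⟨p, hp⟩ := exists_approx I χ (fun s => ⟨σ s, hσ s⟩) h1 n s
    exact ⟨Ideal.Quotient.mk _ p, (Ideal.Quotient.eq.2 hp).symm⟩
  have hinj2 : ∀ n, 2 ≤ n → ∀ p, χ p ∈ I ^ n → p ∈ J ^ n := by
    intro n hn p hp
    -- the linear approximation
    let δ : S → I.Cotangent := fun s => I.toCotangent ⟨_, hσ s⟩
    let l : S → MvPolynomial (Fin d) R ⧸ J ^ 2 := fun s =>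
      Ideal.Quotient.mk _ (MvPolynomial.C (σ s) + ∑ i, MvPolynomial.C (e (δ s) i) * MvPolynomial.X i)
    have hδadd : ∀ s t, δ (s + t) = δ s + δ t := fun s t => by
      refine (congrArg I.toCotangent (Subtype.ext ?_)).trans (map_add I.toCotangent _ _)
      simp
      ring
    have hδmul : ∀ s t, δ (s * t) = σ s • δ t + σ t • δ s := fun s t => by
      rw [← hsmul, ← hsmul, ← map_smul, ← map_smul, ← map_add, Ideal.toCotangent_eq]
      simp only [Submodule.coe_add, Submodule.coe_smul, smul_eq_mul, map_mul]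
      rw [show s * t - algebraMap R S (σ s) * algebraMap R S (σ t) - (algebraMap R S (σ s) * (t - algebraMap R S (σ t)) +
        algebraMap R S (σ t) * (s - algebraMap R S (σ s))) = (s - algebraMap R S (σ s)) * (t - algebraMap R S (σ t)) by ring,
        pow_two]
      exact Ideal.mul_mem_mul (hσ s) (hσ t)
    have hδC : ∀ r, δ (algebraMap R S r) = 0 := fun r => by
      rw [Ideal.toCotangent_eq_zero]; simp
    have hlin : ∀ s, (∑ i, MvPolynomial.C (e (δ s) i) * MvPolynomial.X i) ∈ J := fun s =>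
      sum_mem fun i _ => Ideal.mul_mem_left _ _ (Ideal.subset_span ⟨i, rfl⟩)
    let ψ2 : S →ₐ[R] MvPolynomial (Fin d) R ⧸ J ^ 2 :=
      { toFun := l
        map_one' := by
          show l 1 = 1
          have : δ 1 = 0 := by simpa using hδC 1
          simp [l, this]
        map_mul' := fun s t => by
          show l (s * t) = l s * l t
          rw [← map_mul, Ideal.Quotient.eq]
          have hL : (∑ i, MvPolynomial.C (e (δ (s * t)) i) * MvPolynomial.X i : MvPolynomial (Fin d) R) =
              MvPolynomial.C (σ s) * (∑ i, MvPolynomial.C (e (δ t) i) * MvPolynomial.X i) +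
              MvPolynomial.C (σ t) * (∑ i, MvPolynomial.C (e (δ s) i) * MvPolynomial.X i) := by
            simp only [hδmul, map_add, map_smul, Pi.add_apply, Pi.smul_apply, smul_eq_mul, map_mul, add_mul,
              mul_assoc, Finset.sum_add_distrib, ← Finset.mul_sum]
          rw [hL, map_mul σ, map_mul MvPolynomial.C]
          have hst := neg_mem ((le_of_eq (sq J).symm) (Ideal.mul_mem_mul (hlin s) (hlin t)))
          convert hst using 1
          ring
        map_zero' := by
          show l 0 = 0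
          have : δ 0 = 0 := by simpa using hδC 0
          simp [l, this]
        map_add' := fun s t => by
          show l (s + t) = l s + l t
          simp only [l, hδadd, map_add, Pi.add_apply, add_mul, Finset.sum_add_distrib]
          ring
        commutes' := fun r => by
          show l (algebraMap R S r) = _
          simp [l, hδC]
          rfl }
    have hle : J ^ n ≤ J ^ 2 := Ideal.pow_le_pow_right hn
    let fac : (MvPolynomial (Fin d) R ⧸ J ^ n) →ₐ[R] MvPolynomial (Fin d) R ⧸ J ^ 2 := Ideal.Quotient.factorₐ R hle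
    have hfac : Function.Surjective fac := Ideal.Quotient.factor_surjective hle
    have hker : ∀ x, fac x = 0 → x ∈ (J ^ 2).map (Ideal.Quotient.mk (J ^ n)) := by
      intro x hx
      obtain ⟨x, rfl⟩ := Ideal.Quotient.mk_surjective x
      exact Ideal.mem_map_of_mem _ (Ideal.Quotient.eq_zero_iff_mem.1 hx)
    have hnil : IsNilpotent (RingHom.ker fac.toRingHom) := by
      refine ⟨n, le_bot_iff.1 ((Ideal.pow_right_mono (fun x hx => hker x hx) n).trans ?_)⟩
      rw [← Ideal.map_pow, ← pow_mul, Ideal.map_le_iff_le_comap]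
      exact fun x hx => Ideal.Quotient.eq_zero_iff_mem.2 (Ideal.pow_le_pow_right (by omega) hx)
    let ψ := Algebra.FormallySmooth.liftOfSurjective ψ2 fac hfac hnil
    have hψ : ∀ s, fac (ψ s) = ψ2 s := Algebra.FormallySmooth.liftOfSurjective_apply ψ2 fac hfac hnil
    have hψI : ∀ s ∈ I, ψ s ∈ J.map (Ideal.Quotient.mk (J ^ n)) := by
      intro s hs
      obtain ⟨x, hx⟩ := Ideal.Quotient.mk_surjective (ψ s)
      have h2 := hψ s
      rw [← hx] at h2 ⊢
      have hs0 : σ s = 0 := hs
      have h3 : x - ∑ i, MvPolynomial.C (e (δ s) i) * MvPolynomial.X i ∈ J ^ 2 := by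
        refine Ideal.Quotient.eq.1 (h2.trans ?_)
        show l s = _
        simp [l, hs0]
      refine Ideal.mem_map_of_mem _ ?_
      rw [← sub_add_cancel x (∑ i, MvPolynomial.C (e (δ s) i) * MvPolynomial.X i)]
      exact add_mem (Ideal.pow_le_self two_ne_zero h3) (hlin s)
    refine mem_pow_of_eq_zero (ψ.comp χ) (fun i => hker _ ?_) p ?_
    · rw [map_sub, AlgHom.comp_apply, hψ, sub_eq_zero]
      show l (χ (MvPolynomial.X i)) = Ideal.Quotient.mk _ (MvPolynomial.X i)
      have hfi : σ (f i : S) = 0 := (f i).2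
      have hδf : δ (f i : S) = e.symm (Pi.single i 1) := by
        rw [← hf i, Ideal.toCotangent_eq]
        simp [hfi]
      have hχX : χ (MvPolynomial.X i) = (f i : S) := by simp [χ]
      simp only [l, hχX, hfi, hδf, LinearEquiv.apply_symm_apply, map_zero, zero_add]
      congr 1
      simp [Pi.single_apply, apply_ite MvPolynomial.C, ite_mul]
    · have h : (I ^ n).map ψ ≤ ⊥ := by
        rw [Ideal.map_pow]
        refine (Ideal.pow_right_mono ((Ideal.map_le_iff_le_comap (f := ψ) (K := J.map (Ideal.Quotient.mk (J ^ n)))).2 fun x hx => hψI x hx) n).trans ?_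
        rw [← Ideal.map_pow, Ideal.map_quotient_self]
      exact h (Ideal.mem_map_of_mem ψ hp)
  have hbij : ∀ n, Function.Bijective (χn n) := by
    refine fun n => ⟨?_, hsurj n⟩
    rw [injective_iff_map_eq_zero]
    intro x hx
    obtain ⟨p, rfl⟩ := Ideal.Quotient.mk_surjective x
    have hp : χ p ∈ I ^ n := Ideal.Quotient.eq_zero_iff_mem.1 hx
    rw [Ideal.Quotient.eq_zero_iff_mem]
    match n with
    | 0 => simp
    | 1 =>
      have h := sub_C_mem p
      have h2 : χ (p - MvPolynomial.C (MvPolynomial.constantCoeff p)) ∈ I := by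
        have := hχJ 1 (by rw [pow_one]; exact h)
        rwa [pow_one, Ideal.mem_comap] at this
      rw [pow_one] at hp ⊢
      have h3 : σ (χ (MvPolynomial.C (MvPolynomial.constantCoeff p))) = 0 := by
        have := sub_mem hp h2
        rw [← map_sub, sub_sub_cancel] at this
        exact this
      rw [← MvPolynomial.algebraMap_eq, χ.commutes, σ.commutes] at h3
      simpa [show MvPolynomial.constantCoeff p = 0 from h3] using h
    | m + 2 => exact hinj2 (m + 2) (by omega) p hp
  let en := fun n => AlgEquiv.ofBijective (χn n) (hbij n)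
  let ev1 : ∀ n, AdicCompletion J (MvPolynomial (Fin d) R) →ₐ[R] MvPolynomial (Fin d) R ⧸ J ^ n := fun n =>
    (AdicCompletion.evalₐ J n).restrictScalars R
  let ev2 : ∀ n, AdicCompletion I S →ₐ[R] S ⧸ I ^ n := fun n => (AdicCompletion.evalₐ I n).restrictScalars R
  have hcompat : ∀ {m n : ℕ} (h : m ≤ n) (x : MvPolynomial (Fin d) R ⧸ J ^ n),
      Ideal.Quotient.factorₐ R (Ideal.pow_le_pow_right h) (en n x) =
        en m (Ideal.Quotient.factorₐ R (Ideal.pow_le_pow_right h) x) := by
    intro m n h x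
    obtain ⟨p, rfl⟩ := Ideal.Quotient.mk_surjective x
    rfl
  let F : AdicCompletion J (MvPolynomial (Fin d) R) →ₐ[R] AdicCompletion I S :=
    AdicCompletion.liftAlgHom I (fun n => (en n).toAlgHom.comp (ev1 n)) fun {m n} h => AlgHom.ext fun x => by
      exact (hcompat h _).trans (congrArg (en m) (factor_evalₐ J h x))
  let G : AdicCompletion I S →ₐ[R] AdicCompletion J (MvPolynomial (Fin d) R) :=
    AdicCompletion.liftAlgHom J (fun n => (en n).symm.toAlgHom.comp (ev2 n)) fun {m n} h => AlgHom.ext fun x => by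
      apply (en m).injective
      exact (hcompat h _).symm.trans (((congrArg _ ((en n).apply_symm_apply _)).trans
        (factor_evalₐ I h x)).trans ((en m).apply_symm_apply _).symm)
  have hF : ∀ n x, AdicCompletion.evalₐ I n (F x) = en n (ev1 n x) := fun n x => by
    exact AdicCompletion.evalₐ_liftAlgHom _ _ _ _ _
  have hG : ∀ n x, AdicCompletion.evalₐ J n (G x) = (en n).symm (ev2 n x) := fun n x => by
    exact AdicCompletion.evalₐ_liftAlgHom _ _ _ _ _
  let E : AdicCompletion J (MvPolynomial (Fin d) R) ≃ₐ[R] AdicCompletion I S :=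
    AlgEquiv.ofAlgHom F G (AlgHom.ext fun x => AdicCompletion.ext_evalₐ fun n => by
        rw [AlgHom.comp_apply, hF]; show en n (AdicCompletion.evalₐ J n (G x)) = _; rw [hG, AlgEquiv.apply_symm_apply]; rfl)
      (AlgHom.ext fun x => AdicCompletion.ext_evalₐ fun n => by
        rw [AlgHom.comp_apply, hG]; show (en n).symm (AdicCompletion.evalₐ I n (F x)) = _; rw [hF, AlgEquiv.symm_apply_apply]; rfl)
  exact ⟨E.symm.trans ((MvPowerSeries.toAdicCompletionAlgEquiv (Fin d) R).symm.restrictScalars R)⟩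

end Groth.Agent.S2099
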