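import Groth.Statements.S2100
import Groth.Agent.Lib.CAlgLow.RefNorm
import Mathlib.RingTheory.LocalRing.ResidueField.Instances
import Mathlib.RingTheory.AlgebraicIndependent.TranscendenceBasis

set_option autoImplicit false
universe u
open CAlg

namespace Groth.Agent.S2100

open MvPolynomial in
/-- kill the variables from `s` on -/
noncomputable def cut (k : Type u) [Field k] (n s : ℕ) : MvPolynomial (Fin n) k →ₐ[k] MvPolynomial (Fin n) k :=
  aeval fun i => if (i : ℕ) < s then X i else 0

open MvPolynomial in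
theorem ker_cut (k : Type u) [Field k] (n s : ℕ) :
    RingHom.ker (cut k n s) = Ideal.span (Set.range fun i : {i : Fin n // s ≤ (i : ℕ)} => X (i : Fin n)) := by
  set J := Ideal.span (Set.range fun i : {i : Fin n // s ≤ (i : ℕ)} => (X (i : Fin n) : MvPolynomial (Fin n) k))
  refine le_antisymm (fun p hp => ?_) (Ideal.span_le.2 ?_)
  · have : (Ideal.Quotient.mkₐ k J).comp (cut k n s) = Ideal.Quotient.mkₐ k J := MvPolynomial.algHom_ext fun i => by
      simp only [AlgHom.comp_apply, cut, aeval_X]
      by_cases hi : (i : ℕ) < s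
      · rw [if_pos hi]
      · rw [if_neg hi, map_zero]
        exact (Ideal.Quotient.eq_zero_iff_mem.2 (Ideal.subset_span (Set.mem_range_self
          (f := fun i : {i : Fin n // s ≤ (i : ℕ)} => (X (i : Fin n) : MvPolynomial (Fin n) k)) ⟨i, not_lt.1 hi⟩))).symm
    have h := DFunLike.congr_fun this p
    rw [AlgHom.comp_apply, show cut k n s p = 0 from hp, map_zero] at h
    exact Ideal.Quotient.eq_zero_iff_mem.1 h.symm
  · rintro _ ⟨⟨i, hi⟩, rfl⟩
    simp [cut, not_lt.2 hi]

open MvPolynomial in
theorem exists_norm {k : Type u} [Field k] : ∀ (n : ℕ) (q : Ideal (MvPolynomial (Fin n) k)), q.IsPrime →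
    ∃ (s : ℕ) (φ : MvPolynomial (Fin n) k →ₐ[k] MvPolynomial (Fin n) k), s ≤ n ∧ φ.toRingHom.IsIntegral ∧
      q.comap φ = RingHom.ker (cut k n s) := by
  intro n
  induction n with
  | zero =>
    intro q hq
    refine ⟨0, AlgHom.id k _, le_rfl, RingHom.isIntegral_of_surjective _ Function.surjective_id, ?_⟩
    rw [show cut k 0 0 = AlgHom.id k _ from MvPolynomial.algHom_ext fun i => i.elim0]
    ext p
    show p ∈ q ↔ p = 0
    refine ⟨fun hp => ?_, fun h => h ▸ zero_mem q⟩
    obtain ⟨c, rfl⟩ := MvPolynomial.C_surjective (R := k) (Fin 0) p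
    by_contra h
    exact hq.ne_top (Ideal.eq_top_of_isUnit_mem q hp ((isUnit_iff_ne_zero.2 fun hc => h (by rw [hc, map_zero])).map MvPolynomial.C))
  | succ n ih =>
    intro q hq
    by_cases hb : q = ⊥
    · subst hb
      refine ⟨n + 1, AlgHom.id k _, le_rfl, RingHom.isIntegral_of_surjective _ Function.surjective_id, ?_⟩
      rw [show cut k (n + 1) (n + 1) = AlgHom.id k _ from MvPolynomial.algHom_ext fun i => by
        simp only [cut, aeval_X, AlgHom.id_apply, if_pos i.2]]
      ext p
      simp
    obtain ⟨f, hf, hf0⟩ := Submodule.exists_mem_ne_zero_of_ne_bot hb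
    obtain ⟨φ₁, hφ₁X, hφ₁⟩ := RefNorm.exists_integral f hf0 fun h => hq.ne_top (Ideal.eq_top_of_isUnit_mem q hf h)
    let q' := q.comap φ₁
    haveI hq' : q'.IsPrime := Ideal.comap_isPrime _ _
    let emb : MvPolynomial (Fin n) k →ₐ[k] MvPolynomial (Fin (n + 1)) k := rename Fin.castSucc
    obtain ⟨s, ψ, hs, hψ, hψc⟩ := ih (q'.comap emb) (Ideal.comap_isPrime _ _)
    let π : MvPolynomial (Fin (n + 1)) k →ₐ[k] MvPolynomial (Fin n) k := aeval (Fin.lastCases 0 X)
    have hπ : ∀ p, p ∈ q' ↔ emb (π p) ∈ q' := by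
      intro p
      have e : (Ideal.Quotient.mkₐ k q').comp (emb.comp π) = Ideal.Quotient.mkₐ k q' :=
        MvPolynomial.algHom_ext fun i => by
          refine Fin.lastCases ?_ (fun j => ?_) i
          · simp only [AlgHom.comp_apply, π, aeval_X, Fin.lastCases_last, map_zero]
            refine (Ideal.Quotient.eq_zero_iff_mem.2 ?_).symm
            show φ₁ (X (Fin.last n)) ∈ q
            rw [hφ₁X]; exact hf
          · simp [π, emb]
      have h := DFunLike.congr_fun e p
      rw [← Ideal.Quotient.eq_zero_iff_mem, ← Ideal.Quotient.eq_zero_iff_mem]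
      exact ⟨fun hp => h.trans hp, fun hp => h.symm.trans hp⟩
    let Ψ : MvPolynomial (Fin (n + 1)) k →ₐ[k] MvPolynomial (Fin (n + 1)) k :=
      aeval (Fin.lastCases (X (Fin.last n)) fun i => emb (ψ (X i)))
    have hΨe : Ψ.comp emb = emb.comp ψ := MvPolynomial.algHom_ext fun i => by simp [Ψ, emb]
    have hΨi : Ψ.toRingHom.IsIntegral := by
      letI := Ψ.toRingHom.toAlgebra
      intro p
      show IsIntegral (MvPolynomial (Fin (n + 1)) k) p
      induction p using MvPolynomial.induction_on with
      | C c =>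
        rw [← MvPolynomial.algebraMap_eq, ← Ψ.commutes c]
        exact isIntegral_algebraMap (x := algebraMap k (MvPolynomial (Fin (n + 1)) k) c)
      | add a b ha hb => exact ha.add hb
      | mul_X a i ha =>
        refine ha.mul ?_
        refine Fin.lastCases ?_ (fun j => ?_) i
        · rw [show (X (Fin.last n) : MvPolynomial (Fin (n + 1)) k) = Ψ (X (Fin.last n)) by simp [Ψ]]
          exact isIntegral_algebraMap (x := (X (Fin.last n) : MvPolynomial (Fin (n + 1)) k))
        · obtain ⟨F, hF, hFj⟩ := hψ (X j)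
          refine ⟨F.map emb.toRingHom, hF.map _, ?_⟩
          show Polynomial.eval₂ Ψ.toRingHom (X j.castSucc) _ = 0
          rw [Polynomial.eval₂_map, show Ψ.toRingHom.comp emb.toRingHom = emb.toRingHom.comp ψ.toRingHom from
            congrArg AlgHom.toRingHom hΨe, show (X j.castSucc : MvPolynomial (Fin (n + 1)) k) = emb.toRingHom (X j) by
            simp [emb], ← Polynomial.hom_eval₂, hFj, map_zero]
    refine ⟨s, φ₁.comp Ψ, Nat.le_succ_of_le hs, RingHom.IsIntegral.trans Ψ.toRingHom φ₁.toRingHom hΨi hφ₁, ?_⟩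
    ext p
    show Ψ p ∈ q' ↔ cut k (n + 1) s p = 0
    rw [hπ]
    have e2 : π.comp Ψ = ψ.comp π := MvPolynomial.algHom_ext fun i => by
      refine Fin.lastCases ?_ (fun j => ?_) i
      · simp [π, Ψ]
      · have hid : π.comp emb = AlgHom.id k _ := MvPolynomial.algHom_ext fun i => by simp [π, emb]
        have := DFunLike.congr_fun hid (ψ (X j))
        simpa [π, Ψ] using this
    rw [show π (Ψ p) = ψ (π p) from DFunLike.congr_fun e2 p]
    have h3 : ψ (π p) ∈ q'.comap emb ↔ cut k n s (π p) = 0 := by
      rw [← RingHom.mem_ker, ← hψc]; rfl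
    refine h3.trans ?_
    have e3 : emb.comp ((cut k n s).comp π) = cut k (n + 1) s := MvPolynomial.algHom_ext fun i => by
      refine Fin.lastCases ?_ (fun j => ?_) i
      · simp [π, emb, cut, not_lt.2 hs]
      · by_cases hj : (j : ℕ) < s <;> simp [π, emb, cut, hj]
    rw [← e3]
    exact ⟨fun h => by rw [AlgHom.comp_apply, AlgHom.comp_apply, h, map_zero], fun h =>
      rename_injective _ (Fin.castSucc_injective n) (h.trans (map_zero _).symm)⟩



/-- Let `k` be a field, `𝔮` a prime of `k[x_1, …, x_n]` and `r` the transcendence degree of `κ(𝔮)` over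
`k`. Then there is a finite `k`-algebra map `φ : k[y_1, …, y_n] → k[x_1, …, x_n]` with `φ⁻¹(𝔮) =
(y_{r+1}, …, y_n)`. -/
theorem result {k : Type u} [Field k] (n r : ℕ) (q : Ideal (MvPolynomial (Fin n) k))
    [q.IsPrime] (hr : Algebra.trdeg k q.ResidueField = r) :
    ∃ φ : MvPolynomial (Fin n) k →ₐ[k] MvPolynomial (Fin n) k, φ.toRingHom.Finite ∧
      q.comap φ = Ideal.span (Set.range fun i : {i : Fin n // r ≤ (i : ℕ)} => MvPolynomial.X (i : Fin n)) := by
  obtain ⟨s, φ, hs, hint, hker⟩ := exists_norm n q inferInstance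
  let B := MvPolynomial (Fin n) k ⧸ q
  let a : Fin s → B := fun i => Ideal.Quotient.mk q (φ (MvPolynomial.X (Fin.castLE hs i)))
  have hcomp : MvPolynomial.aeval (R := k) a =
      (Ideal.Quotient.mkₐ k q).comp (φ.comp (MvPolynomial.rename (Fin.castLE hs))) :=
    MvPolynomial.algHom_ext fun i => by simp [a]
  have hind : AlgebraicIndependent k a := by
    rw [algebraicIndependent_iff]
    intro F hF
    rw [hcomp] at hF
    have hmem : MvPolynomial.rename (Fin.castLE hs) F ∈ q.comap φ :=
      (Ideal.Quotient.eq_zero_iff_mem (I := q)).1 hF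
    rw [hker, RingHom.mem_ker] at hmem
    have e : (cut k n s).comp (MvPolynomial.rename (Fin.castLE hs)) = MvPolynomial.rename (Fin.castLE hs) :=
      MvPolynomial.algHom_ext fun i => by simp [cut, i.2]
    have h2 := (DFunLike.congr_fun e F).symm.trans hmem
    exact MvPolynomial.rename_injective _ (Fin.castLE_injective hs) (h2.trans (map_zero _).symm)
  have hrange : ∀ p, Ideal.Quotient.mk q (φ p) ∈ Algebra.adjoin k (Set.range a) := by
    intro p
    induction p using MvPolynomial.induction_on with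
    | C c => rw [← MvPolynomial.algebraMap_eq, φ.commutes, Ideal.Quotient.mk_algebraMap]; exact Subalgebra.algebraMap_mem _ c
    | add x y hx hy => rw [map_add, map_add]; exact add_mem hx hy
    | mul_X x i hx =>
      rw [map_mul, map_mul]
      refine mul_mem hx ?_
      by_cases hi : (i : ℕ) < s
      · exact Algebra.subset_adjoin ⟨⟨i, hi⟩, rfl⟩
      · rw [Ideal.Quotient.eq_zero_iff_mem.2 (show φ (MvPolynomial.X i) ∈ q from ?_)]
        · exact zero_mem _
        · show MvPolynomial.X i ∈ q.comap φ
          rw [hker, ker_cut]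
          exact Ideal.subset_span ⟨⟨i, not_lt.1 hi⟩, rfl⟩
  haveI halg : Algebra.IsAlgebraic (Algebra.adjoin k (Set.range a)) B := ⟨fun b => by
    obtain ⟨x, rfl⟩ := Ideal.Quotient.mk_surjective b
    obtain ⟨F, hF, hFx⟩ := hint x
    refine IsIntegral.isAlgebraic ⟨F.map (((Ideal.Quotient.mkₐ k q).comp φ).codRestrict _ hrange).toRingHom,
      hF.map _, ?_⟩
    rw [Polynomial.eval₂_map]
    have := congrArg (Ideal.Quotient.mk q) hFx
    rw [Polynomial.hom_eval₂, map_zero] at this
    exact this⟩
  haveI : IsDomain B := Ideal.Quotient.isDomain q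
  have htb := hind.isTranscendenceBasis_iff_isAlgebraic.2 halg
  have hc : Algebra.trdeg k B = (s : Cardinal) := by
    have h := htb.lift_cardinalMk_eq_trdeg
    rw [Cardinal.mk_fin, Cardinal.lift_natCast] at h
    simpa using h.symm
  have h1 := trdeg_add_eq k B (A := q.ResidueField)
  rw [trdeg_eq_zero (R := B) (A := q.ResidueField), add_zero, hc, hr] at h1
  have hsr : s = r := by exact_mod_cast h1
  subst hsr
  refine ⟨φ, RingHom.IsIntegral.to_finite hint ?_, hker.trans (ker_cut k n s)⟩
  exact RingHom.FiniteType.of_comp_finiteType (f := algebraMap k (MvPolynomial (Fin n) k))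
    (by rw [show φ.toRingHom.comp (algebraMap k _) = algebraMap k _ from φ.comp_algebraMap]; exact RingHom.finiteType_algebraMap.2 inferInstance)

end Groth.Agent.S2100
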