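import Groth.Statements.S2101
import Mathlib.RingTheory.Regular.RegularSequence
import Mathlib.Data.Finset.Max
import Mathlib.Tactic.LinearCombination

set_option autoImplicit false
universe u
open CAlg

namespace Groth.Agent.S2101

open MvPolynomial

/-- `a` is regular modulo `J`. -/
def Reg {A : Type u} [CommRing A] (a : A) (J : Ideal A) : Prop := ∀ x, a * x ∈ J → x ∈ J

lemma reg_swap {A : Type u} [CommRing A] {a b : A} {J : Ideal A} (ha : Reg a J)
    (hb : Reg b (Ideal.span {a} ⊔ J)) : Reg a (Ideal.span {b} ⊔ J) := by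
  intro x hx
  obtain ⟨_, hby, j, hj, e⟩ := Submodule.mem_sup.mp hx
  obtain ⟨y, rfl⟩ := Ideal.mem_span_singleton'.mp hby
  have : y ∈ Ideal.span {a} ⊔ J := hb y (by
    rw [show b * y = x * a + (-j) by linear_combination e]
    exact Submodule.add_mem_sup (Ideal.mem_span_singleton'.mpr ⟨x, rfl⟩) (J.neg_mem hj))
  obtain ⟨_, haz, j', hj', e'⟩ := Submodule.mem_sup.mp this
  obtain ⟨z, rfl⟩ := Ideal.mem_span_singleton'.mp haz
  subst e'
  have h : x - z * b ∈ J := ha _ (by
    rw [show a * (x - z * b) = j + b * j' by linear_combination -e]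
    exact J.add_mem hj (J.mul_mem_left _ hj'))
  rw [show x = z * b + (x - z * b) by ring]
  exact Submodule.add_mem_sup (Ideal.mem_span_singleton'.mpr ⟨z, rfl⟩) h

lemma isRegular_ofFn {A : Type u} [CommRing A] {r : ℕ} (g : Fin r → A) :
    RingTheory.Sequence.IsRegular A (List.ofFn g) ↔
      (∀ i : Fin r, Reg (g i) (Ideal.span (g '' (Finset.Iio i : Finset (Fin r))))) ∧
        Ideal.span (Set.range g) ≠ ⊤ := by
  have htake : ∀ i : Fin r, Ideal.ofList ((List.ofFn g).take i) =
      Ideal.span (g '' (Finset.Iio i : Finset (Fin r))) := fun i => by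
    rw [Ideal.ofList]
    congr 1
    ext x
    simp only [Set.mem_setOf_eq, List.mem_take_iff_getElem, List.getElem_ofFn, List.length_ofFn,
      Finset.coe_Iio, Set.mem_image, Set.mem_Iio]
    constructor
    · rintro ⟨j, hj, rfl⟩
      exact ⟨⟨j, by omega⟩, Fin.lt_def.mpr (by simp; omega), rfl⟩
    · rintro ⟨j, hj, rfl⟩
      exact ⟨j, by have := Fin.lt_def.mp hj; omega, rfl⟩
  have hall : Ideal.ofList (List.ofFn g) = Ideal.span (Set.range g) := by
    rw [Ideal.ofList]
    congr 1
    ext x
    simp [List.mem_ofFn]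
  constructor
  · rintro ⟨⟨h1⟩, h2⟩
    refine ⟨fun i x hx => ?_, fun h => h2 (by simp [hall, h])⟩
    have := (isSMulRegular_quotient_iff_mem_of_smul_mem _ _).mp (h1 i (by simp)) x
    simp only [smul_eq_mul, Ideal.mul_top, List.getElem_ofFn, htake, Fin.eta] at this
    exact this hx
  · rintro ⟨h1, h2⟩
    refine ⟨⟨fun i hi => (isSMulRegular_quotient_iff_mem_of_smul_mem _ _).mpr fun x hx => ?_⟩,
      fun h => h2 ?_⟩
    · simp only [List.length_ofFn] at hi
      simp only [smul_eq_mul, Ideal.mul_top, List.getElem_ofFn] at hx ⊢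
      rw [htake ⟨i, hi⟩] at hx ⊢
      exact h1 ⟨i, hi⟩ x hx
    · rw [hall] at h
      simpa using h.symm

variable {R : Type u} [CommRing R] {r : ℕ} (f : Fin r → R)

/-- The partial ideal. -/
abbrev II (T : Finset (Fin r)) : Ideal R := Ideal.span (f '' (T : Set (Fin r)))

/-- All subset regularity. -/
def H : Prop := ∀ (T : Finset (Fin r)) (i : Fin r), i ∉ T → Reg (f i) (II f T)

lemma II_insert (k : Fin r) (T : Finset (Fin r)) :
    II f (insert k T) = Ideal.span {f k} ⊔ II f T := by
  rw [II, II, Finset.coe_insert, Set.image_insert_eq, Ideal.span_insert]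

lemma perms_iff : (∀ σ : Equiv.Perm (Fin r), ∀ i : Fin r,
    Reg ((f ∘ σ) i) (Ideal.span ((f ∘ σ) '' (Finset.Iio i : Finset (Fin r))))) ↔ H f := by
  classical
  constructor
  · intro h T i hi
    have hlt : T.card < r := by
      have := Finset.card_lt_card (s := T) (t := Finset.univ) ⟨Finset.subset_univ _,
        fun hh => hi (hh (Finset.mem_univ i))⟩
      simpa using this
    let k : Fin r := ⟨T.card, hlt⟩
    have e : {x // x ∈ Finset.Iio k} ≃ {x // x ∈ T} := Finset.equivOfCardEq (by simp [k])
    let σ₁ : Equiv.Perm (Fin r) := e.extendSubtype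
    have h1 : ∀ x, σ₁ x ∈ T ↔ x ∈ Finset.Iio k := fun x =>
      ⟨fun hx => by_contra fun hn => e.extendSubtype_not_mem x hn hx,
        fun hx => e.extendSubtype_mem x hx⟩
    have hk : σ₁ k ∉ T := fun hh => by simpa using (h1 k).mp hh
    let σ : Equiv.Perm (Fin r) := σ₁.trans (Equiv.swap (σ₁ k) i)
    have himg : σ '' (Finset.Iio k : Finset (Fin r)) = T := by
      ext y
      simp only [Set.mem_image, Finset.mem_coe]
      constructor
      · rintro ⟨x, hx, rfl⟩
        have := (h1 x).mpr hx
        rwa [show σ x = σ₁ x from Equiv.swap_apply_of_ne_of_ne (fun e => hk (e ▸ this))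
          (fun e => hi (e ▸ this))]
      · intro hy
        refine ⟨σ₁.symm y, (h1 _).mp (by simpa using hy), ?_⟩
        show Equiv.swap (σ₁ k) i (σ₁ (σ₁.symm y)) = y
        rw [Equiv.apply_symm_apply]
        exact Equiv.swap_apply_of_ne_of_ne (fun e => hk (e ▸ hy)) (fun e => hi (e ▸ hy))
    have := h σ k
    rw [Set.image_comp, himg, Function.comp_apply] at this
    rwa [show σ k = i from Equiv.swap_apply_left _ _] at this
  · intro h σ i
    have := h ((Finset.Iio i).image σ) (σ i) (fun hh => by
      obtain ⟨x, hx, e⟩ := Finset.mem_image.mp hh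
      rw [σ.injective e] at hx; simp at hx)
    rwa [II, Finset.coe_image, ← Set.image_comp] at this

lemma H_iff : H f ↔ ∀ (i : Fin r) (T : Finset (Fin r)), (∀ j ∈ T, j < i) → Reg (f i) (II f T) := by
  classical
  constructor
  · exact fun h i T hT => h T i fun hi => lt_irrefl _ (hT i hi)
  · intro h T
    induction T using Finset.induction_on_max with
    | empty => exact fun i _ => h i ∅ (by simp)
    | insert k s hks ih =>
      intro i hi
      rw [Finset.mem_insert, not_or] at hi
      rcases lt_or_gt_of_ne hi.1 with hik | hki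
      · rw [II_insert]
        refine reg_swap (ih i hi.2) ?_
        rw [← II_insert]
        exact h k _ fun j hj => (Finset.mem_insert.mp hj).elim (fun e => e ▸ hik) (hks j)
      · exact h i _ fun j hj => (Finset.mem_insert.mp hj).elim (fun e => e ▸ hki)
          (fun hj => (hks j hj).trans hki)

/-- The monomial sequence. -/
noncomputable abbrev gg (i : Fin r) : MvPolynomial (Fin r) R := C (f i) * X i

lemma mem_span_gg (T : Finset (Fin r)) (x : MvPolynomial (Fin r) R) :
    x ∈ Ideal.span (gg f '' (T : Set (Fin r))) ↔ ∀ α, coeff α x ∈ II f (T ∩ α.support) := by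
  classical
  constructor
  · intro hx α
    induction hx using Submodule.span_induction generalizing α with
    | mem y hy =>
      obtain ⟨j, hj, rfl⟩ := hy
      rw [gg, coeff_C_mul, coeff_X']
      split_ifs with e
      · subst e
        rw [mul_one]
        exact Ideal.subset_span ⟨j, by simpa using hj, rfl⟩
      · rw [mul_zero]; exact zero_mem _
    | zero => simp
    | add a b _ _ ha hb => rw [coeff_add]; exact add_mem (ha α) (hb α)
    | smul a b _ hb =>
      rw [smul_eq_mul, coeff_mul]
      refine sum_mem fun x hx => Ideal.mul_mem_left _ _ ?_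
      refine Ideal.span_mono (Set.image_mono ?_) (hb x.2)
      intro j hj
      simp only [Finset.coe_inter, Set.mem_inter_iff, Finset.mem_coe, Finsupp.mem_support_iff] at hj ⊢
      refine ⟨hj.1, ?_⟩
      have := congrArg (fun z => z j) (Finset.mem_antidiagonal.mp hx)
      simp only [Finsupp.add_apply] at this
      omega
  · intro h
    rw [x.as_sum]
    refine sum_mem fun α _ => ?_
    have := h α
    generalize coeff α x = c at this ⊢
    induction this using Submodule.span_induction with
    | mem c hc =>
      obtain ⟨j, hj, rfl⟩ := hc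
      obtain ⟨hjT, hja⟩ := Finset.mem_inter.mp hj
      have e : monomial α (f j) = monomial (α - Finsupp.single j 1) 1 * gg f j := by
        rw [gg, X, C_mul_monomial, monomial_mul, one_mul, mul_one,
          tsub_add_cancel_of_le (Finsupp.single_le_iff.mpr
            (Nat.one_le_iff_ne_zero.mpr (Finsupp.mem_support_iff.mp hja)))]
      rw [e]
      exact Ideal.mul_mem_left _ _ (Ideal.subset_span ⟨j, hjT, rfl⟩)
    | zero => simp
    | add a b _ _ ha hb => rw [map_add]; exact add_mem ha hb
    | smul a b _ hb =>
      rw [smul_eq_mul, ← C_mul_monomial]; exact Ideal.mul_mem_left _ _ hb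

lemma poly_iff (i : Fin r) (T : Finset (Fin r)) (hi : i ∉ T) :
    Reg (gg f i) (Ideal.span (gg f '' (T : Set (Fin r)))) ↔ ∀ S ⊆ T, Reg (f i) (II f S) := by
  classical
  have hT : ∀ α : Fin r →₀ ℕ, T ∩ (α + Finsupp.single i 1).support = T ∩ α.support := fun α => by
    ext j
    simp only [Finset.mem_inter, Finsupp.mem_support_iff, Finsupp.add_apply, ne_eq]
    refine and_congr_right fun hj => ?_
    rw [Finsupp.single_eq_of_ne (by rintro rfl; exact hi hj), add_zero]
  constructor
  · intro h S hS c hc
    let α : Fin r →₀ ℕ := Finsupp.indicator S fun _ _ => 1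
    have hα : T ∩ α.support = S := by
      ext j
      simp [α, Finsupp.indicator_apply]
      exact fun hj => hS hj
    have h1 : monomial α c ∈ Ideal.span (gg f '' (T : Set (Fin r))) := h _ (by
      rw [mem_span_gg]
      intro β
      rw [gg, X, C_mul_monomial, mul_one, monomial_mul, coeff_monomial, add_comm]
      split_ifs with e
      · rw [← e, hT, hα]; exact hc
      · exact zero_mem _)
    have h2 := (mem_span_gg f T _).mp h1 α
    rwa [hα, coeff_monomial, if_pos rfl] at h2
  · intro h x hx
    rw [mem_span_gg] at hx ⊢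
    intro α
    have := hx (α + Finsupp.single i 1)
    rw [hT, gg, mul_comm (C (f i)) (X i), mul_assoc, add_comm α, coeff_X_mul, coeff_C_mul] at this
    exact h _ Finset.inter_subset_left _ this



/-- For elements `f_1, …, f_r` generating a proper ideal, all reorderings are regular sequences in `R`
if and only if the products `f_i x_i` form a regular sequence in `R[x_1, …, x_r]`. -/
theorem result {R : Type u} [CommRing R] {r : ℕ} (f : Fin r → R)
    (hf : Ideal.span (Set.range f) ≠ ⊤) :
    (∀ σ : Equiv.Perm (Fin r), RingTheory.Sequence.IsRegular R (List.ofFn (f ∘ σ))) ↔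
      RingTheory.Sequence.IsRegular (MvPolynomial (Fin r) R)
        (List.ofFn fun i => MvPolynomial.C (f i) * MvPolynomial.X i) := by
  classical
  have : Nontrivial R := by
    by_contra hn
    rw [not_nontrivial_iff_subsingleton] at hn
    exact hf (Subsingleton.elim _ _)
  have htop : Ideal.span (Set.range (gg f)) ≠ ⊤ := fun h => by
    have hle : Ideal.span (Set.range (gg f)) ≤ RingHom.ker (MvPolynomial.constantCoeff (σ := Fin r) (R := R)) := by
      rw [Ideal.span_le]
      rintro _ ⟨i, rfl⟩
      simp [gg]
    have h1 : (1 : MvPolynomial (Fin r) R) ∈ RingHom.ker (MvPolynomial.constantCoeff (σ := Fin r) (R := R)) :=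
      hle (h ▸ Submodule.mem_top)
    simp at h1
  have hσ : ∀ σ : Equiv.Perm (Fin r), Ideal.span (Set.range (f ∘ σ)) ≠ ⊤ := fun σ => by
    rwa [σ.surjective.range_comp]
  simp only [isRegular_ofFn, ne_eq, hσ, not_false_eq_true, and_true]
  rw [perms_iff, H_iff]
  change _ ↔ (∀ i : Fin r, Reg (gg f i) (Ideal.span (gg f '' (Finset.Iio i : Finset (Fin r))))) ∧ _
  rw [and_iff_left htop, forall_congr' fun i => poly_iff f i (Finset.Iio i) (by simp)]
  exact ⟨fun h i S hS => h i S fun j hj => by simpa using hS hj,
    fun h i T hT => h i T fun j hj => Finset.mem_Iio.mpr (hT j hj)⟩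

end Groth.Agent.S2101
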