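import Groth.Statements.S2102
import Mathlib.AlgebraicGeometry.FunctionField
import Mathlib.RingTheory.IntegralClosure.IntegrallyClosed

set_option autoImplicit false
universe u
open CategoryTheory AlgebraicGeometry
open Mor

namespace Groth.Agent.S2102

/-- The ring of global sections of an integral normal scheme is an integrally closed domain. -/
theorem result (X : Scheme.{u}) [IsIntegral X] (hX : Pi1.IsNormalScheme X) :
    IsIntegrallyClosed (Γ(X, ⊤) : Type u) := by
  have hne : Nonempty (⊤ : X.Opens) := ⟨⟨Classical.arbitrary X, trivial⟩⟩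
  let φ := (X.germToFunctionField ⊤).hom
  have hφ : Function.Injective φ := X.germToFunctionField_injective ⊤
  let g : FractionRing (Γ(X, ⊤) : Type u) →+* X.functionField := IsFractionRing.lift hφ
  have hg : ∀ r, g (algebraMap _ _ r) = φ r := fun r => IsFractionRing.lift_algebraMap hφ r
  refine (isIntegrallyClosed_iff (FractionRing (Γ(X, ⊤) : Type u))).2 fun {z} hz => ?_
  have hint : φ.IsIntegralElem (g z) := by
    obtain ⟨p, hp, hp0⟩ := hz
    refine ⟨p, hp, ?_⟩
    have := congrArg g hp0
    rw [Polynomial.hom_eval₂, map_zero] at this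
    rwa [show g.comp (algebraMap _ _) = φ from RingHom.ext hg] at this
  have hloc : ∀ x : X, ∃ (U : X.Opens) (_ : x ∈ U) (_ : Nonempty U) (s : Γ(X, U)),
      X.germToFunctionField U s = g z := by
    intro x
    have := (hX x).2
    have hx : IsIntegral (X.presheaf.stalk x) (g z) := by
      obtain ⟨p, hp, hp0⟩ := hint
      refine ⟨p.map (X.presheaf.germ ⊤ x trivial).hom, hp.map _, ?_⟩
      rw [Polynomial.eval₂_map]
      convert hp0 using 2
      ext r
      exact Scheme.algebraMap_germ_eq_germToFunctionField X (U := ⊤) trivial r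
    obtain ⟨y, hy⟩ := IsIntegrallyClosed.algebraMap_eq_of_integral hx
    obtain ⟨U, hxU, s, rfl⟩ := X.presheaf.exists_germ_eq y
    have : Nonempty U := ⟨⟨x, hxU⟩⟩
    exact ⟨U, hxU, this, s, by rw [← hy, Scheme.algebraMap_germ_eq_germToFunctionField]⟩
  choose U hxU hUne s hs using hloc
  obtain ⟨t, ht, -⟩ := X.sheaf.existsUnique_gluing' U ⊤ (fun x => homOfLE le_top)
    (fun x _ => TopologicalSpace.Opens.mem_iSup.2 ⟨x, hxU x⟩) s (fun i j => by
      rcases isEmpty_or_nonempty ↥(U i ⊓ U j : X.Opens) with h | h
      · have hbot : U i ⊓ U j = ⊥ := eq_bot_iff.2 fun p hp => (h.false ⟨p, hp⟩).elim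
        exact (CommRingCat.subsingleton_of_isTerminal
          (X.sheaf.isTerminalOfEqEmpty hbot)).elim _ _
      · have : Nonempty ↥((U i ⊓ U j : X.Opens) : Set X) := h
        apply @Scheme.germToFunctionField_injective X _ (U i ⊓ U j) h
        have := hUne i
        have := hUne j
        exact (TopCat.Presheaf.germ_res_apply X.presheaf _ _ _ _).trans
          ((hs i).trans ((hs j).symm.trans (TopCat.Presheaf.germ_res_apply X.presheaf _ _ _ _).symm)))
  refine ⟨t, g.injective ?_⟩
  rw [hg]
  let x := Classical.arbitrary X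
  have := hUne x
  rw [← hs x, ← ht x]
  exact (TopCat.Presheaf.germ_res_apply X.presheaf _ _ _ _).symm

end Groth.Agent.S2102
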