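import Groth.Statements.S2106
import Groth.Agent.Lib.FlatH4.EssFP

set_option autoImplicit false
universe u
open CAlg

namespace Groth.Agent.S2106

open TensorProduct LinearMap Groth.Agent.FlatH4


/-- Let `R → S → S'` be local homomorphisms of local rings with `S` and `S'` essentially of finite
presentation over `R`, and `M` a nonzero finitely presented `S'`-module which is flat over `R` and
such that `M/𝔪_R M` is flat over `S/𝔪_R S`. Then `S` is flat over `R` and `M` is flat over `S`. -/
theorem result {R S S' M : Type u} [CommRing R] [CommRing S] [CommRing S']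
    [IsLocalRing R] [IsLocalRing S] [IsLocalRing S'] [Algebra R S] [Algebra S S'] [Algebra R S'] [IsScalarTower R S S']
    [IsLocalHom (algebraMap R S)] [IsLocalHom (algebraMap S S')]
    (hS : CAlgX.IsEssFinitePresentation R S) (hS' : CAlgX.IsEssFinitePresentation R S')
    [AddCommGroup M] [Module S' M] [Module S M] [Module R M] [IsScalarTower S S' M] [IsScalarTower R S' M]
    [IsScalarTower R S M] [Module.FinitePresentation S' M] [Nontrivial M] [Module.Flat R M]
    (hfib : Module.Flat (S ⧸ (IsLocalRing.maximalIdeal R).map (algebraMap R S))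
      (M ⧸ (IsLocalRing.maximalIdeal R).map (algebraMap R S) • (⊤ : Submodule S M))) :
    Module.Flat R S ∧ Module.Flat S M := by
  classical
  obtain ⟨S₀, _, _, _, _, V, hfpS, hlocS⟩ := hS
  obtain ⟨S'₀, _, _, _, _, U, hfpS', hlocS'⟩ := hS'
  obtain ⟨T, _, _, _, _, _, _, W, hfpT, hlocT, hcompat⟩ := exists_algebra_localization U
    ((IsScalarTower.toAlgHom R S S').comp (IsScalarTower.toAlgHom R S₀ S))
  letI : Algebra S₀ S' := ((algebraMap S S').comp (algebraMap S₀ S)).toAlgebra
  haveI : IsScalarTower S₀ S S' := IsScalarTower.of_algebraMap_eq fun _ => rfl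
  haveI : IsScalarTower S₀ T S' := IsScalarTower.of_algebraMap_eq fun s => (hcompat s).symm
  letI : Module S₀ M := Module.compHom M (algebraMap S₀ S)
  letI : Module T M := Module.compHom M (algebraMap T S')
  haveI : IsScalarTower S₀ S M := IsScalarTower.of_algebraMap_smul fun _ _ => rfl
  haveI : IsScalarTower T S' M := IsScalarTower.of_algebraMap_smul fun _ _ => rfl
  obtain ⟨M₀, _, _, g, hfpM, hloc⟩ := exists_localized_presentation W (S' := S') (M := M)
  letI : Module S₀ M₀ := Module.compHom M₀ (algebraMap S₀ T)
  letI : Module R M₀ := Module.compHom M₀ (algebraMap R T)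
  haveI : IsScalarTower S₀ T M₀ := IsScalarTower.of_algebraMap_smul fun _ _ => rfl
  haveI : IsScalarTower R T M₀ := IsScalarTower.of_algebraMap_smul fun _ _ => rfl
  haveI : IsScalarTower R S₀ M₀ := IsScalarTower.of_algebraMap_smul fun r m => by
    show algebraMap S₀ T (algebraMap R S₀ r) • m = algebraMap R T r • m
    rw [← IsScalarTower.algebraMap_apply]
  haveI : IsScalarTower R T M := IsScalarTower.of_algebraMap_smul fun r m => by
    show algebraMap T S' (algebraMap R T r) • m = r • m
    rw [← IsScalarTower.algebraMap_apply, algebraMap_smul]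
  haveI : IsScalarTower S₀ T M := IsScalarTower.of_algebraMap_smul fun s m => by
    show algebraMap T S' (algebraMap S₀ T s) • m = algebraMap S₀ S s • m
    rw [← IsScalarTower.algebraMap_apply, IsScalarTower.algebraMap_apply S₀ S S', algebraMap_smul]
  let q : Ideal T := (IsLocalRing.maximalIdeal S').comap (algebraMap T S')
  have hWq : W ≤ q.primeCompl := fun w hw => fun h =>
    (IsLocalRing.mem_maximalIdeal _).1 h (IsLocalization.map_units S' (⟨w, hw⟩ : W))
  haveI hgq : IsLocalizedModule q.primeCompl g := by
    refine ⟨fun x => ?_, fun m => ?_, fun {x₁ x₂} h => ?_⟩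
    · have hx : IsUnit (algebraMap T S' x) := by
        by_contra hc
        exact x.2 ((IsLocalRing.mem_maximalIdeal _).2 hc)
      obtain ⟨y, hy⟩ := hx.exists_left_inv
      rw [Module.End.isUnit_iff]
      refine ⟨fun a b hab => ?_, fun b => ⟨y • b, ?_⟩⟩
      · have := congrArg (fun z => y • z) (show algebraMap T S' x • a = algebraMap T S' x • b from hab)
        simpa only [smul_smul, hy, one_smul] using this
      · show algebraMap T S' x • y • b = b
        rw [smul_smul, mul_comm, hy, one_smul]
    · obtain ⟨⟨x, w⟩, h⟩ := IsLocalizedModule.surj W g m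
      exact ⟨(x, ⟨w, hWq w.2⟩), h⟩
    · obtain ⟨c, hc⟩ := IsLocalizedModule.exists_of_eq (S := W) (f := g) h
      exact ⟨⟨c, hWq c.2⟩, hc⟩
  let e : LocalizedModule q.primeCompl M₀ ≃ₗ[T] M := IsLocalizedModule.iso q.primeCompl g
  haveI hflat : Module.Flat R (LocalizedModule q.primeCompl M₀) :=
    Module.Flat.of_linearEquiv (e.restrictScalars R)
  let 𝔪 := IsLocalRing.maximalIdeal R
  have hqR : q.comap (algebraMap R T) = 𝔪 := by
    rw [Ideal.comap_comap, ← IsScalarTower.algebraMap_eq, IsScalarTower.algebraMap_eq R S S',
      ← Ideal.comap_comap]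
    have h1 : (IsLocalRing.maximalIdeal S').comap (algebraMap S S') = IsLocalRing.maximalIdeal S :=
      ((IsLocalRing.local_hom_TFAE (algebraMap S S')).out 0 4).1 (by infer_instance)
    have h2 : (IsLocalRing.maximalIdeal S).comap (algebraMap R S) = IsLocalRing.maximalIdeal R :=
      ((IsLocalRing.local_hom_TFAE (algebraMap R S)).out 0 4).1 (by infer_instance)
    rw [h1, h2]
  haveI : Module.Flat S₀ S := IsLocalization.flat S V
  let P : Ideal S := 𝔪.map (algebraMap R S)
  have hmod : Module.Flat (S ⧸ P) ((S ⧸ P) ⊗[S] M) := by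
    haveI := hfib
    let e' : ((S ⧸ P) ⊗[S] M) ≃ₗ[S ⧸ P] M ⧸ P • (⊤ : Submodule S M) :=
      { TensorProduct.quotTensorEquivQuotSMul M P with
        map_smul' := fun r x => by
          obtain ⟨r, rfl⟩ := Ideal.Quotient.mk_surjective r
          show TensorProduct.quotTensorEquivQuotSMul M P (Ideal.Quotient.mk P r • x) =
            Ideal.Quotient.mk P r • TensorProduct.quotTensorEquivQuotSMul M P x
          rw [← Ideal.Quotient.algebraMap_eq, algebraMap_smul, algebraMap_smul, map_smul] }
    exact Module.Flat.of_linearEquiv e'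
  haveI : Algebra.FinitePresentation R S₀ := hfpS
  haveI : Algebra.FinitePresentation R T := hfpT
  haveI : Module.FinitePresentation T M₀ := hfpM
  haveI : Algebra.FiniteType R S₀ := inferInstance
  have hflat₀ : Module.Flat S₀ (LocalizedModule q.primeCompl M₀) := by
    refine flat_localized_of_fibFlat_ft (A := R) q ?_
    rw [hqR]
    intro N N' _ _ _ _ hN hN' f hf x hx
    have hF : Function.Injective (f.baseChange S) :=
      Module.Flat.lTensor_preserves_injective_linearMap f hf
    have htor : ∀ {X : Type u} [AddCommGroup X] [Module S₀ X],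
        Module.IsTorsionBySet S₀ X (𝔪.map (algebraMap R S₀) : Set S₀) →
        Module.IsTorsionBySet S (S ⊗[S₀] X) (P : Set S) := by
      intro X _ _ hX z r
      obtain ⟨r, hr⟩ := r
      have hann : P ≤ Module.annihilator S (S ⊗[S₀] X) := by
        rw [show P = (𝔪.map (algebraMap R S₀)).map (algebraMap S₀ S) by
          rw [Ideal.map_map, ← IsScalarTower.algebraMap_eq], Ideal.map_le_iff_le_comap]
        intro a ha
        rw [Ideal.mem_comap, Module.mem_annihilator]
        intro z
        rw [algebraMap_smul]
        induction z using TensorProduct.induction_on with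
        | zero => simp
        | tmul s n => rw [← TensorProduct.tmul_smul, @hX n ⟨a, ha⟩, TensorProduct.tmul_zero]
        | add a b ha hb => rw [smul_add, ha, hb, add_zero]
      exact Module.mem_annihilator.1 (hann hr) z
    have hinj : Function.Injective (f.lTensor M) := by
      let c := AlgebraTensorModule.cancelBaseChange S₀ S S M N
      let c' := AlgebraTensorModule.cancelBaseChange S₀ S S M N'
      have key : ∀ z, f.lTensor M (c z) = c' ((f.baseChange S).lTensor M z) := by
        intro z
        induction z using TensorProduct.induction_on with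
        | zero => simp
        | tmul m y =>
          induction y using TensorProduct.induction_on with
          | zero => simp
          | tmul s n => simp [c, c']
          | add a b ha hb => simp only [TensorProduct.tmul_add, map_add, ha, hb]
        | add a b ha hb => simp only [map_add, ha, hb]
      intro a b hab
      obtain ⟨a, rfl⟩ := c.surjective a
      obtain ⟨b, rfl⟩ := c.surjective b
      rw [key, key] at hab
      rw [lTensor_injective_of_flat_mod P hmod (htor hN) (htor hN') (f.baseChange S) hF (c'.injective hab)]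
    let g₁ := AlgebraTensorModule.rTensor S₀ N g
    have h1 : g₁ x = 0 := by
      apply hinj
      show f.lTensor M ((g.restrictScalars S₀).rTensor N x) = f.lTensor M 0
      rw [← LinearMap.comp_apply, lTensor_comp_rTensor, ← rTensor_comp_lTensor, LinearMap.comp_apply,
        hx, map_zero, map_zero]
    obtain ⟨t, ht⟩ := (IsLocalizedModule.eq_zero_iff q.primeCompl g₁).1 h1
    exact ⟨t, t.2, ht⟩
  haveI := hflat₀
  have hS₀M : Module.Flat S₀ M := Module.Flat.of_linearEquiv (e.restrictScalars S₀).symm
  haveI hSM : Module.Flat S M := (Module.flat_iff_of_isLocalization S V M).2 hS₀M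
  refine ⟨?_, hSM⟩
  let 𝔪' := IsLocalRing.maximalIdeal S'
  haveI hid : IsLocalizedModule 𝔪'.primeCompl (LinearMap.id : M →ₗ[S'] M) := by
    refine ⟨fun x => ?_, fun m => ⟨(m, 1), by simp⟩, fun {a b} h => ⟨1, by simpa using h⟩⟩
    have hx : IsUnit (x : S') := by
      by_contra hc
      exact x.2 ((IsLocalRing.mem_maximalIdeal _).2 hc)
    exact hx.map (algebraMap S' (Module.End S' M))
  let e'' := IsLocalizedModule.iso 𝔪'.primeCompl (LinearMap.id : M →ₗ[S'] M)
  haveI : Module.Flat R (LocalizedModule 𝔪'.primeCompl M) :=
    Module.Flat.of_linearEquiv (e''.restrictScalars R)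
  haveI : Module.Flat S (LocalizedModule 𝔪'.primeCompl M) :=
    Module.Flat.of_linearEquiv (e''.restrictScalars S)
  haveI : Nontrivial (LocalizedModule 𝔪'.primeCompl M) := e''.toEquiv.nontrivial
  haveI := flat_localization_of_flat_localized (A := R) (S := S) (T := S') (M := M) 𝔪'
    (IsLocalRing.maximalIdeal S) (((IsLocalRing.local_hom_TFAE (algebraMap S S')).out 0 4).1 (by infer_instance))
  exact Module.Flat.of_linearEquiv
    ((IsLocalization.atUnits S (IsLocalRing.maximalIdeal S).primeCompl
      (S := Localization.AtPrime (IsLocalRing.maximalIdeal S)) fun x hx => by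
        by_contra hc
        exact hx ((IsLocalRing.mem_maximalIdeal _).2 hc)).toLinearEquiv.restrictScalars R)

end Groth.Agent.S2106
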