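import Groth.Statements.S2107
import Groth.Agent.Lib.SchDom.FlatInj
import Groth.Agent.Lib.FlatH4.FlatLocusFP
import Groth.Agent.Lib.FlatH4.FlatLocal
import Mathlib

set_option autoImplicit false
universe u
open CAlg

namespace Groth.Agent.S2107

/-- Elements which are units in an algebra act invertibly on its modules. -/
theorem isUnit_end_of_isUnit {T S : Type u} [CommRing T] [CommRing S] [Algebra T S] {N : Type u}
    [AddCommGroup N] [Module S N] [Module T N] [IsScalarTower T S N] {t : T}
    (h : IsUnit (algebraMap T S t)) : IsUnit (algebraMap T (Module.End T N) t) := by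
  rw [Module.End.isUnit_iff]
  refine ⟨fun x y hxy => h.smul_left_cancel.1 ?_, fun y => ⟨(↑h.unit⁻¹ : S) • y, ?_⟩⟩
  · rw [algebraMap_smul, algebraMap_smul]
    exact hxy
  · rw [Module.algebraMap_end_apply, ← algebraMap_smul S t, smul_smul, IsUnit.mul_val_inv, one_smul]

/-- A finitely presented module over a localisation has a finitely presented model. -/
theorem exists_fp_model {T S : Type u} [CommRing T] [CommRing S] [Algebra T S] (W : Submonoid T)
    [IsLocalization W S] (N : Type u) [AddCommGroup N] [Module S N] [Module T N] [IsScalarTower T S N]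
    [Module.FinitePresentation S N] :
    ∃ (N₀ : Type u) (_ : AddCommGroup N₀) (_ : Module T N₀) (g : N₀ →ₗ[T] N),
      Module.FinitePresentation T N₀ ∧ IsLocalizedModule W g := by
  classical
  obtain ⟨b, π, hπ⟩ := Module.Finite.exists_fin' S N
  obtain ⟨c, v, hv⟩ := Submodule.fg_iff_exists_fin_generating_family.1
    (Module.FinitePresentation.fg_ker π hπ)
  let ι : (Fin b → T) →ₗ[T] (Fin b → S) := LinearMap.pi fun i => (Algebra.linearMap T S).comp (LinearMap.proj i)
  have hι : IsLocalizedModule W ι := by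
    have : ∀ z : Fin b → S, ∃ (s : W) (a : Fin b → T), (s : T) • z = ι a := fun z => by
      obtain ⟨⟨s, hs⟩, hh⟩ := IsLocalization.exist_integer_multiples W (Finset.univ : Finset (Fin b)) z
      choose a ha using fun i => hh i (Finset.mem_univ i)
      exact ⟨⟨s, hs⟩, a, funext fun i => (ha i).symm⟩
    refine ⟨fun w => ?_, fun z => ?_, fun {x y} h => ?_⟩
    · exact isUnit_end_of_isUnit (IsLocalization.map_units S w)
    · obtain ⟨s, a, ha⟩ := this z
      exact ⟨⟨a, s⟩, ha⟩
    · have : ∀ i, ∃ c : W, (c : T) * x i = c * y i := fun i =>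
        (IsLocalization.eq_iff_exists W S).1 (congrFun h i)
      choose c hc using this
      refine ⟨∏ i, c i, funext fun i => ?_⟩
      show ((∏ i, c i : W) : T) * x i = ((∏ i, c i : W) : T) * y i
      rw [← Finset.prod_erase_mul _ _ (Finset.mem_univ i), Submonoid.coe_mul, mul_assoc, hc, ← mul_assoc]
  choose w hw using fun j => IsLocalizedModule.surj W ι (v j)
  let K₀ : Submodule T (Fin b → T) := Submodule.span T (Set.range fun j => (w j).1)
  let g₀ : (Fin b → T) →ₗ[T] N := (π.restrictScalars T).comp ι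
  have hK : K₀ ≤ LinearMap.ker g₀ := Submodule.span_le.2 (by
    rintro _ ⟨j, rfl⟩
    show π (ι (w j).1) = 0
    rw [← hw j, Submonoid.smul_def, LinearMap.map_smul_of_tower,
      show π (v j) = 0 from LinearMap.mem_ker.1 (hv ▸ Submodule.subset_span ⟨j, rfl⟩), smul_zero])
  refine ⟨(Fin b → T) ⧸ K₀, inferInstance, inferInstance, K₀.liftQ g₀ hK,
    Module.finitePresentation_of_surjective K₀.mkQ K₀.mkQ_surjective
      (by rw [K₀.ker_mkQ]; exact Submodule.fg_span (Set.finite_range _)), ?_⟩
  refine ⟨fun s => ?_, fun y => ?_, fun {x₁ x₂} h => ?_⟩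
  · exact isUnit_end_of_isUnit (IsLocalization.map_units S s)
  · obtain ⟨z, rfl⟩ := hπ y
    obtain ⟨⟨a, s⟩, ha⟩ := IsLocalizedModule.surj W ι z
    refine ⟨⟨Submodule.Quotient.mk a, s⟩, ?_⟩
    show (s : T) • π z = π (ι a)
    rw [← LinearMap.map_smul_of_tower, ← ha]
    rfl
  · obtain ⟨a₁, rfl⟩ := K₀.mkQ_surjective x₁
    obtain ⟨a₂, rfl⟩ := K₀.mkQ_surjective x₂
    have h0 : ι (a₁ - a₂) ∈ LinearMap.ker π := by
      rw [LinearMap.mem_ker, map_sub, map_sub, sub_eq_zero]
      exact h
    rw [← hv] at h0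
    have key : ∃ s : W, (s : T) • (ι (a₁ - a₂)) ∈ K₀.map ι := by
      generalize ι (a₁ - a₂) = z at h0 ⊢
      induction h0 using Submodule.span_induction with
      | mem z hz =>
        obtain ⟨j, rfl⟩ := hz
        exact ⟨(w j).2, (w j).1, Submodule.subset_span ⟨j, rfl⟩, (hw j).symm⟩
      | zero => exact ⟨1, by rw [smul_zero]; exact zero_mem _⟩
      | add p q _ _ hp hq =>
        obtain ⟨s, hs⟩ := hp
        obtain ⟨t, ht⟩ := hq
        refine ⟨t * s, ?_⟩
        rw [smul_add, Submonoid.coe_mul]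
        refine add_mem (by rw [mul_smul]; exact Submodule.smul_mem _ _ hs) ?_
        rw [mul_comm, mul_smul]
        exact Submodule.smul_mem _ _ ht
      | smul r p _ hp =>
        obtain ⟨s, hs⟩ := hp
        obtain ⟨⟨a, t⟩, ht⟩ := IsLocalization.surj W r
        refine ⟨t * s, ?_⟩
        have htr : (t : T) • r = algebraMap T S a := by rw [Algebra.smul_def, mul_comm]; exact ht
        rw [Submonoid.coe_mul, mul_smul, smul_comm (s : T) r p, ← smul_assoc (t : T) r ((s : T) • p), htr,
          algebraMap_smul]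
        exact Submodule.smul_mem _ _ hs
    obtain ⟨s, a, ha, hsa⟩ := key
    rw [← map_smul] at hsa
    obtain ⟨c, hc⟩ := (IsLocalizedModule.eq_iff_exists W ι).1 hsa
    refine ⟨c * s, ?_⟩
    rw [← sub_eq_zero, ← smul_sub, ← map_sub, Submonoid.smul_def, ← map_smul, Submodule.mkQ_apply,
      Submodule.Quotient.mk_eq_zero, Submonoid.coe_mul, mul_smul, ← Submonoid.smul_def c, ← hc]
    exact Submodule.smul_mem _ _ ha

/-- Membership in `p M` for the extension of an ideal through a module over an algebra. -/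
theorem mem_map_smul_top_iff {A S M : Type u} [CommRing A] [CommRing S] [Algebra A S] [AddCommGroup M]
    [Module A M] [Module S M] [IsScalarTower A S M] (p : Ideal A) (x : M) :
    x ∈ p.map (algebraMap A S) • (⊤ : Submodule S M) ↔ x ∈ p • (⊤ : Submodule A M) := by
  constructor
  · intro hx
    refine Submodule.smul_induction_on hx (fun c hc v _ => ?_) fun _ _ => add_mem
    refine Submodule.span_induction (p := fun c _ => c • v ∈ p • (⊤ : Submodule A M)) ?_ ?_ ?_ ?_ hc
    · rintro _ ⟨a, ha, rfl⟩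
      rw [algebraMap_smul]
      exact Submodule.smul_mem_smul ha trivial
    · simp
    · intro c d _ _ hc hd; rw [add_smul]; exact add_mem hc hd
    · intro q c _ hc
      rw [smul_eq_mul, mul_smul]
      exact (Submodule.map_smul'' p (⊤ : Submodule A M)
        ((LinearMap.lsmul S M q).restrictScalars A)).trans_le
        (Submodule.smul_mono le_rfl le_top) (Submodule.mem_map_of_mem hc)
  · intro hx
    refine Submodule.smul_induction_on hx (fun a ha v _ => ?_) fun _ _ => add_mem
    rw [← algebraMap_smul S a v]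
    exact Submodule.smul_mem_smul (Ideal.mem_map_of_mem _ ha) trivial

/-- Membership in `p M_r`, on representatives. -/
theorem exists_smul_mem_of_localized {A B M M' : Type u} [CommRing A] [CommRing B] [Algebra A B]
    [AddCommGroup M] [Module A M] [Module B M] [IsScalarTower A B M] [AddCommGroup M'] [Module A M']
    [Module B M'] [IsScalarTower A B M'] (p : Ideal A) (r : Ideal B) [r.IsPrime] (g : M →ₗ[B] M')
    [IsLocalizedModule r.primeCompl g] (z : M) (hz : g z ∈ p • (⊤ : Submodule A M')) :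
    ∃ t' ∉ r, t' • z ∈ p • (⊤ : Submodule A M) := by
  have main : ∀ n ∈ p • (⊤ : Submodule A M'), ∃ t ∉ r, ∃ w ∈ p • (⊤ : Submodule A M), t • n = g w := by
    intro n hn
    refine Submodule.smul_induction_on hn (fun a ha v _ => ?_) ?_
    · obtain ⟨⟨w, c⟩, hw⟩ := IsLocalizedModule.surj r.primeCompl g v
      refine ⟨c, c.2, a • w, Submodule.smul_mem_smul ha trivial, ?_⟩
      rw [LinearMap.map_smul_of_tower, ← (show (c : B) • v = g w from hw), smul_comm]
    · rintro n₁ n₂ ⟨t₁, ht₁, w₁, hw₁, e₁⟩ ⟨t₂, ht₂, w₂, hw₂, e₂⟩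
      refine ⟨t₁ * t₂, fun hm => (Ideal.IsPrime.mem_or_mem ‹r.IsPrime› hm).elim ht₁ ht₂,
        t₂ • w₁ + t₁ • w₂, add_mem ?_ ?_, ?_⟩
      · exact (Submodule.map_smul'' p (⊤ : Submodule A M) ((LinearMap.lsmul B M t₂).restrictScalars A)).trans_le
          (Submodule.smul_mono le_rfl le_top) (Submodule.mem_map_of_mem hw₁)
      · exact (Submodule.map_smul'' p (⊤ : Submodule A M) ((LinearMap.lsmul B M t₁).restrictScalars A)).trans_le
          (Submodule.smul_mono le_rfl le_top) (Submodule.mem_map_of_mem hw₂)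
      · rw [smul_add, map_add, map_smul, map_smul, ← e₁, ← e₂, smul_smul, smul_smul, mul_comm t₂]
  obtain ⟨t, ht, w, hw, e⟩ := main _ hz
  obtain ⟨d, hd⟩ := (IsLocalizedModule.eq_iff_exists r.primeCompl g).1 (show g (t • z) = g w by rw [map_smul, e])
  refine ⟨(d : B) * t, fun hm => (Ideal.IsPrime.mem_or_mem ‹r.IsPrime› hm).elim d.2 ht, ?_⟩
  rw [mul_smul]
  show d • t • z ∈ _
  rw [hd]
  exact (Submodule.map_smul'' p (⊤ : Submodule A M) ((LinearMap.lsmul B M (d : B)).restrictScalars A)).trans_le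
    (Submodule.smul_mono le_rfl le_top) (Submodule.mem_map_of_mem hw)


/-- Let `R → S` be a local homomorphism of local rings with `S` essentially of finite presentation over
`R`, `M`, `N` finitely presented `S`-modules with `N` flat over `R`, and `u : M → N` an `S`-linear
map which is injective modulo `𝔪_R`. Then `u` is injective and its cokernel is flat over `R`. -/
theorem result {R S M N : Type u} [CommRing R] [CommRing S] [IsLocalRing R]
    [IsLocalRing S] [Algebra R S] [IsLocalHom (algebraMap R S)] (hS : CAlgX.IsEssFinitePresentation R S)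
    [AddCommGroup M] [Module S M] [Module R M] [IsScalarTower R S M] [Module.FinitePresentation S M]
    [AddCommGroup N] [Module S N] [Module R N] [IsScalarTower R S N] [Module.FinitePresentation S N] [Module.Flat R N]
    (u : M →ₗ[S] N)
    (hu : ∀ x : M, u x ∈ (IsLocalRing.maximalIdeal R).map (algebraMap R S) • (⊤ : Submodule S N) →
      x ∈ (IsLocalRing.maximalIdeal R).map (algebraMap R S) • (⊤ : Submodule S M)) :
    Function.Injective u ∧ Module.Flat R (N ⧸ LinearMap.range u) := by
  classical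
  obtain ⟨S₀, _, _, _, _, W, hfp, hW⟩ := hS
  -- `S` is the local ring of `S₀` at a prime
  let r : Ideal S₀ := (IsLocalRing.maximalIdeal S).comap (algebraMap S₀ S)
  have hunit : ∀ t : r.primeCompl, IsUnit (algebraMap S₀ S t) := fun t => by
    by_contra h
    exact t.2 ((IsLocalRing.mem_maximalIdeal _).2 h)
  have hWr : W ≤ r.primeCompl := fun w hw hwr =>
    (IsLocalRing.mem_maximalIdeal _).1 hwr (IsLocalization.map_units S ⟨w, hw⟩)
  have hr : IsLocalization r.primeCompl S := by
    refine ⟨⟨hunit, fun z => ?_, fun {x y} h => ?_⟩⟩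
    · obtain ⟨⟨a, s⟩, h⟩ := IsLocalization.surj W z
      exact ⟨⟨a, ⟨s, hWr s.2⟩⟩, h⟩
    · obtain ⟨c, hc⟩ := (IsLocalization.eq_iff_exists W S).1 h
      exact ⟨⟨c, hWr c.2⟩, hc⟩
  let _ : Module S₀ N := Module.compHom N (algebraMap S₀ S)
  let _ : Module S₀ M := Module.compHom M (algebraMap S₀ S)
  have : IsScalarTower S₀ S N := IsScalarTower.of_algebraMap_smul fun _ _ => rfl
  have : IsScalarTower S₀ S M := IsScalarTower.of_algebraMap_smul fun _ _ => rfl
  have : IsScalarTower R S₀ N := IsScalarTower.of_algebraMap_smul fun a x => by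
    show algebraMap S₀ S (algebraMap R S₀ a) • x = a • x
    rw [← IsScalarTower.algebraMap_apply, algebraMap_smul]
  have : IsScalarTower R S₀ M := IsScalarTower.of_algebraMap_smul fun a x => by
    show algebraMap S₀ S (algebraMap R S₀ a) • x = a • x
    rw [← IsScalarTower.algebraMap_apply, algebraMap_smul]
  obtain ⟨N₀, _, _, gN₀, hN₀, hgN₀⟩ := exists_fp_model (S := S) r.primeCompl N
  let _ : Module R N₀ := Module.compHom N₀ (algebraMap R S₀)
  have : IsScalarTower R S₀ N₀ := IsScalarTower.of_algebraMap_smul fun _ _ => rfl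
  have hflatr : Module.Flat R (LocalizedModule r.primeCompl N₀) :=
    Module.Flat.of_linearEquiv ((IsLocalizedModule.iso r.primeCompl gN₀).restrictScalars R)
  obtain ⟨_, ⟨f, rfl⟩, hfr, hfV⟩ := PrimeSpectrum.isTopologicalBasis_basic_opens.isOpen_iff.1
    (Groth.Agent.FlatH4.isOpen_flat_localized (R := R) (S := S₀) (M := N₀)) ⟨r, inferInstance⟩ hflatr
  let S₁ := Localization.Away f
  have hf : IsUnit (algebraMap S₀ S f) := hunit ⟨f, hfr⟩
  let _ : Algebra S₁ S := (IsLocalization.Away.lift f hf : S₁ →+* S).toAlgebra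
  have : IsScalarTower S₀ S₁ S := IsScalarTower.of_algebraMap_eq fun a => by
    rw [RingHom.algebraMap_toAlgebra, IsLocalization.Away.lift_eq]
  have : IsScalarTower R S₁ S := IsScalarTower.of_algebraMap_eq fun a => by
    rw [IsScalarTower.algebraMap_apply R S₀ S₁, ← IsScalarTower.algebraMap_apply S₀ S₁ S,
      ← IsScalarTower.algebraMap_apply]
  have : Algebra.FinitePresentation R S₁ :=
    have : Algebra.FinitePresentation S₀ S₁ := IsLocalization.Away.finitePresentation f
    Algebra.FinitePresentation.trans R S₀ S₁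
  let r₁ : Ideal S₁ := (IsLocalRing.maximalIdeal S).comap (algebraMap S₁ S)
  have hr₀₁ : ∀ a, algebraMap S₀ S₁ a ∈ r₁ ↔ a ∈ r := fun a => by
    show algebraMap S₁ S (algebraMap S₀ S₁ a) ∈ IsLocalRing.maximalIdeal S ↔ a ∈ r
    rw [← IsScalarTower.algebraMap_apply]
    rfl
  have hr₁ : IsLocalization r₁.primeCompl S := by
    refine ⟨⟨fun t => ?_, fun z => ?_, fun {x y} h => ?_⟩⟩
    · by_contra h
      exact t.2 ((IsLocalRing.mem_maximalIdeal _).2 h)
    · obtain ⟨⟨a, s⟩, h⟩ := IsLocalization.surj r.primeCompl z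
      refine ⟨⟨algebraMap S₀ S₁ a, ⟨algebraMap S₀ S₁ s, fun hh => s.2 ((hr₀₁ s).1 hh)⟩⟩, ?_⟩
      rw [← IsScalarTower.algebraMap_apply, ← IsScalarTower.algebraMap_apply]
      exact h
    · obtain ⟨⟨a, s⟩, ha⟩ := IsLocalization.surj (Submonoid.powers f) (x - y)
      have hxy : algebraMap S₁ S (x - y) = 0 := by rw [map_sub, h, sub_self]
      have h1 : algebraMap S₀ S a = algebraMap S₀ S 0 := by
        rw [map_zero, IsScalarTower.algebraMap_apply S₀ S₁ S, ← ha, map_mul, hxy, zero_mul]
      obtain ⟨c, hc⟩ := (IsLocalization.eq_iff_exists r.primeCompl S).1 h1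
      rw [mul_zero] at hc
      refine ⟨⟨algebraMap S₀ S₁ c, fun hh => c.2 ((hr₀₁ c).1 hh)⟩, ?_⟩
      show algebraMap S₀ S₁ c * x = algebraMap S₀ S₁ c * y
      rw [← sub_eq_zero, ← mul_sub, ← (IsLocalization.map_units S₁ s).mul_left_eq_zero, mul_assoc, ha,
        ← map_mul, hc, map_zero]
  let _ : Module S₁ N := Module.compHom N (algebraMap S₁ S)
  let _ : Module S₁ M := Module.compHom M (algebraMap S₁ S)
  have : IsScalarTower S₁ S N := IsScalarTower.of_algebraMap_smul fun _ _ => rfl
  have : IsScalarTower S₁ S M := IsScalarTower.of_algebraMap_smul fun _ _ => rfl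
  have : IsScalarTower R S₁ N := IsScalarTower.of_algebraMap_smul fun a x => by
    show algebraMap S₁ S (algebraMap R S₁ a) • x = a • x
    rw [← IsScalarTower.algebraMap_apply, algebraMap_smul]
  have : IsScalarTower R S₁ M := IsScalarTower.of_algebraMap_smul fun a x => by
    show algebraMap S₁ S (algebraMap R S₁ a) • x = a • x
    rw [← IsScalarTower.algebraMap_apply, algebraMap_smul]
  have : IsScalarTower S₀ S₁ N := IsScalarTower.of_algebraMap_smul fun a x => by
    show algebraMap S₁ S (algebraMap S₀ S₁ a) • x = algebraMap S₀ S a • x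
    rw [← IsScalarTower.algebraMap_apply]
  -- the models over `S₁`
  let N₁ := LocalizedModule (Submonoid.powers f) N₀
  let mkN : N₀ →ₗ[S₀] N₁ := LocalizedModule.mkLinearMap (Submonoid.powers f) N₀
  have : Module.FinitePresentation S₁ N₁ := inferInstance
  have hunN : ∀ s : Submonoid.powers f, IsUnit (algebraMap S₀ (Module.End S₀ N) s) := fun s => by
    obtain ⟨k, hk⟩ := s.2
    rw [← hk, map_pow]
    exact (IsLocalizedModule.map_units gN₀ (⟨f, hfr⟩ : r.primeCompl)).pow k
  let gN₁' : N₁ →ₗ[S₀] N := LocalizedModule.lift (Submonoid.powers f) gN₀ hunN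
  let gN₁ : N₁ →ₗ[S₁] N := gN₁'.extendScalarsOfIsLocalization (Submonoid.powers f) S₁
  have hgN₁mk : ∀ x, gN₁ (mkN x) = gN₀ x := fun x =>
    LinearMap.congr_fun (LocalizedModule.lift_comp (Submonoid.powers f) gN₀ hunN) x
  have hgN₁ : IsLocalizedModule r₁.primeCompl gN₁ := by
    refine ⟨fun s => ?_, fun y => ?_, fun {x₁ x₂} h => ?_⟩
    · exact isUnit_end_of_isUnit (IsLocalization.map_units S s)
    · obtain ⟨⟨a, s⟩, ha⟩ := IsLocalizedModule.surj r.primeCompl gN₀ y
      refine ⟨⟨mkN a, ⟨algebraMap S₀ S₁ s, fun hh => s.2 ((hr₀₁ s).1 hh)⟩⟩, ?_⟩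
      show algebraMap S₀ S₁ s • y = _
      rw [algebraMap_smul, hgN₁mk]
      exact ha
    · obtain ⟨⟨a₁, s₁⟩, h₁⟩ := IsLocalizedModule.surj (Submonoid.powers f) mkN x₁
      obtain ⟨⟨a₂, s₂⟩, h₂⟩ := IsLocalizedModule.surj (Submonoid.powers f) mkN x₂
      have e0 : ∀ (x : N₁) (a : N₀) (w : Submonoid.powers f), (w : S₀) • x = mkN a →
          gN₀ a = (w : S₀) • gN₁ x := fun x a w hw => by
        rw [← hgN₁mk, ← hw]
        exact gN₁'.map_smul _ x
      have e1 : gN₀ ((s₂ : S₀) • a₁) = gN₀ ((s₁ : S₀) • a₂) := by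
        rw [map_smul, map_smul, e0 x₁ a₁ s₁ h₁, e0 x₂ a₂ s₂ h₂, h, smul_comm]
      obtain ⟨c, hc⟩ := (IsLocalizedModule.eq_iff_exists r.primeCompl gN₀).1 e1
      have hs : IsUnit (algebraMap S₀ S₁ ((s₁ : S₀) * s₂)) :=
        IsLocalization.map_units S₁ (s₁ * s₂)
      refine ⟨⟨algebraMap S₀ S₁ c, fun hh => c.2 ((hr₀₁ c).1 hh)⟩, hs.smul_left_cancel.1 ?_⟩
      show algebraMap S₀ S₁ _ • (algebraMap S₀ S₁ c • x₁) = algebraMap S₀ S₁ _ • (algebraMap S₀ S₁ c • x₂)
      have h3 := congrArg mkN hc
      simp only [Submonoid.smul_def, map_smul, ← h₁, ← h₂] at h3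
      simp only [algebraMap_smul, smul_smul] at h3 ⊢
      rw [show (s₁ : S₀) * s₂ * c = c * (s₂ * s₁) by ring, h3]
      congr 1
      ring
  have : IsScalarTower R S₀ N₁ := inferInstance
  have : IsScalarTower R S₁ N₁ := IsScalarTower.of_algebraMap_smul fun a x => by
    rw [IsScalarTower.algebraMap_apply R S₀ S₁, algebraMap_smul, algebraMap_smul]
  have : Module.Flat R N₁ := by
    refine Groth.Agent.FlatH4.flat_of_localized_maximal_algebra (S := S₁) fun q _ => ?_
    let q₀ := q.comap (algebraMap S₀ S₁)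
    have hq : (⟨q₀, inferInstance⟩ : PrimeSpectrum S₀) ∈ PrimeSpectrum.basicOpen f := fun hh =>
      Ideal.IsPrime.ne_top (inferInstance : q.IsPrime)
        (q.eq_top_of_isUnit_mem hh (IsLocalization.Away.algebraMap_isUnit f))
    have : Module.Flat R (LocalizedModule q₀.primeCompl N₀) := hfV hq
    let F : N₀ →ₗ[S₀] LocalizedModule q.primeCompl N₁ :=
      ((LocalizedModule.mkLinearMap q.primeCompl N₁).restrictScalars S₀).comp mkN
    have : IsLocalizedModule q₀.primeCompl F := by
      refine ⟨fun s => ?_, fun y => ?_, fun {x₁ x₂} h => ?_⟩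
      · have h1 := IsLocalizedModule.map_units (LocalizedModule.mkLinearMap q.primeCompl N₁)
          (⟨algebraMap S₀ S₁ s, s.2⟩ : q.primeCompl)
        rw [Module.End.isUnit_iff] at h1 ⊢
        convert h1 using 1
        funext y
        exact (algebraMap_smul S₁ (s : S₀) y).symm
      · obtain ⟨⟨b, t⟩, hb⟩ := IsLocalizedModule.surj q.primeCompl (LocalizedModule.mkLinearMap q.primeCompl N₁) y
        obtain ⟨⟨a, s⟩, ha⟩ := IsLocalizedModule.surj (Submonoid.powers f) mkN b
        obtain ⟨⟨c, u'⟩, hcu⟩ := IsLocalization.surj (Submonoid.powers f) (t : S₁)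
        have hcq : c ∉ q₀ := fun hc => by
          have h2 : (t : S₁) * algebraMap S₀ S₁ u' ∈ q := by rw [hcu]; exact hc
          rcases (inferInstance : q.IsPrime).mem_or_mem h2 with h2 | h2
          · exact t.2 h2
          · exact Ideal.IsPrime.ne_top (inferInstance : q.IsPrime)
              (q.eq_top_of_isUnit_mem h2 (IsLocalization.map_units S₁ u'))
        have hsq : (s : S₀) ∉ q₀ := fun hh => Ideal.IsPrime.ne_top (inferInstance : q.IsPrime)
          (q.eq_top_of_isUnit_mem hh (IsLocalization.map_units S₁ s))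
        refine ⟨⟨(u' : S₀) • a, ⟨c * (s : S₀), fun hh => ((inferInstance : q₀.IsPrime).mem_or_mem hh).elim hcq hsq⟩⟩, ?_⟩
        show (c * (s : S₀)) • y = F ((u' : S₀) • a)
        rw [map_smul]
        show _ = (u' : S₀) • LocalizedModule.mkLinearMap q.primeCompl N₁ (mkN a)
        rw [← ha, Submonoid.smul_def, LinearMap.map_smul_of_tower, ← hb, Submonoid.smul_def]
        simp only [← algebraMap_smul S₁ (_ : S₀) (_ : LocalizedModule q.primeCompl N₁), smul_smul, map_mul, ← hcu]
        congr 1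
        ring
      · obtain ⟨t, ht⟩ := (IsLocalizedModule.eq_iff_exists q.primeCompl
          (LocalizedModule.mkLinearMap q.primeCompl N₁)).1 h
        obtain ⟨⟨c, u'⟩, hcu⟩ := IsLocalization.surj (Submonoid.powers f) (t : S₁)
        have hcq : c ∉ q₀ := fun hc => by
          have h2 : (t : S₁) * algebraMap S₀ S₁ u' ∈ q := by rw [hcu]; exact hc
          rcases (inferInstance : q.IsPrime).mem_or_mem h2 with h2 | h2
          · exact t.2 h2
          · exact Ideal.IsPrime.ne_top (inferInstance : q.IsPrime)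
              (q.eq_top_of_isUnit_mem h2 (IsLocalization.map_units S₁ u'))
        have h3 : mkN (c • x₁) = mkN (c • x₂) := by
          rw [map_smul, map_smul, ← algebraMap_smul S₁ c, ← algebraMap_smul S₁ c, ← hcu, mul_comm,
            mul_smul, mul_smul]
          exact congrArg _ ht
        obtain ⟨e, he⟩ := (IsLocalizedModule.eq_iff_exists (Submonoid.powers f) mkN).1 h3
        have heq : (e : S₀) ∉ q₀ := fun hh => Ideal.IsPrime.ne_top (inferInstance : q.IsPrime)
          (q.eq_top_of_isUnit_mem hh (IsLocalization.map_units S₁ e))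
        refine ⟨⟨(e : S₀) * c, fun hh => ((inferInstance : q₀.IsPrime).mem_or_mem hh).elim heq hcq⟩, ?_⟩
        show ((e : S₀) * c) • x₁ = ((e : S₀) * c) • x₂
        rw [mul_smul, mul_smul]
        exact he
    exact Module.Flat.of_linearEquiv ((IsLocalizedModule.iso q₀.primeCompl F).restrictScalars R).symm
  obtain ⟨M₁, _, _, gM, hM₁, hgM⟩ := exists_fp_model (S := S) r₁.primeCompl M
  let _ : Module R M₁ := Module.compHom M₁ (algebraMap R S₁)
  have : IsScalarTower R S₁ M₁ := IsScalarTower.of_algebraMap_smul fun _ _ => rfl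
  obtain ⟨l, s, hl⟩ := Module.FinitePresentation.exists_lift_of_isLocalizedModule r₁.primeCompl gN₁
    ((u.restrictScalars S₁).comp gM)
  have hlz : ∀ z, gN₁ (l z) = (s : S₁) • u (gM z) := fun z => LinearMap.congr_fun hl z
  have hp : r₁.comap (algebraMap R S₁) = IsLocalRing.maximalIdeal R := by
    rw [Ideal.comap_comap, ← IsScalarTower.algebraMap_eq]
    exact (IsLocalRing.local_hom_TFAE (algebraMap R S)).out 0 4 |>.1 ‹_›
  have hcancel : ∀ t : S₁, t ∉ r₁ → ∀ (x : M), t • x = 0 → x = 0 := fun t ht x hx => by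
    have hu := IsLocalization.map_units S (⟨t, ht⟩ : r₁.primeCompl)
    exact hu.smul_eq_zero.1 hx
  obtain ⟨hinj, hflat⟩ := Groth.Agent.SchDom.injective_flat_coker_of_fibre (A := R) r₁ l fun z t ht hz => by
    rw [hp] at hz ⊢
    refine exists_smul_mem_of_localized _ r₁ gM z ?_
    have h1 := Submodule.mem_map_of_mem (f := gN₁.restrictScalars R) hz
    rw [Submodule.map_smul''] at h1
    have h2 : gN₁ (t • l z) ∈ IsLocalRing.maximalIdeal R • (⊤ : Submodule R N) :=
      Submodule.smul_mono le_rfl le_top h1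
    rw [map_smul, hlz, ← mem_map_smul_top_iff (S := S), smul_smul] at h2
    have hts : IsUnit (algebraMap S₁ S (t * s)) := by
      rw [map_mul]
      exact (IsLocalization.map_units S (⟨t, ht⟩ : r₁.primeCompl)).mul (IsLocalization.map_units S s)
    rw [← algebraMap_smul S (t * (s : S₁)) (u (gM z)), Submodule.smul_mem_iff_of_isUnit _ hts] at h2
    exact (mem_map_smul_top_iff _ _).1 (hu _ h2)
  refine ⟨?_, ?_⟩
  · rw [injective_iff_map_eq_zero]
    intro y hy
    obtain ⟨⟨z, c⟩, hc⟩ := IsLocalizedModule.surj r₁.primeCompl gM y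
    have h1 : gN₁ (l z) = gN₁ 0 := by
      rw [map_zero, hlz, ← show (c : S₁) • y = gM z from hc, LinearMap.map_smul_of_tower, hy, smul_zero, smul_zero]
    obtain ⟨d, hd⟩ := (IsLocalizedModule.eq_iff_exists r₁.primeCompl gN₁).1 h1
    rw [smul_zero] at hd
    obtain ⟨t', ht', hz⟩ := hinj z d d.2 hd
    refine hcancel c c.2 y (hcancel t' ht' _ ?_)
    rw [show (c : S₁) • y = gM z from hc, ← map_smul, hz, map_zero]
  · let q : (N₁ ⧸ LinearMap.range l) →ₗ[S₁] (N ⧸ LinearMap.range u) :=
      (LinearMap.range l).liftQ (((LinearMap.range u).mkQ.restrictScalars S₁).comp gN₁) (by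
        rintro _ ⟨z, rfl⟩
        show Submodule.Quotient.mk (gN₁ (l z)) = (0 : N ⧸ LinearMap.range u)
        rw [hlz, Submodule.Quotient.mk_eq_zero, ← algebraMap_smul S (s : S₁)]
        exact Submodule.smul_mem _ _ ⟨_, rfl⟩)
    have hq : IsLocalizedModule r₁.primeCompl q := by
      refine ⟨fun w => ?_, fun y => ?_, fun {x₁ x₂} h => ?_⟩
      · exact isUnit_end_of_isUnit (IsLocalization.map_units S w)
      · obtain ⟨y, rfl⟩ := (LinearMap.range u).mkQ_surjective y
        obtain ⟨⟨a, w⟩, ha⟩ := IsLocalizedModule.surj r₁.primeCompl gN₁ y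
        refine ⟨⟨Submodule.Quotient.mk a, w⟩, ?_⟩
        show (w : S₁) • (LinearMap.range u).mkQ y = (LinearMap.range u).mkQ (gN₁ a)
        rw [← LinearMap.map_smul_of_tower]
        exact congrArg _ ha
      · obtain ⟨a₁, rfl⟩ := (LinearMap.range l).mkQ_surjective x₁
        obtain ⟨a₂, rfl⟩ := (LinearMap.range l).mkQ_surjective x₂
        obtain ⟨y, hy⟩ := (Submodule.Quotient.eq (LinearMap.range u)).1
          (show Submodule.Quotient.mk (gN₁ a₁) = (Submodule.Quotient.mk (gN₁ a₂) : N ⧸ LinearMap.range u) from h)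
        obtain ⟨⟨z, c⟩, hc⟩ := IsLocalizedModule.surj r₁.primeCompl gM y
        have h1 : gN₁ (l z) = gN₁ (((s : S₁) * c) • (a₁ - a₂)) := by
          rw [hlz, ← show (c : S₁) • y = gM z from hc, LinearMap.map_smul_of_tower, hy, map_smul, map_sub, mul_smul]
        obtain ⟨d, hd⟩ := (IsLocalizedModule.eq_iff_exists r₁.primeCompl gN₁).1 h1
        refine ⟨d * (s * c), ?_⟩
        rw [← sub_eq_zero, ← smul_sub, ← map_sub, Submonoid.smul_def, ← map_smul, Submodule.mkQ_apply,
          Submodule.Quotient.mk_eq_zero, Submonoid.coe_mul, mul_smul]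
        rw [Submonoid.coe_mul, ← Submonoid.smul_def d, ← hd]
        exact Submodule.smul_mem _ _ ⟨z, rfl⟩
    exact Module.Flat.of_linearEquiv ((IsLocalizedModule.iso r₁.primeCompl q).restrictScalars R).symm

end Groth.Agent.S2107
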