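import Groth.Statements.S9626
import Groth.Agent.Lib.GeomIrr18.Bridge
import Mathlib.RingTheory.Ideal.GoingDown

set_option autoImplicit false
universe u
open CAlg

namespace Groth.Agent.S9626

open TensorProduct in
/-- Let k be a field, S a k-algebra with Spec(k' ⊗_k S) irreducible for every field extension k'/k, and
R any k-algebra. Then Spec(R ⊗_k S) → Spec(R) induces a bijection on irreducible components: taking
inverse images along R → R ⊗_k S maps the set of minimal primes of R ⊗_k S bijectively onto the set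
of minimal primes of R. Here the test fields range over field extensions in the universe of k; this
is equivalent to the unrestricted notion, since an algebraic closure of k suffices as a test. -/
theorem result {k R S : Type u} [Field k] [CommRing R] [CommRing S] [Algebra k R] [Algebra k S]
    (hS : ∀ (k' : Type u) [Field k'] [Algebra k k'], IrreducibleSpace (PrimeSpectrum (k' ⊗[k] S))) :
    Set.BijOn (Ideal.comap (algebraMap R (R ⊗[k] S))) (minimalPrimes (R ⊗[k] S)) (minimalPrimes R) := by
  haveI := (Groth.Agent.GeomIrr.geometricallyIrreducible_iff_tensor k S).mpr hS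
  haveI := Groth.Agent.GeomIrr.geometricallyIrreducible_includeLeft k R S
  let B := R ⊗[k] S
  let φ := algebraMap R B
  let π := AlgebraicGeometry.Spec.map (CommRingCat.ofHom φ)
  have hsurj : ∀ q : Ideal R, q.IsPrime → ∃ Q : Ideal B, Q.IsPrime ∧ Q.comap φ = q := fun q hq => by
    obtain ⟨x, hx⟩ := π.surjective (⟨q, hq⟩ : PrimeSpectrum R)
    exact ⟨x.asIdeal, x.isPrime, congrArg PrimeSpectrum.asIdeal hx⟩
  have hrad : ∀ q : Ideal R, q.IsPrime → (q.map φ).radical.IsPrime := fun q hq => by
    have h : IsIrreducible (π ⁻¹' (PrimeSpectrum.zeroLocus (q : Set R))) :=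
      π.isIrreducible_preimage (Groth.Agent.GeomIrr.isOpenMap_includeLeft k R S)
        ((PrimeSpectrum.isIrreducible_zeroLocus_iff q).mpr (by rwa [hq.radical]))
    have h2 : π ⁻¹' (PrimeSpectrum.zeroLocus (q : Set R)) = PrimeSpectrum.zeroLocus (q.map φ : Set B) := by
      rw [Ideal.map, PrimeSpectrum.zeroLocus_span]
      exact PrimeSpectrum.preimage_comap_zeroLocus _ _
    rw [h2] at h
    exact (PrimeSpectrum.isIrreducible_zeroLocus_iff _).mp h
  have hminimal : ∀ P ∈ minimalPrimes B, P.comap φ ∈ minimalPrimes R := by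
    intro P hP
    haveI := hP.1.1
    refine ⟨⟨inferInstance, bot_le⟩, fun q hq hle => ?_⟩
    haveI := hq.1
    haveI : P.LiesOver (P.comap φ) := ⟨rfl⟩
    obtain ⟨Q, hQP, hQ, hQq⟩ := Ideal.exists_ideal_le_liesOver_of_le (p := q) (q := P.comap φ) P hle
    rw [hQq.over]
    exact Ideal.comap_mono (hP.2 ⟨hQ, bot_le⟩ hQP)
  have huniq : ∀ P ∈ minimalPrimes B, P = ((P.comap φ).map φ).radical := by
    intro P hP
    haveI := hP.1.1
    have hle : ((P.comap φ).map φ).radical ≤ P := hP.1.1.radical_le_iff.mpr Ideal.map_comap_le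
    exact le_antisymm (hP.2 ⟨hrad _ inferInstance, bot_le⟩ hle) hle
  refine ⟨hminimal, fun P₁ h₁ P₂ h₂ he => ?_, fun q hq => ?_⟩
  · rw [huniq P₁ h₁, huniq P₂ h₂]
    exact congrArg (fun q : Ideal R => (q.map φ).radical) he
  · haveI := hq.1.1
    haveI := hrad q hq.1.1
    obtain ⟨Q₀, hQ₀, hQ₀q⟩ := hsurj q hq.1.1
    obtain ⟨P, hP, hPle⟩ := Ideal.exists_minimalPrimes_le (bot_le : (⊥ : Ideal B) ≤ (q.map φ).radical)
    refine ⟨P, hP, le_antisymm ?_ (hq.2 (hminimal P hP).1 ?_)⟩ <;>
    · refine (Ideal.comap_mono (hPle.trans ?_)).trans hQ₀q.le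
      exact hQ₀.radical_le_iff.mpr (Ideal.map_le_iff_le_comap.mpr hQ₀q.ge)

end Groth.Agent.S9626
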