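import Groth.Statements.S2112
import Groth.Agent.S9626
import Groth.Agent.Lib.GeomIrr18.Alg

set_option autoImplicit false
universe u
open CAlg

namespace Groth.Agent.S2112

open TensorProduct in
/-- Let `k` be a separably closed field and `R`, `S` two `k`-algebras each having exactly one minimal
prime ideal. Then `R ⊗_k S` has exactly one minimal prime ideal. -/
theorem result {k R S : Type u} [Field k] [IsSepClosed k] [CommRing R] [CommRing S]
    [Algebra k R] [Algebra k S] (hR : CAlgX.HasUniqueMinimalPrime R) (hS : CAlgX.HasUniqueMinimalPrime S) :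
    CAlgX.HasUniqueMinimalPrime (R ⊗[k] S) := by
  have uniq : ∀ (A B : Type u) [CommRing A] [CommRing B] (φ : A →+* B), CAlgX.HasUniqueMinimalPrime A →
      Set.BijOn (Ideal.comap φ) (minimalPrimes B) (minimalPrimes A) → CAlgX.HasUniqueMinimalPrime B := by
    rintro A B _ _ φ ⟨p, hp, hp'⟩ h
    obtain ⟨P, hP, -⟩ := h.surjOn hp
    exact ⟨P, hP, fun Q hQ => h.injOn hQ hP ((hp' _ (h.mapsTo hQ)).trans (hp' _ (h.mapsTo hP)).symm)⟩
  refine uniq R (R ⊗[k] S) (algebraMap R (R ⊗[k] S)) hR (Groth.Agent.S9626.result fun K _ _ => ?_)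
  have h1 : CAlgX.HasUniqueMinimalPrime (S ⊗[k] K) := uniq S (S ⊗[k] K) (algebraMap S (S ⊗[k] K)) hS
    (Groth.Agent.S9626.result fun L _ _ => GeomIrr.irreducibleSpace_tensor_field L K)
  obtain ⟨P, hP, hP'⟩ := h1
  haveI : IrreducibleSpace (PrimeSpectrum (S ⊗[k] K)) := by
    rw [PrimeSpectrum.irreducibleSpace_iff_isPrime_nilradical]
    have : nilradical (S ⊗[k] K) = P := by
      refine le_antisymm (haveI := hP.1.1; nilradical_le_prime P) ?_
      rw [nilradical_eq_sInf]
      refine le_sInf fun Q hQ => ?_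
      haveI : Q.IsPrime := hQ
      obtain ⟨P', hP'm, hle⟩ := Ideal.exists_minimalPrimes_le (I := (⊥ : Ideal (S ⊗[k] K))) (J := Q) bot_le
      exact hP' P' hP'm ▸ hle
    rw [this]
    exact hP.1.1
  exact ((PrimeSpectrum.homeomorphOfRingEquiv (Algebra.TensorProduct.comm k S K).toRingEquiv).irreducibleSpace_iff).1 inferInstance

end Groth.Agent.S2112
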