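import Groth.Statements.S2113
import Groth.Agent.Lib.CAlgLow.JacobsonDom

set_option autoImplicit false
universe u
open CAlg

namespace Groth.Agent.S2113

/-- A Noetherian ring in which each prime is maximal or else lies below infinitely many primes is a
Jacobson ring. -/
theorem result {R : Type u} [CommRing R] [IsNoetherianRing R]
    (h : ∀ (p : Ideal R) [p.IsPrime], p.IsMaximal ∨ {q : PrimeSpectrum R | p ≤ q.asIdeal}.Infinite) :
    IsJacobsonRing R := by
  refine isJacobsonRing_iff_prime_eq.2 fun p => ?_
  induction p using IsWellFounded.induction (· > · : Ideal R → Ideal R → Prop) with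
  | ind p ih =>
    intro hp
    rcases h p with hmax | hinf
    · exact Ideal.jacobson_eq_self_of_isMaximal
    · by_contra hne
      have hlt : p < p.jacobson := lt_of_le_of_ne Ideal.le_jacobson fun e => hne e.symm
      let J : Ideal (R ⧸ p) := p.jacobson.map (Ideal.Quotient.mk p)
      have hJ : J ≠ ⊥ := fun e => hlt.not_ge fun x hx => by
        have := Ideal.mem_map_of_mem (Ideal.Quotient.mk p) hx
        rw [show p.jacobson.map (Ideal.Quotient.mk p) = ⊥ from e, Ideal.mem_bot] at this
        exact Ideal.Quotient.eq_zero_iff_mem.1 this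
      have hall : ∀ q : Ideal (R ⧸ p), q.IsPrime → q ≠ ⊥ → J ≤ q := by
        intro q hq hq0
        rw [Ideal.map_le_iff_le_comap]
        have hle : p ≤ q.comap (Ideal.Quotient.mk p) := fun x hx =>
          Ideal.mem_comap.2 (by rw [Ideal.Quotient.eq_zero_iff_mem.2 hx]; exact q.zero_mem)
        have hgt : p < q.comap (Ideal.Quotient.mk p) := lt_of_le_of_ne hle fun e => hq0 (by
          rw [← Ideal.map_comap_of_surjective _ Ideal.Quotient.mk_surjective q, ← e, Ideal.map_quotient_self])
        exact (Ideal.jacobson_mono hle).trans_eq (ih _ hgt inferInstance)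
      have hfin := Groth.Agent.CAlgLow.finite_setOf_prime_ne_bot hJ hall
      refine hinf (((hfin.image (PrimeSpectrum.comap (Ideal.Quotient.mk p))).insert ⟨p, hp⟩).subset fun q hq => ?_)
      by_cases e : q.asIdeal = p
      · exact Or.inl (PrimeSpectrum.ext e)
      · have hker : RingHom.ker (Ideal.Quotient.mk p) ≤ q.asIdeal := by rw [Ideal.mk_ker]; exact hq
        refine Or.inr ⟨⟨q.asIdeal.map (Ideal.Quotient.mk p),
          Ideal.map_isPrime_of_surjective Ideal.Quotient.mk_surjective hker⟩, fun hb => e ?_, ?_⟩
        · exact le_antisymm (by rwa [Ideal.map_eq_bot_iff_le_ker, Ideal.mk_ker] at hb) hq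
        · refine PrimeSpectrum.ext ?_
          change Ideal.comap _ (Ideal.map _ _) = _
          rw [Ideal.comap_map_of_surjective _ Ideal.Quotient.mk_surjective, ← RingHom.ker_eq_comap_bot,
            Ideal.mk_ker]
          exact sup_eq_left.2 hq

end Groth.Agent.S2113
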