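import Groth.Statements.S2114
import Groth.Agent.S9394
import Groth.Agent.Lib.CAlgLow.NagataFT
import Mathlib

set_option autoImplicit false
universe u
open CAlg

namespace Groth.Agent.S2114


theorem Groth.Agent.isN2_of_finite_extension {R D : Type u} [CommRing R] [IsDomain R] [IsNoetherianRing R]
    (hR : CAlg.IsN2 R) [CommRing D] [IsDomain D] [Algebra R D] [Module.Finite R D]
    (hinj : Function.Injective (algebraMap R D)) : CAlg.IsN2 D := by
  intro L _ _ _ _ hfin
  haveI := hfin
  haveI : FaithfulSMul R D := (faithfulSMul_iff_algebraMap_injective _ _).mpr hinj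
  letI : Algebra (FractionRing R) (FractionRing D) := FractionRing.liftAlgebra R (FractionRing D)
  haveI : FiniteDimensional (FractionRing R) (FractionRing D) := Module.Finite.of_isLocalization R D (nonZeroDivisors R)
  letI : Algebra R L := ((algebraMap D L).comp (algebraMap R D)).toAlgebra
  haveI : IsScalarTower R D L := .of_algebraMap_eq fun _ => rfl
  letI : Algebra (FractionRing R) L := ((algebraMap (FractionRing D) L).comp (algebraMap (FractionRing R) (FractionRing D))).toAlgebra
  haveI : IsScalarTower (FractionRing R) (FractionRing D) L := .of_algebraMap_eq fun _ => rfl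
  haveI : IsScalarTower R (FractionRing R) L := .of_algebraMap_eq fun r => by
    show algebraMap D L (algebraMap R D r) = algebraMap (FractionRing D) L (algebraMap (FractionRing R) (FractionRing D) (algebraMap R (FractionRing R) r))
    rw [← IsScalarTower.algebraMap_apply R (FractionRing R) (FractionRing D), IsScalarTower.algebraMap_apply R D (FractionRing D),
      ← IsScalarTower.algebraMap_apply D (FractionRing D) L]
  haveI : FiniteDimensional (FractionRing R) L := Module.Finite.trans (FractionRing D) L
  haveI : Module.Finite R (integralClosure R L) := hR L inferInstance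
  haveI : Algebra.IsIntegral R D := Algebra.IsIntegral.of_finite R D
  let g : integralClosure D L →ₗ[R] integralClosure R L :=
    { toFun := fun z => ⟨z.1, isIntegral_trans _ z.2⟩
      map_add' := fun _ _ => rfl
      map_smul' := fun _ _ => rfl }
  haveI : Module.Finite R (integralClosure D L) :=
    Module.Finite.of_injective g fun a b h => Subtype.ext (congrArg Subtype.val h :)
  exact Module.Finite.of_restrictScalars_finite R D _


/-- Let `R ⊆ S` be an extension of domains which is of finite type and quasi-finite, with `R` Noetherian
and N-2 (integral closures in finite extensions of the fraction field are finite). Then `S` is N-2. -/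
theorem result {R S : Type u} [CommRing R] [IsDomain R] [IsNoetherianRing R] [CommRing S]
    [IsDomain S] [Algebra R S] (hinj : Function.Injective (algebraMap R S)) [Algebra.FiniteType R S]
    [Algebra.QuasiFinite R S] (hR : CAlg.IsN2 R) : CAlg.IsN2 S := by
  classical
  have key : ∀ q : PrimeSpectrum S, ∃ r : S, r ∉ q.asIdeal ∧ r ≠ 0 ∧
      ∀ (_ : IsDomain (Localization.Away r)), CAlg.IsN2 (Localization.Away r) := by
    intro q
    obtain ⟨S', hS', r, hr, hbij⟩ := Algebra.QuasiFiniteAt.exists_fg_and_exists_notMem_and_awayMap_bijective (R := R) q.asIdeal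
    have hr0 : (r : S) ≠ 0 := fun h => hr (h ▸ q.asIdeal.zero_mem)
    refine ⟨r, hr, hr0, fun _ => ?_⟩
    haveI : Module.Finite R S' := ⟨(Submodule.fg_top _).mpr hS'⟩
    haveI : IsDomain (Localization.Away r) :=
      IsLocalization.isDomain_localization (powers_le_nonZeroDivisors_of_noZeroDivisors fun h => hr0 (congrArg Subtype.val h))
    exact CAlgLow.isN2_of_ringEquiv (RingEquiv.ofBijective _ hbij)
      (CAlgLow.isN2_of_isLocalization (Submonoid.powers r)
        (Groth.Agent.isN2_of_finite_extension hR fun a b h => hinj (congrArg Subtype.val h :)))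
  choose r hr hr0 hN using key
  have htop : Ideal.span (Set.range r) = ⊤ := by
    by_contra h
    obtain ⟨m, hm, hle⟩ := Ideal.exists_le_maximal _ h
    exact hr ⟨m, hm.isPrime⟩ (hle (Ideal.subset_span ⟨_, rfl⟩))
  obtain ⟨T, hTr, h1⟩ := Submodule.mem_span_finite_of_mem_span ((Ideal.eq_top_iff_one _).mp htop)
  have hsel : ∀ t : T, ∃ q, r q = (t : S) := fun t => hTr t.2
  choose q hq using hsel
  haveI : ∀ t : T, IsDomain (Localization.Away (r (q t))) := fun t =>
    IsLocalization.isDomain_localization (powers_le_nonZeroDivisors_of_noZeroDivisors (hr0 _))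
  refine S9394.result S (fun t : T => r (q t)) ?_ (fun t => Localization.Away (r (q t))) fun t => hN _ inferInstance
  refine (Ideal.eq_top_iff_one _).mpr (Submodule.span_mono ?_ h1)
  intro x hx
  exact ⟨⟨x, hx⟩, hq _⟩

end Groth.Agent.S2114
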