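import Groth.Statements.S2118
import Mathlib

set_option autoImplicit false
universe u
open CategoryTheory
open CAlg

namespace Groth.Agent.S2118


open CategoryTheory Limits

variable {R : Type u} [CommRing R]

/-- Finite free modules over `M`. -/
structure FreeOver (M : Type u) [AddCommGroup M] [Module R M] : Type u where
  k : ℕ
  map : (Fin k →₀ R) →ₗ[R] M

variable {M : Type u} [AddCommGroup M] [Module R M]

noncomputable instance : SmallCategory (FreeOver (R := R) M) where
  Hom X Y := {a : (Fin X.k →₀ R) →ₗ[R] (Fin Y.k →₀ R) // Y.map ∘ₗ a = X.map}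
  id X := ⟨LinearMap.id, rfl⟩
  comp {X Y Z} f g := ⟨g.1 ∘ₗ f.1, by rw [← LinearMap.comp_assoc, g.2, f.2]⟩

/-- The forgetful functor. -/
noncomputable def forgetFree (M : Type u) [AddCommGroup M] [Module R M] :
    FreeOver (R := R) M ⥤ ModuleCat.{u} R where
  obj X := ModuleCat.of R (Fin X.k →₀ R)
  map f := ModuleCat.ofHom f.1

theorem isFiltered_freeOver [Module.Flat R M] : IsFiltered (FreeOver (R := R) M) := by
  classical
  haveI : IsFilteredOrEmpty (FreeOver (R := R) M) := by
    refine ⟨fun X Y => ?_, fun {X Y} f g => ?_⟩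
    · let e : (Fin (X.k + Y.k) →₀ R) ≃ₗ[R] (Fin X.k →₀ R) × (Fin Y.k →₀ R) :=
        (Finsupp.domLCongr finSumFinEquiv.symm).trans (Finsupp.sumFinsuppLEquivProdFinsupp R)
      refine ⟨⟨X.k + Y.k, (X.map.coprod Y.map) ∘ₗ e.toLinearMap⟩,
        ⟨e.symm.toLinearMap ∘ₗ LinearMap.inl R _ _, ?_⟩, ⟨e.symm.toLinearMap ∘ₗ LinearMap.inr R _ _, ?_⟩, trivial⟩
      · exact LinearMap.ext fun z => by simp
      · exact LinearMap.ext fun z => by simp
    · have h0 : Y.map ∘ₗ (f.1 - g.1) = 0 := by rw [LinearMap.comp_sub, f.2, g.2, sub_self]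
      obtain ⟨n, a, y, hy, ha⟩ := Module.Flat.exists_factorization_of_comp_eq_zero_of_free h0
      refine ⟨⟨n, y⟩, ⟨a, hy.symm⟩, Subtype.ext ?_⟩
      rw [LinearMap.comp_sub] at ha
      exact sub_eq_zero.1 ha
  haveI : Nonempty (FreeOver (R := R) M) := ⟨⟨0, 0⟩⟩
  exact { }


/-- An `R`-module `M` is flat if and only if it is isomorphic to the colimit of a diagram of finite free
`R`-modules indexed by a nonempty directed preorder (in the same universe). -/
theorem result {R : Type u} [CommRing R] (M : Type u) [AddCommGroup M] [Module R M] :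
    Module.Flat R M ↔
      ∃ (J : Type u) (_ : Preorder J) (_ : IsDirected J (fun a b => a ≤ b)) (_ : Nonempty J)
        (F : J ⥤ ModuleCat.{u} R), (∀ j, Module.Finite R (F.obj j) ∧ Module.Free R (F.obj j)) ∧
        Nonempty (Limits.colimit F ≅ ModuleCat.of R M) := by
  classical
  constructor
  · intro hflat
    haveI := isFiltered_freeOver (R := R) (M := M)
    let F := forgetFree (R := R) M
    let c : Cocone F :=
      { pt := ModuleCat.of R M
        ι :=
          { app := fun X => ModuleCat.ofHom X.map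
            naturality := fun X Y f => by
              ext z
              exact LinearMap.congr_fun f.2 z } }
    have hbij : Function.Bijective (colimit.desc F c) := by
      constructor
      · rw [injective_iff_map_eq_zero]
        intro z hz
        obtain ⟨X, f, rfl⟩ := Concrete.colimit_exists_rep F z
        have hz' : X.map f = 0 := by
          rw [← ConcreteCategory.comp_apply, colimit.ι_desc] at hz
          exact hz
        obtain ⟨n, a, y, hy, ha⟩ := Module.Flat.exists_factorization_of_apply_eq_zero_of_free hz'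
        let g : X ⟶ (⟨n, y⟩ : FreeOver (R := R) M) := ⟨a, hy.symm⟩
        have hg : F.map g f = 0 := ha
        rw [← colimit.w F g, ConcreteCategory.comp_apply, hg, map_zero]
      · intro m
        refine ⟨colimit.ι F ⟨1, Finsupp.linearCombination R fun _ => m⟩ (Finsupp.single 0 1), ?_⟩
        rw [← ConcreteCategory.comp_apply, colimit.ι_desc]
        show Finsupp.linearCombination R (fun _ : Fin 1 => m) (Finsupp.single 0 1) = m
        simp
    haveI : IsIso (colimit.desc F c) := (ConcreteCategory.isIso_iff_bijective _).2 hbij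
    obtain ⟨α, i1, i2, i3, G, hG⟩ := IsFiltered.exists_directed (FreeOver (R := R) M)
    refine ⟨α, i1.toPreorder, i2, i3, G ⋙ F, fun j => ⟨?_, ?_⟩, ⟨?_⟩⟩
    · exact inferInstanceAs (Module.Finite R (Fin (G.obj j).k →₀ R))
    · exact inferInstanceAs (Module.Free R (Fin (G.obj j).k →₀ R))
    · exact Functor.Final.colimitIso G F ≪≫ asIso (colimit.desc F c)
  · rintro ⟨J, _, _, _, F, hF, ⟨e⟩⟩
    refine Module.Flat.of_forall_exists_factorization fun {l f x} hxf => ?_
    let ι : ∀ j, F.obj j →ₗ[R] M := fun j => (colimit.ι F j ≫ e.hom).hom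
    have hw : ∀ {j j' : J} (h : j ⟶ j') (z : F.obj j), ι j' (F.map h z) = ι j z := fun h z => by
      show (colimit.ι F _ ≫ e.hom) (F.map h z) = (colimit.ι F _ ≫ e.hom) z
      rw [← ConcreteCategory.comp_apply, ← Category.assoc, colimit.w]
    have hrep : ∀ m : M, ∃ j z, ι j z = m := fun m => by
      obtain ⟨j, z, hz⟩ := Concrete.colimit_exists_rep F (e.inv m)
      refine ⟨j, z, ?_⟩
      show e.hom (colimit.ι F j z) = m
      rw [hz, ← ConcreteCategory.comp_apply, e.inv_hom_id]
      rfl
    choose j z hz using fun i : Fin l => hrep (x (Finsupp.single i 1))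
    obtain ⟨j₀, hj₀⟩ := Finite.exists_le j
    let x' : (Fin l →₀ R) →ₗ[R] F.obj j₀ :=
      Finsupp.linearCombination R fun i => F.map (homOfLE (hj₀ i)) (z i)
    have hx' : ι j₀ ∘ₗ x' = x := Finsupp.lhom_ext' fun i => LinearMap.ext_ring (by
      simp only [LinearMap.comp_apply, Finsupp.lsingle_apply, x', Finsupp.linearCombination_single, one_smul]
      rw [hw, hz])
    have h0 : colimit.ι F j₀ (x' f) = colimit.ι F j₀ 0 := by
      have := congrArg (fun m : M => e.inv m) (show ι j₀ (x' f) = 0 by rw [← LinearMap.comp_apply, hx', hxf])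
      simp only [map_zero] at this
      rw [map_zero]
      refine Eq.trans ?_ this
      show _ = e.inv (e.hom (colimit.ι F j₀ (x' f)))
      rw [← ConcreteCategory.comp_apply e.hom, e.hom_inv_id]
      rfl
    obtain ⟨k, p, q, hpq⟩ := Concrete.colimit_exists_of_rep_eq F _ _ h0
    rw [map_zero] at hpq
    haveI := (hF k).1
    haveI := (hF k).2
    let b := ((Module.Free.chooseBasis R (F.obj k)).reindex (Fintype.equivFin _)).repr
    refine ⟨_, b.toLinearMap ∘ₗ (F.map p).hom ∘ₗ x', ι k ∘ₗ b.symm.toLinearMap, LinearMap.ext fun y => ?_, ?_⟩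
    · show x y = ι k (b.symm (b (F.map p (x' y))))
      rw [b.symm_apply_apply, hw, ← hx']
      rfl
    · show b (F.map p (x' f)) = 0
      rw [hpq, map_zero]

end Groth.Agent.S2118
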