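import Groth.Statements.S2119
import Mathlib

set_option autoImplicit false
universe u
open CAlg

namespace Groth.Agent.S2119




/-- Nagata's criterion for factoriality, final assertion: let `A` be a domain in which every nonzero
nonunit factors into irreducibles, and `S` the multiplicative subset generated by a set of prime
elements. If the localization `S⁻¹A` is a unique factorization domain, then so is `A`. -/
theorem result {A : Type u} [CommRing A] [IsDomain A]
    (hfac : ∀ a : A, a ≠ 0 → ¬ IsUnit a → ∃ f : Multiset A, (∀ b ∈ f, Irreducible b) ∧ Associated f.prod a) (P : Set A)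
    (hP : ∀ p ∈ P, Prime p) [IsDomain (Localization (Submonoid.closure P))]
    (hS : UniqueFactorizationMonoid (Localization (Submonoid.closure P))) : UniqueFactorizationMonoid A := by
  classical
  let S := Submonoid.closure P
  let B := Localization S
  have hS0 : S ≤ nonZeroDivisors A := (Submonoid.closure_le).2 fun p hp => mem_nonZeroDivisors_of_ne_zero (hP p hp).ne_zero
  have hinj : Function.Injective (algebraMap A B) := IsLocalization.injective B hS0
  have split : ∀ s ∈ S, ∀ q x y : A, x * y = q * s → ∃ x' y' s₁ s₂, s₁ ∈ S ∧ s₂ ∈ S ∧ q = x' * y' ∧ x = x' * s₁ ∧ y = y' * s₂ := by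
    intro s hs
    induction hs using Submonoid.closure_induction with
    | mem p hp =>
      intro q x y h
      rcases (hP p hp).dvd_or_dvd (a := x) (b := y) ⟨q, by rw [h, mul_comm]⟩ with ⟨x', rfl⟩ | ⟨y', rfl⟩
      · exact ⟨x', y, p, 1, Submonoid.subset_closure hp, one_mem _,
          mul_right_cancel₀ (hP p hp).ne_zero (by rw [← h]; ring), mul_comm _ _, (mul_one _).symm⟩
      · exact ⟨x, y', 1, p, one_mem _, Submonoid.subset_closure hp,
          mul_right_cancel₀ (hP p hp).ne_zero (by rw [← h]; ring), (mul_one _).symm, mul_comm _ _⟩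
    | one => intro q x y h; exact ⟨x, y, 1, 1, one_mem _, one_mem _, by rw [h, mul_one], (mul_one _).symm, (mul_one _).symm⟩
    | mul a b _ _ iha ihb =>
      intro q x y h
      obtain ⟨x', y', s₁, s₂, h1, h2, e, rfl, rfl⟩ := ihb (q * a) x y (by rw [h, mul_assoc])
      obtain ⟨x'', y'', t₁, t₂, g1, g2, e', rfl, rfl⟩ := iha q x' y' e.symm
      exact ⟨x'', y'', t₁ * s₁, t₂ * s₂, mul_mem g1 h1, mul_mem g2 h2, e', mul_assoc _ _ _, mul_assoc _ _ _⟩
  refine UniqueFactorizationMonoid.of_exists_prime_factors fun a ha => ?_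
  have irr_prime : ∀ q : A, Irreducible q → Prime q := by
    intro q hq
    by_cases hdiv : ∃ p ∈ P, p ∣ q
    · obtain ⟨p, hp, hpq⟩ := hdiv
      exact ((hP p hp).irreducible.associated_of_dvd hq hpq).prime (hP p hp)
    push Not at hdiv
    have cancel : ∀ s ∈ S, ∀ x : A, q ∣ x * s → q ∣ x := by
      intro s hs
      induction hs using Submonoid.closure_induction with
      | mem p hp =>
        rintro x ⟨c, hc⟩
        obtain ⟨c', rfl⟩ : p ∣ c := ((hP p hp).dvd_or_dvd ⟨x, by rw [← hc, mul_comm]⟩).resolve_left (hdiv p hp)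
        exact ⟨c', mul_right_cancel₀ (hP p hp).ne_zero (by rw [hc]; ring)⟩
      | one => intro x hx; rwa [mul_one] at hx
      | mul a b _ _ iha ihb => intro x hx; exact iha x (ihb (x * a) (by rwa [mul_assoc]))
    have hq1 : Irreducible (algebraMap A B q) := by
      constructor
      · intro hu
        obtain ⟨m, hm, hqm⟩ : ∃ m ∈ S, q ∣ m := by
          obtain ⟨z, hz⟩ := hu.exists_right_inv
          obtain ⟨z', s, rfl⟩ := IsLocalization.exists_mk'_eq S z
          refine ⟨s, s.2, z', hinj ?_⟩
          rw [map_mul, ← IsLocalization.mk'_spec B z' s, ← mul_assoc, hz, one_mul]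
        exact hq.not_isUnit (isUnit_of_dvd_one (cancel m hm 1 (by rwa [one_mul])))
      · intro x y h
        obtain ⟨x', s, rfl⟩ := IsLocalization.exists_mk'_eq S x
        obtain ⟨y', t, rfl⟩ := IsLocalization.exists_mk'_eq S y
        have e : x' * y' = q * (s * t : S) := hinj (by
          rw [← IsLocalization.mk'_mul, IsLocalization.eq_mk'_iff_mul_eq] at h
          rw [← h, map_mul])
        obtain ⟨x'', y'', s₁, s₂, h1, h2, eq', rfl, rfl⟩ := split _ (s * t).2 _ _ _ e
        rcases hq.isUnit_or_isUnit eq' with hu | hu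
        · left
          rw [IsLocalization.mk'_eq_mul_mk'_one, map_mul]
          exact ((hu.map _).mul (IsLocalization.map_units B (⟨s₁, h1⟩ : S))).mul (isUnit_of_mul_isUnit_left (y := algebraMap A B s) (by rw [IsLocalization.mk'_spec, map_one]; exact isUnit_one))
        · right
          rw [IsLocalization.mk'_eq_mul_mk'_one, map_mul]
          exact ((hu.map _).mul (IsLocalization.map_units B (⟨s₂, h2⟩ : S))).mul (isUnit_of_mul_isUnit_left (y := algebraMap A B t) (by rw [IsLocalization.mk'_spec, map_one]; exact isUnit_one))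
    have hq2 : Prime (algebraMap A B q) := hq1.prime
    refine ⟨hq.ne_zero, hq.not_isUnit, fun x y hxy => ?_⟩
    have back : ∀ z, algebraMap A B q ∣ algebraMap A B z → q ∣ z := by
      rintro z ⟨w, hw⟩
      obtain ⟨w', s, rfl⟩ := IsLocalization.exists_mk'_eq S w
      refine cancel s s.2 z ⟨w', hinj ?_⟩
      rw [map_mul, map_mul, hw, mul_assoc, IsLocalization.mk'_spec]
    rcases hq2.dvd_or_dvd (map_mul (algebraMap A B) x y ▸ map_dvd (algebraMap A B) hxy) with h | h
    · exact Or.inl (back x h)
    · exact Or.inr (back y h)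
  by_cases hu : IsUnit a
  · exact ⟨0, by simp, by simpa using (associated_one_iff_isUnit.2 hu).symm⟩
  · obtain ⟨f, hf, hfa⟩ := hfac a ha hu
    exact ⟨f, fun b hb => irr_prime b (hf b hb), hfa⟩

end Groth.Agent.S2119
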