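import Groth.Statements.S2120
import Groth.Agent.Lib.H12.SepDesc

set_option autoImplicit false
universe u
open CategoryTheory AlgebraicGeometry
open Mor

namespace Groth.Agent.S2120

/-- Let `f : X → Y` be surjective and universally closed. If `X` is quasi-separated then so is `Y`; if
`X` is separated then so is `Y`. -/
theorem result {X Y : Scheme.{u}} (f : X ⟶ Y) [Surjective f] [UniversallyClosed f] :
    (QuasiSeparatedSpace X → QuasiSeparatedSpace Y) ∧ (X.IsSeparated → Y.IsSeparated) := by
  refine ⟨fun h => ?_, fun h => ⟨?_⟩⟩
  · have := (quasiSeparatedSpace_iff_quasiSeparated X).mp h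
    rw [quasiSeparatedSpace_iff_quasiSeparated]
    exact H12.quasiSeparated_of_surjective_universallyClosed (Limits.terminal.from X) (Limits.terminal.from Y) f
      (Subsingleton.elim _ _)
  · have := h.isSeparated_terminal_from
    exact H12.isSeparated_of_surjective_universallyClosed (Limits.terminal.from X) (Limits.terminal.from Y) f
      (Subsingleton.elim _ _)

end Groth.Agent.S2120
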