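import Groth.Statements.S2121
import Groth.Agent.Lib.ValSq12.Basic


set_option autoImplicit false
universe u
open CategoryTheory AlgebraicGeometry
open Mor

namespace Groth.Agent.S2121

/-- Let `f : X → Y` be quasi-compact and `z` a point in the closure of `f(X)` (the underlying set of the
scheme theoretic image). Then there are a valuation ring `A` with fraction field `K` and morphisms
`Spec K → X`, `Spec A → Y` forming a commutative square with `f` and `Spec K → Spec A`, such that
the closed point of `Spec A` maps to `z`. -/
theorem result {X Y : Scheme.{u}} (f : X ⟶ Y) [QuasiCompact f] (z : Y)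
    (hz : z ∈ closure (Set.range f.base)) :
    ∃ (A : Type u) (_ : CommRing A) (_ : IsDomain A) (_ : ValuationRing A)
      (x : Spec (CommRingCat.of (FractionRing A)) ⟶ X) (y : Spec (CommRingCat.of A) ⟶ Y),
      x ≫ f = Spec.map (CommRingCat.ofHom (algebraMap A (FractionRing A))) ≫ y ∧
      y.base (IsLocalRing.closedPoint A) = z := by
  obtain ⟨x, hx⟩ := Groth.Agent.QF.exists_specializes_of_mem_closure f hz
  obtain ⟨A, i₂, h1, h2⟩ := Groth.Agent.ValSq12.exists_square f hx
  let e : FractionRing A ≃ₐ[A] X.residueField x := FractionRing.algEquiv A (X.residueField x)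
  refine ⟨A, inferInstance, inferInstance, inferInstance,
    Spec.map (CommRingCat.ofHom e.symm.toRingEquiv.toRingHom) ≫ X.fromSpecResidueField x, i₂, ?_, h2⟩
  rw [Category.assoc, h1, ← Category.assoc, ← Spec.map_comp]
  congr 2
  ext a
  exact e.symm.commutes a


end Groth.Agent.S2121
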