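import Groth.Statements.S2127
import Groth.Agent.Lib.Ample18.Avoid

set_option autoImplicit false
universe u
open CategoryTheory AlgebraicGeometry
open Mor

namespace Groth.Agent.S2127

/-- Let `X` be a quasi-affine scheme, `L` an invertible `O_X`-module, `W ⊆ X` open and `E ⊆ W` finite.
Then there is a global section `s` of `L` with `X_s` affine and `E ⊆ X_s ⊆ W`. -/
theorem result {X : Scheme.{u}} [X.IsQuasiAffine] (L : X.Modules) (hL : PicF.IsInvertible L)
    (W : X.Opens) (E : Set X) (hE : E.Finite) (hEW : E ⊆ W) :
    ∃ s : Coh.structureModule X ⟶ L, IsAffineOpen (CohB1.genLocus L s) ∧ E ⊆ CohB1.genLocus L s ∧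
      CohB1.genLocus L s ≤ W := by
  exact Groth.Agent.Amp.exists_affine_section_finite hL hE hEW

end Groth.Agent.S2127
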