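import Groth.Statements.S2129
import Groth.Agent.Lib.BranchSm1.Apply
import Groth.Agent.Lib.AlgSpEt14.Branches

set_option autoImplicit false
universe u
open CAlg

namespace Groth.Agent.S2129

/-- Let `R → S` be a smooth ring map, `𝔮` a prime of `S` over `𝔭`, and `A = R_𝔭 → B = S_𝔮` the induced
local homomorphism. Then strict henselizations of `A` and `B` have the same number of minimal prime
ideals (the same number of geometric branches, counted in ℕ∞, infinite counting as ∞). -/
theorem result {R S Ash Bsh : Type u} [CommRing R] [CommRing S] [Algebra R S]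
    [Algebra.Smooth R S] (q : Ideal S) [q.IsPrime] (p : Ideal R) [p.IsPrime] [q.LiesOver p]
    [CommRing Ash] [IsLocalRing Ash] [Algebra (Localization.AtPrime p) Ash]
    [IsLocalHom (algebraMap (Localization.AtPrime p) Ash)] [Hensel.IsStrictHenselization (Localization.AtPrime p) Ash]
    [CommRing Bsh] [IsLocalRing Bsh] [Algebra (Localization.AtPrime q) Bsh]
    [IsLocalHom (algebraMap (Localization.AtPrime q) Bsh)] [Hensel.IsStrictHenselization (Localization.AtPrime q) Bsh] :
    (minimalPrimes Ash).encard = (minimalPrimes Bsh).encard := by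
  open TensorProduct IsLocalRing in
  haveI hA : HenselianLocalRing Ash := Hensel.IsStrictHenselization.henselian (R := Localization.AtPrime p)
  haveI hB : HenselianLocalRing Bsh := Hensel.IsStrictHenselization.henselian (R := Localization.AtPrime q)
  haveI hclA : IsSepClosed (ResidueField Ash) := (Hensel.IsStrictHenselization.isSepClosure (R := Localization.AtPrime p) (S := Ash)).1
  haveI hclB : IsSepClosed (ResidueField Bsh) := (Hensel.IsStrictHenselization.isSepClosure (R := Localization.AtPrime q) (S := Bsh)).1
  have hqp : p = q.comap (algebraMap R S) := q.over_def p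
  let φ := Localization.localRingHom p q (algebraMap R S) hqp
  haveI : IsLocalHom φ := Localization.isLocalHom_localRingHom _ _ _ hqp
  let f : Localization.AtPrime p →+* Bsh := (algebraMap (Localization.AtPrime q) Bsh).comp φ
  obtain ⟨τ, hτ⟩ := Groth.Agent.Hens.exists_residue_lift (A := Localization.AtPrime p) (S := Ash) f
  obtain ⟨g, ⟨hg, hgτ⟩, -⟩ := Hensel.IsStrictHenselization.universal (R := Localization.AtPrime p) (S := Ash) Bsh f τ hτ
  haveI : IsLocalHom g := ⟨fun x hx => residue_ne_zero_iff_isUnit x |>.1 fun h => by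
    have := residue_ne_zero_iff_isUnit (g x) |>.2 hx
    rw [hgτ, h, map_zero] at this
    exact this rfl⟩
  letI : Algebra R Ash := ((algebraMap (Localization.AtPrime p) Ash).comp (algebraMap R (Localization.AtPrime p))).toAlgebra
  haveI : IsScalarTower R (Localization.AtPrime p) Ash := IsScalarTower.of_algebraMap_eq fun _ => rfl
  letI : Algebra S Bsh := ((algebraMap (Localization.AtPrime q) Bsh).comp (algebraMap S (Localization.AtPrime q))).toAlgebra
  haveI : IsScalarTower S (Localization.AtPrime q) Bsh := IsScalarTower.of_algebraMap_eq fun _ => rfl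
  letI : Algebra R Bsh := ((algebraMap S Bsh).comp (algebraMap R S)).toAlgebra
  haveI : IsScalarTower R S Bsh := IsScalarTower.of_algebraMap_eq fun _ => rfl
  letI : Algebra Ash Bsh := g.toAlgebra
  haveI : IsScalarTower R Ash Bsh := IsScalarTower.of_algebraMap_eq fun r => by
    show algebraMap S Bsh (algebraMap R S r) = g (algebraMap (Localization.AtPrime p) Ash (algebraMap R _ r))
    rw [← RingHom.comp_apply g, hg]
    show _ = algebraMap (Localization.AtPrime q) Bsh (φ (algebraMap R _ r))
    rw [Localization.localRingHom_to_map]; rfl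
  let F := Algebra.TensorProduct.lift (IsScalarTower.toAlgHom R Ash Bsh) (IsScalarTower.toAlgHom R S Bsh) (fun _ _ => Commute.all _ _)
  let Q : Ideal (Ash ⊗[R] S) := Ideal.comap F (maximalIdeal Bsh)
  let E := Groth.Agent.Hens.Hsh (Localization.AtPrime Q)
  obtain ⟨e, he⟩ := Groth.Agent.Hens.strictHenselization_tensor_at_prime R S p q Ash Bsh Q E rfl
  letI : Algebra Ash E := ((algebraMap (Localization.AtPrime Q) E).comp (algebraMap Ash (Localization.AtPrime Q))).toAlgebra
  haveI : IsScalarTower Ash (Localization.AtPrime Q) E := IsScalarTower.of_algebraMap_eq fun _ => rfl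
  have heA : ∀ r : Ash, e (algebraMap Ash E r) = algebraMap Ash Bsh r := fun r => by
    show e (algebraMap (Localization.AtPrime Q) E (algebraMap (Ash ⊗[R] S) (Localization.AtPrime Q) (r ⊗ₜ 1))) = _
    refine (he _).trans ?_
    show F (r ⊗ₜ 1) = _
    rw [Algebra.TensorProduct.lift_tmul, map_one, mul_one]; rfl
  let eA : E ≃ₐ[Ash] Bsh := AlgEquiv.ofRingEquiv heA
  have hQ : Q.comap (algebraMap Ash (Ash ⊗[R] S)) = maximalIdeal Ash := by
    have hg4 : (maximalIdeal Bsh).comap g = maximalIdeal Ash := ((local_hom_TFAE g).out 0 4).mp ‹_›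
    rw [← hg4]
    refine Ideal.ext fun r => ?_
    show F (r ⊗ₜ 1) ∈ maximalIdeal Bsh ↔ g r ∈ maximalIdeal Bsh
    rw [Algebra.TensorProduct.lift_tmul, map_one, mul_one]; rfl
  rw [← Groth.Agent.StalkHens14.encard_minimalPrimes_of_ringEquiv e]
  refine (Groth.Agent.BranchSm1.encard_eq_of_smooth Ash (Ash ⊗[R] S) Q hQ E (Or.inr inferInstance) fun N _ _ _ _ hN => ?_).symm
  haveI := hN
  haveI : IsPurelyInseparable (ResidueField Ash) (ResidueField N) := by
    haveI : Algebra.IsIntegral (ResidueField Ash) (ResidueField N) := ⟨fun z => by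
      obtain ⟨x, rfl⟩ := residue_surjective z
      obtain ⟨P, hP, hPx⟩ := Algebra.IsIntegral.isIntegral (R := Ash) x
      refine ⟨P.map (residue Ash), hP.map _, ?_⟩
      rw [Polynomial.eval₂_map, show (algebraMap (ResidueField Ash) (ResidueField N)).comp (residue Ash) =
        (residue N).comp (algebraMap Ash N) from rfl, ← Polynomial.hom_eval₂, hPx, map_zero]⟩
    refine isPurelyInseparable_iff.mpr fun x => ⟨Algebra.IsIntegral.isIntegral x, fun hs => ?_⟩
    exact minpoly.degree_eq_one_iff.mp (IsSepClosed.degree_eq_one_of_irreducible (k := ResidueField Ash)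
      (minpoly.irreducible (Algebra.IsIntegral.isIntegral x)) hs)
  haveI : IsLocalHom (algebraMap Ash Bsh) := inferInstanceAs (IsLocalHom g)
  obtain ⟨hloc, -⟩ := Groth.Agent.Hens.isLocalRing_tensor_of_purelyInseparable Ash N Bsh
  haveI := hloc
  exact Groth.Agent.BranchSm1.isLocalRing_tensor_congr eA

end Groth.Agent.S2129
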