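import Groth.Statements.S2130
import Groth.Agent.Lib.BranchSm1.Apply
import Groth.Agent.Lib.AlgSpEt14.Branches

set_option autoImplicit false
universe u
open CAlg

namespace Groth.Agent.S2130

/-- Let `R → S` be smooth, `𝔮` a prime of `S` over `𝔭` with `κ(𝔮)/κ(𝔭)` purely inseparable, and `A = R_𝔭
→ B = S_𝔮`. Then henselizations of `A` and `B` have the same number of minimal prime ideals (the
same number of branches). -/
theorem result {R S Ah Bh : Type u} [CommRing R] [CommRing S]
    [Algebra R S] [Algebra.Smooth R S] (q : Ideal S) [q.IsPrime] (p : Ideal R) [p.IsPrime] [q.LiesOver p]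
    (hpi : @IsPurelyInseparable p.ResidueField q.ResidueField _ _
      (Ideal.ResidueField.mapₐ p q (Algebra.ofId R S) (q.over_def p)).toRingHom.toAlgebra)
    [CommRing Ah] [IsLocalRing Ah] [Algebra (Localization.AtPrime p) Ah]
    [IsLocalHom (algebraMap (Localization.AtPrime p) Ah)] [Hensel.IsHenselization (Localization.AtPrime p) Ah]
    [CommRing Bh] [IsLocalRing Bh] [Algebra (Localization.AtPrime q) Bh]
    [IsLocalHom (algebraMap (Localization.AtPrime q) Bh)] [Hensel.IsHenselization (Localization.AtPrime q) Bh] :
    (minimalPrimes Ah).encard = (minimalPrimes Bh).encard := by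
  open TensorProduct IsLocalRing in
  haveI hA : HenselianLocalRing Ah := Hensel.IsHenselization.henselian (R := Localization.AtPrime p)
  haveI hB : HenselianLocalRing Bh := Hensel.IsHenselization.henselian (R := Localization.AtPrime q)
  have hqp : p = q.comap (algebraMap R S) := q.over_def p
  let φ := Localization.localRingHom p q (algebraMap R S) hqp
  haveI : IsLocalHom φ := Localization.isLocalHom_localRingHom _ _ _ hqp
  let f : Localization.AtPrime p →+* Bh := (algebraMap (Localization.AtPrime q) Bh).comp φ
  obtain ⟨g, hg, -⟩ := Hensel.IsHenselization.universal (R := Localization.AtPrime p) (S := Ah) Bh f inferInstance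
  have hmax := Groth.Agent.Hens.henselization_map_maximalIdeal (Localization.AtPrime p) Ah
  haveI : IsLocalHom g := ⟨fun x hx => by
    by_contra hn
    have hle : (maximalIdeal (Localization.AtPrime p)).map (algebraMap (Localization.AtPrime p) Ah) ≤ (maximalIdeal Bh).comap g :=
      Ideal.map_le_iff_le_comap.mpr fun a ha => by
        show g (algebraMap _ Ah a) ∈ maximalIdeal Bh
        rw [← RingHom.comp_apply, hg]
        exact map_nonunit f a ha
    rw [hmax] at hle
    exact (hle hn : g x ∈ maximalIdeal Bh) hx⟩
  letI : Algebra R Ah := ((algebraMap (Localization.AtPrime p) Ah).comp (algebraMap R (Localization.AtPrime p))).toAlgebra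
  haveI : IsScalarTower R (Localization.AtPrime p) Ah := IsScalarTower.of_algebraMap_eq fun _ => rfl
  letI : Algebra S Bh := ((algebraMap (Localization.AtPrime q) Bh).comp (algebraMap S (Localization.AtPrime q))).toAlgebra
  haveI : IsScalarTower S (Localization.AtPrime q) Bh := IsScalarTower.of_algebraMap_eq fun _ => rfl
  letI : Algebra R Bh := ((algebraMap S Bh).comp (algebraMap R S)).toAlgebra
  haveI : IsScalarTower R S Bh := IsScalarTower.of_algebraMap_eq fun _ => rfl
  letI : Algebra Ah Bh := g.toAlgebra
  haveI : IsScalarTower R Ah Bh := IsScalarTower.of_algebraMap_eq fun r => by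
    show algebraMap S Bh (algebraMap R S r) = g (algebraMap (Localization.AtPrime p) Ah (algebraMap R _ r))
    rw [← RingHom.comp_apply g, hg]
    show _ = algebraMap (Localization.AtPrime q) Bh (φ (algebraMap R _ r))
    rw [Localization.localRingHom_to_map]; rfl
  let F := Algebra.TensorProduct.lift (IsScalarTower.toAlgHom R Ah Bh) (IsScalarTower.toAlgHom R S Bh) (fun _ _ => Commute.all _ _)
  let Q : Ideal (Ah ⊗[R] S) := Ideal.comap F (maximalIdeal Bh)
  let E := Groth.Agent.Hens.Hh (Localization.AtPrime Q)
  obtain ⟨e, he⟩ := Groth.Agent.Hens.henselization_tensor_at_prime R S p q Ah Bh Q E rfl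
  letI : Algebra Ah E := ((algebraMap (Localization.AtPrime Q) E).comp (algebraMap Ah (Localization.AtPrime Q))).toAlgebra
  haveI : IsScalarTower Ah (Localization.AtPrime Q) E := IsScalarTower.of_algebraMap_eq fun _ => rfl
  have heA : ∀ r : Ah, e (algebraMap Ah E r) = algebraMap Ah Bh r := fun r => by
    show e (algebraMap (Localization.AtPrime Q) E (algebraMap (Ah ⊗[R] S) (Localization.AtPrime Q) (r ⊗ₜ 1))) = _
    refine (he _).trans ?_
    show F (r ⊗ₜ 1) = _
    rw [Algebra.TensorProduct.lift_tmul, map_one, mul_one]; rfl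
  let eA : E ≃ₐ[Ah] Bh := AlgEquiv.ofRingEquiv heA
  have hQ : Q.comap (algebraMap Ah (Ah ⊗[R] S)) = maximalIdeal Ah := by
    have hg4 : (maximalIdeal Bh).comap g = maximalIdeal Ah := ((local_hom_TFAE g).out 0 4).mp ‹_›
    rw [← hg4]
    refine Ideal.ext fun r => ?_
    show F (r ⊗ₜ 1) ∈ maximalIdeal Bh ↔ g r ∈ maximalIdeal Bh
    rw [Algebra.TensorProduct.lift_tmul, map_one, mul_one]; rfl
  rw [← Groth.Agent.StalkHens14.encard_minimalPrimes_of_ringEquiv e]
  refine (Groth.Agent.BranchSm1.encard_eq_of_smooth Ah (Ah ⊗[R] S) Q hQ E (Or.inl inferInstance) fun N _ _ _ _ hN => ?_).symm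
  haveI := hN
  haveI : IsLocalHom (algebraMap Ah Bh) := inferInstanceAs (IsLocalHom g)
  haveI : IsPurelyInseparable (ResidueField Ah) (ResidueField Bh) := by
    letI alg : Algebra p.ResidueField q.ResidueField :=
      (Ideal.ResidueField.mapₐ p q (Algebra.ofId R S) (q.over_def p)).toRingHom.toAlgebra
    haveI : IsPurelyInseparable p.ResidueField q.ResidueField := hpi
    let c := ringExpChar p.ResidueField
    haveI : ExpChar (ResidueField Ah) c :=
      expChar_of_injective_ringHom (ResidueField.map (algebraMap (Localization.AtPrime p) Ah)).injective c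
    refine (isPurelyInseparable_iff_pow_mem (ResidueField Ah) c).2 fun x => ?_
    obtain ⟨y, rfl⟩ := (Groth.Agent.Hens.henselization_residueField_bijective (Localization.AtPrime q) Bh).2 x
    obtain ⟨n, z, hz⟩ := IsPurelyInseparable.pow_mem p.ResidueField c y
    refine ⟨n, ResidueField.map (algebraMap (Localization.AtPrime p) Ah) z, ?_⟩
    rw [← map_pow, ← hz]
    obtain ⟨w, rfl⟩ := residue_surjective z
    show residue Bh (g (algebraMap (Localization.AtPrime p) Ah w)) =
      residue Bh (algebraMap (Localization.AtPrime q) Bh (φ w))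
    rw [← RingHom.comp_apply g, hg]
    rfl
  haveI := Groth.Agent.BranchSm1.isLocalRing_tensor_of_residue_purelyInseparable Ah N Bh
  exact Groth.Agent.BranchSm1.isLocalRing_tensor_congr eA

end Groth.Agent.S2130
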