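import Groth.Statements.S2131
import Mathlib.Algebra.Module.FinitePresentation
import Mathlib.RingTheory.Spectrum.Prime.Topology
import Mathlib.RingTheory.LocalProperties.Submodule

set_option autoImplicit false
universe u
open CAlg

namespace Groth.Agent.S2131

/-- For an `R`-linear map from a finite module to a finitely presented module, the primes at which its
localization is bijective form an open subset of `Spec R`. -/
theorem result {R M N : Type u} [CommRing R] [AddCommGroup M] [Module R M] [Module.Finite R M]
    [AddCommGroup N] [Module R N] [Module.FinitePresentation R N] (φ : M →ₗ[R] N) :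
    IsOpen {p : PrimeSpectrum R | Function.Bijective (LocalizedModule.map p.asIdeal.primeCompl φ)} := by
  have hmk : ∀ (T : Submonoid R) (m : M) (t : T),
      LocalizedModule.map T φ (LocalizedModule.mk m t) = LocalizedModule.mk (φ m) t :=
    fun T m t => IsLocalizedModule.map_LocalizedModules T φ m t
  rw [isOpen_iff_forall_mem_open]
  intro p (hp : Function.Bijective _)
  obtain ⟨r, hr, hbij⟩ := exists_bijective_map_powers p.asIdeal.primeCompl
    (LocalizedModule.mkLinearMap p.asIdeal.primeCompl M) (LocalizedModule.mkLinearMap p.asIdeal.primeCompl N) φ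
    hp
  refine ⟨PrimeSpectrum.basicOpen r, fun q hq => ?_, PrimeSpectrum.isOpen_basicOpen, hr⟩
  have h := hbij r dvd_rfl
  have hK : ∀ n : ℕ, (r ^ n : R) ∈ q.asIdeal.primeCompl := fun n h => hq (q.isPrime.mem_of_pow_mem n h)
  have hA : ∀ m, φ m = 0 → ∃ n : ℕ, r ^ n • m = 0 := by
    intro m hm
    have h2 : LocalizedModule.map (Submonoid.powers r) φ (LocalizedModule.mk m 1) = 0 := by
      rw [hmk, hm, LocalizedModule.zero_mk]
    have h3 := h.1 (h2.trans (map_zero _).symm)
    rw [← LocalizedModule.zero_mk (1 : Submonoid.powers r), LocalizedModule.mk_eq] at h3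
    obtain ⟨⟨_, n, rfl⟩, hn⟩ := h3
    exact ⟨n, by simpa [Submonoid.smul_def] using hn⟩
  have hB : ∀ b, ∃ (m : M) (n : ℕ), φ m = r ^ n • b := by
    intro b
    obtain ⟨a, ha⟩ := h.2 (LocalizedModule.mk b 1)
    induction a using LocalizedModule.induction_on with
    | _ m u =>
      rw [hmk, LocalizedModule.mk_eq] at ha
      obtain ⟨⟨_, l, rfl⟩, hl⟩ := ha
      obtain ⟨_, k, rfl⟩ := u
      simp only [Submonoid.smul_def, one_smul, OneMemClass.coe_one] at hl
      exact ⟨r ^ l • m, l + k, by rw [map_smul, hl, smul_smul, pow_add]⟩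
  refine ⟨(injective_iff_map_eq_zero _).2 fun z hz => ?_, fun z => ?_⟩
  · induction z using LocalizedModule.induction_on with
    | _ m s =>
      rw [hmk, ← LocalizedModule.zero_mk s, LocalizedModule.mk_eq] at hz
      obtain ⟨u, hu⟩ := hz
      simp only [Submonoid.smul_def, smul_zero, smul_smul, ← map_smul] at hu
      obtain ⟨n, hn⟩ := hA _ hu
      rw [← LocalizedModule.zero_mk s, LocalizedModule.mk_eq]
      refine ⟨⟨r ^ n, hK n⟩ * u, ?_⟩
      simp only [Submonoid.smul_def, smul_zero, Submonoid.coe_mul, smul_smul]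
      rw [smul_smul] at hn
      rw [mul_assoc]
      exact hn
  · induction z using LocalizedModule.induction_on with
    | _ b s =>
      obtain ⟨m, n, hm⟩ := hB b
      refine ⟨LocalizedModule.mk m (⟨r ^ n, hK n⟩ * s), ?_⟩
      rw [hmk, LocalizedModule.mk_eq]
      exact ⟨1, by simp only [Submonoid.smul_def, one_smul, Submonoid.coe_mul, hm, smul_smul, OneMemClass.coe_one, one_mul, mul_comm]⟩

end Groth.Agent.S2131
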