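import Groth.Statements.S2132
import Mathlib.Algebra.Category.Ring.FilteredColimits
import Mathlib.CategoryTheory.Limits.ConcreteCategory.Basic
import Mathlib.RingTheory.Henselian

set_option autoImplicit false
universe u
open CategoryTheory
open CAlg

namespace Groth.Agent.S2132

/-- Let `F : J ⥤ CommRingCat` be a filtered diagram of henselian local rings with local transition maps
and `c` a colimit cocone. Then the colimit is a henselian local ring. -/
theorem result {J : Type u} [SmallCategory J] [IsFiltered J] (F : J ⥤ CommRingCat.{u})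
    (hF : ∀ j, HenselianLocalRing (F.obj j)) (hloc : ∀ (i j : J) (a : i ⟶ j), IsLocalHom (F.map a).hom)
    (c : Limits.Cocone F) (hc : Limits.IsColimit c) : HenselianLocalRing c.pt := by
  classical
  let ι := fun j => (c.ι.app j).hom
  have hnat : ∀ {i j} (a : i ⟶ j) (x : F.obj i), ι j ((F.map a).hom x) = ι i x := fun {i j} a x =>
    RingHom.congr_fun (congrArg CommRingCat.Hom.hom (c.w a)) x
  have hrep : ∀ z : c.pt, ∃ j y, ι j y = z := fun z => Limits.Concrete.isColimit_exists_rep F hc z
  have heq : ∀ {i j} (x : F.obj i) (y : F.obj j), ι i x = ι j y →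
      ∃ (k : J) (f : i ⟶ k) (g : j ⟶ k), (F.map f).hom x = (F.map g).hom y := fun x y h =>
    (Limits.Concrete.isColimit_rep_eq_iff_exists F hc x y).1 h
  have hlocal : ∀ i (x : F.obj i), IsUnit (ι i x) → IsUnit x := by
    intro i x hx
    obtain ⟨y, hy⟩ := hx.exists_right_inv
    obtain ⟨j, z, rfl⟩ := hrep y
    let k := IsFiltered.max i j
    rw [← hnat (IsFiltered.leftToMax i j) x, ← hnat (IsFiltered.rightToMax i j) z, ← map_mul,
      ← map_one (ι k)] at hy
    obtain ⟨l, f, g, hfg⟩ := heq _ _ hy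
    rw [map_mul, map_one] at hfg
    exact (hloc i k _).map_nonunit _ ((hloc k l f).map_nonunit _ (IsUnit.of_mul_eq_one _ hfg))
  have hnt : Nontrivial c.pt := by
    obtain ⟨i⟩ := (IsFiltered.nonempty : Nonempty J)
    have := hF i
    exact ⟨⟨0, 1, fun h => not_isUnit_zero (M₀ := F.obj i) (hlocal i 0 (by rw [map_zero, h]; exact isUnit_one))⟩⟩
  have hlr : IsLocalRing c.pt := by
    refine IsLocalRing.of_nonunits_add fun a b ha hb hab => ?_
    obtain ⟨i, x, rfl⟩ := hrep a
    obtain ⟨j, y, rfl⟩ := hrep b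
    have := hF (IsFiltered.max i j)
    rw [← hnat (IsFiltered.leftToMax i j) x] at ha hab
    rw [← hnat (IsFiltered.rightToMax i j) y] at hb hab
    rw [← map_add] at hab
    rcases IsLocalRing.isUnit_or_isUnit_of_isUnit_add (hlocal _ _ hab) with h | h
    · exact ha (h.map _)
    · exact hb (h.map _)
  have hfam : ∀ (n : ℕ) (z : Fin n → c.pt), ∃ (j : J) (y : Fin n → F.obj j), ∀ a, ι j (y a) = z a := by
    intro n z
    choose i y hy using fun a => hrep (z a)
    obtain ⟨k, hk⟩ := IsFiltered.sup_objs_exists (Finset.univ.image i)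
    have f : ∀ a, i a ⟶ k := fun a => (hk (Finset.mem_image_of_mem i (Finset.mem_univ a))).some
    exact ⟨k, fun a => (F.map (f a)).hom (y a), fun a => by rw [hnat, hy]⟩
  refine { is_henselian := fun f hf a₀ h1 h2 => ?_ }
  let d := f.natDegree
  obtain ⟨j, y, hy⟩ := hfam (d + 1) (Fin.cons a₀ fun i : Fin d => f.coeff i)
  let g : Polynomial (F.obj j) := Polynomial.X ^ d + ∑ i : Fin d, Polynomial.C (y i.succ) * Polynomial.X ^ (i : ℕ)
  have hgm : g.Monic := Polynomial.monic_X_pow_add (Polynomial.degree_sum_fin_lt _)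
  have hgf : g.map (ι j) = f := by
    conv_rhs => rw [f.as_sum_range, Finset.sum_range_succ]
    simp only [g, Polynomial.map_add, Polynomial.map_pow, Polynomial.map_X, Polynomial.map_sum, Polynomial.map_mul,
      Polynomial.map_C]
    rw [add_comm, ← Polynomial.C_mul_X_pow_eq_monomial, hf.coeff_natDegree, map_one, one_mul, ← Fin.sum_univ_eq_sum_range]
    congr 1
    refine Finset.sum_congr rfl fun i _ => ?_
    rw [hy, Fin.cons_succ, Polynomial.C_mul_X_pow_eq_monomial]
  have hy0 : ι j (y 0) = a₀ := hy 0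
  have := hF j
  have e1 : ι j (g.eval (y 0)) = f.eval a₀ := by rw [← hgf, ← hy0, Polynomial.eval_map_apply]
  have e2 : ι j (g.derivative.eval (y 0)) = f.derivative.eval a₀ := by
    rw [← hgf, ← hy0, Polynomial.derivative_map, Polynomial.eval_map_apply]
  obtain ⟨a, ha, ha'⟩ := HenselianLocalRing.is_henselian g hgm (y 0)
    (fun hu => h1 (e1 ▸ hu.map (ι j))) (hlocal j _ (e2.symm ▸ h2))
  refine ⟨ι j a, ?_, ?_⟩
  · rw [← hgf, Polynomial.IsRoot.def, Polynomial.eval_map_apply, ha.eq_zero, map_zero]
  · rw [← hy0, ← map_sub]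
    exact fun hu => ha' (hlocal j _ hu)

end Groth.Agent.S2132
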