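import Groth.Statements.S2133
import Mathlib

set_option autoImplicit false
universe u
open CAlg

namespace Groth.Agent.S2133




/-- Let `R → R'` be an injective ring map of finite type and `g ∈ R` a nonzerodivisor on `R'` such that
every element of `R'` lands in `R` after multiplication by a power of `g` (so `R_g = R'_g`). Then
for every derivation `D` of `R` there is `N` such that `g^N D` extends to a derivation of `R'`. -/
theorem result {R R' : Type u} [CommRing R] [CommRing R'] [Algebra R R'] [Algebra.FiniteType R R']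
    (hinj : Function.Injective (algebraMap R R')) (g : R) (hg : IsSMulRegular R' (algebraMap R R' g))
    (hloc : ∀ x : R', ∃ n : ℕ, (algebraMap R R' g) ^ n * x ∈ Set.range (algebraMap R R')) (D : Derivation ℤ R R) :
    ∃ (N : ℕ) (D' : Derivation ℤ R' R'), ∀ r : R, D' (algebraMap R R' r) = algebraMap R R' (g ^ N * D r) := by
  classical
  let φ := algebraMap R R'
  let G := φ g
  have hG : ∀ n, IsSMulRegular R' (G ^ n) := fun n => hg.pow n
  have hreg : ∀ n {a b : R'}, G ^ n * a = G ^ n * b → a = b := fun n a b h => hG n h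
  choose ex exa hex using fun x => (hloc x).imp fun n hn => (hn : ∃ a, φ a = G ^ n * x)
  obtain ⟨t, ht⟩ := (Algebra.FiniteType.out : (⊤ : Subalgebra R R').FG)
  let N := t.sup ex + 1
  let P : R' → R' → Prop := fun x y => ∃ (n : ℕ) (a : R), φ a = G ^ n * x ∧
    G ^ n * y + (n : R') * G ^ (n - 1) * x * (G ^ N * φ (D g)) = G ^ N * φ (D a)
  have up : ∀ {x y : R'} {n : ℕ} {a : R}, φ a = G ^ n * x →
      G ^ n * y + (n : R') * G ^ (n - 1) * x * (G ^ N * φ (D g)) = G ^ N * φ (D a) →
      ∀ k, φ (g ^ k * a) = G ^ (k + n) * x ∧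
        G ^ (k + n) * y + ((k + n : ℕ) : R') * G ^ (k + n - 1) * x * (G ^ N * φ (D g)) = G ^ N * φ (D (g ^ k * a)) := by
    intro x y n a ha he k
    refine ⟨by rw [map_mul, map_pow, ha, pow_add, mul_assoc], ?_⟩
    rw [Derivation.leibniz, Derivation.leibniz_pow, smul_eq_mul, smul_eq_mul, map_add, map_mul, map_mul, map_pow,
      nsmul_eq_mul, smul_eq_mul, map_mul, map_mul, map_natCast, map_pow, ha, pow_add, Nat.cast_add]
    rcases Nat.eq_zero_or_pos k with rfl | hk
    · simp only [Nat.cast_zero, zero_add, pow_zero, one_mul, zero_mul, mul_zero]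
      linear_combination he
    · rcases Nat.eq_zero_or_pos n with rfl | hn
      · simp only [Nat.cast_zero, add_zero, pow_zero, one_mul, zero_mul, zero_add] at he ⊢
        linear_combination G ^ k * he
      · obtain ⟨k, rfl⟩ := Nat.exists_eq_add_of_le hk
        obtain ⟨n, rfl⟩ := Nat.exists_eq_add_of_le hn
        simp only [show Nat.succ 0 = 1 from rfl] at *
        rw [show 1 + k + (1 + n) - 1 = k + (1 + n) by omega, show 1 + k - 1 = k by omega, pow_add G k (1 + n)]
        rw [show 1 + n - 1 = n by omega] at he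
        push_cast at he ⊢
        linear_combination G ^ (1 + k) * he
  have uniq : ∀ {x y y' : R'}, P x y → P x y' → y = y' := by
    rintro x y y' ⟨n, a, ha, he⟩ ⟨m, b, hb, hf⟩
    obtain ⟨e1, f1⟩ := up ha he m
    obtain ⟨e2, f2⟩ := up hb hf n
    rw [Nat.add_comm n m] at e2 f2
    rw [hinj (e1.trans e2.symm)] at f1
    exact hreg (m + n) (add_right_cancel (f1.trans f2.symm))
  have base : ∀ r : R, P (φ r) (φ (g ^ N * D r)) := fun r => by
    refine ⟨0, r, by simp, ?_⟩
    rw [map_mul, map_pow]
    simp [G]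
  have hadd : ∀ {x x' y y' : R'}, P x y → P x' y' → P (x + x') (y + y') := by
    rintro x x' y y' ⟨n, a, ha, he⟩ ⟨m, b, hb, hf⟩
    obtain ⟨e1, f1⟩ := up ha he m
    obtain ⟨e2, f2⟩ := up hb hf n
    rw [Nat.add_comm n m] at e2 f2
    refine ⟨m + n, g ^ m * a + g ^ n * b, by rw [map_add, e1, e2, mul_add], ?_⟩
    rw [map_add, map_add]
    linear_combination f1 + f2
  have hmul : ∀ {x x' y y' : R'}, P x y → P x' y' → P (x * x') (x * y' + x' * y) := by
    rintro x x' y y' ⟨n, a, ha, he⟩ ⟨m, b, hb, hf⟩
    refine ⟨n + m, a * b, by rw [map_mul, ha, hb, pow_add]; ring, ?_⟩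
    rw [Derivation.leibniz, smul_eq_mul, smul_eq_mul, map_add, map_mul, map_mul, ha, hb]
    rcases Nat.eq_zero_or_pos n with rfl | hn
    · simp only [Nat.cast_zero, zero_add, pow_zero, one_mul, zero_mul, add_zero] at he ⊢
      linear_combination G ^ m * x' * he + x * hf
    · rcases Nat.eq_zero_or_pos m with rfl | hm
      · simp only [Nat.cast_zero, zero_add, pow_zero, one_mul, zero_mul, add_zero] at hf ⊢
        linear_combination G ^ n * x * hf + x' * he
      · obtain ⟨n, rfl⟩ := Nat.exists_eq_add_of_le hn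
        obtain ⟨m, rfl⟩ := Nat.exists_eq_add_of_le hm
        simp only [show Nat.succ 0 = 1 from rfl] at *
        rw [show 1 + n + (1 + m) - 1 = 1 + n + m by omega]
        rw [show 1 + n - 1 = n by omega] at he
        rw [show 1 + m - 1 = m by omega] at hf
        push_cast at he hf ⊢
        linear_combination G ^ (1 + n) * x * hf + G ^ (1 + m) * x' * he
  have tot : ∀ x, ∃ y, P x y := by
    intro x
    have hx : x ∈ Algebra.adjoin R (t : Set R') := ht ▸ Algebra.mem_top
    induction hx using Algebra.adjoin_induction with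
    | algebraMap r => exact ⟨_, base r⟩
    | add u v _ _ hu hv => exact ⟨_, hadd hu.choose_spec hv.choose_spec⟩
    | mul u v _ _ hu hv => exact ⟨_, hmul hu.choose_spec hv.choose_spec⟩
    | mem x hx =>
      have hle : ex x < N := Nat.lt_succ_of_le (Finset.le_sup (f := ex) hx)
      refine ⟨G ^ (N - ex x) * φ (D (exa x)) - (ex x : R') * G ^ (N - 1) * x * φ (D g), ex x, exa x, hex x, ?_⟩
      obtain ⟨d, hd⟩ := Nat.exists_eq_add_of_lt hle
      rw [hd, show ex x + d + 1 - ex x = d + 1 by omega, show ex x + d + 1 - 1 = ex x + d by omega]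
      rcases Nat.eq_zero_or_pos (ex x) with h0 | h0
      · rw [h0]; simp
      · obtain ⟨n, hn⟩ := Nat.exists_eq_add_of_le h0
        rw [hn, show Nat.succ 0 + n - 1 = n by omega]
        push_cast
        ring
  choose d hd using tot
  let dl : R' →+ R' := AddMonoidHom.mk' d fun u v => uniq (hd (u + v)) (hadd (hd u) (hd v))
  refine ⟨N, Derivation.mk' dl.toIntLinearMap fun u v => ?_, fun r => uniq (hd _) (base r)⟩
  exact uniq (hd (u * v)) (hmul (hd u) (hd v))

end Groth.Agent.S2133
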