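import Groth.Statements.S2134
import Mathlib

set_option autoImplicit false
universe u
open CAlg

namespace Groth.Agent.S2134




/-- Let `K/k` be a field extension and `(K_α)` a nonempty family of intermediate fields, directed
downwards, with intersection `k`. For a `K`-subspace `V` of `K^n` (`n ≥ 1`), `V` contains a nonzero
vector with all coordinates in `k` if and only if for every `α` it contains a nonzero vector with
all coordinates in `K_α`. -/
theorem result {k K : Type u} [Field k] [Field K] [Algebra k K] {ι : Type u} [Nonempty ι]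
    (F : ι → IntermediateField k K) (hdir : ∀ a b : ι, ∃ c, F c ≤ F a ⊓ F b) (hinf : ⨅ a, F a = ⊥) (n : ℕ) (hn : 1 ≤ n)
    (V : Submodule K (Fin n → K)) :
    (∃ v ∈ V, v ≠ 0 ∧ ∀ i, v i ∈ Set.range (algebraMap k K)) ↔
      ∀ a, ∃ v ∈ V, v ≠ 0 ∧ ∀ i, v i ∈ F a := by
  classical
  constructor
  · rintro ⟨v, hv, hv0, hk⟩ a
    refine ⟨v, hv, hv0, fun i => ?_⟩
    obtain ⟨r, hr⟩ := hk i
    rw [← hr]
    exact (F a).algebraMap_mem r
  · intro h
    let Q : Finset (Fin n) → Prop := fun T => ∀ a, ∃ v ∈ V, v ≠ 0 ∧ (∀ i, v i ∈ F a) ∧ ∀ i ∉ T, v i = 0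
    have hne : (Finset.univ.filter Q).Nonempty :=
      ⟨Finset.univ, Finset.mem_filter.2 ⟨Finset.mem_univ _, fun a => by
        obtain ⟨v, hv, hv0, hk⟩ := h a
        exact ⟨v, hv, hv0, hk, fun i hi => absurd (Finset.mem_univ i) hi⟩⟩⟩
    obtain ⟨T, hT, hmin⟩ := Finset.exists_min_image _ Finset.card hne
    have hQ : Q T := (Finset.mem_filter.1 hT).2
    have hsmall : ∀ i ∈ T, ∃ a, ∀ v ∈ V, (∀ l, v l ∈ F a) → (∀ l ∉ T.erase i, v l = 0) → v = 0 := by
      intro i hi
      by_contra hc
      push Not at hc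
      have hQ' : Q (T.erase i) := fun a => by
        obtain ⟨v, hv, hk, hz, hv0⟩ := hc a
        exact ⟨v, hv, hv0, hk, hz⟩
      have := hmin _ (Finset.mem_filter.2 ⟨Finset.mem_univ _, hQ'⟩)
      rw [Finset.card_erase_of_mem hi] at this
      have := Finset.card_pos.2 ⟨i, hi⟩
      omega
    choose A hA using hsmall
    let _ : LE ι := ⟨fun a b => F a ≤ F b⟩
    obtain ⟨c, hc⟩ : ∃ c, ∀ i (hi : i ∈ T), F c ≤ F (A i hi) := by
      have : ∀ s : Finset {i // i ∈ T}, ∃ c, ∀ i ∈ s, F c ≤ F (A i.1 i.2) := by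
        intro s
        induction s using Finset.induction_on with
        | empty => exact ⟨Classical.arbitrary ι, by simp⟩
        | insert i s _ ih =>
          obtain ⟨c, hc⟩ := ih
          obtain ⟨d, hd⟩ := hdir c (A i.1 i.2)
          refine ⟨d, fun l hl => ?_⟩
          rcases Finset.mem_insert.1 hl with rfl | hl
          · exact hd.trans inf_le_right
          · exact (hd.trans inf_le_left).trans (hc l hl)
      obtain ⟨c, hc⟩ := this Finset.univ
      exact ⟨c, fun i hi => hc ⟨i, hi⟩ (Finset.mem_univ _)⟩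
    obtain ⟨v, hv, hv0, hk, hz⟩ := hQ c
    obtain ⟨j, hj⟩ : ∃ j, v j ≠ 0 := Function.ne_iff.1 hv0
    have hjT : j ∈ T := by_contra fun h' => hj (hz j h')
    let w := (v j)⁻¹ • v
    refine ⟨w, V.smul_mem _ hv, smul_ne_zero (inv_ne_zero hj) hv0, fun i => ?_⟩
    have hmem : ∀ a, w i ∈ F a := by
      intro a
      obtain ⟨b, hb⟩ := hdir a c
      obtain ⟨hba, hbc⟩ := le_inf_iff.1 hb
      obtain ⟨u, hu, hu0, huk, huz⟩ := hQ b
      by_cases huj : u j = 0
      · exfalso
        refine hu0 (hA j hjT u hu (fun l => hc j hjT (hbc (huk l))) fun l hl => ?_)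
        by_cases hlj : l = j
        · rw [hlj, huj]
        · exact huz l fun h' => hl (Finset.mem_erase.2 ⟨hlj, h'⟩)
      · have e : w - (u j)⁻¹ • u = 0 := by
          refine hA j hjT _ (V.sub_mem (V.smul_mem _ hv) (V.smul_mem _ hu)) (fun l => ?_) fun l hl => ?_
          · refine hc j hjT ((F c).sub_mem ?_ ?_)
            · exact (F c).mul_mem ((F c).inv_mem (hk j)) (hk l)
            · exact hbc ((F b).mul_mem ((F b).inv_mem (huk j)) (huk l))
          · by_cases hlj : l = j
            · subst hlj; simp [w, hj, huj]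
            · have hlT : l ∉ T := fun h' => hl (Finset.mem_erase.2 ⟨hlj, h'⟩)
              simp [w, hz l hlT, huz l hlT]
        rw [sub_eq_zero.1 e]
        exact hba ((F b).mul_mem ((F b).inv_mem (huk j)) (huk i))
    have : w i ∈ (⨅ a, F a : IntermediateField k K) := by
      rw [← SetLike.mem_coe, IntermediateField.coe_iInf, Set.mem_iInter]
      exact hmem
    rw [hinf] at this
    exact IntermediateField.mem_bot.1 this

end Groth.Agent.S2134
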