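import Groth.Statements.S2138
import Mathlib.RingTheory.Flat.EquationalCriterion


set_option autoImplicit false
universe u
open CAlg

namespace Groth.Agent.S2138

open Finset in
lemma rel {R S : Type u} [CommRing R] [CommRing S] [Algebra R S] [Module.Flat R S] {ι : Type*}
    (T : Finset ι) (e : ι → R) (d : ι → S) (Q : Ideal R)
    (h : ∑ i ∈ T, algebraMap R S (e i) * d i ∈ Q.map (algebraMap R S)) :
    ∃ (k : ℕ) (a : ι → Fin k → R) (z : Fin k → S),
      (∀ i ∈ T, d i = ∑ u, algebraMap R S (a i u) * z u) ∧ ∀ u, ∑ i ∈ T, e i * a i u ∈ Q := by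
  classical
  obtain ⟨m, b, g, hg⟩ := Submodule.mem_span_set'.mp h
  choose q hq hqg using fun l => (Set.mem_image _ _ _).mp (g l).2
  have hz : ∑ i : T ⊕ Fin m, (Sum.elim (fun i : T => e i) (fun l => - q l)) i •
      (Sum.elim (fun i : T => d i) b) i = 0 := by
    rw [Fintype.sum_sum_type]
    simp only [Sum.elim_inl, Sum.elim_inr, Algebra.smul_def, map_neg, neg_mul, Finset.sum_neg_distrib]
    rw [Finset.sum_coe_sort T (fun i => algebraMap R S (e i) * d i), ← hg, ← sub_eq_add_neg,
      sub_eq_zero]
    exact Finset.sum_congr rfl fun l _ => by rw [smul_eq_mul, hqg, mul_comm]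
  obtain ⟨k, a, z, hd, ha⟩ := Module.Flat.isTrivialRelation_of_sum_smul_eq_zero hz
  refine ⟨k, fun i u => if hi : i ∈ T then a (Sum.inl ⟨i, hi⟩) u else 0, z, fun i hi => ?_, fun u => ?_⟩
  · have := hd (Sum.inl ⟨i, hi⟩)
    simpa [hi, Algebra.smul_def] using this
  · have h2 := ha u
    rw [Fintype.sum_sum_type] at h2
    simp only [Sum.elim_inl, Sum.elim_inr] at h2
    rw [← Finset.sum_coe_sort T]
    have h3 : ∑ i : T, e i * a (Sum.inl i) u ∈ Q := by
      rw [eq_neg_of_add_eq_zero_left h2]
      exact Q.neg_mem (Q.sum_mem fun l _ => Q.mul_mem_right _ (Q.neg_mem (hq l)))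
    simpa using h3

variable {R : Type u} [CommRing R] (p : Ideal R) [p.IsPrime]

/-- The symbolic power. -/
def symb (n : ℕ) : Ideal R :=
  ((p ^ n).map (algebraMap R (Localization.AtPrime p))).comap (algebraMap R (Localization.AtPrime p))

lemma mem_symb {n : ℕ} {x : R} : x ∈ symb p n ↔ ∃ t, t ∉ p ∧ t * x ∈ p ^ n := by
  rw [symb, Ideal.mem_comap,
    IsLocalization.algebraMap_mem_map_algebraMap_iff p.primeCompl (Localization.AtPrime p)]
  simp [Ideal.mem_primeCompl_iff]

lemma pow_le_symb (n : ℕ) : p ^ n ≤ symb p n := Ideal.le_comap_map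

lemma sat {n : ℕ} {t x : R} (ht : t ∉ p) (h : t * x ∈ symb p n) : x ∈ symb p n := by
  obtain ⟨t', ht', h'⟩ := (mem_symb p).mp h
  exact (mem_symb p).mpr ⟨t' * t, fun hm => (Ideal.IsPrime.mem_or_mem ‹_› hm).elim ht' ht,
    by rwa [mul_assoc]⟩

lemma mul_symb {n : ℕ} {c x : R} (hc : c ∈ p) (hx : x ∈ symb p n) : c * x ∈ symb p (n + 1) := by
  obtain ⟨t, ht, h⟩ := (mem_symb p).mp hx
  refine (mem_symb p).mpr ⟨t, ht, ?_⟩
  rw [pow_succ', mul_left_comm]
  exact Ideal.mul_mem_mul hc h

lemma symb_succ_le (n : ℕ) : symb p (n + 1) ≤ symb p n :=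
  Ideal.comap_mono (Ideal.map_mono (Ideal.pow_le_pow_right (Nat.le_succ n)))

variable {S : Type u} [CommRing S] [Algebra R S] [Module.Flat R S]
  [(p.map (algebraMap R S)).IsPrime]

lemma main (n : ℕ) : ∀ {s y : S}, s ∉ p.map (algebraMap R S) →
    s * y ∈ (symb p n).map (algebraMap R S) → y ∈ (symb p n).map (algebraMap R S) := by
  classical
  induction n with
  | zero =>
    intro s y _ _
    have : symb p 0 = ⊤ := by simp [symb, Ideal.map_top]
    simp [this, Ideal.map_top]
  | succ n ih =>
    intro s y hs hy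
    have hy0 : y ∈ (symb p n).map (algebraMap R S) :=
      ih hs (Ideal.map_mono (symb_succ_le p n) hy)
    obtain ⟨m, b, g, hg⟩ := Submodule.mem_span_set'.mp hy0
    choose x hx hxg using fun l => (Set.mem_image _ _ _).mp (g l).2
    set Q := symb p (n + 1) with hQ
    let Ind : Finset (Fin m) → Prop := fun T => ∀ c : Fin m → R,
      ∑ k ∈ T, c k * x k ∈ Q → ∀ k ∈ T, c k ∈ p
    obtain ⟨T, hTm, hTmax⟩ := Finset.exists_max_image (Finset.univ.filter Ind) Finset.card
      ⟨∅, by simp [Ind]⟩
    have hT : Ind T := (Finset.mem_filter.mp hTm).2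
    let P : Fin m → R → Prop := fun j t => t ∉ p ∧ ∃ c : Fin m → R,
      t * x j - ∑ k ∈ T, c k * x k ∈ Q
    have hP : ∀ j, ∃ t, P j t := by
      intro j
      by_cases hj : j ∈ T
      · refine ⟨1, Ideal.IsPrime.one_notMem ‹_›, Pi.single j 1, ?_⟩
        rw [Finset.sum_eq_single_of_mem j hj (fun k _ hk => by simp [Pi.single_eq_of_ne hk])]
        simp
      · have hn : ¬ Ind (insert j T) := fun h => by
          have := hTmax (insert j T) (Finset.mem_filter.mpr ⟨Finset.mem_univ _, h⟩)
          rw [Finset.card_insert_of_notMem hj] at this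
          omega
        simp only [Ind, not_forall] at hn
        obtain ⟨c, hc, k, hk, hck⟩ := hn
        rw [Finset.sum_insert hj] at hc
        have hcj : c j ∉ p := fun h => by
          rcases Finset.mem_insert.mp hk with rfl | hk
          · exact hck h
          · exact hck (hT c (by simpa using Q.sub_mem hc (mul_symb p h (hx j))) k hk)
        refine ⟨c j, hcj, fun k => - c k, ?_⟩
        simpa [sub_neg_eq_add] using hc
    choose t ht c hc using hP
    have hmul : ∀ j, ∃ c' : Fin m → R, (∏ i, t i) * x j - ∑ k ∈ T, c' k * x k ∈ Q := fun j => by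
      refine ⟨fun k => (∏ i ∈ Finset.univ.erase j, t i) * c j k, ?_⟩
      have := Q.mul_mem_left (∏ i ∈ Finset.univ.erase j, t i) (hc j)
      rw [mul_sub, Finset.mul_sum] at this
      rw [← Finset.mul_prod_erase Finset.univ t (Finset.mem_univ j)]
      convert this using 2
      · ring
      · exact Finset.sum_congr rfl fun k _ => by ring
    choose c' hc' using hmul
    set t0 := ∏ i, t i with ht0
    have ht0p : t0 ∉ p := fun h => by
      obtain ⟨i, _, hi⟩ := Ideal.IsPrime.prod_mem_iff.mp h
      exact ht i hi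
    have hyx : y = ∑ l, b l * algebraMap R S (x l) := by
      rw [← hg]; exact Finset.sum_congr rfl fun l _ => by rw [smul_eq_mul, hxg]
    let d : Fin m → S := fun k => ∑ l, b l * algebraMap R S (c' l k)
    have h1 : algebraMap R S t0 * y - ∑ k ∈ T, algebraMap R S (x k) * d k ∈
        Q.map (algebraMap R S) := by
      have : ∑ l, b l * algebraMap R S (t0 * x l - ∑ k ∈ T, c' l k * x k) ∈
          Q.map (algebraMap R S) :=
        sum_mem fun l _ => Ideal.mul_mem_left _ _ (Ideal.mem_map_of_mem _ (hc' l))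
      convert this using 1
      simp only [d, hyx, map_sub, map_sum, map_mul, Finset.mul_sum, mul_sub, Finset.sum_sub_distrib]
      rw [Finset.sum_comm (s := T)]
      congr 1
      · exact Finset.sum_congr rfl fun l _ => by ring
      · exact Finset.sum_congr rfl fun l _ => Finset.sum_congr rfl fun k _ => by ring
    have h2 : ∑ k ∈ T, algebraMap R S (x k) * (s * d k) ∈ Q.map (algebraMap R S) := by
      have := (Q.map (algebraMap R S)).sub_mem (Ideal.mul_mem_left _ (algebraMap R S t0) hy)
        (Ideal.mul_mem_left _ s h1)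
      convert this using 1
      rw [mul_sub, Finset.mul_sum]
      have e : ∑ k ∈ T, algebraMap R S (x k) * (s * d k) = ∑ k ∈ T, s * (algebraMap R S (x k) * d k) :=
        Finset.sum_congr rfl fun k _ => by ring
      rw [e]; ring
    obtain ⟨k, a, z, hd, ha⟩ := rel T x (fun k => s * d k) Q h2
    have h3 : ∀ i ∈ T, d i ∈ p.map (algebraMap R S) := fun i hi => by
      refine (Ideal.IsPrime.mem_or_mem ‹_› (?_ : s * d i ∈ _)).resolve_left hs
      rw [hd i hi]
      exact sum_mem fun u _ => Ideal.mul_mem_right _ _ (Ideal.mem_map_of_mem _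
        (hT (fun i => a i u) (by simpa [mul_comm] using ha u) i hi))
    have h4 : algebraMap R S t0 * y ∈ Q.map (algebraMap R S) := by
      have : ∑ k ∈ T, algebraMap R S (x k) * d k ∈ Q.map (algebraMap R S) := by
        refine sum_mem fun k hk => ?_
        have hle : p * symb p n ≤ Q := Ideal.mul_le.mpr fun u hu v hv => mul_symb p hu hv
        apply Ideal.map_mono hle
        rw [Ideal.map_mul, mul_comm (algebraMap R S (x k))]
        exact Ideal.mul_mem_mul (h3 k hk) (Ideal.mem_map_of_mem _ (hx k))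
      simpa using (Q.map (algebraMap R S)).add_mem h1 this
    obtain ⟨k', a', z', hd', ha'⟩ := rel ({()} : Finset Unit) (fun _ => t0)
      (fun _ => y) Q (by simpa using h4)
    rw [hd' () (by simp)]
    refine sum_mem fun u _ => Ideal.mul_mem_right _ _ (Ideal.mem_map_of_mem _ ?_)
    exact sat p ht0p (by simpa using ha' u)



/-- Let `R → S` be flat and `𝔭` a prime of `R` whose extension `𝔮 = 𝔭S` is prime. Then for every `n` the
extension to `S` of the symbolic power `𝔭^{(n)}` (the contraction of `𝔭ⁿR_𝔭`) equals the symbolic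
power `𝔮^{(n)}`. -/
theorem result {R S : Type u} [CommRing R] [CommRing S] [Algebra R S] [Module.Flat R S]
    (p : Ideal R) [p.IsPrime] [(p.map (algebraMap R S)).IsPrime] (n : ℕ) :
    (((p ^ n).map (algebraMap R (Localization.AtPrime p))).comap (algebraMap R (Localization.AtPrime p))).map
        (algebraMap R S) =
      (((p.map (algebraMap R S)) ^ n).map (algebraMap S (Localization.AtPrime (p.map (algebraMap R S))))).comap
        (algebraMap S (Localization.AtPrime (p.map (algebraMap R S)))) := by
  show (symb p n).map (algebraMap R S) = symb (p.map (algebraMap R S)) n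
  apply le_antisymm
  · rw [Ideal.map_le_iff_le_comap]
    intro x hx
    obtain ⟨t, ht, h⟩ := (mem_symb p).mp hx
    rw [Ideal.mem_comap]
    refine (mem_symb _).mpr ⟨algebraMap R S t, fun hm => ?_, ?_⟩
    · have hq : (p.map (algebraMap R S)) ≠ ⊤ := Ideal.IsPrime.ne_top ‹_›
      obtain ⟨k, a, z, hd, ha⟩ := rel ({()} : Finset Unit) (fun _ => t)
        (fun _ => (1 : S)) p (by simpa using hm)
      apply hq
      rw [Ideal.eq_top_iff_one, hd () (by simp)]
      exact sum_mem fun u _ => Ideal.mul_mem_right _ _ (Ideal.mem_map_of_mem _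
        ((Ideal.IsPrime.mem_or_mem ‹_› (by simpa using ha u)).resolve_left ht))
    · rw [← map_mul, ← Ideal.map_pow]
      exact Ideal.mem_map_of_mem _ h
  · intro y hy
    obtain ⟨s, hs, h⟩ := (mem_symb (p.map (algebraMap R S))).mp hy
    refine main p n hs ?_
    rw [← Ideal.map_pow] at h
    exact Ideal.map_mono (pow_le_symb p n) h

end Groth.Agent.S2138
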