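import Groth.Statements.S2140
import Groth.Agent.Lib.FlatH4.GenFreeDom
import Mathlib

set_option autoImplicit false
universe u
open CAlg

namespace Groth.Agent.S2140

/-- Let `R → S` be an injective ring map of finite type between domains. Then there are nonzero `f ∈ R`
and `g ∈ S` such that `S_{fg}` is a finitely presented `R_f`-algebra. -/
theorem result {R S : Type u} [CommRing R] [IsDomain R] [CommRing S] [IsDomain S]
    [Algebra R S] [Algebra.FiniteType R S] (hinj : Function.Injective (algebraMap R S)) :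
    ∃ (f : R) (g : S), f ≠ 0 ∧ g ≠ 0 ∧
      ∀ (Rf Sfg : Type u) [CommRing Rf] [CommRing Sfg] [Algebra R Rf] [IsLocalization.Away f Rf]
        [Algebra S Sfg] [IsLocalization.Away (algebraMap R S f * g) Sfg] [Algebra Rf Sfg] [Algebra R Sfg]
        [IsScalarTower R S Sfg] [IsScalarTower R Rf Sfg], Algebra.FinitePresentation Rf Sfg := by
  classical
  obtain ⟨n, φ, hφ⟩ := Algebra.FiniteType.iff_quotient_mvPolynomial''.1 (inferInstance : Algebra.FiniteType R S)
  let _ : Algebra (MvPolynomial (Fin n) R) S := φ.toRingHom.toAlgebra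
  haveI : IsScalarTower R (MvPolynomial (Fin n) R) S := IsScalarTower.of_algebraMap_eq fun x => (φ.commutes x).symm
  let π : (Fin 1 → MvPolynomial (Fin n) R) →ₗ[MvPolynomial (Fin n) R] S :=
    (Algebra.linearMap (MvPolynomial (Fin n) R) S).comp (LinearMap.proj 0)
  have hπ : Function.Surjective π := fun y => by
    obtain ⟨x, rfl⟩ := hφ y
    exact ⟨fun _ => x, rfl⟩
  obtain ⟨f, hf, -, W, hW, hWker, hWk⟩ := Groth.Agent.FlatH4.exists_free_and_fg_kernel π hπ
  refine ⟨f, 1, hf, one_ne_zero, ?_⟩
  intro Rf Sfg _ _ _ _ _ _ _ _ _ _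
  let I : Ideal (MvPolynomial (Fin n) R) := W.map (LinearMap.proj 0)
  have hI : I.FG := hW.map _
  have hIker : ∀ x ∈ I, φ x = 0 := by
    rintro x ⟨w, hw, rfl⟩
    exact hWker hw
  have hkI : ∀ x, φ x = 0 → ∃ k : ℕ, algebraMap R _ f ^ k * x ∈ I := by
    intro x hx
    obtain ⟨k, hk⟩ := hWk (fun _ => x) hx
    refine ⟨k, ?_⟩
    rw [← map_pow, ← Algebra.smul_def]
    exact ⟨_, hk, rfl⟩
  haveI : Algebra.FinitePresentation R (MvPolynomial (Fin n) R ⧸ I) := Algebra.FinitePresentation.quotient hI
  let Q := MvPolynomial (Fin n) R ⧸ I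
  let ψ : Q →ₐ[R] S := Ideal.Quotient.liftₐ I φ hIker
  let g : Q →ₐ[R] Sfg := (IsScalarTower.toAlgHom R S Sfg).comp ψ
  haveI : IsLocalization.Away (algebraMap R S f) Sfg := by
    have h : IsLocalization.Away (algebraMap R S f * 1) Sfg := inferInstance
    rwa [mul_one] at h
  have hu : IsUnit (g (algebraMap R Q f)) := by
    rw [g.commutes, IsScalarTower.algebraMap_apply R S Sfg]
    exact IsLocalization.Away.algebraMap_isUnit _
  let T := Localization.Away (algebraMap R Q f)
  let G : T →ₐ[R] Sfg :=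
    { (IsLocalization.Away.lift (S := T) (algebraMap R Q f) (g := g.toRingHom) hu : T →+* Sfg) with
      commutes' := fun r => by
        rw [IsScalarTower.algebraMap_apply R Q T]
        exact (IsLocalization.Away.lift_eq (g := g.toRingHom) _ hu _).trans (g.commutes r) }
  have hG : ∀ x, G (algebraMap Q T x) = algebraMap S Sfg (ψ x) := fun x => IsLocalization.Away.lift_eq (g := g.toRingHom) _ hu x
  have hbij : Function.Bijective G := by
    constructor
    · rw [injective_iff_map_eq_zero]
      intro t ht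
      obtain ⟨q, ⟨_, k, rfl⟩, rfl⟩ := IsLocalization.exists_mk'_eq (Submonoid.powers (algebraMap R Q f)) t
      have h1 : algebraMap S Sfg (ψ q) = 0 := by
        rw [← hG, ← IsLocalization.mk'_spec T q (⟨_, k, rfl⟩ : Submonoid.powers (algebraMap R Q f)), map_mul, ht, zero_mul]
      obtain ⟨⟨_, j, rfl⟩, hj⟩ := (IsLocalization.map_eq_zero_iff (Submonoid.powers (algebraMap R S f)) Sfg _).1 h1
      obtain ⟨x, rfl⟩ := Ideal.Quotient.mk_surjective q
      have h2 : φ (algebraMap R _ f ^ j * x) = 0 := by
        rw [map_mul, map_pow, φ.commutes]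
        exact hj
      obtain ⟨i, hi⟩ := hkI _ h2
      refine (IsLocalization.mk'_eq_zero_iff _ _).2 ⟨⟨_, i + j, rfl⟩, ?_⟩
      show algebraMap R Q f ^ (i + j) * Ideal.Quotient.mk I x = 0
      rw [IsScalarTower.algebraMap_apply R (MvPolynomial (Fin n) R) Q, Ideal.Quotient.algebraMap_eq, ← map_pow,
        ← map_mul, Ideal.Quotient.eq_zero_iff_mem, pow_add, mul_assoc]
      exact hi
    · intro y
      obtain ⟨s, ⟨_, k, rfl⟩, rfl⟩ := IsLocalization.exists_mk'_eq (Submonoid.powers (algebraMap R S f)) y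
      obtain ⟨x, rfl⟩ := hφ s
      refine ⟨IsLocalization.mk' T (Ideal.Quotient.mk I x) (⟨algebraMap R Q f ^ k, k, rfl⟩ : Submonoid.powers (algebraMap R Q f)), ?_⟩
      rw [IsLocalization.eq_mk'_iff_mul_eq]
      have e : algebraMap S Sfg (algebraMap R S f ^ k) = G (algebraMap Q T (algebraMap R Q f ^ k)) := by
        rw [hG, map_pow ψ, ψ.commutes]
      show G _ * algebraMap S Sfg (algebraMap R S f ^ k) = _
      rw [e, ← map_mul, IsLocalization.mk'_spec, hG]
      rfl
  haveI : Algebra.FinitePresentation Q T := IsLocalization.Away.finitePresentation (algebraMap R Q f)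
  haveI : Algebra.FinitePresentation R T := Algebra.FinitePresentation.trans R Q T
  haveI : Algebra.FinitePresentation R Sfg := Algebra.FinitePresentation.equiv (AlgEquiv.ofBijective G hbij)
  haveI : Algebra.FiniteType R Rf := IsLocalization.finiteType_of_monoid_fg (Submonoid.powers f) Rf
  exact Algebra.FinitePresentation.of_restrict_scalars_finitePresentation R Rf Sfg

end Groth.Agent.S2140
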