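import Groth.Statements.S2142
import Groth.Agent.Lib.DimF18.Affine

set_option autoImplicit false
universe u
open CAlg

open CategoryTheory AlgebraicGeometry

namespace Groth.Agent.S2142

open TensorProduct in
/-- Let `S` be of finite type over a field `k`, `K/k` a field extension, `𝔮` a prime of `S` and `𝔮_K` a
prime of `K ⊗_k S` lying over `𝔮`. Then the local dimension of `Spec (K ⊗_k S)` at `𝔮_K` equals the
local dimension of `Spec S` at `𝔮`. -/
theorem result {k S K : Type u} [Field k] [CommRing S] [Algebra k S] [Algebra.FiniteType k S] [Field K]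
    [Algebra k K] (q : Ideal S) [q.IsPrime] (qK : Ideal (K ⊗[k] S)) [qK.IsPrime]
    (hq : qK.comap (Algebra.TensorProduct.includeRight.toRingHom : S →+* K ⊗[k] S) = q) :
    FlatMor.localDim (PrimeSpectrum (K ⊗[k] S)) ⟨qK, inferInstance⟩ = FlatMor.localDim (PrimeSpectrum S) ⟨q, inferInstance⟩ := by
  set f := DimF18.specTo k S
  set f' := Spec.map (CommRingCat.ofHom (algebraMap K (K ⊗[k] S)))
  haveI : LocallyOfFiniteType f' := inferInstanceAs (LocallyOfFiniteType (DimF18.specTo K (K ⊗[k] S)))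
  let pr := Spec.map (CommRingCat.ofHom (Algebra.TensorProduct.includeRight.toRingHom : S →+* K ⊗[k] S))
  have sq : IsPullback pr f' f (Spec.map (CommRingCat.ofHom (algebraMap k K))) :=
    (AlgebraicGeometry.isPullback_SpecMap_of_isPushout _ _ _ _ (CommRingCat.isPushout_tensorProduct k K S)).flip
  set y : Spec (CommRingCat.of (K ⊗[k] S)) := ⟨qK, inferInstance⟩
  have hy : pr y = ⟨q, inferInstance⟩ := PrimeSpectrum.ext hq
  obtain ⟨ζ, hζy, hζmax, hζ, hζall⟩ := DimF18.exists_localDim_eq_sdim f' y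
  obtain ⟨ξ, hξx, hξmax, hξ, hξall⟩ := DimF18.exists_localDim_eq_sdim f (pr y)
  refine hζ.trans (Eq.trans ?_ (hy ▸ hξ).symm)
  refine congrArg Nat.cast (le_antisymm ?_ ?_)
  · exact (DimF18.sdim_bc sq ζ).1.trans (hξall _ (hζy.map pr.continuous))
  · haveI : Flat pr := MorphismProperty.of_isPullback sq.flip inferInstance
    obtain ⟨w, hwy, hwξ⟩ := DimF18.exists_lift_specializes pr hξx
    obtain ⟨m, hmw, -, hm⟩ := DimF18.exists_sdim_eq sq w
    rw [← hwξ, ← hm]
    exact hζall m (hmw.trans hwy)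

end Groth.Agent.S2142
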