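import Groth.Statements.S2143
import Groth.Agent.Lib.DimF18.Affine

set_option autoImplicit false
universe u
open CAlg

namespace Groth.Agent.S2143

/-- (1) = (3): let `S` be of finite type over a field `k` and `𝔭` a prime of `S`. The local dimension of
`Spec S` at `𝔭` is the infimum of `dim S_𝔪` over the maximal ideals `𝔪 ⊇ 𝔭`. -/
theorem result {k S : Type u} [Field k] [CommRing S] [Algebra k S] [Algebra.FiniteType k S]
    (p : Ideal S) [p.IsPrime] :
    FlatMor.localDim (PrimeSpectrum S) ⟨p, inferInstance⟩ =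
      ⨅ m : {m : Ideal S // m.IsMaximal ∧ p ≤ m}, ringKrullDim (Localization.AtPrime (hp := m.2.1.isPrime') m.1) := by
  have hm : ∀ m : {m : Ideal S // m.IsMaximal ∧ p ≤ m},
      FlatMor.localDim (PrimeSpectrum S) ⟨m.1, m.2.1.isPrime'⟩ =
        ringKrullDim (Localization.AtPrime (hp := m.2.1.isPrime') m.1) := fun m => by
    haveI := m.2.1
    refine (DimF18.localDim_spec k S ⟨m.1, m.2.1.isPrime'⟩).trans ?_
    have h0 : ringKrullDim (S ⧸ m.1) = 0 := by
      letI := Ideal.Quotient.field m.1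
      exact ringKrullDim_eq_zero_of_field _
    rw [VarDim.ringKrullDim_eq_tdeg k (S ⧸ m.1)] at h0
    rw [show ((VarDim.tdeg k (S ⧸ m.1) : ℕ) : WithBot ℕ∞) = 0 from h0, add_zero]
  refine le_antisymm (le_iInf fun m => ?_) ?_
  · rw [← hm]
    refine le_iInf fun U => ?_
    exact iInf_le (fun V : {V : TopologicalSpace.Opens (PrimeSpectrum S) // (⟨p, inferInstance⟩ : PrimeSpectrum S) ∈ V} =>
      topologicalKrullDim (V.1 : Set (PrimeSpectrum S)))
      ⟨U.1, ((PrimeSpectrum.le_iff_specializes ⟨p, inferInstance⟩ ⟨m.1, m.2.1.isPrime'⟩).1 m.2.2).mem_open U.1.2 U.2⟩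
  · refine le_iInf fun U => ?_
    obtain ⟨_, ⟨g, rfl⟩, hg, hgU⟩ := PrimeSpectrum.isTopologicalBasis_basic_opens.exists_subset_of_mem_open U.2 U.1.2
    haveI : IsJacobsonRing S := isJacobsonRing_of_finiteType (A := k)
    have hj : p.jacobson = p := IsJacobsonRing.out ‹_› (Ideal.IsPrime.isRadical inferInstance)
    have hgp : g ∉ p.jacobson := fun h => hg (by rw [hj] at h; exact h)
    simp only [Ideal.jacobson, Submodule.mem_sInf, not_forall] at hgp
    obtain ⟨m, ⟨hpm, hmax⟩, hgm⟩ := hgp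
    refine iInf_le_of_le ⟨m, hmax, hpm⟩ ((hm _).ge.trans ?_)
    exact iInf_le (fun V : {V : TopologicalSpace.Opens (PrimeSpectrum S) // (⟨m, hmax.isPrime'⟩ : PrimeSpectrum S) ∈ V} =>
      topologicalKrullDim (V.1 : Set (PrimeSpectrum S))) ⟨U.1, hgU hgm⟩

end Groth.Agent.S2143
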