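import Groth.Statements.S2144
import Groth.Agent.Lib.FppfSource.Ring

set_option autoImplicit false
universe u
open CAlg

namespace Groth.Agent.S2144

open TensorProduct in
/-- Let `R → A → B` be ring maps with `A → B` faithfully flat and of finite presentation. Then there are
an `R`-algebra `A₀` of finite presentation mapping to `A` and a faithfully flat finitely presented
`A₀`-algebra `B₀` with `B ≅ A ⊗_{A₀} B₀` as `A`-algebras. -/
theorem result {R A B : Type u} [CommRing R] [CommRing A] [CommRing B] [Algebra R A]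
    [Algebra A B] [Algebra.FinitePresentation A B] [Module.FaithfullyFlat A B] :
    ∃ (A₀ B₀ : Type u) (_ : CommRing A₀) (_ : CommRing B₀) (_ : Algebra R A₀) (_ : Algebra A₀ A) (_ : IsScalarTower R A₀ A)
      (_ : Algebra A₀ B₀), Algebra.FinitePresentation R A₀ ∧ Algebra.FinitePresentation A₀ B₀ ∧ Module.FaithfullyFlat A₀ B₀ ∧
      Nonempty (B ≃ₐ[A] A ⊗[A₀] B₀) := by
  classical
  obtain ⟨B₀, C₀, _, _, hB₀, hC₀, hflat₀, ⟨e⟩⟩ :=
    Groth.Agent.FppfSource.exists_flat_model ℤ A B
  obtain ⟨I, hI⟩ := Groth.Agent.FppfSource.exists_ideal_range_comap B₀ C₀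
  have : Module.FaithfullyFlat A (A ⊗[B₀] C₀) :=
    Module.FaithfullyFlat.of_linearEquiv A B e.symm.toLinearEquiv
  have htop := Groth.Agent.FppfSource.map_eq_top_of_faithfullyFlat B₀ C₀ hI A
  obtain ⟨w, hw⟩ : ∃ w : ↥I →₀ A, w.sum (fun i b => b * (i.1 : A)) = 1 := by
    have h1 : (1 : A) ∈ Submodule.span A (Set.range fun i : ↥I => (i.1 : A)) := by
      have : (1 : A) ∈ I.map (algebraMap B₀ A) := htop ▸ Submodule.mem_top
      rw [Ideal.map, Ideal.span] at this
      convert this using 2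
      ext x
      simp [Subalgebra.algebraMap_eq]
    obtain ⟨w, hw⟩ := Finsupp.mem_span_range_iff_exists_finsupp.1 h1
    exact ⟨w, by simpa using hw⟩
  let gens : Finset A := w.support.image w
  let B₁ : Subalgebra ℤ A := B₀ ⊔ Algebra.adjoin ℤ (gens : Set A)
  have hB₁ : B₁.FG := hB₀.sup (Subalgebra.fg_adjoin_finset gens)
  have hle : B₀ ≤ B₁ := le_sup_left
  haveI : Algebra.FiniteType ℤ B₁ := B₁.fg_iff_finiteType.1 hB₁
  haveI : Algebra.FinitePresentation ℤ B₁ := Algebra.FinitePresentation.of_finiteType.1 ‹_›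
  let A₀ := R ⊗[ℤ] B₁
  let φ : A₀ →ₐ[R] A := Algebra.TensorProduct.lift (Algebra.ofId R A) B₁.val (fun _ _ => Commute.all _ _)
  let _ : Algebra A₀ A := φ.toRingHom.toAlgebra
  haveI : IsScalarTower R A₀ A := .of_algebraMap_eq fun r => (φ.commutes r).symm
  let ψ : B₁ →+* A₀ := (Algebra.TensorProduct.includeRight (R := ℤ) (A := R) (B := B₁)).toRingHom
  let _ : Algebra B₀ A₀ := (ψ.comp (Subalgebra.inclusion hle).toRingHom).toAlgebra
  haveI : IsScalarTower B₀ A₀ A := .of_algebraMap_eq fun b => by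
    change (b : A) = Algebra.TensorProduct.lift (Algebra.ofId R A) B₁.val (fun _ _ => Commute.all _ _) (1 ⊗ₜ Subalgebra.inclusion hle b)
    rw [Algebra.TensorProduct.lift_tmul, map_one, one_mul]
    rfl
  have htop₁ : I.map (algebraMap B₀ A₀) = ⊤ := by
    rw [Ideal.eq_top_iff_one]
    let w' : ↥I → B₁ := fun i => if h : i ∈ w.support then
      ⟨w i, le_sup_right (a := B₀) (Algebra.subset_adjoin (Finset.mem_coe.2
        (Finset.mem_image_of_mem w h)))⟩ else 0
    have : (1 : B₁) = ∑ i ∈ w.support, w' i * Subalgebra.inclusion hle i.1 := by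
      apply Subtype.ext
      rw [AddSubmonoidClass.coe_finsetSum, OneMemClass.coe_one, ← hw]
      refine Finset.sum_congr rfl fun i hi => ?_
      rw [MulMemClass.coe_mul]
      simp only [w', dif_pos hi]
      rfl
    have h1 : (1 : A₀) = ψ 1 := (map_one ψ).symm
    rw [h1, this, map_sum]
    refine Ideal.sum_mem _ fun i _ => ?_
    rw [map_mul]
    exact Ideal.mul_mem_left _ _ (Ideal.mem_map_of_mem (algebraMap B₀ A₀) i.2)
  have := Groth.Agent.FppfSource.faithfullyFlat_baseChange B₀ C₀ hI A₀ htop₁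
  exact ⟨A₀, A₀ ⊗[B₀] C₀, inferInstance, inferInstance, inferInstance, inferInstance, inferInstance,
    inferInstance, inferInstance, inferInstance, inferInstance,
    ⟨e.trans (Algebra.TensorProduct.cancelBaseChange B₀ A₀ A A C₀).symm⟩⟩

end Groth.Agent.S2144
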