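import Groth.Statements.S2145
import Mathlib

set_option autoImplicit false
universe u
open CAlg

namespace Groth.Agent.S2145

section
variable {R S : Type u} [CommRing R] [CommRing S] [Algebra R S]

lemma isUnit_of_dvd {T : Type u} [CommRing T] [Algebra S T] {g h : S} (hgh : g ∣ h)
    (hu : IsUnit (algebraMap S T h)) : IsUnit (algebraMap S T g) :=
  isUnit_of_dvd_unit ((algebraMap S T).map_dvd hgh) hu

variable (R) in
noncomputable abbrev can (g : S) : S →ₐ[R] Localization.Away g := IsScalarTower.toAlgHom R S _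

noncomputable def liftAway {T : Type u} [CommRing T] [Algebra R T] {g : S} (f : S →ₐ[R] T) (hu : IsUnit (f g)) :
    Localization.Away g →ₐ[R] T :=
  { IsLocalization.Away.lift g (g := f.toRingHom) hu with
    commutes' := fun r => by
      show IsLocalization.Away.lift g (g := f.toRingHom) hu (algebraMap R (Localization.Away g) r) = algebraMap R T r
      rw [IsScalarTower.algebraMap_apply R S (Localization.Away g), IsLocalization.Away.lift_eq]
      exact f.commutes r }

lemma liftAway_apply {T : Type u} [CommRing T] [Algebra R T] {g : S} (f : S →ₐ[R] T) (hu : IsUnit (f g)) (x : S) :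
    liftAway f hu (algebraMap S (Localization.Away g) x) = f x :=
  IsLocalization.Away.lift_eq g hu x

lemma ext_away {T : Type u} [CommRing T] [Algebra R T] {g : S} {f f' : Localization.Away g →ₐ[R] T}
    (h : f.comp (can R g) = f'.comp (can R g)) : f = f' :=
  IsLocalization.algHom_ext (Submonoid.powers g) (AlgHom.ext fun x => AlgHom.congr_fun h x)

noncomputable def mapAway {g h : S} (hgh : g ∣ h) : Localization.Away g →ₐ[R] Localization.Away h :=
  liftAway (can R h) (isUnit_of_dvd hgh (IsLocalization.Away.algebraMap_isUnit h))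

lemma mapAway_apply {g h : S} (hgh : g ∣ h) (x : S) :
    mapAway (R := R) hgh (algebraMap S (Localization.Away g) x) = algebraMap S (Localization.Away h) x :=
  liftAway_apply _ _ x

variable (q : Ideal S) [q.IsPrime]

noncomputable def toAt {g : S} (hg : g ∉ q) : Localization.Away g →ₐ[R] Localization.AtPrime q :=
  liftAway (IsScalarTower.toAlgHom R S (Localization.AtPrime q))
    (IsLocalization.map_units (Localization.AtPrime q) (⟨g, hg⟩ : q.primeCompl))

lemma toAt_apply {g : S} (hg : g ∉ q) (x : S) :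
    toAt (R := R) q hg (algebraMap S (Localization.Away g) x) = algebraMap S (Localization.AtPrime q) x :=
  liftAway_apply _ _ x

lemma toAt_map {g h : S} (hgh : g ∣ h) (hh : h ∉ q) (hg : g ∉ q) :
    (toAt (R := R) q hh).comp (mapAway hgh) = toAt q hg := by
  refine ext_away (AlgHom.ext fun x => ?_)
  simp [mapAway_apply, toAt_apply]

lemma exists_eq {A : Type u} [CommRing A] [Algebra R A] [Algebra.FiniteType R A] {g : S} (hg : g ∉ q)
    (φ φ' : A →ₐ[R] Localization.Away g)
    (he : (toAt q hg).comp φ = (toAt q hg).comp φ') :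
    ∃ h, ∃ hgh : g ∣ h, h ∉ q ∧ (mapAway hgh).comp φ = (mapAway hgh).comp φ' := by
  classical
  obtain ⟨s, hs⟩ := (inferInstance : Algebra.FiniteType R A).out
  have key : ∀ a : A, ∃ t : S, t ∉ q ∧ algebraMap S (Localization.Away g) t * (φ a - φ' a) = 0 := by
    intro a
    obtain ⟨n, x, hx⟩ := IsLocalization.Away.surj g (φ a - φ' a)
    have h0 : algebraMap S (Localization.AtPrime q) x = 0 := by
      rw [← toAt_apply (R := R) q hg, ← hx, map_mul, map_sub,
        show toAt q hg (φ a) = toAt q hg (φ' a) from AlgHom.congr_fun he a, sub_self, zero_mul]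
    obtain ⟨t, ht⟩ := (IsLocalization.map_eq_zero_iff q.primeCompl _ x).1 h0
    refine ⟨t, t.2, ?_⟩
    refine ((IsLocalization.Away.algebraMap_isUnit (S := Localization.Away g) g).pow n).mul_left_eq_zero.1 ?_
    rw [mul_assoc, hx, ← map_mul, ht, map_zero]
  choose t ht hta using key
  refine ⟨g * ∏ a ∈ s, t a, dvd_mul_right _ _, ?_, AlgHom.ext_of_adjoin_eq_top hs fun a ha => ?_⟩
  · refine fun h => ((Ideal.IsPrime.mem_or_mem ‹q.IsPrime› h).resolve_left hg) |> fun h => ?_
    obtain ⟨a, -, ha⟩ := (Ideal.IsPrime.prod_mem_iff (p := q)).1 h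
    exact ht a ha
  · have h0 := congrArg (mapAway (R := R) (dvd_mul_right g (∏ a ∈ s, t a))) (hta a)
    rw [map_mul, mapAway_apply, map_zero, map_sub] at h0
    have hu : IsUnit (algebraMap S (Localization.Away (g * ∏ a ∈ s, t a)) (t a)) :=
      isUnit_of_dvd ((Finset.dvd_prod_of_mem t ha).trans (dvd_mul_left _ g)) (IsLocalization.Away.algebraMap_isUnit (g * ∏ a ∈ s, t a))
    exact sub_eq_zero.1 (hu.mul_right_eq_zero.1 h0)

lemma exists_lift {A : Type u} [CommRing A] [Algebra R A] [Algebra.FinitePresentation R A]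
    (θ : A →ₐ[R] Localization.AtPrime q) :
    ∃ g, ∃ hg : g ∉ q, ∃ φ : A →ₐ[R] Localization.Away g, (toAt q hg).comp φ = θ := by
  classical
  let P := Algebra.Presentation.ofFinitePresentation R A
  choose a s hs using fun i => IsLocalization.exists_mk'_eq q.primeCompl (θ (P.val i))
  let g := ∏ i, (s i : S)
  have hg : g ∉ q := fun h => by
    obtain ⟨i, -, hi⟩ := (Ideal.IsPrime.prod_mem_iff (p := q)).1 h
    exact (s i).2 hi
  have hu : ∀ i, IsUnit (algebraMap S (Localization.Away g) (s i : S)) := fun i =>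
    isUnit_of_dvd (Finset.dvd_prod_of_mem (fun i => (s i : S)) (Finset.mem_univ i))
      (IsLocalization.Away.algebraMap_isUnit g)
  let v := fun i => algebraMap S (Localization.Away g) (a i) * ((hu i).unit⁻¹ : (Localization.Away g)ˣ)
  have hv : ∀ i, toAt (R := R) q hg (v i) = θ (P.val i) := by
    intro i
    refine (IsLocalization.map_units (Localization.AtPrime q) (s i)).mul_left_inj.1 ?_
    rw [← hs, IsLocalization.mk'_spec, ← toAt_apply (R := R) q hg (s i : S), ← map_mul, mul_assoc,
      IsUnit.val_inv_mul, mul_one, toAt_apply]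
  have hker : ∀ j, toAt (R := R) q hg (MvPolynomial.aeval v (P.relation j)) = 0 := by
    intro j
    rw [MvPolynomial.comp_aeval_apply]
    simp only [hv]
    rw [← MvPolynomial.comp_aeval_apply, P.aeval_val_relation, map_zero]
  have hker' : ∀ j, ∃ t : S, t ∉ q ∧ algebraMap S (Localization.Away g) t * MvPolynomial.aeval v (P.relation j) = 0 := by
    intro j
    obtain ⟨n, x, hx⟩ := IsLocalization.Away.surj g (MvPolynomial.aeval v (P.relation j))
    have h0 : algebraMap S (Localization.AtPrime q) x = 0 := by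
      rw [← toAt_apply (R := R) q hg, ← hx, map_mul, hker, zero_mul]
    obtain ⟨t, ht⟩ := (IsLocalization.map_eq_zero_iff q.primeCompl _ x).1 h0
    refine ⟨t, t.2, ?_⟩
    refine ((IsLocalization.Away.algebraMap_isUnit (S := Localization.Away g) g).pow n).mul_left_eq_zero.1 ?_
    rw [mul_assoc, hx, ← map_mul, ht, map_zero]
  choose t ht hta using hker'
  let h := g * ∏ j, t j
  have hh : h ∉ q := fun hm => by
    rcases Ideal.IsPrime.mem_or_mem ‹q.IsPrime› hm with hm | hm
    · exact hg hm
    · obtain ⟨j, -, hj⟩ := (Ideal.IsPrime.prod_mem_iff (p := q)).1 hm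
      exact ht j hj
  let w := fun i => mapAway (R := R) (dvd_mul_right g (∏ j, t j)) (v i)
  let f : P.Ring →ₐ[R] A := IsScalarTower.toAlgHom R P.Ring A
  have hle : RingHom.ker f ≤ RingHom.ker (MvPolynomial.aeval (R := R) w) := by
    rw [show RingHom.ker f = P.ker from rfl, ← P.span_range_relation_eq_ker, Ideal.span_le]
    rintro _ ⟨j, rfl⟩
    show MvPolynomial.aeval w (P.relation j) = 0
    have h0 := congrArg (mapAway (R := R) (dvd_mul_right g (∏ j, t j))) (hta j)
    rw [map_mul, mapAway_apply, map_zero, MvPolynomial.comp_aeval_apply] at h0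
    have hu : IsUnit (algebraMap S (Localization.Away (g * ∏ j, t j)) (t j)) :=
      isUnit_of_dvd ((Finset.dvd_prod_of_mem t (Finset.mem_univ j)).trans (dvd_mul_left _ g))
        (IsLocalization.Away.algebraMap_isUnit (g * ∏ j, t j))
    exact hu.mul_right_eq_zero.1 h0
  let φ := AlgHom.liftOfSurjective f P.algebraMap_surjective (MvPolynomial.aeval w) hle
  refine ⟨h, hh, φ, (AlgHom.cancel_right (f := f) P.algebraMap_surjective).1 (MvPolynomial.algHom_ext fun i => ?_)⟩
  have e : φ (f (MvPolynomial.X i)) = w i := by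
    rw [AlgHom.liftOfSurjective_apply, MvPolynomial.aeval_X]
  show toAt q hh (φ (f (MvPolynomial.X i))) = θ (f (MvPolynomial.X i))
  rw [e, ← AlgHom.comp_apply, toAt_map q _ hh hg, hv]
  simp [f]

lemma exists_unit {g : S} (z : Localization.Away g) :
    ∃ h, ∃ hgh : g ∣ h, IsUnit (mapAway (R := R) hgh z) ∧
      ∀ (T : Type u) [CommRing T] [Algebra R T] (f : Localization.Away g →ₐ[R] T), IsUnit (f z) →
        IsUnit (f (algebraMap S (Localization.Away g) h)) := by
  obtain ⟨n, x, hx⟩ := IsLocalization.Away.surj g z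
  refine ⟨g * x, dvd_mul_right _ _, ?_, fun T _ _ f hf => ?_⟩
  · have h0 := congrArg (mapAway (R := R) (dvd_mul_right g x)) hx
    rw [map_mul, map_pow, mapAway_apply, mapAway_apply] at h0
    have hu : IsUnit (algebraMap S (Localization.Away (g * x)) x) :=
      isUnit_of_dvd (dvd_mul_left x g) (IsLocalization.Away.algebraMap_isUnit (g * x))
    exact isUnit_of_mul_isUnit_left (h0 ▸ hu)
  · rw [map_mul, map_mul, ← hx, map_mul, map_pow]
    exact ((IsLocalization.Away.algebraMap_isUnit g).map f).mul (hf.mul (((IsLocalization.Away.algebraMap_isUnit g).map f).pow n))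

end


/-- Let `S`, `S'` be finitely presented `R`-algebras and `𝔮 ⊆ S`, `𝔮' ⊆ S'` primes with `S_𝔮 ≅ S'_{𝔮'}`
as `R`-algebras. Then `S_g ≅ S'_{g'}` as `R`-algebras for some `g ∉ 𝔮`, `g' ∉ 𝔮'`. -/
theorem result {R S S' : Type u} [CommRing R] [CommRing S] [CommRing S'] [Algebra R S]
    [Algebra R S'] [Algebra.FinitePresentation R S] [Algebra.FinitePresentation R S'] (q : Ideal S) [q.IsPrime]
    (q' : Ideal S') [q'.IsPrime] (e : Localization.AtPrime q ≃ₐ[R] Localization.AtPrime q') :
    ∃ (g : S) (g' : S'), g ∉ q ∧ g' ∉ q' ∧ Nonempty (Localization.Away g ≃ₐ[R] Localization.Away g') := by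
  let θ := e.toAlgHom.comp (IsScalarTower.toAlgHom R S (Localization.AtPrime q))
  let θ' := e.symm.toAlgHom.comp (IsScalarTower.toAlgHom R S' (Localization.AtPrime q'))
  obtain ⟨g', hg', φ1, hφ1⟩ := exists_lift q' θ
  obtain ⟨g1, hg1, ψ0, hψ0⟩ := exists_lift q θ'
  obtain ⟨g2, hd12, hu2, huniv2⟩ := exists_unit (R := R) (ψ0 g')
  have hunitg' : IsUnit (toAt (R := R) q hg1 (ψ0 g')) := by
    rw [← AlgHom.comp_apply, hψ0]
    exact (IsLocalization.map_units (Localization.AtPrime q') (⟨g', hg'⟩ : q'.primeCompl)).map e.symm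
  have hg2 : g2 ∉ q := fun h => by
    have := huniv2 _ (toAt q hg1) hunitg'
    rw [toAt_apply] at this
    exact (IsLocalization.AtPrime.isUnit_to_map_iff (Localization.AtPrime q) q g2).1 this h
  let ψB := liftAway ((mapAway (R := R) hd12).comp ψ0) hu2
  have hψB : ∀ x, toAt (R := R) q hg2 (ψB x) = e.symm (toAt (R := R) q' hg' x) := by
    refine AlgHom.congr_fun (φ₁ := (toAt q hg2).comp ψB) (φ₂ := e.symm.toAlgHom.comp (toAt q' hg'))
      (ext_away (AlgHom.ext fun x => ?_))
    simp only [AlgHom.comp_apply, IsScalarTower.toAlgHom_apply, ψB, liftAway_apply, toAt_apply]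
    rw [← AlgHom.comp_apply, toAt_map q hd12 hg2 hg1, ← AlgHom.comp_apply, hψ0]
    rfl
  obtain ⟨g3, hd23, hg3, heq3⟩ := exists_eq q hg2 (ψB.comp φ1) (can R g2) (AlgHom.ext fun x => by
    simp only [AlgHom.comp_apply, IsScalarTower.toAlgHom_apply, toAt_apply, hψB]
    rw [← AlgHom.comp_apply, hφ1]
    exact e.symm_apply_apply _)
  let ψA := (mapAway (R := R) hd23).comp ψB
  have hψA : ∀ x, toAt (R := R) q hg3 (ψA x) = e.symm (toAt (R := R) q' hg' x) := fun x => by
    rw [← hψB, ← toAt_map q hd23 hg3 hg2]; rfl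
  have hAS : ∀ x, ψA (φ1 x) = algebraMap S _ x := fun x =>
    (AlgHom.congr_fun heq3 x).trans (mapAway_apply hd23 x)
  obtain ⟨g'', hd', hu'', huniv''⟩ := exists_unit (R := R) (φ1 g3)
  have hunit3 : IsUnit (toAt (R := R) q' hg' (φ1 g3)) := by
    rw [← AlgHom.comp_apply, hφ1]
    exact (IsLocalization.map_units (Localization.AtPrime q) (⟨g3, hg3⟩ : q.primeCompl)).map e
  have hg'' : g'' ∉ q' := fun h => by
    have := huniv'' _ (toAt q' hg') hunit3
    rw [toAt_apply] at this
    exact (IsLocalization.AtPrime.isUnit_to_map_iff (Localization.AtPrime q') q' g'').1 this h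
  let φ2 := liftAway ((mapAway (R := R) hd').comp φ1) hu''
  let ψ2 := liftAway (ψA.comp (can R g')) (huniv'' _ ψA (by
    rw [hAS]; exact IsLocalization.Away.algebraMap_isUnit g3))
  have hψA2 : ∀ x, ψ2 (mapAway (R := R) hd' x) = ψA x := by
    refine AlgHom.congr_fun (φ₁ := ψ2.comp (mapAway (R := R) hd')) (φ₂ := ψA) (ext_away (AlgHom.ext fun x => ?_))
    simp [ψ2, mapAway_apply, liftAway_apply]
  have hφ2 : ∀ x, toAt (R := R) q' hg'' (φ2 x) = e (toAt (R := R) q hg3 x) := by
    refine AlgHom.congr_fun (φ₁ := (toAt q' hg'').comp φ2) (φ₂ := e.toAlgHom.comp (toAt q hg3))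
      (ext_away (AlgHom.ext fun x => ?_))
    simp only [AlgHom.comp_apply, IsScalarTower.toAlgHom_apply, φ2, liftAway_apply, toAt_apply]
    rw [← AlgHom.comp_apply, toAt_map q' hd' hg'' hg', ← AlgHom.comp_apply, hφ1]
    rfl
  obtain ⟨h4, hd4, hh4, heq4⟩ := exists_eq q' hg'' ((φ2.comp ψ2).comp (can R g'')) (can R g'')
    (AlgHom.ext fun x => by
      simp only [AlgHom.comp_apply, IsScalarTower.toAlgHom_apply, toAt_apply, hφ2, ψ2, liftAway_apply, hψA]
      exact e.apply_symm_apply _)
  obtain ⟨g5, hd5, hu5, huniv5⟩ := exists_unit (R := R) (ψ2 (algebraMap S' _ h4))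
  let f2 := (mapAway (R := R) hd4).comp φ2
  have hf2 : IsUnit (f2 (algebraMap S _ g5)) := by
    refine huniv5 _ f2 ?_
    rw [show f2 (ψ2 (algebraMap S' _ h4)) = algebraMap S' (Localization.Away h4) h4 from
      (AlgHom.congr_fun heq4 h4).trans (mapAway_apply hd4 h4)]
    exact IsLocalization.Away.algebraMap_isUnit h4
  have hg5 : g5 ∉ q := fun h => by
    have h1 : IsUnit (toAt (R := R) q hg3 (ψ2 (algebraMap S' (Localization.Away g'') h4))) := by
      simp only [ψ2, liftAway_apply, AlgHom.comp_apply, IsScalarTower.toAlgHom_apply, hψA, toAt_apply]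
      exact (IsLocalization.map_units (Localization.AtPrime q') (⟨h4, hh4⟩ : q'.primeCompl)).map e.symm
    have := huniv5 _ (toAt q hg3) h1
    rw [toAt_apply] at this
    exact (IsLocalization.AtPrime.isUnit_to_map_iff (Localization.AtPrime q) q g5).1 this h
  let φ3 := liftAway (f2.comp (can R g3)) hf2
  let ψ3 := liftAway (((mapAway (R := R) hd5).comp ψ2).comp (can R g'')) hu5
  have hψ3 : ∀ x, ψ3 (mapAway (R := R) hd4 x) = mapAway (R := R) hd5 (ψ2 x) := by
    refine AlgHom.congr_fun (φ₁ := ψ3.comp (mapAway (R := R) hd4)) (φ₂ := (mapAway (R := R) hd5).comp ψ2) (ext_away (AlgHom.ext fun x => ?_))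
    simp [ψ3, mapAway_apply, liftAway_apply]
  refine ⟨g5, h4, hg5, hh4, ⟨AlgEquiv.ofAlgHom φ3 ψ3 (ext_away (AlgHom.ext fun x => ?_)) (ext_away (AlgHom.ext fun x => ?_))⟩⟩
  · simp only [AlgHom.comp_apply, IsScalarTower.toAlgHom_apply, ψ3, liftAway_apply, AlgHom.id_apply]
    have hfg : ∀ y, φ3 (mapAway (R := R) hd5 y) = f2 y := by
      refine AlgHom.congr_fun (φ₁ := φ3.comp (mapAway (R := R) hd5)) (φ₂ := f2) (ext_away (AlgHom.ext fun y => ?_))
      simp [φ3, mapAway_apply, liftAway_apply]
    rw [hfg]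
    exact (AlgHom.congr_fun heq4 x).trans (mapAway_apply hd4 x)
  · simp only [AlgHom.comp_apply, IsScalarTower.toAlgHom_apply, φ3, liftAway_apply, AlgHom.id_apply, f2, φ2, hψ3,
      hψA2, hAS, mapAway_apply]

end Groth.Agent.S2145
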