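import Groth.Statements.S2146
import Groth.Agent.S2145

set_option autoImplicit false
universe u
open CAlg

namespace Groth.Agent.S2146

/-- Let `S` be a finitely presented `R`-algebra and `𝔮` a prime of `S` over `𝔭` such that the induced
map `R_𝔭 → S_𝔮` is bijective. Then for some `f ∉ 𝔭` there is an `R_f`-algebra `C` with `S_f ≅ R_f ×
C` as `R_f`-algebras. -/
theorem result {R S : Type u} [CommRing R] [CommRing S] [Algebra R S]
    [Algebra.FinitePresentation R S] (q : Ideal S) [q.IsPrime] (p : Ideal R) [p.IsPrime] [q.LiesOver p]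
    (h : Function.Bijective (Localization.localRingHom p q (algebraMap R S) (q.over_def p))) :
    ∃ f : R, f ∉ p ∧ ∀ (Rf Sf : Type u) [CommRing Rf] [CommRing Sf] [Algebra R Rf] [IsLocalization.Away f Rf]
      [Algebra S Sf] [IsLocalization.Away (algebraMap R S f) Sf] [Algebra Rf Sf] [Algebra R Sf] [IsScalarTower R S Sf]
      [IsScalarTower R Rf Sf],
      ∃ (C : Type u) (_ : CommRing C) (_ : Algebra Rf C), Nonempty (Sf ≃ₐ[Rf] (Rf × C)) := by
  classical
  let φ : Localization.AtPrime p →ₐ[R] Localization.AtPrime q :=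
    { Localization.localRingHom p q (algebraMap R S) (q.over_def p) with
      commutes' := fun r => by
        show Localization.localRingHom p q (algebraMap R S) (q.over_def p) _ = _
        rw [Localization.localRingHom_to_map, ← IsScalarTower.algebraMap_apply] }
  obtain ⟨g, g', hg, -, ⟨E⟩⟩ := Groth.Agent.S2145.result (R := R) (S := R) (S' := S) p q (AlgEquiv.ofBijective φ h)
  refine ⟨g, hg, fun Rf Sf => ?_⟩
  intros
  let E' : Localization.Away g ≃ₐ[R] Rf := (IsLocalization.algEquiv (Submonoid.powers g) _ Rf).restrictScalars R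
  let χ : S →ₐ[R] Rf := (E'.toAlgHom.comp E.symm.toAlgHom).comp (IsScalarTower.toAlgHom R S _)
  have hχg : IsUnit (χ g') :=
    (((IsLocalization.Away.algebraMap_isUnit g' : IsUnit (algebraMap S (Localization.Away g') g')).map E.symm).map E')
  have hχ0 : ∀ s, χ s = 0 → ∃ n, g' ^ n * s = 0 := by
    intro s hs
    have h0 : algebraMap S (Localization.Away g') s = 0 := E.symm.injective (E'.injective (by simpa [χ] using hs))
    obtain ⟨⟨_, n, rfl⟩, hn⟩ := (IsLocalization.map_eq_zero_iff (Submonoid.powers g') _ s).1 h0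
    exact ⟨n, hn⟩
  have hu : IsUnit (χ.toRingHom (algebraMap R S g)) := by
    show IsUnit (χ (algebraMap R S g))
    rw [χ.commutes]; exact IsLocalization.Away.algebraMap_isUnit g
  have hunitS : IsUnit (algebraMap R Sf g) := by
    rw [IsScalarTower.algebraMap_apply R S Sf]; exact IsLocalization.Away.algebraMap_isUnit _
  let σ0 : Sf →+* Rf := IsLocalization.Away.lift (algebraMap R S g) hu
  have hσS : ∀ s, σ0 (algebraMap S Sf s) = χ s := fun s => IsLocalization.Away.lift_eq _ hu s
  let σ : Sf →ₐ[Rf] Rf :=
    { σ0 with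
      commutes' := fun r => by
        have : σ0.comp (algebraMap Rf Sf) = RingHom.id Rf := IsLocalization.ringHom_ext (Submonoid.powers g)
          (RingHom.ext fun a => by
            simp only [RingHom.comp_apply, RingHom.id_apply]
            rw [← IsScalarTower.algebraMap_apply, IsScalarTower.algebraMap_apply R S Sf, hσS, χ.commutes])
        exact RingHom.congr_fun this r }
  have hσS' : ∀ s, σ (algebraMap S Sf s) = χ s := hσS
  obtain ⟨gens, hgens⟩ := (inferInstance : Algebra.FiniteType R S).out
  let G := algebraMap S Sf g'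
  have hgen : ∀ s : S, ∃ n, G ^ n * (algebraMap S Sf s - algebraMap Rf Sf (χ s)) = 0 := by
    intro s
    obtain ⟨k, a, ha⟩ := IsLocalization.Away.surj g (χ s)
    have h0 : χ (algebraMap R S g ^ k * s - algebraMap R S a) = 0 := by
      rw [map_sub, map_mul, map_pow, χ.commutes, χ.commutes, mul_comm, ha, sub_self]
    obtain ⟨n, hn⟩ := hχ0 _ h0
    refine ⟨n, (hunitS.pow k).mul_right_eq_zero.1 ?_⟩
    have e1 := congrArg (algebraMap S Sf) hn
    rw [map_mul, map_pow, map_sub, map_mul, map_pow, map_zero, ← IsScalarTower.algebraMap_apply,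
      ← IsScalarTower.algebraMap_apply] at e1
    have e2 : algebraMap Rf Sf (χ s) * algebraMap R Sf g ^ k = algebraMap R Sf a := by
      rw [IsScalarTower.algebraMap_apply R Rf Sf, IsScalarTower.algebraMap_apply R Rf Sf, ← map_pow, ← map_mul, ha]
    linear_combination e1 - G ^ n * e2
  choose n hn using hgen
  let N := gens.sup n
  let u := hχg.unit
  let e : Sf := algebraMap Rf Sf (↑(u ^ N)⁻¹) * G ^ N
  have hσe : σ e = 1 := by
    rw [map_mul, map_pow, σ.commutes, hσS']
    show (↑(u ^ N)⁻¹ : Rf) * (u : Rf) ^ N = 1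
    rw [← Units.val_pow_eq_pow_val, Units.inv_mul]
  have hann : ∀ x, e * (x - algebraMap Rf Sf (σ x)) = 0 := by
    let T : Subalgebra Rf Sf :=
      { carrier := {x | e * (x - algebraMap Rf Sf (σ x)) = 0}
        mul_mem' := fun {a b} ha hb => by
          simp only [Set.mem_setOf_eq, map_mul] at ha hb ⊢
          linear_combination a * hb + algebraMap Rf Sf (σ b) * ha
        one_mem' := by simp
        add_mem' := fun {a b} ha hb => by
          simp only [Set.mem_setOf_eq, map_add] at ha hb ⊢
          linear_combination ha + hb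
        zero_mem' := by simp
        algebraMap_mem' := fun r => by simp }
    have hS : ∀ s, algebraMap S Sf s ∈ T := by
      intro s
      have : s ∈ Algebra.adjoin R (gens : Set S) := hgens ▸ Algebra.mem_top
      induction this using Algebra.adjoin_induction with
      | mem s hs =>
        show e * (_ - algebraMap Rf Sf (σ _)) = 0
        rw [hσS']
        obtain ⟨j, hj⟩ := Nat.exists_eq_add_of_le (Finset.le_sup (f := n) hs)
        show algebraMap Rf Sf (↑(u ^ N)⁻¹) * G ^ N * _ = 0
        rw [show N = n s + j from hj, pow_add G, mul_assoc, mul_right_comm, hn, zero_mul, mul_zero]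
      | algebraMap r => rw [← IsScalarTower.algebraMap_apply, IsScalarTower.algebraMap_apply R Rf Sf]; exact T.algebraMap_mem _
      | add a b _ _ ha hb => rw [map_add]; exact T.add_mem ha hb
      | mul a b _ _ ha hb => rw [map_mul]; exact T.mul_mem ha hb
    intro x
    obtain ⟨k, s, hs⟩ := IsLocalization.Away.surj (algebraMap R S g) x
    have hgR : IsUnit (algebraMap R Rf g ^ k) := (IsLocalization.Away.algebraMap_isUnit g).pow k
    have hx : x = algebraMap Rf Sf ↑hgR.unit⁻¹ * algebraMap S Sf s := by
      have h1 : algebraMap S Sf (algebraMap R S g) ^ k = algebraMap Rf Sf (algebraMap R Rf g ^ k) := by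
        rw [map_pow, ← IsScalarTower.algebraMap_apply, ← IsScalarTower.algebraMap_apply]
      rw [← hs, h1, mul_left_comm, ← map_mul, IsUnit.val_inv_mul, map_one, mul_one]
    rw [hx]
    exact T.mul_mem (T.algebraMap_mem _) (hS s)
  have hee : e * e = e := by
    have h0 := hann e
    rw [hσe, map_one] at h0
    linear_combination h0
  let Ψ : Sf →ₐ[Rf] Rf × (Sf ⧸ Ideal.span {e}) := σ.prod (Ideal.Quotient.mkₐ Rf _)
  refine ⟨Sf ⧸ Ideal.span {e}, inferInstance, inferInstance, ⟨AlgEquiv.ofBijective Ψ ⟨?_, ?_⟩⟩⟩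
  · rw [injective_iff_map_eq_zero]
    intro x hx
    have h1 : σ x = 0 := congrArg Prod.fst hx
    obtain ⟨y, hy⟩ := Ideal.mem_span_singleton.1 (Ideal.Quotient.eq_zero_iff_mem.1 (congrArg Prod.snd hx))
    have h2 := hann x
    rw [h1, map_zero, sub_zero, hy, ← mul_assoc, hee, ← hy] at h2
    exact h2
  · rintro ⟨r, c⟩
    obtain ⟨y, rfl⟩ := Ideal.Quotient.mk_surjective c
    refine ⟨e * algebraMap Rf Sf r + (1 - e) * y, Prod.ext ?_ ?_⟩
    · show σ _ = r
      simp [hσe]
    · show Ideal.Quotient.mk _ _ = Ideal.Quotient.mk _ y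
      rw [Ideal.Quotient.eq, Ideal.mem_span_singleton]
      exact ⟨algebraMap Rf Sf r - y, by ring⟩

end Groth.Agent.S2146
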