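import Groth.Statements.S2149
import Mathlib.RingTheory.Localization.BaseChange
import Mathlib.RingTheory.LocalProperties.Exactness

set_option autoImplicit false
universe u
open CAlg

namespace Groth.Agent.S2149

open TensorProduct in
theorem map_eq {R S M M' : Type u} [CommRing R] [CommRing S] [Algebra R S]
    [AddCommGroup M] [Module S M] [Module R M] [IsScalarTower R S M] [AddCommGroup M'] [Module S M'] [Module R M']
    [IsScalarTower R S M'] (u : M →ₗ[S] M') (m : Ideal S) [m.IsPrime] (Q : Type u) [AddCommGroup Q] [Module R Q]
    (z : LocalizedModule m.primeCompl M ⊗[R] Q) :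
    IsLocalizedModule.map m.primeCompl (AlgebraTensorModule.rTensor R Q (LocalizedModule.mkLinearMap m.primeCompl M))
      (AlgebraTensorModule.rTensor R Q (LocalizedModule.mkLinearMap m.primeCompl M'))
      (AlgebraTensorModule.rTensor R Q u) z =
    ((LocalizedModule.map m.primeCompl u).restrictScalars R).rTensor Q z := by
  have : IsLocalizedModule.map m.primeCompl (AlgebraTensorModule.rTensor R Q (LocalizedModule.mkLinearMap m.primeCompl M))
      (AlgebraTensorModule.rTensor R Q (LocalizedModule.mkLinearMap m.primeCompl M'))
      (AlgebraTensorModule.rTensor R Q u) =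
      AlgebraTensorModule.rTensor R Q ((LocalizedModule.map m.primeCompl u).restrictScalars S) := by
    apply IsLocalizedModule.linearMap_ext m.primeCompl
      (AlgebraTensorModule.rTensor R Q (LocalizedModule.mkLinearMap m.primeCompl M))
      (AlgebraTensorModule.rTensor R Q (LocalizedModule.mkLinearMap m.primeCompl M'))
    rw [IsLocalizedModule.map_comp]
    ext a q
    simp [LocalizedModule.map_mk]
  rw [this]
  rfl



/-- Let `R → S` be a ring map and `u : M → M'` a map of `S`-modules. Then `u`, viewed as an `R`-linear
map, is universally injective exactly when, for every maximal ideal `𝔪` of `S`, the localized map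
`M_𝔪 → M'_𝔪` is also universally injective as an `R`-linear map. -/
theorem result {R S M M' : Type u} [CommRing R] [CommRing S] [Algebra R S]
    [AddCommGroup M] [Module S M] [Module R M] [IsScalarTower R S M] [AddCommGroup M'] [Module S M'] [Module R M']
    [IsScalarTower R S M'] (u : M →ₗ[S] M') :
    CAlgX.UniversallyInjective R (u.restrictScalars R) ↔
      ∀ (m : Ideal S) [m.IsMaximal],
        CAlgX.UniversallyInjective R ((LocalizedModule.map m.primeCompl u).restrictScalars R) := by
  constructor
  · intro h m _ Q _ _ a b hab
    refine IsLocalizedModule.map_injective m.primeCompl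
      (TensorProduct.AlgebraTensorModule.rTensor R Q (LocalizedModule.mkLinearMap m.primeCompl M))
      (TensorProduct.AlgebraTensorModule.rTensor R Q (LocalizedModule.mkLinearMap m.primeCompl M'))
      (TensorProduct.AlgebraTensorModule.rTensor R Q u) (h Q) ?_
    rw [map_eq, map_eq, hab]
  · intro h Q _ _
    refine injective_of_isLocalized_maximal
      (fun (P : Ideal S) (_ : P.IsMaximal) => TensorProduct R (LocalizedModule P.primeCompl M) Q)
      (fun (P : Ideal S) (_ : P.IsMaximal) => TensorProduct.AlgebraTensorModule.rTensor R Q (LocalizedModule.mkLinearMap P.primeCompl M))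
      (fun (P : Ideal S) (_ : P.IsMaximal) => TensorProduct R (LocalizedModule P.primeCompl M') Q)
      (fun (P : Ideal S) (_ : P.IsMaximal) => TensorProduct.AlgebraTensorModule.rTensor R Q (LocalizedModule.mkLinearMap P.primeCompl M'))
      (TensorProduct.AlgebraTensorModule.rTensor R Q u) fun P _ a b hab => h P Q ?_
    rw [← map_eq, ← map_eq]
    exact hab

end Groth.Agent.S2149
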