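import Groth.Statements.S2154
import Groth.Agent.Lib.LimH13.FiniteStage

set_option autoImplicit false
universe u
open CategoryTheory AlgebraicGeometry
open Lim

namespace Groth.Agent.S2154

set_option backward.isDefEq.respectTransparency false
set_option backward.isDefEq.respectTransparency.types false


/-- Let `S` be quasi-compact and quasi-separated and `X = lim X_i` a cofiltered limit of quasi-compact
quasi-separated `S`-schemes locally of finite type over `S`, with finite transition morphisms. If `X
→ S` is integral then `X_i → S` is finite for all `i` beyond some index. -/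
theorem result {I : Type u} [SmallCategory I] [IsCofiltered I] (S : Scheme.{u}) [CompactSpace S]
    [QuasiSeparatedSpace S] (D : I ⥤ Over S) (c : Limits.Cone D) (hc : Limits.IsLimit c)
    [∀ (i j : I) (f : i ⟶ j), IsFinite (D.map f).left] [∀ i, CompactSpace (D.obj i).left]
    [∀ i, QuasiSeparatedSpace (D.obj i).left] [∀ i, LocallyOfFiniteType (D.obj i).hom] [IsIntegralHom c.pt.hom] :
    ∃ i₀ : I, ∀ (i : I) (_ : i ⟶ i₀), IsFinite (D.obj i).hom := by

  haveI : IsConnected I := IsCofiltered.isConnected I
  let E := D ⋙ Over.forget S
  let t : E ⟶ (Functor.const I).obj S :=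
    { app := fun i => (D.obj i).hom
      naturality := fun i j a => by simp [E] }
  have hcE : Limits.IsLimit ((Over.forget S).mapCone c) := Limits.isLimitOfPreserves (Over.forget S) hc
  haveI : ∀ {i j} (a : i ⟶ j), IsFinite (E.map a) := fun {i j} a =>
    inferInstanceAs (IsFinite (D.map a).left)
  haveI : ∀ i, CompactSpace (E.obj i) := fun i => inferInstanceAs (CompactSpace (D.obj i).left)
  haveI : ∀ i, QuasiSeparatedSpace (E.obj i) := fun i => inferInstanceAs (QuasiSeparatedSpace (D.obj i).left)
  haveI : ∀ i, LocallyOfFiniteType (t.app i) := fun i => inferInstanceAs (LocallyOfFiniteType (D.obj i).hom)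
  obtain ⟨i₀⟩ := IsCofiltered.nonempty (C := I)
  haveI : IsIntegralHom (((Over.forget S).mapCone c).π.app i₀ ≫ t.app i₀) := by
    change IsIntegralHom ((c.π.app i₀).left ≫ (D.obj i₀).hom)
    rw [Over.w (c.π.app i₀)]
    assumption
  exact LimH13.exists_isFinite_structureMap (t := t) hcE i₀

end Groth.Agent.S2154
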