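import Groth.Statements.S2158
import Groth.Agent.S1478
import Groth.Agent.Lib.EtaleNhd17.Basic

set_option backward.isDefEq.respectTransparency.types false

set_option autoImplicit false
universe u
open CategoryTheory AlgebraicGeometry
open Mor

namespace Groth.Agent.S2158

open TopologicalSpace

theorem formallyUnramified_ι_comp_iff {X S : Scheme.{u}} (f : X ⟶ S) (U : X.Opens) (V : S.Opens) (e : U ≤ f ⁻¹ᵁ V)
    (hU : IsAffineOpen U) (hV : IsAffineOpen V) :
    FormallyUnramified (U.ι ≫ f) ↔ (f.appLE V U e).hom.FormallyUnramified := by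
  haveI : IsAffine U := hU
  haveI : IsAffine V := hV
  rw [← RingHom.FormallyUnramified.respectsIso.arrow_mk_iso_iff (arrowResLEAppIso f V U e),
    ← Scheme.Hom.resLE_comp_ι f e, ← HasRingHomProperty.iff_of_isAffine (P := @FormallyUnramified)]
  exact ⟨fun h => FormallyUnramified.of_comp (f.resLE V U e) V.ι,
    fun h => MorphismProperty.comp_mem @FormallyUnramified _ _ h inferInstance⟩

theorem subsingleton_stalk_of_nhd {X S : Scheme.{u}} (f : X ⟶ S) [QuasiSeparated f] (x : X) {V : X.Opens}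
    (hxV : x ∈ V) [FormallyUnramified (V.ι ≫ f)] : Subsingleton ((Omega.sheaf f).presheaf.stalk x) := by
  refine subsingleton_of_forall_eq 0 fun t => ?_
  obtain ⟨O, hxO, s, rfl⟩ := TopCat.Presheaf.exists_germ_eq (Omega.sheaf f).presheaf t
  obtain ⟨A, hA, hxA, -⟩ := exists_isAffineOpen_mem_and_subset (X := S) (x := f x) (U := ⊤) trivial
  obtain ⟨U, hU, hxU, hle⟩ := exists_isAffineOpen_mem_and_subset (X := X) (x := x) (U := O ⊓ V ⊓ f ⁻¹ᵁ A)
    ⟨⟨hxO, hxV⟩, hxA⟩
  have hUV : U ≤ V := fun y hy => (hle hy).1.2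
  have hUO : U ≤ O := fun y hy => (hle hy).1.1
  haveI : FormallyUnramified (U.ι ≫ f) := by
    rw [← X.homOfLE_ι (U := U) hUV, Category.assoc]
    exact MorphismProperty.comp_mem @FormallyUnramified _ _ inferInstance inferInstance
  have hsub := (Groth.Agent.S1478.kaehler_subsingleton_iff f ⟨U, hU⟩ ⟨A, hA⟩ (fun y hy => (hle hy).2)).1
    ((formallyUnramified_ι_comp_iff f U A (fun y hy => (hle hy).2) hU hA).1 ‹_›)
  rw [← (Omega.sheaf f).presheaf.germ_res_apply (homOfLE hUO) x hxU s,
    hsub.elim ((Omega.sheaf f).presheaf.map (homOfLE hUO).op s) 0, map_zero]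

theorem exists_nhd_of_subsingleton_stalk {X S : Scheme.{u}} (f : X ⟶ S) [LocallyOfFiniteType f] [QuasiSeparated f]
    (x : X) (hst : Subsingleton ((Omega.sheaf f).presheaf.stalk x)) :
    ∃ V : X.Opens, x ∈ V ∧ FormallyUnramified (V.ι ≫ f) := by
  obtain ⟨A, hA, hxA, -⟩ := exists_isAffineOpen_mem_and_subset (X := S) (x := f x) (U := ⊤) trivial
  obtain ⟨U, hU, hxU, hUA⟩ := exists_isAffineOpen_mem_and_subset (X := X) (x := x) (U := f ⁻¹ᵁ A) hxA
  have hft := f.finiteType_appLE hA hU hUA
  algebraize [(f.appLE A U hUA).hom]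
  obtain ⟨gens, hgens⟩ := (inferInstance : Algebra.FiniteType Γ(S, A) Γ(X, U)).out
  have key : ∀ b : Γ(X, U), ∃ (W : X.Opens) (_ : x ∈ W) (i : W ≤ U),
      (Omega.sheaf f).presheaf.map (homOfLE i).op (OmegaSh.dSect f U b) = 0 := fun b => by
    obtain ⟨W, hW, i₁, i₂, hi⟩ := (Omega.sheaf f).presheaf.germ_eq x hxU hxU (OmegaSh.dSect f U b) 0
      (hst.elim _ _)
    exact ⟨W, hW, i₁.le, by rw [map_zero] at hi; exact hi⟩
  choose W hxW hWU hW using key
  obtain ⟨r, hr, hxr⟩ : ∃ r : Γ(X, U), X.basicOpen r ≤ gens.inf W ∧ x ∈ X.basicOpen r := by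
    refine hU.exists_basicOpen_le ⟨x, ?_⟩ hxU
    show x ∈ ((gens.inf W : X.Opens) : Set X)
    rw [Opens.coe_finset_inf]
    simp only [Finset.inf_set_eq_iInter, Function.comp_apply, Set.mem_iInter]
    exact fun b _ => hxW b
  refine ⟨X.basicOpen r, hxr, ?_⟩
  set U' := X.basicOpen r with hU'def
  have hU'U : U' ≤ U := X.basicOpen_le r
  have hU' : IsAffineOpen U' := hU.basicOpen r
  let ρ : Γ(X, U) →+* Γ(X, U') := (X.presheaf.map (homOfLE hU'U).op).hom
  have hzero : ∀ b : Γ(X, U), OmegaSh.dSect f U' (ρ b) = 0 := fun b => by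
    have hb : b ∈ Algebra.adjoin Γ(S, A) (gens : Set Γ(X, U)) := hgens ▸ Algebra.mem_top
    induction hb using Algebra.adjoin_induction with
    | mem b hb =>
      have hle : U' ≤ W b := hr.trans (Finset.inf_le hb)
      refine (OmegaSh.dSect_map f hU'U b).trans ?_
      show (Omega.sheaf f).presheaf.map (homOfLE hU'U).op (OmegaSh.dSect f U b) = 0
      rw [show (homOfLE hU'U).op = (homOfLE (hWU b)).op ≫ (homOfLE hle).op from rfl, Functor.map_comp,
        ConcreteCategory.comp_apply, hW b, map_zero]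
    | algebraMap a =>
      have : ρ (algebraMap Γ(S, A) Γ(X, U) a) = f.appLE A U' (hU'U.trans hUA) a := by
        rw [← Scheme.Hom.appLE_map f hUA (homOfLE hU'U).op]
        rfl
      rw [this]
      exact OmAff.dSect_appLE f A U' _ a
    | add p q _ _ hp hq => rw [map_add, OmegaSh.dSect_add, hp, hq, add_zero]
    | mul p q _ _ hp hq => rw [map_mul, OmegaSh.dSect_mul, hp, hq, smul_zero, smul_zero, add_zero]
  letI : Algebra Γ(X, U) Γ(X, U') := ρ.toAlgebra
  haveI : IsLocalization.Away r Γ(X, U') := hU.isLocalization_basicOpen r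
  have hall : ∀ b' : Γ(X, U'), OmegaSh.dSect f U' b' = 0 := fun b' => by
    obtain ⟨n, b, hb⟩ := IsLocalization.Away.surj r b'
    have h1 : OmegaSh.dSect f U' (b' * ρ (r ^ n)) = 0 := by
      rw [map_pow]
      exact (congrArg (OmegaSh.dSect f U') hb).trans (hzero b)
    rw [OmegaSh.dSect_mul, hzero, smul_zero, zero_add] at h1
    have hu : IsUnit (ρ (r ^ n)) := by
      rw [map_pow]; exact (IsLocalization.Away.algebraMap_isUnit r).pow n
    obtain ⟨u, hu⟩ := hu
    rw [← one_smul Γ(X, U') (OmegaSh.dSect f U' b'), ← u.inv_mul, mul_smul, hu]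
    erw [h1]
    exact smul_zero _
  have hUA' : U' ≤ f ⁻¹ᵁ A := hU'U.trans hUA
  refine (formallyUnramified_ι_comp_iff f U' A hUA' hU' hA).2 ?_
  refine (Groth.Agent.S1478.kaehler_subsingleton_iff f ⟨U', hU'⟩ ⟨A, hA⟩ hUA').2 ?_
  letI : Algebra Γ(S, A) Γ(X, U') := (f.appLE A U' hUA').hom.toAlgebra
  obtain ⟨c⟩ := Groth.Agent.AffHom12.nonempty_chart f hU' hA hUA' rfl
  have hW' := Groth.Agent.AffHom12.isAffineOpen_WW f hU' hA hUA' rfl
  let L := (OmAff.toSect f A U' hUA').hom
  have hL : ∀ b, L (KaehlerDifferential.D Γ(S, A) Γ(X, U') b) = OmegaSh.dSect f U' b :=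
    fun b => OmAff.toSect_d f A U' hUA' b
  refine subsingleton_of_forall_eq 0 fun t => ?_
  obtain ⟨ω, rfl⟩ := Groth.Agent.AffHom12.surjective_L f hU' c hW' L hL t
  have hω : ω ∈ Submodule.span Γ(X, U') (Set.range (KaehlerDifferential.D Γ(S, A) Γ(X, U'))) :=
    (KaehlerDifferential.span_range_derivation Γ(S, A) Γ(X, U')) ▸ Submodule.mem_top
  induction hω using Submodule.span_induction with
  | mem w hw => obtain ⟨b, rfl⟩ := hw; exact (hL b).trans (hall b)
  | zero => exact map_zero L
  | add a b _ _ ha hb => rw [map_add, ha, hb, add_zero]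
  | smul a b _ hb => rw [map_smul, hb, smul_zero]

/-- Let `f : X → S` be locally of finite type and quasi-separated (so that the diagonal is quasi-compact
and the prelude's sheaf of differentials is the conormal sheaf of the diagonal near every point), `x
∈ X`, `s = f(x)`. Then the stalk `Ω_{X/S,x}` vanishes if and only if `𝔪_s O_{X,x} = 𝔪_x` and
`κ(x)/κ(s)` is a finite separable extension. -/
theorem result {X S : Scheme.{u}} (f : X ⟶ S) [LocallyOfFiniteType f] [QuasiSeparated f] (x : X) :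
    Subsingleton ((Omega.sheaf f).presheaf.stalk x) ↔
      ((IsLocalRing.maximalIdeal (S.presheaf.stalk (f.base x))).map (f.stalkMap x).hom =
          IsLocalRing.maximalIdeal (X.presheaf.stalk x) ∧
        (f.residueFieldMap x).hom.Finite ∧
        @Algebra.IsSeparable (S.residueField (f.base x)) (X.residueField x) _ _ (f.residueFieldMap x).hom.toAlgebra) := by
  letI := (f.residueFieldMap x).hom.toAlgebra
  constructor
  · intro h
    obtain ⟨V, hxV, hV⟩ := exists_nhd_of_subsingleton_stalk f x h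
    have hu := Groth.Agent.EtaleNhd17.formallyUnramified_stalkMap_of_nhd f x hxV
    obtain ⟨hsep, hmax⟩ := (Groth.Agent.EtaleNhd17.formallyUnramified_stalkMap_iff_map_eq f x).1 hu
    refine ⟨hmax, ?_, hsep⟩
    algebraize [(f.stalkMap x).hom]
    haveI : Algebra.EssFiniteType (S.presheaf.stalk (f x)) (X.presheaf.stalk x) :=
      LocallyOfFiniteType.stalkMap f x
    haveI : IsLocalHom (algebraMap (S.presheaf.stalk (f x)) (X.presheaf.stalk x)) :=
      inferInstanceAs <| IsLocalHom (f.stalkMap x).hom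
    haveI : Algebra.FormallyUnramified (S.presheaf.stalk (f x)) (X.presheaf.stalk x) := hu
    have hfin : Module.Finite (IsLocalRing.ResidueField (S.presheaf.stalk (f x)))
        (IsLocalRing.ResidueField (X.presheaf.stalk x)) := inferInstance
    show @Module.Finite (S.residueField (f x)) (X.residueField x) _ _ (f.residueFieldMap x).hom.toAlgebra.toModule
    convert! hfin
    refine Module.ext' _ _ fun a b => ?_
    obtain ⟨a, rfl⟩ := IsLocalRing.residue_surjective a
    obtain ⟨b, rfl⟩ := IsLocalRing.residue_surjective b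
    rfl
  · rintro ⟨hmax, -, hsep⟩
    obtain ⟨V, hxV, hV⟩ := Groth.Agent.EtaleNhd17.exists_formallyUnramified_of_stalk f x
      ((Groth.Agent.EtaleNhd17.formallyUnramified_stalkMap_iff_map_eq f x).2 ⟨hsep, hmax⟩)
    exact subsingleton_stalk_of_nhd f x hxV

end Groth.Agent.S2158
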