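import Groth.Statements.S2159
import Mathlib.Algebra.Module.Projective

set_option autoImplicit false
universe u
open CAlg

namespace Groth.Agent.S2159

/-- Given surjections `p₁ : P₁ → M` and `p₂ : P₂ → M` from projective modules, with kernels `K` and `L`,
there is an isomorphism `K ⊕ P₂ ≅ L ⊕ P₁`. -/
theorem result {R M P₁ P₂ : Type u} [CommRing R] [AddCommGroup M] [Module R M] [AddCommGroup P₁] [Module R P₁]
    [Module.Projective R P₁] [AddCommGroup P₂] [Module R P₂] [Module.Projective R P₂] (p₁ : P₁ →ₗ[R] M) (p₂ : P₂ →ₗ[R] M)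
    (h₁ : Function.Surjective p₁) (h₂ : Function.Surjective p₂) :
    Nonempty ((LinearMap.ker p₁ × P₂) ≃ₗ[R] (LinearMap.ker p₂ × P₁)) := by
  let Z : Submodule R (P₁ × P₂) := LinearMap.ker (p₁.comp (LinearMap.fst R P₁ P₂) - p₂.comp (LinearMap.snd R P₁ P₂))
  have hZ : ∀ z : P₁ × P₂, z ∈ Z ↔ p₁ z.1 = p₂ z.2 := fun z => by simp [Z, sub_eq_zero]
  obtain ⟨g, hg⟩ := Module.projective_lifting_property p₂ p₁ h₂
  obtain ⟨f, hf⟩ := Module.projective_lifting_property p₁ p₂ h₁
  replace hg : ∀ a, p₂ (g a) = p₁ a := LinearMap.congr_fun hg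
  replace hf : ∀ a, p₁ (f a) = p₂ a := LinearMap.congr_fun hf
  let e₁ : (LinearMap.ker p₁ × P₂) ≃ₗ[R] Z :=
    { toFun := fun x => ⟨((x.1 : P₁) + f x.2, x.2), (hZ _).2 (by simp [hf])⟩
      invFun := fun z => (⟨z.1.1 - f z.1.2, by simp [hf, (hZ _).1 z.2]⟩, z.1.2)
      map_add' := fun a b => by ext <;> simp; abel
      map_smul' := fun r a => by ext <;> simp
      left_inv := fun a => by ext <;> simp
      right_inv := fun a => by ext <;> simp }
  let e₂ : (LinearMap.ker p₂ × P₁) ≃ₗ[R] Z :=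
    { toFun := fun x => ⟨(x.2, (x.1 : P₂) + g x.2), (hZ _).2 (by simp [hg])⟩
      invFun := fun z => (⟨z.1.2 - g z.1.1, by simp [hg, (hZ _).1 z.2]⟩, z.1.1)
      map_add' := fun a b => by ext <;> simp; abel
      map_smul' := fun r a => by ext <;> simp
      left_inv := fun a => by ext <;> simp
      right_inv := fun a => by ext <;> simp }
  exact ⟨e₁.trans e₂.symm⟩

end Groth.Agent.S2159
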