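import Groth.Statements.S2160
import Groth.Agent.Lib.CAlgLow.JacobsonDom
import Mathlib.RingTheory.Spectrum.Prime.Topology

set_option autoImplicit false
universe u
open CAlg

namespace Groth.Agent.S2160

/-- Let `R` be a Noetherian local domain of Krull dimension at least `2`. Then every nonempty open
subset of `Spec R` is infinite. -/
theorem result {R : Type u} [CommRing R] [IsDomain R] [IsLocalRing R] [IsNoetherianRing R]
    (hdim : 2 ≤ ringKrullDim R) (U : Set (PrimeSpectrum R)) (hU : IsOpen U) (hne : U.Nonempty) : U.Infinite := by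
  intro hfin
  obtain ⟨x, hx⟩ := hne
  obtain ⟨_, ⟨f, rfl⟩, hxf, hfU⟩ :=
    PrimeSpectrum.isTopologicalBasis_basic_opens.exists_subset_of_mem_open hx hU
  classical
  let T : Finset (PrimeSpectrum R) := hfin.toFinset.filter fun q => q.asIdeal ≠ ⊥
  let J : Ideal R := Ideal.span {f} * ∏ q ∈ T, q.asIdeal
  have hf : f ≠ 0 := fun h => hxf (h ▸ x.asIdeal.zero_mem)
  have hJ : J ≠ ⊥ := mul_ne_zero (by simpa using hf)
    (Finset.prod_ne_zero_iff.2 fun q hq => (Finset.mem_filter.1 hq).2)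
  have hall : ∀ q : Ideal R, q.IsPrime → q ≠ ⊥ → J ≤ q := by
    intro q hq hq0
    by_cases hfq : f ∈ q
    · exact Ideal.mul_le_left.trans ((Ideal.span_singleton_le_iff_mem _).2 hfq)
    · refine Ideal.mul_le_right.trans (Ideal.prod_le_inf.trans (Finset.inf_le (f := fun q : PrimeSpectrum R => q.asIdeal) (b := ⟨q, hq⟩) ?_))
      exact Finset.mem_filter.2 ⟨hfin.mem_toFinset.2 (hfU (show (⟨q, hq⟩ : PrimeSpectrum R) ∈ PrimeSpectrum.basicOpen f from hfq)), hq0⟩
  obtain ⟨s, hs⟩ := (Order.le_krullDim_iff (n := 2)).1 hdim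
  let i₀ : Fin (s.length + 1) := ⟨0, by omega⟩
  let i₁ : Fin (s.length + 1) := ⟨1, by omega⟩
  let i₂ : Fin (s.length + 1) := ⟨2, by omega⟩
  have h01 : (s i₀).asIdeal < (s i₁).asIdeal := s.strictMono (show i₀ < i₁ from Nat.zero_lt_one)
  have h12 : (s i₁).asIdeal < (s i₂).asIdeal := s.strictMono (show i₁ < i₂ from Nat.one_lt_two)
  have h1 : (s i₁).asIdeal ≠ ⊥ := (bot_le.trans_lt h01).ne'
  have h2 : (s i₂).asIdeal ≠ ⊥ := (bot_le.trans_lt h12).ne'
  have m2 := Groth.Agent.CAlgLow.mem_minimalPrimes_of_le_all hJ hall h2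
  exact h12.not_ge (m2.2 ⟨inferInstance, hall _ inferInstance h1⟩ h12.le)

end Groth.Agent.S2160
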