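import Groth.Statements.S2161
import Mathlib

set_option autoImplicit false
universe u
open CAlg

namespace Groth.Agent.S2161


open Polynomial

theorem exists_monic_root {R S : Type u} [CommRing R] [CommRing S] [Algebra R S] {x : S}
    {n : ℕ} (hn : 0 < n) (P : R[X]) (hP : P.map (algebraMap R S) = (X - C x) ^ n) : IsIntegral R x := by
  rcases subsingleton_or_nontrivial S with hS | hS
  · exact ⟨1, monic_one, Subsingleton.elim _ _⟩
  have hl : P.map (algebraMap R S) ∈ Polynomial.lifts (algebraMap R S) :=
    ⟨P, rfl⟩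
  obtain ⟨Q, hQ, -, hQm⟩ := Polynomial.lifts_and_degree_eq_and_monic hl (by rw [hP]; exact (monic_X_sub_C x).pow n)
  refine ⟨Q, hQm, ?_⟩
  rw [← eval_map, hQ, hP]
  simp [hn.ne']


/-- Let R → S be a ring map whose kernel consists of nilpotent elements, and suppose S is generated as
an R-algebra by elements x for which some power (T − x)ⁿ, n > 0, is the image of a polynomial over
R. Then Spec S → Spec R is a homeomorphism, and for every prime 𝔮 of S over 𝔭 the extension
κ(𝔮)/κ(𝔭) is purely inseparable. -/
theorem result {R S : Type u} [CommRing R] [CommRing S] [Algebra R S]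
    (hker : ∀ r : R, algebraMap R S r = 0 → IsNilpotent r) (G : Set S) (hG : Algebra.adjoin R G = ⊤)
    (hpow : ∀ x ∈ G, ∃ (n : ℕ) (P : Polynomial R), 0 < n ∧
      Polynomial.map (algebraMap R S) P = (Polynomial.X - Polynomial.C x) ^ n) :
    IsHomeomorph (PrimeSpectrum.comap (algebraMap R S)) ∧
      ∀ (q : Ideal S) [q.IsPrime] (p : Ideal R) [p.IsPrime] [q.LiesOver p],
        @IsPurelyInseparable p.ResidueField q.ResidueField _ _
          (Ideal.ResidueField.mapₐ p q (Algebra.ofId R S) (q.over_def p)).toRingHom.toAlgebra := by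
  have hint : Algebra.IsIntegral R S := by
    refine ⟨fun s => ?_⟩
    have hs : s ∈ Algebra.adjoin R G := hG ▸ Algebra.mem_top
    have : Algebra.adjoin R G ≤ integralClosure R S := Algebra.adjoin_le fun x hx => by
      obtain ⟨n, P, hn, hP⟩ := hpow x hx
      exact exists_monic_root hn P hP
    exact this hs
  refine ⟨isHomeomorph_iff_continuous_isClosedMap_bijective.2 ⟨PrimeSpectrum.continuous_comap _,
    PrimeSpectrum.isClosedMap_comap_of_isIntegral _ (fun s => hint.isIntegral s), ?_, ?_⟩, ?_⟩
  · intro q q' hqq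
    let p := PrimeSpectrum.comap (algebraMap R S) q
    let Ω := AlgebraicClosure p.asIdeal.ResidueField
    have key : ∀ (Q : PrimeSpectrum S), PrimeSpectrum.comap (algebraMap R S) Q = p →
        ∃ ψ : S →ₐ[R] Ω, RingHom.ker ψ = Q.asIdeal := by
      intro Q hQ
      haveI : Q.asIdeal.LiesOver p.asIdeal := ⟨(congrArg PrimeSpectrum.asIdeal hQ).symm⟩
      letI := (Ideal.ResidueField.mapₐ p.asIdeal Q.asIdeal (Algebra.ofId R S) (Q.asIdeal.over_def p.asIdeal)).toRingHom.toAlgebra
      haveI : IsScalarTower R p.asIdeal.ResidueField Q.asIdeal.ResidueField :=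
        IsScalarTower.of_algebraMap_eq fun r => ((Ideal.ResidueField.mapₐ p.asIdeal Q.asIdeal (Algebra.ofId R S)
          (Q.asIdeal.over_def p.asIdeal)).commutes r).symm
      haveI : Algebra.IsAlgebraic p.asIdeal.ResidueField Q.asIdeal.ResidueField := by
        have h1 : ∀ s : S, IsAlgebraic p.asIdeal.ResidueField (algebraMap S Q.asIdeal.ResidueField s) := fun s =>
          ((hint.isIntegral s).map (IsScalarTower.toAlgHom R S Q.asIdeal.ResidueField)).tower_top.isAlgebraic
        refine ⟨fun z => ?_⟩
        obtain ⟨a, b, _, rfl⟩ := IsFractionRing.div_surjective (A := S ⧸ Q.asIdeal) z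
        obtain ⟨a, rfl⟩ := Ideal.Quotient.mk_surjective a
        obtain ⟨b, rfl⟩ := Ideal.Quotient.mk_surjective b
        rw [div_eq_mul_inv]
        exact (h1 a).mul (h1 b).inv
      let ι : Q.asIdeal.ResidueField →ₐ[p.asIdeal.ResidueField] Ω := IsAlgClosed.lift
      refine ⟨(ι.restrictScalars R).comp (IsScalarTower.toAlgHom R S Q.asIdeal.ResidueField), ?_⟩
      show RingHom.ker (ι.toRingHom.comp (algebraMap S Q.asIdeal.ResidueField)) = _
      rw [RingHom.ker_comp_of_injective _ ι.toRingHom.injective, Ideal.ker_algebraMap_residueField]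
    obtain ⟨ψ, hψ⟩ := key q rfl
    obtain ⟨ψ', hψ'⟩ := key q' hqq.symm
    have : ψ = ψ' := AlgHom.ext_of_adjoin_eq_top hG fun x hx => by
      obtain ⟨n, P, hn, hP⟩ := hpow x hx
      have h1 : ∀ φ : S →ₐ[R] Ω, P.map (algebraMap R Ω) = (X - C (φ x)) ^ n := fun φ => by
        have := congrArg (Polynomial.map φ.toRingHom) hP
        rwa [Polynomial.map_map, φ.toRingHom_eq_coe, φ.comp_algebraMap, Polynomial.map_pow, Polynomial.map_sub,
          map_X, map_C] at this
      have h2 := congrArg (Polynomial.eval (ψ x)) ((h1 ψ').symm.trans (h1 ψ))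
      simp [hn.ne', sub_eq_zero] at h2
      exact h2
    exact PrimeSpectrum.ext (by rw [← hψ, ← hψ', this])
  · intro p
    have hker' : RingHom.ker (algebraMap R S) ≤ p.asIdeal := fun r hr =>
      nilradical_le_prime p.asIdeal (mem_nilradical.2 (hker r hr))
    obtain ⟨Q, -, hQ1, hQ2⟩ := Ideal.exists_ideal_over_prime_of_isIntegral p.asIdeal (⊥ : Ideal S)
      (by rwa [← RingHom.ker_eq_comap_bot])
    exact ⟨⟨Q, hQ1⟩, PrimeSpectrum.ext hQ2⟩
  · intro q _ p _ _
    letI := (Ideal.ResidueField.mapₐ p q (Algebra.ofId R S) (q.over_def p)).toRingHom.toAlgebra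
    haveI : IsScalarTower R p.ResidueField q.ResidueField :=
      IsScalarTower.of_algebraMap_eq fun r =>
        ((Ideal.ResidueField.mapₐ p q (Algebra.ofId R S) (q.over_def p)).commutes r).symm
    rw [isPurelyInseparable_iff_perfectClosure_eq_top, eq_top_iff]
    have hG' : ∀ x ∈ G, algebraMap S q.ResidueField x ∈ perfectClosure p.ResidueField q.ResidueField := fun x hx => by
      obtain ⟨n, P, hn, hP⟩ := hpow x hx
      set y := algebraMap S q.ResidueField x
      let P' := P.map (algebraMap R p.ResidueField)
      have hP' : P'.map (algebraMap p.ResidueField q.ResidueField) = (X - C y) ^ n := by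
        have := congrArg (Polynomial.map (algebraMap S q.ResidueField)) hP
        rw [Polynomial.map_map, ← IsScalarTower.algebraMap_eq, Polynomial.map_pow, Polynomial.map_sub, map_X,
          map_C] at this
        rw [Polynomial.map_map, ← IsScalarTower.algebraMap_eq, this]
      have h0 : P' ≠ 0 := fun h => pow_ne_zero n (X_sub_C_ne_zero y) (by rw [← hP', h, Polynomial.map_zero])
      have hev : aeval y P' = 0 := by
        rw [aeval_def, ← eval_map, hP']; simp [hn.ne']
      have hyint : IsIntegral p.ResidueField y := IsAlgebraic.isIntegral ⟨P', h0, hev⟩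
      have hle := natSepDegree_le_of_dvd (minpoly p.ResidueField y) P' (minpoly.dvd _ _ hev) h0
      have hd := congrArg Polynomial.natSepDegree hP'
      rw [natSepDegree_map, natSepDegree_X_sub_C_pow, if_neg hn.ne'] at hd
      rw [hd] at hle
      rw [mem_perfectClosure_iff_natSepDegree_eq_one]
      exact le_antisymm hle (Nat.one_le_iff_ne_zero.2 (natSepDegree_ne_zero _ (minpoly.natDegree_pos hyint).ne'))
    have hS : ∀ s : S, algebraMap S q.ResidueField s ∈ perfectClosure p.ResidueField q.ResidueField := fun s => by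
      have hs : s ∈ Algebra.adjoin R G := hG ▸ Algebra.mem_top
      induction hs using Algebra.adjoin_induction with
      | mem x hx => exact hG' x hx
      | algebraMap r =>
        rw [← IsScalarTower.algebraMap_apply, IsScalarTower.algebraMap_apply R p.ResidueField]
        exact IntermediateField.algebraMap_mem _ _
      | add a b _ _ ha hb => rw [map_add]; exact add_mem ha hb
      | mul a b _ _ ha hb => rw [map_mul]; exact mul_mem ha hb
    intro z _
    obtain ⟨a, b, _, rfl⟩ := IsFractionRing.div_surjective (A := S ⧸ q) z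
    obtain ⟨a, rfl⟩ := Ideal.Quotient.mk_surjective a
    obtain ⟨b, rfl⟩ := Ideal.Quotient.mk_surjective b
    exact div_mem (hS a) (hS b)

end Groth.Agent.S2161
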