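import Groth.Statements.S2162
import Groth.Agent.Lib.Sep.Basic

set_option autoImplicit false
universe u
open CAlg

namespace Groth.Agent.S2162

/-- Let `R → S` be an injective ring map of finite type between domains, with fraction fields `K ⊆ L`.
Then `R → S` is smooth at the zero ideal of `S` if and only if `L` is geometrically reduced over `K`
(the published statement phrases the condition as `L/K` being separable; here separability is
expressed as geometric reducedness). -/
theorem result {R S K L : Type u} [CommRing R] [IsDomain R] [CommRing S]
    [IsDomain S] [Algebra R S] [FaithfulSMul R S] [Algebra.FiniteType R S] [Field K] [Field L] [Algebra R K] [IsFractionRing R K]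
    [Algebra S L] [IsFractionRing S L] [Algebra K L] [Algebra R L] [IsScalarTower R S L] [IsScalarTower R K L] :
    Algebra.IsSmoothAt R (⊥ : Ideal S) ↔ Algebra.IsGeometricallyReduced K L := by
  haveI : IsLocalization.AtPrime L (⊥ : Ideal S) := by
    have e : (⊥ : Ideal S).primeCompl = nonZeroDivisors S := by
      ext x
      exact (mem_nonZeroDivisors_iff_ne_zero (x := x)).symm
    show IsLocalization (⊥ : Ideal S).primeCompl L
    rw [e]
    infer_instance
  let e : Localization.AtPrime (⊥ : Ideal S) ≃ₐ[R] L :=
    ((IsLocalization.algEquiv (⊥ : Ideal S).primeCompl (Localization.AtPrime (⊥ : Ideal S)) L).restrictScalars R)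
  haveI : Algebra.FormallySmooth R K := Algebra.FormallySmooth.of_isLocalization (nonZeroDivisors R)
  haveI : Algebra.FormallyUnramified R K := Algebra.FormallyUnramified.of_isLocalization (nonZeroDivisors R)
  rw [← Groth.Agent.Sep.formallySmooth_iff_isGeometricallyReduced]
  refine ⟨fun h => ?_, fun h => ?_⟩
  · haveI : Algebra.FormallySmooth R (Localization.AtPrime (⊥ : Ideal S)) := h
    haveI : Algebra.FormallySmooth R L := Algebra.FormallySmooth.of_equiv e
    exact Algebra.FormallySmooth.of_restrictScalars R K L
  · haveI : Algebra.FormallySmooth R L := Algebra.FormallySmooth.comp R K L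
    exact Algebra.FormallySmooth.of_equiv e.symm

end Groth.Agent.S2162
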