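import Groth.Statements.S2165
import Groth.Agent.Lib.CI2.Complete
import Groth.Prelude

set_option autoImplicit false
universe u
open LCI

namespace Groth.Agent.S2165

/-- Let R be a regular ring, p a prime ideal of R and f_1, ..., f_r a regular sequence of R contained in
p. Then the local ring R_p/(f_1, ..., f_r) is a complete intersection: its completion is a regular
local ring modulo a regular sequence. The instance hypothesis that the quotient is local always
holds. -/
theorem result {R : Type u} [CommRing R] [IsRegularRing R]
    (p : Ideal R) [p.IsPrime] (rs : List R) (hmem : ∀ r ∈ rs, r ∈ p)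
    (hreg : RingTheory.Sequence.IsRegular R rs)
    [IsLocalRing (Localization.AtPrime p ⧸
      Ideal.map (algebraMap R (Localization.AtPrime p)) (Ideal.ofList rs))] :
    Pi1.IsCompleteIntersection (Localization.AtPrime p ⧸
      Ideal.map (algebraMap R (Localization.AtPrime p)) (Ideal.ofList rs)) := by
  have hI : Ideal.map (algebraMap R (Localization.AtPrime p)) (Ideal.ofList rs) ≠ ⊤ :=
    ne_top_of_le_ne_top (IsLocalRing.maximalIdeal.isMaximal _).ne_top (Ideal.map_le_iff_le_comap.mpr
      (Ideal.span_le.mpr fun r hr => (IsLocalization.AtPrime.to_map_mem_maximal_iff _ p r).mpr (hmem r hr)))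
  rw [Groth.Agent.CI2.isCompleteIntersection_quotient_iff _ hI]
  haveI : Module.Flat R (Localization.AtPrime p) := IsLocalization.flat _ p.primeCompl
  refine ⟨_, Groth.Agent.DepthLib.isRegular_of_isWeaklyRegular (I := IsLocalRing.maximalIdeal _)
    (RingTheory.Sequence.IsWeaklyRegular.of_flat hreg.toIsWeaklyRegular) ?_
    (by rw [smul_eq_mul, Ideal.mul_top]; exact (IsLocalRing.maximalIdeal.isMaximal _).ne_top),
    (Ideal.map_ofList _ rs).symm⟩
  intro x hx
  obtain ⟨r, hr, rfl⟩ := List.mem_map.mp hx
  exact (IsLocalization.AtPrime.to_map_mem_maximal_iff _ p r).mpr (hmem r hr)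

end Groth.Agent.S2165
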