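import Groth.Statements.S2167
import Groth.Agent.Lib.CI2.Regular
import Groth.Prelude

set_option autoImplicit false
universe u
open LCI

namespace Groth.Agent.S2167

/-- Equivalence of (2) and (3), special case with R already a regular local ring: for a regular local
ring R and a proper ideal I, the ideal I is generated by a regular sequence if and only if the
conormal module I/I^2 can be generated by (dim R - dim R/I) elements, the inequality below being the
additive form of that count. -/
theorem result {R : Type u} [CommRing R] [IsRegularLocalRing R]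
    (I : Ideal R) (hI : I ≠ ⊤) :
    (∃ rs : List R, Ideal.ofList rs = I ∧ RingTheory.Sequence.IsRegular R rs) ↔
      (((⊤ : Submodule (R ⧸ I) I.Cotangent).spanFinrank : WithBot ℕ∞) + ringKrullDim (R ⧸ I)
        ≤ ringKrullDim R) := by
  haveI : LocCoh.IsCohenMacaulayLocalRing R := Groth.Agent.DepthLib.isCohenMacaulayLocalRing_of_isRegularLocalRing
  rw [Groth.Agent.CI2.spanFinrank_cotangent I hI, ← Groth.Agent.CI2.isRegularIdeal_iff_spanFinrank I hI]
  exact ⟨fun ⟨rs, h1, h2⟩ => ⟨rs, h2, h1⟩, fun ⟨rs, h1, h2⟩ => ⟨rs, h2, h1⟩⟩

end Groth.Agent.S2167
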