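import Groth.Statements.S2170
import Groth.Agent.Lib.NumType.Quad

set_option autoImplicit false
open Finset
open Models

namespace Groth.Agent.S2170

/-- Let A be a symmetric real n × n matrix with non-negative off-diagonal entries and m a vector with
positive entries such that for every i, ∑_{j ≠ i} A_{ij} m_j ≤ −A_{ii} m_i. Then the kernel of A is
the span of the vectors equal to m on an index set I and zero off I, for those I such that A_{ij} =
0 whenever i ∈ I and j ∉ I and such that equality holds in the above inequality for every i ∈ I. The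
published statement omits the symmetry of A (without which it fails) and applies it only to
symmetric matrices; stated here with A symmetric. -/
theorem result {n : ℕ} (A : Matrix (Fin n) (Fin n) ℝ) (m : Fin n → ℝ)
    (hsymm : A.IsSymm) (hA : ∀ i j, i ≠ j → 0 ≤ A i j) (hm : ∀ i, 0 < m i)
    (hle : ∀ i, ∑ j ∈ univ.erase i, A i j * m j ≤ -(A i i * m i)) :
    LinearMap.ker (Matrix.mulVecLin A) = Submodule.span ℝ
      {x : Fin n → ℝ | ∃ I : Finset (Fin n), (∀ i ∈ I, ∀ j ∉ I, A i j = 0) ∧
        (∀ i ∈ I, ∑ j ∈ univ.erase i, A i j * m j = -(A i i * m i)) ∧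
        x = fun i => if i ∈ I then m i else 0} := by
  classical
  have hdiag : ∀ i, ∑ j ∈ univ.erase i, A i j * m j = A.mulVec m i - A i i * m i := fun i => by
    simp only [Matrix.mulVec, dotProduct]
    rw [← sum_erase_add _ _ (mem_univ i)]
    ring
  have hle' : ∀ i, A.mulVec m i ≤ 0 := fun i => by have := hle i; rw [hdiag] at this; linarith
  apply le_antisymm
  · intro x hx
    rw [LinearMap.mem_ker, Matrix.mulVecLin_apply] at hx
    obtain ⟨hc, hz⟩ := Groth.Agent.NumType.eq_smul_of_quad_nonneg hsymm hA hm hle' x (by simp [hx])
    let S : Finset ℝ := (univ.image fun i => x i / m i).erase 0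
    let v : ℝ → Fin n → ℝ := fun c i => if i ∈ univ.filter (fun i => x i / m i = c) then m i else 0
    have e : x = ∑ c ∈ S, c • v c := by
      funext i
      simp only [Finset.sum_apply, Pi.smul_apply, smul_eq_mul, v, mem_filter, mem_univ, true_and,
        mul_ite, mul_zero, sum_ite_eq]
      by_cases h : x i / m i = 0
      · rw [if_neg (by simp [S, h])]
        exact (div_eq_zero_iff.1 h).resolve_right (hm i).ne'
      · rw [if_pos (by simp [S, h])]
        exact (div_mul_cancel₀ _ (hm i).ne').symm
    rw [e]
    refine Submodule.sum_mem _ fun c hc' => Submodule.smul_mem _ _ (Submodule.subset_span ?_)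
    refine ⟨univ.filter (fun i => x i / m i = c), fun i hi j hj => ?_, fun i hi => ?_, rfl⟩
    · simp only [mem_filter, mem_univ, true_and] at hi hj
      by_contra hne
      exact hj ((hc i j hne (fun e => hj (e ▸ hi))).symm.trans hi)
    · simp only [mem_filter, mem_univ, true_and] at hi
      have hxi : x i ≠ 0 := fun h0 => (mem_erase.1 hc').1 (by simp [← hi, h0])
      rw [hdiag, hz i hxi]
      ring
  · rw [Submodule.span_le]
    rintro _ ⟨I, hI, hI', rfl⟩
    refine LinearMap.mem_ker.2 (funext fun i => ?_)
    simp only [Matrix.mulVecLin_apply, Matrix.mulVec, dotProduct, mul_ite, mul_zero, sum_ite_mem,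
      univ_inter, Pi.zero_apply]
    by_cases hi : i ∈ I
    · have h1 : ∑ j ∈ I, A i j * m j = ∑ j, A i j * m j :=
        sum_subset (subset_univ I) fun j _ hj => by rw [hI i hi j hj, zero_mul]
      rw [h1, ← sum_erase_add _ _ (mem_univ i), hI' i hi]
      ring
    · exact sum_eq_zero fun j hj => by rw [← hsymm.apply, hI j hj i hi, zero_mul]

end Groth.Agent.S2170
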