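import Groth.Statements.S2178
import Groth.Agent.Lib.NumType.Basic
import Mathlib.LinearAlgebra.FreeModule.PID
import Mathlib.LinearAlgebra.Dimension.RankNullity
import Mathlib.LinearAlgebra.Dimension.Free

set_option autoImplicit false
open Finset
open Models Models.NumericalType

namespace Groth.Agent.S2178

/-- The Picard group of a numerical type (the cokernel of the matrix (a i j / w i) acting on Z^n) has
free rank one: its rank as a Z-module is 1. -/
theorem result {n : ℕ} (T : Models.NumericalType n) : Module.finrank ℤ T.Pic = 1 := by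
  have hker : ∀ x : Fin n → ℤ, T.picMatrix.mulVec x = 0 ↔ T.a.mulVec x = 0 := by
    intro x
    have key : ∀ i, T.w i * T.picMatrix.mulVec x i = T.a.mulVec x i := fun i => by
      simp only [Matrix.mulVec, dotProduct, Models.NumericalType.picMatrix, Finset.mul_sum]
      exact Finset.sum_congr rfl fun j _ => by rw [← mul_assoc, Int.mul_ediv_cancel' (T.w_dvd i j)]
    constructor <;> intro h <;> funext i
    · rw [← key i, h]; simp
    · have := key i
      rw [h] at this
      exact (mul_eq_zero.1 this).resolve_left (T.w_pos i).ne'
  let i0 : Fin n := ⟨0, T.pos⟩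
  let f := Matrix.mulVecLin T.picMatrix
  have hm : T.m ∈ LinearMap.ker f := (hker _).2 T.mulVec_m
  have h1 : Module.finrank ℤ (LinearMap.ker f) = 1 := by
    have inj : Function.Injective ((LinearMap.proj i0 : (Fin n → ℤ) →ₗ[ℤ] ℤ).comp (LinearMap.ker f).subtype) := by
      refine (injective_iff_map_eq_zero _).2 fun x hx => ?_
      apply Subtype.ext
      funext i
      have e := (Groth.Agent.NumType.mulVec_eq_zero_iff T x.1).1 ((hker _).1 x.2) i i0
      have hx0 : x.1 i0 = 0 := hx
      rw [hx0, zero_mul] at e
      exact (mul_eq_zero.1 e).resolve_right (T.m_pos i0).ne'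
    have hle := LinearMap.finrank_le_finrank_of_injective inj
    rw [Module.finrank_self] at hle
    have hne : LinearMap.ker f ≠ ⊥ := fun h => by
      rw [h, Submodule.mem_bot] at hm
      exact (T.m_pos i0).ne' (congrFun hm i0)
    have : Module.finrank ℤ (LinearMap.ker f) ≠ 0 := fun h => hne (Submodule.finrank_eq_zero.1 h)
    omega
  have h2 := Submodule.finrank_quotient_add_finrank (R := ℤ) (LinearMap.range f)
  have h3 := Submodule.finrank_quotient_add_finrank (R := ℤ) (LinearMap.ker f)
  have h4 := (f.quotKerEquivRange).finrank_eq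
  rw [Module.finrank_fin_fun] at h2 h3
  change Module.finrank ℤ ((Fin n → ℤ) ⧸ LinearMap.range f) = 1
  omega

end Groth.Agent.S2178
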