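import Groth.Statements.S2179
import Groth.Agent.Lib.NumType.Basic

set_option autoImplicit false
open Finset
open Models Models.NumericalType

namespace Groth.Agent.S2179

/-- For a numerical type T, the map Z^n -> Z^n multiplying the i-th coordinate by w i induces a
well-defined injective homomorphism from Pic(T), the cokernel of (a i j / w i), to the cokernel of
the matrix a. -/
theorem result {n : ℕ} (T : Models.NumericalType n) :
    ∃ f : T.Pic →+ T.CokerA, Function.Injective f ∧
      ∀ x : Fin n → ℤ, f (Submodule.Quotient.mk x) = Submodule.Quotient.mk (fun i => T.w i * x i) := by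
  have key : ∀ x : Fin n → ℤ, (fun i => T.w i * T.picMatrix.mulVec x i) = T.a.mulVec x := by
    intro x
    funext i
    simp only [Matrix.mulVec, dotProduct, Models.NumericalType.picMatrix, Finset.mul_sum]
    exact Finset.sum_congr rfl fun j _ => by rw [← mul_assoc, Int.mul_ediv_cancel' (T.w_dvd i j)]
  let W : (Fin n → ℤ) →ₗ[ℤ] (Fin n → ℤ) :=
    { toFun := fun x i => T.w i * x i
      map_add' := fun x y => funext fun i => mul_add _ _ _
      map_smul' := fun c x => funext fun i => by simp [mul_left_comm] }
  have hW : LinearMap.range (Matrix.mulVecLin T.picMatrix) ≤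
      (LinearMap.range (Matrix.mulVecLin T.a)).comap W := by
    rintro _ ⟨x, rfl⟩
    exact ⟨x, (key x).symm⟩
  refine ⟨(Submodule.mapQ _ _ W hW).toAddMonoidHom, ?_, fun x => rfl⟩
  refine (injective_iff_map_eq_zero _).2 fun y hy => ?_
  induction y using Submodule.Quotient.induction_on with
  | H x =>
    obtain ⟨z, hz⟩ := (Submodule.Quotient.mk_eq_zero _).1 hy
    refine (Submodule.Quotient.mk_eq_zero _).2 ⟨z, funext fun i => ?_⟩
    have := congrFun ((key z).trans hz) i
    exact mul_left_cancel₀ (T.w_pos i).ne' this

end Groth.Agent.S2179
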