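import Groth.Statements.S2185
import Groth.Agent.Lib.NumType.Bound
import Groth.Agent.Lib.NumType.Pic
import Groth.Agent.Lib.NumType.Torsion
import Groth.Agent.S2179

set_option autoImplicit false
open Finset
open Models Models.NumericalType

namespace Groth.Agent.S2185

lemma finite_of_smul_eq_zero {M : Type} [AddCommGroup M] [Module.Finite ℤ M] (ℓ : ℕ) (hℓ : 0 < ℓ)
    (h : ∀ x : M, (ℓ : ℤ) • x = 0) : Finite M := by
  haveI : NeZero ℓ := ⟨hℓ.ne'⟩
  obtain ⟨k, F, hF⟩ := Module.Finite.exists_fin' ℤ M
  refine Finite.of_surjective (fun v : Fin k → ZMod ℓ => F fun i => ((v i).val : ℤ)) fun x => ?_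
  obtain ⟨z, rfl⟩ := hF x
  refine ⟨fun i => (z i : ZMod ℓ), ?_⟩
  have e : z = (fun i => (((z i : ℤ) : ZMod ℓ).val : ℤ)) + (ℓ : ℤ) • fun i => z i / (ℓ : ℤ) := funext fun i => by
    simp only [Pi.add_apply, Pi.smul_apply, smul_eq_mul, ZMod.val_intCast]
    exact (Int.emod_add_mul_ediv _ _).symm
  conv_rhs => rw [e, map_add, map_smul, h, add_zero]

/-- Let T be a numerical type of genus g at least 2 and l a prime bigger than 768 g. Then the l-torsion
subgroup of Pic(T) has at most l^g elements (F_l-dimension at most g); if T is minimal it has at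
most l^(g_top) elements where g_top is the topological genus, itself at most g. -/
theorem result {n : ℕ} (T : Models.NumericalType n) (hg : 2 ≤ T.genus) (ℓ : ℕ) (hℓ : ℓ.Prime)
    (hℓg : 768 * T.genus < ℓ) :
    Nat.card (Submodule.torsionBy ℤ T.Pic (ℓ : ℤ)) ≤ ℓ ^ T.genus.toNat ∧
      (T.IsMinimal → Nat.card (Submodule.torsionBy ℤ T.Pic (ℓ : ℤ)) ≤ ℓ ^ T.topGenus.toNat ∧
        T.topGenus ≤ T.genus) := by
  classical
  have key : ∀ {n : ℕ} (T : Models.NumericalType n), T.IsMinimal → 2 ≤ T.genus → 768 * T.genus < ℓ →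
      Nat.card (Submodule.torsionBy ℤ T.Pic (ℓ : ℤ)) ≤ ℓ ^ T.topGenus.toNat ∧ T.topGenus ≤ T.genus := by
    intro n T hmin hg hℓg
    have htg : T.topGenus ≤ T.genus := by
      rcases Nat.lt_or_ge 1 n with hn | hn
      · exact Groth.Agent.NumType.topGenus_le_genus T hmin hn
      · obtain rfl : n = 1 := by have := T.pos; omega
        have hE : T.edgeCount = 0 := Finset.card_eq_zero.2 (Finset.filter_eq_empty_iff.2 fun p _ h =>
          absurd (Subsingleton.elim p.1 p.2) h.1.ne)
        simp only [Models.NumericalType.topGenus, hE]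
        omega
    refine ⟨?_, htg⟩
    have hℓ0 : (0 : ℤ) < (ℓ : ℤ) := by exact_mod_cast hℓ.pos
    have hA : ∀ i j, T.a i j ≠ 0 → ¬ (ℓ : ℤ) ∣ T.a i j := fun i j h0 hd => by
      have h1 := Groth.Agent.NumType.mul_abs_le hmin hg i j
      have h2 := Int.le_of_dvd (abs_pos.2 h0) ((dvd_abs _ _).2 hd)
      nlinarith [T.m_pos i, abs_nonneg (T.a i j)]
    have hm : ∀ i, ¬ (ℓ : ℤ) ∣ T.m i ∨ n = 1 := fun i => by
      rcases Nat.lt_or_ge 1 n with hn | hn
      · left
        intro hd
        have h1 := Groth.Agent.NumType.mul_abs_le hmin hg i i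
        have h2 := Int.le_of_dvd (T.m_pos i) hd
        have h3 : 1 ≤ |T.a i i| := abs_pos.2 (Groth.Agent.NumType.diag_neg T hn i).ne
        nlinarith
      · right
        have := T.pos
        omega
    rcases Nat.lt_or_ge 1 n with hn | hn
    · have h := Groth.Agent.NumType.card_torsion_le T.a T.m T.symm T.offDiag_nonneg T.m_pos T.mulVec_m T.connected
        ℓ hℓ hA (fun i => (hm i).resolve_right (by omega))
      have e : T.topGenus.toNat = T.edgeCount + 1 - n := by
        unfold Models.NumericalType.topGenus; omega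
      rw [e]
      refine le_trans ?_ h
      obtain ⟨f, hf, -⟩ := Groth.Agent.S2179.result T
      let g : Submodule.torsionBy ℤ T.Pic (ℓ : ℤ) → Submodule.torsionBy ℤ T.CokerA (ℓ : ℤ) := fun t =>
        ⟨f t.1, by
          rw [Submodule.mem_torsionBy_iff, ← map_zsmul]
          rw [(Submodule.mem_torsionBy_iff _ _).1 t.2, map_zero]⟩
      have hg' : Function.Injective g := fun a b e => Subtype.ext (hf (congrArg Subtype.val e))
      have hfin : Finite (Submodule.torsionBy ℤ T.CokerA (ℓ : ℤ)) := by
        haveI : NeZero ℓ := ⟨hℓ.ne_zero⟩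
        let R : (Fin n → ZMod ℓ) → (Fin n → ℤ) := fun v i => ((v i).val : ℤ)
        have hsur : ∀ t : Submodule.torsionBy ℤ T.CokerA (ℓ : ℤ), ∃ v : Fin n → ZMod ℓ, ∃ z : Fin n → ℤ,
            T.a.mulVec (R v) + (ℓ : ℤ) • T.a.mulVec z =
              (ℓ : ℤ) • Classical.choose (Submodule.Quotient.mk_surjective _ t.1) := by
          intro t
          have hx := Classical.choose_spec (Submodule.Quotient.mk_surjective _ t.1)
          set x := Classical.choose (Submodule.Quotient.mk_surjective _ t.1)
          have h0 : (Submodule.Quotient.mk ((ℓ : ℤ) • x) : T.CokerA) = 0 := by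
            rw [Submodule.Quotient.mk_smul, hx]
            exact t.2
          obtain ⟨z, hz⟩ := (Submodule.Quotient.mk_eq_zero _).1 h0
          refine ⟨fun i => (z i : ZMod ℓ), fun i => z i / (ℓ : ℤ), ?_⟩
          rw [← Matrix.mulVec_smul, ← Matrix.mulVec_add]
          refine Eq.trans (congrArg T.a.mulVec (funext fun i => ?_)) hz
          simp only [R, Pi.add_apply, Pi.smul_apply, smul_eq_mul, ZMod.val_intCast]
          exact Int.emod_add_mul_ediv _ _
        choose V Z hV using hsur
        refine Finite.of_injective V fun t s hts => Subtype.ext ?_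
        rw [← Classical.choose_spec (Submodule.Quotient.mk_surjective _ t.1),
          ← Classical.choose_spec (Submodule.Quotient.mk_surjective _ s.1)]
        refine (Submodule.Quotient.eq _).2 ⟨Z t - Z s, ?_⟩
        have e := hV t
        rw [hts] at e
        have e' := hV s
        refine smul_right_injective (Fin n → ℤ) hℓ0.ne' ?_
        simp only [Matrix.mulVecLin_apply, Matrix.mulVec_sub, smul_sub]
        rw [← e, ← e']
        abel
      exact Nat.card_le_card_of_injective g hg'
    · obtain rfl : n = 1 := by have := T.pos; omega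
      have h0 : T.a 0 0 = 0 := by
        have h := Groth.Agent.NumType.row_sum T 0
        simp at h
        exact h.resolve_right (T.m_pos 0).ne'
      have : Subsingleton (Submodule.torsionBy ℤ T.Pic (ℓ : ℤ)) := by
        refine subsingleton_of_forall_eq 0 fun t => ?_
        obtain ⟨t, ht⟩ := t
        apply Subtype.ext
        induction t using Submodule.Quotient.induction_on with
        | H x =>
          have h1 : (Submodule.Quotient.mk ((ℓ : ℤ) • x) : T.Pic) = 0 := by
            rw [Submodule.Quotient.mk_smul]; exact ht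
          obtain ⟨z, hz⟩ := (Groth.Agent.NumType.picRange_iff T _).1 ((Submodule.Quotient.mk_eq_zero _).1 h1)
          refine (Submodule.Quotient.mk_eq_zero _).2 ((Groth.Agent.NumType.picRange_iff T _).2 ⟨0, fun i => ?_⟩)
          have := hz i
          rw [Fin.eq_zero i] at this ⊢
          simp [h0, (T.w_pos 0).ne', hℓ.ne_zero] at this
          simp [this]
      rw [Nat.card_of_subsingleton (⟨0, Submodule.zero_mem _⟩ : Submodule.torsionBy ℤ T.Pic (ℓ : ℤ))]
      exact Nat.one_le_pow _ _ hℓ.pos
  refine ⟨?_, fun hmin => key T hmin hg hℓg⟩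
  induction n with
  | zero => exact absurd T.pos (lt_irrefl 0)
  | succ k ih =>
    by_cases hmin : T.IsMinimal
    · obtain ⟨h1, h2⟩ := key T hmin hg hℓg
      exact h1.trans (Nat.pow_le_pow_right hℓ.pos (Int.toNat_le_toNat h2))
    · obtain ⟨T', f, hf, hg', -⟩ := Groth.Agent.NumType.exists_smaller T hmin
      have h := ih T' (hg' ▸ hg) (hg' ▸ hℓg)
      rw [hg'] at h
      refine le_trans ?_ h
      let g : Submodule.torsionBy ℤ T.Pic (ℓ : ℤ) → Submodule.torsionBy ℤ T'.Pic (ℓ : ℤ) := fun t =>
        ⟨f t.1, by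
          rw [Submodule.mem_torsionBy_iff, ← map_zsmul]
          rw [(Submodule.mem_torsionBy_iff _ _).1 t.2, map_zero]⟩
      have hpos : 0 < Nat.card (Submodule.torsionBy ℤ T'.Pic (ℓ : ℤ)) := by
        rcases Nat.eq_zero_or_pos (Nat.card (Submodule.torsionBy ℤ T'.Pic (ℓ : ℤ))) with h0 | h0
        · exfalso
          have hfin : Finite (Submodule.torsionBy ℤ T'.Pic (ℓ : ℤ)) :=
            finite_of_smul_eq_zero ℓ hℓ.pos fun x => Subtype.ext x.2
          exact absurd h0 (Nat.card_pos (α := Submodule.torsionBy ℤ T'.Pic (ℓ : ℤ))).ne'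
        · exact h0
      haveI := (Nat.card_pos_iff.1 hpos).2
      exact Nat.card_le_card_of_injective g fun a b e => Subtype.ext (hf (congrArg Subtype.val e))

end Groth.Agent.S2185
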