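import Groth.Statements.S2187
import Groth.Agent.Lib.HomDim.Vasconcelos
-- import your own Groth.Agent.* helpers here

set_option autoImplicit false
universe u
open CategoryTheory
open LCI

namespace Groth.Agent.S2187

/-- Let R be a Noetherian local ring and I an ideal of finite projective dimension as an R-module. If F
is a direct summand of the conormal module I/I^2 which is isomorphic to R/I, then there is a
nonzerodivisor x in I whose class in I/I^2 generates F. -/
theorem result {R : Type u} [CommRing R]
    [IsNoetherianRing R] [IsLocalRing R] (I : Ideal R) (n : ℕ)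
    (hpd : HasProjectiveDimensionLT (ModuleCat.of R I) n)
    (F G : Submodule (R ⧸ I) I.Cotangent) (hFG : IsCompl F G) (e : F ≃ₗ[R ⧸ I] (R ⧸ I)) :
    ∃ (x : R) (hx : x ∈ I), x ∈ nonZeroDivisors R ∧
      Submodule.span (R ⧸ I) {I.toCotangent ⟨x, hx⟩} = F := by
  exact Groth.Agent.Vasc.exists_of_rank_one I hpd F G hFG e

end Groth.Agent.S2187
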