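import Groth.Statements.S2190
import Groth.Agent.Lib.NumType.Basic
import Groth.Agent.S3349

set_option autoImplicit false
open Finset
open Models Models.NumericalType

namespace Groth.Agent.S2190

/-- A minimal numerical type of genus zero has a single index, with m = 1, a = 0, w = 1 and g = 0. -/
theorem result {n : ℕ} (T : Models.NumericalType n) (hmin : T.IsMinimal) (hg : T.genus = 0) :
    n = 1 ∧ ∀ i, T.m i = 1 ∧ T.a i i = 0 ∧ T.w i = 1 ∧ T.g i = 0 := by
  rcases Nat.lt_or_ge 1 n with hn | hn
  · have := Groth.Agent.NumType.one_le_genus T hmin hn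
    omega
  obtain rfl : n = 1 := by have := T.pos; omega
  have h := (Groth.Agent.S3349.result T).2.2.2.1 hg
  refine ⟨rfl, fun i => ?_⟩
  obtain rfl : i = 0 := Subsingleton.elim _ _
  exact ⟨h.1, (Groth.Agent.S3349.result T).1, h.2.1, h.2.2⟩

end Groth.Agent.S2190
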