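import Groth.Statements.S2194
import Groth.Agent.Lib.DPUniv28.Basic
import Mathlib.Algebra.MvPolynomial.CommRing
import Mathlib.RingTheory.Ideal.Quotient.Operations

set_option autoImplicit false
set_option linter.style.haveILetI false
universe u
open DPow

namespace Groth.Agent.S2194

/-- Let (A, I) be a ring with a divided power structure on I, B an A-algebra and J an ideal of B
containing I B. Then there is a divided power ring (D, J') with a ring map B -> D carrying J into J'
whose composite with A -> B is a homomorphism of divided power rings, universal for such data: for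
every divided power ring (C, K) with a divided power homomorphism A -> C and every A-algebra map B
-> C carrying J into K there is exactly one divided power homomorphism D -> C compatible with the
maps from B. -/
theorem result {A B : Type u} [CommRing A] [CommRing B] [Algebra A B] {I : Ideal A}
    (γ : DividedPowers I) (J : Ideal B) (hIJ : I.map (algebraMap A B) ≤ J) :
    ∃ (D : Type u) (_ : CommRing D) (_ : Algebra B D) (JD : Ideal D) (γD : DividedPowers JD),
      J.map (algebraMap B D) ≤ JD ∧
      γ.IsDPMorphism γD ((algebraMap B D).comp (algebraMap A B)) ∧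
      ∀ (C : Type u) [CommRing C] [Algebra A C] (K : Ideal C) (δ : DividedPowers K),
        γ.IsDPMorphism δ (algebraMap A C) →
        ∀ ψ : B →ₐ[A] C, J.map ψ ≤ K →
          ∃! χ : D →+* C, χ.comp (algebraMap B D) = ψ ∧ γD.IsDPMorphism δ χ := by
  let a : A →+* MvPolynomial (↥J × ℕ) B := MvPolynomial.C.comp (algebraMap A B)
  let X : ↥J → ℕ → MvPolynomial (↥J × ℕ) B := fun i m => MvPolynomial.X (i, m)
  let Rel : Set (MvPolynomial (↥J × ℕ) B) := Set.range fun j : ↥J => X j 1 - MvPolynomial.C (j : B)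
  have hXC : ∀ j : ↥J, Ideal.Quotient.mk (DPUniv28.Q γ a X Rel) (X j 1) =
      Ideal.Quotient.mk (DPUniv28.Q γ a X Rel) (MvPolynomial.C (j : B)) := fun j =>
    DPUniv28.ext' fun M => by
      rw [M.ev_mk, M.ev_mk, ← sub_eq_zero, ← map_sub]
      exact M.rel _ ⟨j, rfl⟩
  refine ⟨DPUniv28.D γ a X Rel, inferInstance, inferInstance, DPUniv28.JD γ a X Rel, DPUniv28.dp γ a X Rel,
    Ideal.map_le_iff_le_comap.2 fun b hb => ?_, DPUniv28.isDPMorphism_mk (γ := γ) (a := a) (X := X) (Rel := Rel), ?_⟩
  · show Ideal.Quotient.mk (DPUniv28.Q γ a X Rel) (MvPolynomial.C b) ∈ DPUniv28.JD γ a X Rel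
    rw [← hXC ⟨b, hb⟩]
    exact DPUniv28.gen_mem _
  intro C _ _ K δ hδ ψ hψ
  let φ : MvPolynomial (↥J × ℕ) B →+* C :=
    MvPolynomial.eval₂Hom (ψ : B →+* C) fun q => δ.dpow q.2 (ψ (q.1 : B))
  have hmem : ∀ j : ↥J, ψ (j : B) ∈ K := fun j => hψ (Ideal.mem_map_of_mem ψ j.2)
  have hφ1 : ∀ j, φ (X j 1) = ψ (j : B) := fun j => by
    simp only [φ, X, MvPolynomial.eval₂Hom_X']
    exact δ.dpow_one (hmem j)
  have hφC : ∀ b, φ (MvPolynomial.C b) = ψ b := fun b => MvPolynomial.eval₂Hom_C _ _ b
  let M : DPUniv28.Model γ a X Rel :=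
    { C := C
      K := K
      ε := δ
      φ := φ
      comp := by
        rw [show φ.comp a = algebraMap A C from RingHom.ext fun x => (hφC _).trans (ψ.commutes x)]
        exact hδ
      mem := fun j => by rw [hφ1]; exact hmem j
      pow := fun j m => by rw [hφ1]; simp only [φ, X, MvPolynomial.eval₂Hom_X']
      rel := by
        rintro _ ⟨j, rfl⟩
        rw [map_sub, hφ1, hφC, sub_self] }
  refine ⟨M.ev, ⟨RingHom.ext hφC, M.isDPMorphism_ev⟩, fun χ hχ => ?_⟩
  refine Ideal.Quotient.ringHom_ext (MvPolynomial.ringHom_ext (fun b => ?_) fun q => ?_)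
  · exact (DFunLike.congr_fun hχ.1 b).trans (hφC b).symm
  obtain ⟨j, m⟩ := q
  refine DPUniv28.eq_ev M χ hχ.2 (fun j => ?_) j m
  rw [hXC]
  exact ((DFunLike.congr_fun hχ.1 (j : B)).trans (hφ1 j).symm)

end Groth.Agent.S2194
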