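import Groth.Statements.S2201
import Groth.Agent.Lib.CI2.Avramov

set_option autoImplicit false
universe u
open LCI

namespace Groth.Agent.S2201

/-- Let R -> S be a flat local homomorphism of Noetherian local rings with S/m_R S regular, and let I in
R and J in S be proper ideals with I S inside J; give S/J its canonical R/I-algebra structure.
Equivalent: (1) J is cut out by a regular sequence while S/J, as an R/I-module, has finite
Tor-dimension; (2) the same with only finitely many nonzero Tor_p^{R/I}(S/J, k), k the residue field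
of R/I; (3) I and J/IS are each cut out by regular sequences (in R, resp. S/IS). Stated as (1) iff
(3) and (2) iff (3). -/
theorem result {R S : Type u} [CommRing R] [CommRing S] [IsNoetherianRing R]
    [IsNoetherianRing S] [IsLocalRing R] [IsLocalRing S] [Algebra R S] [IsLocalHom (algebraMap R S)]
    [Module.Flat R S]
    [IsRegularLocalRing (S ⧸ Ideal.map (algebraMap R S) (IsLocalRing.maximalIdeal R))]
    (I : Ideal R) (J : Ideal S) (hI : I ≠ ⊤) (hJ : J ≠ ⊤) (hIJ : I.map (algebraMap R S) ≤ J)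
    [Algebra (R ⧸ I) (S ⧸ J)] [IsScalarTower R (R ⧸ I) (S ⧸ J)] :
    let P3 := (∃ rs : List R, Ideal.ofList rs = I ∧ RingTheory.Sequence.IsRegular R rs) ∧
      ∃ rs' : List (S ⧸ I.map (algebraMap R S)),
        Ideal.ofList rs' = J.map (Ideal.Quotient.mk (I.map (algebraMap R S))) ∧
          RingTheory.Sequence.IsRegular (S ⧸ I.map (algebraMap R S)) rs'
    let Jreg := ∃ rs : List S, Ideal.ofList rs = J ∧ RingTheory.Sequence.IsRegular S rs
    ((Jreg ∧ DRing.HasFiniteTorDim (R ⧸ I) (S ⧸ J)) ↔ P3) ∧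
      ((Jreg ∧ Set.Finite {p : ℕ | ¬Subsingleton (DRing.Tor (R ⧸ I) p (S ⧸ J)
        ((R ⧸ I) ⧸ (IsLocalRing.maximalIdeal R).map (Ideal.Quotient.mk I)))}) ↔ P3) := by
  intro P3 Jreg
  have hswap : ∀ {C : Type u} [CommRing C] (K : Ideal C),
      (∃ rs : List C, Ideal.ofList rs = K ∧ RingTheory.Sequence.IsRegular C rs) ↔ CInt.IsRegularIdeal K :=
    fun K => exists_congr fun _ => and_comm
  have hfin : DRing.HasFiniteTorDim (R ⧸ I) (S ⧸ J) → Set.Finite {p : ℕ | ¬Subsingleton (DRing.Tor (R ⧸ I) p (S ⧸ J)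
      ((R ⧸ I) ⧸ (IsLocalRing.maximalIdeal R).map (Ideal.Quotient.mk I)))} := by
    rintro ⟨N, hN⟩
    refine (Set.finite_Iic N).subset fun p hp => ?_
    by_contra hc
    exact hp (hN _ p (lt_of_not_ge hc))
  have hdown : Jreg → Set.Finite {p : ℕ | ¬Subsingleton (DRing.Tor (R ⧸ I) p (S ⧸ J)
      ((R ⧸ I) ⧸ (IsLocalRing.maximalIdeal R).map (Ideal.Quotient.mk I)))} → P3 := fun h hf => by
    obtain ⟨h1, h2⟩ := Groth.Agent.CI2.relative_of_regular I J hIJ hI hJ ((hswap J).1 h) hf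
    exact ⟨(hswap I).2 h1, (hswap _).2 h2⟩
  have hup : P3 → Jreg ∧ DRing.HasFiniteTorDim (R ⧸ I) (S ⧸ J) := fun ⟨h1, h2⟩ =>
    ⟨(hswap J).2 (Groth.Agent.CIReg6.isRegularIdeal_of_quotient hIJ (IsLocalRing.le_maximalIdeal hJ)
      (Groth.Agent.CI2.isRegularIdeal_map ((hswap I).1 h1)) ((hswap _).1 h2)),
      Groth.Agent.CI2.finiteTorDim_of_relative I J hIJ ((hswap _).1 h2)⟩
  exact ⟨⟨fun ⟨h, hf⟩ => hdown h (hfin hf), hup⟩,
    ⟨fun ⟨h, hf⟩ => hdown h hf, fun h => ⟨(hup h).1, hfin (hup h).2⟩⟩⟩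

end Groth.Agent.S2201
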