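import Groth.Statements.S2202
import Groth.Agent.Lib.CI2.AvramovMap

set_option autoImplicit false
universe u
open LCI

namespace Groth.Agent.S2202

theorem backward {A B : Type u} [CommRing A] [CommRing B] [IsNoetherianRing A]
    [IsNoetherianRing B] [IsLocalRing A] [IsLocalRing B] [Algebra A B] [IsLocalHom (algebraMap A B)]
    (hA : Pi1.IsCompleteIntersection A) (S : Type u) [CommRing S] [IsNoetherianRing S] [IsLocalRing S] [Algebra A S]
    [Module.Flat A S] (hreg : IsRegularLocalRing (S ⧸ Ideal.map (algebraMap A S) (IsLocalRing.maximalIdeal A)))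
    (g : S →ₐ[A] B) (hg : Function.Surjective g) (rs : List S) (hrs : Ideal.ofList rs = RingHom.ker g)
    (hr : RingTheory.Sequence.IsRegular S rs) :
    Pi1.IsCompleteIntersection B ∧
      Set.Finite {p : ℕ | ¬Subsingleton (DRing.Tor A p B (IsLocalRing.ResidueField A))} := by
  haveI : IsLocalHom (algebraMap A S) := ⟨fun a ha => by
    refine (isUnit_map_iff (algebraMap A B) a).1 ?_
    rw [← g.commutes a]
    exact ha.map g⟩
  haveI := hreg
  constructor
  · exact Groth.Agent.CI2.ci_quotient (Groth.Agent.CI2.avramov.2 ⟨hA, Groth.Agent.CI2.ci_of_regular⟩)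
      g.toRingHom hg ⟨rs, hr, hrs⟩
  · have h := Groth.Agent.CI2.torDim_quotient_of_regular (A := A) rs 0 S hr.toIsWeaklyRegular
      (Groth.Agent.PCMor4.td_of_flat 0)
    let e1 : (S ⧸ (Ideal.ofList rs • ⊤ : Submodule S S)) ≃ₗ[A] S ⧸ RingHom.ker g :=
      (Submodule.quotEquivOfEq _ _ (by rw [smul_eq_mul, Ideal.mul_top, hrs])).restrictScalars A
    let e2 : (S ⧸ RingHom.ker g) ≃ₐ[A] B := Ideal.quotientKerAlgEquivOfSurjective hg
    have h2 := Groth.Agent.PCMor4.td_equiv (e1.trans e2.toLinearEquiv) h
    refine (Set.finite_Iic (0 + rs.length)).subset fun p hp => ?_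
    by_contra hc
    exact hp (h2 _ p (lt_of_not_ge hc))

/-- Special case: A and B complete. For a local homomorphism A -> B of complete Noetherian local rings,
the following are equivalent: B is a complete intersection with only finitely many nonzero
Tor^A_p(B, k_A); A is a complete intersection and A -> B factors as A -> S -> B with S Noetherian
local, A -> S flat with regular closed fibre S/m_A S, and S -> B surjective with kernel cut out by a
regular sequence (a complete intersection homomorphism). -/
theorem result {A B : Type u} [CommRing A] [CommRing B] [IsNoetherianRing A]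
    [IsNoetherianRing B] [IsLocalRing A] [IsLocalRing B]
    [IsAdicComplete (IsLocalRing.maximalIdeal A) A] [IsAdicComplete (IsLocalRing.maximalIdeal B) B]
    [Algebra A B] [IsLocalHom (algebraMap A B)] :
    (Pi1.IsCompleteIntersection B ∧
        Set.Finite {p : ℕ | ¬Subsingleton (DRing.Tor A p B (IsLocalRing.ResidueField A))}) ↔
      (Pi1.IsCompleteIntersection A ∧
        ∃ (S : Type u) (_ : CommRing S) (_ : IsNoetherianRing S) (_ : IsLocalRing S) (_ : Algebra A S)
          (_ : Module.Flat A S)
          (_ : IsRegularLocalRing (S ⧸ Ideal.map (algebraMap A S) (IsLocalRing.maximalIdeal A)))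
          (g : S →ₐ[A] B), Function.Surjective g ∧
            ∃ rs : List S, Ideal.ofList rs = RingHom.ker g ∧ RingTheory.Sequence.IsRegular S rs) := by
  constructor
  · rintro ⟨hB, hfin⟩
    exact Groth.Agent.CI2.exists_good_of_ci hB hfin
  · rintro ⟨hA, S, _, _, _, _, _, hreg, g, hg, rs, hrs, hr⟩
    exact backward hA S hreg g hg rs hrs hr

end Groth.Agent.S2202
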