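import Groth.Statements.S2203
import Mathlib

set_option autoImplicit false
universe u
open CategoryTheory
open QCohCat

namespace Groth.Agent.S2203

open CategoryTheory CategoryTheory.Limits

universe w

variable {A B : Type w} [CommRing A] [CommRing B] (F : ModuleCat.{w} A ≌ ModuleCat.{w} B)

/-- Transport of the homothety by `a`. -/
noncomputable def theta (a : A) (N : ModuleCat.{w} B) : N ⟶ N :=
  F.counitIso.inv.app N ≫ F.functor.map (a • 𝟙 (F.inverse.obj N)) ≫ F.counitIso.hom.app N

lemma theta_nat (a : A) {N M : ModuleCat.{w} B} (g : N ⟶ M) : g ≫ theta F a M = theta F a N ≫ g := by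
  have h : F.inverse.map g ≫ (a • 𝟙 (F.inverse.obj M)) = (a • 𝟙 (F.inverse.obj N)) ≫ F.inverse.map g := by
    rw [Linear.comp_smul, Linear.smul_comp, Category.comp_id, Category.id_comp]
  have hh := congrArg F.functor.map h
  rw [Functor.map_comp, Functor.map_comp] at hh
  have h1 := F.counitIso.inv.naturality g
  have h2 := F.counitIso.hom.naturality g
  simp only [Functor.id_map, Functor.comp_map] at h1 h2
  simp only [theta, Category.assoc]
  rw [reassoc_of% h1, reassoc_of% hh, h2]

/-- The ring map. -/
noncomputable def phi (a : A) : B := (theta F a (ModuleCat.of B B)).hom (1 : B)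

lemma theta_apply (a : A) (N : ModuleCat.{w} B) : theta F a N = phi F a • 𝟙 N := by
  ext x
  have h := theta_nat F a (ModuleCat.ofHom (LinearMap.toSpanSingleton B N x) : ModuleCat.of B B ⟶ N)
  have h' := congrArg (fun φ : ModuleCat.of B B ⟶ N => φ.hom (1 : B)) h
  simpa [phi] using h'

lemma phi_mul (a b : A) : phi F (a * b) = phi F b * phi F a := by
  have h : theta F (a * b) (ModuleCat.of B B) = theta F b _ ≫ theta F a _ := by
    have e : (a * b) • 𝟙 (F.inverse.obj (ModuleCat.of B B)) =
        (b • 𝟙 (F.inverse.obj (ModuleCat.of B B))) ≫ (a • 𝟙 _) := by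
      rw [Linear.comp_smul, Category.comp_id, smul_smul]
    simp only [theta, Category.assoc, Iso.hom_inv_id_app_assoc]
    rw [e, Functor.map_comp, Category.assoc]
  rw [theta_apply, theta_apply, theta_apply] at h
  have h' := congrArg (fun φ : ModuleCat.of B B ⟶ ModuleCat.of B B => φ.hom (1 : B)) h
  simp at h'
  rw [h']
  ring

lemma phi_add (a b : A) : phi F (a + b) = phi F a + phi F b := by
  haveI : F.functor.Additive := Functor.additive_of_preserves_binary_products _
  simp only [phi, theta, add_smul, Functor.map_add, Preadditive.add_comp, Preadditive.comp_add]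
  rfl

lemma phi_phi (b : B) : phi F (phi F.symm b) = b := by
  have key : ∀ N : ModuleCat.{w} B, phi F.symm b • 𝟙 (F.inverse.obj N) = F.inverse.map (b • 𝟙 N) := by
    intro N
    rw [← theta_apply]
    change F.unitIso.hom.app (F.inverse.obj N) ≫ F.inverse.map (b • 𝟙 _) ≫ F.unitIso.inv.app (F.inverse.obj N) = _
    have e : b • 𝟙 (F.functor.obj (F.inverse.obj N)) = F.counitIso.hom.app N ≫ (b • 𝟙 N) ≫ F.counitIso.inv.app N := by
      simp only [Functor.id_obj, Linear.smul_comp, Linear.comp_smul, Category.id_comp, Iso.hom_inv_id_app]
      rfl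
    change F.unitIso.hom.app (F.inverse.obj N) ≫ F.inverse.map (b • 𝟙 (F.functor.obj (F.inverse.obj N))) ≫ _ = _
    rw [e, Functor.map_comp, Functor.map_comp]
    simp only [Category.assoc]
    rw [F.unit_inverse_comp_assoc]
    conv_rhs => rw [← Category.comp_id (F.inverse.map (b • 𝟙 N))]
    congr 1
    exact F.inverse_counitInv_comp N
  have h : theta F (phi F.symm b) (ModuleCat.of B B) = b • 𝟙 _ := by
    simp only [theta]
    rw [key]
    have := F.counitIso.hom.naturality (b • 𝟙 (ModuleCat.of B B))
    simp only [Functor.id_map, Functor.comp_map] at this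
    rw [this, Iso.inv_hom_id_app_assoc]
  rw [theta_apply] at h
  have h' := congrArg (fun φ : ModuleCat.of B B ⟶ ModuleCat.of B B => φ.hom (1 : B)) h
  simpa using h'



/-- Ring-isomorphism part of the statement: let A and B be commutative rings whose categories of modules
are equivalent. Then A and B are isomorphic as rings. (The source moreover describes the equivalence
as base change followed by tensoring with an invertible module.) -/
theorem result (A B : Type u) [CommRing A] [CommRing B]
    (F : ModuleCat.{u} A ≌ ModuleCat.{u} B) : Nonempty (A ≃+* B) := by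
  exact ⟨{
    toFun := phi F
    invFun := phi F.symm
    left_inv := fun a => phi_phi F.symm a
    right_inv := fun b => phi_phi F b
    map_mul' := fun a b => (phi_mul F a b).trans (mul_comm _ _)
    map_add' := phi_add F }⟩


end Groth.Agent.S2203
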