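import Groth.Statements.S2207
import Groth.Agent.Lib.DPowH7.Cases

set_option autoImplicit false
universe u v
open DPow

namespace Groth.Agent.S2207

/-- Existence in case (2): let I = (x) be a principal ideal of A with a divided power structure and B
any A-algebra. Then there is a divided power structure on I B for which A -> B is a homomorphism of
divided power rings. -/
theorem result {A : Type u} {B : Type v} [CommRing A] [CommRing B] [Algebra A B]
    (x : A) (γ : DividedPowers (Ideal.span {x})) :
    ∃ δ : DividedPowers ((Ideal.span {x}).map (algebraMap A B)), γ.IsDPMorphism δ (algebraMap A B) := by
  exact Groth.Agent.DPowH7.exists_extension_span_singleton x γ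

end Groth.Agent.S2207
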