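import Groth.Statements.S2209
import Groth.Agent.Lib.ArInter.Model

set_option autoImplicit false
universe u
open CategoryTheory AlgebraicGeometry
open Models

namespace Groth.Agent.S2209

/-- Let R be a discrete valuation ring with fraction field K, C a smooth proper curve over K whose ring
of global functions is K (the map K -> H^0(C, O_C) is an isomorphism), and X a regular proper model
of C over R. Then the special fibre of X is connected. -/
theorem result (R : Type u) [CommRing R] [IsDomain R]
    [IsDiscreteValuationRing R] (C X : Scheme.{u})
    (f : C ⟶ Spec (CommRingCat.of (FractionRing R))) (p : X ⟶ Spec (CommRingCat.of R))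
    (hC : Curve.IsSmoothProperCurve (FractionRing R) C f) (hH0 : IsIso f.appTop)
    (hX : Models.IsRegularProperModel R X p C f) :
    ConnectedSpace ↥(Models.specialFibre R X p) := by
  haveI := Subtype.connectedSpace (Groth.Agent.ArInter.isConnected_specialFibreSet hC hH0 hX)
  let q := Spec.map (CommRingCat.ofHom (algebraMap R (IsLocalRing.ResidueField R)))
  haveI : IsClosedImmersion q := IsClosedImmersion.spec_of_surjective _ IsLocalRing.residue_surjective
  let i : Models.specialFibre R X p ⟶ X := Limits.pullback.fst p q
  haveI : IsClosedImmersion i := MorphismProperty.IsStableUnderBaseChange.of_isPullback (IsPullback.of_hasPullback p q).flip inferInstance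
  have hq : Set.range q = ({IsLocalRing.closedPoint R} : Set (PrimeSpectrum R)) := by
    ext y
    constructor
    · rintro ⟨z, rfl⟩
      refine PrimeSpectrum.ext ?_
      haveI := (z : PrimeSpectrum (IsLocalRing.ResidueField R)).isPrime
      show Ideal.comap (IsLocalRing.residue R) (z : PrimeSpectrum (IsLocalRing.ResidueField R)).asIdeal =
        IsLocalRing.maximalIdeal R
      rw [(Ideal.eq_bot_or_top (z : PrimeSpectrum (IsLocalRing.ResidueField R)).asIdeal).resolve_right
        (Ideal.IsPrime.ne_top inferInstance), ← RingHom.ker_eq_comap_bot, IsLocalRing.ker_residue]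
    · rintro rfl
      obtain ⟨z⟩ := (inferInstance : Nonempty (PrimeSpectrum (IsLocalRing.ResidueField R)))
      refine ⟨z, PrimeSpectrum.ext ?_⟩
      haveI := z.isPrime
      show Ideal.comap (IsLocalRing.residue R) z.asIdeal = IsLocalRing.maximalIdeal R
      rw [(Ideal.eq_bot_or_top z.asIdeal).resolve_right (Ideal.IsPrime.ne_top inferInstance),
        ← RingHom.ker_eq_comap_bot, IsLocalRing.ker_residue]
  have hr : Set.range i = Models.specialFibreSet R (Over.mk p) := by
    show Set.range (Limits.pullback.fst p q) = _
    rw [Scheme.Pullback.range_fst, hq]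
    rfl
  have hc : _root_.IsConnected (Set.range i) := hr ▸ Groth.Agent.ArInter.isConnected_specialFibreSet hC hH0 hX
  refine connectedSpace_iff_univ.mpr ⟨?_, ?_⟩
  · obtain ⟨-, z, -⟩ := hc.nonempty
    exact ⟨z, trivial⟩
  · rw [← i.isClosedEmbedding.isInducing.isPreconnected_image, Set.image_univ]
    exact hc.isPreconnected

end Groth.Agent.S2209
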