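import Groth.Statements.S2210
import Groth.Agent.Lib.DiscNoether25.GCI

set_option autoImplicit false
universe u
open Disc

namespace Groth.Agent.S2210

/-- Parts (1) (flatness) and (3), in the case h = 1: let A be a ring, n at least 1, f_1, ..., f_n
polynomials in A[x_1, ..., x_n] and B = A[x_1, ..., x_n]/(f_1, ..., f_n). When B is quasi-finite
over A, it is A-flat, and its Noether different over A is the principal ideal generated by the image
of the Jacobian determinant det(d f_i / d x_j). -/
theorem result {A : Type u} [CommRing A] {n : ℕ}
    (hn : 1 ≤ n) (f : Fin n → MvPolynomial (Fin n) A)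
    [Algebra.QuasiFinite A (MvPolynomial (Fin n) A ⧸ Ideal.span (Set.range f))] :
    Module.Flat A (MvPolynomial (Fin n) A ⧸ Ideal.span (Set.range f)) ∧
      Disc.noetherDifferent A (MvPolynomial (Fin n) A ⧸ Ideal.span (Set.range f)) =
        Ideal.span {Ideal.Quotient.mk (Ideal.span (Set.range f))
          (Matrix.det (Matrix.of fun i j => MvPolynomial.pderiv j (f i)))} := by
  exact ⟨Groth.Agent.DiscNoether25.flat_of_quasiFinite f, Groth.Agent.DiscNoether25.noetherDifferent_gci f⟩

end Groth.Agent.S2210
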