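import Groth.Statements.S2213
import Groth.Agent.Lib.DPUniv28.Basic
import Mathlib.Algebra.MvPolynomial.CommRing
import Mathlib.RingTheory.Ideal.Quotient.Operations

set_option autoImplicit false
set_option linter.style.haveILetI false
universe u
open DPow

namespace Groth.Agent.S2213

/-- Let (A, I) be a ring with divided powers and t a natural number. There is a divided power ring (D,
J) with an A-algebra structure making A -> D a divided power homomorphism and elements x_1, ..., x_t
of J, such that for every divided power ring (C, K) with a divided power homomorphism A -> C and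
every choice of k_1, ..., k_t in K there is exactly one divided power homomorphism D -> C over A
sending x_i to k_i (the divided power polynomial algebra). -/
theorem result {A : Type u} [CommRing A] {I : Ideal A} (γ : DividedPowers I) (t : ℕ) :
    ∃ (D : Type u) (_ : CommRing D) (_ : Algebra A D) (J : Ideal D) (δ : DividedPowers J)
      (x : Fin t → D), (∀ i, x i ∈ J) ∧ γ.IsDPMorphism δ (algebraMap A D) ∧
      ∀ (C : Type u) [CommRing C] [Algebra A C] (K : Ideal C) (ε : DividedPowers K),
        γ.IsDPMorphism ε (algebraMap A C) → ∀ k : Fin t → C, (∀ i, k i ∈ K) →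
          ∃! φ : D →ₐ[A] C, (∀ i, φ (x i) = k i) ∧ δ.IsDPMorphism ε φ.toRingHom := by
  let a : A →+* MvPolynomial (Fin t × ℕ) A := MvPolynomial.C
  let X : ULift.{u} (Fin t) → ℕ → MvPolynomial (Fin t × ℕ) A := fun i m => MvPolynomial.X (i.down, m)
  refine ⟨DPUniv28.D γ a X ∅, inferInstance, inferInstance, DPUniv28.JD γ a X ∅, DPUniv28.dp γ a X ∅,
    fun i => Ideal.Quotient.mk _ (X ⟨i⟩ 1), fun i => DPUniv28.gen_mem (γ := γ) (a := a) (X := X) (Rel := ∅) ⟨i⟩,
    DPUniv28.isDPMorphism_mk, ?_⟩
  intro C _ _ K ε hε k hk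
  let φ : MvPolynomial (Fin t × ℕ) A →+* C :=
    MvPolynomial.eval₂Hom (algebraMap A C) fun q => ε.dpow q.2 (k q.1)
  have hφ1 : ∀ i, φ (X i 1) = k i.down := fun i => by
    simp only [φ, X, MvPolynomial.eval₂Hom_X']
    exact ε.dpow_one (hk i.down)
  let M : DPUniv28.Model γ a X (∅ : Set (MvPolynomial (Fin t × ℕ) A)) :=
    { C := C
      K := K
      ε := ε
      φ := φ
      comp := by
        rw [show φ.comp a = algebraMap A C from RingHom.ext fun x => MvPolynomial.eval₂Hom_C _ _ x]
        exact hε
      mem := fun i => by rw [hφ1]; exact hk i.down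
      pow := fun i m => by rw [hφ1]; simp only [φ, X, MvPolynomial.eval₂Hom_X']
      rel := fun r hr => hr.elim }
  let ψ : DPUniv28.D γ a X ∅ →ₐ[A] C :=
    { M.ev with commutes' := fun x => MvPolynomial.eval₂Hom_C _ _ x }
  refine ⟨ψ, ⟨fun i => hφ1 ⟨i⟩, M.isDPMorphism_ev⟩, fun χ hχ => ?_⟩
  refine Ideal.Quotient.algHom_ext A (MvPolynomial.algHom_ext fun q => ?_)
  obtain ⟨i, m⟩ := q
  exact DPUniv28.eq_ev M χ.toRingHom hχ.2 (fun i => (hχ.1 i.down).trans (hφ1 i).symm) ⟨i⟩ m

end Groth.Agent.S2213
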