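import Groth.Statements.S2218
import Mathlib.RingTheory.Localization.Integer
import Mathlib.RingTheory.Localization.FractionRing
import Mathlib.RingTheory.Ideal.GoingUp
import Mathlib.RingTheory.Ideal.AssociatedPrime.Basic
import Mathlib.LinearAlgebra.Dual.Lemmas
import Mathlib.RingTheory.Ideal.Over

set_option autoImplicit false
universe u v
open Disc

namespace Groth.Agent.S2218

/-- Special case: A -> B finite (the source allows quasi-finite maps). For a finite map of Noetherian
rings and omega = Hom_A(B, A) with its B-module structure through the argument, the associated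
primes of the B-module omega are exactly the primes of B whose contraction to A is an associated
prime of A. -/
theorem result {A : Type u} {B : Type v} [CommRing A] [CommRing B]
    [Algebra A B] [IsNoetherianRing A] [IsNoetherianRing B] [Module.Finite A B] :
    associatedPrimes B (Disc.Omega A B) =
      {q : Ideal B | q.IsPrime ∧ q.comap (algebraMap A B) ∈ associatedPrimes A A} := by
  classical
  ext q
  constructor
  · intro hq
    obtain ⟨hqp, φ, hφ⟩ := isAssociatedPrime_iff.1 hq
    refine ⟨hqp, ?_⟩
    haveI := hqp
    set p := q.comap (algebraMap A B)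
    haveI : p.IsPrime := Ideal.IsPrime.comap _
    obtain ⟨G, hG⟩ := Module.Finite.fg_top (R := A) (M := B)
    have hp : ∀ a : A, a ∈ p ↔ ∀ g ∈ G, a * φ.toLinearMap g = 0 := by
      intro a
      rw [Ideal.mem_comap, hφ, Submodule.mem_colon_singleton, Submodule.mem_bot]
      constructor
      · intro h g _
        have := LinearMap.congr_fun (congrArg Disc.Omega.toLinearMap h) g
        rw [Disc.Omega.smul_toLinearMap_apply, ← Algebra.smul_def, map_smul, smul_eq_mul] at this
        exact this
      · intro h
        refine Disc.Omega.toLinearMap_injective (LinearMap.ext_on (s := (G : Set B)) hG fun g hg => ?_)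
        rw [Disc.Omega.smul_toLinearMap_apply, ← Algebra.smul_def, map_smul, smul_eq_mul]
        exact h g hg
    have hex : ∃ g ∈ G, ∀ a : A, a ∈ p ↔ a * φ.toLinearMap g = 0 := by
      by_contra hne
      push Not at hne
      have hne' : ∀ g ∈ G, ∃ a, a ∉ p ∧ a * φ.toLinearMap g = 0 := by
        intro g hg
        obtain ⟨a, ha⟩ := hne g hg
        rcases ha with ⟨ha1, ha2⟩ | ⟨ha1, ha2⟩
        · exact absurd ((hp a).1 ha1 g hg) ha2
        · exact ⟨a, ha1, ha2⟩
      choose a ha ha' using hne'
      refine (p.primeCompl.prod_mem (t := G.attach) (f := fun g => a g.1 g.2) fun g _ => ha _ _)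
        ((hp _).2 fun g hg => ?_)
      rw [← Finset.prod_erase_mul _ _ (Finset.mem_attach G ⟨g, hg⟩), mul_assoc, ha', mul_zero]
    obtain ⟨g, -, hg⟩ := hex
    refine isAssociatedPrime_iff.2 ⟨inferInstance, φ.toLinearMap g, Ideal.ext fun a => ?_⟩
    rw [Submodule.mem_colon_singleton, Submodule.mem_bot, smul_eq_mul]
    exact hg a
  · rintro ⟨hqp, hp⟩
    haveI := hqp
    obtain ⟨-, x, hx⟩ := isAssociatedPrime_iff.1 hp
    set p := q.comap (algebraMap A B) with hpdef
    haveI : q.LiesOver p := ⟨rfl⟩
    let D := A ⧸ p
    let C := B ⧸ q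
    let K := FractionRing D
    let L := FractionRing C
    letI : Algebra K L := FractionRing.liftAlgebra D L
    obtain ⟨ℓ, hℓ⟩ := Module.Projective.exists_dual_ne_zero K (one_ne_zero (α := L))
    let g : B →ₗ[A] K :=
      (ℓ.restrictScalars A).comp (IsScalarTower.toAlgHom A B L).toLinearMap
    have hg1 : g 1 ≠ 0 := by simpa [g] using hℓ
    obtain ⟨G, hG⟩ := Module.Finite.fg_top (R := A) (M := B)
    classical
    obtain ⟨⟨d, hd⟩, hint⟩ := IsLocalization.exist_integer_multiples_of_finset
      (nonZeroDivisors D) (G.image g)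
    have hint' : ∀ b : B, ∃ c : D, algebraMap D K c = algebraMap D K d * g b := by
      intro b
      have hb : b ∈ Submodule.span A (G : Set B) := by rw [hG]; trivial
      refine Submodule.span_induction (p := fun b _ => ∃ c : D, algebraMap D K c = algebraMap D K d * g b)
        ?_ ⟨0, by simp⟩ ?_ ?_ hb
      · intro z hz
        obtain ⟨c, hc⟩ := hint (g z) (Finset.mem_image_of_mem g hz)
        exact ⟨c, hc.trans (Algebra.smul_def _ _)⟩
      · rintro y z _ _ ⟨c, hc⟩ ⟨c', hc'⟩
        exact ⟨c + c', by rw [map_add, map_add, mul_add, hc, hc']⟩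
      · rintro a y _ ⟨c, hc⟩
        refine ⟨Ideal.Quotient.mk p a * c, ?_⟩
        rw [map_mul, hc, map_smul, Algebra.smul_def, IsScalarTower.algebraMap_apply A D K]
        exact mul_left_comm _ _ _
    choose ψ hψ using hint'
    have hinj : Function.Injective (algebraMap D K) := IsFractionRing.injective D K
    have hψadd : ∀ b b', ψ (b + b') = ψ b + ψ b' := fun b b' => hinj (by
      rw [map_add, hψ, hψ, hψ, map_add, mul_add])
    have hψsmul : ∀ (a : A) b, ψ (a • b) = Ideal.Quotient.mk p a * ψ b := fun a b => hinj (by
      rw [map_mul, hψ, hψ, map_smul, Algebra.smul_def, IsScalarTower.algebraMap_apply A D K]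
      exact mul_left_comm _ _ _)
    let i : D →ₗ[A] A := Submodule.liftQ p (LinearMap.toSpanSingleton A A x) fun a ha => by
      rw [hx, Submodule.mem_colon_singleton, Submodule.mem_bot] at ha
      exact ha
    have hi : Function.Injective i := by
      rw [injective_iff_map_eq_zero]
      intro z hz
      obtain ⟨a, rfl⟩ := Submodule.Quotient.mk_surjective _ z
      rw [Submodule.Quotient.mk_eq_zero, hx, Submodule.mem_colon_singleton, Submodule.mem_bot]
      exact hz
    let φ : Disc.Omega A B := ⟨i.comp
      { toFun := ψ, map_add' := hψadd, map_smul' := fun a b => (hψsmul a b).trans (by rw [RingHom.id_apply, Algebra.smul_def]; rfl) }⟩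
    have hker : ∀ b ∈ q, g b = 0 := fun b hb => by
      change ℓ (algebraMap B L b) = 0
      rw [IsScalarTower.algebraMap_apply B C L, Ideal.Quotient.algebraMap_eq,
        Ideal.Quotient.eq_zero_iff_mem.2 hb, map_zero, map_zero]
    refine isAssociatedPrime_iff.2 ⟨hqp, φ, Ideal.ext fun b => ?_⟩
    rw [Submodule.mem_colon_singleton, Submodule.mem_bot]
    constructor
    · intro hb
      refine Disc.Omega.toLinearMap_injective (LinearMap.ext fun y => ?_)
      have h0 : ψ (b * y) = 0 := hinj (by rw [hψ, hker _ (q.mul_mem_right y hb), mul_zero, map_zero])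
      change i (ψ (b * y)) = 0
      rw [h0, map_zero]
    · intro hb
      by_contra hbq
      have h0 : ∀ y, g (b * y) = 0 := fun y => by
        have h1 : i (ψ (b * y)) = 0 := LinearMap.congr_fun (congrArg Disc.Omega.toLinearMap hb) y
        have h2 : ψ (b * y) = 0 := hi (h1.trans (map_zero i).symm)
        have h3 := hψ (b * y)
        rw [h2, map_zero] at h3
        exact (mul_eq_zero.1 h3.symm).resolve_left fun h =>
          nonZeroDivisors.ne_zero hd (hinj (h.trans (map_zero _).symm))
      haveI : Algebra.IsIntegral A B := Algebra.IsIntegral.of_finite A B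
      -- a nonzero element of `A` modulo `p` is a multiple of `b` modulo `q`
      haveI : Algebra.IsIntegral D C := Algebra.IsIntegral.quotient
      obtain ⟨e, he, hmem⟩ : ∃ e : A, e ∉ p ∧ algebraMap A B e ∈ Ideal.span {b} ⊔ q := by
        have := Ideal.comap_ne_bot_of_integral_mem (R := D) (I := Ideal.span {Ideal.Quotient.mk q b})
          (fun h => hbq (Ideal.Quotient.eq_zero_iff_mem.1 h)) (Ideal.mem_span_singleton_self _)
          (Algebra.IsIntegral.isIntegral _)
        obtain ⟨e', he', he0⟩ := Submodule.exists_mem_ne_zero_of_ne_bot this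
        obtain ⟨e, rfl⟩ := Ideal.Quotient.mk_surjective e'
        refine ⟨e, fun h => he0 (Ideal.Quotient.eq_zero_iff_mem.2 h), ?_⟩
        have h1 : Ideal.Quotient.mk q (algebraMap A B e) ∈ (Ideal.span {b}).map (Ideal.Quotient.mk q) := by
          rw [Ideal.map_span, Set.image_singleton]; exact he'
        exact Ideal.mem_quotient_iff_mem_sup.1 h1
      obtain ⟨u, hu, v, hv, huv⟩ := Submodule.mem_sup.1 hmem
      obtain ⟨y, rfl⟩ := Ideal.mem_span_singleton'.1 hu
      have h4 : g (e • (1 : B)) = 0 := by
        rw [← Algebra.algebraMap_eq_smul_one, ← huv, map_add, hker v hv, mul_comm, h0, add_zero]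
      rw [map_smul, Algebra.smul_def, IsScalarTower.algebraMap_apply A D K] at h4
      exact he (Ideal.Quotient.eq_zero_iff_mem.1
        (hinj (((mul_eq_zero.1 h4).resolve_right hg1).trans (map_zero _).symm)))

end Groth.Agent.S2218
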