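import Groth.Statements.S2219
import Mathlib.RingTheory.Trace.Basic
import Mathlib.LinearAlgebra.Trace
import Mathlib.RingTheory.Length
import Mathlib.RingTheory.SimpleModule.Basic
import Mathlib.RingTheory.LocalRing.ResidueField.Basic
import Mathlib.RingTheory.Artinian.Algebra
import Mathlib.LinearAlgebra.FiniteDimensional.Lemmas

set_option autoImplicit false
universe u
open Disc

namespace Groth.Agent.S2219

/-- The trace is additive along an invariant subspace. -/
theorem trace_eq_restrict_add_mapQ {k V : Type*} [Field k] [AddCommGroup V] [Module k V]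
    [Module.Finite k V] (e : V →ₗ[k] V) (W : Submodule k V) (he : W ≤ W.comap e) :
    LinearMap.trace k V e =
      LinearMap.trace k W (e.restrict he) + LinearMap.trace k (V ⧸ W) (W.mapQ W e he) := by
  obtain ⟨p, hp⟩ := LinearMap.exists_leftInverse_of_injective W.subtype W.ker_subtype
  obtain ⟨s, hs⟩ := LinearMap.exists_rightInverse_of_surjective W.mkQ W.range_mkQ
  let s' : (V ⧸ W) →ₗ[k] V := s - W.subtype.comp (p.comp s)
  have hs' : ∀ v, W.subtype (p v) + s' (W.mkQ v) = v := by
    intro v
    obtain ⟨w, hw⟩ : ∃ w : W, (w : V) = v - s (W.mkQ v) := ⟨⟨_, (Submodule.Quotient.eq W).1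
      (LinearMap.congr_fun hs (W.mkQ v)).symm⟩, rfl⟩
    have hpw : p (w : V) = w := LinearMap.congr_fun hp w
    have h1 : p v = w + p (s (W.mkQ v)) := by
      conv_lhs => rw [show v = (w : V) + s (W.mkQ v) by rw [hw, sub_add_cancel]]
      rw [map_add, hpw]
    simp only [s', LinearMap.sub_apply, LinearMap.comp_apply, h1, map_add, Submodule.coe_subtype]
    rw [hw]; abel
  have hdec : e = (W.subtype.comp (p.comp e)) + (s'.comp (W.mkQ.comp e)) :=
    LinearMap.ext fun v => (hs' (e v)).symm
  conv_lhs => rw [hdec, map_add, LinearMap.trace_comp_comm' (p.comp e) W.subtype,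
    LinearMap.trace_comp_comm' (W.mkQ.comp e) s']
  congr 2
  · exact LinearMap.ext fun w => LinearMap.congr_fun hp ⟨e w, he w.2⟩
  · refine LinearMap.ext fun z => ?_
    obtain ⟨v, rfl⟩ := W.mkQ_surjective z
    have h2 : W.mkQ (s' (W.mkQ v)) = W.mkQ v := by
      simp only [s', LinearMap.sub_apply, LinearMap.comp_apply, map_sub]
      rw [show W.mkQ (s (W.mkQ v)) = W.mkQ v from LinearMap.congr_fun hs _,
        (Submodule.Quotient.mk_eq_zero W).2 (p (s (W.mkQ v))).2 |> fun h : W.mkQ (W.subtype (p (s (W.mkQ v)))) = 0 => h,
        sub_zero]
    change W.mkQ (e (s' (W.mkQ v))) = W.mkQ (e v)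
    exact (congrArg (W.mapQ W e he) h2)

/-- Equivalence of (1) and (3): let k be a field and A a finite-dimensional local k-algebra with residue
field k'. Then the trace map Tr_{A/k} is not identically zero if and only if k' is separable over k
and the length of A as a module over itself is not divisible by the characteristic of k (no
condition in characteristic zero). -/
theorem result (k A : Type u) [Field k] [CommRing A]
    [Algebra k A] [FiniteDimensional k A] [IsLocalRing A] :
    Algebra.trace k A ≠ 0 ↔
      (Algebra.IsSeparable k (IsLocalRing.ResidueField A) ∧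
        ∀ p : ℕ, p.Prime → CharP k p → ¬ p ∣ (Module.length A A).toNat) := by
  classical
  let K := IsLocalRing.ResidueField A
  haveI : IsArtinianRing A := IsArtinianRing.of_finite k A
  haveI : IsNoetherianRing A := isNoetherian_of_tower k inferInstance
  -- the trace of a multiplication on a finite length module
  have key : ∀ (d : ℕ) (M : Type u) [AddCommGroup M] [Module A M] [Module k M] [IsScalarTower k A M]
      [Module.Finite k M], Module.finrank k M ≤ d → ∀ a : A,
      LinearMap.trace k M (DistribMulAction.toLinearMap k M a) =
        (Module.length A M).toNat • Algebra.trace k K (IsLocalRing.residue A a) := by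
    intro d
    induction d using Nat.strong_induction_on with
    | _ d ih =>
      intro M _ _ _ _ _ hd a
      rcases subsingleton_or_nontrivial M with hM | hM
      · rw [Module.length_eq_zero, ENat.toNat_zero, zero_smul, Subsingleton.elim (DistribMulAction.toLinearMap k M a) 0, map_zero]
      haveI : Module.Finite A M := Module.Finite.of_restrictScalars_finite k A M
      obtain ⟨N, hN⟩ := IsCoatomic.exists_coatom (α := Submodule A M)
      haveI : IsSimpleModule A (M ⧸ N) := isSimpleModule_iff_isCoatom.2 hN
      let N' : Submodule k M := N.restrictScalars k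
      have hN' : N' ≤ N'.comap (DistribMulAction.toLinearMap k M a) := fun x hx => N.smul_mem a hx
      have hlt : Module.finrank k N < Module.finrank k M := by
        have : N' ≠ ⊤ := fun h => hN.1 ((Submodule.restrictScalars_eq_top_iff k A M).1 h)
        exact Submodule.finrank_lt this
      haveI : Module.Finite k N := inferInstanceAs (Module.Finite k N')
      have h1 : LinearMap.trace k N' ((DistribMulAction.toLinearMap k M a).restrict hN') =
          (Module.length A N).toNat • Algebra.trace k K (IsLocalRing.residue A a) :=
        ih _ (lt_of_lt_of_le hlt hd) N le_rfl a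
      -- the simple quotient is the residue field
      obtain ⟨m, hm, ⟨e⟩⟩ := (isSimpleModule_iff_quot_maximal (R := A) (M := M ⧸ N)).1 inferInstance
      have hmax := IsLocalRing.eq_maximalIdeal hm
      subst hmax
      have h2 : LinearMap.trace k (M ⧸ N') (N'.mapQ N' (DistribMulAction.toLinearMap k M a) hN') =
          Algebra.trace k K (IsLocalRing.residue A a) := by
        let e₁ : (M ⧸ N') ≃ₗ[k] K :=
          (Submodule.Quotient.restrictScalarsEquiv k N).trans (e.restrictScalars k)
        rw [← LinearMap.trace_conj' _ e₁, Algebra.trace_apply]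
        congr 1
        refine LinearMap.ext fun z => ?_
        obtain ⟨z, rfl⟩ := e₁.surjective z
        obtain ⟨z, rfl⟩ := Submodule.Quotient.mk_surjective _ z
        rw [LinearEquiv.conj_apply_apply, LinearEquiv.symm_apply_apply, Submodule.mapQ_apply]
        change e (Submodule.Quotient.mk (a • z)) =
          Ideal.Quotient.mk (IsLocalRing.maximalIdeal A) a * e (Submodule.Quotient.mk z)
        rw [Submodule.Quotient.mk_smul, map_smul]
        generalize e (Submodule.Quotient.mk z) = c
        obtain ⟨c, rfl⟩ := Ideal.Quotient.mk_surjective c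
        rfl
      have hlen : (Module.length A M).toNat = (Module.length A N).toNat + 1 := by
        rw [Module.length_eq_add_of_exact N.subtype N.mkQ N.injective_subtype N.mkQ_surjective
          (LinearMap.exact_subtype_mkQ N), Module.length_eq_one A (M ⧸ N)]
        haveI : Module.Finite A N := Module.Finite.of_restrictScalars_finite k A N
        haveI : IsNoetherian A N := isNoetherian_of_tower k inferInstance
        haveI : IsArtinian A N := isArtinian_of_fg_of_artinian' 
        exact ENat.toNat_add Module.length_ne_top ENat.one_ne_top
      rw [trace_eq_restrict_add_mapQ (DistribMulAction.toLinearMap k M a) N' hN', h1, h2, hlen,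
        add_smul, one_smul]
  have htr : ∀ a, Algebra.trace k A a =
      (Module.length A A).toNat • Algebra.trace k K (IsLocalRing.residue A a) := fun a => by
    rw [Algebra.trace_apply, ← key _ A le_rfl a]
    rfl
  constructor
  · intro h
    obtain ⟨a, ha⟩ : ∃ a, Algebra.trace k A a ≠ 0 := by
      by_contra hc
      push Not at hc
      exact h (LinearMap.ext hc)
    rw [htr] at ha
    refine ⟨not_imp_comm.1 Algebra.trace_eq_zero_of_not_isSeparable ?_, fun p _ hp hdvd => ha ?_⟩
    · intro h0
      rw [h0] at ha
      simp at ha
    · haveI := hp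
      rw [nsmul_eq_mul, (CharP.cast_eq_zero_iff k p _).2 hdvd, zero_mul]
  · rintro ⟨hsep, hp⟩ h
    obtain ⟨c, hc⟩ := Algebra.trace_surjective k K 1
    obtain ⟨a, rfl⟩ := IsLocalRing.residue_surjective c
    have h1 := htr a
    rw [h, LinearMap.zero_apply, hc, nsmul_one] at h1
    have hpos : (Module.length A A).toNat ≠ 0 := fun h0 => by
      rcases (ENat.toNat_eq_zero).1 h0 with h0 | h0
      · exact absurd (Module.length_eq_zero_iff.1 h0) (not_subsingleton A)
      · exact Module.length_ne_top h0
    obtain ⟨p, hchar⟩ := CharP.exists k
    rcases CharP.char_is_prime_or_zero k p with hp' | rfl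
    · exact hp p hp' hchar ((CharP.cast_eq_zero_iff k p _).1 h1.symm)
    · exact hpos (Nat.eq_zero_of_zero_dvd ((CharP.cast_eq_zero_iff k 0 _).1 h1.symm))

end Groth.Agent.S2219
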