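import Groth.Statements.S2222
import Groth.Agent.Lib.QCN9.RegExt
-- import your own Groth.Agent.* helpers here

set_option autoImplicit false
set_option linter.style.haveILetI false
set_option backward.isDefEq.respectTransparency false
set_option maxHeartbeats 1600000
universe u
open CategoryTheory AlgebraicGeometry
attribute [local instance] HasDerivedCategory.standard
open QCohCat

namespace Groth.Agent.S2222

/-- Let X be a Noetherian scheme all of whose local rings are regular and whose underlying space has
Krull dimension d. (1) For coherent O_X-modules F and G, every morphism F -> G[n] in the derived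
category D(O_X) is zero when n > d (Ext^n_X(F, G) = 0). (2) For bounded objects K and L of D(O_X)
with coherent cohomology sheaves, if the cohomology sheaves of K vanish below degree a + d and those
of L vanish from degree a upward, every morphism K -> L is zero. -/
theorem result (X : Scheme.{u}) [IsNoetherian X]
    (hreg : Models.IsRegularScheme X) (d : ℕ) (hd : topologicalKrullDim X = d) :
    (∀ (F G : X.Modules), Coh.IsCoh F → Coh.IsCoh G → ∀ n : ℤ, (d : ℤ) < n →
        ∀ φ : DCoh.inD X F ⟶ (shiftFunctor (DCoh.D X) n).obj (DCoh.inD X G), φ = 0) ∧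
      ∀ (K L : DCoh.D X) (a cK bL : ℤ), DCoh.IsCohD K → DCoh.IsCohD L →
        DerivedCategory.IsGE K (a + d) → DerivedCategory.IsLE K cK →
        DerivedCategory.IsGE L bL → DerivedCategory.IsLE L (a - 1) →
        ∀ φ : K ⟶ L, φ = 0 := by
  refine ⟨fun F G _ hG n hn φ => ?_, fun K L a cK bL _ hL hK _ hLb hLa φ => ?_⟩
  · let e : (shiftFunctor (DCoh.D X) n).obj (DCoh.inD X G) ≅ (DerivedCategory.singleFunctor X.Modules (-n)).obj G :=
      ((DerivedCategory.singleFunctors X.Modules).shiftIso n (-n) 0 (by omega)).app G
    haveI : (DCoh.inD X F).IsGE 0 := inferInstanceAs (DerivedCategory.IsGE ((DerivedCategory.singleFunctor X.Modules 0).obj F) 0)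
    exact (cancel_mono e.hom).1 ((QCN9.hom_eq_zero_of_stalkID d G hG.1 (QCN9.stalkID_of_regular hreg d hd.le G) _ (-n)
      (DerivedCategory.TStructure.t.isGE_of_ge (DCoh.inD X F) (-n + d + 1) 0 (by omega)) _).trans Limits.zero_comp.symm)
  · haveI := hK
    haveI := hLa
    haveI : L.IsGE (a - ((a - bL).toNat : ℤ)) :=
      haveI : DerivedCategory.TStructure.t.IsGE L bL := hLb
      DerivedCategory.TStructure.t.isGE_of_ge L (a - ((a - bL).toNat : ℤ)) bL (by omega)
    exact QCN9.hom_eq_zero_of_gap hreg d hd.le K a (a - bL).toNat L (fun i => (hL i).1) inferInstance inferInstance φ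

end Groth.Agent.S2222
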