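import Groth.Statements.S2223
import Groth.Agent.Lib.TorsThick.Main
-- import your own Groth.Agent.* helpers here

set_option autoImplicit false
universe u
open CategoryTheory AlgebraicGeometry
open Models

namespace Groth.Agent.S2223

/-- Weakened form (special fibre instead of its reduction, which follows from the source): let R be a
discrete valuation ring with fraction field K and residue field k, C a smooth proper curve over K
with H^0(C, O_C) = K, and X a regular proper model of C. Let h be a positive integer prime to the
characteristic of k and L an invertible O_X-module whose h-th tensor power is trivial. If the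
pullback of L to the special fibre is trivial then L is trivial; i.e. Pic(X)[h] -> Pic(X_k)[h] is
injective. -/
theorem result (R : Type u) [CommRing R] [IsDomain R]
    [IsDiscreteValuationRing R] (C X : Scheme.{u})
    (f : C ⟶ Spec (CommRingCat.of (FractionRing R))) (p : X ⟶ Spec (CommRingCat.of R))
    (hC : Curve.IsSmoothProperCurve (FractionRing R) C f) (hH0 : IsIso f.appTop)
    (hX : Models.IsRegularProperModel R X p C f) (h : ℕ) (hh : 0 < h)
    (hchar : ∀ q : ℕ, q.Prime → CharP (IsLocalRing.ResidueField R) q → ¬ q ∣ h)
    (L : X.Modules) (hL : PicF.IsInvertible L)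
    (htors : Nonempty (CohB1.tensorPow L h ≅ Coh.structureModule X))
    (htriv : Nonempty ((Scheme.Modules.pullback
        (Limits.pullback.fst p (Spec.map (CommRingCat.ofHom
          (algebraMap R (IsLocalRing.ResidueField R)))))).obj L ≅
        Coh.structureModule (Models.specialFibre R X p))) :
    Nonempty (L ≅ Coh.structureModule X) := by
  refine Groth.Agent.TorsThick.trivial_of_redFibre hC hH0 hX h ?_ hL htors ?_
  · intro h0
    obtain ⟨q, hq⟩ := CharP.exists (IsLocalRing.ResidueField R)
    rcases CharP.char_is_prime_or_zero (IsLocalRing.ResidueField R) q with hp | rfl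
    · exact hchar q hp hq ((CharP.cast_eq_zero_iff (IsLocalRing.ResidueField R) q h).1 h0)
    · haveI := CharP.charP_to_charZero (IsLocalRing.ResidueField R)
      exact hh.ne' (Nat.cast_eq_zero.1 h0)
  · obtain ⟨ψ⟩ := htriv
    let q := Spec.map (CommRingCat.ofHom (algebraMap R (IsLocalRing.ResidueField R)))
    haveI : IsClosedImmersion q := IsClosedImmersion.spec_of_surjective _ IsLocalRing.residue_surjective
    haveI : IsClosedImmersion (Limits.pullback.fst p q) :=
      inferInstance
    have hker : (Limits.pullback.fst p q).ker ≤ (Models.redFibreIdeal R (Over.mk p)).subschemeι.ker := by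
      rw [Scheme.IdealSheafData.ker_subschemeι]
      refine Scheme.IdealSheafData.le_support_iff_le_vanishingIdeal.1 fun x hx => ?_
      exact Scheme.Hom.range_subset_ker_support _ ((Groth.Agent.ArInter.range_fst_fibre (X := Over.mk p)).ge hx)
    let w := IsClosedImmersion.lift (Limits.pullback.fst p q) (Models.redFibreIdeal R (Over.mk p)).subschemeι hker
    have hw : w ≫ Limits.pullback.fst p q = (Models.redFibreIdeal R (Over.mk p)).subschemeι := IsClosedImmersion.lift_fac _ _ hker
    exact ⟨(((Scheme.Modules.pullbackCongr hw.symm).app L) ≪≫ ((Scheme.Modules.pullbackComp w _).app L).symm ≪≫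
      (Scheme.Modules.pullback w).mapIso ψ ≪≫ PicLoc.pullbackStructureIso w)⟩

end Groth.Agent.S2223
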