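import Groth.Statements.S2224
import Groth.Agent.Lib.RelPCS8.FlatKernel

set_option autoImplicit false
universe u
open CategoryTheory AlgebraicGeometry
attribute [local instance] HasDerivedCategory.standard
open QCohCat

namespace Groth.Agent.S2224

open Groth.Agent Groth.Agent.RelPCS8
set_option backward.isDefEq.respectTransparency false
set_option linter.style.haveILetI false


/-- Case (2) with the kernel a single coherent module: let S be a Noetherian scheme, X -> S and Y -> S
of finite type, and K a coherent module on X x_S Y which is flat over X and whose support is proper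
over Y. Assuming the derived functors L pr_1^*, - tensor^L K and R pr_2,* exist (assumed as unproved
hypotheses), the Fourier-Mukai transform R pr_2,* (L pr_1^* M tensor^L K) of any bounded object M of
D(O_X) with coherent cohomology sheaves is a bounded object of D(O_Y) with coherent cohomology
sheaves. -/
theorem result {S X Y : Scheme.{u}} [IsNoetherian S]
    (a : X ⟶ S) (b : Y ⟶ S) [LocallyOfFiniteType a] [QuasiCompact a] [LocallyOfFiniteType b]
    [QuasiCompact b] (K : (Limits.pullback a b).Modules) (hK : Coh.IsCoh K)
    (hflat : FlatMod.IsFlatOver (Limits.pullback.fst a b) K)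
    (hsupp : ClSub.IsProperOver (Limits.pullback.snd a b) (CohB1.support K))
    [DCoh.HasLpull (Limits.pullback.fst a b)] [DCoh.HasLTensorMod K]
    [DCoh.HasRpush (Limits.pullback.snd a b)]
    (M : DCoh.D X) (hM : DCoh.IsCohD M) (m n : ℤ) (hMge : DerivedCategory.IsGE M m)
    (hMle : DerivedCategory.IsLE M n) :
    DCoh.IsCohD ((DCoh.Rpush (Limits.pullback.snd a b)).obj
        ((DCoh.LTensorMod K).obj ((DCoh.Lpull (Limits.pullback.fst a b)).obj M))) ∧
      ∃ m' n' : ℤ, DerivedCategory.IsGE ((DCoh.Rpush (Limits.pullback.snd a b)).obj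
          ((DCoh.LTensorMod K).obj ((DCoh.Lpull (Limits.pullback.fst a b)).obj M))) m' ∧
        DerivedCategory.IsLE ((DCoh.Rpush (Limits.pullback.snd a b)).obj
          ((DCoh.LTensorMod K).obj ((DCoh.Lpull (Limits.pullback.fst a b)).obj M))) n' := by
  haveI : IsLocallyNoetherian X := LocallyOfFiniteType.isLocallyNoetherian a
  haveI : IsLocallyNoetherian Y := LocallyOfFiniteType.isLocallyNoetherian b
  haveI : CompactSpace X := QuasiCompact.compactSpace_of_compactSpace a
  haveI : CompactSpace Y := QuasiCompact.compactSpace_of_compactSpace b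
  haveI : IsNoetherian X := {}
  haveI : IsNoetherian Y := {}
  haveI : IsNoetherian (Limits.pullback a b) := LocImm12.isNoetherian_pullback a b
  let p := Limits.pullback.fst a b
  let q := Limits.pullback.snd a b
  let E := (DCoh.LTensorMod K).obj ((DCoh.Lpull p).obj M)
  have e : ∀ i, Nonempty (DCoh.HD E i ≅ (FlatKernel.G p K).obj (DCoh.HD M i)) :=
    fun i => FlatKernel.nonempty_HD_iso p K hflat M i
  have hc : DCoh.IsCohD E := fun i => RHom.mid_coh.iso (e i).some.symm (FlatKernel.isCoh_G p K (hM i) hK)
  have hz : ∀ i, (i < m ∨ n < i) → Limits.IsZero (DCoh.HD E i) := fun i hi => by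
    refine Limits.IsZero.of_iso ((FlatKernel.G p K).map_isZero ?_) (e i).some
    rcases hi with hi | hi
    · exact DerivedCategory.isZero_of_isGE M m i hi
    · exact DerivedCategory.isZero_of_isLE M n i hi
  haveI hge : E.IsGE m := (DerivedCategory.isGE_iff _ m).2 fun i hi => hz i (Or.inl hi)
  haveI hle : E.IsLE n := (DerivedCategory.isLE_iff _ n).2 fun i hi => hz i (Or.inr hi)
  have hs : ∀ i, ClSub.IsProperOver q (CohB1.support (DCoh.HD E i)) := fun i => by
    refine ClSub24.isProperOver_subset q ?_ (M1.isClosed_support (hc i).2) hsupp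
    have h := (K0Coh.serre_supported (X := Limits.pullback a b) (CohB1.support K)).iso (e i).some.symm
      ⟨FlatKernel.isCoh_G p K (hM i) hK, FlatKernel.support_G_subset p K _⟩
    exact h.2
  obtain ⟨b', hb'⟩ := DPush9.exists_isLE_rpush q E m n hge hle hc hs
  exact ⟨DPush9.isCohD_rpush q E m hge hc hs, m, b', DPush.isGE_rpush q E m hge, hb'⟩


end Groth.Agent.S2224
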