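import Groth.Statements.S2225
import Groth.Agent.Lib.ArInter.Model
import Groth.Agent.Lib.FBase12.LengthBC
import Groth.Agent.S0342
import Groth.Agent.S0343
import Groth.Agent.Lib.ArInter.Fibre
import Groth.Agent.Lib.Goren15.Equiv

set_option autoImplicit false
universe u
open CategoryTheory AlgebraicGeometry
open Models

namespace Groth.Agent.S2225

/-- Part (1), for the closed fibre: let R be a discrete valuation ring with fraction field K, C a smooth
proper curve over K and X a regular model of C over R (flat, of finite type, all local rings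
regular). Then every local ring of the special fibre X_k is a Gorenstein local ring; together with
flatness and regularity of the generic fibre this says X -> Spec R is a Gorenstein morphism. -/
theorem result (R : Type u) [CommRing R] [IsDomain R]
    [IsDiscreteValuationRing R] (C X : Scheme.{u})
    (f : C ⟶ Spec (CommRingCat.of (FractionRing R))) (p : X ⟶ Spec (CommRingCat.of R))
    (hC : Curve.IsSmoothProperCurve (FractionRing R) C f) (hX : Models.IsModel R X p C f)
    (hreg : Models.IsRegularScheme X) (x : ↥(Models.specialFibre R X p)) :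
    LocCoh.IsGorensteinLocalRing ((Models.specialFibre R X p).presheaf.stalk x) := by
  let X' : Over (Spec (CommRingCat.of R)) := Over.mk p
  have hP := Groth.Agent.ArInter.isPre_of_isModel hC hX hreg
  haveI : IsIntegral X := hP.integral
  obtain ⟨π, hπ⟩ := IsDiscreteValuationRing.exists_irreducible R
  let q := Spec.map (CommRingCat.ofHom (algebraMap R (IsLocalRing.ResidueField R)))
  haveI : IsClosedImmersion q := IsClosedImmersion.spec_of_surjective _ IsLocalRing.residue_surjective
  let i : Models.specialFibre R X p ⟶ X := Limits.pullback.fst p q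
  let j : Models.specialFibre R X p ⟶ Spec (CommRingCat.of (IsLocalRing.ResidueField R)) := Limits.pullback.snd p q
  have hpb : IsPullback i j p q := IsPullback.of_hasPullback p q
  haveI : IsClosedImmersion i := MorphismProperty.IsStableUnderBaseChange.of_isPullback hpb.flip inferInstance
  let y : PrimeSpectrum R := q (j x)
  have hy : y.asIdeal = IsLocalRing.maximalIdeal R := by
    haveI := (j x : PrimeSpectrum (IsLocalRing.ResidueField R)).isPrime
    show Ideal.comap (IsLocalRing.residue R) (j x : PrimeSpectrum (IsLocalRing.ResidueField R)).asIdeal = _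
    rw [(Ideal.eq_bot_or_top (j x : PrimeSpectrum (IsLocalRing.ResidueField R)).asIdeal).resolve_right
      (Ideal.IsPrime.ne_top inferInstance), ← RingHom.ker_eq_comap_bot, IsLocalRing.ker_residue]
  let A := X.presheaf.stalk (i x)
  let t : A := Models.stalkHom R X' (i x) π
  let σ := Groth.Agent.FBase12.stalkTo p (i x) (y := q (j x))
    (by rw [← Scheme.Hom.comp_apply, ← Scheme.Hom.comp_apply, hpb.w])
  let ι₀ : R →+* (Spec (CommRingCat.of R)).presheaf.stalk (q (j x)) :=
    ((Spec (CommRingCat.of R)).presheaf.germ ⊤ (q (j x)) trivial).hom.comp (Scheme.ΓSpecIso (CommRingCat.of R)).inv.hom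
  have hι : σ.comp ι₀ = Models.stalkHom R X' (i x) := by
    ext r
    show p.stalkMap (i x) ((Spec (CommRingCat.of R)).presheaf.stalkSpecializes _
      ((Spec (CommRingCat.of R)).presheaf.germ ⊤ (q (j x)) trivial _)) = _
    erw [TopCat.Presheaf.germ_stalkSpecializes_apply]
    exact Scheme.Hom.germ_stalkMap_apply p ⊤ (i x) trivial _
  have hker : RingHom.ker (i.stalkMap x).hom = Ideal.span {t} := by
    apply le_antisymm
    · refine (Groth.Agent.FBase12.ker_stalkMap_pullback_fst p q hpb x).trans ?_
      refine Ideal.map_le_iff_le_comap.mpr fun a ha => ?_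
      have hm : a ∈ IsLocalRing.maximalIdeal _ := fun hu => by
        exact (hu.map (q.stalkMap (j x)).hom).ne_zero (RingHom.mem_ker.mp ha)
      letI : Algebra R ((Spec (CommRingCat.of R)).presheaf.stalk (q (j x))) := ι₀.toAlgebra
      haveI : IsLocalization.AtPrime ((Spec (CommRingCat.of R)).presheaf.stalk (q (j x))) y.asIdeal :=
        AlgebraicGeometry.StructureSheaf.IsLocalization.to_stalk R y
      have hmax := IsLocalization.AtPrime.map_eq_maximalIdeal y.asIdeal
        ((Spec (CommRingCat.of R)).presheaf.stalk (q (j x)))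
      rw [hy, (IsDiscreteValuationRing.irreducible_iff_uniformizer π).mp hπ, Ideal.map_span, Set.image_singleton] at hmax
      rw [← hmax] at hm
      obtain ⟨c, rfl⟩ := Ideal.mem_span_singleton'.mp hm
      show σ (c * ι₀ π) ∈ Ideal.span {t}
      rw [map_mul]
      exact Ideal.mul_mem_left _ _ (Ideal.mem_span_singleton'.mpr
        ⟨1, (one_mul t).trans (RingHom.congr_fun hι π).symm⟩)
    · rw [Ideal.span_singleton_le_iff_mem, RingHom.mem_ker]
      show i.stalkMap x (X.presheaf.germ ⊤ (i x) trivial (Coh.toGlobal p π)) = 0
      refine (Scheme.Hom.germ_stalkMap_apply i ⊤ x trivial (Coh.toGlobal p π)).trans ?_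
      have h0 : i.app ⊤ (Coh.toGlobal p π) = 0 := by
        have h1 := congrArg (fun φ => ((Scheme.ΓSpecIso (CommRingCat.of R)).inv ≫ φ.appTop).hom π) hpb.w
        simp only [Scheme.Hom.comp_appTop, q] at h1
        rw [← Scheme.ΓSpecIso_inv_naturality_assoc] at h1
        refine h1.trans ?_
        show j.appTop ((Scheme.ΓSpecIso _).inv (algebraMap R (IsLocalRing.ResidueField R) π)) = 0
        rw [show algebraMap R (IsLocalRing.ResidueField R) π = 0 from
          Ideal.Quotient.eq_zero_iff_mem.mpr hπ.not_isUnit, map_zero, map_zero]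
      rw [h0, map_zero]
  haveI : IsRegularLocalRing A := hreg (i x)
  haveI := Groth.Agent.RegLoc.isDomain A
  have htm : t ∈ IsLocalRing.maximalIdeal A := fun hu => by
    exact (hu.map (i.stalkMap x).hom).ne_zero (RingHom.mem_ker.mp (hker ▸ Ideal.mem_span_singleton_self t))
  have ht0 : t ≠ 0 := fun h0 => by
    haveI : Nonempty (⊤ : X.Opens) := ⟨⟨i x, trivial⟩⟩
    have h1 := germ_injective_of_isIntegral X (i x) (U := ⊤) trivial
      (show X.presheaf.germ ⊤ (i x) trivial (Coh.toGlobal p π) = X.presheaf.germ ⊤ (i x) trivial 0 from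
        h0.trans (map_zero _).symm)
    refine Groth.Agent.ArInter.glob_res_ne_zero hP hπ.ne_zero ⊤ ?_
    rw [show Groth.Agent.ArInter.glob (Over.mk p) π = (0 : Γ(X, ⊤)) from h1, map_zero]
  haveI : IsNoetherianRing A := inferInstance
  haveI : LocCoh.IsGorensteinLocalRing (A ⧸ Ideal.span {t}) :=
    (Groth.Agent.S0343.result A t htm (fun a b h => mul_left_cancel₀ ht0 h)).mp
      (Groth.Agent.S0342.result A)
  exact Groth.Agent.Goren15.isGorensteinLocalRing_of_ringEquiv ((Ideal.quotEquivOfEq hker.symm).trans
    (RingHom.quotientKerEquivOfSurjective (i.stalkMap_surjective x)))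

end Groth.Agent.S2225
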