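import Groth.Statements.S2231
import Groth.Agent.Lib.DGen9.PCPush
import Groth.Agent.Lib.DGen9.Affine
import Groth.Agent.Lib.DPerf.RelAmp
import Groth.Agent.Lib.KFlat.LTensorPerfect
import Groth.Agent.Lib.KFlat.LpullPC
import Groth.Agent.Lib.RHom.TensorRes
import Groth.Agent.Lib.RHom.Exist

set_option autoImplicit false
universe u
open CategoryTheory AlgebraicGeometry
attribute [local instance] HasDerivedCategory.standard
open QCohCat

namespace Groth.Agent.S2231


/-- Case (3): let X -> S be proper, flat and of finite presentation, Y -> S arbitrary, and K a complex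
of modules on X x_S Y which is perfect. Assuming the derived functors L pr_1^*, - tensor^L K and R
pr_2,* exist (unproved hypotheses carried as binders), the Fourier-Mukai transform of a perfect
object of D(O_X) is a perfect object of D(O_Y). -/
theorem result {S X Y : Scheme.{u}} (a : X ⟶ S)
    (b : Y ⟶ S) [IsProper a] [Flat a] [LocallyOfFinitePresentation a]
    (K : CochainComplex (Limits.pullback a b).Modules ℤ)
    (hK : DCoh.IsPerfect (DCoh.toD (Limits.pullback a b) K))
    [DCoh.HasLpull (Limits.pullback.fst a b)] [DCoh.HasLTensorCx K]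
    [DCoh.HasRpush (Limits.pullback.snd a b)] (M : DCoh.D X) (hM : DCoh.IsPerfect M) :
    DCoh.IsPerfect ((DCoh.Rpush (Limits.pullback.snd a b)).obj
        ((DCoh.LTensorCx K).obj ((DCoh.Lpull (Limits.pullback.fst a b)).obj M))) := by
  obtain ⟨K', q, hK', hq⟩ := RHom.exists_kflat_res K
  haveI := hq
  haveI : DCoh.HasLTensorCx K' := KFlat.Sch.hasLTensorCx K'
  haveI := RHom.isIso_ltMap q
  have hp : DCoh.IsPerfect ((DCoh.LTensorCx K).obj ((DCoh.Lpull (Limits.pullback.fst a b)).obj M)) :=
    DGen9.isPerfect_of_iso ((asIso (RHom.ltMap q)).app _)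
      (KFlat.Sch.isPerfect_lTensor K' hK' (DGen9.isPerfect_of_iso (asIso (DerivedCategory.Q.map q)).symm hK) _
        (KFlat.Sch.isPerfect_lpull (Limits.pullback.fst a b) hM))
  exact PerfPush9.isPerfect_rpush_relPerf (Limits.pullback.snd a b) _
    (fun m => DGen9.isPseudoCoherentD_of_isPerfect hp m) (DPerf.locHasFiniteRelTorDim_of_isPerfect _ hp)


end Groth.Agent.S2231
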