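import Groth.Statements.S2232
import Groth.Agent.Lib.RelPCS8.TensorPerf

set_option autoImplicit false
universe u
open CategoryTheory AlgebraicGeometry
attribute [local instance] HasDerivedCategory.standard
open QCohCat

namespace Groth.Agent.S2232

open Groth.Agent Groth.Agent.RelPCS8
set_option backward.isDefEq.respectTransparency false
set_option linter.style.haveILetI false


/-- Case (3): let S be Noetherian, X -> S and Y -> S of finite type with all local rings of X regular,
and K a bounded complex of modules on X x_S Y with coherent cohomology sheaves whose supports are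
proper over Y. Assuming the derived functors L pr_1^*, - tensor^L K and R pr_2,* exist (unproved
hypotheses carried as binders), the Fourier-Mukai transform of a bounded object of D(O_X) with
coherent cohomology sheaves is a bounded object of D(O_Y) with coherent cohomology sheaves. -/
theorem result {S X Y : Scheme.{u}} [IsNoetherian S]
    (a : X ⟶ S) (b : Y ⟶ S) [LocallyOfFiniteType a] [QuasiCompact a] [LocallyOfFiniteType b]
    [QuasiCompact b] (hreg : Models.IsRegularScheme X)
    (K : CochainComplex (Limits.pullback a b).Modules ℤ)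
    (hKcoh : DCoh.IsCohD (DCoh.toD (Limits.pullback a b) K)) (kₗ kᵤ : ℤ)
    (hKge : DerivedCategory.IsGE (DCoh.toD (Limits.pullback a b) K) kₗ)
    (hKle : DerivedCategory.IsLE (DCoh.toD (Limits.pullback a b) K) kᵤ)
    (hsupp : ∀ i : ℤ, ClSub.IsProperOver (Limits.pullback.snd a b)
      (CohB1.support (DCoh.HD (DCoh.toD (Limits.pullback a b) K) i)))
    [DCoh.HasLpull (Limits.pullback.fst a b)] [DCoh.HasLTensorCx K]
    [DCoh.HasRpush (Limits.pullback.snd a b)]
    (M : DCoh.D X) (hM : DCoh.IsCohD M) (m n : ℤ) (hMge : DerivedCategory.IsGE M m)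
    (hMle : DerivedCategory.IsLE M n) :
    DCoh.IsCohD ((DCoh.Rpush (Limits.pullback.snd a b)).obj
        ((DCoh.LTensorCx K).obj ((DCoh.Lpull (Limits.pullback.fst a b)).obj M))) ∧
      ∃ m' n' : ℤ, DerivedCategory.IsGE ((DCoh.Rpush (Limits.pullback.snd a b)).obj
        ((DCoh.LTensorCx K).obj ((DCoh.Lpull (Limits.pullback.fst a b)).obj M))) m' ∧
        DerivedCategory.IsLE ((DCoh.Rpush (Limits.pullback.snd a b)).obj
        ((DCoh.LTensorCx K).obj ((DCoh.Lpull (Limits.pullback.fst a b)).obj M))) n' := by
  haveI : IsLocallyNoetherian X := LocallyOfFiniteType.isLocallyNoetherian a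
  haveI : IsLocallyNoetherian Y := LocallyOfFiniteType.isLocallyNoetherian b
  haveI : CompactSpace X := QuasiCompact.compactSpace_of_compactSpace a
  haveI : CompactSpace Y := QuasiCompact.compactSpace_of_compactSpace b
  haveI : IsNoetherian X := {}
  haveI : IsNoetherian Y := {}
  haveI : IsNoetherian (Limits.pullback a b) := LocImm12.isNoetherian_pullback a b
  have hMp : DCoh.IsPerfect M := DPerf.isPerfect_iff_approx.2
    (DPerf.isPerfect_of_regular hreg (n + 1 - m).toNat m M hMge
      (fun i hi => DerivedCategory.isZero_of_isLE M n i (by omega)) hM)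
  exact TensorPerf.rpush_lt_bd (Limits.pullback.snd a b) K hKcoh kₗ kᵤ hsupp _ (KFlat.Sch.isPerfect_lpull _ hMp)


end Groth.Agent.S2232
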