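import Groth.Statements.S2233
import Groth.Agent.S7246
import Groth.Agent.Lib.RelPCS8.TensorAmp
import Groth.Agent.Lib.RelPCS8.TorRpush
import Groth.Agent.Lib.RelPCS8.FlatTerms
import Groth.Agent.Lib.RelPCS8.TensorPerf
import Groth.Agent.Lib.DGen9.Affine
import Groth.Agent.Lib.KFlat.LpullPC

set_option autoImplicit false
universe u
open CategoryTheory CategoryTheory.Limits AlgebraicGeometry
attribute [local instance] HasDerivedCategory.standard
open QCohCat

namespace Groth.Agent.S2233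


/-- Case (2): let X -> S be quasi-compact, quasi-separated and locally of finite presentation, Y -> S
arbitrary, and K a bounded complex of finitely presented modules on X x_S Y, each flat over Y and
with support proper over Y. Assuming the derived functors L pr_1^*, - tensor^L K and R pr_2,* exist
(unproved hypotheses carried as binders), the Fourier-Mukai transform of a perfect object of D(O_X)
is a perfect object of D(O_Y). -/
theorem result {S X Y : Scheme.{u}} (a : X ⟶ S)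
    (b : Y ⟶ S) [QuasiCompact a] [QuasiSeparated a] [LocallyOfFinitePresentation a]
    (K : CochainComplex (Limits.pullback a b).Modules ℤ) (kₗ kᵤ : ℤ)
    (hKb : DCoh.VanishesOutside K kₗ kᵤ) (hKfp : ∀ i : ℤ, CohB1.IsFP (K.X i))
    (hKflat : ∀ i : ℤ, FlatMod.IsFlatOver (Limits.pullback.snd a b) (K.X i))
    (hKsupp : ∀ i : ℤ, ClSub.IsProperOver (Limits.pullback.snd a b) (CohB1.support (K.X i)))
    [DCoh.HasLpull (Limits.pullback.fst a b)] [DCoh.HasLTensorCx K]
    [DCoh.HasRpush (Limits.pullback.snd a b)] (M : DCoh.D X) (hM : DCoh.IsPerfect M) :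
    DCoh.IsPerfect ((DCoh.Rpush (Limits.pullback.snd a b)).obj
        ((DCoh.LTensorCx K).obj ((DCoh.Lpull (Limits.pullback.fst a b)).obj M))) := by
  let P := (DCoh.Lpull (Limits.pullback.fst a b)).obj M
  let f := Limits.pullback.snd a b
  have hP : DCoh.IsPerfect P := KFlat.Sch.isPerfect_lpull (Limits.pullback.fst a b) hM
  have hPpc : ∀ m : ℤ, DCoh.IsPseudoCoherentD m P := fun m => DGen9.isPseudoCoherentD_of_isPerfect hP m
  have hPq : DCoh.IsQCohD P := DGen9.isQCohD_of_isPerfect hP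
  have hKq : DCoh.IsQCohD (DCoh.toD _ K) := fun i =>
    M1.isQCoh_of_isIso ((DerivedCategory.homologyFunctorFactors _ i).app K).symm
      (DPerf.isQCoh_homology (fun k => M1.isFP_isQCoh (hKfp k)) i)
  have hq : DCoh.IsQCohD ((DCoh.LTensorCx K).obj P) := DQC.isQCohD_lTensorCx K hKq hPq
  obtain ⟨R, q, hR, hqR⟩ := RHom.exists_kflat_res K
  haveI := hqR
  obtain ⟨F, hF, ⟨eF⟩⟩ := KFlat.Sch.exists_adapted_rep P
  obtain ⟨t⟩ := KFlat.Sch.nonempty_lTensorCxObjIso K F hF.1
  haveI : QuasiIso (((KFlat.tcx (KFlat.Sch.TX (Limits.pullback a b))).map q).app F) := hF.1.quasiIso_map₁ q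
  let W := ((KFlat.tcx (KFlat.Sch.TX (Limits.pullback a b))).obj
    (((Scheme.Modules.pullback (𝟙 (Limits.pullback a b))).mapHomologicalComplex (ComplexShape.up ℤ)).obj R)).obj F
  let eW : DCoh.toD _ W ≅ (DCoh.LTensorCx K).obj P :=
    DerivedCategory.Q.mapIso (((KFlat.tcx (KFlat.Sch.TX (Limits.pullback a b))).mapIso
      ((NatIso.mapHomologicalComplex (Scheme.Modules.pullbackId (Limits.pullback a b)) (ComplexShape.up ℤ)).app R ≪≫
        (Functor.mapHomologicalComplexIdIso _ (ComplexShape.up ℤ)).app R)).app F) ≪≫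
      asIso (DerivedCategory.Q.map (((KFlat.tcx (KFlat.Sch.TX (Limits.pullback a b))).map q).app F)) ≪≫
      DerivedCategory.Q.mapIso (RHom.commCx K F) ≪≫ t.symm ≪≫ (DCoh.LTensorCx K).mapIso eF
  refine DPerf.isPerfect_of_pc_locFlat (fun m => DPerf.approx_of_isPseudoCoherentD
    (S7246.result f P hPpc K ⟨kᵤ, fun i hi => hKb i (Or.inr hi)⟩ hKfp hKflat hKsupp m)) fun y => ?_
  obtain ⟨V, a', b', hy, hV⟩ := RelPCS8.TorRpush.locTA_rpush f (𝟙 Y) f (Category.comp_id f) hq (fun x => by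
    obtain ⟨U, m, n, hxU, -, hU⟩ := DPerf.exists_flatAmplitude_of_isPerfect hP x
    refine ⟨U, m + kₗ, n + kᵤ, hxU, fun x' hx' => ?_⟩
    let z : (U : Scheme.{u}) := ⟨x', hx'⟩
    obtain ⟨I, hI, ⟨eI⟩⟩ := KInjLib.exists_iso_kInjective ((DPerf.resD U.ι).obj P)
    obtain ⟨G, hGv, hGf, ⟨eG⟩⟩ := hU
    have hI' : DerSch.HasTorAmplitude (𝟙 (U : Scheme.{u})) m n I :=
      RelPCS8.StalkId.torAmp_stalks_of_flatAmplitude ⟨G, hGv, hGf, ⟨eG ≪≫ eI⟩⟩
    have hz : DerSch.HasTorAmplitudeAt (U.ι ≫ 𝟙 _) m n I z := by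
      rw [show U.ι ≫ 𝟙 (Limits.pullback a b) = 𝟙 (U : Scheme.{u}) ≫ U.ι by simp]
      exact (RelPCS8.TorMV.torAmplitudeAt_comp_iff (𝟙 _) U.ι z (RelPCS8.TorMV.bijective_stalkMap U.ι _) m n I).2 (hI' z)
    have hx : DRing.HasTorAmplitudeIn ((Limits.pullback a b).presheaf.stalk ((𝟙 (Limits.pullback a b) : _ ⟶ _).base x')) m n
        ((RelPCS8.TorMV.St (𝟙 (Limits.pullback a b)) x').obj P) :=
      (RelPCS8.TorRpush.ta_at_res (𝟙 (Limits.pullback a b)) U.ι z).1 (RelPCS8.StalkTor.hasTorAmplitudeIn_congr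
        (((DerSch.stalkOver (U.ι ≫ 𝟙 _) z).mapDerivedCategoryFactors.app I).symm ≪≫
          (RelPCS8.TorMV.St (U.ι ≫ 𝟙 _) z).mapIso eI.symm) hz)
    have hxF : DerSch.HasTorAmplitudeAt (𝟙 (Limits.pullback a b)) m n F x' := RelPCS8.StalkTor.hasTorAmplitudeIn_congr
      ((RelPCS8.TorMV.St (𝟙 _) x').mapIso eF.symm ≪≫ (DerSch.stalkOver (𝟙 _) x').mapDerivedCategoryFactors.app F) hx
    have hW := RelPCS8.TensorAmp.amp_stalk (𝟙 (Limits.pullback a b)) f hR (asIso (DerivedCategory.Q.map q)) F x' hxF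
      (RelPCS8.hasTorAmplitude_of_flat_terms K kₗ kᵤ hKb hKflat x')
    rw [Category.id_comp] at hW
    exact RelPCS8.StalkTor.hasTorAmplitudeIn_congr
      (((DerSch.stalkOver f x').mapDerivedCategoryFactors.app W).symm ≪≫ (RelPCS8.TorMV.St f x').mapIso eW) hW) y
  exact ⟨V, a', b', hy, RelPCS8.TorRpush.flatAmplitude_res hV⟩


end Groth.Agent.S2233
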