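import Groth.Statements.S2329
import Groth.Agent.Lib.RelAmple18.Ops
import Groth.Agent.Lib.RelAmple18.Generation

set_option autoImplicit false
universe u
open CategoryTheory CategoryTheory.Limits AlgebraicGeometry
open EGA2

namespace Groth.Agent.S2329

/-- Let X be a quasi-compact separated scheme, L an ample invertible module and L' an invertible module.
Then there is n₀ > 0 such that L^{⊗n} ⊗ L' is ample and globally generated for every n ≥ n₀. -/
theorem result (X : Scheme.{u}) [CompactSpace X] [X.IsSeparated] (L L' : X.Modules) (hL : CohB1.IsAmple L) (hL' : PicF.IsInvertible L') :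
    ∃ n₀ : ℕ, 0 < n₀ ∧ ∀ n, n₀ ≤ n →
      CohB1.IsAmple (CohB1.tensorMod (CohB1.tensorPow L n) L') ∧ Curv2.IsGloballyGenerated (CohB1.tensorMod (CohB1.tensorPow L n) L') := by
  obtain ⟨N₀, hN⟩ := Groth.Agent.RA.exists_gen_all hL hL'
  refine ⟨N₀ + 1, by omega, fun n hn => ?_⟩
  have hg : ∀ m, N₀ ≤ m → ∀ x : X, ∃ t : Coh.structureModule X ⟶ CohB1.tensorMod (CohB1.tensorPow L m) L',
      x ∈ CohB1.genLocus _ t := fun m hm x => by
    obtain ⟨t, ht⟩ := hN m hm x
    exact ⟨t ≫ (Groth.Agent.M2.tensorComm _ _).hom, by rwa [Groth.Agent.Amp.genLocus_comp_iso]⟩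
  refine ⟨?_, Groth.Agent.RA.isGloballyGenerated_of_gen
    (Groth.Agent.M2.isInvertible_tensor (Groth.Agent.M2.isInvertible_tensorPow hL.1 n) hL') (hg n (by omega))⟩
  obtain ⟨m, rfl⟩ := Nat.exists_eq_add_of_le (show 1 ≤ n by omega)
  have h := Groth.Agent.Amp.isAmple_tensor
    (Groth.Agent.M2.isInvertible_tensor (Groth.Agent.M2.isInvertible_tensorPow hL.1 m) hL') hL fun x => by
    obtain ⟨t, ht⟩ := hg m (by omega) x
    exact ⟨0, _, Groth.Agent.Amp.hasSec_of_iso (Groth.Agent.M2.tensorPowOne _).symm t, ht⟩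
  refine Groth.Agent.Amp.isAmple_of_iso ?_ h
  exact (Groth.Agent.M2.tensorAssoc _ _ _).symm ≪≫ Groth.Agent.M2.tensorIso
    (Groth.Agent.M2.tensorIso (Groth.Agent.M2.tensorPowOne L).symm (Iso.refl _) ≪≫
      (Groth.Agent.M2.tensorPowAdd L 1 m).symm) (Iso.refl L')

end Groth.Agent.S2329
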