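import Groth.Statements.S2335
import Mathlib
import Groth.Agent.Lib.DVRVal.Criterion

set_option autoImplicit false
universe u
open CategoryTheory CategoryTheory.Limits AlgebraicGeometry
open EGA2

namespace Groth.Agent.S2335

/-- Let Y be locally Noetherian and f : X → Y of finite type. Then f is proper if and only if for every
discrete valuation ring A with fraction field K and every commutative square Spec K → X, Spec A → Y,
there is exactly one morphism Spec A → X making both triangles commute. -/
theorem result {X Y : Scheme.{u}} [IsLocallyNoetherian Y] (f : X ⟶ Y) [LocallyOfFiniteType f] [QuasiCompact f] :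
    IsProper f ↔ ∀ (A : Type u) [CommRing A] [IsDomain A] [IsDiscreteValuationRing A] (x : (Spec (CommRingCat.of (FractionRing A))) ⟶ X) (y : (Spec (CommRingCat.of A)) ⟶ Y),
      x ≫ f = (Spec.map (CommRingCat.ofHom (algebraMap A (FractionRing A)))) ≫ y → ∃! l : (Spec (CommRingCat.of A)) ⟶ X, l ≫ f = y ∧ (Spec.map (CommRingCat.ofHom (algebraMap A (FractionRing A)))) ≫ l = x := by
  constructor
  · intro hf A _ _ _ x y hxy
    have hv : ValuativeCriterion f := by
      have := (IsProper.eq_valuativeCriterion ▸ hf :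
        (ValuativeCriterion ⊓ @QuasiCompact ⊓ @QuasiSeparated ⊓ @LocallyOfFiniteType) f)
      exact this.1.1.1
    let S : ValuativeCommSq f :=
      { R := A, K := FractionRing A, i₁ := x, i₂ := y, commSq := ⟨hxy⟩ }
    obtain ⟨⟨⟨l₀⟩, hu⟩⟩ := hv S
    refine ⟨l₀.l, ⟨l₀.fac_right, l₀.fac_left⟩, fun l hl => ?_⟩
    exact congrArg CommSq.LiftStruct.l (hu ⟨l, hl.2, hl.1⟩)
  · intro H
    haveI : IsSeparated f := DVRVal.isSeparated_of_dvr f fun A _ _ _ g₁ g₂ hg hK =>
      (H A (Spec.map (CommRingCat.ofHom (algebraMap A (FractionRing A))) ≫ g₁) (g₁ ≫ f)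
        (by rw [Category.assoc])).unique ⟨rfl, rfl⟩ ⟨hg.symm, hK.symm⟩
    haveI : UniversallyClosed f := (DVRVal.dvrExistence_of_fractionRing fun A _ _ _ x y hxy =>
      (H A x y hxy).exists).universallyClosed
    exact { }

end Groth.Agent.S2335
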