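import Groth.Statements.S2342
import Mathlib
import Groth.Agent.S4439

set_option autoImplicit false
universe u
open CategoryTheory CategoryTheory.Limits AlgebraicGeometry
open EGA2

namespace Groth.Agent.S2342

/-- Let A be a valuation ring with Y = Spec A, X an integral separated scheme and f : X → Y a morphism
which is closed as a map of topological spaces, such that the fibre over the generic point of Y
consists of exactly one point x and the induced map from the residue field of the generic point of Y
to that of x is bijective. Then f is an isomorphism. -/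
theorem result (A : Type u) [CommRing A] [IsDomain A] [ValuationRing A]
    (X : Scheme.{u}) [IsIntegral X] [X.IsSeparated] (f : X ⟶ Spec (CommRingCat.of A)) (hf : IsClosedMap f.base)
    (x : X) (hx : f.base ⁻¹' {genericPoint (Spec (CommRingCat.of A))} = {x})
    (hres : Function.Bijective (f.residueFieldMap x).hom) : IsIso f := by
  have hgenA : genericPoint (Spec (CommRingCat.of A)) = (⊥ : PrimeSpectrum A) :=
    genericPoint_eq_bot_of_affine _
  have hfx : f x = genericPoint (Spec (CommRingCat.of A)) :=
    Set.eq_of_mem_singleton (show f x ∈ ({genericPoint (Spec (CommRingCat.of A))} : Set _) from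
      (hx.ge (Set.mem_singleton x) : x ∈ f.base ⁻¹' {genericPoint (Spec (CommRingCat.of A))}))
  have hξ : x = genericPoint X := by
    have h1 : f (genericPoint X) ⤳ f x := (genericPoint_specializes x).map f.continuous
    have h2 : f (genericPoint X) = genericPoint (Spec (CommRingCat.of A)) :=
      ((hfx ▸ h1).antisymm (genericPoint_specializes _)).eq
    exact (Set.eq_of_mem_singleton (hx.le h2)).symm
  let p : PrimeSpectrum A := f x
  letI alg : Algebra A ((Spec (CommRingCat.of A)).presheaf.stalk (f x)) := (StructureSheaf.toStalk A p).hom.toAlgebra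
  haveI hloc : IsLocalization.AtPrime ((Spec (CommRingCat.of A)).presheaf.stalk (f x)) p.asIdeal :=
    StructureSheaf.IsLocalization.to_stalk A p
  let φ : CommRingCat.of A ⟶ X.residueField x :=
    StructureSheaf.toStalk A p ≫ f.stalkMap x ≫ X.residue x
  have hφ : Spec.map φ = X.fromSpecResidueField x ≫ f := by
    simp only [φ, Spec.map_comp, Category.assoc, Scheme.fromSpecResidueField]
    rw [← Scheme.SpecMap_stalkMap_fromSpecStalk, Spec.fromSpecStalk_eq']
    rfl
  letI : Algebra A (X.residueField x) := φ.hom.toAlgebra
  have hbot : p.asIdeal = ⊥ := by change (f x).asIdeal = ⊥; rw [hfx, hgenA]; rfl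
  have hinj : Function.Injective (algebraMap A (X.residueField x)) := by
    rw [RingHom.injective_iff_ker_eq_bot, ← hbot]
    have h := congrArg (fun ψ : Spec (X.residueField x) ⟶ Spec (CommRingCat.of A) =>
      (ψ (IsLocalRing.closedPoint (X.residueField x))).asIdeal) hφ
    change (IsLocalRing.maximalIdeal (X.residueField x)).comap φ.hom = (f (X.fromSpecResidueField x _)).asIdeal at h
    rw [IsLocalRing.isField_iff_maximalIdeal_eq.mp (Field.toIsField _)] at h
    exact h.trans (congrArg (fun z : X => (f z).asIdeal) (Scheme.fromSpecResidueField_apply _ _))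
  haveI : FaithfulSMul A (X.residueField x) := (faithfulSMul_iff_algebraMap_injective _ _).mpr hinj
  haveI : IsFractionRing A (X.residueField x) := by
    refine IsFractionRing.of_field A _ fun z => ?_
    obtain ⟨w, rfl⟩ := hres.2 z
    obtain ⟨w, rfl⟩ := Scheme.residue_surjective _ (f x) w
    obtain ⟨a, b, rfl⟩ := IsLocalization.exists_mk'_eq p.asIdeal.primeCompl w
    have hb : algebraMap A (X.residueField x) b ≠ 0 := (map_ne_zero_iff _ hinj).mpr fun h0 =>
      b.2 (by rw [h0]; exact zero_mem _)
    refine ⟨a, b, eq_div_of_mul_eq hb ?_⟩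
    have hsq : ∀ v, (f.residueFieldMap x).hom (((Spec (CommRingCat.of A)).residue (f x)).hom v) =
        (X.residue x).hom ((f.stalkMap x).hom v) := fun v =>
      congrArg (fun ψ : _ ⟶ X.residueField x => ψ.hom v) (Scheme.residue_residueFieldMap f x)
    rw [hsq]
    change _ * (X.residue x).hom ((f.stalkMap x).hom (algebraMap A ((Spec (CommRingCat.of A)).presheaf.stalk (f x)) ↑b)) =
      (X.residue x).hom ((f.stalkMap x).hom (algebraMap A ((Spec (CommRingCat.of A)).presheaf.stalk (f x)) a))
    rw [← map_mul, ← map_mul, IsLocalization.mk'_spec]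
  haveI : IsSeparated (f ≫ Limits.terminal.from (Spec (CommRingCat.of A))) := by
    rw [Limits.terminal.comp_from]; infer_instance
  haveI : IsSeparated f := IsSeparated.of_comp f (Limits.terminal.from _)
  obtain ⟨s, ⟨hs, hsx⟩, -⟩ := Groth.Agent.S4439.result A (X.residueField x) X f hf
    (X.fromSpecResidueField x) hφ.symm
  haveI : IsDominant (X.fromSpecResidueField x) := ⟨by
    rw [DenseRange, Scheme.range_fromSpecResidueField, hξ, dense_iff_closure_eq]
    exact genericPoint_closure X⟩
  refine ⟨s, ?_, hs⟩
  refine ext_of_isDominant (X.fromSpecResidueField x) ?_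
  rw [Category.comp_id, ← Category.assoc, ← hφ]
  exact hsx

end Groth.Agent.S2342
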