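import Groth.Statements.S2345
import Groth.Agent.Lib.CurveNF.Compact
import Groth.Agent.Lib.CurveNF.Dim

set_option autoImplicit false
universe u
open CategoryTheory CategoryTheory.Limits AlgebraicGeometry
attribute [local instance] Curv2.stalkAlgebra
open EGA2

namespace Groth.Agent.S2345

/-- Let K be a finitely generated field extension of k of transcendence degree one. Then there is an
integral normal algebraic curve X, proper over k, whose function field is isomorphic to K compatibly
with the maps from k. -/
theorem result (k : Type u) [Field k] (K : Type u) [Field K] [Algebra k K]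
    (hfg : (⊤ : IntermediateField k K).FG) (htr : Algebra.trdeg k K = 1) :
    ∃ (X : Scheme.{u}) (_ : X.Over (Spec (CommRingCat.of k))) (_ : IsIntegral X), IsProper (X ↘ (Spec (CommRingCat.of k))) ∧ Pi1.IsNormalScheme X ∧
      (∀ x : X, IsClosed ({x} : Set X) → ringKrullDim (X.presheaf.stalk x) = 1) ∧
      ∃ e : X.presheaf.stalk (genericPoint X) ≃+* K, ∀ c : k, e (algebraMap k (X.presheaf.stalk (genericPoint X)) c) = algebraMap k K c := by
  obtain ⟨X, hI, q, hq, hN, e, he⟩ := Groth.Agent.CurveNF.exists_normal_proper_model k K hfg
  letI : X.Over (Spec (CommRingCat.of k)) := ⟨q⟩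
  have hec : ∀ c : k, e (algebraMap k (X.presheaf.stalk (genericPoint X)) c) = algebraMap k K c := fun c => he c
  refine ⟨X, ⟨q⟩, hI, hq, hN, (Groth.Agent.CurveNF.curve_iff_sdim_genericPoint q).2 ?_, e, hec⟩
  letI := Groth.Agent.VarDim.resAlg q (genericPoint X)
  have h := Groth.Agent.VarDim.trdeg_residueField q (genericPoint X)
  have hres : Function.Bijective (X.residue (genericPoint X)).hom :=
    ⟨(show X.functionField →+* X.residueField (genericPoint X) from (X.residue (genericPoint X)).hom).injective, Scheme.residue_surjective X _⟩
  let r : X.residueField (genericPoint X) ≃+* K :=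
    (RingEquiv.ofBijective _ hres).symm.trans e
  let r' : X.residueField (genericPoint X) ≃ₐ[k] K := AlgEquiv.ofRingEquiv (f := r) (fun c => by
    show e ((RingEquiv.ofBijective _ hres).symm (Groth.Agent.VarDim.baseToRes q (genericPoint X) c)) = _
    rw [← he c]
    congr 1
    rw [RingEquiv.symm_apply_eq]
    rfl)
  rw [r'.trdeg_eq, htr] at h
  exact_mod_cast h.symm

end Groth.Agent.S2345
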