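import Groth.Statements.S2346
import Groth.Agent.Lib.CurveNF.Fibres

set_option autoImplicit false
universe u
open CategoryTheory CategoryTheory.Limits AlgebraicGeometry
open EGA2

namespace Groth.Agent.S2346

/-- Let X and Y be irreducible algebraic curves over k (separated, of finite type, local rings at closed
points one-dimensional) and f : X → Y a k-morphism. Then f is dominant if and only if every fibre
f⁻¹(y) is a finite set. -/
theorem result (k : Type u) [Field k] (X Y : Scheme.{u}) [X.Over (Spec (CommRingCat.of k))] [Y.Over (Spec (CommRingCat.of k))]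
    [LocallyOfFiniteType (X ↘ (Spec (CommRingCat.of k)))] [QuasiCompact (X ↘ (Spec (CommRingCat.of k)))] [IsSeparated (X ↘ (Spec (CommRingCat.of k)))] [LocallyOfFiniteType (Y ↘ (Spec (CommRingCat.of k)))] [QuasiCompact (Y ↘ (Spec (CommRingCat.of k)))] [IsSeparated (Y ↘ (Spec (CommRingCat.of k)))] [IrreducibleSpace X] [IrreducibleSpace Y]
    (hX : (∀ x : X, IsClosed ({x} : Set X) → ringKrullDim (X.presheaf.stalk x) = 1)) (hY : (∀ x : Y, IsClosed ({x} : Set Y) → ringKrullDim (Y.presheaf.stalk x) = 1))
    (f : X ⟶ Y) (hf : f ≫ (Y ↘ (Spec (CommRingCat.of k))) = X ↘ (Spec (CommRingCat.of k))) :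
    IsDominant f ↔ ∀ y : Y, (f.base ⁻¹' {y}).Finite := by
  let p := X ↘ (Spec (CommRingCat.of k))
  let q := Y ↘ (Spec (CommRingCat.of k))
  haveI : LocallyOfFiniteType (f ≫ q) := by rw [hf]; infer_instance
  haveI : LocallyOfFiniteType f := locallyOfFiniteType_of_comp f q
  refine ⟨fun h => ?_, fun h => ?_⟩
  · have hgen : f (genericPoint X) = genericPoint Y := by
      refine IsGenericPoint.eq ?_ (genericPoint_spec _)
      show closure _ = _
      refine Set.eq_univ_of_univ_subset ?_
      rw [← f.denseRange.closure_range]
      refine closure_minimal ?_ isClosed_closure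
      rintro _ ⟨x, rfl⟩
      exact specializes_iff_mem_closure.1 ((genericPoint_specializes x).map f.continuous)
    exact fun y => Groth.Agent.CurveNF.finite_preimage p q hX hY f hgen y
  · have hgen := Groth.Agent.CurveNF.genericPoint_map_of_finite_preimage p q hX hY f h
    refine ⟨fun y => ?_⟩
    have hy : y ∈ closure ({f (genericPoint X)} : Set Y) := by rw [hgen, (genericPoint_spec Y).def]; trivial
    exact closure_mono (t := Set.range f.base) (Set.singleton_subset_iff.2 ⟨genericPoint X, rfl⟩) hy

end Groth.Agent.S2346
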