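import Groth.Statements.S2349
import Mathlib

set_option autoImplicit false
universe u
open CategoryTheory CategoryTheory.Limits AlgebraicGeometry
open EGA2

namespace Groth.Agent.S2349

/-- Let f : X → Y be separated and of finite type, and let j_i : X_i → X and h_i : Y_i → Y (i in a
finite index type) be closed immersions with morphisms f_i : X_i → Y_i satisfying j_i ≫ f = f_i ≫
h_i, such that the images of the j_i cover X. Then f is proper if and only if every f_i is proper. -/
theorem result {X Y : Scheme.{u}} (f : X ⟶ Y) [IsSeparated f] [LocallyOfFiniteType f] [QuasiCompact f]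
    (ι : Type u) [Finite ι] (Xi Yi : ι → Scheme.{u}) (j : ∀ i, Xi i ⟶ X) (h : ∀ i, Yi i ⟶ Y) (fi : ∀ i, Xi i ⟶ Yi i)
    [∀ i, IsClosedImmersion (j i)] [∀ i, IsClosedImmersion (h i)] (hcomm : ∀ i, j i ≫ f = fi i ≫ h i)
    (hcov : ∀ x : X, ∃ i, x ∈ Set.range (j i).base) : IsProper f ↔ ∀ i, IsProper (fi i) := by
  constructor
  · intro hf i
    haveI : IsProper (fi i ≫ h i) := hcomm i ▸ inferInstance
    exact IsProper.of_comp (fi i) (h i)
  · intro hall
    suffices UniversallyClosed f from { }
    constructor
    intro X' Y' i₁ i₂ f' H C hC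
    have himg : f' '' C = ⋃ i, (pullback.fst i₁ (j i) ≫ f') '' ((pullback.fst i₁ (j i)) ⁻¹' C) := by
      ext y
      simp only [Set.mem_image, Set.mem_iUnion, Set.mem_preimage]
      constructor
      · rintro ⟨c, hc, rfl⟩
        obtain ⟨i, hi⟩ := hcov (i₁ c)
        have : c ∈ Set.range (pullback.fst i₁ (j i)) := by
          rw [Scheme.Pullback.range_fst]; exact hi
        obtain ⟨z, rfl⟩ := this
        exact ⟨i, z, hc, rfl⟩
      · rintro ⟨i, z, hz, rfl⟩
        exact ⟨_, hz, rfl⟩
    rw [himg]
    refine isClosed_iUnion_of_finite fun i => ?_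
    haveI := hall i
    haveI : UniversallyClosed (j i ≫ f) := by rw [hcomm i]; infer_instance
    have H' := (IsPullback.of_hasPullback i₁ (j i)).flip.paste_vert H.flip
    have : UniversallyClosed (pullback.fst i₁ (j i) ≫ f') :=
      MorphismProperty.of_isPullback H' inferInstance
    exact this.universally_isClosedMap _ _ _ IsPullback.of_id_snd _
      (hC.preimage (pullback.fst i₁ (j i)).continuous)

end Groth.Agent.S2349
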