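import Groth.Statements.S2353
import Mathlib
import Groth.Agent.Lib.DVRVal.FunctionField

set_option autoImplicit false
universe u
open CategoryTheory CategoryTheory.Limits AlgebraicGeometry
open EGA2

namespace Groth.Agent.S2353

/-- Let Y be an integral separated locally Noetherian scheme, X an integral separated scheme and f : X →
Y dominant and of finite type, with generic point ξ of X. Suppose that for every discrete valuation
subring R of the function field K(X) and every point y of Y such that R dominates the local ring
O_{Y,y} (through O_{Y,y} → O_{Y,f(ξ)} → K(X): the image lies in R and the maximal ideal maps into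
the maximal ideal of R), there is a point x of X whose local ring is dominated by R (through O_{X,x}
→ K(X)). Then f is proper. -/
theorem result {X Y : Scheme.{u}} [IsIntegral X] [IsIntegral Y] [X.IsSeparated] [Y.IsSeparated]
    [IsLocallyNoetherian Y] (f : X ⟶ Y) [IsDominant f] [LocallyOfFiniteType f] [QuasiCompact f]
    (h : ∀ (R : ValuationSubring X.functionField), IsDiscreteValuationRing R →
      ∀ (y : Y) (hy : f.base (genericPoint X) ⤳ y), ((∀ a : (Y.presheaf.stalk y), (Y.presheaf.stalkSpecializes hy ≫ f.stalkMap (genericPoint X)).hom a ∈ R) ∧ ∀ a ∈ IsLocalRing.maximalIdeal (Y.presheaf.stalk y), R.valuation ((Y.presheaf.stalkSpecializes hy ≫ f.stalkMap (genericPoint X)).hom a) < 1) →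
        ∃ x : X, ((∀ a : (X.presheaf.stalk x), algebraMap (X.presheaf.stalk x) X.functionField a ∈ R) ∧ ∀ a ∈ IsLocalRing.maximalIdeal (X.presheaf.stalk x), R.valuation (algebraMap (X.presheaf.stalk x) X.functionField a) < 1)) :
    IsProper f := by
  haveI : IsSeparated (f ≫ Limits.terminal.from Y) := by
    rw [Limits.terminal.comp_from]; infer_instance
  haveI : IsSeparated f := IsSeparated.of_comp f (Limits.terminal.from Y)
  have hc : Groth.Agent.DVRVal.HasCentres f :=
    Groth.Agent.DVRVal.hasCentres_of_dvr fun R hR y hy hmem hlt => h R hR y hy ⟨hmem, hlt⟩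
  haveI : UniversallyClosed f := UniversallyClosed.of_valuativeCriterion f hc.existence
  exact { }

end Groth.Agent.S2353
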