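import Groth.Statements.S2356
import Groth.Agent.Lib.ResDesc11.FiniteSet

set_option autoImplicit false
universe u
open CategoryTheory CategoryTheory.Limits AlgebraicGeometry
open EGA2

namespace Groth.Agent.S2356

/-- Let Y be a scheme, E a locally free O_Y-module of rank r, and Z a finite set of points of Y
contained in an affine open V. Then there is an open neighbourhood U ⊆ V of Z on which E is free of
rank r. -/
theorem result (Y : Scheme.{u}) (r : ℕ) (E : Y.Modules) (hE : FlatMod.IsFinLocFreeOfRank r E)
    (Z : Set Y) (hZ : Z.Finite) (V : Y.Opens) (hV : IsAffineOpen V) (hZV : Z ⊆ V) :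
    ∃ U : Y.Opens, Z ⊆ U ∧ U ≤ V ∧ Nonempty (E.restrict U.ι ≅ FlatMod.freeMod (U : Scheme.{u}) r) := by
  exact Groth.Agent.ResDesc11.exists_free_near_finite hE hZ hV hZV

end Groth.Agent.S2356
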