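import Groth.Statements.S2357
import Groth.Agent.Lib.EGA2.Graded
import Mathlib.AlgebraicGeometry.ProjectiveSpectrum.Proper
import Mathlib.AlgebraicGeometry.Noetherian

set_option autoImplicit false
universe u
open CategoryTheory CategoryTheory.Limits AlgebraicGeometry
open EGA2

namespace Groth.Agent.S2357

/-- If A is a graded ring which is Noetherian, then Proj A is a Noetherian scheme. -/
theorem result {R A : Type u} [CommRing R] [CommRing A] [Algebra R A] (𝒜 : ℕ → Submodule R A) [GradedAlgebra 𝒜] [IsNoetherianRing A] :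
    IsNoetherian (Proj 𝒜) := by
  haveI : Algebra.FiniteType (𝒜 0) A :=
    (Groth.Agent.EGA2.irrelevant_fg_iff 𝒜).1 (IsNoetherian.noetherian _)
  haveI : IsNoetherianRing (𝒜 0) :=
    isNoetherianRing_of_surjective A (𝒜 0) (GradedRing.projZeroRingHom' 𝒜) (GradedRing.projZeroRingHom'_surjective 𝒜)
  haveI : IsNoetherianRing (CommRingCat.of (𝒜 0)) := ‹_›
  haveI : IsLocallyNoetherian (Proj 𝒜) := LocallyOfFiniteType.isLocallyNoetherian (Proj.toSpecZero 𝒜)
  haveI : CompactSpace (Proj 𝒜) := QuasiCompact.compactSpace_of_compactSpace (Proj.toSpecZero 𝒜)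
  exact {}

end Groth.Agent.S2357
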