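import Groth.Statements.S2453
import Groth.Agent.Lib.AdicSmooth.RegularIff
import Groth.Agent.Lib.Sep.Basic
import Groth.Agent.S2471
import Groth.Agent.Lib.Cohen.Structure

set_option autoImplicit false
universe u
open EGA41

namespace Groth.Agent.S2453

open IsLocalRing

open Groth.Agent.AdicSmooth Groth.Agent.H2Alg IsLocalRing in
theorem exists_powerSeries_presentation' (F T : Type u) [Field F]  [CommRing T]
    [IsLocalRing T] [IsNoetherianRing T] [IsAdicComplete (maximalIdeal T) T] [Algebra F T] [Algebra.FormallySmooth F (ResidueField T)] :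
    ∃ (d : ℕ) (φ : MvPowerSeries (Fin d) (ResidueField T) →ₐ[F] T),
      Function.Surjective φ ∧ (maximalIdeal (MvPowerSeries (Fin d) (ResidueField T))).map φ = maximalIdeal T ∧
      (∀ x, φ x ∈ maximalIdeal T ^ 2 → x ∈ maximalIdeal (MvPowerSeries (Fin d) (ResidueField T)) ^ 2) ∧
      (IsRegularLocalRing T ↔ Function.Bijective φ) := by
  classical
  let κ := ResidueField T
  have : Algebra.FormallySmooth F (T ⧸ maximalIdeal T) := ‹Algebra.FormallySmooth F (ResidueField T)›
  obtain ⟨σ, hσ⟩ := exists_lift_of_isAdicComplete (maximalIdeal T) (AlgHom.id F (T ⧸ maximalIdeal T))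
  let _ : Algebra κ T := σ.toRingHom.toAlgebra
  have : IsScalarTower F κ T := IsScalarTower.of_algebraMap_eq fun r => (σ.commutes r).symm
  have hσres : ∀ c : κ, residue T (algebraMap κ T c) = c := hσ
  let d := Module.finrank κ (CotangentSpace T)
  let b := Module.finBasis κ (CotangentSpace T)
  choose z hz using fun i => (maximalIdeal T).toCotangent_surjective (b i)
  obtain ⟨ψ, hψ⟩ := PSHom.exists_algHom (A := κ) (maximalIdeal T) (fun i => (z i : T)) fun i => (z i).2
  have hψm : ∀ i, ψ (MvPowerSeries.X i) ∈ maximalIdeal T := fun i => hψ i ▸ (z i).2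
  have hb : (fun i => (maximalIdeal T).toCotangent ⟨ψ (MvPowerSeries.X i), hψm i⟩) = b := funext fun i => by
    rw [← hz i]
    congr 1
    exact Subtype.ext (hψ i)
  have hgen : Submodule.span T (Set.range z) = ⊤ := by
    rw [← CotangentSpace.span_image_eq_top_iff (R := T), ← Set.range_comp,
      show (maximalIdeal T).toCotangent ∘ z = b from funext hz]
    exact b.span_eq
  have hV : (PSHom.V d κ).map ψ = maximalIdeal T := by
    have h2 := congrArg (Submodule.map (maximalIdeal T).subtype) hgen
    rw [Submodule.map_span, ← Set.range_comp, Submodule.map_top, Submodule.range_subtype] at h2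
    rw [PSHom.V, Ideal.map_span, ← Set.range_comp]
    rw [show (⇑ψ ∘ fun i => MvPowerSeries.X i) = (maximalIdeal T).subtype ∘ z from funext hψ]
    exact h2
  have hsurj : Function.Surjective ψ := PSHom.surjective ψ (maximalIdeal T) hV fun t =>
    ⟨residue T t, by rw [← residue_eq_zero_iff, map_sub, hσres, sub_self]⟩
  refine ⟨d, ψ.restrictScalars F, hsurj, by rw [PSHom.maximalIdeal_eq]; exact hV, fun x hx => ?_, ?_⟩
  · -- the kernel lies in the square
    have hx2 : ψ x ∈ maximalIdeal T ^ 2 := hx
    have hxM : x ∈ PSHom.V d κ := by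
      rw [← PSHom.maximalIdeal_eq, mem_maximalIdeal]
      intro hu
      exact (mem_maximalIdeal _).1 (Ideal.pow_le_self two_ne_zero hx2) (hu.map ψ)
    obtain ⟨c, hc⟩ := (Submodule.mem_span_range_iff_exists_fun _).1 hxM
    have h0 : ∑ i, ψ (c i) • b i = 0 := by
      have h1 : (maximalIdeal T).toCotangent (∑ i, ψ (c i) • z i) = 0 := by
        rw [Ideal.toCotangent_eq_zero, AddSubmonoidClass.coe_finsetSum]
        convert hx2 using 1
        rw [← hc, map_sum]
        simp [hψ]
      rw [map_sum] at h1
      refine Eq.trans (Finset.sum_congr rfl fun i _ => ?_) h1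
      rw [map_smul, hz i]
    rw [PSHom.maximalIdeal_eq, pow_two, ← hc]
    refine Ideal.sum_mem _ fun i _ => Ideal.mul_mem_mul ?_ (PSHom.X_mem i)
    rw [← PSHom.maximalIdeal_eq, mem_maximalIdeal]
    intro hu
    exact (mem_maximalIdeal _).1
      (mem_maximalIdeal_of_sum_smul_eq_zero b _ h0 i) (hu.map ψ)
  · exact Groth.Agent.S11741.result κ T (fun x => ⟨x, hσres x⟩) d ψ hψm (hb ▸ b.linearIndependent)
      (by rw [hb]; exact b.span_eq)


open TensorProduct KaehlerDifferential in
theorem injective_lTensor_of_residue {k A : Type u} [Field k] [CommRing A] [IsLocalRing A] [Algebra k A]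
    (h : Function.Injective (mapBaseChange ℤ k (ResidueField A))) :
    Function.Injective ((mapBaseChange ℤ k A).lTensor (ResidueField A)) := by
  let κ := ResidueField A
  let g := mapBaseChange ℤ A κ
  let E := AlgebraTensorModule.cancelBaseChange k A A κ Ω[k⁄ℤ]
  have hm : ∀ x : Ω[k⁄ℤ], KaehlerDifferential.map ℤ ℤ k κ x =
      KaehlerDifferential.map ℤ ℤ A κ (KaehlerDifferential.map ℤ ℤ k A x) := by
    intro x
    induction (show x ∈ Submodule.span k (Set.range (KaehlerDifferential.D ℤ k)) by
        rw [KaehlerDifferential.span_range_derivation]; trivial) using Submodule.span_induction with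
    | mem y hy =>
      obtain ⟨b, rfl⟩ := hy
      rw [KaehlerDifferential.map_D, KaehlerDifferential.map_D, KaehlerDifferential.map_D,
        ← IsScalarTower.algebraMap_apply k A κ b]
    | zero => simp
    | add y z _ _ hy hz => simp only [map_add, hy, hz]
    | smul b y _ hy =>
      rw [map_smul, hy, map_smul, LinearMap.map_smul_of_tower]
  have key : ∀ z : κ ⊗[A] (A ⊗[k] Ω[k⁄ℤ]), mapBaseChange ℤ k κ (E z) = g ((mapBaseChange ℤ k A).lTensor κ z) := by
    intro z
    induction z with
    | zero => simp
    | add a b ha hb => simp [map_add, ha, hb]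
    | tmul c w =>
      induction w with
      | zero => simp
      | add a b ha hb => simp only [TensorProduct.tmul_add, map_add, ha, hb]
      | tmul a x =>
        simp only [E, g, AlgebraTensorModule.cancelBaseChange_tmul, LinearMap.lTensor_tmul, mapBaseChange_tmul, hm,
          map_smul]
        rw [smul_assoc, smul_comm]
  intro x y hxy
  apply E.injective
  apply h
  rw [key, key, hxy]

open IsLocalRing in
/-- Let k be a field and A a Noetherian local k-algebra with maximal ideal 𝔪 and residue field K
separable over k; give A the 𝔪-adic topology (k discrete). The following are equivalent: (a) A is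
formally smooth over k; (b) the 𝔪-adic completion of A is isomorphic to some K[[T_1, …, T_n]] by an
isomorphism carrying the image of k in A to the image of k under k → K → K[[T]]; (b') the completion
is isomorphic as a ring to some K[[T_1, …, T_n]]; (c) A is a regular local ring. -/
theorem result {k A : Type u} [Field k] [CommRing A] [IsLocalRing A] [IsNoetherianRing A] [Algebra k A]
    [Algebra.IsGeometricallyReduced k (ResidueField A)] :
    [CAlgX.IsAdicFormallySmooth k A (maximalIdeal A),
     ∃ (n : ℕ) (e : AdicCompletion (maximalIdeal A) A ≃+* MvPowerSeries (Fin n) (ResidueField A)),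
       ∀ x : k, e (algebraMap A (AdicCompletion (maximalIdeal A) A) (algebraMap k A x)) =
         algebraMap (ResidueField A) (MvPowerSeries (Fin n) (ResidueField A)) (algebraMap k (ResidueField A) x),
     ∃ n : ℕ, Nonempty (AdicCompletion (maximalIdeal A) A ≃+* MvPowerSeries (Fin n) (ResidueField A)),
     IsRegularLocalRing A].TFAE := by
  haveI : Algebra.FormallySmooth k (ResidueField A) := (Sep.formallySmooth_iff_isGeometricallyReduced k _).2 inferInstance
  haveI := Groth.Agent.Compl.isNoetherianRing_maximalIdeal_adicCompletion A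
  tfae_have 1 → 4 := fun h => AdicSmooth.isRegularLocalRing_of_adicFS h
  tfae_have 4 → 1 := fun h => Groth.Agent.S2471.result.mpr ⟨h,
    injective_lTensor_of_residue ((Sep.formallySmooth_iff_injective k _).1 inferInstance)⟩
  tfae_have 2 → 3 := fun ⟨n, e, _⟩ => ⟨n, ⟨e⟩⟩
  tfae_have 3 → 4 := fun ⟨n, ⟨e⟩⟩ => by
    haveI : IsRegularLocalRing (MvPowerSeries (Fin n) (ResidueField A)) := Cohen.isRegularLocalRing_mvPowerSeries _ n
    haveI : IsRegularLocalRing (AdicCompletion (maximalIdeal A) A) := IsRegularLocalRing.of_ringEquiv e.symm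
    exact (Groth.Agent.Compl.isRegularLocalRing_adicCompletion_iff A).2 inferInstance
  tfae_have 4 → 2 := fun h => by
    let T := AdicCompletion (maximalIdeal A) A
    haveI : IsRegularLocalRing T := (Groth.Agent.Compl.isRegularLocalRing_adicCompletion_iff A).1 h
    let ρ : ResidueField A →ₐ[k] ResidueField T :=
      { ResidueField.map (algebraMap A T) with
        commutes' := fun x => by
          show ResidueField.map (algebraMap A T) (residue A (algebraMap k A x)) = _
          rw [ResidueField.map_residue]
          exact congrArg (residue T) (IsScalarTower.algebraMap_apply k A T x).symm }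
    have hρ : Function.Bijective ρ := by
      refine ⟨RingHom.injective _, fun z => ?_⟩
      obtain ⟨y, rfl⟩ := residue_surjective z
      obtain ⟨r, hr⟩ := Groth.Agent.AdicSmooth.exists_sub_mem (maximalIdeal A) (IsNoetherian.noetherian _) 1 y
      refine ⟨residue A r, ?_⟩
      rw [pow_one, ← AdicCompletion.maximalIdeal_eq_map, ← residue_eq_zero_iff, map_sub, sub_eq_zero] at hr
      rw [hr]; exact ResidueField.map_residue _ _
    let f := AlgEquiv.ofBijective ρ hρ
    haveI : Algebra.FormallySmooth k (ResidueField T) := Algebra.FormallySmooth.of_equiv f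
    obtain ⟨d, φ, -, -, -, hiff⟩ := exists_powerSeries_presentation' k T
    let e := RingEquiv.ofBijective φ.toRingHom (hiff.1 inferInstance)
    let g : MvPowerSeries (Fin d) (ResidueField T) ≃+* MvPowerSeries (Fin d) (ResidueField A) :=
      RingEquiv.ofRingHom (MvPowerSeries.map f.symm.toRingEquiv.toRingHom) (MvPowerSeries.map f.toRingEquiv.toRingHom)
        (RingHom.ext fun x => MvPowerSeries.ext fun n => by simp [MvPowerSeries.coeff_map])
        (RingHom.ext fun x => MvPowerSeries.ext fun n => by simp [MvPowerSeries.coeff_map])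
    refine ⟨d, e.symm.trans g, fun x => ?_⟩
    have h1 : algebraMap A T (algebraMap k A x) = e (MvPowerSeries.C (algebraMap k (ResidueField T) x)) := by
      rw [← IsScalarTower.algebraMap_apply k A T x, ← φ.commutes x, MvPowerSeries.algebraMap_apply]
      rfl
    rw [RingEquiv.trans_apply, h1, RingEquiv.symm_apply_apply]
    show MvPowerSeries.map f.symm.toRingEquiv.toRingHom (MvPowerSeries.C (algebraMap k (ResidueField T) x)) = _
    rw [MvPowerSeries.map_C, MvPowerSeries.algebraMap_apply, Algebra.algebraMap_self_apply]
    exact congrArg MvPowerSeries.C (f.symm.commutes x)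
  tfae_finish

end Groth.Agent.S2453
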