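import Groth.Prelude.Def_EGA41
import Mathlib.RingTheory.Smooth.Basic
import Mathlib.RingTheory.Nilpotent.GeometricallyReduced
import Mathlib.RingTheory.LocalRing.ResidueField.Basic
import Mathlib.RingTheory.AdicCompletion.Basic
import Mathlib.RingTheory.PowerSeries.Basic
import Mathlib.RingTheory.MvPowerSeries.Basic
import Mathlib.RingTheory.RegularLocalRing.Defs
import Mathlib.RingTheory.Flat.Basic
import Mathlib.RingTheory.LocalRing.ResidueField.Fiber
import Mathlib.RingTheory.AdicCompletion.Algebra
import Mathlib.RingTheory.Ideal.Quotient.Operations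
import Groth.Agent.Lib.Cohen.LiftLocal

set_option autoImplicit false
universe u
open EGA41

namespace Groth.Agent.S2457

open IsLocalRing in
/-- Let W and W' be Cohen rings with residue fields K and K' and u : K ≅ K' an isomorphism. Then u is
induced by some isomorphism v : W ≅ W'. -/
theorem result {W W' : Type u} [CommRing W] [IsLocalRing W] [CommRing W'] [IsLocalRing W']
    (hW : EGA41.IsCohenRingEGA W) (hW' : EGA41.IsCohenRingEGA W') (u : ResidueField W ≃+* ResidueField W') :
    ∃ v : W ≃+* W', ∀ x : W, residue W' (v x) = u (residue W x) := by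
  haveI := Cohen.isAdicComplete_cohen hW'
  obtain ⟨g, hg⟩ := Cohen.exists_lift hW (Cohen.Filt.ofAdic (maximalIdeal W')) (u.symm.toRingHom.comp (residue W'))
    (u.symm.surjective.comp residue_surjective) (by
      rw [RingHom.ker_comp_of_injective _ u.symm.injective, ker_residue]
      exact pow_one _)
  have h : ∀ w, residue W' (g w) = u (residue W w) := fun w => by rw [← hg w]; exact (u.apply_symm_apply _).symm
  exact ⟨RingEquiv.ofBijective g (Cohen.bijective_of_isCohen hW hW' g u h), h⟩


end Groth.Agent.S2457
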