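import Groth.Statements.S2458
import Groth.Agent.Lib.AdicSmooth3.CohenSmall

set_option autoImplicit false
universe u
open EGA41

namespace Groth.Agent.S2458

open IsLocalRing in
/-- Let A be an Artinian local ring whose maximal ideal 𝔪 satisfies 𝔪² = 0. Then there is a regular
local ring B with maximal ideal 𝔫 such that A ≅ B/𝔫². -/
theorem result {A : Type u} [CommRing A] [IsLocalRing A] [IsArtinianRing A]
    (h : maximalIdeal A ^ 2 = ⊥) :
    ∃ (B : Type u) (_ : CommRing B) (_ : IsRegularLocalRing B), Nonempty (A ≃+* B ⧸ IsLocalRing.maximalIdeal B ^ 2) := by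
  haveI := AdicSmooth3.isAdicComplete_of_pow_eq_bot (maximalIdeal A) h
  obtain ⟨R, _, _, f, hf⟩ := Cohen.exists_regular_surjection A
  obtain ⟨B, iB, iR, g, hg, hker⟩ := AdicSmooth3.exists_minimal_surjection _ R f hf le_rfl
  haveI := IsLocalHom.of_surjective g hg
  have hk : maximalIdeal B ^ 2 = RingHom.ker g := by
    refine le_antisymm ?_ hker
    rw [← Ideal.map_eq_bot_iff_le_ker, Ideal.map_pow, map_maximalIdeal_of_surjective g hg, h]
  exact ⟨B, iB, iR, ⟨(RingHom.quotientKerEquivOfSurjective hg).symm.trans (Ideal.quotEquivOfEq hk.symm)⟩⟩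

end Groth.Agent.S2458
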