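import Groth.Statements.S2459
import Groth.Agent.Lib.AdicSmooth3.CohenSmall

set_option autoImplicit false
universe u
open EGA41

namespace Groth.Agent.S2459

open IsLocalRing in
/-- Let A be an Artinian local ring with maximal ideal 𝔪 and residue field of characteristic p (p = 0
allowed). Then A is isomorphic to a quotient of a Cohen ring if and only if 𝔪 is generated by p·1. -/
theorem result {A : Type u} [CommRing A] [IsLocalRing A] [IsArtinianRing A]
    (p : ℕ) [CharP (ResidueField A) p] :
    (∃ (W : Type u) (_ : CommRing W) (I : Ideal W), EGA41.IsCohenRingEGA W ∧ Nonempty (A ≃+* W ⧸ I)) ↔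
      maximalIdeal A = Ideal.span {(p : A)} := by
  have hcp : CharP (ResidueField A) p := inferInstance
  constructor
  · rintro ⟨W, _, I, hW, ⟨e⟩⟩
    haveI : Nontrivial (W ⧸ I) := e.symm.toEquiv.nontrivial
    have hIt : I ≠ ⊤ := Ideal.Quotient.nontrivial_iff.mp inferInstance
    rcases hW with ⟨hF, h0⟩ | ⟨hdom, hdvr, hcpl, q, hq, hmax⟩
    · letI := hF.toField
      obtain rfl : I = ⊥ := (Ideal.eq_bot_or_top I).resolve_right hIt
      haveI : CharZero A := charZero_of_injective_ringHom
        (f := e.symm.toRingHom.comp (Ideal.Quotient.mk (⊥ : Ideal W)))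
        (e.symm.injective.comp (Ideal.Quotient.mk (⊥ : Ideal W)).injective)
      have hA : IsField A := MulEquiv.isField (Field.toIsField W) (e.trans (RingEquiv.quotientBot W)).toMulEquiv
      have hm := isField_iff_maximalIdeal_eq.mp hA
      haveI : IsLocalHom (residue A) := inferInstance
      haveI : CharZero (ResidueField A) := charZero_of_injective_ringHom (f := residue A) (by
        rw [RingHom.injective_iff_ker_eq_bot, ker_residue, hm])
      obtain rfl : p = 0 := CharP.eq (ResidueField A) hcp (CharP.ofCharZero _)
      rw [hm, Nat.cast_zero, Ideal.span_singleton_eq_bot.mpr rfl]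
    · haveI := hdvr
      let f : W →+* A := e.symm.toRingHom.comp (Ideal.Quotient.mk I)
      have hf : Function.Surjective f := e.symm.surjective.comp Ideal.Quotient.mk_surjective
      haveI := IsLocalHom.of_surjective f hf
      have h1 : maximalIdeal A = Ideal.span {(q : A)} := by
        rw [← map_maximalIdeal_of_surjective f hf, hmax, Ideal.map_span, Set.image_singleton, map_natCast]
      have h2 : (q : ResidueField A) = 0 := by
        rw [← map_natCast (residue A), residue_eq_zero_iff, h1]
        exact Ideal.mem_span_singleton_self _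
      haveI : CharP (ResidueField A) q := (CharP.charP_iff_prime_eq_zero hq).mpr h2
      obtain rfl : p = q := CharP.eq (ResidueField A) hcp ((CharP.charP_iff_prime_eq_zero hq).mpr h2)
      exact h1
  · intro hm
    obtain ⟨N, hN⟩ := IsArtinianRing.isNilpotent_jacobson_bot (R := A)
    rw [jacobson_eq_maximalIdeal ⊥ bot_ne_top] at hN
    haveI := AdicSmooth3.isAdicComplete_of_pow_eq_bot (maximalIdeal A) hN
    rcases CharP.char_is_prime_or_zero (ResidueField A) p with hp | hp
    · haveI : Fact p.Prime := ⟨hp⟩
      obtain ⟨W, i1, i2, f, hW, -, hk, hs⟩ := Cohen.exists_cohen_map (p := p) (Cohen.Filt.ofAdic (maximalIdeal A))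
        (residue A) residue_surjective (by rw [ker_residue]; exact pow_one _)
      refine ⟨W, i1, RingHom.ker f, Or.inr hW, ⟨(RingHom.quotientKerEquivOfSurjective (fun a => ?_)).symm⟩⟩
      have key : ∀ k : ℕ, ∀ a : A, ∃ w, a - f w ∈ maximalIdeal A ^ k := by
        intro k
        induction k with
        | zero => intro a; exact ⟨0, by simp⟩
        | succ k ih =>
          intro a
          obtain ⟨w, hw⟩ := hs (residue A a)
          have h1 : a - f w ∈ maximalIdeal A := by
            rw [← residue_eq_zero_iff, map_sub, sub_eq_zero]; exact hw.symm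
          obtain ⟨b, hb⟩ := Ideal.mem_span_singleton'.mp (hm.le h1)
          obtain ⟨v, hv⟩ := ih b
          refine ⟨w + (p : W) * v, ?_⟩
          rw [show a - f (w + (p : W) * v) = (p : A) * (b - f v) by
            rw [map_add, map_mul, map_natCast]; linear_combination -hb, pow_succ']
          exact Ideal.mul_mem_mul (hm.ge (Ideal.mem_span_singleton_self _)) hv
      obtain ⟨w, hw⟩ := key N a
      rw [hN] at hw
      exact ⟨w, (sub_eq_zero.mp (Ideal.mem_bot.mp hw)).symm⟩
    · subst hp
      have hF : IsField A := isField_iff_maximalIdeal_eq.mpr (by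
        rw [hm, Nat.cast_zero, Ideal.span_singleton_eq_bot.mpr rfl])
      haveI : CharZero (ResidueField A) := CharP.charP_to_charZero _
      haveI : CharZero A := (residue A).charZero
      exact ⟨A, inferInstance, ⊥, Or.inl ⟨hF, inferInstance⟩, ⟨(RingEquiv.quotientBot A).symm⟩⟩

end Groth.Agent.S2459
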