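import Groth.Statements.S2460
import Groth.Agent.Lib.CplDomain.Normalization

set_option autoImplicit false
universe u
open EGA41

namespace Groth.Agent.S2460

open IsLocalRing MvPowerSeries

/-- Modules of finite length are finite over a ring surjecting onto the residue field. -/
theorem finite_of_isFiniteLength {R A : Type u} [CommRing R] [CommRing A] [IsLocalRing A] [Algebra R A]
    [hres : Module.Finite R (A ⧸ maximalIdeal A)] :
    ∀ (M : Type u) [AddCommGroup M] [Module A M], IsFiniteLength A M → ∀ [Module R M] [IsScalarTower R A M],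
      Module.Finite R M := by
  intro M _ _ hM
  induction hM with
  | of_subsingleton => intro _ _; exact Module.Finite.of_finite
  | @of_simple_quotient M _ _ N hs hN ih =>
    intro _ _
    haveI : Module.Finite R N := ih
    haveI : Module.Finite R (M ⧸ N) := by
      obtain ⟨m, hm, ⟨e⟩⟩ := isSimpleModule_iff_quot_maximal.mp hs
      obtain rfl := IsLocalRing.eq_maximalIdeal hm
      exact Module.Finite.equiv (e.restrictScalars R).symm
    haveI : Module.Finite R (N.restrictScalars R) := ‹Module.Finite R N›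
    haveI : Module.Finite R (M ⧸ N.restrictScalars R) := Module.Finite.equiv (Submodule.Quotient.restrictScalarsEquiv R N).symm
    exact Module.Finite.of_submodule_quotient (N.restrictScalars R)

open IsLocalRing in
/-- Let A be a complete Noetherian local domain containing a field k₀ such that the residue field of A
is a finite extension of k₀. Then there are n and an injective local k₀-algebra homomorphism from
the power series ring k₀[[T_1, …, T_n]] into A making A a finite module over it. -/
theorem result {k₀ A : Type u} [Field k₀] [CommRing A] [IsDomain A] [IsLocalRing A] [IsNoetherianRing A]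
    [IsAdicComplete (maximalIdeal A) A] [Algebra k₀ A] [Module.Finite k₀ (ResidueField A)] :
    ∃ (n : ℕ) (w : MvPowerSeries (Fin n) k₀ →ₐ[k₀] A), Function.Injective w ∧ IsLocalHom w.toRingHom ∧ w.toRingHom.Finite := by
  obtain ⟨d, hd⟩ := Groth.Agent.DepthLib.exists_supportDim_eq_natCast (R := A) (M := A)
  rw [Module.supportDim_self_eq_ringKrullDim] at hd
  obtain ⟨z, hz, ⟨N, hN⟩, -⟩ := Groth.Agent.CanElt.exists_sop A d hd
  obtain ⟨ψ, hψ⟩ := Groth.Agent.H2Alg.PSHom.exists_algHom (A := k₀) (maximalIdeal A) z hz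
  letI : Algebra (MvPowerSeries (Fin d) k₀) A := ψ.toRingHom.toAlgebra
  haveI : IsScalarTower k₀ (MvPowerSeries (Fin d) k₀) A := .of_algebraMap_eq fun a => (ψ.commutes a).symm
  set I := maximalIdeal (MvPowerSeries (Fin d) k₀) with hI
  haveI : IsAdicComplete (maximalIdeal k₀) k₀ := by
    rw [show maximalIdeal k₀ = ⊥ from IsLocalRing.maximalIdeal_eq_bot]; infer_instance
  haveI : IsAdicComplete I (MvPowerSeries (Fin d) k₀) := Groth.Agent.ArtFunLib.isAdicComplete_mvPowerSeries
  have hImap : I.map (algebraMap (MvPowerSeries (Fin d) k₀) A) = Ideal.span (Set.range z) := by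
    rw [hI, Groth.Agent.H2Alg.PSHom.maximalIdeal_eq, Groth.Agent.H2Alg.PSHom.V, Ideal.map_span, ← Set.range_comp]
    congr 2
    exact funext hψ
  have hle : I.map (algebraMap (MvPowerSeries (Fin d) k₀) A) ≤ maximalIdeal A := by
    rw [hImap]
    exact Ideal.span_le.mpr (by rintro _ ⟨i, rfl⟩; exact hz i)
  haveI : IsHausdorff (I.map (algebraMap (MvPowerSeries (Fin d) k₀) A)) A :=
    ⟨fun x hx => IsHausdorff.haus' (I := maximalIdeal A) x fun k => (hx k).mono
      (Submodule.smul_mono_left (Ideal.pow_right_mono hle k))⟩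
  haveI : IsArtinianRing (A ⧸ I.map (algebraMap (MvPowerSeries (Fin d) k₀) A)) := by
    haveI : Nontrivial (A ⧸ I.map (algebraMap (MvPowerSeries (Fin d) k₀) A)) :=
      Ideal.Quotient.nontrivial_iff.mpr (ne_top_of_le_ne_top (maximalIdeal.isMaximal A).ne_top hle)
    haveI : IsLocalRing (A ⧸ I.map (algebraMap (MvPowerSeries (Fin d) k₀) A)) :=
      IsLocalRing.of_surjective' _ Ideal.Quotient.mk_surjective
    exact (isArtinianRing_iff_isNilpotent_maximalIdeal _).mpr ⟨N, by
      rw [← IsLocalRing.map_maximalIdeal_of_surjective _ Ideal.Quotient.mk_surjective, ← Ideal.map_pow]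
      exact Ideal.map_mk_eq_bot_of_le (hImap ▸ hN)⟩
  have hfl : IsFiniteLength A (A ⧸ I.map (algebraMap (MvPowerSeries (Fin d) k₀) A)) :=
    isFiniteLength_iff_isNoetherian_isArtinian.mpr
      ⟨inferInstance, isArtinian_of_surjective_algebraMap (R := A ⧸ I.map (algebraMap (MvPowerSeries (Fin d) k₀) A)) Ideal.Quotient.mk_surjective⟩
  haveI : Module.Finite k₀ (A ⧸ maximalIdeal A) := ‹Module.Finite k₀ (ResidueField A)›
  haveI : Module.Finite (MvPowerSeries (Fin d) k₀) (A ⧸ maximalIdeal A) :=
    Module.Finite.of_restrictScalars_finite k₀ _ _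
  haveI : Module.Finite (MvPowerSeries (Fin d) k₀) (A ⧸ I.map (algebraMap (MvPowerSeries (Fin d) k₀) A)) :=
    finite_of_isFiniteLength _ hfl
  haveI hfin : Module.Finite (MvPowerSeries (Fin d) k₀) A := Groth.Agent.CplDomain.finite_of_reduction I
  have hloc : IsLocalHom ψ.toRingHom :=
    ((local_hom_TFAE ψ.toRingHom).out 0 2).2 hle
  have hdim : ringKrullDim (MvPowerSeries (Fin d) k₀) ≤ ringKrullDim A := by
    rw [hd, Groth.Agent.H2Alg.PSHom.ringKrullDim_eq]
  refine ⟨d, ψ, ?_, hloc, hfin⟩
  rw [RingHom.injective_iff_ker_eq_bot]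
  by_contra hne
  set P := MvPowerSeries (Fin d) k₀
  obtain ⟨x, hx, hx0⟩ := Submodule.exists_mem_ne_zero_of_ne_bot hne
  letI : Algebra (P ⧸ RingHom.ker ψ.toRingHom) A := (RingHom.kerLift ψ.toRingHom).toAlgebra
  haveI : Algebra.IsIntegral (P ⧸ RingHom.ker ψ.toRingHom) A :=
    algebraMap_isIntegral_iff.mp (RingHom.IsIntegral.tower_top (Ideal.Quotient.mk (RingHom.ker ψ.toRingHom))
      (RingHom.kerLift ψ.toRingHom) (algebraMap_isIntegral_iff.mpr (Algebra.IsIntegral.of_finite P A)))
  have h1 : ringKrullDim A ≤ ringKrullDim (P ⧸ RingHom.ker ψ.toRingHom) :=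
    Order.krullDim_le_of_strictMono (PrimeSpectrum.comap (algebraMap (P ⧸ RingHom.ker ψ.toRingHom) A))
      fun x y hlt => Ideal.IsIntegral.comap_lt_comap hlt
  have h2 : ringKrullDim (P ⧸ RingHom.ker ψ.toRingHom) + 1 ≤ ringKrullDim P :=
    (add_le_add (ringKrullDim_le_of_surjective (Ideal.Quotient.factor (S := Ideal.span {x}) (T := RingHom.ker ψ.toRingHom) ((Ideal.span_singleton_le_iff_mem _).mpr hx))
      (Ideal.Quotient.factor_surjective _)) le_rfl).trans
      (ringKrullDim_quotient_succ_le_of_nonZeroDivisor (mem_nonZeroDivisors_of_ne_zero hx0))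
  obtain ⟨a, ha⟩ := Groth.Agent.DepthLib.exists_supportDim_eq_natCast (R := A) (M := A)
  haveI : Nontrivial (P ⧸ RingHom.ker ψ.toRingHom) := Ideal.Quotient.nontrivial_iff.mpr (RingHom.ker_ne_top _)
  haveI : IsLocalRing (P ⧸ RingHom.ker ψ.toRingHom) := IsLocalRing.of_surjective' _ Ideal.Quotient.mk_surjective
  obtain ⟨b, hb⟩ := Groth.Agent.DepthLib.exists_supportDim_eq_natCast (R := P ⧸ RingHom.ker ψ.toRingHom) (M := P ⧸ RingHom.ker ψ.toRingHom)
  obtain ⟨c, hc⟩ := Groth.Agent.DepthLib.exists_supportDim_eq_natCast (R := P) (M := P)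
  rw [Module.supportDim_self_eq_ringKrullDim] at ha hb hc
  rw [ha, hb] at h1
  rw [hb, hc] at h2
  rw [ha, hc] at hdim
  norm_cast at h1 h2 hdim
  omega

end Groth.Agent.S2460
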