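import Groth.Statements.S2462
import Groth.Agent.Lib.AdicSmooth3.Lift
import Mathlib.RingTheory.Filtration

set_option autoImplicit false
universe u
open EGA41

namespace Groth.Agent.S2462

open IsLocalRing in
/-- Let A carry the 𝔞-adic and B the 𝔟-adic topology with B formally smooth over A; let C be a complete
Noetherian local A-algebra with 𝔞C inside the maximal ideal (continuity of A → C) and J ≠ C an
ideal. Then every A-algebra homomorphism u : B → C/J sending 𝔟 into the maximal ideal of C/J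
(continuity) is induced by an A-algebra homomorphism v : B → C sending 𝔟 into the maximal ideal of
C. -/
theorem result {A B C : Type u} [CommRing A] (𝔞 : Ideal A) [CommRing B] [Algebra A B] (𝔟 : Ideal B)
    (hB : EGA41.IsFormallySmoothAdic A 𝔞 B 𝔟)
    [CommRing C] [IsLocalRing C] [IsNoetherianRing C] [IsAdicComplete (maximalIdeal C) C] [Algebra A C]
    (hA : 𝔞.map (algebraMap A C) ≤ maximalIdeal C) (J : Ideal C) (hJ : J ≠ ⊤)
    (u : B →ₐ[A] C ⧸ J) (hu : 𝔟.map u.toRingHom ≤ (maximalIdeal C).map (Ideal.Quotient.mk J)) :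
    ∃ v : B →ₐ[A] C, 𝔟.map v.toRingHom ≤ maximalIdeal C ∧ (Ideal.Quotient.mkₐ A J).comp v = u := by
  have hJm : J ≤ maximalIdeal C := le_maximalIdeal hJ
  haveI : Nontrivial (C ⧸ J) := Ideal.Quotient.nontrivial_iff.mpr hJ
  haveI : IsLocalRing (C ⧸ J) := IsLocalRing.of_surjective' _ Ideal.Quotient.mk_surjective
  haveI : IsHausdorff ((maximalIdeal C).map (Ideal.Quotient.mk J)) (C ⧸ J) := by
    rw [IsLocalRing.map_maximalIdeal_of_surjective _ Ideal.Quotient.mk_surjective]
    refine ⟨fun x hx => ?_⟩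
    have h : x ∈ ⨅ i, maximalIdeal (C ⧸ J) ^ i := Submodule.mem_iInf _ |>.mpr fun i => by
      have := hx i
      rwa [SModEq.zero, smul_eq_mul, Ideal.mul_top] at this
    rwa [Ideal.iInf_pow_eq_bot_of_isLocalRing _ (maximalIdeal.isMaximal _).ne_top, Ideal.mem_bot] at h
  obtain ⟨v, -, hv⟩ := AdicSmooth3.exists_lift 𝔞 𝔟 (maximalIdeal C) hB ⟨1, by rw [pow_one]; exact hA⟩ J
    ⟨1, by rw [pow_one]; exact hJm⟩ u ⟨1, by rw [pow_one]; exact hu⟩
  refine ⟨v, Ideal.map_le_iff_le_comap.mpr fun x hx => ?_, hv⟩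
  obtain ⟨c, hc, e⟩ := (Ideal.mem_map_iff_of_surjective _ Ideal.Quotient.mk_surjective).mp (hu (Ideal.mem_map_of_mem u.toRingHom hx))
  have h : Ideal.Quotient.mk J (v x) = Ideal.Quotient.mk J c := (AlgHom.congr_fun hv x).trans e.symm
  rw [Ideal.Quotient.eq] at h
  show v x ∈ maximalIdeal C
  have := add_mem (hJm h) hc
  rwa [sub_add_cancel] at this

end Groth.Agent.S2462
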