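import Groth.Statements.S2464
import Groth.Agent.Lib.PBasis.Over

set_option autoImplicit false
universe u
open EGA41

namespace Groth.Agent.S2464

theorem charP_E (p : ℕ) [Fact p.Prime] {A B : Type u} [CommRing A] [CommRing B] [Algebra A B] [CharP B p]
    (hinj : Function.Injective (algebraMap A B)) {E : Type u} [CommRing E] [Algebra A E] : ExpChar E p ∨ Subsingleton E := by
  rcases subsingleton_or_nontrivial E with h | h
  · exact Or.inr h
  refine Or.inl ?_
  have hp0 : (p : E) = 0 := by
    have hA : (p : A) = 0 := hinj (by rw [map_natCast, map_zero, CharP.cast_eq_zero])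
    rw [← map_natCast (algebraMap A E), hA, map_zero]
  haveI : CharP E p := (CharP.charP_iff_prime_eq_zero Fact.out).mpr hp0
  exact ExpChar.prime Fact.out

/-- Let p be a prime, B a ring of characteristic p and A → B an injective ring map whose image contains
every p-th power, and (x_α) a p-basis of B over A. Let E be an A-algebra and q : E → B a surjective
A-algebra homomorphism whose kernel K has K^p = 0. (i) q admits an A-algebra right inverse if and
only if, for all z ∈ E and a ∈ A with a ↦ q(z)^p in B, the image of a in E is z^p. (ii) When this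
holds, for every family (z_α) in E with q(z_α) = x_α there is a unique A-algebra homomorphism v : B
→ E with v(x_α) = z_α for all α, and q ∘ v is the identity. -/
theorem result (p : ℕ) [Fact p.Prime] {A B : Type u} [CommRing A] [CommRing B] [Algebra A B] [CharP B p]
    (hinj : Function.Injective (algebraMap A B)) (hpow : ∀ b : B, b ^ p ∈ Set.range (algebraMap A B))
    {ι : Type u} (x : ι → B) (hx : EGA41.IsPBasis p A x)
    {E : Type u} [CommRing E] [Algebra A E] (q : E →ₐ[A] B) (hq : Function.Surjective q) (hK : RingHom.ker q.toRingHom ^ p = ⊥) :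
    ((∃ v : B →ₐ[A] E, q.comp v = AlgHom.id A B) ↔ ∀ (z : E) (a : A), algebraMap A B a = q z ^ p → algebraMap A E a = z ^ p) ∧
    ((∀ (z : E) (a : A), algebraMap A B a = q z ^ p → algebraMap A E a = z ^ p) →
      ∀ z : ι → E, (∀ i, q (z i) = x i) →
        (∃! v : B →ₐ[A] E, ∀ i, v (x i) = z i) ∧ ∀ v : B →ₐ[A] E, (∀ i, v (x i) = z i) → q.comp v = AlgHom.id A B) := by
  have hE := charP_E p hinj (E := E)
  have htop := PBasis.adjoin_eq_top_of_span p x (fun i => hpow (x i)) (PBasis.span_of_isPBasis p hpow x hx.2)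
  have hsec : (∀ (z : E) (a : A), algebraMap A B a = q z ^ p → algebraMap A E a = z ^ p) →
      ∀ z : ι → E, (∀ i, q (z i) = x i) →
        (∃! v : B →ₐ[A] E, ∀ i, v (x i) = z i) ∧ ∀ v : B →ₐ[A] E, (∀ i, v (x i) = z i) → q.comp v = AlgHom.id A B := by
    intro h z hz
    refine ⟨PBasis.existsUnique_algHom p hinj hpow x hx z fun i a ha =>
      (h (z i) a (by rw [hz i]; exact ha)).symm, fun v hv => AlgHom.ext_of_adjoin_eq_top htop ?_⟩
    rintro _ ⟨i, rfl⟩
    simp [hv i, hz i]
  refine ⟨⟨?_, fun h => ?_⟩, hsec⟩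
  · rintro ⟨v, hv⟩ z a ha
    have hmem : z - v (q z) ∈ RingHom.ker q.toRingHom := by
      show q (z - v (q z)) = 0
      rw [map_sub, show q (v (q z)) = q z from AlgHom.congr_fun hv (q z), sub_self]
    have h0 : (z - v (q z)) ^ p = 0 := (Submodule.mem_bot E).mp (hK ▸ Ideal.pow_mem_pow hmem p)
    rcases hE with hc | hs
    · rw [sub_pow_expChar, sub_eq_zero, ← map_pow, ← ha, AlgHom.commutes] at h0
      exact h0.symm
    · exact Subsingleton.elim _ _
  · choose z hz using fun i => hq (x i)
    obtain ⟨⟨v, hv, -⟩, huniq⟩ := hsec h z hz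
    exact ⟨v, huniq v hv⟩

end Groth.Agent.S2464
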