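import Groth.Statements.S2465
import Groth.Agent.Lib.PBasis.Over
import Mathlib.Algebra.TrivSqZeroExt.Basic

set_option autoImplicit false
universe u
open EGA41

namespace Groth.Agent.S2465

theorem existsUnique_extend (p : ℕ) [Fact p.Prime] {A B : Type u} [CommRing A] [CommRing B] [Algebra A B] [CharP B p]
    (hinj : Function.Injective (algebraMap A B)) (hpow : ∀ b : B, b ^ p ∈ Set.range (algebraMap A B))
    {ι : Type u} (x : ι → B) (hx : EGA41.IsPBasis p A x)
    {L : Type u} [AddCommGroup L] [Module B L] [Module A L] [IsScalarTower A B L] (D : Derivation ℤ A L)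
    (h : ∀ (a : A) (b : B), algebraMap A B a = b ^ p → D a = 0) (y : ι → L) :
    ∃! D' : Derivation ℤ B L, (∀ a : A, D' (algebraMap A B a) = D a) ∧ ∀ i, D' (x i) = y i := by
  have htop := PBasis.adjoin_eq_top_of_span p x (fun i => hpow (x i)) (PBasis.span_of_isPBasis p hpow x hx.2)
  letI : Module Bᵐᵒᵖ L := Module.compHom L ((RingHom.id B).fromOpposite mul_comm)
  haveI : IsCentralScalar B L := ⟨fun _ _ => rfl⟩
  letI alg : Algebra A (TrivSqZeroExt B L) := RingHom.toAlgebra
    { toFun := fun a => TrivSqZeroExt.inl (algebraMap A B a) + TrivSqZeroExt.inr (D a)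
      map_one' := TrivSqZeroExt.ext (by simp) (by simp)
      map_mul' := fun a b => TrivSqZeroExt.ext (by simp) (by
        simp [TrivSqZeroExt.snd_mul, op_smul_eq_smul, algebraMap_smul])
      map_zero' := TrivSqZeroExt.ext (by simp) (by simp)
      map_add' := fun a b => TrivSqZeroExt.ext (by simp) (by simp) }
  have halg : ∀ a, algebraMap A (TrivSqZeroExt B L) a =
      TrivSqZeroExt.inl (algebraMap A B a) + TrivSqZeroExt.inr (D a) := fun _ => rfl
  obtain ⟨φ, hφ, -⟩ := PBasis.existsUnique_algHom p hinj hpow x hx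
    (fun i => (TrivSqZeroExt.inl (x i) + TrivSqZeroExt.inr (y i) : TrivSqZeroExt B L)) (fun i a ha => by
      rw [halg]
      refine TrivSqZeroExt.ext (by simp [ha]) ?_
      rw [TrivSqZeroExt.snd_pow, ← Nat.cast_smul_eq_nsmul B, CharP.cast_eq_zero, zero_smul]
      simp [h a (x i) ha])
  have hfst : ∀ b, (φ b).fst = b := by
    intro b
    have hb : b ∈ Algebra.adjoin A (Set.range x) := htop ▸ Algebra.mem_top
    induction hb using Algebra.adjoin_induction with
    | mem w hw => obtain ⟨i, rfl⟩ := hw; rw [hφ]; simp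
    | algebraMap r => rw [AlgHom.commutes, halg]; simp
    | add u v _ _ hu hv => rw [map_add, TrivSqZeroExt.fst_add, hu, hv]
    | mul u v _ _ hu hv => rw [map_mul, TrivSqZeroExt.fst_mul, hu, hv]
  refine ⟨Derivation.mk' (AddMonoidHom.toIntLinearMap
    { toFun := fun b => (φ b).snd, map_zero' := by simp, map_add' := fun u v => by simp })
    (fun u v => by
      show (φ (u * v)).snd = u • (φ v).snd + v • (φ u).snd
      rw [map_mul, TrivSqZeroExt.snd_mul, hfst, hfst, op_smul_eq_smul]), ⟨fun a => ?_, fun i => ?_⟩, ?_⟩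
  · show (φ (algebraMap A B a)).snd = D a
    rw [AlgHom.commutes, halg]; simp
  · show (φ (x i)).snd = y i
    rw [hφ]; simp
  · rintro D'' ⟨hD1, hD2⟩
    refine Derivation.ext fun b => ?_
    show D'' b = (φ b).snd
    have hb : b ∈ Algebra.adjoin A (Set.range x) := htop ▸ Algebra.mem_top
    induction hb using Algebra.adjoin_induction with
    | mem w hw => obtain ⟨i, rfl⟩ := hw; rw [hφ, hD2]; simp
    | algebraMap r => rw [AlgHom.commutes, halg, hD1]; simp
    | add u v _ _ hu hv => rw [map_add, map_add, TrivSqZeroExt.snd_add, hu, hv]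
    | mul u v _ _ hu hv => rw [Derivation.leibniz, map_mul φ, TrivSqZeroExt.snd_mul, hfst, hfst, op_smul_eq_smul, hu, hv]

/-- Let p be a prime, B a ring of characteristic p, A → B injective with image containing all p-th
powers, (x_α) a p-basis of B over A, and L a B-module. (i) An additive derivation D : A → L extends
to a derivation of B if and only if D vanishes on the elements of A mapping to p-th powers. (ii) In
that case, for every family (y_α) in L there is a unique derivation D' of B into L extending D with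
D'(x_α) = y_α for all α. -/
theorem result (p : ℕ) [Fact p.Prime] {A B : Type u} [CommRing A] [CommRing B] [Algebra A B] [CharP B p]
    (hinj : Function.Injective (algebraMap A B)) (hpow : ∀ b : B, b ^ p ∈ Set.range (algebraMap A B))
    {ι : Type u} (x : ι → B) (hx : EGA41.IsPBasis p A x)
    (L : Type u) [AddCommGroup L] [Module B L] [Module A L] [IsScalarTower A B L] (D : Derivation ℤ A L) :
    ((∃ D' : Derivation ℤ B L, ∀ a : A, D' (algebraMap A B a) = D a) ↔ ∀ (a : A) (b : B), algebraMap A B a = b ^ p → D a = 0) ∧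
    ((∀ (a : A) (b : B), algebraMap A B a = b ^ p → D a = 0) →
      ∀ y : ι → L, ∃! D' : Derivation ℤ B L, (∀ a : A, D' (algebraMap A B a) = D a) ∧ ∀ i, D' (x i) = y i) := by
  refine ⟨⟨?_, fun h => ?_⟩, fun h y => existsUnique_extend p hinj hpow x hx D h y⟩
  · rintro ⟨D', hD'⟩ a b hab
    rw [← hD', hab, Derivation.leibniz_pow, ← Nat.cast_smul_eq_nsmul B, CharP.cast_eq_zero, zero_smul]
  · obtain ⟨D', hD', -⟩ := existsUnique_extend p hinj hpow x hx D h 0
    exact ⟨D', hD'.1⟩

end Groth.Agent.S2465
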