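import Groth.Statements.S5777
import Groth.Agent.Lib.RegFlat3.Basic

set_option autoImplicit false
universe u
open EGA41

namespace Groth.Agent.S5777

/-- Let φ : A → B be a local homomorphism of Noetherian local rings, M a finitely generated B-module and
(f_i)_{1 ≤ i ≤ n} an A-regular sequence of elements of the maximal ideal of A, generating the ideal
J. Then M is flat over A if and only if M/JM is flat over A/J and (f_i) is an M-regular sequence. -/
theorem result (A B : Type u) [CommRing A] [CommRing B]
    [IsLocalRing A] [IsLocalRing B] [IsNoetherianRing A] [IsNoetherianRing B] [Algebra A B]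
    [IsLocalHom (algebraMap A B)] (M : Type u) [AddCommGroup M] [Module B M] [Module A M]
    [IsScalarTower A B M] [Module.Finite B M] (fs : List A) (hfs : ∀ f ∈ fs, f ∈ IsLocalRing.maximalIdeal A)
    (hA : RingTheory.Sequence.IsWeaklyRegular A fs) :
    Module.Flat A M ↔
      Module.Flat (A ⧸ Ideal.ofList fs) (M ⧸ (Ideal.ofList fs • (⊤ : Submodule A M))) ∧
        RingTheory.Sequence.IsWeaklyRegular M fs := by
  constructor
  · intro hflat
    haveI := hflat
    refine ⟨?_, ?_⟩
    · let e : TensorProduct A (A ⧸ Ideal.ofList fs) M ≃ₗ[A ⧸ Ideal.ofList fs] M ⧸ (Ideal.ofList fs • (⊤ : Submodule A M)) :=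
        LinearEquiv.extendScalarsOfSurjective Ideal.Quotient.mk_surjective (TensorProduct.quotTensorEquivQuotSMul M _)
      exact Module.Flat.of_linearEquiv e.symm
    · exact (LinearEquiv.isWeaklyRegular_congr (TensorProduct.rid A M) fs).1 (hA.isWeaklyRegular_lTensor (M₂ := M))
  · rintro ⟨h2, hM⟩
    let e : TensorProduct A (A ⧸ Ideal.ofList fs) M ≃ₗ[A ⧸ Ideal.ofList fs] M ⧸ (Ideal.ofList fs • (⊤ : Submodule A M)) :=
      LinearEquiv.extendScalarsOfSurjective Ideal.Quotient.mk_surjective (TensorProduct.quotTensorEquivQuotSMul M _)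
    haveI := h2
    refine Groth.Agent.FlatH4.flat_of_le_jacobson (S := B) (Ideal.ofList fs) ?_
      (Groth.Agent.RegFlat3.lTensor_subtype_injective M fs hM) (Module.Flat.of_linearEquiv e)
    refine (Ideal.map_mono (Ideal.span_le.2 fun f hf => hfs f hf)).trans ?_
    exact (Ideal.map_le_iff_le_comap.2 (IsLocalRing.maximalIdeal_comap (algebraMap A B)).ge).trans
      (IsLocalRing.maximalIdeal_le_jacobson _)

end Groth.Agent.S5777
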