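import Groth.Statements.S2470
import Groth.Agent.S5777
import Groth.Agent.Lib.EmbDef.Regular
import Groth.Agent.Lib.Depth.CM
import Groth.Agent.Lib.RegLoc.Sop
import Groth.Agent.Lib.RegLoc.GlobalDim
import Mathlib.Tactic.TFAE
import Mathlib.RingTheory.Ideal.KrullsHeightTheorem

set_option autoImplicit false
universe u
open EGA41

namespace Groth.Agent.S2470

open IsLocalRing in
/-- Let A → B be a local homomorphism of Noetherian local rings with maximal ideals 𝔪, 𝔫 and residue
fields k, k', and let B₀ = B/𝔪B be the closed fibre. The following are equivalent: (a) B is regular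
and the canonical map (𝔪/𝔪²) ⊗_k k' → 𝔫/𝔫² is injective — stated here through dimensions, as
rank_{k'} 𝔫/𝔫² = rank_k 𝔪/𝔪² + rank_{k'} of the cotangent space of B₀, which is equivalent since the
cokernel of that map is the cotangent space of B₀; (c) B and B₀ are regular and B is flat over A;
(d) A and B₀ are regular and B is flat over A; (e) A and B₀ are regular and dim B = dim A + dim B₀.
(Condition (b) of the source, on regular systems of parameters, is not stated.) -/
theorem result {A B : Type u} [CommRing A] [IsLocalRing A] [IsNoetherianRing A] [CommRing B] [IsLocalRing B] [IsNoetherianRing B]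
    [Algebra A B] [IsLocalHom (algebraMap A B)] [IsLocalRing (B ⧸ (maximalIdeal A).map (algebraMap A B))] :
    [IsRegularLocalRing B ∧
       Module.finrank (ResidueField B) (CotangentSpace B) =
         Module.finrank (ResidueField A) (CotangentSpace A) +
           Module.finrank (ResidueField (B ⧸ (maximalIdeal A).map (algebraMap A B))) (CotangentSpace (B ⧸ (maximalIdeal A).map (algebraMap A B))),
     IsRegularLocalRing B ∧ IsRegularLocalRing (B ⧸ (maximalIdeal A).map (algebraMap A B)) ∧ Module.Flat A B,
     IsRegularLocalRing A ∧ IsRegularLocalRing (B ⧸ (maximalIdeal A).map (algebraMap A B)) ∧ Module.Flat A B,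
     IsRegularLocalRing A ∧ IsRegularLocalRing (B ⧸ (maximalIdeal A).map (algebraMap A B)) ∧
       ringKrullDim B = ringKrullDim A + ringKrullDim (B ⧸ (maximalIdeal A).map (algebraMap A B))].TFAE := by
  have hle : (maximalIdeal A).map (algebraMap A B) ≤ maximalIdeal B := Ideal.map_le_iff_le_comap.2 (maximalIdeal_comap _).ge
  haveI : IsNoetherianRing (B ⧸ (maximalIdeal A).map (algebraMap A B)) := inferInstance
  obtain ⟨dA, hdA⟩ := Groth.Agent.RegLoc.exists_dim_eq_nat (R := A)
  obtain ⟨dB, hdB⟩ := Groth.Agent.RegLoc.exists_dim_eq_nat (R := B)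
  obtain ⟨dF, hdF⟩ := Groth.Agent.RegLoc.exists_dim_eq_nat (R := (B ⧸ (maximalIdeal A).map (algebraMap A B)))
  have hA := ringKrullDim_le_spanFinrank_maximalIdeal A
  have hB := ringKrullDim_le_spanFinrank_maximalIdeal B
  have hF := ringKrullDim_le_spanFinrank_maximalIdeal (B ⧸ (maximalIdeal A).map (algebraMap A B))
  rw [hdA] at hA; rw [hdB] at hB; rw [hdF] at hF
  have hA' : dA ≤ (maximalIdeal A).spanFinrank := by exact_mod_cast hA
  have hB' : dB ≤ (maximalIdeal B).spanFinrank := by exact_mod_cast hB
  have hF' : dF ≤ (maximalIdeal (B ⧸ (maximalIdeal A).map (algebraMap A B))).spanFinrank := by exact_mod_cast hF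
  have hgen : (maximalIdeal B).spanFinrank ≤ (maximalIdeal A).spanFinrank + (maximalIdeal (B ⧸ (maximalIdeal A).map (algebraMap A B))).spanFinrank := by
    obtain ⟨x, hx⟩ := Groth.Agent.RegLoc.exists_fin_generators A
    obtain ⟨y, hy⟩ := Groth.Agent.RegLoc.exists_fin_generators (B ⧸ (maximalIdeal A).map (algebraMap A B))
    choose z hz using fun i => Ideal.Quotient.mk_surjective (y i)
    have h := Groth.Agent.RegLoc.maximalIdeal_eq_sup_span z
      (by rw [show Ideal.Quotient.mk _ ∘ z = y from funext hz]; exact hy) hle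
    have e : (maximalIdeal A).map (algebraMap A B) = Ideal.span (Set.range (algebraMap A B ∘ x)) := by
      conv_lhs => rw [← hx]
      rw [Ideal.map_span, ← Set.range_comp]
    replace h := h.trans (congrArg (Ideal.span (Set.range z) ⊔ ·) e)
    rw [← Ideal.span_union, ← Set.Sum.elim_range] at h
    conv_lhs => rw [h, ← Set.image_univ]
    refine (Submodule.spanFinrank_span_le_ncard_of_finite (Set.finite_univ.image _)).trans
      ((Set.ncard_image_le Set.finite_univ).trans ?_)
    simp [Set.ncard_univ, Nat.card_eq_fintype_card, add_comm]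
  haveI : (maximalIdeal B).LiesOver (maximalIdeal A) := ⟨(maximalIdeal_comap _).symm⟩
  have hmapF : (maximalIdeal B).map (Ideal.Quotient.mk ((maximalIdeal A).map (algebraMap A B))) = maximalIdeal (B ⧸ (maximalIdeal A).map (algebraMap A B)) :=
    map_maximalIdeal_of_surjective _ Ideal.Quotient.mk_surjective
  have hdim : dB ≤ dA + dF := by
    have h := Ideal.height_le_height_add_of_liesOver (maximalIdeal A) (maximalIdeal B)
    rw [hmapF] at h
    have h' : ((maximalIdeal B).height : WithBot ℕ∞) ≤ (maximalIdeal A).height + (maximalIdeal (B ⧸ (maximalIdeal A).map (algebraMap A B))).height := by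
      exact_mod_cast h
    rw [maximalIdeal_height_eq_ringKrullDim, maximalIdeal_height_eq_ringKrullDim, maximalIdeal_height_eq_ringKrullDim,
      hdA, hdB, hdF] at h'
    exact_mod_cast h'
  have hflat : Module.Flat A B → dB = dA + dF := fun h => by
    haveI := h
    have h := Ideal.height_eq_height_add_of_liesOver_of_hasGoingDown (maximalIdeal A) (maximalIdeal B)
    rw [hmapF] at h
    have h' : ((maximalIdeal B).height : WithBot ℕ∞) = (maximalIdeal A).height + (maximalIdeal (B ⧸ (maximalIdeal A).map (algebraMap A B))).height := by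
      exact_mod_cast h
    rw [maximalIdeal_height_eq_ringKrullDim, maximalIdeal_height_eq_ringKrullDim, maximalIdeal_height_eq_ringKrullDim,
      hdA, hdB, hdF] at h'
    exact_mod_cast h'
  simp only [← spanFinrank_maximalIdeal_eq_finrank_cotangentSpace]
  rw [hdA, hdB, hdF]
  have regIff : ∀ (R : Type u) [CommRing R] [IsLocalRing R] [IsNoetherianRing R] (d : ℕ), ringKrullDim R = d →
      (IsRegularLocalRing R ↔ (maximalIdeal R).spanFinrank = d) := fun R _ _ _ d hd => by
    rw [isRegularLocalRing_iff, hd]; exact ⟨fun h => by exact_mod_cast h, fun h => by exact_mod_cast h⟩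
  rw [regIff A dA hdA, regIff B dB hdB, regIff (B ⧸ (maximalIdeal A).map (algebraMap A B)) dF hdF]
  tfae_have 1 → 4 := fun ⟨h1, h2⟩ => ⟨by omega, by omega, by exact_mod_cast (by omega : dB = dA + dF)⟩
  tfae_have 4 → 1 := fun ⟨h1, h2, h3⟩ => by
    have h3' : dB = dA + dF := by exact_mod_cast h3
    exact ⟨by omega, by omega⟩
  tfae_have 2 → 3 := fun ⟨h1, h2, h3⟩ => by
    haveI := h3
    haveI := (regIff B dB hdB).2 h1
    exact ⟨(regIff A dA hdA).1 (Groth.Agent.RegLoc.isRegularLocalRing_of_flat A B), h2, h3⟩
  tfae_have 3 → 4 := fun ⟨h1, h2, h3⟩ => ⟨h1, h2, by exact_mod_cast hflat h3⟩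
  tfae_have 4 → 2 := fun ⟨h1, h2, h3⟩ => by
    have h3' : dB = dA + dF := by exact_mod_cast h3
    have hB1 : (maximalIdeal B).spanFinrank = dB := by omega
    refine ⟨hB1, h2, ?_⟩
    haveI := (regIff B dB hdB).2 hB1
    haveI := (regIff A dA hdA).2 h1
    haveI := Groth.Agent.DepthLib.isCohenMacaulayLocalRing_of_isRegularLocalRing (R := B)
    obtain ⟨x, hx⟩ := Groth.Agent.RegLoc.exists_fin_generators A
    set xs := List.ofFn x
    have hxm : Ideal.ofList xs = maximalIdeal A := by
      refine Eq.trans ?_ hx
      rw [Ideal.ofList]; congr 1; ext; simp [xs, List.mem_ofFn]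
    have hmem : ∀ a ∈ xs, a ∈ maximalIdeal A := fun a ha => hxm ▸ Ideal.subset_span ha
    refine (Groth.Agent.S5777.result A B B xs hmem
      (Groth.Agent.RegLoc.isRegular_of_span_range _ A x hx rfl).toIsWeaklyRegular).2 ⟨?_, ?_⟩
    · haveI : (Ideal.ofList xs).IsMaximal := hxm.symm ▸ maximalIdeal.isMaximal A
      letI : Field (A ⧸ Ideal.ofList xs) := Ideal.Quotient.field _
      infer_instance
    · refine (RingTheory.Sequence.isWeaklyRegular_map_algebraMap_iff B B xs).1
        (Groth.Agent.EmbDef.isWeaklyRegular_of_dim _ (fun b hb => ?_) ?_)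
      · obtain ⟨a, ha, rfl⟩ := List.mem_map.1 hb
        exact hle (Ideal.mem_map_of_mem _ (hmem a ha))
      · rw [← Ideal.map_ofList, hxm, List.length_map, List.length_ofFn]
        show ringKrullDim (B ⧸ (maximalIdeal A).map (algebraMap A B)) + _ = _
        rw [hdF, hdB]
        exact_mod_cast (by omega : dF + (maximalIdeal A).spanFinrank = dB)
  tfae_finish

end Groth.Agent.S2470
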