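import Groth.Statements.S2473
import Groth.Agent.Lib.PPoly3.Regular

set_option autoImplicit false
universe u
open EGA41

namespace Groth.Agent.S2473

open IsLocalRing TensorProduct in
/-- Let A be a regular local ring whose residue field K has characteristic p > 0; for 1 ≤ i ≤ r let F_i
= T_i^p + p Σ_{j=1}^{p-1} c_{ij} T_i^{p-j} − f_i with c_{ij}, f_i ∈ A, and let B be the quotient of
A[T_1, …, T_r] by the ideal generated by the F_i. Then B is a local ring, and B is regular if and
only if the elements d f_i ⊗ 1 of Ω_{A/ℤ} ⊗_A K are linearly independent over K. Assumed in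
addition: p lies in the square of the maximal ideal of A (which covers the case where A has
characteristic p); the printed statement omits this, and the equivalence can fail for A absolutely
unramified, e.g. A = ℤ_(p), r = 1, f_1 = p. (Condition (c) of the source, on the characteristic
homomorphism Ξ, is not stated.) -/
theorem result {A : Type u} [CommRing A] [IsRegularLocalRing A] (p : ℕ) [Fact p.Prime] [CharP (ResidueField A) p]
    {r : ℕ} (c : Fin r → Fin p → A) (f : Fin r → A)
    (hp : (p : A) ∈ maximalIdeal A ^ 2) :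
    let F : Fin r → MvPolynomial (Fin r) A := fun i =>
      MvPolynomial.X i ^ p + (p : MvPolynomial (Fin r) A) * (Finset.univ.sum fun j : Fin p =>
        if (j : ℕ) = 0 then 0 else MvPolynomial.C (c i j) * MvPolynomial.X i ^ (p - (j : ℕ))) - MvPolynomial.C (f i)
    IsLocalRing (MvPolynomial (Fin r) A ⧸ Ideal.span (Set.range F)) ∧
      (IsRegularRing (MvPolynomial (Fin r) A ⧸ Ideal.span (Set.range F)) ↔
        LinearIndependent (ResidueField A) (fun i => (1 : ResidueField A) ⊗ₜ[A] KaehlerDifferential.D ℤ A (f i))) := by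
  classical
  intro F
  have hp0 := (Fact.out : p.Prime).ne_zero
  -- the defining polynomials in one variable
  let Q : Fin r → Polynomial A := fun i => Polynomial.C ((p : A)) * (Finset.univ.sum fun j : Fin p =>
    if (j : ℕ) = 0 then 0 else Polynomial.C (c i j) * Polynomial.X ^ (p - (j : ℕ))) - Polynomial.C (f i)
  let P : Fin r → Polynomial A := fun i => Polynomial.X ^ p + Q i
  have hQdeg : ∀ i, (Q i).degree < p := fun i => by
    have h1 : (Finset.univ.sum fun j : Fin p =>
        if (j : ℕ) = 0 then (0 : Polynomial A) else Polynomial.C (c i j) * Polynomial.X ^ (p - (j : ℕ))).degree <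
        (p : WithBot ℕ) := by
      refine lt_of_le_of_lt (Polynomial.degree_sum_le _ _) ((Finset.sup_lt_iff (WithBot.bot_lt_coe p)).mpr fun j _ => ?_)
      split_ifs with hj
      · rw [Polynomial.degree_zero]; exact WithBot.bot_lt_coe p
      · refine lt_of_le_of_lt (Polynomial.degree_C_mul_X_pow_le _ _) ?_
        have := j.2
        exact Nat.cast_lt.mpr (by omega)
    refine lt_of_le_of_lt (Polynomial.degree_sub_le _ _) (max_lt ?_ ?_)
    · exact lt_of_le_of_lt (Polynomial.degree_mul_le _ _) (lt_of_le_of_lt
        (add_le_add Polynomial.degree_C_le le_rfl) (by rw [zero_add]; exact h1))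
    · exact lt_of_le_of_lt Polynomial.degree_C_le (by exact_mod_cast (Fact.out : p.Prime).pos)
  have hPm : ∀ i, (P i).Monic := fun i => Polynomial.monic_X_pow_add (hQdeg i)
  have hPd : ∀ i, (P i).natDegree ≠ 0 := fun i => by
    have : (P i).degree = p := by
      simp only [P]
      rw [Polynomial.degree_add_eq_left_of_degree_lt (by rw [Polynomial.degree_X_pow]; exact hQdeg i),
        Polynomial.degree_X_pow]
    rw [Polynomial.natDegree_eq_of_degree_eq_some this]
    exact hp0
  have heval : ∀ (C : Type u) [CommRing C] (φ : A →+* C) (z : Fin r → C) (i : Fin r),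
      MvPolynomial.eval₂Hom φ z (F i) = (P i).eval₂ φ (z i) := by
    intro C _ φ z i
    simp only [P, Q, F, map_add, map_sub, map_mul, map_pow, map_natCast, map_sum, MvPolynomial.eval₂Hom_X',
      MvPolynomial.eval₂Hom_C, Polynomial.eval₂_add, Polynomial.eval₂_sub, Polynomial.eval₂_mul, Polynomial.eval₂_pow,
      Polynomial.eval₂_X, Polynomial.eval₂_C, Polynomial.eval₂_finsetSum]
    rw [add_sub_assoc]
    simp only [apply_ite (MvPolynomial.eval₂Hom φ z), apply_ite (Polynomial.eval₂ φ (z i)), map_zero, map_mul, map_pow,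
      MvPolynomial.eval₂Hom_X', MvPolynomial.eval₂Hom_C, Polynomial.eval₂_zero, Polynomial.eval₂_mul, Polynomial.eval₂_pow,
      Polynomial.eval₂_X, Polynomial.eval₂_C, Polynomial.eval₂_natCast]
  let I : Ideal (MvPolynomial (Fin r) A) := Ideal.span (Set.range F)
  let t : Fin r → MvPolynomial (Fin r) A ⧸ I := fun i => Ideal.Quotient.mk I (MvPolynomial.X i)
  have ht : MvPolynomial.aeval (R := A) t = Ideal.Quotient.mkₐ A I :=
    MvPolynomial.algHom_ext fun i => by simp only [MvPolynomial.aeval_X]; rfl
  refine PPoly3.regular_iff p hp f F t (ht ▸ Ideal.Quotient.mk_surjective) (ht ▸ Ideal.mk_ker) P hPm hPd heval fun i => ?_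
  have h0 : ((p : ℕ) : A ⧸ maximalIdeal A ^ 2) = 0 := by
    rw [← map_natCast (Ideal.Quotient.mk (maximalIdeal A ^ 2))]; exact Ideal.Quotient.eq_zero_iff_mem.mpr hp
  have h1 : ((p : ℕ) : MvPolynomial (Fin r) (A ⧸ maximalIdeal A ^ 2)) = 0 := by
    rw [← map_natCast (MvPolynomial.C : (A ⧸ maximalIdeal A ^ 2) →+* _), h0, map_zero]
  simp only [F, map_add, map_sub, map_mul, map_pow, map_natCast, MvPolynomial.map_X, MvPolynomial.map_C, h1, zero_mul,
    add_zero]

end Groth.Agent.S2473
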