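import Groth.Statements.S2474
import Groth.Agent.Lib.MoriRes6.Semilocal

set_option autoImplicit false
universe u
open EGA41

namespace Groth.Agent.S2474

open IsLocalRing in
/-- Let A be a Noetherian local domain with fraction field K, K' a finite extension of K and A' the
integral closure of A in K'. Then A' has only finitely many maximal ideals, and for every maximal
ideal 𝔪' of A' the field A'/𝔪' is a finite extension of the residue field of A (equivalently a
finite A-module). -/
theorem result {A K' : Type u} [CommRing A] [IsDomain A] [IsLocalRing A] [IsNoetherianRing A]
    [Field K'] [Algebra A K'] [Algebra (FractionRing A) K'] [IsScalarTower A (FractionRing A) K'] [FiniteDimensional (FractionRing A) K'] :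
    {m : Ideal (integralClosure A K') | m.IsMaximal}.Finite ∧
      ∀ (m : Ideal (integralClosure A K')), m.IsMaximal → Module.Finite A (integralClosure A K' ⧸ m) := by
  exact ⟨Groth.Agent.MoriRes6.finite_maximal A K', fun m hm => Groth.Agent.MoriRes6.finite_residue_ext A K' m hm⟩

end Groth.Agent.S2474
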