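import Groth.Statements.S2476
import Groth.Agent.Lib.CKaehlerFree3.Free
import Groth.Agent.Lib.CKaehlerFree3.Rank
import Groth.Agent.Lib.AdicSmooth.RegularIff
import Mathlib.LinearAlgebra.TensorProduct.Quotient

set_option autoImplicit false
universe u
open EGA41

namespace Groth.Agent.S2476

open IsLocalRing TensorProduct in
/-- Let k₀ be a field and A a complete Noetherian local k₀-algebra, formally smooth over k₀ for the adic
topology, whose residue field K is a finitely generated extension of k₀. Then the 𝔪-adic completion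
Ω̂_{A/k₀} of Ω_{A/k₀} is a free A-module of rank dim A + trdeg_{k₀} K. -/
theorem result {k₀ A : Type u} [Field k₀] [CommRing A] [IsLocalRing A] [IsNoetherianRing A] [Algebra k₀ A]
    [IsAdicComplete (maximalIdeal A) A] (hfs : CAlgX.IsAdicFormallySmooth k₀ A (maximalIdeal A))
    [Algebra.EssFiniteType k₀ (ResidueField A)] :
    Module.Finite A (AdicCompletion (maximalIdeal A) (Ω[A⁄k₀])) ∧ Module.Free A (AdicCompletion (maximalIdeal A) (Ω[A⁄k₀])) ∧
      (Module.finrank A (AdicCompletion (maximalIdeal A) (Ω[A⁄k₀])) : WithBot ℕ∞) =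
        ringKrullDim A + (Cardinal.toNat (Algebra.trdeg k₀ (ResidueField A)) : WithBot ℕ∞) := by
  haveI := hfs
  have hA' : IsAdicComplete (maximalIdeal A) A := inferInstance
  obtain ⟨hfin, hdim⟩ := CKaehlerFree3.finrank_tensor_kaehler hfs
  set N := Module.finrank (ResidueField A) (ResidueField A ⊗[A] Ω[A⁄k₀]) with hN
  let b : Module.Basis (ULift.{u} (Fin N)) (ResidueField A) (ResidueField A ⊗[A] Ω[A⁄k₀]) :=
    (Module.finBasis (ResidueField A) (ResidueField A ⊗[A] Ω[A⁄k₀])).reindex Equiv.ulift.symm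
  have hmk : ∀ w : ResidueField A ⊗[A] Ω[A⁄k₀], ∃ y : Ω[A⁄k₀], (1 : ResidueField A) ⊗ₜ[A] y = w :=
    TensorProduct.mk_surjective A Ω[A⁄k₀] (ResidueField A) residue_surjective
  choose y hy using fun i => hmk (b i)
  let g : (ULift.{u} (Fin N) → A) →ₗ[A] Ω[A⁄k₀] := Fintype.linearCombination A y
  have hg : ∀ x, (1 : ResidueField A) ⊗ₜ[A] g x = ∑ i, residue A (x i) • b i := fun x => by
    rw [Fintype.linearCombination_apply, TensorProduct.tmul_sum]
    refine Finset.sum_congr rfl fun i _ => ?_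
    rw [TensorProduct.tmul_smul, hy, ← algebraMap_smul (ResidueField A) (x i) (b i)]
    rfl
  have h0 : ∀ w : Ω[A⁄k₀], (1 : ResidueField A) ⊗ₜ[A] w = 0 ↔ w ∈ (maximalIdeal A • ⊤ : Submodule A Ω[A⁄k₀]) := by
    intro w
    have key : TensorProduct.quotTensorEquivQuotSMul Ω[A⁄k₀] (maximalIdeal A)
        ((1 : A ⧸ maximalIdeal A) ⊗ₜ[A] w) = Submodule.Quotient.mk w := by
      rw [← map_one (Ideal.Quotient.mk (maximalIdeal A)), TensorProduct.quotTensorEquivQuotSMul_mk_tmul, one_smul]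
    rw [← Submodule.Quotient.mk_eq_zero, ← key]
    exact (LinearEquiv.map_eq_zero_iff _).symm
  have hinj : ∀ x, g x ∈ (maximalIdeal A • ⊤ : Submodule A Ω[A⁄k₀]) →
      x ∈ (maximalIdeal A • ⊤ : Submodule A (ULift.{u} (Fin N) → A)) := fun x hx => by
    have h1 := (h0 _).2 hx
    rw [hg] at h1
    have h2 := Fintype.linearIndependent_iff.1 b.linearIndependent _ h1
    rw [pi_eq_sum_univ x]
    exact sum_mem fun i _ => Submodule.smul_mem_smul ((residue_eq_zero_iff _).1 (h2 i)) Submodule.mem_top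
  have hsurj : ∀ w, ∃ x, w - g x ∈ (maximalIdeal A • ⊤ : Submodule A Ω[A⁄k₀]) := fun w => by
    choose x hx using fun i => residue_surjective (R := A) (b.repr ((1 : ResidueField A) ⊗ₜ[A] w) i)
    refine ⟨x, (h0 _).1 ?_⟩
    rw [TensorProduct.tmul_sub, hg]
    simp_rw [hx]
    rw [b.sum_repr, sub_self]
  have hb : ∀ n, Function.Bijective (Submodule.mapQ (maximalIdeal A ^ n • ⊤) (maximalIdeal A ^ n • ⊤) g
      (CKaehlerFree3.smul_top_le_smul_top g)) := fun n => by
    haveI := AdicSmooth.projective_kaehler_mod (maximalIdeal A ^ n) (A := k₀) (fun S _ _ J hJ ψ ⟨j, hj⟩ =>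
      hfs S J hJ ψ ⟨n * j, fun x hx => hj x (by rwa [← pow_mul])⟩)
    haveI : Module.Projective (A ⧸ maximalIdeal A ^ n) (Ω[A⁄k₀] ⧸ (maximalIdeal A ^ n • ⊤ : Submodule A Ω[A⁄k₀])) :=
      Module.Projective.of_equiv (LinearEquiv.extendScalarsOfSurjective Ideal.Quotient.mk_surjective
        (TensorProduct.quotTensorEquivQuotSMul Ω[A⁄k₀] (maximalIdeal A ^ n)))
    exact CKaehlerFree3.bijective_mapQ_pow (maximalIdeal A) n g hinj hsurj
  obtain ⟨e⟩ := CKaehlerFree3.nonempty_linearEquiv (maximalIdeal A) g hb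
  refine ⟨Module.Finite.equiv e, Module.Free.of_equiv e, ?_⟩
  rw [← e.finrank_eq, Module.finrank_fintype_fun_eq_card, Fintype.card_ulift, Fintype.card_fin, hdim]
  haveI := AdicSmooth.isRegularLocalRing_of_adicFS hfs
  rw [← (IsRegularLocalRing.iff_finrank_cotangentSpace A).1 inferInstance]
  push_cast
  rfl

end Groth.Agent.S2476
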