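import Groth.Statements.S2477
import Groth.Agent.S2476
import Groth.Agent.Lib.H2Alg.PSHom
import Groth.Agent.Lib.AdicSmooth.PowerSeries
import Mathlib.RingTheory.AlgebraicIndependent.TranscendenceBasis

set_option autoImplicit false
universe u
open EGA41

namespace Groth.Agent.S2477

open IsLocalRing in
/-- Let k be a field and A = k[[T_1, …, T_r]] with its usual k-algebra structure. Then the adic
completion Ω̂_{A/k} of Ω_{A/k} is a free A-module of rank r. -/
theorem result (k : Type u) [Field k] (r : ℕ) :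
    Module.Finite (MvPowerSeries (Fin r) k) (AdicCompletion (maximalIdeal (MvPowerSeries (Fin r) k)) (Ω[MvPowerSeries (Fin r) k⁄k])) ∧
    Module.Free (MvPowerSeries (Fin r) k) (AdicCompletion (maximalIdeal (MvPowerSeries (Fin r) k)) (Ω[MvPowerSeries (Fin r) k⁄k])) ∧
      Module.finrank (MvPowerSeries (Fin r) k) (AdicCompletion (maximalIdeal (MvPowerSeries (Fin r) k)) (Ω[MvPowerSeries (Fin r) k⁄k])) = r := by
  haveI : IsAdicComplete (maximalIdeal (MvPowerSeries (Fin r) k)) (MvPowerSeries (Fin r) k) := by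
    rw [H2Alg.PSHom.maximalIdeal_eq]
    exact { toIsHausdorff := inferInstance, toIsPrecomplete := inferInstance }
  haveI := H2Alg.PSHom.isRegularLocalRing k r
  have hfs : CAlgX.IsAdicFormallySmooth k (MvPowerSeries (Fin r) k) (maximalIdeal (MvPowerSeries (Fin r) k)) := by
    intro C _ _ J hJ u hu
    obtain ⟨j, hj⟩ := hu
    refine AdicSmooth.exists_continuous_lift_powerSeries (⊥ : Ideal k) J ⟨2, hJ⟩ u ⟨j, fun x hx => hj x ?_⟩
    refine Ideal.pow_right_mono (sup_le (by rw [Ideal.map_bot]; exact bot_le) fun y hy => ?_) j hx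
    rw [IsLocalRing.mem_maximalIdeal, mem_nonunits_iff, MvPowerSeries.isUnit_iff_constantCoeff,
      show MvPowerSeries.constantCoeff y = 0 from hy]
    exact not_isUnit_zero
  have hs : Function.Surjective (algebraMap k (ResidueField (MvPowerSeries (Fin r) k))) := fun x => by
    obtain ⟨f, rfl⟩ := residue_surjective x
    refine ⟨MvPowerSeries.constantCoeff f, ?_⟩
    rw [IsScalarTower.algebraMap_apply k (MvPowerSeries (Fin r) k), ResidueField.algebraMap_eq, eq_comm,
      ← sub_eq_zero, ← map_sub, residue_eq_zero_iff, IsLocalRing.mem_maximalIdeal, mem_nonunits_iff,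
      MvPowerSeries.isUnit_iff_constantCoeff, map_sub]
    simp [MvPowerSeries.algebraMap_apply]
  haveI : Module.Finite k (ResidueField (MvPowerSeries (Fin r) k)) :=
    Module.Finite.of_surjective (Algebra.linearMap k _) hs
  haveI : Algebra.IsAlgebraic k (ResidueField (MvPowerSeries (Fin r) k)) := Algebra.IsAlgebraic.of_finite k _
  obtain ⟨h1, h2, h3⟩ := S2476.result (k₀ := k) (A := MvPowerSeries (Fin r) k) hfs
  refine ⟨h1, h2, ?_⟩
  rw [trdeg_eq_zero, H2Alg.PSHom.ringKrullDim_eq, map_zero, Nat.cast_zero, add_zero] at h3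
  exact_mod_cast h3

end Groth.Agent.S2477
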