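import Groth.Statements.S2478
import Groth.Agent.Lib.ConsTop3.Range

set_option autoImplicit false
universe u
open EGA41

namespace Groth.Agent.S2478

open Topology in
/-- Equivalence of (a'') and (b) for X = Spec A affine: a subset E of Spec A is the image of the map
Spec B → Spec A induced by some ring homomorphism A → B if and only if E is an intersection of a
family of constructible subsets of Spec A. -/
theorem result {A : Type u} [CommRing A] (E : Set (PrimeSpectrum A)) :
    (∃ (B : Type u) (_ : CommRing B) (f : A →+* B), Set.range (PrimeSpectrum.comap f) = E) ↔
      ∃ S : Set (Set (PrimeSpectrum A)), (∀ s ∈ S, IsConstructible s) ∧ E = ⋂₀ S := by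
  constructor
  · rintro ⟨B, _, f, rfl⟩
    refine (ConsTop3.isProConstructible_iff_sInter (X := AlgebraicGeometry.Spec (CommRingCat.of A))).1 ?_
    have h := ConsTop3.isProConstructible_image (AlgebraicGeometry.Spec.map (CommRingCat.ofHom f))
      (ConsTop3.isProConstructible_of_isLocallyConstructible (E := Set.univ) IsConstructible.univ.isLocallyConstructible)
    rw [Set.image_univ] at h
    exact h
  · intro h
    refine ⟨_, inferInstance, ConsTop3.toProd E, ConsTop3.range_comap_toProd fun p hp => ?_⟩
    exact ConsTop3.isProConstructible_iff_exists.1
      ((ConsTop3.isProConstructible_iff_sInter (X := AlgebraicGeometry.Spec (CommRingCat.of A))).2 h) p hp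

end Groth.Agent.S2478
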