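import Groth.Statements.S2481
import Groth.Agent.Lib.AdicSmooth3.Artinian

set_option autoImplicit false
universe u
open EGA41

namespace Groth.Agent.S2481

open IsLocalRing in
/-- Let A → B be a local homomorphism of Noetherian local rings with the adic topologies, K the residue
field of B. Then B is formally smooth over A if and only if: for every Artinian local ring C with a
local homomorphism A → C, every nilpotent ideal J of C and every local A-algebra homomorphism u : B
→ C/J inducing a bijection of residue fields (so that C has residue field K and u induces the
identity on it), u is induced by a local A-algebra homomorphism B → C. -/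
theorem result {A B : Type u} [CommRing A] [IsLocalRing A] [IsNoetherianRing A] [CommRing B] [IsLocalRing B] [IsNoetherianRing B]
    [Algebra A B] [IsLocalHom (algebraMap A B)] :
    EGA41.IsFormallySmoothAdic A (maximalIdeal A) B (maximalIdeal B) ↔
      ∀ (C : Type u) [CommRing C] [IsLocalRing C] [IsArtinianRing C] [Algebra A C] [IsLocalHom (algebraMap A C)]
        (J : Ideal C), IsNilpotent J → ∀ [IsLocalRing (C ⧸ J)] (u : B →ₐ[A] C ⧸ J) [IsLocalHom u.toRingHom],
        Function.Bijective (ResidueField.map u.toRingHom) →
        ∃ f : B →ₐ[A] C, IsLocalHom f.toRingHom ∧ (Ideal.Quotient.mkₐ A J).comp f = u := by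
  exact ⟨fun h => AdicSmooth3.artinLift_of_isFormallySmoothAdic h,
    fun h => AdicSmooth3.isFormallySmoothAdic_of_artinLift h⟩

end Groth.Agent.S2481
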