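import Groth.Statements.S2482
import Groth.Agent.Lib.CohenAlg3.Unique
import Mathlib.RingTheory.Flat.TorsionFree
import Mathlib.RingTheory.DedekindDomain.Dvr

set_option autoImplicit false
universe u
open EGA41

namespace Groth.Agent.S2482

open IsLocalRing in
/-- (a) ⟹ (b): let A, B be complete discrete valuation rings and u : A → B a ring homomorphism with
u(𝔪_A)B = 𝔪_B, such that the residue field L of B is separable over the residue field K of A. Then
for every complete discrete valuation ring B', every homomorphism u' : A → B' with u'(𝔪_A)B' =
𝔪_{B'} and every isomorphism σ of residue fields L ≅ L' compatible with the maps from K, there is an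
isomorphism w : B ≅ B' with u' = w ∘ u inducing σ on residue fields. -/
theorem result {A B B' : Type u} [CommRing A] [IsDomain A] [IsDiscreteValuationRing A] [IsAdicComplete (maximalIdeal A) A]
    [CommRing B] [IsDomain B] [IsDiscreteValuationRing B] [IsAdicComplete (maximalIdeal B) B]
    [CommRing B'] [IsDomain B'] [IsDiscreteValuationRing B'] [IsAdicComplete (maximalIdeal B') B']
    (u : A →+* B) [IsLocalHom u] (hu : (maximalIdeal A).map u = maximalIdeal B)
    (hsep : letI := (ResidueField.map u).toAlgebra; Algebra.IsGeometricallyReduced (ResidueField A) (ResidueField B))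
    (u' : A →+* B') [IsLocalHom u'] (hu' : (maximalIdeal A).map u' = maximalIdeal B')
    (σ : ResidueField B ≃+* ResidueField B') (hσ : (σ : ResidueField B →+* ResidueField B').comp (ResidueField.map u) = ResidueField.map u') :
    ∃ w : B ≃+* B', (w : B →+* B').comp u = u' ∧ ∀ b : B, residue B' (w b) = σ (residue B b) := by
  letI := u.toAlgebra
  letI := u'.toAlgebra
  haveI : IsLocalHom (algebraMap A B) := ‹IsLocalHom u›
  haveI : IsLocalHom (algebraMap A B') := ‹IsLocalHom u'›
  have hinj : ∀ {C : Type u} [CommRing C] [IsDomain C] [IsDiscreteValuationRing C] (g : A →+* C),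
      (maximalIdeal A).map g = maximalIdeal C → Function.Injective g := by
    intro C _ _ _ g hg
    obtain ⟨π, hπ⟩ := IsDiscreteValuationRing.exists_irreducible A
    rw [injective_iff_map_eq_zero]
    intro a ha
    by_contra hne
    obtain ⟨n, w, rfl⟩ := IsDiscreteValuationRing.eq_unit_mul_pow_irreducible hne hπ
    rw [map_mul, map_pow, mul_eq_zero] at ha
    have h1 : g π = 0 := pow_eq_zero_iff'.1 (ha.resolve_left (w.isUnit.map g).ne_zero) |>.1
    refine IsDiscreteValuationRing.not_a_field C ?_
    rw [← hg, hπ.maximalIdeal_eq, Ideal.map_span, Set.image_singleton, h1, Ideal.span_singleton_eq_bot]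
  have hfree : Module.IsTorsionFree A B := by
    rw [Module.isTorsionFree_iff_algebraMap_injective]
    exact hinj u hu
  have hfree' : Module.IsTorsionFree A B' := by
    rw [Module.isTorsionFree_iff_algebraMap_injective]
    exact hinj u' hu'
  have hflat : Module.Flat A B := inferInstance
  have hflat' : Module.Flat A B' := inferInstance
  have hB : EGA41.IsCohenAlgebra A B := ⟨inferInstance, inferInstance, inferInstance, hflat, hu, by
    convert hsep using 1
    exact Algebra.algebra_ext _ _ fun r => by obtain ⟨a, rfl⟩ := residue_surjective r; rfl⟩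
  obtain ⟨w, hw⟩ := Groth.Agent.CohenAlg3.exists_equiv hB inferInstance hu' σ
    (fun a => RingHom.congr_fun hσ (residue A a))
  exact ⟨w.toRingEquiv, RingHom.ext fun a => w.commutes a, hw⟩

end Groth.Agent.S2482
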