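import Groth.Statements.S2483
import Groth.Agent.Lib.AdicSmooth.PrimeField
import Groth.Agent.Lib.AdicSmooth.FieldFS
import Groth.Agent.S2462
import Groth.Agent.S4537

set_option autoImplicit false
universe u
open EGA41

namespace Groth.Agent.S2483

open IsLocalRing in
/-- Let C be a complete Noetherian local ring with maximal ideal 𝔍 ≠ 0 and residue field K, and u : K →
C a ring homomorphism which is a section of the residue map. Then u is the only such section if and
only if Ω_{K/ℤ} = 0. -/
theorem result {C : Type u} [CommRing C] [IsLocalRing C] [IsNoetherianRing C] [IsAdicComplete (maximalIdeal C) C]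
    (hm : maximalIdeal C ≠ ⊥) (u : ResidueField C →+* C) (hu : ∀ x, residue C (u x) = x) :
    (∀ v : ResidueField C →+* C, (∀ x, residue C (v x) = x) → v = u) ↔ Subsingleton (Ω[ResidueField C⁄ℤ]) := by
  constructor
  · intro huniq
    by_contra hne
    haveI : Nontrivial Ω[ResidueField C⁄ℤ] := not_subsingleton_iff_nontrivial.1 hne
    let K := ResidueField C
    let F := (⊥ : Subfield K)
    haveI := PrimeField.perfectField_bot K
    haveI : Algebra.FormallySmooth F K := FieldFS.formallySmooth_of_perfectField F K
    -- a non-zero derivation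
    obtain ⟨w, hw⟩ := exists_ne (0 : Ω[K⁄ℤ])
    obtain ⟨φ, hφ⟩ := Module.Projective.exists_dual_ne_zero K hw
    let δ : K → K := fun x => φ (KaehlerDifferential.D ℤ K x)
    obtain ⟨x₀, hx₀⟩ : ∃ x : K, δ x ≠ 0 := by
      by_contra h0
      push Not at h0
      apply hφ
      have key : ∀ y ∈ Submodule.span K (Set.range (KaehlerDifferential.D ℤ K)), φ y = 0 := fun y hy => by
        induction hy using Submodule.span_induction with
        | mem y hy => obtain ⟨a, rfl⟩ := hy; exact h0 a
        | zero => simp
        | add a b _ _ ha hb => rw [map_add, ha, hb, add_zero]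
        | smul a b _ hb => rw [map_smul, hb, smul_zero]
      exact key w (by rw [KaehlerDifferential.span_range_derivation]; trivial)
    have hδF : ∀ c : F, δ (algebraMap F K c) = 0 := fun c => by
      let S : Subfield K :=
        { carrier := {y | KaehlerDifferential.D ℤ K y = 0}
          mul_mem' := fun {a b} ha hb => by
            show KaehlerDifferential.D ℤ K (a * b) = 0
            rw [Derivation.leibniz, show KaehlerDifferential.D ℤ K a = 0 from ha,
              show KaehlerDifferential.D ℤ K b = 0 from hb, smul_zero, smul_zero, add_zero]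
          one_mem' := Derivation.map_one_eq_zero _
          add_mem' := fun {a b} ha hb => by
            show KaehlerDifferential.D ℤ K (a + b) = 0
            rw [map_add, show KaehlerDifferential.D ℤ K a = 0 from ha,
              show KaehlerDifferential.D ℤ K b = 0 from hb, add_zero]
          zero_mem' := map_zero _
          neg_mem' := fun {a} ha => by
            show KaehlerDifferential.D ℤ K (-a) = 0
            rw [map_neg, show KaehlerDifferential.D ℤ K a = 0 from ha, neg_zero]
          inv_mem' := fun a ha => by
            show KaehlerDifferential.D ℤ K a⁻¹ = 0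
            rw [Derivation.leibniz_inv, show KaehlerDifferential.D ℤ K a = 0 from ha, smul_zero] }
      show φ (KaehlerDifferential.D ℤ K (algebraMap F K c)) = 0
      rw [show KaehlerDifferential.D ℤ K (algebraMap F K c) = 0 from (bot_le (a := S)) c.2, map_zero]
    obtain ⟨e, he, he2⟩ : ∃ e ∈ maximalIdeal C, e ∉ maximalIdeal C ^ 2 := by
      by_contra h0
      push Not at h0
      refine hm (Submodule.eq_bot_of_le_smul_of_le_jacobson_bot _ _ (IsNoetherian.noetherian _) ?_
        (IsLocalRing.maximalIdeal_le_jacobson _))
      rw [smul_eq_mul, ← pow_two]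
      exact h0
    letI : Algebra F C := (u.comp (algebraMap F K)).toAlgebra
    let q := Ideal.Quotient.mk (maximalIdeal C ^ 2)
    have hee : q e * q e = 0 := by
      rw [← map_mul, Ideal.Quotient.eq_zero_iff_mem, pow_two]; exact Ideal.mul_mem_mul he he
    let v₀ : K →ₐ[F] C ⧸ maximalIdeal C ^ 2 :=
      { toFun := fun x => q (u x) + q (u (δ x)) * q e
        map_one' := by simp [q, δ]
        map_mul' := fun a b => by
          simp only [δ, Derivation.leibniz, map_smul, smul_eq_mul, map_add, map_mul]
          linear_combination (-(q (u (δ a)) * q (u (δ b)))) * hee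
        map_zero' := by simp [δ]
        map_add' := fun a b => by simp only [δ, map_add]; ring
        commutes' := fun c => by
          rw [hδF c, map_zero, map_zero, zero_mul, add_zero]
          rfl }
    have hB : EGA41.IsFormallySmoothAdic F (⊥ : Ideal F) K (⊥ : Ideal K) :=
      (Groth.Agent.S4537.result _).1 fun A _ _ J hJ ψ _ => Algebra.FormallySmooth.comp_surjective F K J hJ ψ
    obtain ⟨v, -, hv⟩ := Groth.Agent.S2462.result (⊥ : Ideal F) (⊥ : Ideal K) hB (C := C) (by simp) (maximalIdeal C ^ 2)
      (ne_top_of_le_ne_top (maximalIdeal.isMaximal C).ne_top (Ideal.pow_le_self two_ne_zero)) v₀ (by simp)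
    have hv' : ∀ x, q (v x) = q (u x) + q (u (δ x)) * q e := fun x => AlgHom.congr_fun hv x
    have hres : ∀ x, residue C (v.toRingHom x) = x := fun x => by
      have h1 : v x - (u x + u (δ x) * e) ∈ maximalIdeal C ^ 2 := by
        rw [← Ideal.Quotient.eq, map_add, map_mul]; exact hv' x
      have h2 := (residue_eq_zero_iff _).2 (Ideal.pow_le_self two_ne_zero h1)
      rw [map_sub, map_add, map_mul, (residue_eq_zero_iff e).2 he, mul_zero, add_zero, hu, sub_eq_zero] at h2
      exact h2
    have h3 := hv' x₀
    rw [show v x₀ = u x₀ from RingHom.congr_fun (huniq v.toRingHom hres) x₀, left_eq_add] at h3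
    rw [← map_mul, Ideal.Quotient.eq_zero_iff_mem] at h3
    exact he2 ((Ideal.unit_mul_mem_iff_mem _ ((IsUnit.mk0 _ hx₀).map u)).1 h3)
  · intro hsub v hv
    have hunr : Algebra.FormallyUnramified ℤ (ResidueField C) := (Algebra.formallyUnramified_iff _ _).2 hsub
    haveI : @Algebra.FormallyUnramified ℤ (ResidueField C) _ _ (Ring.toIntAlgebra _) := by
      convert hunr using 2
      exact Subsingleton.elim _ _
    refine RingHom.ext fun x => sub_eq_zero.1 (IsHausdorff.haus (IsAdicComplete.toIsHausdorff (I := maximalIdeal C)) _ fun n => ?_)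
    rw [SModEq.zero, smul_eq_mul, Ideal.mul_top]
    rcases Nat.eq_zero_or_pos n with rfl | hn
    · simp
    let q := Ideal.Quotient.mk (maximalIdeal C ^ n)
    have h1 : (q.comp v).toIntAlgHom = (q.comp u).toIntAlgHom := by
      refine Algebra.FormallyUnramified.lift_unique ((maximalIdeal C).map q) ⟨n, by
        rw [← Ideal.map_pow, Ideal.map_quotient_self]; rfl⟩ _ _ (AlgHom.ext fun y => ?_)
      show Ideal.Quotient.mk _ (q (v y)) = Ideal.Quotient.mk _ (q (u y))
      rw [Ideal.Quotient.eq, ← map_sub]
      exact Ideal.mem_map_of_mem _ (by rw [← residue_eq_zero_iff, map_sub, hv, hu, sub_self])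
    rw [← Ideal.Quotient.eq]
    exact AlgHom.congr_fun h1 x

end Groth.Agent.S2483
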