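import Groth.Agent.Lib.FibDepth5.Apps
import Groth.Statements.S2551
-- Template for statement S2551 (row 2550; see the milestone table for weights).
-- Copy to Groth/Agent/S2551.lean and replace the sorry. The statement below is byte-identical to the frozen
-- statement EGA43.GrothFrozen.S2551 (Groth/Statements/S2551.lean; the theorem EGA43.isOpen_setOf_fibre_hasSk);
-- the grader kernel-checks Groth.Agent.S2551.result against that frozen type. Keep the theorem IN THIS FILE
-- (a `result` declared elsewhere and merely imported here is not credited); helpers may live anywhere
-- under Groth/Agent/.
-- import your own Groth.Agent.* helpers here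

set_option autoImplicit false
open CategoryTheory AlgebraicGeometry
universe u
open EGA43

namespace Groth.Agent.S2551

/-- Let f : X ⟶ Y be flat and locally of finite presentation and k a natural number. The set of points x
of X such that the local ring at x of the fibre of f through x satisfies Serre's condition (S_k) is
open in X. -/
theorem result {X Y : Scheme.{u}} (f : X ⟶ Y) [Flat f] [LocallyOfFinitePresentation f]
    (k : ℕ) :
    IsOpen {x : X | LocCoh.HasSk k ((f.fiber (f.base x)).presheaf.stalk (f.asFiber x))
      ((f.fiber (f.base x)).presheaf.stalk (f.asFiber x))} := by
  exact FibDepth5.isOpen_fibre_hasSk f k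

end Groth.Agent.S2551
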