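import Groth.Agent.Lib.FibDepth5.Apps
import Groth.Statements.S2555
-- Template for statement S2555 (row 2554; see the milestone table for weights).
-- Copy to Groth/Agent/S2555.lean and replace the sorry. The statement below is byte-identical to the frozen
-- statement EGA43.GrothFrozen.S2555 (Groth/Statements/S2555.lean; the theorem EGA43.isOpen_setOf_hasSk_fibre_of_proper_flat);
-- the grader kernel-checks Groth.Agent.S2555.result against that frozen type. Keep the theorem IN THIS FILE
-- (a `result` declared elsewhere and merely imported here is not credited); helpers may live anywhere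
-- under Groth/Agent/.
-- import your own Groth.Agent.* helpers here

set_option autoImplicit false
open CategoryTheory AlgebraicGeometry
universe u
open EGA43

namespace Groth.Agent.S2555

/-- Let f : X ⟶ Y be proper, flat and locally of finite presentation and k ≥ 1. The set of points y of Y
such that every local ring of the fibre X_y satisfies Serre's condition (S_k) is open in Y. -/
theorem result {X Y : Scheme.{u}} (f : X ⟶ Y) [IsProper f]
    [Flat f] [LocallyOfFinitePresentation f] (k : ℕ) (hk : 1 ≤ k) :
    IsOpen {y : Y | ∀ x : ↥(f.fiber y), LocCoh.HasSk k ((f.fiber y).presheaf.stalk x) ((f.fiber y).presheaf.stalk x)} := by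
  exact FibDepth5.isOpen_forall_fiber f
    (fun y z => LocCoh.HasSk k ((f.fiber y).presheaf.stalk z) ((f.fiber y).presheaf.stalk z))
    (FibDepth5.isOpen_fibre_hasSk f k)

end Groth.Agent.S2555
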