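import Groth.Statements.S2557
import Groth.Agent.Lib.UnivOpenFin5.Main

set_option autoImplicit false
open CategoryTheory AlgebraicGeometry
universe u
open EGA43

namespace Groth.Agent.S2557

open CategoryTheory.Limits in
/-- Let Y be a Noetherian scheme and f : X ⟶ Y locally of finite type. Then f is universally open if and
only if, for every finite morphism Y₁ ⟶ Y, the base change X ×_Y Y₁ ⟶ Y₁ is an open map. -/
theorem result {X Y : Scheme.{u}} [IsNoetherian Y] (f : X ⟶ Y)
    [LocallyOfFiniteType f] :
    UniversallyOpen f ↔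
      ∀ (Y₁ : Scheme.{u}) (g : Y₁ ⟶ Y) [IsFinite g], IsOpenMap (pullback.snd f g).base := by
  refine ⟨fun h Y₁ g _ => (pullback.snd f g).isOpenMap, fun h => ?_⟩
  refine Groth.Agent.Unibr4.universallyOpen_of_forall f fun x =>
    Groth.Agent.UnivOpenFin5.isUnivOpenAt_of_finite f x fun z _ _ Y₁ g _ z' _ => ?_
  exact Groth.Agent.EGA43Top.liftsAt_of_isOpenAt fun U hU => (h Y₁ g).image_mem_nhds hU

end Groth.Agent.S2557
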