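import Groth.Statements.S2562
import Groth.Agent.Lib.FlatDvr5.Main
import Groth.Agent.Lib.FlatH4.FlatComp
import Mathlib.AlgebraicGeometry.Morphisms.FinitePresentation
import Mathlib.AlgebraicGeometry.Pullbacks
-- import your own Groth.Agent.* helpers here

set_option autoImplicit false
open CategoryTheory AlgebraicGeometry
universe u
open EGA43
open CategoryTheory.Limits TensorProduct

set_option backward.isDefEq.respectTransparency false
set_option linter.style.haveILetI false
set_option maxHeartbeats 800000

namespace Groth.Agent.S2562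

open CategoryTheory.Limits in
/-- Let f : X ⟶ Y be locally of finite presentation, x a point of X, y = f x, and suppose the local ring
O_{Y,y} is reduced and Noetherian. Then O_{Y,y} ⟶ O_{X,x} is flat if and only if, for every discrete
valuation ring A' and every local homomorphism O_{Y,y} ⟶ A', the base change X' = X ×_Y Spec A' ⟶
Spec A' is flat at every point of X' lying over x and over the closed point of Spec A'. -/
theorem result {X Y : Scheme.{u}} (f : X ⟶ Y) [LocallyOfFinitePresentation f]
    (x : X) [IsNoetherianRing (Y.presheaf.stalk (f.base x))] [_root_.IsReduced (Y.presheaf.stalk (f.base x))] :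
    (f.stalkMap x).hom.Flat ↔
      ∀ (A' : Type u) [CommRing A'] [IsDomain A'] [IsDiscreteValuationRing A']
        (φ : (Y.presheaf.stalk (f.base x) : Type u) →+* A') [IsLocalHom φ],
        ∀ x' : ↥(pullback f (Spec.map (CommRingCat.ofHom φ) ≫ Y.fromSpecStalk (f.base x))),
          (pullback.fst f _).base x' = x →
          (pullback.snd f _).base x' = IsLocalRing.closedPoint A' →
          ((pullback.snd f (Spec.map (CommRingCat.ofHom φ) ≫ Y.fromSpecStalk (f.base x))).stalkMap x').hom.Flat := by
  constructor
  · intro hflat A' _ _ _ φ _ x' hfst _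
    have key : ∀ z : X, z = x → (f.stalkMap z).hom.Flat := by rintro z rfl; exact hflat
    exact FlatH4.flat_stalkMap_baseChange (IsPullback.of_hasPullback f _).flip x' (key _ hfst)
  intro h
  obtain ⟨V, hV, hyV, -⟩ := exists_isAffineOpen_mem_and_subset (X := Y) (x := f x) (U := ⊤) trivial
  obtain ⟨U, hU, hxU, hUV⟩ := exists_isAffineOpen_mem_and_subset (X := X) (x := x) (U := f ⁻¹ᵁ V) hyV
  rw [FlatH4.flat_stalkMap_iff f V hV U hU hUV hxU]
  let R : Type u := Γ(Y, V)
  let B : Type u := Γ(X, U)
  let algRB : Algebra R B := (f.appLE V U hUV).hom.toAlgebra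
  haveI : Algebra.FiniteType R B :=
    HasRingHomProperty.appLE (P := @LocallyOfFiniteType) f inferInstance ⟨V, hV⟩ ⟨U, hU⟩ hUV
  let p : Ideal R := (hV.primeIdealOf ⟨f x, hyV⟩).asIdeal
  let q : Ideal B := (hU.primeIdealOf ⟨x, hxU⟩).asIdeal
  have hqp : q.comap (algebraMap R B) = p :=
    congrArg PrimeSpectrum.asIdeal (IsAffineOpen.comap_primeIdealOf_appLE V hV U hU hUV hxU)
  let St : Type u := Y.presheaf.stalk (f x)
  letI : Algebra R St := (Y.presheaf.germ V (f x) hyV).hom.toAlgebra
  haveI hloc : IsLocalization.AtPrime St p := hV.isLocalization_stalk ⟨f x, hyV⟩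
  let e : St ≃ₐ[R] Localization.AtPrime p := IsLocalization.algEquiv p.primeCompl _ _
  haveI : IsNoetherianRing St := ‹IsNoetherianRing (Y.presheaf.stalk (f.base x))›
  haveI : _root_.IsReduced St := ‹_root_.IsReduced (Y.presheaf.stalk (f.base x))›
  haveI : IsNoetherianRing (Localization.AtPrime p) := isNoetherianRing_of_ringEquiv St e.toRingEquiv
  haveI : _root_.IsReduced (Localization.AtPrime p) := isReduced_of_injective e.symm e.symm.injective
  refine FlatDvr5.flat_atPrime_of_dvr (R := R) (B := B) p q hqp ?_
  intro W _ _ _ _ hW Q hQprime hQq hQm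
  have hunit : ∀ r : p.primeCompl, IsUnit (algebraMap R W r) := fun r => by
    by_contra hr
    exact r.2 (hW.le hr)
  let φ : St →+* W := IsLocalization.lift (M := p.primeCompl) hunit
  haveI : IsLocalHom φ := ⟨fun a ha => by
    obtain ⟨⟨r, s⟩, rfl⟩ := IsLocalization.mk'_surjective p.primeCompl a
    have h1 : IsUnit (algebraMap R W r) := by
      have h2 : φ (IsLocalization.mk' St r s) * algebraMap R W s = algebraMap R W r := by
        rw [← IsLocalization.lift_eq (S := St) hunit, ← IsLocalization.lift_eq (S := St) hunit r, ← map_mul,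
          IsLocalization.mk'_spec]
      rw [← h2]
      exact ha.mul (hunit s)
    have hr : r ∈ p.primeCompl := fun hr => hW.ge hr h1
    exact (IsLocalization.AtPrime.isUnit_mk'_iff St p r s).2 hr⟩
  let g0 := Spec.map (CommRingCat.ofHom φ) ≫ Y.fromSpecStalk (f.base x)
  have hg : g0 = Spec.map (CommRingCat.ofHom (algebraMap R W)) ≫ hV.fromSpec := by
    show Spec.map (CommRingCat.ofHom φ) ≫ Y.fromSpecStalk (f x) = _
    rw [← hV.fromSpecStalk_eq_fromSpecStalk hyV, IsAffineOpen.fromSpecStalk, ← Category.assoc,
      ← Spec.map_comp]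
    congr 2
    ext r
    exact IsLocalization.lift_eq (S := St) hunit r
  let T : Type u := W ⊗[R] B
  let iR := CommRingCat.ofHom (algebraMap R B)
  let iW := CommRingCat.ofHom (algebraMap R W)
  let inl := CommRingCat.ofHom (Algebra.TensorProduct.includeLeftRingHom : W →+* T)
  let inr := CommRingCat.ofHom (Algebra.TensorProduct.includeRight : B →ₐ[R] T).toRingHom
  have H1 : IsPullback (Spec.map inl) (Spec.map inr) (Spec.map iW) (Spec.map iR) :=
    isPullback_SpecMap_of_isPushout _ _ _ _ (CommRingCat.isPushout_tensorProduct R W B)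
  have hiR : Spec.map iR ≫ hV.fromSpec = hU.fromSpec ≫ f := hV.SpecMap_appLE_fromSpec f hU hUV
  let M := pullback.map (Spec.map iR) (Spec.map iW) f g0 hU.fromSpec (𝟙 _) hV.fromSpec
    hiR (by rw [Category.id_comp]; exact hg.symm)
  let L := H1.flip.isoPullback.hom ≫ M
  haveI : IsOpenImmersion M := by infer_instance
  haveI : IsOpenImmersion L := inferInstance
  have hfst : L ≫ pullback.fst f g0 = Spec.map inr ≫ hU.fromSpec := by
    simp only [L, M, pullback.map, Category.assoc, pullback.lift_fst]
    rw [← Category.assoc, IsPullback.isoPullback_hom_fst]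
  have hsnd : L ≫ pullback.snd f g0 = Spec.map inl := by
    simp only [L, M, pullback.map, Category.assoc, pullback.lift_snd, Category.comp_id]
    exact IsPullback.isoPullback_hom_snd _
  let Qp : ↥(Spec (CommRingCat.of T)) := ⟨Q, hQprime⟩
  have h1 : (pullback.fst f g0).base (L.base Qp) = x := by
    show (L ≫ pullback.fst f g0) Qp = x
    rw [hfst, Scheme.Hom.comp_apply,
      show (Spec.map inr) Qp = hU.primeIdealOf ⟨x, hxU⟩ from PrimeSpectrum.ext hQq]
    exact hU.fromSpec_primeIdealOf ⟨x, hxU⟩
  have h2 : (pullback.snd f g0).base (L.base Qp) = IsLocalRing.closedPoint W := by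
    show (L ≫ pullback.snd f g0) Qp = _
    rw [hsnd]
    exact PrimeSpectrum.ext hQm
  have h3 := h W φ (L.base Qp) h1 h2
  have h4 : ((Spec.map inl).stalkMap Qp).hom.Flat := by
    have h5 : ((L ≫ pullback.snd f g0).stalkMap Qp).hom.Flat := by
      rw [Scheme.Hom.stalkMap_comp]
      exact h3.comp (RingHom.Flat.of_bijective (ConcreteCategory.bijective_of_isIso (L.stalkMap Qp)))
    rwa [hsnd] at h5
  have h6 : (Localization.localRingHom (Q.comap inl.hom) Q inl.hom rfl).Flat :=
    (RingHom.Flat.respectsIso.arrow_mk_iso_iff (Scheme.arrowStalkMapSpecIso inl Qp)).1 h4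
  refine (FlatH4.flat_localization_iff (R := W) (S := T) Q).2 ?_
  letI := (Localization.localRingHom (Q.comap inl.hom) Q inl.hom rfl).toAlgebra
  haveI : IsScalarTower W (Localization.AtPrime (Q.comap inl.hom)) (Localization.AtPrime Q) :=
    IsScalarTower.of_algebraMap_eq fun w => by
      show _ = Localization.localRingHom (Q.comap inl.hom) Q inl.hom rfl (algebraMap W _ w)
      rw [Localization.localRingHom_to_map, IsScalarTower.algebraMap_apply W T]
      rfl
  haveI : Module.Flat (Localization.AtPrime (Q.comap inl.hom)) (Localization.AtPrime Q) := h6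
  exact Module.Flat.trans W (Localization.AtPrime (Q.comap inl.hom)) _

end Groth.Agent.S2562
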