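import Groth.Statements.S6884
import Groth.Agent.Lib.GrFlat.Model
import Groth.Agent.Lib.FlatH4.FlatDescent
import Groth.Agent.S6883

set_option autoImplicit false
universe u
open TensorProduct
open CAlg

namespace Groth.Agent.S6884

/-- For an injective integral ring map `R → S` and `n ≥ 0`, let `M` be a module of finite presentation
over the polynomial ring `R[x_1, …, x_n]`. Then flatness of `S ⊗_R M` over `S` forces flatness of
`M` over `R`. -/
theorem result (R S : Type u) [CommRing R]
    [CommRing S] [Algebra R S] [Algebra.IsIntegral R S] (hinj : Function.Injective (algebraMap R S)) (n : ℕ)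
    (M : Type u) [AddCommGroup M] [Module (MvPolynomial (Fin n) R) M] [Module R M]
    [IsScalarTower R (MvPolynomial (Fin n) R) M] [Module.FinitePresentation (MvPolynomial (Fin n) R) M]
    [Module.Flat S (S ⊗[R] M)] : Module.Flat R M := by
  open TensorProduct in
  classical
  let P := MvPolynomial (Fin n) R
  obtain ⟨R₀, _, _, _, _, S', N, _, _, _, _, _, _, J₀, ψ, ι, hnoeth, hft, hfin, hcompat, -, -, -⟩ :=
    Groth.Agent.GrFlat.exists_model R P M ⊥ Submodule.fg_bot
  letI : Algebra R₀ S := ((algebraMap R S).comp (algebraMap R₀ R)).toAlgebra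
  haveI : IsScalarTower R₀ R S := IsScalarTower.of_algebraMap_eq fun _ => rfl
  let eM : TensorProduct R₀ R N ≃ₗ[R] M := hcompat.1.equiv
  let eS : TensorProduct R₀ S N ≃ₗ[S] TensorProduct R S M :=
    (TensorProduct.AlgebraTensorModule.cancelBaseChange R₀ R S S N).symm.trans
      (TensorProduct.AlgebraTensorModule.congr (LinearEquiv.refl S S) eM)
  haveI : Module.Flat S (TensorProduct R₀ S N) := Module.Flat.of_linearEquiv eS
  obtain ⟨B₀, hB₀, hflat⟩ := Groth.Agent.FlatH4.exists_subalgebra_flat R₀ S S' N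
  obtain ⟨s, hs⟩ := hB₀
  have hint : ∀ x : S, ∃ p : Polynomial R, p.Monic ∧ Polynomial.aeval x p = 0 :=
    fun x => Algebra.IsIntegral.isIntegral (R := R) x
  choose p hpm hp0 using hint
  let C : Set R := ⋃ x ∈ s, ((p x).coeffs : Set R)
  have hC : C.Finite := s.finite_toSet.biUnion fun x _ => (p x).coeffs.finite_toSet
  let R₁ : Subalgebra R₀ R := Algebra.adjoin R₀ C
  have hR₁ : R₁.FG := Subalgebra.fg_def.2 ⟨C, hC, rfl⟩
  haveI : IsNoetherianRing R₁ := isNoetherianRing_of_fg hR₁
  haveI : Algebra.FiniteType R₀ R₁ := R₁.fg_iff_finiteType.1 hR₁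
  let B' : Subalgebra R₁ S := Algebra.adjoin R₁ (s : Set S)
  haveI : Module.Finite R₁ B' := by
    refine Module.Finite.iff_fg.2 (fg_adjoin_of_finite s.finite_toSet fun x hx => ?_)
    have hlift : p x ∈ Polynomial.lifts (algebraMap R₁ R) :=
      (Polynomial.lifts_iff_coeff_lifts _).2 fun i => by
        by_cases h0 : (p x).coeff i = 0
        · exact ⟨0, by rw [h0, map_zero]⟩
        · exact ⟨⟨_, Algebra.subset_adjoin (Set.mem_iUnion₂.2 ⟨x, hx, Polynomial.coeff_mem_coeffs h0⟩)⟩, rfl⟩
    obtain ⟨q, hq, -, hqm⟩ := Polynomial.lifts_and_natDegree_eq_and_monic hlift (hpm x)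
    refine ⟨q, hqm, ?_⟩
    have h := hp0 x
    rw [← hq, Polynomial.aeval_map_algebraMap] at h
    exact h
  haveI : IsNoetherianRing B' := IsNoetherianRing.of_finite R₁ B'
  haveI : Algebra.FiniteType R₀ B' := Algebra.FiniteType.trans (S := R₁) inferInstance inferInstance
  have hle : B₀ ≤ B'.restrictScalars R₀ := hs ▸ Algebra.adjoin_le fun x hx => Algebra.subset_adjoin hx
  have hfg : (B'.restrictScalars R₀).FG := (B'.restrictScalars R₀).fg_iff_finiteType.2 ‹Algebra.FiniteType R₀ B'›
  haveI : Module.Flat B' (TensorProduct R₀ B' N) := hflat _ hle hfg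
  haveI : Module.Flat B' (TensorProduct R₁ B' (TensorProduct R₀ R₁ N)) :=
    Module.Flat.of_linearEquiv (TensorProduct.AlgebraTensorModule.cancelBaseChange R₀ R₁ B' B' N)
  have hinj₁ : Function.Injective (algebraMap R₁ B') := fun a b hab => by
    have h : algebraMap R S (a : R) = algebraMap R S (b : R) := congrArg (fun z : B' => (z : S)) hab
    exact Subtype.ext (hinj h)
  haveI := Groth.Agent.S6883.result R₁ B' hinj₁ (TensorProduct R₀ R₁ N)
  haveI : Module.Flat R (TensorProduct R₁ R (TensorProduct R₀ R₁ N)) := Module.Flat.baseChange R₁ R _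
  exact Module.Flat.of_linearEquiv
    (((TensorProduct.AlgebraTensorModule.cancelBaseChange R₀ R₁ R R N).trans eM).symm)

end Groth.Agent.S6884
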