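import Groth.Statements.S2564
import Groth.Agent.S6884
import Groth.Agent.Lib.FlatH4.FlatLocusScheme
import Groth.Agent.Lib.FlatH4.PullFlat
import Mathlib.AlgebraicGeometry.Morphisms.Integral
-- import your own Groth.Agent.* helpers here

set_option autoImplicit false
open CategoryTheory AlgebraicGeometry
universe u
open EGA43

set_option backward.isDefEq.respectTransparency.types false
set_option maxHeartbeats 800000
open TensorProduct

namespace Groth.Agent.S2564

open CategoryTheory.Limits in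
/-- Let A ⟶ A' be an injective ring homomorphism making A' integral over A, f : X ⟶ Spec A locally of
finite presentation, x a point of X, and X' = X ×_{Spec A} Spec A'. If X' ⟶ Spec A' is flat at every
point of X' lying over x, then f is flat at x. -/
theorem result {A A' : Type u} [CommRing A] [CommRing A']
    [Algebra A A'] [Algebra.IsIntegral A A'] (hinj : Function.Injective (algebraMap A A'))
    {X : Scheme.{u}} (f : X ⟶ Spec (CommRingCat.of A)) [LocallyOfFinitePresentation f] (x : X)
    (h : ∀ x' : ↥(pullback f (Spec.map (CommRingCat.ofHom (algebraMap A A')))),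
      (pullback.fst f _).base x' = x →
      ((pullback.snd f (Spec.map (CommRingCat.ofHom (algebraMap A A')))).stalkMap x').hom.Flat) :
    (f.stalkMap x).hom.Flat := by
  let φ : CommRingCat.of A ⟶ CommRingCat.of A' := CommRingCat.ofHom (algebraMap A A')
  let g := Spec.map φ
  haveI : IsIntegralHom g := IsIntegralHom.SpecMap_iff.2 (Algebra.IsIntegral.isIntegral (R := A))
  have H : IsPullback (pullback.fst f g) (pullback.snd f g) f g := IsPullback.of_hasPullback f g
  -- an affine neighbourhood with flat base change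
  let bad : Set X := pullback.fst f g '' {x' | ((pullback.snd f g).stalkMap x').hom.Flat}ᶜ
  have hbad : IsClosed bad := (pullback.fst f g).isClosedMap _
    (FlatH4.isOpen_flatLocus (pullback.snd f g)).isClosed_compl
  have hxbad : x ∈ (⟨badᶜ, hbad.isOpen_compl⟩ : X.Opens) := by
    rintro ⟨x', hx', he⟩
    exact hx' (h x' he)
  obtain ⟨U, hU, hxU, hUbad⟩ := exists_isAffineOpen_mem_and_subset (X := X) (x := x) hxbad
  have hUV : U ≤ f ⁻¹ᵁ ⊤ := fun _ _ => trivial
  have hTV : (⊤ : (Spec (CommRingCat.of A')).Opens) ≤ g ⁻¹ᵁ ⊤ := fun _ _ => trivial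
  let W := pullback.fst f g ⁻¹ᵁ U ⊓ pullback.snd f g ⁻¹ᵁ ⊤
  have hW : IsAffineOpen W :=
    FlatH4.isAffineOpen_of_isPullback H hTV hUV rfl (isAffineOpen_top _) (isAffineOpen_top _) hU
  have eX : W ≤ pullback.fst f g ⁻¹ᵁ U := inf_le_left
  have eT : W ≤ pullback.snd f g ⁻¹ᵁ ⊤ := inf_le_right
  letI algS : Algebra Γ(Spec (CommRingCat.of A), ⊤) Γ(Spec (CommRingCat.of A'), ⊤) := (g.appLE ⊤ ⊤ hTV).hom.toAlgebra
  letI algT : Algebra Γ(Spec (CommRingCat.of A), ⊤) Γ(X, U) := (f.appLE ⊤ U hUV).hom.toAlgebra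
  letI : Algebra Γ(X, U) Γ(pullback f g, W) := ((pullback.fst f g).appLE U W eX).hom.toAlgebra
  letI algW : Algebra Γ(Spec (CommRingCat.of A'), ⊤) Γ(pullback f g, W) := ((pullback.snd f g).appLE ⊤ W eT).hom.toAlgebra
  letI : Algebra Γ(Spec (CommRingCat.of A), ⊤) Γ(pullback f g, W) :=
    ((algebraMap Γ(X, U) Γ(pullback f g, W)).comp (algebraMap Γ(Spec (CommRingCat.of A), ⊤) Γ(X, U))).toAlgebra
  haveI : IsScalarTower Γ(Spec (CommRingCat.of A), ⊤) Γ(X, U) Γ(pullback f g, W) :=
    IsScalarTower.of_algebraMap_eq fun _ => rfl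
  haveI : IsScalarTower Γ(Spec (CommRingCat.of A), ⊤) Γ(Spec (CommRingCat.of A'), ⊤) Γ(pullback f g, W) :=
    IsScalarTower.of_algebraMap_eq fun r => by
      show (f.appLE ⊤ U hUV ≫ (pullback.fst f g).appLE U W eX) r =
        (g.appLE ⊤ ⊤ hTV ≫ (pullback.snd f g).appLE ⊤ W eT) r
      rw [Scheme.Hom.appLE_comp_appLE, Scheme.Hom.appLE_comp_appLE]
      simp only [H.w]
  haveI := FlatH4.algebra_isPushout_sections H hTV hUV (UY := W) rfl (isAffineOpen_top _) (isAffineOpen_top _) hU
    rfl rfl rfl rfl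
  let R := Γ(Spec (CommRingCat.of A), ⊤)
  let S := Γ(Spec (CommRingCat.of A'), ⊤)
  let T := Γ(X, U)
  let T' := Γ(pullback f g, W)
  haveI : Module.Flat S T' := by
    refine Module.flat_of_isLocalized_maximal T' T' (fun P _ => LocalizedModule P.primeCompl T')
      (fun P _ => LocalizedModule.mkLinearMap P.primeCompl T') fun P _ => ?_
    obtain ⟨⟨x', hx'⟩, hxP⟩ := hW.isoSpec.hom.surjective ⟨P, inferInstance⟩
    have hflat : ((pullback.snd f g).stalkMap x').hom.Flat :=
      by_contra fun hn => hUbad (eX hx') ⟨x', hn, rfl⟩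
    have h4 := (FlatH4.flat_stalkMap_iff (pullback.snd f g) ⊤ (isAffineOpen_top _) W hW eT hx').1 hflat
    have key : ∀ (a b : PrimeSpectrum T'), a = b →
        Module.Flat S (LocalizedModule a.asIdeal.primeCompl T') →
        Module.Flat S (LocalizedModule b.asIdeal.primeCompl T') := by
      rintro a _ rfl h'; exact h'
    exact key _ _ (hxP : hW.primeIdealOf ⟨x', hx'⟩ = ⟨P, inferInstance⟩) h4
  haveI : Module.Flat S (S ⊗[R] T) :=
    Module.Flat.of_linearEquiv (Algebra.IsPushout.equiv R S T T').toLinearEquiv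
  have e : g.appLE ⊤ ⊤ hTV = (Scheme.ΓSpecIso (CommRingCat.of A)).hom ≫ φ ≫ (Scheme.ΓSpecIso (CommRingCat.of A')).inv := by
    rw [Scheme.ΓSpecIso_inv_naturality, Iso.hom_inv_id_assoc]
    simp [Scheme.Hom.appLE, Scheme.Hom.appTop, g]
  haveI : Algebra.IsIntegral R S := ⟨by
    show (g.appLE ⊤ ⊤ hTV).hom.IsIntegral
    rw [e]
    exact ((RingHom.isIntegral_of_surjective _ (ConcreteCategory.bijective_of_isIso (Scheme.ΓSpecIso (CommRingCat.of A)).hom).2).trans _ _
      (algebraMap_isIntegral_iff.2 ‹Algebra.IsIntegral A A'›)).trans _ _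
      (RingHom.isIntegral_of_surjective _ (ConcreteCategory.bijective_of_isIso (Scheme.ΓSpecIso (CommRingCat.of A')).inv).2)⟩
  have hinjS : Function.Injective (algebraMap R S) := by
    show Function.Injective (g.appLE ⊤ ⊤ hTV)
    rw [e]
    exact (ConcreteCategory.bijective_of_isIso (Scheme.ΓSpecIso (CommRingCat.of A')).inv).1.comp
      (hinj.comp (ConcreteCategory.bijective_of_isIso (Scheme.ΓSpecIso (CommRingCat.of A)).hom).1)
  haveI : Algebra.FinitePresentation R T :=
    HasRingHomProperty.appLE (P := @LocallyOfFinitePresentation) f inferInstance ⟨⊤, isAffineOpen_top _⟩ ⟨U, hU⟩ hUV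
  obtain ⟨n, ψ, hψ, hker⟩ := Algebra.FinitePresentation.out (R := R) (A := T)
  letI : Algebra (MvPolynomial (Fin n) R) T := ψ.toRingHom.toAlgebra
  haveI : IsScalarTower R (MvPolynomial (Fin n) R) T := IsScalarTower.of_algebraMap_eq fun r => (ψ.commutes r).symm
  haveI : Module.FinitePresentation (MvPolynomial (Fin n) R) T :=
    Module.finitePresentation_of_surjective (Algebra.linearMap (MvPolynomial (Fin n) R) T) hψ (by exact hker)
  haveI : Module.Flat R T := Groth.Agent.S6884.result R S hinjS n T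
  rw [FlatH4.flat_stalkMap_iff f ⊤ (isAffineOpen_top _) U hU hUV hxU]
  haveI : Module.Flat T (LocalizedModule (hU.primeIdealOf ⟨x, hxU⟩).asIdeal.primeCompl T) := inferInstance
  exact Module.Flat.trans R T _

end Groth.Agent.S2564
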