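import Groth.Statements.S2569
import Groth.Agent.Lib.ZConn5.ProperFibre
-- import your own Groth.Agent.* helpers here

set_option autoImplicit false
open CategoryTheory CategoryTheory.Limits AlgebraicGeometry
universe u
open EGA43

namespace Groth.Agent.S2569

/-- Let Y be locally Noetherian and f : X ⟶ Y separated, of finite type and universally submersive
(every base change is a topological quotient map onto its target), with all fibres geometrically
connected. If the fibre over a point y is proper over the residue field of y, then f is proper over
some open neighbourhood of y. -/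
theorem result {X Y : Scheme.{u}} [IsLocallyNoetherian Y] (f : X ⟶ Y)
    [IsSeparated f] [LocallyOfFiniteType f] [QuasiCompact f]
    (hsub : MorphismProperty.universally (topologically fun g => Topology.IsQuotientMap g) f)
    (hconn : ∀ y : Y, GeometricallyConnected (f.fiberToSpecResidueField y))
    (y : Y) (hy : IsProper (f.fiberToSpecResidueField y)) :
    ∃ U : Y.Opens, y ∈ U ∧ IsProper (f ∣_ U) := by
  have hq : Topology.IsQuotientMap f.base := MorphismProperty.universally_le _ _ hsub
  have hpre : ∀ t : Y, _root_.IsPreconnected (f.base ⁻¹' {t}) := fun t => by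
    haveI : ConnectedSpace ↥(f.fiber t) := by
      haveI := hconn t
      exact GeometricallyConnected.geometrically_connectedSpace (f := f.fiberToSpecResidueField t) (K := Y.residueField t)
        (𝟙 _) (𝟙 _) (f.fiberToSpecResidueField t) (IsPullback.id_horiz _)
    rw [← f.range_fiberι t]
    exact isPreconnected_range (f.fiberι t).continuous
  have hop : IsOpen ((f.fiberι y).base ⁻¹' (Set.univ : Set X)) := isOpen_univ
  have D : ZConn5.CompData f Set.univ y := by
    refine ⟨fun y' _ => ?_, fun y' _ K _ _ => ?_, hop, ?_, fun T h E _ hW => ?_⟩
    · obtain ⟨x, hx⟩ := hq.surjective y'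
      refine ⟨x, trivial, hx, ?_⟩
      rw [Set.univ_inter]
      exact ((hpre y').subset_connectedComponentIn hx subset_rfl).antisymm (connectedComponentIn_subset _ _)
    · haveI := hconn y'
      haveI : ConnectedSpace ↥(FBase.bc (f.fiberToSpecResidueField y') K) :=
        GeometricallyConnected.geometrically_connectedSpace (f := f.fiberToSpecResidueField y') _ _ _
          (IsPullback.of_hasPullback _ _)
      exact isPreconnected_univ
    · haveI := hy
      exact ZConn5.isProper_opens_congr _ (V := ⊤) (TopologicalSpace.Opens.ext rfl)
        (MorphismProperty.comp_mem _ _ _ (inferInstanceAs (IsProper (f.fiber y).topIso.hom)) hy)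
    · obtain ⟨W, hW, hWE⟩ := hW
      have hT : Topology.IsQuotientMap (pullback.snd f h).base :=
        hsub _ _ _ (IsPullback.of_hasPullback f h).flip
      refine ⟨E, hT.isOpen_preimage.1 ?_, Set.inter_eq_left.2 fun t _ => ?_⟩
      · rw [Set.preimage_univ, Set.inter_univ, Set.inter_univ] at hWE
        exact hWE ▸ hW
      · obtain ⟨x, hx⟩ := hq.surjective (h.base t)
        exact ⟨x, trivial, hx⟩
  obtain ⟨U, hyU, hU⟩ := ZConn5.exists_proper_nhd f Set.univ y D Topology.IsLocallyConstructible.univ
  refine ⟨U, hyU, ?_⟩
  haveI : IsSeparated (f ∣_ U) := IsZariskiLocalAtTarget.restrict (P := @IsSeparated) inferInstance _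
  haveI : LocallyOfFiniteType (f ∣_ U) := IsZariskiLocalAtTarget.restrict (P := @LocallyOfFiniteType) inferInstance _
  refine ZConn5.isProper_of_propOn_univ _ ?_
  exact hU

end Groth.Agent.S2569
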