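import Groth.Statements.S2572
import Groth.Agent.S2556
import Groth.Agent.S9812
import Groth.Agent.Lib.SmoothReg17.Basic
import Groth.Agent.Lib.NormFin18.Apps

set_option autoImplicit false
set_option linter.style.haveILetI false
set_option backward.isDefEq.respectTransparency false
open CategoryTheory AlgebraicGeometry
universe u
open EGA43

namespace Groth.Agent.S2572

/-- Over a local ring of dimension at most one a point specialising to `y` is generic or `y`. -/
theorem eq_or_eq {Y : Scheme.{u}} [IrreducibleSpace Y] {y z : Y} (hd : ringKrullDim (Y.presheaf.stalk y) ≤ 1)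
    (hz : z ⤳ y) : z = genericPoint Y ∨ z = y := by
  by_contra! hc
  let F := Y.fromSpecStalk y
  have hr : ∀ w, w ⤳ y → ∃ p : PrimeSpectrum (Y.presheaf.stalk y), F.base p = w := fun w hw => by
    have : w ∈ Set.range F.base := by rw [Scheme.range_fromSpecStalk]; exact hw
    exact this
  obtain ⟨q, rfl⟩ := hr z hz
  obtain ⟨g, hg⟩ := hr (genericPoint Y) ((genericPoint_spec Y).specializes trivial)
  obtain ⟨m, hm⟩ := hr y specializes_rfl
  have hlt : ∀ a b : PrimeSpectrum (Y.presheaf.stalk y), F.base a ≠ F.base b → F.base a ⤳ F.base b → a < b := fun a b hne h =>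
    lt_of_le_of_ne ((PrimeSpectrum.le_iff_specializes a b).2 (F.isEmbedding.isInducing.specializes_iff.1 h))
      fun he => hne (congrArg F.base he)
  have h1 := hlt g q (by rw [hg]; exact hc.1.symm) (by rw [hg]; exact (genericPoint_spec Y).specializes trivial)
  have h2 := hlt q m (by rw [hm]; exact hc.2) (by rw [hm]; exact hz)
  let c : LTSeries (PrimeSpectrum (Y.presheaf.stalk y)) := ((RelSeries.singleton _ g).snoc q h1).snoc m (by simpa using h2)
  have h3 := (Order.LTSeries.length_le_krullDim c).trans hd
  have : c.length = 2 := rfl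
  rw [this] at h3
  exact absurd h3 (by norm_num)

/-- Let Y be an irreducible locally Noetherian scheme whose local rings are regular of dimension at most
one, f : X ⟶ Y locally of finite type, and y a point of Y. If every irreducible component of X
meeting the fibre over y has dense image in Y, then there is an open subset U of X containing that
fibre such that the restriction of f to U is universally open. -/
theorem result {X Y : Scheme.{u}} [IsLocallyNoetherian Y]
    [IrreducibleSpace Y]
    (hY : ∀ y : Y, IsRegularLocalRing (Y.presheaf.stalk y) ∧ ringKrullDim (Y.presheaf.stalk y) ≤ 1)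
    (f : X ⟶ Y) [LocallyOfFiniteType f] (y : Y)
    (h : ∀ Z ∈ irreducibleComponents (X : Type u), (Z ∩ f.base ⁻¹' {y}).Nonempty → Dense (f.base '' Z)) :
    ∃ U : X.Opens, f.base ⁻¹' {y} ⊆ (U : Set X) ∧ UniversallyOpen (U.ι ≫ f) := by
  haveI : IsLocallyNoetherian X := LocallyOfFiniteType.isLocallyNoetherian f
  let bad := {Z : ↥(irreducibleComponents X) | ¬ Dense (f.base '' (Z : Set X))}
  have hlf := (NormFin18.locallyFinite_components X).comp_injective (Subtype.val_injective (p := (· ∈ bad)))
  have hcl : IsClosed (⋃ Z : bad, (Z.1 : Set X)) :=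
    hlf.isClosed_iUnion fun Z => isClosed_of_mem_irreducibleComponents _ Z.1.2
  let U : X.Opens := ⟨_, hcl.isOpen_compl⟩
  have hgu : ∀ y : Y, CAlg2.IsGeomUnibranch (Y.presheaf.stalk y) := fun y => by
    haveI := (hY y).1
    haveI := RegLoc.isDomain (Y.presheaf.stalk y)
    haveI := RegLoc.ufd_of_isRegularLocalRing (Y.presheaf.stalk y)
    exact S9812.result (Y.presheaf.stalk y)
  refine ⟨U, fun x hx hbad => ?_, (S2556.result hgu (U.ι ≫ f)).2 (isOpenMap_of_generalizingMap _ ?_)⟩
  · obtain ⟨Z, hZ⟩ := Set.mem_iUnion.1 hbad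
    exact Z.2 (h Z.1 Z.1.2 ⟨x, hZ, hx⟩)
  intro x z hz
  have hfx : (U.ι ≫ f).base x = f.base x.1 := rfl
  rcases eq_or_eq (hY _).2 hz with rfl | rfl
  · obtain ⟨Z, hZ, hxZ, -⟩ := exists_preirreducible ({x.1} : Set X) isPreirreducible_singleton
    obtain ⟨T, hT, hxT⟩ := exists_mem_irreducibleComponents_subset_of_isIrreducible _ (isIrreducible_singleton (x := x.1))
    obtain ⟨ξ, hξ⟩ := QuasiSober.sober hT.1 (isClosed_of_mem_irreducibleComponents T hT)
    have hξx : ξ ⤳ x.1 := hξ.specializes (hxT rfl)
    have hd : Dense (f.base '' T) := by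
      by_contra hd
      exact x.2 (Set.mem_iUnion.2 ⟨⟨⟨T, hT⟩, hd⟩, hxT rfl⟩)
    have hgen : f.base ξ = genericPoint Y := by
      have h1 := hξ.image f.continuous
      rw [hd.closure_eq] at h1
      exact h1.eq (genericPoint_spec Y)
    refine ⟨⟨ξ, hξx.mem_open U.2 x.2⟩, ?_, hgen⟩
    exact U.ι.isOpenEmbedding.isInducing.specializes_iff.1 hξx
  · exact ⟨x, specializes_rfl, rfl⟩

end Groth.Agent.S2572
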