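import Groth.Statements.S2573
import Groth.Agent.Lib.SchDom.FreeStrata
import Groth.Agent.Lib.SchDom.LiftAway
import Mathlib.RingTheory.Localization.BaseChange

set_option autoImplicit false
universe u
open EGA43

namespace Groth.Agent.S2573

open Groth.Agent TensorProduct

/-- Let A be a commutative ring whose spectrum is irreducible, with unique minimal prime p, let B be a
finitely presented A-algebra and M a finitely presented B-module. If the localization M_p is flat
over A_p, then there is t ∉ p such that M_t is a free A_t-module. -/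
theorem result {A B : Type u} [CommRing A] [CommRing B] [Algebra A B]
    [Algebra.FinitePresentation A B] (p : Ideal A) [p.IsPrime] (hp : minimalPrimes A = {p})
    (M : Type u) [AddCommGroup M] [Module B M] [Module A M] [IsScalarTower A B M] [Module.FinitePresentation B M]
    (hflat : Module.Flat (Localization.AtPrime p) (LocalizedModule p.primeCompl M)) :
    ∃ t : A, t ∉ p ∧ Module.Free (Localization.Away t) (LocalizedModule (Submonoid.powers t) M) := by
  classical
  obtain ⟨R, _, _, S, N, _, _, _, _, _, _, hR, hS, hN, ⟨eM⟩⟩ := SchDom.exists_module_model A B M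
  haveI := hR
  haveI := hS
  haveI := hN
  let Ap := Localization.AtPrime p
  let eL : Ap ⊗[A] M ≃ₗ[Ap] LocalizedModule p.primeCompl M :=
    (IsLocalizedModule.isBaseChange p.primeCompl Ap (LocalizedModule.mkLinearMap p.primeCompl M)).equiv
  let eN : Ap ⊗[R] N ≃ₗ[Ap] Ap ⊗[A] M := (AlgebraTensorModule.cancelBaseChange R A Ap Ap N).symm.trans
    (AlgebraTensorModule.congr (LinearEquiv.refl Ap Ap) eM)
  haveI : Module.Flat Ap (Ap ⊗[R] N) := @Module.Flat.of_linearEquiv Ap _ _ _ _ _ _ _ hflat (eN.trans eL)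
  obtain ⟨B₀, hB₀, hflat₀⟩ := FlatH4.exists_subalgebra_flat R Ap S N
  haveI := hflat₀ B₀ le_rfl hB₀
  haveI : IsNoetherianRing B₀ := isNoetherianRing_of_fg hB₀
  letI := FlatH4.tensorModule R B₀ S N
  haveI := FlatH4.tensorModule_isScalarTower R B₀ S N
  haveI := FlatH4.tensorModule_finite R B₀ S N
  obtain ⟨a, ha, hfree⟩ := SchDom.exists_free_piece (B₀ ⊗[R] S) (N := B₀ ⊗[R] N) (⊥ : Ideal B₀) (fun h => by
    have h1 : (1 : B₀) ∈ (⊥ : Ideal B₀) := h ▸ Submodule.mem_top
    exact one_ne_zero (congrArg Subtype.val (Ideal.mem_bot.1 h1)))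
  have haunit : IsUnit (a : Ap) := by
    by_contra h
    refine ha ?_
    have hnil : IsNilpotent (a : Ap) := by
      rw [← mem_nilradical, nilradical, Ideal.radical_eq_sInf]
      refine Submodule.mem_sInf.2 fun Q hQ => ?_
      haveI := hQ.2
      have hd : Disjoint (p.primeCompl : Set A) (Ideal.under A Q : Set A) :=
        ((IsLocalization.isPrime_iff_isPrime_disjoint p.primeCompl Ap Q).1 hQ.2).2
      have hle : Ideal.comap (algebraMap A Ap) Q ≤ p := fun x hx => by
        by_contra hx'
        exact Set.disjoint_left.1 hd hx' (show x ∈ Ideal.under A Q from hx)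
      obtain ⟨Q₀, hQ₀, hQ₀le⟩ := Ideal.exists_minimalPrimes_le (bot_le : ⊥ ≤ Ideal.comap (algebraMap A Ap) Q)
      have hQ₀p : Q₀ = p := (Set.eq_singleton_iff_unique_mem.1 hp).2 Q₀ hQ₀
      have hQmax : Q = IsLocalRing.maximalIdeal Ap := by
        rw [← IsLocalization.map_comap p.primeCompl Ap Q]
        show Ideal.map (algebraMap A Ap) (Ideal.comap (algebraMap A Ap) Q) = _
        rw [le_antisymm hle (hQ₀p ▸ hQ₀le), Localization.AtPrime.map_eq_maximalIdeal]
      rw [hQmax, IsLocalRing.mem_maximalIdeal]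
      exact h
    obtain ⟨k, hk⟩ := hnil
    exact ⟨k, Ideal.mem_bot.2 (Subtype.ext (by rw [SubmonoidClass.coe_pow, hk]; rfl))⟩
  obtain ⟨t, ht, χ, hχ⟩ := SchDom.exists_lift_away p B₀ hB₀
  obtain ⟨n, c, hc⟩ := IsLocalization.Away.surj t (χ a)
  have hcp : c ∉ p := by
    intro hcp
    have h1 := congrArg (IsLocalization.Away.lift (S := Localization.Away t) t
      (IsLocalization.map_units Ap (⟨t, ht⟩ : p.primeCompl))) hc
    rw [map_mul, map_pow, hχ, IsLocalization.Away.lift_eq, IsLocalization.Away.lift_eq] at h1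
    have h2 : IsUnit (algebraMap A Ap c) := h1 ▸ haunit.mul ((IsLocalization.map_units Ap (⟨t, ht⟩ : p.primeCompl)).pow n)
    exact (IsLocalization.AtPrime.isUnit_to_map_iff Ap p c).1 h2 hcp
  refine ⟨t * c, fun h => (Ideal.IsPrime.mem_or_mem ‹_› h).elim ht hcp, ?_⟩
  let A₁ := Localization.Away (t * c)
  have hu := IsLocalization.Away.algebraMap_isUnit (S := A₁) (t * c)
  rw [map_mul] at hu
  let ρ : Localization.Away t →ₐ[A] A₁ :=
    { IsLocalization.Away.lift t (isUnit_of_mul_isUnit_left hu) with
      commutes' := fun r => IsLocalization.Away.lift_eq _ _ r }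
  letI : Algebra B₀ A₁ := ((ρ.restrictScalars R).comp χ).toRingHom.toAlgebra
  haveI : IsScalarTower R B₀ A₁ :=
    IsScalarTower.of_algebraMap_eq fun r => (((ρ.restrictScalars R).comp χ).commutes r).symm
  have hua : IsUnit (algebraMap B₀ A₁ a) := by
    refine isUnit_of_mul_isUnit_left (y := ρ (algebraMap A _ t ^ n)) ?_
    show IsUnit (ρ (χ a) * ρ _)
    rw [← map_mul, hc, AlgHom.commutes]
    exact isUnit_of_mul_isUnit_right hu
  haveI := hfree A₁ hua Ideal.map_bot
  exact Module.Free.of_equiv ((((AlgebraTensorModule.cancelBaseChange R B₀ A₁ A₁ N).trans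
      (AlgebraTensorModule.cancelBaseChange R A A₁ A₁ N).symm).trans
      (AlgebraTensorModule.congr (LinearEquiv.refl A₁ A₁) eM)).trans
    (IsLocalizedModule.isBaseChange (Submonoid.powers (t * c)) A₁
      (LocalizedModule.mkLinearMap (Submonoid.powers (t * c)) M)).equiv)

end Groth.Agent.S2573
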