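import Groth.Statements.S2574
import Groth.Agent.Lib.FlatH4.LocCrit
import Mathlib.RingTheory.Ideal.AssociatedPrime.Finiteness
import Mathlib.RingTheory.Flat.Localization
import Mathlib.RingTheory.Regular.IsSMulRegular
import Mathlib.RingTheory.Localization.BaseChange

set_option autoImplicit false
open TensorProduct
universe u
open EGA43

namespace Groth.Agent.S2574

section
variable {A : Type u} [CommRing A] [IsNoetherianRing A] (J : Ideal A) (M : Type u) [AddCommGroup M]
  [Module A M]

/-- An associated prime of a submodule of a finite power of `A` is an associated prime of `A`. -/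
theorem mem_associatedPrimes_of_injective_pi {ι : Type u} [Finite ι] {P : Type u} [AddCommGroup P]
    [Module A P] (e : P →ₗ[A] ι → A) (he : Function.Injective e) {a : P} (ha : a ≠ 0) {s : A}
    (hs : s • a = 0) : ∃ p ∈ associatedPrimes A A, s ∈ p := by
  obtain ⟨i, hi⟩ : ∃ i, e a i ≠ 0 := by
    by_contra h
    push Not at h
    exact ha (he (by rw [map_zero]; exact funext h))
  have : s ∈ {r : A | ¬ IsSMulRegular A r} := fun hreg => hi <| hreg <| by
    show s • e a i = s • (0 : A)
    rw [← Pi.smul_apply, ← map_smul, hs, map_zero, smul_zero, Pi.zero_apply]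
  rw [← Set.compl_ofPred, ← biUnion_associatedPrimes_eq_compl_regular] at this
  simpa using this

/-- `f ⊗ M` is injective if `f : P → B` is, `P` is killed by `J` and lies in some `A^ι`, and `M` is
flat at the associated primes of `A`. -/
theorem lTensor_injective_of_ass
    (h2 : Module.Flat (A ⧸ J) ((A ⧸ J) ⊗[A] M))
    (hq : ∀ q ∈ associatedPrimes A A, ∀ (_ : q.IsPrime),
      Module.Flat (Localization.AtPrime q) (LocalizedModule q.primeCompl M))
    {ι : Type u} [Finite ι]
    {P B : Type u} [AddCommGroup P] [Module A P] [AddCommGroup B] [Module A B]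
    (hP : Module.IsTorsionBySet A P (J : Set A))
    (e : P →ₗ[A] ι → A) (he : Function.Injective e)
    (f : P →ₗ[A] B) (hf : Function.Injective f) : Function.Injective (f.lTensor M) := by
  rw [injective_iff_map_eq_zero]
  intro x hx
  let an : Ideal A := Submodule.annihilator (A ∙ x)
  have key : ∀ q ∈ associatedPrimes A A, ¬ an ≤ q := by
    intro q hqm hle
    have : q.IsPrime := IsAssociatedPrime.isPrime hqm
    have := hq q hqm inferInstance
    have : Module.Flat A (LocalizedModule q.primeCompl M) :=
      Module.Flat.trans A (Localization.AtPrime q) _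
    let g : M →ₗ[A] LocalizedModule q.primeCompl M := LocalizedModule.mkLinearMap q.primeCompl M
    let gP : M ⊗[A] P →ₗ[A] LocalizedModule q.primeCompl M ⊗[A] P :=
      AlgebraTensorModule.rTensor A P g
    have : IsLocalizedModule q.primeCompl gP :=
      IsLocalizedModule.rTensor _ q.primeCompl g
    have hgx : gP x = 0 := by
      apply Module.Flat.lTensor_preserves_injective_linearMap
        (M := LocalizedModule q.primeCompl M) f hf
      rw [map_zero]
      show f.lTensor _ (g.rTensor P x) = 0
      rw [← LinearMap.comp_apply, LinearMap.lTensor_comp_rTensor, ← LinearMap.rTensor_comp_lTensor,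
        LinearMap.comp_apply, hx, map_zero]
    obtain ⟨s, hs⟩ := (IsLocalizedModule.eq_zero_iff q.primeCompl gP).1 hgx
    exact s.2 (hle ((Submodule.mem_annihilator_span_singleton _ _).2 hs))
  obtain ⟨s, hs, hsreg⟩ : ∃ s ∈ an, IsSMulRegular P s := by
    by_contra hcon
    push Not at hcon
    have hsub : (an : Set A) ⊆ ⋃ q ∈ (associatedPrimes.finite A A).toFinset,
        ((id q : Ideal A) : Set A) := by
      intro a ha
      have h' := hcon a ha
      rw [isSMulRegular_iff_right_eq_zero_of_smul] at h'
      push Not at h'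
      obtain ⟨m, hm, hm0⟩ := h'
      obtain ⟨p, hp, hap⟩ := mem_associatedPrimes_of_injective_pi e he hm0 hm
      simpa using ⟨p, hp, hap⟩
    obtain ⟨q, hqm, hle⟩ := (Ideal.subset_union_prime ⊥ ⊥
      (fun i hi _ _ => IsAssociatedPrime.isPrime ((Set.Finite.mem_toFinset _).1 hi))).1 hsub
    exact key q ((Set.Finite.mem_toFinset _).1 hqm) hle
  have hinj := Groth.Agent.FlatH4.lTensor_injective_of_flat_mod J h2 hP hP
    (LinearMap.lsmul A P s) hsreg
  apply hinj
  rw [map_zero]
  have : (LinearMap.lsmul A P s).lTensor M = LinearMap.lsmul A (M ⊗[A] P) s :=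
    TensorProduct.ext' fun m p => by simp [TensorProduct.tmul_smul]
  rw [this]
  exact (Submodule.mem_annihilator_span_singleton _ _).1 hs

theorem flat_of_ass (hJ : IsNilpotent J)
    (h2 : Module.Flat (A ⧸ J) ((A ⧸ J) ⊗[A] M))
    (hq : ∀ q ∈ associatedPrimes A A, ∀ (_ : q.IsPrime),
      Module.Flat (Localization.AtPrime q) (LocalizedModule q.primeCompl M)) :
    Module.Flat A M := by
  obtain ⟨n, hn⟩ := hJ
  refine Module.Flat.iff_lTensor_injective'.2 fun b => ?_
  let c : ℕ → Submodule A A := fun k => Submodule.annihilator (J ^ k : Submodule A A)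
  suffices h : ∀ k, Function.Injective ((b ⊓ c k : Submodule A A).subtype.lTensor M) by
    have htop : b ⊓ c n = b := by simp [c, hn, Submodule.annihilator_bot]
    have : b.subtype = (b ⊓ c n).subtype ∘ₗ (LinearEquiv.ofEq _ _ htop.symm).toLinearMap := rfl
    rw [this, LinearMap.lTensor_comp]
    exact (h n).comp ((LinearEquiv.ofEq _ _ htop.symm).lTensor M).injective
  intro k
  induction k with
  | zero =>
    have h0 : c 0 = ⊥ := by
      refine eq_bot_iff.2 fun x hx => (Submodule.mem_bot A).2 ?_
      simpa using Submodule.mem_annihilator.1 hx (1 : A) (by simp [Ideal.one_eq_top])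
    have : Subsingleton ↥(b ⊓ c 0) := by
      rw [h0, inf_bot_eq]; infer_instance
    exact Function.injective_of_subsingleton _
  | succ k ih =>
    rw [injective_iff_map_eq_zero]
    intro z hz
    let U : Submodule A A := b ⊓ c (k + 1)
    let K : Submodule A ↥U := (c k).comap U.subtype
    let f : (↥U ⧸ K) →ₗ[A] A ⧸ c k := K.mapQ (c k) U.subtype le_rfl
    have hf : Function.Injective f := by
      rw [← LinearMap.ker_eq_bot]
      exact Submodule.ker_liftQ_eq_bot' _ _ (by simp [K, LinearMap.ker_comp])
    obtain ⟨r, gen, hgen⟩ :=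
      Submodule.fg_iff_exists_fin_generating_family.1 (IsNoetherian.noetherian (J ^ k : Submodule A A))
    let μ : A →ₗ[A] ULift.{u} (Fin r) → A :=
      LinearMap.pi fun i => LinearMap.mulRight A (gen i.down)
    have hμ : LinearMap.ker μ = c k := by
      ext x
      simp only [c, ← hgen, Submodule.annihilator_span, μ, LinearMap.mem_ker, Submodule.mem_iInf]
      simp [funext_iff]
    let e : (↥U ⧸ K) →ₗ[A] ULift.{u} (Fin r) → A := (c k).liftQ μ hμ.ge ∘ₗ f
    have he : Function.Injective e := by
      refine Function.Injective.comp (g := ⇑((c k).liftQ μ hμ.ge)) ?_ hf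
      rw [← LinearMap.ker_eq_bot]
      exact Submodule.ker_liftQ_eq_bot' _ _ hμ.symm
    have hP : Module.IsTorsionBySet A (↥U ⧸ K) (J : Set A) := fun x r => by
      obtain ⟨x, rfl⟩ := K.mkQ_surjective x
      rw [← map_smul, Submodule.mkQ_apply, Submodule.Quotient.mk_eq_zero]
      show (r : A) * (x : A) ∈ Submodule.annihilator _
      refine Submodule.mem_annihilator.2 fun y hy => ?_
      have := Submodule.mem_annihilator.1 x.2.2 ((r : A) * y) (by
        rw [pow_succ']; exact Ideal.mul_mem_mul r.2 hy)
      simp only [smul_eq_mul] at this ⊢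
      rw [mul_comm (r : A) (x : A), mul_assoc]
      exact this
    have h0 : K.mkQ.lTensor M z = 0 := by
      apply lTensor_injective_of_ass J M h2 hq hP e he f hf
      rw [map_zero, ← LinearMap.lTensor_comp_apply,
        show f ∘ₗ K.mkQ = (c k).mkQ ∘ₗ U.subtype from Submodule.mapQ_mkQ _ _ _,
        LinearMap.lTensor_comp_apply, hz, map_zero]
    obtain ⟨η, rfl⟩ := (lTensor_exact M (LinearMap.exact_subtype_mkQ K) K.mkQ_surjective _).1 h0
    let t : ↥K →ₗ[A] ↥(b ⊓ c k) :=
      (U.subtype ∘ₗ K.subtype).codRestrict _ fun x => ⟨x.1.2.1, x.2⟩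
    have hle : b ⊓ c k ≤ U := inf_le_inf_left _
      (Submodule.annihilator_mono (Ideal.pow_le_pow_right (Nat.le_succ k)))
    have hK : K.subtype = Submodule.inclusion hle ∘ₗ t := LinearMap.ext fun _ => Subtype.ext rfl
    have hη : t.lTensor M η = 0 := by
      apply ih
      rw [map_zero, ← hz, hK, ← LinearMap.lTensor_comp_apply, ← LinearMap.lTensor_comp_apply]
      rfl
    rw [hK, LinearMap.lTensor_comp_apply, hη, map_zero]

end

/-- Let A be a Noetherian ring, J a nilpotent ideal of A and M an A-module. Then M is flat over A if and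
only if (A/J) ⊗_A M is flat over A/J and, for every associated prime p of A, the localization M_p is
flat over A_p. -/
theorem result {A : Type u} [CommRing A] [IsNoetherianRing A]
    (J : Ideal A) (hJ : IsNilpotent J) (M : Type u) [AddCommGroup M] [Module A M] :
    Module.Flat A M ↔
      Module.Flat (A ⧸ J) ((A ⧸ J) ⊗[A] M) ∧
        ∀ p : associatedPrimes A A,
          haveI : p.1.IsPrime := IsAssociatedPrime.isPrime p.2
          Module.Flat (Localization.AtPrime p.1) (LocalizedModule p.1.primeCompl M) := by
  refine ⟨fun h => ⟨Module.Flat.baseChange A (A ⧸ J) M, fun q => ?_⟩, fun ⟨h2, hq⟩ =>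
    flat_of_ass J M hJ h2 fun q hqm _ => hq ⟨q, hqm⟩⟩
  have : q.1.IsPrime := IsAssociatedPrime.isPrime q.2
  exact Module.Flat.of_isLocalizedModule (Localization.AtPrime q.1) q.1.primeCompl
    (LocalizedModule.mkLinearMap q.1.primeCompl M)

end Groth.Agent.S2574
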