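import Groth.Statements.S3443
import Mathlib.AlgebraicGeometry.PullbackCarrier
import Mathlib.AlgebraicGeometry.Morphisms.UniversallyInjective
import Mathlib.AlgebraicGeometry.Morphisms.FinitePresentation
import Groth.Agent.Lib.SchBasic.Basic

set_option autoImplicit false
open CategoryTheory AlgebraicGeometry
universe u
open EGA43

namespace Groth.Agent.S3443

theorem isLocallyConstructible_compl {X : Type*} [TopologicalSpace X] {s : Set X}
    (hs : Topology.IsLocallyConstructible s) : Topology.IsLocallyConstructible sᶜ := fun x => by
  obtain ⟨U, hU, hUo, h⟩ := hs x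
  exact ⟨U, hU, hUo, h.compl⟩

set_option backward.isDefEq.respectTransparency false in
open CategoryTheory.Limits in
theorem fibre_surjective_iff {X Y S : Scheme.{u}} (f : X ⟶ Y) (g : Y ⟶ S) (s : S) :
    Function.Surjective (pullback.lift (pullback.fst (f ≫ g) (S.fromSpecResidueField s) ≫ f)
      (pullback.snd (f ≫ g) (S.fromSpecResidueField s))
      ((Category.assoc _ _ _).trans pullback.condition) :
        pullback (f ≫ g) (S.fromSpecResidueField s) ⟶ pullback g (S.fromSpecResidueField s)) ↔
      g ⁻¹' {s} ⊆ Set.range f := by
  set F : pullback (f ≫ g) (S.fromSpecResidueField s) ⟶ pullback g (S.fromSpecResidueField s) :=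
    pullback.lift _ _ _ with hF
  have hr : Set.range (pullback.fst g (S.fromSpecResidueField s)) = g ⁻¹' {s} :=
    Scheme.Hom.range_fiberι g s
  have hc : ∀ x, pullback.fst g (S.fromSpecResidueField s) (F x) =
      f (pullback.fst (f ≫ g) (S.fromSpecResidueField s) x) := fun x => by
    rw [← Scheme.Hom.comp_apply, ← Scheme.Hom.comp_apply, hF, pullback.lift_fst]
  constructor
  · intro h y hy
    rw [← hr] at hy
    obtain ⟨z, rfl⟩ := hy
    obtain ⟨x, rfl⟩ := h z
    exact ⟨_, (hc x).symm⟩
  · intro h z
    obtain ⟨x, hx⟩ := h (hr.le ⟨z, rfl⟩)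
    have hs : (f ≫ g) x = s := by
      rw [Scheme.Hom.comp_apply, hx]
      exact hr.le ⟨z, rfl⟩
    obtain ⟨x', rfl⟩ := (Scheme.Hom.range_fiberι (f ≫ g) s).ge hs
    exact ⟨x', (pullback.fst g (S.fromSpecResidueField s)).isEmbedding.injective ((hc x').trans hx)⟩

open CategoryTheory.Limits in
/-- Let g : Y ⟶ S and f : X ⟶ Y be such that X and Y are of finite presentation over S (locally of
finite presentation, quasi-compact and quasi-separated). For each point s of S let f_s be the
induced morphism from the fibre of f ≫ g over s to the fibre of g over s. Then the set of s for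
which f_s is surjective is locally constructible in S. -/
theorem result {X Y S : Scheme.{u}} (f : X ⟶ Y) (g : Y ⟶ S)
    [LocallyOfFinitePresentation g] [QuasiCompact g] [QuasiSeparated g]
    [LocallyOfFinitePresentation (f ≫ g)] [QuasiCompact (f ≫ g)] [QuasiSeparated (f ≫ g)] :
    Topology.IsLocallyConstructible {s : S |
      Function.Surjective (pullback.lift (pullback.fst (f ≫ g) (S.fromSpecResidueField s) ≫ f) (pullback.snd (f ≫ g) (S.fromSpecResidueField s))
          ((Category.assoc _ _ _).trans pullback.condition) :
        pullback (f ≫ g) (S.fromSpecResidueField s) ⟶ pullback g (S.fromSpecResidueField s)).base} := by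
  haveI : QuasiCompact f := QuasiCompact.of_comp f g
  haveI : LocallyOfFinitePresentation f := SchBasic.locallyOfFinitePresentation_of_comp f g
  convert! isLocallyConstructible_compl (g.isLocallyConstructible_image (isLocallyConstructible_compl (f.isLocallyConstructible_image
    Topology.IsLocallyConstructible.univ))) using 1
  ext s
  refine (fibre_surjective_iff f g s).trans ?_
  simp [Set.subset_def]
  grind

end Groth.Agent.S3443
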