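import Groth.Statements.S3426
import Groth.Agent.Lib.FibreLocus.Fibre
import Groth.Agent.S3444
-- import your own Groth.Agent.* helpers here

set_option autoImplicit false
open CategoryTheory AlgebraicGeometry
universe u
open EGA43

namespace Groth.Agent.S3426

open CategoryTheory.Limits in
/-- Let g : Y ⟶ S and f : X ⟶ Y be such that X and Y are of finite presentation over S (locally of
finite presentation, quasi-compact and quasi-separated). For each point s of S let f_s be the
induced morphism from the fibre of f ≫ g over s to the fibre of g over s. Then the set of s for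
which f_s is a monomorphism is locally constructible in S. -/
theorem result {X Y S : Scheme.{u}} (f : X ⟶ Y) (g : Y ⟶ S)
    [LocallyOfFinitePresentation g] [QuasiCompact g] [QuasiSeparated g]
    [LocallyOfFinitePresentation (f ≫ g)] [QuasiCompact (f ≫ g)] [QuasiSeparated (f ≫ g)] :
    Topology.IsLocallyConstructible {s : S |
      Mono (pullback.lift (pullback.fst (f ≫ g) (S.fromSpecResidueField s) ≫ f) (pullback.snd (f ≫ g) (S.fromSpecResidueField s))
          ((Category.assoc _ _ _).trans pullback.condition) :
        pullback (f ≫ g) (S.fromSpecResidueField s) ⟶ pullback g (S.fromSpecResidueField s))} := by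
  haveI : LocallyOfFinitePresentation f := Groth.Agent.SchBasic.locallyOfFinitePresentation_of_comp f g
  refine (congrArg Topology.IsLocallyConstructible (Set.ext fun s => ?_)).mp
    ((Groth.Agent.FibreLocus.isLocallyConstructible_setOf_fibre_unramified f g).inter
      (Groth.Agent.S3444.result f g))
  refine Iff.trans (and_congr (Groth.Agent.FibreLocus.fibreMap_iff @FormallyUnramified f g s).symm Iff.rfl) ?_
  haveI : LocallyOfFiniteType (pullback.lift (pullback.fst (f ≫ g) (S.fromSpecResidueField s) ≫ f)
      (pullback.snd (f ≫ g) (S.fromSpecResidueField s)) ((Category.assoc _ _ _).trans pullback.condition) :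
      pullback (f ≫ g) (S.fromSpecResidueField s) ⟶ pullback g (S.fromSpecResidueField s)) :=
    (Groth.Agent.FibreLocus.fibreMap_iff @LocallyOfFiniteType f g s).2 inferInstance
  exact (Groth.Agent.FibreLocus.mono_iff_unramified_and_universallyInjective _).symm

end Groth.Agent.S3426
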