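import Groth.Statements.S2591
import Groth.Agent.Lib.SchDom.FreeStrata

set_option autoImplicit false
open TensorProduct
universe u
open EGA43

namespace Groth.Agent.S2591

open Groth.Agent TensorProduct

/-- Let A be a commutative ring, B a finitely presented A-algebra and M a finitely presented B-module
which is flat over A. Then there are finitely many elements f₁, …, fₙ of A generating the unit ideal
such that, for each i < n, writing A' for the localization of A at f_{i+1} modulo the ideal
generated by f₁, …, fᵢ, the module A' ⊗_A M is free over A'. -/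
theorem result {A B : Type u} [CommRing A] [CommRing B] [Algebra A B]
    [Algebra.FinitePresentation A B] (M : Type u) [AddCommGroup M] [Module B M] [Module A M] [IsScalarTower A B M]
    [Module.FinitePresentation B M] [Module.Flat A M] :
    ∃ l : List A, Ideal.span {a | a ∈ l} = ⊤ ∧
      ∀ (i : ℕ) (hi : i < l.length),
        letI J : Ideal (Localization.Away l[i]) :=
          (Ideal.span {a | a ∈ l.take i}).map (algebraMap A (Localization.Away l[i]))
        Module.Free (Localization.Away l[i] ⧸ J) ((Localization.Away l[i] ⧸ J) ⊗[A] M) := by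
  obtain ⟨R, _, _, S, N, _, _, _, _, _, _, hR, hS, hN, ⟨eM⟩⟩ := SchDom.exists_module_model A B M
  haveI := hR
  haveI := hS
  haveI := hN
  haveI : Module.Flat A (A ⊗[R] N) := Module.Flat.of_linearEquiv eM
  obtain ⟨B₀, hB₀, hflat⟩ := FlatH4.exists_subalgebra_flat R A S N
  haveI := hflat B₀ le_rfl hB₀
  haveI : IsNoetherianRing B₀ := isNoetherianRing_of_fg hB₀
  letI := FlatH4.tensorModule R B₀ S N
  haveI := FlatH4.tensorModule_isScalarTower R B₀ S N
  haveI := FlatH4.tensorModule_finite R B₀ S N
  obtain ⟨l, hl, hstr⟩ := SchDom.exists_free_strata (B₀ ⊗[R] S) (N := B₀ ⊗[R] N) (⊥ : Ideal B₀)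
  have hset : ∀ l' : List B₀, ({a | a ∈ l'.map (algebraMap B₀ A)} : Set A) = algebraMap B₀ A '' {a | a ∈ l'} :=
    fun l' => by ext; simp
  refine ⟨l.map (algebraMap B₀ A), ?_, fun i hi => ?_⟩
  · rw [bot_sup_eq] at hl
    rw [hset, ← Ideal.map_span, hl, Ideal.map_top]
  let J : Ideal (Localization.Away (l.map (algebraMap B₀ A))[i]) :=
    (Ideal.span {a | a ∈ (l.map (algebraMap B₀ A)).take i}).map (algebraMap A _)
  have hi' : i < l.length := by simpa using hi
  let C' := Localization.Away (l.map (algebraMap B₀ A))[i] ⧸ J
  have h1 := hstr i hi' C' (by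
    rw [IsScalarTower.algebraMap_apply B₀ A C', IsScalarTower.algebraMap_apply A
      (Localization.Away (l.map (algebraMap B₀ A))[i]) C', ← List.getElem_map (f := algebraMap B₀ A)]
    exact (IsLocalization.Away.algebraMap_isUnit _).map _) (by
    rw [bot_sup_eq, IsScalarTower.algebraMap_eq B₀ A C', ← Ideal.map_map, Ideal.map_span, ← hset, List.map_take,
      IsScalarTower.algebraMap_eq A (Localization.Away (l.map (algebraMap B₀ A))[i]) C', ← Ideal.map_map,
      Ideal.Quotient.algebraMap_eq]
    exact Ideal.map_quotient_self J)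
  haveI := h1
  exact Module.Free.of_equiv
    (((AlgebraTensorModule.cancelBaseChange R B₀ C' C' N).trans
      (AlgebraTensorModule.cancelBaseChange R A C' C' N).symm).trans
      (AlgebraTensorModule.congr (LinearEquiv.refl C' C') eM))

end Groth.Agent.S2591
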