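import Groth.Statements.S2593
import Groth.Agent.Lib.Unibr4.GoDown
import Groth.Agent.Lib.EquidimAt4

set_option autoImplicit false
open CategoryTheory AlgebraicGeometry
universe u
open EGA43

set_option backward.isDefEq.respectTransparency.types false

namespace Groth.Agent.S2593

/-- Chevalley's criterion for universal openness: let Y be a locally Noetherian scheme all of whose
local rings are geometrically unibranch and f : X ⟶ Y a morphism locally of finite type which is
equidimensional at every point of X. Then f is universally open. (The published statement has an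
arbitrary base; a locally Noetherian base is assumed here, and without it the statement fails, e.g.
for the inclusion of a non-open closed point of the spectrum of an infinite product of copies of
𝔽₂.) -/
theorem result {X Y : Scheme.{u}} [IsLocallyNoetherian Y]
    (hY : ∀ y : Y, CAlg2.IsGeomUnibranch (Y.presheaf.stalk y)) (f : X ⟶ Y) [LocallyOfFiniteType f]
    (h : ∀ x : X, EGA43.IsEquidimAt f x) : UniversallyOpen f := by
  refine Unibr4.universallyOpen_of_forall f fun x => ?_
  obtain ⟨e, U, hxU, hcomp, hdim⟩ := h x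
  obtain ⟨t, htx, ht⟩ := Unibr4.exists_max x
  have htU : t ∈ U := htx.mem_open U.2 hxU
  let t' : (U : Scheme.{u}) := ⟨t, htU⟩
  have ht' : ∀ y, y ⤳ t' → y = t' := (EquidimAt4.max_opens_iff t').2 ht
  obtain ⟨W, hW, -, hWeq⟩ := hcomp _ ((VarDim.maximal_iff_mem_irreducibleComponents (X := (U : Scheme.{u})) t').1 ht')
  rw [closure_image_closure (U.ι ≫ f).continuous, Set.image_singleton] at hWeq
  subst hWeq
  have hrd : ∀ w : (U : Scheme.{u}), FibDim14.IsMaxFib (U.ι ≫ f) w → FibDim14.rd f (U.ι w) = e := by
    intro w hw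
    have hz := (FibDim14.isMaxFib_fiberι (U.ι ≫ f) _ ((U.ι ≫ f).asFiber w)).1 (by rwa [Scheme.Hom.fiberι_asFiber])
    have h3 := hdim w _ ((VarDim.maximal_iff_mem_irreducibleComponents (X := (U.ι ≫ f).fiber _) _).1 hz)
    rw [VarDim.dim_closure_singleton (FibDim14.toPt (U.ι ≫ f) _), ← FibDim14.rd_fiberι,
      Scheme.Hom.fiberι_asFiber, EquidimAt4.rd_openImmersion] at h3
    exact_mod_cast h3
  refine Unibr4.isUnivOpenAt f x t (Or.inl inferInstance) (hY _) htx
    ((VarDim.maximal_iff_mem_irreducibleComponents (X := Y) (f t)).2 hW) ?_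
  obtain ⟨w, hw, -, hmax, hd⟩ := FibGen4.exists_isMaxFib f x
  have hwU : w ∈ U := hw.mem_open U.2 hxU
  rw [← hd, FibGen4.fibreDimAt_eq_rd_of_isMaxFib f hmax]
  have h1 : FibDim14.rd f w = e := hrd ⟨w, hwU⟩ ((EquidimAt4.isMaxFib_opens_iff f ⟨w, hwU⟩).2 hmax)
  have h2 : FibDim14.rd f t = e := hrd t' fun y hy _ => ht' y hy
  rw [h1, h2]

end Groth.Agent.S2593
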