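import Groth.Statements.S2594
import Groth.Agent.Lib.CMEquiDim4
import Groth.Agent.Lib.VarDim.Irred
import Groth.Agent.Lib.FibDim14.BaseChange

set_option autoImplicit false
open CategoryTheory AlgebraicGeometry
universe u
open EGA43

set_option backward.isDefEq.respectTransparency.types false

namespace Groth.Agent.S2594


open AlgebraicGeometry CategoryTheory CategoryTheory.Limits in
theorem exists_lift {X Y Y' : Scheme.{u}} (f : X ⟶ Y) (g : Y' ⟶ Y) [LocallyOfFiniteType f]
    (w : ↥(pullback f g)) {η'' : Y'} (h : η'' ⤳ pullback.snd f g w) (he : g η'' = g (pullback.snd f g w)) :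
    ∃ w', w' ⤳ w ∧ pullback.snd f g w' = η'' := by
  let q := pullback.snd f g
  let η := g (q w)
  let G := FibDim14.fibMap q g η
  have sqA := CMEquiDim4.isPullback_fibMap q g η
  have hw : ((q ≫ g).fiberι η ≫ pullback.fst f g) ≫ f = (G ≫ g.fiberToSpecResidueField η) ≫ Y.fromSpecResidueField η := by
    rw [Category.assoc, pullback.condition, Category.assoc]
    show (q ≫ g).fiberι η ≫ q ≫ g = _
    rw [← Scheme.Hom.fiber_fac, ← Category.assoc, ← Category.assoc, sqA.w]
  let L : (q ≫ g).fiber η ⟶ f.fiber η := pullback.lift ((q ≫ g).fiberι η ≫ pullback.fst f g)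
    (G ≫ g.fiberToSpecResidueField η) hw
  have hL : IsPullback L G (f.fiberToSpecResidueField η) (g.fiberToSpecResidueField η) := by
    refine IsPullback.of_right (h₁₂ := f.fiberι η) (h₂₂ := Y.fromSpecResidueField η) (v₁₃ := f) ?_
      (pullback.lift_snd _ _ _) (IsPullback.of_hasPullback _ _)
    have hbig := sqA.paste_horiz (IsPullback.of_hasPullback f g)
    rw [← Scheme.Hom.fiber_fac]
    rw [show L ≫ f.fiberι η = (q ≫ g).fiberι η ≫ pullback.fst f g from pullback.lift_fst _ _ _]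
    exact hbig
  haveI : Flat (FibDim14.toPt f η) := inferInstance
  haveI : Flat G := MorphismProperty.of_isPullback (P := @Flat) hL ‹Flat (FibDim14.toPt f η)›
  let z := (q ≫ g).asFiber w
  have hz : g.fiberι η (G z) = q w := by
    rw [FibDim14.fiberι_fibMap]
    exact congrArg q ((q ≫ g).fiberι_asFiber w)
  obtain ⟨z', hz'⟩ : ∃ z', g.fiberι η z' = η'' :=
    ⟨(g.fiberHomeo η).symm ⟨η'', he⟩, g.fiberι_fiberHomeo_symm _ _⟩
  have hzz : z' ⤳ G z := by
    rw [← (g.fiberι η).isEmbedding.isInducing.specializes_iff, hz', hz]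
    exact h
  obtain ⟨r, hr, hGr⟩ := Flat.generalizingMap G hzz
  refine ⟨(q ≫ g).fiberι η r, ?_, ?_⟩
  · have := hr.map ((q ≫ g).fiberι η).continuous
    exact this.trans (specializes_of_eq ((q ≫ g).fiberι_asFiber w))
  · show q _ = _
    rw [← FibDim14.fiberι_fibMap, hGr, hz']

open CategoryTheory.Limits in
/-- Let f : X ⟶ Y be locally of finite type and equidimensional at a point x, and g : Y' ⟶ Y a flat
morphism with Y' locally Noetherian (the source states this for arbitrary Y', but its proof reduces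
to the case where every irreducible component passes through the point, which needs the irreducible
components to be locally finite). Then the base change X ×_Y Y' ⟶ Y' is equidimensional at every
point lying over x. -/
theorem result {X Y Y' : Scheme.{u}} (f : X ⟶ Y) [LocallyOfFiniteType f] (g : Y' ⟶ Y) [Flat g] [IsLocallyNoetherian Y']
    (x : X) (h : EGA43.IsEquidimAt f x) (x' : ↥(pullback f g)) (hx' : (pullback.fst f g).base x' = x) :
    EGA43.IsEquidimAt (pullback.snd f g) x' := by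
  obtain ⟨e, U, hxU, hcomp, hfib⟩ := h
  let q := pullback.snd f g
  let p := pullback.fst f g
  haveI : Flat p := MorphismProperty.pullback_fst f g inferInstance
  obtain ⟨V, hV, hyV, -⟩ := exists_isAffineOpen_mem_and_subset (U := (⊤ : Y'.Opens)) (x := q x') trivial
  haveI : IsAffine (V : Scheme.{u}) := hV
  haveI : IsNoetherian (V : Scheme.{u}) := ⟨⟩
  have hfin := TopologicalSpace.NoetherianSpace.finite_irreducibleComponents (α := (V : Scheme.{u}))
  let bad := {T ∈ irreducibleComponents (V : Scheme.{u}) | (⟨q x', hyV⟩ : (V : Scheme.{u})) ∉ T}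
  have hbad : IsClosed (⋃ T ∈ bad, T) :=
    (hfin.subset fun T hT => hT.1).isClosed_biUnion fun T hT => isClosed_of_mem_irreducibleComponents T hT.1
  let V' : Y'.Opens := V.ι ''ᵁ ⟨(⋃ T ∈ bad, T)ᶜ, hbad.isOpen_compl⟩
  have hyV' : q x' ∈ V' := ⟨⟨q x', hyV⟩, fun h => by
    obtain ⟨T, hT, hxT⟩ := Set.mem_iUnion₂.1 h
    exact hT.2 hxT, rfl⟩
  refine ⟨e, p ⁻¹ᵁ U ⊓ q ⁻¹ᵁ V', ⟨show p x' ∈ U from hx'.symm ▸ hxU, hyV'⟩, fun Z hZ => ?_, fun z₀ Z hZ => ?_⟩
  · let U₁ := p ⁻¹ᵁ U ⊓ q ⁻¹ᵁ V'
    obtain ⟨w, rfl, hw⟩ := VarDim.exists_generic_of_mem_irreducibleComponents (X := (U₁ : Scheme.{u})) hZ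
    have hwmax : ∀ y, y ⤳ w.1 → y = w.1 := fun y hy =>
      congrArg Subtype.val (hw ⟨y, hy.mem_open U₁.2 w.2⟩ ((subtype_specializes_iff _ _).2 hy))
    let u : (U : Scheme.{u}) := ⟨p w.1, w.2.1⟩
    have humax : ∀ v, v ⤳ u → v = u := fun v hv => by
      obtain ⟨y, hy, he⟩ := Flat.generalizingMap p ((subtype_specializes_iff _ _).1 hv : v.1 ⤳ p w.1)
      apply Subtype.ext
      rw [← he, hwmax y hy]
    obtain ⟨W, hW, -, hWeq⟩ := hcomp _ ((VarDim.maximal_iff_mem_irreducibleComponents (X := (U : Scheme.{u})) u).1 humax)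
    rw [closure_image_closure (U.ι ≫ f).continuous, Set.image_singleton] at hWeq
    have hηmax : ∀ y, y ⤳ f (p w.1) → y = f (p w.1) :=
      (VarDim.maximal_iff_mem_irreducibleComponents (X := Y) _).2 (hWeq.symm ▸ hW)
    have hpq : g (q w.1) = f (p w.1) := by
      rw [← Scheme.Hom.comp_apply, ← pullback.condition, Scheme.Hom.comp_apply]
    have hmax : ∀ y, y ⤳ q w.1 → y = q w.1 := by
      intro y hy
      have he : g y = g (q w.1) := by
        rw [hpq]; exact hηmax _ (hpq ▸ hy.map g.continuous)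
      obtain ⟨w', hw', hwy⟩ := exists_lift f g w.1 hy he
      rw [← hwy, hwmax w' hw']
    refine ⟨closure {q w.1}, (VarDim.maximal_iff_mem_irreducibleComponents (X := Y') (q w.1)).1 hmax, ?_, ?_⟩
    · obtain ⟨v, hv, hvg⟩ := w.2.2
      have hvmax : closure {v} ∈ irreducibleComponents (V : Scheme.{u}) :=
        (VarDim.maximal_iff_mem_irreducibleComponents (X := (V : Scheme.{u})) v).1 fun w' hw' =>
          V.ι.isOpenEmbedding.injective ((hmax _ (hvg ▸ hw'.map V.ι.continuous)).trans hvg.symm)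
      have hmem : (⟨q x', hyV⟩ : (V : Scheme.{u})) ∈ closure {v} := by
        by_contra hn
        exact hv (Set.mem_biUnion (⟨hvmax, hn⟩ : closure {v} ∈ bad) (subset_closure rfl))
      have := ((specializes_iff_mem_closure.2 hmem).map V.ι.continuous).mem_closure
      exact hvg ▸ this
    · rw [closure_image_closure (U₁.ι ≫ pullback.snd f g).continuous, Set.image_singleton]
      rfl
  · have hrel : Cyc.HasRelDim (U.ι ≫ f) e := by
      intro y T hT
      obtain ⟨⟨z, -⟩⟩ : Nonempty T := hT.1.nonempty.to_subtype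
      have hz : (U.ι ≫ f) ((U.ι ≫ f).fiberι y z) = y := by
        have hm : (U.ι ≫ f).fiberι y z ∈ Set.range ((U.ι ≫ f).fiberι y) := ⟨z, rfl⟩
        rwa [(U.ι ≫ f).range_fiberι] at hm
      have := hfib ((U.ι ≫ f).fiberι y z)
      rw [show (U.ι ≫ f).base ((U.ι ≫ f).fiberι y z) = y from hz] at this
      exact this T hT
    have sq : IsPullback (p ∣_ U) ((p ⁻¹ᵁ U).ι ≫ q) (U.ι ≫ f) g :=
      (isPullback_morphismRestrict p U).paste_vert (IsPullback.of_hasPullback f g)
    have hrel' := FibDim14.hasRelDim_baseChange sq hrel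
    let U₁ := p ⁻¹ᵁ U ⊓ q ⁻¹ᵁ V'
    let j : (U₁ : Scheme.{u}) ⟶ (p ⁻¹ᵁ U : Scheme.{u}) := (pullback f g).homOfLE inf_le_left
    obtain ⟨z, rfl, hz⟩ := VarDim.exists_generic_of_mem_irreducibleComponents hZ
    let s := (U₁.ι ≫ pullback.snd f g) z₀
    let w := (U₁.ι ≫ pullback.snd f g).fiberι s z
    have hmax : FibDim14.IsMaxFib (U₁.ι ≫ pullback.snd f g) w :=
      (FibDim14.isMaxFib_fiberι (U₁.ι ≫ pullback.snd f g) s z).2 hz
    have hjq : j ≫ (p ⁻¹ᵁ U).ι ≫ q = U₁.ι ≫ pullback.snd f g := by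
      rw [← Category.assoc, Scheme.homOfLE_ι]
    have hmax' : FibDim14.IsMaxFib ((p ⁻¹ᵁ U).ι ≫ q) (j w) := by
      intro y hy hye
      obtain ⟨y', rfl⟩ := hy.mem_open j.isOpenEmbedding.isOpen_range ⟨w, rfl⟩
      refine congrArg j (hmax y' (j.isEmbedding.isInducing.specializes_iff.1 hy) ?_)
      simp only [← hjq]
      exact hye
    have h1 : FibDim14.rd ((p ⁻¹ᵁ U).ι ≫ q) (j w) = e := (FibDim14.hasRelDim_iff _ e).1 hrel' _ hmax'
    have h2 : FibDim14.rd (U₁.ι ≫ pullback.snd f g) w = e := by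
      rw [← h1]
      simp only [← hjq]
      rw [FibDim14.rd_comp, FibDim14.rd_of_surjectiveOnStalks j, add_zero]
    refine (VarDim.dim_closure_singleton (FibDim14.toPt (U₁.ι ≫ pullback.snd f g) s) z).trans ?_
    rw [← FibDim14.rd_fiberι]
    exact congrArg _ h2

end Groth.Agent.S2594
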