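import Groth.Statements.S2595
import Groth.Agent.Lib.CMEquiDim4
import Groth.Agent.Lib.FlatH4.FlatLocusScheme

set_option autoImplicit false
open CategoryTheory AlgebraicGeometry
universe u
open EGA43

set_option backward.isDefEq.respectTransparency.types false

namespace Groth.Agent.S2595

/-- Let Y be locally Noetherian, f : X ⟶ Y locally of finite type and x a point of X. If O_{Y,f x} ⟶
O_{X,x} is flat and the local ring at x of the fibre through x is Cohen–Macaulay, then f is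
equidimensional at x. -/
theorem result {X Y : Scheme.{u}} [IsLocallyNoetherian Y] (f : X ⟶ Y)
    [LocallyOfFiniteType f] (x : X) (hflat : (f.stalkMap x).hom.Flat)
    (hCM : LocCoh.IsCohenMacaulayLocalRing ((f.fiber (f.base x)).presheaf.stalk (f.asFiber x))) :
    EGA43.IsEquidimAt f x := by
  haveI : LocallyOfFinitePresentation f := VarDim.locallyOfFinitePresentation_of_locallyNoetherian f
  obtain ⟨W, hxW, hW⟩ := CMEquiDim4.exists_nhd_fibreDimAt_eq f (x := x) ⟨hflat, hCM⟩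
  obtain ⟨x₀, -, -, hd, -⟩ := FibDim14.exists_fibreDimAt_eq f x
  let F : X.Opens := ⟨_, FlatH4.isOpen_flatLocus f⟩
  obtain ⟨V, hV, hyV, -⟩ := exists_isAffineOpen_mem_and_subset (U := (⊤ : Y.Opens)) (x := f x) trivial
  haveI : IsAffine (V : Scheme.{u}) := hV
  haveI : IsNoetherian (V : Scheme.{u}) := ⟨⟩
  have hfin := TopologicalSpace.NoetherianSpace.finite_irreducibleComponents (α := (V : Scheme.{u}))
  let bad := {T ∈ irreducibleComponents (V : Scheme.{u}) | (⟨f x, hyV⟩ : (V : Scheme.{u})) ∉ T}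
  have hbad : IsClosed (⋃ T ∈ bad, T) :=
    (hfin.subset fun T hT => hT.1).isClosed_biUnion fun T hT => isClosed_of_mem_irreducibleComponents T hT.1
  let V' : Y.Opens := V.ι ''ᵁ ⟨(⋃ T ∈ bad, T)ᶜ, hbad.isOpen_compl⟩
  have hyV' : f x ∈ V' := ⟨⟨f x, hyV⟩, fun h => by
    obtain ⟨T, hT, hxT⟩ := Set.mem_iUnion₂.1 h
    exact hT.2 hxT, rfl⟩
  refine ⟨FibDim14.rd f x₀, W ⊓ F ⊓ f ⁻¹ᵁ V', ⟨⟨hxW, hflat⟩, hyV'⟩, fun Z hZ => ?_, fun x' Z hZ => ?_⟩
  · let U := W ⊓ F ⊓ f ⁻¹ᵁ V'
    obtain ⟨g, rfl, hg⟩ := VarDim.exists_generic_of_mem_irreducibleComponents (X := (U : Scheme.{u})) hZ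
    have hmax : ∀ y, y ⤳ f g.1 → y = f g.1 := by
      intro y hy
      obtain ⟨g', hg', hfg'⟩ := FibDim14.goDown_of_flat_stalk f g.1 g.2.1.2 g.1 specializes_rfl y hy
      have hg'U : g' ∈ U := hg'.mem_open U.2 g.2
      have := hg ⟨g', hg'U⟩ ((subtype_specializes_iff _ _).2 hg')
      rw [← hfg', ← congrArg Subtype.val this]
    refine ⟨closure {f g.1}, (VarDim.maximal_iff_mem_irreducibleComponents (X := Y) (f g.1)).1 hmax, ?_, ?_⟩
    · obtain ⟨v, hv, hvg⟩ := g.2.2
      have hvmax : closure {v} ∈ irreducibleComponents (V : Scheme.{u}) :=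
        (VarDim.maximal_iff_mem_irreducibleComponents (X := (V : Scheme.{u})) v).1 fun w hw =>
          V.ι.isOpenEmbedding.injective ((hmax _ (hvg ▸ hw.map V.ι.continuous)).trans hvg.symm)
      have hmem : (⟨f x, hyV⟩ : (V : Scheme.{u})) ∈ closure {v} := by
        by_contra hn
        exact hv (Set.mem_biUnion (⟨hvmax, hn⟩ : closure {v} ∈ bad) (subset_closure rfl))
      have := ((specializes_iff_mem_closure.2 hmem).map V.ι.continuous).mem_closure
      exact hvg ▸ this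
    · rw [closure_image_closure (U.ι ≫ f).continuous, Set.image_singleton]
      rfl
  · let U := W ⊓ F ⊓ f ⁻¹ᵁ V'
    obtain ⟨z, rfl, hz⟩ := VarDim.exists_generic_of_mem_irreducibleComponents hZ
    let s := (U.ι ≫ f) x'
    let w := (U.ι ≫ f).fiberι s z
    have hmax : FibDim14.IsMaxFib (U.ι ≫ f) w := (FibDim14.isMaxFib_fiberι (U.ι ≫ f) s z).2 hz
    have h1 := FibGen4.fibreDimAt_eq_rd_of_isMaxFib (U.ι ≫ f) hmax
    rw [FibDim14.fibreDimAt_etale_comp U.ι f w, hW _ (show U.ι w ∈ W from w.2.1.1), hd] at h1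
    refine (VarDim.dim_closure_singleton (FibDim14.toPt (U.ι ≫ f) s) z).trans ?_
    rw [← FibDim14.rd_fiberι]
    exact h1.symm

end Groth.Agent.S2595
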