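import Groth.Statements.S2596
import Groth.Agent.Lib.ProperNhd.Main
import Groth.Agent.Lib.DVRVal.Criterion

set_option autoImplicit false
open CategoryTheory AlgebraicGeometry
universe u
open EGA43

namespace Groth.Agent.S2596

section
variable {X Y : Scheme.{u}} (f : X ⟶ Y) (y : Y) {U : Y.Opens} (hU : IsAffineOpen U) (hy : y ∈ U)

theorem lifts_affPart
    (h : ∀ (A : Type u) [CommRing A] [IsDomain A] [IsDiscreteValuationRing A]
      (g : Spec (CommRingCat.of A) ⟶ Y), g.base (IsLocalRing.closedPoint A) = y →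
      ∀ x : Spec (CommRingCat.of (FractionRing A)) ⟶ X,
        x ≫ f = Spec.map (CommRingCat.ofHom (algebraMap A (FractionRing A))) ≫ g →
        ∃ l : Spec (CommRingCat.of A) ⟶ X, l ≫ f = g ∧
          Spec.map (CommRingCat.ofHom (algebraMap A (FractionRing A))) ≫ l = x)
    {K : Type u} [Field K] (σ : Spec (CommRingCat.of K) ⟶ ((f ⁻¹ᵁ U) : Scheme.{u}))
    (W : ValuationSubring K) [IsDiscreteValuationRing W]
    (hmem : ∀ r, Groth.Agent.ProperNhd.rho (Groth.Agent.ProperNhd.affPart f hU) σ r ∈ W)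
    (hcentre : ∀ r, W.valuation (Groth.Agent.ProperNhd.rho (Groth.Agent.ProperNhd.affPart f hU) σ r) < 1 ↔
      r ∈ (hU.primeIdealOf ⟨y, hy⟩).asIdeal) :
    Groth.Agent.ProperNhd.Lifts σ W := by
  let ρ : Γ(Y, U) →+* W :=
    (Groth.Agent.ProperNhd.rho (Groth.Agent.ProperNhd.affPart f hU) σ).codRestrict W.toSubring hmem
  let g : Spec (CommRingCat.of W) ⟶ Y := Spec.map (CommRingCat.ofHom ρ) ≫ hU.fromSpec
  have hgy : g.base (IsLocalRing.closedPoint W) = y := by
    show hU.fromSpec (Spec.map (CommRingCat.ofHom ρ) (IsLocalRing.closedPoint W)) = y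
    have : Spec.map (CommRingCat.ofHom ρ) (IsLocalRing.closedPoint W) = hU.primeIdealOf ⟨y, hy⟩ := by
      apply PrimeSpectrum.ext
      ext r
      show ρ r ∈ IsLocalRing.maximalIdeal W ↔ _
      rw [ValuationSubring.valuation_lt_one_iff]
      exact hcentre r
    rw [this, hU.fromSpec_primeIdealOf]
  have hσf : (σ ≫ (f ⁻¹ᵁ U).ι) ≫ f = Spec.map (CommRingCat.ofHom (algebraMap W K)) ≫ g := by
    rw [Category.assoc, ← Groth.Agent.ProperNhd.affPart_fromSpec f hU]
    simp only [g]
    rw [← Spec.map_comp_assoc,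
      show CommRingCat.ofHom ρ ≫ CommRingCat.ofHom (algebraMap W K) = CommRingCat.ofHom
        (Groth.Agent.ProperNhd.rho (Groth.Agent.ProperNhd.affPart f hU) σ) from rfl,
      Groth.Agent.ProperNhd.map_rho]
    simp only [Groth.Agent.ProperNhd.affPart, Category.assoc]
  obtain ⟨e, he⟩ := Groth.Agent.DVRVal.exists_iff_fractionRing (A := W) K
  obtain ⟨l, hlf, hl'⟩ := h W g hgy (e.inv ≫ σ ≫ (f ⁻¹ᵁ U).ι) (by
    rw [Category.assoc, hσf, ← he]; simp)
  have hl : Spec.map (CommRingCat.ofHom W.subtype) ≫ l = σ ≫ (f ⁻¹ᵁ U).ι := by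
    show Spec.map (CommRingCat.ofHom (algebraMap W K)) ≫ l = _
    rw [← he, Category.assoc, hl', Iso.hom_inv_id_assoc]
  have hr : Set.range l ⊆ Set.range (f ⁻¹ᵁ U).ι := by
    rw [Scheme.Opens.range_ι]
    rintro _ ⟨p, rfl⟩
    show f (l p) ∈ (U : Set Y)
    rw [← Scheme.Hom.comp_apply, hlf, ← hU.range_fromSpec]
    exact ⟨_, rfl⟩
  refine ⟨IsOpenImmersion.lift (f ⁻¹ᵁ U).ι l hr, ?_⟩
  rw [← cancel_mono (f ⁻¹ᵁ U).ι, Category.assoc, IsOpenImmersion.lift_fac]
  exact hl
end

open CategoryTheory.Limits in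
/-- Let Y be locally Noetherian, f : X ⟶ Y separated and of finite type, and y a point of Y. Suppose
that for every discrete valuation ring A with fraction field K and every morphism g : Spec A ⟶ Y
sending the closed point to y, every K-point σ of X ×_Y Spec A lying over the generic point Spec K ⟶
Spec A extends to a section of X ×_Y Spec A ⟶ Spec A. Then f is proper over some open neighbourhood
of y. -/
theorem result {X Y : Scheme.{u}} [IsLocallyNoetherian Y]
    (f : X ⟶ Y) [IsSeparated f] [LocallyOfFiniteType f] [QuasiCompact f] (y : Y)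
    (h : ∀ (A : Type u) [CommRing A] [IsDomain A] [IsDiscreteValuationRing A]
      (g : Spec (CommRingCat.of A) ⟶ Y), g.base (IsLocalRing.closedPoint A) = y →
      ∀ σ : Spec (CommRingCat.of (FractionRing A)) ⟶ pullback f g,
        σ ≫ pullback.snd f g = Spec.map (CommRingCat.ofHom (algebraMap A (FractionRing A))) →
        ∃ s : Spec (CommRingCat.of A) ⟶ pullback f g, s ≫ pullback.snd f g = 𝟙 _ ∧
          Spec.map (CommRingCat.ofHom (algebraMap A (FractionRing A))) ≫ s = σ) :
    ∃ U : Y.Opens, y ∈ U ∧ IsProper (f ∣_ U) := by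
  refine Groth.Agent.ProperNhd.exists_isProper_of_affine f y fun U hU hy => ?_
  haveI : IsNoetherianRing Γ(Y, U) := IsLocallyNoetherian.component_noetherian ⟨U, hU⟩
  obtain ⟨g₀, hg₀, hlifts⟩ := Groth.Agent.ProperNhd.exists_notMem_forall_lifts
    (Groth.Agent.ProperNhd.affPart f hU) (hU.primeIdealOf ⟨y, hy⟩) ∅ (fun L _ σ V _ hρ hc => by
      refine Groth.Agent.ProperNhd.lifts_of_dvr _ _ σ (fun W hW hmem hcentre => ?_) V hρ hc
      haveI := hW
      refine lifts_affPart f y hU hy (fun A _ _ _ g hg x hx => ?_) _ W hmem hcentre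
      obtain ⟨s, hs1, hs2⟩ := h A g hg (CategoryTheory.Limits.pullback.lift x _ hx)
        (CategoryTheory.Limits.pullback.lift_snd _ _ _)
      refine ⟨s ≫ CategoryTheory.Limits.pullback.fst f g, ?_, ?_⟩
      · rw [Category.assoc, CategoryTheory.Limits.pullback.condition, reassoc_of% hs1]
      · rw [reassoc_of% hs2, CategoryTheory.Limits.pullback.lift_fst])
  exact ⟨g₀, hg₀, Groth.Agent.ProperNhd.isProper_of_existence _ _
    (Groth.Agent.ProperNhd.existence_of_lifts _ _ fun L _ σ V h1 h2 => hlifts L σ V (by simp) h1 h2)⟩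

end Groth.Agent.S2596
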