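import Groth.Statements.S9566
import Groth.Agent.Lib.EtaleNhd17.Basic
import Mathlib.AlgebraicGeometry.Noetherian
import Mathlib.AlgebraicGeometry.Morphisms.Etale
import Mathlib.AlgebraicGeometry.Morphisms.Flat

set_option autoImplicit false
universe u
open EtLocal

namespace Groth.Agent.S9566

open AlgebraicGeometry CategoryTheory IsLocalRing in
theorem finite_residueFieldMap {X Y : Scheme.{u}} (f : X ⟶ Y) [LocallyOfFiniteType f] (x : X)
    (hu : (f.stalkMap x).hom.FormallyUnramified) :
    letI := (f.residueFieldMap x).hom.toAlgebra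
    Module.Finite (Y.residueField (f x)) (X.residueField x) := by
  letI := (f.residueFieldMap x).hom.toAlgebra
  letI := (f.stalkMap x).hom.toAlgebra
  haveI : Algebra.FormallyUnramified (Y.presheaf.stalk (f x)) (X.presheaf.stalk x) := hu
  haveI : Algebra.EssFiniteType (Y.presheaf.stalk (f x)) (X.presheaf.stalk x) :=
    LocallyOfFiniteType.stalkMap f x
  haveI : IsLocalHom (algebraMap (Y.presheaf.stalk (f x)) (X.presheaf.stalk x)) :=
    inferInstanceAs <| IsLocalHom (f.stalkMap x).hom
  have : (ResidueField.instAlgebra :
      Algebra (ResidueField (Y.presheaf.stalk (f x))) (ResidueField (X.presheaf.stalk x))) =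
      (f.residueFieldMap x).hom.toAlgebra := by
    refine Algebra.algebra_ext _ _ fun a => ?_
    obtain ⟨a, rfl⟩ := IsLocalRing.residue_surjective a
    rfl
  have h : ∀ a : Algebra (ResidueField (Y.presheaf.stalk (f x))) (ResidueField (X.presheaf.stalk x)),
      a = ResidueField.instAlgebra → @Module.Finite _ _ _ _ a.toModule := fun a ha => by subst ha; infer_instance
  exact h _ this.symm

open AlgebraicGeometry CategoryTheory in
/-- Let Y be a locally Noetherian scheme, f : X ⟶ Y locally of finite type and x a point of X with image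
y. Then f is étale on some open neighbourhood of x if and only if the map of local rings O_{Y,y} →
O_{X,x} is an étale homomorphism of local rings: it is flat, the maximal ideal of O_{Y,y} generates
that of O_{X,x}, and the residue field of x is a finite separable extension of that of y (O_{X,x} is
automatically essentially of finite type over O_{Y,y}). -/
theorem result {X Y : Scheme.{u}} (f : X ⟶ Y)
    [LocallyOfFiniteType f] [IsLocallyNoetherian Y] (x : X) :
    (∃ U : X.Opens, x ∈ U ∧ Etale (U.ι ≫ f)) ↔
      ((f.stalkMap x).hom.Flat ∧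
        (IsLocalRing.maximalIdeal (Y.presheaf.stalk (f.base x))).map (f.stalkMap x).hom =
          IsLocalRing.maximalIdeal (X.presheaf.stalk x) ∧
        letI := (f.residueFieldMap x).hom.toAlgebra
        Module.Finite (Y.residueField (f.base x)) (X.residueField x) ∧
          Algebra.IsSeparable (Y.residueField (f.base x)) (X.residueField x)) := by
  haveI : LocallyOfFinitePresentation f := LocallyOfFinitePresentation.iff_locallyOfFiniteType.2 inferInstance
  constructor
  · rintro ⟨U, hxU, hU⟩
    haveI := hU
    have hu := Groth.Agent.EtaleNhd17.formallyUnramified_stalkMap_of_nhd f x hxU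
    have hfl : (f.stalkMap x).hom.Flat := by
      have h := Flat.stalkMap (U.ι ≫ f) ⟨x, hxU⟩
      rw [Scheme.Hom.stalkMap_comp U.ι f ⟨x, hxU⟩] at h
      haveI : IsIso (U.ι.stalkMap ⟨x, hxU⟩) := (IsOpenImmersion.iff_isIso_stalkMap.1 inferInstance).2 _
      exact (RingHom.Flat.respectsIso.cancel_right_isIso (f.stalkMap (U.ι ⟨x, hxU⟩)) (U.ι.stalkMap ⟨x, hxU⟩)).1 h
    refine ⟨hfl, ((Groth.Agent.EtaleNhd17.formallyUnramified_stalkMap_iff_map_eq f x).1 hu).2, ?_,
      ((Groth.Agent.EtaleNhd17.formallyUnramified_stalkMap_iff_map_eq f x).1 hu).1⟩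
    exact Groth.Agent.S9566.finite_residueFieldMap f x hu
  · rintro ⟨hfl, hmap, -, hsep⟩
    exact Groth.Agent.EtaleNhd17.exists_etale_of_stalk f x hfl
      ((Groth.Agent.EtaleNhd17.formallyUnramified_stalkMap_iff_map_eq f x).2 ⟨hsep, hmap⟩)

end Groth.Agent.S9566
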