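import Groth.Statements.S9436
import Mathlib
import Groth.Agent.Lib.Hens.EtaleLift

set_option autoImplicit false
universe u
open CAlg

namespace Groth.Agent.S9436
open TensorProduct Polynomial

open TensorProduct in
/-- Étale algebras lift along surjections: for an ideal I of R and an étale (R/I)-algebra S̄ there is an
étale R-algebra S with (R/I) ⊗_R S ≅ S̄ over R/I. -/
theorem result (R : Type u) [CommRing R] (I : Ideal R) (Sb : Type u)
    [CommRing Sb] [Algebra (R ⧸ I) Sb] [Algebra.Etale (R ⧸ I) Sb] :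
    ∃ (S : Type u) (_ : CommRing S) (_ : Algebra R S), Algebra.Etale R S ∧
      Nonempty (((R ⧸ I) ⊗[R] S) ≃ₐ[R ⧸ I] Sb) := by
  letI : Algebra R Sb := ((algebraMap (R ⧸ I) Sb).comp (Ideal.Quotient.mk I)).toAlgebra
  haveI : IsScalarTower R (R ⧸ I) Sb := IsScalarTower.of_algebraMap_eq' rfl
  obtain ⟨E, _, _, hE, φ, hφ, hker⟩ := Groth.Agent.Hens.exists_etale_lift R I Sb
  refine ⟨E, inferInstance, inferInstance, hE, ⟨?_⟩⟩
  let ψ : (R ⧸ I) ⊗[R] E →ₐ[R ⧸ I] Sb :=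
    Algebra.TensorProduct.lift (Algebra.ofId (R ⧸ I) Sb) φ (fun _ _ => Commute.all _ _)
  have hψ : ∀ e : E, ψ (1 ⊗ₜ e) = φ e := fun e => by simp [ψ]
  have hsurj : ∀ z : (R ⧸ I) ⊗[R] E, ∃ e : E, z = 1 ⊗ₜ e := by
    intro z
    induction z using TensorProduct.induction_on with
    | zero => exact ⟨0, (tmul_zero _ _).symm⟩
    | tmul c e =>
      obtain ⟨r, rfl⟩ := Ideal.Quotient.mk_surjective c
      refine ⟨r • e, ?_⟩
      rw [tmul_smul, smul_tmul', Algebra.smul_def, mul_one, Ideal.Quotient.algebraMap_eq]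
    | add a b ha hb =>
      obtain ⟨a, rfl⟩ := ha
      obtain ⟨b, rfl⟩ := hb
      exact ⟨a + b, (tmul_add _ _ _).symm⟩
  refine AlgEquiv.ofBijective ψ ⟨(injective_iff_map_eq_zero ψ).2 fun z hz => ?_, fun c => ?_⟩
  · obtain ⟨e, rfl⟩ := hsurj z
    have he : e ∈ I.map (algebraMap R E) := by rw [← hker, RingHom.mem_ker, ← hψ, hz]
    have h1 : (Algebra.TensorProduct.includeRight : E →ₐ[R] (R ⧸ I) ⊗[R] E).toRingHom e ∈
        (I.map (algebraMap R E)).map (Algebra.TensorProduct.includeRight : E →ₐ[R] (R ⧸ I) ⊗[R] E).toRingHom :=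
      Ideal.mem_map_of_mem _ he
    rw [Ideal.map_map, AlgHom.toRingHom_eq_coe, AlgHom.comp_algebraMap] at h1
    have h2 : I.map (algebraMap R ((R ⧸ I) ⊗[R] E)) = ⊥ := by
      rw [IsScalarTower.algebraMap_eq R (R ⧸ I) ((R ⧸ I) ⊗[R] E), ← Ideal.map_map,
        Ideal.Quotient.algebraMap_eq, Ideal.map_quotient_self, Ideal.map_bot]
    rw [h2] at h1
    exact h1
  · obtain ⟨e, he⟩ := hφ c
    exact ⟨1 ⊗ₜ e, (hψ e).trans he⟩

end Groth.Agent.S9436
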