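import Groth.Statements.S5017
import Groth.Agent.Lib.EtaleNhd17.Basic
import Groth.Agent.Lib.FibreLocus.Fibre
-- import your own Groth.Agent.* helpers here

set_option autoImplicit false
set_option backward.isDefEq.respectTransparency false
universe u
open CategoryTheory CategoryTheory.Limits AlgebraicGeometry TopologicalSpace
open Unram17

namespace Groth.Agent.S5017

open IsLocalRing

theorem bijective_quotientMap_iff {R S : Type u} [CommRing R] [CommRing S] [IsLocalRing R] [IsLocalRing S]
    (φ : R →+* S) [IsLocalHom φ] :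
    Function.Bijective (Ideal.quotientMap ((maximalIdeal R).map φ) φ Ideal.le_comap_map) ↔
      (maximalIdeal R).map φ = maximalIdeal S ∧ ∀ b : S, ∃ a : R, φ a - b ∈ maximalIdeal S := by
  have hle : (maximalIdeal R).map φ ≤ maximalIdeal S := ((local_hom_TFAE φ).out 0 2 rfl rfl).mp ‹_›
  have hc : ((maximalIdeal R).map φ).comap φ = maximalIdeal R :=
    ((maximalIdeal.isMaximal R).eq_of_le (Ideal.comap_ne_top φ fun h => (maximalIdeal.isMaximal S).ne_top
      (top_le_iff.1 (h.ge.trans hle))) Ideal.le_comap_map).symm
  have hinj : Function.Injective (Ideal.quotientMap ((maximalIdeal R).map φ) φ Ideal.le_comap_map) :=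
    Ideal.quotientMap_injective' hc.le
  constructor
  · intro h
    have hs : ∀ b : S, ∃ a : R, φ a - b ∈ (maximalIdeal R).map φ := fun b => by
      obtain ⟨a, ha⟩ := h.2 (Ideal.Quotient.mk _ b)
      obtain ⟨a, rfl⟩ := Ideal.Quotient.mk_surjective a
      exact ⟨a, Ideal.Quotient.eq.1 ha⟩
    refine ⟨eq_maximalIdeal ?_, fun b => (hs b).imp fun a ha => hle ha⟩
    refine Ideal.Quotient.maximal_of_isField _ (MulEquiv.isField ?_
      (RingEquiv.ofBijective _ h).symm.toMulEquiv)
    exact (Ideal.Quotient.maximal_ideal_iff_isField_quotient _).1 (maximalIdeal.isMaximal R)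
  · rintro ⟨hm, hs⟩
    refine ⟨hinj, fun z => ?_⟩
    obtain ⟨b, rfl⟩ := Ideal.Quotient.mk_surjective z
    obtain ⟨a, ha⟩ := hs b
    exact ⟨Ideal.Quotient.mk _ a, Ideal.Quotient.eq.2 (hm.ge ha)⟩

theorem residue_surjective_iff {X Y : Scheme.{u}} (f : X ⟶ Y) (x : X) :
    Function.Surjective (f.residueFieldMap x) ↔
      ∀ b : X.presheaf.stalk x, ∃ a : Y.presheaf.stalk (f x), (f.stalkMap x).hom a - b ∈ maximalIdeal _ := by
  constructor
  · intro h b
    obtain ⟨c, hc⟩ := h (residue _ b)
    obtain ⟨a, rfl⟩ := residue_surjective c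
    refine ⟨a, Ideal.Quotient.eq.1 ?_⟩
    exact hc
  · intro h c
    obtain ⟨b, rfl⟩ := residue_surjective c
    obtain ⟨a, ha⟩ := h b
    exact ⟨residue _ a, (Ideal.Quotient.eq.2 ha :)⟩


/-- Let f : X ⟶ Y be locally of finite type. Then f is a monomorphism if and only if, for every point x
of X with image y, x is the only point of its fibre and the canonical map from the residue field
κ(y) to the quotient of the local ring of X at x by the extension of the maximal ideal at y is
bijective (each nonempty fibre is Spec κ(y)). -/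
theorem result {X Y : Scheme.{u}} (f : X ⟶ Y) [LocallyOfFiniteType f] :
    Mono f ↔ ∀ x : ↥X,
      (∀ x' : ↥X, f.base x' = f.base x → x' = x) ∧
        Function.Bijective
          (Ideal.quotientMap
            ((IsLocalRing.maximalIdeal ↑(Y.presheaf.stalk (f.base x))).map (f.stalkMap x).hom)
            (f.stalkMap x).hom Ideal.le_comap_map) := by
  rw [FibreLocus.mono_iff_unramified_and_universallyInjective]
  constructor
  · rintro ⟨hu, hi⟩ x
    obtain ⟨hinj, hins⟩ := (tfae_universallyInjective f).out 0 2 |>.1 hi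
    refine ⟨fun x' h => hinj h, (bijective_quotientMap_iff (f.stalkMap x).hom).2 ?_⟩
    obtain ⟨hsep, hm⟩ := (EtaleNhd17.formallyUnramified_stalkMap_iff_map_eq f x).1 (FormallyUnramified.stalkMap f x)
    refine ⟨hm, (residue_surjective_iff f x).1 ?_⟩
    algebraize [(f.residueFieldMap x).hom]
    haveI : IsPurelyInseparable (Y.residueField (f x)) (X.residueField x) := hins x
    haveI := hsep
    exact IsPurelyInseparable.surjective_algebraMap_of_isSeparable (Y.residueField (f x)) (X.residueField x)
  · intro h
    have hx := fun x => (bijective_quotientMap_iff (f.stalkMap x).hom).1 (h x).2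
    have hs : ∀ x, Function.Surjective (f.residueFieldMap x) := fun x => (residue_surjective_iff f x).2 (hx x).2
    refine ⟨?_, ((tfae_universallyInjective f).out 0 2).2
      (show Function.Injective f ∧ ∀ x, (f.residueFieldMap x).hom.IsPurelyInseparable from
        ⟨fun a b hab => (h b).1 a hab, fun x => ?_⟩)⟩
    · have hloc : ∀ x, (f.stalkMap x).hom.FormallyUnramified := fun x => by
        refine (EtaleNhd17.formallyUnramified_stalkMap_iff_map_eq f x).2 ⟨?_, (hx x).1⟩
        algebraize [(f.residueFieldMap x).hom]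
        exact ⟨fun b => by obtain ⟨a, rfl⟩ := hs x b; exact isSeparable_algebraMap a⟩
      choose V hxV hV using fun x => EtaleNhd17.exists_formallyUnramified_of_stalk f x (hloc x)
      exact IsZariskiLocalAtSource.of_iSup_eq_top V (eq_top_iff.2 fun x _ => TopologicalSpace.Opens.mem_iSup.2 ⟨x, hxV x⟩) hV
    · algebraize [(f.residueFieldMap x).hom]
      exact (isPurelyInseparable_iff_pow_mem _ (ringExpChar (Y.residueField (f x)))).2 fun b =>
        ⟨0, by obtain ⟨a, rfl⟩ := hs x b; exact ⟨a, by rw [pow_zero, pow_one]; rfl⟩⟩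

end Groth.Agent.S5017
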