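import Groth.Statements.S2906
import Groth.Agent.Lib.SchDesc12.LQF
import Groth.Agent.Lib.FpqcDesc.Basic


set_option autoImplicit false
open CategoryTheory CategoryTheory.Limits AlgebraicGeometry Opposite
universe u
open SGA1

namespace Groth.Agent.S2906

/-- Let g : S' ⟶ S be flat, surjective and quasi-compact. Then every descent datum relative to g whose
underlying scheme is etale, separated and quasi-compact over S' is isomorphic to the canonical
descent datum of a scheme etale, separated and quasi-compact over S. (Descent data relative to g are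
taken in functor-of-points form.) -/
theorem result {S' S : Scheme.{u}} (g : S' ⟶ S) [Flat g] [Surjective g] [QuasiCompact g]
    (D : Desc.SchDD g) [QuasiCompact D.obj.hom] [IsSeparated D.obj.hom] [Etale D.obj.hom] :
    ∃ U : Over S, QuasiCompact U.hom ∧ IsSeparated U.hom ∧ Etale U.hom ∧ Nonempty ((Desc.toDD g).obj U ≅ D) := by
  have := SchDesc12.locallyQuasiFinite_of_etale D.obj.hom
  obtain ⟨U, ⟨e⟩⟩ := SchDesc12.exists_iso_of_isEffective D
    (SchDesc12.isEffective_of_isQuasiAffine (SchDesc12.single_mem_fpqc g)
      fun _ => SchDesc12.mor2_isQuasiAffine_of_lqf D.obj.hom)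
  have hQ : (@Surjective ⊓ @Flat ⊓ @QuasiCompact : MorphismProperty Scheme.{u}) g :=
    ⟨⟨inferInstance, inferInstance⟩, inferInstance⟩
  let i : D.obj ≅ Over.mk (pullback.fst g U.hom) :=
    { hom := e.inv.hom
      inv := e.hom.hom
      hom_inv_id := congrArg (fun b : D ⟶ D => b.hom) e.inv_hom_id
      inv_hom_id := congrArg
        (fun b : (Desc.toDD g).obj U ⟶ (Desc.toDD g).obj U => b.hom) e.hom_inv_id }
  have hh : pullback.fst g U.hom = i.inv.left ≫ D.obj.hom := (Over.w i.inv).symm
  have : IsIso i.inv.left := inferInstanceAs (IsIso ((Over.forget _).mapIso i).inv)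
  have h : ∀ P : MorphismProperty Scheme.{u}, P.RespectsIso → P D.obj.hom →
      P (pullback.fst g U.hom) := fun P _ hP => by
    rw [hh]
    exact (P.cancel_left_of_respectsIso _ _).2 hP
  have := FpqcDesc.descendsAlong_quasiCompact.{u}
  have := FpqcDesc.descendsAlong_isSeparated.{u}
  exact ⟨U, MorphismProperty.of_pullback_fst_of_descendsAlong (P := @QuasiCompact) hQ
      (h _ (MorphismProperty.IsStableUnderBaseChange.respectsIso) inferInstance),
    MorphismProperty.of_pullback_fst_of_descendsAlong (P := @IsSeparated) hQ
      (h _ (MorphismProperty.IsStableUnderBaseChange.respectsIso) inferInstance),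
    MorphismProperty.of_pullback_fst_of_descendsAlong (P := @Etale) hQ
      (h _ (MorphismProperty.IsStableUnderBaseChange.respectsIso) inferInstance), ⟨e⟩⟩

end Groth.Agent.S2906
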