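import Groth.Statements.S2909
import Groth.Agent.Lib.IsQuot25.Props

set_option autoImplicit false
open CategoryTheory CategoryTheory.Limits AlgebraicGeometry
universe u
open SGA1

namespace Groth.Agent.S2909

/-- Let a finite group G act on a scheme X by automorphisms over a scheme Z (structure morphism f), and
let p : X ⟶ Y be a quotient of X by G with Y ⟶ Z the induced morphism q (so p ≫ q = f). Then X is
affine over Z iff Y is, X is separated over Z iff Y is; if f is locally of finite type then p is
finite; and if moreover Z is locally Noetherian and f quasi-compact then q is of finite type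
(locally of finite type and quasi-compact). -/
theorem result {X Y Z : Scheme.{u}} {G : Type u} [Group G] [Finite G] (ρ : G →* Aut X)
    (p : X ⟶ Y) (hp : SGA1.IsQuot ρ p) (f : X ⟶ Z) (q : Y ⟶ Z) (hq : p ≫ q = f) (hρ : ∀ g : G, (ρ g).hom ≫ f = f) :
    (IsAffineHom f ↔ IsAffineHom q) ∧ (IsSeparated f ↔ IsSeparated q) ∧
    (LocallyOfFiniteType f → IsFinite p) ∧
    (IsLocallyNoetherian Z → LocallyOfFiniteType f → QuasiCompact f → LocallyOfFiniteType q ∧ QuasiCompact q) := by
  subst hq
  exact ⟨IsQuot25.isAffineHom_iff hp q, IsQuot25.isSeparated_iff hp q,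
    fun h => IsQuot25.isFinite_of_comp hp q,
    fun _ h h' => ⟨IsQuot25.locallyOfFiniteType hp q, IsQuot25.quasiCompact hp q⟩⟩
end Groth.Agent.S2909
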