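import Groth.Statements.S2910
import Groth.Agent.Lib.IsQuot25.Torsor

set_option autoImplicit false
open CategoryTheory CategoryTheory.Limits AlgebraicGeometry
universe u
open SGA1

namespace Groth.Agent.S2910

/-- Let a finite group G act faithfully on a connected scheme X, let p : X ⟶ Y be a quotient of X by G
with Y locally Noetherian and p finite, and suppose p is etale. Then G acts freely on the geometric
points of X (all inertia groups are trivial), and every automorphism of X over Y is the action of
exactly one element of G. -/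
theorem result {X Y : Scheme.{u}} {G : Type u} [Group G] [Finite G] (ρ : G →* Aut X)
    (p : X ⟶ Y) (hp : SGA1.IsQuot ρ p) [IsLocallyNoetherian Y] [IsFinite p] [ConnectedSpace X]
    (hfaith : Function.Injective ρ) [Etale p] :
    (∀ (K : Type u) [Field K] [IsAlgClosed K] (ξ : Spec (CommRingCat.of K) ⟶ X) (g : G), ξ ≫ (ρ g).hom = ξ → g = 1) ∧
    ∀ u : Aut X, u.hom ≫ p = p → ∃! g : G, ρ g = u := by
  haveI := hp.affine
  refine ⟨fun K _ _ ξ g hg => ?_, fun u hu => ?_⟩
  · refine hfaith ?_
    rw [map_one]
    ext1
    exact IsQuot25.eq_of_eq_at_point p (ρ g).hom (𝟙 X) (by rw [hp.inv, Category.id_comp]) ξ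
      (by rw [hg, Category.comp_id])
  · obtain ⟨x⟩ := (inferInstance : Nonempty X)
    let ξ := X.fromSpecResidueField x
    obtain ⟨g, hg⟩ := IsQuot25.exists_act_of_comp_eq hp (K := X.residueField x) ξ (ξ ≫ u.hom)
      (by rw [Category.assoc, hu])
    have e : (ρ g).hom = u.hom :=
      IsQuot25.eq_of_eq_at_point p (ρ g).hom u.hom (by rw [hp.inv, hu]) (K := X.residueField x) ξ hg
    exact ⟨g, Iso.ext e, fun g' hg' => hfaith (hg'.trans (Iso.ext e).symm)⟩
end Groth.Agent.S2910
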