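import Groth.Statements.S2913
-- import your own Groth.Agent.* helpers here

set_option autoImplicit false
open CategoryTheory CategoryTheory.Limits AlgebraicGeometry Opposite
universe u
open SGA1

namespace Groth.Agent.S2913

/-- Let g : S' ⟶ S be a surjective morphism of schemes such that for every open U of S the map O_S(U) →
O_{S'}(g⁻¹U) is injective. Then g is an epimorphism in the category of schemes. -/
theorem result {S' S : Scheme.{u}} (g : S' ⟶ S) [Surjective g]
    (hinj : ∀ U : S.Opens, Function.Injective (g.app U).hom) : Epi g := by
  refine ⟨fun {T} u v huv => ?_⟩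
  have hbase : u.base = v.base := by
    ext x
    obtain ⟨y, rfl⟩ := g.surjective x
    simpa using congr($(huv).base y)
  refine Scheme.Hom.ext hbase fun U => ?_
  haveI : Mono (g.app ((TopologicalSpace.Opens.map v.base).obj U)) :=
    ConcreteCategory.mono_of_injective _ (hinj _)
  rw [← cancel_mono (g.app ((TopologicalSpace.Opens.map v.base).obj U)), Category.assoc, Scheme.Hom.naturality, ← Category.assoc]
  have := Scheme.Hom.congr_app huv U
  rw [Scheme.Hom.comp_app, Scheme.Hom.comp_app] at this
  rw [this]
  erw [Category.assoc, ← Functor.map_comp]
  refine Eq.trans ?_ (Category.comp_id _)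
  congr 1
  exact (congrArg _ (Subsingleton.elim _ (𝟙 _))).trans (S'.presheaf.map_id _)

end Groth.Agent.S2913
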