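import Groth.Statements.S2914
import Groth.Agent.Lib.IsQuot25.Desc

set_option autoImplicit false
open CategoryTheory CategoryTheory.Limits AlgebraicGeometry Opposite
universe u
open SGA1

namespace Groth.Agent.S2914

/-- Let g : S' ⟶ S be a morphism of schemes whose underlying map is a quotient map, and such that for
every open U of S the sequence O_S(U) → O_{S'}(g⁻¹U) ⇉ O_{S''}(h⁻¹U) is an equalizer, where S'' = S'
×_S S' with structure map h and the two arrows are restriction along the projections. Then g is an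
effective epimorphism in the category of schemes. -/
theorem result {S' S : Scheme.{u}} (g : S' ⟶ S) (hq : Topology.IsQuotientMap g.base)
    (hinj : ∀ U : S.Opens, Function.Injective (g.app U).hom)
    (heq : ∀ (U : S.Opens) (s' : Γ(S', g ⁻¹ᵁ U)), (SGA1.overlapFstApp g U).hom s' = (SGA1.overlapSndApp g U).hom s' →
      s' ∈ Set.range (g.app U).hom) :
    EffectiveEpi g := by
  have key : ∀ {Z : Scheme.{u}} (e : S' ⟶ Z),
      (∀ {T : Scheme.{u}} (g₁ g₂ : T ⟶ S'), g₁ ≫ g = g₂ ≫ g → g₁ ≫ e = g₂ ≫ e) → ∃! d : S ⟶ Z, g ≫ d = e := by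
    intro Z e he
    refine IsQuot25.exists_desc g ⟨hq.surjective, hinj⟩ hq e (fun x x' hx => ?_)
      (fun U V _ hle s => heq U _ ?_)
    · obtain ⟨z, h1, h2⟩ := Scheme.Pullback.exists_preimage_pullback x x' hx
      rw [← h1, ← h2, ← Scheme.Hom.comp_apply, ← Scheme.Hom.comp_apply,
        he _ _ pullback.condition]
    · show ((e.appLE V (g ⁻¹ᵁ U) hle ≫ SGA1.overlapFstApp g U) : _ ⟶ _) s =
        (e.appLE V (g ⁻¹ᵁ U) hle ≫ SGA1.overlapSndApp g U) s
      congr 2
      rw [SGA1.overlapFstApp, SGA1.overlapSndApp, Scheme.Hom.app_eq_appLE, Scheme.Hom.appLE_comp_appLE,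
        Scheme.Hom.appLE_comp_appLE]
      exact IsQuot25.appLE_eq (he _ _ pullback.condition) _ _ _
  exact ⟨⟨{
    desc := fun e he => (key e he).choose
    fac := fun e he => (key e he).choose_spec.1
    uniq := fun e he m hm => (key e he).choose_spec.2 m hm }⟩⟩
end Groth.Agent.S2914
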