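import Groth.Statements.S2916
import Groth.Agent.Lib.UnivSubm25.GeomConn

set_option autoImplicit false
open CategoryTheory CategoryTheory.Limits AlgebraicGeometry Opposite
universe u
open SGA1

namespace Groth.Agent.S2916

/-- Let g : S' ⟶ S be universally submersive with geometrically connected fibres (the base change of S'
to any algebraically closed field valued point of S is connected). Then S' is connected whenever S
is, and for schemes X, Y etale over S every S'-morphism between their base changes comes from
exactly one S-morphism X ⟶ Y. -/
theorem result {S' S : Scheme.{u}} (g : S' ⟶ S)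
    (hg : SGA1.UnivSubmersive g)
    (hconn : ∀ (K : Type u) [Field K] [IsAlgClosed K] (ξ : Spec (CommRingCat.of K) ⟶ S), ConnectedSpace ↑(pullback g ξ)) :
    (ConnectedSpace S → ConnectedSpace S') ∧
    ∀ (X Y : Over S) [Etale X.hom] [Etale Y.hom], Function.Bijective ((Over.pullback g).map : (X ⟶ Y) → _) := by
  exact ⟨fun _ => UnivSubm25.connectedSpace g hg hconn,
    fun X Y _ _ => UnivSubm25.bijective_pullback_map g hg hconn X Y⟩
end Groth.Agent.S2916
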