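import Groth.Statements.S2917
import Groth.Agent.Lib.UnivSubm25.Basic
import Mathlib.AlgebraicGeometry.Morphisms.Proper

set_option autoImplicit false
open CategoryTheory CategoryTheory.Limits AlgebraicGeometry Opposite
universe u
open SGA1

namespace Groth.Agent.S2917

/-- Let g : S' ⟶ S be universally submersive, f : X ⟶ Y a morphism of S-schemes (Y ⟶ S the structure
map) and f' its base change along S' ⟶ S, realised as X ×_S S' ⟶ Y ×_S S'. If f' is open (resp.
closed) then so is f; if f' is universally open (resp. universally closed, resp. separated) then so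
is f; and if moreover g is quasi-compact and f locally of finite type, then f is proper as soon as
f' is. -/
theorem result {S' S X Y : Scheme.{u}} (g : S' ⟶ S) (hg : SGA1.UnivSubmersive g)
    (f : X ⟶ Y) (q : Y ⟶ S) :
    (IsOpenMap (pullback.map (f ≫ q) g q g f (𝟙 S') (𝟙 S) (Category.comp_id _) ((Category.comp_id _).trans (Category.id_comp _).symm)).base → IsOpenMap f.base) ∧
    (IsClosedMap (pullback.map (f ≫ q) g q g f (𝟙 S') (𝟙 S) (Category.comp_id _) ((Category.comp_id _).trans (Category.id_comp _).symm)).base → IsClosedMap f.base) ∧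
    (UniversallyOpen (pullback.map (f ≫ q) g q g f (𝟙 S') (𝟙 S) (Category.comp_id _) ((Category.comp_id _).trans (Category.id_comp _).symm)) → UniversallyOpen f) ∧
    (UniversallyClosed (pullback.map (f ≫ q) g q g f (𝟙 S') (𝟙 S) (Category.comp_id _) ((Category.comp_id _).trans (Category.id_comp _).symm)) → UniversallyClosed f) ∧
    (IsSeparated (pullback.map (f ≫ q) g q g f (𝟙 S') (𝟙 S) (Category.comp_id _) ((Category.comp_id _).trans (Category.id_comp _).symm)) → IsSeparated f) ∧
    (QuasiCompact g → LocallyOfFiniteType f →
      IsProper (pullback.map (f ≫ q) g q g f (𝟙 S') (𝟙 S) (Category.comp_id _) ((Category.comp_id _).trans (Category.id_comp _).symm)) → IsProper f) := by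
  set m := pullback.map (f ≫ q) g q g f (𝟙 S') (𝟙 S) (Category.comp_id _)
    ((Category.comp_id _).trans (Category.id_comp _).symm) with hm
  have h1 : m ≫ pullback.snd q g = pullback.snd (f ≫ q) g := by
    simp [hm, pullback.map, pullback.lift_snd]
  have sq : IsPullback m (pullback.fst (f ≫ q) g) (pullback.fst q g) f :=
    IsPullback.of_right (h₁₂ := pullback.snd q g) (v₁₃ := g) (h₂₂ := q)
      (by rw [h1]; exact (IsPullback.of_hasPullback (f ≫ q) g).flip)
      (pullback.lift_fst _ _ _) (IsPullback.of_hasPullback q g).flip
  have hb : SGA1.UnivSubmersive (pullback.fst q g) := MorphismProperty.pullback_fst _ _ hg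
  have hq := UnivSubm25.isQuotientMap_of_univSubmersive hb
  refine ⟨UnivSubm25.isOpenMap_of_isPullback sq hq, UnivSubm25.isClosedMap_of_isPullback sq hq,
    fun h => MorphismProperty.of_isPullback_of_descendsAlong sq hb h,
    fun h => MorphismProperty.of_isPullback_of_descendsAlong sq hb h,
    fun h => MorphismProperty.of_isPullback_of_descendsAlong sq hb h, fun _ hft h => ?_⟩
  haveI : IsSeparated f := MorphismProperty.of_isPullback_of_descendsAlong sq hb h.toIsSeparated
  haveI : UniversallyClosed f :=
    MorphismProperty.of_isPullback_of_descendsAlong sq hb h.toUniversallyClosed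
  constructor
end Groth.Agent.S2917
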