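import Groth.Statements.S2918
import Groth.Agent.Lib.PurityExt25.Birational
import Groth.Agent.S0238
-- import your own Groth.Agent.* helpers here

set_option autoImplicit false
universe u
open SGA1

namespace Groth.Agent.S2918

open AlgebraicGeometry CategoryTheory CategoryTheory.Limits in
/-- Birational invariance of the fundamental group, in terms of finite etale covers: Let X and Y be
proper over a field k, locally Noetherian with all local rings regular, and birational over k: some
dense open of X is k-isomorphic to some dense open of Y. Then the categories of finite etale covers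
of X and of Y are equivalent compatibly with restriction to the common dense open. -/
theorem result (k : Type u) [Field k] {X Y : Scheme.{u}}
    (f : X ⟶ Spec (CommRingCat.of k)) (g : Y ⟶ Spec (CommRingCat.of k)) [IsProper f] [IsProper g]
    [IsLocallyNoetherian X] [IsLocallyNoetherian Y]
    (hX : ∀ x : X, IsRegularLocalRing (X.presheaf.stalk x)) (hY : ∀ y : Y, IsRegularLocalRing (Y.presheaf.stalk y))
    (U : X.Opens) (V : Y.Opens) (hU : Dense (U : Set X)) (hV : Dense (V : Set Y))
    (e : (U : Scheme.{u}) ≅ (V : Scheme.{u})) (he : e.hom ≫ V.ι ≫ g = U.ι ≫ f) :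
    ∃ Φ : FEt.Cat X ≌ FEt.Cat Y, Nonempty (FEt.restrict U.ι ≅ Φ.functor ⋙ FEt.restrict V.ι ⋙ FEt.restrict e.hom) := by
  haveI : (FEt.restrict e.hom).IsEquivalence := Groth.Agent.S0238.result e.hom
  haveI : (FEt.restrict e.inv).IsEquivalence := Groth.Agent.S0238.result e.inv
  obtain ⟨hAf, hAa⟩ := Groth.Agent.PurityExt25.fullFaithful_of_regularScheme hX U hU
  obtain ⟨hBf, hBa⟩ := Groth.Agent.PurityExt25.fullFaithful_of_regularScheme hY V hV
  haveI := hAf; haveI := hAa; haveI := hBf; haveI := hBa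
  let A := FEt.restrict U.ι
  let B := FEt.restrict V.ι ⋙ FEt.restrict e.hom
  have hAB : ∀ W, ∃ W', Nonempty (B.obj W' ≅ A.obj W) := by
    intro W
    have hw : (e.inv ≫ U.ι) ≫ f = V.ι ≫ g := by
      rw [Category.assoc, ← he, Iso.inv_hom_id_assoc]
    obtain ⟨W', ⟨a⟩⟩ := Groth.Agent.PurityExt25.exists_extension_along_rational_map f g hY V hV _ hw W
    exact ⟨W', ⟨(FEt.restrict e.hom).mapIso a ≪≫ (Groth.Agent.Pur25.restrictComp e.hom _).symm.app W ≪≫
      (MorphismProperty.Over.pullbackCongr (Iso.hom_inv_id_assoc e U.ι)).app W⟩⟩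
  have hBA : ∀ W', ∃ W, Nonempty (A.obj W ≅ B.obj W') := by
    intro W'
    have hw : (e.hom ≫ V.ι) ≫ g = U.ι ≫ f := by rw [Category.assoc, he]
    obtain ⟨W, ⟨a⟩⟩ := Groth.Agent.PurityExt25.exists_extension_along_rational_map g f hX U hU _ hw W'
    exact ⟨W, ⟨a ≪≫ (Groth.Agent.Pur25.restrictComp e.hom V.ι).app W'⟩⟩
  choose o ho using hAB
  let i (W) : B.obj (o W) ≅ A.obj W := (ho W).some
  have hBF : B.FullyFaithful :=
    (Functor.FullyFaithful.ofFullyFaithful (FEt.restrict V.ι)).comp
      (Functor.FullyFaithful.ofFullyFaithful (FEt.restrict e.hom))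
  let Φ : FEt.Cat X ⥤ FEt.Cat Y :=
    { obj := o
      map := fun {W W'} φ => hBF.preimage ((i W).hom ≫ A.map φ ≫ (i W').inv)
      map_id := fun W => hBF.map_injective (by simp)
      map_comp := fun φ ψ => hBF.map_injective (by simp) }
  let η : A ≅ Φ ⋙ B := NatIso.ofComponents (fun W => (i W).symm) (fun {W W'} φ => by
    simp [Φ])
  haveI : B.Full := hBF.full
  haveI : B.Faithful := hBF.faithful
  have hPA : (Φ ⋙ B).FullyFaithful := (Functor.FullyFaithful.ofFullyFaithful A).ofIso η
  haveI : (Φ ⋙ B).Full := hPA.full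
  haveI : (Φ ⋙ B).Faithful := hPA.faithful
  haveI : Φ.Faithful := Functor.Faithful.of_comp Φ B
  haveI : Φ.Full := Functor.Full.of_comp_faithful Φ B
  haveI : Φ.EssSurj := ⟨fun W' => by
    obtain ⟨W, ⟨a⟩⟩ := hBA W'
    exact ⟨W, ⟨hBF.preimageIso (η.symm.app W ≪≫ a)⟩⟩⟩
  haveI : Φ.IsEquivalence := { }
  exact ⟨Φ.asEquivalence, ⟨η⟩⟩

end Groth.Agent.S2918
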