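import Groth.Statements.S2921
import Groth.Agent.Lib.RegLoc.Basic
import Groth.Agent.Lib.VarDim.Alg
import Mathlib.RingTheory.Etale.Basic
import Mathlib.FieldTheory.IsAlgClosed.AlgebraicClosure
import Mathlib.RingTheory.Nakayama

set_option autoImplicit false
universe u
open IsLocalRing
open SGA1

namespace Groth.Agent.S2921

/-- The cotangent space has a basis extending an independent family. -/
theorem exists_param_extend (A : Type u) [CommRing A] [IsRegularLocalRing A] (r : ℕ) (f : Fin r → A)
    (hm : ∀ i, f i ∈ maximalIdeal A)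
    (hf : LinearIndependent (ResidueField A) (fun i => (maximalIdeal A).toCotangent ⟨f i, hm i⟩)) :
    ∃ (d : ℕ) (g : Fin d → A), maximalIdeal A = Ideal.span (Set.range f ∪ Set.range g) ∧
      ((r + d : ℕ) : WithBot ℕ∞) = ringKrullDim A := by
  classical
  let v : Fin r → CotangentSpace A := fun i => (maximalIdeal A).toCotangent ⟨f i, hm i⟩
  obtain ⟨s, hs⟩ : ∃ s : Submodule (ResidueField A) (CotangentSpace A),
      IsCompl (Submodule.span (ResidueField A) (Set.range v)) s := Submodule.exists_isCompl _
  let b := Module.finBasis (ResidueField A) s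
  have hsurj := (maximalIdeal A).toCotangent_surjective
  choose g hg using fun j => hsurj (b j : CotangentSpace A)
  refine ⟨Module.finrank (ResidueField A) s, fun j => (g j : A), ?_, ?_⟩
  · refine le_antisymm ?_ (Ideal.span_le.mpr (Set.union_subset ?_ ?_))
    · let T : Set (maximalIdeal A) := Set.range (fun i => (⟨f i, hm i⟩ : maximalIdeal A)) ∪ Set.range g
      have hT : Submodule.span A T = ⊤ := by
        refine IsLocalRing.CotangentSpace.span_image_eq_top_iff.mp ?_
        have himg : (maximalIdeal A).toCotangent '' T = Set.range v ∪ Set.range (fun j => (b j : CotangentSpace A)) := by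
          rw [Set.image_union, ← Set.range_comp, ← Set.range_comp]
          exact congrArg₂ _ rfl (congrArg Set.range (funext hg))
        rw [himg, Submodule.span_union]
        have : Submodule.span (ResidueField A) (Set.range fun j => (b j : CotangentSpace A)) = s := by
          rw [show (fun j => (b j : CotangentSpace A)) = s.subtype ∘ b from rfl, Set.range_comp,
            ← Submodule.map_span, b.span_eq, Submodule.map_top, Submodule.range_subtype]
        rw [this, hs.sup_eq_top]
      have h2 := congrArg (Submodule.map (maximalIdeal A).subtype) hT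
      rw [Submodule.map_span, Submodule.map_top, Submodule.range_subtype, Set.image_union, ← Set.range_comp,
        ← Set.range_comp] at h2
      exact h2.ge
    · rintro _ ⟨i, rfl⟩; exact hm i
    · rintro _ ⟨j, rfl⟩; exact (g j).2
  · rw [← (IsRegularLocalRing.iff_finrank_cotangentSpace A).mp inferInstance,
      ← Submodule.finrank_add_eq_of_isCompl hs, finrank_span_eq_card hf, Fintype.card_fin]

/-- Unique roots modulo square-zero ideals. -/
theorem existsUnique_root {C : Type u} [CommRing C] {I : Ideal C} (hI : I ^ 2 = ⊥) {m : ℕ} (hm1 : 1 ≤ m)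
    (hmu : IsUnit (m : C)) {a : C} (ha : IsUnit a) (c : C) (hc : c ^ m - a ∈ I) :
    ∃! c' : C, c' - c ∈ I ∧ c' ^ m = a := by
  have hsq : ∀ x ∈ I, ∀ y ∈ I, x * y = 0 := fun x hx y hy => by
    have := Ideal.mul_mem_mul hx hy
    rwa [← pow_two, hI, Ideal.mem_bot] at this
  have hpow : ∀ (z : C), z ∈ I → ∀ (j : ℕ), (c + z) ^ (j + 1) = c ^ (j + 1) + (j + 1 : ℕ) * c ^ j * z := by
    intro z hz j
    induction j with
    | zero => simp
    | succ j ih =>
      rw [pow_succ, ih]
      push_cast
      linear_combination ((j + 1 : C) * c ^ j) * hsq z hz z hz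
  obtain ⟨j, rfl⟩ : ∃ j, m = j + 1 := ⟨m - 1, (Nat.sub_add_cancel hm1).symm⟩
  have hcu : IsUnit c := by
    obtain ⟨u, hu⟩ := ha.exists_right_inv
    have hx : (c ^ (j + 1) - a) * u ∈ I := I.mul_mem_right _ hc
    refine (isUnit_pow_iff (n := j + 1) (Nat.succ_ne_zero j)).mp (.of_mul_eq_one (u * (1 - (c ^ (j + 1) - a) * u)) ?_)
    linear_combination (1 - (c ^ (j + 1) - a) * u) * hu - hsq _ hx _ hx
  obtain ⟨w, hw⟩ := (hmu.mul (hcu.pow j)).exists_right_inv
  refine ⟨c + w * (a - c ^ (j + 1)), ⟨?_, ?_⟩, ?_⟩
  · rw [add_sub_cancel_left]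
    exact I.mul_mem_left _ (by simpa using I.neg_mem hc)
  · rw [hpow _ (I.mul_mem_left _ (by simpa using I.neg_mem hc))]
    linear_combination (a - c ^ (j + 1)) * hw
  · rintro c' ⟨h1, h2⟩
    have h3 := hpow _ h1 j
    rw [add_sub_cancel, h2] at h3
    linear_combination (-w) * h3 - (c' - c) * hw

theorem result_aux (A : Type u) [CommRing A] [IsRegularLocalRing A] (r : ℕ) (f : Fin r → A)
    (hm : ∀ i, f i ∈ maximalIdeal A)
    (hf : LinearIndependent (ResidueField A) (fun i => (maximalIdeal A).toCotangent ⟨f i, hm i⟩))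
    (n : Fin r → ℕ) (hn : ∀ i, 1 ≤ n i) : IsRegularLocalRing (SGA1.kummerAlg A f n) := by
  classical
  haveI := Groth.Agent.RegLoc.isDomain A
  let B := SGA1.kummerAlg A f n
  let T : Fin r → B := fun i => Ideal.Quotient.mk _ (MvPolynomial.X i)
  have hT : ∀ i, T i ^ n i = algebraMap A B (f i) := fun i => by
    rw [← map_pow]
    exact Ideal.Quotient.eq.mpr (Ideal.subset_span ⟨i, rfl⟩)
  have hgen : Algebra.adjoin A (Set.range T) = ⊤ := by
    rw [show Set.range T = (Ideal.Quotient.mkₐ A _) '' Set.range (MvPolynomial.X : Fin r → MvPolynomial (Fin r) A)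
        from Set.range_comp _ _, Algebra.adjoin_image, MvPolynomial.adjoin_range_X, Algebra.map_top,
      AlgHom.range_eq_top]
    exact Ideal.Quotient.mk_surjective
  haveI : Algebra.IsIntegral A B := ⟨fun b => by
    have hb : b ∈ Algebra.adjoin A (Set.range T) := hgen.symm ▸ Algebra.mem_top
    have hsub : Set.range T ⊆ (integralClosure A B : Set B) := by
      rintro _ ⟨i, rfl⟩
      exact IsIntegral.of_pow (hn i) (hT i ▸ isIntegral_algebraMap)
    exact (Algebra.adjoin_le hsub hb : b ∈ integralClosure A B)⟩
  haveI : Module.Finite A B := Algebra.IsIntegral.finite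
  haveI : IsNoetherianRing B := IsNoetherianRing.of_finite A B
  -- injectivity, by evaluating at roots
  let L := AlgebraicClosure (FractionRing A)
  have hroot : ∀ i, ∃ x : L, x ^ n i = algebraMap A L (f i) := fun i =>
    IsAlgClosed.exists_pow_nat_eq _ (hn i)
  choose x hx using hroot
  let φ : B →+* L := Ideal.Quotient.lift _ (MvPolynomial.aeval x).toRingHom fun p hp => by
    have hle : Ideal.span (Set.range fun i => (MvPolynomial.X i : MvPolynomial (Fin r) A) ^ n i - MvPolynomial.C (f i)) ≤
        RingHom.ker (MvPolynomial.aeval x : MvPolynomial (Fin r) A →ₐ[A] L) := Ideal.span_le.mpr (by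
      rintro _ ⟨i, rfl⟩
      simp [hx i])
    exact hle hp
  have hinj : Function.Injective (algebraMap A B) := fun a b h => by
    have hLinj : Function.Injective (algebraMap A L) := by
      rw [IsScalarTower.algebraMap_eq A (FractionRing A) L]
      exact (algebraMap (FractionRing A) L).injective.comp (IsFractionRing.injective A (FractionRing A))
    apply hLinj
    have hA : ∀ c, φ (algebraMap A B c) = algebraMap A L c := fun c => (MvPolynomial.aeval x).commutes c
    rw [← hA, ← hA, h]
  haveI : Nontrivial B := hinj.nontrivial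
  haveI : Nontrivial (SGA1.kummerAlg A f n) := ‹Nontrivial B›
  -- local
  let J : Ideal B := (maximalIdeal A).map (algebraMap A B) ⊔ Ideal.span (Set.range T)
  have hJM : ∀ M : Ideal B, M.IsMaximal → J ≤ M := fun M hM => by
    have h1 : M.comap (algebraMap A B) = maximalIdeal A :=
      IsLocalRing.eq_maximalIdeal (Ideal.isMaximal_comap_of_isIntegral_of_isMaximal M)
    refine sup_le (Ideal.map_le_iff_le_comap.mpr h1.ge) (Ideal.span_le.mpr ?_)
    rintro _ ⟨i, rfl⟩
    refine hM.isPrime.mem_of_pow_mem (n i) ?_
    rw [hT i]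
    exact (h1.ge (hm i) : f i ∈ M.comap _)
  have hmod : ∀ b : B, ∃ a : A, b - algebraMap A B a ∈ J := fun b => by
    have hb : b ∈ Algebra.adjoin A (Set.range T) := hgen.symm ▸ Algebra.mem_top
    induction hb using Algebra.adjoin_induction with
    | mem y hy => exact ⟨0, by rw [map_zero, sub_zero]; exact le_sup_right (a := Ideal.map (algebraMap A B) (maximalIdeal A)) (Ideal.subset_span hy)⟩
    | algebraMap a => exact ⟨a, by rw [sub_self]; exact J.zero_mem⟩
    | add u v _ _ hu hv =>
      obtain ⟨a, ha⟩ := hu; obtain ⟨c, hc⟩ := hv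
      exact ⟨a + c, by rw [map_add, add_sub_add_comm]; exact J.add_mem ha hc⟩
    | mul u v _ _ hu hv =>
      obtain ⟨a, ha⟩ := hu; obtain ⟨c, hc⟩ := hv
      refine ⟨a * c, ?_⟩
      rw [map_mul, show u * v - algebraMap A B a * algebraMap A B c =
        (u - algebraMap A B a) * v + algebraMap A B a * (v - algebraMap A B c) by ring]
      exact J.add_mem (J.mul_mem_right _ ha) (J.mul_mem_left _ hc)
  have huniq : ∀ M : Ideal B, M.IsMaximal → M = J := fun M hM => by
    refine le_antisymm (fun b hb => ?_) (hJM M hM)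
    obtain ⟨a, ha⟩ := hmod b
    have ha' : algebraMap A B a ∈ M := by
      simpa using M.sub_mem hb (hJM M hM ha)
    have h1 : M.comap (algebraMap A B) = maximalIdeal A :=
      IsLocalRing.eq_maximalIdeal (Ideal.isMaximal_comap_of_isIntegral_of_isMaximal M)
    have : algebraMap A B a ∈ J := le_sup_left (b := Ideal.span (Set.range T))
      (Ideal.mem_map_of_mem _ (h1.le ha'))
    simpa using J.add_mem ha this
  obtain ⟨M, hM⟩ := Ideal.exists_maximal B
  haveI : IsLocalRing B := IsLocalRing.of_unique_max_ideal ⟨J, huniq M hM ▸ hM, huniq⟩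
  have hmax : maximalIdeal B = J := huniq _ inferInstance
  -- generators
  obtain ⟨d, g, hg, hdim⟩ := exists_param_extend A r f hm hf
  refine IsRegularLocalRing.of_spanFinrank_maximalIdeal_le B ?_
  have hspan : maximalIdeal B = Ideal.span (Set.range T ∪ Set.range (algebraMap A B ∘ g)) := by
    rw [hmax]
    show (maximalIdeal A).map (algebraMap A B) ⊔ Ideal.span (Set.range T) = _
    rw [hg, Ideal.map_span, Set.image_union, Ideal.span_union (Set.range T), Ideal.span_union, ← Set.range_comp (algebraMap A B) g,
      sup_assoc, sup_comm (Ideal.span (Set.range T))]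
    refine sup_eq_right.mpr (Ideal.span_le.mpr ?_)
    rintro _ ⟨_, ⟨i, rfl⟩, rfl⟩
    rw [← hT i]
    exact le_sup_right (a := Ideal.span (Set.range (algebraMap A B ∘ g)))
      (Ideal.pow_mem_of_mem _ (Ideal.subset_span (s := Set.range T) ⟨i, rfl⟩) _ (hn i))
  rw [Groth.Agent.VarDim.ringKrullDim_eq_of_isIntegral hinj, ← hdim, hspan]
  have hfin : (Set.range T ∪ Set.range (algebraMap A B ∘ g)).Finite := (Set.finite_range _).union (Set.finite_range _)
  have hle := (Submodule.spanFinrank_span_le_ncard_of_finite (R := B) hfin).trans (Set.ncard_union_le _ _)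
  have hT' : (Set.range T).ncard ≤ r := by
    rw [← Set.image_univ]
    exact (Set.ncard_image_le Set.finite_univ).trans (by simp)
  have hg' : (Set.range (algebraMap A B ∘ g)).ncard ≤ d := by
    rw [← Set.image_univ]
    exact (Set.ncard_image_le Set.finite_univ).trans (by simp)
  exact Nat.cast_le.mpr (le_trans hle (Nat.add_le_add hT' hg'))

theorem etale_aux (A : Type u) [CommRing A] [IsLocalRing A] (r : ℕ) (f : Fin r → A)
    (n : Fin r → ℕ) (hn : ∀ i, 1 ≤ n i) (hu : ∀ i, IsUnit ((n i : ℕ) : ResidueField A)) :
    Algebra.Etale A (Localization.Away (algebraMap A (SGA1.kummerAlg A f n) (∏ i, f i))) := by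
  classical
  let B := SGA1.kummerAlg A f n
  let e := algebraMap A B (∏ i, f i)
  let Be := Localization.Away e
  have hnA : ∀ i, IsUnit ((n i : ℕ) : A) := fun i => isUnit_of_map_unit (residue A) _ (by
    rw [map_natCast]; exact hu i)
  haveI hfp : Algebra.FinitePresentation A B :=
    Algebra.FinitePresentation.quotient (Submodule.fg_span (Set.finite_range _))
  haveI : Algebra.FinitePresentation A Be := Algebra.FinitePresentation.trans A B Be
  suffices h : Algebra.FormallyEtale A Be from { }
  rw [Algebra.FormallyEtale.iff_comp_bijective]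
  intro C _ _ I hI
  have hnil : ∀ y : C, IsUnit (Ideal.Quotient.mk I y) → IsUnit y := fun y hy => by
    obtain ⟨u, hu'⟩ := hy.exists_right_inv
    obtain ⟨u, rfl⟩ := Ideal.Quotient.mk_surjective u
    have hx : y * u - 1 ∈ I := Ideal.Quotient.eq.mp (by rw [map_mul, hu', map_one])
    have h0 := Ideal.mul_mem_mul hx hx
    rw [← pow_two I, hI, Ideal.mem_bot] at h0
    exact .of_mul_eq_one (u * (2 - y * u)) (by linear_combination -h0)
  -- the value of each generator
  let t : Fin r → Be := fun i => algebraMap B Be (Ideal.Quotient.mk _ (MvPolynomial.X i))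
  have ht : ∀ i, t i ^ n i = algebraMap A Be (f i) := fun i => by
    rw [IsScalarTower.algebraMap_apply A B Be, ← map_pow, ← map_pow]
    exact congrArg _ (Ideal.Quotient.eq.mpr (Ideal.subset_span ⟨i, rfl⟩))
  have hext : ∀ (D : Type u) [CommRing D] [Algebra A D] (ψ ψ' : Be →ₐ[A] D),
      (∀ i, ψ (t i) = ψ' (t i)) → ψ = ψ' := by
    intro D _ _ ψ ψ' h
    refine AlgHom.coe_ringHom_injective (IsLocalization.ringHom_ext (Submonoid.powers e) ?_)
    have : ψ.comp (IsScalarTower.toAlgHom A B Be) = ψ'.comp (IsScalarTower.toAlgHom A B Be) :=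
      Ideal.Quotient.algHom_ext A (MvPolynomial.algHom_ext h)
    exact RingHom.ext fun b => AlgHom.congr_fun this b
  have hunit : ∀ i, IsUnit (algebraMap A Be (f i)) := fun i => by
    have : IsUnit (algebraMap A Be (∏ i, f i)) := by
      rw [IsScalarTower.algebraMap_apply A B Be]
      exact IsLocalization.Away.algebraMap_isUnit e
    rw [map_prod] at this
    exact IsUnit.prod_iff.mp this i (Finset.mem_univ i)
  constructor
  · intro ψ ψ' h
    refine hext C ψ ψ' fun i => ?_
    have h' := AlgHom.congr_fun h (t i)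
    have hdiff : ψ' (t i) - ψ (t i) ∈ I := Ideal.Quotient.eq.mp h'.symm
    have ha : IsUnit (algebraMap A C (f i)) := by
      rw [← ψ.commutes]; exact (hunit i).map ψ
    refine ((existsUnique_root hI (hn i) (by simpa using (hnA i).map (algebraMap A C)) ha (ψ (t i))
      (by rw [← map_pow, ht, AlgHom.commutes, sub_self]; exact I.zero_mem)).unique ⟨hdiff, ?_⟩ ⟨?_, ?_⟩).symm
    · rw [← map_pow, ht, AlgHom.commutes]
    · rw [sub_self]; exact I.zero_mem
    · rw [← map_pow, ht, AlgHom.commutes]
  · intro θ
    choose c hc using fun i => Ideal.Quotient.mk_surjective (θ (t i))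
    have hfu : ∀ i, IsUnit (algebraMap A C (f i)) := fun i => hnil _ (by
      rw [← Ideal.Quotient.mkₐ_eq_mk A I, AlgHom.commutes, ← θ.commutes]
      exact (hunit i).map θ)
    have hex := fun i => existsUnique_root hI (hn i) (by simpa using (hnA i).map (algebraMap A C)) (hfu i) (c i)
      (Ideal.Quotient.eq.mp (by
        rw [map_pow, hc, ← map_pow, ht, AlgHom.commutes]
        rfl))
    choose c' hc' using fun i => (hex i).exists
    let ψ₀ : B →ₐ[A] C := Ideal.Quotient.liftₐ _ (MvPolynomial.aeval c') fun p hp => by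
      have hle : Ideal.span (Set.range fun i => (MvPolynomial.X i : MvPolynomial (Fin r) A) ^ n i - MvPolynomial.C (f i)) ≤
          RingHom.ker (MvPolynomial.aeval c' : MvPolynomial (Fin r) A →ₐ[A] C) := Ideal.span_le.mpr (by
        rintro _ ⟨i, rfl⟩
        simp [(hc' i).2])
      exact hle hp
    have he : IsUnit (ψ₀ e) := by
      rw [AlgHom.commutes, map_prod]
      exact IsUnit.prod_iff.mpr fun i _ => hfu i
    let ψ : Be →ₐ[A] C := IsLocalization.liftAlgHom (M := Submonoid.powers e) (f := ψ₀) (by
      rintro ⟨_, k, rfl⟩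
      rw [map_pow]; exact he.pow k)
    refine ⟨ψ, hext _ _ _ fun i => ?_⟩
    show Ideal.Quotient.mk I (ψ (t i)) = θ (t i)
    have : ψ (t i) = c' i := by
      rw [IsLocalization.liftAlgHom_apply, IsLocalization.lift_eq]
      exact MvPolynomial.aeval_X _ _
    rw [this, ← hc i]
    exact Ideal.Quotient.eq.mpr (hc' i).1

/-- Regularity and etaleness; the tameness assertion is not stated: Let A be a regular local ring, f_1,
…, f_r elements of the maximal ideal whose images in the cotangent space are linearly independent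
(part of a regular system of parameters), and n_1, …, n_r ≥ 1. Then A' = A[T_1, …, T_r]/(T_i^{n_i} −
f_i) is a regular local ring; and if each n_i is invertible in the residue field of A, then A'
becomes etale over A after inverting f_1 ⋯ f_r. -/
theorem result (A : Type u) [CommRing A] [IsRegularLocalRing A] (r : ℕ) (f : Fin r → A)
    (hm : ∀ i, f i ∈ maximalIdeal A)
    (hf : LinearIndependent (ResidueField A) (fun i => (maximalIdeal A).toCotangent ⟨f i, hm i⟩))
    (n : Fin r → ℕ) (hn : ∀ i, 1 ≤ n i) :
    IsRegularLocalRing (SGA1.kummerAlg A f n) ∧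
    ((∀ i, IsUnit ((n i : ℕ) : ResidueField A)) →
      letI := (Localization.awayMap (algebraMap A (SGA1.kummerAlg A f n)) (∏ i, f i)).toAlgebra
      Algebra.Etale (Localization.Away (∏ i, f i)) (Localization.Away (algebraMap A (SGA1.kummerAlg A f n) (∏ i, f i)))) := by
  classical
  refine ⟨result_aux A r f hm hf n hn, fun hu => ?_⟩
  letI := (Localization.awayMap (algebraMap A (SGA1.kummerAlg A f n)) (∏ i, f i)).toAlgebra
  haveI : IsScalarTower A (Localization.Away (∏ i, f i))
      (Localization.Away (algebraMap A (SGA1.kummerAlg A f n) (∏ i, f i))) :=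
    IsScalarTower.of_algebraMap_eq fun a => by
      rw [RingHom.algebraMap_toAlgebra]
      exact ((IsLocalization.map_eq _ a).trans
        (IsScalarTower.algebraMap_apply A (SGA1.kummerAlg A f n) _ a).symm).symm
  haveI := etale_aux A r f n hn hu
  exact Algebra.Etale.of_restrictScalars A _ _

end Groth.Agent.S2921
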