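import Groth.Statements.S2924
import Groth.Agent.Lib.KummerTame25.Basic
import Groth.Agent.Lib.EtRamH7.Compositum
import Mathlib.RingTheory.DiscreteValuationRing.TFAE
import Mathlib.RingTheory.LocalRing.ResidueField.Ideal

set_option autoImplicit false
universe u
open IsLocalRing
open SGA1

namespace Groth.Agent.S2924

/-- Generation of a compositum. -/
theorem adjoin_range_eq_top {K Ω : Type u} [Field K] [Field Ω] [Algebra K Ω]
    (E₁ E₂ : IntermediateField K Ω) [FiniteDimensional K E₁] :
    letI : Algebra E₁ (↥(E₁ ⊔ E₂)) := (IntermediateField.inclusion (le_sup_left : E₁ ≤ E₁ ⊔ E₂)).toRingHom.toAlgebra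
    letI : Algebra E₂ (↥(E₁ ⊔ E₂)) := (IntermediateField.inclusion (le_sup_right : E₂ ≤ E₁ ⊔ E₂)).toRingHom.toAlgebra
    Algebra.adjoin E₂ (Set.range (algebraMap E₁ (↥(E₁ ⊔ E₂)))) = ⊤ := by
  letI : Algebra E₁ (↥(E₁ ⊔ E₂)) := (IntermediateField.inclusion (le_sup_left : E₁ ≤ E₁ ⊔ E₂)).toRingHom.toAlgebra
  letI : Algebra E₂ (↥(E₁ ⊔ E₂)) := (IntermediateField.inclusion (le_sup_right : E₂ ≤ E₁ ⊔ E₂)).toRingHom.toAlgebra
  refine top_le_iff.1 fun y _ => ?_
  have hy : (y : Ω) ∈ E₁.toSubalgebra ⊔ E₂.toSubalgebra := by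
    rw [← IntermediateField.sup_toSubalgebra_of_left]; exact y.2
  rw [← Algebra.adjoin_eq E₁.toSubalgebra, ← Algebra.adjoin_eq E₂.toSubalgebra, ← Algebra.adjoin_union] at hy
  have hsub : Algebra.adjoin K ((E₁.toSubalgebra : Set Ω) ∪ E₂.toSubalgebra) ≤ (E₁ ⊔ E₂).toSubalgebra :=
    Algebra.adjoin_le (Set.union_subset (fun a ha => (le_sup_left : E₁ ≤ E₁ ⊔ E₂) ha)
      (fun a ha => (le_sup_right : E₂ ≤ E₁ ⊔ E₂) ha))
  have key : ∀ z, ∀ (hz : z ∈ Algebra.adjoin K ((E₁.toSubalgebra : Set Ω) ∪ E₂.toSubalgebra)) (hz' : z ∈ E₁ ⊔ E₂),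
      (⟨z, hz'⟩ : ↥(E₁ ⊔ E₂)) ∈ Algebra.adjoin E₂ (Set.range (algebraMap E₁ (↥(E₁ ⊔ E₂)))) := by
    intro z hz
    induction hz using Algebra.adjoin_induction with
    | mem z hz =>
      intro hz'
      rcases hz with hz | hz
      · exact Algebra.subset_adjoin ⟨⟨z, hz⟩, rfl⟩
      · exact Subalgebra.algebraMap_mem _ (⟨z, hz⟩ : E₂)
    | algebraMap c =>
      intro hz'
      exact Subalgebra.algebraMap_mem _ (algebraMap K E₂ c)
    | add a b ha hb iha ihb => intro hz'; exact add_mem (iha (hsub ha)) (ihb (hsub hb))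
    | mul a b ha hb iha ihb => intro hz'; exact mul_mem (iha (hsub ha)) (ihb (hsub hb))
  exact key _ hy y.2

/-- Radicals generate a tame extension. -/
theorem tame_of_radicals (A : Type u) [CommRing A] [IsDomain A] [IsDiscreteValuationRing A]
    (K : Type u) [Field K] [Algebra A K] [IsFractionRing A K] (L : Type u) [Field L] [Algebra K L]
    {r : ℕ} (t : Fin r → L) (hgen : IntermediateField.adjoin K (Set.range t) = ⊤) (n : Fin r → ℕ)
    (hn : ∀ j, 1 ≤ n j) (hnu : ∀ j, IsUnit ((n j : ℕ) : A)) (c : Fin r → A)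
    (htc : ∀ j, t j ^ n j = algebraMap K L (algebraMap A K (c j)))
    (hc : ∀ j, IsUnit (c j) ∨ maximalIdeal A = Ideal.span {c j}) :
    FiniteDimensional K L ∧ EtRam.IsTamelyRamified A ((algebraMap K L).comp (algebraMap A K)) := by
  classical
  let E : Finset (Fin r) → IntermediateField K L := fun s => IntermediateField.adjoin K (t '' (s : Set (Fin r)))
  have hint : ∀ j, IsIntegral K (t j) := fun j => IsIntegral.of_pow (hn j) (htc j ▸ isIntegral_algebraMap)
  haveI hfd : ∀ s, FiniteDimensional K (E s) := fun s => by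
    haveI : Finite (t '' (s : Set (Fin r))) := (s.finite_toSet.image t).to_subtype
    exact IntermediateField.finiteDimensional_adjoin fun x ⟨j, _, hj⟩ => hj ▸ hint j
  have single : ∀ (x : L) (m : ℕ) (_ : 1 ≤ m) (_ : IsUnit ((m : ℕ) : A)) (d : A)
      (_ : x ^ m = algebraMap K L (algebraMap A K d)) (_ : IsUnit d ∨ maximalIdeal A = Ideal.span {d}),
      FiniteDimensional K (IntermediateField.adjoin K {x}) ∧
        EtRam.IsTamelyRamified A ((algebraMap K (IntermediateField.adjoin K {x})).comp (algebraMap A K)) := by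
    intro x m hm hmu d hxd hd
    haveI : FiniteDimensional K (IntermediateField.adjoin K {x}) :=
      IntermediateField.adjoin.finiteDimensional (IsIntegral.of_pow hm (hxd ▸ isIntegral_algebraMap))
    refine ⟨inferInstance, Groth.Agent.KummerTame25.tame_of_radical K (IntermediateField.AdjoinSimple.gen K x)
      ?_ hm hmu d (Subtype.ext ?_) hd⟩
    · refine IntermediateField.map_injective (IntermediateField.adjoin K {x}).val ?_
      rw [IntermediateField.adjoin_map, Set.image_singleton, ← AlgHom.fieldRange_eq_map, IntermediateField.fieldRange_val]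
      rfl
    · show x ^ m = _
      exact hxd
  suffices h : ∀ s, EtRam.IsTamelyRamified A ((algebraMap K (E s)).comp (algebraMap A K)) by
    have huniv : E Finset.univ = ⊤ := by
      simp only [E, Finset.coe_univ, Set.image_univ, hgen]
    have hu := h Finset.univ
    have hfin := hfd Finset.univ
    rw [huniv] at hu hfin
    let T := (⊤ : IntermediateField K L)
    haveI := hfin
    haveI : FiniteDimensional K L := (IntermediateField.topEquiv (F := K) (E := L)).toLinearEquiv.finiteDimensional
    refine ⟨inferInstance, Groth.Agent.EtRamH7.tame_compositum A K T T L (top_le_iff.1 fun y _ => ?_) hu hu⟩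
    exact Algebra.subset_adjoin ⟨⟨y, trivial⟩, rfl⟩
  intro s
  induction s using Finset.induction with
  | empty =>
    obtain ⟨-, h1⟩ := single 1 1 le_rfl (by simp) 1 (by simp) (Or.inl isUnit_one)
    have : IntermediateField.adjoin K ({1} : Set L) = E ∅ := by
      simp only [E, Finset.coe_empty, Set.image_empty, IntermediateField.adjoin_empty]
      rw [IntermediateField.adjoin_simple_eq_bot_iff]
      exact one_mem _
    rw [← this]; exact h1
  | insert j s _ ih =>
    obtain ⟨hfj, hj⟩ := single (t j) (n j) (hn j) (hnu j) (c j) (htc j) (hc j)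
    have hE : E (insert j s) = IntermediateField.adjoin K {t j} ⊔ E s := by
      simp only [E, Finset.coe_insert, Set.image_insert_eq, Set.insert_eq, Set.image_union, Set.image_singleton, IntermediateField.adjoin_union]
    rw [hE]
    haveI := hfj
    haveI := hfd s
    let E₁ := IntermediateField.adjoin K {t j}
    let E₂ := E s
    letI : Algebra E₁ (↥(E₁ ⊔ E₂)) := (IntermediateField.inclusion (le_sup_left : E₁ ≤ E₁ ⊔ E₂)).toRingHom.toAlgebra
    letI : Algebra E₂ (↥(E₁ ⊔ E₂)) := (IntermediateField.inclusion (le_sup_right : E₂ ≤ E₁ ⊔ E₂)).toRingHom.toAlgebra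
    haveI : IsScalarTower K E₁ (↥(E₁ ⊔ E₂)) := IsScalarTower.of_algebraMap_eq fun _ => rfl
    haveI : IsScalarTower K E₂ (↥(E₁ ⊔ E₂)) := IsScalarTower.of_algebraMap_eq fun _ => rfl
    exact Groth.Agent.EtRamH7.tame_compositum A K E₁ E₂ _ (adjoin_range_eq_top E₁ E₂) hj ih

/-- Let A be a regular local ring, f_1, …, f_r part of a regular system of parameters and n_i ≥ 1
invertible in the residue field. Then the Kummer algebra A[T_1, …, T_r]/(T_i^{n_i} − f_i) is tamely
ramified along each f_i (at every point of its generic fibre, with respect to the discrete valuation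
rings A_{(f_i)}). -/
theorem result (A : Type u) [CommRing A] [IsRegularLocalRing A] [IsDomain A] (r : ℕ) (f : Fin r → A)
    (hm : ∀ i, f i ∈ maximalIdeal A)
    (hf : LinearIndependent (ResidueField A) (fun i => (maximalIdeal A).toCotangent ⟨f i, hm i⟩))
    [∀ i, (Ideal.span {f i}).IsPrime] (n : Fin r → ℕ) (hn : ∀ i, 1 ≤ n i) (hu : ∀ i, IsUnit ((n i : ℕ) : ResidueField A)) :
    SGA1.IsTameAlong f (algebraMap A (SGA1.kummerAlg A f n)) := by
  intro i q _ hq
  classical
  let P := Ideal.span {f i}
  let B := SGA1.kummerAlg A f n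
  let AP := Localization.AtPrime P
  let K := FractionRing A
  let L := q.ResidueField
  have hli : ∀ j, j ≠ i → f j ∉ P := by
    intro j hji hmem
    obtain ⟨a, ha⟩ := Ideal.mem_span_singleton'.mp hmem
    have h1 : (maximalIdeal A).toCotangent ⟨f j, hm j⟩ = residue A a • (maximalIdeal A).toCotangent ⟨f i, hm i⟩ := by
      rw [show (⟨f j, hm j⟩ : maximalIdeal A) = a • ⟨f i, hm i⟩ from Subtype.ext ha.symm, map_smul]
      rfl
    refine hf.notMem_span_image (s := {i}) (x := j) hji ?_
    rw [Set.image_singleton]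
    exact Submodule.mem_span_singleton.mpr ⟨residue A a, h1.symm⟩
  have hi0 : f i ≠ 0 := fun h => hf.ne_zero i (by
    rw [show (⟨f i, hm i⟩ : maximalIdeal A) = 0 from Subtype.ext h, map_zero])
  have hP0 : P ≤ maximalIdeal A := (Ideal.span_singleton_le_iff_mem _).mpr (hm i)
  haveI : IsNoetherianRing AP := IsLocalization.isNoetherianRing P.primeCompl AP inferInstance
  haveI : IsDomain AP := IsLocalization.isDomain_localization P.primeCompl_le_nonZeroDivisors
  have hmax : maximalIdeal AP = Ideal.span {algebraMap A AP (f i)} := by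
    rw [← Localization.AtPrime.map_eq_maximalIdeal, Ideal.map_span, Set.image_singleton]
  have hne : ¬ IsField AP := by
    rw [isField_iff_maximalIdeal_eq, hmax, Ideal.span_singleton_eq_bot]
    exact fun h => hi0 (IsLocalization.injective AP P.primeCompl_le_nonZeroDivisors (h.trans (map_zero _).symm))
  haveI : IsDiscreteValuationRing AP :=
    ((IsDiscreteValuationRing.TFAE AP hne).out 0 4).mpr (show (maximalIdeal AP).IsPrincipal from ⟨⟨_, hmax⟩⟩)
  letI : Algebra AP K := (IsLocalization.lift (M := P.primeCompl) (g := algebraMap A K) fun y =>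
    IsLocalization.map_units K (⟨y.1, P.primeCompl_le_nonZeroDivisors y.2⟩ : nonZeroDivisors A)).toAlgebra
  haveI : IsScalarTower A AP K := IsScalarTower.of_algebraMap_eq fun a => (IsLocalization.lift_eq _ a).symm
  haveI : IsFractionRing AP K := IsFractionRing.isFractionRing_of_isDomain_of_isLocalization P.primeCompl AP K
  let θ : A →+* L := (algebraMap B L).comp (algebraMap A B)
  have hθ : ∀ y : nonZeroDivisors A, IsUnit (θ y) := fun y => by
    rw [isUnit_iff_ne_zero]
    intro h
    have h1 : algebraMap A B (y : A) ∈ q := by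
      rw [← Ideal.ker_algebraMap_residueField q, RingHom.mem_ker]; exact h
    have h2 : (y : A) ∈ Ideal.comap (algebraMap A B) q := h1
    rw [hq, Ideal.mem_bot] at h2
    exact nonZeroDivisors.ne_zero y.2 h2
  letI : Algebra K L := (IsLocalization.lift (M := nonZeroDivisors A) (g := θ) hθ).toAlgebra
  have hKL : ∀ a, algebraMap K L (algebraMap A K a) = θ a := fun a => IsLocalization.lift_eq hθ a
  let t : Fin r → L := fun j => algebraMap B L (Ideal.Quotient.mk _ (MvPolynomial.X j))
  let c : Fin r → AP := fun j => algebraMap A AP (f j)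
  have htc : ∀ j, t j ^ n j = algebraMap K L (algebraMap AP K (c j)) := fun j => by
    rw [← IsScalarTower.algebraMap_apply A AP K, hKL, ← map_pow]
    refine congrArg (algebraMap B L) ?_
    rw [← map_pow]
    exact Ideal.Quotient.eq.mpr (Ideal.subset_span ⟨j, rfl⟩)
  have hgen : IntermediateField.adjoin K (Set.range t) = ⊤ := by
    have hB : ∀ b : B, algebraMap B L b ∈ IntermediateField.adjoin K (Set.range t) := by
      intro b
      obtain ⟨p, rfl⟩ := Ideal.Quotient.mk_surjective b
      induction p using MvPolynomial.induction_on with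
      | C a => rw [show algebraMap B L (Ideal.Quotient.mk _ (MvPolynomial.C a)) = θ a from rfl, ← hKL]
               exact IntermediateField.algebraMap_mem _ _
      | add u v hu' hv => rw [map_add, map_add]; exact add_mem hu' hv
      | mul_X u j hu' => rw [map_mul, map_mul]; exact mul_mem hu' (IntermediateField.subset_adjoin _ _ ⟨j, rfl⟩)
    refine eq_top_iff.mpr fun z _ => ?_
    obtain ⟨a, b, hb, rfl⟩ := IsFractionRing.div_surjective (A := B ⧸ q) z
    obtain ⟨a, rfl⟩ := Ideal.Quotient.mk_surjective a
    obtain ⟨b, rfl⟩ := Ideal.Quotient.mk_surjective b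
    exact div_mem (hB a) (hB b)
  have hnA : ∀ j, IsUnit ((n j : ℕ) : A) := fun j => isUnit_of_map_unit (residue A) _ (by
    rw [map_natCast]; exact hu j)
  have hc : ∀ j, IsUnit (c j) ∨ maximalIdeal AP = Ideal.span {c j} := fun j => by
    by_cases h : j = i
    · subst h; exact Or.inr hmax
    · exact Or.inl (IsLocalization.map_units AP (⟨f j, hli j h⟩ : P.primeCompl))
  obtain ⟨-, htame⟩ := tame_of_radicals AP K L t hgen n hn (fun j => by
    simpa using (hnA j).map (algebraMap A AP)) c htc hc
  have hmap : SGA1.genericResidueMap (algebraMap A B) P q hq = (algebraMap K L).comp (algebraMap AP K) := by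
    refine IsLocalization.ringHom_ext P.primeCompl (RingHom.ext fun a => ?_)
    show SGA1.genericResidueMap (algebraMap A B) P q hq (algebraMap A AP a) = algebraMap K L (algebraMap AP K (algebraMap A AP a))
    rw [← IsScalarTower.algebraMap_apply A AP K, hKL]
    exact IsLocalization.lift_eq _ a
  exact hmap.symm ▸ htame

end Groth.Agent.S2924
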