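import Groth.Statements.S2928
import Groth.Agent.Lib.EnriquesSeveri11.NegVan
import Groth.Agent.Lib.EnriquesSeveri11.DepthVan

set_option autoImplicit false
set_option backward.isDefEq.respectTransparency false
universe u
open CategoryTheory AlgebraicGeometry
open ProjDual

namespace Groth.Agent.S2928

/-- (i)⇔(ii): Let k be a field, X = P^r_k, F a coherent O_X-module and n ≥ 0. Then H^i(X, F(−m)) = 0 for
all i ≤ n and all sufficiently large m if and only if at every closed point x of X the stalk F_x has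
depth greater than n over O_{X,x}. -/
theorem result (k : Type u) [Field k] (r : ℕ) (F : (CohB1.ProjSpace r k).Modules) (hF : Coh.IsCoh F) (n : ℕ) : (∃ m₀ : ℤ, ∀ m : ℤ, m₀ ≤ m → ∀ i : ℕ, i ≤ n → Subsingleton (Coh.HH (CohB1.ProjSpace r k) (Twist.twistBy _ F (-m)) i)) ↔ ∀ x : (CohB1.ProjSpace r k), IsClosed ({x} : Set (CohB1.ProjSpace r k)) → (n : ℕ∞) < LocCoh.depth ((CohB1.ProjSpace r k).presheaf.stalk x) (F.presheaf.stalk x) := by
  haveI : IsLocallyNoetherian (CohB1.ProjSpace r k) :=
    Groth.Agent.CohFound.ProjNum.isLocallyNoetherian_projSpace r k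
  haveI := (Groth.Agent.CMReg18.isAmple_twistOne k (n := r)).2.1
  haveI : AlgebraicGeometry.IsNoetherian (CohB1.ProjSpace r k) := {}
  constructor
  · rintro ⟨m₀, hm⟩ x hx
    exact Groth.Agent.ES11.lt_depth_of_negVan (k := k) (Groth.Agent.CMReg18.projData k r)
      (Groth.Agent.CMReg18.isAmple_twistOne k) n hF (fun i hi => ⟨m₀, fun m hm' => hm m hm' i hi⟩) x hx
  · intro h
    have key : ∀ j : ℕ, j ≤ n → ∃ m₀ : ℤ, ∀ m : ℤ, m₀ ≤ m → ∀ i : ℕ, i ≤ j →
        Subsingleton (Coh.HH (CohB1.ProjSpace r k) (Twist.twistBy _ F (-m)) i) := by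
      intro j
      induction j with
      | zero =>
        intro _
        obtain ⟨m₀, hm⟩ := Groth.Agent.ES11.negVan_of_depth_gt hF n h (i := 0) (Nat.zero_le _)
        exact ⟨m₀, fun m hm' i hi => by obtain rfl : i = 0 := by omega
                                        exact hm m hm'⟩
      | succ j ih =>
        intro hj
        obtain ⟨m₁, h₁⟩ := ih (by omega)
        obtain ⟨m₂, h₂⟩ := Groth.Agent.ES11.negVan_of_depth_gt hF n h (i := j + 1) hj
        refine ⟨max m₁ m₂, fun m hm i hi => ?_⟩
        rcases Nat.lt_or_ge i (j + 1) with hlt | hge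
        · exact h₁ m (le_of_max_le_left hm) i (by omega)
        · obtain rfl : i = j + 1 := by omega
          exact h₂ m (le_of_max_le_right hm)
    exact key n le_rfl

end Groth.Agent.S2928
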