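import Groth.Statements.S2932
import Groth.Agent.Lib.CIPic27.Final
-- import your own Groth.Agent.* helpers here

set_option autoImplicit false
universe u
open ParaF

namespace Groth.Agent.S2932

/-- Let A be a Noetherian local ring which is a complete intersection (a quotient of a regular local
ring by a regular sequence) and which is factorial in codimension ≤ 3: for every prime p with dim
A_p ≤ 3 the local ring A_p is a factorial domain. Then A is a factorial domain. -/
theorem result (A : Type u) [CommRing A] [IsLocalRing A] [IsNoetherianRing A] (hA : SGA2.IsAbsCompleteIntersection A) (h : ∀ p : PrimeSpectrum A, ringKrullDim (Localization.AtPrime p.asIdeal) ≤ 3 → IsDomain (Localization.AtPrime p.asIdeal) ∧ UniqueFactorizationMonoid (Localization.AtPrime p.asIdeal)) : IsDomain A ∧ UniqueFactorizationMonoid A := by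
  obtain ⟨d, hd⟩ := ENat.ne_top_iff_exists.1 (Ideal.height_ne_top (IsLocalRing.maximalIdeal.isMaximal A).ne_top)
  refine Groth.Agent.CIPic27.ufd_absCI d A ?_ hA h
  rw [← IsLocalRing.maximalIdeal_height_eq_ringKrullDim, ← hd]
  rfl


end Groth.Agent.S2932
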