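import Groth.Statements.S2933
import Groth.Agent.Lib.LocCoh.ConnCodim27
-- import your own Groth.Agent.* helpers here

set_option autoImplicit false
universe u
open LocCoh

namespace Groth.Agent.S2933

/-- Let A be a Noetherian ring with connected spectrum and d ≥ 1 an integer such that every prime p with
dim A_p ≥ d has depth A_p ≥ 2. Then for any two minimal primes p', p'' of A there is a finite
sequence of minimal primes starting at p' and ending at p'' such that any two consecutive members
are both contained in some prime of height at most d − 1 (Spec A is connected in codimension d − 1). -/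
theorem result (A : Type u) [CommRing A] [IsNoetherianRing A] [ConnectedSpace (PrimeSpectrum A)] (d : ℕ) (hd : 1 ≤ d) (h : ∀ p : PrimeSpectrum A, (d : ℕ∞) ≤ p.asIdeal.height → (2 : ℕ∞) ≤ LocCoh.depth (Localization.AtPrime p.asIdeal) (Localization.AtPrime p.asIdeal)) (p' p'' : PrimeSpectrum A) (hp' : p'.asIdeal ∈ minimalPrimes A) (hp'' : p''.asIdeal ∈ minimalPrimes A) : ∃ l : List (PrimeSpectrum A), l.head? = some p' ∧ l.getLast? = some p'' ∧ (∀ p ∈ l, p.asIdeal ∈ minimalPrimes A) ∧ List.IsChain (fun p q => ∃ r : PrimeSpectrum A, p ≤ r ∧ q ≤ r ∧ r.asIdeal.height ≤ (d - 1 : ℕ)) l := by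
  have hg := Groth.Agent.LocCohLib.reflTransGen_linked d hd h p' p'' hp' hp''
  clear h
  induction hg using Relation.ReflTransGen.head_induction_on with
  | refl => exact ⟨[p''], rfl, rfl, by simpa using hp'', List.isChain_singleton _⟩
  | @head a c hac _ ih =>
    obtain ⟨l, h1, h2, h3, h4⟩ := ih hac.2.1
    refine ⟨a :: l, rfl, ?_, List.forall_mem_cons.2 ⟨hac.1, h3⟩, List.isChain_cons.2 ⟨fun z hz => ?_, h4⟩⟩
    · rw [List.getLast?_cons, h2]; rfl
    · rw [h1] at hz
      cases hz
      exact hac.2.2

end Groth.Agent.S2933
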