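import Groth.Statements.S2934
import Groth.Agent.Lib.Goren.GorenFinLen27
import Groth.Agent.S0342
-- import your own Groth.Agent.* helpers here

set_option autoImplicit false
universe u
open LocCoh

namespace Groth.Agent.S2934

/-- Let A be a Noetherian local ring which is a quotient of a regular local ring, m its maximal ideal, M
a finite A-module and i ≥ 0. Then H^i_m(M) is an A-module of finite length if and only if for every
prime p ≠ m, writing e = dim A/p, the local cohomology H^{i−e} of M_p with support in the maximal
ideal of A_p vanishes (no condition when e > i). -/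
theorem result (R : Type u) [CommRing R] [IsRegularLocalRing R] (A : Type u) [CommRing A] [IsLocalRing A] [IsNoetherianRing A] (π : R →+* A) (hπ : Function.Surjective π) (M : Type u) [AddCommGroup M] [Module A M] [Module.Finite A M] (i : ℕ) : IsFiniteLength A (LocCoh.H (IsLocalRing.maximalIdeal A) i M) ↔ ∀ p : PrimeSpectrum A, p.asIdeal ≠ IsLocalRing.maximalIdeal A → ∀ (e j : ℕ), ringKrullDim (A ⧸ p.asIdeal) = e → j + e = i → Subsingleton (LocCoh.H (IsLocalRing.maximalIdeal (Localization.AtPrime p.asIdeal)) j (LocalizedModule p.asIdeal.primeCompl M)) := by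
  haveI := Groth.Agent.S0342.result R
  letI := π.toAlgebra
  rw [Groth.Agent.GorenLib.isFiniteLength_H_quot_iff (S := R) hπ M i]
  exact ⟨fun H p hp => H p.asIdeal hp, fun H p hpp hp => H ⟨p, hpp⟩ hp⟩

end Groth.Agent.S2934
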