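import Groth.Statements.S2936
import Groth.Agent.Lib.CanonMod.DualSupp27
import Groth.Agent.Lib.LocCoh.Dim
import Groth.Agent.S0317
-- import your own Groth.Agent.* helpers here

set_option autoImplicit false
universe u
open LocCoh

namespace Groth.Agent.S2936

/-- (iii), for a complete local ring. Let A be a complete Noetherian local ring with maximal ideal m, κ
→ E an injective hull of the residue field, and M a nonzero finite A-module whose support has
dimension n. Then for every i the A-module Hom_A(H^i_m(M), E) is finite with support of dimension at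
most i; for i = n its support has dimension exactly n and its associated primes are exactly the
associated primes p of M with dim A/p = n. -/
theorem result (A : Type u) [CommRing A] [IsLocalRing A] [IsNoetherianRing A] [IsAdicComplete (IsLocalRing.maximalIdeal A) A] (E : Type u) [AddCommGroup E] [Module A E] (f : IsLocalRing.ResidueField A →ₗ[A] E) (hf : InjHull.IsInjectiveHull f) (M : Type u) [AddCommGroup M] [Module A M] [Module.Finite A M] [Nontrivial M] (n : ℕ) (hn : Module.supportDim A M = n) : (∀ i : ℕ, Module.Finite A (LocCoh.H (IsLocalRing.maximalIdeal A) i M →ₗ[A] E) ∧ Module.supportDim A (LocCoh.H (IsLocalRing.maximalIdeal A) i M →ₗ[A] E) ≤ (i : WithBot ℕ∞)) ∧ Module.supportDim A (LocCoh.H (IsLocalRing.maximalIdeal A) n M →ₗ[A] E) = n ∧ associatedPrimes A (LocCoh.H (IsLocalRing.maximalIdeal A) n M →ₗ[A] E) = {p | p ∈ associatedPrimes A M ∧ ringKrullDim (A ⧸ p) = n} := by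
  have hfin : ∀ i : ℕ, Module.Finite A (LocCoh.H (IsLocalRing.maximalIdeal A) i M →ₗ[A] E) := fun i => by
    haveI := LocCohLib.isArtinian_H (R := A) i M
    exact (S0317.result A E f hf _).1
  haveI := hfin n
  obtain ⟨h1, h2⟩ := CanonModLib.associatedPrimes_dual_top hf M hn
  refine ⟨fun i => ⟨hfin i, ?_⟩, h2, h1⟩
  haveI := hfin i
  exact CanonModLib.supportDim_dual_H_le hf M i

end Groth.Agent.S2936
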