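import Groth.Statements.S2937
import Groth.Agent.Lib.PurityDesc25.Main

set_option autoImplicit false
universe u
open CategoryTheory AlgebraicGeometry
open Pi1

namespace Groth.Agent.S2937

/-- Let X be a locally Noetherian scheme and U an open subscheme such that O_X → i_*O_U is an
isomorphism, equivalently, every local ring of X at a point outside U has depth ≥ 2. Let f : X_1 → X
be faithfully flat and quasi-compact. If the pair (X_1, X_1 − f⁻¹U) is pure (restriction of finite
étale covers from every open V to V ∩ f⁻¹U is an equivalence), then so is (X, X − U). -/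
theorem result (X X₁ : Scheme.{u}) [IsLocallyNoetherian X] (U : X.Opens) (hU : ∀ x : X, x ∉ U → (2 : ℕ∞) ≤ LocCoh.depth (X.presheaf.stalk x) (X.presheaf.stalk x)) (f : X₁ ⟶ X) [Flat f] [Surjective f] [QuasiCompact f] (h : SGA2.IsPurePair X₁ (f ⁻¹ᵁ U)) : SGA2.IsPurePair X U := by
  exact Groth.Agent.PurityDesc25.isPurePair_descends U hU f
    (Groth.Agent.PurityDesc25.extendsOpens_of_isPurePair h)

end Groth.Agent.S2937
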