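import Groth.Statements.S2938
import Groth.Agent.Lib.Depth.BaseChange
-- import your own Groth.Agent.* helpers here

set_option autoImplicit false
universe u
open scoped TensorProduct
open LocCoh

namespace Groth.Agent.S2938

/-- Suppose A and B are Noetherian rings with a ring map A → B, I is an ideal of A and M is a finitely
generated A-module. When B is A-flat, depth_{IB}(B ⊗_A M) ≥ depth_I(M); when B is faithfully flat
over A, the two depths are equal. -/
theorem result (A B : Type u) [CommRing A] [CommRing B] [Algebra A B] [IsNoetherianRing A] [IsNoetherianRing B] (I : Ideal A) (M : Type u) [AddCommGroup M] [Module A M] [Module.Finite A M] : (Module.Flat A B → LocCoh.idealDepth I M ≤ LocCoh.idealDepth (I.map (algebraMap A B)) (B ⊗[A] M)) ∧ (Module.FaithfullyFlat A B → LocCoh.idealDepth (I.map (algebraMap A B)) (B ⊗[A] M) = LocCoh.idealDepth I M) := by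
  exact ⟨fun _ => Groth.Agent.DepthLib.idealDepth_le_baseChange,
    fun _ => Groth.Agent.DepthLib.idealDepth_baseChange_eq⟩

end Groth.Agent.S2938
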