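import Groth.Statements.S2939
import Groth.Agent.Lib.PureGr25.Main
-- import your own Groth.Agent.* helpers here

set_option autoImplicit false
universe u
open Pi1

namespace Groth.Agent.S2939

/-- Let A be a Noetherian local ring and J a proper ideal such that A/J has depth ≥ 3 and each
J^n/J^{n+1} is a free A/J-module (gr_J(A) free over A/J). If every finite étale cover of the
punctured spectrum of A/J extends to Spec(A/J), then A has depth ≥ 3 and every finite étale cover of
the punctured spectrum of A extends to Spec A (so restriction to the punctured spectrum is an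
equivalence: A is pure). -/
theorem result (A : Type u) [CommRing A] [IsLocalRing A] [IsNoetherianRing A] (J : Ideal A) (hJ : J ≠ ⊤) [IsLocalRing (A ⧸ J)] (hd : (3 : ℕ∞) ≤ LocCoh.depth (A ⧸ J) (A ⧸ J)) (hgr : ∀ n : ℕ, Module.Free (A ⧸ J) (↥(J ^ n) ⧸ (J • (⊤ : Submodule A ↥(J ^ n))))) (h0 : FEt.PurityHolds (A ⧸ J)) : (3 : ℕ∞) ≤ LocCoh.depth A A ∧ FEt.PurityHolds A := by
  exact Groth.Agent.PureGr25.purityHolds_of_grFree J hd (Groth.Agent.ParaGr27.grFree_of_free hgr) h0

end Groth.Agent.S2939
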