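import Groth.Statements.S2942
import Groth.Agent.Lib.EnriquesSeveri11.Proper
import Groth.Agent.Lib.CurveCoh17.IdealPow
import Groth.Agent.Lib.SecDiv18.Basic

set_option autoImplicit false
set_option backward.isDefEq.respectTransparency false
universe u
open CategoryTheory AlgebraicGeometry
open Lef

namespace Groth.Agent.S2942

/-- Over a field and for the structure sheaf. Let k be a field and X a proper k-scheme; let 𝓘 be a
quasi-coherent ideal sheaf whose ideal module is invertible with an ample inverse L (so 𝓘 defines an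
effective Cartier divisor Y with O_X(Y) = L ample), and suppose that at every closed point x the
local ring O_{X,x} has depth greater than n. Then there is m₀ such that for all m ≥ m₀ the map
H^i(X, O_X) → H^i(X, O_X/𝓘^{m+1}) induced by the quotient map is bijective for every i < n and
injective for i = n. -/
theorem result (k : Type u) [Field k] (X : Scheme.{u}) [X.Over (Spec (CommRingCat.of k))] [IsProper (X ↘ (Spec (CommRingCat.of k)))] (𝓘 : X.IdealSheafData) (L : X.Modules) (hL : ClSub.IsInverseOf L (ClSub.idealMod 𝓘)) (hamp : CohB1.IsAmple L) (n : ℕ) (hdepth : ∀ x : X, IsClosed ({x} : Set X) → (n : ℕ∞) < LocCoh.depth (X.presheaf.stalk x) (X.presheaf.stalk x)) : ∃ m₀ : ℕ, ∀ m : ℕ, m₀ ≤ m → (∀ i : ℕ, i < n → Function.Bijective (Sheaf.H.map ((SheafOfModules.toSheaf X.ringCatSheaf).map (ClSub.toSubscheme (𝓘 ^ (m + 1)))) i)) ∧ Function.Injective (Sheaf.H.map ((SheafOfModules.toSheaf X.ringCatSheaf).map (ClSub.toSubscheme (𝓘 ^ (m + 1)))) n) := by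
  classical
  obtain ⟨e⟩ := hL
  haveI : AlgebraicGeometry.IsNoetherian X :=
    Groth.Agent.CohFound.isNoetherian_of_isProper (X ↘ Spec (CommRingCat.of k))
  have hLi : PicF.IsInvertible L := (Groth.Agent.Amp.isAmple_iff.1 hamp).1
  have hI : PicF.IsInvertible (ClSub.idealMod 𝓘) :=
    Groth.Agent.M2.isInvertible_of_tensor_iso hLi (Groth.Agent.M2.tensorComm _ L ≪≫ e)
  have hO : Coh.IsCoh (Coh.structureModule X) :=
    Groth.Agent.Snapper.isCoh_of_isInvertible (PicLoc.isInvertible_structureModule X)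
  obtain ⟨m₀, hm⟩ := Groth.Agent.ES11.exists_forall_subsingleton_inverse k hamp e hO n fun x hx => by
    obtain ⟨eO⟩ := Groth.Agent.CurveCoh17.nonempty_stalk_equiv
      ((Groth.Agent.M2.isInvertible_iff_isFinLocFreeOfRank_one _).1
        (PicLoc.isInvertible_structureModule X)) x
    refine lt_of_lt_of_eq (hdepth x hx) (Eq.symm ?_)
    exact Groth.Agent.DepthLib.idealDepth_congr
      (eO.trans (LinearEquiv.funUnique (Fin 1) (X.presheaf.stalk x) (X.presheaf.stalk x)))
  refine ⟨m₀, fun m hm' => ?_⟩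
  have hS := Groth.Agent.M2.shortExact_idealMod (I := 𝓘 ^ (m + 1))
  obtain ⟨ep⟩ := Groth.Agent.CurveCoh17.nonempty_idealMod_pow
    (Groth.Agent.SecDiv.isEffCartierIdeal_of_isInvertible 𝓘 hI) (m + 1)
  have hsub : ∀ i : ℕ, i ≤ n → Subsingleton (Coh.HH X (ClSub.idealMod (𝓘 ^ (m + 1))) i) := fun i hi =>
    Groth.Agent.CMReg18.van_iso k (Groth.Agent.M2.tensorLUnit _ ≪≫ ep) (hm (m + 1) (by omega) i hi)
  have hinj : ∀ i : ℕ, i ≤ n →
      Function.Injective (Groth.Agent.CurveCoh17.hmap k (ClSub.toSubscheme (𝓘 ^ (m + 1))) i) := fun i hi => by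
    rw [injective_iff_map_eq_zero]
    intro x hx
    obtain ⟨y, rfl⟩ := (Groth.Agent.CurveCoh17.exact_hmap_hmap k hS i x).1 hx
    haveI := hsub i hi
    exact (congrArg _ (Subsingleton.elim y 0)).trans (map_zero _)
  refine ⟨fun i hi => ⟨hinj i hi.le, fun z => ?_⟩, hinj n le_rfl⟩
  haveI := hsub (i + 1) hi
  exact (Groth.Agent.CurveCoh17.exact_hmap_hdelta k hS i z).1 (Subsingleton.elim _ _)

end Groth.Agent.S2942
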