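import Groth.Statements.S2945
import Groth.Agent.Lib.FormalColim28.LefPunct
import Groth.Agent.Lib.RegLoc.GlobalDim

set_option autoImplicit false
set_option linter.style.haveILetI false
set_option backward.isDefEq.respectTransparency.types false
universe u
open CategoryTheory CategoryTheory.Limits AlgebraicGeometry
open Lef

namespace Groth.Agent.S2945

/-- Let A be a Noetherian local ring which is a quotient of a regular local ring, t an A-regular element
of the maximal ideal such that A is complete for the t-adic topology, X the punctured spectrum of A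
and Y = V(t) ∩ X. If A_p has depth ≥ 2 for every prime p with dim A/p = 1 (the closed points of X),
then Lef(X, Y) holds: for every open U ⊇ Y of X and every finite locally free O_U-module D, Hom(D,
O_U) → lim_n Hom(D, O_U/t^{n+1}O_U) is bijective. -/
theorem result (R : Type u) [CommRing R] [IsRegularLocalRing R] (A : Type u) [CommRing A] [IsLocalRing A] [IsNoetherianRing A] (π : R →+* A) (hπ : Function.Surjective π) (t : A) (ht : t ∈ IsLocalRing.maximalIdeal A) (hreg : IsSMulRegular A t) [IsAdicComplete (Ideal.span {t}) A] (hdepth : ∀ p : PrimeSpectrum A, ringKrullDim (A ⧸ p.asIdeal) = 1 → (2 : ℕ∞) ≤ LocCoh.depth (Localization.AtPrime p.asIdeal) (Localization.AtPrime p.asIdeal)) : Lef.LefCond (↑(FEt.puncturedSpec A) : Scheme.{u}) ((Spec.map (CommRingCat.ofHom (Ideal.Quotient.mk (Ideal.span {t})))).ker.comap (FEt.puncturedSpec A).ι) := by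
  letI : Algebra R A := π.toAlgebra
  haveI : Module.Finite R A := Module.Finite.of_surjective (Algebra.linearMap R A) hπ
  haveI : IsRegularRing R := { isRegularLocalRing_localization := fun p hp => Groth.Agent.RegLoc.isRegularLocalRing_localization R p }
  obtain ⟨ω, hω⟩ := Groth.Agent.GorOpen27.exists_isDualizing_of_regular R
    (finiteRingKrullDim_iff_ne_bot_and_top.1 (inferInstance : FiniteRingKrullDim R)).2.lt_top
  have hdc : ∃ η : Dual.D A, Dual.IsDualizing A η := Groth.Agent.DlzFin27.exists_isDualizing_of_finiteType hω
  have h := Groth.Agent.FormalColim28.lefCond_punctured ht hdepth hdc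
  have hU : (FEt.puncturedSpec A : (Spec (CommRingCat.of A)).Opens) =
      LocCoh.puncturedOpen A (IsLocalRing.maximalIdeal A) := by
    refine TopologicalSpace.Opens.ext (Set.ext fun x => ?_)
    refine Iff.trans ?_ (Groth.Agent.FormalCohH7.mem_punctured_iff (IsLocalRing.maximalIdeal A) x).symm
    exact ⟨fun hx hle => hx (PrimeSpectrum.ext (le_antisymm (IsLocalRing.le_maximalIdeal (x : PrimeSpectrum A).isPrime.ne_top) hle)),
      fun hx e => hx (le_of_eq (congrArg PrimeSpectrum.asIdeal e).symm)⟩
  rw [hU]
  exact h

end Groth.Agent.S2945
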