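import Groth.Statements.S2946
import Groth.Agent.Lib.LefFEt11.Idem
import Groth.Agent.Lib.ResDesc11.Basic
-- import your own Groth.Agent.* helpers here

set_option autoImplicit false
set_option backward.isDefEq.respectTransparency false
universe u
open CategoryTheory CategoryTheory.Limits AlgebraicGeometry
open Lef

namespace Groth.Agent.S2946

/-- Let X be a locally Noetherian scheme and 𝓘 a quasi-coherent ideal sheaf with Y = V(𝓘), and suppose
Lef(X, Y) holds (this prelude's Lef.LefCond). Then for every open U of X containing Y, Y is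
connected if and only if U is connected. -/
theorem result (X : Scheme.{u}) [IsLocallyNoetherian X] (𝓘 : X.IdealSheafData) (h : Lef.LefCond X 𝓘) (U : X.Opens) (hU : (𝓘.support : Set X) ⊆ (U : Set X)) : ConnectedSpace (𝓘.support : Set X) ↔ ConnectedSpace U := by
  classical
  let J : (U : Scheme.{u}).IdealSheafData := 𝓘.comap U.ι
  haveI : IsLocallyNoetherian (U : Scheme.{u}) := inferInstance
  have hI : ∀ D : (U : Scheme.{u}).Modules, FlatMod.IsFinLocFree D → Lef.HomToFormalBijective J D := h U hU
  have hO := hI _ (Groth.Agent.ResDesc11.isFinLocFree_structureModule _)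
  have hne := Groth.Agent.LefFEt11.inter_range_nonempty J hO
  have hrange : Set.range J.subschemeι = U.ι ⁻¹' (𝓘.support : Set X) := by
    rw [Scheme.IdealSheafData.range_subschemeι, Scheme.IdealSheafData.support_comap]
    rfl
  have hext : ∀ C : Set ↥(pullback (𝟙 (U : Scheme.{u})) J.subschemeι), IsClopen C →
      ∃ D : Set ↥(U : Scheme.{u}), IsClopen D ∧ pullback.fst (𝟙 (U : Scheme.{u})) J.subschemeι ⁻¹' D = C :=
    fun C hC => Groth.Agent.LefFEt11.exists_clopen (𝟙 (U : Scheme.{u})) J ⟨inferInstance, inferInstance⟩ hI C hC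
  let φ : (pullback (𝟙 (U : Scheme.{u})) J.subschemeι : Scheme.{u}) → (𝓘.support : Set X) := fun w =>
    ⟨U.ι (pullback.fst (𝟙 (U : Scheme.{u})) J.subschemeι w), by
      have : pullback.fst (𝟙 (U : Scheme.{u})) J.subschemeι w ∈ Set.range J.subschemeι := by
        refine ⟨pullback.snd (𝟙 (U : Scheme.{u})) J.subschemeι w, ?_⟩
        rw [← Scheme.Hom.comp_apply, ← pullback.condition, Category.comp_id]
      rw [hrange] at this
      exact this⟩
  have hφc : Continuous φ := (U.ι.continuous.comp (pullback.fst (𝟙 (U : Scheme.{u})) J.subschemeι).continuous).subtype_mk _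
  have hφs : Function.Surjective φ := by
    rintro ⟨x, hx⟩
    obtain ⟨z, hz⟩ : (⟨x, hU hx⟩ : (U : Scheme.{u})) ∈ Set.range J.subschemeι := hrange.ge hx
    obtain ⟨w, hw⟩ : (⟨x, hU hx⟩ : (U : Scheme.{u})) ∈ Set.range (pullback.fst (𝟙 (U : Scheme.{u})) J.subschemeι) := by
      rw [Scheme.Pullback.range_fst]
      exact ⟨z, hz⟩
    exact ⟨w, Subtype.ext (congrArg U.ι hw)⟩
  have hψ : Continuous (fun y : (𝓘.support : Set X) => (⟨y.1, hU y.2⟩ : U)) := continuous_subtype_val.subtype_mk _
  constructor
  · intro hc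
    haveI : Nonempty (U : Scheme.{u}) := hc.toNonempty.map fun y => (⟨y.1, hU y.2⟩ : U)
    haveI : PreconnectedSpace (U : Scheme.{u}) := by
      refine preconnectedSpace_iff_clopen.2 fun T hT => ?_
      by_contra hcon
      rw [not_or] at hcon
      obtain ⟨hT0, hT1⟩ := hcon
      obtain ⟨a, ha, ha'⟩ := hne T hT (Set.nonempty_iff_ne_empty.2 hT0)
      obtain ⟨b, hb, hb'⟩ := hne Tᶜ hT.compl (Set.nonempty_iff_ne_empty.2 fun e => hT1 (by simpa using congrArg compl e))
      rw [hrange] at ha' hb'
      rcases isClopen_iff.1 (hT.preimage hψ) with e | e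
      · exact (Set.eq_empty_iff_forall_notMem.1 e ⟨a.1, ha'⟩) ha
      · exact hb (Set.eq_univ_iff_forall.1 e ⟨b.1, hb'⟩)
    exact { toPreconnectedSpace := inferInstance, toNonempty := inferInstance }
  · intro hc
    haveI : ConnectedSpace (U : Scheme.{u}) := hc
    obtain ⟨u⟩ := hc.toNonempty
    obtain ⟨a, -, ha'⟩ := hne Set.univ isClopen_univ ⟨u, trivial⟩
    rw [hrange] at ha'
    haveI : Nonempty (𝓘.support : Set X) := ⟨⟨a.1, ha'⟩⟩
    haveI : PreconnectedSpace (𝓘.support : Set X) := by
      refine preconnectedSpace_iff_clopen.2 fun C hC => ?_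
      obtain ⟨D, hD, hDC⟩ := hext (φ ⁻¹' C) (hC.preimage hφc)
      rcases isClopen_iff.1 hD with rfl | rfl
      · left
        refine Set.eq_empty_iff_forall_notMem.2 fun y hy => ?_
        obtain ⟨w, rfl⟩ := hφs y
        exact (Set.preimage_empty ▸ hDC).ge hy
      · right
        refine Set.eq_univ_iff_forall.2 fun y => ?_
        obtain ⟨w, rfl⟩ := hφs y
        exact (Set.preimage_univ ▸ hDC).le (Set.mem_univ w)
    exact { toPreconnectedSpace := inferInstance, toNonempty := inferInstance }

end Groth.Agent.S2946
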