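import Groth.Statements.S2947
import Groth.Agent.Lib.LefFEt11.Idem
import Groth.Agent.Lib.KFlat.FinLocFree

set_option autoImplicit false
universe u
open CategoryTheory CategoryTheory.Limits AlgebraicGeometry
open Lef

namespace Groth.Agent.S2947

/-- Let X be a locally Noetherian scheme, 𝓘 a quasi-coherent ideal sheaf with Y = V(𝓘), and suppose
Lef(X, Y) holds. Then for every open U ⊇ Y the restriction functor from finite étale covers of U to
finite étale covers of the closed subscheme Y ∩ U defined by 𝓘|_U is fully faithful. (For Y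
connected this says that π₁(Y) → π₁(U) is surjective.) -/
theorem result (X : Scheme.{u}) [IsLocallyNoetherian X] (𝓘 : X.IdealSheafData) (h : Lef.LefCond X 𝓘) (U : X.Opens) (hU : (𝓘.support : Set X) ⊆ (U : Set X)) : (FEt.restrict (𝓘.comap U.ι).subschemeι).Full ∧ (FEt.restrict (𝓘.comap U.ι).subschemeι).Faithful := by
  haveI : IsLocallyNoetherian (U : Scheme.{u}) := isLocallyNoetherian_of_isOpenImmersion U.ι
  have hO : FlatMod.IsFinLocFree (Coh.structureModule (U : Scheme.{u})) :=
    Groth.Agent.M2.isFinLocFree_of_isInvertible (PicLoc.isInvertible_structureModule _)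
  exact Groth.Agent.LefFEt11.fullyFaithful_restrict (𝓘.comap U.ι) (h U hU) (h U hU _ hO)

end Groth.Agent.S2947
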