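import Groth.Statements.S2948
import Groth.Agent.Lib.FormalColim28.PicLef

set_option autoImplicit false
set_option linter.style.haveILetI false
set_option backward.isDefEq.respectTransparency.types false
universe u
open CategoryTheory CategoryTheory.Limits AlgebraicGeometry
open Lef

namespace Groth.Agent.S2948

/-- Let X be a locally Noetherian scheme, 𝓘 a quasi-coherent ideal sheaf with Y = V(𝓘), and p ≥ 0;
suppose Lef(X, Y) holds and H^1(X, 𝓘^{n+1}/𝓘^{n+2}) = 0 for every n ≥ p (these are the groups H^1(Y,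
P_n) of the source, P_n being supported on Y). Then for every open U ⊇ Y and every n ≥ p, if two
invertible O_U-modules have isomorphic pullbacks to the closed subscheme Y_n ∩ U = V(𝓘^{n+1}) ∩ U,
they are isomorphic. -/
theorem result (X : Scheme.{u}) [IsLocallyNoetherian X] (𝓘 : X.IdealSheafData) (h : Lef.LefCond X 𝓘) (p : ℕ) (hH1 : ∀ n : ℕ, p ≤ n → Subsingleton (Coh.HH X (kernel (Lef.quotMap (Lef.pow_succ_le 𝓘 n))) 1)) (U : X.Opens) (hU : (𝓘.support : Set X) ⊆ (U : Set X)) (n : ℕ) (hn : p ≤ n) (L L' : (U : Scheme.{u}).Modules) (hL : PicF.IsInvertible L) (hL' : PicF.IsInvertible L') (e : Nonempty ((Scheme.Modules.pullback (((𝓘.comap U.ι) ^ (n + 1)).subschemeι)).obj L ≅ (Scheme.Modules.pullback (((𝓘.comap U.ι) ^ (n + 1)).subschemeι)).obj L')) : Nonempty (L ≅ L') := by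
  obtain ⟨e⟩ := e
  letI := Groth.Agent.M2.law (U : Scheme.{u})
  letI := Groth.Agent.M2.law ((𝓘.comap U.ι) ^ (n + 1)).subscheme
  have hcomap : ∀ m : ℕ, (𝓘.comap U.ι) ^ (m + 1) = (𝓘 ^ (m + 1)).comap U.ι := fun m =>
    (BlowUpExist.comap_pow 𝓘 U.ι (m + 1)).symm
  have hsupp : ∀ m : ℕ, ((𝓘 ^ (m + 1)).support : Set X) ⊆ U := fun m => by
    rw [Scheme.IdealSheafData.support_pow_succ]; exact hU
  have hstep : ∀ m, n ≤ m →
      Formal2.PicPullbackInjective (Scheme.IdealSheafData.inclusion (Lef.pow_succ_le (𝓘.comap U.ι) m)) ∧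
        Function.Surjective (Scheme.IdealSheafData.inclusion (Lef.pow_succ_le (𝓘.comap U.ι) m)).appTop := fun m hm =>
    PicLef28.restrict_step U (hsupp (m + 1)) (hsupp m) (hcomap (m + 1)) (hcomap m) (Lef.pow_succ_le 𝓘 m) _
      (by
        rw [← pow_add, show m + 1 + (m + 1) = m + 2 + m by omega, pow_add]
        exact mul_le_of_le_one_right' le_top)
      (hH1 m (hn.trans hm))
  let i := ((𝓘.comap U.ι) ^ (n + 1)).subschemeι
  have hi : PicGrp.PullMul i := M2.pullMul _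
  let c : PicLoc.PicSet (U : Scheme.{u}) := PicGrp.cls L hL * (PicGrp.cls L' hL')⁻¹
  have hc : PicGrp.pullHom i hi c = 1 := by
    rw [map_mul, map_inv, mul_inv_eq_one, PicGrp.pullHom_cls, PicGrp.pullHom_cls, PicGrp.cls_eq_cls_iff]
    exact ⟨e⟩
  obtain ⟨M, hM, hMc⟩ := PicGrp.exists_eq_cls c
  obtain ⟨M', hM', hMc'⟩ := PicGrp.exists_eq_cls c⁻¹
  obtain ⟨ε⟩ := (PicGrp.cls_mul_cls_eq_one_iff hM' hM).1 (by rw [← hMc, ← hMc', inv_mul_cancel])
  obtain ⟨e₁⟩ := (PicGrp.cls_eq_one_iff _).1 ((PicGrp.pullHom_cls i hi M hM).symm.trans (by rw [← hMc, hc]))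
  obtain ⟨e₂⟩ := (PicGrp.cls_eq_one_iff _).1 ((PicGrp.pullHom_cls i hi M' hM').symm.trans (by
    rw [← hMc', map_inv, hc, inv_one]))
  obtain ⟨e₃⟩ := PicLef28.nonempty_iso_of_formal (h U hU) n hstep hM hM' ε e₁ e₂
  have hc1 : c = 1 := hMc.trans ((PicGrp.cls_eq_one_iff _).2 ⟨e₃⟩)
  exact (PicGrp.cls_eq_cls_iff hL hL').1 (mul_inv_eq_one.1 hc1)

end Groth.Agent.S2948
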