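import Groth.Statements.S2951
import Groth.Agent.Lib.ParaGr27.Geom
import Mathlib.RingTheory.Flat.Basic
import Mathlib.LinearAlgebra.TensorProduct.Tower
import Mathlib.LinearAlgebra.TensorProduct.Quotient
-- import your own Groth.Agent.* helpers here

set_option autoImplicit false
universe u
open AlgebraicGeometry
open ParaF

namespace Groth.Agent.S2951

/-- Parafactoriality part, for the local rings. Let A → B be a flat local homomorphism of Noetherian
local rings and B₀ = B/m_A B. If B₀ has depth ≥ 3 and every invertible module on the punctured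
spectrum of B₀ is isomorphic to the structure sheaf, then every invertible module on the punctured
spectrum of B is isomorphic to the structure sheaf. -/
theorem result (A B : Type u) [CommRing A] [CommRing B] [IsLocalRing A] [IsLocalRing B] [IsNoetherianRing A] [IsNoetherianRing B] [Algebra A B] [IsLocalHom (algebraMap A B)] [Module.Flat A B] [IsLocalRing (B ⧸ (IsLocalRing.maximalIdeal A).map (algebraMap A B))] (hd : (3 : ℕ∞) ≤ LocCoh.depth (B ⧸ (IsLocalRing.maximalIdeal A).map (algebraMap A B)) (B ⧸ (IsLocalRing.maximalIdeal A).map (algebraMap A B))) (h0 : ∀ L : (↑(FEt.puncturedSpec (B ⧸ (IsLocalRing.maximalIdeal A).map (algebraMap A B))) : Scheme.{u}).Modules, PicF.IsInvertible L → Nonempty (L ≅ Coh.structureModule _)) (L : (↑(FEt.puncturedSpec B) : Scheme.{u}).Modules) (hL : PicF.IsInvertible L) : Nonempty (L ≅ Coh.structureModule _) := by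
  open TensorProduct IsLocalRing in
  let m := maximalIdeal A
  let J := m.map (algebraMap A B)
  have hJ : J ≠ ⊤ := ne_top_of_le_ne_top (maximalIdeal.isMaximal B).ne_top
    (Ideal.map_le_iff_le_comap.2 fun a ha h => ha (IsUnit.of_map (algebraMap A B) a h))
  refine (Groth.Agent.ParaGr27.picTrivial_and_depth J hJ hd (Groth.Agent.ParaGr27.grFree_of_free fun n => ?_) h0).2 L hL
  let K := m ^ n
  let μ : TensorProduct A B K →ₗ[B] B :=
    (TensorProduct.AlgebraTensorModule.rid A B B).toLinearMap ∘ₗ TensorProduct.AlgebraTensorModule.map (LinearMap.id : B →ₗ[B] B) K.subtype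
  have hμ : ∀ (b : B) (x : K), μ (b ⊗ₜ[A] x) = (x : A) • b := fun b x => rfl
  have hinj : Function.Injective μ :=
    (TensorProduct.AlgebraTensorModule.rid A B B).injective.comp
      (Module.Flat.lTensor_preserves_injective_linearMap K.subtype K.injective_subtype)
  have hrange : LinearMap.range μ = J ^ n := by
    rw [← Ideal.map_pow]
    apply le_antisymm
    · rintro _ ⟨t, rfl⟩
      induction t using TensorProduct.induction_on with
      | zero => rw [map_zero]; exact zero_mem _
      | tmul b x =>
        rw [hμ, Algebra.smul_def]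
        exact Ideal.mul_mem_right _ _ (Ideal.mem_map_of_mem _ x.2)
      | add a b ha hb => rw [map_add]; exact add_mem ha hb
    · rw [Ideal.map, Ideal.span_le]
      rintro _ ⟨x, hx, rfl⟩
      exact ⟨(1 : B) ⊗ₜ[A] ⟨x, hx⟩, by rw [hμ, Algebra.smul_def, mul_one]⟩
  let e : TensorProduct A B K ≃ₗ[B] ↥(J ^ n) := (LinearEquiv.ofInjective μ hinj).trans (LinearEquiv.ofEq _ _ hrange)
  letI : Algebra (A ⧸ m) (B ⧸ J) := (Ideal.quotientMap J (algebraMap A B) Ideal.le_comap_map).toAlgebra
  haveI : IsScalarTower A (A ⧸ m) (B ⧸ J) := IsScalarTower.of_algebraMap_eq fun a => rfl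
  letI : Field (A ⧸ m) := Ideal.Quotient.field m
  haveI : Module.Free (A ⧸ m) (TensorProduct A (A ⧸ m) K) := Module.Free.of_divisionRing _ _
  let E := (TensorProduct.quotTensorEquivQuotSMul ↥(J ^ n) J).symm.extendScalarsOfSurjective
      (S := B ⧸ J) (Ideal.Quotient.mk_surjective (I := J))
  let F : TensorProduct (A ⧸ m) (B ⧸ J) (TensorProduct A (A ⧸ m) K) ≃ₗ[B ⧸ J] (↥(J ^ n) ⧸ (J • (⊤ : Submodule B ↥(J ^ n)))) :=
    (TensorProduct.AlgebraTensorModule.cancelBaseChange A (A ⧸ m) (B ⧸ J) (B ⧸ J) K).trans
      ((TensorProduct.AlgebraTensorModule.cancelBaseChange A B (B ⧸ J) (B ⧸ J) K).symm.trans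
        ((TensorProduct.AlgebraTensorModule.congr (LinearEquiv.refl (B ⧸ J) (B ⧸ J)) e).trans E.symm))
  exact Module.Free.of_equiv F

end Groth.Agent.S2951
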