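import Groth.Statements.S2954
import Groth.Agent.Lib.RootD.Transfer
-- import your own Groth.Agent.* helpers here

set_option autoImplicit false
open RootPairing
open scoped Pointwise
universe u
open RootD

namespace Groth.Agent.S2954

/-- For a finite crystallographic reduced root pairing (over a domain of characteristic zero), the Weyl
group acts freely and transitively on bases: for two bases b, b' there is exactly one element of the
Weyl group carrying the set of simple roots of b onto that of b'. -/
theorem result {ι R M N : Type*} [CommRing R] [CharZero R] [IsDomain R] [AddCommGroup M] [Module R M]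
    [AddCommGroup N] [Module R N] (P : RootPairing ι R M N) [Finite ι] [P.IsCrystallographic] [P.IsReduced]
    (b b' : P.Base) :
    ∃! g : P.weylGroup, (fun i : ι => (g : P.Aut) • i) '' (b.support : Set ι) = (b'.support : Set ι) := by
  obtain ⟨φ, -, hφ⟩ := Groth.Agent.RootDLib.exists_modelEquiv (P := P)
  obtain ⟨g, hg, he⟩ := Groth.Agent.RootDLib.exists_weyl_image_simple
    (Groth.Agent.RootDLib.intModel_isSimpleSys b) (Groth.Agent.RootDLib.intModel_isSimpleSys b')
  have hgi : ∀ i : ι, ((φ.symm ⟨g, hg⟩ : P.weylGroup) : P.Aut) • i = g • i := fun i => by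
    rw [← hφ, MulEquiv.apply_symm_apply]
  refine ⟨φ.symm ⟨g, hg⟩, ?_, fun w hw => ?_⟩
  · simp only [hgi]; exact he
  · refine Subtype.ext (eq_of_inv_mul_eq_one
      (Groth.Agent.RootDLib.eq_one_of_isPos b (mul_mem (inv_mem w.2) (φ.symm ⟨g, hg⟩).2) fun i hi => ?_))
    obtain ⟨a, ha, hai⟩ := (he.trans hw.symm).le ⟨i, hi, rfl⟩
    simp only at hai
    rw [mul_smul, hgi, ← hai, inv_smul_smul]
    exact RootPairing.Base.isPos_of_mem_support ha

end Groth.Agent.S2954
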