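import Groth.Statements.S2955

-- import your own Groth.Agent.* helpers here

set_option autoImplicit false
open RootPairing
open scoped Pointwise Classical
universe u
open RootD

namespace Groth.Agent.S2955

/-- Let P be a finite crystallographic reduced root pairing over a domain of characteristic zero, with a
base b, and write 2ρ for the sum of the positive roots with respect to b. Then for every simple root
β (an index in the support of b) the reflection in β sends 2ρ to 2ρ − 2β (equivalently, the coroot
of β pairs to 1 with ρ; only the reflection identity is asserted). -/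
theorem result {ι R M N : Type*} [CommRing R] [CharZero R] [IsDomain R] [AddCommGroup M] [Module R M]
    [AddCommGroup N] [Module R N] (P : RootPairing ι R M N) [Finite ι] [P.IsCrystallographic] [P.IsReduced]
    [Fintype ι] (b : P.Base) (j : ι) (hj : j ∈ b.support) :
    P.reflection j (∑ i, if b.IsPos i then P.root i else 0) =
      (∑ i, if b.IsPos i then P.root i else 0) - (2 : R) • P.root j := by
  classical
  rw [map_sum]
  have hjj : P.reflectionPerm j (P.reflectionPerm j j) = j := P.reflectionPerm_self j j
  have hperm : ∀ i, i ≠ j → i ≠ P.reflectionPerm j j →
      (b.IsPos (P.reflectionPerm j i) ↔ b.IsPos i) := by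
    intro i hij hij'
    refine ⟨fun h => ?_, fun h => h.reflectionPerm hj hij⟩
    have hne : P.reflectionPerm j i ≠ j := fun e => hij' ((P.reflectionPerm_self j i).symm.trans (congrArg _ e))
    simpa using h.reflectionPerm hj hne
  have hj1 : b.IsPos j := RootPairing.Base.isPos_of_mem_support hj
  have hj2 : ¬ b.IsPos (P.reflectionPerm j j) := fun h =>
    (RootPairing.Base.IsPos.neg_iff_not b j).1 h hj1
  have key : ∀ i, P.reflection j (if b.IsPos i then P.root i else 0) =
      (if b.IsPos (P.reflectionPerm j i) then P.root (P.reflectionPerm j i) else 0)
        + (if i = j then -P.root j else 0) + (if i = P.reflectionPerm j j then -P.root j else 0) := by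
    intro i
    have hne : P.reflectionPerm j j ≠ j := fun e => hj2 (e.symm ▸ hj1)
    rcases eq_or_ne i j with rfl | hij
    · simp [hj1, hj2, hne.symm]
    rcases eq_or_ne i (P.reflectionPerm j j) with rfl | hij'
    · rw [if_neg hj2, map_zero, hjj, if_pos hj1, if_neg hne, if_pos rfl]; simp
    · simp [hperm i hij hij', hij, hij', apply_ite (P.reflection j)]
  simp only [key, Finset.sum_add_distrib, Finset.sum_ite_eq', Finset.mem_univ, if_true]
  rw [Equiv.sum_comp (P.reflectionPerm j) (fun i => if b.IsPos i then P.root i else 0), two_smul,
    sub_add_eq_sub_sub, sub_eq_add_neg, sub_eq_add_neg]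

end Groth.Agent.S2955
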