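import Groth.Statements.S2956
import Groth.Agent.Lib.TitsDecH28.Coxeter

set_option autoImplicit false
open RootPairing
open scoped Pointwise
universe u
open RootD

namespace Groth.Agent.S2956

/-- For a finite crystallographic reduced root pairing with a base b: the Weyl group is presented by the
simple reflections s_i (i in the base) subject to the relations (s_i s_j)^{n_{ij}} = 1, where n_{ij}
is the order of s_i s_j; i.e. it carries a Coxeter system whose simple reflections are the s_i and
whose Coxeter matrix is (n_{ij}). -/
theorem result {ι R M N : Type*} [CommRing R] [CharZero R] [IsDomain R] [AddCommGroup M] [Module R M]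
    [AddCommGroup N] [Module R N] (P : RootPairing ι R M N) [Finite ι] [P.IsCrystallographic] [P.IsReduced]
    (b : P.Base) :
    ∃ (C : CoxeterMatrix ↥b.support) (cs : CoxeterSystem C P.weylGroup),
      (∀ j : ↥b.support, ((cs.simple j : P.weylGroup) : P.Aut) = Equiv.reflection P (j : ι)) ∧
      ∀ j k : ↥b.support, C.M j k = orderOf (Equiv.reflection P (j : ι) * Equiv.reflection P (k : ι)) := by
  exact Groth.Agent.TitsDecH28.exists_coxeterSystem b

end Groth.Agent.S2956
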