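import Groth.Statements.S3002
import Groth.Agent.S3003
import Groth.Agent.Lib.RankOne21.Reductive
import Groth.Agent.Lib.RankOne21.SmoothNhd
import Groth.Agent.Lib.RankOne21.Transfer
import Groth.Agent.Lib.MTRigid29.MonoClosedGlobal
import Groth.Agent.Lib.MTDesc21.MaxMT

set_option linter.style.haveILetI false
set_option maxHeartbeats 1600000
set_option backward.isDefEq.respectTransparency.types false
-- import your own Groth.Agent.* helpers here

set_option autoImplicit false
universe u
open CategoryTheory MonoidalCategory CartesianMonoidalCategory MonObj GrpObj AlgebraicGeometry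
open Red

namespace Groth.Agent.S3002

/-- The reductivity assertion of (i) and the split maximal torus of (ii): Let S be a scheme, G an
S-group scheme which is affine, of finite presentation and flat over S (the source assumes flatness
only at the unit section over s₀), with connected fibres, and let s₀ ∈ S be a point whose geometric
fibre G_{s̄₀} is reductive. Then there are an affine open neighbourhood u : Spec A → S of s₀ over
which G is reductive, and an étale surjective morphism v : Spec B → Spec A such that the base change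
of G to Spec B has a maximal torus which is split (isomorphic to D(ℤ^r) for some r). (The source
also gives constancy of the reductive and semisimple ranks over U and finiteness of the Weyl group
over S'.) -/
theorem result (S : Scheme.{u}) (G : Over S) [GrpObj G] [IsAffineHom G.hom] [LocallyOfFinitePresentation G.hom] [Flat G.hom] (hconn : ∀ s : S, _root_.IsConnected (G.hom.base ⁻¹' {s})) (s₀ : S) (h₀ : Red.IsReductiveOver (AlgebraicClosure (S.residueField s₀)) (Red.geomFibre s₀ G)) : ∃ (A : Type u) (_ : CommRing A) (u : Spec (CommRingCat.of A) ⟶ S), IsOpenImmersion u ∧ s₀ ∈ Set.range u.base ∧ Red.IsReductive (Red.bc u G) ∧ ∃ (B : Type u) (_ : CommRing B) (v : Spec (CommRingCat.of B) ⟶ Spec (CommRingCat.of A)), Etale v ∧ Surjective v ∧ ∃ (T : Over (Spec (CommRingCat.of B))) (_ : GrpObj T) (i : T ⟶ Red.bc (v ≫ u) G), Red.IsMaximalTorus i ∧ ∃ r : ℕ, Red.IsSplitTorusWith (Fin r → ℤ) T := by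
  classical
  obtain ⟨U₁, hs₁, hU₁⟩ := RankOne21.exists_nhd_smooth G s₀ h₀.2.1
  obtain ⟨_, ⟨W, hW, rfl⟩, hs₀W, hWU⟩ :=
    S.isBasis_affineOpens.exists_subset_of_mem_open (show s₀ ∈ (U₁ : Set S) from hs₁) U₁.2
  let w : Spec Γ(S, W) ⟶ S := hW.fromSpec
  have hwr : Set.range w = (W : Set S) := hW.range_fromSpec
  obtain ⟨y₀, hy₀⟩ : ∃ y, w y = s₀ := by rw [← Set.mem_range, hwr]; exact hs₀W
  let G₁ := Red.bc w G
  haveI : IsAffineHom G₁.hom := inferInstanceAs (IsAffineHom (Limits.pullback.snd G.hom w))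
  haveI : Flat G₁.hom := inferInstanceAs (Flat (Limits.pullback.snd G.hom w))
  haveI : LocallyOfFinitePresentation G₁.hom :=
    inferInstanceAs (LocallyOfFinitePresentation (Limits.pullback.snd G.hom w))
  haveI : Smooth G₁.hom := CentMT21.smooth_of_flat_of_geom G₁ fun y =>
    RankOne21.smooth_geomFibre_bc w G y (hU₁ _ (hWU (hwr ▸ Set.mem_range_self y)))
  have hconn₁ := CartanNhd21.isConnected_fibre_bc hconn w
  have hred₁ : Red.IsReductiveOver (AlgebraicClosure ((Spec Γ(S, W)).residueField y₀)) (Red.geomFibre y₀ G₁) :=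
    (RankOne21.isReductiveOver_geomFibre_iff w G y₀).2 (by rw [hy₀]; exact h₀)
  obtain ⟨B, _, v, hv, ⟨b, hb⟩, T, _, i, hi, r, hsplit⟩ := S3003.result (Spec Γ(S, W)) G₁ hconn₁ y₀
    fun T₀ _ i₀ hi₀ X g hg => by
      haveI := hi₀.1
      haveI : Smooth (Red.geomFibre y₀ G₁).hom := inferInstanceAs (Smooth (Limits.pullback.snd G₁.hom (Red.geomPt y₀)))
      haveI : IsAffine (Red.geomFibre y₀ G₁).left := hred₁.1
      obtain ⟨Cz, _, cz, hcz, -, -⟩ := TorusCentr19.exists_centralizer'
        (MTRigid29.isMT_of_ft (TorPts21.isMultTypeFT_of_isTorus hi₀.2.2.1)) ‹Smooth (Red.geomFibre y₀ G₁).hom› i₀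
      obtain ⟨l, hl⟩ := TorPts21.exists_lift_cartan_reductive hred₁ (TorPts21.isMaxTorus_of_isMaximalTorus hi₀) hcz
      obtain ⟨z, hz⟩ := (hcz.2.2 X g).2 hg
      exact ⟨z ≫ l, by rw [Category.assoc, hl, hz]⟩
  obtain ⟨C⟩ := DiagGL.nonempty_chars hsplit
  let G₂ := Red.bc v G₁
  haveI := hi.1
  haveI := hi.2.1
  haveI : IsAffineHom G₂.hom := inferInstanceAs (IsAffineHom (Limits.pullback.snd G₁.hom v))
  haveI : Smooth G₂.hom := inferInstanceAs (Smooth (Limits.pullback.snd G₁.hom v))
  haveI : IsClosedImmersion i.left :=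
    MTRigid29.isClosedImmersion_of_mono (TorPts21.isMultTypeFT_of_isTorus hi.2.2.1) ‹IsAffineHom G₂.hom› i
  have hb' : v b = y₀ := hb
  have hred₂ : Red.IsReductiveOver (AlgebraicClosure ((Spec (CommRingCat.of B)).residueField b)) (Red.geomFibre b G₂) :=
    (RankOne21.isReductiveOver_geomFibre_iff v G₁ b).2 (by rw [hb']; exact hred₁)
  obtain ⟨U₂, hU₂o, hbU₂, hU₂⟩ := RankOne21.exists_nhd_reductive (CartanNhd21.isConnected_fibre_bc hconn₁ v) i C b
    hred₂ (MTExt21.isMaximalTorus_bc hi (Red.geomPt b))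
  obtain ⟨_, ⟨A, hA, rfl⟩, hy₀A, hAO⟩ := (Spec Γ(S, W)).isBasis_affineOpens.exists_subset_of_mem_open
    (show y₀ ∈ v '' U₂ from ⟨b, hbU₂, hb'⟩) (v.isOpenMap U₂ hU₂o)
  let u₂ : Spec Γ(Spec Γ(S, W), A) ⟶ Spec Γ(S, W) := hA.fromSpec
  have hu₂r : Set.range u₂ = (A : Set (Spec Γ(S, W))) := hA.range_fromSpec
  haveI : IsOpenImmersion (u₂ ≫ w) := inferInstance
  refine ⟨Γ(Spec Γ(S, W), A), inferInstance, u₂ ≫ w, inferInstance, ?_, ⟨?_, ?_, fun a => ?_⟩, ?_⟩
  · obtain ⟨a₀, ha₀⟩ : y₀ ∈ Set.range u₂ := by rw [hu₂r]; exact hy₀A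
    exact ⟨a₀, by rw [← hy₀, ← ha₀]; rfl⟩
  · exact inferInstanceAs (IsAffineHom (Limits.pullback.snd G.hom (u₂ ≫ w)))
  · haveI : Smooth (Limits.pullback.snd (Limits.pullback.snd G.hom w) u₂) :=
      MorphismProperty.pullback_snd _ _ ‹Smooth G₁.hom›
    show Smooth (Limits.pullback.snd G.hom (u₂ ≫ w))
    rw [show Limits.pullback.snd G.hom (u₂ ≫ w) = (Limits.pullbackLeftPullbackSndIso G.hom w u₂).inv ≫
      Limits.pullback.snd (Limits.pullback.snd G.hom w) u₂ by simp]
    infer_instance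
  · obtain ⟨b', hb'U, hb'a⟩ := hAO (hu₂r ▸ Set.mem_range_self a)
    refine (RankOne21.isReductiveOver_geomFibre_iff (u₂ ≫ w) G a).2 ?_
    have h1 := (RankOne21.isReductiveOver_geomFibre_iff w G (v b')).1
      ((RankOne21.isReductiveOver_geomFibre_iff v G₁ b').1 (hU₂ b' hb'U).1)
    rw [show (u₂ ≫ w) a = w (v b') by rw [hb'a]; rfl]
    exact h1
  · -- an affine étale cover inside the neighbourhood
    have hV : IsOpen (U₂ ∩ v ⁻¹' (A : Set (Spec Γ(S, W)))) := hU₂o.inter (A.2.preimage v.continuous)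
    let gs : Type u := {g : B // (PrimeSpectrum.basicOpen g : Set (PrimeSpectrum B)) ⊆ U₂ ∩ v ⁻¹' (A : Set (Spec Γ(S, W)))}
    have hcov : (A : Set (Spec Γ(S, W))) ⊆ ⋃ g : gs, v '' (PrimeSpectrum.basicOpen g.1 : Set (PrimeSpectrum B)) := by
      intro x hx
      obtain ⟨p, hp, rfl⟩ := hAO hx
      obtain ⟨_, ⟨g, rfl⟩, hpg, hg⟩ :=
        PrimeSpectrum.isTopologicalBasis_basic_opens.exists_subset_of_mem_open
          (show p ∈ U₂ ∩ v ⁻¹' (A : Set (Spec Γ(S, W))) from ⟨hp, hx⟩) hV
      exact Set.mem_iUnion.2 ⟨⟨g, hg⟩, p, hpg, rfl⟩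
    obtain ⟨F, hF⟩ := hA.isCompact.elim_finite_subcover
      (fun g : gs => v '' (PrimeSpectrum.basicOpen g.1 : Set (PrimeSpectrum B)))
      (fun g => v.isOpenMap _ (PrimeSpectrum.basicOpen g.1).2) hcov
    let B' : Type u := ∀ g : {g // g ∈ F}, Localization.Away g.1.1
    haveI : ∀ g : {g // g ∈ F}, Algebra.Etale B (Localization.Away g.1.1) := fun g =>
      Algebra.Etale.of_isLocalizationAway g.1.1
    let q : Spec (CommRingCat.of B') ⟶ Spec (CommRingCat.of B) := Spec.map (CommRingCat.ofHom (algebraMap B B'))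
    haveI : Etale q := (HasRingHomProperty.Spec_iff (P := @Etale)).2 (RingHom.etale_algebraMap.2 inferInstance)
    have hrange : Set.range (q ≫ v) ⊆ Set.range u₂ := by
      rintro _ ⟨x, rfl⟩
      rw [hu₂r]
      obtain ⟨g, hg⟩ : ∃ g : {g // g ∈ F}, algebraMap B B' g.1.1 ∉ x.asIdeal := by
        by_contra! hall
        refine x.2.ne_top ((Ideal.eq_top_iff_one _).2 ?_)
        have hsingle : ∀ g : {g // g ∈ F}, (Pi.single g 1 : B') ∈ x.asIdeal := fun g => by
          have h1 : (Pi.single g 1 : B') = Pi.single g (IsLocalization.Away.invSelf g.1.1) * algebraMap B B' g.1.1 := by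
            funext g'
            rw [Pi.mul_apply]
            by_cases hgg : g' = g
            · subst hgg
              rw [Pi.single_eq_same, Pi.single_eq_same, mul_comm]
              exact (IsLocalization.Away.mul_invSelf _).symm
            · rw [Pi.single_eq_of_ne hgg, Pi.single_eq_of_ne hgg, MulZeroClass.zero_mul]
          rw [h1]
          exact Ideal.mul_mem_left _ _ (hall g)
        rw [show (1 : B') = ∑ g, Pi.single g 1 from (Finset.univ_sum_single (1 : B')).symm]
        exact Ideal.sum_mem _ fun g _ => hsingle g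
      exact (g.1.2 (show q x ∈ PrimeSpectrum.basicOpen g.1.1 from hg)).2
    let v' : Spec (CommRingCat.of B') ⟶ Spec Γ(Spec Γ(S, W), A) := IsOpenImmersion.lift u₂ (q ≫ v) hrange
    have hfac : v' ≫ u₂ = q ≫ v := IsOpenImmersion.lift_fac u₂ (q ≫ v) hrange
    haveI : Etale (v' ≫ u₂) := by rw [hfac]; infer_instance
    haveI : Etale v' := Etale.of_comp v' u₂
    refine ⟨B', inferInstance, v', ‹_›, ⟨fun a => ?_⟩, ?_⟩
    · have ha : u₂ a ∈ (A : Set (Spec Γ(S, W))) := hu₂r ▸ Set.mem_range_self a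
      obtain ⟨g, hgF, p, hpg, hpa⟩ := by simpa only [Set.mem_iUnion] using hF ha
      have hpr : (p : PrimeSpectrum B) ∈ Set.range (PrimeSpectrum.comap (algebraMap B (Localization.Away g.1))) :=
        (PrimeSpectrum.localization_away_comap_range (Localization.Away g.1) g.1).ge hpg
      obtain ⟨p', rfl⟩ := hpr
      refine ⟨PrimeSpectrum.comap (Pi.evalRingHom (fun g : {g // g ∈ F} => Localization.Away g.1.1) ⟨g, hgF⟩) p',
        u₂.isOpenEmbedding.injective ?_⟩
      rw [← Scheme.Hom.comp_apply, hfac, Scheme.Hom.comp_apply, ← hpa]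
      rfl
    · let e₁ := SpreadSub19.bcComp w v (c := v ≫ w) rfl G
      let e₂ := SpreadSub19.bcComp (v ≫ w) q (c := v' ≫ u₂ ≫ w)
        (by rw [← Category.assoc, ← hfac, Category.assoc]) G
      haveI : IsMonHom e₁.hom := SpreadSub19.bcComp_isMonHom w v rfl G
      haveI : IsMonHom e₂.hom := SpreadSub19.bcComp_isMonHom (v ≫ w) q _ G
      let e := (Over.pullback q).mapIso e₁ ≪≫ e₂
      haveI : IsMonHom e.hom := by
        haveI := MTRigid29.isMonHom_map e₁.hom q
        show IsMonHom ((Over.pullback q).map e₁.hom ≫ e₂.hom)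
        infer_instance
      haveI : LocallyOfFiniteType G₂.hom := inferInstance
      haveI : IsMonHom e.symm.hom := inferInstanceAs (IsMonHom e.inv)
      haveI : IsMonHom (Iso.refl (Red.bc q T)).hom := inferInstanceAs (IsMonHom (𝟙 (Red.bc q T)))
      exact ⟨Red.bc q T, inferInstance, (Over.pullback q).map i ≫ e.hom,
        MTDesc21.isMaximalTorus_transfer (MTExt21.isMaximalTorus_bc hi q) (Iso.refl _) e.symm _
          (by simp) (TorusHom19.isTorus_bc hi.2.2.1 q), r, TorPts21.isSplitTorusWith_of_chars (C.baseChange q T)⟩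

end Groth.Agent.S3002
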