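import Groth.Statements.S2960
import Groth.Agent.S3002
import Groth.Agent.Lib.RankOne21.BorelFibre

set_option linter.style.haveILetI false
set_option maxHeartbeats 1600000
set_option backward.isDefEq.respectTransparency.types false
-- import your own Groth.Agent.* helpers here

set_option autoImplicit false
open CategoryTheory MonoidalCategory CartesianMonoidalCategory MonObj GrpObj AlgebraicGeometry
universe u
open RedX

namespace Groth.Agent.S2960

/-- Let G be a reductive group scheme over a scheme S. Then locally for the étale topology on S, G has a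
Borel subgroup: every point of S is in the image of an étale morphism U → S over which the
pulled-back group has a Borel subgroup (a smooth closed subgroup scheme with Borel geometric
fibres). The classical input over an algebraically closed field — that a pinned reductive group has
a Borel subgroup containing the torus of the pinning and through which the root morphisms of all
positive roots factor — is not proved here but carried as the first hypothesis. -/
theorem result
    (hNormAlgClosed : ∀ (K : Type u) [Field K] [IsAlgClosed K] (H : Over (Spec (CommRingCat.of K))) [GrpObj H]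
      (D : Red.Pinning H), ∃ (B : Over (Spec (CommRingCat.of K))) (_ : GrpObj B) (b : B ⟶ H),
        Red.IsBorel b ∧ (∃ t : D.T ⟶ B, t ≫ b = D.i) ∧
        ∀ a, D.P.root a ∈ AddSubmonoid.closure (D.P.root '' (D.base.support : Set D.idx)) →
          ∃ v : Red.Ga (Spec (CommRingCat.of K)) ⟶ B, v ≫ b = D.u a)
    {S : Scheme.{u}} (G : Over S) [GrpObj G] (hG : Red.IsReductive G) (s : S) :
    ∃ (U : Scheme.{u}) (f : U ⟶ S) (_ : Etale f), s ∈ Set.range f.base ∧
      ∃ (B : Over U) (_ : GrpObj B) (b : B ⟶ (Over.pullback f).obj G), Red.IsBorel b := by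
  classical
  obtain ⟨hGa, hGs, hGf⟩ := id hG
  haveI := hGa
  haveI := hGs
  have hconn : ∀ x : S, _root_.IsConnected (G.hom.base ⁻¹' {x}) := fun x => by
    let K := AlgebraicClosure (S.residueField x)
    haveI : ConnectedSpace (Red.geomFibre x G).left := (hGf x).2.2.1
    let p : (Red.geomFibre x G).left ⟶ G.left := Limits.pullback.fst G.hom (Red.geomPt x)
    have hr : Set.range p = G.hom.base ⁻¹' {x} := by
      show Set.range (Limits.pullback.fst G.hom (Red.geomPt x)) = _
      rw [Scheme.Pullback.range_fst]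
      refine congrArg _ (Set.eq_singleton_iff_unique_mem.2 ⟨?_, ?_⟩)
      · obtain ⟨z⟩ : Nonempty (Spec (CommRingCat.of K)) := inferInstance
        exact ⟨_, CentMT21.geomPt_apply x⟩
      · rintro _ ⟨z, rfl⟩
        obtain rfl : z = IsLocalRing.closedPoint K := Subsingleton.elim (α := PrimeSpectrum K) _ _
        exact CentMT21.geomPt_apply x
    rw [← hr]
    exact isConnected_range p.continuous
  obtain ⟨A, _, u, hu, hs, hred, B, _, v, hv, hvs, T, _, i, hi, r, hsplit⟩ :=
    S3002.result S G hconn s (hGf s)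
  haveI := hu
  haveI := hv
  haveI := hvs
  obtain ⟨a₀, ha₀⟩ := hs
  obtain ⟨b₀, hb₀⟩ := (hvs.surj) a₀
  refine ⟨Spec (CommRingCat.of B), v ≫ u, inferInstance, ⟨b₀, by rw [← ha₀, ← hb₀]; rfl⟩, ?_⟩
  let GR := Red.bc (v ≫ u) G
  haveI := hi.1
  haveI := hi.2.1
  haveI : IsAffineHom GR.hom := inferInstanceAs (IsAffineHom (Limits.pullback.snd G.hom (v ≫ u)))
  haveI : Smooth GR.hom := inferInstanceAs (Smooth (Limits.pullback.snd G.hom (v ≫ u)))
  haveI : IsAffine GR.left := isAffine_of_isAffineHom GR.hom
  obtain ⟨C⟩ := DiagGL.nonempty_chars hsplit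
  obtain ⟨ρ, hρ⟩ := RankOne21.exists_expansion i C
  letI : Algebra B Γ(GR.left, ⊤) := (DiagGL.alg GR).toAlgebra
  haveI : Algebra.FiniteType B Γ(GR.left, ⊤) := by
    haveI : LocallyOfFiniteType (Spec.map (CommRingCat.ofHom (DiagGL.alg GR))) := by
      have h : GR.left.isoSpec.inv ≫ GR.hom = Spec.map (CommRingCat.ofHom (DiagGL.alg GR)) := by
        rw [Iso.inv_comp_eq, Scheme.isoSpec_hom, DiagGL.can_aux]
      rw [← h]
      infer_instance
    exact RingHom.finiteType_algebraMap.1 ((HasRingHomProperty.Spec_iff (P := @LocallyOfFiniteType)).1 ‹_›)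
  obtain ⟨gens, hgens⟩ := (inferInstance : Algebra.FiniteType B Γ(GR.left, ⊤)).out
  let D₀ : Finset (Fin r → ℤ) := insert 0 (gens.biUnion fun F => (ρ F).coeff.support)
  obtain ⟨b, hb⟩ := TorPts21.exists_pairing_ne_zero
    (((D₀ ×ˢ D₀).image fun p => p.1 - p.2).filter fun e => e ≠ 0) fun e he => (Finset.mem_filter.1 he).2
  have hsub : ∀ F ∈ gens, ∀ e ∈ insert 0 (ρ F).coeff.support, e ∈ D₀ := fun F hF e he => by
    rcases Finset.mem_insert.1 he with rfl | he
    · exact Finset.mem_insert_self _ _
    · exact Finset.mem_insert_of_mem (Finset.mem_biUnion.2 ⟨F, hF, he⟩)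
  have hb' : ∀ F ∈ gens, ∀ F' ∈ gens, ∀ e ∈ insert 0 (ρ F).coeff.support, ∀ e' ∈ insert 0 (ρ F').coeff.support,
      TorPts21.pairing e b = TorPts21.pairing e' b → e = e' := fun F hF F' hF' e he e' he' h => by
    by_contra hne
    refine hb (e - e') (Finset.mem_filter.2 ⟨Finset.mem_image.2
      ⟨(e, e'), Finset.mem_product.2 ⟨hsub F hF e he, hsub F' hF' e' he'⟩, rfl⟩, sub_ne_zero.2 hne⟩) ?_
    simp only [TorPts21.pairing, Pi.sub_apply, sub_mul, Finset.sum_sub_distrib] at h ⊢
    rw [h, sub_self]
  obtain ⟨Φ, hΦ0, hΦ⟩ := RankOne21.exists_grade_aux C b i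
  obtain ⟨Bo, _, iB, hm, hcl, hsm, hB⟩ := RankOne21.exists_attrRel hΦ0 hΦ
  haveI := hm
  haveI := hcl
  haveI := hsm
  refine ⟨Bo, inferInstance, iB, hm, hcl, hsm, fun t => ?_⟩
  exact RankOne21.isBorelOver_attr C i b hρ hgens hb' hΦ0 hΦ iB hB (Red.geomPt t)
    ((RankOne21.isReductiveOver_geomFibre_iff (v ≫ u) G t).2 (hGf _))
    (TorPts21.isMaxTorus_of_isMaximalTorus (MTExt21.isMaximalTorus_bc hi (Red.geomPt t)))

end Groth.Agent.S2960
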