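import Groth.Statements.S2964
import Groth.Agent.Lib.LieNil20.Main

set_option autoImplicit false
universe u
open scoped TensorProduct
open SGA3t2b

namespace Groth.Agent.S2964

/-- (i) ⇒ (iii): let d be a Lie algebra over a commutative ring A which is finitely presented as an
A-module. If for every prime p of A the fibre Lie algebra κ(p) ⊗_A d is nilpotent, then d is
nilpotent (its lower central series vanishes, i.e. there is N with ad(x_1) ⋯ ad(x_N) = 0 for all
x_i); and the same conclusion holds if ad(x) is nilpotent for every x in d. -/
theorem result {A : Type u} [CommRing A] {L : Type u} [LieRing L] [LieAlgebra A L]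
    [Module.FinitePresentation A L] :
    ((∀ p : PrimeSpectrum A, LieRing.IsNilpotent (p.asIdeal.ResidueField ⊗[A] L)) → LieRing.IsNilpotent L) ∧
    ((∀ x : L, IsNilpotent (LieAlgebra.ad A L x)) → LieRing.IsNilpotent L) := by
  exact ⟨Groth.Agent.LieNil20.isNilpotent_of_fibres, Groth.Agent.LieNil20.isNilpotent_of_forall_ad⟩


end Groth.Agent.S2964
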