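import Groth.Statements.S2965
import Mathlib.RingTheory.Polynomial.Basic

set_option autoImplicit false
universe u
open SGA3t2b

namespace Groth.Agent.S2965

open Polynomial in
/-- Implication (iv) ⇒ (i) (global form, finite free module): let u be an endomorphism of a finite free
module M over a commutative ring A whose characteristic polynomial is X^r · Q with Q(0) invertible.
Then M is the direct sum of two u-stable submodules M', M'' such that u is nilpotent on M' and
bijective on M''. -/
theorem result {A : Type u} [CommRing A] {M : Type u} [AddCommGroup M] [Module A M]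
    [Module.Free A M] [Module.Finite A M] (u : M →ₗ[A] M) (r : ℕ) (Q : A[X]) (hQ : IsUnit (Q.coeff 0))
    (h : u.charpoly = X ^ r * Q) :
    ∃ M' M'' : Submodule A M, IsCompl M' M'' ∧ (∀ x ∈ M', u x ∈ M') ∧ (∀ x ∈ M'', u x ∈ M'') ∧
      (∃ n : ℕ, ∀ x ∈ M', (u ^ n) x = 0) ∧ Set.BijOn u M'' M'' := by
  have hcop : IsCoprime (X ^ r) Q := by
    refine IsCoprime.pow_left ?_
    obtain ⟨q, hq⟩ := X_dvd_iff.2 (show (Q - C (Q.coeff 0)).coeff 0 = 0 by simp)
    obtain ⟨v, hv⟩ := hQ
    refine ⟨-(C (↑v⁻¹ : A) * q), C (↑v⁻¹ : A), ?_⟩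
    linear_combination (C (↑v⁻¹ : A)) * hq + (by rw [← C_mul, ← hv, Units.inv_mul, C_1] : C (↑v⁻¹ : A) * C (Q.coeff 0) = 1)
  let K₁ := LinearMap.ker (aeval u (X ^ r : A[X]))
  let K₂ := LinearMap.ker (aeval u Q)
  have hstab : ∀ (F : A[X]) (x : M), aeval u F x = 0 → aeval u F (u x) = 0 := by
    intro F x hx
    have : aeval u F * aeval u (X : A[X]) = aeval u (X : A[X]) * aeval u F := by
      rw [← map_mul, ← map_mul, mul_comm]
    rw [aeval_X] at this
    exact (LinearMap.congr_fun this x).trans (by show u (aeval u F x) = 0; rw [hx, map_zero])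
  obtain ⟨a, c, hac⟩ := hcop
  have hc : IsCompl K₁ K₂ := by
    refine ⟨Polynomial.disjoint_ker_aeval_of_isCoprime _ ⟨a, c, hac⟩, codisjoint_iff.2 ?_⟩
    rw [Polynomial.sup_ker_aeval_eq_ker_aeval_mul_of_coprime _ ⟨a, c, hac⟩, ← h,
      LinearMap.aeval_self_charpoly, LinearMap.ker_zero]
  refine ⟨K₁, K₂, hc, fun x hx => hstab _ x hx, fun x hx => hstab _ x hx, ⟨r, fun x hx => ?_⟩,
    fun x hx => hstab _ x hx, fun x hx y hy hxy => ?_, fun y hy => ?_⟩
  · have := LinearMap.mem_ker.1 hx
    rwa [map_pow, aeval_X] at this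
  · have hxK : x - y ∈ K₁ ⊓ K₂ := by
      refine ⟨LinearMap.mem_ker.2 ?_, K₂.sub_mem hx hy⟩
      rcases Nat.eq_zero_or_pos r with hr | hr
      · have := LinearMap.congr_fun (congrArg (aeval u) hac) (x - y)
        simp only [map_add, map_mul, map_one, LinearMap.add_apply, Module.End.mul_apply,
          show aeval u Q (x - y) = 0 from LinearMap.mem_ker.1 (K₂.sub_mem hx hy), map_zero, add_zero,
          Module.End.one_apply] at this
        subst hr
        obtain ⟨q, hq⟩ := X_dvd_iff.2 (show (Q - C (Q.coeff 0)).coeff 0 = 0 by simp)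
        have h0 : u (x - y) = 0 := by rw [map_sub, hxy, sub_self]
        have hQ0 : aeval u Q (x - y) = 0 := LinearMap.mem_ker.1 (K₂.sub_mem hx hy)
        rw [show Q = q * X + C (Q.coeff 0) by linear_combination hq, map_add, map_mul, aeval_X, aeval_C,
          LinearMap.add_apply, Module.End.mul_apply, h0, map_zero, zero_add,
          Module.algebraMap_end_apply] at hQ0
        rw [pow_zero, map_one, Module.End.one_apply]
        exact hQ.smul_eq_zero.1 hQ0
      · rw [map_pow, aeval_X, ← Nat.sub_add_cancel hr, pow_succ, Module.End.mul_apply, map_sub, hxy,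
          sub_self, map_zero]
    rw [hc.disjoint.eq_bot] at hxK
    exact sub_eq_zero.1 hxK
  · obtain ⟨q, hq⟩ := X_dvd_iff.2 (show (Q - C (Q.coeff 0)).coeff 0 = 0 by simp)
    obtain ⟨v, hv⟩ := hQ
    refine ⟨aeval u (-(C (↑v⁻¹ : A) * q)) y, ?_, ?_⟩
    · show aeval u Q _ = 0
      rw [← Module.End.mul_apply, ← map_mul, mul_comm, map_mul, Module.End.mul_apply,
        LinearMap.mem_ker.1 hy, map_zero]
    · have e : (X : A[X]) * (-(C (↑v⁻¹ : A) * q)) = 1 - C (↑v⁻¹ : A) * Q := by
        linear_combination (C (↑v⁻¹ : A)) * hq + (by rw [← C_mul, ← hv, Units.inv_mul, C_1] : C (↑v⁻¹ : A) * C (Q.coeff 0) = 1)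
      have := LinearMap.congr_fun (congrArg (aeval u) e) y
      simp only [map_mul, map_sub, map_one, aeval_X, LinearMap.sub_apply, Module.End.mul_apply,
        LinearMap.mem_ker.1 hy, map_zero, sub_zero, Module.End.one_apply] at this
      exact this

end Groth.Agent.S2965
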