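import Groth.Statements.S2966
import Groth.Agent.S7966
import Groth.Agent.Lib.Unip23.BaseChange
import Groth.Agent.Lib.CoalgH23.Filtration

set_option autoImplicit false
universe u
open scoped TensorProduct
open SGA3t2b

namespace Groth.Agent.S2966

/-- In Hopf-algebra form (with unipotent taken in the representation-theoretic sense: affine and every
non-zero finite-dimensional representation has a non-zero fixed vector): let k be a field, A_M the
coordinate Hopf algebra of an affine k-group M of finite type which is of multiplicative type in the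
sense that it becomes diagonalisable over an algebraic closure of k, and A_U that of a unipotent
affine k-group U of finite type. Then (i) every homomorphism M -> U and (ii) every homomorphism U ->
M is trivial: every bialgebra map A_U -> A_M, resp. A_M -> A_U, factors through the counit. -/
theorem result {k : Type u} [Field k] {AM AU : Type u} [CommRing AM] [CommRing AU]
    [HopfAlgebra k AM] [HopfAlgebra k AU] [Algebra.FiniteType k AM] [Algebra.FiniteType k AU]
    (hM : HopfRep.IsDiagonalizable (AlgebraicClosure k) (AlgebraicClosure k ⊗[k] AM)) (hU : HopfRep.IsUnipotent k AU) :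
    (∀ φ : AU →ₐc[k] AM, SGA3t2b.IsTrivialBialgHom φ) ∧ (∀ ψ : AM →ₐc[k] AU, SGA3t2b.IsTrivialBialgHom ψ) := by
  constructor
  · intro φ a
    let Φ := Bialgebra.TensorProduct.map (BialgHom.id k k) φ
    have h := S7966.result k AM AU hM hU k Φ ((1 : k) ⊗ₜ[k] a)
    have h' := congrArg (TensorProduct.lid k AM) h
    simpa [Φ, Algebra.TensorProduct.algebraMap_apply, Algebra.algebraMap_eq_smul_one,
      Algebra.TensorProduct.one_def] using h'
  · intro ψ
    let K := AlgebraicClosure k
    have hU' : HopfRep.IsUnipotent K (K ⊗[k] AU) := by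
      refine Unip23.isUnipotent_baseChange fun x => ?_
      obtain ⟨n, hn⟩ := Unip23.exists_mem_fixFil hU x
      exact ⟨n, (Unip23.genFil_eq_fixFil (k := k) (A := AU) n).symm ▸ hn⟩
    let Ψ : K ⊗[k] AM →ₐc[K] K ⊗[k] AU := Bialgebra.TensorProduct.map (BialgHom.id K K) ψ
    have hone : ∀ g : K ⊗[k] AU, IsGroupLikeElem K g → g = 1 := by
      intro g hg
      by_contra hne
      obtain ⟨φ, hφ⟩ : ∃ φ : K ⊗[k] AU →ₗ[K] K, φ (g - 1) = 1 := by
        obtain ⟨φ₀, hφ₀, -⟩ := Submodule.exists_le_ker_of_notMem
          (show g - 1 ∉ (⊥ : Submodule K (K ⊗[k] AU)) from fun h =>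
            hne (sub_eq_zero.1 ((Submodule.mem_bot K).1 h)))
        exact ⟨(φ₀ (g - 1))⁻¹ • φ₀, by rw [LinearMap.smul_apply, smul_eq_mul, inv_mul_cancel₀ hφ₀]⟩
      have key : ∀ n, g ∈ CoalgH23.fixFil K (K ⊗[k] AU) (K ⊗[k] AU) n → False := by
        intro n
        induction n with
        | zero =>
          intro h
          have h1 := hg.counit_eq_one
          rw [(Submodule.mem_bot K).1 h, map_zero] at h1
          exact zero_ne_one h1
        | succ n ih =>
          intro h
          refine ih ?_
          have h2 := CoalgH23.slice_mem_of_mem_range φ _ (CoalgH23.mem_fixFil_succ.1 h)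
          rw [show HopfRep.Comod.coact (k := K) (A := K ⊗[k] AU) g = g ⊗ₜ[K] g from hg.comul_eq_tmul_self,
            ← TensorProduct.tmul_sub, CoalgH23.slice_tmul, hφ, one_smul] at h2
          exact h2
      obtain ⟨n, hn⟩ := Unip23.exists_mem_fixFil hU' g
      exact key n hn
    have heq : ∀ y : K ⊗[k] AM, Ψ y = algebraMap K _ (CoalgebraStruct.counit (R := K) y) := by
      intro y
      have hy : y ∈ Submodule.span K {a : K ⊗[k] AM | IsGroupLikeElem K a} := by
        rw [show Submodule.span K {a : K ⊗[k] AM | IsGroupLikeElem K a} = ⊤ from hM]; trivial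
      induction hy using Submodule.span_induction with
      | mem g hg => rw [hone _ (hg.map Ψ), hg.counit_eq_one, map_one]
      | zero => simp
      | add a b _ _ ha hb => simp only [map_add, ha, hb]
      | smul c a _ ha => rw [map_smul, map_smul, ha, smul_eq_mul, map_mul, Algebra.smul_def]
    intro a
    apply Module.FaithfullyFlat.tensorProduct_mk_injective (A := k) (B := K) AU
    have h := heq ((1 : K) ⊗ₜ[k] a)
    simpa [Ψ, Algebra.TensorProduct.algebraMap_apply, Algebra.algebraMap_eq_smul_one,
      TensorProduct.tmul_smul, Algebra.TensorProduct.one_def] using h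

end Groth.Agent.S2966
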