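import Groth.Statements.S2967


set_option autoImplicit false
universe u
open SGA3t2b

namespace Groth.Agent.S2967

/-- A commutative p-Lie algebra over a field k of characteristic p is recorded as a k-vector space g
together with its p-th power map φ, which is additive and Frobenius-semilinear. Let g be
finite-dimensional and non-zero, and assume every element of g is killed by some iterate of φ (g is
unipotent). Then the k-subspace of g spanned by the image φ(g) is a proper subspace. -/
theorem result {k : Type u} [Field k] (p : ℕ) [Fact p.Prime] [CharP k p]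
    {V : Type u} [AddCommGroup V] [Module k V] [FiniteDimensional k V] [Nontrivial V]
    (φ : V →ₛₗ[frobenius k p] V) (hφ : ∀ x : V, ∃ n : ℕ, φ^[n] x = 0) :
    Submodule.span k (Set.range φ) ≠ ⊤ := by
  intro htop
  let B := Module.Free.chooseBasis k V
  haveI : Fintype (Module.Free.ChooseBasisIndex k V) := Fintype.ofFinite _
  choose n hn using fun i => hφ (B i)
  let N := Finset.univ.sup n
  have hz : ∀ m : ℕ, φ^[m] (0 : V) = 0 := fun m => Function.iterate_fixed (map_zero φ) m
  have hadd : ∀ (m : ℕ) (x y : V), φ^[m] (x + y) = φ^[m] x + φ^[m] y := by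
    intro m
    induction m with
    | zero => simp
    | succ m ih => intro x y; simp only [Function.iterate_succ_apply, map_add, ih]
  have hsmul : ∀ (m : ℕ) (c : k) (x : V), φ^[m] (c • x) = c ^ p ^ m • φ^[m] x := by
    intro m
    induction m with
    | zero => simp
    | succ m ih =>
      intro c x
      simp only [Function.iterate_succ_apply, LinearMap.map_smulₛₗ, ih, frobenius_def, ← pow_mul]
      rw [pow_succ']
  have hstep : ∀ m : ℕ, Submodule.span k (Set.range (φ^[m])) = ⊤ := by
    intro m
    induction m with
    | zero => simp
    | succ m ih =>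
      rw [eq_top_iff, ← ih, Submodule.span_le]
      rintro _ ⟨x, rfl⟩
      have hx : x ∈ Submodule.span k (Set.range φ) := htop ▸ Submodule.mem_top
      induction hx using Submodule.span_induction with
      | mem y hy =>
        obtain ⟨z, rfl⟩ := hy
        rw [← Function.iterate_succ_apply]
        exact Submodule.subset_span ⟨z, rfl⟩
      | zero => rw [hz]; exact Submodule.zero_mem _
      | add y z _ _ hy hz' => rw [hadd]; exact Submodule.add_mem _ hy hz'
      | smul c y _ hy => rw [hsmul]; exact Submodule.smul_mem _ _ hy
  have hall : ∀ x : V, φ^[N] x = 0 := by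
    intro x
    induction B.mem_span x using Submodule.span_induction with
    | mem y hy =>
      obtain ⟨i, rfl⟩ := hy
      obtain ⟨d, hd⟩ := Nat.exists_eq_add_of_le (Finset.le_sup (f := n) (Finset.mem_univ i))
      show φ^[Finset.univ.sup n] (B i) = 0
      rw [hd, Nat.add_comm, Function.iterate_add_apply, hn, hz]
    | zero => exact hz N
    | add y z _ _ hy hz' => rw [hadd, hy, hz', add_zero]
    | smul c y _ hy => rw [hsmul, hy, smul_zero]
  have hN := hstep N
  rw [show Set.range (φ^[N]) = {0} from Set.ext fun y =>
    ⟨fun ⟨x, hx⟩ => by rw [← hx, hall]; rfl, fun hy => ⟨0, by rw [hz]; exact (Set.mem_singleton_iff.1 hy).symm⟩⟩,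
    Submodule.span_singleton_eq_bot.2 rfl] at hN
  exact bot_ne_top hN

end Groth.Agent.S2967
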