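import Groth.Statements.S2968
import Groth.Agent.Lib.Unip23.Points
import Groth.Agent.Lib.PCurv29.Basic

set_option autoImplicit false
universe u
open SGA3t2b

namespace Groth.Agent.S2968

/-- In characteristic p, in Hopf-algebra form (with unipotent in the representation-theoretic sense
`HopfRep.IsUnipotent`): let k be a field of characteristic p > 0 and A a finite-type commutative
Hopf algebra over k (the coordinate Hopf algebra of an affine algebraic k-group) which is unipotent.
Then the Lie algebra of the group is a unipotent p-Lie algebra: for every ε-derivation D : A -> k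
there is n > 0 such that the iterated p-operation of D, computed here as the p^n-fold convolution
power of D (this is how the p-operation is rendered in this statement; its axioms are not proved
here), vanishes. -/
theorem result {k : Type u} [Field k] (p : ℕ) [Fact p.Prime] [CharP k p] {A : Type u} [CommRing A]
    [HopfAlgebra k A] [Algebra.FiniteType k A] (hU : HopfRep.IsUnipotent k A) (D : LieHopf.Lie k A) :
    ∃ n : ℕ, 0 < n ∧ LieHopf.convPow (D.toLinearMap.restrictScalars k ∘ₗ LinearMap.id) (p ^ n) = 0 := by
  haveI : Nontrivial A := RingHom.domain_nontrivial (Bialgebra.counitAlgHom k A).toRingHom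
  haveI : CharP A p := charP_of_injective_algebraMap (algebraMap k A).injective p
  let d : A →ₗ[k] k := D.toLinearMap.restrictScalars k ∘ₗ LinearMap.id
  have hd1 : d 1 = 0 := by
    show (D 1 : LieHopf.K k A) = 0
    exact D.map_one_eq_zero
  have hdm : ∀ a b : A, d (a * b) = CoalgebraStruct.counit (R := k) a * d b +
      CoalgebraStruct.counit (R := k) b * d a := fun a b => by
    show (D (a * b) : LieHopf.K k A) = _
    rw [D.leibniz a b, LieHopf.smul_def, LieHopf.smul_def]
    rfl
  let δ₀ : A →ₗ[k] A := CoalgH23.slice d ∘ₗ CoalgebraStruct.comul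
  have hc : ∀ a : A, CoalgH23.slice (CoalgebraStruct.counit (R := k)) (CoalgebraStruct.comul (R := k) a) = a := by
    intro a
    exact LinearMap.congr_fun (CoalgH23.actL_counit (k := k) (C := A) (V := A)) a
  have hmul : ∀ x y : TensorProduct k A A, CoalgH23.slice d (x * y) =
      CoalgH23.slice (CoalgebraStruct.counit (R := k)) x * CoalgH23.slice d y +
      CoalgH23.slice (CoalgebraStruct.counit (R := k)) y * CoalgH23.slice d x := by
    intro x y
    induction x using TensorProduct.induction_on with
    | zero => simp
    | add u v hu hv => simp only [add_mul, map_add, hu, hv, mul_add]; abel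
    | tmul a b =>
      induction y using TensorProduct.induction_on with
      | zero => simp
      | add u v hu hv => simp only [mul_add, map_add, hu, hv, add_mul]; abel
      | tmul a' b' =>
        simp only [Algebra.TensorProduct.tmul_mul_tmul, CoalgH23.slice_tmul, hdm, add_smul,
          smul_mul_smul_comm, mul_comm a' a]
  let δ : Derivation k A A := Derivation.mk' δ₀ fun a b => by
    show CoalgH23.slice d (CoalgebraStruct.comul (R := k) (a * b)) = _
    rw [Bialgebra.comul_mul, hmul, hc, hc]
    rfl
  have hconv : ∀ (m : ℕ) (x : A), LieHopf.convPow d m x = CoalgebraStruct.counit (R := k) ((⇑δ)^[m] x) := by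
    intro m
    induction m with
    | zero => intro x; rfl
    | succ m ih =>
      intro x
      show LinearMap.mul' k k (TensorProduct.map (LieHopf.convPow d m) d (CoalgebraStruct.comul (R := k) x)) = _
      rw [Function.iterate_succ_apply, ← ih]
      show _ = LieHopf.convPow d m (CoalgH23.slice d (CoalgebraStruct.comul (R := k) x))
      induction CoalgebraStruct.comul (R := k) x using TensorProduct.induction_on with
      | zero => simp
      | add u v hu hv => simp only [map_add, hu, hv]
      | tmul u v => simp [mul_comm]
  have hiter : ∀ n : ℕ, ∃ δn : Derivation k A A, ∀ x, δn x = (⇑δ)^[p ^ n] x := by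
    intro n
    induction n with
    | zero => exact ⟨δ, fun x => by simp⟩
    | succ n ih =>
      obtain ⟨δn, hn⟩ := ih
      refine ⟨PCurv29.iterPow δn p, fun x => ?_⟩
      rw [PCurv29.iterPow_apply, show (⇑δn) = (⇑δ)^[p ^ n] from funext hn, ← Function.iterate_mul,
        ← pow_succ]
  have hlow : ∀ (m : ℕ) (v : A), v ∈ CoalgH23.fixFil k A A (m + 1) → δ v ∈ CoalgH23.fixFil k A A m := by
    intro m v hv
    have h := CoalgH23.smul_sub_mem hv (WithConv.toConv d)
    rw [show (WithConv.toConv d).ofConv 1 = 0 from hd1, zero_smul, sub_zero] at h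
    exact h
  have hkill : ∀ (m : ℕ) (v : A), v ∈ CoalgH23.fixFil k A A m → ∀ j, m ≤ j → (⇑δ)^[j] v = 0 := by
    intro m
    induction m with
    | zero =>
      intro v hv j _
      rw [(Submodule.mem_bot k).1 hv]
      exact Function.iterate_fixed (map_zero δ) j
    | succ m ih =>
      intro v hv j hj
      obtain ⟨j, rfl⟩ := Nat.exists_eq_add_of_le hj
      rw [show m + 1 + j = (m + j) + 1 by omega, Function.iterate_succ_apply]
      exact ih _ (hlow m v hv) _ (by omega)
  obtain ⟨N, hN⟩ := Unip23.exists_gen_fixFil hU
  refine ⟨N + 1, Nat.succ_pos _, LinearMap.ext fun x => ?_⟩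
  obtain ⟨δn, hδn⟩ := hiter (N + 1)
  have h0 : δn = 0 := by
    refine Derivation.ext_of_adjoin_eq_top _ hN fun v hv => ?_
    rw [hδn, Derivation.zero_apply]
    exact hkill N v hv _ ((Nat.le_succ N).trans (Nat.lt_pow_self (Fact.out : p.Prime).one_lt).le)
  show LieHopf.convPow d (p ^ (N + 1)) x = 0
  rw [hconv, ← hδn, h0, Derivation.zero_apply, map_zero]

end Groth.Agent.S2968
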