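import Groth.Statements.S2970
import Groth.Agent.Lib.MultType.DiagLift
-- import your own Groth.Agent.* helpers here

set_option autoImplicit false
universe u
open TensorProduct SGA3b
open SGA3b

namespace Groth.Agent.S2970

/-- Let R be a ring, I an ideal consisting of nilpotent elements, and H = Spec A an R-group of
multiplicative type. If the base change of H to R/I is diagonalisable, then H is diagonalisable.
(Affine group schemes over an affine base are taken in Hopf-algebra form; base change is the tensor
product.) -/
theorem result (R : Type u) [CommRing R] (A : Type u) [CommRing A] [HopfAlgebra R A] (I : Ideal R) (hI : ∀ x ∈ I, IsNilpotent x)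
    (h : IsMultType R A) (h0 : IsDiag (R ⧸ I) ((R ⧸ I) ⊗[R] A)) : IsDiag R A := by
  exact Groth.Agent.MultTypeLib.isDiag_of_isDiag_mod_nil hI h h0

end Groth.Agent.S2970
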