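import Groth.Statements.S2986
import Groth.Agent.Lib.KS29.WeilInf
-- import your own Groth.Agent.* helpers here

set_option autoImplicit false
universe u
open TensorProduct
open SGA3b

namespace Groth.Agent.S2986

/-- Let R be a ring, B a smooth R-algebra whose geometric fibres are connected (for every algebraically
closed field K under R, Spec (K ⊗_R B) is connected), e : B → R an R-algebra section with kernel 𝔪,
and J a finitely generated ideal of B (a finitely presented closed subscheme Y of X = Spec B). Then
there is n ≥ 0 such that for every R-algebra R': the base change of X to R' lies in Y (every element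
of J becomes zero in R' ⊗_R B) if and only if the base change of the n-th infinitesimal
neighbourhood Spec (B/𝔪^(n+1)) of the section lies in Y. (The published statement is for a general
base and X; this is the affine case.) -/
theorem result (R B : Type u) [CommRing R] [CommRing B] [Algebra R B]
    [Algebra.Smooth R B]
    (hconn : ∀ (K : Type u) [Field K] [IsAlgClosed K] [Algebra R K], ConnectedSpace (PrimeSpectrum (K ⊗[R] B)))
    (e : B →ₐ[R] R) (J : Ideal B) (hJ : J.FG) :
    ∃ n : ℕ, ∀ (R' : Type u) [CommRing R'] [Algebra R R'],
      (∀ x ∈ J, (1 : R') ⊗ₜ[R] x = (0 : R' ⊗[R] B)) ↔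
        (∀ x ∈ J, (1 : R') ⊗ₜ[R] (Ideal.Quotient.mk (RingHom.ker e ^ (n + 1)) x) = (0 : R' ⊗[R] (B ⧸ RingHom.ker e ^ (n + 1)))) := by
  exact Groth.Agent.KS29.WeilInf.main hconn e J hJ

end Groth.Agent.S2986
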