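import Groth.Statements.S2990
import Groth.Agent.Lib.RedCell16.InnerPinned
import Groth.Agent.Lib.RedCell16.BaseExists

set_option linter.style.haveILetI false
set_option backward.isDefEq.respectTransparency false
set_option backward.isDefEq.respectTransparency.types false
-- import your own Groth.Agent.* helpers here

set_option autoImplicit false
open CategoryTheory MonoidalCategory CartesianMonoidalCategory MonObj GrpObj AlgebraicGeometry
universe u
open Red

namespace Groth.Agent.S2990

/-- Let G be a reductive S-group scheme with a pinning (a split maximal torus T, a root datum with a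
chosen base, and root homomorphisms u_a), and let g be an S-point of G such that the inner
automorphism int(g) normalises T and commutes with the root homomorphism u_a of every simple root a.
Then int(g) is the identity: g centralises every point of G with values in any S-scheme. (This is
the case of an inner automorphism respecting the pinning without permuting the simple roots.) -/
theorem result {S : Scheme.{u}} {G : Over S} [GrpObj G] (D : Red.Pinning G)
    (g : 𝟙_ (Over S) ⟶ G)
    (hT : ∀ (X : Over S) (t : X ⟶ D.T), ∃ t' : X ⟶ D.T, (toUnit X ≫ g) * (t ≫ D.i) * (toUnit X ≫ g)⁻¹ = t' ≫ D.i)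
    (hu : ∀ a ∈ D.base.support, ∀ (X : Over S) (x : X ⟶ Red.Ga S),
      (toUnit X ≫ g) * (x ≫ D.u a) * (toUnit X ≫ g)⁻¹ = x ≫ D.u a) :
    ∀ (X : Over S) (y : X ⟶ G), (toUnit X ≫ g) * y * (toUnit X ≫ g)⁻¹ = y := by
  intro X y
  rcases isEmpty_or_nonempty S with hS | hS
  · haveI := (RedCell16.hom_subsingleton X G).2
    exact Subsingleton.elim _ _
  · obtain ⟨s⟩ := hS
    haveI := RedCell16.isReduced D.toSplitRed s
    obtain ⟨n, m, eneg, epos, hneg, hpos⟩ := RedCell16.exists_enum D.toSplitRed D.base
    exact RedCell16.central_of_pinned D.toSplitRed D.base eneg epos hneg hpos g hT hu X y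

end Groth.Agent.S2990
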