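import Groth.Statements.S5414
import Groth.Agent.Lib.AffDimOne20.Basic
import Groth.Agent.Lib.GenNorm20.Closed

set_option autoImplicit false
universe u
open CategoryTheory MonoidalCategory CartesianMonoidalCategory MonObj GrpObj AlgebraicGeometry CategoryTheory.Limits
open SGA3x

namespace Groth.Agent.S5414

set_option linter.style.haveILetI false
set_option backward.isDefEq.respectTransparency.types false

/-- Let S be a locally Noetherian scheme of dimension at most 1, X and Y two S-schemes locally of finite
type over S and u : X → Y an S-morphism which is quasi-finite (quasi-compact, locally quasi-finite)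
and separated. Suppose that for every point s of S the morphism u_s : X_s → Y_s induced on the
fibres over s is finite. Then u is affine. (The published statement takes S of dimension 1; this row
allows dimension at most 1, which its proof covers.) -/
theorem result (S : Scheme.{u}) [IsLocallyNoetherian S] (hdim : topologicalKrullDim ↥S ≤ 1)
    (X Y : Over S) [LocallyOfFiniteType X.hom] [LocallyOfFiniteType Y.hom] (u : X ⟶ Y)
    [QuasiCompact u.left] [LocallyQuasiFinite u.left] [IsSeparated u.left]
    (hfin : ∀ s : S, IsFinite ((Over.pullback (S.fromSpecResidueField s)).map u).left) :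
    IsAffineHom u.left := by
  refine IsZariskiLocalAtTarget.of_iSup_eq_top (P := @IsAffineHom) _ (iSup_affineOpens_eq_top Y.left) fun V => ?_
  haveI : IsAffine (V.1 : Scheme.{u}) := V.2
  haveI : IsLocallyNoetherian Y.left := LocallyOfFiniteType.isLocallyNoetherian Y.hom
  haveI : IsLocallyNoetherian (V.1 : Scheme.{u}) := isLocallyNoetherian_of_isOpenImmersion V.1.ι
  haveI : LocallyOfFiniteType u.left := by
    haveI : LocallyOfFiniteType (u.left ≫ Y.hom) := by rw [Over.w u]; infer_instance
    exact locallyOfFiniteType_of_comp u.left Y.hom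
  haveI : IsSeparated (u.left ∣_ V.1) := IsZariskiLocalAtTarget.restrict ‹IsSeparated u.left› _
  haveI : QuasiCompact (u.left ∣_ V.1) := IsZariskiLocalAtTarget.restrict ‹QuasiCompact u.left› _
  haveI : LocallyQuasiFinite (u.left ∣_ V.1) :=
    MorphismProperty.of_isPullback (P := @LocallyQuasiFinite) (isPullback_morphismRestrict u.left V.1).flip ‹_›
  haveI : LocallyOfFiniteType (u.left ∣_ V.1) := IsZariskiLocalAtTarget.restrict ‹LocallyOfFiniteType u.left› _
  refine AffDimOne20.isAffineHom_of_affine hdim (u.left ∣_ V.1) (V.1.ι ≫ Y.hom) fun s => ?_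
  let φ := S.fromSpecResidueField s
  let g := V.1.ι ≫ Y.hom
  let k : g.fiber s ⟶ Limits.pullback Y.hom φ :=
    Limits.pullback.lift (g.fiberι s ≫ V.1.ι) (g.fiberToSpecResidueField s)
      ((Category.assoc _ _ _).trans Limits.pullback.condition)
  have h1 := GenNorm20.isPullback_map φ u
  have h2 := (IsPullback.of_hasPullback (u.left ∣_ V.1) (g.fiberι s)).paste_horiz
    (isPullback_morphismRestrict u.left V.1).flip
  let l := h1.lift (Limits.pullback.fst (u.left ∣_ V.1) (g.fiberι s) ≫ (u.left ⁻¹ᵁ V.1).ι)
    (Limits.pullback.snd (u.left ∣_ V.1) (g.fiberι s) ≫ k)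
    (by
      rw [Category.assoc, Category.assoc, ← morphismRestrict_ι, ← Category.assoc, Limits.pullback.condition,
        Category.assoc, show k ≫ Limits.pullback.fst Y.hom φ = _ from Limits.pullback.lift_fst _ _ _])
  have h3 : IsPullback l (Limits.pullback.snd (u.left ∣_ V.1) (g.fiberι s)) ((Over.pullback φ).map u).left k := by
    refine IsPullback.of_right ?_ (h1.lift_snd _ _ _) h1
    rw [h1.lift_fst, show k ≫ Limits.pullback.fst Y.hom φ = _ from Limits.pullback.lift_fst _ _ _]
    exact h2
  exact MorphismProperty.of_isPullback (P := @IsFinite) h3 (hfin s)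

end Groth.Agent.S5414
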