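import Groth.Statements.S2993
import Groth.Agent.S5414
import Groth.Agent.Lib.GrpFin20.Basic

set_option autoImplicit false
set_option backward.isDefEq.respectTransparency false
set_option linter.style.haveILetI false
universe u
open Par

namespace Groth.Agent.S2993

open AlgebraicGeometry CategoryTheory in
/-- In the case proved in the text (G smooth over S; the editors note that flatness suffices): let S be
a locally Noetherian scheme of dimension ≤ 1, G and H two S-group schemes of finite type and f : G →
H a homomorphism of S-groups which is quasi-finite and separated. If G is smooth over S then f is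
affine. -/
theorem result {S : Scheme.{u}} [IsLocallyNoetherian S] (hS : topologicalKrullDim S ≤ 1)
    (G H : Over S) [GrpObj G] [GrpObj H] [LocallyOfFiniteType G.hom] [QuasiCompact G.hom] [LocallyOfFiniteType H.hom] [QuasiCompact H.hom]
    [Smooth G.hom] (f : G ⟶ H) [IsMonHom f] [LocallyQuasiFinite f.left] [QuasiCompact f.left] [IsSeparated f.left] :
    IsAffineHom f.left := by
  refine Groth.Agent.S5414.result S hS G H f fun s => ?_
  let φ := S.fromSpecResidueField s
  let F := Over.pullback φ
  letI : GrpObj (F.obj G) := Functor.grpObjObj
  letI : GrpObj (F.obj H) := Functor.grpObjObj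
  haveI : IsMonHom (F.map f) := inferInstance
  haveI : LocallyOfFiniteType (F.obj G).hom := inferInstanceAs (LocallyOfFiniteType (Limits.pullback.snd G.hom φ))
  haveI : LocallyOfFiniteType (F.obj H).hom := inferInstanceAs (LocallyOfFiniteType (Limits.pullback.snd H.hom φ))
  have sq := Groth.Agent.GrpFin20.isPullback_map φ f
  haveI : QuasiCompact (F.map f).left := MorphismProperty.of_isPullback sq ‹QuasiCompact f.left›
  haveI : LocallyQuasiFinite (F.map f).left := MorphismProperty.of_isPullback sq ‹LocallyQuasiFinite f.left›
  exact Groth.Agent.GrpFin20.isFinite_of_field (K := S.residueField s) (F.obj G) (F.obj H) (F.map f)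

end Groth.Agent.S2993
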