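import Groth.Statements.S3004
import Groth.Agent.Lib.PMor16.Iso

set_option linter.style.haveILetI false
set_option backward.isDefEq.respectTransparency false
set_option backward.isDefEq.respectTransparency.types false
-- import your own Groth.Agent.* helpers here

set_option autoImplicit false
universe u
open CategoryTheory MonoidalCategory CartesianMonoidalCategory MonObj GrpObj AlgebraicGeometry
open Red

namespace Groth.Agent.S3004

/-- Let S be a non-empty scheme and G, G' two pinned reductive S-groups (this prelude's `Red.Pinning`: a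
split maximal torus T ≅ D_S(M), the root datum, root homomorphisms u_a : 𝔾_a → G for all roots, and
a system of simple roots). Let h be an isomorphism from the root datum of G' to that of G (Mathlib
`RootPairing.Equiv`, lattice map M' → M) carrying simple roots to simple roots. Then there is a
unique isomorphism of S-group schemes f : G ≅ G' which induces D_S(h) on the tori (through the
splittings) and satisfies f ∘ u_{h(a')} = u'_{a'} for every simple root a' of G'. -/
theorem result (S : Scheme.{u}) [Nonempty S] (G G' : Over S) [GrpObj G] [GrpObj G'] (D : Red.Pinning G) (D' : Red.Pinning G') (h : RootPairing.Equiv D'.P D.P) (hΔ : ∀ a' : D'.idx, a' ∈ D'.base.support ↔ h.indexEquiv a' ∈ D.base.support) : ∃! f : G ≅ G', IsMonHom f.hom ∧ D.i ≫ f.hom = D.split.hom.hom.hom ≫ Red.DSmap S h.weightMap.toAddMonoidHom ≫ D'.split.inv.hom.hom ≫ D'.i ∧ ∀ a' : D'.idx, a' ∈ D'.base.support → D.u (h.indexEquiv a') ≫ f.hom = D'.u a' := by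
  obtain ⟨s⟩ := ‹Nonempty S›
  haveI := RedCell16.isReduced D.toSplitRed s
  haveI := RedCell16.isReduced D'.toSplitRed s
  obtain ⟨f, ⟨h1, h2, h3⟩, hu⟩ := PMor16.existsUnique_iso (PMor16.datumIsoOfEquiv (D := D.toSplitRed)
    (D' := D'.toSplitRed) (b := D.base) (b' := D'.base) h hΔ)
  refine ⟨f, ⟨h1, h2, fun a' ha => ?_⟩, fun f' ⟨k1, k2, k3⟩ => hu f' ⟨k1, k2, fun a ha => ?_⟩⟩
  · exact (h3 _ ((hΔ a').1 ha)).trans (congrArg D'.u (Equiv.symm_apply_apply _ _))
  · obtain ⟨a', rfl⟩ := h.indexEquiv.surjective a
    exact (k3 a' ((hΔ a').2 ha)).trans (congrArg D'.u (Equiv.symm_apply_apply _ _).symm)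

end Groth.Agent.S3004
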