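import Groth.Statements.S3010
import Groth.Agent.S3002
import Groth.Agent.Lib.RankOne21.Semisimple
import Groth.Agent.Lib.RankOne21.SemiTransfer

set_option linter.style.haveILetI false
set_option maxHeartbeats 1600000
set_option backward.isDefEq.respectTransparency.types false
-- import your own Groth.Agent.* helpers here

set_option autoImplicit false
universe u
open CategoryTheory MonoidalCategory CartesianMonoidalCategory MonObj GrpObj AlgebraicGeometry
open Red

namespace Groth.Agent.S3010

/-- Let G be an S-group scheme which is affine and smooth over S with connected fibres. Then the set of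
points s ∈ S whose geometric fibre G_{s̄} is semisimple is open. (Only the semisimple case is
stated; the corresponding openness for reductive geometric fibres and the local constancy of the
reductive and semisimple ranks, which the published statement also contains, are not stated here.) -/
theorem result (S : Scheme.{u}) (G : Over S) [GrpObj G] [IsAffineHom G.hom] [Smooth G.hom] (hconn : ∀ s : S, _root_.IsConnected (G.hom.base ⁻¹' {s})) : IsOpen {s : S | Red.IsSemisimpleOver (AlgebraicClosure (S.residueField s)) (Red.geomFibre s G)} := by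
  classical
  rw [isOpen_iff_forall_mem_open]
  intro s₀ hs₀
  have h₀ : Red.IsSemisimpleOver (AlgebraicClosure (S.residueField s₀)) (Red.geomFibre s₀ G) := hs₀
  obtain ⟨A, _, u, hu, ⟨a₀, ha₀⟩, hred, B, _, v, hv, hvs, T, _, i, hi, r, hsplit⟩ :=
    S3002.result S G hconn s₀ h₀.1
  haveI := hu
  haveI := hv
  obtain ⟨b₀, hb₀⟩ := hvs.surj a₀
  obtain ⟨C⟩ := DiagGL.nonempty_chars hsplit
  haveI := hi.1
  haveI := hi.2.1
  let w : Spec (CommRingCat.of B) ⟶ S := v ≫ u
  haveI : Etale w := inferInstanceAs (Etale (v ≫ u))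
  let G₂ := Red.bc w G
  haveI : IsAffineHom G₂.hom := inferInstanceAs (IsAffineHom (Limits.pullback.snd G.hom w))
  haveI : Smooth G₂.hom := inferInstanceAs (Smooth (Limits.pullback.snd G.hom w))
  haveI : IsAffine G₂.left := isAffine_of_isAffineHom G₂.hom
  haveI : IsClosedImmersion i.left :=
    MTRigid29.isClosedImmersion_of_mono (TorPts21.isMultTypeFT_of_isTorus hi.2.2.1) ‹IsAffineHom G₂.hom› i
  obtain ⟨ρ, hρ⟩ := RankOne21.exists_expansion i C
  have hwb : w b₀ = s₀ := by rw [← ha₀, ← hb₀]; rfl
  have hss₀ : Red.IsSemisimpleOver (AlgebraicClosure ((Spec (CommRingCat.of B)).residueField b₀))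
      (Red.geomFibre b₀ G₂) :=
    (RankOne21.isSemisimpleOver_geomFibre_iff w G b₀).2 (hwb.symm ▸ h₀)
  obtain ⟨E, N, hE, hN0, hN⟩ := RankOne21.exists_active_span i C hρ b₀ hss₀
  let U : Set (Spec (CommRingCat.of B)) := ⋂ e : {e // e ∈ E}, {t | e.1 ∈ RankOne21.active ρ t}
  have hUo : IsOpen U := isOpen_iInter_of_finite fun e => RankOne21.isOpen_setOf_mem_active ρ e.1
  refine ⟨w '' U, ?_, w.isOpenMap U hUo, ⟨b₀, Set.mem_iInter.2 fun e => hE e.1 e.2, hwb⟩⟩
  rintro _ ⟨b, hb, rfl⟩
  refine (RankOne21.isSemisimpleOver_geomFibre_iff w G b).1 ?_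
  refine RankOne21.isSemisimpleOver_of_active_span i C hρ b ?_ (MTExt21.isMaximalTorus_bc hi (Red.geomPt b))
    (fun e he => Set.mem_iInter.1 hb ⟨e, he⟩) hN0 hN
  exact (RankOne21.isReductiveOver_geomFibre_iff w G b).2
    ((RankOne21.isReductiveOver_geomFibre_iff u G (v b)).1 (hred.2.2 (v b)))

end Groth.Agent.S3010
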