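import Groth.Statements.S3014
import Groth.Agent.Lib.GrpAlgClosed19.Iso
-- import your own Groth.Agent.* helpers here

set_option autoImplicit false
set_option linter.style.haveILetI false
set_option backward.isDefEq.respectTransparency.types false
universe u
open CategoryTheory MonoidalCategory CartesianMonoidalCategory MonObj GrpObj AlgebraicGeometry
open Red

namespace Groth.Agent.S3014

/-- (i)⇒(ii): Let G and G' be reductive S-groups and f : S' → S a surjective morphism such that the base
changes of G and G' to S' are isomorphic as group schemes. Then for every s ∈ S the geometric fibres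
G_{s̄} and G'_{s̄} are isomorphic. -/
theorem result (S : Scheme.{u}) (G G' : Over S) [GrpObj G] [GrpObj G'] (hG : Red.IsReductive G) (hG' : Red.IsReductive G') (S' : Scheme.{u}) (f : S' ⟶ S) [Surjective f] (hiso : Nonempty (Grp.mk (Red.bc f G) ≅ Grp.mk (Red.bc f G'))) (s : S) : Nonempty (Grp.mk (Red.geomFibre s G) ≅ Grp.mk (Red.geomFibre s G')) := by
  obtain ⟨h⟩ := hiso
  obtain ⟨s', rfl⟩ := f.surjective s
  letI : Algebra (S.residueField (f s')) (S'.residueField s') := (f.residueFieldMap s').hom.toAlgebra
  letI : Algebra (S.residueField (f s')) (AlgebraicClosure (S'.residueField s')) :=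
    ((algebraMap (S'.residueField s') (AlgebraicClosure (S'.residueField s'))).comp
      (algebraMap (S.residueField (f s')) (S'.residueField s'))).toAlgebra
  let l : AlgebraicClosure (S.residueField (f s')) →ₐ[S.residueField (f s')]
      AlgebraicClosure (S'.residueField s') := IsAlgClosed.lift
  letI : Algebra (AlgebraicClosure (S.residueField (f s'))) (AlgebraicClosure (S'.residueField s')) :=
    l.toRingHom.toAlgebra
  let k := AlgebraicClosure (S.residueField (f s'))
  let Q := Groth.Agent.GrpAlgClosed19.specObj k (AlgebraicClosure (S'.residueField s'))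
  let q : Q.left ⟶ S' := Red.geomPt s'
  have hq : q ≫ f = Q.hom ≫ Red.geomPt (f s') := by
    show (_ ≫ S'.fromSpecResidueField s') ≫ f =
      Spec.map _ ≫ Spec.map _ ≫ S.fromSpecResidueField (f s')
    rw [Category.assoc, ← Scheme.Hom.SpecMap_residueFieldMap_fromSpecResidueField f s', ← Spec.map_comp_assoc,
      ← Spec.map_comp_assoc]
    congr 2
    ext x
    exact (l.commutes x).symm
  let φ := Groth.Agent.GrpAlgClosed19.transfer f (Red.geomPt (f s')) h.hom.hom.hom Q q hq
  let ψ := Groth.Agent.GrpAlgClosed19.transfer f (Red.geomPt (f s')) h.inv.hom.hom Q q hq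
  haveI : IsAffineHom G.hom := hG.1
  haveI : IsAffineHom G'.hom := hG'.1
  haveI : Smooth G.hom := hG.2.1
  haveI : Smooth G'.hom := hG'.2.1
  have haff : ∀ (H : Over S), IsAffineHom H.hom → IsAffine (Red.geomFibre (f s') H).left := fun H hH => by
    haveI := hH
    haveI : IsAffineHom (Red.geomFibre (f s') H).hom := MorphismProperty.pullback_snd _ _ hH
    exact isAffine_of_isAffineHom (Red.geomFibre (f s') H).hom
  haveI := haff G inferInstance
  haveI := haff G' inferInstance
  haveI : LocallyOfFiniteType (Red.geomFibre (f s') G).hom := MorphismProperty.pullback_snd _ _ inferInstance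
  haveI : LocallyOfFiniteType (Red.geomFibre (f s') G').hom := MorphismProperty.pullback_snd _ _ inferInstance
  have hh : h.hom.hom.hom ≫ h.inv.hom.hom = 𝟙 _ := congrArg (fun m => m.hom.hom) h.hom_inv_id
  have hh' : h.inv.hom.hom ≫ h.hom.hom.hom = 𝟙 _ := congrArg (fun m => m.hom.hom) h.inv_hom_id
  exact Groth.Agent.GrpAlgClosed19.nonempty_iso φ ψ
    (fun t x => Groth.Agent.GrpAlgClosed19.transfer_inv f (Red.geomPt (f s')) h.hom.hom.hom Q q hq h.inv.hom.hom hh t x)
    (fun t x => Groth.Agent.GrpAlgClosed19.transfer_inv f (Red.geomPt (f s')) h.inv.hom.hom Q q hq h.hom.hom.hom hh' t x)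

end Groth.Agent.S3014
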