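import Groth.Statements.S3015
import Groth.Agent.Lib.GrpFin20.Basic
import Groth.Agent.Lib.AbRigid.GrpTop
import Mathlib.RingTheory.Artinian.Ring

set_option autoImplicit false
universe u
open CategoryTheory MonoidalCategory CartesianMonoidalCategory MonObj GrpObj AlgebraicGeometry TensorProduct
open SGA3

namespace Groth.Agent.S3015

/-- Let A be a local artinian ring, G a group scheme over A, and U, V dense open subsets of G. Then U ·
V, the image of U ×_A V under the multiplication, is the whole underlying space of G: every point of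
G is the product of a point of G ×_A G whose two projections lie in U and V. -/
theorem result (A : Type u) [CommRing A] [IsArtinianRing A] [IsLocalRing A]
    (G : Over (Spec (CommRingCat.of A))) [GrpObj G] (U V : G.left.Opens)
    (hU : Dense (U : Set G.left)) (hV : Dense (V : Set G.left)) (g : G.left) :
    ∃ z : ↥(G ⊗ G).left, (fst G G).left.base z ∈ U ∧ (snd G G).left.base z ∈ V ∧ μ[G].left.base z = g := by
  let k := IsLocalRing.ResidueField A
  let i : Spec (CommRingCat.of k) ⟶ Spec (CommRingCat.of A) :=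
    Spec.map (CommRingCat.ofHom (IsLocalRing.residue A))
  haveI : IsClosedImmersion i := IsClosedImmersion.spec_of_surjective _ IsLocalRing.residue_surjective
  haveI : Surjective i := ⟨fun y => ⟨IsLocalRing.closedPoint k, Subsingleton.elim (α := PrimeSpectrum A) _ _⟩⟩
  let F := Over.pullback i
  letI : GrpObj (F.obj G) := Functor.grpObjObj
  let π : (F.obj G).left ⟶ G.left := Limits.pullback.fst G.hom i
  have hπo : IsOpenMap π.base :=
    (isHomeomorph_iff_isEmbedding_surjective.mpr ⟨π.isClosedEmbedding.isEmbedding, π.surjective⟩).isOpenMap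
  obtain ⟨g', hg'⟩ := π.surjective g
  have hU' : Dense ((π ⁻¹ᵁ U : (F.obj G).left.Opens) : Set (F.obj G).left) := hU.preimage hπo
  have hV' : ((π ⁻¹ᵁ V : (F.obj G).left.Opens) : Set (F.obj G).left).Nonempty :=
    Dense.nonempty_iff (hV.preimage hπo) |>.2 ⟨g'⟩
  obtain ⟨w, hw1, hw2, hw3⟩ := AbRigid.exists_mul_eq (π ⁻¹ᵁ U) (π ⁻¹ᵁ V) hU' hV' g'
  let μF : (F.obj G ⊗ F.obj G).left ⟶ (F.obj (G ⊗ G)).left := (Functor.LaxMonoidal.μ F G G).left
  let q : (F.obj G ⊗ F.obj G).left ⟶ (G ⊗ G).left := μF ≫ Limits.pullback.fst (G ⊗ G).hom i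
  have e1 : q ≫ (fst G G).left = (fst (F.obj G) (F.obj G)).left ≫ π := by
    rw [← Functor.Monoidal.μ_fst F G G, Over.comp_left, Category.assoc, Category.assoc,
      GrpFin20.isPullback_map i (fst G G) |>.w]
  have e2 : q ≫ (snd G G).left = (snd (F.obj G) (F.obj G)).left ≫ π := by
    rw [← Functor.Monoidal.μ_snd F G G, Over.comp_left, Category.assoc, Category.assoc,
      GrpFin20.isPullback_map i (snd G G) |>.w]
  have e3 : q ≫ μ[G].left = μ[F.obj G].left ≫ π := by
    have : μ[F.obj G] = Functor.LaxMonoidal.μ F G G ≫ F.map μ[G] := rfl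
    rw [this, Over.comp_left, Category.assoc, Category.assoc, GrpFin20.isPullback_map i μ[G] |>.w]
  refine ⟨q.base w, ?_, ?_, ?_⟩
  · rw [← Scheme.Hom.comp_apply, e1, Scheme.Hom.comp_apply]; exact hw1
  · rw [← Scheme.Hom.comp_apply, e2, Scheme.Hom.comp_apply]; exact hw2
  · rw [← Scheme.Hom.comp_apply, e3, Scheme.Hom.comp_apply, ← hg']
    exact congrArg π.base hw3

end Groth.Agent.S3015
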