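import Groth.Statements.S3019
import Groth.Agent.Lib.Chevalley.Basic
import Mathlib.RingTheory.HopfAlgebra.Quotient
import Mathlib.RingTheory.Adjoin.FG
import Mathlib.LinearAlgebra.FreeModule.Finite.Basic
import Mathlib.LinearAlgebra.Dimension.Free
import Mathlib.LinearAlgebra.Dimension.DivisionRing
import Mathlib.LinearAlgebra.Basis.VectorSpace
import Mathlib.RingTheory.Finiteness.Lattice
import Mathlib.LinearAlgebra.FiniteDimensional.Basic

set_option autoImplicit false
universe u
open CategoryTheory MonoidalCategory CartesianMonoidalCategory MonObj GrpObj AlgebraicGeometry TensorProduct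
open SGA3

namespace Groth.Agent.S3019

/-- Let A be a finitely generated commutative Hopf algebra over a field k (an affine algebraic k-group
G) and I a Hopf ideal (a closed subgroup scheme H). Then there are a finite-dimensional A-comodule V
and a nonzero vector v ∈ V such that, for every k-algebra R, an R-point of G kills I exactly when it
carries v to an R-multiple of v: H is the stabilizer of the line through v. -/
theorem result (k : Type u) [Field k] (A : Type u) [CommRing A] [HopfAlgebra k A]
    [Algebra.FiniteType k A] (I : Ideal A) [I.IsHopfIdeal k] :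
    ∃ (V : Type u) (_ : AddCommGroup V) (_ : Module k V) (_ : HopfRep.Comod k A V) (_ : Module.Finite k V) (v : V),
      v ≠ 0 ∧ Dyn.Represents k A I (fun R _ _ g => SGA3.StabilizesLine k A v R g) := by
  classical
  let B := A ⧸ I
  let π : A →ₐc[k] B := Bialgebra.Quotient.mkBialgHom I
  have hker : RingHom.ker (π : A →+* B) = I := Ideal.mk_ker
  haveI : IsNoetherianRing A := Algebra.FiniteType.isNoetherianRing k A
  obtain ⟨s, hsI⟩ := (inferInstance : IsNoetherianRing A).noetherian (RingHom.ker (π : A →+* B))
  choose N hN hNfin hNmem using Groth.Agent.Comodule.exists_finite_subcomod (k := k) (A := A) (V := A)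
  let V0 : Submodule k A := ⨆ a : ↥s, N a.1
  have hV0 : HopfRep.IsSubcomod (k := k) (A := A) V0 := Groth.Agent.Comodule.isSubcomod_iSup _ fun a => hN a.1
  haveI : Module.Finite k V0 := by
    haveI : ∀ a : ↥s, Module.Finite k (N a.1) := fun a => hNfin a.1
    exact Submodule.finite_iSup _
  letI cV0 : HopfRep.Comod k A V0 := Groth.Agent.Comodule.subComod V0 hV0
  let W : Submodule k V0 := ((RingHom.ker (π : A →+* B)).restrictScalars k).comap V0.subtype
  obtain ⟨C, hC⟩ := Submodule.exists_isCompl W
  haveI : Module.Free k W := Module.Free.of_divisionRing k W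
  haveI : Module.Free k C := Module.Free.of_divisionRing k C
  let bW := Module.finBasis k W
  let bC := Module.finBasis k C
  let e : Module.Basis (Fin (Module.finrank k W) ⊕ Fin (Module.finrank k C)) k V0 :=
    (bW.prod bC).map (Submodule.prodEquivOfIsCompl W C hC)
  let a : Fin (Module.finrank k W) ⊕ Fin (Module.finrank k C) → A := fun i => (e i : A)
  let X := Groth.Agent.Chevalley.matrixOf (A := A) e
  have hX : Groth.Agent.Chevalley.IsMul (k := k) X := Groth.Agent.Chevalley.isMul_matrixOf e
  have hel : ∀ j, (e (Sum.inl j) : A) = (bW j : V0) := fun j => by simp [e]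
  have her : ∀ j, (e (Sum.inr j) : A) = (bC j : V0) := fun j => by simp [e]
  have haI : ∀ j, π (a (Sum.inl j)) = 0 := fun j => by
    rw [show a (Sum.inl j) = _ from hel j]; exact (bW j).2
  have hΔ : ∀ j, CoalgebraStruct.comul (R := k) (a j) = ∑ i, a i ⊗ₜ[k] X i j := fun j => by
    have h := congrArg (V0.subtype.rTensor A) (Groth.Agent.Chevalley.coact_basis (A := A) e j)
    simp only [map_sum, LinearMap.rTensor_tmul, Submodule.subtype_apply] at h
    rw [← h]
    exact (Groth.Agent.Comodule.rTensor_coactRestrict V0 hV0 (e j)).symm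
  have haX : ∀ j, a j = ∑ i, CoalgebraStruct.counit (R := k) (a i) • X i j := fun j => by
    have h := congrArg (TensorProduct.lid k A) (Coalgebra.rTensor_counit_comul (R := k) (a j))
    simp only [hΔ, map_sum, LinearMap.rTensor_tmul, TensorProduct.lid_tmul, one_smul] at h
    exact h.symm
  have hcounit : ∀ x, CoalgebraStruct.counit (R := k) (π x) = CoalgebraStruct.counit (R := k) x :=
    fun x => CoalgHomClass.counit_comp_apply π x
  let Y : Matrix _ _ B := X.map π
  have hY : Groth.Agent.Chevalley.IsMul (k := k) Y := by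
    refine ⟨fun i j => ?_, fun i j => (hcounit _).trans (hX.counit i j)⟩
    show CoalgebraStruct.comul (R := k) (π (X i j)) = _
    rw [← CoalgHomClass.map_comp_comul_apply π, hX.comul, map_sum]
    rfl
  have hind : LinearIndependent k (fun i => π (a (Sum.inr i))) := by
    refine Fintype.linearIndependent_iff.2 fun c hc i => ?_
    have h1 : (∑ i, c i • (bC i : V0)) ∈ W ⊓ C := by
      refine ⟨?_, sum_mem fun i _ => C.smul_mem _ (bC i).2⟩
      show π ((∑ i, c i • (bC i : V0) : V0) : A) = 0
      rw [← hc]
      simp [a, her]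
    rw [hC.inf_eq_bot, Submodule.mem_bot] at h1
    have h2 : ∑ i, c i • bC i = 0 := by
      apply Subtype.val_injective
      rw [Submodule.coe_sum, Submodule.coe_zero]
      simpa only [Submodule.coe_smul] using h1
    have h3 := congrArg (fun w => bC.repr w i) h2
    simp only [Module.Basis.repr_sum_self, map_zero, Finsupp.coe_zero, Pi.zero_apply] at h3
    exact h3
  have hblock : ∀ i j, Y (Sum.inr i) (Sum.inl j) = 0 := by
    intro i j
    obtain ⟨φ, hφ⟩ := LinearMap.exists_extend ((Module.Basis.span hind).coord i)
    have hφi : ∀ l, φ (π (a (Sum.inr l))) = if l = i then 1 else 0 := fun l => by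
      have := LinearMap.congr_fun hφ (Module.Basis.span hind l)
      rw [LinearMap.comp_apply, Submodule.subtype_apply, Module.Basis.coe_span_apply, Module.Basis.coord_apply,
        Module.Basis.repr_self, Finsupp.single_apply] at this
      exact this
    have h := congrArg (fun t => TensorProduct.lid k B (φ.rTensor B t))
      (CoalgHomClass.map_comp_comul_apply π (a (Sum.inl j)))
    simp only [hΔ, map_sum, TensorProduct.map_tmul, haI, map_zero, LinearMap.rTensor_tmul, TensorProduct.lid_tmul,
      Fintype.sum_sum_type] at h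
    simp only [map_add, map_sum, TensorProduct.map_tmul, LinearMap.rTensor_tmul, TensorProduct.lid_tmul,
      LinearMap.coe_coe, haI, map_zero, zero_smul, Finset.sum_const_zero, zero_add, hφi, ite_smul,
      one_smul, Finset.sum_ite_eq', Finset.mem_univ, if_true] at h
    exact h
  let χ : B := (Y.submatrix Sum.inl Sum.inl).det
  have hχ : IsGroupLikeElem k χ := Groth.Agent.Chevalley.IsMul.isGroupLike_det hY hblock
  let d := Module.finrank k W
  let u1 := Groth.Agent.Chevalley.wedge (k := k) (α := Fin d) (β := Fin (Module.finrank k C))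
  have hπ1 : ∀ I, Groth.Agent.Chevalley.moved ((Groth.Agent.Chevalley.kpow X d).map (π : A →ₐ[k] B)) u1 I =
      algebraMap k B (u1 I) * χ := fun I => by
    rw [Groth.Agent.Chevalley.map_kpow, Groth.Agent.Chevalley.moved_kpow_wedge]
    exact Groth.Agent.Chevalley.det_submatrix_of_block hblock I
  have hu1 : u1 Sum.inl = 1 := Groth.Agent.Chevalley.wedge_inl
  refine ⟨_, inferInstance, inferInstance, Groth.Agent.Chevalley.matComod (hX.kpow d), inferInstance, u1,
    fun h => one_ne_zero (hu1.symm.trans (congrFun h Sum.inl)), ?_⟩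
  intro R _ _ g
  refine ⟨fun hg => ⟨g (Groth.Agent.Chevalley.moved (Groth.Agent.Chevalley.kpow X d) u1 Sum.inl),
    (Groth.Agent.Chevalley.lTensor_eq_tmul_iff (Groth.Agent.Chevalley.kpow X d) g.toLinearMap u1 _).2 fun p => ?_⟩, ?_⟩
  · let z : A := Groth.Agent.Chevalley.moved (Groth.Agent.Chevalley.kpow X d) u1 p -
      algebraMap k A (u1 p) * Groth.Agent.Chevalley.moved (Groth.Agent.Chevalley.kpow X d) u1 Sum.inl
    have hz : z ∈ I := by
      rw [← hker]
      show (π : A →ₐ[k] B) z = 0
      rw [map_sub, map_mul, AlgHom.commutes, ← Groth.Agent.Chevalley.moved_eq_map, ← Groth.Agent.Chevalley.moved_eq_map,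
        hπ1, hπ1, hu1, map_one, _root_.one_mul, sub_self]
    have := hg z hz
    rw [map_sub, map_mul, AlgHom.commutes, sub_eq_zero, ← Groth.Agent.Chevalley.moved_eq_map,
      ← Groth.Agent.Chevalley.moved_eq_map] at this
    rw [← Groth.Agent.Chevalley.moved_eq_map]
    exact this
  rintro ⟨c, hc⟩
  have hc' := (Groth.Agent.Chevalley.lTensor_eq_tmul_iff (Groth.Agent.Chevalley.kpow X d) g.toLinearMap u1 c).1 hc
  obtain ⟨N3, hN3⟩ := (hX.kpow d).exists_inv g
  have hcu : IsUnit c := Groth.Agent.Chevalley.isUnit_of_moved hN3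
    (i := Sum.inl) (by rw [hu1]; exact isUnit_one) hc'
  let M := X.map g
  let p1 := Groth.Agent.Chevalley.moved (Groth.Agent.Chevalley.kpow M d) u1
  have hp : ∀ J, p1 J = algebraMap k R (u1 J) * c := fun J => by
    have := hc' J
    rwa [show (Groth.Agent.Chevalley.kpow X d).map g.toLinearMap = (Groth.Agent.Chevalley.kpow X d).map g from rfl,
      Groth.Agent.Chevalley.map_kpow] at this
  have hp0 : p1 Sum.inl = c := by rw [hp, hu1, map_one, _root_.one_mul]
  have hMblock : ∀ i j, M (Sum.inr i) (Sum.inl j) = 0 := fun i j => by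
    refine Groth.Agent.Chevalley.block_of_moved (k := k) (hp0 ▸ hcu : IsUnit (p1 Sum.inl)) (fun J => ?_) i j
    rw [← Groth.Agent.Chevalley.moved_kpow_wedge (k := k)]
    show p1 J = algebraMap k R (u1 J) * p1 Sum.inl
    rw [hp0]
    exact hp J
  intro x hx
  rw [← hker] at hx
  rw [← hsI] at hx
  induction hx using Submodule.span_induction with
  | mem x hx =>
    have hxV : x ∈ V0 := Submodule.mem_iSup_of_mem ⟨x, hx⟩ (hNmem x)
    have hxW : (⟨x, hxV⟩ : V0) ∈ W := by
      show x ∈ RingHom.ker (π : A →+* B)
      rw [← hsI]; exact Submodule.subset_span hx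
    have hga : ∀ j, g (a (Sum.inl j)) = 0 := fun j => by
      rw [haX, map_sum, Fintype.sum_sum_type]
      simp only [map_smul]
      rw [Finset.sum_eq_zero, Finset.sum_eq_zero, add_zero]
      · intro i _
        rw [show g (X (Sum.inr i) (Sum.inl j)) = 0 from hMblock i j, smul_zero]
      · intro i _
        rw [← hcounit, haI, map_zero, zero_smul]
    have hr := congrArg (fun w : W => g ((w : V0) : A)) (bW.sum_repr ⟨_, hxW⟩)
    simp only [Submodule.coe_sum, Submodule.coe_smul, map_sum, map_smul] at hr
    rw [← hr]
    refine Finset.sum_eq_zero fun j _ => ?_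
    rw [← hel, show g (e (Sum.inl j) : A) = 0 from hga j, smul_zero]
  | zero => simp
  | add y z _ _ hy hz => rw [map_add, hy, hz, add_zero]
  | smul r y _ hy => rw [smul_eq_mul, map_mul, hy, mul_zero]


end Groth.Agent.S3019
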