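import Groth.Statements.S3021
import Groth.Agent.Lib.CoalgH23.Basic

set_option autoImplicit false
universe u
open CategoryTheory MonoidalCategory CartesianMonoidalCategory MonObj GrpObj AlgebraicGeometry TensorProduct
open SGA3

namespace Groth.Agent.S3021

/-- Let A be a commutative ring, C an A-coalgebra which is projective as an A-module, V a C-comodule and
M an A-submodule of V. Then there is a smallest subcomodule of V containing M, and it is finitely
generated over A when M is. -/
theorem result (A : Type u) [CommRing A] (C : Type u) [AddCommGroup C] [Module A C]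
    [Coalgebra A C] [Module.Projective A C] (V : Type u) [AddCommGroup V] [Module A V] [HopfRep.Comod A C V]
    (M : Submodule A V) :
    ∃ W : Submodule A V, HopfRep.IsSubcomod (k := A) (A := C) W ∧ M ≤ W ∧
      (∀ W' : Submodule A V, HopfRep.IsSubcomod (k := A) (A := C) W' → M ≤ W' → W ≤ W') ∧
      (M.FG → W.FG) := by
  obtain ⟨i, hi⟩ := Module.projective_def'.1 ‹Module.Projective A C›
  have hdec : ∀ x : V ⊗[A] C, ∃ s : Finset C,
      x = ∑ e ∈ s, (CoalgH23.slice ((Finsupp.lapply e).comp i) x) ⊗ₜ[A] e := by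
    intro x
    classical
    suffices h : ∃ s : Finset C, ∀ t, s ⊆ t →
        x = ∑ e ∈ t, (CoalgH23.slice ((Finsupp.lapply e).comp i) x) ⊗ₜ[A] e from
      let ⟨s, hs⟩ := h; ⟨s, hs s subset_rfl⟩
    induction x using TensorProduct.induction_on with
    | zero => exact ⟨∅, fun t _ => by simp⟩
    | add p q hp hq =>
      obtain ⟨s, hs⟩ := hp
      obtain ⟨s', hs'⟩ := hq
      refine ⟨s ∪ s', fun t ht => ?_⟩
      simp only [map_add, TensorProduct.add_tmul, Finset.sum_add_distrib]
      rw [← hs t (Finset.union_subset_left ht), ← hs' t (Finset.union_subset_right ht)]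
    | tmul v c =>
      refine ⟨(i c).support, fun t ht => ?_⟩
      have hc : ∑ e ∈ t, (i c) e • e = c := by
        have := LinearMap.congr_fun hi c
        simp only [LinearMap.comp_apply, Finsupp.linearCombination_apply, LinearMap.id_apply,
          id_eq] at this
        refine Eq.trans ?_ this
        exact (Finset.sum_subset ht fun e _ he => by rw [Finsupp.notMem_support_iff.1 he, zero_smul]).symm
      conv_lhs => rw [← hc, TensorProduct.tmul_sum]
      refine Finset.sum_congr rfl fun e _ => ?_
      simp [TensorProduct.smul_tmul]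
  let W : Submodule A V := ⨆ χ : C →ₗ[A] A, M.map (CoalgH23.actL χ)
  have hsub : ∀ N : Submodule A V, (∀ w ∈ N, ∀ χ : C →ₗ[A] A, CoalgH23.actL χ w ∈ N) →
      HopfRep.IsSubcomod (k := A) (A := C) N := by
    intro N hN w hw
    obtain ⟨s, hs⟩ := hdec (HopfRep.Comod.coact (k := A) (A := C) w)
    rw [hs]
    exact Submodule.sum_mem _ fun e _ => ⟨⟨_, hN w hw _⟩ ⊗ₜ e, rfl⟩
  have hmem : ∀ (χ : C →ₗ[A] A) (m : V), m ∈ M → CoalgH23.actL χ m ∈ W := fun χ m hm =>
    Submodule.mem_iSup_of_mem χ (Submodule.mem_map_of_mem hm)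
  have hstab : ∀ w ∈ W, ∀ χ : C →ₗ[A] A, CoalgH23.actL χ w ∈ W := by
    intro w hw χ
    have : W ≤ W.comap (CoalgH23.actL χ) := iSup_le fun ψ => by
      rintro _ ⟨m, hm, rfl⟩
      show CoalgH23.actL χ (CoalgH23.actL ψ m) ∈ W
      have := CoalgH23.slice_mul (WithConv.toConv χ) (WithConv.toConv ψ) m
      rw [show CoalgH23.actL χ (CoalgH23.actL ψ m) = _ from this.symm]
      exact hmem _ m hm
    exact this hw
  refine ⟨W, hsub W hstab, fun m hm => ?_, fun W' hW' hMW' => iSup_le fun χ => ?_, fun hfg => ?_⟩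
  · have := hmem CoalgebraStruct.counit m hm
    rwa [CoalgH23.actL_counit] at this
  · rintro _ ⟨m, hm, rfl⟩
    exact CoalgH23.slice_mem_of_mem_range χ W' (hW' m (hMW' hm))
  · obtain ⟨S, hS⟩ := hfg
    classical
    choose s hs using fun m : V => hdec (HopfRep.Comod.coact (k := A) (A := C) m)
    let g : Finset V := S.biUnion fun m => (s m).image fun e => CoalgH23.actL ((Finsupp.lapply e).comp i) m
    refine ⟨g, le_antisymm (Submodule.span_le.2 ?_) (iSup_le fun χ => ?_)⟩
    · intro v hv
      obtain ⟨m, hm, hv⟩ := Finset.mem_biUnion.1 hv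
      obtain ⟨e, -, rfl⟩ := Finset.mem_image.1 hv
      exact hmem _ m (hS ▸ Submodule.subset_span hm)
    · rw [← hS, Submodule.map_span_le]
      intro m hm
      show CoalgH23.slice χ (HopfRep.Comod.coact (k := A) (A := C) m) ∈ _
      rw [hs m, map_sum]
      refine Submodule.sum_mem _ fun e he => ?_
      rw [CoalgH23.slice_tmul]
      exact Submodule.smul_mem _ _ (Submodule.subset_span
        (Finset.mem_biUnion.2 ⟨m, hm, Finset.mem_image.2 ⟨e, he, rfl⟩⟩))

end Groth.Agent.S3021
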