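import Groth.Statements.S7519
import Groth.Agent.Lib.AbRigid.Maximal
import Groth.Agent.Lib.WeilEq.Represent

set_option autoImplicit false
universe u
open CategoryTheory MonoidalCategory CartesianMonoidalCategory MonObj GrpObj AlgebraicGeometry
open GrpSch

namespace Groth.Agent.S7519

open Groth.Agent.AbRigid


/-- Let G be a group scheme locally of finite type over a field k. Then the centre of G is
(representable by) a closed subgroup scheme of G: there are a scheme Z over k and a closed immersion
Z -> G over k such that for every scheme T over k, a T-valued point g of G factors through Z if and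
only if g is central, i.e. for every T' -> T over k and every T'-valued point g' of G, the
restriction of g to T' commutes with g' in the group G(T'). -/
theorem result (K : Type u) [Field K] (G : Over (Spec (CommRingCat.of K))) [GrpObj G] [LocallyOfFiniteType G.hom] : ∃ (Z : Over (Spec (CommRingCat.of K))) (incl : Z ⟶ G), IsClosedImmersion incl.left ∧ ∀ (T : Over (Spec (CommRingCat.of K))) (g : T ⟶ G), (∃ z : T ⟶ Z, z ≫ incl = g) ↔ ∀ (T' : Over (Spec (CommRingCat.of K))) (h : T' ⟶ T) (g' : T' ⟶ G), (h ≫ g) * g' = g' * (h ≫ g) := by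
  haveI : IsSeparated G.hom := isSeparated_of_grpObj G
  obtain ⟨Z, i, hi, hZ⟩ := WeilEq.exists_closedSubscheme G.hom G.hom
    (fst G G * snd G G).left (snd G G * fst G G).left G.hom
    ((Over.w _).trans (Over.w _).symm)
  refine ⟨Over.mk (i ≫ G.hom), Over.homMk i rfl, hi, fun T g => ⟨?_, fun h => ?_⟩⟩
  · rintro ⟨z, rfl⟩ T' h g'
    set u : T' ⟶ G ⊗ G := lift (h ≫ z ≫ Over.homMk i rfl) g'
    have hg : WeilEq.Good G.hom G.hom (fst G G * snd G G).left (snd G G * fst G G).left (z.left ≫ i) :=
      (hZ _).1 ⟨z.left, rfl⟩
    have he := hg T'.left h.left u.left (by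
      change (u ≫ fst G G).left = _
      rw [lift_fst, Over.comp_left, Over.comp_left]
      rfl)
    have he' : u ≫ (fst G G * snd G G) = u ≫ (snd G G * fst G G) := Over.OverMorphism.ext he
    rwa [comp_mul, comp_mul, lift_fst, lift_snd] at he'
  · have hg : WeilEq.Good G.hom G.hom (fst G G * snd G G).left (snd G G * fst G G).left g.left := by
      intro W p w hw
      let T' : Over (Spec (CommRingCat.of K)) := Over.mk (p ≫ T.hom)
      let hh : T' ⟶ T := Over.homMk p rfl
      let u : T' ⟶ G ⊗ G := Over.homMk w (by
        show w ≫ Limits.pullback.fst G.hom G.hom ≫ G.hom = p ≫ T.hom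
        rw [reassoc_of% hw, Over.w g])
      have hu : u ≫ fst G G = hh ≫ g := Over.OverMorphism.ext hw
      have he : u ≫ (fst G G * snd G G) = u ≫ (snd G G * fst G G) := by
        rw [comp_mul, comp_mul, hu]
        exact h T' hh (u ≫ snd G G)
      exact congr(($he).left)
    obtain ⟨z, hz⟩ := (hZ g.left).2 hg
    exact ⟨Over.homMk z (by show z ≫ i ≫ G.hom = _; rw [reassoc_of% hz, Over.w]), Over.OverMorphism.ext hz⟩

end Groth.Agent.S7519
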