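import Groth.Statements.S3027
import Groth.Agent.S7519
import Groth.Agent.S14575
import Groth.Agent.Lib.QuotField20.Normal
import Groth.Agent.Lib.SubGrp13.Basic
import Groth.Prelude.Def_Red2

set_option autoImplicit false
universe u
open CategoryTheory MonoidalCategory CartesianMonoidalCategory MonObj GrpObj AlgebraicGeometry TensorProduct
open SGA3

namespace Groth.Agent.S3027

/-- Let G be a connected group scheme of finite type over a field k. Then the centre of G (the
subfunctor of points g such that g commutes with every point of G after every base change) is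
represented by a closed subgroup scheme Z of G, and the quotient G/Z is an affine k-group: there are
an affine group scheme Q and a faithfully flat homomorphism q : G → Q with kernel Z. -/
theorem result (k : Type u) [Field k] (G : Over (Spec (CommRingCat.of k))) [GrpObj G]
    [LocallyOfFiniteType G.hom] [QuasiCompact G.hom] [ConnectedSpace G.left] :
    ∃ (Z : Over (Spec (CommRingCat.of k))) (_ : GrpObj Z) (i : Z ⟶ G), IsMonHom i ∧ IsClosedImmersion i.left ∧
      (∀ (T : Over (Spec (CommRingCat.of k))) (g : T ⟶ G),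
        (∃ z : T ⟶ Z, z ≫ i = g) ↔ ∀ (T' : Over (Spec (CommRingCat.of k))) (t : T' ⟶ T) (h : T' ⟶ G), (t ≫ g) * h = h * (t ≫ g)) ∧
      ∃ (Q : Over (Spec (CommRingCat.of k))) (_ : GrpObj Q) (q : G ⟶ Q), IsMonHom q ∧ IsAffine Q.left ∧ LocallyOfFiniteType Q.hom ∧
        Flat q.left ∧ Surjective q.left ∧ AlgGrp.IsKernel i q := by
  obtain ⟨Z, i, hic, hi⟩ := Groth.Agent.S7519.result k G
  haveI : Mono i.left := inferInstance
  haveI : Mono i := Over.mono_of_mono_left i
  have comm : ∀ {T : Over (Spec (CommRingCat.of k))} (z : T ⟶ Z) (h : T ⟶ G), (z ≫ i) * h = h * (z ≫ i) := by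
    intro T z h
    have := (hi T (z ≫ i)).1 ⟨z, rfl⟩ T (𝟙 T) h
    simpa only [Category.id_comp] using this
  obtain ⟨m, hm⟩ := (hi (Z ⊗ Z) ((fst Z Z ≫ i) * (snd Z Z ≫ i))).2 fun T' t h => by
    rw [MonObj.comp_mul, ← Category.assoc, ← Category.assoc, _root_.mul_assoc, comm (t ≫ snd Z Z) h,
      ← _root_.mul_assoc, comm (t ≫ fst Z Z) h, _root_.mul_assoc]
  obtain ⟨e, he⟩ := (hi (𝟙_ _) (1 : 𝟙_ (Over (Spec (CommRingCat.of k))) ⟶ G)).2 fun T' t h => by
    rw [MonObj.comp_one, _root_.one_mul, _root_.mul_one]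
  obtain ⟨n, hn⟩ := (hi Z i⁻¹).2 fun T' t h => by
    rw [GrpObj.comp_inv]
    exact (Commute.inv_left (comm t h : Commute (t ≫ i) h)).eq
  letI := Groth.Agent.SubGrp13.grpObjOfMono i hm he hn
  haveI hmon : IsMonHom i := Groth.Agent.SubGrp13.isMonHom_grpObjOfMono i hm he hn
  haveI : LocallyOfFiniteType Z.hom := by rw [← Over.w i]; infer_instance
  haveI := Groth.Agent.QuotField20.flat_hom Z
  obtain ⟨X, p, hp, hpb, -, hlft, -, hqc, -⟩ :=
    Groth.Agent.QuotField20.exists_quotient_artinian i hic
  have hN : AlgGrp.IsNormalHom i := fun T g z => ⟨z, by rw [← comm z g, mul_inv_cancel_right]⟩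
  obtain ⟨iX, hpm, hk⟩ := Groth.Agent.QuotField20.exists_grpObj_quotient i hp hpb hN
  haveI := hpm; haveI := hp.surj; haveI := hp.flat; haveI := hlft; haveI := hqc ‹_›
  have hcentre : Red.IsCentre i := ⟨hmon, inferInstance, fun T g => by
    simpa only [Category.comp_id] using hi T g⟩
  haveI := Groth.Agent.S14575.result k G Z i hcentre X p hk
  exact ⟨Z, _, i, hmon, hic, hi, X, iX, p, hpm, ‹_›, hlft, hp.flat, hp.surj, hk⟩

end Groth.Agent.S3027
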