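import Groth.Statements.S3029
import Groth.Agent.Lib.GrpCM20.Basic

set_option autoImplicit false
universe u
open CategoryTheory MonoidalCategory CartesianMonoidalCategory MonObj GrpObj AlgebraicGeometry TensorProduct
open SGA3

namespace Groth.Agent.S3029

/-- Let G be a group scheme locally of finite type over a field k and x a point of G. Then the local
ring of G at x is Cohen–Macaulay. (This is the case of a base field; the published statement treats
flat groups over a local Artinian ring.) -/
theorem result (k : Type u) [Field k] (G : Over (Spec (CommRingCat.of k))) [GrpObj G]
    [LocallyOfFiniteType G.hom] (x : G.left) :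
    LocCoh.IsCohenMacaulayLocalRing (G.left.presheaf.stalk x) := by
  exact GrpCM20.isCM G x

end Groth.Agent.S3029
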