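import Groth.Statements.S3031
import Groth.Agent.Lib.GrpGen20.Generated

set_option autoImplicit false
universe u
open CategoryTheory MonoidalCategory CartesianMonoidalCategory MonObj GrpObj AlgebraicGeometry TensorProduct
open SGA3

namespace Groth.Agent.S3031

/-- With X connected and possessing a rational point over the identity, a case of 'geometrically
connected with e ∈ f(X)': let G be a group scheme over a field k, X a connected, geometrically
reduced k-scheme, x a k-point of X and f : X → G a k-morphism with f(x) the identity. Then the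
smallest closed subgroup scheme of G through which f factors is connected. -/
theorem result (k : Type u) [Field k] (G X : Over (Spec (CommRingCat.of k))) [GrpObj G]
    [GeometricallyReduced X.hom] [ConnectedSpace X.left] (x : 𝟙_ (Over (Spec (CommRingCat.of k))) ⟶ X) (f : X ⟶ G)
    (hx : x ≫ f = η[G])
    (Γ : Over (Spec (CommRingCat.of k))) [GrpObj Γ] (i : Γ ⟶ G) [IsMonHom i] [IsClosedImmersion i.left]
    (hf : ∃ f' : X ⟶ Γ, f' ≫ i = f)
    (hmin : ∀ (Γ' : Over (Spec (CommRingCat.of k))) (_ : GrpObj Γ') (i' : Γ' ⟶ G), IsMonHom i' → IsClosedImmersion i'.left →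
        (∃ f'' : X ⟶ Γ', f'' ≫ i' = f) → ∃ j : Γ ⟶ Γ', j ≫ i' = i) :
    ConnectedSpace Γ.left := by
  obtain ⟨Γ₀, hΓ₀, i₀, h1, h2, h3, -, hrange, h5⟩ := GrpGen20.exists_generated f
  obtain ⟨a, ha⟩ := hmin Γ₀ hΓ₀ i₀ h1 h2 h3
  obtain ⟨b, hb⟩ := h5 Γ inferInstance i inferInstance inferInstance hf
  have hr : Set.range i.left = Set.range i₀.left := by
    refine Set.Subset.antisymm ?_ ?_
    · rw [← ha, Over.comp_left, Scheme.Hom.comp_base, TopCat.coe_comp]; exact Set.range_comp_subset_range _ _
    · rw [← hb, Over.comp_left, Scheme.Hom.comp_base, TopCat.coe_comp]; exact Set.range_comp_subset_range _ _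
  have hc : _root_.IsPreconnected (Set.range i.left) := by
    rw [hr, hrange]; exact (GrpGen20.isPreconnected_genSet f x hx).closure
  haveI : Nonempty Γ.left := ⟨η[Γ].left (IsLocalRing.closedPoint k)⟩
  haveI : PreconnectedSpace Γ.left := ⟨by
    rw [← i.left.isClosedEmbedding.isInducing.isPreconnected_image, Set.image_univ]; exact hc⟩
  exact ⟨inferInstance⟩

end Groth.Agent.S3031
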