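import Groth.Statements.S3032
import Groth.Agent.Lib.CoalgH23.Basic

set_option autoImplicit false
universe u
open CategoryTheory MonoidalCategory CartesianMonoidalCategory MonObj GrpObj AlgebraicGeometry TensorProduct
open SGA3

namespace Groth.Agent.S3032

/-- Let R be a Noetherian commutative ring, C an R-coalgebra which is flat as an R-module, V a
C-comodule and M a finitely generated R-submodule of V. Then M is contained in a subcomodule of V
which is finitely generated over R. -/
theorem result (R : Type u) [CommRing R] [IsNoetherianRing R] (C : Type u) [AddCommGroup C]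
    [Module R C] [Coalgebra R C] [Module.Flat R C] (V : Type u) [AddCommGroup V] [Module R V] [HopfRep.Comod R C V]
    (M : Submodule R V) (hM : M.FG) :
    ∃ W : Submodule R V, HopfRep.IsSubcomod (k := R) (A := C) W ∧ M ≤ W ∧ W.FG := by
  classical
  obtain ⟨S, hS⟩ := hM
  have hdec : ∀ x : V ⊗[R] C, ∃ N : Submodule R V, N.FG ∧ x ∈ LinearMap.range (N.subtype.rTensor C) := by
    intro x
    induction x using TensorProduct.induction_on with
    | zero => exact ⟨⊥, Submodule.fg_bot, Submodule.zero_mem _⟩
    | tmul v c => exact ⟨Submodule.span R {v}, Submodule.fg_span_singleton v,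
        ⟨⟨v, Submodule.mem_span_singleton_self v⟩ ⊗ₜ c, rfl⟩⟩
    | add p q hp hq =>
      obtain ⟨N, hN, hp⟩ := hp
      obtain ⟨N', hN', hq⟩ := hq
      have hmono : ∀ {P Q : Submodule R V}, P ≤ Q → ∀ {y}, y ∈ LinearMap.range (P.subtype.rTensor C) →
          y ∈ LinearMap.range (Q.subtype.rTensor C) := by
        rintro P Q h y ⟨z, rfl⟩
        exact ⟨(Submodule.inclusion h).rTensor C z, by rw [← LinearMap.rTensor_comp_apply]; rfl⟩
      exact ⟨N ⊔ N', hN.sup hN', Submodule.add_mem _ (hmono le_sup_left hp) (hmono le_sup_right hq)⟩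
  choose Nm hNfg hNmem using fun m : V => hdec (HopfRep.Comod.coact (k := R) (A := C) m)
  let N : Submodule R V := S.sup Nm
  have hN : N.FG := by
    refine Finset.sup_induction (p := Submodule.FG) Submodule.fg_bot (fun a ha b hb => ha.sup hb) fun m _ => hNfg m
  let F : V →ₗ[R] (V ⧸ N) ⊗[R] C := N.mkQ.rTensor C ∘ₗ HopfRep.Comod.coact (k := R) (A := C)
  refine ⟨LinearMap.ker F, fun w hw => ?_, ?_, ?_⟩
  · refine (Module.Flat.rTensor_exact C (LinearMap.exact_subtype_ker_map F) _).1 ?_
    have hc := congrArg ((N.mkQ.rTensor (C ⊗[R] C)))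
      (LinearMap.congr_fun (HopfRep.Comod.coassoc (k := R) (A := C) (V := V)) w)
    have e1 : ∀ z : V ⊗[R] C, TensorProduct.assoc R _ C C (F.rTensor C z) =
        N.mkQ.rTensor (C ⊗[R] C) (TensorProduct.assoc R V C C ((HopfRep.Comod.coact (k := R) (A := C)).rTensor C z)) := by
      intro z
      have e2 : ∀ y : (V ⊗[R] C) ⊗[R] C, TensorProduct.assoc R _ C C ((N.mkQ.rTensor C).rTensor C y) =
          N.mkQ.rTensor (C ⊗[R] C) (TensorProduct.assoc R V C C y) := fun y =>
        LinearMap.congr_fun (TensorProduct.ext_threefold (fun a b c => rfl) :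
          (TensorProduct.assoc R _ C C).toLinearMap ∘ₗ (N.mkQ.rTensor C).rTensor C =
            N.mkQ.rTensor (C ⊗[R] C) ∘ₗ (TensorProduct.assoc R V C C).toLinearMap) y
      rw [← e2, ← LinearMap.rTensor_comp_apply]
    simp only [LinearMap.comp_apply, LinearEquiv.coe_coe] at hc
    refine (TensorProduct.assoc R _ C C).injective ?_
    rw [e1, hc, map_zero]
    have e3 : ∀ y : V ⊗[R] C, N.mkQ.rTensor (C ⊗[R] C) ((CoalgebraStruct.comul (R := R) (A := C)).lTensor V y) =
        (CoalgebraStruct.comul (R := R) (A := C)).lTensor _ (N.mkQ.rTensor C y) := fun y =>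
      LinearMap.congr_fun (TensorProduct.ext' (fun a b => rfl) :
        N.mkQ.rTensor (C ⊗[R] C) ∘ₗ (CoalgebraStruct.comul (R := R) (A := C)).lTensor V =
          (CoalgebraStruct.comul (R := R) (A := C)).lTensor _ ∘ₗ N.mkQ.rTensor C) y
    rw [e3, show N.mkQ.rTensor C (HopfRep.Comod.coact (k := R) (A := C) w) = 0 from hw, map_zero]
  · rw [← hS, Submodule.span_le]
    intro m hm
    show N.mkQ.rTensor C (HopfRep.Comod.coact (k := R) (A := C) m) = 0
    obtain ⟨z, hz⟩ := hNmem m
    rw [← hz, ← LinearMap.rTensor_comp_apply,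
      show N.mkQ ∘ₗ (Nm m).subtype = 0 from LinearMap.ext fun a =>
        (Submodule.Quotient.mk_eq_zero N).2 (Finset.le_sup (f := Nm) hm a.2)]
    simp
  · refine Submodule.FG.of_le hN fun w hw => ?_
    have h2 : CoalgH23.slice CoalgebraStruct.counit (F w) = N.mkQ w := by
      show CoalgH23.slice CoalgebraStruct.counit (N.mkQ.rTensor C _) = _
      rw [CoalgH23.slice_rTensor]
      exact congrArg N.mkQ (LinearMap.congr_fun CoalgH23.actL_counit w)
    rw [LinearMap.mem_ker.1 hw, map_zero] at h2
    exact (Submodule.Quotient.mk_eq_zero N).1 h2.symm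

end Groth.Agent.S3032
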