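import Groth.Statements.S3033
import Groth.Agent.Lib.AlgGrpBasic19.Basic
import Groth.Agent.Lib.FibDim14.Comp
import Groth.Agent.Lib.FibDim14.BaseChange
import Groth.Agent.Lib.TopDimLib.Basic
import Groth.Agent.Lib.GrpNeutral20.Basic
import Groth.Agent.Lib.SectionCompOpen4

set_option autoImplicit false
universe u
open CategoryTheory MonoidalCategory CartesianMonoidalCategory MonObj GrpObj AlgebraicGeometry TensorProduct
open SGA3

namespace Groth.Agent.S3033

/-- Let A be a local artinian ring and G a group scheme locally of finite type over A acting on a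
nonempty A-scheme X locally of finite type, such that the morphism G ×_A X → X ×_A X, (g, x) ↦ (g·x,
x), is surjective. Then all connected components of X have the same dimension. The published
statement also asserts that the connected components are irreducible; that is not asserted here (it
is stated separately). -/
theorem result (A : Type u) [CommRing A] [IsArtinianRing A] [IsLocalRing A]
    (G X : Over (Spec (CommRingCat.of A))) [GrpObj G] [LocallyOfFiniteType G.hom] [LocallyOfFiniteType X.hom] [Nonempty X.left]
    (a : AlgGrp.Action G X) (hΦ : Surjective (lift a.act (snd G X)).left) (x y : X.left) :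
    topologicalKrullDim ↥(connectedComponent x) = topologicalKrullDim ↥(connectedComponent y) := by
  haveI : Subsingleton ↥(Spec (CommRingCat.of A)) := ⟨fun P Q => PrimeSpectrum.ext <| by
    haveI hP : P.asIdeal.IsMaximal := inferInstance
    haveI hQ : Q.asIdeal.IsMaximal := inferInstance
    rw [IsLocalRing.eq_maximalIdeal hP, IsLocalRing.eq_maximalIdeal hQ]⟩
  have hfd : ∀ x : X.left, FlatMor.localDim X.left x = FlatMor.fibreDimAt X.hom x := by
    intro x
    have ho : Topology.IsOpenEmbedding (X.hom.fiberι (X.hom x)) := by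
      refine ⟨(X.hom.fiberι _).isEmbedding, ?_⟩
      rw [Scheme.Hom.range_fiberι, show X.hom ⁻¹' {X.hom x} = Set.univ from
        Set.eq_univ_of_forall fun w => Subsingleton.elim _ _]
      exact isOpen_univ
    conv_lhs => rw [← X.hom.fiberι_asFiber x]
    exact (FibDim14.localDim_of_isOpenEmbedding ho _).symm
  have hconst : ∀ x y : X.left, FlatMor.fibreDimAt X.hom x = FlatMor.fibreDimAt X.hom y := by
    intro x y
    obtain ⟨z, hz1, hz2⟩ := Scheme.Pullback.exists_preimage_pullback (f := X.hom) (g := X.hom) x y (Subsingleton.elim _ _)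
    obtain ⟨w, hw⟩ := hΦ.surj z
    have hwx : a.act.left w = x := by
      rw [← hz1, ← hw]
      exact (congrArg (fun φ => φ.left w) (lift_fst a.act (snd G X))).symm.trans (GrpNeutral20.hap _ _ _)
    have hwy : (snd G X).left w = y := by
      rw [← hz2, ← hw]
      exact (congrArg (fun φ => φ.left w) (lift_snd a.act (snd G X))).symm.trans (GrpNeutral20.hap _ _ _)
    let T : CategoryTheory.Over (Spec (CommRingCat.of A)) :=
      CategoryTheory.Over.mk ((G ⊗ X).left.fromSpecResidueField w ≫ (G ⊗ X).hom)
    let ρ : T ⟶ G ⊗ X := CategoryTheory.Over.homMk ((G ⊗ X).left.fromSpecResidueField w) rfl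
    let pt : T.left := (IsLocalRing.closedPoint ((G ⊗ X).left.residueField w) : Spec ((G ⊗ X).left.residueField w))
    have hρ : ρ.left pt = w := Scheme.fromSpecResidueField_apply w _
    let g : T ⟶ G := ρ ≫ fst G X
    let τ : (T ⟶ G) → (T ⊗ X ⟶ T ⊗ X) := fun g => lift (fst T X) (lift (fst T X ≫ g) (snd T X) ≫ a.act)
    have hττ : ∀ g, τ g ≫ τ g⁻¹ = 𝟙 _ := fun g => by
      apply CartesianMonoidalCategory.hom_ext
      · simp [τ]
      · simp only [τ, Category.assoc, lift_snd, comp_lift_assoc, lift_fst_assoc, Category.id_comp]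
        rw [← AlgGrpBasic19.act_mul, GrpObj.comp_inv, inv_mul_cancel, AlgGrpBasic19.act_one]
    let e : T ⊗ X ≅ T ⊗ X :=
      { hom := τ g, inv := τ g⁻¹, hom_inv_id := hττ g, inv_hom_id := by simpa using hττ g⁻¹ }
    haveI : IsIso (τ g).left := inferInstanceAs (IsIso ((CategoryTheory.Over.forget _).mapIso e).hom)
    have hτ : lift (𝟙 T) (ρ ≫ snd G X) ≫ τ g = lift (𝟙 T) (ρ ≫ a.act) := by
      apply CartesianMonoidalCategory.hom_ext
      · simp [τ]
      · simp only [τ, g, Category.assoc, lift_snd]
        rw [comp_lift_assoc, lift_fst_assoc, lift_snd, Category.id_comp, ← comp_lift_assoc, lift_fst_snd,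
          Category.id_comp]
    have sq : IsPullback (snd T X).left (fst T X).left X.hom T.hom :=
      (IsPullback.of_hasPullback T.hom X.hom).flip
    haveI : LocallyOfFiniteType (fst T X).left := MorphismProperty.of_isPullback sq ‹LocallyOfFiniteType X.hom›
    have key : FlatMor.fibreDimAt (fst T X).left ((τ g).left ((lift (𝟙 T) (ρ ≫ snd G X)).left pt)) =
        FlatMor.fibreDimAt (fst T X).left ((lift (𝟙 T) (ρ ≫ snd G X)).left pt) := by
      rw [← FibDim14.fibreDimAt_etale_comp (τ g).left (fst T X).left, ← CategoryTheory.Over.comp_left, show τ g ≫ fst T X = fst T X by simp [τ]]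
    rw [← GrpNeutral20.hap, hτ, FibDim14.fibreDimAt_baseChange sq, FibDim14.fibreDimAt_baseChange sq,
      ← GrpNeutral20.hap, ← GrpNeutral20.hap, lift_snd, lift_snd, GrpNeutral20.hap, GrpNeutral20.hap, hρ, hwx, hwy] at key
    exact key
  haveI : IsLocallyNoetherian X.left := LocallyOfFiniteType.isLocallyNoetherian X.hom
  haveI := SectionCompOpen4.locallyConnectedSpace X.left
  have hdim : ∀ c : X.left, topologicalKrullDim ↥(connectedComponent c) = FlatMor.fibreDimAt X.hom c := by
    intro c
    haveI : Nonempty ↥(connectedComponent c) := ⟨⟨c, mem_connectedComponent⟩⟩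
    rw [TopDimLib.dim_eq_iSup_localDim]
    have e : ∀ w : ↥(connectedComponent c), FlatMor.localDim ↥(connectedComponent c) w = FlatMor.fibreDimAt X.hom c := fun w => by
      rw [← hconst w.1 c, ← hfd, FibDim14.localDim_of_isOpenEmbedding isOpen_connectedComponent.isOpenEmbedding_subtypeVal w]
    simp only [e, ciSup_const]
  rw [hdim, hdim, hconst]


end Groth.Agent.S3033
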