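import Groth.Statements.S3035
import Groth.Agent.Lib.GrpFin20.Proper

set_option autoImplicit false
universe u
open CategoryTheory MonoidalCategory CartesianMonoidalCategory MonObj GrpObj AlgebraicGeometry TensorProduct
open SGA3

namespace Groth.Agent.S3035

/-- (i) ⟺ (iii): let A be a local artinian ring and u : G → H a quasi-compact homomorphism between group
schemes locally of finite type over A. Then u is proper if and only if the kernel of u (the fibre of
u over the unit section) is proper over A. -/
theorem result (A : Type u) [CommRing A] [IsArtinianRing A] [IsLocalRing A]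
    (G H : Over (Spec (CommRingCat.of A))) [GrpObj G] [GrpObj H] [LocallyOfFiniteType G.hom] [LocallyOfFiniteType H.hom]
    (u : G ⟶ H) [IsMonHom u] [QuasiCompact u.left] :
    IsProper u.left ↔ IsProper (Limits.pullback.snd u.left (η[H] : 𝟙_ (Over (Spec (CommRingCat.of A))) ⟶ H).left) := by
  refine ⟨fun h => MorphismProperty.pullback_snd _ _ h, fun h => ?_⟩
  let N : Over (Spec (CommRingCat.of A)) :=
    Over.mk (Limits.pullback.snd u.left (η[H] : 𝟙_ (Over (Spec (CommRingCat.of A))) ⟶ H).left)
  let ι₀ : N ⟶ G := Over.homMk (Limits.pullback.fst u.left (η[H] : 𝟙_ (Over (Spec (CommRingCat.of A))) ⟶ H).left) (by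
    have h1 : (η[H] : 𝟙_ (Over (Spec (CommRingCat.of A))) ⟶ H).left ≫ H.hom = 𝟙 _ := Over.w η[H]
    rw [← Over.w u, Limits.pullback.condition_assoc, h1]
    exact Category.comp_id _)
  have hN : IsPullback ι₀ (toUnit N) u η[H] := by
    refine IsPullback.of_map (Over.forget _) ?_ ?_
    · ext1
      simp [ι₀, N, Limits.pullback.condition]
    · simpa [N, ι₀] using IsPullback.of_hasPullback u.left (η[H] : 𝟙_ (Over (Spec (CommRingCat.of A))) ⟶ H).left
  haveI : IsProper N.hom := h
  exact GrpFin20.isProper_of_artinian A G H u N ι₀ hN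

end Groth.Agent.S3035
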