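import Groth.Statements.S3037
import Groth.Agent.Lib.GrpFin20.Kernel

set_option autoImplicit false
universe u
open CategoryTheory MonoidalCategory CartesianMonoidalCategory MonObj GrpObj AlgebraicGeometry TensorProduct
open SGA3

namespace Groth.Agent.S3037

/-- (iii) ⟺ (v): let A be a local artinian ring and u : G → H a quasi-compact homomorphism between group
schemes locally of finite type over A. Then u is finite if and only if the kernel of u (the fibre of
u over the unit section) is a discrete space. -/
theorem result (A : Type u) [CommRing A] [IsArtinianRing A] [IsLocalRing A]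
    (G H : Over (Spec (CommRingCat.of A))) [GrpObj G] [GrpObj H] [LocallyOfFiniteType G.hom] [LocallyOfFiniteType H.hom]
    (u : G ⟶ H) [IsMonHom u] [QuasiCompact u.left] :
    IsFinite u.left ↔ DiscreteTopology ↥(Limits.pullback u.left (η[H] : 𝟙_ (Over (Spec (CommRingCat.of A))) ⟶ H).left) := by
  refine ⟨fun h => ?_, fun h => ?_⟩
  · haveI : IsFinite (Limits.pullback.snd u.left (η[H] : 𝟙_ (Over (Spec (CommRingCat.of A))) ⟶ H).left) :=
      MorphismProperty.pullback_snd _ _ h
    let f : Limits.pullback u.left (η[H] : 𝟙_ (Over (Spec (CommRingCat.of A))) ⟶ H).left ⟶ Spec (CommRingCat.of A) :=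
      Limits.pullback.snd u.left (η[H] : 𝟙_ (Over (Spec (CommRingCat.of A))) ⟶ H).left
    haveI : IsFinite f := ‹IsFinite _›
    have hd := f.isDiscrete_preimage_singleton (IsLocalRing.closedPoint A)
    replace hd : _root_.IsDiscrete (Set.univ : Set ↥(Limits.pullback u.left (η[H] : 𝟙_ (Over (Spec (CommRingCat.of A))) ⟶ H).left)) :=
      hd.mono (fun x _ => Subsingleton.elim (α := PrimeSpectrum A) _ _)
    haveI := isDiscrete_iff_discreteTopology.1 hd
    exact (Homeomorph.Set.univ _).discreteTopology
  · haveI := GrpFin20.locallyQuasiFinite_of_discrete_kernel A G H u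
    exact GrpFin20.isFinite_of_artinian A G H u

end Groth.Agent.S3037
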