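import Groth.Statements.S5259
import Groth.Agent.Lib.PureSmooth29.SubgroupTransporter

set_option autoImplicit false
set_option backward.isDefEq.respectTransparency false
set_option backward.isDefEq.respectTransparency.types false
set_option maxSynthPendingDepth 3
open CategoryTheory MonoidalCategory CartesianMonoidalCategory MonObj GrpObj AlgebraicGeometry
universe u
open SGA3x

namespace Groth.Agent.S5259

/-- Centralizer: Let G be an S-group locally of finite type and quasi-separated over S, H an S-group
which is smooth and of finite presentation over S with connected fibres, and i : H ⟶ G a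
homomorphism which is a monomorphism. Then the centralizer of H in G is representable by a closed
subgroup scheme of G whose immersion into G is of finite presentation. -/
theorem result {S : Scheme.{u}} (G H : Over S) [GrpObj G] [GrpObj H]
    [LocallyOfFiniteType G.hom] [QuasiSeparated G.hom] [Smooth H.hom] [QuasiCompact H.hom] [QuasiSeparated H.hom]
    (hconn : ∀ s : S, ConnectedSpace ↥(Limits.pullback H.hom (S.fromSpecResidueField s)))
    (i : H ⟶ G) [IsMonHom i] [Mono i] :
    ∃ (Z : Over S) (_ : GrpObj Z) (j : Z ⟶ G), Red.IsCentralizerOf i j ∧ IsClosedImmersion j.left ∧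
      LocallyOfFinitePresentation j.left := by
  haveI : LocallyOfFinitePresentation i.left := by
    haveI : LocallyOfFinitePresentation (i.left ≫ G.hom) := by rw [Over.w i]; infer_instance
    exact SchBasic.locallyOfFinitePresentation_of_comp i.left G.hom
  haveI : QuasiCompact i.left := by
    haveI : QuasiCompact (i.left ≫ G.hom) := by rw [Over.w i]; infer_instance
    exact QuasiCompact.of_comp i.left G.hom
  haveI : QuasiCompact (lift (𝟙 G) (𝟙 G)).left := inferInstanceAs (QuasiCompact (Limits.pullback.diagonal G.hom))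
  haveI : LocallyOfFinitePresentation (lift (𝟙 G) (𝟙 G)).left := by
    show LocallyOfFinitePresentation (Limits.pullback.diagonal G.hom)
    haveI : LocallyOfFinitePresentation (Limits.pullback.diagonal G.hom ≫ Limits.pullback.fst G.hom G.hom) := by
      rw [Limits.pullback.diagonal_fst]; infer_instance
    exact SchBasic.locallyOfFinitePresentation_of_comp _ (Limits.pullback.fst G.hom G.hom)
  haveI : Mono (lift (𝟙 G) (𝟙 G)) := mono_of_mono_fac (lift_fst (𝟙 G) (𝟙 G))
  let φ : H ⊗ G ⟶ G ⊗ G := lift ((snd H G) * (fst H G ≫ i) * (snd H G)⁻¹) (fst H G ≫ i)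
  obtain ⟨Z, j, hj, hfp, hrep⟩ := PureSmooth29.exists_transporter_subgroup (G := G)
    (PureSmooth29.neutralSet_eq_univ hconn) (lift (𝟙 G) (𝟙 G)) φ (fun T h h' g => by
      apply CartesianMonoidalCategory.hom_ext
      · simp only [φ, MonObj.mul_comp, Category.assoc, lift_fst, MonObj.comp_mul, GrpObj.comp_inv, lift_snd,
          lift_fst_assoc]
        group
      · simp only [φ, MonObj.mul_comp, Category.assoc, lift_snd, lift_fst_assoc])
  haveI := hj
  haveI : Mono j := Over.mono_of_mono_left j
  have hiff : ∀ (X : Over S) (g : X ⟶ G), (∃ z : X ⟶ Z, z ≫ j = g) ↔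
      ∀ (X' : Over S) (x : X' ⟶ X) (h : X' ⟶ H), (x ≫ g) * (h ≫ i) = (h ≫ i) * (x ≫ g) := fun X g =>
    (hrep X g).trans (forall_congr' fun X' => forall_congr' fun x => forall_congr' fun h => by
      simp only [φ, comp_lift, MonObj.comp_mul, GrpObj.comp_inv, lift_snd, lift_fst_assoc, Category.comp_id]
      constructor
      · rintro ⟨κ, hκ⟩
        have h1 := congrArg (· ≫ fst G G) hκ
        have h2 := congrArg (· ≫ snd G G) hκ
        simp only [lift_fst, lift_snd] at h1 h2
        exact mul_inv_eq_iff_eq_mul.1 (h1.trans h2.symm)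
      · intro hc
        exact ⟨h ≫ i, by rw [mul_inv_eq_iff_eq_mul.2 hc]⟩)
  obtain ⟨hgrp, hhom⟩ := MTRigid29.exists_grpObj_of_subgroup j
    (fun X a b => (hiff X _).2 fun X' x h => by
      have ha := (hiff X _).1 ⟨a, rfl⟩ X' x h
      have hb := (hiff X _).1 ⟨b, rfl⟩ X' x h
      rw [MonObj.comp_mul, _root_.mul_assoc, hb, ← _root_.mul_assoc, ha, _root_.mul_assoc])
    ((hiff _ _).2 fun X' x h => by rw [MonObj.comp_one, _root_.one_mul, _root_.mul_one])
    (fun X a => (hiff X _).2 fun X' x h => by
      have ha : Commute (x ≫ a ≫ j) (h ≫ i) := (hiff X _).1 ⟨a, rfl⟩ X' x h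
      rw [GrpObj.comp_inv]
      exact ha.inv_left)
  letI := hgrp
  exact ⟨Z, inferInstance, j, ⟨hhom, inferInstance, hiff⟩, hj, hfp⟩

end Groth.Agent.S5259
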