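import Groth.Statements.S3042
import Groth.Agent.Lib.FibreLocus.Fibre
import Groth.Agent.Lib.AlgGrpBasic19.FibreIso

set_option autoImplicit false
universe u
open CategoryTheory MonoidalCategory CartesianMonoidalCategory MonObj GrpObj AlgebraicGeometry TensorProduct
open SGA3

namespace Groth.Agent.S3042

/-- Let f : X → Y be a morphism of schemes locally of finite type. Then f is a monomorphism if and only
if, for every point y of Y, the fibre X_y → Spec κ(y) is a monomorphism. -/
theorem result (X Y : Scheme.{u}) (f : X ⟶ Y) [LocallyOfFiniteType f] :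
    Mono f ↔ ∀ y : Y, Mono (f.fiberToSpecResidueField y) := by
  refine ⟨fun h y => MorphismProperty.of_isPullback (P := MorphismProperty.monomorphisms _)
    (IsPullback.of_hasPullback f (Y.fromSpecResidueField y)) (MorphismProperty.monomorphisms.infer_property f), fun H => ?_⟩
  have hK : ∀ (K : Type u) [Field K] (a : Spec (CommRingCat.of K) ⟶ Y), Mono (Limits.pullback.fst a f) := by
    intro K _ a
    obtain ⟨y, φ, rfl⟩ : ∃ (y : Y) (φ : Y.residueField y ⟶ CommRingCat.of K),
        Spec.map φ ≫ Y.fromSpecResidueField y = a :=
      ⟨_, _, Scheme.descResidueField_stalkClosedPointTo_fromSpecResidueField K Y a⟩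
    haveI := H y
    have sq : IsPullback (Limits.pullback.fst (Spec.map φ) (f.fiberToSpecResidueField y))
        (Limits.pullback.snd (Spec.map φ) (f.fiberToSpecResidueField y) ≫ f.fiberι y)
        (Spec.map φ ≫ Y.fromSpecResidueField y) f :=
      ((IsPullback.of_hasPullback (Spec.map φ) (f.fiberToSpecResidueField y)).flip.paste_horiz
        (IsPullback.of_hasPullback f (Y.fromSpecResidueField y))).flip
    rw [← sq.isoPullback_inv_fst]
    infer_instance
  haveI : FormallyUnramified f := by
    rw [HasRingHomProperty.iff_appLE (P := @FormallyUnramified)]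
    rintro ⟨U, hU⟩ ⟨V, hV⟩ e
    have hft := f.finiteType_appLE hU hV e
    algebraize [(f.appLE U V e).hom]
    rw [← RingHom.algebraMap_toAlgebra (f.appLE U V e).hom, RingHom.formallyUnramified_algebraMap]
    refine FlatH4.formallyUnramified_of_fibres fun p _ => ?_
    have h := FlatH4.pullback_residueField_of_forall (P := @FormallyUnramified) f (fun e _ => inferInstance)
      (fun K _ a => by
        haveI := hK K a
        exact ((FibreLocus.mono_iff_unramified_and_universallyInjective (Limits.pullback.fst a f)).1
          inferInstance).1) hU hV e p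
    rw [HasRingHomProperty.Spec_iff (P := @FormallyUnramified), CommRingCat.hom_ofHom,
      RingHom.formallyUnramified_algebraMap] at h
    exact h
  have h20 : (∀ (K : Type u) [Field K], Function.Injective fun g : Spec (CommRingCat.of K) ⟶ X => g ≫ f) ↔
      UniversallyInjective f := (tfae_universallyInjective f).out 1 0
  refine (FibreLocus.mono_iff_unramified_and_universallyInjective f).2 ⟨inferInstance, h20.1 fun K _ g₁ g₂ hg => ?_⟩
  haveI := hK K (g₁ ≫ f)
  let s₁ := Limits.pullback.lift (f := g₁ ≫ f) (g := f) (𝟙 _) g₁ (by simp)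
  let s₂ := Limits.pullback.lift (f := g₁ ≫ f) (g := f) (𝟙 _) g₂ (by simpa using hg)
  have : s₁ = s₂ := (cancel_mono (Limits.pullback.fst (g₁ ≫ f) f)).1 (by simp only [s₁, s₂]; rw [Limits.pullback.lift_fst, Limits.pullback.lift_fst])
  have h2 := congrArg (fun q => q ≫ Limits.pullback.snd (g₁ ≫ f) f) this
  simp only [s₁, s₂] at h2
  rwa [Limits.pullback.lift_snd, Limits.pullback.lift_snd] at h2

end Groth.Agent.S3042
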