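import Groth.Statements.S3043
import Mathlib.AlgebraicGeometry.Morphisms.UniversallyInjective
import Mathlib.AlgebraicGeometry.Morphisms.Integral

set_option autoImplicit false
universe u
open CategoryTheory MonoidalCategory CartesianMonoidalCategory MonObj GrpObj AlgebraicGeometry TensorProduct
open SGA3

namespace Groth.Agent.S3043

/-- Let π : X → S be a morphism of schemes admitting a section ε (ε followed by π is the identity). If π
is injective on underlying points, then π is an integral morphism. -/
theorem result (X S : Scheme.{u}) (π : X ⟶ S) (ε : S ⟶ X) (hε : ε ≫ π = 𝟙 S)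
    (hinj : Function.Injective π.base) : IsIntegralHom π := by
  have hsec : ∀ x, ε.base (π.base x) = x := fun x => hinj (by
    rw [← Scheme.Hom.comp_apply, hε]; rfl)
  have hrinv : ∀ s, π.base (ε.base s) = s := fun s => by
    rw [← Scheme.Hom.comp_apply, hε]; rfl
  have hui : UniversallyInjective π := by
    have h30 : (Function.Injective π ∧ ∀ x, (π.residueFieldMap x).hom.IsPurelyInseparable) ↔
        UniversallyInjective π := (tfae_universallyInjective π).out 2 0
    refine h30.mp ⟨hinj, fun x => ?_⟩
    obtain ⟨s, rfl⟩ : ∃ s, ε.base s = x := ⟨_, hsec x⟩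
    haveI : IsIso (ε ≫ π) := by rw [hε]; infer_instance
    haveI h2 : IsIso ((ε ≫ π).residueFieldMap s) := inferInstance
    rw [Scheme.residueFieldMap_comp] at h2
    haveI : IsIso (π.residueFieldMap (ε s) ≫ ε.residueFieldMap s) := h2
    have hb := ConcreteCategory.bijective_of_isIso
      (π.residueFieldMap (ε s) ≫ ε.residueFieldMap s)
    have hs : Function.Surjective (π.residueFieldMap (ε.base s)).hom := by
      intro y
      obtain ⟨a, ha⟩ := hb.2 (ε.residueFieldMap s y)
      refine ⟨a, (ε.residueFieldMap s).hom.injective ?_⟩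
      exact ha
    algebraize [(π.residueFieldMap (ε.base s)).hom]
    rw [RingHom.IsPurelyInseparable]
    refine (isPurelyInseparable_iff_pow_mem _ (ringExpChar (S.residueField (π (ε s))))).mpr
      fun y => ⟨0, ?_⟩
    obtain ⟨a, ha⟩ := hs y
    exact ⟨a, by rw [pow_zero, pow_one]; exact ha⟩
  haveI : UniversallyClosed π := by
    refine ⟨fun X' S' p g π' hpb => ?_⟩
    let ε' : S' ⟶ X' := hpb.lift (𝟙 _) (g ≫ ε) (by simp [hε])
    have h1 : ε' ≫ π' = 𝟙 S' := hpb.lift_fst _ _ _
    haveI : UniversallyInjective π' :=
      MorphismProperty.of_isPullback (P := @UniversallyInjective) hpb.flip hui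
    intro C hC
    have : π'.base '' C = ε'.base ⁻¹' C := by
      have r : ∀ t, π'.base (ε'.base t) = t := fun t => by
        rw [← Scheme.Hom.comp_apply, h1]; rfl
      ext t
      constructor
      · rintro ⟨c, hc, rfl⟩
        have e : ε'.base (π'.base c) = c := π'.injective (r _)
        rwa [Set.mem_preimage, e]
      · exact fun ht => ⟨_, ht, r t⟩
    rw [this]
    exact hC.preimage ε'.continuous
  haveI : IsAffineHom π := by
    refine isAffineHom_of_isInducing π ?_ ?_
    · exact (Function.LeftInverse.isEmbedding (f := ε.base) (g := π.base) hsec ε.continuous π.continuous).isInducing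
    · rw [Set.range_eq_univ.mpr (fun s => ⟨_, hrinv s⟩)]
      exact isClosed_univ
  exact IsIntegralHom.iff_universallyClosed_and_isAffineHom.mpr ⟨inferInstance, inferInstance⟩

end Groth.Agent.S3043
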