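import Groth.Statements.S3045
import Groth.Agent.Lib.LiePts20.Basic

set_option autoImplicit false
universe u
open TensorProduct
open SGA3

namespace Groth.Agent.S3045

/-- Let A be a commutative Hopf algebra over a commutative ring k (the coordinate ring of an affine
group G = Spec A) and φ, ψ two k[ε]-valued points of G reducing to the unit point modulo ε (tangent
vectors at the identity). Then for every a ∈ A the ε-component of the product point φ · ψ at a — the
product of points being convolution, formed here as the triple convolution of φ, ψ and the unit
point — is the sum of the ε-components of φ(a) and ψ(a): on tangent vectors at the identity the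
group law of G induces addition. -/
theorem result (k : Type u) [CommRing k] (A : Type u) [CommRing A] [HopfAlgebra k A]
    (φ ψ : LieHopf.LiePts k A) (a : A) :
    TrivSqZeroExt.snd (Dyn.conv3 k A φ.1 ψ.1 ((Algebra.ofId k (DualNumber k)).comp (Bialgebra.counitAlgHom k A)) a) =
      LieHopf.LiePts.tangent k A φ a + LieHopf.LiePts.tangent k A ψ a := by
  exact Groth.Agent.LiePts20.snd_conv3 φ ψ a

end Groth.Agent.S3045
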