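import Groth.Statements.S3046
import Groth.Agent.Lib.LiePts20.Basic

set_option autoImplicit false
universe u
open TensorProduct
open SGA3

namespace Groth.Agent.S3046

/-- Let A be a commutative Hopf algebra over a commutative ring k, D and E two ε-derivations A → k
(tangent vectors at the identity of G = Spec A), R a commutative k-algebra and t, t' ∈ R with t² = 0
= t'². Let x = e + tD and y = e + t'E be the corresponding R-points of G. Then the commutator x y
x⁻¹ y⁻¹ (product of points; the inverse of a point is its composite with the antipode) is the point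
a ↦ ε(a) + [D, E](a) · t t', where [D, E] = D ⋆ E − E ⋆ D is the convolution commutator. -/
theorem result (k : Type u) [CommRing k] (A : Type u) [CommRing A] [HopfAlgebra k A]
    (D E : LieHopf.Lie k A) (R : Type u) [CommRing R] [Algebra k R] (t t' : R) (ht : t * t = 0) (ht' : t' * t' = 0)
    (a : A) :
    Dyn.conv3 k A
        (Dyn.conv3 k A (LieHopf.ptOfLie D R t ht) (LieHopf.ptOfLie E R t' ht')
          ((LieHopf.ptOfLie D R t ht).comp (HopfAlgebra.antipodeAlgHom k A)))
        ((LieHopf.ptOfLie E R t' ht').comp (HopfAlgebra.antipodeAlgHom k A))
        ((Algebra.ofId k R).comp (Bialgebra.counitAlgHom k A)) a =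
      algebraMap k R (Bialgebra.counitAlgHom k A a) + algebraMap k R (LieHopf.bracketLin D E a) * (t * t') := by
  refine (congrArg (fun F : WithConv (A →ₗ[k] R) => F.ofConv a)
    (Groth.Agent.LiePts20.conv3_commutator D E t t' ht ht')).trans ?_
  show algebraMap k R _ + (t * t') • algebraMap k R _ = _
  rw [smul_eq_mul, mul_comm (t * t')]
  rfl

end Groth.Agent.S3046
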