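import Groth.Statements.S3055
import Groth.Agent.Lib.EtDesc24.SepClosed

set_option autoImplicit false
open CategoryTheory CategoryTheory.Limits AlgebraicGeometry Opposite
universe u
open EtDesc

namespace Groth.Agent.S3055

/-- For a separably closed field k and X = Spec k, the global sections functor from sheaves of sets on
X_et (valued one universe up) to sets is an equivalence of categories. -/
theorem result (k : Type u) [Field k] [IsSepClosed k] :
    ((sheafSections (Spec (CommRingCat.of k)).smallEtaleTopology (Type (u + 1))).obj
      (op (EtCoh.top (Spec (CommRingCat.of k))))).IsEquivalence := by
  exact Groth.Agent.EtDesc24.isEquivalence_sections_field k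

end Groth.Agent.S3055
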