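import Groth.Statements.S3058
import Groth.Agent.Lib.ToposFin.Main

set_option autoImplicit false
open CategoryTheory CategoryTheory.Limits Opposite
universe u
open ToposFin

namespace Groth.Agent.S3058

/-- For a topos of sheaves of sets on a small site: the coproduct of a small family of objects is
quasi-compact if and only if every member is quasi-compact and all but finitely many members are
initial (empty) objects. -/
theorem result {C : Type u} [SmallCategory C] {J : GrothendieckTopology C} {ι : Type u}
    (F : ι → ToposFin.Sh J) :
    ToposFin.IsQC (∐ F) ↔ (∀ i, ToposFin.IsQC (F i)) ∧ {i | IsEmpty (F i ≅ ⊥_ (ToposFin.Sh J))}.Finite := by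
  exact Groth.Agent.Topos.isQC_sigma_iff F

end Groth.Agent.S3058
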