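import Groth.Statements.S3061
import Groth.Agent.Lib.ToposFin.Main

set_option autoImplicit false
open CategoryTheory CategoryTheory.Limits Opposite
universe u
open ToposFin

namespace Groth.Agent.S3061

/-- For a topos of sheaves of sets on a small site: if f : X -> Y and g : Y -> Z are morphisms and g o f
is quasi-separated (quasi-compact diagonal), then f is quasi-separated. -/
theorem result {C : Type u} [SmallCategory C] {J : GrothendieckTopology C} {X Y Z : ToposFin.Sh J}
    (f : X ⟶ Y) (g : Y ⟶ Z) (h : ToposFin.IsQSHom (f ≫ g)) : ToposFin.IsQSHom f := by
  exact Groth.Agent.Topos.qsHom_of_comp f g h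

end Groth.Agent.S3061
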