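import Groth.Statements.S3065
import Groth.Agent.Lib.ToposFin.Main

set_option autoImplicit false
open CategoryTheory CategoryTheory.Limits Opposite
universe u
open ToposFin

namespace Groth.Agent.S3065

/-- For a topos of sheaves of sets on a small site: let g : Y -> Z and let (f_k : X_k -> Y) be a finite
jointly epimorphic family. If every composite g o f_k : X_k -> Z is quasi-compact, then g is
quasi-compact. -/
theorem result {C : Type u} [SmallCategory C] {J : GrothendieckTopology C} {Y Z : ToposFin.Sh J} (g : Y ⟶ Z) {n : ℕ}
    (X : Fin n → ToposFin.Sh J) (f : ∀ k, X k ⟶ Y) (hf : Epi (Sigma.desc f))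
    (h : ∀ k, ToposFin.IsQCHom (f k ≫ g)) : ToposFin.IsQCHom g := by
  exact Groth.Agent.Topos.qcHom_of_finite_source g f hf h

end Groth.Agent.S3065
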