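import Groth.Statements.S3066
import Groth.Agent.Lib.ToposFin.Main

set_option autoImplicit false
open CategoryTheory CategoryTheory.Limits Opposite
universe u
open ToposFin

namespace Groth.Agent.S3066

/-- Quasi-separated case, for a topos of sheaves of sets on a small site: if f : X -> Y is a
quasi-separated morphism and Y is a quasi-separated object, then X is quasi-separated. -/
theorem result {C : Type u} [SmallCategory C] {J : GrothendieckTopology C} {X Y : ToposFin.Sh J} (f : X ⟶ Y) (hf : ToposFin.IsQSHom f)
    (hY : ToposFin.IsQS Y) : ToposFin.IsQS X := by
  exact Groth.Agent.Topos.qs_of_qsHom f hf hY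

end Groth.Agent.S3066
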