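import Groth.Statements.S3077
import Groth.Agent.Lib.EffDesc24.Instances

set_option autoImplicit false
open CategoryTheory CategoryTheory.Limits AlgebraicGeometry Opposite
universe u
open EtDesc

namespace Groth.Agent.S3077

/-- Let f : X' -> X be a surjective morphism of schemes with X discrete as a topological space (for
instance the spectrum of a field). Then f is a morphism of effective descent for etale sheaves of
sets: every sheaf on X'_et with an isomorphism pr_1^* F' = pr_2^* F' satisfying the cocycle
condition is, compatibly, the inverse image of a sheaf on X_et. -/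
theorem result {X' X : Scheme.{u}} (f : X' ⟶ X) [Surjective f]
    [DiscreteTopology ↥X] (F' : EtDesc.Sh X')
    (φ : (EtDesc.pullSh (pullback.fst f f)).obj F' ≅ (EtDesc.pullSh (pullback.snd f f)).obj F')
    (hφ : EtDesc.IsCocycle F' φ) : EtDesc.IsEffective f F' φ := by
  exact Groth.Agent.EffDesc24.isEffective_of_discrete f
    (IsPullback.of_horiz_isIso ⟨by simp⟩ : IsPullback (𝟙 X') f f (𝟙 X)) hφ

end Groth.Agent.S3077
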