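import Groth.Statements.S3078
import Groth.Agent.Lib.Giraud.Equiv

set_option autoImplicit false
universe v u
open CategoryTheory
open SGA4

namespace Groth.Agent.S3078

open CategoryTheory.Limits in
/-- Implication ii) ⇒ i): let E be a category whose hom sets are u-small. Assume (a) E has finite
limits, (b) every u-small family of objects has a coproduct which is disjoint and stable under base
change, (c) every equivalence relation in E is effective with a universally effective-epimorphic
quotient map, and (d) E has a u-small family of objects which detects isomorphisms (a generating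
family). Then E is equivalent to the category of sheaves of u-small sets on some u-small site. -/
theorem result {E : Type v} [Category.{u} E] [HasFiniteLimits E]
    (hb : SGA4.HasDisjointUniversalCoproducts.{v, u} E)
    (hc : ∀ (R A : E) (p₁ p₂ : R ⟶ A), SGA4.IsEquivRel p₁ p₂ → SGA4.IsEffectiveUniversalEquivRel p₁ p₂)
    (hd : ∃ P : ObjectProperty E, ObjectProperty.Small.{u} P ∧ P.IsDetecting) :
    SGA4.IsTopos.{v, u} E := by
  obtain ⟨P, hP, hdet⟩ := hd
  have : Small.{u} (Subtype P) := hP
  let F : Shrink.{u} (Subtype P) → E := fun c => ((equivShrink (Subtype P)).symm c).1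
  let G : InducedCategory E F ⥤ E := inducedFunctor F
  refine Groth.Agent.Giraud.isTopos (G := G) ⟨hb, hc, fun {B X} m _ h => hdet m fun A hA t => ?_⟩
  obtain ⟨c, rfl⟩ : ∃ c, G.obj c = A :=
    ⟨equivShrink (Subtype P) ⟨A, hA⟩, by simp [G, F]⟩
  obtain ⟨g, hg⟩ := h c t
  exact ⟨g, hg, fun g' hg' => (cancel_mono m).1 (hg'.trans hg.symm)⟩

end Groth.Agent.S3078
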