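import Groth.Statements.S3082
import Groth.Agent.Lib.ToposFin.Main

set_option autoImplicit false
universe u
open CategoryTheory
open SGA4

namespace Groth.Agent.S3082
open Groth.Agent.Topos CategoryTheory.Limits ToposFin Opposite

/-- Let (C, J) be a small site and G a set of objects of C such that each object of C has a covering
family whose members all lie in G. Then the sheafifications of the presheaves represented by the
members of G form a detecting family in the category Sh(C, J) of set-valued sheaves on (C, J): any
morphism of sheaves that is bijective on sections over each member of G is an isomorphism. -/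
theorem result {C : Type u} [SmallCategory C] (J : GrothendieckTopology C) (G : Set C)
    (hG : ∀ X : C, ∃ (ι : Type u) (Y : ι → C) (f : ∀ i, Y i ⟶ X), Sieve.ofArrows Y f ∈ J X ∧ ∀ i, Y i ∈ G) :
    (ObjectProperty.ofObj fun X : G => (presheafToSheaf J (Type u)).obj (yoneda.obj (X : C))).IsDetecting := by
  intro X Y f hf
  -- injective and surjective on sections over members of `G`
  have lift : ∀ (V : C), V ∈ G → ∀ s : Y.obj.obj (op V), ∃! t : X.obj.obj (op V), f.hom.app (op V) t = s := by
    intro V hV s
    obtain ⟨h', hh', huniq⟩ := hf (eps J V) (ObjectProperty.ofObj_apply _ (⟨V, hV⟩ : G)) (epsDesc J s)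
    refine ⟨h'.hom.app (op V) (epsSec J (𝟙 V)), ?_, fun t ht => ?_⟩
    · dsimp only
      rw [← comp_app_apply, hh', epsDesc_epsSec]
    · dsimp only at ht
      have : epsDesc J t ≫ f = epsDesc J s := eps_hom_ext J _ _ (by
        rw [comp_app_apply, epsDesc_epsSec, epsDesc_epsSec, ht])
      rw [← huniq _ this, epsDesc_epsSec]
  have hX := (isSheaf_iff_isSheaf_of_type J X.obj).1 X.property
  have inj : ∀ (U : C), Function.Injective (f.hom.app (op U)) := by
    intro U s t hst
    obtain ⟨ι, V, g, hg, hV⟩ := hG U
    refine (hX _ hg).isSeparatedFor.ext ?_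
    intro W m hm
    obtain ⟨i, b, rfl⟩ := (Sieve.mem_ofArrows_iff _ _ m).1 hm
    rw [op_comp, Functor.map_comp_apply, Functor.map_comp_apply]
    congr 1
    refine (lift (V i) (hV i) (Y.obj.map (g i).op (f.hom.app (op U) s))).unique ?_ ?_
    · exact NatTrans.naturality_apply _ _ _
    · rw [hst]; exact NatTrans.naturality_apply _ _ _
  have : Epi f := (epi_iff_lift f).2 fun U s => by
    obtain ⟨ι, V, g, hg, hV⟩ := hG U
    refine J.superset_covering ?_ hg
    intro W m hm
    obtain ⟨i, b, rfl⟩ := (Sieve.mem_ofArrows_iff _ _ m).1 hm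
    obtain ⟨t, ht, -⟩ := lift (V i) (hV i) (Y.obj.map (g i).op s)
    exact ⟨PUnit.unit, X.obj.map b.op t, by
      rw [NatTrans.naturality_apply, ht, op_comp, Functor.map_comp_apply]⟩
  have : Mono f.hom := by
    have : ∀ U, Mono (f.hom.app U) := fun U => (mono_iff_injective _).2 (inj U.unop)
    exact NatTrans.mono_of_mono_app _
  have : Mono f := (sheafToPresheaf J (Type u)).mono_of_mono_map this
  exact isIso_of_mono_of_epi f

end Groth.Agent.S3082
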