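import Groth.Statements.S3089
import Groth.Agent.Lib.SiteCoh.Acyclic

set_option autoImplicit false
universe u
open CategoryTheory
open CohSite

namespace Groth.Agent.S3089
set_option linter.style.haveILetI false
set_option backward.isDefEq.respectTransparency false
set_option backward.isDefEq.respectTransparency.types false


open Opposite in
/-- For abelian sheaves on the topos of sheaves of sets on a small site: let F be an abelian sheaf which
is totally acyclic, i.e. H^q(X, F) = 0 for every sheaf of sets X and every q > 0, and let Y -> X be
a monomorphism of sheaves of sets. Then the restriction map H^0(X, F) -> H^0(Y, F) is surjective. -/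
theorem result {C : Type u} [SmallCategory C] {J : GrothendieckTopology C}
    (F : Sheaf J AddCommGrpCat.{u}) (hF : CohCx.IsTotallyAcyclic F) {Y X : Sheaf J (Type u)} (ι : Y ⟶ X) [Mono ι] :
    Function.Surjective ((CohCx.HK0Functor J F).map ι.op) := by
  intro a
  haveI : Mono ι.hom := inferInstanceAs (Mono ((sheafToPresheaf J (Type u)).map ι))
  obtain ⟨x, hx⟩ := Groth.Agent.SiteCoh.surjective_restrict_of_totallyAcyclic hF ι.hom a
  exact ⟨x, hx⟩

end Groth.Agent.S3089
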