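import Groth.Statements.S3092
import Groth.Agent.Lib.HyperH28.CoskRelInst

set_option autoImplicit false
universe u
open CategoryTheory
open Hyper

namespace Groth.Agent.S3092

open Opposite CategoryTheory.Limits in
/-- In the topos of sheaves of sets on a small site; coskeleta assumed to exist: let v : K -> L be a
morphism of simplicial sheaves of sets and n ≥ 0 such that v_p is an isomorphism for p < n, v_n is
an epimorphism, and K, L are n-coskeletal (the units K -> cosk_n K, L -> cosk_n L are isomorphisms).
Then every v_p is an epimorphism and v induces a quasi-isomorphism between the chain complexes of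
free abelian sheaves Z[K] -> Z[L]. -/
theorem result {C : Type u} [SmallCategory C] (J : GrothendieckTopology C)
    [∀ (n : ℕ) (F : (SimplexCategory.Truncated n)ᵒᵖ ⥤ Sheaf J (Type u)),
      (SimplexCategory.Truncated.inclusion n).op.HasRightKanExtension F]
    {K L : SimplicialObject (Sheaf J (Type u))} (v : K ⟶ L) (n : ℕ)
    (h1 : ∀ p : ℕ, p < n → IsIso (v.app (op (SimplexCategory.mk p))))
    (h2 : Epi (v.app (op (SimplexCategory.mk n))))
    (h3 : IsIso ((SimplicialObject.coskAdj n).unit.app K) ∧ IsIso ((SimplicialObject.coskAdj n).unit.app L)) :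
    (∀ p : ℕ, Epi (v.app (op (SimplexCategory.mk p)))) ∧
    QuasiIso ((AlgebraicTopology.alternatingFaceMapComplex _).map
      (Functor.whiskerRight v (Sheaf.composeAndSheafify J AddCommGrpCat.free.{u}))) := by
  obtain ⟨hK, hL⟩ := h3
  let f : Groth.Agent.HyperH28.CoskRel.toPsh J K ⟶ Groth.Agent.HyperH28.CoskRel.toPsh J L :=
    Functor.whiskerRight v (sheafToPresheaf J (Type u))
  have hf : Groth.Agent.HyperH28.CoskRel.IsTrivFib f J n := by
    refine Groth.Agent.HyperH28.CoskRel.isTrivFib_of J f n
      (Groth.Agent.HyperH28.CoskRel.isCoskel_of_bijective n fun S =>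
        Groth.Agent.HyperH28.CoskRel.bijective_truncation_map_sheaf J n K S)
      (Groth.Agent.HyperH28.CoskRel.isCoskel_of_bijective n fun S =>
        Groth.Agent.HyperH28.CoskRel.bijective_truncation_map_sheaf J n L S) (fun i hi => ?_) ?_
    · haveI := h1 i hi
      exact inferInstanceAs (IsIso ((sheafToPresheaf J (Type u)).map (v.app (op (SimplexCategory.mk i)))))
    · haveI := h2
      exact (Sheaf.isLocallySurjective_iff_epi (v.app (op (SimplexCategory.mk n)))).2 inferInstance
  refine ⟨fun p => (Sheaf.isLocallySurjective_iff_epi (v.app (op (SimplexCategory.mk p)))).1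
    (Groth.Agent.HyperH28.CoskRel.isLocallySurjective_of_isTrivFib J hf p), ⟨fun i => ?_⟩⟩
  rw [quasiIsoAt_iff_isIso_homologyMap]
  exact Groth.Agent.HyperH28.CoskRel.isIso_homologyMap_free J hf i

end Groth.Agent.S3092
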