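import Groth.Statements.S3093
import Mathlib

set_option autoImplicit false
universe u
open CohTop

namespace Groth.Agent.S3093

/-- Let X be a topological space and K ⊆ X a compact subset such that any two distinct points of K have
disjoint open neighbourhoods in X. If A and B are subsets of K that are closed in K and W is an open
subset of X containing A ∩ B, then there are open subsets U ⊇ A and V ⊇ B of X with U ∩ V ⊆ W. -/
theorem result {X : Type u} [TopologicalSpace X] {K : Set X} (hK : IsCompact K)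
    (hsep : ∀ x ∈ K, ∀ y ∈ K, x ≠ y → ∃ U V : Set X, IsOpen U ∧ IsOpen V ∧ x ∈ U ∧ y ∈ V ∧ Disjoint U V)
    {A B W : Set X} (hA : A ⊆ K) (hB : B ⊆ K) (hAc : IsClosed (Subtype.val ⁻¹' A : Set K))
    (hBc : IsClosed (Subtype.val ⁻¹' B : Set K)) (hW : IsOpen W) (hABW : A ∩ B ⊆ W) :
    ∃ U V : Set X, IsOpen U ∧ IsOpen V ∧ A ⊆ U ∧ B ⊆ V ∧ U ∩ V ⊆ W := by
  have hcp : ∀ {C : Set X}, C ⊆ K → IsClosed (Subtype.val ⁻¹' C : Set K) → IsCompact C := by
    intro C hC hCc
    haveI := isCompact_iff_compactSpace.1 hK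
    have := hCc.isCompact.image continuous_subtype_val
    rwa [Set.image_preimage_eq_inter_range, Subtype.range_coe, Set.inter_eq_left.2 hC] at this
  have hA' : IsCompact (A \ W) := (hcp hA hAc).diff hW
  have hd : Disjoint (nhdsSet (A \ W)) (nhdsSet B) := by
    rw [hA'.disjoint_nhdsSet_left]
    intro x hx
    rw [(hcp hB hBc).disjoint_nhdsSet_right]
    intro y hy
    have hxy : x ≠ y := fun h => hx.2 (hABW ⟨hx.1, h ▸ hy⟩)
    obtain ⟨U, V, hU, hV, hxU, hyV, hUV⟩ := hsep x (hA hx.1) y (hB hy) hxy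
    exact Filter.disjoint_iff.2 ⟨U, hU.mem_nhds hxU, V, hV.mem_nhds hyV, hUV⟩
  obtain ⟨U, V, hU, hV, hAU, hBV, hUV⟩ := separatedNhds_iff_disjoint.2 hd
  refine ⟨U ∪ W, V, hU.union hW, hV, fun a ha => (Classical.em (a ∈ W)).elim Or.inr fun h => Or.inl (hAU ⟨ha, h⟩), hBV, ?_⟩
  rintro z ⟨hz | hz, hzV⟩
  · exact absurd hzV (Set.disjoint_left.1 hUV hz)
  · exact hz

end Groth.Agent.S3093
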