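import Groth.Statements.S3103
import Groth.Agent.S0236
import Groth.Agent.Lib.Curve17.UFDTriv
import Groth.Agent.Lib.Kummer24.Epi
import Groth.Agent.Lib.RegLoc.UFD
import Groth.Prelude.Def_SixF3
import Groth.Prelude.Def_PicLoc
import Groth.Agent.Lib.EtPic3.AffineObj
import Mathlib.Data.ZMod.QuotientGroup
import Mathlib.FieldTheory.IsSepClosed

set_option autoImplicit false
universe u
open CategoryTheory CategoryTheory.Limits AlgebraicGeometry Opposite
open EtDual

namespace Groth.Agent.S3103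

set_option backward.isDefEq.respectTransparency.types false

open CategoryTheory.Abelian

/-- `H¹(Spec R, G_m) = 0` for an open subscheme of a factorial affine scheme. -/
theorem subsingleton_H_one_away (A : Type u) [CommRing A] [IsDomain A] [UniqueFactorizationMonoid A] (x : A) :
    Subsingleton (EtCoh.H (Spec (CommRingCat.of (Localization.Away x)))
      (EtCoh.Gm (Spec (CommRingCat.of (Localization.Away x)))) 1) := by
  refine (Groth.Agent.S0236.result _).2 fun L hL => ?_
  let X := Spec (CommRingCat.of A)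
  let j : Spec (CommRingCat.of (Localization.Away x)) ⟶ X :=
    Spec.map (CommRingCat.ofHom (algebraMap A (Localization.Away x)))
  let e : (j.opensRange : Scheme.{u}) ≅ Spec (CommRingCat.of (Localization.Away x)) := j.isoOpensRange.symm
  let r : A ≃+* Γ(X, ⊤) := (Scheme.ΓSpecIso (CommRingCat.of A)).commRingCatIsoToRingEquiv.symm
  haveI : IsDomain Γ(X, ⊤) := r.toMulEquiv.isDomain_iff.1 inferInstance
  haveI : UniqueFactorizationMonoid Γ(X, ⊤) := r.toMulEquiv.uniqueFactorizationMonoid inferInstance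
  obtain ⟨φ⟩ := Groth.Agent.Curve17.nonempty_iso_structureModule_of_ufd (isAffineOpen_top X) j.opensRange
    ((Scheme.Modules.pullback e.hom).obj L) (PicLoc.isInvertible_pullback e.hom hL)
  exact ⟨((Scheme.Modules.pullbackId _).app L).symm ≪≫
    (Scheme.Modules.pullbackCongr e.inv_hom_id.symm).app L ≪≫
    ((Scheme.Modules.pullbackComp e.inv e.hom).app L).symm ≪≫
    (Scheme.Modules.pullback e.inv).mapIso φ ≪≫ PicLoc.pullbackStructureIso e.inv⟩

/-- Units of a strictly henselian ring are divisible by invertible integers. -/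
theorem exists_pow_eq_unit {A : Type u} [CommRing A] [IsLocalRing A]
    (hA : EtCoh.IsStrictlyHenselianLocalRing A) {n : ℕ} (hn : IsUnit (n : A)) (a : Aˣ) :
    ∃ b : Aˣ, b ^ n = a := by
  obtain ⟨hH, hS⟩ := hA
  haveI := hS
  have hn0 : (n : IsLocalRing.ResidueField A) ≠ 0 := by
    rw [← map_natCast (IsLocalRing.residue A)]
    exact (hn.map _).ne_zero
  haveI : NeZero (n : IsLocalRing.ResidueField A) := ⟨hn0⟩
  have hn1 : n ≠ 0 := fun h => hn0 (by rw [h, Nat.cast_zero])
  obtain ⟨z, hz⟩ := IsSepClosed.exists_pow_nat_eq (IsLocalRing.residue A a) n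
  obtain ⟨a₀, rfl⟩ := IsLocalRing.residue_surjective z
  have ha₀ : IsUnit a₀ := by
    rw [← IsLocalRing.residue_ne_zero_iff_isUnit]
    intro h
    rw [h, zero_pow hn1] at hz
    exact (a.isUnit.map (IsLocalRing.residue A)).ne_zero hz.symm
  obtain ⟨b, hb, -⟩ := hH.is_henselian (Polynomial.X ^ n - Polynomial.C (a : A))
    (Polynomial.monic_X_pow_sub_C _ hn1) a₀
    (by rw [← IsLocalRing.residue_eq_zero_iff]; simp [hz])
    (by
      rw [Polynomial.derivative_sub, Polynomial.derivative_C, sub_zero, Polynomial.derivative_X_pow]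
      simp only [Polynomial.eval_mul, Polynomial.eval_C, Polynomial.eval_pow, Polynomial.eval_X]
      exact hn.mul (ha₀.pow _))
  have hb' : b ^ n = a := by simpa [Polynomial.IsRoot, sub_eq_zero] using hb
  have hu : IsUnit b := (isUnit_pow_iff hn1).1 (hb' ▸ a.isUnit)
  exact ⟨hu.unit, Units.ext hb'⟩

/-- Let A be a regular local ring which is strictly henselian, x an element of the maximal ideal not in
its square, n an integer invertible in A, and U = Spec A[1/x]. Then H^1(U, mu_n) is isomorphic to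
Z/n. (The source also computes H^0(U, mu_n) = mu_n(A) and gives a canonical isomorphism; only the
existence of an isomorphism is stated here.) -/
theorem result (A : Type u) [CommRing A] [IsRegularLocalRing A]
    (hA : EtCoh.IsStrictlyHenselianLocalRing A) (x : A) (hx : x ∈ IsLocalRing.maximalIdeal A)
    (hx2 : x ∉ (IsLocalRing.maximalIdeal A) ^ 2) (n : ℕ) (hn : IsUnit (n : A)) :
    Nonempty (EtCoh.H (Spec (CommRingCat.of (Localization.Away x)))
      (EtCoh.mu (Spec (CommRingCat.of (Localization.Away x))) n) 1 ≃+ ZMod n) := by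
  haveI := Groth.Agent.RegLoc.isDomain A
  haveI := Groth.Agent.RegLoc.ufd_of_isRegularLocalRing A
  have hx0 : x ≠ 0 := fun h => hx2 (h ▸ zero_mem _)
  have hxp : Prime x := by
    refine UniqueFactorizationMonoid.irreducible_iff_prime.1 ⟨fun h => (IsLocalRing.mem_maximalIdeal x).1 hx h, ?_⟩
    intro a b hab
    by_contra! h
    refine hx2 (hab ▸ ?_)
    rw [pow_two]
    exact Ideal.mul_mem_mul h.1 h.2
  let B := Localization.Away x
  let S := Spec (CommRingCat.of B)
  let ι := algebraMap A B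
  have hinj : Function.Injective ι :=
    IsLocalization.injective B (powers_le_nonZeroDivisors_of_noZeroDivisors hx0)
  let xu : Bˣ := (IsLocalization.Away.algebraMap_isUnit x).unit
  -- the Kummer sequence
  have hnS : IsUnit (n : Γ(S, ⊤)) := by
    have h := (hn.map ι).map (Scheme.ΓSpecIso (CommRingCat.of B)).inv.hom
    rwa [map_natCast, map_natCast] at h
  have hm : Epi (EtCoh.powMap S n) :=
    (Sheaf.isLocallySurjective_iff_epi' _ (EtCoh.powMap S n)).mp
      (Groth.Agent.Kummer24.isLocallySurjective_powMap n hnS)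
  haveI := subsingleton_H_one_away A x
  let e₀ := Sheaf.H.equiv₀ (EtCoh.Gm S) (EtCore.topIsTerminal S)
  let u : Bˣ ≃* (Γ(S, ⊤))ˣ :=
    Units.mapEquiv (Scheme.ΓSpecIso (CommRingCat.of B)).commRingCatIsoToRingEquiv.symm.toMulEquiv
  let w : Additive Bˣ ≃+ (EtCoh.Gm S).obj.obj (op (EtCoh.top S)) :=
    (MulEquiv.toAdditive u).trans AddEquiv.ulift.symm
  let ψ : Additive Bˣ →+ EtCoh.H S (EtCoh.mu S n) 1 :=
    (EtSix.kummerBoundary hm 0).comp ((w.trans e₀.symm).toAddMonoidHom)
  have hψs : Function.Surjective ψ := fun c => by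
    obtain ⟨y, hy⟩ := Ext.covariant_sequence_exact₁ _ (EtSix.kummerShortExact hm) c
      (Subsingleton.elim (α := EtCoh.H S (EtCoh.Gm S) 1) _ _) (n₀ := 0) rfl
    refine ⟨(w.trans e₀.symm).symm y, ?_⟩
    show EtSix.kummerBoundary hm 0 ((w.trans e₀.symm) _) = c
    rw [AddEquiv.apply_symm_apply]
    exact hy
  have hpow : ∀ y : EtCoh.H S (EtCoh.Gm S) 0, y.comp (Ext.mk₀ (EtCoh.powMap S n)) (add_zero 0) = n • y := fun y => by
    have h1 : Ext.mk₀ (n • 𝟙 (EtCoh.Gm S)) = n • Ext.mk₀ (𝟙 (EtCoh.Gm S)) :=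
      map_nsmul (Ext.addEquiv₀ (X := EtCoh.Gm S) (Y := EtCoh.Gm S)).symm.toAddMonoidHom n _
    show y.comp (Ext.mk₀ (n • 𝟙 (EtCoh.Gm S))) (add_zero 0) = _
    rw [h1]
    exact (map_nsmul ((Ext.bilinearComp _ _ _ 0 0 0 (add_zero 0)) y) n _).trans
      (congrArg (n • ·) (Ext.comp_mk₀_id y))
  have hker : ∀ v : Bˣ, ψ (Additive.ofMul v) = 0 ↔ ∃ b : Bˣ, v = b ^ n := fun v => by
    constructor
    · intro h
      obtain ⟨y, hy⟩ := Ext.covariant_sequence_exact₃ _ (EtSix.kummerShortExact hm)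
        ((w.trans e₀.symm) (Additive.ofMul v)) (n₁ := 1) rfl h
      refine ⟨Additive.toMul ((w.trans e₀.symm).symm y), ?_⟩
      have hy' := (hpow y).symm.trans hy
      have := congrArg (w.trans e₀.symm).symm hy'
      rw [map_nsmul, AddEquiv.symm_apply_apply] at this
      exact congrArg Additive.toMul this.symm
    · rintro ⟨b, rfl⟩
      show EtSix.kummerBoundary hm 0 _ = 0
      rw [ofMul_pow, map_nsmul]
      show EtSix.kummerBoundary hm 0 (n • (w.trans e₀.symm) (Additive.ofMul b)) = 0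
      rw [← hpow]
      show (Ext.comp _ _ (add_zero 0)).comp (EtSix.kummerShortExact hm).extClass (zero_add 1) = 0
      exact (Ext.comp_assoc_of_second_deg_zero _ _ _ (zero_add 1)).trans
        ((congrArg (Ext.comp _ · (zero_add 1)) (EtSix.kummerShortExact hm).comp_extClass).trans (Ext.comp_zero _ _ _ _ _))
  -- units of `A[1/x]`
  have hdec : ∀ v : Bˣ, ∃ (a : Aˣ) (m : ℤ), v = Units.map ι.toMonoidHom a * xu ^ m := fun v => by
    obtain ⟨⟨a, _, k, rfl⟩, hk⟩ := IsLocalization.surj (Submonoid.powers x) (v : B)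
    have hau : IsUnit (ι a) := hk ▸ v.isUnit.mul (by show IsUnit (ι (x ^ k)); rw [map_pow]; exact (IsLocalization.Away.algebraMap_isUnit x).pow k)
    obtain ⟨c, hc⟩ := hau.exists_right_inv
    obtain ⟨⟨c', _, l, rfl⟩, hl⟩ := IsLocalization.surj (Submonoid.powers x) c
    have hdvd : a * c' = x ^ l := hinj (by
      rw [map_mul, ← hl, ← mul_assoc, hc, one_mul])
    obtain ⟨i, -, hi⟩ := (dvd_prime_pow hxp l).1 ⟨c', hdvd.symm⟩
    obtain ⟨a', ha'⟩ := hi.symm
    refine ⟨a', (i : ℤ) - k, ?_⟩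
    have e : v * xu ^ (k : ℤ) = Units.map ι.toMonoidHom a' * xu ^ (i : ℤ) := Units.ext (by
      rw [zpow_natCast, zpow_natCast]
      show (v : B) * (ι x) ^ k = ι a' * (ι x) ^ i
      rw [← map_pow, ← map_pow, ← map_mul]
      refine hk.trans ?_
      rw [← ha', mul_comm])
    rw [zpow_sub, ← mul_assoc, ← e, mul_inv_cancel_right]
  let γ : ℤ →+ EtCoh.H S (EtCoh.mu S n) 1 := zmultiplesHom _ (ψ (Additive.ofMul xu))
  have hγ : ∀ m : ℤ, γ m = ψ (Additive.ofMul (xu ^ m)) := fun m => by
    rw [ofMul_zpow, map_zsmul]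
    rfl
  have hγs : Function.Surjective γ := fun c => by
    obtain ⟨v, rfl⟩ := hψs c
    obtain ⟨a, m, hv⟩ := hdec (Additive.toMul v)
    obtain ⟨b, rfl⟩ := exists_pow_eq_unit hA hn a
    refine ⟨m, ?_⟩
    rw [hγ, ← ofMul_toMul v, hv, ofMul_mul, map_add, (hker _).2 ⟨Units.map ι.toMonoidHom b, map_pow _ b n⟩, zero_add]
  have hγk : γ.ker = AddSubgroup.zmultiples (n : ℤ) := by
    ext m
    rw [AddMonoidHom.mem_ker, hγ, hker, Int.mem_zmultiples_iff]
    constructor
    · rintro ⟨b, hb⟩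
      obtain ⟨a, j, rfl⟩ := hdec b
      have h1 : xu ^ (m - n * j) = Units.map ι.toMonoidHom (a ^ n) := by
        rw [zpow_sub, hb, mul_pow, map_pow, ← zpow_natCast (xu ^ j), ← zpow_mul, mul_comm j, mul_inv_cancel_right]
      have hz : ∀ (p : ℕ) (c : Aˣ), xu ^ p = Units.map ι.toMonoidHom c → p = 0 := fun p c hp => by
        by_contra hp0
        have h2 : x ^ p = c := hinj (by rw [map_pow]; exact congrArg Units.val hp)
        exact hxp.not_isUnit ((isUnit_pow_iff hp0).1 (h2 ▸ c.isUnit))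
      refine ⟨j, sub_eq_zero.1 ?_⟩
      rcases Int.eq_nat_or_neg (m - n * j) with ⟨p, hp | hp⟩ <;> rw [hp] at h1 ⊢
      · rw [zpow_natCast] at h1
        rw [hz p _ h1]; rfl
      · rw [zpow_neg, zpow_natCast, inv_eq_iff_eq_inv, ← map_inv] at h1
        rw [hz p _ h1]; rfl
    · rintro ⟨j, rfl⟩
      exact ⟨xu ^ j, by rw [mul_comm, zpow_mul, zpow_natCast]⟩
  exact ⟨((QuotientAddGroup.quotientKerEquivOfSurjective γ hγs).symm.trans
    ((QuotientAddGroup.quotientAddEquivOfEq hγk).trans (Int.quotientZMultiplesNatEquivZMod n)))⟩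

end Groth.Agent.S3103
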