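import Groth.Statements.S3106
import Groth.Agent.Lib.FinTrace9.Main
-- import your own Groth.Agent.* helpers here

set_option autoImplicit false
universe u
open CategoryTheory CategoryTheory.Limits AlgebraicGeometry Opposite
open EtDual

namespace Groth.Agent.S3106

/-- Case of a finite morphism of constant rank (where f_! = f_*): let f : X -> S be finite, flat and
locally of finite presentation, of rank n at every point of S. Then there exists a natural
transformation Tr : f_* f^* -> id on abelian sheaves on the small etale site of S such that for
every F the composite F -> f_* f^* F -> F of the unit with Tr is multiplication by n. (The source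
constructs Tr for all separated quasi-finite flat finitely presented f with f_! in place of f_*, and
proves uniqueness subject to compatibility with base change and composition; only existence with
naturality and the normalisation is stated here.) -/
theorem result {X S : Scheme.{u}} (f : X ⟶ S) [IsFinite f] [Flat f]
    [LocallyOfFinitePresentation f] [EtCoh.BCCont f] (n : ℕ) (hn : ∀ s : S, f.finrank s = n) :
    ∃ Tr : EtCoh.pull f ⋙ EtCoh.push f ⟶ 𝟭 (EtCoh.Ab S),
      ∀ F : EtCoh.Ab S, (EtCoh.pullPushAdj f).unit.app F ≫ Tr.app F = n • 𝟙 F := by
  exact ⟨Groth.Agent.FinTrace9.tr f, Groth.Agent.FinTrace9.unit_tr f n hn⟩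

end Groth.Agent.S3106
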