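import Groth.Statements.S3120
import Groth.Agent.Lib.ExtShriek24.Iso

set_option autoImplicit false
universe u
open CategoryTheory CategoryTheory.Limits AlgebraicGeometry Opposite
open EtDual

namespace Groth.Agent.S3120

/-- Let f : X → Y be a morphism of schemes, j : V → Y an open immersion, and U = X ×_Y V with
projections f' : U → V and j' : U → X (an open immersion). Then for every abelian sheaf G on the
small étale site of V, the sheaves f^*(j_!G) and j'_!(f'^*G) on X are isomorphic. (The published
statement gives a unique isomorphism compatible with the base change map for j_*; only the existence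
of an isomorphism is stated here. The prelude's instances for the inverse image functors along f and
f' are carried as binders.) -/
theorem result {X Y V : Scheme.{u}} (f : X ⟶ Y) (j : V ⟶ Y) [IsOpenImmersion j]
    [EtCoh.BCCont f] [EtCoh.BCCont (pullback.snd f j)] (G : EtCoh.Ab V) :
    Nonempty ((EtCoh.pull f).obj ((EtShriek.extZero j).obj G) ≅
      (EtShriek.extZero (pullback.fst f j)).obj ((EtCoh.pull (pullback.snd f j)).obj G)) := by
  exact ⟨((Groth.Agent.ExtShriek24.extZeroBC j f (pullback.fst f j) (pullback.snd f j)
    (IsPullback.of_hasPullback f j)).app G).symm⟩

end Groth.Agent.S3120
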