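import Groth.Statements.S3126
import Groth.Agent.Lib.PointLim24.General

set_option autoImplicit false
universe u
open CategoryTheory CategoryTheory.Limits AlgebraicGeometry
open SGA4h

set_option backward.isDefEq.respectTransparency false
set_option backward.isDefEq.respectTransparency.types false

namespace Groth.Agent.S3126

/-- A constant cyclic sheaf is killed by the order. -/
theorem nsmul_id_const (Y : Scheme.{u}) (n : ℕ) : n • 𝟙 (EtCoh.const Y (ZMod n)) = 0 := by
  have h : n • 𝟙 (AddCommGrpCat.of (ULift.{u + 1} (ZMod n))) = 0 := by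
    ext a
    show ((n • a : ULift.{u + 1} (ZMod n))).down = 0
    simp
  show n • 𝟙 ((LocAcyc24.cs Y).obj (AddCommGrpCat.of (ULift.{u + 1} (ZMod n)))) = 0
  rw [← CategoryTheory.Functor.map_id, ← Functor.map_nsmul, h, Functor.map_zero]

/-- Let A be a strictly henselian Noetherian local ring, S = Spec A, n an integer invertible in A and f
: X → S a morphism which is locally acyclic (in the sense of vanishing cycles for ℤ/n-coefficients
prime to the residue characteristics), quasi-compact and quasi-separated (the last two are assumed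
here in addition to the published hypotheses). Assume that every geometric fibre X_t of f has
H^0(X_t, ℤ/n) ≅ ℤ/n and H^q(X_t, ℤ/n) = 0 for q > 0. Then the unit ℤ/n → f_* f^* ℤ/n is an
isomorphism and R^q f_* (ℤ/n) = 0 for q > 0. (Local acyclicity and the fibre hypothesis are stated
for all separably closed fields Ω, a priori more than algebraic geometric points; as hypotheses this
only weakens the statement.) -/
theorem result {X : Scheme.{u}} (A : Type u) [CommRing A] [IsNoetherianRing A]
    (hA : EtCoh.IsStrictlyHenselianLocalRing A) (n : ℕ) (hn : IsUnit (n : A)) (f : X ⟶ Spec (CommRingCat.of A))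
    [QuasiCompact f] [QuasiSeparated f] (hf : EtRest.IsLocallyAcyclic f)
    (hfib : ∀ (Ω : Type u) [Field Ω] [IsSepClosed Ω] (t : Spec (CommRingCat.of Ω) ⟶ Spec (CommRingCat.of A)),
      Nonempty (EtCoh.H (pullback f t) (EtCoh.const (pullback f t) (ZMod n)) 0 ≃+ ZMod n) ∧
      ∀ q : ℕ, 0 < q → Subsingleton (EtCoh.H (pullback f t) (EtCoh.const (pullback f t) (ZMod n)) q)) :
    IsIso ((EtCoh.pullPushAdj f).unit.app (EtCoh.const (Spec (CommRingCat.of A)) (ZMod n))) ∧
    ∀ q : ℕ, 0 < q → IsZero ((EtCoh.Rpush f q).obj (EtCoh.const X (ZMod n))) := by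
  haveI : HenselianLocalRing A := hA.1
  have hn0 : n ≠ 0 := fun h => not_isUnit_zero (M₀ := A) (by simpa [h] using hn)
  rcases (show n = 1 ∨ 1 < n by omega) with rfl | hn1
  · have hz : ∀ Y : Scheme.{u}, IsZero (EtCoh.const Y (ZMod 1)) := fun Y =>
      (IsZero.iff_id_eq_zero _).2 ((one_nsmul _).symm.trans (nsmul_id_const Y 1))
    haveI : (EtCoh.pull f).Additive := (EtCoh.pullPushAdj f).left_adjoint_additive
    haveI : (EtCoh.push f).Additive := (EtCoh.pullPushAdj f).right_adjoint_additive
    exact ⟨⟨0, (hz _).eq_of_src _ _, ((EtCoh.push f).map_isZero ((EtCoh.pull f).map_isZero (hz _))).eq_of_src _ _⟩,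
      fun q _ => (EtCoh.Rpush f q).map_isZero (hz X)⟩
  · have hX : ∀ x : X, (n : X.residueField x) ≠ 0 := fun x h => by
      have h' := ((hn.map (Scheme.ΓSpecIso (CommRingCat.of A)).inv.hom).map f.appTop.hom).map (X.evaluation ⊤ x trivial).hom
      rw [map_natCast, map_natCast, map_natCast, h] at h'
      exact not_isUnit_zero h'
    obtain ⟨h₀, hq⟩ := PointLim24.acyclic_of_fibres f hf n hn1 hX hfib
    have hk := EtBCQ24.killedBy_of_nsmul (nsmul_id_const (Spec (CommRingCat.of A)) n)
    exact ⟨h₀ _ hk, fun q hq' => (hq q _ hq' hk).of_iso ((EtCoh.Rpush f q).mapIso (EtCore.pullConst f (ZMod n))).symm⟩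

end Groth.Agent.S3126
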