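import Mathlib.NumberTheory.GaussSum
import Mathlib.RingTheory.Norm.Basic
import Mathlib.RingTheory.Trace.Basic
import Mathlib.FieldTheory.Finite.Basic
import Groth.Agent.Lib.Gems6.HasseDavenport

set_option autoImplicit false
open BigOperators
namespace SGA4h
end SGA4h
open SGA4h

namespace Groth.Agent.S3128

/-- Let F ⊂ F' be finite fields with [F' : F] = n, χ a multiplicative character of F and ψ a nontrivial
additive character of F, with values in a domain of characteristic zero. Writing τ(χ, ψ) = -Σ_x χ(x)
ψ(x), one has τ(χ ∘ N_{F'/F}, ψ ∘ Tr_{F'/F}) = τ(χ, ψ)^n. (The source writes χ⁻¹ inside τ; replacing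
χ by χ⁻¹ gives the same family of identities.) -/
theorem result (F F' : Type) [Field F] [Fintype F] [Field F'] [Fintype F'] [Algebra F F']
    (R : Type) [CommRing R] [IsDomain R] [CharZero R] (χ : MulChar F R) (ψ : AddChar F R) (hψ : ψ ≠ 1) :
    -(∑ x : F', χ (Algebra.norm F x) * ψ (Algebra.trace F F' x)) =
      (-(∑ x : F, χ x * ψ x)) ^ Module.finrank F F' := by
  exact Groth.Agent.Gems6.HasseDavenport.main χ ψ hψ

end Groth.Agent.S3128
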