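import Groth.Statements.S3129
import Mathlib.NumberTheory.LegendreSymbol.AddCharacter
import Mathlib.Data.Fin.Tuple.Basic
import Mathlib.Algebra.BigOperators.Fin

set_option autoImplicit false
open BigOperators
open SGA4h

namespace Groth.Agent.S3129

/-- Let F be a finite field with q elements, N ≥ 1, χ₀, …, χ_N multiplicative characters of F with
values in a domain, not all trivial and with product 1, and Ψ a nontrivial additive character of F.
Put τ(χ, Ψ) = −Σ_{x ∈ F} Ψ(x) χ⁻¹(x) and J(χ) = (−1)^{N−1} Σ χ₁⁻¹(x₁) ⋯ χ_N⁻¹(x_N), the sum over x₁,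
…, x_N ∈ F^* with x₁ + ⋯ + x_N = −1. Then q · J(χ) = τ(χ₀, Ψ) ⋯ τ(χ_N, Ψ). -/
theorem result (F : Type) [Field F] [Fintype F] [DecidableEq F] (R : Type) [CommRing R] [IsDomain R]
    (N : ℕ) (hN : 1 ≤ N) (χ : Fin (N + 1) → MulChar F R) (hprod : ∏ i, χ i = 1) (hnt : ∃ i, χ i ≠ 1)
    (Ψ : AddChar F R) (hΨ : Ψ ≠ 1) :
    (Fintype.card F : R) * ((-1) ^ (N - 1) *
        ∑ x ∈ (Finset.univ : Finset (Fin N → Fˣ)).filter (fun x => ∑ i, ((x i : Fˣ) : F) = -1),
          ∏ i : Fin N, (χ i.succ)⁻¹ ((x i : Fˣ) : F)) =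
      ∏ i : Fin (N + 1), (-(∑ y : F, Ψ y * (χ i)⁻¹ y)) := by
  classical
  have hu : ∀ (c : MulChar F R) (f : F → R), (∑ y : F, f y * c y) = ∑ y : Fˣ, f y * c y := by
    intro c f
    refine Eq.trans ?_ (Finset.sum_map Finset.univ ⟨(Units.val : Fˣ → F), Units.val_injective⟩ (fun y => f y * c y))
    refine (Finset.sum_subset (Finset.subset_univ _) fun y _ hy => ?_).symm
    have : y = 0 := by
      by_contra h
      exact hy (Finset.mem_map.2 ⟨Units.mk0 y h, Finset.mem_univ _, rfl⟩)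
    rw [this, MulChar.map_nonunit _ not_isUnit_zero, mul_zero]
  simp_rw [hu]
  rw [show ∏ i : Fin (N + 1), (-(∑ y : Fˣ, Ψ y * (χ i)⁻¹ y)) =
      ∏ i : Fin (N + 1), ((-1) * ∑ y : Fˣ, Ψ y * (χ i)⁻¹ y) by simp]
  rw [Finset.prod_mul_distrib, Finset.prod_const, Finset.card_univ, Fintype.card_fin, Fintype.prod_sum]
  have hpow : ((-1 : R)) ^ (N + 1) = (-1) ^ (N - 1) := by
    obtain ⟨m, rfl⟩ : ∃ m, N = m + 1 := ⟨N - 1, by omega⟩
    simp [pow_succ]
  rw [hpow, mul_left_comm]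
  congr 1
  let e : Fˣ × (Fin N → Fˣ) ≃ (Fin (N + 1) → Fˣ) :=
    { toFun := fun p => Fin.cons p.1 (fun i => p.1 * p.2 i)
      invFun := fun y => (y 0, fun i => (y 0)⁻¹ * y i.succ)
      left_inv := fun p => by simp
      right_inv := fun y => by
        funext i
        refine Fin.cases ?_ (fun j => ?_) i <;> simp }
  have hΨp : ∀ {ι : Type} (s : Finset ι) (g : ι → F), ∏ i ∈ s, Ψ (g i) = Ψ (∑ i ∈ s, g i) := by
    intro ι s g
    induction s using Finset.induction_on with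
    | empty => simp
    | insert a s ha ih => rw [Finset.prod_insert ha, Finset.sum_insert ha, AddChar.map_add_eq_mul, ih]
  have hterm : ∀ (t : Fˣ) (x : Fin N → Fˣ),
      ∏ i, Ψ ((e (t, x) i : Fˣ) : F) * (χ i)⁻¹ ((e (t, x) i : Fˣ) : F) =
        Ψ ((t : F) * (1 + ∑ i, (x i : F))) * ∏ i : Fin N, (χ i.succ)⁻¹ (x i : F) := by
    intro t x
    rw [Finset.prod_mul_distrib, hΨp]
    congr 1
    · congr 1
      rw [Fin.sum_univ_succ, mul_add, mul_one, Finset.mul_sum]
      simp [e]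
    · have h1 : ∏ i, (χ i)⁻¹ (t : F) = 1 := by
        have : (∏ i, (χ i)⁻¹) = (1 : MulChar F R) := by rw [Finset.prod_inv_distrib, hprod, inv_one]
        rw [← MulChar.one_apply_coe (R' := R) t, ← this]
        clear hprod hnt this
        induction (Finset.univ : Finset (Fin (N + 1))) using Finset.induction_on with
        | empty => simp [MulChar.one_apply_coe]
        | insert a s ha ih => rw [Finset.prod_insert ha, Finset.prod_insert ha, MulChar.mul_apply, ih]
      rw [Fin.prod_univ_succ] at h1 ⊢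
      simp only [e, Equiv.coe_fn_mk, Fin.cons_zero, Fin.cons_succ, Units.val_mul, map_mul,
        Finset.prod_mul_distrib, ← mul_assoc, h1, one_mul]
  rw [← e.sum_comp, Fintype.sum_prod_type, Finset.sum_comm]
  simp_rw [hterm, ← Finset.sum_mul]
  have hs : ∀ s : F, ∑ t : Fˣ, Ψ ((t : F) * s) = (if s = 0 then (Fintype.card F : R) else 0) - 1 := by
    intro s
    have h := AddChar.sum_mulShift (R' := R) s (ψ := Ψ) (AddChar.IsPrimitive.of_ne_one hΨ)
    rw [← Finset.sum_erase_add _ _ (Finset.mem_univ (0 : F)), zero_mul, AddChar.map_zero_eq_one] at h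
    have he : ∑ t : Fˣ, Ψ ((t : F) * s) = ∑ x ∈ Finset.univ.erase (0 : F), Ψ (x * s) := by
      refine Finset.sum_bij (fun t _ => (t : F)) (fun t _ => by simp) (fun a _ b _ h => Units.ext h)
        (fun b hb => ⟨Units.mk0 b (Finset.mem_erase.1 hb).1, Finset.mem_univ _, rfl⟩) (fun _ _ => rfl)
    rw [he, eq_sub_iff_add_eq, h]
    split_ifs <;> simp
  simp_rw [hs, sub_mul, one_mul, Finset.sum_sub_distrib]
  have hz : ∑ x : Fin N → Fˣ, ∏ i : Fin N, (χ i.succ)⁻¹ ((x i : Fˣ) : F) = 0 := by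
    rw [← Fintype.prod_sum (fun i (a : Fˣ) => (χ (Fin.succ i))⁻¹ (a : F))]
    obtain ⟨j, hj⟩ : ∃ j : Fin N, χ j.succ ≠ 1 := by
      by_contra hc
      push Not at hc
      obtain ⟨i, hi⟩ := hnt
      refine hi ?_
      refine Fin.cases ?_ (fun j => hc j) i
      simpa [Fin.prod_univ_succ, hc] using hprod
    refine Finset.prod_eq_zero (Finset.mem_univ j) ?_
    have h := hu (χ j.succ)⁻¹ (fun _ => 1)
    simp only [one_mul] at h
    rw [← h]
    exact MulChar.sum_eq_zero_of_ne_one (inv_ne_one.2 hj)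
  rw [hz, sub_zero, Finset.sum_filter, Finset.mul_sum]
  refine Finset.sum_congr rfl fun x _ => ?_
  have hiff : (1 + ∑ i, (x i : F) = 0) ↔ (∑ i, (x i : F) = -1) := by
    rw [add_comm, add_eq_zero_iff_eq_neg]
  by_cases hx : ∑ i, (x i : F) = -1
  · rw [if_pos hx, if_pos (hiff.2 hx)]
  · rw [if_neg hx, if_neg (fun h => hx (hiff.1 h)), mul_zero, zero_mul]

end Groth.Agent.S3129
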