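import Groth.Statements.S3133
import Mathlib.LinearAlgebra.Matrix.Block

set_option autoImplicit false
open Polynomial
open SGA4h

namespace Groth.Agent.S3133

/-- Let A be a square matrix over a commutative ring and n ≥ 1, and let B be the matrix on n blocks of
the endomorphism (x_1, …, x_n) ↦ (A x_n, x_1, …, x_{n-1}). Then det(1 − B·T) = det(1 − A·Tⁿ), i.e.
the reverse characteristic polynomial of B is that of A expanded by n. -/
theorem result (R : Type) [CommRing R] (m : Type) [Fintype m] [DecidableEq m]
    (A : Matrix m m R) (n : ℕ) (hn : 1 ≤ n) :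
    (Matrix.of fun (p q : Fin n × m) =>
        if p.1.val = 0 then (if q.1.val = n - 1 then A p.2 q.2 else 0)
        else (if q.1.val + 1 = p.1.val ∧ p.2 = q.2 then 1 else 0)).charpolyRev =
      Polynomial.expand R n A.charpolyRev := by
  classical
  let S : Matrix m m R[X] := (X : R[X]) • A.map Polynomial.C
  let L : Matrix (Fin n × m) (Fin n × m) R[X] := Matrix.of fun p q =>
    (if p = q then 1 else 0) - (if q.1.val + 1 = p.1.val ∧ p.2 = q.2 then X else 0)
  let V : Matrix (Fin n × m) (Fin n × m) R[X] := Matrix.of fun p q =>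
    (if p = q then 1 else 0) - (if q.1.val = n - 1 then X ^ (p.1.val + 1) * Polynomial.C (A p.2 q.2) else 0)
  set B := (Matrix.of fun (p q : Fin n × m) =>
        if p.1.val = 0 then (if q.1.val = n - 1 then A p.2 q.2 else 0)
        else (if q.1.val + 1 = p.1.val ∧ p.2 = q.2 then 1 else 0)) with hB
  have hLV : (1 : Matrix (Fin n × m) (Fin n × m) R[X]) - (X : R[X]) • B.map Polynomial.C = L * V := by
    ext p q : 1
    rw [Matrix.mul_apply]
    simp only [L, Matrix.of_apply, sub_mul, Finset.sum_sub_distrib, ite_mul, one_mul, zero_mul]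
    rw [Finset.sum_ite_eq Finset.univ p, if_pos (Finset.mem_univ _)]
    by_cases hp : p.1.val = 0
    · rw [Finset.sum_eq_zero (fun x _ => if_neg (fun h => by have := h.1; omega))]
      simp [V, hB, hp, Matrix.one_apply, apply_ite Polynomial.C, mul_ite]
    · let p' : Fin n × m := (⟨p.1.val - 1, by omega⟩, p.2)
      rw [Finset.sum_eq_single p' (fun x _ hx => if_neg (fun h => hx (Prod.ext (Fin.ext (by
        simp only [p']; have := h.1; omega)) h.2.symm))) (by simp), if_pos ⟨by simp only [p']; omega, rfl⟩]
      have he : (p' = q) ↔ (q.1.val + 1 = p.1.val ∧ p.2 = q.2) := by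
        simp only [p', Prod.ext_iff, Fin.ext_iff]
        exact and_congr_left fun _ => by omega
      have hpv : p'.1.val = p.1.val - 1 := rfl
      have hx : (X : R[X]) ^ (p.1.val + 1) = X * X ^ (p'.1.val + 1) := by
        rw [← pow_succ']; congr 1; omega
      simp only [V, hB, Matrix.sub_apply, Matrix.smul_apply, Matrix.map_apply, Matrix.of_apply,
        if_neg hp, Matrix.one_apply, hx, smul_eq_mul, apply_ite Polynomial.C, he]
      split_ifs <;> simp <;> ring
  have hL : L.det = 1 := by
    rw [← Matrix.det_transpose]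
    have ht : L.transpose.BlockTriangular Prod.fst := by
      intro p q hpq
      have hne : q ≠ p := fun h => by subst h; exact lt_irrefl _ hpq
      simp only [L, Matrix.transpose_apply, Matrix.of_apply, if_neg hne]
      rw [if_neg (fun h => by have : q.1.val < p.1.val := hpq; omega)]; simp
    rw [ht.det_fintype]
    refine Finset.prod_eq_one fun k _ => ?_
    have : L.transpose.toSquareBlock Prod.fst k = 1 := by
      ext ⟨p, hp⟩ ⟨q, hq⟩ : 1
      simp only [L, Matrix.toSquareBlock_def, Matrix.of_apply, Matrix.transpose_apply, Matrix.one_apply, Subtype.mk.injEq]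
      rw [if_neg (c := p.1.val + 1 = q.1.val ∧ q.2 = p.2) (fun h => by
        have := congrArg Fin.val (hp.trans hq.symm); have := h.1; omega)]
      simp [eq_comm]
    rw [this, Matrix.det_one]
  have hV : V.BlockTriangular Prod.fst := by
    intro p q hpq
    have hne : p ≠ q := fun h => by subst h; exact lt_irrefl _ hpq
    simp only [V, Matrix.of_apply, if_neg hne]
    rw [if_neg (fun h => by have : q.1.val < p.1.val := hpq; omega)]; simp
  show ((1 : Matrix (Fin n × m) (Fin n × m) R[X]) - (X : R[X]) • B.map Polynomial.C).det = _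
  rw [hLV, Matrix.det_mul, hL, one_mul, hV.det_fintype,
    Finset.prod_eq_single (⟨n - 1, by omega⟩ : Fin n)]
  · rw [Matrix.charpolyRev, AlgHom.map_det,
      ← Matrix.det_submatrix_equiv_self (⟨fun j => ⟨(⟨n - 1, by omega⟩, j), rfl⟩, fun p => p.1.2,
        fun j => rfl, fun p => Subtype.ext (Prod.ext p.2.symm rfl)⟩ : m ≃ {p : Fin n × m // p.1 = ⟨n - 1, by omega⟩})]
    congr 1
    ext i j : 1
    have : n - 1 + 1 = n := by omega
    simp [V, Matrix.toSquareBlock_def, Matrix.one_apply, Matrix.submatrix, this, apply_ite (Polynomial.expand R n)]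
  · intro k _ hk
    have : V.toSquareBlock Prod.fst k = 1 := by
      ext ⟨p, hp⟩ ⟨q, hq⟩ : 1
      simp only [V, Matrix.toSquareBlock_def, Matrix.of_apply, Matrix.one_apply, Subtype.mk.injEq]
      rw [if_neg (c := q.1.val = _) (fun h => hk (by subst hq; exact Fin.ext h))]
      simp
    rw [this, Matrix.det_one]
  · simp

end Groth.Agent.S3133
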