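import Groth.Statements.S3134
-- import your own Groth.Agent.* helpers here

set_option autoImplicit false
open Polynomial
open SGA4h

namespace Groth.Agent.S3134

/-- For a square matrix A over a commutative ring, with P(T) = det(1 − A·T), one has −T·P′(T) = P(T) ·
Σ_{n ≥ 1} Tr(Aⁿ) Tⁿ as formal power series (equivalently T d/dT log P(T)⁻¹ = Σ_{n≥1} Tr(Aⁿ) Tⁿ). -/
theorem result (R : Type) [CommRing R] (m : Type) [Fintype m] [DecidableEq m]
    (A : Matrix m m R) :
    ((-(X * Polynomial.derivative A.charpolyRev) : R[X]) : PowerSeries R) =
      (A.charpolyRev : PowerSeries R) * PowerSeries.mk (fun n => if n = 0 then 0 else (A ^ n).trace) := by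
  classical
  have hder : ∀ M : Matrix m m R[X], Polynomial.derivative M.det =
      (M.adjugate * M.map (fun p => Polynomial.derivative p)).trace := by
    intro M
    have h1 : Polynomial.derivative M.det =
        ∑ i, (M.updateCol i fun j => Polynomial.derivative (M j i)).det := by
      simp only [Matrix.det_apply', Polynomial.derivative_sum]
      rw [Finset.sum_comm]
      refine Finset.sum_congr rfl fun σ _ => ?_
      rw [Polynomial.derivative_intCast_mul, Polynomial.derivative_prod_finset, Finset.mul_sum]
      refine Finset.sum_congr rfl fun i _ => ?_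
      congr 1
      rw [← Finset.mul_prod_erase _ (fun k => (M.updateCol i fun j => Polynomial.derivative (M j i)) (σ k) k) (Finset.mem_univ i),
        Matrix.updateCol_self, mul_comm]
      congr 1
      refine Finset.prod_congr rfl fun k hk => ?_
      rw [Matrix.updateCol_ne (Finset.ne_of_mem_erase hk)]
    rw [h1]
    simp only [Matrix.trace, Matrix.diag, Matrix.mul_apply, Matrix.map_apply]
    refine Finset.sum_congr rfl fun i _ => ?_
    rw [← Matrix.cramer_apply, Matrix.cramer_eq_adjugate_mulVec]
    rfl
  set M : Matrix m m R[X] := 1 - (X : R[X]) • A.map Polynomial.C with hM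
  have hM' : M.map (fun p => Polynomial.derivative p) = -(A.map Polynomial.C) := by
    ext i j : 2
    simp [hM, Matrix.one_apply, apply_ite Polynomial.derivative]
  let ψ : R[X] →+* PowerSeries R := Polynomial.coeToPowerSeries.ringHom
  let B : Matrix m m (PowerSeries R) := Matrix.of fun i j => PowerSeries.mk fun n => (A ^ n) i j
  have hMB : M.map ψ * B = 1 := by
    refine Matrix.ext fun i j => PowerSeries.ext fun n => ?_
    have : M.map ψ = 1 - (PowerSeries.X : PowerSeries R) • A.map PowerSeries.C := by
      ext i j : 1
      simp [hM, ψ, Matrix.one_apply, apply_ite (fun p : R[X] => (p : PowerSeries R))]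
      ring
    rw [this, sub_mul, Matrix.smul_mul, one_mul]
    cases n with
    | zero => simp [B, Matrix.one_apply, apply_ite (PowerSeries.coeff (R := R) 0)]
    | succ n =>
      simp [B, Matrix.mul_apply, Matrix.one_apply, apply_ite (PowerSeries.coeff (R := R) (n + 1)),
        pow_succ' A n, map_sum]
  have hadj : (M.adjugate.map ψ) = (ψ M.det) • B := by
    have := Matrix.adjugate_mul (M.map ψ)
    rw [show (M.map ψ).adjugate = M.adjugate.map ψ from (RingHom.map_adjugate ψ M).symm,
      show (M.map ψ).det = ψ M.det from (RingHom.map_det ψ M).symm] at this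
    calc M.adjugate.map ψ = M.adjugate.map ψ * (M.map ψ * B) := by rw [hMB, mul_one]
      _ = _ := by rw [← Matrix.mul_assoc, this, Matrix.smul_mul, one_mul]
  show ψ (-(X * Polynomial.derivative M.det)) = ψ M.det * _
  rw [hder, hM', mul_neg, Matrix.trace_neg, mul_neg, neg_neg, map_mul,
    show ψ (M.adjugate * A.map Polynomial.C).trace = ((M.adjugate * A.map Polynomial.C).map ψ).trace from
      AddMonoidHom.map_trace ψ.toAddMonoidHom _]
  have : (M.adjugate * A.map Polynomial.C).map ψ = ψ M.det • (B * A.map PowerSeries.C) := by
    rw [Matrix.map_mul, hadj, Matrix.smul_mul]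
    congr 2
    ext i j : 1
    simp [ψ]
  rw [this, Matrix.trace_smul, smul_eq_mul, mul_left_comm]
  congr 1
  refine PowerSeries.ext fun n => ?_
  cases n with
  | zero => simp [ψ]
  | succ n => simp [ψ, B, Matrix.trace, Matrix.mul_apply, map_sum, pow_succ]

end Groth.Agent.S3134
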