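import Groth.Statements.S3140
import Groth.Agent.Lib.RegExchange.Basic

set_option autoImplicit false
universe u
open RingTheory.Sequence
open SGA4h

namespace Groth.Agent.S3140

/-- Let A be a Noetherian local ring and u, v two regular sequences of elements of A generating the same
ideal. Then there is a finite chain of regular sequences generating that same ideal, starting at u
and ending at v, in which each sequence is obtained from the previous one either by a permutation or
by changing only its last element. -/
theorem result (A : Type u) [CommRing A] [IsLocalRing A] [IsNoetherianRing A]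
    (u v : List A) (hu : IsRegular A u) (hv : IsRegular A v) (huv : Ideal.span {x | x ∈ u} = Ideal.span {x | x ∈ v}) :
    ∃ ws : List (List A), ws.head? = some u ∧ ws.getLast? = some v ∧
      (∀ w ∈ ws, IsRegular A w ∧ Ideal.span {x | x ∈ w} = Ideal.span {x | x ∈ u}) ∧
      List.IsChain (fun w w' : List A => w.Perm w' ∨ (w.length = w'.length ∧ w.dropLast = w'.dropLast)) ws := by
  let I := Ideal.ofList u
  have h := RegExchange.reach I v ⟨hv, huv.symm⟩ v [] u (List.nil_append v).symm ⟨hu, rfl⟩
  rw [List.nil_append] at h
  suffices H : ∀ w, RegExchange.Good I w → Relation.ReflTransGen (RegExchange.GStep I) w v →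
      ∃ ws : List (List A), ws.head? = some w ∧ ws.getLast? = some v ∧
        (∀ x ∈ ws, RingTheory.Sequence.IsRegular A x ∧ Ideal.span {a | a ∈ x} = Ideal.span {a | a ∈ u}) ∧
        List.IsChain (fun w w' : List A => w.Perm w' ∨ (w.length = w'.length ∧ w.dropLast = w'.dropLast)) ws from
    H u ⟨hu, rfl⟩ h
  intro w hw hr
  induction hr using Relation.ReflTransGen.head_induction_on with
  | refl => exact ⟨[v], rfl, rfl, fun x hx => by obtain rfl := List.mem_singleton.mp hx; exact hw, List.IsChain.singleton _⟩
  | @head a b hab _ ih =>
    obtain ⟨ws, h1, h2, h3, h4⟩ := ih hab.2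
    cases ws with
    | nil => simp at h1
    | cons c ws =>
      obtain rfl : c = b := by simpa using h1
      refine ⟨a :: c :: ws, rfl, by simpa [List.getLast?_cons_cons] using h2, ?_, ?_⟩
      · intro x hx
        rcases List.mem_cons.mp hx with rfl | hx
        · exact hw
        · exact h3 x hx
      · exact List.IsChain.cons_cons hab.1 h4

end Groth.Agent.S3140
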