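import Groth.Statements.S3142
import Groth.Agent.Lib.EtLocCoh19.Global
-- import your own Groth.Agent.* helpers here

set_option autoImplicit false
universe u
open CategoryTheory CategoryTheory.Limits AlgebraicGeometry Opposite
open EtDual

namespace Groth.Agent.S3142

set_option linter.style.haveILetI false
set_option backward.isDefEq.respectTransparency.types false


/-- Let X be a Noetherian separated scheme, n an integer invertible on X, j : U ⟶ X an open immersion
with closed complement Y, and c a natural number. If the local cohomology sheaves H^p_Y(X, ℤ/n)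
vanish for all p < 2c, then the local cohomology group H^{2c}_Y(X, ℤ/n(c)) is isomorphic to the
group of global sections of the local cohomology sheaf H^{2c}_Y(X, ℤ/n(c)). (The source's
isomorphism is the edge map of the spectral sequence H^p(Y, R^q i^!) ⇒ H^{p+q}_Y; here only the
existence of an isomorphism is asserted.) -/
theorem result {X U : Scheme.{u}} [IsNoetherian X] [X.IsSeparated] (j : U ⟶ X) [IsOpenImmersion j] [EtCoh.BCCont j]
    (n : ℕ) (hn : IsUnit (n : Γ(X, ⊤))) (c : ℕ) (h : ∀ p : ℕ, p < 2 * c → IsZero ((EtDual.locCoh j p).obj (EtCoh.const X (ZMod n)))) :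
    Nonempty ((EtDual.HY j (2 * c)).obj (EtDual.tate X n c) ≅
      ((EtDual.locCoh j (2 * c)).obj (EtDual.tate X n c)).obj.obj (op (EtCoh.top X))) := by
  classical
  rcases eq_or_ne n 0 with rfl | hn0
  · have h0 : IsUnit (0 : Γ(X, ⊤)) := by rwa [Nat.cast_zero] at hn
    haveI : Subsingleton Γ(X, ⊤) := subsingleton_of_zero_eq_one (isUnit_zero_iff.1 h0)
    haveI : IsEmpty X := ⟨fun x => by
      haveI : Nonempty (⊤ : X.Opens) := ⟨⟨x, trivial⟩⟩
      exact false_of_nontrivial_of_subsingleton Γ(X, ⊤)⟩
    have hz : ∀ H : EtCoh.Ab X, IsZero H := fun H => Groth.Agent.EtLocCoh19.isZero_of_cover H fun x => isEmptyElim x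
    exact Groth.Agent.EtLocCoh19.nonempty_HY_iso_sections j _ _ fun q _ => hz _
  exact Groth.Agent.EtLocCoh19.nonempty_HY_iso_sections j _ _ fun q hq =>
    Groth.Agent.EtLocCoh19.isZero_locCoh_tate j hn0 hn c q (h q hq)

end Groth.Agent.S3142
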