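import Groth.Statements.S3143
import Groth.Agent.Lib.EtLocCoh19.Global
-- import your own Groth.Agent.* helpers here

set_option autoImplicit false
universe u
open CategoryTheory CategoryTheory.Limits AlgebraicGeometry Opposite
open EtDual

namespace Groth.Agent.S3143

set_option linter.style.haveILetI false
set_option backward.isDefEq.respectTransparency.types false


/-- Let X be a Noetherian separated scheme, n a natural number invertible on X, c a natural number, Y ⊆
X a closed subset with open complement j : U → X, and Z ⊆ Y a closed subset of X with open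
complement k' : X' → X, so that U ⊆ X' through an open immersion j' : U → X' with k' ∘ j' = j, and V
= Y ∩ X' is closed in X' with complement U. If the local cohomology sheaves H^p_Z(ℤ/n) on X vanish
for all p ≤ 2c + 1, then H^{2c}_Y(X, ℤ/n(c)) and H^{2c}_V(X', ℤ/n(c)) are isomorphic. Only the
existence of an isomorphism is asserted; the published statement is that the restriction map is an
isomorphism (and that it is injective under vanishing for p ≤ 2c only). -/
theorem result {X X' U : Scheme.{u}} [IsNoetherian X] [X.IsSeparated]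
    (n : ℕ) (hn : IsUnit (n : Γ(X, ⊤))) (c : ℕ)
    (j : U ⟶ X) [IsOpenImmersion j] (k' : X' ⟶ X) [IsOpenImmersion k'] (j' : U ⟶ X') [IsOpenImmersion j']
    (hfac : j' ≫ k' = j) [EtCoh.BCCont j] [EtCoh.BCCont k'] [EtCoh.BCCont j']
    (hZ : ∀ p : ℕ, p ≤ 2 * c + 1 → IsZero ((EtDual.locCoh k' p).obj (EtCoh.const X (ZMod n)))) :
    Nonempty ((EtDual.HY j (2 * c)).obj (EtDual.tate X n c) ≅ (EtDual.HY j' (2 * c)).obj (EtDual.tate X' n c)) := by
  classical
  have hz : ∀ p : ℕ, p ≤ 2 * c + 1 → IsZero ((EtDual.locCoh k' p).obj (EtDual.tate X n c)) := fun p hp => by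
    rcases eq_or_ne n 0 with rfl | hn0
    · have h0 : IsUnit (0 : Γ(X, ⊤)) := by rwa [Nat.cast_zero] at hn
      haveI : Subsingleton Γ(X, ⊤) := subsingleton_of_zero_eq_one (isUnit_zero_iff.1 h0)
      haveI : IsEmpty X := ⟨fun x => by
        haveI : Nonempty (⊤ : X.Opens) := ⟨⟨x, trivial⟩⟩
        exact false_of_nontrivial_of_subsingleton Γ(X, ⊤)⟩
      exact Groth.Agent.EtLocCoh19.isZero_of_cover _ fun x => isEmptyElim x
    · exact Groth.Agent.EtLocCoh19.isZero_locCoh_tate k' hn0 hn c p (hZ p hp)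
  let oU : X.Etale := Scheme.Etale.mk j
  let oX : X.Etale := Scheme.Etale.mk k'
  let a : oU ⟶ oX := MorphismProperty.Over.homMk j' hfac
  let b : oX ⟶ EtCoh.top X := MorphismProperty.Over.homMk k' (Category.comp_id _)
  haveI : Mono b := ⟨fun s t h => MorphismProperty.Over.Hom.ext
    ((cancel_mono k').1 (congrArg (fun z => z.left) h))⟩
  let trace : ∀ {U₀ : Scheme.{u}} (i : U₀ ⟶ X) [IsOpenImmersion i],
      Scheme.Etale.mk i ≅ (EtShriek.compEtale i).obj ((EtCoh.bc i).obj (EtCoh.top X)) := fun {U₀} i _ =>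
    MorphismProperty.Over.isoMk (asIso (pullback.snd (𝟙 X) i)).symm
      (show inv (pullback.snd (𝟙 X) i) ≫ pullback.snd (𝟙 X) i ≫ i = i by rw [IsIso.inv_hom_id_assoc])
  have htr : ∀ {U₀ : Scheme.{u}} (i : U₀ ⟶ X) [IsOpenImmersion i],
      (trace i).hom.left ≫ pullback.fst (𝟙 X) i = i := fun {U₀} i _ => by
    show inv (pullback.snd (𝟙 X) i) ≫ pullback.fst (𝟙 X) i = i
    rw [IsIso.inv_comp_eq]
    exact (Category.comp_id _).symm.trans (pullback.condition (f := 𝟙 X) (g := i))
  let eY : EtDual.gammaSupp j ≅ Groth.Agent.EtLocCoh19.secK (a ≫ b) :=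
    Groth.Agent.EtLocCoh19.gammaIso j ≪≫ Groth.Agent.EtLocCoh19.secKIso _ _ (trace j) (Iso.refl _) (by
      apply MorphismProperty.Over.Hom.ext
      show (trace j).hom.left ≫ ((Groth.Agent.EtStalk.compBcAdj j).counit.app (EtCoh.top X)).left = (j' ≫ k') ≫ 𝟙 X
      rw [Groth.Agent.EtBCQ24.counit_fst, Category.comp_id, hfac]
      exact htr j)
  let eZ : EtDual.gammaSupp k' ≅ Groth.Agent.EtLocCoh19.secK b :=
    Groth.Agent.EtLocCoh19.gammaIso k' ≪≫ Groth.Agent.EtLocCoh19.secKIso _ _ (trace k') (Iso.refl _) (by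
      apply MorphismProperty.Over.Hom.ext
      show (trace k').hom.left ≫ ((Groth.Agent.EtStalk.compBcAdj k').counit.app (EtCoh.top X)).left = k' ≫ 𝟙 X
      rw [Groth.Agent.EtBCQ24.counit_fst, Category.comp_id]
      exact htr k')
  let sU : oU ≅ (EtShriek.compEtale k').obj ((EtShriek.compEtale j').obj ((EtCoh.bc j').obj (EtCoh.top X'))) :=
    MorphismProperty.Over.isoMk (asIso (pullback.snd (𝟙 X') j')).symm
      (show inv (pullback.snd (𝟙 X') j') ≫ (pullback.snd (𝟙 X') j' ≫ j') ≫ k' = j by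
        rw [Category.assoc, IsIso.inv_hom_id_assoc, hfac])
  let sX : oX ≅ (EtShriek.compEtale k').obj (EtCoh.top X') :=
    MorphismProperty.Over.isoMk (Iso.refl X') (show 𝟙 X' ≫ 𝟙 X' ≫ k' = k' by simp)
  let eV : EtShriek.restrAlong k' ⋙ EtDual.gammaSupp j' ≅ Groth.Agent.EtLocCoh19.secK a :=
    Functor.isoWhiskerLeft (EtShriek.restrAlong k') (Groth.Agent.EtLocCoh19.gammaIso j') ≪≫
      NatIso.ofComponents (F := EtShriek.restrAlong k' ⋙ Groth.Agent.EtLocCoh19.secK (Groth.Agent.EtLocCoh19.openMap j'))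
        (G := Groth.Agent.EtLocCoh19.secK ((EtShriek.compEtale k').map (Groth.Agent.EtLocCoh19.openMap j')))
        (fun F => Iso.refl _) (fun f => (Category.comp_id _).trans (Category.id_comp _).symm) ≪≫
      Groth.Agent.EtLocCoh19.secKIso _ _ sU sX (by
        apply MorphismProperty.Over.Hom.ext
        show inv (pullback.snd (𝟙 X') j') ≫ ((Groth.Agent.EtStalk.compBcAdj j').counit.app (EtCoh.top X')).left = j' ≫ 𝟙 X'
        rw [Groth.Agent.EtBCQ24.counit_fst, Category.comp_id, IsIso.inv_comp_eq]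
        exact (Category.comp_id _).symm.trans (pullback.condition (f := 𝟙 X') (g := j')))
  let T := EtDual.tate X n c
  obtain ⟨m⟩ := Groth.Agent.EtLocCoh19.nonempty_rightDerived_secK_iso a b T (2 * c)
    ((Groth.Agent.EtLocCoh19.isZero_HY k' T (2 * c) fun q hq => hz q (by omega)).of_iso
      ((RDer.rightDerivedIso eZ (2 * c)).app T).symm)
    ((Groth.Agent.EtLocCoh19.isZero_HY k' T (2 * c + 1) fun q hq => hz q hq).of_iso
      ((RDer.rightDerivedIso eZ (2 * c + 1)).app T).symm)
  obtain ⟨p⟩ := Groth.Agent.BigSite16.nonempty_rightDerived_precomp (EtShriek.restrAlong k') (EtDual.gammaSupp j')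
    (fun I _ => Groth.Agent.EtStalk.injective_restrAlong k' I) T (2 * c)
  obtain ⟨t⟩ := Groth.Agent.EtLocCoh19.nonempty_restr_tate k' n c
  exact ⟨(RDer.rightDerivedIso eY (2 * c)).app T ≪≫ m ≪≫ ((RDer.rightDerivedIso eV (2 * c)).app T).symm ≪≫
    p.symm ≪≫ (EtDual.HY j' (2 * c)).mapIso t⟩

end Groth.Agent.S3143
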