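import Groth.Statements.S3194
import Groth.Agent.Lib.K0Cat.FiniteModules

set_option autoImplicit false
universe u
open CategoryTheory
open SGA6

set_option backward.isDefEq.respectTransparency.types false

namespace Groth.Agent.S3194

/-- Let A be a principal ideal domain and K_•(Spec A) = K₀ of the category of finitely generated
A-modules (free abelian group on finitely generated modules modulo short exact sequences). The
homomorphism ℤ ⟶ K_•(Spec A) sending k to k·[A] is bijective. -/
theorem result (A : Type u) [CommRing A] [IsDomain A] [IsPrincipalIdealRing A] :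
    Function.Bijective (fun k : ℤ => k • KZero.clSub (fun M : ModuleCat.{u} A => Module.Finite A M) (ModuleCat.of A A)) := by
  classical
  let P₀ : PrimeSpectrum A := ⟨⊥, Ideal.isPrime_bot⟩
  have hP₀ : ∀ a ∈ P₀.asIdeal, ∃ s ∉ P₀.asIdeal, s * a = 0 := fun a ha => by
    refine ⟨1, ?_, ?_⟩
    · simp [P₀]
    · rw [Ideal.mem_bot.1 ha, mul_zero]
  have e : Groth.Agent.K0Cat.rankHom hP₀ (KZero.clSub (fun M : ModuleCat.{u} A => Module.Finite A M) (ModuleCat.of A A)) = 1 := by
    refine (Groth.Agent.K0Cat.liftSub_clSub _ _ (X := ModuleCat.of A A) (Module.Finite.self A)).trans ?_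
    simp
  refine ⟨fun k l h => ?_, fun x => ?_⟩
  · have := congrArg (Groth.Agent.K0Cat.rankHom hP₀) h
    simpa [map_zsmul, e] using this
  · refine AddSubgroup.mem_zmultiples_iff.1 (Groth.Agent.K0Cat.mem_of_quotient_prime _ (fun p => ?_) x)
    by_cases hp : p.asIdeal = ⊥
    · rw [Groth.Agent.K0Cat.clSub_equiv (Submodule.quotEquivOfEqBot p.asIdeal hp)]
      exact AddSubgroup.mem_zmultiples _
    · obtain ⟨g, hg⟩ := (IsPrincipalIdealRing.principal p.asIdeal).principal
      have hg0 : g ≠ 0 := fun h => hp (by rw [hg, h]; simp)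
      rw [Groth.Agent.K0Cat.clSub_quotient_sup_span (I := ⊥) (J := p.asIdeal) (g := g)
        (fun a ha => Ideal.mem_bot.2 ((mul_eq_zero.1 (Ideal.mem_bot.1 ha)).resolve_left hg0)) (by rw [bot_sup_eq]; exact hg)]
      exact zero_mem _

end Groth.Agent.S3194
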