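import Groth.Statements.S3195
import Groth.Agent.Lib.KoszulTor28.Tor
import Groth.Agent.Lib.CI2.KoszulInv

set_option linter.style.haveILetI false

set_option autoImplicit false
universe u
open CategoryTheory
open SGA6

namespace Groth.Agent.S3195

/-- Let A be a commutative ring and f, g, h finite sequences of elements of A such that the
concatenations f ++ g, f ++ h and f ++ g ++ h are Koszul-regular (their Koszul complexes are
resolutions of the quotients); put I = (f, g) and J = (f, h). Then for every i ≥ 1 the A-module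
Tor_i^A(A/I, A/J) (Mathlib's Tor, left-derived in the second variable) is isomorphic to the i-th
exterior power over A of Tor_1^A(A/I, A/J). (The source takes exterior powers over O_T = A/(I+J),
which for i ≥ 1 gives the same module since Tor_1 is killed by I + J; over A the case i = 0 would
give A instead of Tor_0 = A/(I+J), so it is left out. The source states this for closed subschemes
of a scheme locally of this form and identifies Tor_1 with the excess conormal bundle.) -/
theorem result (A : Type u) [CommRing A] (f g h : List A)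
    (hfg : LCI.IsKoszulRegularSeq A (f ++ g)) (hfh : LCI.IsKoszulRegularSeq A (f ++ h)) (hfgh : LCI.IsKoszulRegularSeq A (f ++ g ++ h)) (i : ℕ) (hi : 1 ≤ i) :
    Nonempty (((CategoryTheory.Tor (ModuleCat.{u} A) i).obj (ModuleCat.of A (A ⧸ Ideal.span {x | x ∈ f ++ g}))).obj (ModuleCat.of A (A ⧸ Ideal.span {x | x ∈ f ++ h})) ≅
      ModuleCat.of A (⋀[A]^i (((CategoryTheory.Tor (ModuleCat.{u} A) 1).obj (ModuleCat.of A (A ⧸ Ideal.span {x | x ∈ f ++ g}))).obj (ModuleCat.of A (A ⧸ Ideal.span {x | x ∈ f ++ h}))))) := by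
  classical
  obtain ⟨n, rfl⟩ : ∃ n, i = n + 1 := ⟨i - 1, by omega⟩
  replace hfg := (CI2.isKoszulRegularSeq_iff_ex _).1 hfg
  replace hfh := (CI2.isKoszulRegularSeq_iff_ex _).1 hfh
  replace hfgh := (CI2.isKoszulRegularSeq_iff_ex _).1 hfgh
  let I : Ideal A := Ideal.ofList (f ++ g)
  let M := A ⧸ I
  have hperm : List.Perm (f ++ g ++ h) (h ++ (f ++ g)) := List.perm_append_comm
  have hh : CI2.Ex A M h :=
    (KoszulTor28.ex_quo_of_ex_append A hfg (CI2.ex_of_perm hperm hfgh)).congr
      (Submodule.quotEquivOfEq _ _ (by rw [smul_eq_mul, Ideal.mul_top]))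
  let N := KoszulTor28.Quo M h
  have hf : ∀ a ∈ Ideal.ofList f, ∀ x : N, a • x = 0 := by
    intro a ha x
    obtain ⟨x, rfl⟩ := Submodule.mkQ_surjective _ x
    obtain ⟨x, rfl⟩ := Ideal.Quotient.mk_surjective x
    have hax : a • (Ideal.Quotient.mk I x) = 0 := by
      refine Ideal.Quotient.eq_zero_iff_mem.2 (I.mul_mem_right x ?_)
      show a ∈ Ideal.ofList (f ++ g)
      rw [Ideal.ofList_append]
      exact Ideal.mem_sup_left ha
    rw [← map_smul, hax, map_zero]
  let ψ : A →ₗ[A] N := Submodule.mkQ _ ∘ₗ (I.mkQ : A →ₗ[A] M)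
  have hψ : Function.Surjective ψ := (Submodule.mkQ_surjective _).comp (Submodule.mkQ_surjective _)
  let eN : N ≃ₗ[A] A ⧸ (LinearMap.ker ψ : Ideal A) := (ψ.quotKerEquivOfSurjective hψ).symm
  have key : ∀ m : ℕ, Nonempty (((CategoryTheory.Tor (ModuleCat.{u} A) (m + 1)).obj (ModuleCat.of A M)).obj
      (ModuleCat.of A (A ⧸ Ideal.ofList (f ++ h))) ≃ₗ[A]
      (Fin (f.length.choose (m + 1)) → A ⧸ (LinearMap.ker ψ : Ideal A))) := fun m => by
    obtain ⟨e₁⟩ := KoszulTor28.nonempty_tor_hom1 M (f ++ h) hfh m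
    obtain ⟨e₂⟩ := KoszulTor28.nonempty_hom1_coll (l := f) M hh m
    obtain ⟨e₃⟩ := KoszulTor28.nonempty_hom1_of_smul_zero N hf m
    exact ⟨e₁.trans (e₂.trans (e₃.trans (LinearEquiv.piCongrRight fun _ => eN)))⟩
  obtain ⟨a⟩ := key n
  obtain ⟨b⟩ := key 0
  obtain ⟨c⟩ := KoszulTor28.nonempty_exteriorPower_quot (LinearMap.ker ψ : Ideal A) (f.length.choose (0 + 1)) n
  have hr : f.length.choose (0 + 1) = f.length := Nat.choose_one_right _
  let d := c.trans (LinearEquiv.funCongrLeft A (A ⧸ (LinearMap.ker ψ : Ideal A)) (finCongr (by rw [hr])))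
  have w1 : exteriorPower.map (n + 1) b.symm.toLinearMap ∘ₗ exteriorPower.map (n + 1) b.toLinearMap = LinearMap.id :=
    exteriorPower.linearMap_ext (AlternatingMap.ext fun v => by simp [Function.comp_def])
  have w2 : exteriorPower.map (n + 1) b.toLinearMap ∘ₗ exteriorPower.map (n + 1) b.symm.toLinearMap = LinearMap.id :=
    exteriorPower.linearMap_ext (AlternatingMap.ext fun v => by simp [Function.comp_def])
  let w := LinearEquiv.ofBijective (exteriorPower.map (n + 1) b.symm.toLinearMap)
    (Function.bijective_iff_has_inverse.2 ⟨exteriorPower.map (n + 1) b.toLinearMap,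
      fun x => LinearMap.congr_fun w2 x, fun x => LinearMap.congr_fun w1 x⟩)
  exact ⟨(a.trans (d.symm.trans w)).toModuleIso⟩

end Groth.Agent.S3195
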