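import Groth.Statements.S3203
import Groth.Agent.Lib.ExtFil4.Lambda

set_option autoImplicit false
universe u
open CategoryTheory CategoryTheory.Limits AlgebraicGeometry
attribute [local instance] HasDerivedCategory.standard
open SGA6

set_option backward.isDefEq.respectTransparency.types false

namespace Groth.Agent.S3203

/-- Let X be a scheme such that every finite locally free O_X-module has finite locally free exterior
powers (hypothesis hext, phrased with the affine-local predicate ExtPow.IsExtPow). Then K₀ of finite
locally free O_X-modules carries a biadditive, commutative, associative multiplication with unit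
[O_X] such that [E]·[F] = [E ⊗ F], and operations λ^i with λ^i[E] = [Λ^i E], λ⁰ = [O_X], λ¹ = id and
λ^k(x + y) = Σ_{i+j=k} λ^i(x)·λ^j(y): it is a pre-λ-ring. (Such a structure is unique since the
classes of finite locally free modules generate. The identities of a special λ-ring are not
asserted.) -/
theorem result (X : Scheme.{u})
    (hext : ∀ (i : ℕ) (E : X.Modules), FlatMod.IsFinLocFree E → ∃ L : X.Modules, FlatMod.IsFinLocFree L ∧ ExtPow.IsExtPow i E L) :
    ∃ (mul : SGA6.Kvb X →+ SGA6.Kvb X →+ SGA6.Kvb X) (lam : ℕ → SGA6.Kvb X → SGA6.Kvb X), SGA6.IsLambdaStructureVb X mul lam := by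
  exact ⟨Groth.Agent.ExtFil4.mul X, Groth.Agent.ExtFil4.exists_lam hext⟩

end Groth.Agent.S3203
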