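import Groth.Statements.S3208
import Mathlib.LinearAlgebra.FreeModule.PID
import Mathlib.Tactic.LinearCombination
import Mathlib.Data.Nat.Choose.Dvd
import Mathlib.Algebra.Ring.GeomSum
import Mathlib.Data.Nat.Factors
import Mathlib.RingTheory.Coprime.Lemmas
import Mathlib.Algebra.EuclideanDomain.Int

set_option autoImplicit false
open SGA7

namespace Groth.Agent.S3208

/-- Let E be a commutative ring which is finitely generated and torsion-free as an additive group, u an
element of E of finite multiplicative order (u^m = 1 for some m > 0), and n ≥ 2 an integer with u ≡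
1 modulo nE (i.e. 1 - u = n·v for some v ∈ E). Then u² = 1, and if n ≥ 3 then u = 1. -/
theorem result (E : Type) [CommRing E] [NoZeroSMulDivisors ℤ E] [Module.Finite ℤ E] (u : E) (m : ℕ) (hm : 0 < m)
    (hu : u ^ m = 1) (n : ℕ) (hn : 2 ≤ n) (hcong : ∃ v : E, 1 - u = (n : E) * v) :
    u ^ 2 = 1 ∧ (3 ≤ n → u = 1) := by
  have key : ∀ (c : ℕ), 2 ≤ c → ∀ v : E, (∀ k : ℕ, ((c : E) ^ k) ∣ v) → v = 0 := by
    intro c hc v hv
    have : Module.IsTorsionFree ℤ E := ⟨fun r hr x y h => by
      rcases smul_eq_zero.1 (show r • (x - y) = 0 by rw [smul_sub]; exact sub_eq_zero.2 h) with h0 | h0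
      · exact absurd h0 hr.ne_zero
      · exact sub_eq_zero.1 h0⟩
    have : Module.Free ℤ E := inferInstance
    let b := Module.Free.chooseBasis ℤ E
    refine b.ext_elem fun i => ?_
    rw [map_zero, Finsupp.zero_apply]
    by_contra hne
    obtain ⟨w, hw⟩ := hv ((b.repr v i).natAbs)
    have hw' : v = ((c : ℤ) ^ (b.repr v i).natAbs) • w := by
      rw [zsmul_eq_mul]; push_cast; exact hw
    have hd : ((c : ℤ) ^ (b.repr v i).natAbs) ∣ b.repr v i := by
      conv_rhs => rw [hw', map_zsmul]
      exact ⟨b.repr w i, by simp⟩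
    have := Nat.le_of_dvd (Int.natAbs_pos.2 hne) (by
      have := Int.natAbs_dvd_natAbs.2 hd; simpa [Int.natAbs_pow] using this)
    have := Nat.lt_pow_self (n := (b.repr v i).natAbs) (show 1 < c by omega)
    omega
  have fix0 : ∀ (c : ℕ), 2 ≤ c → ∀ v x : E, v = (c : E) * v * x → v = 0 := by
    intro c hc v x hv
    refine key c hc v fun k => ⟨v * x ^ k, ?_⟩
    induction k with
    | zero => simp
    | succ k ih => conv_lhs => rw [ih, hv]
                   ring
  have tf : ∀ (a : ℕ) (x : E), a ≠ 0 → (a : E) * x = 0 → x = 0 := by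
    intro a x ha hx
    have : (a : ℤ) • x = 0 := by rw [zsmul_eq_mul]; simpa using hx
    rcases smul_eq_zero.1 this with h | h
    · exact absurd (by exact_mod_cast h) ha
    · exact h
  -- a root of unity of prime order congruent to 1 modulo `l` (odd prime) or `4` is trivial
  have main : ∀ c : ℕ, ((c.Prime ∧ Odd c) ∨ c = 4) → ∀ (p : ℕ), p.Prime → ∀ v : E,
      (1 + (c : E) * v) ^ p = 1 → v = 0 := by
    intro c hc p hp v hv
    have hc2 : 2 ≤ c := by
      rcases hc with ⟨h, _⟩ | rfl
      · exact h.two_le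
      · norm_num
    obtain ⟨s, hs⟩ : ∃ s : E, (1 + (c : E) * v) ^ p =
        1 + p * ((c : E) * v) + (p.choose 2 : E) * ((c : E) * v) ^ 2 + ((c : E) * v) ^ 3 * s := by
      generalize (c : E) * v = w
      clear hv hp hc
      induction p with
      | zero => exact ⟨0, by simp⟩
      | succ k ih =>
        obtain ⟨s, hs⟩ := ih
        refine ⟨s + (k.choose 2 : E) + w * s, ?_⟩
        rw [pow_succ, hs, Nat.choose_succ_succ' k 1, Nat.choose_one_right]
        push_cast; ring
    have h0 : (p : E) * ((c : E) * v) + (p.choose 2 : E) * ((c : E) * v) ^ 2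
        + ((c : E) * v) ^ 3 * s = 0 := by
      linear_combination hv.symm.trans hs |>.symm
    have h1 : (p : E) * v + (c : E) * v ^ 2 * ((p.choose 2 : E) + (c : E) * v * s) = 0 :=
      tf c _ (by omega) (by linear_combination h0)
    rcases hc with ⟨hcp, hodd⟩ | rfl
    · by_cases hpc : p = c
      · subst hpc
        obtain ⟨j, hj⟩ : p ∣ p.choose 2 := hp.dvd_choose_self two_ne_zero (by
          obtain ⟨k, rfl⟩ := hodd; have := hp.two_le; omega)
        have h2 : v + (p : E) * v ^ 2 * ((j : E) + v * s) = 0 :=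
          tf p _ hp.ne_zero (by rw [hj] at h1; push_cast at h1; linear_combination h1)
        exact fix0 p hc2 v (-(v * ((j : E) + v * s))) (by linear_combination h2)
      · obtain ⟨a, b, hab⟩ := Nat.isCoprime_iff_coprime.2 ((Nat.coprime_primes hp hcp).2 hpc)
        have hab' : (a : E) * p + (b : E) * c = 1 := by exact_mod_cast congrArg (Int.cast (R := E)) hab
        exact fix0 c hc2 v ((b : E) - (a : E) * v * ((p.choose 2 : E) + (c : E) * v * s))
          (by linear_combination (-v) * hab' + (a : E) * h1)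
    · rcases hp.eq_two_or_odd' with rfl | hodd
      · have e : v + 2 * v ^ 2 = 0 := by
          refine tf 8 _ (by norm_num) ?_
          push_cast at hv ⊢; linear_combination hv
        exact fix0 2 le_rfl v (-v) (by push_cast; linear_combination e)
      · obtain ⟨k, hk⟩ := hodd
        have hk' : (p : E) = 2 * (k : E) + 1 := by exact_mod_cast congrArg (Nat.cast (R := E)) hk
        rw [hk'] at h1
        exact fix0 2 le_rfl v (-(k : E) - 2 * v * ((p.choose 2 : E) + (4 : E) * v * s))
          (by push_cast at h1 ⊢; linear_combination h1)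
  have one : ∀ c : ℕ, ((c.Prime ∧ Odd c) ∨ c = 4) → ∀ M : ℕ, 0 < M → ∀ w : E,
      w ^ M = 1 → (c : E) ∣ w - 1 → w = 1 := by
    intro c hc M
    induction M using Nat.strong_induction_on with
    | _ M ih =>
      intro hM w hw hd
      rcases Nat.lt_or_ge M 2 with h | h
      · obtain rfl : M = 1 := by omega
        simpa using hw
      obtain ⟨p, hp, k, rfl⟩ := Nat.exists_prime_and_dvd (show M ≠ 1 by omega)
      have hk : 0 < k := Nat.pos_of_mul_pos_left hM
      obtain ⟨v, hv⟩ := hd.trans (sub_one_dvd_pow_sub_one w k)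
      have : v = 0 := main c hc p hp v (by rw [← hv, add_sub_cancel, ← pow_mul, mul_comm, hw])
      rw [this, mul_zero, sub_eq_zero] at hv
      exact ih k (by nlinarith [hp.two_le]) hk w hv hd
  obtain ⟨v, hv⟩ := hcong
  have big : 3 ≤ n → u = 1 := by
    intro h3
    obtain ⟨c, hcd, hc⟩ : ∃ c, c ∣ n ∧ ((c.Prime ∧ Odd c) ∨ c = 4) := by
      rcases Nat.four_dvd_or_exists_odd_prime_and_dvd_of_two_lt h3 with h | ⟨c, h1, h2, h3⟩
      · exact ⟨4, h, Or.inr rfl⟩
      · exact ⟨c, h2, Or.inl ⟨h1, h3⟩⟩
    exact one c hc m hm u hu ((Nat.cast_dvd_cast hcd).trans ⟨-v, by linear_combination -hv⟩)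
  refine ⟨?_, big⟩
  rcases Nat.lt_or_ge n 3 with h | h
  · obtain rfl : n = 2 := by omega
    refine one 4 (Or.inr rfl) m hm _ (by rw [← pow_mul, mul_comm, pow_mul, hu, one_pow])
      ⟨v ^ 2 - v, ?_⟩
    push_cast at hv ⊢
    linear_combination (-(u + 1) + 2 * v) * hv
  · rw [big h, one_pow]

end Groth.Agent.S3208
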