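import Groth.Statements.S3209
-- import your own Groth.Agent.* helpers here

set_option autoImplicit false
universe u
open TensorProduct
open SGA7

namespace Groth.Agent.S3209

/-- Let f : B' → B be a surjective map of R-algebras with kernel J, g : C → B a map of R-algebras, P =
B' ×_B C their fibre product (the equalizer of f ∘ pr₁ and g ∘ pr₂ in B' × C) and S an R-algebra
such that S ⊗_R J → S ⊗_R B' is injective (this holds when Tor_1^R(B, S) = 0, the published
hypothesis, and in particular when S is flat). Then the canonical map S ⊗_R P → (S ⊗_R B') ×_{S ⊗_R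
B} (S ⊗_R C) is bijective: it is injective, and every pair with the same image in S ⊗_R B comes from
S ⊗_R P. -/
theorem result (R B' B C S : Type u) [CommRing R] [CommRing B'] [CommRing B] [CommRing C]
    [CommRing S] [Algebra R B'] [Algebra R B] [Algebra R C] [Algebra R S]
    (f : B' →ₐ[R] B) (hf : Function.Surjective f) (g : C →ₐ[R] B)
    (hJ : Function.Injective (LinearMap.lTensor S (LinearMap.ker f.toLinearMap).subtype)) :
    letI P := AlgHom.equalizer (f.comp (AlgHom.fst R B' C)) (g.comp (AlgHom.snd R B' C))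
    letI φ₁ := Algebra.TensorProduct.map (AlgHom.id R S) ((AlgHom.fst R B' C).comp P.val)
    letI φ₂ := Algebra.TensorProduct.map (AlgHom.id R S) ((AlgHom.snd R B' C).comp P.val)
    Function.Injective (fun z : S ⊗[R] ↥P => (φ₁ z, φ₂ z)) ∧
    ∀ (x : S ⊗[R] B') (y : S ⊗[R] C),
      Algebra.TensorProduct.map (AlgHom.id R S) f x = Algebra.TensorProduct.map (AlgHom.id R S) g y →
        ∃ z : S ⊗[R] ↥P, φ₁ z = x ∧ φ₂ z = y := by
  let P := AlgHom.equalizer (f.comp (AlgHom.fst R B' C)) (g.comp (AlgHom.snd R B' C))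
  let φ₁ := Algebra.TensorProduct.map (AlgHom.id R S) ((AlgHom.fst R B' C).comp P.val)
  let φ₂ := Algebra.TensorProduct.map (AlgHom.id R S) ((AlgHom.snd R B' C).comp P.val)
  show Function.Injective (fun z : S ⊗[R] P => (φ₁ z, φ₂ z)) ∧ ∀ (x : S ⊗[R] B') (y : S ⊗[R] C),
      Algebra.TensorProduct.map (AlgHom.id R S) f x = Algebra.TensorProduct.map (AlgHom.id R S) g y →
        ∃ z : S ⊗[R] P, φ₁ z = x ∧ φ₂ z = y
  classical
  -- the inclusion of the kernel of `f` into the fibre product
  let j : LinearMap.ker f.toLinearMap →ₗ[R] P :=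
    { toFun := fun x => ⟨((x : B'), (0 : C)), by
        rw [AlgHom.mem_equalizer]
        simp only [AlgHom.comp_apply, AlgHom.fst_apply, AlgHom.snd_apply, map_zero]
        exact LinearMap.mem_ker.mp x.2⟩
      map_add' := fun x y => Subtype.ext (Prod.ext rfl (add_zero _).symm)
      map_smul' := fun r x => Subtype.ext (Prod.ext rfl (smul_zero _).symm) }
  let pC : P →ₗ[R] C := ((AlgHom.snd R B' C).comp P.val).toLinearMap
  let pB : P →ₗ[R] B' := ((AlgHom.fst R B' C).comp P.val).toLinearMap
  have hmem : ∀ z : P, f (z : B' × C).1 = g (z : B' × C).2 := fun z => z.2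
  have hex : Function.Exact j pC := fun z => by
    constructor
    · intro hz
      have hz' : (z : B' × C).2 = 0 := hz
      refine ⟨⟨(z : B' × C).1, ?_⟩, Subtype.ext (Prod.ext rfl hz'.symm)⟩
      show f (z : B' × C).1 = 0
      rw [hmem, hz', map_zero]
    · rintro ⟨x, rfl⟩; rfl
  have hpC : Function.Surjective pC := fun c => by
    obtain ⟨b, hb⟩ := hf (g c)
    exact ⟨⟨(b, c), hb⟩, rfl⟩
  have hexS : Function.Exact (j.lTensor S) (pC.lTensor S) := lTensor_exact S hex hpC
  have hφ₂ : ∀ z, φ₂ z = pC.lTensor S z := fun z => by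
    induction z using TensorProduct.induction_on with
    | zero => simp
    | tmul s z => rfl
    | add a b ha hb => rw [map_add, map_add, ha, hb]
  have hφ₁ : ∀ z, φ₁ z = pB.lTensor S z := fun z => by
    induction z using TensorProduct.induction_on with
    | zero => simp
    | tmul s z => rfl
    | add a b ha hb => rw [map_add, map_add, ha, hb]
  have hj : ∀ w, pB.lTensor S (j.lTensor S w) = LinearMap.lTensor S (LinearMap.ker f.toLinearMap).subtype w :=
    fun w => by rw [← LinearMap.lTensor_comp_apply]; rfl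
  have hfS : ∀ x, Algebra.TensorProduct.map (AlgHom.id R S) f x = f.toLinearMap.lTensor S x := fun x => by
    induction x using TensorProduct.induction_on with
    | zero => simp
    | tmul s z => rfl
    | add a b ha hb => rw [map_add, map_add, ha, hb]
  have hgS : ∀ x, Algebra.TensorProduct.map (AlgHom.id R S) g x = g.toLinearMap.lTensor S x := fun x => by
    induction x using TensorProduct.induction_on with
    | zero => simp
    | tmul s z => rfl
    | add a b ha hb => rw [map_add, map_add, ha, hb]
  refine ⟨?_, fun x y hxy => ?_⟩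
  · intro z z' hzz
    simp only [Prod.mk.injEq] at hzz
    obtain ⟨e1, e2⟩ := hzz
    rw [hφ₁, hφ₁] at e1
    rw [hφ₂, hφ₂] at e2
    rw [← sub_eq_zero, ← map_sub] at e1 e2
    obtain ⟨w, hw⟩ := (hexS _).mp e2
    rw [← hw, hj] at e1
    rw [← sub_eq_zero, ← hw, (injective_iff_map_eq_zero _).mp hJ w e1, map_zero]
  · rw [hfS, hgS] at hxy
    obtain ⟨z, hz⟩ := LinearMap.lTensor_surjective S hpC y
    have hd : x - pB.lTensor S z ∈ LinearMap.ker (f.toLinearMap.lTensor S) := by
      rw [LinearMap.mem_ker, map_sub, hxy, ← hz, ← LinearMap.lTensor_comp_apply, ← LinearMap.lTensor_comp_apply,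
        show f.toLinearMap.comp pB = g.toLinearMap.comp pC from LinearMap.ext hmem, sub_self]
    obtain ⟨w, hw⟩ := ((lTensor_exact S (LinearMap.exact_subtype_ker_map f.toLinearMap) hf) _).mp
      (LinearMap.mem_ker.mp hd)
    refine ⟨z + j.lTensor S w, ?_, ?_⟩
    · rw [hφ₁, map_add, hj, hw, add_sub_cancel]
    · rw [hφ₂, map_add, hz, hexS.apply_apply_eq_zero, add_zero]

end Groth.Agent.S3209
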