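import Groth.Statements.S3210
import Groth.Agent.Lib.SGA7Torsion.Main
import Groth.Agent.Lib.AbRigid.Hom
import Mathlib.AlgebraicGeometry.Group.Abelian

set_option autoImplicit false
universe u
open CategoryTheory CategoryTheory.Limits AlgebraicGeometry MonObj
open SGA7 MonoidalCategory CartesianMonoidalCategory

namespace Groth.Agent.S3210

/-- Direction (i) ⇒ (v bis) of the Néron–Ogg–Chafarévitch criterion (only this direction of the
criterion is stated): let R be a discrete valuation ring with fraction field K and residue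
characteristic different from the prime ℓ, Ω a separable closure of K, W a valuation subring of Ω
lying over R, and A an abelian variety over K (a proper, geometrically integral group scheme). If A
extends to an abelian scheme over R (a proper smooth group scheme over Spec R with connected
geometric fibres whose generic fibre is K-isomorphic to A), then for every ν every element of the
inertia group at W fixes all the ℓ^ν-torsion Ω-points of A. -/
theorem result (R K Ω : Type u) [CommRing R] [IsDomain R] [IsDiscreteValuationRing R] [Field K]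
    [Algebra R K] [IsFractionRing R K] [Field Ω] [Algebra K Ω] [IsSepClosure K Ω]
    (W : ValuationSubring Ω) (hW : SGA7.LiesOver K R W) (ℓ : ℕ) (hℓ : ℓ.Prime) (hℓp : (ℓ : IsLocalRing.ResidueField R) ≠ 0)
    (A : Over (Spec (CommRingCat.of K))) [GrpObj A] [IsProper A.hom] [GeometricallyIntegral A.hom]
    (hgood : (∃ (B : Over (Spec (CommRingCat.of R))) (_ : GrpObj B), IsProper B.hom ∧ Smooth B.hom ∧
        (∀ (k' : Type u) [Field k'] (t : Spec (CommRingCat.of k') ⟶ Spec (CommRingCat.of R)), ConnectedSpace ↑(pullback B.hom t)) ∧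
        Nonempty ((Over.pullback (Spec.map (CommRingCat.ofHom (algebraMap R K)))).obj B ≅ A))) :
    ∀ (ν : ℕ) (σ : Ω ≃ₐ[K] Ω), SGA7.IsInertia W σ → ∀ x : SGA7.Pts Ω A, x ^ (ℓ ^ ν) = 1 → SGA7.galAct σ x = x := by
  intro ν σ hσ x hx
  obtain ⟨B, _, hBp, -, -, ⟨φ⟩⟩ := hgood
  haveI := hBp
  let BK := (Over.pullback (SGA7Torsion.gen R K)).obj B
  letI : GrpObj BK := Functor.grpObjObj
  have hw : φ.hom.left ≫ A.hom = BK.hom := Over.w φ.hom
  haveI : IsProper BK.hom := by rw [← hw]; infer_instance
  haveI : GeometricallyIntegral BK.hom := by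
    rw [← hw]
    exact (MorphismProperty.cancel_left_of_respectsIso @GeometricallyIntegral _ _).mpr inferInstance
  let c : 𝟙_ (Over (Spec (CommRingCat.of K))) ⟶ A := η[BK] ≫ φ.hom
  let ψ : BK ⟶ A := φ.hom * (toUnit BK ≫ c)⁻¹
  have hψ : η[BK] ≫ ψ = η[A] := by
    rw [comp_mul, GrpObj.comp_inv, ← Category.assoc, toUnit_unique (η[BK] ≫ toUnit BK) (𝟙 _),
      Category.id_comp, mul_inv_cancel, one_eq_one]
  haveI := AbRigid.isMonHom_of_one BK A ψ hψ
  have hcomp : ∀ y : SGA7.Pts Ω BK, y ≫ ψ = (y ≫ φ.hom) * (toUnit (pt Ω) ≫ c)⁻¹ := fun y => by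
    rw [comp_mul, GrpObj.comp_inv, ← Category.assoc, comp_toUnit]
  let f : SGA7.Pts Ω BK →* SGA7.Pts Ω A :=
    MonoidHom.mk' (fun y => y ≫ ψ) (fun a b => mul_comp a b ψ)
  have hf : Function.Injective f := fun a b hab => by
    have h : a ≫ ψ = b ≫ ψ := hab
    rw [hcomp, hcomp, mul_left_inj, cancel_mono] at h
    exact h
  let y : SGA7.Pts Ω BK := (x * (toUnit (pt Ω) ≫ c)) ≫ φ.inv
  have hy : f y = x := by
    show y ≫ ψ = x
    rw [hcomp, Category.assoc, Iso.inv_hom_id, Category.comp_id, mul_inv_cancel_right]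
  have hℓu : IsUnit ((ℓ ^ ν : ℕ) : R) := by
    push_cast
    refine IsUnit.pow _ ?_
    by_contra h
    exact hℓp (by
      rw [← map_natCast (IsLocalRing.residue R), IsLocalRing.residue_eq_zero_iff]
      exact h)
  haveI := isCommMonObj_of_isProper_of_geometricallyIntegral BK
  have hfix : galAct σ y = y := SGA7Torsion.galAct_eq_of_pow_eq_one R K Ω W hW.1 B
    (fun a b => mul_comm a b) (ℓ ^ ν) hℓu σ hσ y (hf (by rw [map_pow, map_one, hy, hx]))
  rw [← hy]
  show specAut σ ≫ y ≫ ψ = y ≫ ψ
  rw [← Category.assoc]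
  exact congrArg (· ≫ ψ) hfix

end Groth.Agent.S3210
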