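import Groth.Statements.S3211
import Groth.Agent.Lib.NeronGrp19.Basic
import Groth.Agent.S18483
import Groth.Agent.S11098
import Groth.Agent.S7791
-- import your own Groth.Agent.* helpers here

set_option autoImplicit false
universe u
open CategoryTheory CategoryTheory.Limits AlgebraicGeometry MonObj
open SGA7
open MonoidalCategory CartesianMonoidalCategory

namespace Groth.Agent.S3211

set_option linter.style.haveILetI false
set_option backward.isDefEq.respectTransparency.types false


/-- (i) ⟺ (iv): let R be a discrete valuation ring with fraction field K, A an abelian variety over K (a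
proper, geometrically integral group scheme) and N a Néron model of A over Spec R. Then A extends to
an abelian scheme over R (a proper smooth group scheme with connected geometric fibres and generic
fibre K-isomorphic to A) if and only if N is proper over Spec R. -/
theorem result (R : Type u) [CommRing R] [IsDomain R] [IsDiscreteValuationRing R]
    (A : Over (Spec (CommRingCat.of (FractionRing R)))) [GrpObj A] [IsProper A.hom] [GeometricallyIntegral A.hom]
    (N : Over (Spec (CommRingCat.of R))) (e : (Neron.genericFibre R).obj N ≅ A) (hN : Neron.IsNeronModelOf R N A e) :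
    (∃ (B : Over (Spec (CommRingCat.of R))) (_ : GrpObj B), IsProper B.hom ∧ Smooth B.hom ∧
        (∀ (k' : Type u) [Field k'] (t : Spec (CommRingCat.of k') ⟶ Spec (CommRingCat.of R)), ConnectedSpace ↑(pullback B.hom t)) ∧
        Nonempty ((Over.pullback (Spec.map (CommRingCat.ofHom (algebraMap R (FractionRing R))))).obj B ≅ A)) ↔ IsProper N.hom := by
  classical
  constructor
  · rintro ⟨B, hBg, hBp, hBs, -, ⟨φ⟩⟩
    haveI := hBp; haveI := hBs
    have h0 := Groth.Agent.S18483.result R B
    let φ' : (Neron.genericFibre R).obj B ≅ A := φ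
    have hB : Neron.IsNeronModelOf R B A φ' := by
      refine ⟨h0.1, h0.2.1, h0.2.2.1, h0.2.2.2.1, fun Y hY => ?_⟩
      have h1 : Function.Bijective (fun g : Y ⟶ B => (Neron.genericFibre R).map g) := by
        simpa using h0.2.2.2.2 Y hY
      exact (Iso.homToEquiv φ' (Z := (Neron.genericFibre R).obj Y)).bijective.comp h1
    obtain ⟨⟨ψ, hψ, -⟩, hiso⟩ := Groth.Agent.S11098.result R A N B e φ' hN hB
    haveI := hiso ψ hψ
    rw [← Over.w ψ]
    haveI : IsIso ψ.left := inferInstanceAs (IsIso ((Over.forget _).map ψ))
    infer_instance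
  · intro hp
    obtain ⟨hsm, hsep, hft, hqc, hb⟩ := hN
    haveI := hp; haveI := hsm
    let P : Over (Spec (CommRingCat.of R)) → Prop := fun Y => Smooth Y.hom
    have hU : P (𝟙_ (Over (Spec (CommRingCat.of R)))) := inferInstanceAs (Smooth (𝟙 (Spec (CommRingCat.of R))))
    have hT : ∀ Y Z, P Y → P Z → P (Y ⊗ Z) := fun Y Z hY hZ => by
      haveI : Smooth Y.hom := hY
      haveI : Smooth Z.hom := hZ
      exact inferInstanceAs (Smooth (pullback.fst Y.hom Z.hom ≫ Y.hom))
    obtain ⟨hG⟩ := NeronGrp19.exists_grpObj (Neron.genericFibre R) A N e P hU hsm (hT _ _ hU hsm) (hT _ _ hsm hU)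
      (hT _ _ hsm hsm) (hT _ _ (hT _ _ hsm hsm) hsm) hb
    letI := hG
    refine ⟨N, hG, hp, hsm, ?_, ⟨e⟩⟩
    intro k' _ t
    let K := FractionRing R
    let g : Spec (CommRingCat.of K) ⟶ Spec (CommRingCat.of R) := Spec.map (CommRingCat.ofHom (algebraMap R K))
    let ξ : ↥(Spec (CommRingCat.of R)) := (⟨⊥, Ideal.isPrime_bot⟩ : PrimeSpectrum R)
    have hξ : Set.range g = {ξ} := by
      refine Set.eq_singleton_iff_unique_mem.2 ⟨⟨IsLocalRing.closedPoint K, ?_⟩, ?_⟩
      · refine PrimeSpectrum.ext ?_
        show Ideal.comap (algebraMap R K) (IsLocalRing.maximalIdeal K) = ⊥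
        rw [IsLocalRing.maximalIdeal_eq_bot]
        exact Ideal.comap_bot_of_injective _ (IsFractionRing.injective R K)
      · rintro _ ⟨s, rfl⟩
        refine PrimeSpectrum.ext ?_
        show Ideal.comap (algebraMap R K) s.asIdeal = ⊥
        rw [(Ideal.eq_bot_or_top s.asIdeal).resolve_right s.isPrime.ne_top]
        exact Ideal.comap_bot_of_injective _ (IsFractionRing.injective R K)
    haveI : GeometricallyIntegral (pullback.snd N.hom g) := by
      show GeometricallyIntegral ((Neron.genericFibre R).obj N).hom
      rw [← Over.w e.hom]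
      haveI : IsIso e.hom.left := inferInstanceAs (IsIso ((Over.forget _).map e.hom))
      exact (MorphismProperty.cancel_left_of_respectsIso (P := @GeometricallyIntegral) e.hom.left A.hom).2 inferInstance
    haveI : IsIntegral (pullback N.hom g) :=
      GeometricallyIntegral.isIntegral_of_subsingleton (pullback.snd N.hom g)
    have hgen : Set.range (pullback.fst N.hom g).base = N.hom.base ⁻¹' {ξ} := by
      have e' : Set.range (pullback.fst N.hom g).base = N.hom.base ⁻¹' Set.range g.base := Scheme.Pullback.range_fst N.hom g
      rw [e', show Set.range g.base = {ξ} from hξ]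
    haveI : ConnectedSpace ↥N.left := by
      have hd : closure (Set.range (pullback.fst N.hom g).base) = Set.univ := by
        refine Set.eq_univ_of_forall fun x => ?_
        have hsp : ξ ⤳ N.hom x := (PrimeSpectrum.le_iff_specializes ξ _).1 bot_le
        obtain ⟨z, hz, hfz⟩ := Flat.generalizingMap N.hom hsp
        exact hz.mem_closed isClosed_closure (subset_closure (hgen ▸ hfz))
      haveI : PreconnectedSpace ↥N.left :=
        ⟨hd ▸ (isPreconnected_range (pullback.fst N.hom g).continuous).closure⟩
      exact { toNonempty := ⟨η[N].left.base (IsLocalRing.closedPoint R)⟩ }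
    haveI := Groth.Agent.S7791.result N.hom η[N].left (Over.w η[N])
    haveI : GeometricallyIntegral (pullback.snd N.hom t) :=
      MorphismProperty.pullback_snd (P := @GeometricallyIntegral) _ _ inferInstance
    haveI : IsIntegral (pullback N.hom t) :=
      GeometricallyIntegral.isIntegral_of_subsingleton (pullback.snd N.hom t)
    exact inferInstance

end Groth.Agent.S3211
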