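import Groth.Statements.S3214
import Mathlib

set_option autoImplicit false
open Polynomial
universe u
open SGA7II

namespace Groth.Agent.S3214
open Finset

/-- In the recursive form established in its proof: let A = Z[X_1, ..., X_a] (a >= 1), P = prod_i (T -
X_i) in A[T] and S_i the i-th elementary symmetric function. Writing a_j for the coefficient of
T^{a-1} in the remainder of T^{a-1+j} modulo P, one has a_0 = 1 and sum_{i=0}^{a} (-1)^i S_i a_{j-i}
= 0 for every j > 0 (with a_m = 0 for m < 0); equivalently sum_j (-1)^j a_j is the inverse of sum_i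
S_i. (The source works in formal power series; the identity involves only polynomials.) -/
theorem result (a : ℕ) (ha : 0 < a) :
    let P : (MvPolynomial (Fin a) ℤ)[X] := ∏ i : Fin a, (X - C (MvPolynomial.X i))
    let coef : ℤ → MvPolynomial (Fin a) ℤ := fun j =>
      if j < 0 then 0 else ((X : (MvPolynomial (Fin a) ℤ)[X]) ^ (a - 1 + j.toNat) %ₘ P).coeff (a - 1)
    coef 0 = 1 ∧ ∀ j : ℕ, 0 < j →
      (∑ i ∈ Finset.range (a + 1), (-1 : MvPolynomial (Fin a) ℤ) ^ i * MvPolynomial.esymm (Fin a) ℤ i *
        coef ((j : ℤ) - i)) = 0 := by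
  intro P coef
  have hm : P.Monic := Polynomial.monic_prod_of_monic _ _ fun i _ => Polynomial.monic_X_sub_C _
  have hdeg : P.degree = a := by simp [P, Polynomial.degree_prod]
  have hlow : ∀ m, m < a → (Polynomial.X ^ m : Polynomial (MvPolynomial (Fin a) ℤ)) %ₘ P = Polynomial.X ^ m := fun m h =>
    (Polynomial.modByMonic_eq_self_iff hm).2 (by rw [hdeg, Polynomial.degree_X_pow]; exact_mod_cast h)
  have hP : P = ∑ i ∈ range (a + 1), Polynomial.C ((-1 : MvPolynomial (Fin a) ℤ) ^ i * MvPolynomial.esymm (Fin a) ℤ i) * Polynomial.X ^ (a - i) := by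
    have := Multiset.prod_X_sub_X_eq_sum_esymm ((univ : Finset (Fin a)).val.map (MvPolynomial.X (R := ℤ)))
    rw [Multiset.map_map, Multiset.card_map, Finset.card_val, Finset.card_univ, Fintype.card_fin] at this
    refine this.trans (sum_congr rfl fun i _ => ?_)
    rw [← MvPolynomial.esymm_eq_multiset_esymm (Fin a) ℤ, map_mul, map_pow, map_neg, map_one, mul_assoc]
  refine ⟨?_, fun j hj => ?_⟩
  · show (if (0 : ℤ) < 0 then _ else _) = _
    rw [if_neg (lt_irrefl _), Int.toNat_zero, Nat.add_zero, hlow _ (by omega), Polynomial.coeff_X_pow_self]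
  · have h0 : Polynomial.modByMonicHom P (Polynomial.X ^ (j - 1) * P) = 0 :=
      (Polynomial.modByMonic_eq_zero_iff_dvd hm).2 (dvd_mul_left _ _)
    nth_rewrite 2 [hP] at h0
    rw [mul_sum, map_sum] at h0
    have h1 := congrArg (fun q : Polynomial (MvPolynomial (Fin a) ℤ) => q.coeff (a - 1)) h0
    simp only [Polynomial.finsetSum_coeff, Polynomial.coeff_zero] at h1
    refine Eq.trans (sum_congr rfl fun i hi => ?_) h1
    rw [Finset.mem_range] at hi
    rw [mul_left_comm, ← pow_add, ← Polynomial.smul_eq_C_mul, map_smul, Polynomial.coeff_smul, smul_eq_mul]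
    congr 1
    show (if ((j : ℤ) - i) < 0 then 0 else _) = _
    split_ifs with h
    · rw [Polynomial.modByMonicHom_apply, hlow _ (by omega), Polynomial.coeff_X_pow, if_neg (by omega)]
    · rw [Polynomial.modByMonicHom_apply]
      congr 3
      omega

end Groth.Agent.S3214
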