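import Groth.Statements.S3241
import Groth.Agent.Lib.EtDiv3.Apply

set_option autoImplicit false
universe u
open CategoryTheory AlgebraicGeometry
open Dix

namespace Groth.Agent.S3241

/-- Let X be a noetherian scheme such that for every X' étale over X all local rings of X' are
factorial. Then the groups H^q(X_ét, G_m) are torsion for every q ≥ 2; in particular the
cohomological Brauer group H²(X_ét, G_m) is torsion. -/
theorem result (X : Scheme.{u}) [IsNoetherian X] (hfact : ∀ (U : X.Etale) (u : U.left), IsDomain (U.left.presheaf.stalk u) ∧ UniqueFactorizationMonoid (U.left.presheaf.stalk u)) (q : ℕ) (hq : 2 ≤ q) : IsAddTorsion (EtCoh.H X (EtCoh.Gm X) q) := by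
  haveI : Groth.Agent.EtDiv3.EtFactorial X :=
    ⟨fun U => ⟨fun u => (hfact U u).1, fun u => (hfact U u).2⟩⟩
  exact Groth.Agent.EtDiv3.isAddTorsion_H_Gm q hq

end Groth.Agent.S3241
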