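import Groth.Statements.S3248
import Groth.Agent.Lib.CSAlg.Tensor
import Mathlib.LinearAlgebra.Matrix.ToLin
import Mathlib.LinearAlgebra.Dimension.Free
import Mathlib.LinearAlgebra.FiniteDimensional.Lemmas

set_option autoImplicit false
universe u
open TensorProduct
open Dix

namespace Groth.Agent.S3248

/-- Stated for a commutative subalgebra: let A be a central simple algebra of dimension r² over a field
k and L a commutative k-algebra embedded in A by an injective k-algebra homomorphism ι, such that A
is free of rank r for the right L-module structure a · l = a ι(l) (given here as a module structure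
together with that compatibility). Then L ⊗_k A is isomorphic as an L-algebra to the matrix algebra
M_r(L). (Only the existence of an isomorphism is stated; the text names the map a ⊗ l ↦ (y ↦ a y
l).) -/
theorem result (k : Type u) [Field k] (A : Type u) [Ring A] [Algebra k A] [Algebra.IsCentral k A] [IsSimpleRing A] [FiniteDimensional k A] (L : Type u) [CommRing L] [Algebra k L] (ι : L →ₐ[k] A) (hι : Function.Injective ι) [Module L A] (hmod : ∀ (l : L) (a : A), l • a = a * ι l) [Module.Free L A] (r : ℕ) (hr : 0 < r) (hA : Module.finrank k A = r ^ 2) (hrank : Module.finrank L A = r) : Nonempty ((L ⊗[k] A) ≃ₐ[L] Matrix (Fin r) (Fin r) L) := by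
  have htower : IsScalarTower k L A := ⟨fun c l a => by
    rw [hmod, hmod, map_smul, mul_smul_comm]⟩
  have hcomm : SMulCommClass L k A := ⟨fun l c a => by rw [hmod, hmod, smul_mul_assoc]⟩
  have : Module.Finite L A := Module.Finite.of_restrictScalars_finite k L A
  have : Module.Finite k L := Module.Finite.of_injective ι.toLinearMap hι
  let μ : A →ₐ[k] Module.End L A :=
    { toFun := fun a =>
        { toFun := fun x => a * x
          map_add' := mul_add a
          map_smul' := fun l x => by simp [hmod, mul_assoc] }
      map_one' := by ext x; simp
      map_mul' := fun a b => by ext x; simp [mul_assoc]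
      map_zero' := by ext x; simp
      map_add' := fun a b => by ext x; simp [add_mul]
      commutes' := fun c => by
        ext x
        change algebraMap k A c * x = c • x
        rw [Algebra.smul_def] }
  let ψ := Algebra.TensorProduct.lift (Algebra.ofId L (Module.End L A)) μ
    (fun l a => Algebra.commutes l (μ a))
  have hinj : Function.Injective ψ := by
    let g : A ⊗[k] L →+* Module.End L A :=
      ψ.toRingHom.comp (Algebra.TensorProduct.comm k A L).toRingEquiv.toRingHom
    have hg : Function.Injective g := by
      rw [← TwoSidedIdeal.ker_eq_bot]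
      by_contra hne
      obtain ⟨l, hl0, hl⟩ := Groth.Agent.CSAlg.exists_one_tmul_mem A L (TwoSidedIdeal.ker g) hne
      have h1 : ψ (l ⊗ₜ (1 : A)) (1 : A) = 0 := by
        have := (TwoSidedIdeal.mem_ker g).1 hl
        have h2 : g ((1 : A) ⊗ₜ l) = ψ (l ⊗ₜ (1 : A)) := rfl
        rw [← h2, this, LinearMap.zero_apply]
      simp [ψ, μ, hmod, Algebra.ofId_apply, Module.algebraMap_end_apply] at h1
      exact hl0 (hι (h1.trans (map_zero ι).symm))
    intro x y hxy
    obtain ⟨x, rfl⟩ := (Algebra.TensorProduct.comm k A L).surjective x
    obtain ⟨y, rfl⟩ := (Algebra.TensorProduct.comm k A L).surjective y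
    rw [hg hxy]
  have : Nontrivial L := ι.toRingHom.domain_nontrivial
  have hL : r * Module.finrank k L = r ^ 2 := by
    rw [← hA, ← hrank, mul_comm, Module.finrank_mul_finrank]
  let b := Module.finBasisOfFinrankEq L A hrank
  have hsurj : Function.Surjective ψ := by
    let E := (algEquivMatrix b).toLinearEquiv.restrictScalars k
    have : Module.Finite k (Module.End L A) := Module.Finite.equiv E.symm
    refine (LinearMap.injective_iff_surjective_of_finrank_eq_finrank
      (f := ψ.toLinearMap.restrictScalars k) ?_).1 hinj
    have h1 := Module.finrank_tensorProduct (R := k) (S := k) (M := L) (M' := A)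
    rw [h1, E.finrank_eq, Module.finrank_matrix, Fintype.card_fin, hA,
      Nat.eq_of_mul_eq_mul_left hr (hL.trans (sq r))]
    try ring
  exact ⟨(AlgEquiv.ofBijective ψ ⟨hinj, hsurj⟩).trans (algEquivMatrix b)⟩

end Groth.Agent.S3248
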