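import Groth.Statements.S3253
import Groth.Agent.Lib.ArInter.Form

set_option autoImplicit false
universe u
open AlgebraicGeometry CategoryTheory CategoryTheory.Limits
open ArSurf

namespace Groth.Agent.S3253

/-- Let R be a discrete valuation ring, X an arithmetic surface over Spec R (regular, integral,
2-dimensional, flat and projective), Γ_1, …, Γ_r vertical prime divisors of X over the closed point
(integral curves over the residue field, closed in X) and L_1, …, L_r invertible O_X-modules with
L_j ⊗ I(Γ_j) ≅ O_X (L_j = O_X(Γ_j)). Then for all integers a_1, …, a_r, Σ_{i,j} a_i a_j (Γ_i · Γ_j)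
≤ 0, where Γ_i · Γ_j = deg over the residue field of L_j restricted to Γ_i. -/
theorem result (R : Type u) [CommRing R] [IsDomain R] [IsDiscreteValuationRing R]
    (X : Over (Spec (CommRingCat.of R))) (hX : ArSurf.IsArithSurface R X)
    {r : ℕ} (Γ : Fin r → ArSurf.VertComp R X) (L : Fin r → X.left.Modules)
    (hL : ∀ j, ClSub.IsInverseOf (L j) (ClSub.idealMod ((Γ j).ι.ker))) (a : Fin r → ℤ) :
    (Finset.univ : Finset (Fin r × Fin r)).sum
      (fun p => a p.1 * a p.2 * ArSurf.inter R X (L p.2) (Γ p.1)) ≤ 0 := by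
  classical
  let c : Fin r → Set.range (fun i => Set.range (Γ i).ι.base) := fun i => ⟨_, i, rfl⟩
  have : Fintype (Set.range (fun i => Set.range (Γ i).ι.base)) := Fintype.ofFinite _
  choose s hs using fun p : Set.range (fun i => Set.range (Γ i).ι.base) => p.2
  have hinj : Function.Injective fun p => Set.range (Γ (s p)).ι.base := fun p q h => by
    apply Subtype.ext
    exact ((hs p).symm.trans h).trans (hs q)
  have hL' : ∀ p, ClSub.IsInverseOf (L (s p)) (ClSub.idealMod ((Γ (s p)).ι.ker)) := fun p => hL (s p)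
  let N := fun q p => ((ArSurf.inter R X (L (s q)) (Γ (s p)) : ℤ) : ℚ)
  have hM : ∀ i j, ArSurf.inter R X (L j) (Γ i) = ArSurf.inter R X (L (s (c j))) (Γ (s (c i))) := fun i j => by
    rw [Groth.Agent.ArInter.inter_congr_left (Groth.Agent.ArInter.isSurf hX) (Γ i) (hs (c j)).symm (hL j) (hL' (c j))]
    exact Groth.Agent.ArInter.inter_congr_right (Groth.Agent.ArInter.isSurf hX) hinj hL' (c j) (hs (c i)).symm
  obtain ⟨w, Q, hw, -, -, -, hrow, -⟩ := Groth.Agent.ArInter.exists_weights (Groth.Agent.ArInter.isSurf hX) hinj hL'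
  have hQ := Groth.Agent.ArInter.form_nonpos N (fun p => (w p : ℚ)) (fun p => Nat.cast_pos.mpr (hw p))
    (fun p q h => Int.cast_nonneg (Groth.Agent.ArInter.inter_nonneg (Groth.Agent.ArInter.isSurf hX) hinj hL' p q h))
    (fun p q => Int.cast_inj.mpr (Groth.Agent.ArInter.inter_symm (Groth.Agent.ArInter.isSurf hX) hinj hL' p q))
    (fun p => by
      have h : ((∑ q, (w q : ℤ) * ArSurf.inter R X (L (s q)) (Γ (s p)) : ℤ) : ℚ) ≤ 0 := by exact_mod_cast hrow p
      push_cast at h
      exact h) (fun p => ∑ i with c i = p, (a i : ℚ))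
  rw [← Groth.Agent.ArInter.sum_grouped c (fun i => (a i : ℚ)) N] at hQ
  have hN : ∀ i j, N (c j) (c i) = (ArSurf.inter R X (L j) (Γ i) : ℚ) := fun i j => Int.cast_inj.mpr (hM i j).symm
  simp only [hN] at hQ
  rw [← @Fintype.sum_prod_type'] at hQ
  exact_mod_cast hQ

end Groth.Agent.S3253
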