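import Groth.Statements.S3256
import Groth.Agent.Lib.RelMin32.Finite
import Groth.Agent.Lib.RegLoc.UFD
import Groth.Agent.Lib.ProjSpace.Basic
-- import your own Groth.Agent.* helpers here

set_option autoImplicit false
set_option linter.style.haveILetI false
set_option backward.isDefEq.respectTransparency false
universe u
open AlgebraicGeometry CategoryTheory CategoryTheory.Limits
open ArSurf

namespace Groth.Agent.S3256

theorem isDomain_normal_of_regular {A : Type u} [CommRing A] [IsRegularLocalRing A] :
    IsDomain A ∧ IsIntegrallyClosed A := by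
  haveI := Groth.Agent.RegLoc.isDomain A
  haveI := Groth.Agent.RegLoc.ufd_of_isRegularLocalRing A
  exact ⟨inferInstance, inferInstance⟩

theorem isProper_of_projective {R : Type u} [CommRing R] {Y : Over (Spec (CommRingCat.of R))}
    (h : Neron.IsProjectiveOver R Y) : IsProper Y.hom := by
  obtain ⟨n, i, hi, e⟩ := h
  haveI := hi
  haveI := Groth.Agent.ProjSpace.isProper_toBase n (Spec (CommRingCat.of R))
  rw [← e]
  infer_instance

/-- Let R be a Dedekind domain and X an arithmetic surface over Spec R. Then there are a relatively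
minimal arithmetic surface Y over Spec R and an R-morphism X -> Y inducing an isomorphism on generic
fibres. -/
theorem result {R : Type u} [CommRing R] [IsDedekindDomain R]
    (X : Over (Spec (CommRingCat.of R))) (hX : ArSurf.IsArithSurface R X) :
    ∃ (Y : Over (Spec (CommRingCat.of R))) (f : X ⟶ Y), ArSurf.IsArithSurface R Y ∧
      Neron.IsRelMinimalRegularModel R Y ∧ IsIso ((Neron.genericFibre R).map f) := by
  classical
  obtain ⟨hreg, hint, hdim, hflat, hproj⟩ := hX
  haveI := hint
  haveI := hflat
  have hXg : RelMin.IsGood X :=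
    ⟨hint, fun q => haveI := hreg q; isDomain_normal_of_regular.2, isProper_of_projective hproj, hflat,
      RelMin.noChain_of_dim hdim.le⟩
  obtain ⟨C, hC, hsub⟩ := RelMin.exists_finite_contracted hXg
  let P : ∀ Y : Over (Spec (CommRingCat.of R)), (X ⟶ Y) → Prop := fun Y f =>
    (∀ q : Y.left, IsRegularLocalRing (Y.left.presheaf.stalk q)) ∧ Neron.IsProjectiveOver R Y ∧ Flat Y.hom ∧
      IsIso ((Neron.genericFibre R).map f)
  have hgood : ∀ Y f, P Y f → RelMin.IsGood Y := fun Y f h => by
    haveI := h.2.2.1
    exact RelMin.isGood_of_regular f hXg (isProper_of_projective h.2.1)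
      (fun q => haveI := h.1 q; isDomain_normal_of_regular) h.2.2.2
  let 𝒞 : Set (Set X.left) := {A | ∃ Y f, P Y f ∧ RelMin.contracted f = A}
  have hfin : 𝒞.Finite := hC.finite_subsets.subset (by
    rintro A ⟨Y, f, h, rfl⟩
    exact hsub Y f (hgood Y f h) h.2.2.2)
  obtain ⟨A, ⟨Y, f, hP, rfl⟩, hmax⟩ := hfin.exists_maximal
    ⟨_, X, 𝟙 X, ⟨hreg, hproj, hflat, by rw [CategoryTheory.Functor.map_id]; infer_instance⟩, rfl⟩
  obtain ⟨hregY, hprojY, hflatY, hgenY⟩ := hP
  have hYg := hgood Y f ⟨hregY, hprojY, hflatY, hgenY⟩
  haveI := hYg.integral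
  refine ⟨Y, f, ⟨hregY, hYg.integral, le_antisymm (RelMin.dim_le_of_noChain hYg.noChain) ?_, hflatY, hprojY⟩,
    ⟨hregY, hprojY, hflatY, fun Y' hreg' hproj' hflat' g hg => ?_⟩, hgenY⟩
  · by_cases hc : RelMin.contracted f = ∅
    · haveI := RelMin.isIso_of_contracted_eq_empty f hXg hYg hgenY hc
      haveI : IsIso f.left := inferInstanceAs (IsIso ((Over.forget _).map f))
      rw [← hdim]
      exact le_of_eq (IsHomeomorph.topologicalKrullDim_eq f.left.base
        (TopCat.homeoOfIso (asIso f.left.base)).isHomeomorph)
    obtain ⟨x, hx⟩ := Set.nonempty_iff_ne_empty.2 hc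
    have hxg := RelMin.hom_ne_gen_of_contracted f hXg hYg hgenY hx
    obtain ⟨w, hw, hne, hwf⟩ := RelMin.exists_generization f hXg hYg hgenY hx (D := R) Y.hom (fun η hη => by
        rw [((hη _).antisymm (genericPoint_specializes η)).eq, hYg.hom_genericPoint])
      (fun h0 => hxg (by rw [← RelMin.hom_apply f]; exact PrimeSpectrum.ext h0))
    let K : Y.left → TopologicalSpace.IrreducibleCloseds Y.left := fun z =>
      ⟨closure {z}, isIrreducible_singleton.closure, isClosed_closure⟩
    have hlt : ∀ {p q : Y.left}, p ⤳ q → p ≠ q → K q < K p := fun {p q} hpq hpne => by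
      refine lt_of_le_of_ne (specializes_iff_closure_subset.mp hpq) fun he => hpne ?_
      have he' : closure ({q} : Set Y.left) = closure {p} :=
        congrArg (fun Z : TopologicalSpace.IrreducibleCloseds Y.left => (Z : Set Y.left)) he
      exact (hpq.antisymm (specializes_iff_closure_subset.mpr he'.ge)).eq
    let s : LTSeries (TopologicalSpace.IrreducibleCloseds Y.left) :=
      { length := 2
        toFun := ![K (f.left x), K w, K (genericPoint Y.left)]
        step := fun i => by
          fin_cases i
          · exact hlt hw hne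
          · refine hlt (genericPoint_specializes w) fun he => hxg ?_
            rw [← RelMin.hom_apply f, ← hwf, ← he, hYg.hom_genericPoint] }
    exact Order.LTSeries.length_le_krullDim s
  · have hfg : IsIso ((Neron.genericFibre R).map (f ≫ g)) := by
      haveI := hgenY
      haveI := hg
      rw [Functor.map_comp]; infer_instance
    have hP' : P Y' (f ≫ g) := ⟨hreg', hproj', hflat', hfg⟩
    have hY'g := hgood Y' (f ≫ g) hP'
    by_contra hni
    obtain ⟨z, hz⟩ : (RelMin.contracted g).Nonempty := Set.nonempty_iff_ne_empty.2 fun hc =>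
      hni (RelMin.isIso_of_contracted_eq_empty g hYg hY'g hg hc)
    haveI := RelMin.isProper_left f hXg.proper hYg.proper
    haveI := RelMin.isProper_left g hYg.proper hY'g.proper
    have hle : RelMin.contracted f ⊆ RelMin.contracted (f ≫ g) := fun a ha => ⟨ha.1, by
      have h2 := g.left.isClosedMap _ ha.2
      rw [Set.image_singleton] at h2
      exact h2⟩
    obtain ⟨a, rfl⟩ := RelMin.surjective_of_iso_generic f hXg.proper hYg.proper hgenY z
    have hnc : ¬ IsClosed ({a} : Set X.left) := fun hcl => hz.1 (by
      have h2 := f.left.isClosedMap _ hcl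
      rwa [Set.image_singleton] at h2)
    have ha : a ∈ RelMin.contracted (f ≫ g) := ⟨hnc, hz.2⟩
    exact hz.1 (hmax ⟨Y', f ≫ g, hP', rfl⟩ hle ha).2

end Groth.Agent.S3256
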