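import Groth.Statements.S3257
import Groth.Agent.Lib.RelMin32.Factor
import Groth.Agent.Lib.RelMin32.Birat
import Groth.Agent.Lib.BlowUpExist.Proper
import Groth.Agent.Lib.BlowUpExist.Glue
import Groth.Agent.Lib.BlowUpReg6.Main
import Groth.Agent.Lib.BlowUpFib6.Basic
import Groth.Agent.Lib.FormalH7.LocFree
import Groth.Agent.Lib.Fibration13.Basic
import Groth.Agent.Lib.Stein6.StrictLocal
-- import your own Groth.Agent.* helpers here

set_option autoImplicit false
set_option maxHeartbeats 1000000
set_option linter.style.haveILetI false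
set_option backward.isDefEq.respectTransparency false
universe u
open AlgebraicGeometry CategoryTheory CategoryTheory.Limits
open ArSurf

namespace Groth.Agent.S3257

theorem isIso_of_finite_fibres {X Y : Scheme.{u}} [IsIntegral X] [IsIntegral Y] (f : X ⟶ Y) [IsProper f]
    (hY : Pi1.IsNormalScheme Y) (hgen : f (genericPoint X) = genericPoint Y)
    [hbir : IsIso (f.stalkMap (genericPoint X))] (hfin : ∀ y : Y, (f ⁻¹' {y}).Finite) : IsIso f := by
  have hdom : f.base (genericPoint X) ⤳ genericPoint Y := specializes_of_eq hgen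
  have h0 : ∀ V : Y.Opens, Function.Bijective (f.app V).hom := fun V => by
    refine Groth.Agent.Fibration13.bijective_app_of_birational f hY hdom ?_ V
    rw [CohIII.stalkToFunctionField, RingHom.coe_comp]
    haveI : IsIso (Y.presheaf.stalkSpecializes hdom) :=
      (Y.presheaf.stalkCongr (.of_eq hgen.symm)).isIso_hom
    exact (ConcreteCategory.bijective_of_isIso (f.stalkMap (genericPoint X))).comp
      (ConcreteCategory.bijective_of_isIso (Y.presheaf.stalkSpecializes hdom))
  haveI : LocallyQuasiFinite f := LocallyQuasiFinite.of_finite_preimage_singleton _ hfin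
  haveI : IsFinite f := IsFinite.of_isProper_of_locallyQuasiFinite f
  have hcov : (⨆ U : Y.affineOpens, (U : Y.Opens)) = ⊤ := iSup_affineOpens_eq_top _
  refine (IsZariskiLocalAtTarget.iff_of_iSup_eq_top (P := MorphismProperty.isomorphisms Scheme) _ hcov).2 fun U => ?_
  haveI : IsAffine (U : Y.Opens).toScheme := U.2
  haveI : IsAffine (f ⁻¹ᵁ (U : Y.Opens)).toScheme := U.2.preimage f
  refine Stein6.isIso_of_bijective_appTop _ ?_
  rw [morphismRestrict_appTop, CommRingCat.hom_comp, RingHom.coe_comp]
  exact (ConcreteCategory.bijective_of_isIso (X.presheaf.map (eqToHom _).op)).comp (h0 _)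

theorem eq_of_restrict {X Y : Scheme.{u}} (f : X ⟶ Y) (V : Y.Opens) [IsIso (f ∣_ V)] {a b : X}
    (ha : f a ∈ V) (h : f a = f b) : a = b := by
  have hbase : ∀ v : (f ⁻¹ᵁ V : X.Opens), f ((f ⁻¹ᵁ V).ι v) = ((f ∣_ V) v).1 :=
    fun v => (congrArg (fun g => g v) (congrArg (fun t => t.base) (morphismRestrict_ι f V))).symm
  have hb : f b ∈ V := h ▸ ha
  have := @(ConcreteCategory.bijective_of_isIso (f ∣_ V).base).1 ⟨a, ha⟩ ⟨b, hb⟩
    (Subtype.ext ((hbase ⟨a, ha⟩).symm.trans (Eq.trans h (hbase ⟨b, hb⟩))))
  exact congrArg Subtype.val this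

/-- Let R be a Dedekind domain, X and Y arithmetic surfaces over Spec R, f : X -> Y an R-morphism and y
a closed point of Y such that f restricts to an isomorphism over Y minus y while the fibre of f over
y is irreducible and has more than one point (so the exceptional locus of the birational morphism f
is irreducible). Then f is the blowing-up of Y at y: it has the universal property of the blow-up
along the ideal of the reduced closed point y (BlowUp.IsBlowUp). (The factorization result of the
source says more generally that every birational morphism of regular fibered surfaces is a finite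
sequence of blow-ups of closed points.) -/
theorem result {R : Type u} [CommRing R] [IsDedekindDomain R]
    (X Y : Over (Spec (CommRingCat.of R))) (hX : ArSurf.IsArithSurface R X) (hY : ArSurf.IsArithSurface R Y)
    (f : X ⟶ Y) (y : Y.left) (hy : IsClosed ({y} : Set Y.left))
    (hiso : IsIso (f.left ∣_ (⟨{y}ᶜ, hy.isOpen_compl⟩ : Y.left.Opens)))
    (hirr : IsPreirreducible (f.left.base ⁻¹' {y}))
    (hbig : ∃ x x' : X.left, x ≠ x' ∧ f.left.base x = y ∧ f.left.base x' = y) :
    BlowUp.IsBlowUp f.left (Scheme.IdealSheafData.vanishingIdeal ⟨{y}, hy⟩) := by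
  classical
  haveI := hX.2.1
  haveI := hY.2.1
  haveI := RelMin.IsArithSurface.isNoetherian hX
  haveI := RelMin.IsArithSurface.isNoetherian hY
  haveI := RelMin.isProper_left' hX hY f
  have hXc := RelMin.IsArithSurface.noChain hX
  have hYc := RelMin.IsArithSurface.noChain hY
  have hYn : ∀ q : Y.left, IsIntegrallyClosed (Y.left.presheaf.stalk q) := fun q =>
    haveI := hY.1 q; RelMin.isDomain_normal.2
  let U : Y.left.Opens := ⟨{y}ᶜ, hy.isOpen_compl⟩
  haveI : IsIso (f.left ∣_ U) := hiso
  have hgy : genericPoint Y.left ≠ y := by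
    intro h
    haveI : Subsingleton Y.left := ⟨fun a b => by
      have h1 := ((genericPoint_specializes a).mem_closed hy h : a = y)
      have h2 := ((genericPoint_specializes b).mem_closed hy h : b = y)
      rw [h1, h2]⟩
    have h2 : topologicalKrullDim Y.left ≤ 0 := by
      haveI : Subsingleton (TopologicalSpace.IrreducibleCloseds Y.left) := ⟨fun A B =>
        TopologicalSpace.IrreducibleCloseds.ext (by
          obtain ⟨a, ha⟩ := A.isIrreducible'.nonempty
          obtain ⟨b, hb⟩ := B.isIrreducible'.nonempty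
          ext w
          exact ⟨fun _ => Subsingleton.elim b w ▸ hb, fun _ => Subsingleton.elim a w ▸ ha⟩)⟩
      exact Order.krullDim_nonpos_of_subsingleton
    rw [hY.2.2.1] at h2
    exact absurd h2 (by decide)
  obtain ⟨hgen, hb⟩ := RelMin.birational_of_restrict f.left (U := U) ⟨_, hgy⟩
  let C := Scheme.IdealSheafData.vanishingIdeal (X := Y.left) ⟨{y}, hy⟩
  have hsupp : ∀ w : Y.left, w ∈ C.support ↔ w = y := fun w => by
    rw [← SetLike.mem_coe, Scheme.IdealSheafData.coe_support_vanishingIdeal]
    rfl
  have hcart : BlowUp.IsEffCartierIdeal (C.comap f.left) :=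
    RelMin.isEffCartierIdeal_comap f.left hgen hy hXc hX.1 hYc hY.1 hbig
  obtain ⟨Y', π, hπ⟩ : ∃ (Y' : Scheme.{u}) (π : Y' ⟶ Y.left), BlowUp.IsBlowUp π C :=
    ⟨_, _, BlowUpExist.ChartIdx.isBlowUp_blowUpHom (C := C)⟩
  haveI : IsProper π := BlowUpExist.isProper (BlowUpReg6.isFiniteTypeIdeal C) hπ
  obtain ⟨g, hg, -⟩ := hπ.2 X.left f.left hcart
  haveI : Nonempty Y' := ⟨g (genericPoint X.left)⟩
  obtain ⟨hint, hπgen, -⟩ := BlowUpFib6.isIntegral_of_isBlowUp hπ
  haveI := hint
  have hfib : ∀ z, π (g z) = f.left z := fun z => by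
    rw [← Scheme.Hom.comp_apply, hg]
  -- the blowing up is regular
  have hC : ∀ z : C.subscheme, IsRegularLocalRing (C.subscheme.presheaf.stalk z) := fun z => by
    have hz : C.subschemeι z = y := (hsupp _).1 (by
      rw [← SetLike.mem_coe, ← Scheme.IdealSheafData.range_subschemeι]; exact ⟨z, rfl⟩)
    obtain ⟨V, hV, hzV, -⟩ := exists_isAffineOpen_mem_and_subset (X := Y.left) (x := C.subschemeι z) (U := ⊤) trivial
    have hk := FormalH7.ker_stalkMap_subscheme C ⟨V, hV⟩ z hzV
    rw [RelMin.map_germ_vanishing ⟨{y}, hy⟩ ⟨V, hV⟩ _ hzV (fun w _ => by rw [hz]; exact Iff.rfl)] at hk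
    let eq := RingHom.quotientKerEquivOfSurjective (C.subschemeι.stalkMap_surjective z)
    haveI : IsRegularLocalRing (Y.left.presheaf.stalk (C.subschemeι z) ⧸ RingHom.ker (C.subschemeι.stalkMap z).hom) := by
      rw [hk]
      exact inferInstanceAs (IsRegularLocalRing (IsLocalRing.ResidueField (Y.left.presheaf.stalk (C.subschemeι z))))
    exact IsRegularLocalRing.of_ringEquiv eq
  have hπ' : BlowUp.IsBlowUp π C.subschemeι.ker := by rw [Scheme.IdealSheafData.ker_subschemeι]; exact hπ
  have hZn : Pi1.IsNormalScheme Y' := fun z => by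
    haveI := BlowUpReg6.isRegularLocalRing_stalk C.subschemeι hY.1 hC π hπ' z
    exact RelMin.isDomain_normal
  -- the blowing up is birational
  haveI : IsIso (π ∣_ EffCartier.cmpl C) := EffCartier.isIso_blowUp_restrict hπ
  have hmemC : ∀ w : Y.left, w ≠ y → w ∈ EffCartier.cmpl C := fun w hw h => hw ((hsupp w).1 h)
  obtain ⟨-, hπb⟩ := RelMin.birational_of_restrict π (U := EffCartier.cmpl C) ⟨_, hmemC _ hgy⟩
  have hg0 : g (genericPoint X.left) = genericPoint Y' := by
    refine eq_of_restrict π (EffCartier.cmpl C) ?_ ?_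
    · rw [hfib, hgen]; exact hmemC _ hgy
    · rw [hfib, hgen, hπgen]
  haveI : IsIso (π.stalkMap (g (genericPoint X.left))) := by rw [hg0]; exact hπb
  haveI : IsIso ((g ≫ π).stalkMap (genericPoint X.left)) := by rw [hg]; exact hb
  haveI : IsIso (π.stalkMap (g (genericPoint X.left)) ≫ g.stalkMap (genericPoint X.left)) :=
    Scheme.Hom.stalkMap_comp g π (genericPoint X.left) ▸ inferInstance
  haveI hgb : IsIso (g.stalkMap (genericPoint X.left)) :=
    IsIso.of_isIso_comp_left (π.stalkMap (g (genericPoint X.left))) _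
  haveI : IsProper (g ≫ π) := by rw [hg]; infer_instance
  haveI : IsProper g := IsProper.of_comp g π
  have hsurj : Function.Surjective g := fun z => by
    obtain ⟨a, -, ha⟩ := (genericPoint_specializes z).mem_closed (g.isClosedMap _ isClosed_univ)
      ⟨genericPoint X.left, trivial, hg0⟩
    exact ⟨a, ha⟩
  -- the exceptional fibre
  have hF : IsClosed (f.left ⁻¹' {y}) := hy.preimage f.left.continuous
  obtain ⟨x₁, -, -, hx₁, -⟩ := id hbig
  obtain ⟨ξ, hξ⟩ := QuasiSober.sober (⟨⟨x₁, hx₁⟩, hirr⟩ : IsIrreducible (f.left.base ⁻¹' {y})) hF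
  have hξy : f.left ξ = y := hξ.mem
  have hclosed : ∀ x : X.left, f.left x = y → x ≠ ξ → IsClosed ({x} : Set X.left) := fun x hx hne => by
    by_contra hh
    obtain ⟨c, hc, hcx⟩ : ∃ c, c ∈ closure ({x} : Set X.left) ∧ c ≠ x := by
      by_contra h'
      push Not at h'
      exact hh (closure_eq_iff_isClosed.1 (Set.Subset.antisymm (fun c hc => h' c hc) subset_closure))
    exact hXc (genericPoint X.left) ξ x c (genericPoint_specializes ξ) (hξ.specializes hx)
      (specializes_iff_mem_closure.2 hc) (fun h => hgy (by rw [← hgen, h, hξy])) hne.symm hcx.symm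
  by_cases hw : IsClosed ({g ξ} : Set Y')
  · -- impossible: the blowing up would be an isomorphism
    exfalso
    haveI : IsIso π := by
      haveI := hπb
      refine isIso_of_finite_fibres π (fun q => ⟨inferInstance, hYn q⟩) hπgen fun w => ?_
      by_cases hwy : w = y
      · refine (Set.finite_singleton (g ξ)).subset fun z hz => ?_
        obtain ⟨a, rfl⟩ := hsurj z
        have ha : f.left a = y := by rw [← hfib a]; exact (hz : π (g a) = w).trans hwy
        exact (((hξ.specializes ha).map g.continuous).mem_closed hw rfl : g a = g ξ)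
      · refine Set.Subsingleton.finite fun a ha b hb' => eq_of_restrict π (EffCartier.cmpl C) ?_ ?_
        · rw [show π a = w from ha]; exact hmemC _ hwy
        · exact (ha : π a = w).trans (hb' : π b = w).symm
    have hCC : BlowUp.IsEffCartierIdeal C := by
      have h1 := BlowUpExist.isEffCartierIdeal_comap_of_isOpenImmersion hπ.1 (inv π)
      rwa [← Scheme.IdealSheafData.comap_comp, IsIso.inv_hom_id, Scheme.IdealSheafData.comap_id] at h1
    obtain ⟨V, hyV, c, -, hspan⟩ := hCC y
    refine RelMin.not_valuationRing f.left hgen hYn hy hbig ?_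
    haveI := hY.1 y
    haveI := (RelMin.isDomain_normal (A := Y.left.presheaf.stalk y)).1
    have hT : (IsLocalRing.maximalIdeal (Y.left.presheaf.stalk y)).IsPrincipal → ValuationRing (Y.left.presheaf.stalk y) :=
      ((tfae_of_isNoetherianRing_of_isLocalRing_of_isDomain (Y.left.presheaf.stalk y)).out 4 1).1
    refine hT ⟨(Y.left.presheaf.germ V.1 y hyV).hom c, ?_⟩
    show IsLocalRing.maximalIdeal (Y.left.presheaf.stalk y) = Ideal.span _
    rw [← RelMin.map_germ_vanishing ⟨{y}, hy⟩ V y hyV (fun w _ => Iff.rfl),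
      show (Scheme.IdealSheafData.vanishingIdeal (X := Y.left) ⟨{y}, hy⟩).ideal V = Ideal.span {c} from hspan,
      Ideal.map_span, Set.image_singleton]
  haveI : IsIso g := by
    refine isIso_of_finite_fibres g hZn hg0 fun z => ?_
    by_cases hzy : π z = y
    swap
    · refine Set.Subsingleton.finite fun a ha b hb' => eq_of_restrict f.left U ?_ ?_
      · show f.left a ≠ y
        rw [← hfib, show g a = z from ha]; exact hzy
      · rw [← hfib, ← hfib, show g a = z from ha, show g b = z from hb']
    have hsub : ∀ a, g a = z → f.left a = y := fun a ha => by rw [← hfib, ha, hzy]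
    by_cases hzξ : z = g ξ
    · refine (Set.finite_singleton ξ).subset fun a ha => ?_
      by_contra hne
      have := g.isClosedMap _ (hclosed a (hsub a ha) hne)
      rw [Set.image_singleton, show g a = z from ha, hzξ] at this
      exact hw this
    · by_cases hfz : (g ⁻¹' {z}).Nonempty
      swap
      · rw [Set.not_nonempty_iff_eq_empty.1 hfz]; exact Set.finite_empty
      obtain ⟨a₀, ha₀⟩ := hfz
      have hne : ∀ a, g a = z → a ≠ ξ := fun a ha h => hzξ (by rw [← ha, h])
      have hzc : IsClosed ({z} : Set Y') := by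
        have := g.isClosedMap _ (hclosed a₀ (hsub _ ha₀) (hne _ ha₀))
        rwa [Set.image_singleton, show g a₀ = z from ha₀] at this
      obtain ⟨S, hS, hS1, hS2, hSeq⟩ := TopologicalSpace.NoetherianSpace.exists_finite_set_isClosed_irreducible
        (hzc.preimage g.continuous)
      rw [hSeq]
      refine hS.sUnion fun T hT => ?_
      obtain ⟨t, ht⟩ := QuasiSober.sober (hS2 T hT) (hS1 T hT)
      have htz : t ∈ g ⁻¹' {z} := hSeq ▸ Set.mem_sUnion_of_mem ht.mem hT
      rw [← ht.def, (hclosed t (hsub t htz) (hne t htz)).closure_eq]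
      exact Set.finite_singleton t
  refine ⟨hcart, fun W h hh => ?_⟩
  obtain ⟨k, hk, huniq⟩ := hπ.2 W h hh
  refine ⟨k ≫ inv g, ?_, fun k' hk' => ?_⟩
  · show (k ≫ inv g) ≫ f.left = h
    rw [← hg, Category.assoc, IsIso.inv_hom_id_assoc, hk]
  · rw [IsIso.eq_comp_inv]
    refine huniq _ ?_
    show (k' ≫ g) ≫ π = h
    rw [Category.assoc, hg]
    exact hk'

end Groth.Agent.S3257
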