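import Groth.Statements.S3258
import Groth.Agent.Lib.ArInter.SmoothMin
-- import your own Groth.Agent.* helpers here

set_option autoImplicit false
universe u
open AlgebraicGeometry CategoryTheory CategoryTheory.Limits
open ArSurf

namespace Groth.Agent.S3258

/-- Let R be a Dedekind domain and X an arithmetic surface over Spec R (a regular, integral scheme of
dimension 2, flat and projective over Spec R) which is smooth over Spec R. Then X is relatively
minimal: every R-morphism from X to a regular, projective, flat R-scheme that is an isomorphism on
generic fibres is an isomorphism. -/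
theorem result {R : Type u} [CommRing R] [IsDedekindDomain R]
    (X : Over (Spec (CommRingCat.of R))) (hX : ArSurf.IsArithSurface R X) [Smooth X.hom] :
    Neron.IsRelMinimalRegularModel R X := by
  obtain ⟨hreg, hint, hdim, hflat, hproj⟩ := hX
  haveI := hint
  have hprop : ∀ (Z : Over (Spec (CommRingCat.of R))), Neron.IsProjectiveOver R Z → IsProper Z.hom := by
    intro Z ⟨n, i, hi, h⟩
    haveI := hi
    rw [← h]
    infer_instance
  haveI := hprop X hproj
  refine ⟨hreg, hproj, hflat, fun Y hY hYproj hYflat g hg => ?_⟩
  haveI := hprop Y hYproj
  exact Groth.Agent.ArInter.isIso_of_smooth_surface X hdim.le Y hY g hg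

end Groth.Agent.S3258
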