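import Groth.Statements.S3259
import Groth.Agent.Lib.FlatClosure19.Basic
import Groth.Agent.Lib.ProjSpace.Basic
import Groth.Agent.Lib.LimH13.ArrowModel
import Groth.Agent.Lib.LocImm12.Basic
-- import your own Groth.Agent.* helpers here

set_option autoImplicit false
set_option maxHeartbeats 1000000
set_option linter.style.haveILetI false
set_option backward.isDefEq.respectTransparency false
universe u
open AlgebraicGeometry CategoryTheory CategoryTheory.Limits
open ArSurf

namespace Groth.Agent.S3259

/-- Let R be a Dedekind domain with fraction field K and C a smooth projective curve over K (smooth,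
proper, of dimension 1, admitting a closed immersion into some P^n_K). Then there are a non-empty
open subscheme U of Spec R containing the generic point and a smooth proper morphism 𝒞 -> U whose
fibre over the generic point is K-isomorphic to C. In particular C has good reduction at every
closed point of U, that is, at all but finitely many closed points. (Stated in the form the
published proof gives.) -/
theorem result {R : Type u} [CommRing R] [IsDedekindDomain R]
    (C : Over (Spec (CommRingCat.of (FractionRing R)))) [Smooth C.hom] [IsProper C.hom]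
    (hdim : topologicalKrullDim C.left = 1) (hproj : Neron.IsProjectiveOver (FractionRing R) C) :
    ∃ (U : (Spec (CommRingCat.of R)).Opens) (ξ : Spec (CommRingCat.of (FractionRing R)) ⟶ (U : Scheme.{u}))
      (𝒞 : Scheme.{u}) (π : 𝒞 ⟶ (U : Scheme.{u})),
      ξ ≫ U.ι = Neron.genPt R ∧ Smooth π ∧ IsProper π ∧
      Nonempty (Over.mk (pullback.snd π ξ) ≅ C) := by
  obtain ⟨n, i, hi, hiw⟩ := hproj
  let η₀ : Spec (CommRingCat.of (FractionRing R)) ⟶ Spec (CommRingCat.of R) := Neron.genPt R
  haveI : IsPreimmersion η₀ := FlatClosure19.isPreimmersion_gen R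
  haveI : Flat η₀ := FlatClosure19.flat_gen R
  haveI : QuasiCompact η₀ := inferInstance
  let b := CohB1.ProjSpaceOver.toBase n (Spec (CommRingCat.of R))
  let bK := CohB1.ProjSpaceOver.toBase n (Spec (CommRingCat.of (FractionRing R)))
  let q : CohB1.ProjSpaceOver n (Spec (CommRingCat.of (FractionRing R))) ⟶ CohB1.ProjSpaceOver n (Spec (CommRingCat.of R)) :=
    pullback.lift (pullback.fst _ _) (bK ≫ η₀) (specULiftZIsTerminal.hom_ext _ _)
  have hq : IsPullback q bK b η₀ := by
    refine IsPullback.of_right ?_ (pullback.lift_snd _ _ _) (IsPullback.of_hasPullback _ _)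
    rw [pullback.lift_fst, show η₀ ≫ specULiftZIsTerminal.from _ = specULiftZIsTerminal.from _ from
      specULiftZIsTerminal.hom_ext _ _]
    exact IsPullback.of_hasPullback _ _
  haveI : IsPreimmersion q := MorphismProperty.of_isPullback hq.flip inferInstance
  haveI : QuasiCompact q := MorphismProperty.of_isPullback hq.flip inferInstance
  let f : C.left ⟶ CohB1.ProjSpaceOver n (Spec (CommRingCat.of R)) := i ≫ q
  haveI : QuasiCompact f := inferInstanceAs (QuasiCompact (i ≫ q))
  let π₀ := f.imageι ≫ b
  haveI : IsProper b := Groth.Agent.ProjSpace.isProper_toBase _ _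
  haveI : IsProper π₀ := inferInstanceAs (IsProper (f.imageι ≫ b))
  haveI : LocallyOfFinitePresentation π₀ := Groth.Agent.LimH13.locallyOfFinitePresentation_of_noetherian π₀
  haveI := FlatClosure19.isSchemeTheoreticallyDominant_toImage f
  have w : f.toImage ≫ π₀ = C.hom ≫ η₀ := by
    show f.toImage ≫ f.imageι ≫ b = _
    rw [Scheme.Hom.toImage_imageι_assoc, ← hiw, Category.assoc, Category.assoc, hq.w]
  let m : pullback π₀ η₀ ⟶ CohB1.ProjSpaceOver n (Spec (CommRingCat.of (FractionRing R))) :=
    hq.lift (pullback.fst π₀ η₀ ≫ f.imageι) (pullback.snd π₀ η₀) (by rw [Category.assoc]; exact pullback.condition)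
  haveI : IsSeparated m := by
    haveI : IsSeparated (m ≫ bK) := by
      rw [show m ≫ bK = pullback.snd π₀ η₀ from hq.lift_snd _ _ _]
      infer_instance
    exact IsSeparated.of_comp m bK
  let u₀ : C.left ⟶ pullback π₀ η₀ := pullback.lift f.toImage C.hom w
  have hum : u₀ ≫ m = i := by
    apply hq.hom_ext
    · rw [Category.assoc, hq.lift_fst, pullback.lift_fst_assoc, Scheme.Hom.toImage_imageι]
    · rw [Category.assoc, hq.lift_snd, pullback.lift_snd]
      exact hiw.symm
  haveI : IsIso u₀ := by
    haveI : IsClosedImmersion u₀ := by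
      haveI : IsClosedImmersion (u₀ ≫ m) := by rw [hum]; exact hi
      exact IsClosedImmersion.of_comp u₀ m
    haveI : Mono η₀ := inferInstance
    have hsq : IsPullback (𝟙 C.left) u₀ f.toImage (pullback.fst π₀ η₀) := by
      refine ⟨⟨by rw [Category.id_comp, pullback.lift_fst]⟩, ⟨PullbackCone.IsLimit.mk _ (fun s => s.fst)
        (fun s => Category.comp_id _) (fun s => ?_) fun s m h₁ _ => (Category.comp_id m).symm.trans h₁⟩⟩
      rw [← cancel_mono (pullback.fst π₀ η₀), Category.assoc, pullback.lift_fst, ← s.condition]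
    haveI : IsSchemeTheoreticallyDominant u₀ := .of_isPullback hsq
    exact IsClosedImmersion.isIso_iff_ker_eq_bot.2 u₀.ker_eq_bot
  have hsqC : IsPullback f.toImage C.hom π₀ η₀ :=
    IsPullback.of_iso_pullback ⟨w⟩ (asIso u₀) (pullback.lift_fst _ _ _) (pullback.lift_snd _ _ _)
  haveI : Flat f.toImage := MorphismProperty.of_isPullback hsqC.flip ‹Flat η₀›
  haveI : IsPreimmersion f.toImage := MorphismProperty.of_isPullback hsqC.flip ‹IsPreimmersion η₀›
  -- smooth along the generic fibre
  have hsm : ∀ c : C.left, f.toImage c ∈ π₀.smoothLocus := fun c => by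
    haveI := LocImm12.isIso_stalkMap f.toImage c
    haveI := LocImm12.isIso_stalkMap η₀ (C.hom c)
    have hc : (C.hom.stalkMap c).hom.FormallySmooth := by
      have : c ∈ C.hom.smoothLocus := by rw [Scheme.Hom.smoothLocus_eq_top]; trivial
      exact this
    have h1 : ((C.hom ≫ η₀).stalkMap c).hom.FormallySmooth := by
      rw [Scheme.Hom.stalkMap_comp, CommRingCat.hom_comp]
      exact (RingHom.FormallySmooth.respectsIso.2 _ (asIso (η₀.stalkMap (C.hom c))).commRingCatIsoToRingEquiv) hc
    have h2 : (π₀.stalkMap (f.toImage c) ≫ f.toImage.stalkMap c).hom.FormallySmooth := by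
      rw [← Scheme.Hom.stalkMap_comp, Scheme.Hom.stalkMap_congr_hom (f.toImage ≫ π₀) (C.hom ≫ η₀) w c,
        CommRingCat.hom_comp]
      exact RingHom.FormallySmooth.respectsIso.2 _ (TopCat.Presheaf.stalkCongr _ _).commRingCatIsoToRingEquiv h1
    have e : π₀.stalkMap (f.toImage c) = (π₀.stalkMap (f.toImage c) ≫ f.toImage.stalkMap c) ≫ inv (f.toImage.stalkMap c) := by
      simp
    show (π₀.stalkMap (f.toImage c)).hom.FormallySmooth
    rw [e, CommRingCat.hom_comp]
    exact RingHom.FormallySmooth.respectsIso.1 _ (asIso (f.toImage.stalkMap c)).symm.commRingCatIsoToRingEquiv h2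
  let U : (Spec (CommRingCat.of R)).Opens :=
    ⟨(π₀ '' (π₀.smoothLocus : Set f.image)ᶜ)ᶜ, (π₀.isClosedMap _ π₀.smoothLocus.isOpen.isClosed_compl).isOpen_compl⟩
  have hη : Set.range η₀ ⊆ Set.range U.ι := by
    rintro _ ⟨k, rfl⟩
    rw [Scheme.Opens.range_ι]
    rintro ⟨z, hz, hzk⟩
    obtain ⟨c, hc, -⟩ := Scheme.exists_preimage_of_isPullback hsqC z k hzk
    exact hz (hc ▸ hsm c)
  have hle : π₀ ⁻¹ᵁ U ≤ π₀.smoothLocus := fun z hz => by
    by_contra h
    exact hz ⟨z, h, rfl⟩
  haveI : Smooth ((π₀ ⁻¹ᵁ U).ι ≫ π₀) := by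
    rw [← Scheme.Hom.smoothLocus_eq_top_iff, ← Scheme.Hom.preimage_smoothLocus_eq, eq_top_iff]
    exact fun z _ => hle z.2
  haveI : Smooth ((π₀ ∣_ U) ≫ U.ι) := by rw [morphismRestrict_ι]; infer_instance
  refine ⟨U, IsOpenImmersion.lift U.ι η₀ hη, (π₀ ⁻¹ᵁ U).toScheme, π₀ ∣_ U, IsOpenImmersion.lift_fac _ _ _,
    MorphismProperty.of_postcomp (W := @Smooth) (W' := @IsOpenImmersion) _ U.ι inferInstance inferInstance,
    inferInstance, ?_⟩
  have hp := ((IsPullback.of_hasPullback (π₀ ∣_ U) (IsOpenImmersion.lift U.ι η₀ hη)).paste_horiz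
    (isPullback_morphismRestrict π₀ U).flip)
  rw [IsOpenImmersion.lift_fac] at hp
  exact ⟨Over.isoMk (hp.isoIsPullback _ _ hsqC) (hp.isoIsPullback_hom_snd _ _ hsqC)⟩

end Groth.Agent.S3259
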