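import Groth.Statements.S3286
import Groth.Agent.Lib.Lambda.Split

set_option autoImplicit false
universe u
open Finset
open LambdaRing

namespace Groth.Agent.S3286

/-- In a λ-ring with positive structure having the splitting property, ψ^i (ψ^j (x)) = ψ^(i j) (x) for
all i, j and x. -/
theorem result (K : Type u) [CommRing K] [LambdaRing.LambdaOps K] (P : LambdaRing.PosStructure K) (hK : LambdaRing.HasSplitting K P) (i j : ℕ) (x : K) :
    LambdaRing.adams P i (LambdaRing.adams P j x) = LambdaRing.adams P (i * j) x := by
  exact Groth.Agent.Lambda.adams_adams hK i j x

end Groth.Agent.S3286
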