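import Groth.Statements.S3287
import Groth.Agent.Lib.Lambda.Positive

set_option autoImplicit false
universe u
open Finset
open LambdaRing

namespace Groth.Agent.S3287

/-- For a line element u (positive of augmentation one) of a λ-ring with positive structure, ψ^j(u) =
u^j for every j. -/
theorem result (K : Type u) [CommRing K] [LambdaRing.LambdaOps K] (P : LambdaRing.PosStructure K) (u : K) (hu : P.IsLine u) (j : ℕ) :
    LambdaRing.adams P j u = u ^ j := by
  exact Groth.Agent.Lambda.adams_of_isLine P hu j

end Groth.Agent.S3287
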