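import Groth.Statements.S3289
import Groth.Agent.Lib.Lambda.Series

set_option autoImplicit false
universe u
open Finset
open LambdaRing

namespace Groth.Agent.S3289

/-- The γ-operations of a λ-ring, γ^0 = 1 and γ^k(x) = Σ_{j=1}^{k} C(k−1, j−1) λ^j(x) for k ≥ 1 (the
coefficients of λ_(t/(1−t))(x)), satisfy γ^k(x + y) = Σ_{i=0}^{k} γ^i(x) γ^(k−i)(y). -/
theorem result (K : Type u) [CommRing K] [LambdaRing.LambdaOps K] (k : ℕ) (x y : K) :
    LambdaRing.gamma k (x + y) = ∑ i ∈ range (k + 1), LambdaRing.gamma i x * LambdaRing.gamma (k - i) y := by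
  exact Groth.Agent.Lambda.gamma_add k x y

end Groth.Agent.S3289
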