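import Groth.Statements.S3290
import Groth.Agent.Lib.Lambda.Positive

set_option autoImplicit false
universe u
open Finset
open LambdaRing

namespace Groth.Agent.S3290

/-- For a positive element e of augmentation m in a λ-ring with positive structure, the polynomials
Σ_{i=0}^{m} γ^i(e − m) t^(m−i) and Σ_{i=0}^{m} λ^i(e) (t − 1)^(m−i) are equal. -/
theorem result (K : Type u) [CommRing K] [LambdaRing.LambdaOps K] (P : LambdaRing.PosStructure K) (e : K) (he : e ∈ P.pos) :
    (∑ i ∈ range ((P.aug e).toNat + 1),
        Polynomial.C (LambdaRing.gamma i (e - ((P.aug e).toNat : K))) * Polynomial.X ^ ((P.aug e).toNat - i)) =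
      ∑ i ∈ range ((P.aug e).toNat + 1),
        Polynomial.C (LambdaRing.LambdaOps.lam i e) * (Polynomial.X - 1) ^ ((P.aug e).toNat - i) := by
  set m := (P.aug e).toNat
  refine Polynomial.ext fun j => ?_
  rw [Polynomial.finsetSum_coeff, Polynomial.finsetSum_coeff]
  simp only [Polynomial.coeff_C_mul, Polynomial.coeff_X_pow]
  rcases Nat.lt_or_ge m j with hj | hj
  · rw [Finset.sum_eq_zero (fun i hi => by rw [if_neg (by omega), mul_zero]),
      Finset.sum_eq_zero (fun i hi => ?_)]
    rw [show (Polynomial.X - 1 : Polynomial K) = Polynomial.X + Polynomial.C (-1) by simp [sub_eq_add_neg],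
      Polynomial.coeff_X_add_C_pow, Nat.choose_eq_zero_of_lt (by omega)]
    simp
  rw [Finset.sum_eq_single (m - j) (fun i hi hne => by
      rw [Finset.mem_range] at hi; rw [if_neg (by omega), mul_zero])
    (fun h => absurd (Finset.mem_range.2 (by omega)) h), if_pos (by omega), mul_one,
    Groth.Agent.Lambda.gamma_pos_sub_nat P he]
  refine Finset.sum_congr rfl fun i hi => ?_
  rw [Finset.mem_range] at hi
  rw [show (Polynomial.X - 1 : Polynomial K) = Polynomial.X + Polynomial.C (-1) by simp [sub_eq_add_neg],
    Polynomial.coeff_X_add_C_pow]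
  split_ifs with h
  · rw [show m - j - i = m - i - j by omega, Nat.choose_symm (show j ≤ m - i by omega)]
  · rw [Nat.choose_eq_zero_of_lt (show m - i < j by omega)]
    simp

end Groth.Agent.S3290
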