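import Groth.Statements.S3316
import Groth.Agent.Lib.ArInter.Model

set_option autoImplicit false
universe u
open CategoryTheory CategoryTheory.Limits AlgebraicGeometry
open Models

namespace Groth.Agent.S3316

/-- Let R be a discrete valuation ring with fraction field K and residue field k, C a smooth proper
curve over K with H^0(C, O_C) = K, X a regular proper model of C, Γ_1, …, Γ_n the irreducible
components of the closed fibre and L_j an invertible module with L_j ⊗ I(Γ_j) ≅ O_X. Then for all i,
j the degree over k of L_j restricted to Γ_i equals the degree over k of L_i restricted to Γ_j: the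
intersection number (Γ_i · Γ_j) is symmetric. -/
theorem result (R : Type u) [CommRing R] [IsDomain R] [IsDiscreteValuationRing R]
    (C X : Scheme.{u}) (f : C ⟶ Spec (CommRingCat.of (FractionRing R))) (p : X ⟶ Spec (CommRingCat.of R))
    (hC : Curve.IsSmoothProperCurve (FractionRing R) C f) (hH0 : IsIso f.appTop)
    (hX : Models.IsRegularProperModel R X p C f)
    {n : ℕ} (Γ : Fin n → ArSurf.VertComp R (Over.mk p)) (hΓ : Models.IsComponentList R (Over.mk p) Γ)
    (L : Fin n → X.Modules) (hL : ∀ i, ClSub.IsInverseOf (L i) (ClSub.idealMod (Γ i).ι.ker)) (i j : Fin n) :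
    ArSurf.inter R (Over.mk p) (L j) (Γ i) = ArSurf.inter R (Over.mk p) (L i) (Γ j) := by
  have hS := Groth.Agent.ArInter.isSurf_of_model hC hX
  exact Groth.Agent.ArInter.inter_symm hS hΓ.1 hL j i

end Groth.Agent.S3316
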