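import Groth.Statements.S3323
import Groth.Agent.Lib.ArInter.Chain
import Groth.Agent.S3320
import Groth.Agent.Lib.TensorMod.Dual
-- import your own Groth.Agent.* helpers here

set_option autoImplicit false
universe u
open CategoryTheory CategoryTheory.Limits AlgebraicGeometry
open Models

namespace Groth.Agent.S3323

open Groth.Agent in
theorem exists_chain (R : Type u) [CommRing R] [IsDomain R] [IsDiscreteValuationRing R]
    (C X : Scheme.{u}) (f : C ⟶ Spec (CommRingCat.of (FractionRing R))) (p : X ⟶ Spec (CommRingCat.of R))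
    (hC : Curve.IsSmoothProperCurve (FractionRing R) C f) (hH0 : IsIso f.appTop)
    (hX : Models.IsRegularProperModel R X p C f)
    {n : ℕ} (Γ : Fin n → ArSurf.VertComp R (Over.mk p)) (hΓ : Models.IsComponentList R (Over.mk p) Γ) :
    ∃ (L : Fin n → X.Modules) (D : Fin n → ℕ) (i₀ : Fin n),
      (∀ i, Models.mult R (Over.mk p) (Γ i) = Models.multGcd R (Over.mk p) Γ * D i) ∧
      (D = fun i => Models.mult R (Over.mk p) (Γ i) / Models.multGcd R (Over.mk p) Γ) ∧
      (∀ i, ClSub.IsInverseOf (L i) (ClSub.idealMod (Γ i).ι.ker)) ∧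
      ArInter.Reach Γ L (Pi.single i₀ 1) 1 ∧ ArInter.Reach Γ L 1 D := by
  classical
  have hS := ArInter.isSurf_of_model hC hX
  have hE := fun i => ArInter.isEffCartierIdeal_component hS.pre hX.2.2 hΓ i
  let L : Fin n → X.Modules := fun i => M2.dualMod (ClSub.idealMod (Γ i).ι.ker)
  have hL : ∀ i, ClSub.IsInverseOf (L i) (ClSub.idealMod (Γ i).ι.ker) :=
    fun i => ⟨M2.dualTensorIso (M2.isInvertible_idealMod _ (hE i))⟩
  have hconn0 := ArInter.isConnected_specialFibreSet hC hH0 hX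
  have hU : (⋃ i, Set.range (Γ i).ι.base) = Models.specialFibreSet R (Over.mk p) := by
    refine Set.Subset.antisymm (Set.iUnion_subset fun i => ?_) fun x hx =>
      Set.mem_iUnion.mpr (ArInter.cover_of_isComponentList hΓ x hx)
    exact ((hΓ.2.le ⟨i, rfl⟩ : Set.range (Γ i).ι.base ∈ Models.fibreComponents R (Over.mk p))).1.2
  have hconn : _root_.IsConnected (⋃ i, Set.range (Γ i).ι.base) := hU ▸ hconn0
  obtain ⟨x, hx⟩ := hconn0.nonempty
  obtain ⟨i₀, -⟩ := ArInter.cover_of_isComponentList hΓ x hx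
  let d := Models.multGcd R (Over.mk p) Γ
  let m := fun i => Models.mult R (Over.mk p) (Γ i)
  obtain ⟨w, Q, hwpos, -, -, hsum, -, hc⟩ := ArInter.exists_weights hS hΓ.1 hL
  obtain ⟨rfl, hm⟩ := hc (ArInter.cover_of_isComponentList hΓ)
  have hmpos : ∀ i, 0 < m i := fun i => (hwpos i).trans_eq (hm i).symm
  have hker : ∀ Δ, ∑ j, (m j : ℤ) * ArSurf.inter R (Over.mk p) (L j) Δ = 0 := fun Δ => by
    simp only [m, hm]
    exact (hsum Δ).trans (ArInter.ideg_top hS Δ)
  have hdiv : ∀ i, d ∣ m i := fun i => Finset.gcd_dvd (Finset.mem_univ i)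
  have hd : 0 < d := Nat.pos_of_dvd_of_pos (hdiv i₀) (hmpos i₀)
  let D : Fin n → ℕ := fun i => m i / d
  have hmD : ∀ i, m i = d * D i := fun i => (Nat.mul_div_cancel' (hdiv i)).symm
  refine ⟨L, D, i₀, hmD, rfl, hL, ArInter.reach_one hS hΓ.1 hL hconn i₀, ?_⟩
  have hkerD : ∀ i, ArInter.dot Γ L D i = 0 := fun i => by
    have h := hker (Γ i)
    simp only [hmD, Nat.cast_mul, mul_assoc, ← Finset.mul_sum] at h
    exact (mul_eq_zero.mp h).resolve_left (by exact_mod_cast hd.ne')
  obtain ⟨a, hr, ha1, haD, hfin⟩ := ArInter.exists_reach Γ L (a₀ := 1) (z := D)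
    (fun i => Nat.div_pos (Nat.le_of_dvd (hmpos i) (hdiv i)) hd)
    (fun a => ∀ i, ArInter.dot Γ L a i ≤ 0) fun a _ haz hnd => by
      obtain ⟨i, hi⟩ := not_forall.mp hnd
      refine ⟨i, not_le.mp hi, lt_of_le_of_ne (haz i) fun he => hi ?_⟩
      exact (ArInter.dot_le_of_le Γ L haz he fun j hj =>
        (ArInter.inter_offDiag_nonneg hS hΓ.1 hL (Ne.symm hj)).1).trans (hkerD i).le
  suffices a = D by exact this ▸ hr
  -- all intersection numbers of `a` vanish
  have htot : ∑ i, (m i : ℤ) * ArInter.dot Γ L a i = 0 := by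
    simp only [ArInter.dot, Finset.mul_sum]
    rw [Finset.sum_comm]
    refine Finset.sum_eq_zero fun j _ => ?_
    calc ∑ i, (m i : ℤ) * ((a j : ℤ) * ArSurf.inter R (Over.mk p) (L j) (Γ i))
        = (a j : ℤ) * ∑ i, (m i : ℤ) * ArSurf.inter R (Over.mk p) (L i) (Γ j) := by
          rw [Finset.mul_sum]
          exact Finset.sum_congr rfl fun i _ => by rw [ArInter.inter_symm hS hΓ.1 hL i j]; ring
      _ = 0 := by rw [hker, mul_zero]
  have hzero : ∀ i, ArInter.dot Γ L a i = 0 := fun i => by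
    have h := (Finset.sum_eq_zero_iff_of_nonpos (fun j _ => mul_nonpos_of_nonneg_of_nonpos
      (Int.natCast_nonneg _) (hfin j))).mp htot i (Finset.mem_univ i)
    exact (mul_eq_zero.mp h).resolve_left (by exact_mod_cast (hmpos i).ne')
  obtain ⟨c, hcc⟩ := (Groth.Agent.S3320.result R C X f p hC hH0 hX Γ hΓ L hL (fun i => (a i : ℤ))).2.mp (by
    rw [Fintype.sum_prod_type]
    refine Finset.sum_eq_zero fun i _ => ?_
    simp only [mul_assoc, ← Finset.mul_sum]
    exact mul_eq_zero.mpr (Or.inr (hzero i)))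
  obtain ⟨g, hg⟩ := Finset.gcd_eq_sum_mul (R := ℤ) Finset.univ fun i => (D i : ℤ)
  have hgD : Finset.univ.gcd (fun i => (D i : ℤ)) = 1 := by
    have h1 : Finset.univ.gcd D = 1 :=
      Finset.gcd_div_eq_one (f := m) (Finset.mem_univ i₀) (hmpos i₀).ne'
    have hnn : 0 ≤ Finset.univ.gcd fun i => (D i : ℤ) := Int.nonneg_of_normalize_eq_self Finset.normalize_gcd
    have h2 : ∀ i, (Finset.univ.gcd fun i => (D i : ℤ)).natAbs ∣ D i := fun i =>
      Int.natCast_dvd_natCast.mp ((Int.natAbs_dvd.mpr (Finset.gcd_dvd (Finset.mem_univ i))))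
    have h3 : (Finset.univ.gcd fun i => (D i : ℤ)).natAbs ∣ 1 := h1 ▸ Finset.dvd_gcd fun i _ => h2 i
    have h4 := Nat.dvd_one.mp h3
    omega
  rw [hgD] at hg
  have hk : c * d = ((∑ i, (a i : ℤ) * g i : ℤ) : ℚ) := by
    push_cast
    have : ∀ i, (a i : ℚ) * (g i : ℚ) = c * d * ((D i : ℚ) * g i) := fun i => by
      have h := hcc i
      rw [show (Models.mult R (Over.mk p) (Γ i) : ℚ) = (d : ℚ) * D i by exact_mod_cast hmD i] at h
      push_cast at h
      rw [h]; ring
    rw [Finset.sum_congr rfl fun i _ => this i, ← Finset.mul_sum]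
    have hg' : (∑ i, (D i : ℚ) * g i) = 1 := by exact_mod_cast hg.symm
    rw [hg', mul_one]
  have hak : ∀ i, (a i : ℤ) = (∑ j, (a j : ℤ) * g j) * D i := fun i => by
    have h := hcc i
    rw [show (Models.mult R (Over.mk p) (Γ i) : ℚ) = (d : ℚ) * D i by exact_mod_cast hmD i, ← mul_assoc, hk] at h
    exact_mod_cast h
  have h1 : (∑ j, (a j : ℤ) * g j) = 1 := by
    have hl := ha1 i₀
    have hu := haD i₀
    have hDpos : 1 ≤ D i₀ := Nat.div_pos (Nat.le_of_dvd (hmpos i₀) (hdiv i₀)) hd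
    have h := hak i₀
    have hl' : (1 : ℤ) ≤ a i₀ := by exact_mod_cast (show 1 ≤ a i₀ from hl)
    have hu' : (a i₀ : ℤ) ≤ D i₀ := by exact_mod_cast hu
    nlinarith
  funext i
  have := hak i
  rw [h1, one_mul] at this
  exact_mod_cast this


/-- In the following situation (R a discrete valuation ring with residue field k, C a smooth proper
curve over its fraction field K with H^0(C, O_C) = K, X a regular proper model, Γ_1, …, Γ_n the
irreducible components of the closed fibre with multiplicities m_i) let d = gcd(m_1, …, m_n) and let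
D be the effective Cartier divisor Σ (m_i/d) Γ_i. Then there is a chain of effective Cartier
divisors Σ Γ_i = Z_0 ⊂ Z_1 ⊂ ⋯ ⊂ Z_s = D, each obtained from the previous one by adding a single
Γ_i, such that for every j the ring H^0(Z_j, O_{Z_j}) is a field, finite over R (equivalently over
k). Divisors are written through their ideal sheaves Π I(Γ_i)^{a_i}. -/
theorem result (R : Type u) [CommRing R] [IsDomain R] [IsDiscreteValuationRing R]
    (C X : Scheme.{u}) (f : C ⟶ Spec (CommRingCat.of (FractionRing R))) (p : X ⟶ Spec (CommRingCat.of R))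
    (hC : Curve.IsSmoothProperCurve (FractionRing R) C f) (hH0 : IsIso f.appTop)
    (hX : Models.IsRegularProperModel R X p C f)
    {n : ℕ} (Γ : Fin n → ArSurf.VertComp R (Over.mk p)) (hΓ : Models.IsComponentList R (Over.mk p) Γ) :
    ∃ (s : ℕ) (a : Fin (s + 1) → Fin n → ℕ), (a 0 = fun _ => 1) ∧
      (a (Fin.last s) = fun i => Models.mult R (Over.mk p) (Γ i) / Models.multGcd R (Over.mk p) Γ) ∧
      (∀ j : Fin s, ∃ i, a j.succ = a j.castSucc + Pi.single i 1) ∧
      ∀ j, IsField ↑(Γ((∏ i, (Γ i).ι.ker ^ a j i).subscheme, ⊤)) ∧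
        (((∏ i, (Γ i).ι.ker ^ a j i).subschemeι ≫ p).appTop.hom.comp
          (Scheme.ΓSpecIso (CommRingCat.of R)).inv.hom).Finite := by
  classical
  obtain ⟨L, D, i₀, -, hD, hL, hr₀, hr⟩ := exists_chain R C X f p hC hH0 hX Γ hΓ
  have hS := Groth.Agent.ArInter.isSurf_of_model hC hX
  obtain ⟨s, c, h0, hl, hs, hreach⟩ := hr.exists_seq
  refine ⟨s, c, h0, hl.trans hD, hs, fun j => ⟨?_, ?_⟩⟩
  · exact (hr₀.trans (hreach j)).isFieldDiv Γ L hS hL (Groth.Agent.ArInter.isFieldDiv_single Γ hS i₀)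
  · exact Groth.Agent.ArInter.finite_toGlobal_of_finLen (X := Over.mk p)
      (Groth.Agent.ArInter.finLen_finsetProd hS Γ (fun i => Groth.Agent.ArInter.isEffCartierIdeal_ker (hL i)) (c j) Finset.univ).2

end Groth.Agent.S3323
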