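import Groth.Statements.S3324
import Groth.Agent.S3323
import Groth.Agent.S3321
-- import your own Groth.Agent.* helpers here

set_option autoImplicit false
universe u
open CategoryTheory CategoryTheory.Limits AlgebraicGeometry
open Models

namespace Groth.Agent.S3324

/-- In the following situation (R a discrete valuation ring with residue field k, C a smooth proper
curve over its fraction field K with H^0(C, O_C) = K, X a regular proper model, Γ_1, …, Γ_n the
irreducible components of the closed fibre with multiplicities m_i) let d = gcd(m_1, …, m_n) and let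
D be the closed subscheme Σ (m_i/d) Γ_i, with ideal sheaf Π I(Γ_i)^{m_i/d}. Then κ = H^0(D, O_D) is
a field and 1 - g_C = d [κ : k] (1 - g_D), where g_C = dim_K H^1(C, O_C) and g_D = dim_κ H^1(D,
O_D). Here the right hand side is written as d (dim_k H^0(D, O_D) - dim_k H^1(D, O_D)), the
k-dimensions being computed as R-lengths of the cohomology groups of O_D on X. -/
theorem result (R : Type u) [CommRing R] [IsDomain R] [IsDiscreteValuationRing R]
    (C X : Scheme.{u}) (f : C ⟶ Spec (CommRingCat.of (FractionRing R))) (p : X ⟶ Spec (CommRingCat.of R))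
    (hC : Curve.IsSmoothProperCurve (FractionRing R) C f) (hH0 : IsIso f.appTop)
    (hX : Models.IsRegularProperModel R X p C f)
    {n : ℕ} (Γ : Fin n → ArSurf.VertComp R (Over.mk p)) (hΓ : Models.IsComponentList R (Over.mk p) Γ) :
    IsField ↑(Γ((∏ i, (Γ i).ι.ker ^ (Models.mult R (Over.mk p) (Γ i) / Models.multGcd R (Over.mk p) Γ)).subscheme, ⊤)) ∧
      (1 : ℤ) - (Models.curveGenus (FractionRing R) C f : ℤ) =
        (Models.multGcd R (Over.mk p) Γ : ℤ) * ((Models.lengthH R (Over.mk p) (ClSub.quotMod (∏ i, (Γ i).ι.ker ^ (Models.mult R (Over.mk p) (Γ i) / Models.multGcd R (Over.mk p) Γ))) 0 : ℤ) -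
          (Models.lengthH R (Over.mk p) (ClSub.quotMod (∏ i, (Γ i).ι.ker ^ (Models.mult R (Over.mk p) (Γ i) / Models.multGcd R (Over.mk p) Γ))) 1 : ℤ)) := by
  classical
  obtain ⟨L, D, i₀, hmD, hD, hL, hr₀, hr⟩ := Groth.Agent.S3323.exists_chain R C X f p hC hH0 hX Γ hΓ
  have hS := Groth.Agent.ArInter.isSurf_of_model hC hX
  rw [show (∏ i, (Γ i).ι.ker ^ (Models.mult R (Over.mk p) (Γ i) / Models.multGcd R (Over.mk p) Γ)) =
    ∏ i, (Γ i).ι.ker ^ D i from Finset.prod_congr rfl fun i _ => by rw [congrFun hD i]]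
  refine ⟨(hr₀.trans hr).isFieldDiv Γ L hS hL (Groth.Agent.ArInter.isFieldDiv_single Γ hS i₀), ?_⟩
  change _ = (Models.multGcd R (Over.mk p) Γ : ℤ) *
    Groth.Agent.ArInter.chiLen R (ClSub.quotMod (∏ i, (Γ i).ι.ker ^ D i))
  have hg := Groth.Agent.S3321.result R C X f p hC hH0 hX Γ hΓ L hL
  have hrr := Groth.Agent.ArInter.two_mul_chiLen hS Γ hΓ.1 L hL D
  obtain ⟨w, Q, -, -, -, hsum, -, hc⟩ := Groth.Agent.ArInter.exists_weights hS hΓ.1 hL
  obtain ⟨rfl, hm⟩ := hc (Groth.Agent.ArInter.cover_of_isComponentList hΓ)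
  have hz : ((Models.multGcd R (Over.mk p) Γ : ℤ)) *
      (∑ q, ∑ r, (D q : ℤ) * D r * ArSurf.inter R (Over.mk p) (L r) (Γ q)) = 0 := by
    rw [Finset.mul_sum]
    refine Finset.sum_eq_zero fun q _ => ?_
    rw [Finset.mul_sum]
    refine Eq.trans ?_ (show (D q : ℤ) * (∑ r, (w r : ℤ) * ArSurf.inter R (Over.mk p) (L r) (Γ q)) = 0 by
      rw [hsum, Groth.Agent.ArInter.ideg_top hS, mul_zero])
    rw [Finset.mul_sum]
    refine Finset.sum_congr rfl fun r _ => ?_
    rw [← hm r, hmD r]
    push_cast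
    ring
  have hg' : 2 * (Models.curveGenus (FractionRing R) C f : ℤ) = 2 - (Models.multGcd R (Over.mk p) Γ : ℤ) *
      ∑ i, (D i : ℤ) * (ArSurf.inter R (Over.mk p) (L i) (Γ i) +
        2 * ((Models.wdeg R (Over.mk p) (Γ i) : ℤ) - (Models.h1 R (Over.mk p) (Γ i) : ℤ))) := by
    rw [hg, Finset.mul_sum, sub_eq_add_neg (2 : ℤ), ← Finset.sum_neg_distrib]
    congr 1
    refine Finset.sum_congr rfl fun i _ => ?_
    rw [hmD i]
    push_cast
    ring
  have h2 := congrArg ((Models.multGcd R (Over.mk p) Γ : ℤ) * ·) hrr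
  rw [mul_add (Models.multGcd R (Over.mk p) Γ : ℤ), mul_neg, hz, neg_zero, zero_add, mul_left_comm] at h2
  linarith

end Groth.Agent.S3324
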