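import Groth.Statements.S3325
import Groth.Agent.Lib.ArInter.Euler
import Groth.Agent.Lib.ArInter.Model
-- import your own Groth.Agent.* helpers here

set_option autoImplicit false
universe u
open CategoryTheory CategoryTheory.Limits AlgebraicGeometry
open Models

namespace Groth.Agent.S3325

/-- In the following situation (R a discrete valuation ring with residue field k, C a smooth proper
curve over its fraction field K with H^0(C, O_C) = K, X a regular proper model, Γ_1, …, Γ_n the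
irreducible components of the closed fibre with multiplicities m_i, L_j ⊗ I(Γ_j) ≅ O_X) let D = Σ
a_j Γ_j and D' = D + Γ_i be effective Cartier divisors with D' contained in the closed fibre (a_j +
δ_ij ≤ m_j). Then χ(O_{D'}) - χ(O_D) = -(D · Γ_i) + χ(Γ_i, O_{Γ_i}), where (D · Γ_i) = Σ_j a_j
deg_k(L_i|Γ_j), χ(Γ_i, O_{Γ_i}) = dim_k H^0(Γ_i, O) - dim_k H^1(Γ_i, O), and the Euler
characteristics of O_D, O_{D'} are dim_k H^0 - dim_k H^1 computed as R-lengths of the cohomology on
X. -/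
theorem result (R : Type u) [CommRing R] [IsDomain R] [IsDiscreteValuationRing R]
    (C X : Scheme.{u}) (f : C ⟶ Spec (CommRingCat.of (FractionRing R))) (p : X ⟶ Spec (CommRingCat.of R))
    (hC : Curve.IsSmoothProperCurve (FractionRing R) C f) (hH0 : IsIso f.appTop)
    (hX : Models.IsRegularProperModel R X p C f)
    {n : ℕ} (Γ : Fin n → ArSurf.VertComp R (Over.mk p)) (hΓ : Models.IsComponentList R (Over.mk p) Γ)
    (L : Fin n → X.Modules) (hL : ∀ i, ClSub.IsInverseOf (L i) (ClSub.idealMod (Γ i).ι.ker)) (a : Fin n → ℕ) (i : Fin n) (ha : ∀ j, a j + (if j = i then 1 else 0) ≤ Models.mult R (Over.mk p) (Γ j)) :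
    ((Models.lengthH R (Over.mk p) (ClSub.quotMod (∏ j, (Γ j).ι.ker ^ (a j + if j = i then 1 else 0))) 0 : ℤ) -
          (Models.lengthH R (Over.mk p) (ClSub.quotMod (∏ j, (Γ j).ι.ker ^ (a j + if j = i then 1 else 0))) 1 : ℤ)) -
        ((Models.lengthH R (Over.mk p) (ClSub.quotMod (∏ j, (Γ j).ι.ker ^ a j)) 0 : ℤ) -
          (Models.lengthH R (Over.mk p) (ClSub.quotMod (∏ j, (Γ j).ι.ker ^ a j)) 1 : ℤ)) =
      -(∑ j, (a j : ℤ) * ArSurf.inter R (Over.mk p) (L i) (Γ j)) +
        ((Models.wdeg R (Over.mk p) (Γ i) : ℤ) - (Models.h1 R (Over.mk p) (Γ i) : ℤ)) := by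
  classical
  have hS := Groth.Agent.ArInter.isSurf_of_model hC hX
  have hE := fun j => Groth.Agent.ArInter.isEffCartierIdeal_ker (X := Over.mk p) (hL j)
  have hJ := Groth.Agent.ArInter.finLen_finsetProd hS Γ hE a Finset.univ
  have hprod : (∏ j, (Γ j).ι.ker ^ (a j + if j = i then 1 else 0)) = (Γ i).ι.ker * ∏ j, (Γ j).ι.ker ^ a j := by
    have : ∀ j, (Γ j).ι.ker ^ (a j + if j = i then 1 else 0) =
        (if j = i then (Γ j).ι.ker else 1) * (Γ j).ι.ker ^ a j := fun j => by
      split_ifs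
      · exact pow_succ' _ _
      · rw [one_mul, add_zero]
    rw [Finset.prod_congr rfl fun j _ => this j, Finset.prod_mul_distrib, Finset.prod_ite_eq', if_pos (Finset.mem_univ i)]
  obtain ⟨-, hchi⟩ := Groth.Agent.ArInter.chiLen_mul_component hS (Γ i) (hE i) hJ.1 hJ.2
  have hi : Groth.Agent.ArInter.ideg (Γ i) (∏ j, (Γ j).ι.ker ^ a j) =
      -(∑ j, (a j : ℤ) * ArSurf.inter R (Over.mk p) (L i) (Γ j)) := by
    rw [Groth.Agent.ArInter.ideg_finsetProd hS (Γ i) (fun j => (Γ j).ι.ker) a hE, ← Finset.sum_neg_distrib]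
    refine Finset.sum_congr rfl fun j _ => ?_
    rw [← Groth.Agent.ArInter.inter_symm hS hΓ.1 hL j i,
      Groth.Agent.ArInter.inter_eq_neg_ideg hS (Γ i) (hE j) (hL j)]
    ring
  rw [hprod]
  change Groth.Agent.ArInter.chiLen R (ClSub.quotMod ((Γ i).ι.ker * ∏ j, (Γ j).ι.ker ^ a j)) -
    Groth.Agent.ArInter.chiLen R (ClSub.quotMod (∏ j, (Γ j).ι.ker ^ a j)) = _
  rw [hchi, hi]
  ring

end Groth.Agent.S3325
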