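import Groth.Statements.S3334
import Groth.Agent.Lib.SepPt18.Conic

set_option autoImplicit false
universe u
open CategoryTheory CategoryTheory.Limits AlgebraicGeometry
open Models

namespace Groth.Agent.S3334

/-- Let R be a discrete valuation ring with fraction field K and C a smooth proper curve over K with
H^0(C, O_C) = K and genus dim_K H^1(C, O_C) = 0. Then there is a finite separable field extension K
→ K' of degree at most 2 such that C_{K'} is K'-isomorphic to the projective line over K' (so that
C_{K'} is the generic fibre of the projective line over the integral closure of R in K'). The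
printed statement says degree 2; the argument produces an extension of degree at most 2, which is
what is asserted here. -/
theorem result (R : Type u) [CommRing R] [IsDomain R] [IsDiscreteValuationRing R]
    (C : Scheme.{u}) (f : C ⟶ Spec (CommRingCat.of (FractionRing R)))
    (hC : Curve.IsSmoothProperCurve (FractionRing R) C f) (hH0 : IsIso f.appTop)
    (hg : Models.curveGenus (FractionRing R) C f = 0) :
    ∃ (K' : Type u) (_ : Field K') (ψ : FractionRing R →+* K'),
      Models.IsFiniteSeparable ψ ∧ Models.homDegree ψ ≤ 2 ∧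
      ∃ e : (pullback f (Spec.map (CommRingCat.ofHom ψ))) ≅ CohB1.ProjSpace 1 K',
        e.hom ≫ CohB1.ProjSpace.toSpec 1 K' = (pullback.snd f (Spec.map (CommRingCat.ofHom ψ))) := by
  obtain ⟨hpr, hsm, hint, hdim⟩ := hC
  letI : C.Over (Spec (CommRingCat.of (FractionRing R))) := ⟨f⟩
  haveI : IsIntegral C := hint
  haveI : IsProper (C ↘ Spec (CommRingCat.of (FractionRing R))) := hpr
  haveI : Smooth (C ↘ Spec (CommRingCat.of (FractionRing R))) := hsm
  have h0 : Module.finrank (FractionRing R) (Coh.HH C (Coh.structureModule C) 0) = 1 := by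
    let K := FractionRing R
    let x₀ : Coh.HH C (Coh.structureModule C) 0 :=
      (Groth.Agent.CurveCoh17.hh0 (Coh.structureModule C)).symm (1 : Γ(C, ⊤))
    have hψ : Function.Bijective (Coh.toGlobal f : K →+* Γ(C, ⊤)) :=
      (ConcreteCategory.bijective_of_isIso f.appTop).comp
        (ConcreteCategory.bijective_of_isIso (Scheme.ΓSpecIso (CommRingCat.of K)).inv)
    have hval : ∀ c : K, Groth.Agent.CurveCoh17.hh0 (Coh.structureModule C) (LinearMap.toSpanSingleton K _ x₀ c) =
        (Coh.toGlobal f c : Γ(C, ⊤)) := fun c => by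
      show Groth.Agent.CurveCoh17.hh0 (Coh.structureModule C) (Coh.toGlobal f c • x₀) = _
      refine (Groth.Agent.CurveCoh17.hh0_smul (M := Coh.structureModule C) _ x₀).trans ?_
      have hx : Groth.Agent.CurveCoh17.hh0 (Coh.structureModule C) x₀ = (1 : Γ(C, ⊤)) :=
        (Groth.Agent.CurveCoh17.hh0 (Coh.structureModule C)).apply_symm_apply _
      exact (congrArg _ hx).trans (mul_one (Coh.toGlobal f c : Γ(C, ⊤)))
    have hb : Function.Bijective (LinearMap.toSpanSingleton K _ x₀) := by
      refine ⟨fun c d h => hψ.1 ?_, fun z => ?_⟩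
      · rw [← hval, ← hval, h]
      · obtain ⟨c, hc⟩ := hψ.2 (Groth.Agent.CurveCoh17.hh0 (Coh.structureModule C) z)
        exact ⟨c, (Groth.Agent.CurveCoh17.hh0 (Coh.structureModule C)).injective ((hval c).trans hc)⟩
    rw [← (LinearEquiv.ofBijective _ hb).finrank_eq, Module.finrank_self]
  obtain ⟨L, iF, iA, hfd, hsep, hle, e, he⟩ :=
    SepPt18.exists_split (k := FractionRing R) (X := C) hdim h0 hg
  refine ⟨L, iF, algebraMap (FractionRing R) L, ?_, ?_, e, he⟩
  · show @FiniteDimensional _ L _ _ (algebraMap (FractionRing R) L).toAlgebra.toModule ∧ _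
    rw [show (algebraMap (FractionRing R) L).toAlgebra = iA from Algebra.algebra_ext _ _ fun _ => rfl]
    exact ⟨hfd, hsep⟩
  · show @Module.finrank _ L _ _ (algebraMap (FractionRing R) L).toAlgebra.toModule ≤ 2
    rw [show (algebraMap (FractionRing R) L).toAlgebra = iA from Algebra.algebra_ext _ _ fun _ => rfl]
    exact hle

end Groth.Agent.S3334
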