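import Groth.Statements.S3337
import Groth.Agent.Lib.MinGenus0_32.Descend
import Groth.Agent.Lib.FlatH4.SmoothFibres
import Groth.Agent.S3338

set_option autoImplicit false
universe u
open CategoryTheory CategoryTheory.Limits AlgebraicGeometry
open Models

namespace Groth.Agent.S3337

/-- Let R be a discrete valuation ring with fraction field K and C a smooth proper curve over K with
H^0(C, O_C) = K. If C has a proper smooth model over R (good reduction), then every minimal model of
C is smooth over R. -/
theorem result (R : Type u) [CommRing R] [IsDomain R] [IsDiscreteValuationRing R]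
    (C X : Scheme.{u}) (f : C ⟶ Spec (CommRingCat.of (FractionRing R))) (p : X ⟶ Spec (CommRingCat.of R))
    (hC : Curve.IsSmoothProperCurve (FractionRing R) C f) (hH0 : IsIso f.appTop)
    (hgood : Models.HasGoodReduction R C f) (hX : Models.IsMinimalModel R X p C f) :
    Smooth p := by
  classical
  obtain ⟨Y, q, hYm, hqp, hqs⟩ := hgood
  haveI := hqp
  haveI := hqs
  have hY := Groth.Agent.S3338.result R C Y f q hC hH0 hYm
  obtain ⟨g, hgX⟩ := hX.1.1.2.2.2
  obtain ⟨gY, hgY⟩ := hYm.2.2.2
  by_cases h : ∃ e : Y ≅ X, e.hom ≫ p = q ∧ gY ≫ e.hom = g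
  · obtain ⟨e, he, -⟩ := h
    rw [show p = e.inv ≫ q by rw [← he, e.inv_hom_id_assoc]]
    infer_instance
  obtain ⟨e, he⟩ := Groth.Agent.MinGenus0.p1Fibre_of_not_iso hC hH0 hY hX hgX hgY
    fun e he heg => h ⟨e, he, heg⟩
  haveI := hX.1.1.1
  haveI := hX.1.1.2.1
  haveI : LocallyOfFinitePresentation p := inferInstance
  haveI : Smooth f := hC.2.1
  haveI : Smooth (CohB1.ProjSpace.toSpec 1 (IsLocalRing.ResidueField R)) := Groth.Agent.ProjSpace.smooth_toSpec 1 _
  haveI : Smooth (pullback.snd p (Groth.Agent.MinGenus0.toClosed R)) :=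
    he ▸ (MorphismProperty.cancel_left_of_respectsIso @Smooth e.hom _).2 ‹_›
  refine Groth.Agent.FlatH4.smooth_of_flat_of_fibres p fun K _ a => ?_
  have key : ∀ {T W : Scheme.{u}} {t : T ⟶ Spec (CommRingCat.of R)} {g' : W ⟶ X} {f' : W ⟶ T},
      IsPullback g' f' p t → Smooth f' → ∀ a' : Spec (CommRingCat.of K) ⟶ T, a' ≫ t = a →
        Smooth (pullback.fst a p) := by
    intro T W t g' f' H hf' a' ha'
    subst ha'
    have H' := (IsPullback.of_hasPullback a' f').paste_vert H.flip
    have h1 : Smooth (pullback.fst a' f') := MorphismProperty.pullback_fst _ _ hf'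
    rw [← H'.isoPullback_inv_fst]
    infer_instance
  obtain ⟨φ, rfl⟩ := Spec.map_surjective a
  by_cases hφ : Function.Injective φ.hom
  · exact key hgX ‹Smooth f› (Spec.map (CommRingCat.ofHom (IsFractionRing.lift hφ))) (by
      rw [← Spec.map_comp]
      congr 1
      ext r
      exact IsFractionRing.lift_algebraMap hφ r)
  · have hker : RingHom.ker φ.hom = IsLocalRing.maximalIdeal R := by
      haveI := RingHom.ker_isPrime φ.hom
      exact IsLocalRing.eq_maximalIdeal
        (Ideal.IsPrime.isMaximal inferInstance fun h => hφ ((RingHom.injective_iff_ker_eq_bot _).2 h))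
    exact key (IsPullback.of_hasPullback p (Groth.Agent.MinGenus0.toClosed R)) ‹_›
      (Spec.map (CommRingCat.ofHom (Ideal.Quotient.lift _ φ.hom fun r hr => RingHom.mem_ker.1 (hker ▸ hr)))) (by
        rw [← Spec.map_comp]
        congr 1)

end Groth.Agent.S3337
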