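import Groth.Statements.S3341
import Groth.Agent.Lib.ArInter.Tw

set_option autoImplicit false
universe u
open CategoryTheory CategoryTheory.Limits AlgebraicGeometry
open Models

namespace Groth.Agent.S3341

/-- In the following situation (R a discrete valuation ring, C a smooth proper curve over its fraction
field K with H^0(C, O_C) = K, X a regular proper model with generic-fibre inclusion g, Γ_1, …, Γ_n
the irreducible components of the closed fibre with multiplicities m_i) let d = gcd(m_1, …, m_n) and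
let h ≥ 1 be prime to d. If M is an invertible O_X-module with M^{⊗h} ≅ O_X whose pullback to C is
trivial, then M ≅ O_X: the map Pic(X)[h] → Pic(C)[h] is injective. -/
theorem result (R : Type u) [CommRing R] [IsDomain R] [IsDiscreteValuationRing R]
    (C X : Scheme.{u}) (f : C ⟶ Spec (CommRingCat.of (FractionRing R))) (p : X ⟶ Spec (CommRingCat.of R))
    (hC : Curve.IsSmoothProperCurve (FractionRing R) C f) (hH0 : IsIso f.appTop)
    (hX : Models.IsRegularProperModel R X p C f)
    {n : ℕ} (Γ : Fin n → ArSurf.VertComp R (Over.mk p)) (hΓ : Models.IsComponentList R (Over.mk p) Γ)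
    (g : C ⟶ X) (hg : IsPullback g f p (Spec.map (CommRingCat.ofHom (algebraMap R (FractionRing R))))) (h : ℕ) (hh : 0 < h) (hcop : Nat.Coprime h (Models.multGcd R (Over.mk p) Γ))
    (M : X.Modules) (hM : PicF.IsInvertible M)
    (htors : Nonempty (CohB1.tensorPow M h ≅ Coh.structureModule X))
    (htriv : Nonempty ((Scheme.Modules.pullback g).obj M ≅ Coh.structureModule C)) :
    Nonempty (M ≅ Coh.structureModule X) := by
  choose L hLi hL' using fun i => Groth.Agent.M2.exists_inverse (Groth.Agent.M2.isInvertible_idealMod _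
    (Groth.Agent.ArInter.isEffCartierIdeal_component (Groth.Agent.ArInter.isPre_of_isModel hC hX.1 hX.2.2) hX.2.2 hΓ i))
  have c : Groth.Agent.ArInter.Ctx R C X f p Γ L :=
    ⟨hC, hH0, hX, hΓ, fun i => (hL' i).map fun e => Groth.Agent.M2.tensorComm _ _ ≪≫ e⟩
  obtain ⟨v, hv⟩ := c.exists_rep_of_trivial hg hM htriv
  obtain ⟨k, hk⟩ := (c.trivial_iff (c.rep_pow hv h)).mp htors
  have hh0 : (h : ℚ) ≠ 0 := Nat.cast_ne_zero.mpr hh.ne'
  obtain ⟨l, hl⟩ := c.exists_int_of_prop (v := v) (q := (k : ℚ) / h) fun i => by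
    have := congrArg (fun z : ℤ => (z : ℚ)) (hk i)
    push_cast at this
    field_simp
    linarith
  obtain ⟨i₀⟩ := c.nonempty_index
  have hkl : (h : ℤ) * l = (Models.multGcd R (Over.mk p) Γ : ℤ) * k := by
    refine mul_right_cancel₀ (Int.natCast_ne_zero.mpr (c.mult_pos i₀).ne') ?_
    rw [mul_assoc, ← hl i₀, mul_assoc, ← hk i₀]
    ring
  obtain ⟨t, ht⟩ : (h : ℤ) ∣ k := (Nat.isCoprime_iff_coprime.mpr hcop).dvd_of_dvd_mul_left ⟨l, hkl.symm⟩
  refine (c.trivial_iff hv).mpr ⟨t, fun i => mul_left_cancel₀ (Int.natCast_ne_zero.mpr hh.ne') ?_⟩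
  rw [hk i, ht]
  ring

end Groth.Agent.S3341
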