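import Groth.Statements.S3342
import Groth.Agent.Lib.ArInter.Tw

set_option autoImplicit false
universe u
open CategoryTheory CategoryTheory.Limits AlgebraicGeometry
open Models

namespace Groth.Agent.S3342

/-- In the following situation (R a discrete valuation ring with residue field k, C a smooth proper
curve over its fraction field K with H^0(C, O_C) = K, X a regular proper model with generic-fibre
inclusion g, Γ_1, …, Γ_n the irreducible components of the closed fibre with multiplicities m_i, L_j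
⊗ I(Γ_j) ≅ O_X, a_ij = deg_k(L_j|Γ_i), w_i = dim_k H^0(Γ_i, O)) let d = gcd(m_i) and h ≥ 1 prime to
d. Let N be an invertible O_C-module with N^{⊗h} ≅ O_C which is the restriction of an invertible
O_X-module M whose degree vector (deg_k(M|Γ_i) / w_i)_i lies in the image of the matrix (a_ij / w_i)
(that is, the class of N maps to zero in the Picard group of the numerical type). Then N is the
restriction of an invertible O_X-module M' with M'^{⊗h} ≅ O_X. -/
theorem result (R : Type u) [CommRing R] [IsDomain R] [IsDiscreteValuationRing R]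
    (C X : Scheme.{u}) (f : C ⟶ Spec (CommRingCat.of (FractionRing R))) (p : X ⟶ Spec (CommRingCat.of R))
    (hC : Curve.IsSmoothProperCurve (FractionRing R) C f) (hH0 : IsIso f.appTop)
    (hX : Models.IsRegularProperModel R X p C f)
    {n : ℕ} (Γ : Fin n → ArSurf.VertComp R (Over.mk p)) (hΓ : Models.IsComponentList R (Over.mk p) Γ)
    (g : C ⟶ X) (hg : IsPullback g f p (Spec.map (CommRingCat.ofHom (algebraMap R (FractionRing R))))) (L : Fin n → X.Modules) (hL : ∀ i, ClSub.IsInverseOf (L i) (ClSub.idealMod (Γ i).ι.ker))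
    (h : ℕ) (hh : 0 < h) (hcop : Nat.Coprime h (Models.multGcd R (Over.mk p) Γ))
    (N : C.Modules) (hN : PicF.IsInvertible N) (hNt : Nonempty (CohB1.tensorPow N h ≅ Coh.structureModule C))
    (M : X.Modules) (hM : PicF.IsInvertible M) (hMN : Nonempty ((Scheme.Modules.pullback g).obj M ≅ N))
    (v : Fin n → ℤ)
    (hv : ∀ i, ArSurf.inter R (Over.mk p) M (Γ i) = ∑ j, ArSurf.inter R (Over.mk p) (L j) (Γ i) * v j) :
    ∃ M' : X.Modules, PicF.IsInvertible M' ∧ Nonempty (CohB1.tensorPow M' h ≅ Coh.structureModule X) ∧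
      Nonempty ((Scheme.Modules.pullback g).obj M' ≅ N) := by
  have c : Groth.Agent.ArInter.Ctx R C X f p Γ L := ⟨hC, hH0, hX, hΓ, hL⟩
  obtain ⟨T, hT, hTv⟩ := c.exists_rep fun i => -v i
  obtain ⟨eT⟩ := c.pullback_rep hg hTv
  obtain ⟨eN⟩ := hMN
  let M₁ := CohB1.tensorMod M T
  have hM₁ : PicF.IsInvertible M₁ := Groth.Agent.M2.isInvertible_tensor hM hT
  let e₁ : (Scheme.Modules.pullback g).obj M₁ ≅ N :=
    Groth.Agent.M2.pullTensorIso g M T ≪≫ Groth.Agent.M2.tensorIso eN eT ≪≫ Groth.Agent.M2.tensorRUnit _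
  have hdeg : ∀ i, ArSurf.inter R (Over.mk p) M₁ (Γ i) = 0 := fun i => by
    rw [c.inter_tensor (Γ i) hM hT, c.inter_rep (Γ i) hT hTv, hv i, ← Finset.sum_add_distrib]
    exact Finset.sum_eq_zero fun j _ => by ring
  obtain ⟨eNt⟩ := hNt
  obtain ⟨w, hw⟩ := c.exists_rep_of_trivial hg (Groth.Agent.M2.isInvertible_tensorPow hM₁ h)
    ⟨Groth.Agent.M2.pullTensorPowIso g M₁ h ≪≫ Groth.Agent.M2.tensorPowIso e₁ h ≪≫ eNt⟩
  have hpow : ∀ (i : Fin n) (k : ℕ), ArSurf.inter R (Over.mk p) (CohB1.tensorPow M₁ k) (Γ i) = 0 := fun i k => by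
    induction k with
    | zero =>
      show ArSurf.inter R (Over.mk p) (Coh.structureModule X) (Γ i) = 0
      rw [c.inter_rep (Γ i) (PicLoc.isInvertible_structureModule X) c.rep_zero]
      simp
    | succ k ih =>
      show ArSurf.inter R (Over.mk p) (CohB1.tensorMod (CohB1.tensorPow M₁ k) M₁) (Γ i) = 0
      rw [c.inter_tensor (Γ i) (Groth.Agent.M2.isInvertible_tensorPow hM₁ k) hM₁, ih, hdeg i, add_zero]
  obtain ⟨q, hq⟩ := c.prop_of_degree_zero (v := w) fun i =>
    (c.inter_rep (Γ i) (Groth.Agent.M2.isInvertible_tensorPow hM₁ h) hw).symm.trans (hpow i h)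
  obtain ⟨k, hk⟩ := c.exists_int_of_prop hq
  obtain ⟨α, β, hαβ⟩ : IsCoprime (h : ℤ) (Models.multGcd R (Over.mk p) Γ : ℤ) :=
    Int.isCoprime_iff_gcd_eq_one.mpr hcop
  have hd : ∀ i, (Models.multGcd R (Over.mk p) Γ : ℤ) ∣ (Models.mult R (Over.mk p) (Γ i) : ℤ) := fun i =>
    Int.natCast_dvd_natCast.mpr (Finset.gcd_dvd (Finset.mem_univ i))
  choose m' hm' using hd
  obtain ⟨U, hU, hUv⟩ := c.exists_rep fun i => -(k * α) * m' i
  refine ⟨CohB1.tensorMod M₁ U, Groth.Agent.M2.isInvertible_tensor hM₁ hU, ?_, ?_⟩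
  · obtain ⟨e⟩ := (c.trivial_iff (c.rep_mul hw (c.rep_pow hUv h))).mpr ⟨k * β, fun i => by
      refine mul_left_cancel₀ (Int.natCast_ne_zero.mpr c.multGcd_pos.ne') ?_
      linear_combination hk i + (h : ℤ) * (k * α) * (hm' i) + k * (Models.mult R (Over.mk p) (Γ i) : ℤ) * hαβ.symm⟩
    exact ⟨Groth.Agent.M2.tensorPowMul M₁ U h ≪≫ e⟩
  · obtain ⟨eU⟩ := c.pullback_rep hg hUv
    exact ⟨Groth.Agent.M2.pullTensorIso g M₁ U ≪≫ Groth.Agent.M2.tensorIso e₁ eU ≪≫ Groth.Agent.M2.tensorRUnit _⟩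

end Groth.Agent.S3342
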