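import Groth.Statements.S3344
import Groth.Agent.Lib.ArInter.Rational
import Groth.Agent.S3324
-- import your own Groth.Agent.* helpers here

set_option autoImplicit false
universe u
open CategoryTheory CategoryTheory.Limits AlgebraicGeometry
open Models

namespace Groth.Agent.S3344

/-- In the following situation (R a discrete valuation ring with residue field k, C a smooth proper
curve over its fraction field K with H^0(C, O_C) = K, X a regular proper model, Γ_1, …, Γ_n the
irreducible components of the closed fibre X_k with multiplicities m_i) assume C has a K-rational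
point. Then (1) some closed point x of X on the closed fibre has residue field k (R → κ(x)
surjective) and the local ring of X_k at x, namely O_{X,x}/𝔪_R O_{X,x}, is regular (x is a smooth
point of X_k over k); (2) the component Γ_i through x has H^0(Γ_i, O) = k and m_i = 1; (3) H^0(X_k,
O_{X_k}) = k and dim_k H^1(X_k, O_{X_k}) = dim_K H^1(C, O_C) (k-dimensions as R-lengths of the
cohomology of O_{X_k} on X). -/
theorem result (R : Type u) [CommRing R] [IsDomain R] [IsDiscreteValuationRing R]
    (C X : Scheme.{u}) (f : C ⟶ Spec (CommRingCat.of (FractionRing R))) (p : X ⟶ Spec (CommRingCat.of R))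
    (hC : Curve.IsSmoothProperCurve (FractionRing R) C f) (hH0 : IsIso f.appTop)
    (hX : Models.IsRegularProperModel R X p C f)
    {n : ℕ} (Γ : Fin n → ArSurf.VertComp R (Over.mk p)) (hΓ : Models.IsComponentList R (Over.mk p) Γ)
    (s : Spec (CommRingCat.of (FractionRing R)) ⟶ C) (hs : s ≫ f = 𝟙 _) :
    (∃ (i : Fin n) (x : X), x ∈ Set.range ((Γ i).ι.base : (Γ i).curve.left → X) ∧ IsClosed ({x} : Set X) ∧
        Function.Surjective ((X.residue x).hom.comp (Models.stalkHom R (Over.mk p) x)) ∧
        IsRegularLocalRing (X.presheaf.stalk x ⧸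
          Ideal.map (Models.stalkHom R (Over.mk p) x) (IsLocalRing.maximalIdeal R)) ∧
        Models.wdeg R (Over.mk p) (Γ i) = 1 ∧ Models.mult R (Over.mk p) (Γ i) = 1) ∧
      Models.lengthH R (Over.mk p) (ClSub.quotMod (Models.specialFibreIdeal R (Over.mk p))) 0 = 1 ∧
      Models.lengthH R (Over.mk p) (ClSub.quotMod (Models.specialFibreIdeal R (Over.mk p))) 1 =
        Models.curveGenus (FractionRing R) C f := by
  classical
  have hS := Groth.Agent.ArInter.isSurf_of_model hC hX
  obtain ⟨π, hπ⟩ := IsDiscreteValuationRing.exists_irreducible R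
  obtain ⟨g, hg⟩ := hX.1.2.2.2
  have : IsProper (Over.mk p : Over (Spec (CommRingCat.of R))).hom := hX.2.1
  have : IsProper p := hX.2.1
  obtain ⟨σ, hσ⟩ := Groth.Agent.ArInter.exists_section_of_rational g hg s hs
  have hE := fun i => Groth.Agent.ArInter.isEffCartierIdeal_component hS.pre hX.2.2 hΓ i
  have : IsRegularLocalRing ((Over.mk p : Over (Spec (CommRingCat.of R))).left.presheaf.stalk
      (Groth.Agent.ArInter.secPt (X := Over.mk p) σ)) := hX.2.2 _
  have hrat := Groth.Agent.ArInter.surjective_residue_secPt (X := Over.mk p) σ hσ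
  obtain ⟨⟨i, hi, -⟩, hmult⟩ := Groth.Agent.ArInter.unique_component_secPt (X := Over.mk p) hS.pre hπ σ hσ Γ hΓ hE
  have hm : Models.mult R (Over.mk p) (Γ i) = 1 := hmult i hi
  have hw : Models.wdeg R (Over.mk p) (Γ i) = 1 := by
    obtain ⟨y, hy⟩ := hi
    refine Groth.Agent.ArInter.wdeg_eq_one hS (Γ i) y ?_
    rw [show (Γ i).ι y = Groth.Agent.ArInter.secPt (X := Over.mk p) σ from hy]
    exact hrat
  refine ⟨⟨i, Groth.Agent.ArInter.secPt (X := Over.mk p) σ, hi, Groth.Agent.ArInter.isClosed_secPt (X := Over.mk p) σ hσ,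
    hrat, Groth.Agent.ArInter.isRegularLocalRing_fibre_secPt (X := Over.mk p) σ hπ hσ, hw, hm⟩, ?_⟩
  obtain ⟨hF, hg1⟩ := Groth.Agent.S3324.result R C X f p hC hH0 hX Γ hΓ
  have hd : Models.multGcd R (Over.mk p) Γ = 1 :=
    Nat.dvd_one.mp (hm ▸ Finset.gcd_dvd (Finset.mem_univ i))
  obtain ⟨a, Q, hZ, hQ, -, hno⟩ := Groth.Agent.ArInter.exists_decomp hS.pre hπ Γ hE hΓ.1
  obtain rfl := Groth.Agent.ArInter.eq_top_of_cover hS.pre hπ Γ hE
    (Groth.Agent.ArInter.cover_of_isComponentList hΓ) hZ hQ hno
  have hK : Models.specialFibreIdeal R (Over.mk p) = ∏ j, (Γ j).ι.ker ^ Models.mult R (Over.mk p) (Γ j) := by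
    rw [Groth.Agent.ArInter.specialFibreIdeal_eq π hπ, hZ,
      Finset.prod_congr rfl fun j _ => by rw [← Groth.Agent.ArInter.mult_eq hS.pre hπ Γ hE hΓ.1 hZ hno j],
      ← Scheme.IdealSheafData.one_eq_top, mul_one]
  have hP : (∏ j, (Γ j).ι.ker ^ (Models.mult R (Over.mk p) (Γ j) / Models.multGcd R (Over.mk p) Γ)) =
      Models.specialFibreIdeal R (Over.mk p) :=
    (Finset.prod_congr rfl fun j _ => by rw [hd, Nat.div_one]).trans hK.symm
  rw [hP] at hF hg1
  rw [hd] at hg1
  have h0 : Models.lengthH R (Over.mk p) (ClSub.quotMod (Models.specialFibreIdeal R (Over.mk p))) 0 = 1 := by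
    refine Groth.Agent.ArInter.lengthH_eq_one hF (x := Groth.Agent.ArInter.secPt (X := Over.mk p) σ) ?_ hrat
    rw [Groth.Agent.ArInter.specialFibreIdeal_eq π hπ, Groth.Agent.ArInter.mem_support_fibreIdeal hπ]
    exact Groth.Agent.ArInter.secPt_mem_fibre (X := Over.mk p) σ hσ
  refine ⟨h0, ?_⟩
  rw [h0] at hg1
  push_cast at hg1
  omega

end Groth.Agent.S3344
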