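import Groth.Statements.S3345
import Groth.Agent.Lib.ArInter.RedFibre
-- import your own Groth.Agent.* helpers here

set_option autoImplicit false
universe u
open CategoryTheory CategoryTheory.Limits AlgebraicGeometry
open Models

namespace Groth.Agent.S3345

/-- In the following situation (R a discrete valuation ring with residue field k, C a smooth proper
curve over its fraction field K with H^0(C, O_C) = K, X a regular proper model, Γ_1, …, Γ_n the
irreducible components of the closed fibre with multiplicities m_i) assume X is a minimal model,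
gcd(m_1, …, m_n) = 1 and H^0((X_k)_red, O) = k. Then dim_k H^1((X_k)_red, O) ≤ dim_k H^1(X_k, O),
and the inequality is strict when X_k is not reduced (k-dimensions computed as R-lengths of the
cohomology on X of the structure sheaves of the two closed subschemes). The published statement is
the stronger one that H^1(X_k, O_{X_k}) → H^1((X_k)_red, O) is surjective, with non-zero kernel when
X_k is not reduced; this is its form in terms of dimensions. -/
theorem result (R : Type u) [CommRing R] [IsDomain R] [IsDiscreteValuationRing R]
    (C X : Scheme.{u}) (f : C ⟶ Spec (CommRingCat.of (FractionRing R))) (p : X ⟶ Spec (CommRingCat.of R))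
    (hC : Curve.IsSmoothProperCurve (FractionRing R) C f) (hH0 : IsIso f.appTop)
    (hX : Models.IsRegularProperModel R X p C f)
    {n : ℕ} (Γ : Fin n → ArSurf.VertComp R (Over.mk p)) (hΓ : Models.IsComponentList R (Over.mk p) Γ)
    (hmin : Models.IsMinimalModel R X p C f) (hgcd : Models.multGcd R (Over.mk p) Γ = 1)
    (hH0k : Models.lengthH R (Over.mk p) (ClSub.quotMod (Models.redFibreIdeal R (Over.mk p))) 0 = 1) :
    Models.lengthH R (Over.mk p) (ClSub.quotMod (Models.redFibreIdeal R (Over.mk p))) 1 ≤
        Models.lengthH R (Over.mk p) (ClSub.quotMod (Models.specialFibreIdeal R (Over.mk p))) 1 ∧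
      (Models.specialFibreIdeal R (Over.mk p) ≠ Models.redFibreIdeal R (Over.mk p) →
        Models.lengthH R (Over.mk p) (ClSub.quotMod (Models.redFibreIdeal R (Over.mk p))) 1 <
          Models.lengthH R (Over.mk p) (ClSub.quotMod (Models.specialFibreIdeal R (Over.mk p))) 1) := by
  have hS := Groth.Agent.ArInter.isSurf_of_model hC hX
  have hconn := Groth.Agent.ArInter.isConnected_specialFibreSet hC hH0 hX
  obtain ⟨π, hπ⟩ := IsDiscreteValuationRing.exists_irreducible R
  obtain ⟨-, hle, hlt⟩ := Groth.Agent.ArInter.lengthH_redFibre_le hS hX.2.2 hconn hmin.2 Γ hΓ hgcd hπ hH0k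
  rw [Groth.Agent.ArInter.specialFibreIdeal_eq π hπ]
  refine ⟨hle, fun hne => hlt ?_⟩
  by_contra h
  push Not at h
  obtain ⟨hred, hfib⟩ := Groth.Agent.ArInter.redFibreIdeal_eq hS.pre hπ
    (fun q => Groth.Agent.ArInter.isEffCartierIdeal_component hS.pre hX.2.2 hΓ q) hΓ
  refine hne ?_
  rw [hred, hfib]
  simp only [h, Pi.one_apply]

end Groth.Agent.S3345
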