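import Groth.Statements.S3350
import Groth.Agent.Lib.NumType.Chain
import Mathlib.Tactic.FinCases

set_option autoImplicit false
open Finset
open Models Models.NumericalType

namespace Groth.Agent.S3350

open Groth.Agent.NumType

/-- Classification of proper subgraphs with two vertices: Let T be a numerical type on n > 2 indices and
i ≠ j two (-2)-indices (g = 0 and a_ii = -2 w_i, a_jj = -2 w_j) with a_ij > 0. Then, after possibly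
exchanging i and j, one of the following holds with w = w_i: (A2) w_j = w, a_ij = w, 2 m_i ≥ m_j and
2 m_j ≥ m_i; (B2) w_j = 2w, a_ij = 2w, m_i ≥ m_j and 2 m_j ≥ m_i; (G2) w_j = 3w, a_ij = 3w, 2 m_i ≥
3 m_j and 2 m_j ≥ m_i. -/
theorem result {n : ℕ} (T : Models.NumericalType n) (hn : 2 < n) (i j : Fin n)
    (hij : i ≠ j) (hi : T.IsMinusTwo i) (hj : T.IsMinusTwo j) (hpos : 0 < T.a i j) :
    ∃ i' j' : Fin n, ((i' = i ∧ j' = j) ∨ (i' = j ∧ j' = i)) ∧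
      ((T.w j' = T.w i' ∧ T.a i' j' = T.w i' ∧ T.m j' ≤ 2 * T.m i' ∧ T.m i' ≤ 2 * T.m j') ∨
        (T.w j' = 2 * T.w i' ∧ T.a i' j' = 2 * T.w i' ∧ T.m j' ≤ T.m i' ∧ T.m i' ≤ 2 * T.m j') ∨
        (T.w j' = 3 * T.w i' ∧ T.a i' j' = 3 * T.w i' ∧ 3 * T.m j' ≤ 2 * T.m i' ∧ T.m i' ≤ 2 * T.m j')) := by
  have hji : 0 < T.a j i := a_symm T i j ▸ hpos
  have hwi := T.w_pos i
  have hwj := T.w_pos j
  have r1 := row1 hi hij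
  have r2 := row1 hj hij.symm
  rw [← a_symm T i j] at r2
  rcases edge_cases hn hpos hi hj with ⟨h1, h2⟩ | (⟨h1, h2⟩ | ⟨h1, h2⟩) | (⟨h1, h2⟩ | ⟨h1, h2⟩)
  · refine ⟨i, j, Or.inl ⟨rfl, rfl⟩, Or.inl ⟨h2, h1, ?_, ?_⟩⟩ <;> rw [h1] at r1 r2 <;> rw [h2] at r2 <;> nlinarith
  · refine ⟨i, j, Or.inl ⟨rfl, rfl⟩, Or.inr (Or.inl ⟨h2, h1, ?_, ?_⟩)⟩ <;> rw [h1] at r1 r2 <;> rw [h2] at r2 <;> nlinarith
  · refine ⟨j, i, Or.inr ⟨rfl, rfl⟩, Or.inr (Or.inl ⟨h2, ?_, ?_, ?_⟩)⟩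
    · rw [← a_symm T i j, h1, h2]
    all_goals (rw [h1, h2] at r1 r2; nlinarith)
  · refine ⟨i, j, Or.inl ⟨rfl, rfl⟩, Or.inr (Or.inr ⟨h2, h1, ?_, ?_⟩)⟩ <;> rw [h1] at r1 r2 <;> rw [h2] at r2 <;> nlinarith
  · refine ⟨j, i, Or.inr ⟨rfl, rfl⟩, Or.inr (Or.inr ⟨h2, ?_, ?_, ?_⟩)⟩
    · rw [← a_symm T i j, h1, h2]
    all_goals (rw [h1, h2] at r1 r2; nlinarith)

end Groth.Agent.S3350
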