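import Groth.Statements.S3351
import Groth.Agent.Lib.LatticeForm.Basic
-- import your own Groth.Agent.* helpers here

set_option autoImplicit false
open Models

namespace Groth.Agent.S3351

/-- Let L be a finite free Z-module with a positive definite symmetric integral bilinear form, A ⊆ L a
submodule with L/A torsion free and B the orthogonal complement of A. Write M^# for the dual lattice
of a sublattice M, identified here with the Z-dual Hom(M, Z) through the form. Then the natural maps
L/(A ⊕ B) → B^#/B and L/(A ⊕ B) → A^#/A are injective: an element x of L whose functional ⟨x, -⟩ on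
B (resp. on A) is represented by an element of B (resp. of A) lies in A ⊕ B. Moreover the
restriction maps L^# → B^# and L^# → A^# are surjective, so that the cokernels of the two injections
are quotients of L^#/L. -/
theorem result {L : Type} [AddCommGroup L] [Module.Finite ℤ L] [Module.Free ℤ L]
    (B : LinearMap.BilinForm ℤ L) (hsymm : B.IsSymm) (hpos : ∀ x, x ≠ 0 → 0 < B x x)
    (A : Submodule ℤ L) (htf : ∀ (c : ℤ) (x : L), c ≠ 0 → c • x ∈ A → x ∈ A) :
    (∀ x : L, (∃ b ∈ B.orthogonal A, ∀ b' ∈ B.orthogonal A, B x b' = B b b') → x ∈ A ⊔ B.orthogonal A) ∧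
      (∀ x : L, (∃ a ∈ A, ∀ a' ∈ A, B x a' = B a a') → x ∈ A ⊔ B.orthogonal A) ∧
      (∀ ψ : Module.Dual ℤ ↥(B.orthogonal A), ∃ φ : Module.Dual ℤ L, φ ∘ₗ (B.orthogonal A).subtype = ψ) ∧
      (∀ ψ : Module.Dual ℤ ↥A, ∃ φ : Module.Dual ℤ L, φ ∘ₗ A.subtype = ψ) := by
  have hB : ∀ (c : ℤ) (x : L), c ≠ 0 → c • x ∈ B.orthogonal A → x ∈ B.orthogonal A := by
    intro c x hc hx n hn
    have h : B n (c • x) = 0 := hx n hn
    rw [map_smul, smul_eq_mul, mul_eq_zero] at h
    exact h.resolve_left hc
  refine ⟨fun x ⟨b, hb, h⟩ => ?_, fun x ⟨a, ha, h⟩ => ?_,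
    LatticeForm.exists_dual_extend _ hB, LatticeForm.exists_dual_extend A htf⟩
  · refine Submodule.mem_sup.2 ⟨x - b, LatticeForm.mem_of_orthogonal_orthogonal B hsymm hpos A htf _
      fun b' hb' => ?_, b, hb, sub_add_cancel x b⟩
    rw [map_sub, LinearMap.sub_apply, h b' hb', sub_self]
  · refine Submodule.mem_sup.2 ⟨a, ha, x - a, fun n hn => ?_, add_sub_cancel a x⟩
    change B n (x - a) = 0
    rw [hsymm.eq, map_sub, LinearMap.sub_apply, h n hn, sub_self]

end Groth.Agent.S3351
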