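import Groth.Statements.S3352
import Groth.Agent.Lib.LatticeForm.Basic
-- import your own Groth.Agent.* helpers here

set_option autoImplicit false
open Models

namespace Groth.Agent.S3352

/-- Let L₀, L₁ be finite free ℤ-modules with positive definite symmetric integral bilinear forms, the
form on L₀ unimodular (x ↦ ⟨x, −⟩ is a bijection L₀ → Hom(L₀, ℤ)), and let d : L₀ → L₁ and d* : L₁ →
L₀ be adjoint. Identify Im(d)^# (the dual lattice of Im(d)) with Hom(Im(d), ℤ) through the form on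
L₁. Then there is an isomorphism Φ from the torsion subgroup of Coker(d* d) onto Im(d)^#/Im(d),
determined by: for x ∈ L₀ whose class is torsion, Φ[x] is the class of the functional d(y') ↦ ⟨x,
y'⟩ (equivalently the class of (1/a)·d(y) when a·x = d* d(y)). -/
theorem result {L₀ L₁ : Type} [AddCommGroup L₀] [AddCommGroup L₁]
    [Module.Finite ℤ L₀] [Module.Free ℤ L₀] [Module.Finite ℤ L₁] [Module.Free ℤ L₁]
    (B₀ : LinearMap.BilinForm ℤ L₀) (B₁ : LinearMap.BilinForm ℤ L₁) (h₀s : B₀.IsSymm) (h₁s : B₁.IsSymm)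
    (h₀p : ∀ x, x ≠ 0 → 0 < B₀ x x) (h₁p : ∀ x, x ≠ 0 → 0 < B₁ x x) (huni : Function.Bijective B₀)
    (d : L₀ →ₗ[ℤ] L₁) (ds : L₁ →ₗ[ℤ] L₀) (hadj : ∀ x y, B₁ (d x) y = B₀ x (ds y)) :
    ∃ Φ : ↥(Submodule.torsion ℤ (L₀ ⧸ LinearMap.range (ds ∘ₗ d))) ≃ₗ[ℤ]
        (Module.Dual ℤ ↥(LinearMap.range d) ⧸
          LinearMap.range ((B₁.compl₂ (LinearMap.range d).subtype) ∘ₗ (LinearMap.range d).subtype)),
      ∀ (x : L₀) (hx : Submodule.Quotient.mk x ∈ Submodule.torsion ℤ (L₀ ⧸ LinearMap.range (ds ∘ₗ d)))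
        (ψ : Module.Dual ℤ ↥(LinearMap.range d)),
        (∀ y' : L₀, ψ ⟨d y', LinearMap.mem_range_self d y'⟩ = B₀ x y') →
          Φ ⟨Submodule.Quotient.mk x, hx⟩ = Submodule.Quotient.mk ψ := by
  let e : L₀ ≃ₗ[ℤ] Module.Dual ℤ L₀ := LinearEquiv.ofBijective B₀ huni
  let Λ : Module.Dual ℤ ↥(LinearMap.range d) →ₗ[ℤ] L₀ :=
    e.symm.toLinearMap ∘ₗ (LinearMap.rangeRestrict d).dualMap
  have hΛ : ∀ ψ y', B₀ (Λ ψ) y' = ψ ⟨d y', LinearMap.mem_range_self d y'⟩ := by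
    intro ψ y'
    have : B₀ (Λ ψ) = (LinearMap.rangeRestrict d).dualMap ψ := e.apply_symm_apply _
    rw [this]; rfl
  have hds : ∀ z y', B₀ (ds (d z)) y' = B₁ (d z) (d y') := by
    intro z y'
    rw [h₀s.eq, ← hadj, h₁s.eq]
  have hsurjd : ∀ r : ↥(LinearMap.range d), ∃ y', r = ⟨d y', LinearMap.mem_range_self d y'⟩ := by
    rintro ⟨r, y', rfl⟩; exact ⟨y', rfl⟩
  have hinj : ∀ x x' : L₀, (∀ y', B₀ x y' = B₀ x' y') → x = x' :=
    fun x x' h => huni.1 (LinearMap.ext h)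
  let g := (B₁.compl₂ (LinearMap.range d).subtype) ∘ₗ (LinearMap.range d).subtype
  have hmemT : ∀ ψ, (LinearMap.range (ds ∘ₗ d)).mkQ (Λ ψ) ∈
      Submodule.torsion ℤ (L₀ ⧸ LinearMap.range (ds ∘ₗ d)) := by
    intro ψ
    obtain ⟨c, hc, a, ha⟩ := LatticeForm.exists_smul_eq_restrict B₁ h₁p (LinearMap.range d) ψ
    obtain ⟨z, rfl⟩ := hsurjd a
    refine ⟨⟨c, mem_nonZeroDivisors_of_ne_zero hc⟩, ?_⟩
    change c • (Submodule.Quotient.mk (Λ ψ) : L₀ ⧸ LinearMap.range (ds ∘ₗ d)) = 0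
    rw [← Submodule.Quotient.mk_smul, Submodule.Quotient.mk_eq_zero]
    refine ⟨z, hinj _ _ fun y' => ?_⟩
    rw [LinearMap.comp_apply, hds, map_smul, LinearMap.smul_apply, hΛ, smul_eq_mul]
    exact ha ⟨d y', LinearMap.mem_range_self d y'⟩
  let Θ := ((LinearMap.range (ds ∘ₗ d)).mkQ ∘ₗ Λ).codRestrict _ hmemT
  have hΘs : Function.Surjective Θ := by
    rintro ⟨q, hq⟩
    obtain ⟨x, rfl⟩ := (LinearMap.range (ds ∘ₗ d)).mkQ_surjective q
    obtain ⟨⟨c, hc⟩, hcx⟩ := hq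
    have hcx' : c • x ∈ LinearMap.range (ds ∘ₗ d) := by
      rw [← Submodule.Quotient.mk_eq_zero, Submodule.Quotient.mk_smul]
      exact hcx
    obtain ⟨z, hz⟩ := hcx'
    have hwd : ∀ y y' : L₀, d y = d y' → B₀ x y = B₀ x y' := by
      intro y y' hyy
      have hz' : ∀ w, c * B₀ x w = B₁ (d z) (d w) := fun w => by
        rw [← hds, ← smul_eq_mul, ← LinearMap.smul_apply, ← map_smul]
        exact congrArg (fun v => B₀ v w) hz.symm
      have h : c * B₀ x y = c * B₀ x y' := by rw [hz', hz', hyy]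
      exact mul_left_cancel₀ (nonZeroDivisors.ne_zero hc) h
    choose sec hsec using hsurjd
    have hsec' : ∀ r, d (sec r) = (r : L₁) := fun r => (congrArg Subtype.val (hsec r)).symm
    let ψ : Module.Dual ℤ ↥(LinearMap.range d) :=
      { toFun := fun r => B₀ x (sec r)
        map_add' := fun r r' => by
          rw [← map_add]; exact hwd _ _ (by simp [map_add, hsec'])
        map_smul' := fun m r => by
          rw [RingHom.id_apply, ← map_smul]; exact hwd _ _ (by simp [map_smul, hsec']) }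
    refine ⟨ψ, Subtype.ext (congrArg Submodule.Quotient.mk (hinj _ _ fun y' => ?_))⟩
    rw [hΛ]
    exact hwd _ _ (hsec' _)
  have hker : LinearMap.ker Θ = LinearMap.range g := by
    ext ψ
    rw [LinearMap.mem_ker, Subtype.ext_iff]
    change (Submodule.Quotient.mk (Λ ψ) : L₀ ⧸ LinearMap.range (ds ∘ₗ d)) = 0 ↔ _
    rw [Submodule.Quotient.mk_eq_zero]
    constructor
    · rintro ⟨z, hz⟩
      refine ⟨⟨d z, LinearMap.mem_range_self d z⟩, LinearMap.ext fun r => ?_⟩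
      obtain ⟨y', rfl⟩ := hsurjd r
      rw [← hΛ ψ, ← hz]
      exact (hds z y').symm
    · rintro ⟨r, rfl⟩
      obtain ⟨z, rfl⟩ := hsurjd r
      refine ⟨z, hinj _ _ fun y' => ?_⟩
      rw [LinearMap.comp_apply, hds, hΛ]
      rfl
  refine ⟨(Θ.quotKerEquivOfSurjective hΘs).symm.trans (Submodule.quotEquivOfEq _ _ hker),
    fun x hx ψ hψ => ?_⟩
  have hx' : Θ ψ = ⟨Submodule.Quotient.mk x, hx⟩ :=
    Subtype.ext (congrArg Submodule.Quotient.mk (hinj _ _ fun y' => by rw [hΛ, hψ]))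
  rw [LinearEquiv.trans_apply, ← hx']
  have : (Θ.quotKerEquivOfSurjective hΘs).symm (Θ ψ) = Submodule.Quotient.mk ψ := by
    rw [LinearEquiv.symm_apply_eq]; rfl
  rw [this]
  rfl

end Groth.Agent.S3352
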