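import Groth.Statements.S3359
import Groth.Agent.Lib.RelES12.Formal
import Groth.Agent.Lib.CartExt13.Divisor
-- import your own Groth.Agent.* helpers here

set_option autoImplicit false
set_option backward.isDefEq.respectTransparency false
universe u
open CategoryTheory CategoryTheory.Limits AlgebraicGeometry
open Lef

namespace Groth.Agent.S3359

/-- Let A be a Noetherian ring, X a proper flat A-scheme and 𝓘 a quasi-coherent ideal of O_X whose ideal
module is invertible with ample inverse L (so 𝓘 is the ideal of the zero scheme Y of a regular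
section of the ample invertible module L, and X is projective over A). Let n ≥ 0 and assume that for
every point s of Spec A the fibre X_s has depth > n at each of its closed points. Then the canonical
map from H^i(X, O_X) to the inverse limit over m of the H^i(X, O_X/𝓘^{m+1}), the transition maps
being induced by the quotient maps, is injective for i ≤ n and surjective for i < n. The published
statement factors this map through the cohomology of the formal completion of X along Y and is over
a general base and for a coherent module flat over it, rather than over Spec A and for O_X; the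
depth hypothesis is read here at the points that are closed in their fibre. -/
theorem result (A : Type u) [CommRing A] [IsNoetherianRing A] (X : Scheme.{u}) [X.Over (Spec (CommRingCat.of A))] [IsProper (X ↘ Spec (CommRingCat.of A))] [Flat (X ↘ Spec (CommRingCat.of A))] (𝓘 : X.IdealSheafData) (L : X.Modules) (hL : ClSub.IsInverseOf L (ClSub.idealMod 𝓘)) (hamp : CohB1.IsAmple L) (n : ℕ) (hdepth : ∀ x : X, IsClosed ({((X ↘ Spec (CommRingCat.of A))).asFiber x} : Set ↥(((X ↘ Spec (CommRingCat.of A))).fiber (((X ↘ Spec (CommRingCat.of A))).base x))) → (n : ℕ∞) < LocCoh.depth ↑(CInt.fiberStalk (X ↘ Spec (CommRingCat.of A)) x) ↑(CInt.fiberStalk (X ↘ Spec (CommRingCat.of A)) x)) (i : ℕ) : (i ≤ n → ∀ x : Coh.HH X (Coh.structureModule X) i, (∀ m : ℕ, Sheaf.H.map ((SheafOfModules.toSheaf X.ringCatSheaf).map (ClSub.toSubscheme (𝓘 ^ (m + 1)))) i x = 0) → x = 0) ∧ (i < n → ∀ y : (∀ m : ℕ, Coh.HH X (ClSub.quotMod (𝓘 ^ (m + 1))) i), (∀ m : ℕ, Sheaf.H.map ((SheafOfModules.toSheaf X.ringCatSheaf).map (Lef.quotMap (Lef.pow_succ_le 𝓘 m))) i (y (m + 1)) = y m)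 → ∃ x : Coh.HH X (Coh.structureModule X) i, ∀ m : ℕ, Sheaf.H.map ((SheafOfModules.toSheaf X.ringCatSheaf).map (ClSub.toSubscheme (𝓘 ^ (m + 1)))) i x = y m) := by
  haveI : AlgebraicGeometry.IsNoetherian X := CohFound.isNoetherian_of_isProper (X ↘ Spec (CommRingCat.of A))
  obtain ⟨e⟩ := id hL
  have hI : PicF.IsInvertible (ClSub.idealMod 𝓘) :=
    M2.isInvertible_of_tensor_iso (Amp.isAmple_iff.1 hamp).1 (M2.tensorComm _ L ≪≫ e)
  exact RelES12.formal_bijective_of_twists A hamp e
    (Snapper.isCoh_of_isInvertible (PicLoc.isInvertible_structureModule X))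
    (CartExt13.isFlatOver_structureModule _) n
    (fun x hx => by rw [RelES12.fdep_structureModule]; exact hdepth x (RelES12.isClosed_asFiber _ hx))
    (fun m => ClSub.quotMod (𝓘 ^ (m + 1))) (fun m => ClSub.toSubscheme (𝓘 ^ (m + 1)))
    (fun m => Lef.quotMap (Lef.pow_succ_le 𝓘 m)) (fun m => ES11.toSubscheme_quotMap _)
    (fun m => ClSub.idealModι (𝓘 ^ (m + 1))) (fun m => kernel.condition _)
    (fun m => M2.shortExact_idealMod (I := 𝓘 ^ (m + 1)))
    (fun m => by
      obtain ⟨ep⟩ := CurveCoh17.nonempty_idealMod_pow (SecDiv.isEffCartierIdeal_of_isInvertible 𝓘 hI) (m + 1)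
      exact ⟨ep.symm ≪≫ (M2.tensorLUnit _).symm⟩) i

end Groth.Agent.S3359
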