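import Groth.Statements.S3364
import Groth.Agent.Lib.BCInj6.DepthRestr

set_option autoImplicit false
universe u
open CategoryTheory CategoryTheory.Limits AlgebraicGeometry Opposite
open EtDepth

namespace Groth.Agent.S3364

/-- Let X be a scheme, j : U → X an open immersion with closed complement Y, F an abelian sheaf on the
small étale site of X and n ≥ 0. Then the local cohomology sheaves H^p_Y(X, F) vanish for p < n if
and only if for every scheme X' étale over X, with U' = X' ×_X U, the restriction maps H^p(X', F) →
H^p(U', F) are bijective for p < n − 1 and injective for p = n − 1. (The restriction maps are the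
prelude's pull-back maps on étale cohomology, whose exactness instance is carried as a binder. The
published statement has further equivalent conditions and is not limited to a single sheaf; only
this equivalence, for one abelian sheaf, is stated here.) -/
theorem result {X U : Scheme.{u}} (j : U ⟶ X) [IsOpenImmersion j] [EtCoh.BCCont j] (F : EtCoh.Ab X) (n : ℕ) : EtDepth.DepthGE j F n ↔ ∀ (X' : Scheme.{u}) (g : X' ⟶ X) [Etale g] [PreservesFiniteLimits (EtCoh.pull (pullback.snd j g))], (∀ p : ℕ, p + 1 < n → Function.Bijective (EtCore.Hpull (pullback.snd j g) ((EtCoh.pull g).obj F) p)) ∧ (∀ p : ℕ, p + 1 = n → Function.Injective (EtCore.Hpull (pullback.snd j g) ((EtCoh.pull g).obj F) p)) := by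
  exact Groth.Agent.BCInj6.depthGE_iff_restr j F n

end Groth.Agent.S3364
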