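import Groth.Statements.S3373
import Groth.Agent.Lib.ComplFormalH7.Bridge

set_option autoImplicit false
universe u
open CategoryTheory CategoryTheory.Limits AlgebraicGeometry
open FSch

namespace Groth.Agent.S3373

/-- Let A be a Noetherian local ring which is a quotient of a regular ring, t a member of the maximal
ideal for which A is separated and complete in the t-adic topology, X the punctured spectrum of A,
and 𝔉 a coherent module on the formal completion of X along V(t) ∩ X, given as a system (F_N) of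
coherent modules on the closed subschemes X_N = V(t^(N+1)) ∩ X with F_{N+1}|_{X_N} ≅ F_N. Assume (1)
t is 𝔉-regular, expressed on the system by: for every N ≥ 1 the kernel of multiplication by t^N on
F_N equals the image of multiplication by t; and (2) for every closed point y of X_0 the stalk of
F_0 at y has depth ≥ 2 over O_{X_0,y}. Then there is a coherent O_X-module F whose completion along
V(t) ∩ X is isomorphic to 𝔉. -/
theorem result (R : Type u) [CommRing R] [IsRegularRing R] (A : Type u) [CommRing A] [IsLocalRing A] [IsNoetherianRing A] (π : R →+* A) (hπ : Function.Surjective π) (t : A) (ht : t ∈ IsLocalRing.maximalIdeal A) [IsAdicComplete (Ideal.span {t}) A] (𝔐 : FSch.ModSys (FSch.completionAlong (↑(FEt.puncturedSpec A) : Scheme.{u}) ((Spec.map (CommRingCat.ofHom (Ideal.Quotient.mk (Ideal.span {t})))).ker.comap (FEt.puncturedSpec A).ι))) (hcoh : 𝔐.IsCoh) (hreg : ∀ N : ℕ, 1 ≤ N → kernelSubobject (Formal.smulModΓ (𝔐.F N) ((((FSch.completionToX (↑(FEt.puncturedSpec A) : Scheme.{u})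 ((Spec.map (CommRingCat.ofHom (Ideal.Quotient.mk (Ideal.span {t})))).ker.comap (FEt.puncturedSpec A).ι) N) ≫ (FEt.puncturedSpec A).ι).appTop.hom ((Scheme.ΓSpecIso (CommRingCat.of A)).inv t)) ^ N)) = imageSubobject (Formal.smulModΓ (𝔐.F N) (((FSch.completionToX (↑(FEt.puncturedSpec A) : Scheme.{u}) ((Spec.map (CommRingCat.ofHom (Ideal.Quotient.mk (Ideal.span {t})))).ker.comap (FEt.puncturedSpec A).ι) N) ≫ (FEt.puncturedSpec A).ι).appTop.hom ((Scheme.ΓSpecIso (CommRingCat.of A)).inv t)))) (hdepth : ∀ y : ↥((FSch.completionAlong (↑(FEt.puncturedSpec A) : Scheme.{u}) ((Spec.map (CommRingCat.ofHom (Ideal.Quotient.mk (Ideal.span {t})))).ker.comap (FEt.puncturedSpec A).ι)).X 0), IsClosed ({y} : Set ↥((FSch.completionAlong (↑(FEt.puncturedSpec A) : Scheme.{u}) ((Spec.map (CommRingCat.ofHom (Ideal.Quotient.mk (Ideal.span {t})))).ker.comap (FEt.puncturedSpec A).ι)).X 0)) → (2 : ℕ∞) ≤ LocCoh.depth (((FSch.completionAlong (↑(FEt.puncturedSpec A) : Scheme.{u}) ((Spec.map (CommRingCat.ofHom (Ideal.Quotient.mk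 (Ideal.span {t})))).ker.comap (FEt.puncturedSpec A).ι)).X 0).presheaf.stalk y) ((𝔐.F 0).presheaf.stalk y)) : ∃ F : (↑(FEt.puncturedSpec A) : Scheme.{u}).Modules, Coh.IsCoh F ∧ Nonempty (FSch.completionMod ((Spec.map (CommRingCat.ofHom (Ideal.Quotient.mk (Ideal.span {t})))).ker.comap (FEt.puncturedSpec A).ι) F ≅ 𝔐) := by
  open Groth.Agent.ComplFormalH7 in
  refine exists_algebraization R π hπ t (IsLocalRing.maximalIdeal A) puncturedSpec_eq 𝔐 hcoh hreg
    (fun y q hq hpq => hdepth y ?_)
  have hqm : q = IsLocalRing.closedPoint A := PrimeSpectrum.ext ((IsLocalRing.maximalIdeal.isMaximal A).eq_of_le q.2.ne_top hq).symm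
  let 𝓘 := ComplFormalH7.tIdl t (FEt.puncturedSpec A)
  have hinj := (𝓘 ^ (0 + 1)).subschemeι.isClosedEmbedding.injective
  obtain ⟨x, hx⟩ : ∃ x, x = (FSch.completionToX (↑(FEt.puncturedSpec A) : Scheme.{u}) 𝓘 0).base y := ⟨_, rfl⟩
  suffices hc : IsClosed ({x} : Set (↑(FEt.puncturedSpec A) : Scheme.{u})) by
    have h0 := hc.preimage (FSch.completionToX (↑(FEt.puncturedSpec A) : Scheme.{u}) 𝓘 0).continuous
    rw [hx] at h0
    refine (congrArg IsClosed (Set.ext fun z => ?_)).mp h0
    exact ⟨fun h => hinj h, fun h => congrArg _ h⟩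
  rw [Scheme.Hom.comp_base, TopCat.comp_app, ← hx] at hpq
  suffices h : ({x} : Set (↑(FEt.puncturedSpec A) : Scheme.{u})) =
      (FEt.puncturedSpec A).ι ⁻¹' closure {((FEt.puncturedSpec A).ι x : PrimeSpectrum A)} by
    rw [h]
    exact isClosed_closure.preimage (FEt.puncturedSpec A).ι.continuous
  ext y
  refine ⟨fun hy => hy ▸ subset_closure (Set.mem_singleton _), fun hy => ?_⟩
  have hle : @LE.le (PrimeSpectrum A) _ ((FEt.puncturedSpec A).ι x) ((FEt.puncturedSpec A).ι y) :=
    (PrimeSpectrum.le_iff_mem_closure _ _).2 hy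
  rcases hle.lt_or_eq with hlt | heq
  · exfalso
    have hle2 : @LE.le (PrimeSpectrum A) _ ((FEt.puncturedSpec A).ι y) q := hqm ▸ IsLocalRing.le_maximalIdeal (Ideal.IsPrime.ne_top (PrimeSpectrum.isPrime _))
    exact hpq.2 hlt (hle2.lt_of_ne fun h => y.2 (h.trans hqm))
  · exact (FEt.puncturedSpec A).ι.isOpenEmbedding.injective heq.symm

end Groth.Agent.S3373
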