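import Groth.Statements.S3377
import Groth.Agent.Lib.BCInj6.DepthFEt
import Groth.Agent.Lib.FlatDepth.FibreStalk
import Groth.Agent.S2754
import Groth.Agent.S0335

set_option autoImplicit false
set_option linter.style.haveILetI false
set_option backward.isDefEq.respectTransparency false
set_option backward.isDefEq.respectTransparency.types false
universe u
open CategoryTheory CategoryTheory.Limits AlgebraicGeometry Opposite
open EtDepth

namespace Groth.Agent.S3377

open TopologicalSpace

open IsLocalRing in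
theorem one_le_depth_quot {A : Type u} [CommRing A] [IsLocalRing A] [IsNoetherianRing A] (J : Ideal A)
    (hJ : J.radical = J) {Q : Ideal A} [Q.IsPrime] (hJQ : J ≤ Q) (hQ : Q ≠ maximalIdeal A) :
    (1 : ℕ∞) ≤ LocCoh.depth A (A ⧸ J) := by
  obtain ⟨x, hx, hxP⟩ : ∃ x ∈ maximalIdeal A, ∀ P ∈ J.minimalPrimes, x ∉ P := by
    by_contra! hc
    obtain ⟨P, hP, hle⟩ := (Ideal.subset_union_prime_finite (J.finite_minimalPrimes_of_isNoetherianRing A)
      (f := fun P => P) ⊥ ⊥ (fun P hP _ _ => hP.1.1)).1 (fun x hx => by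
        obtain ⟨P, hP, hxP⟩ := hc x hx
        exact Set.mem_biUnion hP hxP)
    have := hP.1.1
    have hPe : P = maximalIdeal A := ((maximalIdeal.isMaximal A).eq_of_le hP.1.1.ne_top hle).symm
    exact hQ (((maximalIdeal.isMaximal A).eq_of_le ‹Q.IsPrime›.ne_top (hPe ▸ hP.2 ⟨‹Q.IsPrime›, hJQ⟩ (hPe ▸ le_maximalIdeal ‹Q.IsPrime›.ne_top))).symm)
  refine Groth.Agent.DepthLib.one_le_idealDepth_of_regular hx ?_
  refine IsSMulRegular.of_right_eq_zero_of_smul fun m hm => ?_
  obtain ⟨a, rfl⟩ := Ideal.Quotient.mk_surjective m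
  change Submodule.Quotient.mk (x • a) = 0 at hm
  rw [Submodule.Quotient.mk_eq_zero, smul_eq_mul] at hm
  refine Ideal.Quotient.eq_zero_iff_mem.2 ?_
  rw [← hJ, Ideal.radical_eq_sInf, Submodule.mem_sInf]
  rintro P ⟨hle, hP⟩
  obtain ⟨P₀, hP₀, hP₀P⟩ := Ideal.exists_minimalPrimes_le hle
  exact hP₀P ((hP₀.1.1.mem_or_mem (hP₀.1.2 hm)).resolve_left (hxP P₀ hP₀))

open IsLocalRing TensorProduct in
/-- Punctured spectra of local rings flat over the base with reduced closed fibre of positive dimension. -/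
theorem isPreconnected_punctured {R A : Type u} [CommRing R] [CommRing A] [IsLocalRing R] [IsLocalRing A]
    [IsNoetherianRing R] [IsNoetherianRing A] [Algebra R A] [IsLocalHom (algebraMap R A)] [Module.Flat R A]
    (hred : _root_.IsReduced (A ⧸ (maximalIdeal R).map (algebraMap R A)))
    {Q : Ideal A} [Q.IsPrime] (hQle : (maximalIdeal R).map (algebraMap R A) ≤ Q) (hQ : Q ≠ maximalIdeal A)
    (h : (∃ q : PrimeSpectrum R, q.asIdeal ≠ maximalIdeal R) ∨
      IsDomain (A ⧸ (maximalIdeal R).map (algebraMap R A))) :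
    _root_.IsPreconnected {x : PrimeSpectrum A | x.asIdeal ≠ maximalIdeal A} := by
  classical
  set mA := (maximalIdeal R).map (algebraMap R A) with hmA
  have hrad : mA.radical = mA := ((Ideal.isRadical_iff_quotient_reduced mA).2 hred).radical
  by_cases hq : ∃ q : PrimeSpectrum R, q.asIdeal ≠ maximalIdeal R
  · obtain ⟨q, hq⟩ := hq
    set J := nilradical R with hJ
    set I := J.map (algebraMap R A) with hI
    have hR : (1 : ℕ∞) ≤ LocCoh.depth R (R ⧸ J) :=
      one_le_depth_quot J (Ideal.radical_isRadical ⊥).radical (Q := q.asIdeal) (nilradical_le_prime q.asIdeal) hq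
    have hF : (1 : ℕ∞) ≤ LocCoh.depth A (A ⧸ mA) := one_le_depth_quot mA hrad hQle hQ
    have eI : A ⊗[R] (R ⧸ J) ≃ₗ[A] A ⧸ I := (FlatDepth.tensorQuotEquiv A J).trans
      (Submodule.quotEquivOfEq _ _ (by rw [Ideal.smul_eq_mul, Ideal.mul_top]))
    have eF : A ⊗[R] (R ⧸ maximalIdeal R) ≃ₗ[A] A ⧸ mA := (FlatDepth.tensorQuotEquiv A (maximalIdeal R)).trans
      (Submodule.quotEquivOfEq _ _ (by rw [Ideal.smul_eq_mul, Ideal.mul_top]))
    have hd : (2 : ℕ∞) ≤ LocCoh.depth A (A ⧸ I) := by
      rw [show LocCoh.depth A (A ⧸ I) = LocCoh.depth A (A ⊗[R] (R ⧸ J)) from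
        (Groth.Agent.DepthLib.idealDepth_congr eI).symm, FlatDepth.depth_tensor,
        show LocCoh.depth A (A ⊗[R] (R ⧸ maximalIdeal R)) = LocCoh.depth A (A ⧸ mA) from
          Groth.Agent.DepthLib.idealDepth_congr eF]
      calc (2 : ℕ∞) = 1 + 1 := one_add_one_eq_two.symm
        _ ≤ _ := add_le_add hR hF
    have hInil : I ≤ nilradical A := Ideal.map_le_iff_le_comap.2 fun r hr =>
      (mem_nilradical.1 hr).map (algebraMap R A)
    have hItop : I ≠ ⊤ := ne_top_of_le_ne_top (maximalIdeal.isMaximal A).ne_top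
      (hInil.trans (nilradical_le_prime _))
    haveI : Nontrivial (A ⧸ I) := Ideal.Quotient.nontrivial_iff.2 hItop
    haveI : IsLocalRing (A ⧸ I) := IsLocalRing.of_surjective' _ Ideal.Quotient.mk_surjective
    rw [FlatDepth.depth_eq_of_surjective (A ⧸ I) (B := A ⧸ I) Ideal.Quotient.mk_surjective] at hd
    have hc := (Groth.Agent.S0335.result (A ⧸ I) hd).isPreconnected.image (PrimeSpectrum.comap (Ideal.Quotient.mk I))
      (PrimeSpectrum.continuous_comap (Ideal.Quotient.mk I)).continuousOn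
    convert hc using 1
    have hmax : (maximalIdeal (A ⧸ I)).comap (Ideal.Quotient.mk I) = maximalIdeal A :=
      IsLocalRing.eq_maximalIdeal (Ideal.comap_isMaximal_of_surjective _ Ideal.Quotient.mk_surjective)
    ext x
    constructor
    · intro hx
      have hIx : I ≤ x.asIdeal := hInil.trans (nilradical_le_prime _)
      obtain ⟨y, rfl⟩ : x ∈ Set.range (PrimeSpectrum.comap (Ideal.Quotient.mk I)) := by
        rw [range_comap_of_surjective _ _ Ideal.Quotient.mk_surjective, Ideal.mk_ker]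
        exact hIx
      exact ⟨y, fun hy => hx (by rw [PrimeSpectrum.comap_asIdeal, hy, hmax]), rfl⟩
    · rintro ⟨y, hy, rfl⟩ hx
      exact hy (Ideal.comap_injective_of_surjective (Ideal.Quotient.mk I) Ideal.Quotient.mk_surjective
        ((hx : Ideal.comap (Ideal.Quotient.mk I) y.asIdeal = maximalIdeal A).trans hmax.symm))
  · push Not at hq
    haveI hdom := h.resolve_left (fun ⟨q, hq'⟩ => hq' (hq q))
    haveI hp : mA.IsPrime := (Ideal.Quotient.isDomain_iff_prime _).1 hdom
    have hgen : ∀ P : PrimeSpectrum A, mA ≤ P.asIdeal := fun P =>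
      Ideal.map_le_iff_le_comap.2 (hq ⟨P.asIdeal.comap (algebraMap R A), inferInstance⟩).ge
    let η : PrimeSpectrum A := ⟨mA, hp⟩
    have hη : η.asIdeal ≠ maximalIdeal A := fun he =>
      hQ ((maximalIdeal.isMaximal A).eq_of_le ‹Q.IsPrime›.ne_top (he ▸ hQle : maximalIdeal A ≤ Q)).symm
    refine (isPreconnected_singleton (x := η)).subset_closure (Set.singleton_subset_iff.2 (show η ∈ {x : PrimeSpectrum A | x.asIdeal ≠ maximalIdeal A} from hη)) fun P _ => ?_
    exact specializes_iff_mem_closure.1 ((PrimeSpectrum.le_iff_specializes η P).1 (hgen P))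

theorem exists_generalization {T : Type u} [TopologicalSpace T] [NoetherianSpace T] [QuasiSober T]
    {O : Set T} (hO : IsOpen O) {w : T} (hw : w ∈ closure O) : ∃ z ∈ O, z ⤳ w := by
  let K : Set T := ⋃ c ∈ {c ∈ irreducibleComponents T | w ∉ c}, c
  have hK : IsClosed K := (NoetherianSpace.finite_irreducibleComponents.subset fun c hc => hc.1).isClosed_biUnion
    fun c hc => isClosed_of_mem_irreducibleComponents c hc.1
  obtain ⟨x, hxK, hxO⟩ := mem_closure_iff.1 hw Kᶜ hK.isOpen_compl fun hwK => by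
    obtain ⟨c, hc, hwc⟩ := Set.mem_iUnion₂.1 hwK
    exact hc.2 hwc
  have hc : irreducibleComponent x ∈ irreducibleComponents T := irreducibleComponent_mem_irreducibleComponents x
  have hwc : w ∈ irreducibleComponent x := by
    by_contra hwc
    exact hxK (Set.mem_iUnion₂.2 ⟨_, ⟨hc, hwc⟩, mem_irreducibleComponent⟩)
  obtain ⟨η, hη⟩ := QuasiSober.sober hc.1 isClosed_irreducibleComponent
  exact ⟨η, (hη.specializes mem_irreducibleComponent).mem_open hO hxO, hη.specializes hwc⟩

/-- A point in the closure of an open has a generization in it, on locally Noetherian schemes. -/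
theorem exists_generalization_scheme {W : Scheme.{u}} [IsLocallyNoetherian W] {O : Set W} (hO : IsOpen O)
    {w : W} (hw : w ∈ closure O) : ∃ z ∈ O, z ⤳ w := by
  obtain ⟨V, hV, hwV, -⟩ := exists_isAffineOpen_mem_and_subset (X := W) (x := w) (U := ⊤) trivial
  haveI : IsNoetherianRing Γ(W, V) := IsLocallyNoetherian.component_noetherian ⟨V, hV⟩
  let φ := hV.fromSpec
  obtain ⟨p, rfl⟩ : w ∈ Set.range φ := hV.range_fromSpec ▸ hwV
  haveI : NoetherianSpace (PrimeSpectrum Γ(W, V)) := inferInstance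
  obtain ⟨z, hz, hzp⟩ := exists_generalization (T := PrimeSpectrum Γ(W, V)) (hO.preimage φ.continuous) (w := p)
    (show p ∈ closure (⇑φ ⁻¹' O) from φ.isOpenEmbedding.isOpenMap.preimage_closure_eq_closure_preimage φ.continuous O ▸ hw)
  exact ⟨φ z, hz, hzp.map φ.continuous⟩

theorem exists_prime_ne_of_dim {B : Type u} [CommRing B] [IsLocalRing B] (h : (1 : WithBot ℕ∞) ≤ ringKrullDim B) :
    ∃ q : PrimeSpectrum B, q.asIdeal ≠ IsLocalRing.maximalIdeal B := by
  by_contra! hc
  haveI : Subsingleton (PrimeSpectrum B) := ⟨fun a b => PrimeSpectrum.ext ((hc a).trans (hc b).symm)⟩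
  have : ringKrullDim B = 0 := by
    rw [ringKrullDim]
    exact Order.krullDim_eq_zero
  rw [this] at h
  exact absurd h (by decide)

theorem fiber_isReduced {X S : Scheme.{u}} (f : X ⟶ S)
    (hsep : ∀ s : S, AlgebraicGeometry.geometrically (fun Z : Scheme.{u} => IsReduced Z) (f.fiberToSpecResidueField s))
    (s : S) : IsReduced (f.fiber s) :=
  hsep s (K := S.residueField s) (𝟙 _) (𝟙 _) (f.fiberToSpecResidueField s)
    (IsPullback.of_horiz_isIso ⟨by simp⟩)

theorem etale_fiberMap {W X S : Scheme.{u}} (h : W ⟶ X) [AlgebraicGeometry.Etale h] (f : X ⟶ S) (s : S) :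
    AlgebraicGeometry.Etale (CInt.fiberMap h f s) := by
  have sq : IsPullback ((h ≫ f).fiberι s) (CInt.fiberMap h f s) h (f.fiberι s) := by
    refine IsPullback.of_bot ?_ (pullback.lift_fst _ _ _).symm (IsPullback.of_hasPullback f (S.fromSpecResidueField s))
    rw [show CInt.fiberMap h f s ≫ pullback.snd f (S.fromSpecResidueField s) =
      pullback.snd (h ≫ f) (S.fromSpecResidueField s) from (pullback.lift_snd _ _ _).trans (Category.comp_id _)]
    exact IsPullback.of_hasPullback (h ≫ f) (S.fromSpecResidueField s)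
  exact MorphismProperty.of_isPullback sq inferInstance

theorem isReduced_fiber_comp {W X S : Scheme.{u}} (h : W ⟶ X) [AlgebraicGeometry.Etale h] (f : X ⟶ S)
    (hsep : ∀ s : S, AlgebraicGeometry.geometrically (fun Z : Scheme.{u} => IsReduced Z) (f.fiberToSpecResidueField s))
    (s : S) : IsReduced ((h ≫ f).fiber s) := by
  haveI := fiber_isReduced f hsep s
  haveI := etale_fiberMap h f s
  exact AlgSpDescent.isReduced_up (CInt.fiberMap h f s) inferInstance inferInstance

theorem isDomain_fiberStalk_comp {W X S : Scheme.{u}} (h : W ⟶ X) [AlgebraicGeometry.Etale h] (f : X ⟶ S)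
    (hsep : ∀ s : S, AlgebraicGeometry.geometrically (fun Z : Scheme.{u} => IsReduced Z) (f.fiberToSpecResidueField s))
    (w : W) (hu : CAlg2.IsGeomUnibranch ↑(CInt.fiberStalk f (h w))) : IsDomain ↑(CInt.fiberStalk (h ≫ f) w) := by
  haveI := fiber_isReduced f hsep (f (h w))
  haveI := etale_fiberMap h f (f (h w))
  let φ := CInt.fiberMap h f (f (h w))
  let z : (h ≫ f).fiber (f (h w)) := (h ≫ f).asFiber w
  have hz : φ z = f.asFiber (h w) := by
    apply (f.fiberι (f (h w))).isEmbedding.injective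
    rw [Scheme.Hom.fiberι_asFiber, ← Scheme.Hom.comp_apply]
    erw [show φ ≫ f.fiberι (f (h w)) = (h ≫ f).fiberι (f (h w)) ≫ h from pullback.lift_fst _ _ _]
    rw [Scheme.Hom.comp_apply]
    exact congrArg h ((h ≫ f).fiberι_asFiber w)
  have hu : CAlg2.IsGeomUnibranch ↑((f.fiber (f (h w))).presheaf.stalk (φ z)) := by
    have key : ∀ z', z' = f.asFiber (h w) → CAlg2.IsGeomUnibranch ↑((f.fiber (f (h w))).presheaf.stalk z') := by
      rintro _ rfl
      exact hu
    exact key _ hz
  haveI := hu.1.1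
  haveI : (nilradical ((f.fiber (f (h w))).presheaf.stalk (φ z))).IsPrime :=
    (Ideal.Quotient.isDomain_iff_prime _).1 hu.1.1
  have hb : (⊥ : Ideal ((f.fiber (f (h w))).presheaf.stalk (φ z))).IsPrime := by
    rw [show (⊥ : Ideal ((f.fiber (f (h w))).presheaf.stalk (φ z))) = nilradical _ from (nilradical_eq_zero (R := (f.fiber (f (h w))).presheaf.stalk (φ z))).symm]
    infer_instance
  haveI : IsDomain ((f.fiber (f (h w))).presheaf.stalk (φ z)) := IsDomain.of_bot_isPrime _
  exact (Groth.Agent.S2754.result φ z inferInstance hu ⟨⊤, trivial, inferInstance⟩).1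

open IsLocalRing in
theorem stalk_punctured {W X S : Scheme.{u}} [IsLocallyNoetherian X] [IsLocallyNoetherian S] (f : X ⟶ S) [Flat f]
    (hsep : ∀ s : S, AlgebraicGeometry.geometrically (fun Z : Scheme.{u} => IsReduced Z) (f.fiberToSpecResidueField s))
    (h : W ⟶ X) [AlgebraicGeometry.Etale h] (w : W)
    (hd : (1 : WithBot ℕ∞) ≤ ringKrullDim ↑(CInt.fiberStalk f (h w))) :
    (∃ q : PrimeSpectrum (W.presheaf.stalk w), q.asIdeal ≠ maximalIdeal _) ∧
      (((∃ z : S, z ⤳ f (h w) ∧ z ≠ f (h w)) ∨ CAlg2.IsGeomUnibranch ↑(CInt.fiberStalk f (h w))) →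
        _root_.IsPreconnected {x : PrimeSpectrum (W.presheaf.stalk w) | x.asIdeal ≠ maximalIdeal _}) := by
  haveI : IsLocallyNoetherian W := LocallyOfFiniteType.isLocallyNoetherian h
  let R := S.presheaf.stalk (f (h w))
  let B := X.presheaf.stalk (h w)
  let A := W.presheaf.stalk w
  letI : Algebra R B := (f.stalkMap (h w)).hom.toAlgebra
  letI : Algebra B A := (h.stalkMap w).hom.toAlgebra
  letI : Algebra R A := ((h ≫ f).stalkMap w).hom.toAlgebra
  haveI : IsLocalHom (algebraMap B A) := h.toLRSHom.prop w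
  haveI : IsLocalHom (algebraMap R A) := (h ≫ f).toLRSHom.prop w
  haveI : Module.Flat B A := Flat.stalkMap h w
  haveI : Module.Flat R A := Flat.stalkMap (h ≫ f) w
  haveI : Module.FaithfullyFlat B A := Module.FaithfullyFlat.of_flat_of_isLocalHom
  have htow : algebraMap R A = (algebraMap B A).comp (algebraMap R B) := by
    change ((h ≫ f).stalkMap w).hom = _
    rw [Scheme.Hom.stalkMap_comp]
    rfl
  obtain ⟨eX⟩ := FlatDepth.nonempty_fiberStalkEquiv f (h w)
  obtain ⟨eW⟩ := FlatDepth.nonempty_fiberStalkEquiv (h ≫ f) w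
  haveI := eX.toEquiv.nontrivial
  haveI : IsLocalRing (B ⧸ (maximalIdeal R).map (algebraMap R B)) := IsLocalRing.of_surjective' _ Ideal.Quotient.mk_surjective
  obtain ⟨q₀, hq₀⟩ := exists_prime_ne_of_dim (B := B ⧸ (maximalIdeal R).map (algebraMap R B))
    (hd.trans_eq (ringKrullDim_eq_of_ringEquiv eX).symm)
  let q₁ := PrimeSpectrum.comap (Ideal.Quotient.mk ((maximalIdeal R).map (algebraMap R B))) q₀
  obtain ⟨Q, hQ⟩ := PrimeSpectrum.comap_surjective_of_faithfullyFlat (A := B) (B := A) q₁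
  have hQ' : Q.asIdeal.comap (algebraMap B A) = q₀.asIdeal.comap (Ideal.Quotient.mk _) := congrArg PrimeSpectrum.asIdeal hQ
  have hQle : (maximalIdeal R).map (algebraMap R A) ≤ Q.asIdeal := by
    rw [htow, ← Ideal.map_map, Ideal.map_le_iff_le_comap, hQ']
    exact fun x hx => Ideal.mem_comap.2 (by rw [Ideal.Quotient.eq_zero_iff_mem.2 hx]; exact zero_mem _)
  have hQne : Q.asIdeal ≠ maximalIdeal A := fun he => hq₀ (Ideal.comap_injective_of_surjective _
    Ideal.Quotient.mk_surjective (hQ'.symm.trans (by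
      rw [he, IsLocalRing.maximalIdeal_comap (algebraMap B A)]
      exact (IsLocalRing.eq_maximalIdeal (Ideal.comap_isMaximal_of_surjective _ Ideal.Quotient.mk_surjective)).symm)))
  refine ⟨⟨Q, hQne⟩, fun hab => ?_⟩
  haveI := isReduced_fiber_comp h f hsep (f (h w))
  have hred : _root_.IsReduced (A ⧸ (maximalIdeal R).map (algebraMap R A)) := by
    haveI : _root_.IsReduced ↑(CInt.fiberStalk (h ≫ f) w) :=
      inferInstanceAs (_root_.IsReduced (((h ≫ f).fiber (f (h w))).presheaf.stalk ((h ≫ f).asFiber w)))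
    exact isReduced_of_injective eW.toRingHom eW.injective
  refine isPreconnected_punctured hred hQle hQne ?_
  rcases hab with ⟨z, hz, hne⟩ | hu
  · left
    obtain ⟨q, rfl⟩ : z ∈ Set.range (S.fromSpecStalk (f (h w))) := Scheme.range_fromSpecStalk.ge hz
    refine ⟨q, fun hq => hne ?_⟩
    rw [show q = closedPoint R from PrimeSpectrum.ext hq]
    exact Scheme.fromSpecStalk_closedPoint
  · right
    haveI := isDomain_fiberStalk_comp h f hsep w hu
    exact eW.injective.isDomain _

theorem extends_of_local {X U : Scheme.{u}} (j : U ⟶ X) [IsOpenImmersion j] (W : X.Etale) [IsLocallyNoetherian W.left]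
    (hp : ∀ w : W.left, W.hom w ∉ Set.range j →
      _root_.IsPreconnected {x : PrimeSpectrum (W.left.presheaf.stalk w) | x.asIdeal ≠ IsLocalRing.maximalIdeal _})
    (hV : Dense (W.hom ⁻¹' Set.range j)) : BCInj6.Extends j W := by
  intro C hC
  let t := BCInj6.trace j W
  have ht := BCInj6.isOpenEmbedding_trace j W
  let C₁ := t.left '' C
  let C₂ := t.left '' Cᶜ
  have h₁ : IsOpen C₁ := ht.isOpenMap _ hC.isOpen
  have h₂ : IsOpen C₂ := ht.isOpenMap _ hC.compl.isOpen
  have hd : Disjoint C₁ C₂ := Set.disjoint_image_of_injective ht.injective disjoint_compl_right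
  have hu : C₁ ∪ C₂ = W.hom ⁻¹' Set.range j := by
    rw [← Set.image_union, Set.union_compl_self, Set.image_univ, BCInj6.range_trace]
  have huniv : closure C₁ ∪ closure C₂ = Set.univ := by rw [← closure_union, hu, hV.closure_eq]
  have hZ : Disjoint (closure C₁) (closure C₂) := by
    rw [Set.disjoint_iff_inter_eq_empty]
    by_contra hne
    obtain ⟨z₀, hz₀⟩ := Set.nonempty_iff_ne_empty.2 hne
    let Z := closure C₁ ∩ closure C₂
    let ψ := W.left.fromSpecStalk z₀
    obtain ⟨J, hJ⟩ := (PrimeSpectrum.isClosed_iff_zeroLocus_ideal _).1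
      ((isClosed_closure.inter isClosed_closure).preimage ψ.continuous : IsClosed (ψ ⁻¹' Z))
    obtain ⟨P, hP, -⟩ := Ideal.exists_minimalPrimes_le (I := J) (J := IsLocalRing.maximalIdeal _) (by
      have : IsLocalRing.closedPoint (W.left.presheaf.stalk z₀) ∈ ψ ⁻¹' Z := by
        rw [Set.mem_preimage]
        erw [Scheme.fromSpecStalk_closedPoint]
        exact hz₀
      rw [hJ] at this
      exact this)
    let w := ψ (⟨P, hP.1.1⟩ : PrimeSpectrum _)
    have hwZ : w ∈ Z := (hJ.ge (show (⟨P, hP.1.1⟩ : PrimeSpectrum _) ∈ PrimeSpectrum.zeroLocus (J : Set _) from hP.1.2) :)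
    have hwmin : ∀ z ∈ Z, z ⤳ w → z = w := fun z hz hzw => by
      obtain ⟨P', rfl⟩ : z ∈ Set.range ψ := Scheme.range_fromSpecStalk.ge
        (hzw.trans (Scheme.range_fromSpecStalk.le ⟨_, rfl⟩ : w ⤳ z₀))
      have hle : P'.asIdeal ≤ P :=
        (PrimeSpectrum.le_iff_specializes P' ⟨P, hP.1.1⟩).2 (ψ.isEmbedding.isInducing.specializes_iff.1 hzw)
      exact congrArg ψ (PrimeSpectrum.ext (le_antisymm hle (hP.2 ⟨P'.2, hJ.le hz⟩ hle)))
    have hwV : W.hom w ∉ Set.range j := fun hwV => by
      rcases (hu.ge hwV : w ∈ C₁ ∪ C₂) with h | h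
      · exact Set.disjoint_left.1 (hd.closure_right h₁) h hwZ.2
      · exact Set.disjoint_left.1 (hd.closure_left h₂) hwZ.1 h
    let φ := W.left.fromSpecStalk w
    obtain ⟨a, ha, haw⟩ := exists_generalization_scheme h₁ hwZ.1
    obtain ⟨b, hb, hbw⟩ := exists_generalization_scheme h₂ hwZ.2
    obtain ⟨a', rfl⟩ : a ∈ Set.range φ := Scheme.range_fromSpecStalk.ge haw
    obtain ⟨b', rfl⟩ : b ∈ Set.range φ := Scheme.range_fromSpecStalk.ge hbw
    have hclo : φ (IsLocalRing.closedPoint (W.left.presheaf.stalk w)) = w := Scheme.fromSpecStalk_closedPoint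
    have hmem : ∀ x : PrimeSpectrum (W.left.presheaf.stalk w), φ x ∈ W.hom ⁻¹' Set.range j →
        x.asIdeal ≠ IsLocalRing.maximalIdeal _ := fun x hx he => by
      rw [show x = IsLocalRing.closedPoint _ from PrimeSpectrum.ext he, hclo] at hx
      exact hwV hx
    obtain ⟨x, hx, hxZ⟩ := isPreconnected_closed_iff.1 (hp w hwV) (φ ⁻¹' closure C₁) (φ ⁻¹' closure C₂)
      (isClosed_closure.preimage φ.continuous) (isClosed_closure.preimage φ.continuous)
      (fun x _ => (huniv.ge trivial : φ x ∈ _))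
      ⟨a', ⟨hmem a' (hu.le (Or.inl ha)), (subset_closure ha : φ a' ∈ closure C₁)⟩⟩
      ⟨b', ⟨hmem b' (hu.le (Or.inr hb)), (subset_closure hb : φ b' ∈ closure C₂)⟩⟩
    have hxw : φ x = w := hwmin _ hxZ (Scheme.range_fromSpecStalk.le ⟨x, rfl⟩)
    exact hx (congrArg PrimeSpectrum.asIdeal (φ.isEmbedding.injective (hxw.trans hclo.symm)) :)
  have hcompl : (closure C₁)ᶜ = closure C₂ := ((isCompl_iff.2 ⟨hZ, codisjoint_iff.2 huniv⟩).compl_eq)
  refine ⟨closure C₁, ⟨isClosed_closure, ?_⟩, ?_⟩
  · rw [← isClosed_compl_iff, hcompl]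
    exact isClosed_closure
  · ext x
    refine ⟨fun hx => ?_, fun hx => subset_closure ⟨x, hx, rfl⟩⟩
    by_contra hxC
    exact Set.disjoint_left.1 hZ hx (subset_closure ⟨x, hxC, rfl⟩)

/-- Let f : X → S be a flat morphism of locally Noetherian schemes with separable (geometrically
reduced) fibres, j : U → X an open immersion with closed complement Y, and assume Y_s is nowhere
dense in X_s for every s, i.e. the local ring of the fibre at every point of Y has dimension ≥ 1.
Assume moreover either (a) the closure of f(Y) is nowhere dense in S, or (b) for every y ∈ Y the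
fibre X_{f(y)} is geometrically unibranch at y. Then the Y-étale depth of X is ≥ 2: for every prime
ℓ the local cohomology sheaves H^0_Y and H^1_Y of the constant sheaf Z/ℓ vanish. -/
theorem result {X U S : Scheme.{u}} [IsLocallyNoetherian X] [IsLocallyNoetherian S] (f : X ⟶ S) [Flat f] (hsep : ∀ s : S, AlgebraicGeometry.geometrically (fun Z : Scheme.{u} => IsReduced Z) (f.fiberToSpecResidueField s)) (j : U ⟶ X) [IsOpenImmersion j] [EtCoh.BCCont j] (hY : ∀ y : X, y ∉ Set.range j.base → (1 : WithBot ℕ∞) ≤ ringKrullDim ↑(CInt.fiberStalk f y)) (hab : IsNowhereDense (f.base '' (Set.range j.base)ᶜ) ∨ ∀ y : X, y ∉ Set.range j.base → CAlg2.IsGeomUnibranch ↑(CInt.fiberStalk f y)) (ℓ : ℕ) (hℓ : ℓ.Prime) : EtDepth.DepthGE j (EtCoh.const X (ZMod ℓ)) 2 := by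
  haveI : Fact (1 < ℓ) := ⟨hℓ.one_lt⟩
  refine (BCInj6.depthGE_two_iff j _).2 fun W => ?_
  haveI : AlgebraicGeometry.Etale W.hom := W.prop
  let Wl : Scheme.{u} := W.left
  let hW : Wl ⟶ X := W.hom
  haveI : AlgebraicGeometry.Etale hW := W.prop
  haveI : IsLocallyNoetherian W.left := (LocallyOfFiniteType.isLocallyNoetherian hW : IsLocallyNoetherian Wl)
  have hdense : Dense (W.hom ⁻¹' Set.range j) := by
    refine dense_iff_inter_open.2 fun O hO ⟨z₀, hz₀⟩ => ?_
    obtain ⟨P, hP⟩ := Ideal.nonempty_minimalPrimes (I := (⊥ : Ideal (W.left.presheaf.stalk z₀))) bot_ne_top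
    let η := W.left.fromSpecStalk z₀ (⟨P, hP.1.1⟩ : PrimeSpectrum _)
    have hη : η ⤳ z₀ := Scheme.range_fromSpecStalk.le ⟨_, rfl⟩
    refine ⟨η, hη.mem_open hO hz₀, ?_⟩
    by_contra hηV
    obtain ⟨q, hq⟩ := (stalk_punctured f hsep W.hom η (hY _ hηV)).1
    let z := W.left.fromSpecStalk η q
    have hz : z ⤳ η := Scheme.range_fromSpecStalk.le ⟨q, rfl⟩
    refine hq (congrArg PrimeSpectrum.asIdeal ((W.left.fromSpecStalk η).isEmbedding.injective
      (show z = W.left.fromSpecStalk η (IsLocalRing.closedPoint _) from ?_)) :)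
    refine Eq.trans ?_ Scheme.fromSpecStalk_closedPoint.symm
    obtain ⟨P', hP'⟩ : z ∈ Set.range (W.left.fromSpecStalk z₀) := Scheme.range_fromSpecStalk.ge (hz.trans hη)
    have hle : P'.asIdeal ≤ P := (PrimeSpectrum.le_iff_specializes P' ⟨P, hP.1.1⟩).2
      ((W.left.fromSpecStalk z₀).isEmbedding.isInducing.specializes_iff.1 (by rw [hP']; exact hz))
    rw [← hP']
    exact congrArg (W.left.fromSpecStalk z₀) (PrimeSpectrum.ext (le_antisymm hle (hP.2 ⟨P'.2, bot_le⟩ hle)))
  have hmeets : BCInj6.Meets j W := fun S hS hne => hdense.inter_open_nonempty S hS.isOpen hne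
  refine ⟨(BCInj6.injective_trace_iff j ℓ W).2 hmeets,
    (BCInj6.surjective_trace_iff j ℓ W hmeets).2 (extends_of_local j W (fun w hw => ?_) hdense)⟩
  refine (stalk_punctured f hsep W.hom w (hY _ hw)).2 ?_
  rcases hab with ha | hb
  · left
    by_contra! hc
    let s := f (W.hom w)
    have hnot : s ∉ closure ((closure {s})ᶜ : Set S) := fun hs => by
      obtain ⟨z, hz, hzs⟩ := exists_generalization_scheme isClosed_closure.isOpen_compl hs
      exact hz (hc z hzs ▸ subset_closure rfl)
    have hsub : closure {s} ⊆ closure (f.base '' (Set.range j.base)ᶜ) :=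
      closure_mono (Set.singleton_subset_iff.2 ⟨W.hom w, hw, rfl⟩)
    have hmem : s ∈ interior (closure (f.base '' (Set.range j.base)ᶜ)) := by
      refine mem_interior.2 ⟨(closure ((closure {s})ᶜ))ᶜ, fun z hz => hsub ?_, isClosed_closure.isOpen_compl, hnot⟩
      by_contra hzs
      exact hz (subset_closure hzs)
    exact (Set.eq_empty_iff_forall_notMem.1 ha s) hmem
  · exact Or.inr (hb _ hw)

end Groth.Agent.S3377
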