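import Groth.Statements.S3378
import Groth.Agent.Lib.FormalColim28.GrFreePunct

set_option autoImplicit false
universe u
open CategoryTheory CategoryTheory.Limits AlgebraicGeometry
open LefX

namespace Groth.Agent.S3378

/-- Let A be a Noetherian local ring, J a proper ideal with (i) depth A/J ≥ 3, (ii) every J^n/J^(n+1)
free over A/J, (iii) A separated and complete for the J-adic topology. Let U be the punctured
spectrum of A and U_0 = U ∩ V(J), the closed subscheme of U defined by J. Then (a) U and U_0 are
connected and restriction of finite étale covers from U to U_0 is fully faithful (π₁(U_0) → π₁(U) is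
surjective), and (b) the pull-back map Pic(U) → Pic(U_0) has trivial kernel. -/
theorem result (A : Type u) [CommRing A] [IsLocalRing A] [IsNoetherianRing A] (J : Ideal A) (hJ : J ≠ ⊤) [IsLocalRing (A ⧸ J)] (hd : (3 : ℕ∞) ≤ LocCoh.depth (A ⧸ J) (A ⧸ J)) (hgr : ∀ n : ℕ, Module.Free (A ⧸ J) (↥(J ^ n) ⧸ (J • (⊤ : Submodule A ↥(J ^ n))))) [IsAdicComplete J A] : (ConnectedSpace ↥(FEt.puncturedSpec A) ∧ ConnectedSpace ↥(((Spec.map (CommRingCat.ofHom (Ideal.Quotient.mk J))).ker.comap (FEt.puncturedSpec A).ι).subscheme) ∧ (FEt.restrict ((Spec.map (CommRingCat.ofHom (Ideal.Quotient.mk J))).ker.comap (FEt.puncturedSpec A).ι).subschemeι).Full ∧ (FEt.restrict ((Spec.map (CommRingCat.ofHom (Ideal.Quotient.mk J))).ker.comap (FEt.puncturedSpec A).ι).subschemeι).Faithful) ∧ Formal2.PicPullbackInjective ((Spec.map (CommRingCat.ofHom (Ideal.Quotient.mk J))).ker.comap (FEt.puncturedSpec A).ι).subschemeι := by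
  exact Groth.Agent.GrFreePunct28.punctured_main J (FEt.puncturedSpec A)
    Groth.Agent.ParaGr27.puncturedOpen_maximalIdeal.symm hJ (Groth.Agent.ParaGr27.grFree_of_free hgr) hd

end Groth.Agent.S3378
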