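import Groth.Statements.S3386
import Groth.Agent.Lib.AffChart4
import Groth.Agent.Lib.VarDim.Irred
import Groth.Agent.Lib.CMChart4

set_option autoImplicit false
open CategoryTheory AlgebraicGeometry
universe u
open EGA43

set_option backward.isDefEq.respectTransparency.types false

namespace Groth.Agent.S3386


open FibDim14 in
theorem map_generic {A B : Scheme.{u}} (g : A ⟶ B) (t : A) :
    closure (g.base '' closure {t}) = closure {g t} := by
  exact (closure_image_closure g.continuous).trans (by rw [Set.image_singleton])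

open FibDim14 in
theorem rd_of_component_dim {A B : Scheme.{u}} (f : A ⟶ B) [LocallyOfFiniteType f] {e : ℕ}
    (h : ∀ a : A, ∀ Z ∈ irreducibleComponents (↥(f.fiber (f a)) : Type u), topologicalKrullDim (↥Z : Type u) = e)
    {w : A} (hw : IsMaxFib f w) : rd f w = e := by
  have hz := (isMaxFib_fiberι f (f w) (f.asFiber w)).1 (by rwa [f.fiberι_asFiber])
  have h1 := h w _ ((VarDim.maximal_iff_mem_irreducibleComponents (X := f.fiber (f w)) _).1 hz)
  rw [VarDim.dim_closure_singleton (toPt f (f w)), ← rd_fiberι, f.fiberι_asFiber] at h1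
  exact_mod_cast h1


open CategoryTheory.Limits in
/-- Conditions a) and b): let f : X ⟶ Y be locally of finite type and fix a point x of X. Condition a)
is equidimensionality of f at x (the definition used here); condition b): there are a natural number
e, an open neighbourhood U of x and a Y-morphism g from U to the affine space of dimension e over Y
which is locally quasi-finite and sends the generic point of every irreducible component of U to the
generic point of an irreducible component of the affine space. Then a) implies b); and b) implies a)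
when Y is locally Noetherian. (The source states the equivalence over an arbitrary base; the
implication b) ⟹ a) uses that irreducible components are locally finite and fails without some such
hypothesis.) -/
theorem result {X Y : Scheme.{u}}
    (f : X ⟶ Y) [LocallyOfFiniteType f] (x : X) :
    (EGA43.IsEquidimAt f x → (∃ (e : ℕ) (U : X.Opens) (g : (U : Scheme.{u}) ⟶ 𝔸(ULift.{u} (Fin e); Y)),
        x ∈ U ∧ g ≫ (𝔸(ULift.{u} (Fin e); Y) ↘ Y) = U.ι ≫ f ∧ LocallyQuasiFinite g ∧
        ∀ Z ∈ irreducibleComponents (↥U : Type u),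
          closure (g.base '' Z) ∈ irreducibleComponents (↥𝔸(ULift.{u} (Fin e); Y) : Type u))) ∧
    (IsLocallyNoetherian Y → (∃ (e : ℕ) (U : X.Opens) (g : (U : Scheme.{u}) ⟶ 𝔸(ULift.{u} (Fin e); Y)),
        x ∈ U ∧ g ≫ (𝔸(ULift.{u} (Fin e); Y) ↘ Y) = U.ι ≫ f ∧ LocallyQuasiFinite g ∧
        ∀ Z ∈ irreducibleComponents (↥U : Type u),
          closure (g.base '' Z) ∈ irreducibleComponents (↥𝔸(ULift.{u} (Fin e); Y) : Type u)) → EGA43.IsEquidimAt f x) := by
  constructor
  · rintro ⟨e, U, hxU, hcomp, hdim⟩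
    have hrd : ∀ {w : (U : Scheme.{u})}, FibDim14.IsMaxFib (U.ι ≫ f) w → FibDim14.rd (U.ι ≫ f) w = e :=
      fun hw => rd_of_component_dim (U.ι ≫ f) hdim hw
    have hx : FlatMor.fibreDimAt f x = (e : WithBot ℕ∞) := by
      obtain ⟨w, -, -, hw, hd⟩ := FibGen4.exists_isMaxFib (U.ι ≫ f) ⟨x, hxU⟩
      rw [FibGen4.fibreDimAt_eq_rd_of_isMaxFib _ hw, hrd hw, FibDim14.fibreDimAt_etale_comp] at hd
      exact hd.symm
    obtain ⟨W, g, hxW, hg, hlqf⟩ := AffChart4.exists_lqf_toAffineSpace f hx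
    let U' : X.Opens := U ⊓ W
    let g' : (U' : Scheme.{u}) ⟶ 𝔸(ULift.{u} (Fin e); Y) := X.homOfLE (inf_le_right : U' ≤ W) ≫ g
    have hg' : g' ≫ (𝔸(ULift.{u} (Fin e); Y) ↘ Y) = U'.ι ≫ f := by
      simp only [g', Category.assoc, hg, Scheme.homOfLE_ι_assoc]
    haveI : LocallyQuasiFinite g' := inferInstance
    refine ⟨e, U', g', ⟨hxU, hxW⟩, hg', inferInstance, fun Z hZ => ?_⟩
    obtain ⟨t, rfl, ht⟩ := VarDim.exists_generic_of_mem_irreducibleComponents (X := (U' : Scheme.{u})) hZ
    rw [map_generic]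
    let i : (U' : Scheme.{u}) ⟶ (U : Scheme.{u}) := X.homOfLE inf_le_left
    have hiι : U.ι (i t) = U'.ι t := by
      rw [← Scheme.Hom.comp_apply, Scheme.homOfLE_ι]
    have htU : ∀ y, y ⤳ i t → y = i t := by
      intro y hy
      have hsp : U.ι y ⤳ U'.ι t := by rw [← hiι]; exact hy.map U.ι.continuous
      have hmem : U.ι y ∈ U' := hsp.mem_open U'.2 t.2
      have h1 := ht ⟨_, hmem⟩ ((subtype_specializes_iff _ _).2 hsp)
      exact U.ι.isOpenEmbedding.injective ((congrArg U'.ι h1).trans hiι.symm)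
    obtain ⟨T, hT, -, hTeq⟩ := hcomp _ ((VarDim.maximal_iff_mem_irreducibleComponents (X := (U : Scheme.{u})) (i t)).1 htU)
    rw [map_generic] at hTeq
    subst hTeq
    have hη : ∀ y, y ⤳ (U.ι ≫ f) (i t) → y = (U.ι ≫ f) (i t) :=
      (VarDim.maximal_iff_mem_irreducibleComponents (X := Y) _).2 hT
    have hpt : (𝔸(ULift.{u} (Fin e); Y) ↘ Y) (g' t) = (U.ι ≫ f) (i t) := by
      rw [← Scheme.Hom.comp_apply, hg', Scheme.Hom.comp_apply, Scheme.Hom.comp_apply, hiι]
    have h1 : FibDim14.rd (U'.ι ≫ f) t = e := by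
      have h2 := FibDim14.rd_comp i (U.ι ≫ f) t
      rw [hrd (fun y hy _ => htU y hy), FibDim14.rd_of_surjectiveOnStalks i, add_zero] at h2
      simp only [i, Scheme.homOfLE_ι_assoc] at h2
      exact h2
    haveI : LocallyOfFiniteType g' := by
      haveI : LocallyOfFiniteType (g' ≫ (𝔸(ULift.{u} (Fin e); Y) ↘ Y)) := hg' ▸ inferInstance
      exact locallyOfFiniteType_of_comp g' (𝔸(ULift.{u} (Fin e); Y) ↘ Y)
    simp only [← hg'] at h1
    rw [FibDim14.rd_comp, AffChart4.rd_eq_zero_of_lqf g', add_zero] at h1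
    have hmax := AffChart4.isMaxFib_of_rd_eq _ (fun y => (AffChart4.fibreDimAt_affineSpace_over Y e y).le) h1
    refine (VarDim.maximal_iff_mem_irreducibleComponents (X := 𝔸(ULift.{u} (Fin e); Y)) (g' t)).1 fun y hy => ?_
    refine hmax y hy ?_
    rw [hpt]
    exact hη _ (hpt ▸ hy.map (𝔸(ULift.{u} (Fin e); Y) ↘ Y).continuous)
  · intro hY
    rintro ⟨e, U, g, hxU, hg, hlqf, hgen⟩
    haveI := hY
    obtain ⟨V, hV, hyV, -⟩ := exists_isAffineOpen_mem_and_subset (U := (⊤ : Y.Opens)) (x := f x) trivial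
    haveI : IsAffine (V : Scheme.{u}) := hV
    haveI : IsNoetherian (V : Scheme.{u}) := ⟨⟩
    have hfin := TopologicalSpace.NoetherianSpace.finite_irreducibleComponents (α := (V : Scheme.{u}))
    let bad := {T ∈ irreducibleComponents (V : Scheme.{u}) | (⟨f x, hyV⟩ : (V : Scheme.{u})) ∉ T}
    have hbad : IsClosed (⋃ T ∈ bad, T) :=
      (hfin.subset fun T hT => hT.1).isClosed_biUnion fun T hT => isClosed_of_mem_irreducibleComponents T hT.1
    let V' : Y.Opens := V.ι ''ᵁ ⟨(⋃ T ∈ bad, T)ᶜ, hbad.isOpen_compl⟩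
    have hyV' : f x ∈ V' := ⟨⟨f x, hyV⟩, fun h => by
      obtain ⟨T, hT, hxT⟩ := Set.mem_iUnion₂.1 h
      exact hT.2 hxT, rfl⟩
    let U' : X.Opens := U ⊓ f ⁻¹ᵁ V'
    let g' : (U' : Scheme.{u}) ⟶ 𝔸(ULift.{u} (Fin e); Y) := X.homOfLE (inf_le_left : U' ≤ U) ≫ g
    have hg' : g' ≫ (𝔸(ULift.{u} (Fin e); Y) ↘ Y) = U'.ι ≫ f := by
      simp only [g', Category.assoc, hg, Scheme.homOfLE_ι_assoc]
    haveI : LocallyQuasiFinite g' := inferInstance
    haveI : LocallyOfFiniteType g' := by
      haveI : LocallyOfFiniteType (g' ≫ (𝔸(ULift.{u} (Fin e); Y) ↘ Y)) := hg' ▸ inferInstance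
      exact locallyOfFiniteType_of_comp g' (𝔸(ULift.{u} (Fin e); Y) ↘ Y)
    have hgent : ∀ t : (U' : Scheme.{u}), (∀ y, y ⤳ t → y = t) →
        (∀ y, y ⤳ (U'.ι ≫ f) t → y = (U'.ι ≫ f) t) ∧ FibDim14.rd (U'.ι ≫ f) t = e := by
      intro t ht
      let i : (U' : Scheme.{u}) ⟶ (U : Scheme.{u}) := X.homOfLE inf_le_left
      have hiι : U.ι (i t) = U'.ι t := by rw [← Scheme.Hom.comp_apply, Scheme.homOfLE_ι]
      have htU : ∀ y, y ⤳ i t → y = i t := by
        intro y hy
        have hsp : U.ι y ⤳ U'.ι t := by rw [← hiι]; exact hy.map U.ι.continuous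
        have hmem : U.ι y ∈ U' := hsp.mem_open U'.2 t.2
        have h1 := ht ⟨_, hmem⟩ ((subtype_specializes_iff _ _).2 hsp)
        exact U.ι.isOpenEmbedding.injective ((congrArg U'.ι h1).trans hiι.symm)
      have hc := hgen _ ((VarDim.maximal_iff_mem_irreducibleComponents (X := (U : Scheme.{u})) (i t)).1 htU)
      rw [map_generic] at hc
      have hp : ∀ y, y ⤳ g' t → y = g' t :=
        (VarDim.maximal_iff_mem_irreducibleComponents (X := 𝔸(ULift.{u} (Fin e); Y)) (g' t)).2 hc
      refine ⟨fun y hy => ?_, ?_⟩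
      · haveI : Flat (𝔸(ULift.{u} (Fin e); Y) ↘ Y) := inferInstance
        simp only [← hg', Scheme.Hom.comp_apply] at hy ⊢
        obtain ⟨p, hp1, hp2⟩ := Flat.generalizingMap (𝔸(ULift.{u} (Fin e); Y) ↘ Y) hy
        rw [← hp2, hp p hp1]
      · simp only [← hg']
        rw [FibDim14.rd_comp, AffChart4.rd_eq_zero_of_lqf g', add_zero]
        have h2 := FibGen4.fibreDimAt_eq_rd_of_isMaxFib (𝔸(ULift.{u} (Fin e); Y) ↘ Y) (x := g' t)
          (fun y hy _ => hp y hy)
        rw [AffChart4.fibreDimAt_affineSpace_over] at h2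
        exact_mod_cast h2.symm
    refine ⟨e, U', ⟨hxU, hyV'⟩, fun Z hZ => ?_, fun a Z hZ => ?_⟩
    · obtain ⟨t, rfl, ht⟩ := VarDim.exists_generic_of_mem_irreducibleComponents (X := (U' : Scheme.{u})) hZ
      obtain ⟨hmax, -⟩ := hgent t ht
      refine ⟨closure {(U'.ι ≫ f) t}, (VarDim.maximal_iff_mem_irreducibleComponents (X := Y) _).1 hmax, ?_,
        map_generic (U'.ι ≫ f) t⟩
      obtain ⟨v, hv, hvg⟩ := t.2.2
      have hvg : V.ι v = (U'.ι ≫ f) t := hvg
      have hvmax : closure {v} ∈ irreducibleComponents (V : Scheme.{u}) :=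
        (VarDim.maximal_iff_mem_irreducibleComponents (X := (V : Scheme.{u})) v).1 fun w hw =>
          V.ι.isOpenEmbedding.injective ((hmax _ (hvg ▸ hw.map V.ι.continuous)).trans hvg.symm)
      have hmem : (⟨f x, hyV⟩ : (V : Scheme.{u})) ∈ closure {v} := by
        by_contra hn
        exact hv (Set.mem_biUnion (⟨hvmax, hn⟩ : closure {v} ∈ bad) (subset_closure rfl))
      have := ((specializes_iff_mem_closure.2 hmem).map V.ι.continuous).mem_closure
      rw [hvg] at this
      exact this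
    · obtain ⟨z, rfl, hz⟩ := VarDim.exists_generic_of_mem_irreducibleComponents hZ
      let s := (U'.ι ≫ f) a
      let w := (U'.ι ≫ f).fiberι s z
      have hmax : FibDim14.IsMaxFib (U'.ι ≫ f) w := (FibDim14.isMaxFib_fiberι (U'.ι ≫ f) s z).2 hz
      have hup : FlatMor.fibreDimAt (U'.ι ≫ f) w ≤ (e : WithBot ℕ∞) := by
        simp only [← hg']
        refine (FibDim14.fibreDimAt_comp_le g' _ w).trans (le_of_eq ?_)
        rw [FibDim14.fibreDimAt_eq_zero g', zero_add, AffChart4.fibreDimAt_affineSpace_over]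
      rw [FibGen4.fibreDimAt_eq_rd_of_isMaxFib (U'.ι ≫ f) hmax] at hup
      have hrd : FibDim14.rd (U'.ι ≫ f) w = e := by
        refine le_antisymm (by exact_mod_cast hup) ?_
        by_contra hlt
        obtain ⟨t, htZ, ht⟩ := VarDim.exists_generic_of_mem_irreducibleComponents
          (X := (U' : Scheme.{u})) (irreducibleComponent_mem_irreducibleComponents w)
        have htw : t ⤳ w := specializes_iff_mem_closure.2 (htZ.symm ▸ mem_irreducibleComponent)
        have hopen := FibDim14.isOpen_fibreDimAt_le (U'.ι ≫ f) (FibDim14.rd (U'.ι ≫ f) w)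
        have hwS : w ∈ {b | FlatMor.fibreDimAt (U'.ι ≫ f) b ≤ (FibDim14.rd (U'.ι ≫ f) w : WithBot ℕ∞)} :=
          (FibGen4.fibreDimAt_eq_rd_of_isMaxFib (U'.ι ≫ f) hmax).le
        have h3 := (FibDim14.fibreDimAt_le_iff (U'.ι ≫ f)).1 (htw.mem_open hopen hwS) t (specializes_refl t) rfl
        rw [(hgent t ht).2] at h3
        exact hlt h3
      refine (VarDim.dim_closure_singleton (FibDim14.toPt (U'.ι ≫ f) s) z).trans ?_
      rw [← FibDim14.rd_fiberι]
      exact congrArg Nat.cast hrd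

end Groth.Agent.S3386
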