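import Groth.Statements.S3389
import Groth.Agent.Lib.FibGenApp4
import Groth.Agent.Lib.FibGenSch4
import Groth.Agent.Lib.FibDim14.Semicont

set_option autoImplicit false
open CategoryTheory AlgebraicGeometry
universe u
open EGA43

set_option backward.isDefEq.respectTransparency.types false

namespace Groth.Agent.S3389

/-- Let Y be a quasi-compact scheme and f : X ⟶ Y a morphism of finite type. Then there is a natural
number n bounding the dimension of every fibre of f. -/
theorem result {X Y : Scheme.{u}} [CompactSpace Y] (f : X ⟶ Y)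
    [LocallyOfFiniteType f] [QuasiCompact f] :
    ∃ n : ℕ, ∀ y : Y, topologicalKrullDim ↥(f.fiber y) ≤ n := by
  haveI : CompactSpace X := QuasiCompact.compactSpace_of_compactSpace f
  obtain ⟨s, hs⟩ := isCompact_univ.elim_finite_subcover (fun n : ℕ => {x : X | FlatMor.fibreDimAt f x ≤ (n : WithBot ℕ∞)})
    (fun n => FibDim14.isOpen_fibreDimAt_le f n) (fun x _ => by
      obtain ⟨x', -, -, h, -⟩ := FibDim14.exists_fibreDimAt_eq f x
      exact Set.mem_iUnion.2 ⟨_, h.le⟩)
  refine ⟨s.sup id, fun y => (FibGen4.dim_fiber_le_iff f y _).2 fun x _ => ?_⟩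
  obtain ⟨n, hn, hx⟩ := Set.mem_iUnion₂.1 (hs (Set.mem_univ x))
  exact le_trans hx (Nat.cast_le.2 (Finset.le_sup (f := id) hn))

end Groth.Agent.S3389
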