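import Groth.Statements.S3390
import Groth.Agent.Lib.EquidimStalk4
import Groth.Agent.Lib.Unibr4.GoDown

set_option autoImplicit false
open CategoryTheory AlgebraicGeometry
universe u
open EGA43

set_option backward.isDefEq.respectTransparency.types false

namespace Groth.Agent.S3390

/-- Let Y be an irreducible locally Noetherian scheme with generic point η and X an irreducible scheme,
and let f : X ⟶ Y be dominant and locally of finite type. Take a point x of X and write y = f x.
Suppose dim O_{X,x} = dim O_{Y,y} + dim O_{X_y,x}. Then the local dimension of the fibre X_y at x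
(FlatMor.fibreDimAt f x) equals the dimension of the generic fibre X_η (i.e. f is equidimensional at
x). -/
theorem result {X Y : Scheme.{u}} [IrreducibleSpace X] [IrreducibleSpace Y]
    [IsLocallyNoetherian Y] (f : X ⟶ Y) [LocallyOfFiniteType f] [IsDominant f] (x : X)
    (h : ringKrullDim (X.presheaf.stalk x) =
        ringKrullDim (Y.presheaf.stalk (f.base x)) + ringKrullDim ((f.fiber (f.base x)).presheaf.stalk (f.asFiber x))) :
    FlatMor.fibreDimAt f x = topologicalKrullDim ↥(f.fiber (genericPoint Y)) := by
  haveI : IsLocallyNoetherian X := LocallyOfFiniteType.isLocallyNoetherian f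
  obtain ⟨e, he⟩ := (EquidimStalk4.isEquidimAt_iff f x).1
    (EquidimStalk4.isEquidimAt_of_dim_formula f x (EquidimStalk4.isEquidim_stalk_of_irreducible x) h)
  have hmax : ∀ y, y ⤳ genericPoint X → y = genericPoint X := fun y hy =>
    (hy.antisymm ((genericPoint_spec X).specializes trivial)).eq
  obtain ⟨-, h2, h3⟩ := he _ ((genericPoint_spec X).specializes trivial) hmax
  have hgen : f (genericPoint X) = genericPoint Y := Unibr4.apply_genericPoint f f.denseRange
  rw [h3, ← hgen, FibSub4.dim_fiber_eq_rd f fun a _ => (genericPoint_spec X).specializes trivial, h2]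

end Groth.Agent.S3390
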