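import Groth.Statements.S3391
import Groth.Agent.Lib.DimEqScheme4
import Groth.Agent.Lib.Unibr4.GoDown

set_option autoImplicit false
open CategoryTheory AlgebraicGeometry
universe u
open EGA43

set_option backward.isDefEq.respectTransparency.types false

namespace Groth.Agent.S3391

/-- With X, Y, f, x, y as in the first assertion, suppose O_{Y,y} is universally catenary and the local
dimension at x of the fibre through x equals the dimension of the generic fibre. Then dim O_{X,x} =
dim O_{Y,y} + dim O_{X_y,x}. -/
theorem result {X Y : Scheme.{u}} [IrreducibleSpace X] [IrreducibleSpace Y]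
    [IsLocallyNoetherian Y] (f : X ⟶ Y) [LocallyOfFiniteType f] [IsDominant f] (x : X)
    (hcat : CAlg.IsUniversallyCatenary (Y.presheaf.stalk (f.base x)))
    (h : FlatMor.fibreDimAt f x = topologicalKrullDim ↥(f.fiber (genericPoint Y))) :
    ringKrullDim (X.presheaf.stalk x) =
        ringKrullDim (Y.presheaf.stalk (f.base x)) + ringKrullDim ((f.fiber (f.base x)).presheaf.stalk (f.asFiber x)) := by
  haveI : IsLocallyNoetherian X := LocallyOfFiniteType.isLocallyNoetherian f
  have hft : f (genericPoint X) = genericPoint Y := Unibr4.apply_genericPoint f f.denseRange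
  rw [← hft, FibSub4.dim_fiber_eq_rd f fun a _ => (genericPoint_spec X).specializes trivial] at h
  refine (DimEqScheme4.dim_eq_of_component f ((genericPoint_spec X).specializes trivial) hcat h fun v hv => ?_).1
  refine (EquidimStalk4.isEquidim_stalk_iff (f x)).1 (EquidimStalk4.isEquidim_stalk_of_irreducible (f x)) _
    (((genericPoint_spec X).specializes trivial).map f.continuous) (fun y hy => ?_) v hv
  rw [hft] at hy ⊢
  exact (hy.antisymm ((genericPoint_spec Y).specializes trivial)).eq

end Groth.Agent.S3391
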