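import Groth.Statements.S3392
import Groth.Agent.Lib.DimEqScheme4

set_option autoImplicit false
open CategoryTheory AlgebraicGeometry
universe u
open EGA43

set_option backward.isDefEq.respectTransparency.types false

namespace Groth.Agent.S3392


open Groth.Agent.FibDim14 Groth.Agent.EquidimStalk4 in
theorem fib_zero_iff {X Y : Scheme.{u}} (f : X ⟶ Y) [LocallyOfFiniteType f] (z : X) :
    ringKrullDim ((f.fiber (f z)).presheaf.stalk (f.asFiber z)) = 0 ↔
      FlatMor.fibreDimAt f z = (rd f z : WithBot ℕ∞) := by
  haveI : IsLocallyNoetherian (f.fiber (f z)) := LocallyOfFiniteType.isLocallyNoetherian (toPt f (f z))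
  obtain ⟨k, hk⟩ := exists_nat_dim (f.asFiber z)
  rw [localDim_asFiber_eq, hk]
  constructor
  · intro h
    rw [h, zero_add]
  · intro h
    have h1 : k + rd f z = rd f z := by exact_mod_cast h
    rw [show k = 0 by omega]
    rfl

open Groth.Agent.EquidimStalk4 in
theorem hW {Y : Scheme.{u}} [IrreducibleSpace Y] [IsLocallyNoetherian Y] {η y : Y} (hη : η = genericPoint Y)
    (v : Cl η) (hv : clι η v = y) :
    ringKrullDim ((Cl η).presheaf.stalk v) = ringKrullDim (Y.presheaf.stalk y) :=
  (isEquidim_stalk_iff y).1 (isEquidim_stalk_of_irreducible y) η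
    (hη ▸ (genericPoint_spec Y).specializes trivial)
    (fun a ha => by subst hη; exact (ha.antisymm ((genericPoint_spec Y).specializes trivial)).eq) v hv

theorem max_eq {Y : Scheme.{u}} [IrreducibleSpace Y] {η : Y} (h : ∀ a, a ⤳ η → a = η) : η = genericPoint Y :=
  (h _ ((genericPoint_spec Y).specializes trivial)).symm


/-- Let Y be an irreducible locally Noetherian scheme, f : X ⟶ Y a morphism of finite type and y a point
of Y. Condition (a): for every point x of the fibre over y, dim O_{X,x} = dim O_{Y,y} + dim
O_{X_y,x}. Condition (b): for every point z of the fibre over y at which the local ring of the fibre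
has dimension 0 (the generic points of the irreducible components of the fibre), dim O_{X,z} = dim
O_{Y,y}. Then (a) implies (b), and (b) implies (a) if O_{Y,y} is universally catenary. -/
theorem result {X Y : Scheme.{u}} [IrreducibleSpace Y] [IsLocallyNoetherian Y]
    (f : X ⟶ Y) [LocallyOfFiniteType f] [QuasiCompact f] (y : Y) :
    ((∀ x : X, f.base x = y → ringKrullDim (X.presheaf.stalk x) =
        ringKrullDim (Y.presheaf.stalk (f.base x)) + ringKrullDim ((f.fiber (f.base x)).presheaf.stalk (f.asFiber x))) →
      (∀ z : X, f.base z = y → ringKrullDim ((f.fiber (f.base z)).presheaf.stalk (f.asFiber z)) = 0 →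
        ringKrullDim (X.presheaf.stalk z) = ringKrullDim (Y.presheaf.stalk (f.base z)))) ∧
    (CAlg.IsUniversallyCatenary (Y.presheaf.stalk y) →
      (∀ z : X, f.base z = y → ringKrullDim ((f.fiber (f.base z)).presheaf.stalk (f.asFiber z)) = 0 →
        ringKrullDim (X.presheaf.stalk z) = ringKrullDim (Y.presheaf.stalk (f.base z))) →
      (∀ x : X, f.base x = y → ringKrullDim (X.presheaf.stalk x) =
        ringKrullDim (Y.presheaf.stalk (f.base x)) + ringKrullDim ((f.fiber (f.base x)).presheaf.stalk (f.asFiber x)))) := by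
  refine ⟨fun h z hz hz0 => ?_, fun hcat h x hx => ?_⟩
  · have := h z hz
    rwa [hz0, add_zero] at this
  · subst hx
    obtain ⟨z, hzx, hfz, hmaxz, hd⟩ := FibGen4.exists_isMaxFib f x
    have hF := FibGen4.fibreDimAt_eq_rd_of_isMaxFib f hmaxz
    obtain ⟨t, htz, -, hft, hrd, -⟩ := DimEqScheme4.exists_component_of_dim_eq f hF
      (h z hfz ((fib_zero_iff f z).2 hF))
    exact (DimEqScheme4.dim_eq_of_component f (htz.trans hzx) hcat (hd.symm.trans (hF.trans (by rw [hrd])))
      (fun v hv => hW (max_eq hft) v hv)).1

end Groth.Agent.S3392
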