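import Groth.Statements.S3393
import Groth.Agent.Lib.DimEqScheme4

set_option autoImplicit false
open CategoryTheory AlgebraicGeometry
universe u
open EGA43

set_option backward.isDefEq.respectTransparency.types false

namespace Groth.Agent.S3393


open Groth.Agent.FibDim14 Groth.Agent.EquidimStalk4 in
theorem fib_zero_iff {X Y : Scheme.{u}} (f : X ⟶ Y) [LocallyOfFiniteType f] (z : X) :
    ringKrullDim ((f.fiber (f z)).presheaf.stalk (f.asFiber z)) = 0 ↔
      FlatMor.fibreDimAt f z = (rd f z : WithBot ℕ∞) := by
  haveI : IsLocallyNoetherian (f.fiber (f z)) := LocallyOfFiniteType.isLocallyNoetherian (toPt f (f z))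
  obtain ⟨k, hk⟩ := exists_nat_dim (f.asFiber z)
  rw [localDim_asFiber_eq, hk]
  constructor
  · intro h
    rw [h, zero_add]
  · intro h
    have h1 : k + rd f z = rd f z := by exact_mod_cast h
    rw [show k = 0 by omega]
    rfl

open Groth.Agent.EquidimStalk4 in
theorem hW {Y : Scheme.{u}} [IrreducibleSpace Y] [IsLocallyNoetherian Y] {η y : Y} (hη : η = genericPoint Y)
    (v : Cl η) (hv : clι η v = y) :
    ringKrullDim ((Cl η).presheaf.stalk v) = ringKrullDim (Y.presheaf.stalk y) :=
  (isEquidim_stalk_iff y).1 (isEquidim_stalk_of_irreducible y) η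
    (hη ▸ (genericPoint_spec Y).specializes trivial)
    (fun a ha => by subst hη; exact (ha.antisymm ((genericPoint_spec Y).specializes trivial)).eq) v hv

theorem max_eq {Y : Scheme.{u}} [IrreducibleSpace Y] {η : Y} (h : ∀ a, a ⤳ η → a = η) : η = genericPoint Y :=
  (h _ ((genericPoint_spec Y).specializes trivial)).symm


/-- Let Y be an irreducible locally Noetherian scheme with generic point η, f : X ⟶ Y a morphism of
finite type and y a point of Y. Condition (b): for every point z of the fibre over y at which the
local ring of the fibre has dimension 0, dim O_{X,z} = dim O_{Y,y}. Condition (c): for every such z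
there is an irreducible component X' of X containing z such that the dimension of X' ∩ f⁻¹(η)
(topology induced from X) equals the local dimension at z of the fibre over y (the dimension of the
irreducible component of the fibre with generic point z). Then (b) implies (c), and (c) implies (b)
if O_{Y,y} is universally catenary. -/
theorem result {X Y : Scheme.{u}} [IrreducibleSpace Y] [IsLocallyNoetherian Y]
    (f : X ⟶ Y) [LocallyOfFiniteType f] [QuasiCompact f] (y : Y) :
    ((∀ z : X, f.base z = y → ringKrullDim ((f.fiber (f.base z)).presheaf.stalk (f.asFiber z)) = 0 →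
        ringKrullDim (X.presheaf.stalk z) = ringKrullDim (Y.presheaf.stalk (f.base z))) →
      (∀ z : X, f.base z = y → ringKrullDim ((f.fiber (f.base z)).presheaf.stalk (f.asFiber z)) = 0 →
        ∃ X' ∈ irreducibleComponents (X : Type u), z ∈ X' ∧
          topologicalKrullDim ↥(X' ∩ f.base ⁻¹' {genericPoint Y}) = FlatMor.fibreDimAt f z)) ∧
    (CAlg.IsUniversallyCatenary (Y.presheaf.stalk y) →
      (∀ z : X, f.base z = y → ringKrullDim ((f.fiber (f.base z)).presheaf.stalk (f.asFiber z)) = 0 →
        ∃ X' ∈ irreducibleComponents (X : Type u), z ∈ X' ∧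
          topologicalKrullDim ↥(X' ∩ f.base ⁻¹' {genericPoint Y}) = FlatMor.fibreDimAt f z) →
      (∀ z : X, f.base z = y → ringKrullDim ((f.fiber (f.base z)).presheaf.stalk (f.asFiber z)) = 0 →
        ringKrullDim (X.presheaf.stalk z) = ringKrullDim (Y.presheaf.stalk (f.base z)))) := by
  refine ⟨fun h z hz hz0 => ?_, fun hcat h z hz hz0 => ?_⟩
  · have hF := (fib_zero_iff f z).1 hz0
    obtain ⟨t, htz, htmax, hft, hrd, -⟩ := DimEqScheme4.exists_component_of_dim_eq f hF (h z hz hz0)
    refine ⟨closure {t}, (VarDim.maximal_iff_mem_irreducibleComponents (X := X) t).1 htmax,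
      specializes_iff_mem_closure.1 htz, ?_⟩
    rw [← max_eq hft, (FibSub4.closure_fibre f t).1, hrd, hF]
  · have hF := (fib_zero_iff f z).1 hz0
    obtain ⟨X', hX', hzX', hdim⟩ := h z hz hz0
    obtain ⟨t, rfl, htmax⟩ := VarDim.exists_generic_of_mem_irreducibleComponents hX'
    have hne : (closure {t} ∩ f.base ⁻¹' {genericPoint Y}).Nonempty := by
      by_contra hne
      haveI : IsEmpty ↥(closure {t} ∩ f.base ⁻¹' {genericPoint Y}) := ⟨fun a => hne ⟨a.1, a.2⟩⟩
      haveI : IsEmpty (TopologicalSpace.IrreducibleCloseds ↥(closure {t} ∩ f.base ⁻¹' {genericPoint Y})) :=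
        ⟨fun Z => isEmptyElim Z.isIrreducible.nonempty.some⟩
      rw [hF, topologicalKrullDim, Order.krullDim_eq_bot] at hdim
      exact WithBot.bot_ne_coe hdim
    obtain ⟨a, hta, hfa⟩ := hne
    have hft : f t = genericPoint Y := by
      have h1 := (specializes_iff_mem_closure.2 hta).map f.continuous
      rw [show f a = genericPoint Y from hfa] at h1
      exact (h1.antisymm ((genericPoint_spec Y).specializes trivial)).eq
    rw [← hft, (FibSub4.closure_fibre f t).1] at hdim
    subst hz
    have key := (DimEqScheme4.dim_eq_of_component f (specializes_iff_mem_closure.2 hzX') hcat hdim.symm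
      (fun v hv => hW hft v hv)).1
    rw [hz0, add_zero] at key
    exact key

end Groth.Agent.S3393
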