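import Groth.Statements.S3401
import Groth.Agent.Lib.ConsTop3.Scheme

set_option autoImplicit false
open CategoryTheory AlgebraicGeometry
universe u
open EGA41

namespace Groth.Agent.S3401

/-- Let X be a scheme and E a subset of X. If E is ind-constructible then for every point x of E the set
E ∩ cl{x} is a neighbourhood of x in cl{x}; when X is locally Noetherian the converse holds. (As
published, the necessity clause quantifies over all points x of X; for x outside E the condition
cannot hold, and the argument uses x ∈ E, so it is stated here for x ∈ E.) Stated as an equivalence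
for X locally Noetherian. -/
theorem result (X : Scheme.{u}) [IsLocallyNoetherian X]
    (E : Set X) :
    ProCons.IsIndConstructible E ↔
      ∀ x ∈ E, (Subtype.val ⁻¹' E : Set ↥(closure ({x} : Set X))) ∈ nhds (⟨x, subset_closure rfl⟩ : ↥(closure ({x} : Set X))) := by
  constructor
  · intro h x hx
    obtain ⟨V, hV, hxV, -⟩ := exists_isAffineOpen_mem_and_subset (X := X) (x := x) (U := ⊤) trivial
    obtain ⟨p, hp⟩ : x ∈ Set.range hV.fromSpec := by rw [hV.range_fromSpec]; exact hxV
    obtain ⟨C, hC, hpC, hCE⟩ := ConsH13.exists_constructible_of_isIndConstructible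
      (ConsH13.isIndConstructible_preimage hV.fromSpec h) (p := p) (show hV.fromSpec p ∈ E from hp ▸ hx)
    obtain ⟨D, hD⟩ := PrimeSpectrum.exists_constructibleSetData_iff.2 hC
    obtain ⟨d, hdD, hpd⟩ := Set.mem_iUnion₂.1 ((hD.symm ▸ hpC : (p : PrimeSpectrum Γ(X, V)) ∈ D.toSet))
    let O : Set X := hV.fromSpec '' ((PrimeSpectrum.basicOpen d.f : TopologicalSpace.Opens (PrimeSpectrum Γ(X, V))) : Set (PrimeSpectrum Γ(X, V)))
    have hO : IsOpen O := hV.fromSpec.isOpenEmbedding.isOpenMap _ (PrimeSpectrum.basicOpen d.f).2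
    refine mem_nhds_iff.2 ⟨Subtype.val ⁻¹' O, ?_, hO.preimage continuous_subtype_val,
      ⟨p, fun h => hpd.2 (Set.singleton_subset_iff.2 h), hp⟩⟩
    rintro ⟨y, hy⟩ ⟨q, hq, rfl⟩
    refine hCE (hD.le (Set.mem_iUnion₂.2 ⟨d, hdD, ?_, fun h' => hq (h' (Set.mem_singleton d.f))⟩))
    have hspec : p ⤳ q := hV.fromSpec.isOpenEmbedding.isInducing.specializes_iff.1 (by
      rw [hp]; exact specializes_iff_mem_closure.2 hy)
    exact Set.Subset.trans hpd.1 ((PrimeSpectrum.le_iff_specializes _ _).2 hspec)
  · intro h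
    refine ConsTop3.isIndConstructible_of_forall_affine fun U hU => ?_
    haveI : IsNoetherianRing Γ(X, U) := IsLocallyNoetherian.component_noetherian ⟨U, hU⟩
    refine ConsTop3.isIndConstructible_of_forall_exists fun p hp => ?_
    refine ConsH13.exists_isConstructible_subset (X := Spec Γ(X, U)) _ hp fun Z hZ hZc hpZ => ?_
    obtain ⟨N, hN, hNo, hxN⟩ := mem_nhds_iff.1 (h (hU.fromSpec p) hp)
    obtain ⟨O, hO, rfl⟩ := isOpen_induced_iff.1 hNo
    refine ⟨hU.fromSpec ⁻¹' O, hO.preimage hU.fromSpec.continuous, ⟨p, hpZ.mem, hxN⟩, fun q hq => ?_⟩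
    exact @hN ⟨hU.fromSpec q, ((hpZ.specializes hq.1).map hU.fromSpec.continuous).mem_closure⟩ hq.2

end Groth.Agent.S3401
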