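import Groth.Statements.S3405
import Groth.Agent.Lib.HilbSam.Dim

set_option autoImplicit false
universe u
open EGA41

namespace Groth.Agent.S3405

theorem supportDim_eq_natCast {A : Type u} [CommRing A] [IsNoetherianRing A] [Finite (MaximalSpectrum A)]
    {M : Type u} [AddCommGroup M] [Module A M] [Module.Finite A M] [Nontrivial M] :
    ∃ d : ℕ, Module.supportDim A M = d := by
  obtain ⟨e, q, hq, hqe⟩ := Groth.Agent.HilbSam.exists_hs_poly (A := A) (I := Ring.jacobson A) (N := M)
    Groth.Agent.HilbSam.isFiniteLength_quotient_jacobson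
  have h := (Groth.Agent.HilbSam.supportDim_le_iff e).2 (Groth.Agent.HilbSam.dimLE_of_hs le_rfl
    Groth.Agent.HilbSam.isFiniteLength_quotient_jacobson (Polynomial.degreeLT_mono (Nat.le_succ e) hq) hqe)
  rcases hb : Module.supportDim A M with _ | _ | d
  · exact absurd hb (Module.supportDim_ne_bot_of_nontrivial A M)
  · rw [hb] at h
    exact absurd (top_le_iff.1 (WithBot.coe_le_coe.1 h)) (ENat.natCast_ne_top e)
  · exact ⟨d, rfl⟩

/-- The degree of the Hilbert–Samuel polynomial equals the dimension: let A be a Noetherian ring with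
finitely many maximal ideals, r its Jacobson radical and M a nonzero finitely generated A-module.
Then there is a polynomial P with rational coefficients such that the length of M/rⁿM is finite and
equals P(n) for all large n, and the degree of P is the dimension of M (the Krull dimension of its
support). -/
theorem result (A : Type u) [CommRing A] [IsNoetherianRing A]
    [Finite (MaximalSpectrum A)] (M : Type u) [AddCommGroup M] [Module A M] [Module.Finite A M] [Nontrivial M] :
    ∃ P : Polynomial ℚ,
      (∃ N : ℕ, ∀ n : ℕ, N ≤ n →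
        ∃ ℓ : ℕ, Module.length A (M ⧸ (Ring.jacobson A ^ n • (⊤ : Submodule A M))) = ℓ ∧ (ℓ : ℚ) = P.eval (n : ℚ)) ∧
      (P.natDegree : WithBot ℕ∞) = Module.supportDim A M := by
  have hfin := Groth.Agent.HilbSam.isFiniteLength_quotient_jacobson (A := A) (M := M)
  obtain ⟨e, q, -, hqe⟩ := Groth.Agent.HilbSam.exists_hs_poly hfin
  obtain ⟨N, hN⟩ := Filter.eventually_atTop.1 hqe
  refine ⟨q, ⟨N, fun n hn => ⟨Groth.Agent.HilbSam.hs (Ring.jacobson A) M n,
    (ENat.natCast_toNat (Groth.Agent.HilbSam.length_quotient_pow_ne_top hfin n)).symm, hN n hn⟩⟩, ?_⟩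
  obtain ⟨d, hd⟩ := supportDim_eq_natCast (A := A) (M := M)
  rw [hd]
  have h1 : d ≤ q.natDegree := by
    have h := (Groth.Agent.HilbSam.supportDim_le_iff q.natDegree).2 (Groth.Agent.HilbSam.dimLE_of_hs le_rfl hfin
      (d := q.natDegree) (q := q) (Polynomial.mem_degreeLT.2 (Polynomial.degree_le_natDegree.trans_lt
        (Nat.cast_lt.2 (Nat.lt_succ_self _)))) hqe)
    rw [hd] at h
    exact_mod_cast h
  obtain ⟨x, hx, hxfin⟩ := Groth.Agent.HilbSam.exists_parameters_module (A := A) (M := M) hd.le
  obtain ⟨p, hp, N', hp'⟩ := Groth.Agent.HilbSam.polyLT_hs x hxfin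
  have hq : q ∈ Polynomial.degreeLT ℚ (d + 1) := by
    refine Groth.Agent.HilbSam.degreeLT_of_abs_le hp (Filter.eventually_atTop.2 ⟨max N N', fun n hn => ?_⟩)
    rw [← hN n (le_of_max_le_left hn), ← hp' n (le_of_max_le_right hn),
      abs_of_nonneg (by positivity), abs_of_nonneg (by positivity)]
    refine Nat.cast_le.2 (ENat.toNat_le_toNat ?_ (Groth.Agent.HilbSam.length_quotient_pow_ne_top hxfin n))
    exact Module.length_le_of_surjective _ (Submodule.factor_surjective
      (Submodule.smul_mono_left (Ideal.pow_right_mono (Ideal.span_le.2 (Set.range_subset_iff.2 hx)) n)))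
  have h2 : q.natDegree ≤ d := by
    rcases eq_or_ne q 0 with rfl | hq0
    · simp
    · exact Nat.lt_succ_iff.1 ((Polynomial.natDegree_lt_iff_degree_lt hq0).2 (Polynomial.mem_degreeLT.1 hq))
  rw [le_antisymm h2 h1]

end Groth.Agent.S3405
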