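import Groth.Statements.S3406
import Groth.Agent.Lib.HilbSam.Dim

set_option autoImplicit false
universe u
open EGA41

namespace Groth.Agent.S3406

theorem supportDim_eq_natCast {A : Type u} [CommRing A] [IsNoetherianRing A] [Finite (MaximalSpectrum A)]
    {M : Type u} [AddCommGroup M] [Module A M] [Module.Finite A M] [Nontrivial M] :
    ∃ d : ℕ, Module.supportDim A M = d := by
  obtain ⟨e, q, hq, hqe⟩ := Groth.Agent.HilbSam.exists_hs_poly (A := A) (I := Ring.jacobson A) (N := M)
    Groth.Agent.HilbSam.isFiniteLength_quotient_jacobson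
  have h := (Groth.Agent.HilbSam.supportDim_le_iff e).2 (Groth.Agent.HilbSam.dimLE_of_hs le_rfl
    Groth.Agent.HilbSam.isFiniteLength_quotient_jacobson (Polynomial.degreeLT_mono (Nat.le_succ e) hq) hqe)
  rcases hb : Module.supportDim A M with _ | _ | d
  · exact absurd hb (Module.supportDim_ne_bot_of_nontrivial A M)
  · rw [hb] at h
    exact absurd (top_le_iff.1 (WithBot.coe_le_coe.1 h)) (ENat.natCast_ne_top e)
  · exact ⟨d, rfl⟩

/-- The equality s(M) = dim(M): let A be a Noetherian ring with finitely many maximal ideals, r its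
Jacobson radical and M a nonzero finitely generated A-module. Then the dimension of M (the Krull
dimension of its support) is the least n for which there are elements x_1, …, x_n of r such that
M/(x_1 M + ⋯ + x_n M) has finite length. -/
theorem result (A : Type u) [CommRing A] [IsNoetherianRing A]
    [Finite (MaximalSpectrum A)] (M : Type u) [AddCommGroup M] [Module A M] [Module.Finite A M] [Nontrivial M] :
    Module.supportDim A M =
      sInf {k : WithBot ℕ∞ | ∃ (n : ℕ) (x : Fin n → A), k = n ∧ (∀ i, x i ∈ Ring.jacobson A) ∧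
        IsFiniteLength A (M ⧸ (Ideal.span (Set.range x) • (⊤ : Submodule A M)))} := by
  obtain ⟨d, hd⟩ := supportDim_eq_natCast (A := A) (M := M)
  refine le_antisymm (le_sInf ?_) (sInf_le ?_)
  · rintro k ⟨n, x, rfl, hx, hfin⟩
    obtain ⟨p, hp, N, hp'⟩ := Groth.Agent.HilbSam.polyLT_hs x hfin
    exact (Groth.Agent.HilbSam.supportDim_le_iff n).2 (Groth.Agent.HilbSam.dimLE_of_hs
      (Ideal.span_le.2 (Set.range_subset_iff.2 hx)) hfin hp (Filter.eventually_atTop.2 ⟨N, hp'⟩))
  · obtain ⟨x, hx, hxfin⟩ := Groth.Agent.HilbSam.exists_parameters_module (A := A) (M := M) hd.le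
    exact ⟨d, x, hd, hx, hxfin⟩

end Groth.Agent.S3406
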