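import Groth.Statements.S3407
import Groth.Agent.Lib.SectionCompIrr4
import Groth.Agent.Lib.EGA43Top.OpenCriterion

set_option autoImplicit false
open CategoryTheory AlgebraicGeometry
universe u
open EGA43

set_option backward.isDefEq.respectTransparency.types false

namespace Groth.Agent.S3407

/-- Let Y be locally Noetherian, f : X ⟶ Y locally of finite type, x a point of X and y = f x. Suppose f
is universally open at the generic point of every irreducible component of the fibre X_y passing
through x, and X_y is geometrically reduced at x. Then there is an open neighbourhood U of x such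
that the restriction of f to U is universally open and, for every point x' of U, the fibre of f
through x' is geometrically reduced at x'. -/
theorem result {X Y : Scheme.{u}} [IsLocallyNoetherian Y] (f : X ⟶ Y)
    [LocallyOfFiniteType f] (x : X)
    (hopen : ∀ z : ↥(f.fiber (f.base x)), f.asFiber x ∈ closure {z} →
      (∀ z' : ↥(f.fiber (f.base x)), z ∈ closure {z'} → z' = z) →
      EGA43.IsUnivOpenAt f ((f.fiberι (f.base x)).base z))
    (hred : FBase.IsGeomReducedAt (f.fiberToSpecResidueField (f.base x)) (f.asFiber x)) :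
    ∃ U : X.Opens, x ∈ U ∧ UniversallyOpen (U.ι ≫ f) ∧
      ∀ x' : X, x' ∈ U → FBase.IsGeomReducedAt (f.fiberToSpecResidueField (f.base x')) (f.asFiber x') := by
  haveI : LocallyOfFinitePresentation f := Groth.Agent.VarDim.locallyOfFinitePresentation_of_locallyNoetherian f
  let I := Scheme.IdealSheafData.vanishingIdeal (⊤ : TopologicalSpace.Closeds Y)
  let h : I.subscheme ⟶ Y := I.subschemeι
  haveI : IsReduced I.subscheme := Groth.Agent.RedSepLib.isReduced_vanishingIdeal_subscheme _
  haveI : IsLocallyNoetherian I.subscheme := LocallyOfFiniteType.isLocallyNoetherian h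
  haveI : Surjective h := ⟨by
    intro z
    refine (Set.eq_univ_iff_forall (s := Set.range h)).1 ?_ z
    show Set.range h = Set.univ
    rw [Scheme.IdealSheafData.range_subschemeι, Scheme.IdealSheafData.coe_support_vanishingIdeal]
    rfl⟩
  let p := Limits.pullback.fst f h
  let f' := Limits.pullback.snd f h
  haveI : LocallyOfFinitePresentation f' := MorphismProperty.pullback_snd _ _ inferInstance
  have hsq : IsPullback p f' f h := IsPullback.of_hasPullback _ _
  haveI : Surjective p := MorphismProperty.pullback_fst _ _ inferInstance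
  obtain ⟨x', hx'⟩ := p.surjective x
  subst hx'
  have hfp : ∀ a, f (p a) = h (f' a) := fun a => by
    rw [← Scheme.Hom.comp_apply, hsq.w, Scheme.Hom.comp_apply]
  have hred' := Groth.Agent.FlatUnivOpen4.isGeomReducedAt_baseChange f hsq x' hred
  have hflat : (f'.stalkMap x').hom.Flat := by
    refine Groth.Agent.FlatUnivOpen4.flat_stalkMap f' x' (fun z hz hfz hmax =>
      Groth.Agent.EGA43Top.isUnivOpenAt_baseChange hsq ?_) hred' inferInstance
    have hzx : p z ⤳ p x' := hz.map p.continuous
    have hfzx : f (p z) = f (p x') := by rw [hfp, hfp, hfz]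
    obtain ⟨w, hw⟩ : p z ∈ Set.range (f.fiberι (f (p x'))) := by rw [f.range_fiberι]; exact hfzx
    rw [← hw]
    refine hopen w ?_ fun z' hz' => ?_
    · refine specializes_iff_mem_closure.1 ((f.fiberι _).isEmbedding.isInducing.specializes_iff.1 ?_)
      exact (specializes_of_eq hw).trans (hzx.trans (specializes_of_eq (f.fiberι_asFiber _).symm))
    · have h1 : f.fiberι _ z' ⤳ p z :=
        ((specializes_iff_mem_closure.2 hz').map (f.fiberι _).continuous).trans (specializes_of_eq hw)
      obtain ⟨v, hv⟩ := p.surjective (f.fiberι _ z')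
      rw [← hv] at h1
      have hfv : f' v = f' z := h.isEmbedding.injective (by
        rw [← hfp, ← hfp, hv, hfzx]
        exact (Set.ext_iff.1 (f.range_fiberι (f (p x'))) _).1 ⟨z', rfl⟩)
      have hvz := hmax v (p.isEmbedding.isInducing.specializes_iff.1 h1) hfv
      exact (f.fiberι _).isEmbedding.injective (by rw [← hv, hvz, hw])
  let W' := {a : ↥(Limits.pullback f h) | (f'.stalkMap a).hom.Flat ∧
    FBase.IsGeomReducedAt (f'.fiberToSpecResidueField (f' a)) (f'.asFiber a)}
  have hW' : IsOpen W' := Groth.Agent.FibDepth5.isOpen_flat_geomReduced f'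
  let U : X.Opens := ⟨(p '' W'ᶜ)ᶜ, (p.isClosedMap _ hW'.isClosed_compl).isOpen_compl⟩
  have hU : ∀ a, p a ∈ U → a ∈ W' := fun a ha => by_contra fun hn => ha ⟨a, hn, rfl⟩
  refine ⟨U, fun ⟨c, hc, e⟩ => hc (p.isEmbedding.injective e ▸ ⟨hflat, hred'⟩), ?_, fun a ha => ?_⟩
  · rw [Groth.Agent.EGA43Top.universallyOpen_iff_forall_isUnivOpenAt]
    intro w
    refine Groth.Agent.EGA43Top.isUnivOpenAt_of_universallyClosed_surjective h _ w fun x₁ _ => ?_
    let m : Limits.pullback (U.ι ≫ f) h ⟶ Limits.pullback f h :=
      Limits.pullback.map _ _ _ _ U.ι (𝟙 _) (𝟙 _) (by simp) (by simp)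
    have hm : m ≫ f' = Limits.pullback.snd (U.ι ≫ f) h := (Limits.pullback.lift_snd _ _ _).trans (Category.comp_id _)
    haveI : Flat (m ≫ f') := (Flat.iff_flat_stalkMap _).2 fun c => by
      rw [Scheme.Hom.stalkMap_comp]
      refine RingHom.Flat.comp (hU (m c) ?_).1 (Flat.stalkMap m c)
      rw [← Scheme.Hom.comp_apply, show m ≫ p = Limits.pullback.fst (U.ι ≫ f) h ≫ U.ι from Limits.pullback.lift_fst _ _ _,
        Scheme.Hom.comp_apply]
      exact ((Limits.pullback.fst (U.ι ≫ f) h) c).2
    rw [← hm]
    exact (Groth.Agent.EGA43Top.universallyOpen_iff_forall_isUnivOpenAt _).1 inferInstance x₁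
  · obtain ⟨a', rfl⟩ := p.surjective a
    exact Groth.Agent.SectionCompFlat4.isGeomReducedAt_of_baseChange f hsq a' (hU a' ha).2

end Groth.Agent.S3407
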