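import Groth.Statements.S3408
import Groth.Agent.Lib.FlatGenApp4
import Groth.Agent.Lib.VarDim.Irred
import Groth.Agent.Lib.OrbitTop19.Flat

set_option autoImplicit false
open CategoryTheory AlgebraicGeometry
universe u
open EGA43

set_option backward.isDefEq.respectTransparency.types false

namespace Groth.Agent.S3408

/-- Let Y be locally Noetherian, f : X ⟶ Y locally of finite type, x a point of X and y = f x. Suppose f
is universally open at the generic point of every irreducible component of X_y passing through x,
X_y is geometrically reduced at x, and the local ring O_{Y,y} is reduced. Then there is an open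
neighbourhood U of x such that the restriction of f to U is flat and U is a reduced scheme. -/
theorem result {X Y : Scheme.{u}} [IsLocallyNoetherian Y] (f : X ⟶ Y)
    [LocallyOfFiniteType f] (x : X)
    (hopen : ∀ z : ↥(f.fiber (f.base x)), f.asFiber x ∈ closure {z} →
      (∀ z' : ↥(f.fiber (f.base x)), z ∈ closure {z'} → z' = z) →
      EGA43.IsUnivOpenAt f ((f.fiberι (f.base x)).base z))
    (hred : FBase.IsGeomReducedAt (f.fiberToSpecResidueField (f.base x)) (f.asFiber x))
    (hy : _root_.IsReduced (Y.presheaf.stalk (f.base x))) :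
    ∃ U : X.Opens, x ∈ U ∧ Flat (U.ι ≫ f) ∧ IsReduced (U : Scheme.{u}) := by
  haveI : IsLocallyNoetherian X := LocallyOfFiniteType.isLocallyNoetherian f
  haveI : LocallyOfFinitePresentation f := VarDim.locallyOfFinitePresentation_of_locallyNoetherian f
  have hopen' := FlatUnivOpen4.forall_of_fiber f _ hopen
  obtain ⟨V, hV, hxV, hVred⟩ := FlatUnivOpen4.exists_reduced_nhd x
    (FlatUnivOpen4.isReduced_stalk_of_geomReduced f x hopen' hred hy)
  let L : X.Opens := ⟨_, FlatH4.isOpen_flatLocus f⟩
  refine ⟨V ⊓ L, ⟨hxV, FlatUnivOpen4.flat_stalkMap f x hopen' hred hy⟩, ?_, ?_⟩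
  · refine Flat.iff_flat_stalkMap _ |>.2 fun z => ?_
    rw [Scheme.Hom.stalkMap_comp]
    exact RingHom.Flat.comp (z.2.2 : (f.stalkMap ((V ⊓ L : X.Opens).ι z)).hom.Flat) (Flat.stalkMap _ _)
  · haveI : IsAffine (V : Scheme.{u}) := hV
    haveI : IsReduced (Spec Γ(X, V)) := inferInstance
    haveI : IsReduced (V : Scheme.{u}) := isReduced_of_isOpenImmersion hV.isoSpec.hom
    exact isReduced_of_isOpenImmersion (X.homOfLE (inf_le_left : V ⊓ L ≤ V))

end Groth.Agent.S3408
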