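import Groth.Statements.S3409
import Groth.Agent.Lib.FlatGenApp4
import Groth.Agent.Lib.EquidimStalk4
import Groth.Agent.Lib.EGA43Top.UnivOpenAt
import Groth.Agent.Lib.OrbitTop19.Flat
import Groth.Agent.Lib.VarDim.Irred

set_option autoImplicit false
open CategoryTheory AlgebraicGeometry
universe u
open EGA43

set_option backward.isDefEq.respectTransparency.types false

namespace Groth.Agent.S3409


open CategoryTheory.Limits Topology TopologicalSpace FibDim14

/-- Flatness after reducing the base gives equidimensionality. -/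
theorem rd_eq_of_flat {X Y : Scheme.{u}} [IsLocallyNoetherian Y] (f : X ⟶ Y) [LocallyOfFiniteType f]
    (x : X) (hred : _root_.IsReduced ((f.fiber (f x)).presheaf.stalk (f.asFiber x)))
    (hflat : (f.stalkMap x).hom.Flat) (e : ℕ)
    (he : ∀ z, z ⤳ x → f z = f x → IsMaxFib f z → rd f z = e) {t : X} (htx : t ⤳ x)
    (htmax : ∀ y, y ⤳ t → y = t) : (∀ y, y ⤳ f t → y = f t) ∧ rd f t = e := by
  haveI : IsLocallyNoetherian X := LocallyOfFiniteType.isLocallyNoetherian f
  haveI : LocallyOfFinitePresentation f := VarDim.locallyOfFinitePresentation_of_locallyNoetherian f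
  let L : X.Opens := ⟨_, FlatH4.isOpen_flatLocus f⟩
  have htL : (f.stalkMap t).hom.Flat := htx.mem_open L.2 hflat
  refine ⟨fun y hy => ?_, ?_⟩
  · obtain ⟨w, hw, hwy⟩ := goDown_of_flat_stalk f t htL t specializes_rfl y hy
    rw [← hwy, htmax w hw]
  obtain ⟨z, htz, hzx, hfz, hzmax⟩ := FlatUnivOpen4.exists_maxFib_of_maximal f x hred hflat htx htmax
  haveI : Flat (L.ι ≫ f) := (Flat.iff_flat_stalkMap _).2 fun a => by
    rw [Scheme.Hom.stalkMap_comp]
    exact RingHom.Flat.comp (a.2 : (f.stalkMap (L.ι a)).hom.Flat) (Flat.stalkMap _ _)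
  let z' : (L : Scheme.{u}) := ⟨z, hzx.mem_open L.2 hflat⟩
  let t' : (L : Scheme.{u}) := ⟨t, htL⟩
  have hzm : IsMaxFib (L.ι ≫ f) z' := (EquidimAt4.isMaxFib_opens_iff f z').2 hzmax
  have htm : IsMaxFib (L.ι ≫ f) t' :=
    (EquidimAt4.isMaxFib_opens_iff f t').2 fun y hy _ => htmax y hy
  have h := FibGen4.fibreDimAt_eq_of_specializes (L.ι ≫ f) hzm
    (L.ι.isEmbedding.isInducing.specializes_iff.1 (show L.ι t' ⤳ L.ι z' from htz))
  rw [FibGen4.fibreDimAt_eq_rd_of_isMaxFib _ hzm, FibGen4.fibreDimAt_eq_rd_of_isMaxFib _ htm,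
    EquidimAt4.rd_openImmersion, EquidimAt4.rd_openImmersion] at h
  have h' : rd f t = rd f z := by exact_mod_cast h
  rw [h', he z hzx hfz hzmax]


/-- Let Y be locally Noetherian, f : X ⟶ Y locally of finite type, x a point of X and y = f x. Suppose f
is universally open at the generic point of every irreducible component of X_y through x, X_y is
geometrically reduced at x, and all irreducible components of X_y passing through x have the same
dimension. Then f is equidimensional at x. -/
theorem result {X Y : Scheme.{u}} [IsLocallyNoetherian Y] (f : X ⟶ Y)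
    [LocallyOfFiniteType f] (x : X)
    (hopen : ∀ z : ↥(f.fiber (f.base x)), f.asFiber x ∈ closure {z} →
      (∀ z' : ↥(f.fiber (f.base x)), z ∈ closure {z'} → z' = z) →
      EGA43.IsUnivOpenAt f ((f.fiberι (f.base x)).base z))
    (hred : FBase.IsGeomReducedAt (f.fiberToSpecResidueField (f.base x)) (f.asFiber x))
    (heq : ∃ e : ℕ, ∀ Z ∈ irreducibleComponents (↥(f.fiber (f.base x)) : Type u), f.asFiber x ∈ Z →
      topologicalKrullDim (↥Z : Type u) = e) :
    EGA43.IsEquidimAt f x := by
  obtain ⟨e, he⟩ := heq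
  haveI : IsLocallyNoetherian X := LocallyOfFiniteType.isLocallyNoetherian f
  have hopen' := FlatUnivOpen4.forall_of_fiber f _ hopen
  have heq' : ∀ z, z ⤳ x → f z = f x → IsMaxFib f z → rd f z = e := by
    refine FlatUnivOpen4.forall_of_fiber f (fun z => rd f z = e) fun z hzx hzmax => ?_
    have hmem := (VarDim.maximal_iff_mem_irreducibleComponents z).1
      fun a ha => hzmax a (specializes_iff_mem_closure.1 ha)
    have h := he _ hmem hzx
    rw [VarDim.dim_closure_singleton (toPt f _), ← rd_fiberι] at h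
    exact_mod_cast h
  refine (EquidimStalk4.isEquidimAt_iff f x).2 ⟨e, fun t htx htmax => ?_⟩
  have hfd : FlatMor.fibreDimAt f x = (e : WithBot ℕ∞) := by
    obtain ⟨z, hzx, hfz, hzmax, hd⟩ := FibGen4.exists_isMaxFib f x
    rw [← hd, FibGen4.fibreDimAt_eq_rd_of_isMaxFib f hzmax, heq' z hzx hfz hzmax]
  -- the reduced base
  let I := Scheme.IdealSheafData.vanishingIdeal (⊤ : Closeds Y)
  let h : I.subscheme ⟶ Y := I.subschemeι
  haveI : IsReduced I.subscheme := RedSepLib.isReduced_vanishingIdeal_subscheme _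
  haveI : IsLocallyNoetherian I.subscheme := LocallyOfFiniteType.isLocallyNoetherian h
  have hsurj : ∀ y, ∃ w, h w = y := fun y => by
    refine (Set.eq_univ_iff_forall (s := Set.range h)).1 ?_ y
    show Set.range h = Set.univ
    rw [Scheme.IdealSheafData.range_subschemeι, Scheme.IdealSheafData.coe_support_vanishingIdeal]
    rfl
  let p := pullback.fst f h
  let f' := pullback.snd f h
  have hsq : IsPullback p f' f h := IsPullback.of_hasPullback _ _
  have hp : ∀ a, ∃ a', p a' = a := fun a => by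
    obtain ⟨w, hw⟩ := hsurj (f a)
    obtain ⟨a', ha', -⟩ := Scheme.Pullback.exists_preimage_pullback (f := f) (g := h) a w hw.symm
    exact ⟨a', ha'⟩
  have hfp : ∀ a, f (p a) = h (f' a) := fun a => by
    rw [← Scheme.Hom.comp_apply, hsq.w, Scheme.Hom.comp_apply]
  have hrd : ∀ a, rd f' a = rd f (p a) := fun a => by
    have h1 := FibSub4.rd_preimmersion p f a
    have h2 : rd (f' ≫ h) a = rd f' a := by rw [rd_comp, rd_of_surjectiveOnStalks h, zero_add]
    rw [← h1, ← h2]
    simp only [hsq.w]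
  obtain ⟨x', rfl⟩ := hp x
  obtain ⟨t', rfl⟩ := hp t
  have hsp : ∀ a b, p a ⤳ p b → a ⤳ b := fun a b hab => p.isEmbedding.isInducing.specializes_iff.1 hab
  have hmax' : ∀ z, IsMaxFib f' z → IsMaxFib f (p z) := fun z hz w hw hfw => by
    obtain ⟨w', rfl⟩ := hp w
    rw [hfp, hfp] at hfw
    rw [hz w' (hsp _ _ hw) (h.isEmbedding.injective hfw)]
  have hopen'' : ∀ z, z ⤳ x' → f' z = f' x' → IsMaxFib f' z → EGA43.IsUnivOpenAt f' z := fun z hz hfz hm =>
    EGA43Top.isUnivOpenAt_baseChange hsq
      (hopen' (p z) (hz.map p.continuous) (by rw [hfp, hfp, hfz]) (hmax' z hm))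
  have hred' := FlatUnivOpen4.isGeomReducedAt_baseChange f hsq x' hred
  have hyred : _root_.IsReduced (I.subscheme.presheaf.stalk (f' x')) := inferInstance
  obtain ⟨h1, h2⟩ := rd_eq_of_flat f' x' (GeomRedRes4.isReduced_stalk f' hred')
    (FlatUnivOpen4.flat_stalkMap f' x' hopen'' hred' hyred) e
    (fun z hz hfz hm => (hrd z).trans
      (heq' (p z) (hz.map p.continuous) (by rw [hfp, hfp, hfz]) (hmax' z hm)))
    (hsp _ _ htx) (fun y hy => p.isEmbedding.injective (htmax _ (hy.map p.continuous)))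
  refine ⟨fun y hy => ?_, (hrd t').symm.trans h2, hfd⟩
  obtain ⟨w, rfl⟩ := hsurj y
  rw [hfp] at hy ⊢
  rw [h1 w (h.isEmbedding.isInducing.specializes_iff.1 hy)]

end Groth.Agent.S3409
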