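import Groth.Statements.S3410
import Groth.Agent.Lib.GeomIntUnibr4
import Groth.Agent.Lib.EquidimStalk4
import Groth.Agent.Lib.EGA43Top.UnivOpenAt
import Groth.Agent.Lib.VarDim.Irred

set_option autoImplicit false
open CategoryTheory AlgebraicGeometry
universe u
open EGA43

set_option backward.isDefEq.respectTransparency.types false

namespace Groth.Agent.S3410


open CategoryTheory.Limits Topology TopologicalSpace FibDim14

/-- A maximal generization is unique. -/
theorem max_unique {X Y : Scheme.{u}} [IsLocallyNoetherian Y] (f : X ⟶ Y) [LocallyOfFiniteType f] (x : X)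
    (hopen : ∀ z, z ⤳ x → f z = f x → IsMaxFib f z → EGA43.IsUnivOpenAt f z)
    (hint : FBase.IsGeomPtIntegralAt (f.fiberToSpecResidueField (f x)) (f.asFiber x))
    (hY : CAlg2.IsGeomUnibranch (Y.presheaf.stalk (f x))) {t₁ t₂ : X} (h₁ : t₁ ⤳ x) (h₂ : t₂ ⤳ x)
    (m₁ : ∀ w, w ⤳ t₁ → w = t₁) (m₂ : ∀ w, w ⤳ t₂ → w = t₂) : t₁ = t₂ := by
  let I := Scheme.IdealSheafData.vanishingIdeal (⊤ : Closeds Y)
  let h : I.subscheme ⟶ Y := I.subschemeι
  haveI : IsReduced I.subscheme := RedSepLib.isReduced_vanishingIdeal_subscheme _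
  haveI : IsLocallyNoetherian I.subscheme := LocallyOfFiniteType.isLocallyNoetherian h
  haveI : Surjective h := ⟨fun y => by
    refine (Set.eq_univ_iff_forall (s := Set.range h)).1 ?_ y
    rw [Scheme.IdealSheafData.range_subschemeι, Scheme.IdealSheafData.coe_support_vanishingIdeal]
    rfl⟩
  let p := pullback.fst f h
  let f' := pullback.snd f h
  have hsq : IsPullback p f' f h := IsPullback.of_hasPullback _ _
  haveI : Surjective p := inferInstance
  have hfp : ∀ a, f (p a) = h (f' a) := fun a => by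
    rw [← Scheme.Hom.comp_apply, hsq.w, Scheme.Hom.comp_apply]
  obtain ⟨x', rfl⟩ := p.surjective x
  obtain ⟨t₁', rfl⟩ := p.surjective t₁
  obtain ⟨t₂', rfl⟩ := p.surjective t₂
  have hsp : ∀ a b, p a ⤳ p b → a ⤳ b := fun a b hab => p.isEmbedding.isInducing.specializes_iff.1 hab
  have hmax' : ∀ z, IsMaxFib f' z → IsMaxFib f (p z) := fun z hz w hw hfw => by
    obtain ⟨w', rfl⟩ := p.surjective w
    rw [hfp, hfp] at hfw
    rw [hz w' (hsp _ _ hw) (h.isEmbedding.injective hfw)]
  have hopen' : ∀ z, z ⤳ x' → f' z = f' x' → IsMaxFib f' z → EGA43.IsUnivOpenAt f' z := fun z hz hfz hm =>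
    EGA43Top.isUnivOpenAt_baseChange hsq
      (hopen (p z) (hz.map p.continuous) (by rw [hfp, hfp, hfz]) (hmax' z hm))
  have hY' : CAlg2.IsGeomUnibranch (I.subscheme.presheaf.stalk (f' x')) := by
    refine GeomIntUnibr4.isGeomUnibranch_stalk_of_surjective h _ ?_
    rw [← hfp]
    exact hY
  haveI : IsDomain (I.subscheme.presheaf.stalk (f' x')) := by
    haveI := hY'.1.1
    have h0 : nilradical (I.subscheme.presheaf.stalk (f' x')) = ⊥ := nilradical_eq_zero _
    let e := (Ideal.quotEquivOfEq h0).trans (RingEquiv.quotientBot _)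
    exact e.symm.injective.isDomain e.symm.toRingHom
  haveI := (GeomIntUnibr4.isDomain_stalk f' x' hopen' (GeomIntUnibr4.isGeomPtIntegralAt_baseChange f hsq x' hint) hY').1
  exact congrArg p (GeomIntUnibr4.eq_of_maximal_of_isDomain (hsp _ _ h₁) (hsp _ _ h₂)
    (fun w hw => p.isEmbedding.injective (m₁ _ (hw.map p.continuous)))
    (fun w hw => p.isEmbedding.injective (m₂ _ (hw.map p.continuous))))


/-- Let Y be locally Noetherian, f : X ⟶ Y locally of finite type, x a point of X and y = f x. Suppose f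
is universally open at the generic point of every irreducible component of X_y through x, X_y is
geometrically pointwise integral at x, and O_{Y,y} is geometrically unibranch. Then x lies on
exactly one irreducible component of X. If moreover O_{Y,y} is a domain, then O_{X,x} is a domain
and O_{Y,y} ⟶ O_{X,x} is flat. -/
theorem result {X Y : Scheme.{u}} [IsLocallyNoetherian Y]
    (f : X ⟶ Y) [LocallyOfFiniteType f] (x : X)
    (hopen : ∀ z : ↥(f.fiber (f.base x)), f.asFiber x ∈ closure {z} →
      (∀ z' : ↥(f.fiber (f.base x)), z ∈ closure {z'} → z' = z) →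
      EGA43.IsUnivOpenAt f ((f.fiberι (f.base x)).base z))
    (hint : FBase.IsGeomPtIntegralAt (f.fiberToSpecResidueField (f.base x)) (f.asFiber x))
    (hY : CAlg2.IsGeomUnibranch (Y.presheaf.stalk (f.base x))) :
    (∃! Z : Set X, Z ∈ irreducibleComponents (X : Type u) ∧ x ∈ Z) ∧
      (IsDomain (Y.presheaf.stalk (f.base x)) → IsDomain (X.presheaf.stalk x) ∧ (f.stalkMap x).hom.Flat) := by
  have hopen' := FlatUnivOpen4.forall_of_fiber f _ hopen
  refine ⟨?_, fun hdom => ?_⟩
  · obtain ⟨t, htx, htmax⟩ := EquidimAt4.exists_max_specializes x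
    refine ⟨closure {t}, ⟨(VarDim.maximal_iff_mem_irreducibleComponents t).1 htmax,
      specializes_iff_mem_closure.1 htx⟩, ?_⟩
    rintro Z ⟨hZ, hxZ⟩
    obtain ⟨t', rfl, ht'⟩ := VarDim.exists_generic_of_mem_irreducibleComponents hZ
    rw [max_unique f x hopen' hint hY (specializes_iff_mem_closure.2 hxZ) htx ht' htmax]
  · exact GeomIntUnibr4.isDomain_stalk f x hopen' hint hY

end Groth.Agent.S3410
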