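import Groth.Statements.S3413
import Groth.Agent.Lib.DisjComp5.Basic
-- import your own Groth.Agent.* helpers here

set_option autoImplicit false
open CategoryTheory AlgebraicGeometry
universe u
open EGA43

namespace Groth.Agent.S3413

/-- Let Y be locally Noetherian with all local rings geometrically unibranch, f : X ⟶ Y separated,
quasi-finite and universally open, and n(z) the geometric number of points of the fibre over z. If n
is locally constant on Y, then the irreducible components of X are pairwise disjoint. -/
theorem result {X Y : Scheme.{u}} [IsLocallyNoetherian Y]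
    (hY : ∀ y : Y, CAlg2.IsGeomUnibranch (Y.presheaf.stalk y)) (f : X ⟶ Y)
    [IsSeparated f] [LocallyQuasiFinite f] [LocallyOfFiniteType f] [QuasiCompact f] [UniversallyOpen f]
    (hn : IsLocallyConstant (fun z : Y => MoreMor.nGeomConnComp f z)) :
    ∀ Z ∈ irreducibleComponents (X : Type u), ∀ Z' ∈ irreducibleComponents (X : Type u), Z ≠ Z' → Disjoint Z Z' := by
  intro Z hZ Z' hZ' hne
  obtain ⟨t₀, rfl, h₀⟩ := Groth.Agent.VarDim.exists_generic_of_mem_irreducibleComponents hZ
  obtain ⟨t₁, rfl, h₁⟩ := Groth.Agent.VarDim.exists_generic_of_mem_irreducibleComponents hZ'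
  refine Set.disjoint_left.2 fun x hx hx' => ?_
  exact Groth.Agent.DisjComp5.disjoint_components hY f hn h₀ h₁ (fun h => hne (by rw [h]))
    (specializes_iff_mem_closure.2 hx) (specializes_iff_mem_closure.2 hx')

end Groth.Agent.S3413
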