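import Groth.Statements.S4938
import Groth.Agent.Lib.Unibr4.Criterion
import Groth.Agent.Lib.FibSub4

set_option autoImplicit false
open CategoryTheory AlgebraicGeometry
universe u v w
open EGA43

set_option backward.isDefEq.respectTransparency.types false

namespace Groth.Agent.S4938


open Topology in
theorem image_closure {A B : Scheme.{u}} (f : A ⟶ B) (t : A) : closure (f.base '' closure {t}) = closure {f t} :=
  (closure_image_closure f.continuous).trans (by rw [Set.image_singleton])

open TopologicalSpace in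
theorem localDim_closure {X Y : Scheme.{u}} (f : X ⟶ Y) [LocallyOfFiniteType f] (t x : X)
    (hx : x ∈ closure ({t} : Set X)) (hd : FlatMor.fibreDimAt f x ≤ (FibDim14.rd f t : WithBot ℕ∞)) :
    FlatMor.localDim ↥(closure {t} ∩ f.base ⁻¹' {f x}) ⟨x, hx, rfl⟩ = (FibDim14.rd f t : WithBot ℕ∞) := by
  let C : Closeds X := ⟨closure {t}, isClosed_closure⟩
  let j := (Scheme.IdealSheafData.vanishingIdeal C).subschemeι
  have hrange : Set.range j = closure {t} := by
    rw [Scheme.IdealSheafData.range_subschemeι, Scheme.IdealSheafData.coe_support_vanishingIdeal]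
    rfl
  obtain ⟨w, hw⟩ : x ∈ Set.range j := by rw [hrange]; exact hx
  obtain ⟨g, hg⟩ : t ∈ Set.range j := by rw [hrange]; exact subset_closure rfl
  rw [FibSub4.localDim_inter_preimage j f hrange w hw rfl hx]
  refine le_antisymm (le_trans ?_ hd) ?_
  · obtain ⟨b, hb, hfb, hbmax, hbd⟩ := FibGen4.exists_isMaxFib (j ≫ f) w
    rw [← hbd, FibGen4.fibreDimAt_eq_rd_of_isMaxFib _ hbmax, FibSub4.rd_preimmersion, ← hw]
    exact FibDim14.rd_le_fibreDimAt f (hb.map j.continuous) hfb
  · obtain ⟨b, hb, hfb, hbmax, hbd⟩ := FibGen4.exists_isMaxFib (j ≫ f) w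
    rw [← hbd, FibGen4.fibreDimAt_eq_rd_of_isMaxFib _ hbmax]
    have hgb : g ⤳ b := j.isEmbedding.isInducing.specializes_iff.1 (by
      rw [hg, specializes_iff_mem_closure, ← hrange]
      exact ⟨b, rfl⟩)
    have h2 := (FibDim14.fibreDimAt_le_iff (j ≫ f)).1
      (hgb.mem_open (FibDim14.isOpen_fibreDimAt_le (j ≫ f) (FibDim14.rd (j ≫ f) b))
        (FibGen4.fibreDimAt_eq_rd_of_isMaxFib (j ≫ f) hbmax).le) g specializes_rfl rfl
    rw [FibSub4.rd_preimmersion j f g, hg] at h2
    exact_mod_cast h2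


/-- Let Y be a locally Noetherian scheme, f : X ⟶ Y a morphism locally of finite type, and y a
geometrically unibranch point of Y, lying on the unique irreducible component Y₀ of Y with generic
point η. The following are equivalent: a) f is universally open at every point of X_y; b) every
point x of X_y lies on an irreducible component Z of X dominating Y₀ with dim_x(Z ∩ X_y) = dim(Z ∩
X_η); b'') for every open subset U of X, dim(U ∩ X_η) ≥ dim(U ∩ X_y); c) f is open at every point of
X_y. (The published statement assumes Y locally Noetherian only for c) and also lists b′), the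
pointwise form of b″) (for every x in X_y and every open U ∋ x, dim(U ∩ X_η) ≥ dim_x(U ∩ X_y)); over
the spectrum of an infinite product of copies of a field, the inclusion of a non-open closed point
satisfies b) and b″) but not a), so this row takes Y locally Noetherian throughout, and b′) is not
listed.) -/
theorem result {X Y : Scheme.{u}} [IsLocallyNoetherian Y] (f : X ⟶ Y)
    [LocallyOfFiniteType f] (y : Y) (hy : CAlg2.IsGeomUnibranch (Y.presheaf.stalk y)) :
    List.TFAE [∀ x : X, f.base x = y → EGA43.IsUnivOpenAt f x,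
      ∀ x : X, f.base x = y → ∀ Y₀ ∈ irreducibleComponents (Y : Type u), y ∈ Y₀ →
        ∃ Z ∈ irreducibleComponents (X : Type u), ∃ hx : x ∈ Z, closure (f.base '' Z) = Y₀ ∧
          ∀ η : Y, closure ({η} : Set Y) = Y₀ →
            FlatMor.localDim ↥(Z ∩ f.base ⁻¹' {f.base x}) ⟨x, ⟨hx, rfl⟩⟩ = topologicalKrullDim ↥(Z ∩ f.base ⁻¹' {η}),
      ∀ U : X.Opens, ∀ Y₀ ∈ irreducibleComponents (Y : Type u), y ∈ Y₀ → ∀ η : Y, closure ({η} : Set Y) = Y₀ →
        topologicalKrullDim ↥((U : Set X) ∩ f.base ⁻¹' {y}) ≤ topologicalKrullDim ↥((U : Set X) ∩ f.base ⁻¹' {η}),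
      ∀ x : X, f.base x = y → EGA43.IsOpenAt f.base x] := by
  haveI : IsLocallyNoetherian X := LocallyOfFiniteType.isLocallyNoetherian f
  tfae_have 1 → 4 := fun h x hx => Unibr4.isOpenAt_of_isUnivOpenAt (h x hx)
  tfae_have 4 → 1 := fun h x hx => Unibr4.isUnivOpenAt_of_isOpenAt f x (hx.symm ▸ hy)
    fun z _ hfz _ => EGA43Top.liftsAt_of_isOpenAt (h z (hfz.trans hx))
  tfae_have 4 → 2 := by
    intro h x hx Y₀ hY₀ hyY₀
    obtain ⟨η, rfl, hη⟩ := VarDim.exists_generic_of_mem_irreducibleComponents hY₀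
    obtain ⟨z, hzx, hfz, hmaxz, hd⟩ := FibGen4.exists_isMaxFib f x
    obtain ⟨t, htz, htmax, hft, hrd⟩ := Unibr4.exists_component_of_liftsAt f
      (EGA43Top.liftsAt_of_isOpenAt (h z (hfz.trans hx)))
      (η := η) ((hfz.trans hx).symm ▸ specializes_iff_mem_closure.2 hyY₀) hη
    refine ⟨closure {t}, (VarDim.maximal_iff_mem_irreducibleComponents (X := X) t).1 htmax,
      specializes_iff_mem_closure.1 (htz.trans hzx), by rw [image_closure, hft], fun η' hη' => ?_⟩
    have he : η' = η := IsGenericPoint.eq hη' isGenericPoint_closure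
    subst he
    rw [localDim_closure f t x (specializes_iff_mem_closure.1 (htz.trans hzx)) (by
      rw [← hd, FibGen4.fibreDimAt_eq_rd_of_isMaxFib f hmaxz]; exact_mod_cast hrd),
      ← hft, (FibSub4.closure_fibre f t).1]
  tfae_have 2 → 3 := by
    intro h U Y₀ hY₀ hyY₀ η hη
    rw [FibSub4.dim_inter_preimage U.ι f U.range_ι]
    refine (FibGen4.dim_fiber_le_iff _ _ _).2 fun a ha => ?_
    obtain ⟨b, hb, hfb, hbmax, hbd⟩ := FibGen4.exists_isMaxFib (U.ι ≫ f) a
    have hb' : FibDim14.IsMaxFib f (U.ι b) := fun c hc he => congrArg U.ι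
      (hbmax ⟨c, hc.mem_open U.2 b.2⟩ (U.ι.isEmbedding.isInducing.specializes_iff.1 hc) he)
    rw [← hbd, FibGen4.fibreDimAt_eq_rd_of_isMaxFib _ hbmax, FibSub4.rd_preimmersion]
    obtain ⟨Z, hZ, hbZ, hcl, hdim⟩ := h (U.ι b) (hfb.trans ha) Y₀ hY₀ hyY₀
    obtain ⟨t, rfl, ht⟩ := VarDim.exists_generic_of_mem_irreducibleComponents hZ
    rw [image_closure, ← hη] at hcl
    have hft : f t = η := IsGenericPoint.eq hcl isGenericPoint_closure
    have h2 := hdim η hη
    rw [(FibSub4.closure_fibre f t).2 _ hbZ hb', ← hft, (FibSub4.closure_fibre f t).1] at h2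
    rw [h2, ← hη, ← hft] at *
    exact FibSub4.rd_le_dim_open f ((specializes_iff_mem_closure.2 hbZ).mem_open U.2 b.2)
  tfae_have 3 → 1 := by
    intro h x hx
    obtain ⟨z, hzx, hfz, hmaxz, hd⟩ := FibGen4.exists_isMaxFib f x
    obtain ⟨η, hη, hηmax⟩ := Unibr4.exists_max y
    obtain ⟨U, hzU, hU⟩ := FibSub4.exists_opens_max_specializes z
    have h1 : (FibDim14.rd f z : WithBot ℕ∞) ≤ _ := (FibSub4.rd_le_dim_open f hzU).trans
      (le_of_eq_of_le (by rw [hfz, hx]) (h U _ ((VarDim.maximal_iff_mem_irreducibleComponents (X := Y) η).1 hηmax)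
        (specializes_iff_mem_closure.1 hη) η rfl))
    obtain ⟨a, haU, hfa, hrd, hamax⟩ := FibSub4.exists_rd_ge_of_le_dim_open f h1
    have ha : ∀ c, c ⤳ a → c = a := fun c hc => hamax c hc (by
      rw [hfa]
      exact hηmax _ (hfa ▸ hc.map f.continuous))
    refine Unibr4.isUnivOpenAt f x a (Or.inl inferInstance) (hx.symm ▸ hy) ((hU a haU ha).trans hzx)
      (hfa.symm ▸ hηmax) ?_
    rw [← hd, FibGen4.fibreDimAt_eq_rd_of_isMaxFib f hmaxz]
    exact_mod_cast hrd
  tfae_finish

end Groth.Agent.S4938
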