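import Groth.Statements.S3414
import Groth.Agent.S4938
import Groth.Agent.S7838
import Groth.Agent.Lib.Stein6.Finite
import Groth.Agent.Lib.GeomPts5.Lsc
-- import your own Groth.Agent.* helpers here

set_option autoImplicit false
open CategoryTheory AlgebraicGeometry
universe u
open EGA43

namespace Groth.Agent.S3414

/-- Let Y be an irreducible locally Noetherian scheme, f : X ⟶ Y proper, n(y) the geometric number of
connected components of the fibre over y, and suppose every irreducible component of X dominates Y.
If y₀ is a point of Y whose local ring is geometrically unibranch, then n is lower semicontinuous at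
y₀. -/
theorem result {X Y : Scheme.{u}} [IrreducibleSpace Y]
    [IsLocallyNoetherian Y] (f : X ⟶ Y) [IsProper f]
    (hdom : ∀ Z ∈ irreducibleComponents (X : Type u), closure (f.base '' Z) = Set.univ) (y₀ : Y)
    (hy : CAlg2.IsGeomUnibranch (Y.presheaf.stalk y₀)) :
    ∃ V ∈ nhds y₀, ∀ z ∈ V, MoreMor.nGeomConnComp f y₀ ≤ MoreMor.nGeomConnComp f z := by
  let g := f.fromNormalization
  haveI : IsFinite g := Stein6.isFinite_fromNormalization f
  have hc : ∀ z, MoreMor.nGeomConnComp f z = MoreMor.nGeomConnComp g z := fun z => (S7838.result f z).2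
  let η := genericPoint Y
  have hmeet : ∀ U : f.normalization.Opens, (U : Set f.normalization).Nonempty → ∃ u ∈ U, g u = η := by
    intro U hU
    obtain ⟨u, hu, x, rfl⟩ := f.toNormalization.denseRange.exists_mem_open U.2 hU |> fun ⟨a, ha⟩ =>
      (⟨f.toNormalization a, ha, a, rfl⟩ : ∃ u, u ∈ U ∧ ∃ x, f.toNormalization x = u)
    obtain ⟨ξ, hξ⟩ := QuasiSober.sober (isIrreducible_irreducibleComponent (x := x)) isClosed_irreducibleComponent
    have hξx : ξ ⤳ x := specializes_iff_mem_closure.2 (hξ.symm ▸ mem_irreducibleComponent)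
    refine ⟨f.toNormalization ξ, (hξx.map f.toNormalization.continuous).mem_open U.2 hu, ?_⟩
    show g (f.toNormalization ξ) = η
    rw [← Scheme.Hom.comp_apply, f.toNormalization_fromNormalization]
    have h1 := hdom _ (irreducibleComponent_mem_irreducibleComponents x)
    have h2 : f '' irreducibleComponent x ⊆ closure {f ξ} := by
      rw [← hξ]
      exact (image_closure_subset_closure_image f.continuous).trans (by rw [Set.image_singleton])
    have h3 : closure {f ξ} = Set.univ :=
      Set.univ_subset_iff.1 (h1 ▸ closure_minimal h2 isClosed_closure)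
    exact (Specializes.antisymm (specializes_iff_mem_closure.2 (h3.symm ▸ trivial)) (genericPoint_specializes _)).eq
  have hopen : ∀ x, g.base x = y₀ → EGA43.IsUnivOpenAt g x := by
    refine ((S4938.result g y₀ hy).out 0 2).2 fun U Y₀ hY₀ _ ζ hζ => ?_
    have hζη : ζ = η := by
      have h1 : η ∈ Y₀ := by
        rw [irreducibleComponents_eq_singleton, Set.mem_singleton_iff] at hY₀
        rw [hY₀]; trivial
      exact ((specializes_iff_mem_closure.2 (hζ.symm ▸ h1)).antisymm (genericPoint_specializes ζ)).eq
    subst hζη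
    haveI hd : DiscreteTopology ↥((U : Set f.normalization) ∩ g.base ⁻¹' {y₀}) :=
      ((g.isDiscrete_preimage_singleton y₀).mono Set.inter_subset_right).to_subtype
    rcases isEmpty_or_nonempty ↥((U : Set f.normalization) ∩ g.base ⁻¹' {y₀}) with he | hne
    · haveI : IsEmpty (TopologicalSpace.IrreducibleCloseds ↥((U : Set f.normalization) ∩ g.base ⁻¹' {y₀})) :=
        ⟨fun Z => he.elim Z.2.nonempty.some⟩
      rw [topologicalKrullDim, Order.krullDim_eq_bot]
      exact bot_le
    · obtain ⟨⟨u, hu, hu'⟩⟩ := hne
      obtain ⟨v, hv, hvη⟩ := hmeet U ⟨u, hu⟩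
      haveI : Nonempty ↥((U : Set f.normalization) ∩ g.base ⁻¹' {y₀}) := ⟨⟨u, hu, hu'⟩⟩
      refine (topologicalKrullDim_zero_of_discreteTopology ↥((U : Set f.normalization) ∩ g.base ⁻¹' {y₀})).trans ?_
      haveI : Nonempty (TopologicalSpace.IrreducibleCloseds ↥((U : Set f.normalization) ∩ g.base ⁻¹' {η})) :=
        ⟨⟨closure {⟨v, hv, hvη⟩}, isIrreducible_singleton.closure, isClosed_closure⟩⟩
      exact Order.krullDim_nonneg
  obtain ⟨V, hV, hle⟩ := GeomPts5.eventually_le g y₀ hopen
  exact ⟨V, hV, fun z hz => (hc y₀).le.trans ((hle z hz).trans (hc z).ge)⟩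

end Groth.Agent.S3414
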