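import Groth.Statements.S3419
import Groth.Agent.Lib.SectionComp4
import Mathlib.Topology.Semicontinuity.Defs

set_option autoImplicit false
open CategoryTheory AlgebraicGeometry
universe u
open EGA43

set_option backward.isDefEq.respectTransparency.types false

namespace Groth.Agent.S3419

/-- Let Y be locally Noetherian, f : X ⟶ Y locally of finite type and g a section of f; for y in Y let
X⁰_y be the connected component of the fibre f⁻¹(y) containing g(y). Suppose every X⁰_y is
irreducible. Then y ↦ dim X⁰_y is upper semicontinuous on Y; and if this function is constant on a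
neighbourhood of a point y, then X⁰_y is contained in the closure of X⁰_{y'} for every generization
y' of y. -/
theorem result {X Y : Scheme.{u}} [IsLocallyNoetherian Y] (f : X ⟶ Y)
    [LocallyOfFiniteType f] (g : Y ⟶ X) (hg : g ≫ f = 𝟙 Y)
    (hirr : ∀ y : Y, IsIrreducible (connectedComponentIn (f.base ⁻¹' {y}) (g.base y))) :
    UpperSemicontinuous (fun y : Y => topologicalKrullDim ↥(connectedComponentIn (f.base ⁻¹' {y}) (g.base y))) ∧
      ∀ y : Y, (∃ V ∈ nhds y, ∀ z ∈ V, topologicalKrullDim ↥(connectedComponentIn (f.base ⁻¹' {z}) (g.base z)) = topologicalKrullDim ↥(connectedComponentIn (f.base ⁻¹' {y}) (g.base y))) →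
        ∀ y' : Y, y' ⤳ y → connectedComponentIn (f.base ⁻¹' {y}) (g.base y) ⊆ closure (connectedComponentIn (f.base ⁻¹' {y'}) (g.base y')) := by
  refine ⟨fun y c hc => ?_, fun y hV y' hy => ?_⟩
  · obtain ⟨ξ, -, -, -, -, -, hdim, hloc⟩ := SectionComp4.exists_gen_comp f g hg (hirr y)
    have hmem : g.base ⁻¹' {x | FlatMor.fibreDimAt f x ≤ (FibDim14.rd f ξ : WithBot ℕ∞)} ∈ nhds y :=
      ((FibDim14.isOpen_fibreDimAt_le f _).preimage g.continuous).mem_nhds hloc.le
    refine Filter.mem_of_superset hmem fun z hz => ?_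
    obtain ⟨ζ, -, -, -, -, -, hdimz, hlocz⟩ := SectionComp4.exists_gen_comp f g hg (hirr z)
    show topologicalKrullDim _ < c
    rw [hdimz, ← hlocz]
    exact lt_of_le_of_lt hz (hdim ▸ hc)
  · obtain ⟨V, hV, hVc⟩ := hV
    obtain ⟨O, hOV, hO, hyO⟩ := mem_nhds_iff.1 hV
    obtain ⟨t, hft, ht, -, -, -, hdim, -⟩ := SectionComp4.exists_gen_comp f g hg (hirr y')
    exact (SectionComp4.key f g hg hy ht hft).2 (hirr y)
      ((hVc y' (hOV (hy.mem_open hO hyO))).symm.trans hdim)

end Groth.Agent.S3419
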