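import Groth.Statements.S3422
import Groth.Agent.Lib.FibDepth5.SkField
-- Template for statement S3422 (row 3421; see the milestone table for weights).
-- Copy to Groth/Agent/S3422.lean and replace the sorry. The statement below is byte-identical to the frozen
-- statement EGA43.GrothFrozen.S3422 (Groth/Statements/S3422.lean; the theorem EGA43.isLocallyConstructible_setOf_fibre_hasSk);
-- the grader kernel-checks Groth.Agent.S3422.result against that frozen type. Keep the theorem IN THIS FILE
-- (a `result` declared elsewhere and merely imported here is not credited); helpers may live anywhere
-- under Groth/Agent/.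
-- import your own Groth.Agent.* helpers here

set_option autoImplicit false
open CategoryTheory AlgebraicGeometry
universe u
open EGA43

namespace Groth.Agent.S3422

/-- Let f : X ⟶ S be locally of finite presentation and k a natural number. The set of points x of X
such that the local ring at x of the fibre of f through x satisfies Serre's condition (S_k) is
locally constructible in X. -/
theorem result {X S : Scheme.{u}} (f : X ⟶ S)
    [LocallyOfFinitePresentation f] (k : ℕ) :
    Topology.IsLocallyConstructible {x : X |
      LocCoh.HasSk k ((f.fiber (f.base x)).presheaf.stalk (f.asFiber x))
        ((f.fiber (f.base x)).presheaf.stalk (f.asFiber x))} := by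
  exact FibDepth5.Ring.isLocallyConstructible_setOf_qq_fibre
    (Q := fun R _ _ => LocCoh.HasSk k R R)
    (fun R R' _ _ _ _ e => (FibDepth5.hasSk_iff_of_ringEquiv e k).1)
    (fun S _ _ _ K _ _ _ q _ => FibDepth5.hasSk_tensor_field_iff k S K q)
    (fun g _ _ => FibDepth5.isOpen_fibre_hasSk g k) f

end Groth.Agent.S3422
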