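import Groth.Statements.S3423
import Groth.Agent.Lib.FibreLocus.Fibre
-- import your own Groth.Agent.* helpers here

set_option autoImplicit false
open CategoryTheory AlgebraicGeometry
universe u
open EGA43

namespace Groth.Agent.S3423

/-- Let f : X ⟶ S be locally of finite presentation. The set of points x of X such that the fibre of f
through x is geometrically regular at x over the residue field of f x — equivalently, such that x
lies in the smooth locus of that fibre over the residue field — is locally constructible in X. -/
theorem result {X S : Scheme.{u}} (f : X ⟶ S)
    [LocallyOfFinitePresentation f]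
    [∀ s : S, LocallyOfFinitePresentation (f.fiberToSpecResidueField s)] :
    Topology.IsLocallyConstructible {x : X | f.asFiber x ∈ (f.fiberToSpecResidueField (f.base x)).smoothLocus} := by
  have h := Groth.Agent.FibreLocus.isLocallyConstructible_fibSet_smoothPt f (𝟙 S)
  refine (congrArg Topology.IsLocallyConstructible (Set.ext fun x => ?_)).mp h
  have h1 := Groth.Agent.FibreLocus.mem_fibSet_iff_of_field f (𝟙 S)
    Groth.Agent.FibreLocus.isPtLocal_smoothPt _ (S.fromSpecResidueField (f.base x))
    (qY := S.fromSpecResidueField (f.base x)) (gK := 𝟙 _) IsPullback.of_id_fst.flip
    (IsPullback.of_hasPullback f (S.fromSpecResidueField (f.base x))) (f.asFiber x)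
  rw [show Limits.pullback.fst f (S.fromSpecResidueField (f.base x)) (f.asFiber x) = x from
    f.fiberι_asFiber x] at h1
  exact h1.trans (Groth.Agent.Descend.smooth_nhd_iff_mem_smoothLocus (f.fiberToSpecResidueField (f.base x)) _)

end Groth.Agent.S3423
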