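import Groth.Statements.S3429
import Groth.Agent.Lib.EGA43Top.FlatLift
import Groth.Agent.Lib.ModM1.Stalk
-- import your own Groth.Agent.* helpers here

set_option autoImplicit false
open CategoryTheory AlgebraicGeometry
universe u
open EGA42

namespace Groth.Agent.S3429

/-- A morphism of schemes which is quasi-flat (some quasi-coherent module of finite type on the source,
flat over the base, has support the whole source) and locally of finite presentation is universally
open. -/
theorem result {X Y : Scheme.{u}} (f : X ⟶ Y)
    (hf : FDesc.IsQuasiFlat f) [LocallyOfFinitePresentation f] : UniversallyOpen f := by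
  obtain ⟨M, ⟨hqc, hft⟩, hflat, hnt⟩ := hf
  rw [Groth.Agent.EGA43Top.universallyOpen_iff_forall_isUnivOpenAt]
  intro x T g x' _
  haveI := hnt (CategoryTheory.Limits.pullback.fst f g x')
  haveI : Module.Finite (X.presheaf.stalk (CategoryTheory.Limits.pullback.fst f g x'))
      (M.presheaf.stalk (CategoryTheory.Limits.pullback.fst f g x')) := Groth.Agent.M1.finite_stalk hqc hft _
  exact Groth.Agent.EGA43Top.isOpenAt_of_liftsAt (Groth.Agent.EGA43Top.liftsAt_of_flat_stalk f g M x' (hflat _))

end Groth.Agent.S3429
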