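import Groth.Statements.S3430
import Mathlib
import Groth.Agent.Lib.AffStrat4.Noeth
import Groth.Agent.Lib.FibSub4

set_option autoImplicit false
open CategoryTheory AlgebraicGeometry
universe u
open EGA42

namespace Groth.Agent.S3430

section Aux

open AlgebraicGeometry CategoryTheory Limits MvPolynomial Groth.Agent.VarDim
open Groth.Agent.FibDim14 (rd)

set_option maxHeartbeats 1000000
set_option backward.isDefEq.respectTransparency.types false

variable (k : Type u) [Field k] (n : ℕ)

/-- Spectrum of the polynomial ring -/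
noncomputable abbrev polySpec : Scheme.{u} := Spec (CommRingCat.of (MvPolynomial (ULift.{u} (Fin n)) k))

noncomputable abbrev polyTo : polySpec k n ⟶ Spec (CommRingCat.of k) := Spec.map (CommRingCat.ofHom MvPolynomial.C)

instance polyTo_lft : LocallyOfFiniteType (polyTo k n) :=
  (HasRingHomProperty.Spec_iff (P := @LocallyOfFiniteType)).2
    (RingHom.finiteType_algebraMap.2 (inferInstance : Algebra.FiniteType k (MvPolynomial (ULift.{u} (Fin n)) k)))

instance : IrreducibleSpace (polySpec k n) :=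
  inferInstanceAs (IrreducibleSpace (PrimeSpectrum (MvPolynomial (ULift.{u} (Fin n)) k)))

lemma sdim_poly_generic : sdim (polyTo k n) (genericPoint (polySpec k n)) = n := by
  have h1 := dim_eq_sdim_genericPoint (polyTo k n)
  have h2 : topologicalKrullDim (polySpec k n) = ringKrullDim (MvPolynomial (ULift.{u} (Fin n)) k) :=
    PrimeSpectrum.topologicalKrullDim_eq_ringKrullDim _
  rw [h2, MvPolynomial.ringKrullDim_of_isNoetherianRing, ringKrullDim_eq_zero_of_field, zero_add,
    Nat.card_ulift, Nat.card_fin] at h1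
  exact_mod_cast h1.symm

lemma sdim_poly_le (z : polySpec k n) : sdim (polyTo k n) z ≤ n := by
  rcases eq_or_ne (genericPoint (polySpec k n)) z with h | h
  · rw [← h, sdim_poly_generic]
  · have := sdim_lt_of_specializes (polyTo k n) ((genericPoint_spec (polySpec k n)).specializes trivial) h
    rw [sdim_poly_generic] at this
    exact this.le

variable {k n} {X : Scheme.{u}} (f : X ⟶ Spec (CommRingCat.of k)) [LocallyOfFiniteType f]

lemma le_dim_of_surjective {U : X.Opens} (g : (U : Scheme.{u}) ⟶ polySpec k n)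
    (hg : g ≫ polyTo k n = U.ι ≫ f) (hs : Function.Surjective g.base) :
    (n : WithBot ℕ∞) ≤ topologicalKrullDim (X : Type u) := by
  haveI : LocallyOfFiniteType (g ≫ polyTo k n) := hg ▸ inferInstance
  haveI : LocallyOfFiniteType g := locallyOfFiniteType_of_comp g (polyTo k n)
  obtain ⟨u, hu⟩ := hs (genericPoint (polySpec k n))
  rw [dim_eq_iSup_sdim f]
  refine le_trans ?_ (le_iSup _ (U.ι u))
  rw [← sdim_comp_of_surjective f U.ι u, ← hg]
  have := sdim_le_comp (polyTo k n) g u
  rw [show g u = genericPoint (polySpec k n) from hu, sdim_poly_generic] at this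
  exact_mod_cast this

lemma dim_le_of_finite [QuasiCompact f] {U : X.Opens} (hU : Dense (U : Set X))
    (g : (U : Scheme.{u}) ⟶ polySpec k n)
    (hg : g ≫ polyTo k n = U.ι ≫ f) [IsFinite g] :
    topologicalKrullDim (X : Type u) ≤ n := by
  haveI : TopologicalSpace.NoetherianSpace X := noetherianSpace_of_finiteType f
  haveI : TopologicalSpace.NoetherianSpace U := inferInstanceAs (TopologicalSpace.NoetherianSpace (U : Set X))
  rw [dim_eq_iSup_sdim f]
  refine iSup_le fun x => ?_
  obtain ⟨G, hG⟩ := exists_finite_generic (X := (U : Scheme.{u})) (C := Set.univ) isClosed_univ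
  have hcl : closure (U : Set X) ⊆ ⋃ g ∈ G, closure {U.ι g} := by
    refine closure_minimal (fun u hu => ?_) (G.finite_toSet.isClosed_biUnion fun _ _ => isClosed_closure)
    obtain ⟨w, hw, hwu⟩ := (hG ⟨u, hu⟩).mp trivial
    exact Set.mem_biUnion hw (hwu.map U.ι.continuous).mem_closure
  obtain ⟨w, hw, hwx⟩ := Set.mem_iUnion₂.mp (hcl (hU x))
  have h1 : sdim f x ≤ sdim f (U.ι w) := by
    rcases eq_or_ne (U.ι w) x with h | h
    · rw [h]
    · exact (sdim_lt_of_specializes f (specializes_iff_mem_closure.mpr hwx) h).le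
  have h2 : sdim f (U.ι w) ≤ n := by
    rw [← sdim_comp_of_surjective f U.ι w, ← hg, sdim_comp_eq (polyTo k n) g w]
    have h0 : rd g w = 0 := by
      have h := Groth.Agent.FibDim14.rd_le_fibreDimAt g (x := w) specializes_rfl rfl
      rw [Groth.Agent.FibDim14.fibreDimAt_eq_zero g w] at h
      exact Nat.le_zero.mp (by exact_mod_cast h)
    change sdim (polyTo k n) (g w) + rd g w ≤ n
    rw [h0, add_zero]
    exact sdim_poly_le k n _
  exact_mod_cast h1.trans h2

/-- morphisms from an affine open given by algebra maps -/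
lemma exists_hom {U : X.Opens} (hU : IsAffineOpen U) (ψ : CommRingCat.of (MvPolynomial (ULift.{u} (Fin n)) k) ⟶ Γ(X, U))
    (hψ : CommRingCat.ofHom (MvPolynomial.C : k →+* MvPolynomial (ULift.{u} (Fin n)) k) ≫ ψ =
      Spec.preimage (hU.fromSpec ≫ f)) :
    ∃ g : (U : Scheme.{u}) ⟶ 𝔸(ULift.{u} (Fin n); Spec (CommRingCat.of k)),
      g ≫ (𝔸(ULift.{u} (Fin n); Spec (CommRingCat.of k)) ↘ Spec (CommRingCat.of k)) = U.ι ≫ f ∧
      (ψ.hom.Finite → IsFinite g) ∧
      (Function.Surjective (PrimeSpectrum.comap ψ.hom) → Function.Surjective g.base) := by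
  refine ⟨hU.isoSpec.hom ≫ Spec.map ψ ≫ (AffineSpace.SpecIso (ULift.{u} (Fin n)) (CommRingCat.of k)).inv, ?_, ?_, ?_⟩
  · rw [Category.assoc, Category.assoc, AffineSpace.SpecIso_inv_over, ← Spec.map_comp]
    rw [hψ, Spec.map_preimage, ← IsAffineOpen.isoSpec_inv_ι hU, Category.assoc, Iso.hom_inv_id_assoc]
  · intro h
    haveI : IsFinite (Spec.map ψ) := (IsFinite.SpecMap_iff ψ).mpr h
    infer_instance
  · intro h
    simp only [Scheme.Hom.comp_base, TopCat.coe_comp]
    exact ((AffineSpace.SpecIso (ULift.{u} (Fin n)) (CommRingCat.of k)).inv.homeomorph.surjective.comp h).comp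
      hU.isoSpec.hom.homeomorph.surjective

end Aux


/-- Let X be a scheme of finite type over a field k and n a natural number. Then: dim X ≥ n if and only
if there are a dense open subscheme U of X and a surjective k-morphism from U to affine n-space over
k; dim X ≤ n if and only if there are such U and g with g finite; dim X = n if and only if there are
such U and g with g finite and surjective. -/
theorem result (k : Type u) [Field k] {X : Scheme.{u}}
    (f : X ⟶ Spec (CommRingCat.of k)) [LocallyOfFiniteType f] [QuasiCompact f] (n : ℕ) :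
    ((n : WithBot ℕ∞) ≤ topologicalKrullDim (X : Type u) ↔
      ∃ (U : X.Opens) (g : (U : Scheme.{u}) ⟶ 𝔸(ULift.{u} (Fin n); Spec (CommRingCat.of k))),
        Dense (U : Set X) ∧ g ≫ (𝔸(ULift.{u} (Fin n); Spec (CommRingCat.of k)) ↘ Spec (CommRingCat.of k)) = U.ι ≫ f ∧ Function.Surjective g.base) ∧
    (topologicalKrullDim (X : Type u) ≤ n ↔
      ∃ (U : X.Opens) (g : (U : Scheme.{u}) ⟶ 𝔸(ULift.{u} (Fin n); Spec (CommRingCat.of k))),
        Dense (U : Set X) ∧ g ≫ (𝔸(ULift.{u} (Fin n); Spec (CommRingCat.of k)) ↘ Spec (CommRingCat.of k)) = U.ι ≫ f ∧ IsFinite g) ∧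
    (topologicalKrullDim (X : Type u) = n ↔
      ∃ (U : X.Opens) (g : (U : Scheme.{u}) ⟶ 𝔸(ULift.{u} (Fin n); Spec (CommRingCat.of k))),
        Dense (U : Set X) ∧ g ≫ (𝔸(ULift.{u} (Fin n); Spec (CommRingCat.of k)) ↘ Spec (CommRingCat.of k)) = U.ι ≫ f ∧ IsFinite g ∧ Function.Surjective g.base) := by
  classical
  haveI : IsLocallyNoetherian X := LocallyOfFiniteType.isLocallyNoetherian f
  haveI : CompactSpace X := QuasiCompact.compactSpace_of_compactSpace f
  haveI : IsNoetherian X := { }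
  obtain ⟨U, hU, -, hUC⟩ := Groth.Agent.AffStrat4.exists_dense_affine X
  have hdense : Dense (U : Set X) := by
    intro x
    haveI := irreducibleComponent_mem_irreducibleComponents x
    obtain ⟨y, hy1, hy2⟩ := Set.not_disjoint_iff.mp (hUC _ (irreducibleComponent_mem_irreducibleComponents x))
    obtain ⟨η, hη⟩ := QuasiSober.sober (isIrreducible_irreducibleComponent (x := x)) isClosed_irreducibleComponent
    have hηU : η ∈ U := (hη.specializes hy1).mem_open U.2 hy2
    exact closure_mono (Set.singleton_subset_iff.mpr hηU)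
      (hη.specializes mem_irreducibleComponent).mem_closure
  -- the algebra of the dense affine open
  let R := Γ(X, U)
  letI : Algebra k R := (Spec.preimage (hU.fromSpec ≫ f)).hom.toAlgebra
  haveI : Algebra.FiniteType k R := by
    haveI : LocallyOfFiniteType (Spec.map (Spec.preimage (hU.fromSpec ≫ f))) := by
      rw [Spec.map_preimage]; infer_instance
    exact (HasRingHomProperty.Spec_iff (P := @LocallyOfFiniteType)).mp this
  have mk : ∀ (m : ℕ) (ψ : MvPolynomial (ULift.{u} (Fin m)) k →ₐ[k] R),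
      ∃ g : (U : Scheme.{u}) ⟶ 𝔸(ULift.{u} (Fin m); Spec (CommRingCat.of k)),
        g ≫ (𝔸(ULift.{u} (Fin m); Spec (CommRingCat.of k)) ↘ Spec (CommRingCat.of k)) = U.ι ≫ f ∧
        (ψ.toRingHom.Finite → IsFinite g) ∧
        (Function.Surjective (PrimeSpectrum.comap ψ.toRingHom) → Function.Surjective g.base) := fun m ψ =>
    exists_hom f hU (CommRingCat.ofHom ψ.toRingHom) (by
      ext c
      exact ψ.commutes c)
  -- converse statements
  have conv1 : ∀ (m : ℕ) (W : X.Opens) (g : (W : Scheme.{u}) ⟶ 𝔸(ULift.{u} (Fin m); Spec (CommRingCat.of k))),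
      g ≫ (𝔸(ULift.{u} (Fin m); Spec (CommRingCat.of k)) ↘ Spec (CommRingCat.of k)) = W.ι ≫ f →
      Function.Surjective g.base → (m : WithBot ℕ∞) ≤ topologicalKrullDim (X : Type u) := by
    intro m W g hg hs
    refine le_dim_of_surjective f (g ≫ (AffineSpace.SpecIso (ULift.{u} (Fin m)) (CommRingCat.of k)).hom) ?_ ?_
    · exact (Category.assoc _ _ _).trans ((congrArg (g ≫ ·) ((Iso.inv_comp_eq _).mp
        (AffineSpace.SpecIso_inv_over (n := ULift.{u} (Fin m)) (CommRingCat.of k))).symm).trans hg)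
    · simp only [Scheme.Hom.comp_base, TopCat.coe_comp]
      exact (AffineSpace.SpecIso (ULift.{u} (Fin m)) (CommRingCat.of k)).hom.homeomorph.surjective.comp hs
  have conv2 : ∀ (m : ℕ) (W : X.Opens) (g : (W : Scheme.{u}) ⟶ 𝔸(ULift.{u} (Fin m); Spec (CommRingCat.of k))),
      Dense (W : Set X) →
      g ≫ (𝔸(ULift.{u} (Fin m); Spec (CommRingCat.of k)) ↘ Spec (CommRingCat.of k)) = W.ι ≫ f →
      IsFinite g → topologicalKrullDim (X : Type u) ≤ m := by
    intro m W g hW hg hfin
    haveI := hfin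
    refine dim_le_of_finite f hW (g ≫ (AffineSpace.SpecIso (ULift.{u} (Fin m)) (CommRingCat.of k)).hom) ?_
    exact (Category.assoc _ _ _).trans ((congrArg (g ≫ ·) ((Iso.inv_comp_eq _).mp
      (AffineSpace.SpecIso_inv_over (n := ULift.{u} (Fin m)) (CommRingCat.of k))).symm).trans hg)
  -- normalization
  have main : (IsEmpty X ∧ Subsingleton R) ∨
      ∃ (s : ℕ) (ψ : MvPolynomial (ULift.{u} (Fin s)) k →ₐ[k] R),
        ψ.toRingHom.Finite ∧ Function.Surjective (PrimeSpectrum.comap ψ.toRingHom) ∧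
        topologicalKrullDim (X : Type u) = s := by
    rcases subsingleton_or_nontrivial R with hR | hR
    · left
      refine ⟨⟨fun x => ?_⟩, hR⟩
      obtain ⟨y, hy, -⟩ := hdense.exists_mem_open isOpen_univ ⟨x, trivial⟩
      exact (inferInstance : IsEmpty (PrimeSpectrum R)).false (hU.primeIdealOf ⟨y, hy⟩)
    · right
      obtain ⟨s, g, hinj, hfin⟩ := exists_finite_inj_algHom_of_fg k R
      let e : MvPolynomial (ULift.{u} (Fin s)) k ≃ₐ[k] MvPolynomial (Fin s) k :=
        MvPolynomial.renameEquiv k Equiv.ulift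
      let ψ : MvPolynomial (ULift.{u} (Fin s)) k →ₐ[k] R := g.comp e.toAlgHom
      have hψf : ψ.toRingHom.Finite := RingHom.Finite.comp hfin (RingHom.Finite.of_surjective _ e.surjective)
      have hψi : Function.Injective ψ := hinj.comp e.injective
      have hψs : Function.Surjective (PrimeSpectrum.comap ψ.toRingHom) := by
        letI := ψ.toRingHom.toAlgebra
        haveI : Module.Finite (MvPolynomial (ULift.{u} (Fin s)) k) R := hψf
        haveI : FaithfulSMul (MvPolynomial (ULift.{u} (Fin s)) k) R :=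
          (faithfulSMul_iff_algebraMap_injective _ _).mpr hψi
        intro p
        obtain ⟨Q, -, hQp, hQ⟩ := Ideal.exists_ideal_over_prime_of_isIntegral p.asIdeal (⊥ : Ideal R)
          (fun a ha => by
            have : a = 0 := hψi (((Ideal.mem_bot).mp ha).trans (map_zero ψ).symm)
            rw [this]; exact zero_mem _)
        exact ⟨⟨Q, hQp⟩, PrimeSpectrum.ext hQ⟩
      refine ⟨s, ψ, hψf, hψs, ?_⟩
      obtain ⟨g', hg', hgf, hgs⟩ := mk s ψ
      exact le_antisymm (conv2 s U g' hdense hg' (hgf hψf)) (conv1 s U g' hg' (hgs hψs))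
  have hbot : IsEmpty X → topologicalKrullDim (X : Type u) = ⊥ := fun h => by
    rw [Groth.Agent.VarDim.dim_eq_iSup_sdim f, iSup_of_empty]
  have up : ∀ s m : ℕ, m ≤ s → ∀ (ψ : MvPolynomial (ULift.{u} (Fin s)) k →ₐ[k] R),
      Function.Surjective (PrimeSpectrum.comap ψ.toRingHom) →
      ∃ φ : MvPolynomial (ULift.{u} (Fin m)) k →ₐ[k] R, Function.Surjective (PrimeSpectrum.comap φ.toRingHom) := by
    intro s m hms ψ hψ
    let i : MvPolynomial (ULift.{u} (Fin m)) k →ₐ[k] MvPolynomial (ULift.{u} (Fin s)) k :=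
      MvPolynomial.rename fun a => ULift.up (Fin.castLE hms a.down)
    let r : MvPolynomial (ULift.{u} (Fin s)) k →ₐ[k] MvPolynomial (ULift.{u} (Fin m)) k :=
      MvPolynomial.aeval fun a => if h : (a.down : ℕ) < m then MvPolynomial.X (ULift.up ⟨a.down, h⟩) else 0
    have hri : r.comp i = AlgHom.id k _ := MvPolynomial.algHom_ext fun a => by simp [r, i]
    refine ⟨ψ.comp i, fun p => ?_⟩
    obtain ⟨w, hw⟩ := hψ (PrimeSpectrum.comap r.toRingHom p)
    refine ⟨w, ?_⟩
    have : PrimeSpectrum.comap (ψ.comp i).toRingHom w = PrimeSpectrum.comap i.toRingHom (PrimeSpectrum.comap ψ.toRingHom w) := rfl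
    rw [this, hw]
    ext x
    show r (i x) ∈ p.asIdeal ↔ x ∈ p.asIdeal
    rw [← AlgHom.comp_apply, hri]
    rfl
  have down : ∀ s m : ℕ, s ≤ m → ∀ (ψ : MvPolynomial (ULift.{u} (Fin s)) k →ₐ[k] R), ψ.toRingHom.Finite →
      ∃ φ : MvPolynomial (ULift.{u} (Fin m)) k →ₐ[k] R, φ.toRingHom.Finite := by
    intro s m hsm ψ hψ
    let r : MvPolynomial (ULift.{u} (Fin m)) k →ₐ[k] MvPolynomial (ULift.{u} (Fin s)) k :=
      MvPolynomial.aeval fun a => if h : (a.down : ℕ) < s then MvPolynomial.X (ULift.up ⟨a.down, h⟩) else 0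
    let i : MvPolynomial (ULift.{u} (Fin s)) k →ₐ[k] MvPolynomial (ULift.{u} (Fin m)) k :=
      MvPolynomial.rename fun a => ULift.up (Fin.castLE hsm a.down)
    have hri : r.comp i = AlgHom.id k _ := MvPolynomial.algHom_ext fun a => by simp [r, i]
    exact ⟨ψ.comp r, RingHom.Finite.comp hψ (RingHom.Finite.of_surjective _
      (fun x => ⟨i x, AlgHom.congr_fun hri x⟩))⟩
  refine ⟨⟨fun h => ?_, fun ⟨W, g, _, hg, hs⟩ => conv1 n W g hg hs⟩,
    ⟨fun h => ?_, fun ⟨W, g, hW, hg, hfin⟩ => conv2 n W g hW hg hfin⟩,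
    ⟨fun h => ?_, fun ⟨W, g, hW, hg, hfin, hs⟩ => le_antisymm (conv2 n W g hW hg hfin) (conv1 n W g hg hs)⟩⟩
  · rcases main with ⟨he, -⟩ | ⟨s, ψ, -, hψ, hs⟩
    · rw [hbot he] at h; exact absurd h (by simp)
    · rw [hs] at h
      obtain ⟨φ, hφ⟩ := up s n (by exact_mod_cast h) ψ hψ
      obtain ⟨g, hg, -, hgs⟩ := mk n φ
      exact ⟨U, g, hdense, hg, hgs hφ⟩
  · rcases main with ⟨-, hR⟩ | ⟨s, ψ, hψ, -, hs⟩
    · obtain ⟨g, hg, hgf, -⟩ := mk n (MvPolynomial.aeval fun _ => 0)
      exact ⟨U, g, hdense, hg, hgf (RingHom.Finite.of_surjective _ fun r => ⟨0, Subsingleton.elim _ _⟩)⟩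
    · rw [hs] at h
      obtain ⟨φ, hφ⟩ := down s n (by exact_mod_cast h) ψ hψ
      obtain ⟨g, hg, hgf, -⟩ := mk n φ
      exact ⟨U, g, hdense, hg, hgf hφ⟩
  · rcases main with ⟨he, -⟩ | ⟨s, ψ, hψ, hψs, hs⟩
    · rw [hbot he] at h; exact absurd h (by simp)
    · rw [hs] at h
      obtain rfl : s = n := by exact_mod_cast h
      obtain ⟨g, hg, hgf, hgs⟩ := mk s ψ
      exact ⟨U, g, hdense, hg, hgf hψ, hgs hψs⟩

end Groth.Agent.S3430
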