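import Groth.Statements.S3431
import Groth.Agent.Lib.EGA43Top.GoldmanRing

set_option autoImplicit false
universe u
open EGA43

namespace Groth.Agent.S3431

/-- Let A be a Noetherian ring. Then A is a Jacobson ring if and only if there is no prime ideal p of A
such that A/p is semi-local (finitely many maximal ideals) of Krull dimension 1. -/
theorem result (A : Type u) [CommRing A] [IsNoetherianRing A] :
    IsJacobsonRing A ↔
      ∀ (p : Ideal A) [p.IsPrime], ¬ (Finite (MaximalSpectrum (A ⧸ p)) ∧ ringKrullDim (A ⧸ p) = 1) := by
  exact Groth.Agent.EGA43Top.isJacobsonRing_iff_no_semilocal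

end Groth.Agent.S3431
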