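import Groth.Statements.S3433
import Groth.Agent.Lib.EGA43Top.Goldman

set_option autoImplicit false
universe u
open EGA43

namespace Groth.Agent.S3433

/-- Let A be a Noetherian local ring with maximal ideal m and let Y be the punctured spectrum Spec A ∖
{m}. Then Y is a Jacobson space, and a point p of Y is closed in Y if and only if dim A/p = 1. -/
theorem result (A : Type u) [CommRing A] [IsNoetherianRing A] [IsLocalRing A] :
    JacobsonSpace ↥({IsLocalRing.closedPoint A}ᶜ : Set (PrimeSpectrum A)) ∧
      ∀ p : ↥({IsLocalRing.closedPoint A}ᶜ : Set (PrimeSpectrum A)),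
        IsClosed ({p} : Set ↥({IsLocalRing.closedPoint A}ᶜ : Set (PrimeSpectrum A))) ↔
          ringKrullDim (A ⧸ p.1.asIdeal) = 1 := by
  have hY : IsClosed ({IsLocalRing.closedPoint A} : Set (AlgebraicGeometry.Spec (CommRingCat.of A))) :=
    (PrimeSpectrum.isClosed_singleton_iff_isMaximal _).2 (IsLocalRing.maximalIdeal.isMaximal A)
  have hmeet : ∀ Z : Set (AlgebraicGeometry.Spec (CommRingCat.of A)), IsClosed Z → Z.Nonempty →
      (Z ∩ {IsLocalRing.closedPoint A}).Nonempty := fun Z hZ ⟨z, hz⟩ =>
    ⟨_, IsLocalRing.specializes_closedPoint z |>.mem_closed hZ hz, rfl⟩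
  refine ⟨Groth.Agent.EGA43Top.jacobsonSpace_compl (X := AlgebraicGeometry.Spec (CommRingCat.of A)) hY hmeet, fun p => ?_⟩
  have hclosed : IsClosed ({p} : Set ↥({IsLocalRing.closedPoint A}ᶜ : Set (PrimeSpectrum A))) ↔
      ∀ q : Ideal A, q.IsPrime → p.1.asIdeal ≤ q → q = p.1.asIdeal ∨ q = IsLocalRing.maximalIdeal A := by
    rw [← closure_subset_iff_isClosed]
    constructor
    · intro h q hq hle
      refine or_iff_not_imp_right.2 fun hqm => ?_
      have hw : (⟨q, hq⟩ : PrimeSpectrum A) ∈ ({IsLocalRing.closedPoint A}ᶜ : Set (PrimeSpectrum A)) :=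
        fun e => hqm (congrArg PrimeSpectrum.asIdeal e)
      have := h (show (⟨_, hw⟩ : ↥({IsLocalRing.closedPoint A}ᶜ : Set (PrimeSpectrum A))) ∈ closure {p} by
        rw [closure_subtype, Set.image_singleton, ← specializes_iff_mem_closure,
          ← PrimeSpectrum.le_iff_specializes]
        exact hle)
      exact congrArg (fun w => w.1.asIdeal) (Set.mem_singleton_iff.1 this)
    · intro h w hw
      rw [closure_subtype, Set.image_singleton, ← specializes_iff_mem_closure,
        ← PrimeSpectrum.le_iff_specializes] at hw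
      rcases h _ w.1.2 hw with e | e
      · exact Subtype.ext (PrimeSpectrum.ext e)
      · exact absurd (PrimeSpectrum.ext e) w.2
  rw [hclosed]
  have hnf : ¬ IsField (A ⧸ p.1.asIdeal) := fun hh =>
    p.2 (PrimeSpectrum.ext (IsLocalRing.eq_maximalIdeal (Ideal.Quotient.maximal_of_isField _ hh)))
  have hone : 1 ≤ ringKrullDim (A ⧸ p.1.asIdeal) := by
    by_contra hlt
    refine hnf ?_
    have : Ring.KrullDimLE 0 (A ⧸ p.1.asIdeal) := by
      rw [Ring.krullDimLE_iff]
      exact ENat.WithBot.lt_add_one_iff.1 (by simpa using not_le.1 hlt)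
    exact Ring.KrullDimLE.isField_of_isDomain
  rw [le_antisymm_iff, and_iff_left hone, ← Nat.cast_one, ← Ring.krullDimLE_iff,
    Ring.krullDimLE_one_iff_of_noZeroDivisors]
  constructor
  · intro h I hI0 hI
    rcases h (I.comap (Ideal.Quotient.mk _)) (hI.comap _) (fun x hx => by
        rw [Ideal.mem_comap, Ideal.Quotient.eq_zero_iff_mem.2 hx]; exact I.zero_mem) with e | e
    · refine absurd ?_ hI0
      rw [← Ideal.map_comap_of_surjective _ Ideal.Quotient.mk_surjective I, e, Ideal.map_quotient_self]
    · rw [← Ideal.map_comap_of_surjective _ Ideal.Quotient.mk_surjective I, e]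
      refine (Ideal.map_eq_top_or_isMaximal_of_surjective _ Ideal.Quotient.mk_surjective
        (IsLocalRing.maximalIdeal.isMaximal A)).resolve_left ?_
      intro htop
      exact hI.ne_top (by rw [← Ideal.map_comap_of_surjective _ Ideal.Quotient.mk_surjective I, e, htop])
  · intro h q hq hle
    refine or_iff_not_imp_left.2 fun hne => ?_
    have hker : RingHom.ker (Ideal.Quotient.mk p.1.asIdeal) ≤ q := by rw [Ideal.mk_ker]; exact hle
    have hm := h (q.map (Ideal.Quotient.mk p.1.asIdeal)) (fun e => hne (le_antisymm ?_ hle))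
      (Ideal.map_isPrime_of_surjective Ideal.Quotient.mk_surjective hker)
    · have := Ideal.comap_isMaximal_of_surjective (Ideal.Quotient.mk p.1.asIdeal)
        Ideal.Quotient.mk_surjective (K := q.map (Ideal.Quotient.mk p.1.asIdeal))
      rw [Ideal.comap_map_of_surjective _ Ideal.Quotient.mk_surjective, ← RingHom.ker_eq_comap_bot,
        sup_eq_left.2 hker] at this
      exact IsLocalRing.eq_maximalIdeal this
    · rwa [Ideal.map_eq_bot_iff_le_ker, Ideal.mk_ker] at e

end Groth.Agent.S3433
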