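import Groth.Statements.S3434
import Groth.Agent.Lib.ProperNhd.Main
import Groth.Agent.Lib.DVRVal.FunctionField

set_option autoImplicit false
open CategoryTheory AlgebraicGeometry
universe u
open EGA43

namespace Groth.Agent.S3434

open IsLocalRing Groth.Agent.ProperNhd

theorem eq_genericPoint_of_mem_affines {Z : Scheme.{u}} [IsIntegral Z] (p : Z)
    (h : ∀ W : Z.affineOpens, (W.1 : Set Z).Nonempty → p ∈ W.1) : p = genericPoint Z := by
  have hp : p ⤳ genericPoint Z := by
    rw [specializes_iff_forall_open]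
    intro s hs hgs
    obtain ⟨_, ⟨W, hW, rfl⟩, hgW, hWs⟩ := Z.isBasis_affineOpens.exists_subset_of_mem_open hgs hs
    exact hWs (h ⟨W, hW⟩ ⟨_, hgW⟩)
  exact hp.antisymm (genericPoint_specializes p) |>.eq

section

variable {X Y : Scheme.{u}} [IsIntegral X] (f : X ⟶ Y) (y : Y) (hξ : f (genericPoint X) ⤳ y)

theorem map_toFun :
    Spec.map (DVRVal.toFunField f y hξ) ≫ Y.fromSpecStalk y =
      X.fromSpecStalk (genericPoint X) ≫ f := by
  rw [Spec.map_comp, Category.assoc, Scheme.SpecMap_stalkSpecializes_fromSpecStalk,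
    Scheme.SpecMap_stalkMap_fromSpecStalk]

variable {U : Y.Opens} (hU : IsAffineOpen U) (hy : y ∈ U)

/-- The generic point as a field valued point of `f ⁻¹ U`. -/
noncomputable def gen : Spec (CommRingCat.of X.functionField) ⟶ ((f ⁻¹ᵁ U) : Scheme.{u}) :=
  IsOpenImmersion.lift (f ⁻¹ᵁ U).ι (X.fromSpecStalk (genericPoint X)) (by
    rw [Scheme.Opens.range_ι, Scheme.range_fromSpecStalk]
    exact fun p hp => Specializes.mem_open hp (f ⁻¹ᵁ U).2 (hξ.mem_open U.2 hy))

theorem gen_ι : gen f y hξ hy ≫ (f ⁻¹ᵁ U).ι = X.fromSpecStalk (genericPoint X) :=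
  IsOpenImmersion.lift_fac _ _ _

theorem rho_gen (r : Γ(Y, U)) :
    rho (affPart f hU) (gen f y hξ hy) r =
      (DVRVal.toFunField f y hξ).hom ((Y.presheaf.germ U y hy).hom r) := by
  have : Spec.preimage (gen f y hξ hy ≫ affPart f hU) =
      Y.presheaf.germ U y hy ≫ DVRVal.toFunField f y hξ := Spec.map_injective <| by
    rw [← cancel_mono hU.fromSpec, Spec.map_preimage, Category.assoc, affPart_fromSpec, ← Category.assoc,
      gen_ι, ← map_toFun f y hξ, Spec.map_comp (Y.presheaf.germ U y hy) (DVRVal.toFunField f y hξ),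
      Category.assoc, ← IsAffineOpen.fromSpecStalk_eq_fromSpecStalk hU hy, IsAffineOpen.fromSpecStalk]
  exact congrArg (fun ψ : Γ(Y, U) ⟶ CommRingCat.of X.functionField => ψ.hom r) this

theorem essFiniteType_rho_gen [LocallyOfFiniteType f] :
    (rho (affPart f hU) (gen f y hξ hy)).EssFiniteType := by
  have e : rho (affPart f hU) (gen f y hξ hy) =
      (f.stalkMap (genericPoint X)).hom.comp ((Y.presheaf.stalkSpecializes hξ).hom.comp
        (Y.presheaf.germ U y hy).hom) := RingHom.ext fun r => rho_gen f y hξ hU hy r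
  rw [e]
  refine RingHom.EssFiniteType.comp ?_ (LocallyOfFiniteType.stalkMap f _)
  refine RingHom.EssFiniteType.comp ?_ (DVRVal.essFiniteType_stalkSpecializes hξ)
  letI : Algebra Γ(Y, U) (Y.presheaf.stalk y) := (Y.presheaf.germ U y hy).hom.toAlgebra
  haveI : IsLocalization.AtPrime (Y.presheaf.stalk y) (hU.primeIdealOf ⟨y, hy⟩).asIdeal :=
    hU.isLocalization_stalk ⟨y, hy⟩
  exact RingHom.essFiniteType_algebraMap.mpr
    (Algebra.EssFiniteType.of_isLocalization _ (hU.primeIdealOf ⟨y, hy⟩).asIdeal.primeCompl)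

theorem dominates_of_centre (A : ValuationSubring X.functionField)
    (hmem : ∀ r, rho (affPart f hU) (gen f y hξ hy) r ∈ A)
    (hc : ∀ r, A.valuation (rho (affPart f hU) (gen f y hξ hy) r) < 1 ↔
      r ∈ (hU.primeIdealOf ⟨y, hy⟩).asIdeal) :
    (∀ r, A.valuation ((DVRVal.toFunField f y hξ).hom r) ≤ 1) ∧
      ∀ r ∈ maximalIdeal (Y.presheaf.stalk y), A.valuation ((DVRVal.toFunField f y hξ).hom r) < 1 := by
  letI : Algebra Γ(Y, U) (Y.presheaf.stalk y) := (Y.presheaf.germ U y hy).hom.toAlgebra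
  haveI : IsLocalization.AtPrime (Y.presheaf.stalk y) (hU.primeIdealOf ⟨y, hy⟩).asIdeal :=
    hU.isLocalization_stalk ⟨y, hy⟩
  have key : ∀ z, ∃ a : Γ(Y, U), A.valuation ((DVRVal.toFunField f y hξ).hom z) =
      A.valuation (rho (affPart f hU) (gen f y hξ hy) a) ∧
        (z ∈ maximalIdeal (Y.presheaf.stalk y) → a ∈ (hU.primeIdealOf ⟨y, hy⟩).asIdeal) := by
    intro z
    obtain ⟨⟨a, s⟩, hz⟩ := IsLocalization.surj (hU.primeIdealOf ⟨y, hy⟩).asIdeal.primeCompl z
    refine ⟨a, ?_, fun hzm => ?_⟩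
    · have h1 := congrArg (fun w => A.valuation ((DVRVal.toFunField f y hξ).hom w)) hz
      simp only [map_mul] at h1
      have hs : A.valuation ((DVRVal.toFunField f y hξ).hom
          (algebraMap Γ(Y, U) (Y.presheaf.stalk y) s.1)) = 1 := by
        refine le_antisymm ((A.valuation_le_one_iff _).2 (rho_gen f y hξ hU hy s.1 ▸ hmem s.1)) ?_
        exact not_lt.1 fun h => s.2 ((hc s.1).1 (rho_gen f y hξ hU hy s.1 ▸ h))
      rw [hs, mul_one] at h1
      rw [h1, rho_gen]
      rfl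
    · rw [← IsLocalization.AtPrime.to_map_mem_maximal_iff (Y.presheaf.stalk y)
        (hU.primeIdealOf ⟨y, hy⟩).asIdeal a]
      exact hz ▸ Ideal.mul_mem_right _ _ hzm
  refine ⟨fun z => ?_, fun z hz => ?_⟩
  · obtain ⟨a, ha, -⟩ := key z
    rw [ha]
    exact (A.valuation_le_one_iff _).2 (hmem a)
  · obtain ⟨a, ha, ha'⟩ := key z
    rw [ha]
    exact (hc a).2 (ha' hz)

variable (hyp : ∀ A : ValuationSubring X.functionField, IsDiscreteValuationRing A →
    (∀ r, A.valuation ((DVRVal.toFunField f y hξ).hom r) ≤ 1) →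
    (∀ r ∈ maximalIdeal (Y.presheaf.stalk y), A.valuation ((DVRVal.toFunField f y hξ).hom r) < 1) →
    ∃ x : X, f x = y ∧
      ∀ r : X.presheaf.stalk x,
        A.valuation ((X.presheaf.stalkSpecializes (genericPoint_specializes x)).hom r) ≤ 1)

include hyp in
theorem lifts_gen (A : ValuationSubring X.functionField) [IsDiscreteValuationRing A]
    (hmem : ∀ r, rho (affPart f hU) (gen f y hξ hy) r ∈ A)
    (hc : ∀ r, A.valuation (rho (affPart f hU) (gen f y hξ hy) r) < 1 ↔
      r ∈ (hU.primeIdealOf ⟨y, hy⟩).asIdeal) : Lifts (gen f y hξ hy) A := by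
  obtain ⟨h1, h2⟩ := dominates_of_centre f y hξ hU hy A hmem hc
  obtain ⟨x, hx, hxA⟩ := hyp A ‹_› h1 h2
  let ι₀ : X.presheaf.stalk x →+* A :=
    (X.presheaf.stalkSpecializes (genericPoint_specializes x)).hom.codRestrict A.toSubring
      fun r => (A.valuation_le_one_iff _).1 (hxA r)
  let l : Spec (CommRingCat.of A) ⟶ X := Spec.map (CommRingCat.ofHom ι₀) ≫ X.fromSpecStalk x
  have hr : Set.range l ⊆ Set.range (f ⁻¹ᵁ U).ι := by
    rw [Scheme.Opens.range_ι]
    rintro _ ⟨p, rfl⟩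
    have : l p ∈ Set.range (X.fromSpecStalk x) := ⟨_, rfl⟩
    rw [Scheme.range_fromSpecStalk] at this
    exact Specializes.mem_open this (f ⁻¹ᵁ U).2 (show f x ∈ U from hx ▸ hy)
  refine ⟨IsOpenImmersion.lift (f ⁻¹ᵁ U).ι l hr, ?_⟩
  rw [← cancel_mono (f ⁻¹ᵁ U).ι, Category.assoc, IsOpenImmersion.lift_fac, gen_ι,
    ← Scheme.SpecMap_stalkSpecializes_fromSpecStalk (genericPoint_specializes x), ← Spec.map_comp_assoc]
  rfl

include hyp in
theorem lifts_of_generic [IsNoetherianRing Γ(Y, U)] [LocallyOfFiniteType f] [QuasiCompact f]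
    {L : Type u} [Field L] (σ : Spec (CommRingCat.of L) ⟶ ((f ⁻¹ᵁ U) : Scheme.{u}))
    (hσ : (f ⁻¹ᵁ U).ι (pt σ) = genericPoint X) (V : ValuationSubring L)
    (hρ : ∀ r, rho (affPart f hU) σ r ∈ V)
    (hV : ∀ r ∉ (hU.primeIdealOf ⟨y, hy⟩).asIdeal,
      rho (affPart f hU) σ r ≠ 0 ∧ (rho (affPart f hU) σ r)⁻¹ ∈ V) : Lifts σ V := by
  let τ : Spec (CommRingCat.of L) ⟶ X := σ ≫ (f ⁻¹ᵁ U).ι
  have hsp : τ (closedPoint L) ⤳ genericPoint X := Specializes.of_eq hσ
  have hsp' : genericPoint X ⤳ τ (closedPoint L) := Specializes.of_eq hσ.symm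
  let j : CommRingCat.of X.functionField ⟶ CommRingCat.of L :=
    X.presheaf.stalkSpecializes hsp ≫ Scheme.stalkClosedPointTo τ
  have hj : Spec.map j ≫ gen f y hξ hy = σ := by
    rw [← cancel_mono (f ⁻¹ᵁ U).ι, Category.assoc, gen_ι]
    show Spec.map (X.presheaf.stalkSpecializes hsp ≫ Scheme.stalkClosedPointTo τ) ≫ _ = τ
    rw [Spec.map_comp, Category.assoc, Scheme.SpecMap_stalkSpecializes_fromSpecStalk hsp,
      Scheme.Spec_stalkClosedPointTo_fromSpecStalk]
  let j' : X.functionField →+* L := j.hom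
  have hr : ∀ r, rho (affPart f hU) σ r = j' (rho (affPart f hU) (gen f y hξ hy) r) := by
    intro r
    have : Spec.preimage (σ ≫ affPart f hU) = Spec.preimage (gen f y hξ hy ≫ affPart f hU) ≫ j :=
      Spec.map_injective <| by
        rw [Spec.map_preimage, Spec.map_comp, Spec.map_preimage, reassoc_of% hj]
    exact congrArg (fun ψ : Γ(Y, U) ⟶ CommRingCat.of L => ψ.hom r) this
  obtain ⟨l, hl⟩ := lifts_of_dvr_of_essFiniteType (affPart f hU) (hU.primeIdealOf ⟨y, hy⟩)
    (gen f y hξ hy) (essFiniteType_rho_gen f y hξ hU hy)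
    (fun W hW h1 h2 => by haveI := hW; exact lifts_gen f y hξ hU hy hyp W h1 h2) (V.comap j')
    (fun r => show j' _ ∈ V from hr r ▸ hρ r) fun r hr' => by
      obtain ⟨h1, h2⟩ := hV r hr'
      refine ⟨fun h => h1 (by rw [hr, h, map_zero]), ?_⟩
      show j' _ ∈ V
      rw [map_inv₀]
      exact hr r ▸ h2
  let m : ↥(V.comap j') →+* V := (j'.comp (V.comap j').subtype).codRestrict V.toSubring fun z => z.2
  refine ⟨Spec.map (CommRingCat.ofHom m) ≫ l, ?_⟩
  rw [← hj, ← hl, ← Spec.map_comp_assoc, ← Spec.map_comp_assoc]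
  rfl

include hyp in
theorem exists_isProper [IsLocallyNoetherian Y] [IsSeparated f] [LocallyOfFiniteType f]
    [QuasiCompact f] : ∃ U : Y.Opens, y ∈ U ∧ IsProper (f ∣_ U) := by
  refine exists_isProper_of_affine f y fun U hU hy => ?_
  haveI : IsNoetherianRing Γ(Y, U) := IsLocallyNoetherian.component_noetherian ⟨U, hU⟩
  let f₀ := affPart f hU
  haveI : Nonempty ((f ⁻¹ᵁ U) : Scheme.{u}) := ⟨⟨genericPoint X, hξ.mem_open U.2 hy⟩⟩
  haveI : IsIntegral ((f ⁻¹ᵁ U) : Scheme.{u}) := isIntegral_of_isOpenImmersion (f ⁻¹ᵁ U).ι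
  have hgen : (f ⁻¹ᵁ U).ι (genericPoint ((f ⁻¹ᵁ U) : Scheme.{u})) = genericPoint X :=
    genericPoint_eq_of_isOpenImmersion _
  obtain ⟨g₀, hg₀, hlifts⟩ := exists_notMem_forall_lifts f₀ (hU.primeIdealOf ⟨y, hy⟩)
    {W | (W.1 : Set ((f ⁻¹ᵁ U) : Scheme.{u})).Nonempty} (fun L _ σ V hW hρ hc => by
      refine lifts_of_generic f y hξ hU hy hyp σ ?_ V hρ hc
      rw [eq_genericPoint_of_mem_affines (pt σ) fun W hne => hW W hne, hgen])
  refine ⟨g₀, hg₀, ?_⟩
  let D : (Spec Γ(Y, U)).Opens := bOpen g₀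
  have hξD : f₀ (genericPoint ((f ⁻¹ᵁ U) : Scheme.{u})) ∈ D := by
    refine Specializes.mem_open ?_ D.2 (show hU.primeIdealOf ⟨y, hy⟩ ∈ D from hg₀)
    apply hU.fromSpec.isOpenEmbedding.isInducing.specializes_iff.1
    rw [hU.fromSpec_primeIdealOf, ← Scheme.Hom.comp_apply, affPart_fromSpec, Scheme.Hom.comp_apply, hgen]
    exact hξ
  let XD : Scheme.{u} := (f₀ ⁻¹ᵁ D : Scheme.{u})
  haveI : Nonempty XD := ⟨⟨_, hξD⟩⟩
  haveI : IsIntegral XD := isIntegral_of_isOpenImmersion (f₀ ⁻¹ᵁ D).ι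
  haveI : (D : Scheme.{u}).IsSeparated := ⟨by rw [← CategoryTheory.Limits.terminal.comp_from D.ι]; infer_instance⟩
  haveI : IsSeparated (f₀ ∣_ D) := inferInstance
  haveI : XD.IsSeparated := ⟨by rw [← CategoryTheory.Limits.terminal.comp_from (f₀ ∣_ D)]; infer_instance⟩
  apply isProper_of_existence
  refine DVRVal.HasCentres.existence (f := f₀ ∣_ D) fun V y' hy' hmem _ => ?_
  let ρ' : (D : Scheme.{u}).presheaf.stalk y' →+* V :=
    (DVRVal.toFunField (f₀ ∣_ D) y' hy').hom.codRestrict V.toSubring hmem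
  let c : Spec (CommRingCat.of V) ⟶ (D : Scheme.{u}) :=
    Spec.map (CommRingCat.ofHom ρ') ≫ (D : Scheme.{u}).fromSpecStalk y'
  let σ' : Spec (CommRingCat.of XD.functionField) ⟶ XD := XD.fromSpecStalk (genericPoint XD)
  let σ : Spec (CommRingCat.of XD.functionField) ⟶ ((f ⁻¹ᵁ U) : Scheme.{u}) := σ' ≫ (f₀ ⁻¹ᵁ D).ι
  have hcσ : Spec.map (CommRingCat.ofHom V.subtype) ≫ c = σ' ≫ (f₀ ∣_ D) := by
    simp only [c, σ']
    rw [← Spec.map_comp_assoc, ← map_toFun (f₀ ∣_ D) y' hy']
    rfl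
  have hc : Spec.map (CommRingCat.ofHom V.subtype) ≫ c ≫ D.ι = σ ≫ f₀ := by
    rw [reassoc_of% hcσ, morphismRestrict_ι]; simp [σ]
  have hσ : pt σ = genericPoint ((f ⁻¹ᵁ U) : Scheme.{u}) := by
    refine Eq.trans ?_ (genericPoint_eq_of_isOpenImmersion (f₀ ⁻¹ᵁ D).ι)
    exact congrArg (f₀ ⁻¹ᵁ D).ι (Scheme.fromSpecStalk_closedPoint (X := XD) (x := genericPoint XD))
  have hL : Lifts σ V := by
    refine hlifts _ σ V (fun W hW => ?_) (fun r => rho_mem f₀ σ V _ hc r ▸ Subtype.coe_prop _)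
      (centre_bOpen f₀ σ V _ hc g₀ (Subtype.coe_prop (c (closedPoint V))))
    rw [hσ]
    exact ((genericPoint_spec _).mem_open_set_iff W.1.2).2 (by simpa using hW)
  obtain ⟨l, hl⟩ := hL
  have hlc : l ≫ f₀ = c ≫ D.ι := by
    rw [← Spec.map_preimage (l ≫ f₀), ← Spec.map_preimage (c ≫ D.ι)]
    congr 1
    ext r
    have hp : Spec.preimage (l ≫ f₀) ≫ CommRingCat.ofHom V.subtype =
        Spec.preimage (c ≫ D.ι) ≫ CommRingCat.ofHom V.subtype := Spec.map_injective <| by
      rw [Spec.map_comp, Spec.map_comp, Spec.map_preimage, Spec.map_preimage, reassoc_of% hl, hc]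
    exact congrArg (fun ψ : Γ(Y, U) ⟶ CommRingCat.of XD.functionField => ψ.hom r) hp
  have hr : Set.range l ⊆ Set.range (f₀ ⁻¹ᵁ D).ι := by
    rw [Scheme.Opens.range_ι]
    rintro _ ⟨p, rfl⟩
    show f₀ (l p) ∈ D
    rw [← Scheme.Hom.comp_apply, hlc]
    exact Subtype.coe_prop (c p)
  let l' : Spec (CommRingCat.of V) ⟶ XD := IsOpenImmersion.lift (f₀ ⁻¹ᵁ D).ι l hr
  have hl' : Spec.map (CommRingCat.ofHom V.subtype) ≫ l' = σ' := by
    rw [← cancel_mono (f₀ ⁻¹ᵁ D).ι, Category.assoc, IsOpenImmersion.lift_fac, hl]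
  refine ⟨l' (closedPoint V), fun a => ?_⟩
  have : XD.presheaf.stalkSpecializes (genericPoint_specializes (l' (closedPoint V))) =
      Scheme.stalkClosedPointTo l' ≫ CommRingCat.ofHom V.subtype := Spec.map_injective <| by
    rw [← cancel_mono (XD.fromSpecStalk _)]
    exact (Scheme.SpecMap_stalkSpecializes_fromSpecStalk _).trans (by
      rw [Spec.map_comp, Category.assoc, Scheme.Spec_stalkClosedPointTo_fromSpecStalk, hl'])
  show (XD.presheaf.stalkSpecializes _).hom a ∈ V
  rw [this]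
  exact Subtype.coe_prop _

theorem dvr_of_isProper {U : Y.Opens} (hy : y ∈ U) [IsProper (f ∣_ U)]
    (A : ValuationSubring X.functionField)
    (h1 : ∀ r, A.valuation ((DVRVal.toFunField f y hξ).hom r) ≤ 1)
    (h2 : ∀ r ∈ maximalIdeal (Y.presheaf.stalk y), A.valuation ((DVRVal.toFunField f y hξ).hom r) < 1) :
    ∃ x : X, f x = y ∧
      (∀ r, A.valuation ((X.presheaf.stalkSpecializes (genericPoint_specializes x)).hom r) ≤ 1) ∧
      ∀ r ∈ maximalIdeal (X.presheaf.stalk x),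
        A.valuation ((X.presheaf.stalkSpecializes (genericPoint_specializes x)).hom r) < 1 := by
  let ρ' : Y.presheaf.stalk y →+* A :=
    (DVRVal.toFunField f y hξ).hom.codRestrict A.toSubring fun r => (A.valuation_le_one_iff _).1 (h1 r)
  let i : Spec (CommRingCat.of A) ⟶ Y := Spec.map (CommRingCat.ofHom ρ') ≫ Y.fromSpecStalk y
  have hiy : i (closedPoint A) = y := by
    show Y.fromSpecStalk y (Spec.map (CommRingCat.ofHom ρ') (closedPoint A)) = y
    have : Spec.map (CommRingCat.ofHom ρ') (closedPoint A) = closedPoint (Y.presheaf.stalk y) := by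
      apply PrimeSpectrum.ext
      refine (IsLocalRing.le_maximalIdeal (Ideal.IsPrime.ne_top' )).antisymm fun r hr => ?_
      show ρ' r ∈ maximalIdeal A
      rw [ValuationSubring.valuation_lt_one_iff]
      exact h2 r hr
    rw [this, Scheme.fromSpecStalk_closedPoint]
  have hi : Set.range i ⊆ Set.range U.ι := by
    rw [Scheme.Opens.range_ι]
    rintro _ ⟨p, rfl⟩
    exact ((specializes_closedPoint p).map i.continuous).mem_open U.2 (hiy ▸ hy)
  let i₁ : Spec (CommRingCat.of X.functionField) ⟶ ((f ⁻¹ᵁ U) : Scheme.{u}) := gen f y hξ hy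
  have hsq : CommSq i₁ (Spec.map (CommRingCat.ofHom (algebraMap A X.functionField))) (f ∣_ U)
      (IsOpenImmersion.lift U.ι i hi) := ⟨by
    rw [← cancel_mono U.ι, Category.assoc, morphismRestrict_ι, reassoc_of% gen_ι f y hξ hy,
      Category.assoc, IsOpenImmersion.lift_fac]
    simp only [i]
    rw [← Spec.map_comp_assoc, ← map_toFun f y hξ]
    rfl⟩
  have hex : ValuativeCriterion.Existence (f ∣_ U) := by
    have h : @UniversallyClosed _ _ (f ∣_ U) := inferInstance
    rw [UniversallyClosed.eq_valuativeCriterion] at h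
    exact h.1
  obtain ⟨l, hl1, hl2⟩ := (hex { R := A, K := X.functionField, commSq := hsq, .. }).exists_lift
  change Spec.map _ ≫ l = i₁ at hl1
  change l ≫ _ = _ at hl2
  let L : Spec (CommRingCat.of A) ⟶ X := l ≫ (f ⁻¹ᵁ U).ι
  have hL : Spec.map (CommRingCat.ofHom A.subtype) ≫ L = X.fromSpecStalk (genericPoint X) := by
    rw [← gen_ι f y hξ hy]
    exact (Category.assoc _ _ _).symm.trans (congrArg (· ≫ (f ⁻¹ᵁ U).ι) hl1)
  have hLf : L ≫ f = i := by
    simp only [L]
    rw [Category.assoc, ← morphismRestrict_ι, reassoc_of% hl2, IsOpenImmersion.lift_fac]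
  refine ⟨L (closedPoint A), by rw [← Scheme.Hom.comp_apply, hLf, hiy], ?_⟩
  have hst : X.presheaf.stalkSpecializes (genericPoint_specializes (L (closedPoint A))) =
      Scheme.stalkClosedPointTo L ≫ CommRingCat.ofHom A.subtype := Spec.map_injective <| by
    rw [← cancel_mono (X.fromSpecStalk _)]
    exact (Scheme.SpecMap_stalkSpecializes_fromSpecStalk _).trans (by
      rw [Spec.map_comp, Category.assoc, Scheme.Spec_stalkClosedPointTo_fromSpecStalk, hL])
  refine ⟨fun r => ?_, fun r hr => ?_⟩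
  · rw [hst]
    exact A.valuation_le_one ((Scheme.stalkClosedPointTo L).hom r)
  · rw [hst]
    exact (A.valuation_lt_one_iff _).1 (map_nonunit (Scheme.stalkClosedPointTo L).hom r hr)

end

/-- Let Y be an integral locally Noetherian scheme, X an integral scheme, f : X ⟶ Y separated, dominant
and of finite type, and y a point of Y; write K for the function field of X (the local ring at its
generic point ξ), into which O_{Y,y} maps through O_{Y,f ξ}. Then f is proper over some open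
neighbourhood of y if and only if every discrete valuation ring of K which dominates (the image of)
O_{Y,y} dominates (the image of) O_{X,x} for some point x of X; such an x lies over y. -/
theorem result {X Y : Scheme.{u}} [IsIntegral X] [IsIntegral Y] [IsLocallyNoetherian Y]
    (f : X ⟶ Y) [IsSeparated f] [IsDominant f] [LocallyOfFiniteType f] [QuasiCompact f] (y : Y)
    (hξ : f.base (genericPoint X) ⤳ y) :
    (∃ U : Y.Opens, y ∈ U ∧ IsProper (f ∣_ U)) ↔
      ∀ A : ValuationSubring X.functionField, IsDiscreteValuationRing A →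
        (∀ r : Y.presheaf.stalk y, A.valuation ((Y.presheaf.stalkSpecializes hξ ≫ f.stalkMap (genericPoint X)) r) ≤ 1) →
        (∀ r ∈ IsLocalRing.maximalIdeal (Y.presheaf.stalk y),
            A.valuation ((Y.presheaf.stalkSpecializes hξ ≫ f.stalkMap (genericPoint X)) r) < 1) →
        ∃ x : X, f.base x = y ∧
          (∀ r : X.presheaf.stalk x, A.valuation (X.presheaf.stalkSpecializes (genericPoint_specializes x) r) ≤ 1) ∧
          (∀ r ∈ IsLocalRing.maximalIdeal (X.presheaf.stalk x),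
            A.valuation (X.presheaf.stalkSpecializes (genericPoint_specializes x) r) < 1) := by
  refine ⟨fun ⟨U, hy, hp⟩ A _ h1 h2 => ?_, fun h => exists_isProper f y hξ fun A hA h1 h2 => ?_⟩
  · haveI := hp
    exact dvr_of_isProper f y hξ hy A h1 h2
  · obtain ⟨x, hx, hx1, -⟩ := h A hA h1 h2
    exact ⟨x, hx, hx1⟩

end Groth.Agent.S3434
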