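import Groth.Statements.S3435
-- import your own Groth.Agent.* helpers here

set_option autoImplicit false
universe u
open EGA41

namespace Groth.Agent.S3435

open TensorProduct in
/-- Let Λ → A → B → C be ring homomorphisms. The homomorphism Ω_{B/Λ} ⊗_B C → Ω_{B/A} ⊗_B C maps the
imperfection module Υ_{C/B/Λ} (the kernel of Ω_{B/Λ} ⊗_B C → Ω_{C/Λ}) onto the imperfection module
Υ_{C/B/A} (the kernel of Ω_{B/A} ⊗_B C → Ω_{C/A}): every element of Υ_{C/B/A} is the image of some
element of Υ_{C/B/Λ}. -/
theorem result (Λ A B C : Type u) [CommRing Λ] [CommRing A] [CommRing B] [CommRing C]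
    [Algebra Λ A] [Algebra Λ B] [Algebra Λ C] [Algebra A B] [Algebra A C] [Algebra B C]
    [IsScalarTower Λ A B] [IsScalarTower Λ A C] [IsScalarTower Λ B C] [IsScalarTower A B C] :
    ∀ ω ∈ EGA41.imperfection A B C, ∃ η ∈ EGA41.imperfection Λ B C,
      (KaehlerDifferential.map Λ A B B).baseChange C η = ω := by
  intro ω hω
  obtain ⟨η, rfl⟩ := LinearMap.lTensor_surjective C (KaehlerDifferential.map_surjective Λ A B) ω
  let ρ : C ⊗[A] Ω[A⁄Λ] →ₗ[C] C ⊗[B] Ω[B⁄Λ] :=
    (((TensorProduct.mk B C Ω[B⁄Λ] 1).restrictScalars A).comp (KaehlerDifferential.map Λ Λ A B)).liftBaseChange C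
  have hρ : ∀ (c : C) (a : A), ρ (c ⊗ₜ KaehlerDifferential.D Λ A a) =
      c ⊗ₜ[B] KaehlerDifferential.D Λ B (algebraMap A B a) := fun c a => by
    simp [ρ, TensorProduct.smul_tmul']
  have hnat : ∀ z, KaehlerDifferential.mapBaseChange A B C ((KaehlerDifferential.map Λ A B B).baseChange C z) =
      KaehlerDifferential.map Λ A C C (KaehlerDifferential.mapBaseChange Λ B C z) := by
    intro z
    induction z using TensorProduct.induction_on with
    | zero => simp
    | add a b ha hb => simp only [map_add, ha, hb]
    | tmul c w =>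
      have hw : w ∈ Submodule.span B (Set.range (KaehlerDifferential.D Λ B)) := by
        rw [KaehlerDifferential.span_range_derivation]; trivial
      induction hw using Submodule.span_induction generalizing c with
      | mem _ hx => obtain ⟨x, rfl⟩ := hx; simp [KaehlerDifferential.map_D]
      | zero => simp
      | add p q _ _ hp hq => simp only [TensorProduct.tmul_add, map_add, hp c, hq c]
      | smul b p _ hp => rw [← TensorProduct.smul_tmul, hp (b • c)]
  have h0 : KaehlerDifferential.map Λ A C C (KaehlerDifferential.mapBaseChange Λ B C η) = 0 :=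
    (hnat η).symm.trans hω
  obtain ⟨θ, hθ⟩ := (KaehlerDifferential.exact_mapBaseChange_map Λ A C _).mp h0
  have hρ1 : ∀ t, KaehlerDifferential.mapBaseChange Λ B C (ρ t) = KaehlerDifferential.mapBaseChange Λ A C t ∧
      (KaehlerDifferential.map Λ A B B).baseChange C (ρ t) = 0 := by
    intro t
    induction t using TensorProduct.induction_on with
    | zero => simp
    | add a b ha hb => exact ⟨by simp only [map_add, ha.1, hb.1], by simp only [map_add, ha.2, hb.2, add_zero]⟩
    | tmul c w =>
      have hw : w ∈ Submodule.span A (Set.range (KaehlerDifferential.D Λ A)) := by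
        rw [KaehlerDifferential.span_range_derivation]; trivial
      induction hw using Submodule.span_induction generalizing c with
      | mem _ hx =>
        obtain ⟨a, rfl⟩ := hx
        rw [hρ]
        exact ⟨by simp [KaehlerDifferential.map_D, ← IsScalarTower.algebraMap_apply A B C], by simp [KaehlerDifferential.map_D]⟩
      | zero => simp
      | add p q _ _ hp hq =>
        exact ⟨by simp only [TensorProduct.tmul_add, map_add, (hp c).1, (hq c).1],
          by simp only [TensorProduct.tmul_add, map_add, (hp c).2, (hq c).2, add_zero]⟩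
      | smul b p _ hp => rw [← TensorProduct.smul_tmul]; exact hp (b • c)
  refine ⟨η - ρ θ, ?_, ?_⟩
  · show KaehlerDifferential.mapBaseChange Λ B C (η - ρ θ) = 0
    rw [map_sub, (hρ1 θ).1, hθ, sub_self]
  · rw [map_sub, (hρ1 θ).2, sub_zero]
    rfl

end Groth.Agent.S3435
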