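import Groth.Statements.S3436
import Groth.Agent.Lib.AdicSmooth.FormallySmoothLocal
-- import your own Groth.Agent.* helpers here

set_option autoImplicit false
open CategoryTheory AlgebraicGeometry
universe u
open EGA42

namespace Groth.Agent.S3436

open IsLocalRing in
theorem formallySmooth_of_adic {A B : Type u} [CommRing A] [IsNoetherianRing A] [CommRing B]
    [IsLocalRing B] [Algebra A B] [Algebra.EssFiniteType A B]
    (h : CAlgX.IsAdicFormallySmooth A B (maximalIdeal B)) : Algebra.FormallySmooth A B := by
  classical
  obtain ⟨T, hT⟩ := Algebra.EssFiniteType.cond (R := A) (S := B)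
  let φ : MvPolynomial T A →ₐ[A] B := MvPolynomial.aeval (fun i => (i : B))
  have hrange : φ.range = Algebra.adjoin A (T : Set B) := by
    rw [← Algebra.adjoin_range_eq_range_aeval]
    simp
  let q : Ideal (MvPolynomial T A) := (maximalIdeal B).comap φ.toRingHom
  haveI : q.IsPrime := Ideal.IsPrime.comap _
  let P := Localization.AtPrime q
  have hu : ∀ y : q.primeCompl, IsUnit (φ.toRingHom y) := fun y => by
    by_contra hn
    exact y.2 hn
  let ψ : P →+* B := IsLocalization.lift hu
  letI : Algebra P B := ψ.toAlgebra
  haveI : IsScalarTower A P B := IsScalarTower.of_algebraMap_eq fun a => by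
    rw [IsScalarTower.algebraMap_apply A (MvPolynomial T A) P]
    show _ = ψ _
    rw [IsLocalization.lift_eq]
    exact (φ.commutes a).symm
  have hs : Function.Surjective (algebraMap P B) := by
    intro b
    obtain ⟨⟨s, t⟩, hst⟩ := IsLocalization.surj (M := (IsUnit.submonoid B).comap
      (algebraMap (Algebra.adjoin A (T : Set B)) B)) (S := B) b
    obtain ⟨sP, hsP⟩ : (s : B) ∈ φ.range := by rw [hrange]; exact s.2
    obtain ⟨tP, htP⟩ : ((t : Algebra.adjoin A (T : Set B)) : B) ∈ φ.range := by
      rw [hrange]; exact (t : Algebra.adjoin A (T : Set B)).2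
    have ht : IsUnit ((t : Algebra.adjoin A (T : Set B)) : B) := t.2
    have htq : tP ∈ q.primeCompl := fun hq => hq (by
      show IsUnit (φ tP)
      exact htP.symm ▸ ht)
    refine ⟨IsLocalization.mk' P sP ⟨tP, htq⟩, ?_⟩
    show ψ _ = b
    rw [IsLocalization.lift_mk'_spec]
    show φ sP = φ tP * b
    rw [mul_comm]
    exact hsP.trans (hst.symm.trans (congrArg (b * ·) htP.symm))
  haveI : Algebra.FormallySmooth (MvPolynomial T A) P := Algebra.FormallySmooth.of_isLocalization q.primeCompl
  haveI : Algebra.FormallySmooth A P := Algebra.FormallySmooth.comp A (MvPolynomial T A) P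
  haveI : Module.Free P Ω[P⁄A] := Module.free_of_isLocalizedModule q.primeCompl
    (KaehlerDifferential.map A A (MvPolynomial T A) P)
  haveI : Module.Finite P Ω[P⁄A] := Module.Finite.of_isLocalizedModule q.primeCompl
    (f := KaehlerDifferential.map A A (MvPolynomial T A) P)
  exact Groth.Agent.AdicSmooth.formallySmooth_of_isAdicFormallySmooth hs h

/-- Let X and Y be locally Noetherian schemes, f : X ⟶ Y locally of finite type, x a point of X and y =
f x; give O_{X,x} the O_{Y,y}-algebra structure coming from f. Then O_{X,x} is formally smooth over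
O_{Y,y} for the adic topologies of the two local rings (topologies defined by the maximal ideals) if
and only if it is formally smooth for the discrete topologies. -/
theorem result {X Y : Scheme.{u}} [IsLocallyNoetherian X] [IsLocallyNoetherian Y]
    (f : X ⟶ Y) [LocallyOfFiniteType f] (x : X) :
    letI : Algebra (Y.presheaf.stalk (f.base x)) (X.presheaf.stalk x) := (f.stalkMap x).hom.toAlgebra
    EGA41.IsFormallySmoothAdic (Y.presheaf.stalk (f.base x)) (IsLocalRing.maximalIdeal (Y.presheaf.stalk (f.base x)))
        (X.presheaf.stalk x) (IsLocalRing.maximalIdeal (X.presheaf.stalk x)) ↔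
      Algebra.FormallySmooth (Y.presheaf.stalk (f.base x)) (X.presheaf.stalk x) := by
  letI : Algebra (Y.presheaf.stalk (f.base x)) (X.presheaf.stalk x) := (f.stalkMap x).hom.toAlgebra
  haveI : Algebra.EssFiniteType (Y.presheaf.stalk (f.base x)) (X.presheaf.stalk x) :=
    LocallyOfFiniteType.stalkMap f x
  constructor
  · intro h
    refine formallySmooth_of_adic fun S _ _ I hI u hu => h S I ⟨2, hI⟩ ?_ u hu
    obtain ⟨k, hk⟩ := hu
    refine ⟨k * 2, ?_⟩
    have h1 : (IsLocalRing.maximalIdeal (Y.presheaf.stalk (f.base x)) ^ k).map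
        (algebraMap (Y.presheaf.stalk (f.base x)) S) ≤ I := by
      rw [Ideal.map_le_iff_le_comap]
      intro a ha
      rw [Ideal.mem_comap, ← Ideal.Quotient.eq_zero_iff_mem]
      refine (u.commutes a).symm.trans (hk _ ?_)
      have := Ideal.mem_map_of_mem (algebraMap (Y.presheaf.stalk (f.base x)) (X.presheaf.stalk x)) ha
      rw [Ideal.map_pow] at this
      have hle : (IsLocalRing.maximalIdeal (Y.presheaf.stalk (f.base x))).map (f.stalkMap x).hom ≤
          IsLocalRing.maximalIdeal (X.presheaf.stalk x) := Ideal.map_le_iff_le_comap.2 fun a ha hu =>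
        ha (isUnit_of_map_unit (f.stalkMap x).hom a hu)
      exact Ideal.pow_right_mono hle k this
    rw [pow_mul, Ideal.map_pow, eq_bot_iff, ← hI]
    exact Ideal.pow_right_mono h1 2
  · intro h C _ _ J hJ _ u _
    exact Algebra.FormallySmooth.exists_lift J hJ u

end Groth.Agent.S3436
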