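import Groth.Statements.S3440
import Groth.Agent.S2559
import Groth.Agent.Lib.Miracle4
import Groth.Agent.Lib.FlatDepth.FibreStalk
import Groth.Agent.Lib.FlatH4.FlatLocusScheme
import Groth.Agent.Lib.Depth.CM
import Groth.Agent.Lib.RegLoc.Basic
import Groth.Agent.Lib.VarDim.Irred
-- import your own Groth.Agent.* helpers here

set_option autoImplicit false
open CategoryTheory AlgebraicGeometry
universe u
open EGA43

set_option backward.isDefEq.respectTransparency.types false
set_option linter.style.haveILetI false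
namespace Groth.Agent.S3440

/-- Let Y be locally Noetherian, f : X ⟶ Y locally of finite type, x a point of X and y = f x; suppose
O_{Y,y} is regular and O_{X,x} is Cohen–Macaulay. The following are equivalent: a) O_{Y,y} ⟶ O_{X,x}
is flat and the local ring of X_y at x is Cohen–Macaulay; b) O_{Y,y} ⟶ O_{X,x} is flat; c) the
restriction of f to some open neighbourhood of x is universally open; d) f is open at the generic
point of every irreducible component of X_y through x; e') dim O_{X,x} = dim O_{Y,y} + dim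
O_{X_y,x}. -/
theorem result {X Y : Scheme.{u}} [IsLocallyNoetherian Y] (f : X ⟶ Y)
    [LocallyOfFiniteType f] (x : X) (hreg : IsRegularLocalRing (Y.presheaf.stalk (f.base x)))
    (hCM : LocCoh.IsCohenMacaulayLocalRing (X.presheaf.stalk x)) :
    List.TFAE [
      (f.stalkMap x).hom.Flat ∧ LocCoh.IsCohenMacaulayLocalRing ((f.fiber (f.base x)).presheaf.stalk (f.asFiber x)),
      (f.stalkMap x).hom.Flat,
      ∃ U : X.Opens, x ∈ U ∧ UniversallyOpen (U.ι ≫ f),
      (∀ z : ↥(f.fiber (f.base x)), f.asFiber x ∈ closure {z} →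
          (∀ z' : ↥(f.fiber (f.base x)), z ∈ closure {z'} → z' = z) →
          EGA43.IsOpenAt f.base ((f.fiberι (f.base x)).base z)),
      ringKrullDim (X.presheaf.stalk x) =
        ringKrullDim (Y.presheaf.stalk (f.base x)) + ringKrullDim ((f.fiber (f.base x)).presheaf.stalk (f.asFiber x)) ] := by
  haveI : IsLocallyNoetherian X := LocallyOfFiniteType.isLocallyNoetherian f
  haveI : LocallyOfFinitePresentation f := VarDim.locallyOfFinitePresentation_of_locallyNoetherian f
  haveI := hreg
  haveI := hCM
  haveI : LocCoh.IsCohenMacaulayLocalRing (Y.presheaf.stalk (f.base x)) :=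
    DepthLib.isCohenMacaulayLocalRing_of_isRegularLocalRing
  tfae_have 1 → 2 := fun h => h.1
  tfae_have 2 → 1 := by
    intro h
    refine ⟨h, ?_⟩
    letI := (f.stalkMap x).hom.toAlgebra
    haveI : Module.Flat (Y.presheaf.stalk (f x)) (X.presheaf.stalk x) := h
    haveI : IsLocalHom (algebraMap (Y.presheaf.stalk (f x)) (X.presheaf.stalk x)) := f.toLRSHom.prop x
    obtain ⟨h1, h2⟩ := FlatDepth.ring_fibre_invariants (A := Y.presheaf.stalk (f x)) (B := X.presheaf.stalk x)
    obtain ⟨e₀⟩ := FlatDepth.nonempty_fiberStalkEquiv f x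
    let e : EGA4.FibRing (Y.presheaf.stalk (f x)) (X.presheaf.stalk x) ≃+* CInt.fiberStalk f x := e₀
    haveI : IsLocallyNoetherian (f.fiber (f x)) :=
      haveI : LocallyOfFiniteType (f.fiberToSpecResidueField (f x)) := MorphismProperty.pullback_snd _ _ inferInstance
      LocallyOfFiniteType.isLocallyNoetherian (f.fiberToSpecResidueField (f x))
    show LocCoh.IsCohenMacaulayLocalRing (CInt.fiberStalk f x)
    haveI : IsLocalRing (CInt.fiberStalk f x) := inferInstanceAs (IsLocalRing ((f.fiber (f x)).presheaf.stalk (f.asFiber x)))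
    haveI : IsNoetherianRing (CInt.fiberStalk f x) := inferInstanceAs (IsNoetherianRing ((f.fiber (f x)).presheaf.stalk (f.asFiber x)))
    refine { supportDim_eq_depth := ?_ }
    rw [Module.supportDim_self_eq_ringKrullDim, ← ringKrullDim_eq_of_ringEquiv e, SMT.depth_eq_of_ringEquiv e]
    have hA := LocCoh.IsCohenMacaulayLocalRing.supportDim_eq_depth (R := (Y.presheaf.stalk (f x) : Type u))
    have hB := LocCoh.IsCohenMacaulayLocalRing.supportDim_eq_depth (R := (X.presheaf.stalk x : Type u))
    rw [Module.supportDim_self_eq_ringKrullDim] at hA hB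
    rw [hA, hB, h1] at h2
    generalize hF : ringKrullDim (EGA4.FibRing (Y.presheaf.stalk (f x)) (X.presheaf.stalk x)) = dF at h2 ⊢
    generalize LocCoh.depth (EGA4.FibRing (Y.presheaf.stalk (f x)) (X.presheaf.stalk x))
      (EGA4.FibRing (Y.presheaf.stalk (f x)) (X.presheaf.stalk x)) = nF at h2 ⊢
    have hfin : ringKrullDim (Y.presheaf.stalk (f x)) < ⊤ := ringKrullDim_lt_top
    rw [hA] at hfin
    generalize LocCoh.depth (Y.presheaf.stalk (f x)) (Y.presheaf.stalk (f x)) = nA at h2 hfin
    obtain ⟨a, rfl⟩ := ENat.ne_top_iff_exists.1 (show nA ≠ ⊤ from fun he => by rw [he] at hfin; exact lt_irrefl _ hfin)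
    induction dF with
    | bot => simp at h2
    | coe d =>
      rw [← WithBot.coe_add, WithBot.coe_inj] at h2
      rw [WithBot.coe_inj]
      exact (ENat.add_right_injective_of_ne_top (ENat.coe_ne_top a) h2).symm
  tfae_have 2 → 3 := by
    intro h
    let U : X.Opens := ⟨_, FlatH4.isOpen_flatLocus f⟩
    haveI : Flat (U.ι ≫ f) := Flat.of_stalkMap _ fun u => by
      rw [Scheme.Hom.stalkMap_comp]
      exact RingHom.Flat.comp u.2 (Flat.stalkMap U.ι u)
    exact ⟨U, h, inferInstance⟩
  tfae_have 3 → 4 := by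
    rintro ⟨U, hxU, hU⟩ z hz - W hW
    have hzU : (f.fiberι (f x)) z ∈ U := by
      have hsp : (f.fiberι (f x)) z ⤳ x := by
        have := (specializes_iff_mem_closure.2 hz).map (f.fiberι (f x)).continuous
        rwa [f.fiberι_asFiber] at this
      exact hsp.mem_open U.2 hxU
    refine Filter.mem_of_superset ((U.ι ≫ f).isOpenMap.image_mem_nhds
      (x := (⟨_, hzU⟩ : U)) (U.ι.continuous.continuousAt.preimage_mem_nhds hW)) ?_
    rintro _ ⟨a, ha, rfl⟩
    exact ⟨U.ι a, ha, rfl⟩
  tfae_have 4 → 5 := fun h => Groth.Agent.S2559.result f x h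
  tfae_have 5 → 2 := by
    intro h
    letI := (f.stalkMap x).hom.toAlgebra
    haveI : IsLocalHom (algebraMap (Y.presheaf.stalk (f x)) (X.presheaf.stalk x)) := f.toLRSHom.prop x
    show Module.Flat (Y.presheaf.stalk (f x)) (X.presheaf.stalk x)
    refine Miracle4.flat_of_ringKrullDim_eq ?_
    obtain ⟨e₀⟩ := FlatDepth.nonempty_fiberStalkEquiv f x
    refine h.trans ?_
    congr 1
    exact (ringKrullDim_eq_of_ringEquiv e₀).symm
  tfae_finish

end Groth.Agent.S3440
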