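import Groth.Statements.S3441
import Groth.Agent.Lib.FSRel3.Basic

set_option autoImplicit false
universe u
open EGA41

namespace Groth.Agent.S3441

open TensorProduct in
/-- Let A → B → C be ring homomorphisms. The canonical C-linear map Ω_{B/A} ⊗_B C → Ω_{C/A} is left
invertible (has a C-linear left inverse) if and only if C is a formally smooth B-algebra relative to
A for the discrete topologies: every B-algebra homomorphism from C to a quotient C'/J of a B-algebra
C' by an ideal J of square zero that lifts to C' as an A-algebra homomorphism also lifts to C' as a
B-algebra homomorphism. (The published definition of relative formal smoothness tests every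
nilpotent ideal J; its reduction to ideals of square zero does not carry over to the relative
setting, and the square-zero form, which is what the published proof of this statement uses, is the
one taken here.) -/
theorem result (A B C : Type u) [CommRing A] [CommRing B]
    [CommRing C] [Algebra A B] [Algebra B C] [Algebra A C] [IsScalarTower A B C] :
    (∃ l : Ω[C⁄A] →ₗ[C] C ⊗[B] Ω[B⁄A], l ∘ₗ KaehlerDifferential.mapBaseChange A B C = LinearMap.id) ↔
      EGA41.IsFormallySmoothRel A B C := by
  exact ⟨fun ⟨l, hl⟩ => FSRel3.isFormallySmoothRel_of_leftInverse l hl, FSRel3.exists_leftInverse⟩

end Groth.Agent.S3441
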