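import Groth.Statements.S3448
import Groth.Agent.Lib.DimEqScheme4

set_option autoImplicit false
open CategoryTheory AlgebraicGeometry
universe u
open EGA43

set_option backward.isDefEq.respectTransparency.types false

namespace Groth.Agent.S3448


open Groth.Agent.FibDim14 Groth.Agent.EquidimStalk4 in
theorem fib_zero_iff {X Y : Scheme.{u}} (f : X ⟶ Y) [LocallyOfFiniteType f] (z : X) :
    ringKrullDim ((f.fiber (f z)).presheaf.stalk (f.asFiber z)) = 0 ↔
      FlatMor.fibreDimAt f z = (rd f z : WithBot ℕ∞) := by
  haveI : IsLocallyNoetherian (f.fiber (f z)) := LocallyOfFiniteType.isLocallyNoetherian (toPt f (f z))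
  obtain ⟨k, hk⟩ := exists_nat_dim (f.asFiber z)
  rw [localDim_asFiber_eq, hk]
  constructor
  · intro h
    rw [h, zero_add]
  · intro h
    have h1 : k + rd f z = rd f z := by exact_mod_cast h
    rw [show k = 0 by omega]
    rfl

open Groth.Agent.EquidimStalk4 in
theorem hW {Y : Scheme.{u}} [IrreducibleSpace Y] [IsLocallyNoetherian Y] {η y : Y} (hη : η = genericPoint Y)
    (v : Cl η) (hv : clι η v = y) :
    ringKrullDim ((Cl η).presheaf.stalk v) = ringKrullDim (Y.presheaf.stalk y) :=
  (isEquidim_stalk_iff y).1 (isEquidim_stalk_of_irreducible y) η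
    (hη ▸ (genericPoint_spec Y).specializes trivial)
    (fun a ha => by subst hη; exact (ha.antisymm ((genericPoint_spec Y).specializes trivial)).eq) v hv

theorem max_eq {Y : Scheme.{u}} [IrreducibleSpace Y] {η : Y} (h : ∀ a, a ⤳ η → a = η) : η = genericPoint Y :=
  (h _ ((genericPoint_spec Y).specializes trivial)).symm


/-- Let Y be locally Noetherian, f : X ⟶ Y of finite type, x a point of X with y = f x, and suppose
O_{Y,y} is universally catenary. Then dim O_{X,x} = dim O_{Y,y} + dim O_{X_y,x} if and only if there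
is a point z of the fibre over y which is a generization of x, is maximal in the fibre (the generic
point of an irreducible component Z of X_y containing x), has local fibre dimension at z equal to
that at x (dim Z = dim_x X_y), and satisfies dim O_{X,z} = dim O_{Y,y}. -/
theorem result {X Y : Scheme.{u}} [IsLocallyNoetherian Y]
    (f : X ⟶ Y) [LocallyOfFiniteType f] [QuasiCompact f] (x : X)
    (hcat : CAlg.IsUniversallyCatenary (Y.presheaf.stalk (f.base x))) :
    ringKrullDim (X.presheaf.stalk x) =
        ringKrullDim (Y.presheaf.stalk (f.base x)) + ringKrullDim ((f.fiber (f.base x)).presheaf.stalk (f.asFiber x)) ↔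
      ∃ z : X, f.base z = f.base x ∧ z ⤳ x ∧ (∀ z' : X, f.base z' = f.base x → z' ⤳ z → z' = z) ∧
        FlatMor.fibreDimAt f z = FlatMor.fibreDimAt f x ∧
        ringKrullDim (X.presheaf.stalk z) = ringKrullDim (Y.presheaf.stalk (f.base z)) := by
  haveI : IsLocallyNoetherian X := LocallyOfFiniteType.isLocallyNoetherian f
  constructor
  · intro h
    obtain ⟨t, htx, -, hdim⟩ := EquidimStalk4.exists_cl_dim_eq x
    obtain ⟨w, rfl⟩ := EquidimStalk4.exists_preimage htx
    obtain ⟨v, hv⟩ := EquidimStalk4.exists_preimage (htx.map f.continuous)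
    obtain ⟨A, A', B', k, k', hA, hA', hB', hk, -, hd, hd', i1, i2, i3, i4⟩ := EquidimStalk4.exists_dims f w rfl v hv
    rw [← hdim w rfl, hA, hk, hB'] at h
    have h1 : B' = A + k := by exact_mod_cast h
    obtain ⟨b, hbw, hfb, hbmax, hbd⟩ := FibGen4.exists_isMaxFib (EquidimStalk4.clι t ≫ f) w
    rw [FibGen4.fibreDimAt_eq_rd_of_isMaxFib _ hbmax, EquidimStalk4.rd_clι, hd'] at hbd
    have hrb : FibDim14.rd f (EquidimStalk4.clι t b) = k' + FibDim14.rd f (EquidimStalk4.clι t w) := by
      exact_mod_cast hbd
    have hzx := hbw.map (EquidimStalk4.clι t).continuous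
    have hfz : f (EquidimStalk4.clι t b) = f (EquidimStalk4.clι t w) := hfb
    have hzmax : FibDim14.IsMaxFib f (EquidimStalk4.clι t b) := by
      intro a ha he
      by_contra hne
      have h2 := FibDim14.rd_le_fibreDimAt f (ha.trans hzx) (he.trans hfz)
      rw [hd] at h2
      have h2' : FibDim14.rd f a ≤ k + FibDim14.rd f (EquidimStalk4.clι t w) := by exact_mod_cast h2
      have h3 := FibDim14.rd_lt_of_specializes f ha hne he
      omega
    have hF := FibGen4.fibreDimAt_eq_rd_of_isMaxFib f hzmax
    refine ⟨_, hfz, hzx, fun a ha hs => hzmax a hs (ha.trans hfz.symm), ?_, ?_⟩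
    · rw [hF, hd]
      exact congrArg Nat.cast (by omega)
    · have key := (DimEqScheme4.dim_eq_of_component f (EquidimStalk4.specializes_clι t b) (hfz.symm ▸ hcat)
        (hF.trans (congrArg Nat.cast (by omega))) (fun v' hv' => by
          rw [(EquidimStalk4.clι (f t)).isEmbedding.injective (hv'.trans (hfz.trans hv.symm)), hA', hfz, hA,
            show A' = A by omega])).1
      rwa [(fib_zero_iff f _).2 hF, add_zero] at key
  · rintro ⟨z, hfz, hzx, hmax, hF, hd⟩
    have hmaxz : FibDim14.IsMaxFib f z := fun a ha he => hmax a (he.trans hfz) ha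
    have hFz := FibGen4.fibreDimAt_eq_rd_of_isMaxFib f hmaxz
    obtain ⟨t, htz, -, -, hrd, hW'⟩ := DimEqScheme4.exists_component_of_dim_eq f hFz hd
    exact (DimEqScheme4.dim_eq_of_component f (htz.trans hzx) hcat (hF.symm.trans (hFz.trans (by rw [hrd])))
      (fun v hv => by rw [hW' v (hv.trans hfz.symm), hfz])).1

end Groth.Agent.S3448
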