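import Groth.Statements.S3450
import Groth.Agent.Lib.CplDomain.Nagata
import Groth.Agent.Lib.HLV27.Chevalley
import Mathlib

set_option autoImplicit false
universe u
open EGA43

namespace Groth.Agent.S3450

section Aux
open IsLocalRing

/-- in a Noetherian local domain, if some non-zero element lies in every non-zero prime then these are maximal -/
theorem eq_maximal_of_forall_mem {D : Type u} [CommRing D] [IsDomain D] [IsNoetherianRing D] [IsLocalRing D]
    {x : D} (hx : x ≠ 0) (h : ∀ P : Ideal D, P.IsPrime → P ≠ ⊥ → x ∈ P) (P : Ideal D) (hP : P.IsPrime) (hP0 : P ≠ ⊥) :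
    P = maximalIdeal D := by
  classical
  by_cases hm : maximalIdeal D ∈ (Ideal.span {x}).minimalPrimes
  · exact le_antisymm (le_maximalIdeal hP.ne_top)
      (hm.2 ⟨hP, (Ideal.span_singleton_le_iff_mem _).2 (h P hP hP0)⟩ (le_maximalIdeal hP.ne_top))
  · exfalso
    have hfin := (Ideal.span {x}).finite_minimalPrimes_of_isNoetherianRing
    obtain ⟨y, hym, hy⟩ : ∃ y, y ∈ maximalIdeal D ∧ ∀ Q ∈ (Ideal.span {x}).minimalPrimes, y ∉ Q := by
      by_contra hno
      push Not at hno
      have hsub : (maximalIdeal D : Set D) ⊆ ⋃ Q ∈ (↑hfin.toFinset : Set (Ideal D)), ((id Q : Ideal D) : Set D) :=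
        fun y hy => by
          obtain ⟨Q, hQ, hyQ⟩ := hno y hy
          exact Set.mem_iUnion₂.2 ⟨Q, Finset.mem_coe.2 (hfin.mem_toFinset.2 hQ), hyQ⟩
      obtain ⟨Q, hQ, hle⟩ := (Ideal.subset_union_prime (f := id) ⊥ ⊥
        (fun Q hQ _ _ => ((hfin.mem_toFinset.1 hQ).1.1 : Q.IsPrime))).1 hsub
      have hQ' := hfin.mem_toFinset.1 hQ
      exact hm (le_antisymm (le_maximalIdeal hQ'.1.1.ne_top) hle ▸ hQ')
    obtain ⟨Q₁, hQ₁⟩ : (Ideal.span {x}).minimalPrimes.Nonempty := by
      obtain ⟨Q, hQ, -⟩ := Ideal.exists_minimalPrimes_le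
        (J := maximalIdeal D) (le_maximalIdeal fun ht => hP.ne_top
          (top_le_iff.1 (ht ▸ (Ideal.span_singleton_le_iff_mem _).2 (h P hP hP0))))
      exact ⟨Q, hQ⟩
    have hy0 : y ≠ 0 := fun h0 => hy Q₁ hQ₁ (h0 ▸ Q₁.zero_mem)
    obtain ⟨R, hR, -⟩ := Ideal.exists_minimalPrimes_le (I := Ideal.span {y}) (J := maximalIdeal D)
      ((Ideal.span_singleton_le_iff_mem _).2 hym)
    haveI := hR.1.1
    have hR0 : R ≠ ⊥ := fun h0 => hy0 (by simpa [h0] using hR.1.2 (Ideal.mem_span_singleton_self y))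
    obtain ⟨R₀, hR₀, hle⟩ := Ideal.exists_minimalPrimes_le (I := Ideal.span {x}) (J := R)
      ((Ideal.span_singleton_le_iff_mem _).2 (h R hR.1.1 hR0))
    haveI := hR₀.1.1
    have hlt : R₀ < R := lt_of_le_of_ne hle fun he => hy R₀ hR₀ (he ▸ hR.1.2 (Ideal.mem_span_singleton_self y))
    have hbot : (⊥ : Ideal D) < R₀ := bot_lt_iff_ne_bot.2 fun h0 => hx
      (by simpa [h0] using hR₀.1.2 (Ideal.mem_span_singleton_self x))
    haveI : Ideal.FiniteHeight R₀ := inferInstance
    have h1 := Ideal.height_le_one_of_isPrincipal_of_mem_minimalPrimes (Ideal.span {y}) R hR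
    have h2 := Ideal.height_strict_mono_of_isPrime_of_isPrime hlt
    have h4 : R₀.height = 0 := by
      refine nonpos_iff_eq_zero.1 ?_
      by_contra hc
      push Not at hc
      have : (1 : ℕ∞) ≤ R₀.height := Order.one_le_iff_pos.2 hc
      exact lt_irrefl _ ((h2.trans_le h1).trans_le this)
    have h5 := Ideal.height_strict_mono_of_isPrime_of_isPrime hbot
    rw [h4] at h5
    exact not_lt_bot h5

variable {A : Type u} [CommRing A] [IsLocalRing A] [IsNoetherianRing A]

/-- the primes of coheight one -/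
def Q1 (A : Type u) [CommRing A] [IsLocalRing A] : Set (Ideal A) :=
  {q | q.IsPrime ∧ q ≠ maximalIdeal A ∧ ∀ P : Ideal A, P.IsPrime → q < P → P = maximalIdeal A}

theorem sInf_Q1 [IsReduced A] (hA : ¬ IsField A) : sInf (Q1 A) = ⊥ := by
  refine le_bot_iff.1 fun x hx => ?_
  by_contra hx0
  obtain ⟨p, hp, hxp⟩ : ∃ p : Ideal A, p.IsPrime ∧ x ∉ p := by
    by_contra hno
    push Not at hno
    exact hx0 (Ideal.mem_bot.2 (IsReduced.eq_zero x (nilpotent_iff_mem_prime.2 fun P hP => hno P hP)))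
  obtain ⟨p₀, hp₀, hle⟩ := Ideal.exists_minimalPrimes_le (I := ⊥) (J := p) bot_le
  have hp₀m : p₀ ≠ maximalIdeal A := by
    intro he
    refine hA ((IsLocalRing.isField_iff_maximalIdeal_eq).2 (le_bot_iff.1 fun y hy => Ideal.mem_bot.2
      (IsReduced.eq_zero y (nilpotent_iff_mem_prime.2 fun P hP => ?_))))
    obtain ⟨P₀, hP₀, hP₀le⟩ := Ideal.exists_minimalPrimes_le (I := ⊥) (J := P) bot_le
    exact hP₀le (hp₀.2 ⟨hP₀.1.1, bot_le⟩ (he ▸ le_maximalIdeal hP₀.1.1.ne_top) (he ▸ hy))
  obtain ⟨x', hx'm, hx'p, hdvd⟩ : ∃ x', x' ∈ maximalIdeal A ∧ x' ∉ p₀ ∧ x ∣ x' := by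
    obtain ⟨z, hz, hzp⟩ := SetLike.exists_of_lt (lt_of_le_of_ne (le_maximalIdeal hp₀.1.1.ne_top) hp₀m)
    exact ⟨x * z, Ideal.mul_mem_left _ _ hz,
      fun h => (hp₀.1.1.mem_or_mem h).elim (fun h => hxp (hle h)) hzp, dvd_mul_right _ _⟩
  obtain ⟨q, ⟨hq, hpq, hxq⟩, hmax⟩ := set_has_maximal_iff_noetherian.2 ‹IsNoetherianRing A›
    {q : Ideal A | q.IsPrime ∧ p₀ ≤ q ∧ x' ∉ q} ⟨p₀, hp₀.1.1, le_rfl, hx'p⟩
  haveI := hq
  refine hxq ?_
  obtain ⟨c, rfl⟩ := hdvd
  refine Ideal.mul_mem_right _ _ ((Submodule.mem_sInf.1 hx) q ⟨hq, fun he => hxq (he ▸ hx'm), fun P hP hlt => ?_⟩)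
  haveI : IsLocalRing (A ⧸ q) := .of_surjective' _ Ideal.Quotient.mk_surjective
  have key := eq_maximal_of_forall_mem (D := A ⧸ q) (x := Ideal.Quotient.mk q (x * c))
    (fun h => hxq (Ideal.Quotient.eq_zero_iff_mem.1 h)) (fun R hR hR0 => by
      haveI := hR
      by_contra hxR
      refine hmax (R.comap (Ideal.Quotient.mk q)) ⟨Ideal.IsPrime.comap _, ?_, hxR⟩ ?_
      · exact hpq.trans (fun z hz => by rw [Ideal.mem_comap, Ideal.Quotient.eq_zero_iff_mem.2 hz]; exact R.zero_mem)
      · refine lt_of_le_of_ne (fun z hz => by rw [Ideal.mem_comap, Ideal.Quotient.eq_zero_iff_mem.2 hz]; exact R.zero_mem)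
          fun he => hR0 ?_
        rw [← Ideal.map_comap_of_surjective _ Ideal.Quotient.mk_surjective R, ← he, Ideal.map_quotient_self])
    (P.map (Ideal.Quotient.mk q)) (Ideal.map_isPrime_of_surjective Ideal.Quotient.mk_surjective
      (by rw [Ideal.mk_ker]; exact hlt.le))
    (fun h => not_le_of_gt hlt (by rw [Ideal.map_eq_bot_iff_le_ker, Ideal.mk_ker] at h; exact h))
  have h2 := congrArg (Ideal.comap (Ideal.Quotient.mk q)) key
  rw [Ideal.comap_map_of_surjective _ Ideal.Quotient.mk_surjective, ← RingHom.ker_eq_comap_bot, Ideal.mk_ker,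
    sup_eq_left.2 hlt.le] at h2
  rw [h2]
  haveI : (Ideal.comap (Ideal.Quotient.mk q) (maximalIdeal (A ⧸ q))).IsMaximal :=
    Ideal.comap_isMaximal_of_surjective _ Ideal.Quotient.mk_surjective
  exact eq_maximalIdeal inferInstance

theorem isArtinianRing_quot_pow (j : ℕ) : IsArtinianRing (A ⧸ maximalIdeal A ^ j) := by
  rcases j with _ | j
  · rw [pow_zero, Ideal.one_eq_top]; infer_instance
  haveI : Nontrivial (A ⧸ maximalIdeal A ^ (j + 1)) := Ideal.Quotient.nontrivial_iff.2
    (ne_top_of_le_ne_top (maximalIdeal.isMaximal A).ne_top (Ideal.pow_le_self j.succ_ne_zero))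
  haveI : Ring.KrullDimLE 0 (A ⧸ maximalIdeal A ^ (j + 1)) := Ring.krullDimLE_zero_iff.2 fun P hP => by
    haveI := hP
    have h1 : maximalIdeal A ^ (j + 1) ≤ P.comap (Ideal.Quotient.mk _) := fun x hx => by
      rw [Ideal.mem_comap, Ideal.Quotient.eq_zero_iff_mem.2 hx]; exact zero_mem _
    have h2 : P.comap (Ideal.Quotient.mk (maximalIdeal A ^ (j + 1))) = maximalIdeal A :=
      le_antisymm (le_maximalIdeal (Ideal.IsPrime.comap _).ne_top) (Ideal.IsPrime.le_of_pow_le h1)
    haveI : (P.comap (Ideal.Quotient.mk (maximalIdeal A ^ (j + 1)))).IsMaximal := by rw [h2]; infer_instance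
    rw [← Ideal.map_comap_of_surjective _ Ideal.Quotient.mk_surjective P]
    exact (Ideal.map_eq_top_or_isMaximal_of_surjective _ Ideal.Quotient.mk_surjective inferInstance).resolve_left
      (by rw [Ideal.map_comap_of_surjective _ Ideal.Quotient.mk_surjective P]; exact hP.ne_top)
  exact isArtinianRing_iff_isNoetherianRing_krullDimLE_zero.2 ⟨inferInstance, inferInstance⟩

open Classical in
theorem exists_finite_iInf_le_pow [IsAdicComplete (maximalIdeal A) A] (Q : Set (Ideal A)) (h0 : sInf Q = ⊥) (n : ℕ) :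
    ∃ S : Finset (Ideal A), ↑S ⊆ Q ∧ S.inf id ≤ maximalIdeal A ^ n := by
  have hmin : ∀ j, ∃ S : Finset (Ideal A), ↑S ⊆ Q ∧ ∀ q ∈ Q, S.inf id ≤ q ⊔ maximalIdeal A ^ j := by
    intro j
    haveI := isArtinianRing_quot_pow (A := A) j
    obtain ⟨I, ⟨S, hS, rfl⟩, hmin⟩ := IsArtinian.set_has_minimal
      {I : Ideal (A ⧸ maximalIdeal A ^ j) | ∃ S : Finset (Ideal A), ↑S ⊆ Q ∧
        I = (S.inf id).map (Ideal.Quotient.mk _)} ⟨_, ∅, by simp, rfl⟩
    refine ⟨S, hS, fun q hq => ?_⟩
    have hle : (insert q S).inf id ≤ q := Finset.inf_le (f := id) (Finset.mem_insert_self q S)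
    have h1 : ((insert q S).inf id).map (Ideal.Quotient.mk (maximalIdeal A ^ j)) ≤ (S.inf id).map (Ideal.Quotient.mk _) :=
      Ideal.map_mono (Finset.inf_mono (Finset.subset_insert q S))
    have h2 := eq_of_le_of_not_lt h1 (hmin _ ⟨insert q S, by simp [Set.insert_subset_iff, hq, hS], rfl⟩)
    intro z hz
    have h3 : z ∈ ((S.inf id).map (Ideal.Quotient.mk (maximalIdeal A ^ j))).comap (Ideal.Quotient.mk _) :=
      Ideal.mem_map_of_mem _ hz
    rw [← h2, Ideal.comap_map_of_surjective' _ Ideal.Quotient.mk_surjective, Ideal.mk_ker] at h3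
    exact sup_le_sup_right hle _ h3
  choose S hS hSq using hmin
  let U : ℕ → Finset (Ideal A) := fun j => (Finset.range (j + 1)).biUnion S
  have hU : ∀ j, ↑(U j) ⊆ Q := fun j q hq => by
    obtain ⟨i, -, hi⟩ := Finset.mem_biUnion.1 hq
    exact hS i hi
  obtain ⟨j, hj⟩ := HLV27.exists_le_pow (fun j => (U j).inf id)
    (fun i j h => Finset.inf_mono (Finset.biUnion_subset_biUnion_of_subset_left _
      (Finset.range_mono (Nat.succ_le_succ h)))) (le_bot_iff.1 (by
      rw [← h0]
      refine le_sInf fun q hq => ?_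
      rw [← HLV27.iInf_sup_pow q]
      refine le_iInf fun j => (iInf_le _ j).trans ((Finset.inf_mono ?_).trans (hSq j q hq))
      exact Finset.subset_biUnion_of_mem S (Finset.self_mem_range_succ j))) n
  exact ⟨U j, hU j, hj⟩

theorem exists_dvr [IsAdicComplete (maximalIdeal A) A] {q : Ideal A} (hq : q ∈ Q1 A) :
    ∃ (V : Type u) (_ : CommRing V) (_ : IsDomain V) (_ : IsDiscreteValuationRing V) (φ : A →+* V),
      IsLocalHom φ ∧ φ.Finite ∧ RingHom.ker φ = q := by
  obtain ⟨hqp, hqm, hmax⟩ := hq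
  haveI := hqp
  let D := A ⧸ q
  obtain ⟨_, _⟩ := CplDomain.completeLocal_of_finite A D
  let K := FractionRing D
  let B := integralClosure D K
  haveI : Module.Finite D B := CplDomain.isN2_of_complete D K inferInstance
  haveI : IsNoetherianRing B := IsNoetherianRing.of_finite D B
  haveI : IsIntegrallyClosed B := integralClosure.isIntegrallyClosedOfFiniteExtension K
  haveI : Algebra.IsIntegral D B := Algebra.IsIntegral.of_finite D B
  haveI : Ring.DimensionLEOne D := ⟨fun {P} hP0 hP => by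
    haveI := hP
    have h1 : P.comap (Ideal.Quotient.mk q) = maximalIdeal A := by
      refine hmax _ (Ideal.IsPrime.comap _) (lt_of_le_of_ne
        (fun z hz => by rw [Ideal.mem_comap, Ideal.Quotient.eq_zero_iff_mem.2 hz]; exact P.zero_mem) fun he => hP0 ?_)
      rw [← Ideal.map_comap_of_surjective _ Ideal.Quotient.mk_surjective P, ← he, Ideal.map_quotient_self]
    haveI : (P.comap (Ideal.Quotient.mk q)).IsMaximal := by rw [h1]; infer_instance
    rw [← Ideal.map_comap_of_surjective _ Ideal.Quotient.mk_surjective P]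
    exact (Ideal.map_eq_top_or_isMaximal_of_surjective _ Ideal.Quotient.mk_surjective inferInstance).resolve_left
      (by rw [Ideal.map_comap_of_surjective _ Ideal.Quotient.mk_surjective P]; exact hP.ne_top)⟩
  haveI : Ring.DimensionLEOne B := Ring.DimensionLEOne.of_isIntegral D B
  haveI : IsDedekindDomain B := { }
  obtain ⟨_, _⟩ := CplDomain.completeLocal_of_finite D B
  have hinjB : Function.Injective (algebraMap D B) := fun a b h =>
    IsFractionRing.injective D K (congrArg Subtype.val h)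
  have hloc : IsLocalHom (algebraMap D B) := ⟨fun a ha => by_contra fun hna => by
    have hmB : (maximalIdeal B).comap (algebraMap D B) = maximalIdeal D :=
      IsLocalRing.eq_maximalIdeal (Ideal.isMaximal_comap_of_isIntegral_of_isMaximal (R := D) (maximalIdeal B))
    exact (hmB.ge hna : algebraMap D B a ∈ maximalIdeal B) ha⟩
  have hnf : ¬ IsField B := fun hF => hqm (IsLocalRing.eq_maximalIdeal
    ((Ideal.Quotient.maximal_ideal_iff_isField_quotient q).2 (isField_of_isIntegral_of_isField hinjB hF)))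
  haveI hdvr : IsDiscreteValuationRing B :=
    ((IsDiscreteValuationRing.TFAE B hnf).out 2 0).mp (show IsDedekindDomain B from inferInstance)
  haveI := hloc
  haveI : IsLocalHom (Ideal.Quotient.mk q) := .of_surjective _ Ideal.Quotient.mk_surjective
  refine ⟨B, inferInstance, inferInstance, hdvr, (algebraMap D B).comp (Ideal.Quotient.mk q),
    RingHom.isLocalHom_comp _ _,
    (RingHom.finite_algebraMap.2 inferInstance).comp (RingHom.Finite.of_surjective _ Ideal.Quotient.mk_surjective), ?_⟩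
  rw [RingHom.ker_comp_of_injective _ hinjB, Ideal.mk_ker]

end Aux


/-- Let A be a Noetherian local ring which is reduced, complete (for the topology defined by its maximal
ideal m) and not a field. Then for every n there are finitely many local homomorphisms φ_i : A → V_i
into discrete valuation rings, each making V_i a finite A-algebra, such that the intersection of
their kernels is contained in mⁿ. (Equivalently: such finite intersections form a base of
neighbourhoods of 0 for the m-adic topology.) -/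
theorem result (A : Type u) [CommRing A] [IsNoetherianRing A]
    [IsLocalRing A] [IsReduced A] [IsAdicComplete (IsLocalRing.maximalIdeal A) A] (hA : ¬ IsField A) (n : ℕ) :
    ∃ (k : ℕ) (V : Fin k → Type u) (_ : ∀ i, CommRing (V i)) (_ : ∀ i, IsDomain (V i))
      (_ : ∀ i, IsDiscreteValuationRing (V i)) (φ : ∀ i, A →+* V i),
      (∀ i, IsLocalHom (φ i) ∧ (φ i).Finite) ∧
        ⨅ i, RingHom.ker (φ i) ≤ IsLocalRing.maximalIdeal A ^ n := by
  classical
  obtain ⟨S, hS, hle⟩ := exists_finite_iInf_le_pow _ (sInf_Q1 hA) n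
  choose V i1 i2 i3 φ h1 h2 h3 using fun q : {q // q ∈ S} => exists_dvr (hS q.2)
  let e := S.equivFin.symm
  refine ⟨S.card, fun i => V (e i), fun i => i1 _, fun i => i2 _, fun i => i3 _, fun i => φ (e i),
    fun i => ⟨h1 _, h2 _⟩, le_trans (Finset.le_inf fun q hq => ?_) hle⟩
  refine (iInf_le _ (e.symm ⟨q, hq⟩)).trans ?_
  show RingHom.ker (φ (e (e.symm ⟨q, hq⟩))) ≤ q
  rw [e.apply_symm_apply, h3]

end Groth.Agent.S3450
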