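import Groth.Statements.S3455
import Groth.Agent.Lib.FibDepth5.GeomNormalConstr
-- import your own Groth.Agent.* helpers here

set_option autoImplicit false
open CategoryTheory AlgebraicGeometry
universe u
open EGA43

namespace Groth.Agent.S3455

/-- Let f : X ⟶ S be locally of finite presentation. The set of points x of X such that the fibre of f
through x is geometrically normal at x — for every field extension K of the residue field of f x and
every point x' above x in the base-changed fibre, the local ring at x' is an integrally closed
domain — is locally constructible in X. -/
theorem result {X S : Scheme.{u}} (f : X ⟶ S)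
    [LocallyOfFinitePresentation f] :
    Topology.IsLocallyConstructible {x : X |
      ∀ (K : Type u) [Field K] [Algebra (IsLocalRing.ResidueField (S.presheaf.stalk (f.base x))) K]
        (x' : ↥(FBase.bc (f.fiberToSpecResidueField (f.base x)) K)),
        (FBase.bcπ (f.fiberToSpecResidueField (f.base x)) K).base x' = f.asFiber x →
          (IsDomain ((FBase.bc (f.fiberToSpecResidueField (f.base x)) K).presheaf.stalk x') ∧ IsIntegrallyClosed ((FBase.bc (f.fiberToSpecResidueField (f.base x)) K).presheaf.stalk x'))} := by
  refine (congrArg Topology.IsLocallyConstructible (Set.ext fun x => ?_)).mp
    (FibDepth5.isLocallyConstructible_geomNormal f)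
  exact (FibDepth5.geomNormal_fibre_iff f x).symm

end Groth.Agent.S3455
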