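import Groth.Statements.S3456
import Groth.Agent.Lib.EquidimStalk4

set_option autoImplicit false
open CategoryTheory AlgebraicGeometry
universe u
open EGA43

set_option backward.isDefEq.respectTransparency.types false

namespace Groth.Agent.S3456


open Topology in
theorem image_closure {A B : Scheme.{u}} (f : A ⟶ B) (t : A) : closure (f.base '' closure {t}) = closure {f t} :=
  (closure_image_closure f.continuous).trans (by rw [Set.image_singleton])


/-- Let Y be locally Noetherian, f : X ⟶ Y locally of finite type and x a point of X; let X_j run over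
the (finitely many) irreducible components of X containing x. Then f is equidimensional at x if and
only if there is a natural number e such that for every X_j: the closure Y_j of f(X_j) is an
irreducible component of Y; for every point η of Y whose closure equals Y_j (i.e. the generic point
of Y_j), the fibre X_j ∩ f⁻¹(η) has topological Krull dimension e; and the local dimension at x of
X_j ∩ f⁻¹(f x) is e. All subsets of X carry the induced topology. -/
theorem result {X Y : Scheme.{u}} [IsLocallyNoetherian Y] (f : X ⟶ Y)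
    [LocallyOfFiniteType f] (x : X) :
    EGA43.IsEquidimAt f x ↔
      ∃ e : ℕ, ∀ Xj ∈ irreducibleComponents (X : Type u), ∀ hx : x ∈ Xj,
        closure (f.base '' Xj) ∈ irreducibleComponents (Y : Type u) ∧
        (∀ η : Y, closure ({η} : Set Y) = closure (f.base '' Xj) →
          topologicalKrullDim ↥(Xj ∩ f.base ⁻¹' {η}) = e) ∧
        FlatMor.localDim ↥(Xj ∩ f.base ⁻¹' {f.base x}) ⟨x, ⟨hx, Set.mem_singleton (f.base x)⟩⟩ = e := by
  haveI : IsLocallyNoetherian X := LocallyOfFiniteType.isLocallyNoetherian f
  rw [EquidimStalk4.isEquidimAt_iff]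
  refine exists_congr fun e => ⟨fun h Xj hXj hx => ?_, fun h t htx htmax => ?_⟩
  · obtain ⟨t, rfl, htmax⟩ := VarDim.exists_generic_of_mem_irreducibleComponents hXj
    obtain ⟨h1, h2, h3⟩ := h t (specializes_iff_mem_closure.2 hx) htmax
    obtain ⟨w, hw⟩ := EquidimStalk4.exists_preimage (specializes_iff_mem_closure.2 hx)
    obtain ⟨b1, b2, -⟩ := EquidimStalk4.cl_bounds f w
    rw [hw, h3] at b2
    rw [h2] at b1
    refine ⟨(image_closure f t).symm ▸ (VarDim.maximal_iff_mem_irreducibleComponents (X := Y) _).1 h1,
      fun η hη => ?_, ?_⟩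
    · rw [image_closure] at hη
      have he : η = f t := IsGenericPoint.eq hη isGenericPoint_closure
      rw [he, (FibSub4.closure_fibre f t).1, h2]
    · rw [FibSub4.localDim_inter_preimage (EquidimStalk4.clι t) f (EquidimStalk4.range_clι t) w hw rfl hx]
      exact le_antisymm b2 b1
  · have hloc : ∀ s, s ⤳ x → (∀ y, y ⤳ s → y = s) → ∀ w : EquidimStalk4.Cl s, EquidimStalk4.clι s w = x →
        FlatMor.fibreDimAt (EquidimStalk4.clι s ≫ f) w = (e : WithBot ℕ∞) := fun s hs hsmax w hw => by
      rw [← FibSub4.localDim_inter_preimage (EquidimStalk4.clι s) f (EquidimStalk4.range_clι s) w hw rfl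
        (specializes_iff_mem_closure.1 hs)]
      exact (h _ ((VarDim.maximal_iff_mem_irreducibleComponents (X := X) s).1 hsmax)
        (specializes_iff_mem_closure.1 hs)).2.2
    obtain ⟨h1, h2, -⟩ := h _ ((VarDim.maximal_iff_mem_irreducibleComponents (X := X) t).1 htmax)
      (specializes_iff_mem_closure.1 htx)
    have h2' := h2 (f t) (image_closure f t).symm
    rw [(FibSub4.closure_fibre f t).1] at h2'
    rw [image_closure] at h1
    refine ⟨(VarDim.maximal_iff_mem_irreducibleComponents (X := Y) _).2 h1, by exact_mod_cast h2', le_antisymm ?_ ?_⟩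
    · obtain ⟨z, hzx, hfz, hmaxz, hd⟩ := FibGen4.exists_isMaxFib f x
      rw [← hd, FibGen4.fibreDimAt_eq_rd_of_isMaxFib f hmaxz]
      obtain ⟨s, hsz, hsmax⟩ := EquidimAt4.exists_max_specializes z
      obtain ⟨w, hw⟩ := EquidimStalk4.exists_preimage (hsz.trans hzx)
      rw [← hloc s (hsz.trans hzx) hsmax w hw]
      exact (EquidimStalk4.cl_bounds f w).2.2 z (hw.symm ▸ hzx) (hw.symm ▸ hfz) hsz
    · obtain ⟨w, hw⟩ := EquidimStalk4.exists_preimage htx
      rw [← hloc t htx htmax w hw, ← hw]
      exact (EquidimStalk4.cl_bounds f w).2.1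

end Groth.Agent.S3456
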