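import Groth.Statements.S3457
import Groth.Agent.Lib.DimEqScheme4

set_option autoImplicit false
open CategoryTheory AlgebraicGeometry
universe u
open EGA43

set_option backward.isDefEq.respectTransparency.types false

namespace Groth.Agent.S3457


open Groth.Agent.FibDim14 Groth.Agent.EquidimStalk4 in
theorem key {X Y : Scheme.{u}} [IsLocallyNoetherian Y] (f : X ⟶ Y) [LocallyOfFiniteType f] (x : X)
    (h : EGA43.IsEquidimAt f x) (hcat : CAlg.IsUniversallyCatenary (Y.presheaf.stalk (f x)))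
    (p : PrimeSpectrum (X.presheaf.stalk x)) (hp : p.asIdeal ∈ minimalPrimes (X.presheaf.stalk x)) :
    ringKrullDim (X.presheaf.stalk x ⧸ p.asIdeal) + (rd f x : WithBot ℕ∞) =
      ringKrullDim (Y.presheaf.stalk (f x) ⧸ (PrimeSpectrum.comap (f.stalkMap x).hom p).asIdeal) +
        FlatMor.fibreDimAt f x := by
  haveI : IsLocallyNoetherian X := LocallyOfFiniteType.isLocallyNoetherian f
  obtain ⟨e, he⟩ := (isEquidimAt_iff f x).1 h
  obtain ⟨t, ht⟩ : ∃ t, X.fromSpecStalk x (p : Spec (X.presheaf.stalk x)) = t := ⟨_, rfl⟩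
  have htx : t ⤳ x := ht ▸ (Scheme.range_fromSpecStalk (X := X) (x := x)).le ⟨_, rfl⟩
  have htmax : ∀ y, y ⤳ t → y = t := fun y hy => by
    obtain ⟨r, rfl⟩ := (Scheme.range_fromSpecStalk (X := X) (x := x)).ge (hy.trans htx)
    rw [← ht, (X.fromSpecStalk x).isEmbedding.isInducing.specializes_iff] at hy
    have hle : (r : PrimeSpectrum (X.presheaf.stalk x)).asIdeal ≤ p.asIdeal :=
      (PrimeSpectrum.le_iff_specializes (r : PrimeSpectrum (X.presheaf.stalk x)) p).2 hy
    rw [← ht]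
    exact congrArg (X.fromSpecStalk x) (PrimeSpectrum.ext (le_antisymm hle
      (hp.2 ⟨(r : PrimeSpectrum (X.presheaf.stalk x)).2, bot_le⟩ hle)) : (r : PrimeSpectrum _) = p)
  obtain ⟨-, h2, h3⟩ := he t htx htmax
  obtain ⟨w, hw⟩ := exists_preimage htx
  obtain ⟨v, hv⟩ := exists_preimage (htx.map f.continuous)
  have hft : Y.fromSpecStalk (f x) (PrimeSpectrum.comap (f.stalkMap x).hom p : Spec (Y.presheaf.stalk (f x))) = f t := by
    rw [← ht]
    exact EGA43Top.stalkMap_comap_apply f x p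
  rw [← dim_stalk_cl w hw p ht, ← dim_stalk_cl v hv _ hft, h3]
  subst hw
  have E := DimEqScheme4.dim_stalk_cl_eq f w hcat v hv
  rw [h2] at E
  exact E


/-- Let Y be locally Noetherian, f : X ⟶ Y locally of finite type, x a point of X with y = f x, and
suppose f is equidimensional at x and O_{Y,y} is universally catenary. Let e be the local dimension
at x of the fibre X_y. Then for every minimal prime 𝔭 of O_{X,x} (that is, for every irreducible
component X_j of X through x, with O_{X_j,x} = O_{X,x}/𝔭 and O_{Y_j,y} = O_{Y,y}/(𝔭 ∩ O_{Y,y})) one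
has dim(O_{X,x}/𝔭) + trdeg_{κ(y)} κ(x) = dim(O_{Y,y}/(𝔭 ∩ O_{Y,y})) + e. -/
theorem result {X Y : Scheme.{u}} [IsLocallyNoetherian Y] (f : X ⟶ Y)
    [LocallyOfFiniteType f] (x : X) (h : EGA43.IsEquidimAt f x)
    (hcat : CAlg.IsUniversallyCatenary (Y.presheaf.stalk (f.base x))) :
    letI : Algebra (Y.residueField (f.base x)) (X.residueField x) := (f.residueFieldMap x).hom.toAlgebra
    ∀ 𝔭 ∈ minimalPrimes (X.presheaf.stalk x),
      ringKrullDim (X.presheaf.stalk x ⧸ 𝔭) +
          (Cardinal.toNat (Algebra.trdeg (Y.residueField (f.base x)) (X.residueField x)) : WithBot ℕ∞) =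
        ringKrullDim (Y.presheaf.stalk (f.base x) ⧸ 𝔭.comap (f.stalkMap x).hom) + FlatMor.fibreDimAt f x := by
  intro 𝔭 h𝔭
  exact key f x h hcat ⟨𝔭, h𝔭.1.1⟩ h𝔭

end Groth.Agent.S3457
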