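import Groth.Statements.S3458
import Groth.Agent.Lib.SectionCompBC4
import Groth.Agent.Lib.EGA43Top.OpenCriterion

set_option autoImplicit false
open CategoryTheory AlgebraicGeometry
universe u
open EGA43

set_option backward.isDefEq.respectTransparency.types false

namespace Groth.Agent.S3458

/-- Let Y be locally Noetherian, f : X ⟶ Y locally of finite type, g a section of f, and X⁰_y the
connected component of f⁻¹(y) containing g(y). Suppose that every X⁰_y is geometrically irreducible:
for every field extension K of κ(y), the preimage of X⁰_y in the base change of the fibre X_y to K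
is irreducible. Then for every point y such that z ↦ dim X⁰_z is constant on a neighbourhood of y, f
is universally open at every point of X⁰_y. -/
theorem result {X Y : Scheme.{u}} [IsLocallyNoetherian Y]
    (f : X ⟶ Y) [LocallyOfFiniteType f] (g : Y ⟶ X) (hg : g ≫ f = 𝟙 Y)
    (hgi : ∀ (y : Y) (K : Type u) [Field K] [Algebra (IsLocalRing.ResidueField (Y.presheaf.stalk y)) K],
      IsIrreducible ((FBase.bcπ (f.fiberToSpecResidueField y) K ≫ f.fiberι y).base ⁻¹' (connectedComponentIn (f.base ⁻¹' {y}) (g.base y))))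
    (y : Y)
    (hc : ∃ V ∈ nhds y, ∀ z ∈ V, topologicalKrullDim ↥(connectedComponentIn (f.base ⁻¹' {z}) (g.base z)) = topologicalKrullDim ↥(connectedComponentIn (f.base ⁻¹' {y}) (g.base y))) :
    ∀ x ∈ connectedComponentIn (f.base ⁻¹' {y}) (g.base y), EGA43.IsUnivOpenAt f x := by
  intro x hx
  obtain ⟨V, hV, hVc⟩ := hc
  obtain ⟨O, hOV, hO, hyO⟩ := mem_nhds_iff.1 hV
  refine EGA43Top.isUnivOpenAt_of_finiteType f x fun S' h hh x' hx' => ?_
  haveI := hh
  haveI : IsLocallyNoetherian S' := LocallyOfFiniteType.isLocallyNoetherian h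
  haveI : LocallyOfFinitePresentation (Limits.pullback.snd f h) :=
    VarDim.locallyOfFinitePresentation_of_locallyNoetherian _
  refine EGA43Top.isOpenAt_of_liftsAt fun z hz => ?_
  let p := Limits.pullback.fst f h
  let f' := Limits.pullback.snd f h
  have hsq : IsPullback p f' f h := IsPullback.of_hasPullback _ _
  have hfp : ∀ a, f (p a) = h (f' a) := fun a => by
    rw [← Scheme.Hom.comp_apply, hsq.w, Scheme.Hom.comp_apply]
  let s := f' x'
  have hsy : h s = y := by
    rw [← hfp, show p x' = x from hx']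
    exact SectionComp4.apply_of_mem f hx
  have hzy : h z ⤳ y := hsy ▸ hz.map h.continuous
  obtain ⟨τ, hfτ, hτmax, hpτ, hspτ, hdτ⟩ :=
    SectionComp4.exists_gen_bc g hg hsq s (hgi (h s))
  obtain ⟨t, hft, -, -, hspt, hdt⟩ :=
    SectionComp4.exists_gen_bc g hg hsq z (hgi (h z))
  have hrd : FibDim14.rd f' t = FibDim14.rd f' τ := by
    have h1 : topologicalKrullDim ↥(connectedComponentIn (f.base ⁻¹' {h z}) (g.base (h z))) =
        topologicalKrullDim ↥(connectedComponentIn (f.base ⁻¹' {h s}) (g.base (h s))) := by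
      rw [hVc _ (hOV (hzy.mem_open hO hyO)), hsy]
    rw [hdt, hdτ] at h1
    exact_mod_cast h1
  let g' : S' ⟶ Limits.pullback f h := hsq.lift (h ≫ g) (𝟙 S') (by rw [Category.assoc, hg]; simp)
  have hg'1 : ∀ a, p (g' a) = g (h a) := fun a => by
    rw [← Scheme.Hom.comp_apply, hsq.lift_fst, Scheme.Hom.comp_apply]
  have hg'2 : ∀ a, f' (g' a) = a := fun a => by
    rw [← Scheme.Hom.comp_apply, hsq.lift_snd]; rfl
  have htg : t ⤳ g' s := (hspt _ (hg'2 z) (by rw [hg'1]; exact SectionComp4.mem_comp f g hg _)).trans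
    (hz.map g'.continuous)
  obtain ⟨w, hw⟩ := EquidimStalk4.exists_preimage htg
  obtain ⟨b, hb, hfb, hbmax, hd⟩ := FibGen4.exists_isMaxFib (EquidimStalk4.clι t ≫ f') w
  have hle : FibDim14.rd f' τ ≤ FibDim14.rd f' (EquidimStalk4.clι t b) := by
    have h2 := (EquidimStalk4.cl_bounds f' w).1.trans (le_of_eq (hd.symm.trans
      ((FibGen4.fibreDimAt_eq_rd_of_isMaxFib _ hbmax).trans
        (congrArg (Nat.cast : ℕ → WithBot ℕ∞) (EquidimStalk4.rd_clι f' t b)))))
    rw [← hrd]
    exact_mod_cast h2
  have hfb' : f' (EquidimStalk4.clι t b) = s := by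
    rw [show f' (EquidimStalk4.clι t b) = f' (EquidimStalk4.clι t w) from hfb, hw, hg'2]
  have hbg : EquidimStalk4.clι t b ⤳ g' s := hw ▸ hb.map (EquidimStalk4.clι t).continuous
  have hτb : τ ⤳ EquidimStalk4.clι t b := hspτ _ hfb' (SectionComp4.mem_comp_of_specializes f
    (SectionComp4.mem_comp f g hg _) (hg'1 s ▸ hbg.map p.continuous) (by rw [hfp, hfb']))
  have hτeq : τ = EquidimStalk4.clι t b := by
    by_contra hne
    exact absurd (FibDim14.rd_lt_of_specializes (f := f') hτb hne (hfτ.trans hfb'.symm)) (not_lt.2 hle)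
  exact ⟨t, ((EquidimStalk4.specializes_clι t b).trans (hτeq ▸ specializes_rfl)).trans (hspτ _ rfl
    (by rw [show p x' = x from hx', hsy]; exact hx)), hft⟩

end Groth.Agent.S3458
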