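import Groth.Statements.S3459
import Groth.Agent.Lib.ZConn5.UnivOpenUnique
import Groth.Agent.Lib.GeomReg18.Stalk
-- import your own Groth.Agent.* helpers here

set_option autoImplicit false
open CategoryTheory AlgebraicGeometry
universe u
open EGA43

namespace Groth.Agent.S3459

open CategoryTheory.Limits IsLocalRing Groth.Agent.FibDim14

set_option backward.isDefEq.respectTransparency false
set_option backward.isDefEq.respectTransparency.types false

variable {X Y : Scheme.{u}} (f : X ⟶ Y) [LocallyOfFiniteType f]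

/-- An essentially finite type field point over a generalisation, as the generic point of a trait at `y`. -/
theorem exists_trait [IsLocallyNoetherian Y] {y η : Y} (hsp : η ⤳ y) (hne : y ≠ η) (L : Type u) [Field L]
    (e : Y.residueField η ⟶ CommRingCat.of L) (he : e.hom.EssFiniteType) :
    ∃ (V : ValuationSubring L) (_ : IsDiscreteValuationRing V) (g : Spec (CommRingCat.of V) ⟶ Y),
      g (closedPoint V) = y ∧
      Spec.map (CommRingCat.ofHom (algebraMap V L)) ≫ g = Spec.map e ≫ Y.fromSpecResidueField η := by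
  let φ : Y.presheaf.stalk y ⟶ CommRingCat.of L := Y.presheaf.stalkSpecializes hsp ≫ Y.residue η ≫ e
  have hw : Spec.map φ ≫ Y.fromSpecStalk y = Spec.map e ≫ Y.fromSpecResidueField η := by
    rw [Scheme.fromSpecResidueField, ← Scheme.SpecMap_stalkSpecializes_fromSpecStalk hsp]
    simp_rw [← Spec.map_comp_assoc]
    rfl
  have hess : φ.hom.EssFiniteType := (DVRVal.essFiniteType_stalkSpecializes hsp).comp
    (RingHom.EssFiniteType.comp (RingHom.FiniteType.of_surjective _ (Y.residue_surjective η)).essFiniteType he)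
  have hker : RingHom.ker φ.hom ≠ maximalIdeal (Y.presheaf.stalk y) := by
    intro h
    apply hne
    have h1 : Spec.map φ (closedPoint L) = closedPoint (Y.presheaf.stalk y) := by
      apply PrimeSpectrum.ext
      show (maximalIdeal L).comap φ.hom = _
      rw [isField_iff_maximalIdeal_eq.mp (Field.toIsField _)]
      exact h
    have h2 : (Spec.map φ ≫ Y.fromSpecStalk y) (closedPoint L) =
        (Spec.map e ≫ Y.fromSpecResidueField η) (closedPoint L) := by rw [hw]
    rw [Scheme.Hom.comp_apply, h1, Scheme.Hom.comp_apply, Scheme.fromSpecResidueField_apply] at h2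
    exact Y.fromSpecStalk_closedPoint.symm.trans h2
  obtain ⟨V, hV, hmem, hlt⟩ := DVRVal.exists_dvr _ _ φ.hom hess hker
  let ψ : Y.presheaf.stalk y ⟶ CommRingCat.of V := CommRingCat.ofHom (φ.hom.codRestrict V.toSubring hmem)
  haveI : IsLocalHom ψ.hom := ⟨fun a ha => by
    by_contra hna
    exact (hlt a hna).ne ((V.valuation_eq_one_iff (⟨φ.hom a, hmem a⟩ : V)).mp ha)⟩
  refine ⟨V, hV, Spec.map ψ ≫ Y.fromSpecStalk y, ?_, ?_⟩
  · show Y.fromSpecStalk y (Spec.map ψ (closedPoint V)) = y
    rw [show Spec.map ψ (closedPoint V) = closedPoint (Y.presheaf.stalk y) from comap_closedPoint ψ.hom]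
    exact Y.fromSpecStalk_closedPoint
  · rw [← Category.assoc, ← Spec.map_comp, ← hw]
    rfl

/-- Geometric reducedness from one reduced point over each finite purely inseparable extension. -/
theorem isGeomReducedAt_of_points {k : Type u} [Field k] {F : Scheme.{u}} (g : F ⟶ Spec (CommRingCat.of k)) (ζ : F)
    (h : ∀ (k' : Type u) [Field k'] [Algebra k k'] [FiniteDimensional k k'] [IsPurelyInseparable k k'],
      ∃ P : ↥(pullback g (Spec.map (CommRingCat.ofHom (algebraMap k k')))),
        pullback.fst g _ P = ζ ∧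
          _root_.IsReduced ((pullback g (Spec.map (CommRingCat.ofHom (algebraMap k k')))).presheaf.stalk P)) :
    FBase.IsGeomReducedAt g ζ := by
  letI : F.Over (Spec (CommRingCat.of k)) := ⟨g⟩
  refine (GeomRed.isGeomReducedAt_iff_purelyInseparable (k := k) (X := F) ζ).2 fun k' _ _ _ _ x' hx' => ?_
  obtain ⟨P, hP, hred⟩ := h k'
  haveI : UniversallyInjective (Spec.map (CommRingCat.ofHom (algebraMap k k'))) := GeomReg18.universallyInjective_spec k k'
  haveI : UniversallyInjective (pullback.fst g (Spec.map (CommRingCat.ofHom (algebraMap k k')))) :=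
    MorphismProperty.pullback_fst (P := @UniversallyInjective) _ _ inferInstance
  obtain rfl : x' = P := (pullback.fst g (Spec.map (CommRingCat.ofHom (algebraMap k k')))).injective
    (Eq.trans hx' hP.symm)
  exact hred

omit [LocallyOfFiniteType f] in
/-- Points of a field valued base change as points of an extended fibre. -/
theorem exists_fibre_point {k : Type u} [Field k] {k' : Type u} [Field k'] (jY : Spec (CommRingCat.of k) ⟶ Y)
    [IsPreimmersion jY] (e : Spec (CommRingCat.of k') ⟶ Spec (CommRingCat.of k)) (ζ : ↥(pullback f jY))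
    (P : ↥(pullback f (e ≫ jY))) (hP : pullback.fst f (e ≫ jY) P = pullback.fst f jY ζ)
    (hred : _root_.IsReduced ((pullback f (e ≫ jY)).presheaf.stalk P)) :
    ∃ Q : ↥(pullback (pullback.snd f jY) e), pullback.fst (pullback.snd f jY) e Q = ζ ∧
      _root_.IsReduced ((pullback (pullback.snd f jY) e).presheaf.stalk Q) := by
  let I := pullbackLeftPullbackSndIso f jY e
  obtain ⟨Q, rfl⟩ := I.hom.surjective P
  refine ⟨Q, ?_, isReduced_of_injective (asIso (I.hom.stalkMap Q)).commRingCatIsoToRingEquiv.symm.toRingHom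
    (asIso (I.hom.stalkMap Q)).commRingCatIsoToRingEquiv.symm.injective⟩
  haveI : IsPreimmersion (pullback.fst f jY) := MorphismProperty.pullback_fst _ _ inferInstance
  refine (pullback.fst f jY).isEmbedding.injective ?_
  rw [← hP, ← Scheme.Hom.comp_apply, ← Scheme.Hom.comp_apply, pullbackLeftPullbackSndIso_hom_fst]

/-- A closed set of full fibre dimension at `x` contains the maximal point of a unique component through `x`. -/
theorem exists_mem_of_localDim {x zX : X} (hz : zX ⤳ x) (hfz : f zX = f x)
    (huniq : ∀ t, t ⤳ x → f t = f x → IsMaxFib f t → t = zX) {W : Scheme.{u}} (j : W ⟶ X) [IsClosedImmersion j]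
    {X' : Set X} (hr : Set.range j = X') (hx : x ∈ X')
    (hd : FlatMor.localDim ↥(X' ∩ f.base ⁻¹' {f.base x}) ⟨x, ⟨hx, Set.mem_singleton (f.base x)⟩⟩ =
      FlatMor.fibreDimAt f x) : ∃ b : W, j b = zX := by
  obtain ⟨wx, hwx⟩ := hr.ge hx
  rw [FibSub4.localDim_inter_preimage j f hr wx hwx rfl hx] at hd
  obtain ⟨b, hb, hfb, hbmax, hbd⟩ := FibGen4.exists_isMaxFib (j ≫ f) wx
  rw [FibGen4.fibreDimAt_eq_rd_of_isMaxFib _ hbmax, FibSub4.rd_preimmersion] at hbd
  refine ⟨b, ?_⟩
  by_contra hne
  have hjb : j b ⤳ x := hwx ▸ hb.map j.continuous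
  have hfjb : f (j b) = f x := by rw [← hwx]; exact hfb
  obtain ⟨t, ht, hft, htmax, -⟩ := FibGen4.exists_isMaxFib f (j b)
  obtain rfl := huniq t (ht.trans hjb) (hft.trans hfjb) htmax
  have hlt := rdeg_lt_of_specializes f ht (Ne.symm hne) hft
  rw [rdeg_eq_rd, rdeg_eq_rd, Nat.cast_lt] at hlt
  have h3 := rd_le_fibreDimAt f hz hfz
  rw [← hd, ← hbd, Nat.cast_le] at h3
  omega

/-- Let Y be an irreducible locally Noetherian scheme with generic point η, f : X ⟶ Y locally of finite
type, x a point of X and y = f x. Suppose (1) x lies on exactly one irreducible component Z of the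
fibre X_y, and (2) X_y is geometrically reduced at the generic point of Z. Call an irreducible
component X' of X containing x admissible when the local dimension at x of X' ∩ f⁻¹(y) equals that
of f⁻¹(y) and the restriction of f to X' (with its reduced structure) is universally open at the
generic points of the irreducible components of X' ∩ f⁻¹(y) containing x. Then there is at most one
admissible X'; and if X' is admissible, the fibre X_η is geometrically reduced at the generic point
of X'. -/
theorem result {X Y : Scheme.{u}} [IrreducibleSpace Y]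
    [IsLocallyNoetherian Y] (f : X ⟶ Y) [LocallyOfFiniteType f] (x : X)
    (h1 : ∃! Zc : Set ↥(f.fiber (f.base x)), Zc ∈ irreducibleComponents (↥(f.fiber (f.base x)) : Type u) ∧ f.asFiber x ∈ Zc)
    (h2 : ∀ z : ↥(f.fiber (f.base x)), f.asFiber x ∈ closure {z} →
      (∀ z' : ↥(f.fiber (f.base x)), z ∈ closure {z'} → z' = z) →
      FBase.IsGeomReducedAt (f.fiberToSpecResidueField (f.base x)) z) :
    letI adm : TopologicalSpace.Closeds X → Prop := fun X' =>
      (X' : Set X) ∈ irreducibleComponents (X : Type u) ∧ ∃ hx : x ∈ X',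
        FlatMor.localDim ↥((X' : Set X) ∩ f.base ⁻¹' {f.base x}) ⟨x, ⟨hx, Set.mem_singleton (f.base x)⟩⟩ =
          FlatMor.fibreDimAt f x ∧
        ∀ w : ↥(Scheme.IdealSheafData.vanishingIdeal X').subscheme,
          f.base ((Scheme.IdealSheafData.vanishingIdeal X').subschemeι.base w) = f.base x →
          x ∈ closure {(Scheme.IdealSheafData.vanishingIdeal X').subschemeι.base w} →
          (∀ t : X, t ∈ (X' : Set X) → f.base t = f.base x →
              (Scheme.IdealSheafData.vanishingIdeal X').subschemeι.base w ∈ closure {t} →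
              t = (Scheme.IdealSheafData.vanishingIdeal X').subschemeι.base w) →
          EGA43.IsUnivOpenAt ((Scheme.IdealSheafData.vanishingIdeal X').subschemeι ≫ f) w
    {X' : TopologicalSpace.Closeds X | adm X'}.Subsingleton ∧
      ∀ X' : TopologicalSpace.Closeds X, adm X' →
        ∀ ζ : ↥(f.fiber (genericPoint Y)), closure {(f.fiberι (genericPoint Y)).base ζ} = (X' : Set X) →
          FBase.IsGeomReducedAt (f.fiberToSpecResidueField (genericPoint Y)) ζ := by
  haveI : QuasiSober ↥(f.fiber (f x)) := inferInstance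
  let η := genericPoint Y
  have hη : ∀ q : Y, q ⤳ η → q = η := fun q hq => (hq.antisymm (genericPoint_specializes q)).eq
  -- the generic point of the component of the fibre through `x`
  obtain ⟨Zc, ⟨hZ, hxZ⟩, hZu⟩ := h1
  obtain ⟨z, hz⟩ := QuasiSober.sober hZ.1
    (isClosed_of_mem_irreducibleComponents Zc hZ)
  have hzcl : closure {z} = Zc := hz
  have hzmax : ∀ z', z' ⤳ z → z' = z := fun z' h => GeomIrr.isMaximalPt_of_closure_mem (hzcl.symm ▸ hZ) z' h
  have hzx : z ⤳ f.asFiber x := specializes_iff_mem_closure.2 (hzcl.symm ▸ hxZ)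
  have hgred : FBase.IsGeomReducedAt (f.fiberToSpecResidueField (f x)) z :=
    h2 z (hzcl.symm ▸ hxZ) fun z' h => hzmax z' (specializes_iff_mem_closure.2 h)
  obtain ⟨zX, hzX⟩ : ∃ zX, f.fiberι (f x) z = zX := ⟨_, rfl⟩
  have hfz : f zX = f x := (f.range_fiberι (f x)).le ⟨z, hzX⟩
  have hzXx : zX ⤳ x := by
    have h := hzx.map (f.fiberι (f x)).continuous
    rwa [hzX, f.fiberι_asFiber] at h
  have hzXmax : IsMaxFib f zX := hzX ▸ (isMaxFib_fiberι f (f x) z).2 hzmax
  have hredX : FBase.IsGeomReducedAt (f.fiberToSpecResidueField (f zX)) (f.asFiber zX) := by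
    have key : ∀ y, y = f zX → ∀ w : f.fiber y, f.fiberι y w = zX →
        FBase.IsGeomReducedAt (f.fiberToSpecResidueField y) w →
        FBase.IsGeomReducedAt (f.fiberToSpecResidueField (f zX)) (f.asFiber zX) := by
      rintro _ rfl w hw h
      rwa [(f.fiberι (f zX)).isEmbedding.injective (hw.trans (f.fiberι_asFiber _).symm)] at h
    exact key (f x) hfz.symm z hzX hgred
  have huniq : ∀ t, t ⤳ x → f t = f x → IsMaxFib f t → t = zX := by
    intro t ht hft htmax
    obtain ⟨t', rfl⟩ := (f.range_fiberι (f x)).ge hft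
    have ht' : t' ⤳ f.asFiber x := by
      rw [← (f.fiberι (f x)).isEmbedding.isInducing.specializes_iff, f.fiberι_asFiber]; exact ht
    have hmem : closure {t'} ∈ irreducibleComponents ↥(f.fiber (f x)) :=
      (VarDim.maximal_iff_mem_irreducibleComponents t').1 ((isMaxFib_fiberι f (f x) t').1 htmax)
    have := (hzcl.symm ▸ hZu _ ⟨hmem, specializes_iff_mem_closure.1 ht'⟩ : closure {t'} = closure {z})
    rw [← hzX, (inseparable_iff_closure_eq.2 this).eq]
  -- each admissible component gives a closed immersion universally open over `zX`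
  have hadm : ∀ X' : TopologicalSpace.Closeds X, (∃ hx : x ∈ X',
        FlatMor.localDim ↥((X' : Set X) ∩ f.base ⁻¹' {f.base x}) ⟨x, ⟨hx, Set.mem_singleton (f.base x)⟩⟩ =
          FlatMor.fibreDimAt f x ∧
        ∀ w : ↥(Scheme.IdealSheafData.vanishingIdeal X').subscheme,
          f.base ((Scheme.IdealSheafData.vanishingIdeal X').subschemeι.base w) = f.base x →
          x ∈ closure {(Scheme.IdealSheafData.vanishingIdeal X').subschemeι.base w} →
          (∀ t : X, t ∈ (X' : Set X) → f.base t = f.base x →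
              (Scheme.IdealSheafData.vanishingIdeal X').subschemeι.base w ∈ closure {t} →
              t = (Scheme.IdealSheafData.vanishingIdeal X').subschemeι.base w) →
          EGA43.IsUnivOpenAt ((Scheme.IdealSheafData.vanishingIdeal X').subschemeι ≫ f) w) →
      zX ∈ (X' : Set X) ∧ ∃ b, (Scheme.IdealSheafData.vanishingIdeal X').subschemeι b = zX ∧
        EGA43.IsUnivOpenAt ((Scheme.IdealSheafData.vanishingIdeal X').subschemeι ≫ f) b := by
    rintro X' ⟨hx, hd, hw⟩
    let j := (Scheme.IdealSheafData.vanishingIdeal X').subschemeι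
    have hr : Set.range j = (X' : Set X) := by
      rw [Scheme.IdealSheafData.range_subschemeι, Scheme.IdealSheafData.coe_support_vanishingIdeal]
    obtain ⟨b, hb⟩ := exists_mem_of_localDim f hzXx hfz huniq j hr hx hd
    refine ⟨hr.le ⟨b, hb⟩, b, hb, hw b ?_ ?_ fun t _ hft ht => ?_⟩
    · show f (j b) = f x
      rw [hb]; exact hfz
    · show x ∈ closure {j b}
      rw [hb]; exact specializes_iff_mem_closure.1 hzXx
    · show t = j b
      rw [hb]
      exact hzXmax t (hb ▸ specializes_iff_mem_closure.2 ht) (hft.trans hfz.symm)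
  -- the generic point of an admissible component
  have hgenpt : ∀ X' : TopologicalSpace.Closeds X, (X' : Set X) ∈ irreducibleComponents X →
      ∃ ξ, closure {ξ} = (X' : Set X) ∧ ∀ q, q ⤳ ξ → q = ξ := fun X' h => by
    obtain ⟨ξ, hξ⟩ := QuasiSober.sober h.1 (isClosed_of_mem_irreducibleComponents _ h)
    exact ⟨ξ, hξ, GeomIrr.isMaximalPt_of_closure_mem (hξ.symm ▸ h)⟩
  by_cases hxη : f x = η
  · -- the special case of a point over the generic point
    have hmaxX : ∀ q, q ⤳ zX → q = zX := fun q hq =>
      hzXmax q hq ((hη _ ((hfz.trans hxη) ▸ hq.map f.continuous)).trans (hfz.trans hxη).symm)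
    have hval : ∀ X' : TopologicalSpace.Closeds X, (X' : Set X) ∈ irreducibleComponents X → zX ∈ (X' : Set X) →
        (X' : Set X) = closure {zX} := fun X' h hm => by
      obtain ⟨ξ, hξ, -⟩ := hgenpt X' h
      rw [← hξ, hmaxX ξ (specializes_iff_mem_closure.2 (hξ.ge hm))]
    refine ⟨fun A hA B hB => SetLike.coe_injective ((hval A hA.1 (hadm A hA.2).1).trans
      (hval B hB.1 (hadm B hB.2).1).symm), fun X' hX' ζ hζ => ?_⟩
    have hpt : f.fiberι η ζ = zX :=
      (inseparable_iff_closure_eq.2 (hζ.trans (hval X' hX'.1 (hadm X' hX'.2).1))).eq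
    have key : ∀ y, y = η → ∀ w : f.fiber y, f.fiberι y w = zX →
        FBase.IsGeomReducedAt (f.fiberToSpecResidueField y) w →
        FBase.IsGeomReducedAt (f.fiberToSpecResidueField η) ζ := by
      rintro _ rfl w hw h
      rwa [(f.fiberι η).isEmbedding.injective (hw.trans hpt.symm)] at h
    exact key (f x) hxη z hzX hgred
  -- the general case
  have hmain : ∀ (L : Type u) [Field L] (e : Y.residueField η ⟶ CommRingCat.of L), e.hom.EssFiniteType →
      ∃ S : Set X, S.Subsingleton ∧
      (∀ p ∈ S, ∃ P : ↥(pullback f (Spec.map e ≫ Y.fromSpecResidueField η)),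
        pullback.fst f _ P = p ∧
          _root_.IsReduced ((pullback f (Spec.map e ≫ Y.fromSpecResidueField η)).presheaf.stalk P)) ∧
      ∀ (W : Scheme.{u}) (j : W ⟶ X) [IsClosedImmersion j] (b : W), j b = zX → EGA43.IsUnivOpenAt (j ≫ f) b →
        ∀ ξ : X, (∀ q, q ⤳ ξ → q = ξ) → (∀ v : W, ξ ⤳ j v) → ξ ∈ S := by
    intro L _ e he
    obtain ⟨V, hV, g, hg, hge⟩ := exists_trait (genericPoint_specializes (f x)) hxη L e he
    haveI := hV
    have hgη : g (genericPoint (Spec (CommRingCat.of V))) = η := by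
      rw [← S4978.pt_generic (K := L) V]
      show (Spec.map (CommRingCat.ofHom (algebraMap V L)) ≫ g) (closedPoint L) = η
      rw [hge, Scheme.Hom.comp_apply]
      exact Y.fromSpecResidueField_apply η (Spec.map e (closedPoint L))
    rw [← hge]
    exact ZConn5.exists_generic_point f (K := L) g (by rw [hgη]; exact hη) (hg.trans hfz.symm) hzXmax hredX
  have hin : ∀ X' : TopologicalSpace.Closeds X, ∀ S : Set X,
      (∀ (W : Scheme.{u}) (j : W ⟶ X) [IsClosedImmersion j] (b : W), j b = zX → EGA43.IsUnivOpenAt (j ≫ f) b →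
        ∀ ξ : X, (∀ q, q ⤳ ξ → q = ξ) → (∀ v : W, ξ ⤳ j v) → ξ ∈ S) →
      (∃ b, (Scheme.IdealSheafData.vanishingIdeal X').subschemeι b = zX ∧
        EGA43.IsUnivOpenAt ((Scheme.IdealSheafData.vanishingIdeal X').subschemeι ≫ f) b) →
      ∀ ξ, closure {ξ} = (X' : Set X) → (∀ q, q ⤳ ξ → q = ξ) → ξ ∈ S := by
    rintro X' S hS ⟨b, hb, hb'⟩ ξ hξ hmax
    refine hS _ _ b hb hb' ξ hmax fun v => specializes_iff_mem_closure.2 ?_
    rw [hξ]
    exact (Scheme.IdealSheafData.coe_support_vanishingIdeal X').le
      ((Scheme.IdealSheafData.range_subschemeι _).le ⟨v, rfl⟩)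
  refine ⟨fun A hA B hB => ?_, fun X' hX' ζ hζ => ?_⟩
  · obtain ⟨S, hS, -, hj⟩ := hmain (Y.residueField η) (𝟙 _)
      (RingHom.FiniteType.of_surjective _ Function.surjective_id).essFiniteType
    obtain ⟨ξA, hξA, hmA⟩ := hgenpt A hA.1
    obtain ⟨ξB, hξB, hmB⟩ := hgenpt B hB.1
    apply SetLike.coe_injective
    rw [← hξA, ← hξB, hS (hin A S hj (hadm A hA.2).2 ξA hξA hmA) (hin B S hj (hadm B hB.2).2 ξB hξB hmB)]
  · refine isGeomReducedAt_of_points (k := Y.residueField η) _ ζ fun k' _ _ _ _ => ?_
    obtain ⟨S, -, hred, hj⟩ := hmain k' (CommRingCat.ofHom (algebraMap (Y.residueField η) k'))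
      (RingHom.finite_algebraMap.2 inferInstance).finiteType.essFiniteType
    have hmζ : ∀ q, q ⤳ f.fiberι η ζ → q = f.fiberι η ζ := GeomIrr.isMaximalPt_of_closure_mem (hζ.symm ▸ hX'.1)
    obtain ⟨P, hP, hPred⟩ := hred _ (hin X' S hj (hadm X' hX'.2).2 _ hζ hmζ)
    exact exists_fibre_point f (k := Y.residueField η) (Y.fromSpecResidueField η)
      (Spec.map (CommRingCat.ofHom (algebraMap (Y.residueField η) k'))) ζ P hP hPred

end Groth.Agent.S3459
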