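import Groth.Statements.S3460


set_option autoImplicit false
open CategoryTheory AlgebraicGeometry
universe u
open EGA43

namespace Groth.Agent.S3460

/-- Let Y be locally Noetherian and f : X ⟶ Y of finite type. Then there exist a scheme Z, a proper
morphism g : X ⟶ Z and an immersion h : Z ⟶ Y with f = g ≫ h if and only if f is proper at every
point of f(X), i.e. every point of f(X) has an open neighbourhood U in Y over which the restriction
of f is proper. -/
theorem result {X Y : Scheme.{u}} [IsLocallyNoetherian Y]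
    (f : X ⟶ Y) [LocallyOfFiniteType f] [QuasiCompact f] :
    (∃ (Z : Scheme.{u}) (g : X ⟶ Z) (h : Z ⟶ Y), IsProper g ∧ IsImmersion h ∧ g ≫ h = f) ↔
      ∀ x : X, ∃ U : Y.Opens, f.base x ∈ U ∧ IsProper (f ∣_ U) := by
  constructor
  · rintro ⟨Z, g, h, hg, hh, rfl⟩ x
    haveI := hh
    haveI := hg
    have htop : (g ≫ h) ⁻¹ᵁ h.coborderRange = ⊤ := by
      ext p
      refine iff_of_true ?_ trivial
      show h (g p) ∈ h.coborderRange
      exact (subset_coborder : Set.range h ⊆ _) ⟨g p, rfl⟩
    refine ⟨h.coborderRange, (subset_coborder : Set.range h ⊆ _) ⟨g x, rfl⟩, ?_⟩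
    haveI : IsIso ((g ≫ h) ⁻¹ᵁ h.coborderRange).ι :=
      isIso_of_isOpenImmersion_of_opensRange_eq_top _ (by rw [Scheme.Opens.opensRange_ι, htop])
    have e : (g ≫ h) ∣_ h.coborderRange = ((g ≫ h) ⁻¹ᵁ h.coborderRange).ι ≫ g ≫ h.liftCoborder := by
      rw [← cancel_mono h.coborderRange.ι, morphismRestrict_ι]
      simp
    rw [e]
    infer_instance
  · intro H
    choose U hxU hU using H
    let V : Y.Opens := ⨆ x, U x
    have hV : Set.range f ⊆ Set.range V.ι := by
      rw [Scheme.Opens.range_ι]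
      rintro _ ⟨x, rfl⟩
      exact TopologicalSpace.Opens.mem_iSup.2 ⟨x, hxU x⟩
    let f' : X ⟶ (V : Scheme.{u}) := IsOpenImmersion.lift V.ι f hV
    have hf' : f' ≫ V.ι = f := IsOpenImmersion.lift_fac _ _ _
    haveI : IsProper f' := by
      refine IsZariskiLocalAtTarget.of_iSup_eq_top (P := @IsProper) (fun x => V.ι ⁻¹ᵁ U x) ?_ fun x => ?_
      · ext p
        refine iff_of_true ?_ trivial
        obtain ⟨x, hx⟩ := TopologicalSpace.Opens.mem_iSup.1 p.2
        exact TopologicalSpace.Opens.mem_iSup.2 ⟨x, hx⟩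
      · have hp : IsProper ((f' ≫ V.ι) ∣_ U x) := by
          rw [hf']; exact hU x
        rw [morphismRestrict_comp] at hp
        exact @IsProper.of_comp _ _ _ _ (V.ι ∣_ U x) hp inferInstance
    haveI : IsProper (f'.toImage ≫ f'.imageι) := by rwa [Scheme.Hom.toImage_imageι]
    exact ⟨_, f'.toImage, f'.imageι ≫ V.ι, IsProper.of_comp _ f'.imageι, inferInstance,
      by rw [Scheme.Hom.toImage_imageι_assoc, hf']⟩

end Groth.Agent.S3460
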