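import Groth.Statements.S3476
import Groth.Agent.Lib.LocAcycBC6.Local
import Groth.Agent.Lib.EtPic3.Artinian

set_option autoImplicit false
universe u
open CategoryTheory CategoryTheory.Limits AlgebraicGeometry Opposite
open EtAcyc
set_option backward.isDefEq.respectTransparency.types false

namespace Groth.Agent.S3476

/-- Abelian case, n ≥ 1: let g : X → Y be quasi-compact and quasi-separated, L a set of primes (assumed
here to contain a prime, a harmless addition: for L empty F = 0), n ≥ 1, and suppose g is both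
(n-1)-acyclic for L and locally (n-1)-acyclic for L. Let F be an abelian L-torsion sheaf on Y and ξ
∈ H^n(X, g⁻¹F). Then ξ lies in the image of H^n(Y, F) → H^n(X, g⁻¹F) if and only if for every point
y of Y and every separably closed field Ω algebraic over κ(y), the image of ξ in H^n(X ×_Y Spec Ω,
g⁻¹F restricted) vanishes. -/
theorem result {X Y : Scheme.{u}} (g : X ⟶ Y) [QuasiCompact g] [QuasiSeparated g]
    (L : Set ℕ) (hL : ∃ ℓ ∈ L, ℓ.Prime) (n : ℕ) (hn : 1 ≤ n)
    (hglob : EtAcyc.IsAcyclicN g L (n - 1)) (hloc : EtAcyc.IsLocAcyclicN g L (n - 1))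
    [PreservesFiniteLimits (EtCoh.pull g)] (F : EtCoh.Ab Y) (hF : EtAcyc.IsLTorsion L F)
    (ξ : EtCoh.H X ((EtCoh.pull g).obj F) n) :
    ξ ∈ Set.range (EtCore.Hpull g F n) ↔
      ∀ (y : Y) (Ω : Type u) [Field Ω] [IsSepClosed Ω] [Algebra (Y.residueField y) Ω]
        [Algebra.IsAlgebraic (Y.residueField y) Ω]
        [PreservesFiniteLimits (EtCoh.pull (pullback.fst g (EtAcyc.geomPt Y y Ω)))],
        EtCore.Hpull (pullback.fst g (EtAcyc.geomPt Y y Ω)) ((EtCoh.pull g).obj F) n ξ = 0 := by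
  obtain ⟨m, rfl⟩ := Nat.exists_eq_add_one.2 hn
  constructor
  · rintro ⟨x, rfl⟩ y Ω _ _ _ _ _
    refine (LocAcycBC6.Hpull_comp_eq_zero_iff _ g _ rfl F (m + 1) x).1 ?_
    refine (LocAcycBC6.Hpull_comp_eq_zero_iff (pullback.snd g (EtAcyc.geomPt Y y Ω)) (EtAcyc.geomPt Y y Ω) _
      pullback.condition.symm F (m + 1) x).2 ?_
    haveI := EtPic3.subsingleton_H_sepClosed Ω ((EtCoh.pull (EtAcyc.geomPt Y y Ω)).obj F) m.succ_pos
    rw [Subsingleton.elim (EtCore.Hpull (EtAcyc.geomPt Y y Ω) F (m + 1) x) 0, map_zero]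
  · intro h
    exact LocAcycBC6.mem_range_of_fibres g hglob hloc hF ξ fun y Ω _ _ _ _ => h y Ω

end Groth.Agent.S3476
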