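import Groth.Statements.S3479
import Groth.Agent.Lib.PBC24.Main
-- import your own Groth.Agent.* helpers here

set_option autoImplicit false
set_option backward.isDefEq.respectTransparency false
set_option backward.isDefEq.respectTransparency.types false
universe u
open CategoryTheory CategoryTheory.Limits AlgebraicGeometry Opposite
open EtBC

namespace Groth.Agent.S3479

/-- Let k ⊆ K be separably closed fields, X a proper scheme over k, X' = X ×_k Spec K, and F a torsion
abelian sheaf on the small etale site of X with inverse image F' on X'. Then the pullback map H^q(X,
F) → H^q(X', F') is bijective for every q. -/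
theorem result (k K : Type u) [Field k] [IsSepClosed k] [Field K] [IsSepClosed K]
    [Algebra k K] {X : Scheme.{u}} (a : X ⟶ Spec (CommRingCat.of k)) [IsProper a] (F : EtCoh.Ab X)
    (hF : EtCoh.IsTorsion F)
    [PreservesFiniteLimits (EtCoh.pull (pullback.fst a (Spec.map (CommRingCat.ofHom (algebraMap k K)))))]
    (q : ℕ) :
    Function.Bijective (EtCore.Hpull (pullback.fst a (Spec.map (CommRingCat.ofHom (algebraMap k K)))) F q) := by
  exact PBC24.bijective_Hpull_proper_fieldExt PBC24.properBC (algebraMap k K) a hF q

end Groth.Agent.S3479
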