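import Groth.Prelude.Def_Dix
import Groth.Prelude.Def_PBC
import Groth.Prelude.Def_Hensel
import Mathlib.RingTheory.Henselian
import Mathlib.RingTheory.DiscreteValuationRing.Basic
import Mathlib.RingTheory.KrullDimension.Basic
import Mathlib.RingTheory.Ideal.MinimalPrime.Basic
import Mathlib.RingTheory.AlgebraicIndependent.Transcendental
import Mathlib.FieldTheory.IntermediateField.Adjoin.Defs
import Mathlib.Algebra.Order.Ring.Defs
import Groth.Agent.Lib.CdField3.Fields
-- import your own Groth.Agent.* helpers here

namespace EtCd
end EtCd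

set_option autoImplicit false
universe u
open CategoryTheory CategoryTheory.Limits AlgebraicGeometry Opposite
open EtCd

namespace Groth.Agent.S3482

/-- Let k'/k be a finitely generated field extension of transcendence degree t and ℓ a prime. Then
cd_ℓ(k') ≤ cd_ℓ(k) + t: if the etale cohomology of every ℓ-primary torsion sheaf on Spec k vanishes
above degree d, the same holds on Spec k' above degree d + t. -/
theorem result (k k' : Type u) [Field k] [Field k'] [Algebra k k']
    (hfg : ∃ s : Finset k', IntermediateField.adjoin k (s : Set k') = ⊤) (ℓ : ℕ) (hℓ : ℓ.Prime)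
    (t : ℕ) (ht : Algebra.trdeg k k' = t) (d : ℕ) (hd : Dix.CohDimLEAt (Spec (CommRingCat.of k)) ℓ d) :
    Dix.CohDimLEAt (Spec (CommRingCat.of k')) ℓ (d + t) := by
  exact (CdField3.cdL_singleton_iff hℓ).1
    (CdField3.cdL_trdeg t k k' {ℓ} d ((CdField3.cdL_singleton_iff hℓ).2 hd) ht.le)

end Groth.Agent.S3482
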