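import Groth.Statements.S3485
import Groth.Agent.Lib.HensFEt16.Main

set_option linter.style.haveILetI false
set_option backward.isDefEq.respectTransparency false
set_option backward.isDefEq.respectTransparency.types false
-- import your own Groth.Agent.* helpers here

set_option autoImplicit false
universe u
open CategoryTheory CategoryTheory.Limits AlgebraicGeometry Opposite
open EtCd

namespace Groth.Agent.S3485

/-- Let R be a henselian discrete valuation ring with fraction field K, let R^ be its completion (adic
completion at the maximal ideal) and K^ the fraction field of R^. Then base change along Spec K^ →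
Spec K is an equivalence from the category of finite etale schemes over Spec K to that over Spec K^
(equivalently the absolute Galois groups agree). -/
theorem result (R K Khat : Type u) [CommRing R] [IsDomain R]
    [IsDiscreteValuationRing R] [HenselianLocalRing R] [Field K] [Algebra R K] [IsFractionRing R K]
    [Field Khat] [Algebra (AdicCompletion (IsLocalRing.maximalIdeal R) R) Khat]
    [IsFractionRing (AdicCompletion (IsLocalRing.maximalIdeal R) R) Khat]
    [Algebra R Khat] [IsScalarTower R (AdicCompletion (IsLocalRing.maximalIdeal R) R) Khat]
    [Algebra K Khat] [IsScalarTower R K Khat] :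
    (FEt.restrict (Spec.map (CommRingCat.ofHom (algebraMap K Khat)))).IsEquivalence := by
  obtain ⟨hdom, hdvr⟩ := (Groth.Agent.S0549.result R).1 ⟨inferInstance, inferInstance⟩
  haveI := hdom
  haveI := hdvr
  obtain ⟨π, hπ⟩ := IsDiscreteValuationRing.exists_irreducible R
  obtain ⟨hπC, hcpl, happrox⟩ := Groth.Agent.HensFEt16.completion_props R π hπ
  haveI := hcpl
  exact Groth.Agent.HensFEt16.isEquivalence_restrict hπ hπC happrox

end Groth.Agent.S3485
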