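import Groth.Prelude.Def_Dix
import Groth.Prelude.Def_PBC
import Groth.Prelude.Def_Hensel
import Groth.Prelude.Def_Cyc
import Mathlib.RingTheory.Henselian
import Mathlib.RingTheory.DiscreteValuationRing.Basic
import Mathlib.RingTheory.KrullDimension.Basic
import Mathlib.RingTheory.Ideal.MinimalPrime.Basic
import Mathlib.AlgebraicGeometry.Noetherian
import Mathlib.Topology.KrullDimension
import Mathlib.AlgebraicGeometry.Morphisms.FiniteType
import Mathlib.Algebra.Order.Ring.Defs
import Groth.Agent.Lib.CdField3.Sharp
-- import your own Groth.Agent.* helpers here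

namespace EtCd
end EtCd

set_option autoImplicit false
universe u
open CategoryTheory CategoryTheory.Limits AlgebraicGeometry Opposite
open EtCd

namespace Groth.Agent.S3493

/-- Let X be a scheme of finite type over a field k, of dimension at most n, and ℓ a prime nonzero in k.
Then cd_ℓ(X) ≤ 2n + cd_ℓ(k): if the cohomology of ℓ-primary torsion sheaves on Spec k vanishes above
degree e, then that of ℓ-primary torsion abelian sheaves on X vanishes above degree 2n + e. -/
theorem result (k : Type u) [Field k] (X : Scheme.{u}) (f : X ⟶ Spec (CommRingCat.of k))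
    [LocallyOfFiniteType f] [QuasiCompact f] (n : ℕ) (hn : topologicalKrullDim X ≤ n)
    (ℓ : ℕ) (hℓ : ℓ.Prime) (hℓk : (ℓ : k) ≠ 0) (e : ℕ) (he : Dix.CohDimLEAt (Spec (CommRingCat.of k)) ℓ e) :
    Dix.CohDimLEAt X ℓ (2 * n + e) := by
  exact (CdField3.cdL_singleton_iff hℓ).1
    (CdField3.cdL_two_dim f ((CdField3.cdL_singleton_iff hℓ).2 he) n (CdField3.sdim_le_of_dim f hn))

end Groth.Agent.S3493
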