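import Groth.Prelude.Def_Dix
import Groth.Prelude.Def_PBC
import Groth.Prelude.Def_Hensel
import Mathlib.RingTheory.KrullDimension.Basic
import Mathlib.AlgebraicGeometry.Noetherian
import Mathlib.Topology.KrullDimension
import Mathlib.AlgebraicGeometry.Morphisms.FiniteType
import Mathlib.AlgebraicGeometry.Morphisms.Affine
import Mathlib.RingTheory.AlgebraicIndependent.Transcendental
import Groth.Agent.Lib.CdField3.LefStrict
-- import your own Groth.Agent.* helpers here

namespace EtCd
end EtCd

set_option autoImplicit false
universe u
open CategoryTheory CategoryTheory.Limits AlgebraicGeometry Opposite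
open EtCd

namespace Groth.Agent.S3498

/-- Let Y be a scheme locally of finite type over a field k, y a point of Y, R a strict henselization of
the local ring of Y at y with dim R ≤ d, and U an affine open subscheme of Spec R. Then cd(U) ≤ d:
the etale cohomology of every torsion abelian sheaf on U vanishes above degree d. -/
theorem result (k : Type u) [Field k] (Y : Scheme.{u})
    (g : Y ⟶ Spec (CommRingCat.of k)) [LocallyOfFiniteType g] (y : Y)
    (R : Type u) [CommRing R] [IsLocalRing R] [Algebra (Y.presheaf.stalk y) R]
    [IsLocalHom (algebraMap (Y.presheaf.stalk y) R)] [Hensel.IsStrictHenselization (Y.presheaf.stalk y) R]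
    (d : ℕ) (hd : ringKrullDim R ≤ d) (U : (Spec (CommRingCat.of R)).Opens) (hU : IsAffineOpen U) :
    EtCoh.CohDimLE (U : Scheme.{u}) d := by
  exact CdField3.cohDimLE_affineOpen_strict g y R d hd U hU

end Groth.Agent.S3498
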