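import Groth.Prelude.Def_Dix
import Groth.Prelude.Def_PBC
import Groth.Prelude.Def_Hensel
import Mathlib.RingTheory.KrullDimension.Basic
import Mathlib.AlgebraicGeometry.Noetherian
import Mathlib.Topology.KrullDimension
import Mathlib.AlgebraicGeometry.Morphisms.FiniteType
import Mathlib.AlgebraicGeometry.Morphisms.Affine
import Mathlib.RingTheory.AlgebraicIndependent.Transcendental
import Groth.Agent.Lib.CdField3.LefRel
-- import your own Groth.Agent.* helpers here

namespace EtCd
end EtCd

set_option autoImplicit false
universe u
open CategoryTheory CategoryTheory.Limits AlgebraicGeometry Opposite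
open EtCd

namespace Groth.Agent.S3499

/-- Let f : X → Y be an affine morphism of schemes of finite type over a field k and F a torsion abelian
sheaf on the small etale site of X with d(F) ≤ d, i.e. the closure of every point at which F has a
nonzero geometric stalk has dimension at most d. Then R^q f_* F = 0 for every q > d (the source's
conclusion d(R^q f_* F) ≤ d - q, in the range where the right side is negative). -/
theorem result (k : Type u) [Field k] {X Y : Scheme.{u}}
    (aX : X ⟶ Spec (CommRingCat.of k)) (aY : Y ⟶ Spec (CommRingCat.of k)) [LocallyOfFiniteType aX] [QuasiCompact aX]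
    [LocallyOfFiniteType aY] [QuasiCompact aY] (f : X ⟶ Y) (w : f ≫ aY = aX) [IsAffineHom f]
    (F : EtCoh.Ab X) (hF : EtCoh.IsTorsion F) (d : ℕ)
    (hd : ∀ x ∈ EtPBC.supp F, topologicalKrullDim (closure ({x} : Set X)) ≤ d) (q : ℕ) (hq : d < q) :
    IsZero ((EtCoh.Rpush f q).obj F) := by
  refine CdField3.isZero_Rpush_affine_supp aX aY f w F hF d (fun Ω _ _ ξ hξ => ?_) q hq
  by_contra hne
  have h := hd (ξ (default : Spec (CommRingCat.of Ω))) ⟨Ω, inferInstance, inferInstance, ξ,
    Set.range_eq_singleton_iff.2 fun z => congrArg ξ (Subsingleton.elim z default),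
    fun hz => hne (AddCommGrpCat.subsingleton_of_isZero hz)⟩
  rw [VarDim.topologicalKrullDim_closure_singleton, VarDim.height_eq_sdim aX] at h
  have h' : VarDim.sdim aX (ξ (default : Spec (CommRingCat.of Ω))) ≤ d := by exact_mod_cast h
  omega

end Groth.Agent.S3499
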