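import Groth.Statements.S3500
import Groth.Agent.Lib.CurveConn25.Main

set_option autoImplicit false
universe u
open CategoryTheory CategoryTheory.Limits AlgebraicGeometry Opposite
open EtCd

namespace Groth.Agent.S3500

/-- Let k be a separably closed field, Z a scheme locally of finite type over k of dimension at most 1,
and i : X → Z a closed immersion with X connected. Then every finite etale scheme over X is induced
by a finite etale scheme over Z: restriction of finite etale covers along i is essentially
surjective. -/
theorem result (k : Type u) [Field k] [IsSepClosed k] (Z X : Scheme.{u})
    (a : Z ⟶ Spec (CommRingCat.of k)) [LocallyOfFiniteType a] (hdim : topologicalKrullDim Z ≤ 1)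
    (i : X ⟶ Z) [IsClosedImmersion i] [ConnectedSpace X] :
    (FEt.restrict i).EssSurj := by
  exact Groth.Agent.CurveConn25.essSurj_restrict a hdim i

end Groth.Agent.S3500
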