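import Groth.Statements.S3501
import Groth.Agent.Lib.PicLift19.Hens
-- import your own Groth.Agent.* helpers here

set_option autoImplicit false
universe u
open CategoryTheory CategoryTheory.Limits AlgebraicGeometry Opposite
open EtCd

namespace Groth.Agent.S3501

set_option linter.style.haveILetI false
set_option backward.isDefEq.respectTransparency.types false


/-- Let A be a Noetherian henselian local ring, f : X → Spec A a proper morphism all of whose fibres
have dimension at most 1, and i : X₀' → X a closed immersion whose image is exactly the closed fibre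
of f. Then Pic(X) → Pic(X₀') is surjective: every invertible module on X₀' is isomorphic to the
pullback of an invertible module on X. -/
theorem result (A : Type u) [CommRing A] [IsNoetherianRing A]
    [HenselianLocalRing A] (X : Scheme.{u}) (f : X ⟶ Spec (CommRingCat.of A)) [IsProper f]
    (hrel : ∀ s : Spec (CommRingCat.of A),
      topologicalKrullDim ↥(pullback f ((Spec (CommRingCat.of A)).fromSpecResidueField s)) ≤ 1)
    (X₀' : Scheme.{u}) (i : X₀' ⟶ X) [IsClosedImmersion i]
    (hi : Set.range i.base = f.base ⁻¹' {IsLocalRing.closedPoint A})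
    (c : PicF.Cl X₀') (hc : PicF.IsInvertibleCl c) :
    ∃ d : PicF.Cl X, PicF.IsInvertibleCl d ∧ PicF.pullCl i d = c := by
  classical
  haveI : IsLocallyNoetherian X := LocallyOfFiniteType.isLocallyNoetherian f
  haveI : CompactSpace X := QuasiCompact.compactSpace_of_compactSpace f
  haveI : IsNoetherian X := {}
  haveI : IsNoetherian X₀' :=
    { toIsLocallyNoetherian := LocallyOfFiniteType.isLocallyNoetherian i
      toCompactSpace := i.isClosedEmbedding.compactSpace }
  have hb : ∀ Y : Set X, IsClosed Y → Y.Nonempty → _root_.IsConnected Y →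
      (Y ∩ Set.range i.base).Nonempty ∧ _root_.IsConnected (Y ∩ Set.range i.base) := fun Y hY hne hc' => by
    rw [hi]; exact PicLift19.inter_closedFibre_isConnected f Y hY hne hc'
  have hd : topologicalKrullDim X₀' ≤ 1 := by
    let e : X₀' ≃ₜ ↥(f.fiber (IsLocalRing.closedPoint A)) :=
      (i.isClosedEmbedding.isEmbedding.toHomeomorph.trans (Homeomorph.setCongr hi)).trans
        (f.fiberHomeo (IsLocalRing.closedPoint A)).symm
    rw [IsHomeomorph.topologicalKrullDim_eq e e.isHomeomorph]
    exact hrel (IsLocalRing.closedPoint A)
  obtain ⟨L, rfl, hL⟩ := hc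
  obtain ⟨L', hL', ⟨e⟩⟩ := PicLift19.exists_lift i hd hb L hL
  exact ⟨PicF.cl L', ⟨L', rfl, hL'⟩, Quot.sound ⟨e⟩⟩

end Groth.Agent.S3501
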