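import Groth.Statements.S3502
import Groth.Agent.Lib.EtPic3.CurveGmApply
-- import your own Groth.Agent.* helpers here

set_option autoImplicit false
universe u
open CategoryTheory CategoryTheory.Limits AlgebraicGeometry Opposite
open EtCd

namespace Groth.Agent.S3502

/-- Let X be a Noetherian scheme of dimension at most 1 and n ≥ 1 an integer invertible on X; assume
that cd_ℓ(κ(x)) ≤ 1 for every maximal point x of X and every prime ℓ dividing n (so that the ring of
rational functions of X has ℓ-cohomological dimension ≤ 1), and that the residue field of every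
closed point of X is separably closed. Then H^q(X, μ_n) = 0 for every q > 2. -/
theorem result (X : Scheme.{u}) [IsNoetherian X] (hdim : topologicalKrullDim X ≤ 1)
    (n : ℕ) (hn : 0 < n) (hinv : Dix.InvertibleOn X n)
    (hcd : ∀ x : X, closure {x} ∈ irreducibleComponents (X : Type u) →
      ∀ ℓ : ℕ, ℓ.Prime → ℓ ∣ n → Dix.CohDimLEAt (Spec (X.residueField x)) ℓ 1)
    (hcl : ∀ x : X, IsClosed ({x} : Set X) → IsSepClosed (X.residueField x)) (q : ℕ) (hq : 2 < q) :
    Subsingleton (EtCoh.H X (EtCoh.mu X n) q) := by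
  let S := ShortComplex.mk (EtCoh.muι X n) (EtCoh.powMap X n) (kernel.condition _)
  haveI : Epi (EtCoh.powMap X n) :=
    Groth.Agent.S0108.result X n (Groth.Agent.Dix24.isUnit_natCast n hinv)
  have hS : S.ShortExact :=
    { exact := ShortComplex.exact_of_f_is_kernel _ (kernelIsKernel (EtCoh.powMap X n))
      mono_f := inferInstanceAs (Mono (kernel.ι (EtCoh.powMap X n)))
      epi_g := inferInstanceAs (Epi (EtCoh.powMap X n)) }
  have hg : ∀ (i : ℕ) (z : EtCoh.H X (EtCoh.Gm X) i), z.comp (Abelian.Ext.mk₀ S.g) (add_zero i) = n • z :=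
    fun i z => Groth.Agent.Dix24.comp_mk₀_nsmul_id n z
  have hinvℓ : ∀ ℓ, ℓ ∣ n → Dix.InvertibleOn X ℓ := fun ℓ ⟨m, hm⟩ x hx => hinv x (by
    rw [hm, Nat.cast_mul, hx, zero_mul])
  have key : ∀ (i : ℕ), 2 ≤ i → ∀ z : EtCoh.H X (EtCoh.Gm X) i, (addOrderOf z).Coprime n := fun i hi z => by
    refine Nat.coprime_of_dvd fun ℓ hℓ hℓd hℓn => ?_
    obtain ⟨m, hm⟩ := hℓd
    have hpos : 0 < addOrderOf z := addOrderOf_pos_iff.2 (Groth.Agent.EtPic3.isAddTorsion_H_Gm X hdim i hi z)
    have h0 : m • z = 0 := by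
      refine Groth.Agent.EtPic3.eq_zero_of_pow_nsmul X hdim ℓ hℓ (hinvℓ ℓ hℓn) (fun x hx => hcd x hx ℓ hℓ hℓn) hcl i hi
        _ 1 ?_
      rw [pow_one, ← mul_nsmul', ← hm]
      exact addOrderOf_nsmul_eq_zero z
    have hm0 : 0 < m := Nat.pos_of_ne_zero fun h => by rw [h, mul_zero] at hm; omega
    have h1 : addOrderOf z ≤ m := Nat.le_of_dvd hm0 (addOrderOf_dvd_of_nsmul_eq_zero h0)
    nlinarith [hℓ.two_le]
  refine subsingleton_of_forall_eq 0 fun x => ?_
  have h1 : x.comp (Abelian.Ext.mk₀ S.f) (add_zero q) = 0 := by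
    obtain ⟨a, ha⟩ := exists_nsmul_eq_self_of_coprime (key q (by omega) _).symm
    refine ha.symm.trans ?_
    rw [← hg]
    refine (congrArg (a • ·) ?_).trans (nsmul_zero a)
    rw [Abelian.Ext.comp_assoc_of_third_deg_zero, Abelian.Ext.mk₀_comp_mk₀, S.zero, Abelian.Ext.mk₀_zero,
      Abelian.Ext.comp_zero]
  obtain ⟨m, rfl⟩ := Nat.exists_eq_add_one.2 (show 0 < q by omega)
  obtain ⟨c, hc⟩ := Abelian.Ext.covariant_sequence_exact₁ _ hS x h1 (n₀ := m) rfl
  obtain ⟨a, ha⟩ := exists_nsmul_eq_self_of_coprime (key m (by omega) c).symm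
  rw [← hc, ← ha, smul_comm a n c, ← hg, Abelian.Ext.comp_assoc_of_second_deg_zero, hS.comp_extClass,
    Abelian.Ext.comp_zero]

end Groth.Agent.S3502
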