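import Groth.Statements.S3512
import Groth.Agent.Lib.EtZero9.Const
-- import your own Groth.Agent.* helpers here

set_option autoImplicit false
universe u
open CategoryTheory CategoryTheory.Limits AlgebraicGeometry Opposite
open EtAcyc

namespace Groth.Agent.S3512

/-- Let g : X → Y be quasi-compact and quasi-separated and I any fixed set with at least two elements.
Then g is 0-acyclic (for every etale V → Y and every sheaf of sets F on V the unit F → g'_* g'^* F
is bijective, g' : X ×_Y V → V the projection) if and only if for every morphism i : Y' → Y that is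
locally quasi-finite and locally of finite type the pullback map on global sections Γ(Y', I) → Γ(X
×_Y Y', I) of the constant sheaf with value I is bijective; and g is (-1)-acyclic (the units are
monomorphisms) if and only if these maps are injective. (The published statement of this criterion
takes Y' etale over Y; it is stated here for Y' locally quasi-finite and locally of finite type over
Y, the class of base changes its published proof works with.) -/
theorem result {X Y : Scheme.{u}} (g : X ⟶ Y) [QuasiCompact g] [QuasiSeparated g]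
    (I : Type u) [Nontrivial I] :
    (EtAcyc.IsZeroAcyclic g ↔
      ∀ (Y' : Scheme.{u}) (i : Y' ⟶ Y) [LocallyQuasiFinite i] [LocallyOfFiniteType i],
        Function.Bijective (EtDesc.secPull (pullback.snd g i)
          ((constantSheaf Y'.smallEtaleTopology (Type (u + 1))).obj (ULift.{u + 1} I)))) ∧
    (EtAcyc.IsMinusOneAcyclic g ↔
      ∀ (Y' : Scheme.{u}) (i : Y' ⟶ Y) [LocallyQuasiFinite i] [LocallyOfFiniteType i],
        Function.Injective (EtDesc.secPull (pullback.snd g i)
          ((constantSheaf Y'.smallEtaleTopology (Type (u + 1))).obj (ULift.{u + 1} I)))) := by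
  obtain ⟨a, b, hab⟩ := exists_pair_ne I
  have hab' : (ULift.up.{u + 1} a) ≠ ULift.up b := fun h => hab (congrArg ULift.down h)
  refine ⟨⟨fun h Y' i _ _ => ?_, fun h => ?_⟩, ⟨fun h Y' i _ _ => ?_, fun h => ?_⟩⟩
  · exact Groth.Agent.EtZero9.bijective_secPull_of_isZeroAcyclic _
      ((Groth.Agent.EtZero9.isZeroAcyclic_iff_ab _).2 (Groth.Agent.EtAcyc24.isAcyclicN_baseChange g i {2} 0
        ((Groth.Agent.EtZero9.isZeroAcyclic_iff_ab g).1 h))) _
  · have hs : Function.Surjective g :=
      Groth.Agent.EtZero9.surjective_of_injective_const g hab' fun Y' i _ _ => (h Y' i).1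
    rw [Groth.Agent.EtZero9.isZeroAcyclic_iff_ab]
    refine Groth.Agent.EtAcyc24.isAcyclicN_of_test g {2} 0 hs fun Y' i hi hi' ℓ hℓ hℓL ν hν q hq => ?_
    obtain rfl : q = 0 := Nat.le_zero.1 hq
    haveI : Surjective g := ⟨hs⟩
    haveI : Surjective (pullback.snd g i) := inferInstance
    haveI : NeZero (ℓ ^ ν) := ⟨pow_ne_zero ν hℓ.ne_zero⟩
    haveI : Fintype (ULift.{u + 1} (ZMod (ℓ ^ ν))) := inferInstance
    have hA : Function.Surjective (Groth.Agent.EtZero9.secAb (pullback.snd g i)
        (EtCoh.const Y' (ZMod (ℓ ^ ν)))) :=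
      Groth.Agent.EtZero9.surjective_secAb (M := AddCommGrpCat.of (ULift.{u + 1} (ZMod (ℓ ^ ν))))
        (pullback.snd g i) hab' (h Y' i).2
    intro z
    obtain ⟨s, hs'⟩ := hA (Groth.Agent.LocAcycBC6.H0AddEquiv _ _ z)
    refine ⟨(Groth.Agent.LocAcycBC6.H0AddEquiv _ _).symm s,
      (Groth.Agent.LocAcycBC6.H0AddEquiv _ _).injective ?_⟩
    rw [Groth.Agent.EtZero9.H0_Hpull, AddEquiv.apply_symm_apply]
    exact hs'
  · haveI : Surjective g := ⟨Groth.Agent.EtAcyc24.surjective_of_isMinusOneAcyclic g h⟩
    haveI : Surjective (pullback.snd g i) := inferInstance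
    exact Groth.Agent.EtDesc24.secPull_injective_of_surjective _ _
  · haveI : Surjective g := ⟨Groth.Agent.EtZero9.surjective_of_injective_const g hab' h⟩
    exact Groth.Agent.EtAcyc24.isMinusOneAcyclic_of_surjective g

end Groth.Agent.S3512
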