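import Groth.Statements.S3513
import Groth.Agent.Lib.EtAcyc24.Comp

set_option autoImplicit false
universe u
open CategoryTheory CategoryTheory.Limits AlgebraicGeometry Opposite
open EtAcyc

namespace Groth.Agent.S3513

/-- Last assertion, abelian and sets cases: let g : X → Y and h : Y → Z be morphisms of schemes, L a set
of primes and n a natural number. If g is n-acyclic for L, then h is n-acyclic for L if and only if
g ≫ h is; if g is 0-acyclic, then h is 0-acyclic if and only if g ≫ h is. -/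
theorem result {X Y Z : Scheme.{u}} (g : X ⟶ Y) (h : Y ⟶ Z) (L : Set ℕ) (n : ℕ) :
    (EtAcyc.IsAcyclicN g L n → (EtAcyc.IsAcyclicN h L n ↔ EtAcyc.IsAcyclicN (g ≫ h) L n)) ∧
      (EtAcyc.IsZeroAcyclic g → (EtAcyc.IsZeroAcyclic h ↔ EtAcyc.IsZeroAcyclic (g ≫ h))) := by
  exact ⟨fun hg => Groth.Agent.EtAcyc24.isAcyclicN_comp_iff g h L n hg,
    fun hg => Groth.Agent.EtAcyc24.isZeroAcyclic_comp_iff g h hg⟩

end Groth.Agent.S3513
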