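import Groth.Statements.S3515
import Groth.Agent.Lib.BcMapQ6.Forward
import Groth.Agent.Lib.BcMapQ6.Ingredients
import Groth.Agent.Lib.BcMapQ6.AdjEt
import Groth.Agent.Lib.BcMapQ6.LocAcyc

set_option autoImplicit false
universe u
open CategoryTheory CategoryTheory.Limits AlgebraicGeometry Opposite
attribute [local instance] HasDerivedCategory.standard
open EtAcyc

namespace Groth.Agent.S3515

/-- (i) ⇔ (iv): let g : X → Y be a morphism of schemes, L a set of primes, n a natural number. Then g is
locally n-acyclic for L (every induced morphism of strict localizations is n-acyclic for L) if and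
only if: for every locally quasi-finite i : Y' → Y (locally of finite type with discrete fibres)
with base change g' : X' = X ×_Y Y' → Y', every quasi-compact open immersion i' : Y'' → Y' with base
change j' : X'' = X' ×_{Y'} Y'' → X' and g'' : X'' → Y'', and every abelian L-torsion sheaf F on
Y'', the base change maps g'⁻¹ R^q i'_* F → R^q j'_* g''⁻¹ F (cohomology sheaves of the derived base
change morphism) are isomorphisms for q ≤ n and a monomorphism for q = n + 1. -/
theorem result {X Y : Scheme.{u}} (g : X ⟶ Y) (L : Set ℕ) (n : ℕ) :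
    EtAcyc.IsLocAcyclicN g L n ↔
      ∀ (Y' : Scheme.{u}) (i : Y' ⟶ Y) [LocallyQuasiFinite i] [LocallyOfFiniteType i]
        (Y'' : Scheme.{u}) (i' : Y'' ⟶ Y') [IsOpenImmersion i'] [QuasiCompact i']
        [PreservesFiniteLimits (EtCoh.pull (pullback.snd g i))]
        [PreservesFiniteLimits (EtCoh.pull (pullback.snd (pullback.snd g i) i'))]
        [DCoh.HasRpushEt Y'' i'] [DCoh.HasRpushEt (pullback (pullback.snd g i) i') (pullback.fst (pullback.snd g i) i')]
        [DCoh.HasRpushEt (pullback g i) (pullback.snd g i)]
        (adj : EtBC.pullD (pullback.snd g i) ⊣ DCoh.RpushEt (pullback g i) (pullback.snd g i))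
        (F : EtCoh.Ab Y''), EtAcyc.IsLTorsion L F →
        (∀ q : ℤ, q ≤ n → IsIso ((DerivedCategory.homologyFunctor (EtCoh.Ab (pullback g i)) q).map
          (EtBC.bcMap i' (pullback.snd g i) (pullback.fst (pullback.snd g i) i') (pullback.snd (pullback.snd g i) i')
            pullback.condition.symm adj (EtBC.single Y'' F)))) ∧
        Mono ((DerivedCategory.homologyFunctor (EtCoh.Ab (pullback g i)) ((n : ℤ) + 1)).map
          (EtBC.bcMap i' (pullback.snd g i) (pullback.fst (pullback.snd g i) i') (pullback.snd (pullback.snd g i) i')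
            pullback.condition.symm adj (EtBC.single Y'' F))) := by
  constructor
  · intro hloc Y' i _ _ Y'' i' _ _ _ _ _ _ _ adj F hF
    exact Groth.Agent.BcMapQ6.homology_bcMap_of_locBC adj (Groth.Agent.BcMapQ6.locBC_baseChange' hloc i)
      (IsPullback.of_hasPullback (pullback.snd g i) i').flip F hF
  · intro h
    refine Groth.Agent.BcMapQ6.isLocAcyclicN_of_openBC ?_
    intro Z i _ _ T jT _ _ F hF q hq
    haveI := Groth.Agent.EtStalk.preservesFiniteLimits_pull (pullback.snd g i)
    haveI := Groth.Agent.EtStalk.preservesFiniteLimits_pull (pullback.snd (pullback.snd g i) jT)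
    haveI := Groth.Agent.BcMapQ6.hasRpushEt T jT
    haveI := Groth.Agent.BcMapQ6.hasRpushEt (pullback (pullback.snd g i) jT) (pullback.fst (pullback.snd g i) jT)
    haveI := Groth.Agent.BcMapQ6.hasRpushEt (pullback g i) (pullback.snd g i)
    obtain ⟨adj⟩ := Groth.Agent.BcMapQ6.nonempty_adj (pullback.snd g i)
    exact (Groth.Agent.BcMapQ6.isIso_homology_bcMap_iff (pullback.snd g i) jT _ _ _ adj F q).1
      ((h Z i T jT adj F hF).1 q (by exact_mod_cast hq))

end Groth.Agent.S3515
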