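import Groth.Statements.S3517
import Groth.Agent.Lib.EtDesc24.SecPull

set_option autoImplicit false
universe u
open CategoryTheory CategoryTheory.Limits AlgebraicGeometry Opposite
open EtBC

namespace Groth.Agent.S3517
open Groth.Agent.EtDesc24

/-- Let h : Y → X and p : X̄ → X be morphisms of schemes with p surjective, Ȳ = Y ×_X X̄ with
projections h̄ : Ȳ → X̄ and p_Y : Ȳ → Y. If for every sheaf of sets F̄ on X̄ the pullback map on
global sections Γ(X̄, F̄) → Γ(Ȳ, h̄^* F̄) is injective, then for every sheaf of sets F on X the map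
Γ(X, F) → Γ(Y, h^* F) is injective. If those maps for h̄ are bijective and moreover the base change
morphism h^* p_* F̄ → p_{Y*} h̄^* F̄ is a monomorphism for every sheaf of sets F̄ on X̄, then the
maps Γ(X, F) → Γ(Y, h^* F) are bijective. -/
theorem result {X Y Xb Yb : Scheme.{u}} (h : Y ⟶ X) (p : Xb ⟶ X)
    (hb : Yb ⟶ Xb) (pY : Yb ⟶ Y) (sq : IsPullback hb pY p h) (hp : Function.Surjective p.base) :
    ((∀ Fb : EtDesc.Sh Xb, Function.Injective (EtDesc.secPull hb Fb)) →
      ∀ F : EtDesc.Sh X, Function.Injective (EtDesc.secPull h F)) ∧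
    ((∀ Fb : EtDesc.Sh Xb, Function.Bijective (EtDesc.secPull hb Fb)) →
      (∀ Fb : EtDesc.Sh Xb, Mono (EtBC.baseChange0Sh p h pY hb sq.w Fb)) →
      ∀ F : EtDesc.Sh X, Function.Bijective (EtDesc.secPull h F)) := by
  have hsp : Surjective p := ⟨hp⟩
  have main : (∀ Fb : EtDesc.Sh Xb, Function.Injective (EtDesc.secPull hb Fb)) →
      ∀ F : EtDesc.Sh X, Function.Injective (EtDesc.secPull h F) := by
    intro H F s t e
    refine secPull_injective_of_surjective p F ?_
    have := congrArg (fun x => pushTop pY _ ((EtBC.baseChange0Sh p h pY hb sq.w _).hom.app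
      (op (EtCoh.top Y)) (((EtDesc.pullSh h).map ((EtDesc.adjSh p).unit.app F)).hom.app
        (op (EtCoh.top Y)) x))) e
    simp only [baseChange0Sh_unit_secPull] at this
    exact H _ this
  refine ⟨main, fun H hM F => ⟨main (fun Fb => (H Fb).1) F, fun η => ?_⟩⟩
  have hu := mono_unit_of_surjective p F
  refine mem_range_of_mono h (main fun Fb => (H Fb).1) ((EtDesc.adjSh p).unit.app F) η ?_
  obtain ⟨a, ha⟩ := (H _).2 (pushTop pY _ ((EtBC.baseChange0Sh p h pY hb sq.w _).hom.app
    (op (EtCoh.top Y)) (((EtDesc.pullSh h).map ((EtDesc.adjSh p).unit.app F)).hom.app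
      (op (EtCoh.top Y)) η)))
  refine ⟨(pushTop p _).symm a, ?_⟩
  refine ((Groth.Agent.EtStalk.Sets.mono_iff_app_injective _).1 (hM ((EtDesc.pullSh p).obj F)) _)
    ((pushTop pY _).injective ?_)
  exact ((baseChange0Sh_secPull sq.w ((EtDesc.pullSh p).obj F) ((pushTop p _).symm a)).trans
    (congrArg _ (Equiv.apply_symm_apply _ a))).trans ha

end Groth.Agent.S3517
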