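import Groth.Statements.S3532
import Groth.Agent.Lib.MLLim8.Basic

set_option autoImplicit false
universe u
open HomAlg3

namespace Groth.Agent.S3532
open CategoryTheory CategoryTheory.Limits Opposite



open CategoryTheory in
/-- Category of abelian groups, system indexed by the natural numbers: Let (A_k)_{k ≥ 0} be an inverse
system of abelian groups. For p ≤ k write Im_k(A_p) for the image of A_k → A_p, and K_p for the
kernel of A_p → A_{p-1} (K_0 = A_0). Then (A_k) satisfies the Mittag-Leffler condition (for each p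
the subgroups Im_k(A_p) are eventually constant in k) if and only if for each p the subgroups
Im_k(A_p) ∩ K_p are eventually constant in k. -/
theorem result (F : ℕᵒᵖ ⥤ AddCommGrpCat.{u}) :
    (F ⋙ forget AddCommGrpCat).IsMittagLeffler ↔
      ((∃ k₀ : ℕ, ∀ (k : ℕ) (hk : k₀ ≤ k),
          (F.map (homOfLE (Nat.zero_le k)).op).hom.range = (F.map (homOfLE (Nat.zero_le k₀)).op).hom.range) ∧
        ∀ p : ℕ, ∃ k₀ : ℕ, ∃ h₀ : p + 1 ≤ k₀, ∀ (k : ℕ) (hk : k₀ ≤ k),
          (F.map (homOfLE (h₀.trans hk)).op).hom.range ⊓ (F.map (homOfLE (Nat.le_succ p)).op).hom.ker =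
            (F.map (homOfLE h₀).op).hom.range ⊓ (F.map (homOfLE (Nat.le_succ p)).op).hom.ker) := by
  have anti : ∀ {p a b : ℕ} (ha : p ≤ a) (h : a ≤ b),
      (F.map (homOfLE (ha.trans h)).op).hom.range ≤ (F.map (homOfLE ha).op).hom.range := by
    rintro p a b ha h _ ⟨x, rfl⟩
    exact ⟨Groth.Agent.MLLim8.res F h x, Groth.Agent.MLLim8.res_res F ha h x⟩
  rw [← Groth.Agent.MLLim8.isML_top, Groth.Agent.MLLim8.isML_iff]
  constructor
  · intro h
    have key : ∀ p, ∃ (i : ℕ) (hi : p ≤ i), ∀ (k : ℕ) (hk : i ≤ k),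
        (F.map (homOfLE hi).op).hom.range = (F.map (homOfLE (hi.trans hk)).op).hom.range := by
      intro p
      obtain ⟨i, hi, H⟩ := h p
      refine ⟨i, hi, fun k hk => le_antisymm ?_ (anti hi hk)⟩
      rintro _ ⟨x, rfl⟩
      obtain ⟨y, -, hy⟩ := H k hk x trivial
      exact ⟨y, hy⟩
    refine ⟨?_, fun p => ?_⟩
    · obtain ⟨i, hi, H⟩ := key 0
      exact ⟨i, fun k hk => (H k hk).symm⟩
    · obtain ⟨i, hi, H⟩ := key (p + 1)
      exact ⟨i, hi, fun k hk => by rw [H k hk]⟩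
  · rintro ⟨⟨k₀, h0⟩, hS⟩ p
    induction p with
    | zero =>
      refine ⟨k₀, Nat.zero_le _, fun k hk x _ => ?_⟩
      obtain ⟨y, hy⟩ := (h0 k hk).ge ⟨x, rfl⟩
      exact ⟨y, trivial, hy⟩
    | succ p ih =>
      obtain ⟨i, hi, H⟩ := ih
      obtain ⟨k₁, h₁, H₁⟩ := hS p
      refine ⟨max i k₁, h₁.trans (le_max_right _ _), fun k hk x _ => ?_⟩
      obtain ⟨y, -, hy⟩ := H k ((le_max_left _ _).trans hk) (Groth.Agent.MLLim8.res F (le_max_left i k₁) x) trivial
      have hd : Groth.Agent.MLLim8.res F (h₁.trans (le_max_right i k₁)) x -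
          Groth.Agent.MLLim8.res F (h₁.trans ((le_max_right i k₁).trans hk)) y ∈
          (F.map (homOfLE h₁).op).hom.range ⊓ (F.map (homOfLE (Nat.le_succ p)).op).hom.ker := by
        refine AddSubgroup.mem_inf.2 ⟨AddSubgroup.sub_mem _ (anti h₁ (le_max_right _ _) ⟨x, rfl⟩) (anti h₁ ((le_max_right _ _).trans hk) ⟨y, rfl⟩), ?_⟩
        show Groth.Agent.MLLim8.res F (Nat.le_succ p) _ = 0
        rw [map_sub, Groth.Agent.MLLim8.res_res, Groth.Agent.MLLim8.res_res, hy, Groth.Agent.MLLim8.res_res, sub_self]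
      rw [← H₁ k ((le_max_right _ _).trans hk)] at hd
      obtain ⟨z, hz⟩ := hd.1
      refine ⟨y + z, trivial, ?_⟩
      rw [map_add, show Groth.Agent.MLLim8.res F _ z = _ from hz]
      abel


end Groth.Agent.S3532
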