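import Groth.Statements.S3533
import Groth.Agent.Lib.HTorCoh13.Basic

set_option autoImplicit false
set_option backward.isDefEq.respectTransparency false
set_option backward.isDefEq.respectTransparency.types false
universe u
attribute [local instance] HasDerivedCategory.standard
open HTor

namespace Groth.Agent.S3533

open CategoryTheory CategoryTheory.Limits AlgebraicGeometry in
/-- Let f : X ⟶ S be a flat morphism with X locally Noetherian, g : Y ⟶ S a morphism, and suppose Z = X
×_S Y is locally Noetherian. As X is flat over S, the local hypertor sheaves Tor_n^S(F, G) on Z are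
taken to be the cohomology sheaves in degree −n of L pr₁^* F ⊗^L pr₂^* G, where pr₂^* G is the plain
pullback of G viewed as a complex in degree 0 and the derived pullback L pr₁^* and the derived
tensor product are taken under their existence binders; the statement is made in that form. Then for
F a coherent O_X-module and G a coherent O_Y-module, every cohomology sheaf of L pr₁^* F ⊗^L pr₂^* G
is a coherent O_Z-module. -/
theorem result (X Y S : Scheme.{u}) (f : X ⟶ S) (g : Y ⟶ S) [Flat f]
    [IsLocallyNoetherian X] [IsLocallyNoetherian (pullback f g)] (F : X.Modules) (G : Y.Modules)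
    (hF : Coh.IsCoh F) (hG : Coh.IsCoh G) [DCoh.HasLpull (pullback.fst f g)]
    [DCoh.HasLTensorCx ((HTor.pullCx (pullback.snd f g)).obj
      ((HomologicalComplex.single Y.Modules (ComplexShape.up ℤ) 0).obj G))] (n : ℤ) :
    Coh.IsCoh (DCoh.HD ((DCoh.LTensorCx ((HTor.pullCx (pullback.snd f g)).obj
      ((HomologicalComplex.single Y.Modules (ComplexShape.up ℤ) 0).obj G))).obj
        ((DCoh.Lpull (pullback.fst f g)).obj (DCoh.inD X F))) n) := by
  haveI := (HTorCoh13.isLE_toD (K := (HomologicalComplex.single X.Modules (ComplexShape.up ℤ) 0).obj F) (b := 0)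
    fun i hi => HomologicalComplex.isZero_single_obj_X _ _ _ _ (by omega))
  haveI : (DCoh.inD X F).IsLE 0 := inferInstance
  have hFD : DCoh.IsCohD (DCoh.inD X F) :=
    HTorCoh13.isCohD_of_iso ((DerivedCategory.singleFunctorIsoCompQ X.Modules 0).app F).symm
      (HTorCoh13.isCohD_toD_single F hF)
  haveI := HTorCoh13.isLE_lpull (pullback.fst f g) (E := DCoh.inD X F) 0
  haveI := HTorCoh13.isLE_toD (K := (HTor.pullCx (pullback.snd f g)).obj
      ((HomologicalComplex.single Y.Modules (ComplexShape.up ℤ) 0).obj G)) (b := 0)
    fun i hi => (Scheme.Modules.pullback (pullback.snd f g)).map_isZero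
      (HomologicalComplex.isZero_single_obj_X _ _ _ _ (by omega))
  exact HTorCoh13.isCohD_lTensorCx _
    (HTorCoh13.isCohD_pullCx_of_flat _ _ (HTorCoh13.isCohD_toD_single G hG)) 0
    (HTorCoh13.isCohD_lpull _ hFD 0) 0 n

end Groth.Agent.S3533
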