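import Groth.Statements.S3540
import Groth.Agent.Lib.CechFilt13.Top

set_option autoImplicit false
universe u
open CechTot

namespace Groth.Agent.S3540

set_option backward.isDefEq.respectTransparency false
set_option backward.isDefEq.respectTransparency.types false

/-- an additive equivalence is `ℤ`-linear -/
def toLinearEquivInt {T T' : Type u} [AddCommGroup T] [Module ℤ T] [AddCommGroup T'] [Module ℤ T']
    (f : T ≃+ T') : T ≃ₗ[ℤ] T' :=
  { f with map_smul' := fun r x => map_intCast_smul f.toAddMonoidHom ℤ ℤ r x }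

theorem isSubquotient_congr {R : Type*} [CommRing R] {N T T' : Type u} [AddCommGroup N] [Module R N]
    [AddCommGroup T] [Module R T] [AddCommGroup T'] [Module R T'] (c : T ≃ₗ[R] T')
    (h : HTor.IsSubquotient R N T) : HTor.IsSubquotient R N T' := by
  obtain ⟨S, S', hle, ⟨e⟩⟩ := h
  refine ⟨S.map c.toLinearMap, S'.map c.toLinearMap, Submodule.map_mono hle, ⟨e ≪≫ₗ ?_⟩⟩
  refine Submodule.Quotient.equiv _ _ (c.submoduleMap S') ?_
  ext ⟨z, hz⟩
  simp only [Submodule.mem_map, Submodule.mem_comap, Submodule.subtype_apply, LinearEquiv.coe_coe,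
    LinearEquiv.submoduleMap_apply, Subtype.exists]
  constructor
  · rintro ⟨x, hx, hxS, e'⟩
    exact ⟨x, hxS, congrArg Subtype.val e'⟩
  · rintro ⟨x, hxS, rfl⟩
    exact ⟨x, hle hxS, hxS, rfl⟩

open CategoryTheory CategoryTheory.Limits TopologicalSpace in
/-- For abelian sheaves and a complex bounded below (the biregular case), stated through the finite
filtration the spectral sequence induces on its abutment and its edge (the source's graded pieces
are the E∞ terms, which is stronger). Let U = (U_i) be an open cover of X and K a complex of abelian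
sheaves with K^i = 0 for i < a. For q ∈ ℤ let h^q(K) be the presheaf V ↦ H^q(V, K) of
hypercohomology groups and Ȟ^p(U, h^q(K)) its Čech cohomology for the cover. Then for every n the
group H^n(X, K) carries a decreasing sequence of subgroups G_0 ≥ G_1 ≥ … with G_0 everything, G_1
the kernel of the restriction map H^n(X, K) → ∏_i H^n(U_i, K), and G_N = 0 for some N, such that
every quotient G_p/G_{p+1} is isomorphic to a subquotient of Ȟ^p(U, h^{n-p}(K)). -/
theorem result {X : TopCat.{u}}
    [HasDerivedCategory.{u} (CohTop.Ab X)] {ι : Type u} (U : ι → Opens X) (hcov : iSup U = ⊤)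
    (K : CochainComplex (CohTop.Ab X) ℤ) (a : ℤ) (ha : ∀ i : ℤ, i < a → IsZero (K.X i)) (n : ℤ) :
    ∃ (N : ℕ) (G : ℕ → Submodule ℤ (CohCx.HDU (DerivedCategory.Q.obj K) n (⊤ : Opens X))),
      Antitone G ∧ G 0 = ⊤ ∧ G N = ⊥ ∧
      G 1 = ⨅ i, AddSubgroup.toIntSubmodule
        (CohCx.HDUres (DerivedCategory.Q.obj K) n (homOfLE le_top : U i ⟶ (⊤ : Opens X))).ker ∧
      ∀ p : ℕ, HTor.IsSubquotient ℤ (HTor.grDesc G p)
        (CohB1.cechHTop U (CohCx.HDUPresheaf (DerivedCategory.Q.obj K) (n - p)) p) := by
  haveI : K.IsStrictlyGE a := (CochainComplex.isStrictlyGE_iff K a).2 ha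
  obtain ⟨N, F, hanti, h0, hN, h1, hsub⟩ := Groth.Agent.CechFilt13.exists_filtration
    (Groth.Agent.CechFilt13.topFam U) (Groth.Agent.CechFilt13.topFam_covering U hcov)
    (DerivedCategory.Q.obj K) a n
  refine ⟨N, F, hanti, h0, hN, ?_, fun p => ?_⟩
  · ext y
    rw [Submodule.mem_iInf, h1]
    constructor
    · intro h i
      have e := h (fun _ => i)
      have hle : U i ≤ (∏ᶜ fun _ : ToType (SimplexCategory.mk 0) => Groth.Agent.CechFilt13.topFam U i).left :=
        leOfHom (Pi.lift (f := fun _ : ToType (SimplexCategory.mk 0) => Groth.Agent.CechFilt13.topFam U i)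
          (P := Groth.Agent.CechFilt13.topFam U i) fun _ => 𝟙 _).left
      show CohCx.HDUres _ n (homOfLE le_top : U i ⟶ (⊤ : Opens X)) y = 0
      rw [show (homOfLE le_top : U i ⟶ (⊤ : Opens X)) = homOfLE hle ≫
        (∏ᶜ fun _ : ToType (SimplexCategory.mk 0) => Groth.Agent.CechFilt13.topFam U i).hom from
          Subsingleton.elim _ _]
      show (DerivedCategory.singleFunctor _ 0).map (CohCx.freeSheafMap _ _) ≫ y = 0
      simp only [CohCx.freeSheafMap, Functor.map_comp, Functor.whiskerRight_comp, Category.assoc]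
      exact (congrArg (_ ≫ ·) e).trans comp_zero
    · intro h b
      let i : ι := b 0
      let l : (∏ᶜ fun k => Groth.Agent.CechFilt13.topFam U (b k)).left ⟶ U i :=
        (Pi.π (fun k => Groth.Agent.CechFilt13.topFam U (b k)) 0).left
      show CohCx.HDUres _ n (∏ᶜ fun k => Groth.Agent.CechFilt13.topFam U (b k)).hom y = 0
      rw [show (∏ᶜ fun k => Groth.Agent.CechFilt13.topFam U (b k)).hom =
        l ≫ (homOfLE le_top : U i ⟶ (⊤ : Opens X)) from Subsingleton.elim _ _]
      show (DerivedCategory.singleFunctor _ 0).map (CohCx.freeSheafMap _ _) ≫ y = 0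
      simp only [CohCx.freeSheafMap, Functor.map_comp, Functor.whiskerRight_comp, Category.assoc]
      exact (congrArg (_ ≫ ·) (show (DerivedCategory.singleFunctor _ 0).map _ ≫ y = 0 from h i)).trans comp_zero
  · exact isSubquotient_congr (toLinearEquivInt (Groth.Agent.CechFilt13.cechHIso U
      (CohCx.HDUPresheaf (DerivedCategory.Q.obj K) (n - p)) p).addCommGroupIsoToAddEquiv) (hsub p)

end Groth.Agent.S3540
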