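import Groth.Statements.S3544
import Groth.Agent.Lib.LenSS8.Basic

set_option autoImplicit false
universe u
open HomAlg3

namespace Groth.Agent.S3544

open CategoryTheory CategoryTheory.Limits Groth.Agent.LenSS8

theorem sum_succ {A : Type u} [Ring A]
    (E : E₂CohomologicalSpectralSequence (ModuleCat.{u} A)) (s : Finset (ℤ × ℤ)) (r : ℤ) (hr : 2 ≤ r)
    (hs : ∀ pq : ℤ × ℤ, pq ∉ s → IsZero ((E.page r hr).X pq))
    (hfl : ∀ pq : ℤ × ℤ, IsFiniteLength A ((E.page r hr).X pq)) :
    (s.sum fun pq => (((pq.1 + pq.2).negOnePow : ℤˣ) : ℤ) * (len ((E.page (r + 1) (Int.le_add_one hr)).X pq) : ℤ)) =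
      s.sum fun pq => (((pq.1 + pq.2).negOnePow : ℤˣ) : ℤ) * (len ((E.page r hr).X pq) : ℤ) := by
  classical
  let σ : ℤ × ℤ := (r, 1 - r)
  let sgn : ℤ × ℤ → ℤ := fun pq => (((pq.1 + pq.2).negOnePow : ℤˣ) : ℤ)
  let T : ℤ × ℤ → ℤ := fun pq => (len (Abelian.coimage ((E.page r hr).d pq (pq + σ))) : ℤ)
  have hz : ∀ pq, pq ∉ s ∨ pq + σ ∉ s → T pq = 0 := by
    rintro pq (h | h)
    · simp [T, len_isZero ((hs pq h).of_epi (Abelian.coimage.π ((E.page r hr).d pq (pq + σ))))]
    · simp [T, len_isZero ((hs _ h).of_mono (Abelian.factorThruCoimage ((E.page r hr).d pq (pq + σ))))]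
  have e : ∀ pq, sgn pq * (len ((E.page r hr).X pq) : ℤ) =
      sgn pq * (len ((E.page (r + 1) (Int.le_add_one hr)).X pq) : ℤ) + (sgn pq * T pq + sgn pq * T (pq - σ)) := by
    intro pq
    have h2 : (len (Abelian.coimage ((E.page r hr).d (pq - σ) pq)) : ℤ) = T (pq - σ) := by
      have : ∀ j, j = pq → len (Abelian.coimage ((E.page r hr).d (pq - σ) pq)) =
          len (Abelian.coimage ((E.page r hr).d (pq - σ) j)) := by rintro j rfl; rfl
      exact congrArg Nat.cast (this _ (sub_add_cancel pq σ))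
    rw [len_succ E r hr pq (hfl pq), Nat.cast_add, Nat.cast_add]
    change sgn pq * (_ + T pq + (len (Abelian.coimage ((E.page r hr).d (pq - σ) pq)) : ℤ)) = _
    rw [h2]
    ring
  show ∑ pq ∈ s, sgn pq * _ = ∑ pq ∈ s, sgn pq * _
  rw [Finset.sum_congr rfl fun pq _ => e pq, Finset.sum_add_distrib, Finset.sum_add_distrib, eq_comm,
    add_eq_left, add_eq_zero_iff_eq_neg, ← Finset.sum_neg_distrib]
  refine Finset.sum_bij_ne_zero (fun pq _ _ => pq + σ) (fun pq hp h => ?_) (fun _ _ _ _ _ _ h => by simpa using h)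
    (fun pq hp h => ?_) (fun pq hp h => ?_)
  · by_contra h'
    exact h (by rw [hz pq (Or.inr h'), mul_zero])
  · refine ⟨pq - σ, ?_, ?_, by simp⟩
    · by_contra h'
      exact h (by simp [hz _ (Or.inl h')])
    · intro h'
      have : sgn (pq - σ) ≠ 0 := by simp [sgn]
      refine h ?_
      simp [(mul_eq_zero.1 h').resolve_left this]
  · simp only [add_sub_cancel_right]
    show sgn pq * T pq = -(sgn (pq + σ) * T pq)
    have : sgn (pq + σ) = - sgn pq := by
      simp only [sgn, σ, Prod.fst_add, Prod.snd_add]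
      rw [show pq.1 + r + (pq.2 + (1 - r)) = pq.1 + pq.2 + 1 by ring, Int.negOnePow_succ, Units.val_neg]
    rw [this]; ring



open CategoryTheory CategoryTheory.Limits in
/-- Let E be a cohomological spectral sequence of modules over a ring A, starting at page 2, such that
the E₂ terms have finite length and only finitely many of them (all inside the finite set s of
bidegrees) are nonzero. Then for every r ≥ 2 the Euler–Poincaré characteristic of page r, the
alternating sum over s of (-1)^{p+q} times the length of E_r^{pq}, equals that of page 2. -/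
theorem result {A : Type u} [Ring A]
    (E : E₂CohomologicalSpectralSequence (ModuleCat.{u} A)) (s : Finset (ℤ × ℤ))
    (hs : ∀ pq : ℤ × ℤ, pq ∉ s → IsZero ((E.page 2).X pq))
    (hfl : ∀ pq : ℤ × ℤ, IsFiniteLength A ((E.page 2).X pq)) (r : ℤ) (hr : 2 ≤ r) :
    (s.sum fun pq => (((pq.1 + pq.2).negOnePow : ℤˣ) : ℤ) * ((Module.length A ((E.page r hr).X pq)).toNat : ℤ)) =
      s.sum fun pq => (((pq.1 + pq.2).negOnePow : ℤˣ) : ℤ) * ((Module.length A ((E.page 2).X pq)).toNat : ℤ) := by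
  suffices ∀ (k : ℕ) (r : ℤ) (hr : 2 ≤ r), r = 2 + k → (∀ pq, pq ∉ s → IsZero ((E.page r hr).X pq)) ∧
      (∀ pq, IsFiniteLength A ((E.page r hr).X pq)) ∧
      (s.sum fun pq => (((pq.1 + pq.2).negOnePow : ℤˣ) : ℤ) * (len ((E.page r hr).X pq) : ℤ)) =
        s.sum fun pq => (((pq.1 + pq.2).negOnePow : ℤˣ) : ℤ) * (len ((E.page 2 le_rfl).X pq) : ℤ) from
    (this (r - 2).toNat r hr (by omega)).2.2
  intro k
  induction k with
  | zero =>
    intro r hr hk
    obtain rfl : r = 2 := by simpa using hk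
    exact ⟨hs, hfl, rfl⟩
  | succ k ih =>
    intro r hr hk
    obtain rfl : r = 2 + (k : ℤ) + 1 := by push_cast at hk; omega
    obtain ⟨h1, h2, h3⟩ := ih (2 + k) (by omega) rfl
    exact ⟨fun pq h => SpSeqEasy8.isZero_page_succ (2 + k) (by omega) hr pq (h1 pq h),
      fun pq => fl_succ E (2 + k) (by omega) pq (h2 pq), (sum_succ E s (2 + k) (by omega) h1 h2).trans h3⟩


end Groth.Agent.S3544
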