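import Groth.Statements.S3553
import Groth.Agent.Lib.EGA2.ProjMap

set_option autoImplicit false
universe u
open CategoryTheory CategoryTheory.Limits AlgebraicGeometry
open EGA2

namespace Groth.Agent.S3553

/-- In the case where the induced morphism is defined on all of Proj S: let φ : S' → S be a homomorphism
of graded rings such that S_+ is contained in the ideal generated by φ(S'_+), and suppose every
element of the kernel of φ is nilpotent. Then the induced morphism from Proj S to Proj S' has dense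
image. -/
theorem result {R A : Type u} [CommRing R] [CommRing A] [Algebra R A] (𝒜 : ℕ → Submodule R A) [GradedAlgebra 𝒜]
    {B : Type u} [CommRing B] [Algebra R B] (ℬ : ℕ → Submodule R B) [GradedAlgebra ℬ]
    (φ : 𝒜 →+*ᵍ ℬ) (hφ : HomogeneousIdeal.irrelevant ℬ ≤ (HomogeneousIdeal.irrelevant 𝒜).map φ)
    (hker : ∀ a : A, φ a = 0 → IsNilpotent a) :
    DenseRange (Proj.map φ hφ).base := by
  rw [DenseRange, dense_iff_inter_open]
  intro U hU ⟨x, hx⟩
  obtain ⟨_, ⟨r, rfl⟩, hxr, hrU⟩ :=
    (ProjectiveSpectrum.isTopologicalBasis_basic_opens 𝒜).exists_subset_of_mem_open hx hU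
  change x ∈ ProjectiveSpectrum.basicOpen 𝒜 r at hxr
  rw [ProjectiveSpectrum.basicOpen_eq_union_of_projection] at hxr
  replace hxr := TopologicalSpace.Opens.mem_iSup.1 hxr
  obtain ⟨i, hi⟩ := hxr
  obtain ⟨g, hg, hgx⟩ := Set.not_subset.1 x.not_irrelevant_le
  have hgi : φ (GradedRing.proj 𝒜 i r * g) ∈ (HomogeneousIdeal.irrelevant ℬ).toIdeal := by
    classical
    rw [map_mul]
    refine Ideal.mul_mem_left _ _ ((Groth.Agent.EGA2.mem_irr_iff ℬ).2 ?_)
    rw [← GradedRingHom.map_directSumDecompose, (Groth.Agent.EGA2.mem_irr_iff 𝒜).1 hg, map_zero]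
  by_contra hempty
  have hnil : IsNilpotent (φ (GradedRing.proj 𝒜 i r * g)) := by
    refine Groth.Agent.EGA2.isNilpotent_of_forall_mem ℬ hgi fun q => ?_
    by_contra hq
    refine hempty ⟨(Proj.map φ hφ).base q, hrU ?_, q, rfl⟩
    show (Proj.map φ hφ).base q ∈ ProjectiveSpectrum.basicOpen 𝒜 r
    rw [ProjectiveSpectrum.basicOpen_eq_union_of_projection]
    refine TopologicalSpace.Opens.mem_iSup.2 ⟨i, fun h => hq (by rw [map_mul]; exact Ideal.mul_mem_right _ _ h)⟩
  obtain ⟨n, hn⟩ := hnil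
  obtain ⟨m, hm⟩ := hker ((GradedRing.proj 𝒜 i r * g) ^ n) (by rw [map_pow, hn])
  have := Groth.Agent.EGA2.mem_of_isNilpotent 𝒜 x
    (⟨n * m, by rw [pow_mul, hm]⟩ : IsNilpotent (GradedRing.proj 𝒜 i r * g))
  exact (x.isPrime.mem_or_mem this).elim hi hgx

end Groth.Agent.S3553
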