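import Groth.Statements.S3578
import Groth.Agent.Lib.EGA2.ProjSpectrum

set_option autoImplicit false
universe u
open EGA2

namespace Groth.Agent.S3578

/-- Via the correspondence between closed subsets of Proj S and radical graded ideals of S_+: let S be a
graded ring and Z a closed subset of Proj S, with J = S_+ ∩ (vanishing ideal of Z). Then Z is
irreducible if and only if J is a prime ideal of the ring-without-unit S_+: J ≠ S_+ and a product of
two elements of S_+ lies in J only if one factor does. -/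
theorem result {R A : Type u} [CommRing R] [CommRing A] [Algebra R A] (𝒜 : ℕ → Submodule R A) [GradedAlgebra 𝒜]
    (Z : Set (ProjectiveSpectrum 𝒜)) (hZ : IsClosed Z) :
    IsIrreducible Z ↔
      (¬ (HomogeneousIdeal.irrelevant 𝒜).toIdeal ≤ (ProjectiveSpectrum.vanishingIdeal Z).toIdeal ∧
        ∀ f ∈ (HomogeneousIdeal.irrelevant 𝒜).toIdeal, ∀ g ∈ (HomogeneousIdeal.irrelevant 𝒜).toIdeal,
          f * g ∈ (ProjectiveSpectrum.vanishingIdeal Z).toIdeal →
            f ∈ (ProjectiveSpectrum.vanishingIdeal Z).toIdeal ∨ g ∈ (ProjectiveSpectrum.vanishingIdeal Z).toIdeal) := by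
  have hZeq : ProjectiveSpectrum.zeroLocus 𝒜
      ((ProjectiveSpectrum.vanishingIdeal Z).toIdeal : Set A) = Z := by
    refine (ProjectiveSpectrum.zeroLocus_vanishingIdeal_eq_closure 𝒜 Z).trans hZ.closure_eq
  have sub : ∀ z ∈ Z, ∀ f ∈ (ProjectiveSpectrum.vanishingIdeal Z).toIdeal,
      f ∈ z.asHomogeneousIdeal.toIdeal :=
    fun z hz f hf => (ProjectiveSpectrum.mem_vanishingIdeal Z f).1 hf z hz
  constructor
  · intro hirr
    refine ⟨fun h => ?_, fun f hf g hg hfg => ?_⟩
    · obtain ⟨z, hz⟩ := hirr.nonempty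
      exact z.not_irrelevant_le fun x hx => sub z hz x (h hx)
    · have hcov : Z ⊆ ProjectiveSpectrum.zeroLocus 𝒜 {f} ∪ ProjectiveSpectrum.zeroLocus 𝒜 {g} := by
        intro z hz
        rcases z.isPrime.mem_or_mem (sub z hz _ hfg) with h | h
        · exact Or.inl (Set.singleton_subset_iff.2 h)
        · exact Or.inr (Set.singleton_subset_iff.2 h)
      rcases (isPreirreducible_iff_isClosed_union_isClosed.1 hirr.isPreirreducible) _ _
        (ProjectiveSpectrum.isClosed_zeroLocus 𝒜 _) (ProjectiveSpectrum.isClosed_zeroLocus 𝒜 _) hcov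
        with h | h
      · exact Or.inl ((ProjectiveSpectrum.mem_vanishingIdeal Z f).2 fun z hz =>
          Set.singleton_subset_iff.1 (h hz))
      · exact Or.inr ((ProjectiveSpectrum.mem_vanishingIdeal Z g).2 fun z hz =>
          Set.singleton_subset_iff.1 (h hz))
  · rintro ⟨hne, hpr⟩
    refine ⟨?_, isPreirreducible_iff_isClosed_union_isClosed.2 fun Z₁ Z₂ h₁ h₂ hcov => ?_⟩
    · by_contra h
      rw [Set.not_nonempty_iff_eq_empty] at h
      exact hne fun x _ => (ProjectiveSpectrum.mem_vanishingIdeal Z x).2 (by simp [h])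
    · have wit : ∀ W : Set (ProjectiveSpectrum 𝒜), IsClosed W → ¬ Z ⊆ W →
          ∃ f ∈ (HomogeneousIdeal.irrelevant 𝒜).toIdeal,
            f ∉ (ProjectiveSpectrum.vanishingIdeal Z).toIdeal ∧
            ∀ w ∈ W, f ∈ w.asHomogeneousIdeal.toIdeal := by
        intro W hW hZW
        obtain ⟨z, hz, hzW⟩ := Set.not_subset.1 hZW
        obtain ⟨I, rfl⟩ := (ProjectiveSpectrum.isClosed_iff_zeroLocus 𝒜 W).1 hW
        obtain ⟨f, hfI, hfz⟩ := Set.not_subset.1 hzW
        obtain ⟨g, hg, hgz⟩ := Set.not_subset.1 z.not_irrelevant_le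
        refine ⟨f * g, Ideal.mul_mem_left _ f hg, fun h => ?_, fun w hw =>
          Ideal.mul_mem_right g _ (hw hfI)⟩
        exact (z.isPrime.mem_or_mem (sub z hz _ h)).elim hfz hgz
      by_contra hc
      rw [not_or] at hc
      obtain ⟨f, hf, hfZ, hfW⟩ := wit Z₁ h₁ hc.1
      obtain ⟨g, hg, hgZ, hgW⟩ := wit Z₂ h₂ hc.2
      refine (hpr f hf g hg ((ProjectiveSpectrum.mem_vanishingIdeal Z _).2 fun z hz => ?_)).elim hfZ hgZ
      rcases hcov hz with h | h
      · exact Ideal.mul_mem_right g _ (hfW z h)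
      · exact Ideal.mul_mem_left _ f (hgW z h)

end Groth.Agent.S3578
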