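import Groth.Statements.S3557
import Groth.Agent.Lib.EGA2.ProjMap
import Groth.Agent.S3578
import Mathlib.AlgebraicGeometry.Properties

set_option autoImplicit false
universe u
open CategoryTheory CategoryTheory.Limits AlgebraicGeometry
open EGA2

namespace Groth.Agent.S3557

/-- Let S be a graded ring which is essentially reduced (S_+ contains no nonzero nilpotent). Then Proj S
is an integral scheme if and only if S is essentially integral, i.e. S_+ is nonzero and the product
of two nonzero elements of S_+ is nonzero. -/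
theorem result {R A : Type u} [CommRing R] [CommRing A] [Algebra R A] (𝒜 : ℕ → Submodule R A) [GradedAlgebra 𝒜]
    (hred : ∀ f ∈ (HomogeneousIdeal.irrelevant 𝒜).toIdeal, IsNilpotent f → f = 0) :
    AlgebraicGeometry.IsIntegral (Proj 𝒜) ↔
      ((∃ f ∈ (HomogeneousIdeal.irrelevant 𝒜).toIdeal, f ≠ 0) ∧
        ∀ f ∈ (HomogeneousIdeal.irrelevant 𝒜).toIdeal, ∀ g ∈ (HomogeneousIdeal.irrelevant 𝒜).toIdeal,
          f * g = 0 → f = 0 ∨ g = 0) := by
  have hirr : AlgebraicGeometry.IsIntegral (Proj 𝒜) ↔ IsIrreducible (Set.univ : Set (ProjectiveSpectrum 𝒜)) := by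
    rw [isIntegral_iff_irreducibleSpace_and_isReduced]
    exact ⟨fun h => @IrreducibleSpace.isIrreducible_univ _ _ h.1, fun h =>
      ⟨(irreducibleSpace_def _).2 h, Groth.Agent.EGA2.isReduced_proj 𝒜 hred⟩⟩
  have hvan : ∀ f ∈ (HomogeneousIdeal.irrelevant 𝒜).toIdeal,
      (f ∈ (ProjectiveSpectrum.vanishingIdeal (Set.univ : Set (ProjectiveSpectrum 𝒜))).toIdeal ↔ f = 0) := by
    refine fun f hf => ⟨fun h => hred f hf (Groth.Agent.EGA2.isNilpotent_of_forall_mem 𝒜 hf fun p =>
      (ProjectiveSpectrum.mem_vanishingIdeal _ f).1 h p (Set.mem_univ p)), ?_⟩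
    rintro rfl; exact zero_mem _
  rw [hirr, Groth.Agent.S3578.result 𝒜 Set.univ isClosed_univ]
  refine and_congr ⟨fun h => ?_, fun ⟨f, hf, hne⟩ h => hne ((hvan f hf).1 (h hf))⟩
    (forall₂_congr fun f hf => forall₂_congr fun g hg => ?_)
  · obtain ⟨f, hf, hfv⟩ := Set.not_subset.1 h
    exact ⟨f, hf, fun h0 => hfv ((hvan f hf).2 h0)⟩
  · rw [hvan _ (Ideal.mul_mem_left _ f hg), hvan f hf, hvan g hg]

end Groth.Agent.S3557
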