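import Groth.Statements.S3559
import Groth.Agent.Lib.EGA2.ProjSpectrum

set_option autoImplicit false
universe u
open CategoryTheory CategoryTheory.Limits AlgebraicGeometry
open EGA2

namespace Groth.Agent.S3559

/-- Let S be a graded ring and (f_i) a family of homogeneous elements of positive degree. The opens
D_+(f_i) cover Proj S if and only if every element of S_+ has a power in the ideal generated by the
f_i. -/
theorem result {R A : Type u} [CommRing R] [CommRing A] [Algebra R A] (𝒜 : ℕ → Submodule R A) [GradedAlgebra 𝒜]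
    {ι : Type u} (f : ι → A) (hf : ∀ i, ∃ d : ℕ, 0 < d ∧ f i ∈ 𝒜 d) :
    (⨆ i, Proj.basicOpen 𝒜 (f i)) = ⊤ ↔
      (HomogeneousIdeal.irrelevant 𝒜).toIdeal ≤ (Ideal.span (Set.range f)).radical := by
  have key : (⨆ i, Proj.basicOpen 𝒜 (f i)) = ⊤ ↔
      ∀ p : ProjectiveSpectrum 𝒜, ∃ i, f i ∉ p.asHomogeneousIdeal.toIdeal := by
    constructor
    · intro h p
      exact TopologicalSpace.Opens.mem_iSup.1 (h.ge (Set.mem_univ p))
    · intro h
      exact top_le_iff.1 fun p _ => TopologicalSpace.Opens.mem_iSup.2 (h p)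
  rw [key]
  constructor
  · intro h x hx
    refine Groth.Agent.EGA2.mem_radical_of_forall_mem 𝒜
      (Ideal.homogeneous_span 𝒜 _ ?_) hx fun p hp => ?_
    · rintro _ ⟨i, rfl⟩
      obtain ⟨d, -, hd⟩ := hf i
      exact ⟨d, hd⟩
    · obtain ⟨i, hi⟩ := h p
      exact absurd (hp (Ideal.subset_span ⟨i, rfl⟩)) hi
  · intro h p
    by_contra hc
    simp only [not_exists, not_not] at hc
    refine p.not_irrelevant_le fun x hx => ?_
    obtain ⟨n, hn⟩ := h hx
    exact p.isPrime.mem_of_pow_mem n ((Ideal.span_le.2 (by rintro _ ⟨i, rfl⟩; exact hc i)) hn)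

end Groth.Agent.S3559
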