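import Groth.Statements.S3560
import Mathlib.RingTheory.Noetherian.Nilpotent
import Groth.Agent.Lib.EGA2.ProjSpectrum

set_option autoImplicit false
universe u
open CategoryTheory CategoryTheory.Limits AlgebraicGeometry
open EGA2

namespace Groth.Agent.S3560

/-- Let S be a graded ring whose irrelevant ideal S_+ is finitely generated. Then Proj S is empty if and
only if there is n such that S_k = 0 for all k ≥ n. -/
theorem result {R A : Type u} [CommRing R] [CommRing A] [Algebra R A] (𝒜 : ℕ → Submodule R A) [GradedAlgebra 𝒜]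
    (hfg : (HomogeneousIdeal.irrelevant 𝒜).toIdeal.FG) :
    IsEmpty (Proj 𝒜) ↔ ∃ n : ℕ, ∀ k : ℕ, n ≤ k → 𝒜 k = ⊥ := by
  refine (Groth.Agent.EGA2.isEmpty_iff 𝒜).trans ⟨fun h => ?_, fun ⟨n, hn⟩ f hf => ?_⟩
  · have : Algebra.FiniteType (𝒜 0) A := (Groth.Agent.EGA2.irrelevant_fg_iff 𝒜).1 hfg
    obtain ⟨k, hk⟩ := Ideal.FG.isNilpotent_iff_le_nilradical hfg |>.2 fun f hf => h f hf
    obtain ⟨l, n₁, hl, hper⟩ := Groth.Agent.EGA2.exists_eventually_periodic 𝒜 (ℳ := 𝒜)
    suffices H : ∀ j, ∀ m, n₁ + j * l ≤ m → 𝒜 m ≤ Submodule.restrictScalars R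
        ((HomogeneousIdeal.irrelevant 𝒜).toIdeal ^ j) by
      refine ⟨n₁ + k * l, fun m hm => eq_bot_iff.2 fun x hx => ?_⟩
      have := H k m hm hx
      rwa [Submodule.restrictScalars_mem, hk] at this
    intro j
    induction j with
    | zero => intro m _; simp
    | succ j ih =>
      intro m hm
      have h1 : (j + 1) * l = j * l + l := by ring
      obtain ⟨i, rfl⟩ : ∃ i, m = i + l := ⟨m - l, by omega⟩
      rw [hper i (by omega), Submodule.smul_le]
      intro a ha b hb
      rw [Submodule.restrictScalars_mem, pow_succ', smul_eq_mul]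
      exact Ideal.mul_mem_mul (Groth.Agent.EGA2.mem_irr_of_mem 𝒜 hl ha) (ih i (by omega) hb)
  · classical
    rw [← mem_nilradical, ← DirectSum.sum_support_decompose 𝒜 f]
    refine sum_mem fun i _ => ?_
    rcases Nat.eq_zero_or_pos i with rfl | hi
    · rw [(Groth.Agent.EGA2.mem_irr_iff 𝒜).1 hf]; exact zero_mem _
    · refine mem_nilradical.2 ⟨n, ?_⟩
      have := SetLike.pow_mem_graded n (DirectSum.decompose 𝒜 f i).2
      rw [smul_eq_mul, hn _ (Nat.le_mul_of_pos_right _ hi)] at this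
      exact this

end Groth.Agent.S3560
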