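import Groth.Statements.S3567


set_option autoImplicit false
universe u
open CategoryTheory CategoryTheory.Limits AlgebraicGeometry
open EGA2

namespace Groth.Agent.S3567

theorem psh_desc {A B C : PresheafedSpace.{u, u+1, u} CommRingCat.{u}} (h : A ⟶ B) (hc : IsIso h.c)
    (u : A ⟶ C) (v₀ : (B : TopCat) ⟶ (C : TopCat)) (w : u.base = h.base ≫ v₀) :
    ∃ v : B ⟶ C, h ≫ v = u := by
  obtain ⟨ub, uc⟩ := u
  obtain rfl : ub = h.base ≫ v₀ := w
  refine ⟨⟨v₀, uc ≫ (TopCat.Presheaf.pushforward CommRingCat.{u} v₀).map (inv h.c)⟩, ?_⟩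
  refine PresheafedSpace.hext _ _ rfl (heq_of_eq ?_)
  show (uc ≫ (TopCat.Presheaf.pushforward CommRingCat.{u} v₀).map (inv h.c)) ≫
    (TopCat.Presheaf.pushforward CommRingCat.{u} v₀).map h.c = uc
  erw [Category.assoc, ← Functor.map_comp, IsIso.inv_hom_id, CategoryTheory.Functor.map_id, Category.comp_id]

theorem psh_cancel {A B C : PresheafedSpace.{u, u+1, u} CommRingCat.{u}} (h : A ⟶ B) (hc : IsIso h.c)
    (hs : Function.Surjective h.base) (v₁ v₂ : B ⟶ C) (e : h ≫ v₁ = h ≫ v₂) : v₁ = v₂ := by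
  obtain ⟨b₁, c₁⟩ := v₁
  obtain ⟨b₂, c₂⟩ := v₂
  obtain rfl : b₁ = b₂ := by
    have hb := congrArg PresheafedSpace.Hom.base e
    exact TopCat.ext fun y => by
      obtain ⟨x, rfl⟩ := hs y
      exact congrArg (fun m => m x) hb
  obtain ⟨-, hc'⟩ := PresheafedSpace.Hom.mk.inj e
  exact congrArg _ ((cancel_mono ((TopCat.Presheaf.pushforward CommRingCat.{u} b₁).map h.c)).1 (eq_of_heq hc'))


/-- Let h : U → V be a surjective morphism of schemes such that the map of sheaves of rings O_V → h_*O_U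
is an isomorphism and the underlying space of V carries the quotient topology of that of U. Then for
every scheme W, composition with h is a bijection from the morphisms V → W onto the morphisms U → W
whose underlying map is constant on each fibre of h. -/
theorem result {U V : Scheme.{u}} (h : U ⟶ V) [Surjective h]
    [IsIso h.c] (hq : Topology.IsQuotientMap h.base) (W : Scheme.{u}) :
    (∀ v₁ v₂ : V ⟶ W, h ≫ v₁ = h ≫ v₂ → v₁ = v₂) ∧
      ∀ u : U ⟶ W, (∀ x y : U, h.base x = h.base y → u.base x = u.base y) → ∃ v : V ⟶ W, h ≫ v = u := by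
  constructor
  · intro v₁ v₂ e
    refine Scheme.Hom.ext' (LocallyRingedSpace.Hom.ext' ?_)
    exact psh_cancel h.toPshHom ‹IsIso h.c› h.surjective v₁.toPshHom v₂.toPshHom (congrArg (fun m : U ⟶ W => m.toPshHom) e)
  · intro u hu
    let g : V → W := fun y => u.base (h.surjective y).choose
    have hg : ∀ x, g (h.base x) = u.base x := fun x =>
      hu _ _ (h.surjective (h.base x)).choose_spec
    have hgc : Continuous g := hq.continuous_iff.2 (by
      rw [show g ∘ h.base = u.base from funext hg]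
      exact u.continuous)
    obtain ⟨v, hv⟩ := psh_desc h.toPshHom ‹IsIso h.c› u.toPshHom (TopCat.ofHom ⟨g, hgc⟩)
      (TopCat.ext fun x => (hg x).symm)
    have hloc : ∀ y : V, IsLocalHom (v.stalkMap y).hom := by
      intro y
      obtain ⟨x, rfl⟩ := h.surjective y
      have h1 : IsLocalHom ((h.toPshHom ≫ v).stalkMap x).hom := by
        rw [hv]
        exact u.toLRSHom.prop x
      rw [PresheafedSpace.stalkMap.comp] at h1
      exact @isLocalHom_of_comp _ _ _ _ _ _ (v.stalkMap _).hom (h.toPshHom.stalkMap x).hom h1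
    refine ⟨⟨⟨v, hloc⟩⟩, Scheme.Hom.ext' (LocallyRingedSpace.Hom.ext' ?_)⟩
    exact hv


end Groth.Agent.S3567
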