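import Groth.Statements.S3568
import Groth.Agent.S2347
import Groth.Agent.Lib.NormSect.Basic
import Mathlib.AlgebraicGeometry.Morphisms.UniversallyInjective
import Mathlib.AlgebraicGeometry.Morphisms.Integral

set_option autoImplicit false
universe u
open CategoryTheory CategoryTheory.Limits AlgebraicGeometry
open EGA2

namespace Groth.Agent.S3568

/-- Let U be an integral scheme, V a normal integral scheme (all local rings integrally closed domains)
and h : U → V a morphism which is universally closed, radicial (universally injective) and
birational (it sends the generic point of U to that of V and induces an isomorphism of the residue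
fields there). Then h is an isomorphism. (The source assumes only V normal; integrality of V, needed
here to speak of its generic point, follows from the other hypotheses.) -/
theorem result {U V : Scheme.{u}} [AlgebraicGeometry.IsIntegral U] [AlgebraicGeometry.IsIntegral V]
    (hN : Pi1.IsNormalScheme V) (h : U ⟶ V) [UniversallyClosed h]
    [UniversallyInjective h] (hgen : h.base (genericPoint U) = genericPoint V)
    (hbir : Function.Bijective (h.residueFieldMap (genericPoint U)).hom) :
    IsIso h := by
  have hinj : Function.Injective h.base := h.injective
  have hemb : Topology.IsClosedEmbedding h.base :=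
    Topology.IsClosedEmbedding.of_continuous_injective_isClosedMap h.continuous hinj h.isClosedMap
  haveI : IsAffineHom h := isAffineHom_of_isInducing h hemb.isInducing hemb.isClosed_range
  haveI : IsIntegralHom h := IsIntegralHom.iff_universallyClosed_and_isAffineHom.2 ⟨‹_›, ‹_›⟩
  let φ : V.presheaf.stalk (genericPoint V) ⟶ U.presheaf.stalk (genericPoint U) :=
    V.presheaf.stalkSpecializes (specializes_of_eq hgen) ≫ h.stalkMap (genericPoint U)
  have hbij : Function.Bijective φ := by
    have hfV : IsField (V.presheaf.stalk (h (genericPoint U))) := by rw [hgen]; exact Field.toIsField V.functionField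
    have hcancel : ∀ v, V.presheaf.stalkSpecializes (specializes_of_eq hgen)
        (V.presheaf.stalkSpecializes (specializes_of_eq hgen.symm) v) = v := fun v =>
      ConcreteCategory.congr_hom ((V.presheaf.stalkSpecializes_comp _ _).trans (V.presheaf.stalkSpecializes_refl _)) v
    refine ⟨(show V.functionField →+* U.presheaf.stalk (genericPoint U) from φ.hom).injective, fun z => ?_⟩
    obtain ⟨w, hw⟩ := hbir.2 (U.residue (genericPoint U) z)
    obtain ⟨v, rfl⟩ := Scheme.residue_surjective V _ w
    have e : (U.residue (genericPoint U)).hom (h.stalkMap (genericPoint U) v) = U.residue (genericPoint U) z :=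
      (ConcreteCategory.congr_hom (Scheme.residue_residueFieldMap h (genericPoint U)) v).symm.trans hw
    refine ⟨V.presheaf.stalkSpecializes (specializes_of_eq hgen.symm) v, ?_⟩
    show h.stalkMap (genericPoint U) (V.presheaf.stalkSpecializes _ (V.presheaf.stalkSpecializes _ v)) = z
    rw [hcancel]
    exact (show U.functionField →+* U.residueField (genericPoint U) from (U.residue (genericPoint U)).hom).injective e
  haveI : IsIso φ := (ConcreteCategory.isIso_iff_bijective φ).2 hbij
  let t : Spec (V.presheaf.stalk (genericPoint V)) ⟶ U := Spec.map (inv φ) ≫ U.fromSpecStalk (genericPoint U)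
  have ht : t ≫ h = V.fromSpecStalk (genericPoint V) := by
    simp only [t, Category.assoc, ← Scheme.SpecMap_stalkMap_fromSpecStalk]
    rw [← Scheme.SpecMap_stalkSpecializes_fromSpecStalk (specializes_of_eq hgen), ← Spec.map_comp_assoc, ← Spec.map_comp_assoc, ← Category.assoc]
    rw [show (V.presheaf.stalkSpecializes (specializes_of_eq hgen) ≫ h.stalkMap (genericPoint U)) ≫ inv φ = 𝟙 _ from IsIso.hom_inv_id φ, Spec.map_id, Category.id_comp]
  obtain ⟨W, hW, hxW, -⟩ := exists_isAffineOpen_mem_and_subset (U := (⊤ : V.Opens)) (x := genericPoint V) trivial
  obtain ⟨m, hm, -⟩ := Groth.Agent.NormSect.exists_local_section (fun x => (hN x).2) h t ht W hW hxW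
  exact Groth.Agent.S2347.result hN h W (W.isOpen.dense ⟨_, hxW⟩) m hm

end Groth.Agent.S3568
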