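import Groth.Statements.S3570
import Groth.Agent.Lib.EGA2.AffAlgLib

set_option autoImplicit false
universe u
open CategoryTheory CategoryTheory.Limits AlgebraicGeometry
open EGA2

namespace Groth.Agent.S3570

/-- Let f : X → S and g : Y → S be affine morphisms and h : Y → X an S-morphism. Then h is an
isomorphism if and only if A(h) : f_*O_X → g_*O_Y is an isomorphism (of presheaves of rings on S). -/
theorem result {X Y S : Scheme.{u}} (f : X ⟶ S) [IsAffineHom f] (g : Y ⟶ S)
    [IsAffineHom g] (h : Y ⟶ X) (w : h ≫ f = g) :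
    IsIso h ↔ IsIso (AffAlg.algHom f g h w) := by
  constructor
  · intro hh
    have hc : IsIso h.c := by
      rw [CategoryTheory.NatTrans.isIso_iff_isIso_app]
      intro U
      exact inferInstanceAs (IsIso (h.app U.unop))
    unfold AffAlg.algHom
    infer_instance
  · intro hω
    have hω' : ∀ U : S.affineOpens,
        IsIso (h.appLE (f ⁻¹ᵁ U.1) (g ⁻¹ᵁ U.1) (Groth.Agent.EGA2.preimage_le_of_comp_eq f g h w U.1)) := by
      intro U
      rw [← Groth.Agent.EGA2.algHom_app f g h w]
      infer_instance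
    subst w
    have : IsAffineHom h := isAffineHom_of_forall_exists_isAffineOpen h fun x => by
      obtain ⟨_, ⟨U, hU, rfl⟩, hxU, -⟩ :=
        S.isBasis_affineOpens.exists_subset_of_mem_open (Set.mem_univ (f x)) isOpen_univ
      exact ⟨f ⁻¹ᵁ U, hxU, hU.preimage f, hU.preimage (h ≫ f)⟩
    have key : ∀ U : S.affineOpens, IsIso (h ∣_ (f ⁻¹ᵁ U.1)) := by
      intro U
      refine (isIso_morphismRestrict_iff_isIso_app h (U.2.preimage f)).2 ?_
      rw [← Scheme.Hom.appLE_eq_app]
      exact hω' U
    refine (IsZariskiLocalAtTarget.iff_of_iSup_eq_top (P := CategoryTheory.MorphismProperty.isomorphisms Scheme.{u})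
      (fun U : S.affineOpens => f ⁻¹ᵁ U.1) ?_).2 key
    refine top_le_iff.1 fun x _ => TopologicalSpace.Opens.mem_iSup.2 ?_
    obtain ⟨_, ⟨U, hU, rfl⟩, hxU, -⟩ :=
      S.isBasis_affineOpens.exists_subset_of_mem_open (Set.mem_univ (f x)) isOpen_univ
    exact ⟨⟨U, hU⟩, hxU⟩

end Groth.Agent.S3570
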