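import Groth.Statements.S3576
import Groth.Agent.S3575
import Groth.Agent.Lib.EGA2.ConeMap
import Groth.Agent.Lib.ConeFib5.Alg
import Groth.Agent.Lib.ConeFib5.Fibre
-- import your own Groth.Agent.* helpers here

set_option autoImplicit false
universe u
open CategoryTheory CategoryTheory.Limits AlgebraicGeometry
open EGA2

open Groth.Agent.ConeFib5
set_option backward.isDefEq.respectTransparency false
set_option linter.style.haveILetI false

namespace Groth.Agent.S3576

/-- Over an affine base Spec R: let S be a graded R-algebra whose irrelevant ideal is generated by its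
degree-one elements, E the pointed affine cone of S and π : E → X = Proj S the canonical retraction
(the morphism restricting on each chart D(f), f homogeneous of positive degree, to Spec S_f → Spec
S_(f) → Proj S). Then π is of finite type, and for every point x of X the fibre of π at x is
isomorphic over the residue field κ(x) to Spec κ(x)[T, T⁻¹]. -/
theorem result {R A : Type u} [CommRing R] [CommRing A] [Algebra R A] (𝒜 : ℕ → Submodule R A) [GradedAlgebra 𝒜]
    (hgen : (HomogeneousIdeal.irrelevant 𝒜).toIdeal = Ideal.span (𝒜 1 : Set A))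
    (π : (Cone.pointed 𝒜 : Scheme.{u}) ⟶ Proj 𝒜)
    (hπ : ∀ (d : ℕ) (f : A) (hd : 0 < d) (hf : f ∈ 𝒜 d),
        Cone.chart hf hd ≫ π =
          Spec.map (CommRingCat.ofHom (algebraMap (HomogeneousLocalization.Away 𝒜 f) (Localization.Away f))) ≫
            Proj.awayι 𝒜 f hf hd)
    (x : Proj 𝒜) :
    LocallyOfFiniteType π ∧ QuasiCompact π ∧
      ∃ e : pullback π ((Proj 𝒜).fromSpecResidueField x) ≅
          Spec (CommRingCat.of (LaurentPolynomial ((Proj 𝒜).residueField x))),
        e.hom ≫ Spec.map (CommRingCat.ofHom (algebraMap ((Proj 𝒜).residueField x)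
          (LaurentPolynomial ((Proj 𝒜).residueField x)))) = pullback.snd π ((Proj 𝒜).fromSpecResidueField x) := by
  let T1 := {f : A // f ∈ 𝒜 1}
  have hirr : (HomogeneousIdeal.irrelevant 𝒜).toIdeal ≤ Ideal.span (Set.range (Subtype.val : T1 → A)) := by
    rw [Subtype.range_coe]; exact hgen.le
  let 𝒰 := Proj.affineOpenCoverOfIrrelevantLESpan 𝒜 (Subtype.val : T1 → A) (m := fun _ => 1)
    (fun i => i.2) (fun _ => Nat.one_pos) hirr
  haveI : IsAffineHom π := (Groth.Agent.S3575.result 𝒜 π hπ).1
  refine ⟨IsZariskiLocalAtTarget.of_openCover 𝒰.openCover fun i => ?_, inferInstance, ?_⟩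
  · have sq := Groth.Agent.EGA2.isPullback_coneMap π hπ Nat.one_pos i.2
    refine (MorphismProperty.arrow_mk_iso_iff @LocallyOfFiniteType (Arrow.isoMk (sq.flip.isoPullback)
      (Iso.refl _) (by
        simp only [Functor.id_obj, Arrow.mk_right, Arrow.mk_left, Arrow.mk_hom, Iso.refl_hom, Category.comp_id]
        exact sq.flip.isoPullback_hom_snd))).1 ?_
    rw [HasRingHomProperty.Spec_iff (P := @LocallyOfFiniteType)]
    exact finiteType_laurent _ (toAway 𝒜) (toAway_bijective 𝒜 i.2).2 (fun b => toAway_C 𝒜 b)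
  · obtain ⟨⟨f, hf⟩, hxf⟩ := TopologicalSpace.Opens.mem_iSup.1
      ((Proj.iSup_basicOpen_eq_top 𝒜 (Subtype.val : T1 → A) hirr).ge (Set.mem_univ x))
    have sq := Groth.Agent.EGA2.isPullback_coneMap π hπ Nat.one_pos hf
    refine exists_fibre_iso π (CommRingCat.ofHom (algebraMap (HomogeneousLocalization.Away 𝒜 f) (Localization.Away f)))
      (Proj.awayι 𝒜 f hf Nat.one_pos) _ sq x (by rw [Proj.opensRange_awayι]; exact hxf) _ _ fun g => ?_
    letI := g.toAlgebra
    exact laurent_key (toAway 𝒜) (toAway_bijective 𝒜 hf) fun b => toAway_C 𝒜 b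

end Groth.Agent.S3576
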