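import Groth.Statements.S3579
import Groth.Agent.Lib.GrMod11.TwistEpi

set_option autoImplicit false
universe u
open CategoryTheory CategoryTheory.Limits AlgebraicGeometry
open EGA2

namespace Groth.Agent.S3579

/-- Let S be a graded ring whose irrelevant ideal S_+ is generated by finitely many elements of degree
one, X = Proj S, and let F be an O_X-module that is quasi-coherent and of finite type. Then for some
n₀ and all n ≥ n₀, the twist F(n) = F ⊗ O_X(n) is a quotient of a finite free module O_X^k (k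
depending on n); in particular F(n) is generated by finitely many global sections. -/
theorem result {R A : Type u} [CommRing R] [CommRing A] [Algebra R A] (𝒜 : ℕ → Submodule R A) [GradedAlgebra 𝒜]
    (s : Finset A) (hs1 : ∀ f ∈ s, f ∈ 𝒜 1)
    (hs : (HomogeneousIdeal.irrelevant 𝒜).toIdeal = Ideal.span (s : Set A))
    (F : (Proj 𝒜).Modules) (hF : Coh.IsQCoh F) (hFT : CohB1.IsFT F) :
    ∃ n₀ : ℕ, ∀ n : ℕ, n₀ ≤ n →
      ∃ (k : ℕ) (p : FlatMod.freeMod (Proj 𝒜) k ⟶ Twist.twistBy 𝒜 F (n : ℤ)), Epi p := by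
  open Groth.Agent in
  classical
  obtain ⟨g, hg, hgen⟩ : ∃ g : {a : A // a ∈ s} → A, (∀ i, g i ∈ 𝒜 1) ∧
      (HomogeneousIdeal.irrelevant 𝒜).toIdeal ≤ Ideal.span (Set.range g) := by
    refine ⟨fun i => (i : A), fun i => hs1 _ i.2, ?_⟩
    rw [hs]
    exact Ideal.span_mono fun a ha => ⟨⟨a, ha⟩, rfl⟩
  have hcov : (⨆ f : 𝒜 1, Proj.basicOpen 𝒜 (f : A)) = ⊤ := top_le_iff.1 fun x _ => by
    have hx : x ∈ (⨆ i, Proj.basicOpen 𝒜 (g i)) := by
      rw [Proj.iSup_basicOpen_eq_top 𝒜 g hgen]; trivial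
    obtain ⟨i, hi⟩ := TopologicalSpace.Opens.mem_iSup.1 hx
    exact TopologicalSpace.Opens.mem_iSup.2 ⟨⟨g i, hg i⟩, hi⟩
  have hamp : CohB1.IsAmple (_root_.Twist.twist 𝒜 1) := Twist.isAmple_twist 𝒜 g hg hgen (d := 1) one_pos
  have : CompactSpace (Proj 𝒜) := hamp.2.1
  obtain ⟨n₀, hn₀⟩ := RA.exists_globallyGenerated hamp F hF hFT
  refine ⟨n₀, fun m hm => ?_⟩
  obtain ⟨ep⟩ := Twist.nonempty_iso_tensorPow 𝒜 hcov m
  have hL : Coh.IsCoh (_root_.Twist.twist 𝒜 (m : ℤ)) :=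
    CohFound.isCoh_of_isFinLocFree (M2.isFinLocFree_of_isInvertible (Twist.isInvertible_twist 𝒜 hcov _))
  have hFP : Coh.IsCoh (CohB1.tensorMod F (CohB1.tensorPow (_root_.Twist.twist 𝒜 1) m)) :=
    CohFound.isCoh_tensor ⟨hF, hFT⟩ (CohFound.isCoh_of_iso ep hL)
  obtain ⟨k, p, hp⟩ := GrMod11.exists_epi_freeMod hFP.1 hFP.2 (hn₀ m hm)
  have : Epi p := hp
  exact ⟨k, p ≫ (M2.tensorIso (Iso.refl F) ep).inv, @epi_comp _ _ _ _ _ p hp _ ((M2.tensorIso (Iso.refl F) ep).isIso_inv |> fun h => @IsIso.epi_of_iso _ _ _ _ _ h)⟩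

end Groth.Agent.S3579
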