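import Groth.Statements.S3581
import Groth.Agent.Lib.ProjSpace.Basic

set_option autoImplicit false
universe u
open CategoryTheory CategoryTheory.Limits AlgebraicGeometry
open EGA2

namespace Groth.Agent.S3581

/-- Over an affine base Spec A, Proj of the graded polynomial algebra A[T] (T of degree one) is
identified with Spec A by its structure morphism: the structure morphism from projective 0-space
over A to Spec A is an isomorphism. -/
theorem result (A : Type u) [CommRing A] :
    IsIso (CohB1.ProjSpace.toSpec 0 A) := by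
  have hU : (Groth.Agent.ProjSpace.chart 0 A 0).opensRange = ⊤ := by
    refine top_le_iff.1 fun x _ => ?_
    obtain ⟨i, hi⟩ := Groth.Agent.ProjSpace.exists_mem_chart 0 A x
    rwa [Subsingleton.elim (α := Fin 1) i 0] at hi
  have : IsIso (Groth.Agent.ProjSpace.chart 0 A 0) :=
    isIso_of_isOpenImmersion_of_opensRange_eq_top _ hU
  have : IsEmpty {j : Fin (0 + 1) // j ≠ 0} := ⟨fun j => j.2 (Subsingleton.elim (α := Fin 1) j.1 0)⟩
  have : IsIso (CommRingCat.ofHom (MvPolynomial.C : A →+* MvPolynomial {j : Fin (0 + 1) // j ≠ 0} A)) :=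
    (ConcreteCategory.isIso_iff_bijective _).2
      ⟨MvPolynomial.C_injective _ A, MvPolynomial.C_surjective _⟩
  have h := Groth.Agent.ProjSpace.chart_toSpec 0 A 0
  have : IsIso (Groth.Agent.ProjSpace.chart 0 A 0 ≫ CohB1.ProjSpace.toSpec 0 A) := by
    rw [h]; infer_instance
  exact IsIso.of_isIso_comp_left (Groth.Agent.ProjSpace.chart 0 A 0) _

end Groth.Agent.S3581
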