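import Groth.Statements.S3583
import Groth.Agent.Lib.EGA2.AffAlgLib
import Mathlib.AlgebraicGeometry.Morphisms.ClosedImmersion

set_option autoImplicit false
universe u
open CategoryTheory AlgebraicGeometry Opposite
open EGA2

namespace Groth.Agent.S3583

/-- In the form stated after its proof: let f : X → S and f' : X' → S be affine morphisms and h : X' → X
an S-morphism such that the O_S-algebra homomorphism A(h) : f_*O_X → f'_*O_{X'} is surjective (as a
map of quasi-coherent O_S-modules, i.e. on sections over every affine open of S). Then h is a closed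
immersion. -/
theorem result {X X' S : Scheme.{u}} (f : X ⟶ S) [IsAffineHom f]
    (f' : X' ⟶ S) [IsAffineHom f'] (h : X' ⟶ X) (w : h ≫ f = f')
    (hsurj : ∀ U : S.affineOpens, Function.Surjective ((AffAlg.algHom f f' h w).app (op U.1)).hom) :
    IsClosedImmersion h := by
  subst w
  have : IsAffineHom h := isAffineHom_of_forall_exists_isAffineOpen h fun x => by
    obtain ⟨_, ⟨U, hU, rfl⟩, hxU, -⟩ :=
      S.isBasis_affineOpens.exists_subset_of_mem_open (Set.mem_univ (f x)) isOpen_univ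
    exact ⟨f ⁻¹ᵁ U, hxU, hU.preimage f, hU.preimage (h ≫ f)⟩
  refine (IsZariskiLocalAtTarget.iff_of_iSup_eq_top (P := @IsClosedImmersion)
    (fun U : S.affineOpens => f ⁻¹ᵁ U.1) ?_).2 fun U => ?_
  · refine top_le_iff.1 fun x _ => TopologicalSpace.Opens.mem_iSup.2 ?_
    obtain ⟨_, ⟨U, hU, rfl⟩, hxU, -⟩ :=
      S.isBasis_affineOpens.exists_subset_of_mem_open (Set.mem_univ (f x)) isOpen_univ
    exact ⟨⟨U, hU⟩, hxU⟩
  have : IsAffine (f ⁻¹ᵁ U.1 : Scheme.{u}) := U.2.preimage f
  have : IsAffine (h ⁻¹ᵁ (f ⁻¹ᵁ U.1) : Scheme.{u}) := U.2.preimage (h ≫ f)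
  refine IsClosedImmersion.of_surjective_of_isAffine _ ?_
  have h1 : ∀ V : X.Opens, V = f ⁻¹ᵁ U.1 → Function.Surjective (h.app V).hom := by
    rintro V rfl
    have := hsurj U
    rw [Groth.Agent.EGA2.algHom_app] at this
    rw [← Scheme.Hom.appLE_eq_app]
    exact this
  rw [morphismRestrict_appTop]
  exact ((ConcreteCategory.bijective_of_isIso (X'.presheaf.map (eqToHom (image_morphismRestrict_preimage h (f ⁻¹ᵁ U.1) ⊤)).op)).2.comp (h1 ((f ⁻¹ᵁ U.1).ι ''ᵁ ⊤) (by simp)) :)

end Groth.Agent.S3583
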