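import Groth.Statements.S3585
import Groth.Agent.Lib.AmpleImm18.General
import Groth.Agent.Lib.QuotProj11.Poly
import Groth.Agent.Lib.QuotProj11.Proper
import Groth.Agent.Lib.RelAmple18.Basic

set_option autoImplicit false
universe u
open CategoryTheory CategoryTheory.Limits AlgebraicGeometry
open EGA2

namespace Groth.Agent.S3585

/-- Let A be a ring and f : X → Spec A a proper morphism, and suppose X carries an invertible O_X-module
which is ample relative to f (so f is quasi-projective). Then f is projective: X is isomorphic over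
Spec A to Proj S for some graded A-algebra S whose degree-zero part is the image of A and whose
irrelevant ideal is generated by finitely many elements of degree one. -/
theorem result {A : Type u} [CommRing A] {X : Scheme.{u}}
    (f : X ⟶ Spec (CommRingCat.of A)) [IsProper f]
    (L : X.Modules) (hL : PicF.IsInvertible L) (hamp : RelAmple.IsRelAmple f L) :
    ∃ (S : Type u) (_ : CommRing S) (_ : Algebra A S) (𝒮 : ℕ → Submodule A S) (_ : GradedAlgebra 𝒮) (s : Finset S),
      Function.Surjective (algebraMap A (𝒮 0)) ∧ (∀ g ∈ s, g ∈ 𝒮 1) ∧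
      (HomogeneousIdeal.irrelevant 𝒮).toIdeal = Ideal.span (s : Set S) ∧
      ∃ e : X ≅ Proj 𝒮, e.hom ≫ Proj.toSpecZero 𝒮 ≫ Spec.map (CommRingCat.ofHom (algebraMap A (𝒮 0))) = f := by
  open Groth.Agent in
  classical
  have hampX : CohB1.IsAmple L := (RA.isRelAmple_iff_isAmple f).1 hamp
  obtain ⟨m₀, hm⟩ := AmpleImm18.exists_immersion_over f hampX (PicLoc.isInvertible_structureModule X)
  obtain ⟨n, i, hi, hif, -⟩ := hm m₀ le_rfl
  haveI := hi
  let Y := Spec (CommRingCat.of A)
  -- projective space over `Spec A`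
  have sq : IsPullback (ProjSpace.map n (ProjSpace.fromZ A)) (CohB1.ProjSpace.toSpec n A)
      (CohB1.ProjSpace.toSpec n (ULift.{u} ℤ)) (specULiftZIsTerminal.from Y) := by
    rw [specULiftZIsTerminal.hom_ext (specULiftZIsTerminal.from Y) (Spec.map (CommRingCat.ofHom (ProjSpace.fromZ A)))]
    exact ProjSpace.isPullback_map n _
  let j : CohB1.ProjSpaceOver n Y ⟶ CohB1.ProjSpace n A := sq.isoPullback.inv
  haveI : IsIso j := sq.isoPullback.isIso_inv
  let c : X ⟶ Proj (CohB1.polyGrading n A) := i ≫ j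
  have hcf : c ≫ CohB1.ProjSpace.toSpec n A = f := by
    rw [← hif]
    show (i ≫ sq.isoPullback.inv) ≫ CohB1.ProjSpace.toSpec n A = _
    erw [Category.assoc, IsPullback.isoPullback_inv_snd]
    rfl
  haveI : IsProper (c ≫ CohB1.ProjSpace.toSpec n A) := hcf.symm ▸ ‹IsProper f›
  haveI : IsImmersion c := IsImmersion.comp i j
  haveI : IsSeparated (CohB1.ProjSpace.toSpec n A) := (ProjSpace.isProper_toSpec n A).toIsSeparated
  haveI : IsProper c := @IsProper.of_comp _ _ _ c (CohB1.ProjSpace.toSpec n A) ‹_› (ProjSpace.isProper_toSpec n A).toIsSeparated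
  haveI : IsClosedImmersion c := IsClosedImmersion.of_isPreimmersion c c.isClosedMap.isClosed_range
  let g : ULift.{u} (Fin (n + 1)) → MvPolynomial (Fin (n + 1)) A := fun k => MvPolynomial.X k.down
  have hg : ∀ k, g k ∈ CohB1.polyGrading n A 1 := fun k => MvPolynomial.isHomogeneous_X A k.down
  have hcov : ⨆ k, Proj.basicOpen (CohB1.polyGrading n A) (g k) = ⊤ := top_le_iff.1 fun x _ => by
    obtain ⟨k, hk⟩ := TopologicalSpace.Opens.mem_iSup.1
      ((ProjSpace.iSup_basicOpen (n := n) (R := A)).ge (show x ∈ (⊤ : (CohB1.ProjSpace n A).Opens) from trivial))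
    exact TopologicalSpace.Opens.mem_iSup.2 ⟨⟨k⟩, hk⟩
  obtain ⟨e, he⟩ := QuotProj11.exists_iso_quotient c hg hcov
  let I := QuotProj11.vanIdeal c
  let B := MvPolynomial (Fin (n + 1)) A ⧸ I.toIdeal
  let 𝒮 : ℕ → Submodule A B := fun k => (CohB1.polyGrading n A k).map (Ideal.Quotient.mkₐ A I.toIdeal).toLinearMap
  haveI hG : GradedAlgebra 𝒮 :=
    { one_mem := ⟨1, SetLike.GradedOne.one_mem, map_one (Ideal.Quotient.mk I.toIdeal)⟩
      mul_mem := by
        rintro a b _ _ ⟨x, hx, rfl⟩ ⟨y, hy, rfl⟩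
        exact ⟨x * y, SetLike.mul_mem_graded hx hy, map_mul (Ideal.Quotient.mk I.toIdeal) x y⟩
      decompose' := fun b => DirectSum.map
        (fun k => AddMonoidHom.mk' (fun z : QuotProj11.quotDeg I k => (⟨z.1, z.2⟩ : 𝒮 k)) fun _ _ => rfl)
        (QuotProj11.decomposeQuot I b)
      left_inv := fun b => by
        obtain ⟨a, rfl⟩ := Ideal.Quotient.mk_surjective b
        beta_reduce
        rw [QuotProj11.decomposeQuot_mk, ← DirectSum.sum_support_decompose (CohB1.polyGrading n A) a, map_sum, map_sum,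
          map_sum, map_sum]
        refine Finset.sum_congr rfl fun k _ => ?_
        rw [QuotProj11.decomposeMap_coe, DirectSum.map_of, DirectSum.coeAddMonoidHom_of]
        rfl
      right_inv := fun d => by
        induction d using DirectSum.induction_on with
        | zero => simp only [map_zero]
        | of k z =>
          obtain ⟨_, a, ha, rfl⟩ := z
          rw [DirectSum.coeAddMonoidHom_of]
          change DirectSum.map _ (QuotProj11.decomposeQuot I (Ideal.Quotient.mk I.toIdeal a)) = _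
          rw [QuotProj11.decomposeQuot_mk, QuotProj11.decomposeMap_coe I ⟨a, ha⟩, DirectSum.map_of]
          rfl
        | add a b ha hb => simp only [map_add, ha, hb] }
  let θ : QuotProj11.quotDeg I →+*ᵍ 𝒮 := { RingHom.id B with map_mem := fun hx => hx }
  have hθ : HomogeneousIdeal.irrelevant 𝒮 ≤ (HomogeneousIdeal.irrelevant (QuotProj11.quotDeg I)).map θ := by
    rw [HomogeneousIdeal.irrelevant_le]
    intro d hd x hx
    exact Ideal.mem_map_of_mem θ (HomogeneousIdeal.mem_irrelevant_of_mem (QuotProj11.quotDeg I) hd hx)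
  have hiso : IsIso (Proj.map θ hθ) :=
    RelProj11.isIso_map _ _ fun _ _ => ⟨fun _ hx => hx, fun _ _ _ _ h => h, fun y hy => ⟨y, hy, rfl⟩⟩
  obtain ⟨e', he'⟩ := QuotProj11.exists_iso_of_quot c hg hcov θ hθ hiso
  refine ⟨B, inferInstance, inferInstance, 𝒮, hG, Finset.univ.image fun k : Fin (n + 1) =>
    Ideal.Quotient.mk I.toIdeal (MvPolynomial.X k), ?_, ?_, ?_, e', ?_⟩
  · rintro ⟨_, a, ha, rfl⟩
    obtain ⟨r, rfl⟩ : ∃ r, MvPolynomial.C r = a :=
      ⟨a.coeff 0, ((MvPolynomial.totalDegree_eq_zero_iff_eq_C (p := a)).1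
        (Nat.le_zero.1 (MvPolynomial.IsHomogeneous.totalDegree_le (show a.IsHomogeneous 0 from ha)))).symm⟩
    exact ⟨r, Subtype.ext rfl⟩
  · intro x hx
    obtain ⟨k, -, rfl⟩ := Finset.mem_image.1 hx
    exact ⟨MvPolynomial.X k, MvPolynomial.isHomogeneous_X A k, rfl⟩
  · refine le_antisymm ?_ (Ideal.span_le.2 fun x hx => ?_)
    · rw [HomogeneousIdeal.toIdeal_irrelevant_le]
      intro d hd x hx
      obtain ⟨a, ha, rfl⟩ := hx
      have h1 : a ∈ Ideal.span (Set.range (MvPolynomial.X : Fin (n + 1) → MvPolynomial (Fin (n + 1)) A)) := by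
        exact ProjSpace.irrelevant_le_span n A (HomogeneousIdeal.mem_irrelevant_of_mem (CohB1.polyGrading n A) hd ha)
      have h2 := Ideal.mem_map_of_mem (Ideal.Quotient.mk I.toIdeal) h1
      rw [Ideal.map_span, ← Set.range_comp] at h2
      refine Ideal.span_mono ?_ h2
      rintro _ ⟨k, rfl⟩
      exact Finset.mem_coe.2 (Finset.mem_image.2 ⟨k, Finset.mem_univ _, rfl⟩)
    · obtain ⟨k, -, rfl⟩ := Finset.mem_image.1 (Finset.mem_coe.1 hx)
      exact HomogeneousIdeal.mem_irrelevant_of_mem 𝒮 one_pos ⟨MvPolynomial.X k, MvPolynomial.isHomogeneous_X A k, rfl⟩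
  · rw [← hcf, ← he']
    unfold CohB1.ProjSpace.toSpec
    refine Eq.trans ?_ (Category.assoc _ _ _).symm
    refine congrArg (e'.hom ≫ ·) ?_
    refine Eq.trans ?_ ((reassoc_of% (RelProj11.map_toSpecZero (ψ := θ.comp (QuotProj11.quotHom (QuotProj11.vanIdeal c)))
      (HomogeneousIdeal.irrelevant_le_map_comp (QuotProj11.irrelevant_le_quotHom _) hθ))) _).symm
    refine congrArg (Proj.toSpecZero 𝒮 ≫ ·) ?_
    rw [← Spec.map_comp]
    rfl

end Groth.Agent.S3585
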