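import Groth.Statements.S3588
import Groth.Agent.Lib.EGA2.ProjMap
import Mathlib.AlgebraicGeometry.Morphisms.ClosedImmersion
import Groth.Agent.S3563

set_option autoImplicit false
universe u
open CategoryTheory CategoryTheory.Limits AlgebraicGeometry
open EGA2

namespace Groth.Agent.S3588

/-- Let S be a graded ring, N_+ the set of nilpotent elements of S_+ (an ideal of S), and S → S/N_+ the
quotient (here: any surjective homomorphism of graded rings φ : S → S' whose kernel is N_+). Then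
the induced morphism Proj S' → Proj S is a closed immersion which is a homeomorphism of the
underlying spaces, and Proj S' is reduced; thus Proj S' is the reduced closed subscheme (Proj
S)_red. -/
theorem result {R A : Type u} [CommRing R] [CommRing A] [Algebra R A] (𝒜 : ℕ → Submodule R A) [GradedAlgebra 𝒜]
    {B : Type u} [CommRing B] [Algebra R B] (ℬ : ℕ → Submodule R B) [GradedAlgebra ℬ]
    (φ : 𝒜 →+*ᵍ ℬ) (hsurj : Function.Surjective φ)
    (hker : ∀ a : A, φ a = 0 ↔ a ∈ (HomogeneousIdeal.irrelevant 𝒜).toIdeal ∧ IsNilpotent a)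
    (hφ : HomogeneousIdeal.irrelevant ℬ ≤ (HomogeneousIdeal.irrelevant 𝒜).map φ) :
    IsClosedImmersion (Proj.map φ hφ) ∧ IsHomeomorph (Proj.map φ hφ).base ∧
      AlgebraicGeometry.IsReduced (Proj ℬ) := by
  classical
  have hci := Groth.Agent.S3563.result 𝒜 ℬ φ hsurj hφ
  refine ⟨hci, ?_, Groth.Agent.EGA2.isReduced_proj ℬ fun f hf hnil => ?_⟩
  · refine isHomeomorph_iff_isEmbedding_surjective.2 ⟨(Proj.map φ hφ).isEmbedding, fun p => ?_⟩
    have hkerp : ∀ a, φ a = 0 → a ∈ p.asHomogeneousIdeal.toIdeal := fun a ha =>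
      Groth.Agent.EGA2.mem_of_isNilpotent 𝒜 p ((hker a).1 ha).2
    let I : Ideal B := p.asHomogeneousIdeal.toIdeal.map φ.toRingHom
    have hmem : ∀ a, φ a ∈ I ↔ a ∈ p.asHomogeneousIdeal.toIdeal := by
      refine fun a => ⟨fun h => ?_, fun h => Ideal.mem_map_of_mem φ.toRingHom h⟩
      obtain ⟨a', ha', he⟩ := (Ideal.mem_map_iff_of_surjective φ.toRingHom hsurj).1 h
      have he' : φ (a - a') = 0 := by rw [map_sub, sub_eq_zero]; exact he.symm
      simpa using add_mem (hkerp _ he') ha'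
    have hI : I.IsHomogeneous ℬ := fun i b hb => by
      obtain ⟨a, rfl⟩ := hsurj b
      rw [← GradedRingHom.map_directSumDecompose]
      exact (hmem _).2 (p.asHomogeneousIdeal.isHomogeneous i ((hmem a).1 hb))
    have hIp : I.IsPrime := by
      constructor
      · rw [Ne, Ideal.eq_top_iff_one, ← map_one φ, hmem]
        exact fun h => p.isPrime.ne_top ((Ideal.eq_top_iff_one _).2 h)
      · intro x y hxy
        obtain ⟨a, rfl⟩ := hsurj x
        obtain ⟨b, rfl⟩ := hsurj y
        rw [← map_mul, hmem] at hxy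
        simpa [hmem] using p.isPrime.mem_or_mem hxy
    refine ⟨⟨⟨I, hI⟩, hIp, fun h => p.not_irrelevant_le fun a ha => ?_⟩, ?_⟩
    · refine (hmem a).1 (h ((Groth.Agent.EGA2.mem_irr_iff ℬ).2 ?_))
      rw [← GradedRingHom.map_directSumDecompose, (Groth.Agent.EGA2.mem_irr_iff 𝒜).1 ha, map_zero]
    · exact ProjectiveSpectrum.ext (HomogeneousIdeal.ext (Ideal.ext hmem))
  · obtain ⟨a, rfl⟩ := hsurj f
    obtain ⟨n, hn⟩ := hnil
    let a' := a - (DirectSum.decompose 𝒜 a 0 : A)
    have ha' : φ a' = φ a := by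
      rw [map_sub, GradedRingHom.map_directSumDecompose, (Groth.Agent.EGA2.mem_irr_iff ℬ).1 hf, sub_zero]
    rw [← ha'] at hn ⊢
    rw [← map_pow] at hn
    refine (hker a').2 ⟨(Groth.Agent.EGA2.mem_irr_iff 𝒜).2 ?_, ?_⟩
    · simp [a', DirectSum.decompose_of_mem_same 𝒜 (DirectSum.decompose 𝒜 a 0).2]
    · obtain ⟨m, hm⟩ := ((hker _).1 hn).2
      exact ⟨n * m, by rw [pow_mul, hm]⟩

end Groth.Agent.S3588
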