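import Groth.Statements.S3589
import Groth.Agent.Lib.Twist.UniversalExist
import Groth.Agent.Lib.ModM1.Affine

set_option autoImplicit false
universe u
open CategoryTheory CategoryTheory.Limits AlgebraicGeometry
open EGA2

namespace Groth.Agent.S3589

theorem aux {R : Type u} [CommRing R] (n : ℕ)
    (s₁ s₂ : Spec (CommRingCat.of R) ⟶ Proj (CohB1.polyGrading n R))
    (hbase : s₁ ≫ Groth.Agent.ProjUP.toBase (CohB1.polyGrading n R) = s₂ ≫ Groth.Agent.ProjUP.toBase (CohB1.polyGrading n R))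
    (hker : ∀ (k i : ULift.{u} (Fin (n + 1))) (c d : R),
      Groth.Agent.M1.gs (R := CommRingCat.of R) c • Groth.Agent.ProjUP.sec (CohB1.polyGrading n R) s₁
          (MvPolynomial.isHomogeneous_X R k.down) =
        Groth.Agent.M1.gs (R := CommRingCat.of R) d • Groth.Agent.ProjUP.sec (CohB1.polyGrading n R) s₁
          (MvPolynomial.isHomogeneous_X R i.down) →
      Groth.Agent.M1.gs (R := CommRingCat.of R) c • Groth.Agent.ProjUP.sec (CohB1.polyGrading n R) s₂
          (MvPolynomial.isHomogeneous_X R k.down) =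
        Groth.Agent.M1.gs (R := CommRingCat.of R) d • Groth.Agent.ProjUP.sec (CohB1.polyGrading n R) s₂
          (MvPolynomial.isHomogeneous_X R i.down)) :
    s₁ = s₂ := by
  classical
  let e : ULift.{u} (Fin (n + 1)) → MvPolynomial (Fin (n + 1)) R := fun i => MvPolynomial.X i.down
  have he : ∀ i, e i ∈ CohB1.polyGrading n R 1 := fun i => MvPolynomial.isHomogeneous_X R i.down
  have hgen : Algebra.adjoin R (Set.range e) = ⊤ := by
    rw [show Set.range e = Set.range (MvPolynomial.X : Fin (n + 1) → MvPolynomial (Fin (n + 1)) R) from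
      Set.ext fun x => ⟨fun ⟨i, h⟩ => ⟨i.down, h⟩, fun ⟨i, h⟩ => ⟨⟨i⟩, h⟩⟩]
    exact MvPolynomial.adjoin_range_X
  have hcov := Groth.Agent.ProjUP.exists_mem_basicOpen (CohB1.polyGrading n R) e he hgen
  refine Groth.Agent.ProjUP.ext_of_ev (CohB1.polyGrading n R) e he hgen hbase fun x => ?_
  obtain ⟨i, hi⟩ := hcov (s₁ x)
  obtain ⟨_, ⟨r, rfl⟩, hxr, hrU⟩ := TopologicalSpace.Opens.isBasis_iff_nbhd.1
    (Groth.Agent.M1.isBasis_bo (R := CommRingCat.of R))
    (show x ∈ s₁ ⁻¹ᵁ Proj.basicOpen (CohB1.polyGrading n R) (e i) from hi)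
  let B : (Spec (CommRingCat.of R)).Opens := Groth.Agent.M1.bo r
  let σ₁ := fun k => Groth.Agent.ProjUP.sec (CohB1.polyGrading n R) s₁ (he k)
  let σ₂ := fun k => Groth.Agent.ProjUP.sec (CohB1.polyGrading n R) s₂ (he k)
  let L₁ := (Scheme.Modules.pullback s₁).obj (Twist.twist (CohB1.polyGrading n R) 1)
  let L₂ := (Scheme.Modules.pullback s₂).obj (Twist.twist (CohB1.polyGrading n R) 1)
  let a := fun k => Groth.Agent.ProjUP.ev (CohB1.polyGrading n R) (he i) s₁ B hrU (e k)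
  have hQ : Coh.IsQCoh L₁ := Groth.Agent.Twist.isQCoh_of_isInvertible
    (Groth.Agent.Twist.isInvertible_pullback s₁ (Groth.Agent.Twist.isInvertible_twist _ (by
      refine top_le_iff.1 fun y _ => ?_
      obtain ⟨m, hm⟩ := hcov y
      exact TopologicalSpace.Opens.mem_iSup.2 ⟨⟨e m, he m⟩, hm⟩) 1))
  have hO : (Coh.structureModule (Spec (CommRingCat.of R))).IsQuasicoherent :=
    Groth.Agent.M1.isQCoh_structureModule _
  have hrel : ∀ k, Groth.Agent.M1.mres L₂ (le_top : B ≤ ⊤) (σ₂ k) =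
      a k • Groth.Agent.M1.mres L₂ (le_top : B ≤ ⊤) (σ₂ i) := fun k => by
    obtain ⟨m, t₀, ht⟩ := Groth.Agent.M1.exists_pow_smul_eq_res (Coh.structureModule (Spec (CommRingCat.of R))) r (a k)
    obtain ⟨c, rfl⟩ : ∃ c : R, Groth.Agent.M1.gs (R := CommRingCat.of R) c = t₀ :=
      ⟨(Scheme.ΓSpecIso (CommRingCat.of R)).hom t₀, Iso.hom_inv_id_apply _ _⟩
    replace ht : Groth.Agent.M1.rs B (Groth.Agent.M1.gs (R := CommRingCat.of R) r) ^ m * a k =
        Groth.Agent.M1.rs B (Groth.Agent.M1.gs (R := CommRingCat.of R) c) := ht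
    have hs₁ : Groth.Agent.M1.mres L₁ (le_top : B ≤ ⊤) (σ₁ k) = a k • Groth.Agent.M1.mres L₁ (le_top : B ≤ ⊤) (σ₁ i) :=
      Groth.Agent.ProjUP.sec_eq_ev_smul (CohB1.polyGrading n R) s₁ (he i) (he k) B hrU
    let gr := Groth.Agent.M1.gs (R := CommRingCat.of R) r
    let gc := Groth.Agent.M1.gs (R := CommRingCat.of R) c
    have hz : Groth.Agent.M1.mres L₁ (le_top : B ≤ ⊤) (gr ^ m • σ₁ k - gc • σ₁ i) = 0 := by
      rw [map_sub, Groth.Agent.M1.mres_smul, Groth.Agent.M1.mres_smul, map_pow, hs₁, ← mul_smul, sub_eq_zero]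
      exact congrArg (· • _) ht
    obtain ⟨N, hN⟩ := Groth.Agent.M1.exists_pow_smul_eq_zero (R := CommRingCat.of R) L₁ r _ hz
    have hv : (gr ^ N * gr ^ m) • σ₂ k = (gr ^ N * gc) • σ₂ i := by
      have e0 : gr ^ N • (gr ^ m • σ₁ k - gc • σ₁ i) = 0 := by
        simpa [Groth.Agent.M1.rs, gr] using hN
      rw [smul_sub, ← mul_smul, ← mul_smul, sub_eq_zero] at e0
      have hpow : ∀ (j : ℕ) (b : R), gr ^ j * Groth.Agent.M1.gs (R := CommRingCat.of R) b =
          Groth.Agent.M1.gs (R := CommRingCat.of R) (r ^ j * b) := fun j b => by simp [gr, Groth.Agent.M1.gs]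
      have hpow' : gr ^ N * gr ^ m = Groth.Agent.M1.gs (R := CommRingCat.of R) (r ^ N * r ^ m) := by
        simp [gr, Groth.Agent.M1.gs]
      rw [hpow', hpow] at e0 ⊢
      exact hker k i _ _ e0
    have hz2 := congrArg (Groth.Agent.M1.mres L₂ (le_top : B ≤ ⊤)) hv
    rw [mul_smul, mul_smul, Groth.Agent.M1.mres_smul, Groth.Agent.M1.mres_smul, Groth.Agent.M1.mres_smul,
      Groth.Agent.M1.mres_smul, map_pow, map_pow] at hz2
    have hu : IsUnit (Groth.Agent.M1.rs B gr) := Groth.Agent.M1.isUnit_rs (Groth.Agent.M1.basicOpen_gs r).ge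
    have h3 := (hu.pow N).smul_left_cancel.1 hz2
    have h4 : Groth.Agent.M1.rs B gr ^ m • Groth.Agent.M1.mres L₂ (le_top : B ≤ ⊤) (σ₂ k) =
        Groth.Agent.M1.rs B gr ^ m • (a k • Groth.Agent.M1.mres L₂ (le_top : B ≤ ⊤) (σ₂ i)) := by
      rw [← mul_smul]
      exact h3.trans (congrArg (· • _) ht.symm)
    exact (hu.pow m).smul_left_cancel.1 h4
  have hle : B ≤ s₂ ⁻¹ᵁ Proj.basicOpen (CohB1.polyGrading n R) (e i) := by
    intro y hy
    obtain ⟨k, hk⟩ := hcov (s₂ y)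
    let V := B ⊓ s₂ ⁻¹ᵁ Proj.basicOpen (CohB1.polyGrading n R) (e k)
    have hV : V ≤ s₂ ⁻¹ᵁ Proj.basicOpen (CohB1.polyGrading n R) (e k) := inf_le_right
    let d := Groth.Agent.ProjUP.ev (CohB1.polyGrading n R) (he k) s₂ V hV (e i)
    have hcd : Groth.Agent.M1.ores (inf_le_left : V ≤ B) (a k) * d = 1 := by
      refine ((Groth.Agent.ProjUP.isGen_sec_of_le _ s₂ (he k) hV) V le_rfl).1 ?_
      show (_ * _) • Groth.Agent.M1.mres L₂ le_rfl (Groth.Agent.M1.mres L₂ le_top (σ₂ k)) =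
        (1 : Γ(Spec (CommRingCat.of R), V)) • Groth.Agent.M1.mres L₂ le_rfl (Groth.Agent.M1.mres L₂ le_top (σ₂ k))
      have h5 := congrArg (Groth.Agent.M1.mres L₂ (inf_le_left : V ≤ B)) (hrel k)
      rw [Groth.Agent.M1.mres_smul, Groth.Agent.M1.mres_mres, Groth.Agent.M1.mres_mres] at h5
      rw [Groth.Agent.M1.mres_id, mul_smul, one_smul,
        ← Groth.Agent.ProjUP.sec_eq_ev_smul _ s₂ (he k) (he i) V hV, ← h5]
    have hd : (Spec (CommRingCat.of R)).basicOpen d = V := Scheme.basicOpen_of_isUnit _ (IsUnit.of_mul_eq_one_right _ hcd)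
    rw [Groth.Agent.ProjUP.basicOpen_ev _ (he k) s₂ V hV (he i)] at hd
    exact (hd.ge ⟨hy, hk⟩).2
  refine ⟨i, B, hrU, hle, hxr, fun k => ((Groth.Agent.ProjUP.isGen_sec_of_le _ s₂ (he i) hle) B le_rfl).1 ?_⟩
  show _ • Groth.Agent.M1.mres L₂ le_rfl (Groth.Agent.M1.mres L₂ le_top (σ₂ i)) =
    _ • Groth.Agent.M1.mres L₂ le_rfl (Groth.Agent.M1.mres L₂ le_top (σ₂ i))
  rw [Groth.Agent.M1.mres_id, ← Groth.Agent.ProjUP.sec_eq_ev_smul _ s₂ (he i) (he k) B hle]
  exact (hrel k).symm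

/-- For E = O_Y^{n+1} over an affine base Y = Spec R (injectivity of the correspondence): a section s of
projective n-space over R is determined by the submodule F(s) of R^{n+1} formed by the R-linear
relations among the pulled-back coordinates s^*T_0, …, s^*T_n in the global sections of s^*O(1). -/
theorem result {R : Type u} [CommRing R] (n : ℕ)
    (s₁ s₂ : Spec (CommRingCat.of R) ⟶ CohB1.ProjSpace n R)
    (h₁ : s₁ ≫ CohB1.ProjSpace.toSpec n R = 𝟙 _) (h₂ : s₂ ≫ CohB1.ProjSpace.toSpec n R = 𝟙 _)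
    (h : ProjUP.secKernel n R s₁ = ProjUP.secKernel n R s₂) :
    s₁ = s₂ := by
  classical
  refine aux n s₁ s₂ (h₁.trans h₂.symm) fun k i c d he => ?_
  have key : ∀ s : Spec (CommRingCat.of R) ⟶ CohB1.ProjSpace n R,
      (Pi.single k.down c - Pi.single i.down d : Fin (n + 1) → R) ∈ ProjUP.secKernel n R s ↔
        Groth.Agent.M1.gs (R := CommRingCat.of R) c • Groth.Agent.ProjUP.sec (CohB1.polyGrading n R) s
            (MvPolynomial.isHomogeneous_X R k.down) =
          Groth.Agent.M1.gs (R := CommRingCat.of R) d • Groth.Agent.ProjUP.sec (CohB1.polyGrading n R) s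
            (MvPolynomial.isHomogeneous_X R i.down) := fun s => by
    simp only [ProjUP.secKernel, LinearMap.mem_ker, map_sub, Fintype.linearCombination_apply_single, sub_eq_zero]
    exact Iff.rfl
  rw [← key] at he ⊢
  exact h ▸ he

end Groth.Agent.S3589
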