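import Groth.Statements.S3590
import Groth.Agent.Lib.Twist.UniversalExist
import Groth.Agent.Lib.Twist.LocGen
import Groth.Agent.Lib.ModM1.LocFree
import Groth.Agent.Lib.TensorMod.Invertible

set_option autoImplicit false
universe u
open CategoryTheory CategoryTheory.Limits AlgebraicGeometry
open EGA2

namespace Groth.Agent.S3590

open Groth.Agent.M1 Groth.Agent.Twist

theorem gs_smul {R : CommRingCat.{u}} (M : (Spec R).Modules) (r : R) (x : Γ(M, ⊤)) : gs r • x = r • x := by
  rw [Scheme.Modules.smul_Spec_def]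
  congr 1

theorem quotient_of_section {R : Type u} [CommRing R] (n : ℕ)
    (s : Spec (CommRingCat.of R) ⟶ CohB1.ProjSpace n R) :
    Module.Projective R ((Fin (n + 1) → R) ⧸ ProjUP.secKernel n R s) ∧
      ∀ p : PrimeSpectrum R, Module.finrank (Localization.AtPrime p.asIdeal)
        (LocalizedModule p.asIdeal.primeCompl ((Fin (n + 1) → R) ⧸ ProjUP.secKernel n R s)) = 1 := by
  classical
  let R' : CommRingCat.{u} := CommRingCat.of R
  let 𝒜 := CohB1.polyGrading n R
  let e : ULift.{u} (Fin (n + 1)) → MvPolynomial (Fin (n + 1)) R := fun i => MvPolynomial.X i.down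
  have he : ∀ i, e i ∈ 𝒜 1 := fun i => MvPolynomial.isHomogeneous_X R i.down
  have hgen : Algebra.adjoin R (Set.range e) = ⊤ := by
    rw [show Set.range e = Set.range (MvPolynomial.X : Fin (n + 1) → MvPolynomial (Fin (n + 1)) R) from
      Set.ext fun x => ⟨fun ⟨i, h⟩ => ⟨i.down, h⟩, fun ⟨i, h⟩ => ⟨⟨i⟩, h⟩⟩]
    exact MvPolynomial.adjoin_range_X
  have hcov := Groth.Agent.ProjUP.exists_mem_basicOpen 𝒜 e he hgen
  let s' : Spec R' ⟶ Proj 𝒜 := s
  let L : (Spec R').Modules := (Scheme.Modules.pullback s').obj (Twist.twist 𝒜 1)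
  have hinv : PicF.IsInvertible L := isInvertible_pullback s' (isInvertible_twist _ (by
    refine top_le_iff.1 fun y _ => ?_
    obtain ⟨m, hm⟩ := hcov y
    exact TopologicalSpace.Opens.mem_iSup.2 ⟨⟨e m, he m⟩, hm⟩) 1)
  have hQ : Coh.IsQCoh L := isQCoh_of_isInvertible hinv
  have hO : Coh.IsQCoh (Coh.structureModule (Spec R')) := isQCoh_structureModule _
  have hFP : CohB1.IsFP L := isFP_of_isFinLocFree (Groth.Agent.M2.isFinLocFree_of_isInvertible hinv)
  let : Module R Γ(L, ⊤) := ((moduleSpecΓFunctor (R := R')).obj L).isModule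
  have hfp : Module.FinitePresentation R Γ(L, ⊤) := finitePresentation_sections_spec L hFP
  let σ : Fin (n + 1) → Γ(L, ⊤) := fun k => Groth.Agent.ProjUP.sec 𝒜 s' (he ⟨k⟩)
  let lc : (Fin (n + 1) → R) →ₗ[R] Γ(L, ⊤) := Fintype.linearCombination R σ
  have hker : ProjUP.secKernel n R s = LinearMap.ker lc := by
    ext v
    simp only [ProjUP.secKernel, LinearMap.mem_ker, lc, Fintype.linearCombination_apply]
    refine Eq.congr_left (Finset.sum_congr rfl fun k _ => ?_)
    exact gs_smul (R := R') L (v k) (σ k)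
  have hloc : ∀ x : PrimeSpectrum R, ∃ (i : Fin (n + 1)) (r : R), r ∉ x.asIdeal ∧ LocGen (σ i) r := by
    intro x
    obtain ⟨⟨i⟩, hi⟩ := hcov (s' x)
    obtain ⟨_, ⟨r, rfl⟩, hxr, hrU⟩ := TopologicalSpace.Opens.isBasis_iff_nbhd.1
      (isBasis_bo (R := R')) (show x ∈ s' ⁻¹ᵁ Proj.basicOpen 𝒜 (e ⟨i⟩) from hi)
    have hg := Groth.Agent.ProjUP.isGen_sec_of_le 𝒜 s' (he ⟨i⟩) hrU
    refine ⟨i, r, hxr, fun z => ?_, fun c hc => ?_⟩
    · obtain ⟨a, ha⟩ := (hg (bo r) le_rfl).2 (mres L (le_top : bo r ≤ ⊤) z)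
      simp only [mres_id] at ha
      obtain ⟨m, t₀, ht⟩ := exists_pow_smul_eq_res (Coh.structureModule (Spec R')) r a
      obtain ⟨c, rfl⟩ : ∃ c : R', gs c = t₀ := ⟨(Scheme.ΓSpecIso R').hom t₀, Iso.hom_inv_id_apply _ _⟩
      replace ht : rs (bo r) (gs r) ^ m * a = rs (bo r) (gs c) := ht
      have hz : mres L (le_top : bo r ≤ ⊤) (gs r ^ m • z - gs c • σ i) = 0 := by
        rw [map_sub, mres_smul, mres_smul, map_pow, ← ha, ← mul_smul, sub_eq_zero]
        exact congrArg (· • _) ht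
      obtain ⟨N, hN⟩ := exists_pow_smul_eq_zero L r _ hz
      refine ⟨N + m, r ^ N * c, ?_⟩
      rw [show rs (⊤ : (Spec R').Opens) (gs r) = gs r from ores_id le_rfl _] at hN
      have hN' := sub_eq_zero.1 ((smul_sub _ _ _).symm.trans hN)
      show (r : R') ^ (N + m) • z = ((r : R') ^ N * c) • σ i
      refine (gs_smul L ((r : R') ^ (N + m)) z).symm.trans (Eq.trans ?_ (gs_smul L ((r : R') ^ N * c) (σ i)))
      have e1 : gs ((r : R') ^ (N + m)) = gs r ^ (N + m) := map_pow (Scheme.ΓSpecIso R').inv.hom r _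
      have e2 : gs ((r : R') ^ N * c) = gs r ^ N * gs c :=
        (map_mul (Scheme.ΓSpecIso R').inv.hom _ c).trans
          (congrArg (· * gs c) (map_pow (Scheme.ΓSpecIso R').inv.hom r _))
      rw [e1, e2, pow_add, mul_smul, mul_smul]
      exact hN'
    · have h1 : rs (bo r) (gs (R := R') (c)) = (0 : Γ(Spec R', bo r)) := by
        refine (hg (bo r) le_rfl).1 ?_
        show _ • mres L le_rfl (mres L le_top (σ i)) = (0 : Γ(Spec R', bo r)) • mres L le_rfl (mres L le_top (σ i))
        rw [mres_id, zero_smul, ← map_zero (mres L (le_top : bo r ≤ ⊤)).hom, ← hc]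
        refine Eq.trans ?_ (congrArg (mres L (le_top : bo r ≤ ⊤)) (gs_smul (R := R') L c (σ i)))
        exact (mres_smul L _ _ _).symm
      obtain ⟨N, hN⟩ := exists_pow_smul_eq_zero (Coh.structureModule (Spec R')) r (gs (R := R') (c)) h1
      refine ⟨N, ?_⟩
      replace hN : ores le_rfl (gs r) ^ N * gs (R := R') (c) = (0 : Γ(Spec R', ⊤)) := hN
      rw [ores_id, ← map_pow, ← map_mul] at hN
      have := congrArg (Scheme.ΓSpecIso R').hom hN
      rwa [Iso.inv_hom_id_apply, map_zero] at this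
  have hsurj : Function.Surjective lc := by
    intro z
    let I : Ideal R := (LinearMap.range lc).comap (LinearMap.toSpanSingleton R _ z)
    suffices I = ⊤ by
      have h1 : (1 : R) ∈ I := this ▸ trivial
      obtain ⟨v, hv⟩ := h1
      exact ⟨v, hv.trans (one_smul _ _)⟩
    by_contra hI
    obtain ⟨P, hP, hIP⟩ := Ideal.exists_le_maximal I hI
    obtain ⟨i, r, hr, hg⟩ := hloc ⟨P, hP.isPrime⟩
    obtain ⟨N, c, hc⟩ := hg.1 z
    refine hP.isPrime.mem_of_pow_mem N (hIP ⟨Pi.single i c, ?_⟩) |> hr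
    exact (show lc (Pi.single i c) = c • σ i by simp [lc, Fintype.linearCombination_apply_single]).trans hc.symm
  let eq : ((Fin (n + 1) → R) ⧸ ProjUP.secKernel n R s) ≃ₗ[R] Γ(L, ⊤) :=
    (Submodule.quotEquivOfEq _ _ hker).trans (lc.quotKerEquivOfSurjective hsurj)
  have := finitePresentation_of_linearEquiv eq.symm
  refine projective_and_finrank_of_locGen fun p => ?_
  obtain ⟨i, r, hr, hg⟩ := hloc p
  refine ⟨eq.symm (σ i), r, hr, fun y => ?_, fun c hc => hg.2 c ?_⟩
  · obtain ⟨N, c, hc⟩ := hg.1 (eq y)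
    exact ⟨N, c, eq.injective (by rw [map_smul, map_smul, hc, LinearEquiv.apply_symm_apply])⟩
  · have := congrArg eq hc
    rwa [map_smul, LinearEquiv.apply_symm_apply, map_zero] at this

theorem section_of_quotient {R : Type u} [CommRing R] (n : ℕ) (F : Submodule R (Fin (n + 1) → R))
    [Module.Projective R ((Fin (n + 1) → R) ⧸ F)]
    (hrk : ∀ p : PrimeSpectrum R, Module.finrank (Localization.AtPrime p.asIdeal)
      (LocalizedModule p.asIdeal.primeCompl ((Fin (n + 1) → R) ⧸ F)) = 1) :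
    ∃ s : Spec (CommRingCat.of R) ⟶ CohB1.ProjSpace n R,
      s ≫ CohB1.ProjSpace.toSpec n R = 𝟙 _ ∧ ProjUP.secKernel n R s = F := by
  classical
  let R' : CommRingCat.{u} := CommRingCat.of R
  let Q : ModuleCat.{u} R' := ModuleCat.of R ((Fin (n + 1) → R) ⧸ F)
  let L : (Spec R').Modules := tilde Q
  let ι : Q → Γ(L, ⊤) := fun y => tilde.toOpen Q ⊤ y
  have hι : Function.Bijective ι := (ConcreteCategory.isIso_iff_bijective (tilde.toOpen Q ⊤)).1 (tilde.isIso_toOpen_top (M := Q))
  have hιs : ∀ (c : R') (y : Q), ι (c • y) = gs c • ι y := fun c y => by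
    rw [gs_smul]
    exact (tilde.toOpen Q ⊤).hom.map_smul c y
  have hι0 : ι 0 = 0 := (tilde.toOpen Q ⊤).hom.map_zero
  let g : Fin (n + 1) → ((Fin (n + 1) → R) ⧸ F) := fun k => F.mkQ (Pi.single k 1)
  have hg : Submodule.span R (Set.range g) = ⊤ := by
    have : Set.range g = F.mkQ '' Set.range (fun k => (Pi.single k 1 : Fin (n + 1) → R)) := by
      rw [← Set.range_comp]; rfl
    rw [this, Submodule.span_image]
    have h2 : Submodule.span R (Set.range fun k => (Pi.single k 1 : Fin (n + 1) → R)) = ⊤ := by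
      rw [← (Pi.basisFun R (Fin (n + 1))).span_eq]
      congr
      funext k
      exact (Pi.basisFun_apply R _ k).symm
    rw [h2, Submodule.map_top, Submodule.range_mkQ]
  let v : Fin (n + 1) → ProjUP.Γm L := fun k => ι (g k)
  have hloc : ∀ x : Spec R', ∃ (k : Fin (n + 1)) (U : (Spec R').Opens), x ∈ U ∧
      IsGen L U (mres L (le_top : U ≤ ⊤) (v k)) := by
    intro x
    obtain ⟨k, r, hr, hq⟩ := exists_locGen g hg hrk x
    have h' : LocGen (v k) (gs (R := R') (r)) := by
      refine ⟨fun z => ?_, fun c hc => ?_⟩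
      · obtain ⟨y, rfl⟩ := hι.2 z
        obtain ⟨N, c, hc⟩ := hq.1 y
        refine ⟨N, gs (R := R') (c), ?_⟩
        rw [← map_pow, ← hιs, ← hιs]
        exact congrArg ι hc
      · obtain ⟨c, rfl⟩ : ∃ c' : R', gs c' = c := ⟨(Scheme.ΓSpecIso R').hom c, Iso.hom_inv_id_apply _ _⟩
        rw [← hιs, ← hι0] at hc
        obtain ⟨N, hN⟩ := hq.2 c (hι.1 hc)
        refine ⟨N, ?_⟩
        rw [← map_pow, ← map_mul]
        exact (congrArg (Scheme.ΓSpecIso R').inv hN).trans (map_zero _)
    have : Coh.IsQCoh L := inferInstanceAs (Coh.IsQCoh (tilde Q))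
    exact ⟨k, _, (show x ∈ bo (r : R') from hr) |> (basicOpen_gs (R := R') (r)).ge, isGen_of_locGen L (isAffineOpen_top _) h'⟩
  have hL : PicF.IsInvertible L := fun x => by
    obtain ⟨k, U, hx, hU⟩ := hloc x
    exact ⟨U, hx, nonempty_restrict_iso L U _ hU⟩
  let e : ULift.{u} (Fin (n + 1)) → MvPolynomial (Fin (n + 1)) R := fun i => MvPolynomial.X i.down
  have he : ∀ i, e i ∈ CohB1.polyGrading n R 1 := fun i => MvPolynomial.isHomogeneous_X R i.down
  have hgen : Algebra.adjoin R (Set.range e) = ⊤ := by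
    rw [show Set.range e = Set.range (MvPolynomial.X : Fin (n + 1) → MvPolynomial (Fin (n + 1)) R) from
      Set.ext fun x => ⟨fun ⟨i, h⟩ => ⟨i.down, h⟩, fun ⟨i, h⟩ => ⟨⟨i⟩, h⟩⟩]
    exact MvPolynomial.adjoin_range_X
  have hv : ProjUP.GeneratedBy L (fun i : ULift.{u} (Fin (n + 1)) => v i.down) := fun x => by
    obtain ⟨k, U, hx, hU⟩ := hloc x
    refine top_le_iff.1 fun z _ => ?_
    obtain ⟨c, rfl⟩ := (hU.stalk hx).2 z
    rw [germ_mres]
    exact Submodule.smul_mem _ _ (Submodule.subset_span ⟨⟨k⟩, rfl⟩)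
  obtain ⟨r, hr, τ, hτ⟩ := Groth.Agent.ProjUP.exists_hom_of_lift (CohB1.polyGrading n R) e he hgen
    (𝟙 (Spec R')) L hL (fun i => v i.down) hv (fun m U hg => by
      choose c hc using fun i : Fin (n + 1) => (hg U le_rfl).2 (mres L le_top (v i))
      simp only [mres_id] at hc
      refine ⟨MvPolynomial.eval₂Hom ((ores (le_top : U ≤ ⊤)).hom.comp (ProjUP.toGlobal (𝟙 (Spec R')))) c,
        fun m' => ?_, fun a => ?_⟩
      · simp only [e, MvPolynomial.eval₂Hom_X']
        exact hc m'.down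
      · rw [MvPolynomial.algebraMap_eq, MvPolynomial.eval₂Hom_C]
        rfl)
  refine ⟨r, hr, ?_⟩
  have hinj : Function.Injective (τ.hom.app ⊤) :=
    ((ConcreteCategory.isIso_iff_bijective _).1 inferInstance).1
  have key : ∀ w : Fin (n + 1) → R,
      τ.hom.app ⊤ (∑ k, gs (R := R') (w k) • Groth.Agent.ProjUP.sec (CohB1.polyGrading n R) r (he ⟨k⟩)) = ι (F.mkQ w) := by
    intro w
    rw [map_sum]
    have hw : F.mkQ w = ∑ k, w k • g k := by
      conv_lhs => rw [pi_eq_sum_univ' w]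
      simp [g, map_sum, map_smul]
    have hsum : ι (∑ k, w k • g k) = ∑ k, ι (w k • g k) := map_sum (tilde.toOpen Q ⊤).hom _ _
    rw [hw, hsum]
    refine Finset.sum_congr rfl fun k _ => ?_
    rw [Scheme.Modules.Hom.app_smul, hτ ⟨k⟩]
    exact (hιs (w k) (g k)).symm
  ext w
  rw [← Submodule.Quotient.mk_eq_zero F]
  simp only [ProjUP.secKernel, LinearMap.mem_ker, Fintype.linearCombination_apply]
  constructor
  · intro h
    have h1 := (key w).symm.trans ((congrArg (τ.hom.app ⊤) h).trans (map_zero _))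
    exact hι.1 (h1.trans hι0.symm)
  · intro h
    refine hinj ((key w).trans ?_ |>.trans (map_zero _).symm)
    rw [Submodule.mkQ_apply, h]
    exact hι0


/-- For E = O_Y^{n+1} over an affine base Y = Spec R (image of the correspondence): a submodule F of
R^{n+1} is the module of relations among the pulled-back coordinates of some section of projective
n-space over R if and only if the quotient R^{n+1}/F is an invertible R-module (projective, of rank
one at every prime). -/
theorem result {R : Type u} [CommRing R] (n : ℕ)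
    (F : Submodule R (Fin (n + 1) → R)) :
    (∃ s : Spec (CommRingCat.of R) ⟶ CohB1.ProjSpace n R,
        s ≫ CohB1.ProjSpace.toSpec n R = 𝟙 _ ∧ ProjUP.secKernel n R s = F) ↔
      (Module.Projective R ((Fin (n + 1) → R) ⧸ F) ∧
        ∀ p : PrimeSpectrum R, Module.finrank (Localization.AtPrime p.asIdeal)
          (LocalizedModule p.asIdeal.primeCompl ((Fin (n + 1) → R) ⧸ F)) = 1) := by
  classical
  constructor
  · rintro ⟨s, -, rfl⟩
    exact quotient_of_section n s
  · rintro ⟨hproj, hrk⟩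
    exact section_of_quotient n F hrk

end Groth.Agent.S3590
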