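import Groth.Statements.S3591
import Groth.Agent.Lib.Twist.UniversalExist

set_option autoImplicit false
universe u
open CategoryTheory CategoryTheory.Limits AlgebraicGeometry
open EGA2

namespace Groth.Agent.S3591

/-- Universal property of the projective bundle of a quasi-coherent module over an affine base,
existence part. Let A be a ring, M an A-module and S a graded A-algebra with an A-linear map ι : M →
S_1 making S a symmetric algebra of M (so Proj S = P(M~)). Let q : X → Spec A be a scheme over A, L
an invertible O_X-module and v : M → Γ(X, L) an A-linear map whose image generates L (these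
correspond to the surjections q^*(M~) → L). Then there are an A-morphism r : X → Proj S and an
isomorphism r^*O(1) ≅ L carrying, for every m ∈ M, the pullback of the global section ι(m) of O(1)
to v(m). -/
theorem result {A : Type u} [CommRing A] {S : Type u} [CommRing S] [Algebra A S] (𝒮 : ℕ → Submodule A S) [GradedAlgebra 𝒮]
    {M : Type u} [AddCommGroup M] [Module A M] (ι : M →ₗ[A] S) (hι : ∀ m : M, ι m ∈ 𝒮 1)
    (hsym : IsSymmetricAlgebra ι)
    {X : Scheme.{u}} (q : X ⟶ Spec (CommRingCat.of A)) (L : X.Modules) (hL : PicF.IsInvertible L)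
    (v : M →+ ProjUP.Γm L) (hv : ∀ (a : A) (m : M), v (a • m) = ProjUP.toGlobal q a • v m)
    (hgen : ProjUP.GeneratedBy L v) :
    ∃ (r : X ⟶ Proj 𝒮) (_ : r ≫ Proj.toSpecZero 𝒮 ≫ Spec.map (CommRingCat.ofHom (algebraMap A (𝒮 0))) = q)
      (τ : (Scheme.Modules.pullback r).obj (Twist.twist 𝒮 1) ≅ L),
      ∀ m : M, τ.hom.app ⊤ (ProjUP.pullSec r (Twist.twist 𝒮 1) (Twist.globalOf 𝒮 ⟨ι m, hι m⟩)) = v m := by
  obtain ⟨r, hr, τ, hτ⟩ := Groth.Agent.ProjUP.exists_hom_of_lift 𝒮 ι hι
    (Groth.Agent.ProjUP.adjoin_range_eq_top hsym) q L hL v hgen (fun m₀ U hg => by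
      choose c hc using fun m : M => (hg U le_rfl).2 (Groth.Agent.M1.mres L le_top (v m))
      simp only [Groth.Agent.M1.mres_id] at hc
      let ρ : A →+* Γ(X, U) := (Groth.Agent.M1.ores (le_top : U ≤ ⊤)).hom.comp (ProjUP.toGlobal q)
      let : Algebra A Γ(X, U) := ρ.toAlgebra
      have hu : ∀ a b : Γ(X, U), a • Groth.Agent.M1.mres L (le_top : U ≤ ⊤) (v m₀) =
          b • Groth.Agent.M1.mres L (le_top : U ≤ ⊤) (v m₀) → a = b := fun a b h => (hg U le_rfl).1 (by
        simpa only [Groth.Agent.M1.mres_id] using h)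
      let g : M →ₗ[A] Γ(X, U) :=
        { toFun := c
          map_add' := fun x y => hu _ _ (by rw [add_smul, hc, hc, hc, map_add, map_add])
          map_smul' := fun a x => hu _ _ (by
            rw [hc, hv, Groth.Agent.M1.mres_smul]
            show _ = (ρ a * c x) • Groth.Agent.M1.mres L (le_top : U ≤ ⊤) (v m₀)
            rw [mul_smul, hc]
            rfl) }
      refine ⟨(hsym.lift g).toRingHom, fun m => ?_, fun a => ?_⟩
      · show hsym.lift g (ι m) • _ = _
        rw [IsSymmetricAlgebra.lift_eq]
        exact hc m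
      · exact (hsym.lift g).commutes a)
  exact ⟨r, hr, τ, hτ⟩

end Groth.Agent.S3591
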