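import Groth.Statements.S3593
import Groth.Agent.Lib.EGA2.Dehom
import Groth.Agent.Lib.EGA2.PolyExt

set_option autoImplicit false
universe u
open CategoryTheory CategoryTheory.Limits AlgebraicGeometry
open EGA2

namespace Groth.Agent.S3593

/-- Let S be a graded R-algebra, Ŝ a graded R-algebra with a graded homomorphism φ : S → Ŝ making Ŝ an
S-algebra, and z an element of Ŝ of degree one such that the S-algebra map S[X] → Ŝ, X ↦ z, is
bijective (so Ŝ = S[z] with z in degree one, the graded ring of the projective cone of S). Then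
there is a ring isomorphism S ≅ Ŝ_(z) onto the degree-zero localization at z, sending a homogeneous
a of degree n to φ(a)/z^n. (This is the isomorphism that identifies the affine cone Spec S with the
open D_+(z) of the projective cone Proj Ŝ; that identification itself is not asserted here.) -/
theorem result {R A : Type u} [CommRing R] [CommRing A] [Algebra R A] (𝒜 : ℕ → Submodule R A) [GradedAlgebra 𝒜]
    {B : Type u} [CommRing B] [Algebra R B] (ℬ : ℕ → Submodule R B) [GradedAlgebra ℬ]
    [Algebra A B] [IsScalarTower R A B] (φ : 𝒜 →+*ᵍ ℬ) (hφ : ∀ a : A, φ a = algebraMap A B a)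
    (z : B) (hz : z ∈ ℬ 1) (hhat : Function.Bijective (Polynomial.aeval (R := A) z)) :
    ∃ θ : A ≃+* HomogeneousLocalization.Away ℬ z,
      ∀ (n : ℕ) (a : A), a ∈ 𝒜 n → (θ a).val = Localization.mk (φ a) ⟨z ^ n, pow_mem (Submonoid.mem_powers z) n⟩ := by
  have hA : ∀ a : A, Polynomial.aeval (R := A) z (Polynomial.C a) = φ a := fun a => by
    rw [Polynomial.aeval_C, hφ]
  let ζ : A →+* HomogeneousLocalization.Away ℬ z := (Groth.Agent.EGA2.dehom ℬ hz).comp φ.toRingHom
  have hbij : Function.Bijective ζ := by
    constructor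
    · rw [injective_iff_map_eq_zero]
      intro a ha
      have hmem : φ a ∈ RingHom.ker (Groth.Agent.EGA2.dehom ℬ hz) := ha
      rw [Groth.Agent.EGA2.ker_dehom, Ideal.mem_span_singleton] at hmem
      obtain ⟨b, hb⟩ := hmem
      obtain ⟨Q, rfl⟩ := hhat.2 b
      have hP : Polynomial.C a = (Polynomial.X - 1) * Q := hhat.1 (by
        rw [hA, hb, map_mul, map_sub, Polynomial.aeval_X, map_one])
      simpa using congrArg (Polynomial.eval 1) hP
    · intro x
      obtain ⟨b, rfl⟩ := Groth.Agent.EGA2.dehom_surjective ℬ hz x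
      obtain ⟨P, rfl⟩ := hhat.2 b
      refine ⟨P.eval 1, ?_⟩
      show Groth.Agent.EGA2.dehom ℬ hz (φ (P.eval 1)) = _
      rw [← hA]
      induction P using Polynomial.induction_on' with
      | add P Q hP hQ => simp only [Polynomial.eval_add, map_add, hP, hQ]
      | monomial n a =>
        rw [Polynomial.eval_monomial, one_pow, mul_one, Polynomial.aeval_monomial, Polynomial.aeval_C,
          map_mul, map_pow, Groth.Agent.EGA2.dehom_self, one_pow, mul_one]
  refine ⟨RingEquiv.ofBijective ζ hbij, fun n a ha => ?_⟩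
  show (Groth.Agent.EGA2.dehom ℬ hz (φ a)).val = _
  rw [Groth.Agent.EGA2.dehom_of_mem ℬ hz (show φ a ∈ ℬ n from φ.2 ha), HomogeneousLocalization.Away.val_mk]

end Groth.Agent.S3593
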