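import Groth.Statements.S3597
import Groth.Agent.Lib.EGA2.PolyExt
import Groth.Agent.Lib.EGA2.PConeMap

set_option autoImplicit false
universe u
open CategoryTheory CategoryTheory.Limits AlgebraicGeometry
open EGA2

namespace Groth.Agent.S3597

/-- Let S be a graded algebra over a ring and Ŝ = S[z] the graded S-algebra obtained by adjoining a
variable z in degree 1 (an S-algebra with an element z of degree 1 such that S[T] → Ŝ, T ↦ z, is
bijective), with φ : S → Ŝ the graded structure map and ψ : Ŝ → S the graded retraction with ψ ∘ φ =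
id and ψ(z) = 0 (the irrelevant-ideal containment needed to define Proj(ψ) on all of X = Proj S
carried as a hypothesis). Let Ê ⊆ Ĉ = Proj Ŝ be the pointed projective cone, the open union of the
D_+(φ f) for f ∈ S homogeneous of positive degree, and p : Ê → X a morphism which on each chart
D_+(φ f) = Spec Ŝ_{(φ f)} is induced by S_{(f)} → Ŝ_{(φ f)} (the canonical retraction). Then p is
surjective, and the closed immersion j = Proj(ψ) : X → Ĉ factors through Ê with p ∘ j = id_X. -/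
theorem result {R A : Type u} [CommRing R] [CommRing A] [Algebra R A] (𝒜 : ℕ → Submodule R A) [GradedAlgebra 𝒜]
    {B : Type u} [CommRing B] [Algebra R B] (ℬ : ℕ → Submodule R B) [GradedAlgebra ℬ]
    [Algebra A B] [IsScalarTower R A B] (φ : 𝒜 →+*ᵍ ℬ) (hφ : ∀ a : A, φ a = algebraMap A B a)
    (z : B) (hz : z ∈ ℬ 1) (hhat : Function.Bijective (Polynomial.aeval (R := A) z))
    (ψ : ℬ →+*ᵍ 𝒜) (hψφ : ∀ a : A, ψ (φ a) = a) (hψz : ψ z = 0)
    (hψ : HomogeneousIdeal.irrelevant 𝒜 ≤ (HomogeneousIdeal.irrelevant ℬ).map ψ)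
    (p : (PCone.dom φ : Scheme.{u}) ⟶ Proj 𝒜) (hp : ∀ (d : ℕ) (f : A) (hd : 0 < d) (hf : f ∈ 𝒜 d),
        PCone.chart φ hf hd ≫ p =
          Spec.map (CommRingCat.ofHom (HomogeneousLocalization.Away.map φ f)) ≫ Proj.awayι 𝒜 f hf hd) :
    Surjective p ∧ ∃ j : Proj 𝒜 ⟶ (PCone.dom φ : Scheme.{u}), j ≫ (PCone.dom φ).ι = Proj.map ψ hψ ∧ j ≫ p = 𝟙 (Proj 𝒜) := by
  classical
  have hrange : Set.range (Proj.map ψ hψ).base ⊆ Set.range (PCone.dom φ).ι.base := by
    rintro _ ⟨x, rfl⟩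
    rw [Scheme.Opens.range_ι]
    obtain ⟨⟨f, e, he, hf⟩, hxf⟩ := TopologicalSpace.Opens.mem_iSup.1
      ((Groth.Agent.EGA2.iSup_basicOpen_pos 𝒜).ge (Set.mem_univ x))
    refine TopologicalSpace.Opens.mem_iSup.2 ⟨⟨f, e, he, hf⟩, ?_⟩
    show φ f ∉ ((Proj.map ψ hψ).base x).asHomogeneousIdeal.toIdeal
    intro h
    refine hxf ?_
    have h' : ψ (φ f) ∈ x.asHomogeneousIdeal.toIdeal := h
    rwa [hψφ] at h'
  let j : Proj 𝒜 ⟶ (PCone.dom φ : Scheme.{u}) :=
    IsOpenImmersion.lift (PCone.dom φ).ι (Proj.map ψ hψ) hrange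
  have hj : j ≫ (PCone.dom φ).ι = Proj.map ψ hψ := IsOpenImmersion.lift_fac _ _ _
  have key : j ≫ p = 𝟙 (Proj 𝒜) := by
    refine (Proj.affineOpenCover 𝒜).openCover.hom_ext _ _ fun ⟨⟨e, he⟩, ⟨f, hf⟩⟩ => ?_
    show Proj.awayι 𝒜 f hf he ≫ j ≫ p = Proj.awayι 𝒜 f hf he ≫ 𝟙 _
    rw [Category.comp_id]
    have hgen : ∀ (f' : A) (hf' : f' ∈ 𝒜 e) (_ : f' = ψ (φ f)),
        Proj.awayι 𝒜 f' hf' he ≫ j ≫ p = Proj.awayι 𝒜 f' hf' he := by
      rintro _ hf' rfl
      have h1 : Proj.awayι 𝒜 (ψ (φ f)) hf' he ≫ j =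
          Spec.map (CommRingCat.ofHom (HomogeneousLocalization.Away.map ψ (φ f))) ≫
            PCone.chart φ hf he := by
        rw [← cancel_mono (PCone.dom φ).ι, Category.assoc, hj, Category.assoc, PCone.chart,
          IsOpenImmersion.lift_fac]
        exact Proj.awayι_comp_map ψ hψ he (φ f) (φ.2 hf)
      rw [reassoc_of% h1]
      erw [hp e f he hf, ← Spec.map_comp_assoc, ← CommRingCat.ofHom_comp,
        ← HomogeneousLocalization.Away.map_comp]
      have hgen2 : ∀ (g : 𝒜 →+*ᵍ 𝒜) (_ : g = GradedRingHom.id 𝒜),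
          Spec.map (CommRingCat.ofHom (HomogeneousLocalization.Away.map g f)) ≫
            Proj.awayι 𝒜 f hf he = Proj.awayι 𝒜 (g f) (g.2 hf) he := by
        rintro _ rfl
        rw [HomogeneousLocalization.Away.map_id]
        exact (congrArg (· ≫ Proj.awayι 𝒜 f hf he) (Spec.map_id _)).trans (Category.id_comp _)
      have hid : ψ.comp φ = GradedRingHom.id 𝒜 := GradedRingHom.ext hψφ
      exact hgen2 _ hid
    exact hgen f hf (hψφ f).symm
  refine ⟨⟨fun y => ⟨j.base y, ?_⟩⟩, j, hj, key⟩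
  rw [← Scheme.Hom.comp_apply, key]
  rfl

end Groth.Agent.S3597
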