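import Groth.Statements.S3598
import Groth.Agent.Lib.EGA2.PConeMap
import Groth.Agent.Lib.ConeFib5.Alg
import Groth.Agent.Lib.ConeFib5.Fibre
-- import your own Groth.Agent.* helpers here

set_option autoImplicit false
universe u
open CategoryTheory CategoryTheory.Limits AlgebraicGeometry
open EGA2

open Groth.Agent.ConeFib5
set_option backward.isDefEq.respectTransparency false
set_option linter.style.haveILetI false

namespace Groth.Agent.S3598

/-- Let S be a graded algebra over a ring (an affine base) whose irrelevant ideal is generated by its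
degree-one elements, and let Ŝ = S[z] be the graded S-algebra obtained by adjoining a variable z of
degree 1 (given as a graded S-algebra together with z of degree 1 such that S[T] → Ŝ, T ↦ z, is
bijective). Let Ê be the pointed projective cone, covered by the charts Spec Ŝ_(f) for f ∈ S
homogeneous of positive degree, and p : Ê → X = Proj S the canonical retraction, i.e. the morphism
which on each chart Spec Ŝ_(f) is induced by S_(f) → Ŝ_(f). Then p is of finite type (locally of
finite type and quasi-compact) and its fibre at every point x of X is isomorphic over k(x) to the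
affine line Spec k(x)[T]. -/
theorem result {R A : Type u} [CommRing R] [CommRing A] [Algebra R A] (𝒜 : ℕ → Submodule R A) [GradedAlgebra 𝒜]
    {B : Type u} [CommRing B] [Algebra R B] (ℬ : ℕ → Submodule R B) [GradedAlgebra ℬ]
    [Algebra A B] [IsScalarTower R A B] (φ : 𝒜 →+*ᵍ ℬ) (hφ : ∀ a : A, φ a = algebraMap A B a)
    (z : B) (hz : z ∈ ℬ 1) (hhat : Function.Bijective (Polynomial.aeval (R := A) z))
    (hgen : (HomogeneousIdeal.irrelevant 𝒜).toIdeal = Ideal.span (𝒜 1 : Set A))
    (p : (PCone.dom φ : Scheme.{u}) ⟶ Proj 𝒜) (hp : ∀ (d : ℕ) (f : A) (hd : 0 < d) (hf : f ∈ 𝒜 d),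
        PCone.chart φ hf hd ≫ p =
          Spec.map (CommRingCat.ofHom (HomogeneousLocalization.Away.map φ f)) ≫ Proj.awayι 𝒜 f hf hd) (x : Proj 𝒜) :
    LocallyOfFiniteType p ∧ QuasiCompact p ∧
      ∃ e : pullback p ((Proj 𝒜).fromSpecResidueField x) ≅
          Spec (CommRingCat.of (Polynomial ((Proj 𝒜).residueField x))),
        e.hom ≫ Spec.map (CommRingCat.ofHom (algebraMap ((Proj 𝒜).residueField x)
          (Polynomial ((Proj 𝒜).residueField x)))) = pullback.snd p ((Proj 𝒜).fromSpecResidueField x) := by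
  let T1 := {f : A // f ∈ 𝒜 1}
  have hirr : (HomogeneousIdeal.irrelevant 𝒜).toIdeal ≤ Ideal.span (Set.range (Subtype.val : T1 → A)) := by
    rw [Subtype.range_coe]; exact hgen.le
  let 𝒰 := Proj.affineOpenCoverOfIrrelevantLESpan 𝒜 (Subtype.val : T1 → A) (m := fun _ => 1)
    (fun i => i.2) (fun _ => Nat.one_pos) hirr
  have hsq : ∀ (f : A) (hf : f ∈ 𝒜 1), IsPullback
      (Spec.map (CommRingCat.ofHom (HomogeneousLocalization.Away.map φ f)))
      (PCone.chart φ hf Nat.one_pos) (Proj.awayι 𝒜 f hf Nat.one_pos) p := fun f hf => by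
    haveI : IsOpenImmersion (PCone.chart φ hf Nat.one_pos ≫ (PCone.dom φ).ι) := by
      rw [PCone.chart, IsOpenImmersion.lift_fac]; infer_instance
    haveI : IsOpenImmersion (PCone.chart φ hf Nat.one_pos) :=
      IsOpenImmersion.of_comp _ (PCone.dom φ).ι
    refine IsOpenImmersion.isPullback _ _ _ _ (hp 1 f Nat.one_pos hf) ?_
    rw [Proj.opensRange_awayι, Groth.Agent.EGA2.pcone_preimage φ hp Nat.one_pos hf]
    apply Scheme.Hom.image_injective (PCone.dom φ).ι
    dsimp only
    rw [← Scheme.Hom.opensRange_comp, Scheme.Hom.image_preimage_eq_opensRange_inf, Scheme.Opens.opensRange_ι]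
    simp only [PCone.chart, IsOpenImmersion.lift_fac, Proj.opensRange_awayι]
    exact inf_eq_right.2 (le_iSup_of_le ⟨f, 1, Nat.one_pos, hf⟩ le_rfl)
  have haff : IsAffineHom p := by
    refine IsZariskiLocalAtTarget.of_openCover 𝒰.openCover fun i => ?_
    refine (MorphismProperty.arrow_mk_iso_iff @IsAffineHom (Arrow.isoMk ((hsq i.1 i.2).flip.isoPullback)
      (Iso.refl _) (by
        simp only [Functor.id_obj, Arrow.mk_right, Arrow.mk_left, Arrow.mk_hom, Iso.refl_hom, Category.comp_id]
        exact (hsq i.1 i.2).flip.isoPullback_hom_snd))).1 ?_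
    exact @isAffineHom_of_isAffine _ _ (Spec.map _) (isAffine_Spec _) (isAffine_Spec _)
  refine ⟨IsZariskiLocalAtTarget.of_openCover 𝒰.openCover fun i => ?_, inferInstance, ?_⟩
  · refine (MorphismProperty.arrow_mk_iso_iff @LocallyOfFiniteType (Arrow.isoMk ((hsq i.1 i.2).flip.isoPullback)
      (Iso.refl _) (by
        simp only [Functor.id_obj, Arrow.mk_right, Arrow.mk_left, Arrow.mk_hom, Iso.refl_hom, Category.comp_id]
        exact (hsq i.1 i.2).flip.isoPullback_hom_snd))).1 ?_
    rw [HasRingHomProperty.Spec_iff (P := @LocallyOfFiniteType)]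
    have h : HomogeneousLocalization.Away.map φ i.1 = (toPAway 𝒜 i.2 φ z).comp Polynomial.C :=
      RingHom.ext fun b => (toPAway_C 𝒜 i.2 φ b).symm
    show (HomogeneousLocalization.Away.map φ i.1).FiniteType
    rw [h]
    refine (RingHom.FiniteType.of_surjective _ (toPAway_bijective 𝒜 i.2 φ hφ hhat).2).comp ?_
    rw [← Polynomial.algebraMap_eq]
    exact RingHom.finiteType_algebraMap.2 inferInstance
  · obtain ⟨⟨f, hf⟩, hxf⟩ := TopologicalSpace.Opens.mem_iSup.1
      ((Proj.iSup_basicOpen_eq_top 𝒜 (Subtype.val : T1 → A) hirr).ge (Set.mem_univ x))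
    refine exists_fibre_iso p (CommRingCat.ofHom (HomogeneousLocalization.Away.map φ f))
      (Proj.awayι 𝒜 f hf Nat.one_pos) _ (hsq f hf) x (by rw [Proj.opensRange_awayι]; exact hxf) _ _ fun g => ?_
    letI := g.toAlgebra
    letI := (HomogeneousLocalization.Away.map φ f).toAlgebra
    exact poly_key (toPAway 𝒜 hf φ z) (toPAway_bijective 𝒜 hf φ hφ hhat) fun b => toPAway_C 𝒜 hf φ b

end Groth.Agent.S3598
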