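import Groth.Statements.S3599
import Groth.Agent.Lib.Norm11.Birational
import Groth.Agent.Lib.RelAmple18.Basic

set_option autoImplicit false
universe u
open CategoryTheory CategoryTheory.Limits AlgebraicGeometry
open EGA2

namespace Groth.Agent.S3599

/-- Let Y be an affine scheme, X a Noetherian reduced scheme, f : X → Y a quasi-compact morphism, g : X'
→ X a finite surjective morphism, and W an open subset of X such that at every point x of W either
the local ring of X is an integrally closed domain or the direct image of the structure sheaf of X'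
is locally free on some open neighbourhood of x inside W. Then there are a reduced scheme Z and a
finite birational morphism h : Z → X (birational in the sense that h is an isomorphism over some
dense open of X whose inverse image is dense in Z) which is an isomorphism over W, such that for
every invertible O_X-module L whose inverse image on X' is ample relative to f ∘ g, the inverse
image of L on Z is ample relative to f ∘ h. -/
theorem result {X X' Y : Scheme.{u}} [IsAffine Y]
    [IsNoetherian X] [IsReduced X] (f : X ⟶ Y) [QuasiCompact f] (g : X' ⟶ X) [IsFinite g] [Surjective g]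
    (W : X.Opens)
    (hW : ∀ x ∈ W, (IsDomain (X.presheaf.stalk x) ∧ IsIntegrallyClosed (X.presheaf.stalk x)) ∨
      ∃ T : X.Opens, x ∈ T ∧ T ≤ W ∧ FlatMod.IsFinLocFree (((Coh.push g).obj (Coh.structureModule X')).restrict T.ι)) :
    ∃ (Z : Scheme.{u}) (_ : IsReduced Z) (h : Z ⟶ X) (_ : IsFinite h),
      IsIso (h ∣_ W) ∧
        (∃ V : X.Opens, Dense (V : Set X) ∧ Dense ((h ⁻¹ᵁ V : Z.Opens) : Set Z) ∧ IsIso (h ∣_ V)) ∧
        ∀ L : X.Modules, PicF.IsInvertible L →
          RelAmple.IsRelAmple (g ≫ f) ((Scheme.Modules.pullback g).obj L) →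
            RelAmple.IsRelAmple (h ≫ f) ((Scheme.Modules.pullback h).obj L) := by
  obtain ⟨R, hR, hcov⟩ := Norm11.exists_R (g := g)
  have hd : ∀ U : X.Opens, (U : Set X).Nonempty → ∃ i : Norm11.Good g R ⊤, ((U : Set X) ∩ i.T).Nonempty :=
    fun U hU => by
      obtain ⟨T, r, e, ⟨y, hyU, hyT⟩, he⟩ := Norm11.exists_isABas_meet (g := g) hU
      obtain ⟨i, hi⟩ := hcov T r e he y hyT
      exact ⟨i, y, hyU, hi⟩
  let j := (Norm11.V0 g R).ι
  have hsmall : ∀ U : X.Opens, U ≤ Norm11.V0 g R → Function.Bijective (j.app U) := fun U hU => by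
    haveI : IsIso (j.app U) := Scheme.Hom.isIso_app _ _ (by rwa [Scheme.Opens.opensRange_ι])
    exact (ConcreteCategory.isIso_iff_bijective _).1 inferInstance
  have hinj : ∀ U : X.Opens, Function.Injective (j.app U) := fun U c c' hcc =>
    Norm11.uniq_of_dense hd U c c' fun i => by
      have hiV : i.T ≤ Norm11.V0 g R := le_iSup_of_le
        (⟨i.T, le_top, i.r, i.pos, i.dvd, i.e, i.bas⟩ : Norm11.Good g R ⊤) le_rfl
      refine (hsmall i.T hiV).1 ?_
      rw [← Norm11.ores_app (g := j) i.le, ← Norm11.ores_app (g := j) i.le, hcc]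
  have halg : ∀ U : X.Opens, (∀ a, Norm11.nV g R U a ∈ (j.app U).hom.range) →
      Function.Bijective ((Norm11.normDiagramMap g R).app (Opposite.op U)).hom := fun U hU => by
    refine ⟨fun c c' hcc => hinj U (congrArg Subtype.val hcc), fun b => ?_⟩
    obtain ⟨c, hc⟩ := (Subring.closure_le (t := (j.app U).hom.range)).2 (fun _ hx => by
      rcases hx with ⟨c, rfl⟩ | ⟨a, rfl⟩
      · exact ⟨c, rfl⟩
      · exact hU a) b.2
    exact ⟨c, Subtype.ext hc⟩
  have hisoW : IsIso (Norm11.normHom g R ∣_ W) := Norm11.isIso_over g R W fun U _ hUW => halg U fun a => by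
    obtain ⟨c, hc⟩ := Norm11.exists_isNorm hR hcov hd U (fun x hx => (hW x (hUW hx)).imp id
      fun ⟨T, hxT, _, hT⟩ => ⟨T, hxT, hT⟩) a
    refine ⟨c, Norm11.uniq_V0 U _ _ fun i => ?_⟩
    rw [Norm11.nV_spec U a i]
    refine (Norm11.ores_app (g := j) i.le c).trans ?_
    exact congrArg _ (hc i)
  have hisoV : IsIso (Norm11.normHom g R ∣_ Norm11.V0 g R) := Norm11.isIso_over g R _ fun U _ hUV =>
    halg U fun a => (hsmall U hUV).2 _
  have hdense : Dense ((Norm11.V0 g R : X.Opens) : Set X) := dense_iff_inter_open.2 fun O hO hne => by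
    obtain ⟨i, y, hyO, hyi⟩ := hd ⟨O, hO⟩ hne
    exact ⟨y, hyO, TopologicalSpace.Opens.mem_iSup.2 ⟨i, hyi⟩⟩
  haveI := Norm11.isFinite_normHom g R hR
  refine ⟨Norm11.NormScheme g R, Norm11.isReduced_normScheme g R, Norm11.normHom g R, inferInstance, hisoW,
    ⟨Norm11.V0 g R, hdense, Norm11.dense_preimage_V0 g R, hisoV⟩, fun L hL h => ?_⟩
  exact (RA.isRelAmple_iff_isAmple (Norm11.normHom g R ≫ f)).2
    (Norm11.isAmple_of_normDatum (Norm11.normSchemeDatum g R hR) hL ((RA.isRelAmple_iff_isAmple (g ≫ f)).1 h))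

end Groth.Agent.S3599
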