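import Groth.Statements.S3607
import Groth.Agent.Lib.BC8.AffineLine

set_option autoImplicit false
universe u
open CategoryTheory CategoryTheory.Limits AlgebraicGeometry
attribute [local instance] HasDerivedCategory.standard
open Dual3

namespace Groth.Agent.S3607

open Groth.Agent.BC8 in
/-- The affine line is the base change of the affine line over `ℤ`. -/
theorem exists_isPullback (Y : Scheme.{u}) (q : Y ⟶ Spec (CommRingCat.of ZR.{u})) :
    ∃ g, IsPullback g (AffineSpace (ULift.{u} (Fin 1)) Y ↘ Y) lineZ.{u} q := by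
  let n : Type u := ULift.{u} (Fin 1)
  let R : CommRingCat.{u} := CommRingCat.of ZR.{u}
  let σ : n ≃ LineIdx := (Equiv.ofUnique n LineIdx)
  let e : MvPolynomial n ZR.{u} ≃ₐ[ZR.{u}] ZA.{u} := MvPolynomial.renameEquiv ZR.{u} σ
  haveI : IsIso (CommRingCat.ofHom e.symm.toRingHom) := (ConcreteCategory.isIso_iff_bijective _).2 e.symm.bijective
  let E : AffineSpace n (Spec R) ≅ Spec (CommRingCat.of ZA.{u}) :=
    AffineSpace.SpecIso n R ≪≫ asIso (Spec.map (CommRingCat.ofHom e.symm.toRingHom))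
  have hE : E.hom ≫ lineZ = AffineSpace n (Spec R) ↘ Spec R := by
    have h1 : Spec.map (CommRingCat.ofHom e.symm.toRingHom) ≫ lineZ =
        Spec.map (CommRingCat.ofHom (MvPolynomial.C : ZR.{u} →+* MvPolynomial n ZR.{u})) := by
      rw [← Spec.map_comp]
      congr 1
      ext1
      exact e.symm.toAlgHom.comp_algebraMap
    show ((AffineSpace.SpecIso n R).hom ≫ Spec.map (CommRingCat.ofHom e.symm.toRingHom)) ≫ lineZ = _
    rw [Category.assoc, h1, ← Iso.eq_inv_comp, AffineSpace.SpecIso_inv_over]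
  refine ⟨AffineSpace.map n q ≫ E.hom, IsPullback.of_iso (AffineSpace.isPullback_map q) (Iso.refl _) E
    (Iso.refl _) (Iso.refl _) ?_ ?_ ?_ ?_⟩ <;> simp [n]
  exact hE.symm


/-- Let S be a Noetherian scheme, Y separated and of finite type over S, and f : A^1_Y → Y the
projection from the affine line. Compute f^! through any compactification f = j ∘ p (j an open
immersion, p proper, Rp_* on D_QCoh assumed to exist and to preserve quasi-coherence, a a right
adjoint of it, restriction to the open assumed exact) and let Lf^* be the derived pullback (assumed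
to exist). Then there is an isomorphism of functors f^! ≅ Lf^*(-)[1] on D^+_QCoh(O_Y) (not asserted
to be canonical). -/
theorem result (S Y : Scheme.{u}) [IsNoetherian S] (q : Y ⟶ S) [Dual3.IsSepFT q] (c : DEt.Compactification (AffineSpace (ULift.{u} (Fin 1)) Y ↘ Y)) [DCoh.HasRpush c.fbar] (hc : DCoh.RpushPreservesQCoh c.fbar) (a : DCoh.DQCoh Y ⥤ DCoh.DQCoh c.Xbar) (adj : DCoh.RpushQ c.fbar hc ⊣ a) [PreservesFiniteLimits (Scheme.Modules.restrictFunctor c.j)] [DCoh.HasLpull (AffineSpace (ULift.{u} (Fin 1)) Y ↘ Y)] : Nonempty (Dual3.bddι Y ⋙ Dual3.shriekC c a ≅ Dual3.bddι Y ⋙ ObjectProperty.ι _ ⋙ DCoh.Lpull (AffineSpace (ULift.{u} (Fin 1)) Y ↘ Y) ⋙ shiftFunctor (DCoh.D (AffineSpace (ULift.{u} (Fin 1)) Y)) (1 : ℤ)) := by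
  haveI : IsLocallyNoetherian Y := LocallyOfFiniteType.isLocallyNoetherian q
  haveI : CompactSpace Y := QuasiCompact.compactSpace_of_compactSpace q
  haveI : IsNoetherian Y := { }
  let q₀ : Y ⟶ Spec (CommRingCat.of Groth.Agent.BC8.ZR.{u}) := specULiftZIsTerminal.from Y
  obtain ⟨g, hg⟩ := exists_isPullback Y q₀
  obtain ⟨n⟩ := Groth.Agent.BC8.nonempty_shriek_line _ q₀ g hg c.fbar c.j c.fac adj
  obtain ⟨l⟩ := Groth.Agent.DMon9.nonempty_lpull_natIso_lP (AffineSpace (ULift.{u} (Fin 1)) Y ↘ Y)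
  exact ⟨(Functor.isoWhiskerLeft (Dual3.bddι Y ⋙ a ⋙ ObjectProperty.ι _) (Groth.Agent.DMon9.lPRes c.j)).symm ≪≫ n ≪≫
    Functor.isoWhiskerLeft (Dual3.bddι Y ⋙ ObjectProperty.ι _) (Functor.isoWhiskerRight l.symm _)⟩


end Groth.Agent.S3607
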