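import Groth.Statements.S3612
import Groth.Agent.Lib.BC8.ViaSheafApps

set_option autoImplicit false
universe u
open CategoryTheory CategoryTheory.Limits AlgebraicGeometry
attribute [local instance] HasDerivedCategory.standard
open Dual3

namespace Groth.Agent.S3612


/-- Let S be a Noetherian scheme, X and Y schemes separated and of finite type over S and f : X → Y a
morphism over S; compute f^! through a compactification f = j ∘ p (j : X → X' an open immersion, p :
X' → Y proper, Rp_* on D_QCoh assumed to exist and to preserve quasi-coherence of cohomology, a a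
right adjoint of Rp_*, restriction of modules to opens assumed exact), so that f^!K = a(K)|_X.
Assume f is flat and let O be the structure sheaf of Y in degree 0. (i) For a point x and n ≥
dim_x(X_{f(x)}): if the stalk of H^i(f^!O) at x is nonzero then -n ≤ i ≤ 0. (ii) If every fibre of f
has dimension at most d, then f^!O has tor amplitude in [-d, 0] relative to Y: it is represented by
a complex of O_X-modules flat over Y placed in degrees [-d, 0]. -/
theorem result (S X Y : Scheme.{u}) [IsNoetherian S] (p : X ⟶ S) (q : Y ⟶ S) [Dual3.IsSepFT p] [Dual3.IsSepFT q] (f : X ⟶ Y) (w : f ≫ q = p) [Flat f] (c : DEt.Compactification f) [DCoh.HasRpush c.fbar] (hc : DCoh.RpushPreservesQCoh c.fbar) (a : DCoh.DQCoh Y ⥤ DCoh.DQCoh c.Xbar) (adj : DCoh.RpushQ c.fbar hc ⊣ a) [∀ (U V : Scheme.{u}) (j : U ⟶ V) [IsOpenImmersion j], PreservesFiniteLimits (Scheme.Modules.restrictFunctor j)] (O : DCoh.DQCoh Y) (hO : Nonempty (O.obj ≅ DCoh.inD Y (Coh.structureModule Y))) : (∀ (x : X) (n : ℕ), Dual3.localFibreDim f x ≤ (n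 : WithBot ℕ∞) → ∀ i : ℤ, Nontrivial ((DCoh.HD ((Dual3.shriekC c a).obj O) i).presheaf.stalk x) → -(n : ℤ) ≤ i ∧ i ≤ 0) ∧ ∀ d : ℕ, Dual3.FibreDimLE f d → DCoh.HasRelFlatAmplitudeIn f (-(d : ℤ)) 0 ((Dual3.shriekC c a).obj O) := by
  haveI : IsLocallyNoetherian Y := LocallyOfFiniteType.isLocallyNoetherian q
  haveI : CompactSpace Y := QuasiCompact.compactSpace_of_compactSpace q
  haveI : IsNoetherian Y := { }
  haveI : LocallyOfFiniteType (f ≫ q) := w ▸ inferInstance
  haveI : LocallyOfFiniteType f := locallyOfFiniteType_of_comp f q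
  haveI := c.isProper
  haveI := c.isOpenImmersion
  obtain ⟨eO⟩ := hO
  let e : BC8.oQ Y ≅ O := ObjectProperty.isoMk _ eO.symm
  let eK := (DMon9.lPRes c.j).app _ ≪≫ (DCoh.restrictD c.j).mapIso ((ObjectProperty.ι _).mapIso (a.mapIso e))
  refine ⟨fun x n hn i hi => ?_, fun d hd => BC8.relFlatAmp_shriek f c.fbar c.j c.fac adj eK d
    (BC8.fibreDimAt_le_of_fibreDimLE f d hd)⟩
  rw [BC8.localFibreDim_eq] at hn
  exact ⟨(BC8.stalk_range f c.fbar c.j c.fac adj eK x n hn i hi).1,
    (BC8.stalk_range f c.fbar c.j c.fac adj eK x n hn i hi).2 inferInstance⟩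


end Groth.Agent.S3612
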