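import Groth.Statements.S3613
import Groth.Agent.Lib.BC8.ViaSheafApps
import Groth.Agent.Lib.BC8.CohShriek

set_option autoImplicit false
universe u
open CategoryTheory CategoryTheory.Limits AlgebraicGeometry
attribute [local instance] HasDerivedCategory.standard
open Dual3

namespace Groth.Agent.S3613


/-- Let S be a Noetherian scheme, X and Y schemes separated and of finite type over S and f : X → Y a
morphism over S; compute f^! through a compactification f = j ∘ p (j : X → X' an open immersion, p :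
X' → Y proper, Rp_* on D_QCoh assumed to exist and to preserve quasi-coherence of cohomology, a a
right adjoint of Rp_*, restriction of modules to opens assumed exact), so that f^!K = a(K)|_X.
Assume f is flat and quasi-finite and let O be the structure sheaf of Y in degree 0. Then H^i(f^!O)
= 0 for i ≠ 0 and H^0(f^!O) is a coherent O_X-module which is flat over Y; that is, f^!O = ω[0] for
a coherent Y-flat module ω. -/
theorem result (S X Y : Scheme.{u}) [IsNoetherian S] (p : X ⟶ S) (q : Y ⟶ S) [Dual3.IsSepFT p] [Dual3.IsSepFT q] (f : X ⟶ Y) (w : f ≫ q = p) [Flat f] [LocallyQuasiFinite f] (c : DEt.Compactification f) [DCoh.HasRpush c.fbar] (hc : DCoh.RpushPreservesQCoh c.fbar) (a : DCoh.DQCoh Y ⥤ DCoh.DQCoh c.Xbar) (adj : DCoh.RpushQ c.fbar hc ⊣ a) [∀ (U V : Scheme.{u}) (j : U ⟶ V) [IsOpenImmersion j], PreservesFiniteLimits (Scheme.Modules.restrictFunctor j)] (O : DCoh.DQCoh Y) (hO : Nonempty (O.obj ≅ DCoh.inD Y (Coh.structureModule Y))) : (∀ i : ℤ, i ≠ 0 → IsZero (DCoh.HD ((Dual3.shriekC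 c a).obj O) i)) ∧ Coh.IsCoh (DCoh.HD ((Dual3.shriekC c a).obj O) 0) ∧ FlatMod.IsFlatOver f (DCoh.HD ((Dual3.shriekC c a).obj O) 0) := by
  haveI : IsLocallyNoetherian Y := LocallyOfFiniteType.isLocallyNoetherian q
  haveI : CompactSpace Y := QuasiCompact.compactSpace_of_compactSpace q
  haveI : IsNoetherian Y := { }
  haveI : LocallyOfFiniteType (f ≫ q) := w ▸ inferInstance
  haveI : LocallyOfFiniteType f := locallyOfFiniteType_of_comp f q
  haveI := c.isProper
  haveI := c.isOpenImmersion
  haveI : IsLocallyNoetherian X := LocallyOfFiniteType.isLocallyNoetherian f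
  obtain ⟨eO⟩ := hO
  let e : BC8.oQ Y ≅ O := ObjectProperty.isoMk _ eO.symm
  let K := (Dual3.shriekC c a).obj O
  let eK : (DMon9.lP c.j).obj (a.obj (BC8.oQ Y)).obj ≅ K :=
    (DMon9.lPRes c.j).app _ ≪≫ (DCoh.restrictD c.j).mapIso ((ObjectProperty.ι _).mapIso (a.mapIso e))
  have hOc : ∀ i : ℤ, Coh.IsCoh (DCoh.HD (BC8.oQ Y).obj i) := fun i => by
    rcases lt_trichotomy i 0 with h | h | h
    · exact DPerf.isCoh_of_isZero
        (DerivedCategory.isZero_of_isGE ((DerivedCategory.singleFunctor Y.Modules 0).obj (Coh.structureModule Y)) 0 i h)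
    · subst h
      exact BC8.isCoh_iso ((DerivedCategory.singleFunctorCompHomologyFunctorIso Y.Modules 0).app (Coh.structureModule Y)).symm
        (M1.isCoh_structureModule Y)
    · exact DPerf.isCoh_of_isZero
        (DerivedCategory.isZero_of_isLE ((DerivedCategory.singleFunctor Y.Modules 0).obj (Coh.structureModule Y)) 0 i h)
  obtain ⟨E, hv, hfl, ⟨eE⟩⟩ := BC8.relFlatAmp_shriek f c.fbar c.j c.fac adj eK 0
    (fun x => (FibDim14.fibreDimAt_eq_zero f x).le)
  haveI : CochainComplex.IsStrictlyGE E 0 := (CochainComplex.isStrictlyGE_iff _ _).2 fun i hi => hv i (Or.inl (by omega))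
  haveI : CochainComplex.IsStrictlyLE E 0 := (CochainComplex.isStrictlyLE_iff _ _).2 fun i hi => hv i (Or.inr hi)
  obtain ⟨M, ⟨eM⟩⟩ := CochainComplex.exists_iso_single E 0
  let eS : (DerivedCategory.singleFunctor X.Modules 0).obj M ≅ K :=
    (DerivedCategory.singleFunctorIsoCompQ X.Modules 0).app M ≪≫ DerivedCategory.Q.mapIso eM.symm ≪≫ eE
  refine ⟨fun i hi => ?_, ?_, ?_⟩
  · rcases lt_or_gt_of_ne hi with h | h
    · haveI : K.IsGE 0 := DerivedCategory.TStructure.t.isGE_of_iso eS 0
      exact DerivedCategory.isZero_of_isGE K 0 i h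
    · haveI : K.IsLE 0 := DerivedCategory.TStructure.t.isLE_of_iso eS 0
      exact DerivedCategory.isZero_of_isLE K 0 i h
  · exact BC8.isCoh_iso ((DerivedCategory.homologyFunctor X.Modules 0).mapIso eK)
      (BC8.isCoh_HD_phiF f c.fbar c.j c.fac a adj (BC8.oQ Y) 0 (inferInstanceAs (DerivedCategory.IsGE (TwistBC9.oneD Y 0) 0))
        hOc 0)
  · exact RelPCS8.isFlatOver_of_iso
      (((HomologicalComplex.eval X.Modules (ComplexShape.up ℤ) 0).mapIso eM ≪≫ (HomologicalComplex.singleObjXSelf (ComplexShape.up ℤ) (0 : ℤ) M :)) ≪≫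
        ((DerivedCategory.singleFunctorCompHomologyFunctorIso X.Modules 0).app M).symm ≪≫
        (DerivedCategory.homologyFunctor X.Modules 0).mapIso eS) (hfl 0)


end Groth.Agent.S3613
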