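import Groth.Statements.S3615
import Groth.Agent.Lib.BC8.ViaCMSch
import Groth.Agent.Lib.BC8.DualShriek
import Groth.Agent.S4961

set_option autoImplicit false
universe u
open CategoryTheory CategoryTheory.Limits AlgebraicGeometry
attribute [local instance] HasDerivedCategory.standard
open Dual3

namespace Groth.Agent.S3615


/-- Let S be a Noetherian scheme, X and Y schemes separated and of finite type over S and f : X → Y a
morphism over S; compute f^! through a compactification f = j ∘ p (j : X → X' an open immersion, p :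
X' → Y proper, Rp_* on D_QCoh assumed to exist and to preserve quasi-coherence of cohomology, a a
right adjoint of Rp_*, restriction of modules to opens assumed exact), so that f^!K = a(K)|_X.
Assume f is flat and let O be the structure sheaf of Y in degree 0 and x a point of X. Then f is
Cohen–Macaulay at x if and only if there are an open neighbourhood U of x and an integer n such that
H^i(f^!O) restricts to zero on U for every i ≠ n while H^n(f^!O) does not. -/
theorem result (S X Y : Scheme.{u}) [IsNoetherian S] (p : X ⟶ S) (q : Y ⟶ S) [Dual3.IsSepFT p] [Dual3.IsSepFT q] (f : X ⟶ Y) (w : f ≫ q = p) [Flat f] (c : DEt.Compactification f) [DCoh.HasRpush c.fbar] (hc : DCoh.RpushPreservesQCoh c.fbar) (a : DCoh.DQCoh Y ⥤ DCoh.DQCoh c.Xbar) (adj : DCoh.RpushQ c.fbar hc ⊣ a) [∀ (U V : Scheme.{u}) (j : U ⟶ V) [IsOpenImmersion j], PreservesFiniteLimits (Scheme.Modules.restrictFunctor j)] (O : DCoh.DQCoh Y) (hO : Nonempty (O.obj ≅ DCoh.inD Y (Coh.structureModule Y))) (x : X) : MoreMor.IsCMAt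 f x ↔ ∃ (U : X.Opens) (n : ℤ), x ∈ U ∧ (∀ i : ℤ, i ≠ n → IsZero ((DCoh.HD ((Dual3.shriekC c a).obj O) i).restrict U.ι)) ∧ ¬ IsZero ((DCoh.HD ((Dual3.shriekC c a).obj O) n).restrict U.ι) := by
  haveI : IsLocallyNoetherian Y := LocallyOfFiniteType.isLocallyNoetherian q
  haveI : CompactSpace Y := QuasiCompact.compactSpace_of_compactSpace q
  haveI : IsNoetherian Y := { }
  haveI : LocallyOfFiniteType (f ≫ q) := w ▸ inferInstance
  haveI : LocallyOfFiniteType f := locallyOfFiniteType_of_comp f q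
  haveI := c.isProper
  haveI := c.isOpenImmersion
  haveI : LocallyOfFinitePresentation f := inferInstance
  obtain ⟨eO⟩ := hO
  let e : BC8.oQ Y ≅ O := ObjectProperty.isoMk _ eO.symm
  let K := (Dual3.shriekC c a).obj O
  let eK : (DMon9.lP c.j).obj (a.obj (BC8.oQ Y)).obj ≅ K :=
    (DMon9.lPRes c.j).app _ ≪≫ (DCoh.restrictD c.j).mapIso ((ObjectProperty.ι _).mapIso (a.mapIso e))
  have key : ∀ (U : X.Opens) (i : ℤ), IsZero ((DCoh.HD K i).restrict U.ι) ↔
      ∀ y ∈ U, Subsingleton ((DCoh.HD K i).presheaf.stalk y) := fun U i => by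
    constructor
    · intro hz y hy
      let b := ((Scheme.Modules.restrictStalkNatIso U.ι (⟨y, hy⟩ : U)).app (DCoh.HD K i)).addCommGroupIsoToAddEquiv
      haveI : Subsingleton ((M1.stalkAb (⟨y, hy⟩ : U)).obj ((DCoh.HD K i).restrict U.ι)) :=
        AddCommGrpCat.subsingleton_of_isZero ((M1.stalkAb (⟨y, hy⟩ : U)).map_isZero hz)
      exact @Equiv.subsingleton _ _ b.symm.toEquiv ‹_›
    · intro h
      refine DPerf.isZero_of_stalks fun z => ?_
      let b := ((Scheme.Modules.restrictStalkNatIso U.ι z).app (DCoh.HD K i)).addCommGroupIsoToAddEquiv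
      exact @Equiv.subsingleton _ _ b.toEquiv (h z.1 z.2)
  constructor
  · intro hx
    obtain ⟨d, hd⟩ : ∃ d : ℕ, FlatMor.fibreDimAt f x = (d : WithBot ℕ∞) :=
      ⟨_, (FibDim14.exists_fibreDimAt_eq f x).choose_spec.2.2.1⟩
    obtain ⟨W₁, hxW₁, hW₁⟩ := CMEquiDim4.exists_nhd_fibreDimAt_eq f hx
    let W : X.Opens := W₁ ⊓ ⟨_, S4961.result f⟩
    have hxW : x ∈ W := ⟨hxW₁, hx⟩
    have hst : ∀ y ∈ W, ∀ i, i ≠ -(d : ℤ) → Subsingleton ((DCoh.HD K i).presheaf.stalk y) := fun y hy i hi => by
      rw [← not_nontrivial_iff_subsingleton]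
      exact fun hnt => hi (BC8.stalk_eq_neg_dim f c.fbar c.j c.fac adj eK W d
        (fun z hz => ⟨hz.2, (hW₁ z hz.1).trans hd⟩) y hy i hnt)
    obtain ⟨-, y, hy, hnt⟩ := BC8.isCMAt_of_single f c.fbar c.j c.fac adj eK W (-(d : ℤ)) hst x hxW
    refine ⟨W, -(d : ℤ), hxW, fun i hi => (key W i).2 fun z hz => hst z hz i hi, fun h => ?_⟩
    haveI := hnt
    haveI := (key W _).1 h y hy
    exact false_of_nontrivial_of_subsingleton ((DCoh.HD K (-(d : ℤ))).presheaf.stalk y)
  · rintro ⟨U, n, hxU, h0, -⟩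
    exact (BC8.isCMAt_of_single f c.fbar c.j c.fac adj eK U n (fun y hy i hi => (key U i).1 (h0 i hi) y hy) x hxU).1


end Groth.Agent.S3615
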