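import Groth.Statements.S3616
import Groth.Agent.Lib.BC8.ViaGor
import Groth.Agent.Lib.BC8.DualShriek

set_option autoImplicit false
universe u
open CategoryTheory CategoryTheory.Limits AlgebraicGeometry
attribute [local instance] HasDerivedCategory.standard
open Dual3

namespace Groth.Agent.S3616


/-- Let S be a Noetherian scheme, X and Y schemes separated and of finite type over S and f : X → Y a
morphism over S; compute f^! through a compactification f = j ∘ p (j : X → X' an open immersion, p :
X' → Y proper, Rp_* on D_QCoh assumed to exist and to preserve quasi-coherence of cohomology, a a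
right adjoint of Rp_*, restriction of modules to opens assumed exact), so that f^!K = a(K)|_X.
Assume f is flat and let O be the structure sheaf of Y in degree 0. Then f is Gorenstein at a point
x (flat at x with Gorenstein local ring of the fibre) if and only if x has an open neighbourhood U
such that (f^!O)|_U is an invertible object of D(O_U); and the Gorenstein locus of f is an open
subset of X. -/
theorem result (S X Y : Scheme.{u}) [IsNoetherian S] (p : X ⟶ S) (q : Y ⟶ S) [Dual3.IsSepFT p] [Dual3.IsSepFT q] (f : X ⟶ Y) (w : f ≫ q = p) [Flat f] (c : DEt.Compactification f) [DCoh.HasRpush c.fbar] (hc : DCoh.RpushPreservesQCoh c.fbar) (a : DCoh.DQCoh Y ⥤ DCoh.DQCoh c.Xbar) (adj : DCoh.RpushQ c.fbar hc ⊣ a) [∀ (U V : Scheme.{u}) (j : U ⟶ V) [IsOpenImmersion j], PreservesFiniteLimits (Scheme.Modules.restrictFunctor j)] (O : DCoh.DQCoh Y) (hO : Nonempty (O.obj ≅ DCoh.inD Y (Coh.structureModule Y))) : (∀ x : X, Dual3.IsGorensteinAt f x ↔ ∃ U : X.Opens, x ∈ U ∧ Dual3.IsInvertibleD ((DCoh.restrictD U.ι).obj ((Dual3.shriekC c a).obj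 O))) ∧ IsOpen {x : X | Dual3.IsGorensteinAt f x} := by
  haveI : IsLocallyNoetherian Y := LocallyOfFiniteType.isLocallyNoetherian q
  haveI : CompactSpace Y := QuasiCompact.compactSpace_of_compactSpace q
  haveI : IsNoetherian Y := { }
  haveI : LocallyOfFiniteType (f ≫ q) := w ▸ inferInstance
  haveI : LocallyOfFiniteType f := locallyOfFiniteType_of_comp f q
  haveI := c.isProper
  haveI := c.isOpenImmersion
  obtain ⟨eO⟩ := hO
  let e : BC8.oQ Y ≅ O := ObjectProperty.isoMk _ eO.symm
  let eK : (DMon9.lP c.j).obj (a.obj (BC8.oQ Y)).obj ≅ (Dual3.shriekC c a).obj O :=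
    (DMon9.lPRes c.j).app _ ≪≫ (DCoh.restrictD c.j).mapIso ((ObjectProperty.ι _).mapIso (a.mapIso e))
  exact ⟨fun x => ⟨BC8.exists_invertible_of_gorenstein f c.fbar c.j c.fac adj eK x,
      fun ⟨U, hxU, hU⟩ => BC8.gorenstein_of_invertible f c.fbar c.j c.fac adj eK U x hxU hU⟩,
    GorOpen27.isOpen_gorensteinLocus f⟩


end Groth.Agent.S3616
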