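import Groth.Statements.S3621
import Groth.Agent.Lib.DlzSchCM27.Main
import Groth.Agent.Lib.Goren15.Equiv
import Groth.Agent.S0373
-- import your own Groth.Agent.* helpers here

set_option autoImplicit false
universe u
open CategoryTheory CategoryTheory.Limits AlgebraicGeometry
attribute [local instance] HasDerivedCategory.standard
open Dual3

namespace Groth.Agent.S3621

/-- Let X be a locally Noetherian scheme which has a dualizing complex (exactness instances as in the
definition of dualizing complexes on schemes). Then the set of points x of X whose local ring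
O_{X,x} is Gorenstein is open. -/
theorem result (X : Scheme.{u}) [IsLocallyNoetherian X] [∀ (U V : Scheme.{u}) (j : U ⟶ V) [IsOpenImmersion j], PreservesFiniteLimits (Scheme.Modules.restrictFunctor j)] [∀ (R : CommRingCat.{u}), PreservesFiniteLimits (tilde.functor R)] (K : DCoh.D X) (hK : Dual2.IsDualizingSch X K) : IsOpen {x : X | LocCoh.IsGorensteinLocalRing (X.presheaf.stalk x)} := by
  refine isOpen_iff_forall_mem_open.2 fun x hx => ?_
  obtain ⟨_, ⟨U, hU, rfl⟩, hxU, -⟩ :=
    (X.isBasis_affineOpens).exists_subset_of_mem_open (Set.mem_univ x) isOpen_univ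
  obtain ⟨p, rfl⟩ : x ∈ Set.range hU.fromSpec := by rw [hU.range_fromSpec]; exact hxU
  haveI : IsNoetherianRing Γ(X, U) := IsLocallyNoetherian.component_noetherian ⟨U, hU⟩
  obtain ⟨ω, hω, -⟩ := hK Γ(X, U) hU.fromSpec
  have hg : ∀ q : Spec (CommRingCat.of Γ(X, U)), LocCoh.IsGorensteinLocalRing (X.presheaf.stalk (hU.fromSpec q)) ↔
      LocCoh.IsGorensteinLocalRing (Localization.AtPrime (q : PrimeSpectrum Γ(X, U)).asIdeal) := fun q => by
    obtain ⟨g⟩ := Groth.Agent.DlzSchCM27.exists_stalk_ringEquiv (A := Γ(X, U)) hU.fromSpec q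
    exact Groth.Agent.Goren15.isGorensteinLocalRing_iff_of_ringEquiv g
  refine ⟨hU.fromSpec '' {q : Spec (CommRingCat.of Γ(X, U)) | LocCoh.IsGorensteinLocalRing
    (Localization.AtPrime (q : PrimeSpectrum Γ(X, U)).asIdeal)}, ?_,
    hU.fromSpec.isOpenEmbedding.isOpenMap _ (Groth.Agent.S0373.result Γ(X, U) ω hω), ⟨p, (hg p).1 hx, rfl⟩⟩
  rintro _ ⟨q, hq, rfl⟩
  exact (hg q).2 hq

end Groth.Agent.S3621
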