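import Groth.Statements.S3633
import Groth.Agent.Lib.BC8.UpperCoh

set_option autoImplicit false
universe u
open CategoryTheory CategoryTheory.Limits AlgebraicGeometry
attribute [local instance] HasDerivedCategory.standard
open Dual3

namespace Groth.Agent.S3633


/-- Let i : Z → X be a closed immersion with X locally Noetherian and R Hom(O_Z, -) : D^+(O_X) →
D^+(O_Z) the right derived functor of the right adjoint of i_* (injective resolutions assumed). If K
in D^+(O_X) has coherent cohomology sheaves then so does R Hom(O_Z, K). -/
theorem result (Z X : Scheme.{u}) [IsLocallyNoetherian X] (i : Z ⟶ X) [IsClosedImmersion i] [Dual3.HasHomO i] [EnoughInjectives X.Modules] (K : DerivedCategory.Plus X.Modules) (hK : DCoh.IsCohD K.obj) : DCoh.IsCohD ((Dual3.RHomOPlus i).obj K).obj := by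
  haveI : PreservesFiniteColimits (Scheme.Modules.pushforward i) := Groth.Agent.RHom.preservesFiniteColimits_push i
  haveI : PreservesFiniteLimits (Scheme.Modules.pushforward i) := Groth.Agent.RHom.preservesLimits_pushforward i
  obtain ⟨R, ⟨adjR⟩, ⟨n⟩⟩ := Groth.Agent.BC8.exists_upper i
  obtain ⟨c, hc⟩ := K.property
  intro q
  exact Groth.Agent.CohMop.isCoh_of_iso ((DerivedCategory.homologyFunctor _ q).mapIso (n.app K).symm)
    (Groth.Agent.BC8.isCohD_upper i adjR K.obj c hc hK q)


end Groth.Agent.S3633
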