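import Groth.Statements.S3639
import Groth.Agent.Lib.DualEff8.Main

set_option backward.isDefEq.respectTransparency false
set_option backward.isDefEq.respectTransparency.types false
set_option maxHeartbeats 1000000

set_option autoImplicit false
universe u
open CategoryTheory CategoryTheory.Limits AlgebraicGeometry
attribute [local instance] HasDerivedCategory.standard
open Dual3

namespace Groth.Agent.S3639

/-- Let X be a scheme and D ⊆ X an effective Cartier divisor, given by its ideal sheaf I (locally
generated by one nonzerodivisor) with closed immersion i : D → X; let L be an O_X-module inverse to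
I for the tensor product (the module O_X(D)) and N = i^*L the normal sheaf. Let R Hom(O_D, -) :
D^+(O_X) → D^+(O_D) be the right derived functor of the right adjoint of i_* (assumed to exist,
injective resolutions assumed) and O an object of D^+(O_X) isomorphic to the structure sheaf in
degree 0. Then H^j(R Hom(O_D, O)) = 0 for j ≠ 1 and H^1(R Hom(O_D, O)) is isomorphic to N; that is,
R Hom(O_D, O_X) = N[-1]. -/
theorem result (X : Scheme.{u}) (I : X.IdealSheafData) (hI : BlowUp.IsEffCartierIdeal I) [Dual3.HasHomO I.subschemeι] [EnoughInjectives X.Modules] (L : X.Modules) (hL : ClSub.IsInverseOf L (ClSub.idealMod I)) (O : DerivedCategory.Plus X.Modules) (hO : Nonempty (O.obj ≅ DCoh.inD X (Coh.structureModule X))) : (∀ j : ℤ, j ≠ 1 → IsZero (DCoh.HD ((Dual3.RHomOPlus I.subschemeι).obj O).obj j)) ∧ Nonempty (DCoh.HD ((Dual3.RHomOPlus I.subschemeι).obj O).obj 1 ≅ (Scheme.Modules.pullback I.subschemeι).obj L) := by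
  haveI : PreservesFiniteColimits (Scheme.Modules.pushforward I.subschemeι) :=
    Groth.Agent.RHom.preservesFiniteColimits_push _
  haveI : PreservesFiniteLimits (Scheme.Modules.pushforward I.subschemeι) :=
    Groth.Agent.RHom.preservesLimits_pushforward _
  haveI := Groth.Agent.ClImmProj14.faithful_push I.subschemeι
  let F := Scheme.Modules.pushforward I.subschemeι
  let G := Dual3.homO I.subschemeι
  haveI : G.Additive := Dual3.additive_homO _
  obtain ⟨R, ⟨adjR⟩, ⟨n⟩⟩ := Groth.Agent.BC8.exists_upper I.subschemeι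
  obtain ⟨np⟩ := Groth.Agent.BC8.nonempty_plus_iso F (Dual3.homOAdj I.subschemeι) adjR
  obtain ⟨o⟩ := hO
  let M : X.Modules := Coh.structureModule X
  let K := ((DerivedCategory.singleFunctor X.Modules 0).obj M)
  let eK : ((Dual3.RHomOPlus I.subschemeι).obj O).obj ≅ R.obj K := n.app O ≪≫ R.mapIso o
  let e₀ : ∀ k : ℕ, DCoh.HD (R.obj K) (k : ℤ) ≅ (G.rightDerived k).obj M := fun k =>
    (DerivedCategory.homologyFunctor _ (k : ℤ)).mapIso
      ((R.mapIso ((DerivedCategory.singleFunctorIsoCompQ X.Modules 0).app M ≪≫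
        ((DerivedCategory.quotientCompQhIso X.Modules).app _).symm)) ≪≫
        (np.app (DerivedCategory.Plus.Qh.obj ((HomotopyCategory.Plus.quotient X.Modules).obj
          (Groth.Agent.RFPlus.sing M)))).symm) ≪≫
      Groth.Agent.RFPlus.rightDerivedIso G M k
  let A := ClSub.quotMod I
  let e : Groth.Agent.CohMop.tenR A ≅ Scheme.Modules.pullback I.subschemeι ⋙ F :=
    Groth.Agent.ClImmProj14.tenPushIso I.subschemeι (Coh.structureModule I.subscheme) ≪≫
      Functor.isoWhiskerLeft _ (Functor.isoWhiskerRight Groth.Agent.RHom.unitorNatIso _) ≪≫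
      Functor.isoWhiskerLeft _ (Functor.leftUnitor _)
  let θ : Groth.Agent.CohMop.ihom A ≅ G ⋙ F :=
    (Groth.Agent.CohMop.ihomAdj A).rightAdjointUniq
      (((Scheme.Modules.pullbackPushforwardAdjunction I.subschemeι).comp (Dual3.homOAdj _)).ofNatIsoLeft e.symm)
  have key : ∀ k : ℕ, Nonempty (F.obj (DCoh.HD ((Dual3.RHomOPlus I.subschemeι).obj O).obj (k : ℤ)) ≅
      ((Groth.Agent.CohMop.ihom A).rightDerived k).obj M) := fun k => by
    obtain ⟨c⟩ := Groth.Agent.BigSite16.nonempty_rightDerived_comp G F M k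
    let J := InjectiveResolution.of M
    let d : ((Groth.Agent.CohMop.ihom A).rightDerived k).obj M ≅ ((G ⋙ F).rightDerived k).obj M :=
      J.isoRightDerivedObj (Groth.Agent.CohMop.ihom A) k ≪≫
        (HomologicalComplex.homologyFunctor _ _ k).mapIso
          ((NatIso.mapHomologicalComplex θ _).app J.cocomplex) ≪≫
        (J.isoRightDerivedObj (G ⋙ F) k).symm
    exact ⟨F.mapIso ((DerivedCategory.homologyFunctor _ (k : ℤ)).mapIso eK ≪≫ e₀ k) ≪≫ c ≪≫ d.symm⟩
  obtain ⟨h₀, ⟨h₁⟩, h₂⟩ := Groth.Agent.DualEff8.ext_sheaves I (Groth.Agent.M2.isInvertible_idealMod I hI) L hL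
  refine ⟨fun j hj => ?_, ?_⟩
  · by_cases hneg : j < 0
    · haveI : (R.obj K).IsGE 0 := Groth.Agent.BC8.isGE_upper F adjR K 0
      exact (DerivedCategory.isZero_of_isGE (R.obj K) 0 j hneg).of_iso
        ((DerivedCategory.homologyFunctor _ j).mapIso eK)
    · obtain ⟨k, rfl⟩ := Int.eq_ofNat_of_zero_le (not_lt.1 hneg)
      obtain ⟨q⟩ := key k
      rw [IsZero.iff_id_eq_zero]
      refine F.map_injective ?_
      rw [F.map_id, F.map_zero]
      refine ((?_ : IsZero _).of_iso q).eq_of_src _ _
      rcases k with _ | _ | k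
      · exact h₀
      · exact absurd rfl hj
      · exact h₂ k
  · obtain ⟨q⟩ := key 1
    exact ⟨(Groth.Agent.ClImmProj14.pushFF I.subschemeι).preimageIso (q ≪≫ h₁)⟩

end Groth.Agent.S3639
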