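import Groth.Statements.S3641
import Groth.Agent.Lib.BC8.FlatShriek

set_option autoImplicit false
universe u
open CategoryTheory CategoryTheory.Limits AlgebraicGeometry
attribute [local instance] HasDerivedCategory.standard
open Dual3

namespace Groth.Agent.S3641


/-- Let S be a Noetherian scheme and X' = Y' ×_Y X a cartesian square of schemes separated and of finite
type over S (maps f : X → Y, g : Y' → Y flat, f' : X' → Y', g' : X' → X, all over S). Compute f^!
and f'^! through compactifications of f and f' with right adjoints a, a' of the proper parts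
(derived direct images assumed to exist and preserve quasi-coherence; restrictions to opens exact)
and let Lg^*, Lg'^* be the derived pullbacks (assumed to exist, Lg^* preserving quasi-coherence).
Then Lg'^* ∘ f^! ≅ f'^! ∘ Lg^* as functors on D^+_QCoh(O_Y). -/
theorem result (S X Y X' Y' : Scheme.{u}) [IsNoetherian S] (p : X ⟶ S) (q : Y ⟶ S) (p' : X' ⟶ S) (q' : Y' ⟶ S) [Dual3.IsSepFT p] [Dual3.IsSepFT q] [Dual3.IsSepFT p'] [Dual3.IsSepFT q'] (f : X ⟶ Y) (g : Y' ⟶ Y) (f' : X' ⟶ Y') (g' : X' ⟶ X) (w : f ≫ q = p) (wg : g ≫ q = q') (w' : f' ≫ q' = p') (hsq : IsPullback g' f' f g) [Flat g] (c : DEt.Compactification f) (c' : DEt.Compactification f') [DCoh.HasRpush c.fbar] [DCoh.HasRpush c'.fbar] (hc : DCoh.RpushPreservesQCoh c.fbar) (hc' : DCoh.RpushPreservesQCoh c'.fbar) (a : DCoh.DQCoh Y ⥤ DCoh.DQCoh c.Xbar) (a' : DCoh.DQCoh Y' ⥤ DCoh.DQCoh c'.Xbar) (adj : DCoh.RpushQ c.fbar hc ⊣ a) (adj' : DCoh.RpushQ c'.fbar hc' ⊣ a') [∀ (U V : Scheme.{u})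 (j : U ⟶ V) [IsOpenImmersion j], PreservesFiniteLimits (Scheme.Modules.restrictFunctor j)] [DCoh.HasLpull g] [DCoh.HasLpull g'] (hLg : Dual3.LpullPreservesQCoh g) : Nonempty (Dual3.bddι Y ⋙ Dual3.shriekC c a ⋙ DCoh.Lpull g' ≅ Dual3.bddι Y ⋙ Dual3.LpullQ g hLg ⋙ Dual3.shriekC c' a') := by
  haveI : IsLocallyNoetherian Y := LocallyOfFiniteType.isLocallyNoetherian q
  haveI : CompactSpace Y := QuasiCompact.compactSpace_of_compactSpace q
  haveI : IsNoetherian Y := { }
  haveI : IsLocallyNoetherian Y' := LocallyOfFiniteType.isLocallyNoetherian q'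
  haveI : CompactSpace Y' := QuasiCompact.compactSpace_of_compactSpace q'
  haveI : IsNoetherian Y' := { }
  obtain ⟨n⟩ := Groth.Agent.BC8.nonempty_shriek_flat hsq c.fac adj c'.fac adj'
  obtain ⟨l⟩ := Groth.Agent.DMon9.nonempty_lpull_natIso_lP g'
  obtain ⟨lQ⟩ := Groth.Agent.BC8.nonempty_lpullQ_iso_lq g hLg
  exact ⟨(Functor.isoWhiskerLeft (Dual3.bddι Y ⋙ a ⋙ ObjectProperty.ι _)
      (Functor.isoWhiskerRight (Groth.Agent.DMon9.lPRes c.j).symm _ ≪≫
        Functor.isoWhiskerLeft (Groth.Agent.DMon9.lP c.j) l)) ≪≫ n ≪≫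
    Functor.isoWhiskerLeft (Dual3.bddι Y) (Functor.isoWhiskerRight lQ.symm (a' ⋙ ObjectProperty.ι _ ⋙ _) ≪≫
      Functor.isoWhiskerLeft (Dual3.LpullQ g hLg ⋙ a' ⋙ ObjectProperty.ι _) (Groth.Agent.DMon9.lPRes c'.j))⟩


end Groth.Agent.S3641
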