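import Groth.Statements.S3665
import Groth.Agent.Lib.IdealMul.Inf
import Groth.Agent.Lib.IdealMul.PowKill
-- import your own Groth.Agent.* helpers here

set_option autoImplicit false
universe u
open CategoryTheory CategoryTheory.Limits AlgebraicGeometry
attribute [local instance] HasDerivedCategory.standard
open Dual3

namespace Groth.Agent.S3665

open TopologicalSpace

set_option linter.style.haveILetI false
set_option backward.isDefEq.respectTransparency.types false


/-- Let X be proper over a field k, I a quasi-coherent ideal with vanishing locus Z and F a coherent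
O_X-module, so that H^0_c(X ∖ Z, F) = lim_n H^0(X, I^n F) = ⋂_n Γ(X, I^n F) inside Γ(X, F). Then a
global section s of F lies in the image of Γ(X, I^n F) for every n if and only if s restricts to
zero on some open neighbourhood of Z. -/
theorem result (k : Type u) [Field k] (X : Scheme.{u}) (f : X ⟶ Spec (CommRingCat.of k)) [IsProper f] (I : X.IdealSheafData) (F : X.Modules) (hF : Coh.IsCoh F) (s : F.val.obj (Opposite.op ⊤)) : (∀ n : ℕ, ∃ t : ((Dual3.idealMul (I ^ n)).obj F).val.obj (Opposite.op ⊤), (Dual3.idealMulι (I ^ n) F).val.app (Opposite.op ⊤) t = s) ↔ ∃ V : X.Opens, I.supportSet ⊆ (V : Set X) ∧ F.val.map (homOfLE le_top : V ⟶ ⊤).op s = 0 := by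
  classical
  haveI : IsLocallyNoetherian (Spec (CommRingCat.of k)) := inferInstance
  haveI : IsLocallyNoetherian X := LocallyOfFiniteType.isLocallyNoetherian f
  haveI := hF.1
  have hsupp : ∀ (U : X.affineOpens) (x : X) (hx : x ∈ U.1), x ∈ I.supportSet ↔
      ∀ r ∈ I.ideal U, ¬ IsUnit (X.presheaf.germ U.1 x hx r) := fun U x hx => by
    rw [Scheme.IdealSheafData.mem_supportSet_iff_of_mem hx, Scheme.mem_zeroLocus_iff]
    exact forall₂_congr fun r _ => not_congr (X.mem_basicOpen r x hx)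
  constructor
  · intro h
    have key : ∀ U : X.affineOpens, ∃ r ∈ I.ideal U, r • M1.mres F (le_top : U.1 ≤ ⊤) s = M1.mres F le_top s := by
      intro U
      haveI : IsNoetherianRing Γ(X, U.1) := IsLocallyNoetherian.component_noetherian U
      haveI : Module.Finite Γ(X, U.1) Γ(F, U.1) := M1.finite_sections hF.1 hF.2 U.2
      have hm : M1.mres F (le_top : U.1 ≤ ⊤) s ∈ (⨅ i : ℕ, I.ideal U ^ i • ⊤ : Submodule Γ(X, U.1) Γ(F, U.1)) := by
        refine (Submodule.mem_iInf _).2 fun n => ?_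
        rw [← IdealMulL.ideal_pow_apply, ← IdealMulL.mem_idl]
        exact M1.Sub.mem_mres _ _ (h n)
      obtain ⟨r, hr⟩ := ((I.ideal U).mem_iInf_smul_pow_eq_bot_iff _).1 hm
      exact ⟨r, r.2, hr⟩
    choose r hrI hr using key
    refine ⟨⨆ U : X.affineOpens, X.basicOpen (1 - r U), fun x hx => ?_, ?_⟩
    · obtain ⟨W, hW, hxW, -⟩ := exists_isAffineOpen_mem_and_subset (x := x) (U := ⊤) trivial
      refine Opens.mem_iSup.2 ⟨⟨W, hW⟩, (X.mem_basicOpen _ x hxW).2 ?_⟩
      rw [map_sub, map_one]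
      exact IsLocalRing.isUnit_one_sub_self_of_mem_nonunits _ ((hsupp ⟨W, hW⟩ x hxW).1 hx _ (hrI ⟨W, hW⟩))
    · show M1.mres F le_top s = 0
      refine M1.section_ext _ _ fun x hx => ?_
      obtain ⟨U, hxU⟩ := Opens.mem_iSup.1 hx
      have hxW : x ∈ U.1 := X.basicOpen_le _ hxU
      have h2 : (1 - r U) • M1.mres F (le_top : U.1 ≤ ⊤) s = 0 := by rw [sub_smul, one_smul, hr U, sub_self]
      have h1 := congrArg (F.presheaf.germ U.1 x hxW) h2
      rw [M1.germ_smul, map_zero, M1.germ_mres] at h1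
      rw [M1.germ_mres, map_zero]
      exact ((X.mem_basicOpen _ x hxW).1 hxU).smul_eq_zero.1 h1
  · rintro ⟨V, hV, hs⟩ n
    refine M1.Sub.mem_of_locally (IdealMulL.idl F (I ^ n)) s fun x _ => ?_
    obtain ⟨W, hW, hxW, -⟩ := exists_isAffineOpen_mem_and_subset (x := x) (U := ⊤) trivial
    refine ⟨W, le_top, hxW, (IdealMulL.mem_idl F (I ^ n) ⟨W, hW⟩ _).2 ?_⟩
    rw [IdealMulL.ideal_pow_apply]
    let N : Submodule Γ(X, W) Γ(F, W) := I.ideal ⟨W, hW⟩ ^ n • ⊤
    by_contra hm
    obtain ⟨P, hP, hle⟩ := Ideal.exists_le_maximal (Submodule.colon N ({M1.mres F le_top s} : Set Γ(F, W)))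
      (fun e => hm (by
        have h1 := (Ideal.eq_top_iff_one _).1 e
        rwa [Submodule.mem_colon_singleton, one_smul] at h1))
    let y := hW.fromSpec ⟨P, hP.isPrime⟩
    have hyW : y ∈ W := hW.range_fromSpec.le ⟨_, rfl⟩
    have hy : hW.primeIdealOf ⟨y, hyW⟩ = ⟨P, hP.isPrime⟩ :=
      hW.fromSpec.isOpenEmbedding.injective (by rw [hW.fromSpec_primeIdealOf])
    have hyP : (hW.primeIdealOf ⟨y, hyW⟩).asIdeal = P := by rw [hy]
    by_cases hyI : y ∈ I.supportSet
    · obtain ⟨c, hc, hc0⟩ := M1.exists_smul_eq_zero_of_germ_eq_zero F hW hyW (M1.mres F le_top s) (by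
        have h0 := congrArg (F.presheaf.germ V y (hV hyI)) (show M1.mres F (le_top : V ≤ ⊤) s = 0 from hs)
        rw [M1.germ_mres, map_zero] at h0
        rw [M1.germ_mres]
        exact h0)
      refine (M1.isUnit_germ_iff hW hyW c).1 hc ?_
      rw [hyP]
      exact hle (Submodule.mem_colon_singleton.2 (by rw [hc0]; exact N.zero_mem))
    · rw [hsupp ⟨W, hW⟩ y hyW] at hyI
      push Not at hyI
      obtain ⟨a, ha, hau⟩ := hyI
      refine (M1.isUnit_germ_iff hW hyW a).1 hau ?_
      rw [hyP]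
      exact hP.isPrime.mem_of_pow_mem n (hle (Submodule.mem_colon_singleton.2
        (Submodule.smul_mem_smul (Ideal.pow_mem_pow ha n) Submodule.mem_top)))

end Groth.Agent.S3665
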