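import Groth.Statements.S3670
import Groth.Agent.Lib.BC8.GorQF

set_option autoImplicit false
universe u
open CategoryTheory CategoryTheory.Limits AlgebraicGeometry
attribute [local instance] HasDerivedCategory.standard
open Dual3

namespace Groth.Agent.S3670


/-- (1) ⇔ (2) ⇔ (3) ⇔ (4): Let f : X → S be flat and locally of finite presentation, x a point of X and
d = dim_x(X_{f(x)}) the local dimension of its fibre. Then the following are equivalent: (1) f is
Gorenstein at x; (2) there are an open neighbourhood U of x and a locally quasi-finite morphism g :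
U → A^d_S over S which is Gorenstein at x; (3) there are an open neighbourhood U of x and a locally
quasi-finite Gorenstein morphism g : U → A^d_S over S; (4) for every open neighbourhood U of x and
every morphism g : U → A^d_S over S, if x is isolated in its fibre under g (g is quasi-finite at x)
then g is Gorenstein at x. -/
theorem result (X S : Scheme.{u}) (f : X ⟶ S) [Flat f] [LocallyOfFinitePresentation f] (x : X) (d : ℕ) (hd : Dual3.localFibreDim f x = (d : WithBot ℕ∞)) : (Dual3.IsGorensteinAt f x ↔ ∃ (U : X.Opens) (hx : x ∈ U) (g : (U : Scheme.{u}) ⟶ AffineSpace (ULift.{u} (Fin d)) S), g ≫ (AffineSpace (ULift.{u} (Fin d)) S ↘ S) = U.ι ≫ f ∧ LocallyQuasiFinite g ∧ Dual3.IsGorensteinAt g ⟨x, hx⟩) ∧ (Dual3.IsGorensteinAt f x ↔ ∃ (U : X.Opens) (_ : x ∈ U) (g : (U : Scheme.{u}) ⟶ AffineSpace (ULift.{u} (Fin d)) S), g ≫ (AffineSpace (ULift.{u} (Fin d)) S ↘ S) = U.ι ≫ f ∧ LocallyQuasiFinite g ∧ Dual3.IsGorensteinMor g) ∧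 (Dual3.IsGorensteinAt f x ↔ ∀ (U : X.Opens) (hx : x ∈ U) (g : (U : Scheme.{u}) ⟶ AffineSpace (ULift.{u} (Fin d)) S), g ≫ (AffineSpace (ULift.{u} (Fin d)) S ↘ S) = U.ι ≫ f → Dual3.QuasiFiniteAt g ⟨x, hx⟩ → Dual3.IsGorensteinAt g ⟨x, hx⟩) := by
  have hd' : FlatMor.fibreDimAt f x = (d : WithBot ℕ∞) := (BC8.localFibreDim_eq f x).symm.trans hd
  have lft : ∀ (U : X.Opens) (g : (U : Scheme.{u}) ⟶ AffineSpace (ULift.{u} (Fin d)) S),
      g ≫ (AffineSpace (ULift.{u} (Fin d)) S ↘ S) = U.ι ≫ f → LocallyOfFiniteType g := fun U g hg => by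
    haveI : LocallyOfFiniteType (g ≫ (AffineSpace (ULift.{u} (Fin d)) S ↘ S)) := hg.symm ▸ inferInstance
    exact locallyOfFiniteType_of_comp g (AffineSpace (ULift.{u} (Fin d)) S ↘ S)
  refine ⟨⟨fun h => ?_, ?_⟩, ⟨fun h => BC8.exists_gorenstein_qf_toAffineSpace f x hd' h, ?_⟩, ⟨?_, fun h => ?_⟩⟩
  · obtain ⟨U, hx, g, hg, hqf, hG⟩ := BC8.exists_gorenstein_qf_toAffineSpace f x hd' h
    exact ⟨U, hx, g, hg, hqf, hG _⟩
  · rintro ⟨U, hx, g, hg, hqf, hG⟩
    exact (BC8.gorensteinAt_iff_of_qf f U ⟨x, hx⟩ hd' g hg (g.quasiFiniteAt _)).2 hG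
  · rintro ⟨U, hx, g, hg, hqf, hG⟩
    exact (BC8.gorensteinAt_iff_of_qf f U ⟨x, hx⟩ hd' g hg (g.quasiFiniteAt _)).2 (hG _)
  · intro h U hx g hg hqf
    haveI := lft U g hg
    exact (BC8.gorensteinAt_iff_of_qf f U ⟨x, hx⟩ hd' g hg
      (g.quasiFiniteAt_iff_isOpen_singleton_asFiber.2 hqf)).1 h
  · obtain ⟨U, hx, g, hg, hqf⟩ := BC8.exists_qf_toAffineSpace f x hd'
    haveI := lft U g hg
    exact (BC8.gorensteinAt_iff_of_qf f U ⟨x, hx⟩ hd' g hg hqf).2
      (h U hx g hg (g.quasiFiniteAt_iff_isOpen_singleton_asFiber.1 hqf))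


end Groth.Agent.S3670
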