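import Groth.Statements.S3677
import Groth.Agent.Lib.BC8.DlzProper
import Groth.Agent.Lib.BC8.DlzCMModule
import Groth.Agent.Lib.BC8.DlzTen

set_option autoImplicit false
universe u
open CategoryTheory CategoryTheory.Limits AlgebraicGeometry
attribute [local instance] HasDerivedCategory.standard
open Dual3

namespace Groth.Agent.S3677


/-- Let A be a Noetherian local ring with a normalized dualizing complex ω_A and X proper over Spec A
with dim X = n. Assume the derived pushforward Rf_* along the structure morphism f exists and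
preserves complexes with quasi-coherent cohomology (carried as hypotheses), let a be a right adjoint
to Rf_* : D_QCoh(O_X) → D_QCoh(Spec A), and let W be an object of D_QCoh(Spec A) isomorphic to the
derived tilde of ω_A (tilde assumed left exact); put ω_X^• = a(W) and ω_X = H^{−n}(ω_X^•). Then (1)
H^i(ω_X^•) = 0 unless −n ≤ i ≤ 0; (2) the set of points where H^i(ω_X^•) has nonzero stalk has Krull
dimension at most −i; (3) ω_X has nonzero stalk at a point exactly when that point lies on some
irreducible component of X of dimension n; (4) the stalks of ω_X satisfy Serre's condition (S_2). -/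
theorem result (A : Type u) [CommRing A] [IsLocalRing A] [IsNoetherianRing A] (ω : Dual.D A) (hω : Dual.IsDualizing A ω) (hn : Dual.IsNormalized A ω) (X : Scheme.{u}) (f : X ⟶ Spec (CommRingCat.of A)) [IsProper f] [DCoh.HasRpush f] (hf : DCoh.RpushPreservesQCoh f) (a : DCoh.DQCoh (Spec (CommRingCat.of A)) ⥤ DCoh.DQCoh X) (adj : DCoh.RpushQ f hf ⊣ a) [PreservesFiniteLimits (tilde.functor (CommRingCat.of A))] (W : DCoh.DQCoh (Spec (CommRingCat.of A))) (hW : Nonempty (W.obj ≅ (DCoh.tildeD (CommRingCat.of A)).obj ω)) (n : ℕ) (hdim : topologicalKrullDim X = (n : WithBot ℕ∞)) : (∀ i : ℤ, (i < -(n : ℤ) ∨ 0 < i) → IsZero (DCoh.HD (a.obj W).obj i)) ∧ (∀ (i : ℤ) (m : ℕ), (m : ℤ) = -i → topologicalKrullDim {x : X | Nontrivial ((DCoh.HD (a.obj W).obj i).presheaf.stalk x)} ≤ (m : WithBot ℕ∞)) ∧ {x : X | Nontrivial ((DCoh.HD (a.obj W).obj (-(n : ℤ))).presheaf.stalk x)} = (⋃ Z ∈ {Z : Set X | Z ∈ irreducibleComponents X ∧ topologicalKrullDim ↥Z = (n : WithBot ℕ∞)}, Z) ∧ ∀ x : X, LocCoh.HasSk 2 (X.presheaf.stalk x) ((DCoh.HD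 (a.obj W).obj (-(n : ℤ))).presheaf.stalk x) := by
  haveI : ∀ (U V : Scheme.{u}) (j : U ⟶ V) [IsOpenImmersion j],
      PreservesFiniteLimits (Scheme.Modules.restrictFunctor j) := fun U V j _ => inferInstance
  haveI : ∀ (R : CommRingCat.{u}), PreservesFiniteLimits (tilde.functor R) := fun R => M1.tilde_preservesFiniteLimits
  haveI : IsLocallyNoetherian X := LocallyOfFiniteType.isLocallyNoetherian f
  haveI : CompactSpace X := QuasiCompact.compactSpace_of_compactSpace f
  obtain ⟨eW⟩ := hW
  let eW' : W.obj ≅ (DPerf.tildeDD (CommRingCat.of A)).obj ω := eW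
  have hK := BC8.isDualizingSch_proper (A := CommRingCat.of A) hω f adj eW'
  have hn' := BC8.dlt_eq_zero_of_isClosed (A := CommRingCat.of A) hω hn f adj eW'
  exact ⟨BC8.isZero_HD_of_outside hK hn' n hdim,
    fun i m hm => BC8.dim_support_le hK hn' i (BC8.isCohD_dualizing hK i) m hm,
    BC8.support_top hK hn' n hdim, BC8.hasSk_two_top hK hn' n hdim⟩


end Groth.Agent.S3677
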