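import Groth.Statements.S3678
import Groth.Agent.S3701
import Groth.Agent.S0388
import Groth.Agent.Lib.FEtEq25.Graph
import Groth.Agent.Lib.FEtEq25.Points
import Groth.Agent.Lib.FieldBr3.MaxRefine
import Groth.Agent.Lib.StrictHens25.Split
import Mathlib.AlgebraicGeometry.Geometrically.Connected
-- import your own Groth.Agent.* helpers here

set_option autoImplicit false
universe u
open Pi1

namespace Groth.Agent.S3678

open AlgebraicGeometry CategoryTheory CategoryTheory.Limits in
/-- Let A be a strictly henselian local ring (a henselian local ring with separably closed residue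
field), f : X → Spec A a morphism which is proper, flat and of finite presentation and all of whose
geometric fibres are connected and reduced, and t : Spec Ω → Spec A a geometric point, with Ω an
algebraically closed field. Then the functor restricting finite étale covers of X to the geometric
fibre X_t = X ×_{Spec A} Spec Ω is fully faithful; equivalently, the specialisation homomorphism
from the fundamental group of X_t to that of X is surjective. (The published statement is the
surjectivity of this homomorphism; it is stated here as full faithfulness of the restriction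
functor.) -/
theorem result (A : Type u) [CommRing A] [HenselianLocalRing A]
    [IsSepClosed (IsLocalRing.ResidueField A)] {X : Scheme.{u}} (f : X ⟶ Spec (CommRingCat.of A))
    [IsProper f] [Flat f] [LocallyOfFinitePresentation f]
    (hfib : ∀ (Ω : Type u) [Field Ω] [IsAlgClosed Ω] (s : Spec (CommRingCat.of Ω) ⟶ Spec (CommRingCat.of A)),
      ConnectedSpace ↥(pullback f s) ∧ IsReduced (pullback f s))
    (Ω : Type u) [Field Ω] [IsAlgClosed Ω] (t : Spec (CommRingCat.of Ω) ⟶ Spec (CommRingCat.of A)) :
    (FEt.restrict (pullback.fst f t)).Full ∧ (FEt.restrict (pullback.fst f t)).Faithful := by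
  classical
  let c := IsLocalRing.closedPoint A
  have hT : ∀ T : Set X, IsClopen T → T.Nonempty → (T ∩ Set.range (pullback.fst f t)).Nonempty := by
    intro T hT ⟨x₀, hx₀⟩
    have hc : c ∈ f '' T :=
      (IsLocalRing.specializes_closedPoint (R := A) (f x₀)).mem_closed (f.isClosedMap _ hT.1) ⟨x₀, hx₀, rfl⟩
    obtain ⟨x₁, hx₁, hx₁'⟩ : t (IsLocalRing.closedPoint Ω) ∈ f '' T :=
      (IsLocalRing.specializes_closedPoint (R := A) (t (IsLocalRing.closedPoint Ω))).mem_open
        (f.isOpenMap _ hT.2) hc
    refine ⟨x₁, hx₁, ?_⟩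
    rw [Scheme.Pullback.range_fst]
    exact ⟨_, hx₁'.symm⟩
  refine ⟨Groth.Agent.FEtEq25.full_restrict _ hT fun {Z} h hh C hC => ?_,
    Groth.Agent.FEtEq25.faithful_restrict _ hT⟩
  haveI : IsFinite h := hh.1
  haveI : Etale h := hh.2
  let g := h ≫ f
  have hred : ∀ (Ω' : Type u) [Field Ω'] [IsAlgClosed Ω']
      (σ : Spec (CommRingCat.of Ω') ⟶ Spec (CommRingCat.of A)), IsReduced (pullback g σ) := by
    intro Ω' _ _ σ
    haveI : IsReduced (pullback f σ) := (hfib Ω' σ).2
    haveI : Etale (pullback.snd h (pullback.fst f σ)) := MorphismProperty.pullback_snd _ _ inferInstance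
    haveI := Groth.Agent.FieldBr3.isReduced_of_etale (pullback.snd h (pullback.fst f σ))
    exact isReduced_of_isOpenImmersion (pullbackRightPullbackFstIso f σ h).inv
  obtain ⟨hSf, hSe⟩ := Groth.Agent.S3701.result g hred
  haveI := hSf; haveI := hSe
  obtain ⟨hq, -⟩ := Groth.Agent.S0388.result g
  haveI := hq
  let π := g.fromNormalization
  let F := pullback π t
  let P := pullback h (pullback.fst f t)
  let τ := pullback.fst h (pullback.fst f t)
  let ρ := pullback.snd h (pullback.fst f t) ≫ pullback.snd f t
  have hsq : IsPullback τ ρ g t :=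
    (IsPullback.of_hasPullback h (pullback.fst f t)).paste_vert (IsPullback.of_hasPullback f t)
  let r : P ⟶ F := pullback.lift (τ ≫ g.toNormalization) ρ (by
    rw [Category.assoc, Scheme.Hom.toNormalization_fromNormalization]; exact hsq.w)
  have hr1 : r ≫ pullback.fst π t = τ ≫ g.toNormalization := pullback.lift_fst _ _ _
  have hpb : IsPullback τ r g.toNormalization (pullback.fst π t) := by
    refine IsPullback.of_bot ?_ hr1.symm (IsPullback.of_hasPullback π t)
    rw [pullback.lift_snd, Scheme.Hom.toNormalization_fromNormalization]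
    exact hsq
  haveI : GeometricallyConnected r := MorphismProperty.of_isPullback hpb inferInstance
  haveI : IsFinite (pullback.snd π t) := MorphismProperty.pullback_snd _ _ inferInstance
  have hFfin : (Set.univ : Set F).Finite := by
    refine ((pullback.snd π t).finite_preimage_singleton (IsLocalRing.closedPoint Ω)).subset fun z _ => ?_
    exact @Subsingleton.elim (PrimeSpectrum Ω) inferInstance _ _
  have hD : ∀ z : F, ∃ D : g.normalization.Opens, pullback.fst π t z ∈ D ∧
      IsClosed (D : Set g.normalization) ∧ IsClosedImmersion (D.ι ≫ π) := fun z =>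
    Groth.Agent.StrictHens25.exists_clopen_mono π _
  choose D hzD hDc hDi using hD
  have hsep : ∀ z z' : F, pullback.fst π t z' ∈ D z → z' = z := by
    intro z z' hz'
    haveI := hDi z
    haveI : IsClosedImmersion (pullback.snd ((D z).ι ≫ π) t) := MorphismProperty.pullback_snd _ _ inferInstance
    haveI : Subsingleton ↥(pullback ((D z).ι ≫ π) t) := ⟨fun a b =>
      (pullback.snd ((D z).ι ≫ π) t).isClosedEmbedding.injective
        (@Subsingleton.elim (PrimeSpectrum Ω) inferInstance _ _)⟩
    let J : pullback ((D z).ι ≫ π) t ⟶ F := pullback.map _ _ _ _ (D z).ι (𝟙 _) (𝟙 _) (by simp) (by simp)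
    have hJ : IsPullback J (pullback.fst ((D z).ι ≫ π) t) (pullback.fst π t) (D z).ι := by
      refine IsPullback.of_right (h₁₂ := pullback.snd π t) (v₁₃ := t) (h₂₂ := π) ?_ (pullback.lift_fst _ _ _)
        (IsPullback.of_hasPullback π t).flip
      rw [pullback.lift_snd, Category.comp_id]
      exact (IsPullback.of_hasPullback _ _).flip
    have hm : ∀ w : F, pullback.fst π t w ∈ D z → w ∈ Set.range J := fun w hw => by
      obtain ⟨u, hu, -⟩ := Scheme.exists_preimage_of_isPullback hJ w ⟨_, hw⟩ rfl
      exact ⟨u, hu⟩
    obtain ⟨a, rfl⟩ := hm z' hz'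
    obtain ⟨b, hb⟩ := hm z (hzD z)
    rw [Subsingleton.elim a b, hb]
  let E : Set F := r '' C
  have hE : E.Finite := hFfin.subset (Set.subset_univ _)
  let U : Set g.normalization := ⋃ z ∈ E, (D z : Set g.normalization)
  have hU : IsClopen U :=
    ⟨hE.isClosed_biUnion fun z _ => hDc z, isOpen_biUnion fun z _ => (D z).2⟩
  refine ⟨g.toNormalization ⁻¹' U, hU.preimage g.toNormalization.continuous, Set.ext fun p => ?_⟩
  have hp : g.toNormalization (τ p) = pullback.fst π t (r p) := by
    rw [← Scheme.Hom.comp_apply, ← Scheme.Hom.comp_apply, hr1]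
  show g.toNormalization (τ p) ∈ U ↔ p ∈ C
  rw [hp]
  refine ⟨fun h' => ?_, fun h' => Set.mem_biUnion ⟨p, h', rfl⟩ (hzD _)⟩
  obtain ⟨z, ⟨p', hp', rfl⟩, hz⟩ := Set.mem_iUnion₂.1 h'
  have he := hsep _ _ hz
  exact (r.isConnected_preimage_singleton (r p')).isPreconnected.subset_isClopen hC ⟨p', rfl, hp'⟩ he

end Groth.Agent.S3678
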