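import Groth.Statements.S3682
import Groth.Agent.S2501
import Mathlib.AlgebraicGeometry.Morphisms.UniversallyOpen
import Mathlib.AlgebraicGeometry.Morphisms.FinitePresentation

set_option autoImplicit false
universe u
open Pi1

namespace Groth.Agent.S3682

open AlgebraicGeometry CategoryTheory CategoryTheory.Limits in
/-- The part saying that the homomorphism from the fundamental group of X x_k Y to the product of the
fundamental groups is surjective, in terms of covers. Let k be algebraically closed, X proper and
connected over k, Y locally Noetherian and connected over k. If X' is a connected finite etale cover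
of X and Y' a connected finite etale cover of Y, then the product of X' and Y' over k is connected. -/
theorem result (k : Type u) [Field k] [IsAlgClosed k] {X Y : Scheme.{u}}
    (pX : X ⟶ Spec (CommRingCat.of k)) (pY : Y ⟶ Spec (CommRingCat.of k)) [IsProper pX] [ConnectedSpace X]
    [IsLocallyNoetherian Y] [ConnectedSpace Y]
    (X' : FEt.Cat X) [ConnectedSpace X'.left] (Y' : FEt.Cat Y) [ConnectedSpace Y'.left] :
    ConnectedSpace ↥(pullback (X'.hom ≫ pX) (Y'.hom ≫ pY)) := by
  have key : ∀ {A B : Scheme.{u}} (a : A ⟶ Spec (CommRingCat.of k)) (b : B ⟶ Spec (CommRingCat.of k))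
      [LocallyOfFiniteType a] [ConnectedSpace A] [ConnectedSpace B],
      ConnectedSpace ↥(pullback a b) := by
    intro A B a b _ _ _
    have := Groth.Agent.S2501.result a
    have : LocallyOfFinitePresentation a := by
      rw [HasRingHomProperty.iff_appLE (P := @LocallyOfFinitePresentation)]
      intro U V e
      haveI : IsNoetherianRing Γ(Spec (CommRingCat.of k), U) := IsLocallyNoetherian.component_noetherian U
      exact RingHom.FinitePresentation.of_finiteType.mp
        (LocallyOfFiniteType.finiteType_appLE (f := a) U.2 V.2 e)
    have : UniversallyOpen a := inferInstance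
    infer_instance
  have : IsFinite X'.hom := X'.prop.1
  have hlft : ∀ {A : Scheme.{u}} (a : A ⟶ X) [IsFinite a], LocallyOfFiniteType (a ≫ pX) :=
    fun a _ => inferInstance
  have := hlft X'.hom
  have : ConnectedSpace ↥((𝟭 Scheme.{u}).obj X'.left) := ‹ConnectedSpace ↥X'.left›
  have : ConnectedSpace ↥((𝟭 Scheme.{u}).obj Y'.left) := ‹ConnectedSpace ↥Y'.left›
  exact key (X'.hom ≫ pX) (Y'.hom ≫ pY)
end Groth.Agent.S3682
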