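import Groth.Statements.S3698
import Groth.Agent.S8228
import Groth.Agent.S8229

set_option autoImplicit false
universe u
open CategoryTheory MonoidalCategory CartesianMonoidalCategory MonObj GrpObj AlgebraicGeometry
open Pi1

namespace Groth.Agent.S3698

/-- The fundamental group of an abelian variety, in the form underlying its computation: let k be an
algebraically closed field and A an abelian variety over k (a proper, geometrically integral group
scheme over k). Then every connected finite étale cover Z → A is dominated by a multiplication map: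
for some integer d ≥ 1 there is a morphism A → Z over A, where A is viewed as a scheme over A
through multiplication by d. (Multiplication by d is the d-th power of the identity in the group
Hom(A, A); consequently the fundamental group of A is the inverse limit of the groups of k-points of
the kernels of these multiplications.) -/
theorem result (k : Type u) [Field k] [IsAlgClosed k]
    (A : Over (Spec (CommRingCat.of k))) [GrpObj A] [IsProper A.hom] [GeometricallyIntegral A.hom]
    (Z : FEt.Cat A.left) [ConnectedSpace Z.left] :
    ∃ d : ℕ, 1 ≤ d ∧ ∃ ψ : A.left ⟶ Z.left, ψ ≫ Z.hom = ((𝟙 A) ^ (d : ℤ)).left := by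
  haveI : IsIntegral A.left := GeometricallyIntegral.isIntegral_of_subsingleton A.hom
  haveI := (AVCov25.abVar_facts A).2.2
  have hcomm : ∀ (X : Over (Spec (CommRingCat.of k))) (g h : X ⟶ A), g * h = h * g := fun X g h => _root_.mul_comm g h
  haveI : IsFinite Z.hom := Z.prop.1
  haveI : Etale Z.hom := Z.prop.2
  let Y : Over (Spec (CommRingCat.of k)) := Over.mk (Z.hom ≫ A.hom)
  let φ : Y ⟶ A := Over.homMk Z.hom rfl
  haveI : IsFinite φ.left := ‹IsFinite Z.hom›
  haveI : Etale φ.left := ‹Etale Z.hom›
  haveI : ConnectedSpace ↥Y.left := ‹ConnectedSpace Z.left›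
  haveI : Surjective φ.left := by
    haveI : ConnectedSpace A.left := inferInstance
    haveI : Nonempty Y.left := ConnectedSpace.toNonempty
    have h := (FEtEq25.isClopen_image φ.left isClopen_univ).eq_univ
      (Set.univ_nonempty.image (φ.left : Y.left → A.left))
    exact ⟨fun a => by
      obtain ⟨z, -, hz⟩ := h.ge (Set.mem_univ a)
      exact ⟨z, hz⟩⟩
  obtain ⟨inst, hφ⟩ := Groth.Agent.S8228.result k A hcomm Y φ
  letI := inst
  haveI := hφ
  haveI : IsFinite (Limits.pullback.snd φ.left η[A].left) :=
    MorphismProperty.pullback_snd _ _ ‹IsFinite φ.left›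
  haveI : Surjective (Limits.pullback.snd φ.left η[A].left) :=
    MorphismProperty.pullback_snd _ _ ‹Surjective φ.left›
  haveI : Finite ↥(Limits.pullback φ.left η[A].left) := by
    have h := (Limits.pullback.snd φ.left η[A].left).finite_preimage_singleton (IsLocalRing.closedPoint k)
    exact Set.finite_univ_iff.mp (h.subset fun z _ => Subsingleton.elim (α := Spec (CommRingCat.of k)) _ _)
  obtain ⟨x, -⟩ := Surjective.surj (f := Limits.pullback.snd φ.left η[A].left) (IsLocalRing.closedPoint k)
  haveI : Nonempty ↥(Limits.pullback φ.left η[A].left) := ⟨x⟩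
  obtain ⟨ψ, -, hψ⟩ := Groth.Agent.S8229.result k A hcomm Y φ (Nat.card ↥(Limits.pullback φ.left η[A].left)) rfl
    (Nat.card ↥(Limits.pullback φ.left η[A].left)) Nat.card_pos dvd_rfl
  refine ⟨Nat.card ↥(Limits.pullback φ.left η[A].left), Nat.card_pos, ψ.left, ?_⟩
  rw [zpow_natCast, ← hψ]
  rfl

end Groth.Agent.S3698
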