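import Groth.Statements.S3700
import Groth.Agent.Lib.SmoothRegImm25.Affine
import Mathlib.AlgebraicGeometry.Morphisms.ClosedImmersion
import Mathlib.AlgebraicGeometry.Morphisms.Smooth
import Mathlib.AlgebraicGeometry.Noetherian

set_option autoImplicit false
universe u
open SGA1

namespace Groth.Agent.S3700

open AlgebraicGeometry CategoryTheory CategoryTheory.Limits in
/-- Let S be locally Noetherian, f : X -> S locally of finite type, Y the closed subscheme of X defined
by a quasi-coherent ideal, and x a point of Y at which Y is smooth over S. Then X is smooth over S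
at x if and only if the closed immersion of Y in X is regular at x, that is, the kernel of O_{X,x}
-> O_{Y,x} is generated by a regular sequence. (Smoothness at a point is membership in Mathlib's
smooth locus, the set of points where the map of local rings is formally smooth.) -/
theorem result {X S : Scheme.{u}} [IsLocallyNoetherian S] (f : X ⟶ S)
    [LocallyOfFiniteType f] [LocallyOfFinitePresentation f] (I : X.IdealSheafData)
    [LocallyOfFinitePresentation (I.subschemeι ≫ f)] (x : ↥I.subscheme) (hY : x ∈ (I.subschemeι ≫ f).smoothLocus) :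
    I.subschemeι.base x ∈ f.smoothLocus ↔ CInt.IsRegularIdeal (RingHom.ker (I.subschemeι.stalkMap x).hom) := by
  have hxmem := hY
  obtain ⟨_, ⟨U, hU, rfl⟩, hxU, -⟩ :=
    S.isBasis_affineOpens.exists_subset_of_mem_open (Set.mem_univ (f (I.subschemeι x))) isOpen_univ
  obtain ⟨_, ⟨V, hV, rfl⟩, hxV, hVU⟩ :=
    X.isBasis_affineOpens.exists_subset_of_mem_open hxU (U.2.preimage f.continuous)
  let W := I.subschemeι ⁻¹ᵁ V
  have hW : IsAffineOpen W := hV.preimage I.subschemeι
  let gWV := I.subschemeι.appLE V W le_rfl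
  let gWU := (I.subschemeι ≫ f).appLE U W (fun z hz => hVU hz)
  haveI : IsNoetherianRing Γ(S, U) := IsLocallyNoetherian.component_noetherian ⟨U, hU⟩
  letI : Algebra Γ(S, U) Γ(X, V) := (f.appLE U V hVU).hom.toAlgebra
  letI : Algebra Γ(S, U) Γ(I.subscheme, W) := gWU.hom.toAlgebra
  letI : Algebra Γ(X, V) Γ(I.subscheme, W) := gWV.hom.toAlgebra
  haveI : IsScalarTower Γ(S, U) Γ(X, V) Γ(I.subscheme, W) := IsScalarTower.of_algebraMap_eq fun r =>
    (ConcreteCategory.congr_hom (Scheme.Hom.appLE_comp_appLE I.subschemeι f U V W hVU le_rfl) r).symm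
  haveI : Algebra.FiniteType Γ(S, U) Γ(X, V) := f.finiteType_appLE hU hV hVU
  have hsurj : Function.Surjective (algebraMap Γ(X, V) Γ(I.subscheme, W)) := by
    show Function.Surjective gWV.hom
    rw [show gWV = I.subschemeι.app V from (Scheme.Hom.app_eq_appLE _).symm]
    exact I.subschemeι.app_surjective V hV
  have h1 : I.subschemeι.base x ∈ f.smoothLocus ↔ _ :=
    formallySmooth_stalkMap_iff (f := f) U hU V hV hVU hxV
  have h2 := (formallySmooth_stalkMap_iff (f := I.subschemeι ≫ f) (x := x) U hU W hW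
    (fun z hz => hVU hz) hxV).mp hxmem
  haveI : Algebra.IsSmoothAt Γ(S, U) (hW.primeIdealOf ⟨x, hxV⟩).asIdeal := h2
  have hq : (hV.primeIdealOf ⟨I.subschemeι x, hxV⟩).asIdeal =
      (hW.primeIdealOf ⟨x, hxV⟩).asIdeal.comap (algebraMap Γ(X, V) Γ(I.subscheme, W)) :=
    congr($(IsAffineOpen.comap_primeIdealOf_appLE V hV W hW (f := I.subschemeι) (x := x) le_rfl hxV).1).symm
  rw [h1]
  refine (Groth.Agent.SmoothRegImm25.isSmoothAt_iff_isRegularIdeal Γ(S, U) Γ(X, V) Γ(I.subscheme, W) hsurj _ _ hq).trans ?_
  -- transport along the identifications of stalks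
  let e := IsAffineOpen.arrowStalkMapIso I.subschemeι V hV W hW le_rfl hxV
  let eL : X.presheaf.stalk (I.subschemeι x) ≃+* Localization.AtPrime (hV.primeIdealOf ⟨I.subschemeι x, hxV⟩).asIdeal :=
    ((Arrow.leftFunc (C := CommRingCat.{u})).mapIso e).commRingCatIsoToRingEquiv
  let eR : I.subscheme.presheaf.stalk x ≃+* Localization.AtPrime (hW.primeIdealOf ⟨x, hxV⟩).asIdeal :=
    ((Arrow.rightFunc (C := CommRingCat.{u})).mapIso e).commRingCatIsoToRingEquiv
  have hsq : ∀ a, eR ((I.subschemeι.stalkMap x).hom a) =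
      Localization.localRingHom _ _ (algebraMap Γ(X, V) Γ(I.subscheme, W)) hq (eL a) := fun a =>
    (ConcreteCategory.congr_hom e.hom.w a).symm
  have hk : (RingHom.ker (I.subschemeι.stalkMap x).hom).map (eL : _ →+* _) =
      RingHom.ker (Localization.localRingHom _ _ (algebraMap Γ(X, V) Γ(I.subscheme, W)) hq) := by
    rw [Ideal.map_comap_of_equiv]
    ext b
    obtain ⟨a, rfl⟩ := eL.surjective b
    rw [Ideal.mem_comap, RingHom.mem_ker, RingHom.mem_ker]
    show (I.subschemeι.stalkMap x).hom (eL.symm (eL a)) = 0 ↔ _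
    rw [eL.symm_apply_apply, ← hsq, map_eq_zero_iff eR eR.injective]
  rw [← hk]
  constructor
  · intro h
    have := Groth.Agent.SmoothRegImm25.isRegularIdeal_of_equiv eL.symm h
    erw [Ideal.map_of_equiv] at this
    exact this
  · exact Groth.Agent.SmoothRegImm25.isRegularIdeal_of_equiv eL

end Groth.Agent.S3700
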