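import Groth.Statements.S3708
import Groth.Agent.Lib.CurveLiftH7.Ext
import Groth.Agent.Lib.SmoothObs3.Projective
import Groth.Agent.Lib.PoleOne18.Ample
import Groth.Agent.Lib.Snapper.Vanish
import Groth.Agent.Lib.VB17.Setup
import Groth.Agent.Lib.CohFound.EmbedPow

set_option linter.style.haveILetI false

set_option autoImplicit false
universe u
open SGA1

namespace Groth.Agent.S3708

open AlgebraicGeometry CategoryTheory CategoryTheory.Limits in
/-- Let A be a Noetherian local ring that is complete, with residue field k, and let X₀ be a smooth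
proper k-scheme of dimension one. Then there exist a smooth proper A-scheme X and an isomorphism of
k-schemes between X₀ and the closed fibre X ×_A k. -/
theorem result (A : Type u) [CommRing A] [IsLocalRing A] [IsNoetherianRing A]
    [IsAdicComplete (IsLocalRing.maximalIdeal A) A] {X₀ : Scheme.{u}}
    (f₀ : X₀ ⟶ Spec (CommRingCat.of (IsLocalRing.ResidueField A))) [Smooth f₀] [IsProper f₀]
    (hdim : topologicalKrullDim X₀ = 1) :
    ∃ (X : Scheme.{u}) (f : X ⟶ Spec (CommRingCat.of A)) (_ : Smooth f) (_ : IsProper f)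
      (e : X₀ ≅ pullback f (Spec.map (CommRingCat.ofHom (IsLocalRing.residue A)))),
      e.hom ≫ pullback.snd f _ = f₀ := by
  haveI : IsLocallyNoetherian X₀ := LocallyOfFiniteType.isLocallyNoetherian f₀
  haveI : CompactSpace X₀ := QuasiCompact.compactSpace_of_compactSpace f₀
  haveI : IsNoetherian X₀ := {}
  haveI : X₀.IsSeparated := ⟨by
    rw [← terminal.comp_from f₀]
    infer_instance⟩
  have hd : topologicalKrullDim X₀ ≤ ((1 : ℕ) : WithBot ℕ∞) := le_of_eq hdim
  obtain ⟨L, hL⟩ := PoleOne18.exists_isAmple (X := X₀) fun y => by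
    refine (VB17.ringKrullDim_stalk_le_topologicalKrullDim y).trans (le_of_eq ?_)
    exact hdim
  obtain ⟨n, d, j, -, hj, hjf, -⟩ := CohFound.exists_closedImmersion_pow_of_isAmple f₀ hL
  letI : X₀.Over (Spec (CommRingCat.of (IsLocalRing.ResidueField A))) := ⟨f₀⟩
  haveI : IsProper (X₀ ↘ Spec (CommRingCat.of (IsLocalRing.ResidueField A))) := ‹IsProper f₀›
  haveI : HasExt.{u} X₀.Modules := hasExt_of_enoughInjectives _
  have hH : ∀ M : X₀.Modules, Coh.IsQCoh M → Subsingleton (Coh.HH X₀ M 2) := fun M hM =>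
    Snapper.subsingleton_HH_of_dim (IsLocalRing.ResidueField A) 1 hd hM (by norm_num)
  obtain ⟨X, f, i, hf, hp, -, hsq⟩ := SmoothObs3.exists_smooth_projective_lift A f₀ ⟨n, j, hj, hjf⟩
    (CurveLiftH7.subsingleton_ext_omega f₀ (M1.isQCoh_structureModule X₀) 2 hH)
    (hH _ (M1.isQCoh_structureModule X₀))
  exact ⟨X, f, hf, hp, hsq.isoPullback, hsq.isoPullback_hom_snd⟩

end Groth.Agent.S3708
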