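import Groth.Statements.S3709
import Groth.Agent.Lib.UnivSubm25.Graph

set_option autoImplicit false
universe u
open SGA1

namespace Groth.Agent.S3709

open AlgebraicGeometry CategoryTheory CategoryTheory.Limits in
/-- A universally submersive morphism is a descent morphism for etale schemes (exactness of Hom_S(X, Y)
-> Hom_S'(X', Y') => Hom_S''(X'', Y'')): let g : S' -> S be universally submersive, X and Y schemes
over S with Y etale over S, X' and Y' their base changes along g, and f' : X' -> Y' an S'-morphism
whose two pullbacks to S'' = S' x_S S' coincide (equivalently: the two composites X'' -> X' -> Y' ->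
Y along the two projections agree). Then there is exactly one S-morphism u : X -> Y whose base
change is f'. -/
theorem result {S S' X Y : Scheme.{u}} (g : S' ⟶ S) (hg : SGA1.UnivSubmersive g)
    (p : X ⟶ S) (q : Y ⟶ S) [Etale q]
    (f' : pullback p g ⟶ pullback q g) (hf' : f' ≫ pullback.snd q g = pullback.snd p g)
    (hcoc : pullback.map p (pullback.fst g g ≫ g) p g (𝟙 X) (pullback.fst g g) (𝟙 S)
        ((Category.comp_id _).trans (Category.id_comp _).symm) (Category.comp_id _) ≫ f' ≫ pullback.fst q g =
      pullback.map p (pullback.fst g g ≫ g) p g (𝟙 X) (pullback.snd g g) (𝟙 S)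
        ((Category.comp_id _).trans (Category.id_comp _).symm) ((Category.comp_id _).trans pullback.condition) ≫
        f' ≫ pullback.fst q g) :
    ∃! u : X ⟶ Y, u ≫ q = p ∧ f' ≫ pullback.fst q g = pullback.fst p g ≫ u := by
  refine UnivSubm25.exists_desc_etale p q g hg (f' ≫ pullback.fst q g) ?_ fun {T} x s₁ s₂ h₁ h₂ => ?_
  · rw [Category.assoc, pullback.condition, ← Category.assoc, hf']
  · let t : T ⟶ pullback p (pullback.fst g g ≫ g) := pullback.lift x (pullback.lift s₁ s₂ (h₁.symm.trans h₂))
      (by rw [pullback.lift_fst_assoc, h₁])
    have e1 : t ≫ pullback.map p (pullback.fst g g ≫ g) p g (𝟙 X) (pullback.fst g g) (𝟙 S)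
        ((Category.comp_id _).trans (Category.id_comp _).symm) (Category.comp_id _) = pullback.lift x s₁ h₁ := by
      apply pullback.hom_ext <;> simp [t, pullback.map, pullback.lift_fst, pullback.lift_snd, pullback.lift_fst_assoc, pullback.lift_snd_assoc]
    have e2 : t ≫ pullback.map p (pullback.fst g g ≫ g) p g (𝟙 X) (pullback.snd g g) (𝟙 S)
        ((Category.comp_id _).trans (Category.id_comp _).symm)
        ((Category.comp_id _).trans pullback.condition) = pullback.lift x s₂ h₂ := by
      apply pullback.hom_ext <;> simp [t, pullback.map, pullback.lift_fst, pullback.lift_snd, pullback.lift_fst_assoc, pullback.lift_snd_assoc]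
    have := congrArg (t ≫ ·) hcoc
    simp only [← Category.assoc] at this
    rw [e1, e2] at this
    simpa only [Category.assoc] using this
end Groth.Agent.S3709
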