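import Groth.Statements.S3710
import Groth.Agent.Lib.KummerTame25.Chart

set_option autoImplicit false
open CategoryTheory CategoryTheory.Limits AlgebraicGeometry
universe u
open SGA1t

namespace Groth.Agent.S3710

/-- Let f : X -> S and φ_1, ..., φ_r cut out a strict normal crossings divisor relative to S, x a point
where some φ_i vanishes, A = O_{X,x}, and n_i ≥ 1 integers for the indices i with φ_i(x) = 0 (no
condition on the residue characteristic). Then the Kummer scheme X' = Spec A[T_i]/(T_i^{n_i} - φ_i)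
is smooth over S at its point x' over x: the homomorphism from the local ring of S at the image
point to the local ring of X' at x' is formally smooth. -/
theorem result {X S : Scheme.{u}} (f : X ⟶ S) {r : ℕ} (φ : Fin r → Γ(X, ⊤))
    (hD : SGA1t.IsRelSNC f φ) (x : X) (hx : Nonempty (SGA1t.vanishingAt φ x))
    (n : SGA1t.vanishingAt φ x → ℕ) (hn1 : ∀ i, 1 ≤ n i) :
    letI A := X.presheaf.stalk x
    letI a : SGA1t.vanishingAt φ x → A := fun i => (X.presheaf.germ ⊤ x trivial).hom (φ i.1)
    letI π : Spec (CommRingCat.of (SGA1t.kummer A a n)) ⟶ Spec (CommRingCat.of A) :=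
      Spec.map (CommRingCat.ofHom (algebraMap A (SGA1t.kummer A a n)))
    ∀ x' : Spec (CommRingCat.of (SGA1t.kummer A a n)), π.base x' = IsLocalRing.closedPoint A →
      ((π ≫ X.fromSpecStalk x ≫ f).stalkMap x').hom.FormallySmooth := by
  intro x' hx'
  obtain ⟨U, hU, V, hV, hxV, hVU, d, w, e, he, hEt, hv⟩ :=
    Groth.Agent.KummerTame25.exists_affine_chart f φ hD x hx
  let germ := (X.presheaf.germ V x hxV).hom
  let a : SGA1t.vanishingAt φ x → X.presheaf.stalk x := fun i => (X.presheaf.germ ⊤ x trivial).hom (φ i.1)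
  letI : Algebra Γ(S, U) (X.presheaf.stalk x) := (germ.comp (f.appLE U V hVU).hom).toAlgebra
  let θ : MvPolynomial (ULift.{u} (Fin d)) Γ(S, U) →ₐ[Γ(S, U)] X.presheaf.stalk x :=
    MvPolynomial.aeval fun j => germ (w j)
  have hθ : θ.toRingHom.FormallySmooth := by
    have h1 : θ.toRingHom = germ.comp (MvPolynomial.eval₂Hom (f.appLE U V hVU).hom w) :=
      MvPolynomial.ringHom_ext (fun r => by simp [θ]; rfl) (fun j => by simp [θ])
    rw [h1]
    refine RingHom.FormallySmooth.stableUnderComposition _ _ ?_ ?_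
    · letI := (MvPolynomial.eval₂Hom (f.appLE U V hVU).hom w).toAlgebra
      haveI : Algebra.Etale (MvPolynomial (ULift.{u} (Fin d)) Γ(S, U)) Γ(X, V) := hEt
      show Algebra.FormallySmooth (MvPolynomial (ULift.{u} (Fin d)) Γ(S, U)) Γ(X, V)
      infer_instance
    letI := X.presheaf.algebra_section_stalk (⟨x, hxV⟩ : V)
    haveI := hV.isLocalization_stalk ⟨x, hxV⟩
    show Algebra.FormallySmooth Γ(X, V) (X.presheaf.stalk x)
    exact Algebra.FormallySmooth.of_isLocalization (hV.primeIdealOf ⟨x, hxV⟩).asIdeal.primeCompl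
  have ha : ∀ i, θ (MvPolynomial.X (e i)) = a i := fun i => by
    rw [MvPolynomial.aeval_X, hv]
    exact X.presheaf.germ_res_apply _ x hxV _
  have hK : (algebraMap Γ(S, U) (SGA1t.kummer (X.presheaf.stalk x) a n)).FormallySmooth := by
    rw [RingHom.formallySmooth_algebraMap]
    exact Groth.Agent.KummerTame25.kummer_formallySmooth θ hθ a e he ha n
  refine Groth.Agent.KummerTame25.stalkMap_formallySmooth_of_eq _ hU.fromSpec
    (CommRingCat.ofHom (algebraMap Γ(S, U) (SGA1t.kummer (X.presheaf.stalk x) a n))) hK ?_ x'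
  rw [← hV.fromSpecStalk_eq_fromSpecStalk hxV, IsAffineOpen.fromSpecStalk, Category.assoc,
    ← hU.SpecMap_appLE_fromSpec f hV hVU, ← Category.assoc, ← Category.assoc, ← Spec.map_comp, ← Spec.map_comp]
  rfl

end Groth.Agent.S3710
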