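import Groth.Statements.S3711
-- import your own Groth.Agent.* helpers here
import Groth.Agent.Lib.TamePrincipal25.Basic
import Groth.Agent.Lib.Cyc26.PullDiv

set_option autoImplicit false
set_option backward.isDefEq.respectTransparency false
set_option linter.style.haveILetI false
open CategoryTheory CategoryTheory.Limits AlgebraicGeometry
universe u
open SGA1t

namespace Groth.Agent.S3711

/-- Case of a constant group: let f : X -> S and φ_1, ..., φ_r cut out a strict normal crossings divisor
relative to S with complement U, and let P be a principal C-cover of U for a finite group C whose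
order is invertible in every residue field of S. Then P is tamely ramified on X relatively to S. -/
theorem result {X S : Scheme.{u}} (f : X ⟶ S) {r : ℕ} (φ : Fin r → Γ(X, ⊤))
    (hD : SGA1t.IsRelSNC f φ) (C : Type) [Group C] [Finite C] (hC : ∀ s : S, IsUnit ((Nat.card C : ℕ) : S.residueField s))
    (P : FEt.Cat (SGA1t.compl φ : Scheme.{u})) (ρ : C →* Aut P) (hP : SGA1t.IsPrincipal C P ρ) :
    SGA1t.IsRelTame f φ P := by
  classical
  intro Ω _ _ σ _ y _ hdvr w hw hne
  let T := Limits.pullback f σ
  let pr : T ⟶ X := Limits.pullback.fst f σ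
  let W := Limits.pullback (P.hom ≫ (SGA1t.compl φ).ι) pr
  let q : W ⟶ T := Limits.pullback.snd (P.hom ≫ (SGA1t.compl φ).ι) pr
  haveI : IsFinite P.hom := P.prop.1
  haveI : Etale P.hom := P.prop.2
  haveI : Etale q := MorphismProperty.pullback_snd _ _ (inferInstance : Etale (P.hom ≫ (SGA1t.compl φ).ι))
  -- the action
  let a : C → (W ⟶ W) := fun g => Limits.pullback.lift (Limits.pullback.fst _ _ ≫ (ρ g).hom.left) q (by
    rw [Category.assoc, ← Category.assoc (ρ g).hom.left, show (ρ g).hom.left ≫ P.hom = P.hom from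
      MorphismProperty.Over.w (ρ g).hom]
    exact Limits.pullback.condition)
  have ha1' : ∀ g, a g ≫ Limits.pullback.fst (P.hom ≫ (SGA1t.compl φ).ι) pr =
      Limits.pullback.fst (P.hom ≫ (SGA1t.compl φ).ι) pr ≫ (ρ g).hom.left :=
    fun g => Limits.pullback.lift_fst _ _ _
  have haq : ∀ g, a g ≫ q = q := fun g => Limits.pullback.lift_snd _ _ _
  have ha1 : a 1 = 𝟙 W := Limits.pullback.hom_ext
    (by rw [ha1', map_one, Category.id_comp]; exact Category.comp_id _)
    (by rw [Category.id_comp]; exact haq 1)
  have ham : ∀ g g', a (g * g') = a g' ≫ a g := fun g g' => Limits.pullback.hom_ext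
    (by rw [ha1', Category.assoc, ha1', ← Category.assoc, ha1', map_mul, Category.assoc]; rfl)
    (by rw [Category.assoc]; exact (haq _).trans ((congrArg (a g' ≫ ·) (haq g)).trans (haq g')).symm)
  have htr : ∀ (K : Type u) [Field K] [IsAlgClosed K] (s t : Spec (CommRingCat.of K) ⟶ W), s ≫ q = t ≫ q →
      ∃ g, s ≫ a g = t := by
    intro K _ _ s t hst
    have h1 : (t ≫ Limits.pullback.fst (P.hom ≫ (SGA1t.compl φ).ι) pr) ≫ P.hom =
        (s ≫ Limits.pullback.fst (P.hom ≫ (SGA1t.compl φ).ι) pr) ≫ P.hom := by
      rw [← cancel_mono (SGA1t.compl φ).ι]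
      simp only [Category.assoc, Limits.pullback.condition]
      exact (congrArg (· ≫ pr) hst.symm).trans (Category.assoc _ _ _) |> fun h => (Category.assoc _ _ _).symm.trans h
    obtain ⟨g, hg, -⟩ := hP.2 K ((s ≫ Limits.pullback.fst (P.hom ≫ (SGA1t.compl φ).ι) pr) ≫ P.hom)
      ⟨s ≫ Limits.pullback.fst (P.hom ≫ (SGA1t.compl φ).ι) pr, rfl⟩
      ⟨t ≫ Limits.pullback.fst (P.hom ≫ (SGA1t.compl φ).ι) pr, h1⟩
    refine ⟨g, Limits.pullback.hom_ext ?_ (by rw [Category.assoc]; exact (congrArg (s ≫ ·) (haq g)).trans hst)⟩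
    rw [Category.assoc, ha1', ← Category.assoc]
    exact congrArg Subtype.val hg
  -- the residue extension
  letI algL : Algebra (T.residueField (q.base w)) (W.residueField w) := (q.residueFieldMap w).hom.toAlgebra
  obtain ⟨hG, hfin, hdvd⟩ := Groth.Agent.TamePrincipal25.galois_residue q w
    (AlgebraicClosure (W.residueField w)) C a ha1 ham haq htr
  haveI := hG
  haveI := hfin
  -- the local ring at `y` and its fraction field
  let A := T.presheaf.stalk y
  haveI : IsDiscreteValuationRing A := hdvr
  let u := q.base w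
  letI algA : Algebra A (T.presheaf.stalk u) := (T.presheaf.stalkSpecializes hw).hom.toAlgebra
  have hloc := Groth.Agent.Cyc26.isLocalization_stalkSpecializes hw
  have hker : ∀ r : A, Cyc.specMap y u hw r = 0 → r = 0 := by
    by_contra hb
    push_neg at hb
    obtain ⟨r₀, hr₀, hr₀'⟩ := hb
    haveI : (RingHom.ker (Cyc.specMap y u hw)).IsPrime := RingHom.ker_isPrime _
    have hmax := (IsLocalRing.isMaximal_iff A).mp (Ideal.IsPrime.isMaximal inferInstance
      (fun h => hr₀' ((Submodule.mem_bot A).mp (h ▸ (RingHom.mem_ker.mpr hr₀ :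
        r₀ ∈ RingHom.ker (Cyc.specMap y u hw))))))
    refine hne (hw.antisymm ?_).eq
    obtain ⟨U, hU, hy, -⟩ := exists_isAffineOpen_mem_and_subset (U := (⊤ : T.Opens)) (x := y) trivial
    have hu : u ∈ U := hw.mem_open U.isOpen hy
    rw [← Groth.Agent.VarDim.primeIdealOf_le_iff hU ⟨y, hy⟩ ⟨u, hu⟩]
    intro r hr
    letI := TopCat.Presheaf.algebra_section_stalk T.presheaf (⟨y, hy⟩ : U)
    haveI := hU.isLocalization_stalk ⟨y, hy⟩
    letI := TopCat.Presheaf.algebra_section_stalk T.presheaf (⟨u, hu⟩ : U)
    haveI := hU.isLocalization_stalk ⟨u, hu⟩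
    have h1 : algebraMap Γ(T, U) (T.presheaf.stalk y) r ∈ IsLocalRing.maximalIdeal A :=
      (IsLocalization.AtPrime.to_map_mem_maximal_iff (T.presheaf.stalk y) (hU.primeIdealOf ⟨y, hy⟩).asIdeal r).2 hr
    rw [← hmax, RingHom.mem_ker] at h1
    have h2 : (T.residue u).hom (algebraMap Γ(T, U) (T.presheaf.stalk u) r) = 0 := by
      refine Eq.trans ?_ h1
      exact congrArg (T.residue u).hom (TopCat.Presheaf.germ_stalkSpecializes_apply T.presheaf hy hw r).symm
    exact (IsLocalization.AtPrime.to_map_mem_maximal_iff (T.presheaf.stalk u) (hU.primeIdealOf ⟨u, hu⟩).asIdeal r).1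
      ((IsLocalRing.residue_eq_zero_iff _).1 h2)
  haveI hfrac : IsFractionRing A (T.presheaf.stalk u) := by
    have h : (RingHom.ker (Cyc.specMap y u hw)).primeCompl = nonZeroDivisors A := by
      ext r
      rw [mem_nonZeroDivisors_iff_ne_zero]
      exact ⟨fun h h0 => h (by rw [h0]; exact Ideal.zero_mem _), fun h h' => h (hker r h')⟩
    show IsLocalization (nonZeroDivisors A) (T.presheaf.stalk u)
    exact h ▸ hloc
  letI algAK : Algebra A (T.residueField u) :=
    ((T.residue u).hom.comp (T.presheaf.stalkSpecializes hw).hom).toAlgebra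
  haveI : IsFractionRing A (T.residueField u) := by
    have hF : IsField (T.presheaf.stalk u) :=
      @Field.toIsField _ (IsFractionRing.toField A)
    haveI := hfrac
    let ψ : T.presheaf.stalk u →ₐ[A] T.residueField u := AlgHom.mk (T.residue u).hom fun r => rfl
    have hψ : Function.Bijective ψ := by
      letI := hF.toField
      exact ⟨(T.residue u).hom.injective, IsLocalRing.residue_surjective⟩
    exact IsLocalization.isLocalization_of_algEquiv (nonZeroDivisors A) (AlgEquiv.ofBijective ψ hψ)
  letI algAL : Algebra A (W.residueField w) :=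
    ((q.residueFieldMap w).hom.comp ((T.residue u).hom.comp (T.presheaf.stalkSpecializes hw).hom)).toAlgebra
  haveI : IsScalarTower A (T.residueField (q.base w)) (W.residueField w) :=
    IsScalarTower.of_algebraMap_eq fun _ => rfl
  refine Groth.Agent.EtRamProper29.tame_of_galois A (T.residueField u) (W.residueField w) ?_
  refine Groth.Agent.EtRamProper29.natCast_ne_zero_of_dvd hdvd ?_
  have h := ((hC ((pr ≫ f).base y)).map ((pr ≫ f).residueFieldMap y).hom).ne_zero
  rwa [map_natCast] at h

end Groth.Agent.S3711
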