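import Groth.Statements.S3713
import Groth.Agent.Lib.SmoothRegImm25.SectionChart
import Groth.Agent.Lib.CMChart4
import Mathlib.AlgebraicGeometry.Morphisms.Smooth

set_option autoImplicit false
universe u
open SGA1

namespace Groth.Agent.S3713


open AlgebraicGeometry CategoryTheory MvPolynomial in
/-- The scheme morphism of etale coordinates. -/
theorem etale_homOfVector {X S : Scheme.{u}} (f : X ⟶ S) {U : S.Opens} (hU : IsAffineOpen U) {V : X.Opens}
    (hV : IsAffineOpen V) (hVU : V ≤ f ⁻¹ᵁ U) {σ : Type u} (w : σ → Γ(X, V))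
    (hw : (eval₂Hom (f.appLE U V hVU).hom w).Etale) :
    Etale (AffineSpace.homOfVector (f.resLE U V hVU) (fun j => V.topIso.inv (w j))) := by
  haveI : IsAffine U := hU
  haveI : IsAffine V := hV
  let χ := AffineSpace.homOfVector (f.resLE U V hVU) (fun j => V.topIso.inv (w j))
  rw [← MorphismProperty.cancel_right_of_respectsIso @Etale χ (AffineSpace.isoOfIsAffine σ U).hom,
    HasRingHomProperty.iff_of_isAffine (P := @Etale), Scheme.Hom.comp_appTop, AffineSpace.isoOfIsAffine_hom_appTop,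
    Category.assoc, CommRingCat.hom_comp, RingHom.Etale.respectsIso.cancel_left_isIso]
  have hθ : CommRingCat.Hom.hom (CommRingCat.ofHom (eval₂Hom ((AffineSpace σ (U : Scheme.{u})) ↘ (U : Scheme.{u})).appTop.hom
      (AffineSpace.coord (U : Scheme.{u}))) ≫ χ.appTop) = V.topIso.inv.hom.comp ((eval₂Hom (f.appLE U V hVU).hom w).comp
        (MvPolynomial.map U.topIso.hom.hom)) := by
    refine MvPolynomial.ringHom_ext (fun r => ?_) (fun i => ?_)
    · rw [CommRingCat.hom_comp, RingHom.comp_apply, RingHom.comp_apply, RingHom.comp_apply, map_C,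
        eval₂Hom_C, CommRingCat.hom_ofHom, eval₂Hom_C]
      have h1 : ((AffineSpace σ (U : Scheme.{u})) ↘ (U : Scheme.{u})).appTop ≫ χ.appTop =
          U.topIso.hom ≫ f.appLE U V hVU ≫ V.topIso.inv := by
        rw [← Scheme.Hom.comp_appTop, AffineSpace.homOfVector_over]
        exact Scheme.Hom.resLE_app_top f hVU
      exact CategoryTheory.congr_fun h1 r
    · rw [CommRingCat.hom_comp, RingHom.comp_apply, RingHom.comp_apply, RingHom.comp_apply, map_X,
        eval₂Hom_X', CommRingCat.hom_ofHom, eval₂Hom_X']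
      exact AffineSpace.homOfVector_appTop_coord _ _ i
  rw [hθ]
  exact RingHom.Etale.respectsIso.1 _ V.topIso.symm.commRingCatIsoToRingEquiv
    (RingHom.Etale.respectsIso.2 _ (MvPolynomial.mapEquiv σ U.topIso.commRingCatIsoToRingEquiv) hw)

open AlgebraicGeometry CategoryTheory CategoryTheory.Limits in
/-- Let Y be locally Noetherian, f : X -> Y locally of finite type, i a section of f and y a point of Y.
Then X is smooth over Y at i(y) (i(y) lies in the smooth locus of f) if and only if there are an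
open neighbourhood U of y, an open V of X with i(U) ⊆ V ⊆ f^{-1}(U), and finitely many sections of
O_X over V, all vanishing along i(U), which define an etale U-morphism from V to an affine space
over U (so that this etale chart carries the section to the zero section). -/
theorem result {X Y : Scheme.{u}} [IsLocallyNoetherian Y] (f : X ⟶ Y)
    [LocallyOfFiniteType f] [LocallyOfFinitePresentation f] (i : Y ⟶ X) (hi : i ≫ f = 𝟙 Y) (y : Y) :
    i.base y ∈ f.smoothLocus ↔
      ∃ (U : Y.Opens) (V : X.Opens) (_ : y ∈ U) (hUV : U ≤ i ⁻¹ᵁ V) (hVU : V ≤ f ⁻¹ᵁ U) (m : ℕ)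
        (v : ULift.{u} (Fin m) → Γ(V, ⊤)),
        Etale (AffineSpace.homOfVector (f.resLE U V hVU) v) ∧ ∀ j, (i.resLE V U hUV).appTop (v j) = 0 := by
  constructor
  · intro hx
    obtain ⟨U0, hU0, hyU0, -⟩ := exists_isAffineOpen_mem_and_subset (X := Y) (x := y) (U := ⊤) trivial
    have hfi : f (i y) = y := congrArg (fun g : Y ⟶ Y => g y) hi
    obtain ⟨V0, hV0, hxV0, hVU0⟩ := exists_isAffineOpen_mem_and_subset (X := X) (x := i y) (U := f ⁻¹ᵁ U0)
      (show f (i y) ∈ U0 by rw [hfi]; exact hyU0)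
    obtain ⟨r, hrle, hyr⟩ := hU0.exists_basicOpen_le (V := i ⁻¹ᵁ V0) ⟨y, hxV0⟩ hyU0
    let U1 := Y.basicOpen r
    let V1 := X.basicOpen (f.appLE U0 V0 hVU0 r)
    have hU1 : IsAffineOpen U1 := hU0.basicOpen r
    have hV1 : IsAffineOpen V1 := hV0.basicOpen _
    have hV1eq : V1 = V0 ⊓ f ⁻¹ᵁ U1 := Scheme.basicOpen_appLE f V0 U0 hVU0 r
    have hV1U1 : V1 ≤ f ⁻¹ᵁ U1 := hV1eq.le.trans inf_le_right
    have hU1i : U1 ≤ i ⁻¹ᵁ V1 := fun z hz => by
      show i z ∈ V1
      rw [hV1eq]
      exact ⟨hrle hz, show f (i z) ∈ U1 by rwa [show f (i z) = z from congrArg (fun g : Y ⟶ Y => g z) hi]⟩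
    have hxV1 : i y ∈ V1 := hU1i hyr
    have hfp : (f.appLE U1 V1 hV1U1).hom.FinitePresentation := f.finitePresentation_appLE hU1 hV1 hV1U1
    algebraize [(f.appLE U1 V1 hV1U1).hom]
    let ε : Γ(X, V1) →ₐ[Γ(Y, U1)] Γ(Y, U1) :=
      { (i.appLE V1 U1 hU1i).hom with
        commutes' := fun a => by
          show (f.appLE U1 V1 hV1U1 ≫ i.appLE V1 U1 hU1i) a = a
          rw [Scheme.Hom.appLE_comp_appLE]
          have : (i ≫ f).appLE U1 U1 (by rw [hi]; exact le_refl U1) = 𝟙 _ := by
            simp only [hi]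
            simp only [Scheme.Hom.appLE, Scheme.Hom.id_app]
            exact (Category.id_comp _).trans (Y.presheaf.map_id _)
          exact CategoryTheory.congr_fun this a }
    let Q := (hV1.primeIdealOf ⟨i y, hxV1⟩).asIdeal
    haveI : Algebra.IsSmoothAt Γ(Y, U1) Q :=
      (AlgebraicGeometry.formallySmooth_stalkMap_iff U1 hU1 V1 hV1 hV1U1 hxV1).mp hx
    obtain ⟨s, hs, m, g, hg, het⟩ := Groth.Agent.SmoothRegImm25.exists_etale_coords ε Q
    let V3 := X.basicOpen s
    have hV3 : IsAffineOpen V3 := hV1.basicOpen s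
    have hV31 : V3 ≤ V1 := X.basicOpen_le s
    have hV3U1 : V3 ≤ f ⁻¹ᵁ U1 := hV31.trans hV1U1
    have hxV3 : i y ∈ V3 := by
      rw [Scheme.mem_basicOpen _ _ _ hxV1]
      letI := TopCat.Presheaf.algebra_section_stalk X.presheaf (⟨i y, hxV1⟩ : V1)
      haveI := hV1.isLocalization_stalk ⟨i y, hxV1⟩
      exact IsLocalization.map_units (X.presheaf.stalk (i y)) (⟨s, hs⟩ : Q.primeCompl)
    let w : ULift.{u} (Fin m) → Γ(X, V3) := fun j => X.presheaf.map (homOfLE hV31).op (g j)
    haveI : IsLocalization.Away s Γ(X, V3) := hV1.isLocalization_basicOpen s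
    letI : Algebra Γ(Y, U1) Γ(X, V3) := (f.appLE U1 V3 hV3U1).hom.toAlgebra
    haveI : IsScalarTower Γ(Y, U1) Γ(X, V1) Γ(X, V3) := IsScalarTower.of_algebraMap_eq fun a => by
      show f.appLE U1 V3 hV3U1 a = X.presheaf.map (homOfLE hV31).op (f.appLE U1 V1 hV1U1 a)
      rw [← CommRingCat.comp_apply, Scheme.Hom.appLE_map]
    haveI h3 : Etale (AffineSpace.homOfVector (f.resLE U1 V3 hV3U1) (fun j => V3.topIso.inv (w j))) :=
      etale_homOfVector f hU1 hV3 hV3U1 w (het Γ(X, V3))
    let U2 := U1 ⊓ i ⁻¹ᵁ V3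
    let V2 := V3 ⊓ f ⁻¹ᵁ U2
    have hV2U2 : V2 ≤ f ⁻¹ᵁ U2 := inf_le_right
    have hU2V2 : U2 ≤ i ⁻¹ᵁ V2 := fun z hz => ⟨hz.2, show f (i z) ∈ U2 by
      rwa [show f (i z) = z from congrArg (fun g : Y ⟶ Y => g z) hi]⟩
    let v : ULift.{u} (Fin m) → Γ(V2, ⊤) := fun j => (X.homOfLE (inf_le_left : V2 ≤ V3)).appTop (V3.topIso.inv (w j))
    refine ⟨U2, V2, ⟨hyr, hxV3⟩, hU2V2, hV2U2, m, v, ?_, fun j => ?_⟩
    · let χ := AffineSpace.homOfVector (f.resLE U2 V2 hV2U2) v
      let β := AffineSpace.map (ULift.{u} (Fin m)) (Y.homOfLE (inf_le_left : U2 ≤ U1))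
      haveI : IsOpenImmersion β :=
        MorphismProperty.of_isPullback (P := @IsOpenImmersion) (AffineSpace.isPullback_map _).flip inferInstance
      have hcomp : χ ≫ β = X.homOfLE (inf_le_left : V2 ≤ V3) ≫
          AffineSpace.homOfVector (f.resLE U1 V3 hV3U1) (fun j => V3.topIso.inv (w j)) := by
        rw [AffineSpace.comp_homOfVector]
        refine AffineSpace.hom_ext ?_ fun j => ?_
        · simp only [β, Category.assoc, AffineSpace.map_over, AffineSpace.homOfVector_over]
          rw [← Category.assoc, AffineSpace.homOfVector_over, Scheme.Hom.resLE_map, Scheme.Hom.map_resLE]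
        · refine Eq.trans ?_ (AffineSpace.homOfVector_appTop_coord _ _ j).symm
          exact (congrArg χ.appTop (AffineSpace.map_appTop_coord _ j)).trans
            (AffineSpace.homOfVector_appTop_coord _ v j)
      haveI : Etale (χ ≫ β) := by rw [hcomp]; infer_instance
      exact Etale.of_comp χ β
    · have hg0 : i.appLE V1 U1 hU1i (g j) = 0 := hg j
      show ((i.resLE V2 U2 hU2V2).appTop) ((X.homOfLE (inf_le_left : V2 ≤ V3)).appTop (V3.topIso.inv (w j))) = 0
      rw [← CommRingCat.comp_apply, ← Scheme.Hom.comp_appTop, Scheme.Hom.resLE_map]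
      show ((i.resLE V3 U2 _).app ⊤) (V3.topIso.inv (w j)) = 0
      rw [Scheme.Hom.resLE_app_top]
      show U2.topIso.inv (i.appLE V3 U2 (fun z hz => hz.2) (V3.topIso.hom (V3.topIso.inv (w j)))) = 0
      erw [CategoryTheory.congr_fun V3.topIso.inv_hom_id (w j)]
      have hle : U2 ≤ U1 := inf_le_left
      have h1 : i.appLE V3 U2 (fun z hz => hz.2) (w j) = Y.presheaf.map (homOfLE hle).op (i.appLE V1 U1 hU1i (g j)) := by
        simp only [w]
        rw [← CommRingCat.comp_apply, ← CommRingCat.comp_apply, Scheme.Hom.map_appLE, Scheme.Hom.appLE_map]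
      erw [h1, hg0, map_zero, map_zero]
  · rintro ⟨U, V, hyU, hUV, hVU, m, v, hv, -⟩
    haveI : Smooth (f.resLE U V hVU) := by
      rw [← AffineSpace.homOfVector_over (f.resLE U V hVU) v]
      haveI := hv
      haveI := Groth.Agent.CMEquiDim4.smooth_affineSpace (n := ULift.{u} (Fin m)) (U : Scheme.{u})
      infer_instance
    haveI : Smooth (V.ι ≫ f) := by rw [← Scheme.Hom.resLE_comp_ι f hVU]; infer_instance
    have hmem : i y ∈ V := hUV hyU
    have := (Scheme.Hom.preimage_smoothLocus_eq V.ι f).trans (Scheme.Hom.smoothLocus_eq_top (V.ι ≫ f))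
    exact (this.ge (show (⟨i y, hmem⟩ : V) ∈ (⊤ : (V : Scheme.{u}).Opens) from trivial) :)

end Groth.Agent.S3713
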