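import Groth.Statements.S3718
import Groth.Agent.Lib.AVCov25.Points

set_option autoImplicit false
universe u
open CategoryTheory MonoidalCategory CartesianMonoidalCategory MonObj GrpObj AlgebraicGeometry
open Pi1

namespace Groth.Agent.S3718

variable {K : Type u} [Field K] {A : Over (Spec (CommRingCat.of K))} [GrpObj A] [IsCommMonObj A]

/-- Translation by a rational point. -/
noncomputable def tr (a : 𝟙_ (Over (Spec (CommRingCat.of K))) ⟶ A) : A ⟶ A := 𝟙 A * (toUnit A ≫ a)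

theorem comp_tr {X : Over (Spec (CommRingCat.of K))} (f : X ⟶ A) (a : 𝟙_ (Over (Spec (CommRingCat.of K))) ⟶ A) :
    f ≫ tr a = f * (toUnit X ≫ a) := by
  rw [tr, MonObj.comp_mul, Category.comp_id, ← Category.assoc, toUnit_unique (f ≫ toUnit A) (toUnit X)]

theorem tr_comp_tr (a b : 𝟙_ (Over (Spec (CommRingCat.of K))) ⟶ A) : tr a ≫ tr b = tr (a * b) := by
  rw [comp_tr, tr, tr, MonObj.comp_mul, _root_.mul_assoc]

theorem tr_one : tr (1 : 𝟙_ (Over (Spec (CommRingCat.of K))) ⟶ A) = 𝟙 A := by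
  rw [tr, MonObj.comp_one, _root_.mul_one]

theorem comp_npow {X : Over (Spec (CommRingCat.of K))} (f : X ⟶ A) (n : ℕ) :
    f ≫ (𝟙 A) ^ (n : ℤ) = f ^ n := by
  rw [zpow_natCast, MonObj.comp_pow, Category.comp_id]

theorem tr_comp_npow (a : 𝟙_ (Over (Spec (CommRingCat.of K))) ⟶ A) (n : ℕ) (ha : a ^ (n : ℤ) = 1) :
    tr a ≫ (𝟙 A) ^ (n : ℤ) = (𝟙 A) ^ (n : ℤ) := by
  rw [comp_npow, tr, _root_.mul_pow, zpow_natCast, ← MonObj.comp_pow, ← zpow_natCast a, ha, MonObj.comp_one,
    _root_.mul_one]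

/-- Two maps with the same `n`-th power differ by an `n`-torsion point. -/
theorem exists_tr [IsAlgClosed K] {X : Over (Spec (CommRingCat.of K))} [IsReduced X.left] [ConnectedSpace X.left]
    (n : ℕ) [IsFinite ((𝟙 A) ^ (n : ℤ)).left] (f g : X ⟶ A) (h : f ^ n = g ^ n) :
    ∃ a : 𝟙_ (Over (Spec (CommRingCat.of K))) ⟶ A, a ^ (n : ℤ) = 1 ∧ g = f * (toUnit X ≫ a) := by
  obtain ⟨a, ha, he⟩ := AVCov25.exists_eq_toUnit_comp ((𝟙 A) ^ (n : ℤ)) (f⁻¹ * g) (by
    rw [comp_npow, _root_.mul_pow, inv_pow, h, inv_mul_cancel, MonObj.one_eq_one, MonObj.comp_one])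
  refine ⟨a, ?_, by rw [← he, mul_inv_cancel_left]⟩
  rw [MonObj.one_eq_one] at ha
  rwa [zpow_natCast, ← comp_npow]

/-- The automorphism of the cover given by a torsion point. -/
noncomputable def trAut (n : ℕ) [hF : IsFinite ((𝟙 A) ^ (n : ℤ)).left] [hE : Etale ((𝟙 A) ^ (n : ℤ)).left]
    (a : 𝟙_ (Over (Spec (CommRingCat.of K))) ⟶ A) (ha : a ^ (n : ℤ) = 1) :
    Aut (MorphismProperty.Over.mk ⊤ ((𝟙 A) ^ (n : ℤ)).left ⟨hF, hE⟩ : FEt.Cat A.left) :=
  MorphismProperty.Over.isoMk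
    { hom := (tr a).left
      inv := (tr a⁻¹).left
      hom_inv_id := by
        show (tr a ≫ tr a⁻¹).left = (𝟙 A : A ⟶ A).left
        rw [tr_comp_tr, mul_inv_cancel, tr_one]
      inv_hom_id := by
        show (tr a⁻¹ ≫ tr a).left = (𝟙 A : A ⟶ A).left
        rw [tr_comp_tr, inv_mul_cancel, tr_one] }
    (show (tr a ≫ (𝟙 A) ^ (n : ℤ)).left = ((𝟙 A) ^ (n : ℤ)).left by rw [tr_comp_npow a n ha])

/-- The covers that compute the prime-to-p part of the fundamental group of an abelian variety: let k be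
algebraically closed, A an abelian variety over k (a proper, geometrically integral group scheme
over k) and n ≥ 1 an integer invertible in k. Granted that multiplication by n (the n-th power of
the identity in the group Hom(A, A)) is a finite etale cover of A, it is a Galois cover, and its
automorphisms over A are exactly the translations x -> x + a by the k-points a of A with n a = 0,
each such a giving exactly one automorphism. (With the domination row this identifies the maximal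
prime-to-p quotient of the fundamental group with the inverse limit of the prime-to-p torsion
points.) -/
theorem result (k : Type u) [Field k] [IsAlgClosed k]
    (A : Over (Spec (CommRingCat.of k))) [GrpObj A] [IsProper A.hom] [GeometricallyIntegral A.hom]
    (n : ℕ) (hn1 : 1 ≤ n) (hn : IsUnit ((n : ℕ) : k)) :
    ∀ [hF : IsFinite ((𝟙 A) ^ (n : ℤ)).left] [hE : Etale ((𝟙 A) ^ (n : ℤ)).left],
      PiSp.IsGaloisCover (MorphismProperty.Over.mk ⊤ ((𝟙 A) ^ (n : ℤ)).left ⟨hF, hE⟩ : FEt.Cat A.left) ∧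
      (∀ θ : Aut (MorphismProperty.Over.mk ⊤ ((𝟙 A) ^ (n : ℤ)).left ⟨hF, hE⟩ : FEt.Cat A.left),
        ∃! a : 𝟙_ (Over (Spec (CommRingCat.of k))) ⟶ A, a ^ (n : ℤ) = 1 ∧
          θ.hom.left = ((𝟙 A) * (toUnit A ≫ a)).left) ∧
      (∀ a : 𝟙_ (Over (Spec (CommRingCat.of k))) ⟶ A, a ^ (n : ℤ) = 1 →
        ∃ θ : Aut (MorphismProperty.Over.mk ⊤ ((𝟙 A) ^ (n : ℤ)).left ⟨hF, hE⟩ : FEt.Cat A.left),
          θ.hom.left = ((𝟙 A) * (toUnit A ≫ a)).left) := by
  intro hF hE
  haveI : IsIntegral A.left := GeometricallyIntegral.isIntegral_of_subsingleton A.hom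
  haveI := (AVCov25.abVar_facts A).2.2
  refine ⟨⟨inferInstanceAs (ConnectedSpace A.left), ?_⟩, ?_, fun a ha => ⟨trAut n a ha, rfl⟩⟩
  · intro Ω _ _ ξ s t
    let S : Spec (CommRingCat.of Ω) ⟶ A.left := s.1
    let T : Spec (CommRingCat.of Ω) ⟶ A.left := t.1
    have hst : S ≫ ((𝟙 A) ^ (n : ℤ)).left = T ≫ ((𝟙 A) ^ (n : ℤ)).left := s.2.trans t.2.symm
    let X : Over (Spec (CommRingCat.of k)) := Over.mk (S ≫ A.hom)
    haveI : IsReduced X.left := inferInstanceAs (IsReduced (Spec (CommRingCat.of Ω)))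
    haveI : ConnectedSpace X.left := inferInstanceAs (ConnectedSpace (Spec (CommRingCat.of Ω)))
    let f : X ⟶ A := Over.homMk S rfl
    let g : X ⟶ A := Over.homMk T (by
      show T ≫ A.hom = S ≫ A.hom
      rw [← Over.w ((𝟙 A) ^ (n : ℤ)), reassoc_of% hst])
    have hfg : f ^ n = g ^ n := by
      rw [← comp_npow, ← comp_npow]
      exact Over.OverMorphism.ext hst
    obtain ⟨a, ha, he⟩ := exists_tr n f g hfg
    refine ⟨trAut n a ha, Subtype.ext ?_⟩
    show S ≫ (tr a).left = T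
    have : (f ≫ tr a).left = g.left := by rw [comp_tr, ← he]
    exact this
  · intro θ
    let θ' : A.left ⟶ A.left := θ.hom.left
    have hw : θ' ≫ ((𝟙 A) ^ (n : ℤ)).left = ((𝟙 A) ^ (n : ℤ)).left := Over.w θ.hom.hom
    let T : A ⟶ A := Over.homMk θ' (by
      conv_lhs => rw [← Over.w ((𝟙 A) ^ (n : ℤ)), reassoc_of% hw, Over.w])
    have hT : (𝟙 A) ^ n = T ^ n := by
      rw [← comp_npow, ← comp_npow]
      exact Over.OverMorphism.ext ((Category.id_comp _).trans hw.symm)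
    obtain ⟨a, ha, he⟩ := exists_tr n (𝟙 A) T hT
    refine ⟨a, ⟨ha, congrArg (fun f : A ⟶ A => f.left) he⟩, ?_⟩
    rintro b ⟨-, hb⟩
    have e : (𝟙 A) * (toUnit A ≫ b) = (𝟙 A) * (toUnit A ≫ a) :=
      (Over.OverMorphism.ext hb).symm.trans he
    have e' := congrArg (η[A] ≫ ·) (mul_left_cancel e)
    simpa [← Category.assoc, toUnit_unique (η[A] ≫ toUnit A) (𝟙 _)] using e'

end Groth.Agent.S3718
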