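import Groth.Statements.S3719
import Groth.Agent.Lib.AffCompl.Compl
import Groth.Agent.Lib.VB17.Setup
import Groth.Agent.Lib.Disc25.NormalScheme
import Groth.Agent.Lib.H12.Dim
import Groth.Agent.S0388
import Groth.Agent.S1297
import Groth.Agent.Lib.ProjSpace.Basic

set_option autoImplicit false
universe u
open Pi1

namespace Groth.Agent.S3719

open AlgebraicGeometry CategoryTheory CategoryTheory.Limits in
/-- Let k be algebraically closed, X a proper, irreducible, normal k-scheme, g : X -> P^r_k a k-morphism
whose image has closure of dimension at least 2, H the hyperplane where a nonzero linear form ℓ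
vanishes, and X' a connected finite etale cover of X. Then the inverse image of H in X' is
connected. (For X' = X this is the connectedness of the hyperplane section Y = g⁻¹(H), and the
general case is the surjectivity of the fundamental group of Y onto that of X.) -/
theorem result (k : Type u) [Field k] [IsAlgClosed k] (X : Scheme.{u})
    [X.Over (Spec (CommRingCat.of k))] [IsProper (X ↘ Spec (CommRingCat.of k))] [IrreducibleSpace X]
    (hN : Pi1.IsNormalScheme X) (r : ℕ) (g : X ⟶ CohB1.ProjSpace r k)
    (hg : g ≫ CohB1.ProjSpace.toSpec r k = X ↘ Spec (CommRingCat.of k))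
    (hdim : 2 ≤ topologicalKrullDim ↥(closure (Set.range g.base)))
    (ℓ : MvPolynomial (Fin (r + 1)) k) (hℓ : ℓ ∈ CohB1.polyGrading r k 1) (hℓ0 : ℓ ≠ 0)
    (X' : FEt.Cat X) [ConnectedSpace X'.left] :
    IsConnected (((X'.hom ≫ g).base ⁻¹' (Proj.basicOpen (CohB1.polyGrading r k) ℓ).carrier)ᶜ) := by
  haveI : IsFinite X'.hom := X'.prop.1
  haveI : Etale X'.hom := X'.prop.2
  let e : X'.left ⟶ X := X'.hom
  haveI : IsFinite e := X'.prop.1
  haveI : Etale e := X'.prop.2
  show _root_.IsConnected ((((e ≫ g).base ⁻¹' (Proj.basicOpen (CohB1.polyGrading r k) ℓ).carrier))ᶜ)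
  let P := CohB1.ProjSpace r k
  let π : P ⟶ Spec (CommRingCat.of k) := CohB1.ProjSpace.toSpec r k
  let q : X'.left ⟶ P := e ≫ g
  haveI : IsProper (q ≫ π) := by
    rw [Category.assoc, hg]
    infer_instance
  haveI : IsProper π := by unfold π; infer_instance
  haveI : IsProper q := IsProper.of_comp q π
  haveI : IsLocallyNoetherian P := LocallyOfFiniteType.isLocallyNoetherian π
  haveI : IsLocallyNoetherian X'.left := LocallyOfFiniteType.isLocallyNoetherian (q ≫ π)
  haveI : CompactSpace X'.left := QuasiCompact.compactSpace_of_compactSpace (q ≫ π)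
  haveI : IsNoetherian X'.left := {}
  haveI : IsIntegral X'.left := Groth.Agent.VB17.isIntegral_of_connected fun y =>
    (Groth.Agent.Disc25.isNormalScheme_of_finite_etale e hN y).1
  have hsurj : Function.Surjective e.base :=
    Set.range_eq_univ.1 (IsClopen.eq_univ ⟨e.isClosedMap.isClosed_range, e.isOpenMap.isOpen_range⟩
      (Set.range_nonempty _))
  have hrange : closure (Set.range g.base) = Set.range q.base := by
    have h : Set.range q.base = Set.range g.base := by
      show Set.range (g.base ∘ e.base) = _
      rw [hsurj.range_comp]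
    rw [← h]
    exact q.isClosedMap.isClosed_range.closure_eq
  haveI : GeometricallyConnected q.toNormalization := (Groth.Agent.S0388.result q).1
  haveI : IsFinite q.fromNormalization := Groth.Agent.S1297.result q
  let a := q.toNormalization
  let b := q.fromNormalization
  haveI : IsFinite b := Groth.Agent.S1297.result q
  have hab : a ≫ b = q := q.toNormalization_fromNormalization
  haveI : IsProper (a ≫ b) := hab.symm ▸ inferInstance
  haveI : IsProper a := IsProper.of_comp a b
  haveI : IrreducibleSpace q.normalization := by
    have h := (IrreducibleSpace.isIrreducible_univ X'.left).image a.base a.continuous.continuousOn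
    rw [Set.image_univ, a.surjective.range_eq] at h
    haveI : PreirreducibleSpace q.normalization := ⟨h.2⟩
    exact { toNonempty := ⟨a.base (Classical.arbitrary _)⟩ }
  have hdimN : (2 : WithBot ℕ∞) ≤ topologicalKrullDim q.normalization := by
    refine hdim.trans ?_
    have hr : closure (Set.range g.base) = Set.range b.base := by
      rw [hrange, show ⇑q.base = b.base ∘ a.base from
        (congrArg (fun φ : X'.left ⟶ P => ⇑φ.base) hab).symm, a.surjective.range_comp]
    rw [hr]
    haveI : QuasiSober (Set.range b.base) :=
      b.isClosedMap.isClosed_range.isClosedEmbedding_subtypeVal.quasiSober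
    refine Groth.Agent.H12.topologicalKrullDim_le_of_surjective_of_lift (Set.rangeFactorization b.base)
      Set.rangeFactorization_surjective (Or.inl (IsClosedMap.specializingMap ?_))
    exact b.isClosedMap.codRestrict _
  let U : P.Opens := Proj.basicOpen (CohB1.polyGrading r k) ℓ
  have hU' : IsAffineOpen U := Proj.isAffineOpen_basicOpen (CohB1.polyGrading r k) ℓ hℓ Nat.one_pos
  have hU : IsAffineOpen (b ⁻¹ᵁ U) := hU'.preimage b
  have hc : _root_.IsConnected (((b ⁻¹ᵁ U : q.normalization.Opens) : Set q.normalization)ᶜ) := by
    rcases ((b ⁻¹ᵁ U : q.normalization.Opens) : Set q.normalization).eq_empty_or_nonempty with h | h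
    · rw [h, Set.compl_empty]
      exact isConnected_univ
    · exact Groth.Agent.AffCompl.isConnected_compl_affineOpen (b ≫ π) hdimN hU h
  have h := Topology.IsCoinducing.isConnected_preimage_of_isClosed a.isConnected_preimage_singleton
    (a.isClosedMap.isQuotientMap a.continuous a.surjective).isCoinducing (b ⁻¹ᵁ U).2.isClosed_compl hc
  rw [Set.preimage_compl] at h
  show _root_.IsConnected ((q.base ⁻¹' U)ᶜ)
  rw [show ⇑q.base = b.base ∘ a.base from
    (congrArg (fun φ : X'.left ⟶ P => ⇑φ.base) hab).symm]
  exact h

end Groth.Agent.S3719
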