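import Groth.Statements.S3720
import Groth.Agent.Lib.KummerLoc25.Alg
import Mathlib.AlgebraicGeometry.Morphisms.Etale
import Mathlib.Algebra.MvPolynomial.Equiv
-- import your own Groth.Agent.* helpers here

set_option autoImplicit false
open CategoryTheory CategoryTheory.Limits AlgebraicGeometry
universe u
open SGA1t

namespace Groth.Agent.S3720

/-- Kummer theory over a local ring: let A be a local ring, n ≥ 1 an integer invertible in A, and
suppose A contains a primitive n-th root of unity (so that the group μ_n(A) of n-th roots of unity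
in A is cyclic of order n). Then every principal μ_n(A)-cover P of Spec A is isomorphic over Spec A
to a Kummer cover Spec A[T]/(Tⁿ − a) for some unit a of A, compatibly with the actions: the given
action of a root of unity ζ on P corresponds to the automorphism of A[T]/(Tⁿ − a) induced by T ↦ ζT. -/
theorem result (A : Type u) [CommRing A] [IsLocalRing A] (n : ℕ) (hn1 : 1 ≤ n)
    (hn : IsUnit ((n : ℕ) : A)) (ζ₀ : A) (hζ₀ : IsPrimitiveRoot ζ₀ n)
    (P : FEt.Cat (Spec (CommRingCat.of A))) (ρ : ↥(rootsOfUnity n A) →* Aut P)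
    (hP : SGA1t.IsPrincipal ↥(rootsOfUnity n A) P ρ) :
    ∃ (a : Aˣ) (e : P.left ≅ Spec (CommRingCat.of (SGA1t.kummer A (fun _ : Unit => (a : A)) (fun _ => n)))),
      e.hom ≫ Spec.map (CommRingCat.ofHom (algebraMap A (SGA1t.kummer A (fun _ : Unit => (a : A)) (fun _ => n)))) = P.hom ∧
      ∀ ζ : ↥(rootsOfUnity n A), (ρ ζ).hom.left ≫ e.hom =
        e.hom ≫ Spec.map (CommRingCat.ofHom (SGA1t.kummerTwist A (fun _ : Unit => (a : A)) (fun _ => n) (fun _ => ζ))) := by
  classical
  haveI : IsFinite P.hom := P.prop.1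
  haveI : Etale P.hom := P.prop.2
  haveI : IsAffine ((Functor.fromPUnit (Spec (CommRingCat.of A))).obj P.right) :=
    inferInstanceAs (IsAffine (Spec (CommRingCat.of A)))
  haveI : IsAffine P.left := isAffine_of_isAffineHom P.hom
  let φ : CommRingCat.of A ⟶ Γ(P.left, ⊤) := (Scheme.ΓSpecIso (CommRingCat.of A)).inv ≫ P.hom.appTop
  have hP' : P.hom = P.left.isoSpec.hom ≫ Spec.map φ := by
    rw [Spec.map_comp, ← Category.assoc, Scheme.isoSpec_hom_naturality, Category.assoc]
    erw [Scheme.isoSpec_Spec_hom]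
    rw [← Spec.map_comp, Iso.inv_hom_id, Spec.map_id]
    exact (Category.comp_id _).symm
  have hsm : P.left.isoSpec.inv ≫ P.hom = Spec.map φ := by rw [hP', Iso.inv_hom_id_assoc]
  letI : Algebra A Γ(P.left, ⊤) := φ.hom.toAlgebra
  haveI : IsFinite (Spec.map φ) := hsm ▸ inferInstance
  haveI : Etale (Spec.map φ) := hsm ▸ inferInstance
  haveI : Module.Finite A Γ(P.left, ⊤) := (IsFinite.SpecMap_iff φ).1 inferInstance
  haveI : Algebra.Etale A Γ(P.left, ⊤) := RingHom.etale_algebraMap.1 ((HasRingHomProperty.Spec_iff (P := @Etale)).1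
    (inferInstance : Etale (Spec.map φ)))
  -- the action on functions
  have hρ : ∀ g, (ρ g).hom.left.appTop.hom.comp φ.hom = φ.hom := fun g => by
    have h : P.hom = (ρ g).hom.left ≫ P.hom := (Over.w (ρ g).hom.hom).symm
    rw [← CommRingCat.hom_comp, Category.assoc, ← Scheme.Hom.comp_appTop, ← h]
  let σ : rootsOfUnity n A → Γ(P.left, ⊤) →ₐ[A] Γ(P.left, ⊤) := fun g =>
    { (ρ g).hom.left.appTop.hom with commutes' := fun a => RingHom.congr_fun (hρ g) a }
  have hσ : ∀ g h, σ (g * h) = (σ h).comp (σ g) := fun g h => by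
    refine AlgHom.ext fun x => ?_
    show (ρ (g * h)).hom.left.appTop x = (ρ h).hom.left.appTop ((ρ g).hom.left.appTop x)
    rw [map_mul, ← CommRingCat.comp_apply, ← Scheme.Hom.comp_appTop]
    rfl
  -- a geometric point of the closed fibre
  let Ω := AlgebraicClosure (IsLocalRing.ResidueField A)
  letI : Algebra A Ω := ((algebraMap (IsLocalRing.ResidueField A) Ω).comp (IsLocalRing.residue A)).toAlgebra
  haveI : IsLocalHom (algebraMap A Ω) := ⟨fun a ha => by
    rw [← IsLocalRing.residue_ne_zero_iff_isUnit]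
    intro h0
    exact ha.ne_zero (show algebraMap (IsLocalRing.ResidueField A) Ω (IsLocalRing.residue A a) = 0 by rw [h0, map_zero])⟩
  obtain ⟨y, hy⟩ := hP.1 (IsLocalRing.closedPoint A)
  let p : PrimeSpectrum Γ(P.left, ⊤) := P.left.isoSpec.hom y
  have hp : p.asIdeal.comap φ.hom = IsLocalRing.maximalIdeal A := by
    have h1 : Spec.map φ (P.left.isoSpec.hom y) = IsLocalRing.closedPoint A := by
      rw [← hy, ← Scheme.Hom.comp_apply, ← hP']
    exact congrArg PrimeSpectrum.asIdeal h1
  obtain ⟨φ₀⟩ : Nonempty (Γ(P.left, ⊤) →ₐ[A] Ω) := by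
    letI : Algebra (IsLocalRing.ResidueField A) (Γ(P.left, ⊤) ⧸ p.asIdeal) :=
      (Ideal.Quotient.lift (IsLocalRing.maximalIdeal A) ((Ideal.Quotient.mk p.asIdeal).comp φ.hom) fun a ha =>
        Ideal.Quotient.eq_zero_iff_mem.2 (show φ.hom a ∈ p.asIdeal by rwa [← hp] at ha)).toAlgebra
    haveI : IsScalarTower A (IsLocalRing.ResidueField A) (Γ(P.left, ⊤) ⧸ p.asIdeal) :=
      IsScalarTower.of_algebraMap_eq fun a => rfl
    haveI : Module.Finite (IsLocalRing.ResidueField A) (Γ(P.left, ⊤) ⧸ p.asIdeal) := Module.Finite.of_restrictScalars_finite A _ _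
    let ψ : (Γ(P.left, ⊤) ⧸ p.asIdeal) →ₐ[IsLocalRing.ResidueField A] Ω := IsAlgClosed.lift
    exact ⟨{ ψ.toRingHom.comp (Ideal.Quotient.mk p.asIdeal) with
      commutes' := fun a => ψ.commutes (IsLocalRing.residue A a) }⟩
  have htr : ∀ ψ : Γ(P.left, ⊤) →ₐ[A] Ω, ∃! g, φ₀.comp (σ g) = ψ := by
    intro ψ
    let ξ : Spec (CommRingCat.of Ω) ⟶ Spec (CommRingCat.of A) := Spec.map (CommRingCat.ofHom (algebraMap A Ω))
    let pt : (Γ(P.left, ⊤) →ₐ[A] Ω) → FEt.fiberObj ξ P := fun χ =>
      ⟨Spec.map (CommRingCat.ofHom χ.toRingHom) ≫ P.left.isoSpec.inv, by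
        rw [Category.assoc, hsm, ← Spec.map_comp]
        exact congrArg Spec.map (CommRingCat.hom_ext (RingHom.ext fun a => χ.commutes a))⟩
    have key : ∀ g, (FEt.fiber ξ).map (ρ g).hom (pt φ₀) = pt ψ ↔ φ₀.comp (σ g) = ψ := fun g => by
      have e1 : ((FEt.fiber ξ).map (ρ g).hom (pt φ₀)).1 =
          Spec.map (CommRingCat.ofHom (φ₀.comp (σ g)).toRingHom) ≫ P.left.isoSpec.inv := by
        show (Spec.map (CommRingCat.ofHom φ₀.toRingHom) ≫ P.left.isoSpec.inv) ≫ (ρ g).hom.left = _
        rw [show (CommRingCat.ofHom (φ₀.comp (σ g)).toRingHom) = (ρ g).hom.left.appTop ≫ CommRingCat.ofHom φ₀.toRingHom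
          from rfl, Spec.map_comp, Category.assoc, Category.assoc]
        congr 1
        rw [Iso.inv_comp_eq, ← Category.assoc, Scheme.isoSpec_hom_naturality, Category.assoc, Iso.hom_inv_id,
          Category.comp_id]
      constructor
      · intro h
        have h' := congrArg Subtype.val h
        rw [e1, cancel_mono] at h'
        exact AlgHom.coe_ringHom_injective (congrArg CommRingCat.Hom.hom (Spec.map_injective h'))
      · intro h
        exact Subtype.ext (by rw [e1, h])
    obtain ⟨g, hg, hguniq⟩ := hP.2 Ω ξ (pt φ₀) (pt ψ)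
    exact ⟨g, (key g).1 hg, fun g' hg' => hguniq g' ((key g').2 hg')⟩
  obtain ⟨e, a, b, hb, hen, heig⟩ := Groth.Agent.KummerLoc25.exists_eigen_basis hn1 hn hζ₀ σ hσ Ω φ₀ htr
  -- the comparison with the Kummer algebra
  let K := SGA1t.kummer A (fun _ : Unit => (a : A)) (fun _ => n)
  let Φ : K →ₐ[A] Γ(P.left, ⊤) := Ideal.Quotient.liftₐ _ (MvPolynomial.aeval fun _ => e) (fun z hz => by
    have hle : Ideal.span (Set.range fun _ : Unit => (MvPolynomial.X () : MvPolynomial Unit A) ^ n - MvPolynomial.C (a : A)) ≤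
        RingHom.ker (MvPolynomial.aeval (R := A) fun _ : Unit => e) := by
      rw [Ideal.span_le]
      rintro _ ⟨i, rfl⟩
      simp [hen]
    exact hle hz)
  have hΦbij : Function.Bijective Φ := by
    constructor
    · rw [injective_iff_map_eq_zero]
      intro z hz
      obtain ⟨q, rfl⟩ := Ideal.Quotient.mk_surjective z
      let Q := MvPolynomial.uniqueAlgEquiv A Unit q
      let M : Polynomial A := Polynomial.X ^ n - Polynomial.C (a : A)
      have hM : M.Monic := Polynomial.monic_X_pow_sub_C _ (by omega)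
      have hQ : ∀ p : MvPolynomial Unit A, Polynomial.aeval e (MvPolynomial.uniqueAlgEquiv A Unit p) =
          MvPolynomial.aeval (fun _ => e) p := fun p => by
        refine DFunLike.congr_fun (MvPolynomial.algHom_ext (f := (Polynomial.aeval e).comp
          (MvPolynomial.uniqueAlgEquiv A Unit).toAlgHom) (g := MvPolynomial.aeval fun _ => e) fun i => ?_) p
        simp
      have h0 : Polynomial.aeval e (Q %ₘ M) = 0 := by
        have h1 : Polynomial.aeval e M = 0 := by simp [M, hen]
        rw [Polynomial.modByMonic_eq_sub_mul_div, map_sub, map_mul, h1, zero_mul, sub_zero]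
        exact (hQ q).trans hz
      have hdeg : (Q %ₘ M).natDegree < n := by
        refine lt_of_lt_of_le (Polynomial.natDegree_modByMonic_lt Q hM ?_) (Polynomial.natDegree_X_pow_sub_C (r := (a : A))).le
        intro h
        have := congrArg Polynomial.natDegree h
        rw [Polynomial.natDegree_X_pow_sub_C, Polynomial.natDegree_one] at this
        omega
      have hr : Q %ₘ M = 0 := by
        rw [Polynomial.aeval_eq_sum_range' hdeg, ← Fin.sum_univ_eq_sum_range (fun i => (Q %ₘ M).coeff i • e ^ i)] at h0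
        simp only [← hb] at h0
        have h2 := Fintype.linearIndependent_iff.1 b.linearIndependent _ h0
        ext i
        rcases lt_or_ge i n with hi | hi
        · rw [Polynomial.coeff_zero]; exact h2 ⟨i, hi⟩
        · rw [Polynomial.coeff_zero]; exact Polynomial.coeff_eq_zero_of_natDegree_lt (lt_of_lt_of_le hdeg hi)
      obtain ⟨c, hc⟩ := (Polynomial.modByMonic_eq_zero_iff_dvd hM).1 hr
      rw [Ideal.Quotient.eq_zero_iff_mem]
      have hMs : (MvPolynomial.uniqueAlgEquiv A Unit).symm M =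
          (MvPolynomial.X () : MvPolynomial Unit A) ^ n - MvPolynomial.C (a : A) := by
        simp [M]
      rw [show q = (MvPolynomial.uniqueAlgEquiv A Unit).symm Q from (AlgEquiv.symm_apply_apply _ q).symm, hc, map_mul,
        hMs]
      exact Ideal.mul_mem_right _ _ (Ideal.subset_span ⟨(), rfl⟩)
    · intro z
      refine ⟨∑ i, b.repr z i • (Ideal.Quotient.mk _ (MvPolynomial.X ()) : K) ^ (i : ℕ), ?_⟩
      rw [map_sum]
      conv_rhs => rw [← b.sum_repr z]
      refine Finset.sum_congr rfl fun i _ => ?_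
      rw [map_smul, map_pow, hb]
      congr 2
      exact MvPolynomial.aeval_X _ _
  let eK : CommRingCat.of K ≅ Γ(P.left, ⊤) := (AlgEquiv.ofBijective Φ hΦbij).toRingEquiv.toCommRingCatIso
  refine ⟨a, P.left.isoSpec ≪≫ Scheme.Spec.mapIso eK.op, ?_, fun ζ => ?_⟩
  · rw [hP', Iso.trans_hom, Category.assoc]
    congr 1
    show Spec.map eK.hom ≫ _ = _
    rw [← Spec.map_comp]
    exact congrArg Spec.map (CommRingCat.hom_ext (RingHom.ext fun r => Φ.commutes r))
  · rw [Iso.trans_hom, ← Category.assoc, ← Scheme.isoSpec_hom_naturality, Category.assoc, Category.assoc]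
    congr 1
    show Spec.map _ ≫ Spec.map eK.hom = Spec.map eK.hom ≫ _
    rw [← Spec.map_comp, ← Spec.map_comp]
    refine congrArg Spec.map (CommRingCat.hom_ext (Ideal.Quotient.ringHom_ext ?_))
    refine MvPolynomial.ringHom_ext (fun r => ?_) (fun i => ?_)
    · show σ ζ (MvPolynomial.aeval (R := A) (fun _ => e) (MvPolynomial.C r)) = Φ (SGA1t.kummerTwist A _ _ _ (Ideal.Quotient.mk _ (MvPolynomial.C r)))
      rw [SGA1t.kummerTwist, Ideal.Quotient.lift_mk, MvPolynomial.aeval_C]
      simp only [RingHom.comp_apply, AlgHom.toRingHom_eq_coe, RingHom.coe_coe, MvPolynomial.aeval_C]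
      rw [AlgHom.commutes, MvPolynomial.algebraMap_eq]
      exact (MvPolynomial.aeval_C _ _).symm
    · show σ ζ (MvPolynomial.aeval (R := A) (fun _ => e) (MvPolynomial.X i)) = Φ (SGA1t.kummerTwist A _ _ _ (Ideal.Quotient.mk _ (MvPolynomial.X i)))
      rw [SGA1t.kummerTwist, Ideal.Quotient.lift_mk]
      simp only [RingHom.comp_apply, AlgHom.toRingHom_eq_coe, RingHom.coe_coe, MvPolynomial.aeval_X]
      rw [heig]
      refine (show _ = MvPolynomial.aeval (R := A) (fun _ => e) (MvPolynomial.C (((ζ : Aˣ) : A)) * MvPolynomial.X i) from ?_).trans rfl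
      rw [map_mul, MvPolynomial.aeval_C, MvPolynomial.aeval_X]

end Groth.Agent.S3720
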