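import Groth.Statements.S3721
import Groth.Agent.Lib.ASTorsor3.Alg
import Mathlib.RingTheory.Flat.FaithfullyFlat.Algebra
import Mathlib.AlgebraicGeometry.Morphisms.Etale

set_option autoImplicit false
open CategoryTheory CategoryTheory.Limits AlgebraicGeometry
universe u
open SGA1t

namespace Groth.Agent.S3721

/-- Let p be a prime and A a commutative ring of characteristic p. Then every principal ℤ/p-cover P of
Spec A (a finite étale cover with an action of ℤ/p making it a torsor) is isomorphic over Spec A to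
an Artin–Schreier cover Spec A[T]/(T^p − T − a) for some a ∈ A, compatibly with the actions: under
the isomorphism the given action of j ∈ ℤ/p on P corresponds to the automorphism of the
Artin–Schreier cover induced by T ↦ T + j. The published statement is for any base S of
characteristic p on which Frobenius fixes no nonzero element of H¹(S, O_S); it is stated here for S
= Spec A affine. -/
theorem result (A : Type u) [CommRing A] (p : ℕ) [Fact p.Prime] [CharP A p]
    (P : FEt.Cat (Spec (CommRingCat.of A))) (ρ : Multiplicative (ZMod p) →* Aut P)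
    (hP : SGA1t.IsPrincipal (Multiplicative (ZMod p)) P ρ) :
    ∃ (a : A) (e : P.left ≅ Spec (CommRingCat.of (SGA1t.artinSchreier A p a))),
      e.hom ≫ Spec.map (CommRingCat.ofHom (algebraMap A (SGA1t.artinSchreier A p a))) = P.hom ∧
      ∀ j : ZMod p, (ρ (Multiplicative.ofAdd j)).hom.left ≫ e.hom =
        e.hom ≫ Spec.map (CommRingCat.ofHom (SGA1t.artinSchreierShift A p a j)) := by
  let f : P.left ⟶ Spec (CommRingCat.of A) := P.hom
  show ∃ (a : A) (e : P.left ≅ Spec (CommRingCat.of (SGA1t.artinSchreier A p a))), _ = f ∧ _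
  haveI : IsFinite f := P.prop.1
  haveI : Etale f := P.prop.2
  haveI : IsAffine P.left := isAffine_of_isAffineHom f
  let B : Type u := Γ(P.left, ⊤)
  let ψ : CommRingCat.of A ⟶ Γ(P.left, ⊤) := (Scheme.ΓSpecIso _).inv ≫ f.appTop
  letI : Algebra A B := ψ.hom.toAlgebra
  have hP0 : P.left.isoSpec.hom ≫ Spec.map ψ = f := by
    rw [Spec.map_comp, Scheme.isoSpec_hom_naturality_assoc, Scheme.isoSpec_Spec_hom, ← Spec.map_comp, Iso.inv_hom_id,
      Spec.map_id, Category.comp_id]
  have het : ψ.hom.Etale := by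
    have h := (HasRingHomProperty.iff_of_isAffine (P := @Etale) (f := f)).1 inferInstance
    exact RingHom.Etale.respectsIso.2 f.appTop.hom (Scheme.ΓSpecIso (CommRingCat.of A)).symm.commRingCatIsoToRingEquiv h
  haveI : Algebra.Etale A B := het
  haveI : Module.Finite A B := by
    have h := f.finite_appTop
    exact RingHom.finite_respectsIso.2 f.appTop.hom (Scheme.ΓSpecIso (CommRingCat.of A)).symm.commRingCatIsoToRingEquiv h
  haveI : Module.FaithfullyFlat A B := by
    refine Module.FaithfullyFlat.of_comap_surjective fun q => ?_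
    obtain ⟨x, hx⟩ : ∃ x, f.base x = q := hP.1 q
    refine ⟨P.left.isoSpec.hom.base x, ?_⟩
    rw [← hx]
    conv_rhs => rw [← hP0]
    rfl
  -- the action on sections
  let act : ZMod p → (P.left ⟶ P.left) := fun j => (ρ (Multiplicative.ofAdd j)).hom.left
  have hw : ∀ j, act j ≫ f = f := fun j => Over.w (ρ (Multiplicative.ofAdd j)).hom.hom
  have hact0 : act 0 = 𝟙 _ := by
    show (ρ (Multiplicative.ofAdd 0)).hom.left = _
    rw [ofAdd_zero, map_one]
    rfl
  have hactadd : ∀ i j, act (i + j) = act j ≫ act i := fun i j => by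
    show (ρ (Multiplicative.ofAdd (i + j))).hom.left = _
    rw [ofAdd_add, map_mul, Aut.Aut_mul_def]
    rfl
  let σ : ZMod p → (B →ₐ[A] B) := fun j =>
    { (act j).appTop.hom with
      commutes' := fun a => by
        show (act j).appTop.hom (ψ.hom a) = ψ.hom a
        rw [← CommRingCat.comp_apply]
        congr 2
        show ((Scheme.ΓSpecIso _).inv ≫ f.appTop) ≫ (act j).appTop = _
        rw [Category.assoc, ← Scheme.Hom.comp_appTop, hw] }
  have hσ0 : ∀ b, σ 0 b = b := fun b => by
    show (act 0).appTop.hom b = b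
    rw [hact0]
    rfl
  have hσadd : ∀ i j b, σ (i + j) b = σ i (σ j b) := fun i j b => by
    show (act (i + j)).appTop.hom b = (act i).appTop.hom ((act j).appTop.hom b)
    rw [add_comm i j, hactadd]
    rfl
  have hnat : ∀ j, P.left.isoSpec.inv ≫ act j = Spec.map (CommRingCat.ofHom (σ j).toRingHom) ≫ P.left.isoSpec.inv := by
    intro j
    rw [Iso.inv_comp_eq, ← Category.assoc, Iso.eq_comp_inv, ← Scheme.isoSpec_hom_naturality]
    rfl
  have hfree : ∀ (Ω : Type u) [Field Ω] [IsAlgClosed Ω] (χ χ' : B →+* Ω),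
      χ.comp (algebraMap A B) = χ'.comp (algebraMap A B) → ∃! j : ZMod p, χ' = χ.comp (σ j).toRingHom := by
    intro Ω _ _ χ χ' hχ
    let pt : (B →+* Ω) → (Spec (CommRingCat.of Ω) ⟶ P.left) := fun x => Spec.map (CommRingCat.ofHom x) ≫ P.left.isoSpec.inv
    have hpt : ∀ x, pt x ≫ f = Spec.map (CommRingCat.ofHom (x.comp (algebraMap A B))) := fun x => by
      rw [← hP0, Category.assoc, Iso.inv_hom_id_assoc, ← Spec.map_comp]
      rfl
    have key : ∀ j, pt χ ≫ act j = pt χ' ↔ χ' = χ.comp (σ j).toRingHom := fun j => by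
      show (Spec.map (CommRingCat.ofHom χ) ≫ P.left.isoSpec.inv) ≫ act j = Spec.map _ ≫ P.left.isoSpec.inv ↔ _
      rw [Category.assoc, hnat, ← Category.assoc, cancel_mono, ← Spec.map_comp, Spec.map_inj, eq_comm]
      exact ⟨fun h => congrArg CommRingCat.Hom.hom h, fun h => CommRingCat.hom_ext h⟩
    obtain ⟨g, hg, hg'⟩ := hP.2 Ω (Spec.map (CommRingCat.ofHom (χ.comp (algebraMap A B)))) ⟨pt χ, hpt χ⟩
      ⟨pt χ', by rw [hpt, hχ]⟩
    exact ⟨g.toAdd, (key _).1 (congrArg Subtype.val hg),
      fun j hj => congrArg Multiplicative.toAdd (hg' (Multiplicative.ofAdd j) (Subtype.ext ((key j).2 hj)))⟩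
  obtain ⟨a, φ, hφ⟩ := ASTorsor3.exists_artinSchreier σ hσ0 hσadd hfree
  let φ' : CommRingCat.of (SGA1t.artinSchreier A p a) ≅ Γ(P.left, ⊤) := φ.toRingEquiv.toCommRingCatIso
  refine ⟨a, P.left.isoSpec ≪≫ Scheme.Spec.mapIso φ'.op, ?_, fun j => ?_⟩
  · rw [← hP0]
    show (P.left.isoSpec.hom ≫ Spec.map φ'.hom) ≫ _ = _
    rw [Category.assoc, ← Spec.map_comp]
    congr 2
    ext x
    exact φ.commutes x
  · show act j ≫ P.left.isoSpec.hom ≫ Spec.map φ'.hom = (P.left.isoSpec.hom ≫ Spec.map φ'.hom) ≫ _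
    rw [← Scheme.isoSpec_hom_naturality_assoc, Category.assoc, ← Spec.map_comp, ← Spec.map_comp]
    congr 2
    exact CommRingCat.hom_ext (RingHom.ext fun x => (hφ j x).symm)

end Groth.Agent.S3721
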