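import Groth.Statements.S3722
import Groth.Agent.Lib.PBC24.ShriekPlus
import Groth.Agent.Lib.PBC24.Main
-- import your own Groth.Agent.* helpers here

set_option autoImplicit false
universe u
open CategoryTheory CategoryTheory.Limits AlgebraicGeometry Opposite
attribute [local instance] HasDerivedCategory.standard
open EtDl

namespace Groth.Agent.S3722

/-- Existence of the extraordinary inverse image, case of a constant torsion ring of coefficients: let f
: X → S be a morphism of quasi-compact quasi-separated schemes given with a compactification c (f =
j followed by f̄, j an open immersion, f̄ proper), and Λ a commutative ring with n·1 = 0 in Λ for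
some integer n ≥ 1. Then the functor Rf_! = Rf̄_* ∘ j_! from D^+(X_ét, Λ) to D^+(S_ét, Λ) is a left
adjoint: there is a functor Rf^! : D^+(S_ét, Λ) → D^+(X_ét, Λ) with Hom(Rf_! K, L) = Hom(K, Rf^! L)
functorially. (The published statement allows an arbitrary torsion sheaf of rings on S, lets K range
over unbounded complexes, and also records that Rf^! is a triangulated functor; Rf_! is computed
here through the given compactification.) -/
theorem result {X S : Scheme.{u}} [CompactSpace ↥X] [QuasiSeparatedSpace ↥X] [CompactSpace ↥S] [QuasiSeparatedSpace ↥S]
    {f : X ⟶ S} (c : DEt.Compactification f) (Λ : Type (u + 1)) [CommRing Λ] (n : ℕ) (hn : 0 < n)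
    (hΛ : (n : Λ) = 0) :
    (EtDl.RshriekPlus Λ c).IsLeftAdjoint := by
  haveI : EtShriek.JCont c.j := inferInstance
  haveI := PBC24.preservesFiniteLimits_extZeroMod Λ c.j
  haveI : EtBC.HasRpushMod Λ c.fbar := KInjLib.hasRightDerivedFunctor KInjLib.enoughKInj_of_grothendieck _
  exact PBC24.isLeftAdjoint_shriekPlus hn hΛ PBC24.properBC c

end Groth.Agent.S3722
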