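import Groth.Statements.S3724
import Groth.Agent.Lib.InjDim6.Amp

set_option autoImplicit false
set_option maxHeartbeats 3000000
set_option backward.isDefEq.respectTransparency false
set_option backward.isDefEq.respectTransparency.types false
set_option linter.style.haveILetI false
universe u
open CategoryTheory CategoryTheory.Limits AlgebraicGeometry Opposite
attribute [local instance] HasDerivedCategory.standard
open EtDl

namespace Groth.Agent.S3724

/-- Let f : X -> S be a morphism of quasi-compact quasi-separated schemes with a compactification c, Λ a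
commutative ring with n·1 = 0 for some n ≥ 1, and Rf^! any right adjoint of Rf_! : D^+(X_et, Λ) ->
D^+(S_et, Λ). Let L in D^b(S_et, Λ) have injective dimension at most m, in the sense that Hom(F,
L[i]) = 0 for every sheaf of Λ-modules F on S_et and every i > m. Then Rf^! L has injective
dimension at most m in the same sense on X_et. -/
theorem result {X S : Scheme.{u}} [CompactSpace ↥X] [QuasiSeparatedSpace ↥X] [CompactSpace ↥S] [QuasiSeparatedSpace ↥S]
    {f : X ⟶ S} (c : DEt.Compactification f)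
    (Λ : Type (u + 1)) [CommRing Λ] (n : ℕ) (hn : 0 < n) (hΛ : (n : Λ) = 0)
    (G : DerivedCategory.Plus (EtModW.Mod Λ S) ⥤ DerivedCategory.Plus (EtModW.Mod Λ X))
    (adj : EtDl.RshriekPlus Λ c ⊣ G) (L : DerivedCategory.Plus (EtModW.Mod Λ S)) (a b : ℤ)
    (ha : L.IsGE a) (hb : L.IsLE b) (m : ℤ)
    (hL : ∀ (F : EtModW.Mod Λ S) (i : ℤ), m < i →
      Subsingleton ((DerivedCategory.Plus.singleFunctor (EtModW.Mod Λ S) 0).obj F ⟶ L⟦i⟧))
    (F : EtModW.Mod Λ X) (i : ℤ) (hi : m < i) :
    Subsingleton ((DerivedCategory.Plus.singleFunctor (EtModW.Mod Λ X) 0).obj F ⟶ (G.obj L)⟦i⟧) := by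
  refine ⟨fun g g' => ?_⟩
  suffices h : ∀ g : (DerivedCategory.Plus.singleFunctor (EtModW.Mod Λ X) 0).obj F ⟶ (G.obj L)⟦i⟧, g = 0 by
    rw [h g, h g']
  intro g
  let T := (DerivedCategory.Plus.singleFunctor (EtModW.Mod Λ X) i).obj F
  let eT : (DerivedCategory.Plus.singleFunctor (EtModW.Mod Λ X) 0).obj F ≅ T⟦i⟧ :=
    (((DerivedCategory.Plus.singleFunctors (EtModW.Mod Λ X)).shiftIso i 0 i (add_zero i)).app F).symm
  obtain ⟨g', hg'⟩ := (shiftFunctor (DerivedCategory.Plus (EtModW.Mod Λ X)) i).map_surjective (eT.inv ≫ g)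
  haveI : ((EtDl.RshriekPlus Λ c).obj T).IsGE i := by
    haveI := Groth.Agent.RFPlus.isGE_rightDerivedFunctorPlus (EtDl.extZeroMod Λ c.j) T i
    exact Groth.Agent.RFPlus.isGE_rightDerivedFunctorPlus (EtModW.push Λ c.fbar) ((EtDl.extZeroPlus Λ c.j).obj T) i
  have h0 := Groth.Agent.InjDim6.hom_eq_zero_of_injAmplitude L m hL ((EtDl.RshriekPlus Λ c).obj T) i hi
    ((adj.homEquiv T L).symm g')
  have hz := Groth.Agent.InjDim6.hom_eq_zero_of_injAmplitude L m hL ((EtDl.RshriekPlus Λ c).obj T) i hi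
    ((adj.homEquiv T L).symm 0)
  have hg0 : g' = 0 := (adj.homEquiv T L).symm.injective (h0.trans hz.symm)
  rw [← cancel_epi eT.inv, ← hg', hg0, Functor.map_zero, comp_zero]

end Groth.Agent.S3724
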