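import Groth.Statements.S3728
import Groth.Agent.Lib.FinTrace9.Unique
-- import your own Groth.Agent.* helpers here

set_option autoImplicit false
universe u
open CategoryTheory CategoryTheory.Limits AlgebraicGeometry Opposite
open EtDl

namespace Groth.Agent.S3728

/-- Restricted to finite morphisms (for which the direct image with proper support f_! is the direct
image f_*): there is one and only one way to attach to every finite, flat, locally finitely
presented morphism f : X -> S a natural transformation Tr_f : f_* f^* -> id of endofunctors of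
abelian sheaves on the small etale site of S such that (Var 2) for every cartesian square X' = X x_S
S' with maps g : S' -> S, g' : X' -> X, f' : X' -> S', the composite of the base change map g^* f_*
f^* F -> f'_* g'^* f^* F = f'_* f'^* g^* F with Tr_{f'}(g^* F) equals g^*(Tr_f(F)); (Var 3) for
composable h : X -> Y and g : Y -> S in the class, Tr_{h g}(F) is the composite of (h g)_* (h g)^* F
= g_* h_* h^* g^* F, g_*(Tr_h(g^* F)) and Tr_g(F); (Var 4) if f has constant rank n, the composite F
-> f_* f^* F -> F of the unit with Tr_f is multiplication by n. (The source's result is for all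
separated quasi-finite flat finitely presented f with f_! in place of f_*.) -/
theorem result :
    ∃! Tr : (∀ ⦃X S : Scheme.{u}⦄ (f : X ⟶ S) [IsFinite f] [Flat f] [LocallyOfFinitePresentation f],
        EtCoh.pull f ⋙ EtCoh.push f ⟶ 𝟭 (EtCoh.Ab S)),
      (∀ ⦃X S X' S' : Scheme.{u}⦄ (f : X ⟶ S) (g : S' ⟶ S) (f' : X' ⟶ S') (g' : X' ⟶ X)
          (hc : IsPullback g' f' f g)
          [IsFinite f] [Flat f] [LocallyOfFinitePresentation f]
          [IsFinite f'] [Flat f'] [LocallyOfFinitePresentation f'] (F : EtCoh.Ab S),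
        EtCoh.baseChange0 f g f' g' hc.w ((EtCoh.pull f).obj F) ≫
          (EtCoh.push f').map ((EtCore.pullComp g' f).inv.app F ≫ (EtCore.pullCongr hc.w).hom.app F ≫
            (EtCore.pullComp f' g).hom.app F) ≫ (Tr f').app ((EtCoh.pull g).obj F) =
          (EtCoh.pull g).map ((Tr f).app F)) ∧
      (∀ ⦃X Y S : Scheme.{u}⦄ (h : X ⟶ Y) (g : Y ⟶ S)
          [IsFinite h] [Flat h] [LocallyOfFinitePresentation h]
          [IsFinite g] [Flat g] [LocallyOfFinitePresentation g]
          [IsFinite (h ≫ g)] [Flat (h ≫ g)] [LocallyOfFinitePresentation (h ≫ g)] (F : EtCoh.Ab S),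
        (Tr (h ≫ g)).app F =
          (EtCoh.push (h ≫ g)).map ((EtCore.pullComp h g).hom.app F) ≫
            (EtCoh.pushComp g h).inv.app ((EtCoh.pull h).obj ((EtCoh.pull g).obj F)) ≫
            (EtCoh.push g).map ((Tr h).app ((EtCoh.pull g).obj F)) ≫ (Tr g).app F) ∧
      (∀ ⦃X S : Scheme.{u}⦄ (f : X ⟶ S) [IsFinite f] [Flat f] [LocallyOfFinitePresentation f] (n : ℕ)
          (hn : ∀ s : S, f.finrank s = n) (F : EtCoh.Ab S),
        (EtCoh.pullPushAdj f).unit.app F ≫ (Tr f).app F = n • 𝟙 F) := by
  refine ⟨fun X S f _ _ _ => Groth.Agent.FinTrace9.tr f,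
    ⟨fun X S X' S' f g f' g' hc _ _ _ _ _ _ F => Groth.Agent.FinTrace9.tr_baseChange f g f' g' hc F,
      fun X Y S h g _ _ _ _ _ _ _ _ _ F => Groth.Agent.FinTrace9.tr_comp h g F,
      fun X S f _ _ _ n hn F => Groth.Agent.FinTrace9.unit_tr f n hn F⟩, fun Tr hTr => ?_⟩
  funext X S f i1 i2 i3
  exact Groth.Agent.FinTrace9.eq_tr Tr hTr.1 hTr.2.1 hTr.2.2 f

end Groth.Agent.S3728
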