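import Groth.Statements.S3731
import Groth.Agent.Lib.DerTrunc.Basic

set_option autoImplicit false
universe u v
open CategoryTheory CategoryTheory.Limits
attribute [local instance] HasDerivedCategory.standard
open EtDl

namespace Groth.Agent.S3731

/-- Let A be an abelian category, k ≥ 0, and K_0 -> K_1 -> ... -> K_{2k} a chain of 2k morphisms in the
derived category of A such that every K_i has H^p(K_i) = 0 for p outside [0, k] and every morphism
K_i -> K_{i+1} induces the zero map on H^p for all p < k. Let π : K_0 -> H^k(K_0)[-k] be the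
morphism to the top cohomology object placed in degree k that induces the identity on H^k. Then the
composite K_0 -> K_{2k} factors through π. -/
theorem result {A : Type u} [Category.{v} A] [Abelian A] (k : ℕ)
    (K : ComposableArrows (DerivedCategory A) (2 * k))
    (hK : ∀ (i : ℕ) (hi : i ≤ 2 * k) (p : ℤ), p < 0 ∨ (k : ℤ) < p →
      IsZero ((DerivedCategory.homologyFunctor A p).obj (K.obj' i)))
    (hf : ∀ (i : ℕ) (hi : i < 2 * k) (p : ℤ), p < (k : ℤ) →
      (DerivedCategory.homologyFunctor A p).map (K.map' i (i + 1)) = 0)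
    (π : K.obj' 0 ⟶ (DerivedCategory.singleFunctor A (k : ℤ)).obj
      ((DerivedCategory.homologyFunctor A (k : ℤ)).obj (K.obj' 0)))
    (hπ : (DerivedCategory.homologyFunctor A (k : ℤ)).map π ≫
      (DerivedCategory.singleFunctorCompHomologyFunctorIso A (k : ℤ)).hom.app
        ((DerivedCategory.homologyFunctor A (k : ℤ)).obj (K.obj' 0)) = 𝟙 _) :
    ∃ φ : (DerivedCategory.singleFunctor A (k : ℤ)).obj
        ((DerivedCategory.homologyFunctor A (k : ℤ)).obj (K.obj' 0)) ⟶ K.obj' (2 * k),
      K.map' 0 (2 * k) = π ≫ φ := by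
  classical
  have hGE : ∀ (i : ℕ) (hi : i ≤ 2 * k), (K.obj' i).IsGE 0 := fun i hi =>
    (DerivedCategory.isGE_iff _ _).mpr fun p hp => hK i hi p (Or.inl hp)
  have claim : ∀ (n i : ℕ) (hi : i + n ≤ 2 * k) (_ : n ≤ k) (P : DerivedCategory A)
      (_ : P.IsLE ((n : ℤ) - 1)) (f : P ⟶ K.obj' i), f ≫ K.map' i (i + n) = 0 := by
    intro n
    induction n with
    | zero =>
      intro i hi _ P hP f
      have := hGE i (by lia)
      have h0 : f = 0 := DerivedCategory.TStructure.t.zero f ((0 : ℕ) - 1 : ℤ) 0 (by lia)
      rw [h0, zero_comp]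
    | succ n ih =>
      intro i hi hn P hP f
      have hP' : P.IsLE (n : ℤ) := by
        rwa [show ((n + 1 : ℕ) : ℤ) - 1 = n by lia] at hP
      let g := f ≫ K.map' i (i + 1)
      have hT : DerivedCategory.IsGE ((DerivedCategory.TStructure.t.truncGE (n : ℤ)).obj (K.obj' (i + 1))) n :=
        (inferInstance : DerivedCategory.TStructure.t.IsGE _ _)
      have hg : g ≫ (DerivedCategory.TStructure.t.truncGEπ (n : ℤ)).app _ = 0 := by
        refine Groth.Agent.DerTrunc.hom_eq_zero_of_isLE_of_isGE (n : ℤ) _ ?_
        simp only [g, Functor.map_comp]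
        rw [hf i (by lia) n (by lia)]
        simp
      obtain ⟨m, hm⟩ := Pretriangulated.Triangle.coyoneda_exact₂ _
        (DerivedCategory.TStructure.t.triangleLTGE_distinguished (n : ℤ) (K.obj' (i + 1))) g hg
      have hL : DerivedCategory.IsLE ((DerivedCategory.TStructure.t.truncLT (n : ℤ)).obj (K.obj' (i + 1))) ((n : ℤ) - 1) :=
        (inferInstance : DerivedCategory.TStructure.t.IsLE _ _)
      have e : K.map' i (i + (n + 1)) = K.map' i (i + 1) ≫ K.map' (i + 1) (i + 1 + n) ≫
          eqToHom (by congr 1; ext; simp; lia) := by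
        simp only [ComposableArrows.map']
        rw [← eqToHom_map K (by ext; simp; lia : (⟨i + 1 + n, by lia⟩ : Fin (2 * k + 1)) = ⟨i + (n + 1), by lia⟩), ← Functor.map_comp, ← Functor.map_comp]
        exact congrArg K.map (Subsingleton.elim _ _)
      have h1 := ih (i + 1) (by lia) (by lia) _ hL ((DerivedCategory.TStructure.t.truncLTι (n : ℤ)).app _)
      rw [e]
      calc f ≫ K.map' i (i + 1) ≫ K.map' (i + 1) (i + 1 + n) ≫ eqToHom _
          = g ≫ K.map' (i + 1) (i + 1 + n) ≫ eqToHom _ := (Category.assoc _ _ _).symm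
        _ = 0 := by
          rw [hm]
          refine (Category.assoc _ _ _).trans ?_
          exact (congrArg (m ≫ ·) (((Category.assoc _ _ _).symm.trans
            (congrArg (· ≫ _) h1)).trans zero_comp)).trans comp_zero
  obtain ⟨F, u, w, hT⟩ := Pretriangulated.distinguished_cocone_triangle₁ π
  have hiso : IsIso ((DerivedCategory.homologyFunctor A (k : ℤ)).map π) := by
    have : IsIso ((DerivedCategory.homologyFunctor A (k : ℤ)).map π ≫
        (DerivedCategory.singleFunctorCompHomologyFunctorIso A (k : ℤ)).hom.app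
          ((DerivedCategory.homologyFunctor A (k : ℤ)).obj (K.obj' 0))) := by
      rw [hπ]; infer_instance
    exact IsIso.of_isIso_comp_right _
      ((DerivedCategory.singleFunctorCompHomologyFunctorIso A (k : ℤ)).hom.app _)
  have hS : ∀ p : ℤ, p ≠ k → IsZero ((DerivedCategory.homologyFunctor A p).obj
      ((DerivedCategory.singleFunctor A (k : ℤ)).obj
        ((DerivedCategory.homologyFunctor A (k : ℤ)).obj (K.obj' 0)))) := fun p hp => by
    rcases lt_or_gt_of_ne hp with h | h
    · exact DerivedCategory.isZero_of_isGE _ (k : ℤ) p h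
    · exact DerivedCategory.isZero_of_isLE _ (k : ℤ) p h
  have hF : F.IsLE ((k : ℤ) - 1) := by
    refine (DerivedCategory.isLE_iff _ _).mpr fun p hp => ?_
    have hδ : DerivedCategory.HomologySequence.δ (Pretriangulated.Triangle.mk u π w) (p - 1) p (by lia) = 0 := by
      by_cases h : p - 1 = k
      · refine (DerivedCategory.HomologySequence.epi_homologyMap_mor₂_iff _ hT (p - 1) p (by lia)).1 ?_
        rw [h]
        exact IsIso.epi_of_iso (f := (DerivedCategory.homologyFunctor A (k : ℤ)).map π)
      · exact (hS _ h).eq_of_src _ _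
    have hmono : Mono ((DerivedCategory.homologyFunctor A p).map u) :=
      (DerivedCategory.HomologySequence.mono_homologyMap_mor₁_iff _ hT (p - 1) p (by lia)).2 hδ
    have hu : (DerivedCategory.homologyFunctor A p).map u = 0 := by
      by_cases h : p = k
      · subst h
        rw [← cancel_mono ((DerivedCategory.homologyFunctor A (k : ℤ)).map π), zero_comp, ← Functor.map_comp]
        have h0 : u ≫ π = 0 := Pretriangulated.comp_distTriang_mor_zero₁₂ _ hT
        rw [h0, Functor.map_zero]
      · exact (hK 0 (by lia) p (Or.inr (by lia))).eq_of_tgt _ _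
    exact IsZero.of_mono_eq_zero _ hu
  have h0 : u ≫ K.map' 0 (2 * k) = 0 := by
    have e : K.map' 0 (2 * k) = K.map' 0 (0 + k) ≫ K.map' (0 + k) (2 * k) := by
      simp only [ComposableArrows.map']
      rw [← Functor.map_comp]
      exact congrArg K.map (Subsingleton.elim _ _)
    rw [e]
    refine (Category.assoc _ _ _).symm.trans ?_
    erw [claim k 0 (by lia) le_rfl F hF u]
    simp
  obtain ⟨φ, hφ⟩ := Pretriangulated.Triangle.yoneda_exact₂ _ hT (K.map' 0 (2 * k)) h0
  exact ⟨φ, hφ⟩

end Groth.Agent.S3731
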