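import Groth.Statements.S3732
import Groth.Agent.Lib.PBC24.ShriekPlus
import Groth.Agent.Lib.PBC24.Main
-- import your own Groth.Agent.* helpers here

set_option autoImplicit false
universe u
open CategoryTheory CategoryTheory.Limits AlgebraicGeometry Opposite
attribute [local instance] HasDerivedCategory.standard
open EtDl

namespace Groth.Agent.S3732

/-- Cohomological dimension of Rf_!, for a constant torsion ring of coefficients and bounded-below
complexes: let f : X → S be a morphism of quasi-compact quasi-separated schemes with a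
compactification c, all of whose fibres have dimension at most d, and Λ a commutative ring with n·1
= 0 for some n ≥ 1. If K in D^+(X_ét, Λ) has H^i(K) = 0 for all i > b, then H^i(Rf_! K) = 0 for all
i > b + 2d, where Rf_! = R(f̄)_* ∘ j_! is computed through c. -/
theorem result {X S : Scheme.{u}} [CompactSpace ↥X] [QuasiSeparatedSpace ↥X] [CompactSpace ↥S] [QuasiSeparatedSpace ↥S]
    {f : X ⟶ S} (c : DEt.Compactification f) (d : ℕ)
    (hdim : ∀ s : S, topologicalKrullDim ↥(f.fiber s) ≤ d)
    (Λ : Type (u + 1)) [CommRing Λ] (n : ℕ) (hn : 0 < n) (hΛ : (n : Λ) = 0)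
    (K : DerivedCategory.Plus (EtModW.Mod Λ X)) (b : ℤ) (hK : K.IsLE b) :
    ((EtDl.RshriekPlus Λ c).obj K).IsLE (b + 2 * (d : ℤ)) := by
  haveI : EtShriek.JCont c.j := inferInstance
  haveI := PBC24.preservesFiniteLimits_extZeroMod Λ c.j
  haveI : EtBC.HasRpushMod Λ c.fbar := KInjLib.hasRightDerivedFunctor KInjLib.enoughKInj_of_grothendieck _
  haveI := hK
  exact PBC24.isLE_shriekPlus hn hΛ PBC24.properBC c d hdim K b

end Groth.Agent.S3732
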