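import Groth.Statements.S3734
import Groth.Agent.Lib.PBC24.CdSuppLC
import Groth.Agent.Lib.PBC24.Main
-- import your own Groth.Agent.* helpers here

set_option autoImplicit false
universe u
open CategoryTheory CategoryTheory.Limits AlgebraicGeometry Opposite
open EtDl

namespace Groth.Agent.S3734

/-- Let f : X -> S be a morphism of quasi-compact quasi-separated schemes with a compactification c (f =
j_c followed by the proper fbar), all of whose fibres have dimension at most d; let j : U -> X be a
quasi-compact open immersion and i : Z -> X a closed immersion onto the complement of U such that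
every fibre of Z -> S has dimension less than d; and let F be a torsion abelian sheaf on X_et. Then
the canonical map R^{2d}(f j)_! j^* F -> R^{2d} f_! F is an isomorphism. Here both sides are
computed through c — R^{2d} f_! F = R^{2d} fbar_* (j_c)_! F and R^{2d}(f j)_! j^* F = R^{2d} fbar_*
(j_c)_! (j_! j^* F) — and the map is induced by the counit j_! j^* F -> F. -/
theorem result {X S U Z : Scheme.{u}} [CompactSpace ↥X] [QuasiSeparatedSpace ↥X] [CompactSpace ↥S] [QuasiSeparatedSpace ↥S]
    {f : X ⟶ S} (c : DEt.Compactification f) (d : ℕ)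
    (hdim : ∀ s : S, topologicalKrullDim ↥(f.fiber s) ≤ d)
    (j : U ⟶ X) [IsOpenImmersion j] [QuasiCompact j] (i : Z ⟶ X) [IsClosedImmersion i]
    (hij : Set.range j.base = (Set.range i.base)ᶜ)
    (hZ : ∀ s : S, topologicalKrullDim ↥((i ≫ f).fiber s) < d)
    (F : EtCoh.Ab X) (hF : EtCoh.IsTorsion F) :
    IsIso ((EtCoh.Rpush c.fbar (2 * d)).map
      ((EtShriek.extZero c.j).map ((EtShriek.extZeroAdj j).counit.app F))) := by
  haveI : EtShriek.JCont c.j := inferInstance
  haveI : EtShriek.JCont j := inferInstance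
  let L := EtShriek.extZero c.j
  haveI : PreservesFiniteLimits L := EtStalk.preservesFiniteLimits_extZero c.j
  haveI : PreservesFiniteColimits L :=
    haveI : L.IsLeftAdjoint := (EtShriek.extZeroAdj c.j).isLeftAdjoint
    inferInstance
  haveI : L.Additive := (EtShriek.extZeroAdj c.j).left_adjoint_additive
  obtain ⟨w, hS⟩ := Constr24.shortExact_extZero_pull' i j hij F
  obtain ⟨d, rfl⟩ | hd0 : (∃ e, d = e + 1) ∨ d = 0 := by
    rcases d with _ | e
    · exact Or.inr rfl
    · exact Or.inl ⟨e, rfl⟩
  · haveI : Epi ((EtCoh.pullPushAdj i).unit.app F) := hS.epi_g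
    have hT : EtCoh.IsTorsion ((EtCoh.push i).obj ((EtCoh.pull i).obj F)) :=
      PBC24.isTorsion_of_isLTorsion (EtAcyc24.isLTorsion_of_epi Set.univ ((EtCoh.pullPushAdj i).unit.app F)
        (PBC24.isLTorsion_univ hF))
    have hz : ∀ q, 2 * d < q → IsZero ((EtCoh.Rpush c.fbar q).obj (L.obj ((EtCoh.push i).obj ((EtCoh.pull i).obj F)))) :=
      fun q hq => PBC24.isZero_Rpush_extZero_push PBC24.properBC i c.j c.fbar d (fun s => by
        rw [c.fac]
        have h := hZ s
        rcases hs : topologicalKrullDim ↥((i ≫ f).fiber s) with _ | _ | a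
        · exact bot_le
        · rw [hs] at h
          exact absurd h (not_lt.2 (WithBot.coe_le_coe.2 le_top))
        · rw [hs] at h
          refine WithBot.coe_le_coe.2 (WithTop.coe_le_coe.2 ?_)
          have := WithTop.coe_lt_coe.1 (WithBot.coe_lt_coe.1 h)
          omega) _ hT q hq
    obtain ⟨T⟩ := RDerLES.exists_sesRes (hS.map_of_exact L)
    obtain ⟨-, -, ⟨w₃, hw'⟩⟩ := RDerLES.exact_sequences (EtCoh.push c.fbar) T (2 * d + 1) (2 * (d + 1)) rfl
    obtain ⟨h₁, -, -⟩ := RDerLES.exact_sequences (EtCoh.push c.fbar) T (2 * (d + 1)) (2 * (d + 1) + 1) rfl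
    haveI : Epi ((EtCoh.Rpush c.fbar (2 * (d + 1))).map (L.map ((EtShriek.extZeroAdj j).counit.app F))) :=
      h₁.epi_f ((hz _ (by omega)).eq_of_tgt _ _)
    haveI : Mono ((EtCoh.Rpush c.fbar (2 * (d + 1))).map (L.map ((EtShriek.extZeroAdj j).counit.app F))) :=
      hw'.mono_g ((hz _ (by omega)).eq_of_src _ _)
    exact isIso_of_mono_of_epi _
  · subst hd0
    have hemp : ∀ z : Z, False := fun z => by
      let y := (i ≫ f) z
      obtain ⟨x, -⟩ : ∃ x : ↥((i ≫ f).fiber y), ((i ≫ f).fiberι y) x = z :=
        ((i ≫ f).range_fiberι y).symm.subset (rfl : (i ≫ f) z ∈ ({y} : Set S))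
      haveI : Nonempty (TopologicalSpace.IrreducibleCloseds ↥((i ≫ f).fiber y)) :=
        ⟨⟨closure {x}, isIrreducible_singleton.closure, isClosed_closure⟩⟩
      exact absurd (hZ y) (not_lt.2 (by exact_mod_cast Order.krullDim_nonneg))
    have hz : IsZero ((EtCoh.push i).obj ((EtCoh.pull i).obj F)) := by
      rw [EtStalk.isZero_iff_stalk]
      exact fun Ω _ _ ξ => EtStalk.stalk_push_isZero i _ ξ fun ⟨z, _⟩ => hemp z
    haveI : Epi ((EtShriek.extZeroAdj j).counit.app F) := hS.exact.epi_f (hz.eq_of_tgt _ _)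
    haveI : Mono ((EtShriek.extZeroAdj j).counit.app F) := hS.mono_f
    haveI : IsIso ((EtShriek.extZeroAdj j).counit.app F) := isIso_of_mono_of_epi _
    infer_instance

end Groth.Agent.S3734
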