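import Groth.Statements.S3743
import Groth.Agent.Lib.AmpleElt5.Main

set_option autoImplicit false
universe v u
open CategoryTheory CategoryTheory.Limits AlgebraicGeometry
attribute [local instance] HasDerivedCategory.standard
open KRR

namespace Groth.Agent.S3743

/-- Let X be a connected Noetherian scheme and (K, P, φ) a model of the λ-ring K(X) of finite locally
free modules with its positive structure (classes of bundles, augmentation = rank). If L is an ample
invertible O_X-module, then u = [L] is an ample line element of K(X): u is a line element and for
every x ∈ K(X) and all sufficiently large n, u^n x is a positive element minus a natural number. -/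
theorem result (X : Scheme.{u}) [IsNoetherian X] [ConnectedSpace ↥X]
    (K : Type v) [CommRing K] [LambdaRing.LambdaOps K] (P : LambdaRing.PosStructure K) (φ : SGA6.Kvb X →+ K) (hK : KRR.IsModel X K P φ)
    (L : X.Modules) (hL : CohB1.IsAmple L) :
    KRR.IsAmpleElt P (φ (KRR.cl X L)) := by
  exact AmpleElt5.isAmpleElt hK hL

end Groth.Agent.S3743
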