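import Groth.Statements.S3745
import Groth.Agent.Lib.LFResK5.Basic

set_option autoImplicit false
universe v u
open CategoryTheory CategoryTheory.Limits AlgebraicGeometry
attribute [local instance] HasDerivedCategory.standard
open KRR

namespace Groth.Agent.S3745

/-- Let X be a Noetherian scheme on which every coherent module is a quotient of a finite locally free
module. Then the homomorphism from K₀ of finite locally free O_X-modules to K₀ of the coherent
O_X-modules admitting a finite resolution by finite locally free modules, induced by the inclusion
of categories (the argument h records that inclusion), is bijective. (Its inverse sends the class of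
such a module to the alternating sum of the classes of the terms of any finite locally free
resolution. The source's standing connectedness assumption plays no role here and is omitted.) -/
theorem result (X : Scheme.{u}) [IsNoetherian X] (hX : KRR.HasEnoughLocFree X)
    (h : ∀ M : X.Modules, FlatMod.IsFinLocFree M → Coh.IsCoh M ∧ KRR.HasLFRes M) :
    Function.Bijective (SGA6.mapSub (𝟭 X.Modules) (KRR.vbP X) (fun M : X.Modules => Coh.IsCoh M ∧ KRR.HasLFRes M) h) := by
  exact Groth.Agent.LFResK5.bijective_of_bd hX _ (fun M => (Groth.Agent.LFResK5.bd_iff_hasLFRes hX M).symm) h

end Groth.Agent.S3745
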