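import Groth.Statements.S3748
import Groth.Agent.Lib.LFResK5.Mul

set_option autoImplicit false
universe v u
open CategoryTheory CategoryTheory.Limits AlgebraicGeometry
attribute [local instance] HasDerivedCategory.standard
open KRR

namespace Groth.Agent.S3748

/-- Let f : X ⟶ Y and g : Y ⟶ Z be regular closed imbeddings of connected Noetherian schemes, where on Y
and on Z every coherent module is a quotient of a finite locally free one. With models of K(X),
K(Y), K(Z) and push-forwards a = f_K, b = g_K, c = (f ≫ g)_K (each defined through finite locally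
free resolutions of direct images of bundles), one has c = b ∘ a. -/
theorem result {X Y Z : Scheme.{u}} (f : X ⟶ Y) (g : Y ⟶ Z)
    (hf : Mor2.IsRegularClosedImmersion f) (hg : Mor2.IsRegularClosedImmersion g)
    [IsNoetherian X] [ConnectedSpace ↥X] [IsNoetherian Y] [ConnectedSpace ↥Y] (hYe : KRR.HasEnoughLocFree Y) [IsNoetherian Z] [ConnectedSpace ↥Z] (hZe : KRR.HasEnoughLocFree Z)
    (KX : Type v) [CommRing KX] [LambdaRing.LambdaOps KX] (PX : LambdaRing.PosStructure KX) (φX : SGA6.Kvb X →+ KX) (hKX : KRR.IsModel X KX PX φX)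
    (KY : Type v) [CommRing KY] [LambdaRing.LambdaOps KY] (PY : LambdaRing.PosStructure KY) (φY : SGA6.Kvb Y →+ KY) (hKY : KRR.IsModel Y KY PY φY)
    (KZ : Type v) [CommRing KZ] [LambdaRing.LambdaOps KZ] (PZ : LambdaRing.PosStructure KZ) (φZ : SGA6.Kvb Z →+ KZ) (hKZ : KRR.IsModel Z KZ PZ φZ)
    (a : KX →+ KY) (ha : KRR.IsPushCl f φX φY a) (b : KY →+ KZ) (hb : KRR.IsPushCl g φY φZ b)
    (c : KX →+ KZ) (hc : KRR.IsPushCl (f ≫ g) φX φZ c) : c = b.comp a := by
  haveI := hf.1
  haveI := hg.1
  have hfg := Groth.Agent.RegImm26.regularClosedImmersion_comp f g hf hg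
  refine AddMonoidHom.ext fun x => ?_
  obtain ⟨t, rfl⟩ := hKX.bijective.2 x
  refine DFunLike.congr_fun (Groth.Agent.LFResK5.addHom_ext (a := c.comp φX) (b := (b.comp a).comp φX)
    fun F hF => ?_) t
  show c (φX _) = b (a (φX _))
  have hB := Groth.Agent.LFResK5.bd_push_of_finLocFree f hf hF
  have hG : ∀ M : Y.Modules, Groth.Agent.LFResK5.Bd M →
      Groth.Agent.LFResK5.Bd ((Scheme.Modules.pushforward g).obj M) := fun M hM =>
    Groth.Agent.LFResK5.bd_map hYe (Scheme.Modules.pushforward g)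
      (fun E hE => Groth.Agent.LFResK5.bd_push_of_finLocFree g hg hE)
      (fun M hM => Groth.Agent.CohFound.isCoh_push_closedImm g hM) hM
  rw [(Groth.Agent.LFResK5.isPushCl_iff (f ≫ g) hfg hZe φX φZ c).1 hc F hF,
    (Groth.Agent.LFResK5.isPushCl_iff f hf hYe φX φY a).1 ha F hF]
  have key : ∀ E : Y.Modules, FlatMod.IsFinLocFree E →
      ((AddEquiv.ofBijective φZ hKZ.bijective).symm.toAddMonoidHom.comp (b.comp φY)) (KRR.cl Y E) =
        Groth.Agent.LFResK5.kcl hZe ((Scheme.Modules.pushforward g).obj E) := fun E hE => by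
    show (AddEquiv.ofBijective φZ hKZ.bijective).symm (b (φY _)) = _
    rw [(Groth.Agent.LFResK5.isPushCl_iff g hg hZe φY φZ b).1 hb E hE]
    exact (AddEquiv.ofBijective φZ hKZ.bijective).symm_apply_apply _
  have h2 := congrArg φZ (Groth.Agent.LFResK5.clSub_sum_map hYe hZe (Scheme.Modules.pushforward g) hG _ key hB)
  refine Eq.trans ?_ (h2.symm.trans ((AddEquiv.ofBijective φZ hKZ.bijective).apply_symm_apply _))
  exact congrArg φZ (Groth.Agent.LFResK5.kcl_iso hZe ((Scheme.Modules.pushforwardComp f g).symm.app F)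
    (Groth.Agent.LFResK5.bd_push_of_finLocFree (f ≫ g) hfg hF))

end Groth.Agent.S3748
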