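import Groth.Statements.S3749
import Groth.Agent.Lib.PBK5.BaseChangeCl

set_option autoImplicit false
universe v u
open CategoryTheory CategoryTheory.Limits AlgebraicGeometry
attribute [local instance] HasDerivedCategory.standard
open KRR

namespace Groth.Agent.S3749

/-- Let F : P ⟶ M be a regular closed imbedding and φ : Y ⟶ M a morphism, and form the fibre square X =
P ×_M Y with projections f : X ⟶ Y, ψ : X ⟶ P. Assume f is a regular closed imbedding of the same
codimension as F (both conormal modules finite locally free of the same rank d). All schemes are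
connected and Noetherian, and on M and on Y every coherent module is a quotient of a finite locally
free one. Then on the K-rings (through models, pull-backs φ^K, ψ^K and push-forwards F_K, f_K) one
has φ^K (F_K p) = f_K (ψ^K p) for every p ∈ K(P). -/
theorem result {X Y P M : Scheme.{u}} (F : P ⟶ M) (φ : Y ⟶ M) (f : X ⟶ Y) (ψ : X ⟶ P)
    (hsq : IsPullback f ψ φ F) (hF : Mor2.IsRegularClosedImmersion F) (hf : Mor2.IsRegularClosedImmersion f) (d : ℕ)
    (hcF : FlatMod.IsFinLocFreeOfRank d (Omega.conormal F)) (hcf : FlatMod.IsFinLocFreeOfRank d (Omega.conormal f))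
    [IsNoetherian X] [ConnectedSpace ↥X] [IsNoetherian P] [ConnectedSpace ↥P] [IsNoetherian Y] [ConnectedSpace ↥Y] (hYe : KRR.HasEnoughLocFree Y) [IsNoetherian M] [ConnectedSpace ↥M] (hMe : KRR.HasEnoughLocFree M)
    (KX : Type v) [CommRing KX] [LambdaRing.LambdaOps KX] (PX : LambdaRing.PosStructure KX) (φX : SGA6.Kvb X →+ KX) (hKX : KRR.IsModel X KX PX φX)
    (KY : Type v) [CommRing KY] [LambdaRing.LambdaOps KY] (PY : LambdaRing.PosStructure KY) (φY : SGA6.Kvb Y →+ KY) (hKY : KRR.IsModel Y KY PY φY)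
    (KP : Type v) [CommRing KP] [LambdaRing.LambdaOps KP] (PP : LambdaRing.PosStructure KP) (φP : SGA6.Kvb P →+ KP) (hKP : KRR.IsModel P KP PP φP)
    (KM : Type v) [CommRing KM] [LambdaRing.LambdaOps KM] (PM : LambdaRing.PosStructure KM) (φM : SGA6.Kvb M →+ KM) (hKM : KRR.IsModel M KM PM φM)
    (gφ : KM →+ KY) (hgφ : KRR.IsPull φ φM φY gφ) (gψ : KP →+ KX) (hgψ : KRR.IsPull ψ φP φX gψ)
    (gF : KP →+ KM) (hgF : KRR.IsPushCl F φP φM gF) (gf : KX →+ KY) (hgf : KRR.IsPushCl f φX φY gf)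
    (p : KP) : gφ (gF p) = gf (gψ p) := by
  haveI := hF.1
  haveI := hf.1
  obtain ⟨x, rfl⟩ := hKP.bijective.2 p
  have hφ : gφ.comp φM = φY.comp (Groth.Agent.CMReg18.kPull φ) := Groth.Agent.LFResK5.addHom_ext fun G hG =>
    (hgφ G hG).trans (congrArg φY (Groth.Agent.CMReg18.kPull_cl _ hG).symm)
  have hψ : gψ.comp φP = φX.comp (Groth.Agent.CMReg18.kPull ψ) := Groth.Agent.LFResK5.addHom_ext fun G hG =>
    (hgψ G hG).trans (congrArg φX (Groth.Agent.CMReg18.kPull_cl _ hG).symm)
  have hF' : gF.comp φP = φM.comp (Groth.Agent.LFResK5.pushK F hF hMe) := Groth.Agent.LFResK5.addHom_ext fun G hG =>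
    ((Groth.Agent.LFResK5.isPushCl_iff F hF hMe φP φM gF).1 hgF G hG).trans
      (congrArg φM (Groth.Agent.LFResK5.pushK_cl F hF hMe hG).symm)
  have hf' : gf.comp φX = φY.comp (Groth.Agent.LFResK5.pushK f hf hYe) := Groth.Agent.LFResK5.addHom_ext fun G hG =>
    ((Groth.Agent.LFResK5.isPushCl_iff f hf hYe φX φY gf).1 hgf G hG).trans
      (congrArg φY (Groth.Agent.LFResK5.pushK_cl f hf hYe hG).symm)
  calc gφ (gF (φP x)) = gφ (φM (Groth.Agent.LFResK5.pushK F hF hMe x)) := congrArg gφ (DFunLike.congr_fun hF' x)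
    _ = φY (Groth.Agent.CMReg18.kPull φ (Groth.Agent.LFResK5.pushK F hF hMe x)) := DFunLike.congr_fun hφ _
    _ = φY (Groth.Agent.LFResK5.pushK f hf hYe (Groth.Agent.CMReg18.kPull ψ x)) :=
      congrArg φY (DFunLike.congr_fun
        (Groth.Agent.PBK5.BCCl.kPull_pushK F φ f ψ hsq hF hf d hcF hcf hMe hYe) x)
    _ = gf (φX (Groth.Agent.CMReg18.kPull ψ x)) := (DFunLike.congr_fun hf' _).symm
    _ = gf (gψ (φP x)) := congrArg gf (DFunLike.congr_fun hψ x).symm

end Groth.Agent.S3749
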