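import Groth.Statements.S3750
import Groth.Agent.Lib.LFResK5.Mul
import Groth.Agent.Lib.SpecialTorsor21.Birational

set_option autoImplicit false
universe v u
open CategoryTheory CategoryTheory.Limits AlgebraicGeometry
attribute [local instance] HasDerivedCategory.standard
open KRR

namespace Groth.Agent.S3750

/-- Let F : P ⟶ M and f : X ⟶ Y be regular closed imbeddings whose conormal sheaves are locally free of
the same rank d, fitting in a cartesian square with φ : Y ⟶ M and ψ : X ⟶ P (so X = Y ×_M P), all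
these schemes Noetherian and connected and Y, M having enough locally free sheaves. Let k : Z ⟶ Y be
a morphism from a connected Noetherian scheme whose image is disjoint from f(X), and h = k ≫ φ : Z ⟶
M. Then, on models of the λ-rings K(P), K(M) and K(Z), the pull-back h^K : K(M) → K(Z) kills the
image of the push-forward F_K : K(P) → K(M): h^K(F_K(p)) = 0 for every p ∈ K(P). -/
theorem result {X Y P M Z : Scheme.{u}} (F : P ⟶ M) (φ : Y ⟶ M) (f : X ⟶ Y) (ψ : X ⟶ P)
    (hsq : IsPullback f ψ φ F) (hF : Mor2.IsRegularClosedImmersion F) (hf : Mor2.IsRegularClosedImmersion f) (d : ℕ)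
    (hcF : FlatMod.IsFinLocFreeOfRank d (Omega.conormal F)) (hcf : FlatMod.IsFinLocFreeOfRank d (Omega.conormal f))
    (k : Z ⟶ Y) (hk : Disjoint (Set.range k.base) (Set.range f.base))
    [IsNoetherian X] [ConnectedSpace ↥X] [IsNoetherian P] [ConnectedSpace ↥P] [IsNoetherian Z] [ConnectedSpace ↥Z] [IsNoetherian Y] [ConnectedSpace ↥Y] (hYe : KRR.HasEnoughLocFree Y) [IsNoetherian M] [ConnectedSpace ↥M] (hMe : KRR.HasEnoughLocFree M)
    (KP : Type v) [CommRing KP] [LambdaRing.LambdaOps KP] (PP : LambdaRing.PosStructure KP) (φP : SGA6.Kvb P →+ KP) (hKP : KRR.IsModel P KP PP φP)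
    (KM : Type v) [CommRing KM] [LambdaRing.LambdaOps KM] (PM : LambdaRing.PosStructure KM) (φM : SGA6.Kvb M →+ KM) (hKM : KRR.IsModel M KM PM φM)
    (KZ : Type v) [CommRing KZ] [LambdaRing.LambdaOps KZ] (PZ : LambdaRing.PosStructure KZ) (φZ : SGA6.Kvb Z →+ KZ) (hKZ : KRR.IsModel Z KZ PZ φZ)
    (gh : KM →+ KZ) (hgh : KRR.IsPull (k ≫ φ) φM φZ gh)
    (gF : KP →+ KM) (hgF : KRR.IsPushCl F φP φM gF) (p : KP) : gh (gF p) = 0 := by
  haveI := hF.1
  obtain ⟨t, rfl⟩ := hKP.bijective.2 p
  induction t using Groth.Agent.K0Cat.clSub_induction with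
  | h0 => simp
  | hneg a ha => simp [ha]
  | hadd a b ha hb => simp [ha, hb]
  | hcl E hE =>
    have hE' : FlatMod.IsFinLocFree E := hE
    change gh (gF (φP (KRR.cl P E))) = 0
    rw [(Groth.Agent.LFResK5.isPushCl_iff F hF hMe φP φM gF).1 hgF E hE']
    have key : gh.comp φM = φZ.comp (Groth.Agent.CMReg18.kPull (k ≫ φ)) :=
      Groth.Agent.LFResK5.addHom_ext fun G hG => (hgh G hG).trans
        (congrArg φZ (Groth.Agent.CMReg18.kPull_cl _ hG).symm)
    let O : M.Opens := ⟨(Set.range F.base)ᶜ, F.isClosedEmbedding.isClosed_range.isOpen_compl⟩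
    have hO : Set.range (k ≫ φ) ⊆ (O : Set M) := by
      rintro _ ⟨z, rfl⟩ hz
      refine Set.disjoint_left.1 hk ⟨z, rfl⟩ ?_
      show k.base z ∈ Set.range f
      rw [Groth.Agent.SpecialTorsor21.range_fst_of_isPullback hsq]
      exact hz
    refine (DFunLike.congr_fun key _).trans ?_
    show φZ _ = 0
    rw [Groth.Agent.LFResK5.kPull_kcl_eq_zero hMe (k ≫ φ) O hO
      (Groth.Agent.LFResK5.bd_push_of_finLocFree F hF hE')
      (Groth.Agent.VA11.isZero_restrict_push O.ι F (fun x y he => x.2 ⟨y, he.symm⟩) E), map_zero]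

end Groth.Agent.S3750
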