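import Groth.Statements.S3752
import Groth.Agent.Lib.PBK5.ARR

set_option autoImplicit false
set_option linter.style.haveILetI false
universe v u
open CategoryTheory CategoryTheory.Limits AlgebraicGeometry
attribute [local instance] HasDerivedCategory.standard Groth.Agent.ExtFil4.kvbRing
open scoped TensorProduct
open KRR

namespace Groth.Agent.S3752

open LambdaRing in
theorem aux (n : ℕ) (Y : Scheme.{u}) [IsNoetherian Y] [ConnectedSpace ↥Y]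
    (KP : Type v) [CommRing KP] [LambdaRing.LambdaOps KP] (PP : LambdaRing.PosStructure KP) (φP : SGA6.Kvb (KRR.PY n Y) →+ KP) (hKP : KRR.IsModel (KRR.PY n Y) KP PP φP)
    (KY : Type v) [CommRing KY] [LambdaRing.LambdaOps KY] (PY : LambdaRing.PosStructure KY) (φY : SGA6.Kvb Y →+ KY) (hKY : KRR.IsModel Y KY PY φY)
    (g : KP →+ KY) (hg : KRR.IsPushPr n Y φP φY g) (j : ℕ) (hj : 1 ≤ j) (z : KP)
    (R : Type) [CommRing R] [Module.Flat ℤ R] (hjR : IsUnit (j : R)) (aQ : R →+* ℚ) :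
    (∃ w : R ⊗[ℤ] KP, w * ((1 : R) ⊗ₜ[ℤ] KRR.bott PP j (φP (KRR.cl (KRR.PY n Y)
      (KRR.twF n Y (-1) ((Scheme.Modules.pullback (KRR.pr n Y)).obj (FlatMod.freeMod Y (n + 1))))))) = 1) ∧
    ∀ w : R ⊗[ℤ] KP, w * ((1 : R) ⊗ₜ[ℤ] KRR.bott PP j (φP (KRR.cl (KRR.PY n Y)
      (KRR.twF n Y (-1) ((Scheme.Modules.pullback (KRR.pr n Y)).obj (FlatMod.freeMod Y (n + 1))))))) = 1 →
    (1 : R) ⊗ₜ[ℤ] LambdaRing.adams PY j (g z) =
      LinearMap.lTensor R g.toIntLinearMap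
        ((j : R ⊗[ℤ] KP) * ((1 : R) ⊗ₜ[ℤ] LambdaRing.adams PP j z) * w) := by
  obtain ⟨KY₁, i1, i2, PY₁, φY₁, hY₁⟩ := KModel5.exists_model Y
  haveI := PBK5.connectedSpace_PY n Y
  haveI : CompactSpace (KRR.PY n Y) :=
    QuasiCompact.compactSpace_of_compactSpace (CohB1.ProjSpaceOver.toBase n Y)
  obtain ⟨KP₁, j1, j2, PP₁, φP₁, hP₁⟩ := KModel5.exists_model (KRR.PY n Y)
  have hidY : Function.Injective (PBK5.pullHom (𝟙 Y)) := fun x y h => by rwa [PBK5.pullHom_id, PBK5.pullHom_id] at h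
  have hidP : Function.Injective (PBK5.pullHom (𝟙 (KRR.PY n Y))) := fun x y h => by
    rwa [PBK5.pullHom_id, PBK5.pullHom_id] at h
  obtain ⟨y₁, hy₁, -⟩ := PBK5.exists_pull (𝟙 Y) hidY hKY hY₁
  obtain ⟨p₁, hp₁, -⟩ := PBK5.exists_pull (𝟙 (KRR.PY n Y)) hidP hKP hP₁
  obtain ⟨p₂, hp₂, -⟩ := PBK5.exists_pull (𝟙 (KRR.PY n Y)) hidP hP₁ hKP
  obtain ⟨y₂, hy₂, -⟩ := PBK5.exists_pull (𝟙 Y) hidY hY₁ hKY
  have hp21 : ∀ x, p₂ (p₁ x) = x := fun x => by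
    obtain ⟨a, rfl⟩ := hKP.bijective.2 x
    rw [PBK5.isPull_apply hp₁, PBK5.pullHom_id, PBK5.isPull_apply hp₂, PBK5.pullHom_id]
  have hy21 : ∀ x, y₂ (y₁ x) = x := fun x => by
    obtain ⟨a, rfl⟩ := hKY.bijective.2 x
    rw [PBK5.isPull_apply hy₁, PBK5.pullHom_id, PBK5.isPull_apply hy₂, PBK5.pullHom_id]
  let g₁ : KP₁ →+ KY₁ := y₁.comp (g.comp p₂)
  have hg₁ : KRR.IsPushPr n Y φP₁ φY₁ g₁ := fun F hF hreg => by
    show y₁ (g (p₂ _)) = _
    rw [PBK5.isPull_apply hp₂, PBK5.pullHom_id, hg F hF hreg, PBK5.isPull_apply hy₁, PBK5.pullHom_id]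
  let P1 := PBK5.pullRingHom hKP hP₁ hp₁
  let P2 := PBK5.pullRingHom hP₁ hKP hp₂
  rw [PBK5.cl_twF_free hKY hKP]
  generalize hu : ((n + 1 : ℕ) : KP) * φP (PBK5.xi (PBK5.twPY n Y) (-1)) = u at *
  have hu₁ : P1 u = ((n + 1 : ℕ) : KP₁) * φP₁ (PBK5.xi (PBK5.twPY n Y) (-1)) := by
    rw [← hu, map_mul, map_natCast, PBK5.pullRingHom_apply, PBK5.isPull_apply hp₁, PBK5.pullHom_id]
  have hb : P1 (KRR.bott PP j u) = KRR.bott PP₁ j (((n + 1 : ℕ) : KP₁) * φP₁ (PBK5.xi (PBK5.twPY n Y) (-1))) := by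
    rw [← hu₁]
    exact PBK5.map_bott P1 (PBK5.pull_lam hKP hP₁ hp₁) (PBK5.pull_aug hKP hP₁ hp₁) j u
  let T : R ⊗[ℤ] KP →ₐ[ℤ] R ⊗[ℤ] KP₁ := Algebra.TensorProduct.map (AlgHom.id ℤ R) P1.toIntAlgHom
  let T' : R ⊗[ℤ] KP₁ →ₐ[ℤ] R ⊗[ℤ] KP := Algebra.TensorProduct.map (AlgHom.id ℤ R) P2.toIntAlgHom
  have hT : ∀ (r : R) x, T (r ⊗ₜ[ℤ] x) = r ⊗ₜ[ℤ] P1 x := fun r x => rfl
  have hT'T : ∀ t, T' (T t) = t := fun t => by
    induction t using TensorProduct.induction_on with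
    | zero => simp
    | add a b ha hb => simp only [map_add, ha, hb]
    | tmul r x => show r ⊗ₜ[ℤ] p₂ (p₁ x) = _; rw [hp21]
  refine ⟨?_, fun w hw => ?_⟩
  · obtain ⟨v, hv⟩ := (PBK5.isUnit_bott (PBK5.hasSplitting hP₁) (PBK5.isLine_xi_neg_one hP₁)
      (show IsNilpotent (φP₁ (PBK5.xi (PBK5.twPY n Y) (-1)) - 1) by
        have h := (PBK5.isNilpotent_xi_neg_one_sub_one (n := n) (Y := Y)).map (PBK5.modelHom hP₁)
        rw [map_sub, map_one] at h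
        exact h) (n + 1) j R hjR).exists_left_inv
    rw [← hb] at hv
    refine ⟨T' v, ?_⟩
    rw [← hT'T (1 ⊗ₜ[ℤ] KRR.bott PP j u), hT, ← map_mul, hv, map_one]
  · have hw' : T w * ((1 : R) ⊗ₜ[ℤ] KRR.bott PP₁ j (((n + 1 : ℕ) : KP₁) * φP₁ (PBK5.xi (PBK5.twPY n Y) (-1)))) = 1 := by
      rw [← hb, ← hT, ← map_mul, hw, map_one]
    have key := PBK5.adams_pushPr₁ hY₁ hP₁ hg₁ j hj R hjR aQ (T w) hw' (p₁ z)
    have hz : g₁ (p₁ z) = PBK5.pullRingHom hKY hY₁ hy₁ (g z) := by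
      show y₁ (g (p₂ (p₁ z))) = _
      rw [hp21]; rfl
    rw [hz, ← PBK5.map_adams (PA := PY) (PB := PY₁) (PBK5.pullRingHom hKY hY₁ hy₁) (PBK5.pull_lam hKY hY₁ hy₁) hj,
      ← PBK5.pullRingHom_apply hKP hP₁ hp₁ z,
      ← PBK5.map_adams (PA := PP) (PB := PP₁) P1 (PBK5.pull_lam hKP hP₁ hp₁) hj, ← hT, ← map_natCast T,
      ← map_mul, ← map_mul] at key
    have key2 := congrArg (LinearMap.lTensor R y₂.toIntLinearMap) key
    have hlT : ∀ t, LinearMap.lTensor R y₂.toIntLinearMap (LinearMap.lTensor R g₁.toIntLinearMap (T t)) =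
        LinearMap.lTensor R g.toIntLinearMap t := fun t => by
      induction t using TensorProduct.induction_on with
      | zero => simp
      | add a b ha hb => simp only [map_add, ha, hb]
      | tmul r x =>
        show r ⊗ₜ[ℤ] y₂ (y₁ (g (p₂ (p₁ x)))) = r ⊗ₜ[ℤ] g x
        rw [hy21, hp21]
    rw [hlT, LinearMap.lTensor_tmul] at key2
    refine Eq.trans ?_ key2
    show _ = (1 : R) ⊗ₜ[ℤ] y₂ (y₁ _)
    rw [hy21]


/-- Adams Riemann–Roch for the projection p : P = Pⁿ_Y ⟶ Y: let S be an affine Noetherian scheme, Y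
connected, Noetherian and quasi-projective over S, (KP, PP, φP) and (KY, PY, φY) models of K(P) and
K(Y) as λ-rings with positive structure, and g = p_K : K(P) → K(Y) the push-forward ([F] ↦ [p_*F] on
regular finite locally free F). Fix j ≥ 1, put R = ℤ[1/j] and let q = [p^*O_Y^{n+1} ⊗ O_P(−1)] ∈
K(P) (the class of the cotangent module of p plus 1, by the Euler sequence), so that the usual Adams
Riemann–Roch multiplier θ^j(T_p^∨)^{−1} is j · θ^j(q)^{−1}, θ^j denoting the Bott cannibalistic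
class. Then 1 ⊗ θ^j(q) is invertible in R ⊗ K(P) and, for every z ∈ K(P) and every inverse w of 1 ⊗
θ^j(q): 1 ⊗ ψ^j(p_K z) = (R ⊗ p_K)(j · (1 ⊗ ψ^j z) · w) in R ⊗ K(Y). -/
theorem result (S : Scheme.{u}) [IsAffine S] [IsNoetherian S] (n : ℕ) (Y : Scheme.{u}) [IsNoetherian Y] [ConnectedSpace ↥Y] (qY : Y ⟶ S) (hqY : KRR.IsQProjOver qY)
    (KP : Type v) [CommRing KP] [LambdaRing.LambdaOps KP] (PP : LambdaRing.PosStructure KP) (φP : SGA6.Kvb (KRR.PY n Y) →+ KP) (hKP : KRR.IsModel (KRR.PY n Y) KP PP φP)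
    (KY : Type v) [CommRing KY] [LambdaRing.LambdaOps KY] (PY : LambdaRing.PosStructure KY) (φY : SGA6.Kvb Y →+ KY) (hKY : KRR.IsModel Y KY PY φY)
    (g : KP →+ KY) (hg : KRR.IsPushPr n Y φP φY g) (j : ℕ) (hj : 1 ≤ j) (z : KP)
    :
    (∃ w : TensorProduct ℤ (Localization.Away (j : ℤ)) KP, w * ((1 : Localization.Away (j : ℤ)) ⊗ₜ[ℤ] KRR.bott PP j (φP (KRR.cl (KRR.PY n Y)
      (KRR.twF n Y (-1) ((Scheme.Modules.pullback (KRR.pr n Y)).obj (FlatMod.freeMod Y (n + 1))))))) = 1) ∧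
    ∀ w : TensorProduct ℤ (Localization.Away (j : ℤ)) KP, w * ((1 : Localization.Away (j : ℤ)) ⊗ₜ[ℤ] KRR.bott PP j (φP (KRR.cl (KRR.PY n Y)
      (KRR.twF n Y (-1) ((Scheme.Modules.pullback (KRR.pr n Y)).obj (FlatMod.freeMod Y (n + 1))))))) = 1 →
    (1 : Localization.Away (j : ℤ)) ⊗ₜ[ℤ] LambdaRing.adams PY j (g z) =
      LinearMap.lTensor (Localization.Away (j : ℤ)) g.toIntLinearMap
        ((j : TensorProduct ℤ (Localization.Away (j : ℤ)) KP) * ((1 : Localization.Away (j : ℤ)) ⊗ₜ[ℤ] LambdaRing.adams PP j z) * w) := by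
  haveI : Module.Flat ℤ (Localization.Away (j : ℤ)) := by
    convert IsLocalization.flat (Localization.Away (j : ℤ)) (Submonoid.powers (j : ℤ)) using 2
    all_goals first | rfl | exact Subsingleton.elim _ _
  refine aux n Y KP PP φP hKP KY PY φY hKY g hg j hj z (Localization.Away (j : ℤ)) ?_ (IsLocalization.Away.lift (j : ℤ) (g := Int.castRingHom ℚ)
    (by simpa using (show (j : ℚ) ≠ 0 by exact_mod_cast (show j ≠ 0 by omega))))
  simpa using IsLocalization.Away.algebraMap_isUnit (S := Localization.Away (j : ℤ)) (j : ℤ)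

end Groth.Agent.S3752
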