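import Groth.Statements.S3756
import Groth.Agent.Lib.CMReg18.RegKer

set_option autoImplicit false
universe v u
open CategoryTheory CategoryTheory.Limits AlgebraicGeometry
attribute [local instance] HasDerivedCategory.standard
open KRR

open Groth.Agent Groth.Agent.CMReg18
namespace Groth.Agent.S3756

/-- Let Y be a Noetherian scheme, p : P = P^n_Y ⟶ Y, and F a finite locally free O_P-module which is
regular relative to p. Then p_* F is a finite locally free O_Y-module. -/
theorem result (n : ℕ) (Y : Scheme.{u}) [IsNoetherian Y]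
    (F : (KRR.PY n Y).Modules) (hF : FlatMod.IsFinLocFree F) (hreg : KRR.IsRegSheaf n Y F) :
    FlatMod.IsFinLocFree ((Scheme.Modules.pushforward (KRR.pr n Y)).obj F) := by
  let π := CohB1.ProjSpaceOver.toBase n Y
  haveI : IsLocallyNoetherian (CohB1.ProjSpaceOver n Y) := LocallyOfFiniteType.isLocallyNoetherian π
  have hFc : Coh.IsCoh F := CohFound.isCoh_of_isFinLocFree hF
  haveI : Coh.IsQCoh F := hFc.1
  have hfl : FlatMod.IsFlatOver π F := DPerf.isFlatOver_of_isFlat π (KFlat.Sch.isFlat_of_isFinLocFree hF)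
  refine CBC10.isFinLocFree_push fun y => ?_
  obtain ⟨W, hW, hyW, -⟩ := exists_isAffineOpen_mem_and_subset (X := Y) (x := y) (U := ⊤) trivial
  have hH := subsingleton_fiberH_of_vanishing (f := π) hFc hfl hW
    (fun p hp => (isZero_rpushAb_iff_affine π hFc.1 p).1 ((regSheaf_twist hFc.1 hreg).2 p hp) W hW)
    (show y ∈ W from hyW) (p := 1) one_pos
  obtain ⟨V, M, hV, h1, -⟩ := CBC10.exists_nhd_H1 (M1.isFP_of_isCoh hFc) hfl y hH
  exact ⟨V, M, hV, h1⟩

end Groth.Agent.S3756
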