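import Groth.Statements.S3757
import Groth.Agent.Lib.CMReg18.RegKer

set_option autoImplicit false
universe v u
open CategoryTheory CategoryTheory.Limits AlgebraicGeometry
attribute [local instance] HasDerivedCategory.standard
open KRR

open Groth.Agent Groth.Agent.CMReg18
namespace Groth.Agent.S3757

/-- Let Y be a Noetherian scheme, p : P = P^n_Y ⟶ Y the structure morphism of projective n-space over Y,
and F a finite locally free O_P-module. Then there is m₀ such that p_*(F(m)) is a finite locally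
free O_Y-module for every m ≥ m₀. -/
theorem result (n : ℕ) (Y : Scheme.{u}) [IsNoetherian Y]
    (F : (KRR.PY n Y).Modules) (hF : FlatMod.IsFinLocFree F) :
    ∃ m₀ : ℕ, ∀ m : ℕ, m₀ ≤ m →
      FlatMod.IsFinLocFree ((Scheme.Modules.pushforward (KRR.pr n Y)).obj (KRR.twF n Y (m : ℤ) F)) := by
  let π := CohB1.ProjSpaceOver.toBase n Y
  have hFc : Coh.IsCoh F := CohFound.isCoh_of_isFinLocFree hF
  haveI : IsProper π := inferInstance
  haveI : HasInjectiveResolutions (CohB1.ProjSpaceOver n Y).Modules := CohFound.hasInjectiveResolutions_modules _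
  obtain ⟨N, hN⟩ := FlatTwist13.isFinLocFree_push π hFc
    (DPerf.isFlatOver_of_isFlat π (KFlat.Sch.isFlat_of_isFinLocFree hF)) (isRelAmple_O1 n Y)
  refine ⟨N, fun m hm => ?_⟩
  obtain ⟨e⟩ := nonempty_twistPow n Y m
  exact M2.isFinLocFree_of_iso ((Coh.push π).mapIso (M2.tensorIso (Iso.refl F) e.symm ≪≫ M2.tensorComm _ _ :
    CohB1.tensorMod F (CohB1.tensorPow (O1 n Y) m) ≅ KRR.twF n Y (m : ℤ) F)) (hN m hm)

end Groth.Agent.S3757
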