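import Groth.Statements.S3762
import Groth.Agent.Lib.CMReg18.KRRPushPF

set_option autoImplicit false
universe v u
open CategoryTheory CategoryTheory.Limits AlgebraicGeometry
attribute [local instance] HasDerivedCategory.standard
open KRR

open Groth.Agent Groth.Agent.CMReg18
namespace Groth.Agent.S3762

/-- Let Y be a connected Noetherian scheme, p : P = P^n_Y ⟶ Y, with models of K(P), K(Y), g = p_K the
push-forward and q = p^K the pull-back. Then p_K (x · p^K y) = p_K (x) · y for all x ∈ K(P), y ∈
K(Y). -/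
theorem result (n : ℕ) (Y : Scheme.{u}) [IsNoetherian Y] [ConnectedSpace ↥Y]
    (KP : Type v) [CommRing KP] [LambdaRing.LambdaOps KP] (PP : LambdaRing.PosStructure KP) (φP : SGA6.Kvb (KRR.PY n Y) →+ KP) (hKP : KRR.IsModel (KRR.PY n Y) KP PP φP)
    (KY : Type v) [CommRing KY] [LambdaRing.LambdaOps KY] (PY : LambdaRing.PosStructure KY) (φY : SGA6.Kvb Y →+ KY) (hKY : KRR.IsModel Y KY PY φY)
    (g : KP →+ KY) (hg : KRR.IsPushPr n Y φP φY g) (q : KY →+ KP) (hq : KRR.IsPull (KRR.pr n Y) φY φP q) (x : KP) (y : KY) :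
    g (x * q y) = g x * y := by
  obtain ⟨a, rfl⟩ := hKP.bijective.2 x
  obtain ⟨b, rfl⟩ := hKY.bijective.2 y
  induction a using K0Cat.clSub_induction with
  | h0 => simp only [map_zero, zero_mul]
  | hneg a ha => simp only [map_neg, neg_mul, ha]
  | hadd a a' ha ha' => simp only [map_add, add_mul, ha, ha']
  | hcl M hM =>
    induction b using K0Cat.clSub_induction with
    | h0 => simp only [map_zero, mul_zero]
    | hneg b hb => simp only [map_neg, mul_neg, hb]
    | hadd b b' hb hb' => simp only [map_add, mul_add, hb, hb']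
    | hcl E hE =>
      show g (φP (KRR.cl _ M) * q (φY (KRR.cl Y E))) = g (φP (KRR.cl _ M)) * φY (KRR.cl Y E)
      rw [hq E hE, hKP.map_mul _ _ hM (M2.isFinLocFree_pullback _ hE), push_eq_kPush hg, push_eq_kPush hg]
      exact kPush_mul_pull hKY hM hE

end Groth.Agent.S3762
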