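import Groth.Statements.S3765
import Groth.Agent.Lib.PBK5.PushCl

set_option autoImplicit false
universe v u
open CategoryTheory CategoryTheory.Limits AlgebraicGeometry
attribute [local instance] HasDerivedCategory.standard
open KRR

namespace Groth.Agent.S3765

/-- For the trivial bundle P = P^n_Y: let Y be a connected Noetherian scheme, p : P ⟶ Y the projection
and s : Y ⟶ P a section of p (s ≫ p = 𝟙); assume every coherent module on P is a quotient of a
finite locally free one. Then s is a regular closed imbedding (of codimension n), and with models of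
K(Y), K(P), the push-forward s_K (via finite locally free resolutions of s_*F) and p_K (via regular
sheaves) satisfy p_K ∘ s_K = id. -/
theorem result (n : ℕ) (Y : Scheme.{u}) [IsNoetherian Y] [ConnectedSpace ↥Y]
    (hPe : KRR.HasEnoughLocFree (KRR.PY n Y)) (s : Y ⟶ KRR.PY n Y) (hs : s ≫ KRR.pr n Y = 𝟙 Y)
    (KP : Type v) [CommRing KP] [LambdaRing.LambdaOps KP] (PP : LambdaRing.PosStructure KP) (φP : SGA6.Kvb (KRR.PY n Y) →+ KP) (hKP : KRR.IsModel (KRR.PY n Y) KP PP φP)
    (KY : Type v) [CommRing KY] [LambdaRing.LambdaOps KY] (PY : LambdaRing.PosStructure KY) (φY : SGA6.Kvb Y →+ KY) (hKY : KRR.IsModel Y KY PY φY)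
    (gs : KY →+ KP) (hgs : KRR.IsPushCl s φY φP gs) (gp : KP →+ KY) (hgp : KRR.IsPushPr n Y φP φY gp) :
    Mor2.IsRegularClosedImmersion s ∧ gp.comp gs = AddMonoidHom.id KY := by
  haveI : IsProper (KRR.pr n Y) := inferInstanceAs (IsProper (CohB1.ProjSpaceOver.toBase n Y))
  haveI : IsLocallyNoetherian (KRR.PY n Y) := LocallyOfFiniteType.isLocallyNoetherian (KRR.pr n Y)
  haveI : CompactSpace (KRR.PY n Y) := QuasiCompact.compactSpace_of_compactSpace (KRR.pr n Y)
  haveI : IsNoetherian (KRR.PY n Y) := {}
  haveI := PBK5.connectedSpace_PY n Y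
  have hYe : KRR.HasEnoughLocFree Y := fun F hF => by
    haveI : IsClosedImmersion s := (PBK5.isRegularClosedImmersion_section n s hs).1
    obtain ⟨E, p, hE, hp⟩ := hPe _ (CohFound.isCoh_push_closedImm s hF)
    haveI := CohFound.isIso_counit_closedImm s F hF.1
    exact ⟨_, (Scheme.Modules.pullback s).map p ≫ (Scheme.Modules.pullbackPushforwardAdjunction s).counit.app F,
      M2.isFinLocFree_pullback s hE, epi_comp _ _⟩
  have hr := PBK5.isRegularClosedImmersion_section n s hs
  haveI := hr.1
  refine ⟨hr, AddMonoidHom.ext fun x => ?_⟩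
  obtain ⟨a, rfl⟩ := hKY.bijective.2 x
  induction a using K0Cat.clSub_induction with
  | h0 => simp
  | hneg a ha => simp only [map_neg, ha]
  | hadd a b ha hb => simp only [map_add, ha, hb]
  | hcl F hF =>
    show gp (gs (φY (KRR.cl Y F))) = φY (KRR.cl Y F)
    rw [(LFResK5.isPushCl_iff s hr hPe φY φP gs).1 hgs F hF, CMReg18.push_eq_kPush hgp, ← LFResK5.pushK_cl s hr hPe hF,
      PBK5.kPush_pushK_section hYe hPe s hs hF]

end Groth.Agent.S3765
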