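import Groth.Statements.S3766
import Groth.Agent.Lib.PBK5.PushCl

set_option autoImplicit false
universe v u
open CategoryTheory CategoryTheory.Limits AlgebraicGeometry
attribute [local instance] HasDerivedCategory.standard
open KRR

namespace Groth.Agent.S3766

/-- Let i : X ⟶ Y be a regular closed imbedding of connected Noetherian schemes, j : P^n_X ⟶ P^n_Y the
induced morphism, g : P^n_X ⟶ X and f : P^n_Y ⟶ Y the projections; assume every coherent module on Y
and on P^n_Y is a quotient of a finite locally free one. Then j is a regular closed imbedding and,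
with models of the four K-rings and push-forwards i_K, j_K (via resolutions), g_K, f_K (via regular
sheaves): i_K ∘ g_K = f_K ∘ j_K. -/
theorem result (n : ℕ) {X Y : Scheme.{u}} (i : X ⟶ Y) (hi : Mor2.IsRegularClosedImmersion i)
    [IsNoetherian X] [ConnectedSpace ↥X] [IsNoetherian Y] [ConnectedSpace ↥Y] (hYe : KRR.HasEnoughLocFree Y) (hPe : KRR.HasEnoughLocFree (KRR.PY n Y))
    (KX : Type v) [CommRing KX] [LambdaRing.LambdaOps KX] (PX : LambdaRing.PosStructure KX) (φX : SGA6.Kvb X →+ KX) (hKX : KRR.IsModel X KX PX φX)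
    (KY : Type v) [CommRing KY] [LambdaRing.LambdaOps KY] (PY : LambdaRing.PosStructure KY) (φY : SGA6.Kvb Y →+ KY) (hKY : KRR.IsModel Y KY PY φY)
    (KPX : Type v) [CommRing KPX] [LambdaRing.LambdaOps KPX] (PPX : LambdaRing.PosStructure KPX) (φPX : SGA6.Kvb (KRR.PY n X) →+ KPX) (hKPX : KRR.IsModel (KRR.PY n X) KPX PPX φPX)
    (KPY : Type v) [CommRing KPY] [LambdaRing.LambdaOps KPY] (PPY : LambdaRing.PosStructure KPY) (φPY : SGA6.Kvb (KRR.PY n Y) →+ KPY) (hKPY : KRR.IsModel (KRR.PY n Y) KPY PPY φPY)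
    (gi : KX →+ KY) (hgi : KRR.IsPushCl i φX φY gi)
    (gj : KPX →+ KPY) (hgj : KRR.IsPushCl (KRR.projSpaceMap n i) φPX φPY gj)
    (gX : KPX →+ KX) (hgX : KRR.IsPushPr n X φPX φX gX) (gY : KPY →+ KY) (hgY : KRR.IsPushPr n Y φPY φY gY) :
    Mor2.IsRegularClosedImmersion (KRR.projSpaceMap n i) ∧ gi.comp gX = gY.comp gj := by
  haveI : IsProper (KRR.pr n Y) := inferInstanceAs (IsProper (CohB1.ProjSpaceOver.toBase n Y))
  haveI : IsLocallyNoetherian (KRR.PY n Y) := LocallyOfFiniteType.isLocallyNoetherian (KRR.pr n Y)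
  haveI : CompactSpace (KRR.PY n Y) := QuasiCompact.compactSpace_of_compactSpace (KRR.pr n Y)
  haveI : IsNoetherian (KRR.PY n Y) := {}
  haveI : IsProper (KRR.pr n X) := inferInstanceAs (IsProper (CohB1.ProjSpaceOver.toBase n X))
  haveI : IsLocallyNoetherian (KRR.PY n X) := LocallyOfFiniteType.isLocallyNoetherian (KRR.pr n X)
  haveI : CompactSpace (KRR.PY n X) := QuasiCompact.compactSpace_of_compactSpace (KRR.pr n X)
  haveI : IsNoetherian (KRR.PY n X) := {}
  haveI := hi.1
  have hj := PBK5.isRegularClosedImmersion_projMap n i hi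
  haveI := hj.1
  refine ⟨hj, AddMonoidHom.ext fun x => ?_⟩
  obtain ⟨a, rfl⟩ := hKPX.bijective.2 x
  induction a using K0Cat.clSub_induction with
  | h0 => simp
  | hneg a ha => simp only [map_neg, ha]
  | hadd a b ha hb => simp only [map_add, ha, hb]
  | hcl G hG =>
    show gi (gX (φPX _)) = gY (gj (φPX _))
    rw [(LFResK5.isPushCl_iff _ hj hPe φPX φPY gj).1 hgj G hG, CMReg18.push_eq_kPush hgY, CMReg18.push_eq_kPush hgX,
      ← LFResK5.pushK_cl _ hj hPe hG, PBK5.kPush_pushK_projMap i hi hYe hPe hG]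
    induction CMReg18.kPush n X (KRR.cl _ G) using K0Cat.clSub_induction with
    | h0 => simp
    | hneg a ha => simp only [map_neg, ha]
    | hadd a b ha hb => simp only [map_add, ha, hb]
    | hcl F hF =>
      rw [(LFResK5.isPushCl_iff i hi hYe φX φY gi).1 hgi F hF, LFResK5.pushK_cl i hi hYe hF]

end Groth.Agent.S3766
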