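import Groth.Statements.S3767
import Groth.Agent.Lib.PBK5.Exchange
import Groth.Agent.Lib.CMReg18.UniformFib

set_option autoImplicit false
universe v u
open CategoryTheory CategoryTheory.Limits AlgebraicGeometry
attribute [local instance] HasDerivedCategory.standard
set_option backward.isDefEq.respectTransparency false
set_option backward.isDefEq.respectTransparency.types false
set_option linter.style.haveILetI false
open KRR

namespace Groth.Agent.S3767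

/-- Let Y be a connected Noetherian scheme such that every coherent module on Y, on each P^a_Y and on
each P^a over P^b_Y is a quotient of a finite locally free one, and let f : X ⟶ Y (X connected)
admit two factorizations f = i₁ ≫ p and f = i₂ ≫ p' with i₁ : X ⟶ P^n_Y, i₂ : X ⟶ P^m_Y regular
closed imbeddings and p, p' the projections. With models of the K-rings, push-forwards (i₁)_K,
(i₂)_K via resolutions and p_K, p'_K via regular sheaves: p_K ∘ (i₁)_K = p'_K ∘ (i₂)_K. So f_K is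
well defined. -/
theorem result (n m : ℕ) {X Y : Scheme.{u}} [IsNoetherian Y] [ConnectedSpace ↥Y] (hYe : KRR.HasEnoughLocFree Y) (hstar : ∀ a : ℕ, KRR.HasEnoughLocFree (KRR.PY a Y) ∧ ∀ b : ℕ, KRR.HasEnoughLocFree (KRR.PY a (KRR.PY b Y)))
    [ConnectedSpace ↥X] (f : X ⟶ Y) (i₁ : X ⟶ KRR.PY n Y) (i₂ : X ⟶ KRR.PY m Y)
    (h₁ : Mor2.IsRegularClosedImmersion i₁) (h₂ : Mor2.IsRegularClosedImmersion i₂)
    (hf₁ : i₁ ≫ KRR.pr n Y = f) (hf₂ : i₂ ≫ KRR.pr m Y = f)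
    (KX : Type v) [CommRing KX] [LambdaRing.LambdaOps KX] (PX : LambdaRing.PosStructure KX) (φX : SGA6.Kvb X →+ KX) (hKX : KRR.IsModel X KX PX φX)
    (KY : Type v) [CommRing KY] [LambdaRing.LambdaOps KY] (PY : LambdaRing.PosStructure KY) (φY : SGA6.Kvb Y →+ KY) (hKY : KRR.IsModel Y KY PY φY)
    (K₁ : Type v) [CommRing K₁] [LambdaRing.LambdaOps K₁] (P₁ : LambdaRing.PosStructure K₁) (φ₁ : SGA6.Kvb (KRR.PY n Y) →+ K₁) (hK₁ : KRR.IsModel (KRR.PY n Y) K₁ P₁ φ₁)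
    (K₂ : Type v) [CommRing K₂] [LambdaRing.LambdaOps K₂] (P₂ : LambdaRing.PosStructure K₂) (φ₂ : SGA6.Kvb (KRR.PY m Y) →+ K₂) (hK₂ : KRR.IsModel (KRR.PY m Y) K₂ P₂ φ₂)
    (a₁ : KX →+ K₁) (ha₁ : KRR.IsPushCl i₁ φX φ₁ a₁) (b₁ : K₁ →+ KY) (hb₁ : KRR.IsPushPr n Y φ₁ φY b₁)
    (a₂ : KX →+ K₂) (ha₂ : KRR.IsPushCl i₂ φX φ₂ a₂) (b₂ : K₂ →+ KY) (hb₂ : KRR.IsPushPr m Y φ₂ φY b₂) :
    b₁.comp a₁ = b₂.comp a₂ := by
  haveI := h₁.1
  haveI := h₂.1
  haveI := Groth.Agent.PBK5.isNoetherian_PY n Y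
  haveI := Groth.Agent.PBK5.isNoetherian_PY m Y
  haveI := Groth.Agent.CMReg18.isNoetherian_of_immersion i₁
  refine AddMonoidHom.ext fun z => ?_
  obtain ⟨x, rfl⟩ := hKX.bijective.2 z
  show b₁ (a₁ (φX x)) = b₂ (a₂ (φX x))
  rw [Groth.Agent.PBK5.push_factor i₁ h₁ (hstar n).1 ha₁ hb₁, Groth.Agent.PBK5.push_factor i₂ h₂ (hstar m).1 ha₂ hb₂,
    Groth.Agent.PBK5.exchange i₁ h₁ i₂ h₂ (hf₂.trans hf₁.symm) (hstar n).1 (hstar m).1]

end Groth.Agent.S3767
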