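import Groth.Statements.S3776
import Groth.Agent.Lib.PBK5.PY

set_option autoImplicit false
universe v u
open CategoryTheory CategoryTheory.Limits AlgebraicGeometry
attribute [local instance] HasDerivedCategory.standard
open KRR

namespace Groth.Agent.S3776

/-- For the trivial bundle of rank n+1: let Y be a connected Noetherian scheme and p : P^n_Y ⟶ Y. With
models and p_K the push-forward: p_K(F^k K(P^n_Y)) ⊆ F^{k-n} K(Y) for all k (γ-filtrations; F^m = K
for m ≤ 0). No tensoring with ℚ is needed here. -/
theorem result (n : ℕ) (Y : Scheme.{u}) [IsNoetherian Y] [ConnectedSpace ↥Y]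
    (KP : Type v) [CommRing KP] [LambdaRing.LambdaOps KP] (PP : LambdaRing.PosStructure KP) (φP : SGA6.Kvb (KRR.PY n Y) →+ KP) (hKP : KRR.IsModel (KRR.PY n Y) KP PP φP)
    (KY : Type v) [CommRing KY] [LambdaRing.LambdaOps KY] (PY : LambdaRing.PosStructure KY) (φY : SGA6.Kvb Y →+ KY) (hKY : KRR.IsModel Y KY PY φY)
    (g : KP →+ KY) (hg : KRR.IsPushPr n Y φP φY g) (k : ℕ) (x : KP) (hx : x ∈ LambdaRing.gammaFiltration PP k) :
    g x ∈ LambdaRing.gammaFiltration PY (k - n) := by
  obtain ⟨q, hq, -⟩ := CMReg18.existsUnique_isPull (KRR.pr n Y) φP hKY.bijective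
  have hlin : ∀ (a : KY) (z : KP), g (q a * z) = g z * a := by
    intro a z
    obtain ⟨b, rfl⟩ := hKY.bijective.2 a
    obtain ⟨c, rfl⟩ := hKP.bijective.2 z
    rw [PBK5.isPull_apply hq]
    induction c using K0Cat.clSub_induction with
    | h0 => simp
    | hneg u hu => simp only [map_neg, mul_neg, neg_mul, hu]
    | hadd u v hu hv => simp only [map_add, mul_add, add_mul, hu, hv]
    | hcl M hM =>
      induction b using K0Cat.clSub_induction with
      | h0 => simp
      | hneg u hu => simp only [map_neg, mul_neg, neg_mul, hu]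
      | hadd u v hu hv => simp only [map_add, mul_add, add_mul, hu, hv]
      | hcl E hE =>
        rw [mul_comm (φP (PBK5.pullHom _ _)), PBK5.pullHom_cl _ hE,
          CMReg18.push_eq_kPush hg (KRR.cl _ M)]
        refine Eq.trans (congrArg g (hKP.map_mul M _ hM (M2.isFinLocFree_pullback _ hE))) ?_
        rw [CMReg18.push_eq_kPush hg]
        exact CMReg18.kPush_mul_pull hKY hM hE
  refine PBK5.filtration_PY hKY hKP hq k ((LambdaRing.gammaFiltration PY (k - n)).comap g) (fun i hi a ha => ?_) hx
  rw [AddSubgroup.mem_comap]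
  rw [hlin]
  exact Lambda.mul_left_mem_gammaFiltration PY _ _ _ (Lambda.gammaFiltration_anti PY (by omega) ha)

end Groth.Agent.S3776
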