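import Groth.Statements.S3778
import Groth.Agent.Lib.ElemExt5.Main

set_option linter.style.haveILetI false
set_option maxHeartbeats 800000

set_option autoImplicit false
universe v u
open CategoryTheory CategoryTheory.Limits AlgebraicGeometry
attribute [local instance] HasDerivedCategory.standard
open KRR

open scoped Polynomial

namespace Groth.Agent.S3778

/-- Let K be a λ-ring with a positive structure having the splitting property, e a positive element, m =
ε(e) its augmentation, p_e(T) = Σ_{i ≤ m} (−1)^i λ^i(e) T^{m−i}, and K_e = K[T]/(p_e) with canonical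
generator ℓ (the class of T). Then there are a λ-ring structure and a positive structure on K_e such
that the map K ⟶ K_e commutes with the λ-operations, λ^i(ℓ) = 0 for i ≥ 2 (so λ_t(ℓ) = 1 + ℓt), K ⟶
K_e is an extension of λ-rings with positive structure, ℓ is a line element, and, when m ≥ 2, e − ℓ
is positive in K_e. The published statement also asserts uniqueness of this λ-structure among
special λ-rings; only existence is stated here. -/
theorem result (K : Type v) [CommRing K] [LambdaRing.LambdaOps K] (P : LambdaRing.PosStructure K) (hK : LambdaRing.HasSplitting K P) (e : K) (he : e ∈ P.pos) :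
    ∃ (inst : LambdaRing.LambdaOps (AdjoinRoot (KRR.extPoly P e))) (Pe : @LambdaRing.PosStructure _ _ inst),
      (∀ (i : ℕ) (x : K), @LambdaRing.LambdaOps.lam _ _ inst i (AdjoinRoot.of (KRR.extPoly P e) x) =
        AdjoinRoot.of (KRR.extPoly P e) (LambdaRing.LambdaOps.lam i x)) ∧
      (∀ i : ℕ, 2 ≤ i → @LambdaRing.LambdaOps.lam _ _ inst i (AdjoinRoot.root (KRR.extPoly P e)) = 0) ∧
      @LambdaRing.IsExtension K _ _ _ _ inst P Pe (AdjoinRoot.of (KRR.extPoly P e)) ∧
      @LambdaRing.PosStructure.IsLine _ _ inst Pe (AdjoinRoot.root (KRR.extPoly P e)) ∧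
      (2 ≤ P.aug e → AdjoinRoot.of (KRR.extPoly P e) e - AdjoinRoot.root (KRR.extPoly P e) ∈
        (@LambdaRing.PosStructure.pos _ _ inst Pe)) := by
  obtain ⟨hp, hdeg, hm, -⟩ := ElemExt5.extPoly_facts he
  have hk := ElemExt5.kills_extPoly hK he
  let p := KRR.extPoly P e
  letI inst : LambdaRing.LambdaOps (AdjoinRoot p) := ElemExt5.extOps he
  have hbase : ∀ c : K[X], ∃ a b, ElemExt5.Pos P e a ∧ ElemExt5.Pos P e b ∧ AdjoinRoot.mk p c = a - b := by
    intro c
    induction c using Polynomial.induction_on' with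
    | add c d hc hd =>
      obtain ⟨a, b, ha, hb, h⟩ := hc
      obtain ⟨a', b', ha', hb', h'⟩ := hd
      exact ⟨a + a', b + b', ha.add ha', hb.add hb', by rw [map_add, h, h', add_sub_add_comm]⟩
    | monomial j x =>
      obtain ⟨a, b, ha, hb, rfl⟩ := P.exists_sub x
      have hpow : ∀ (j : ℕ) (x : K), x ∈ P.pos → ElemExt5.Pos P e (AdjoinRoot.of p x * AdjoinRoot.root p ^ j) := by
        intro j x hx
        induction j with
        | zero => simpa using ElemExt5.Pos.of x hx
        | succ j ih => rw [pow_succ, ← mul_assoc]; exact ih.mul .root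
      refine ⟨_, _, hpow j a ha, hpow j b hb, ?_⟩
      rw [← Polynomial.C_mul_X_pow_eq_monomial, map_mul, map_pow, AdjoinRoot.mk_C, AdjoinRoot.mk_X, map_sub, sub_mul]
  let Pe : LambdaRing.PosStructure (AdjoinRoot p) :=
    { aug := ElemExt5.extAug hK he
      aug_surjective := fun z => by
        obtain ⟨x, rfl⟩ := P.aug_surjective z
        exact ⟨AdjoinRoot.of p x, AdjoinRoot.lift_of _⟩
      pos := {y | ElemExt5.Pos P e y}
      add_mem := fun _ _ => ElemExt5.Pos.add
      mul_mem := fun _ _ => ElemExt5.Pos.mul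
      natCast_mem := fun n hn => by
        show ElemExt5.Pos P e n
        rw [← map_natCast (AdjoinRoot.of p)]
        exact .of _ (P.natCast_mem n hn)
      exists_sub := fun y => by
        obtain ⟨c, rfl⟩ := AdjoinRoot.mk_surjective y
        exact hbase c
      aug_pos := fun y hy => by
        obtain ⟨a, ha, h, -, -⟩ := ElemExt5.good_pos hK he hy
        rw [h]; omega
      lam_eq_zero := fun y hy i hi => by
        obtain ⟨a, ha, h, hz, -⟩ := ElemExt5.good_pos hK he hy
        rw [h] at hi
        exact hz i (by omega)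
      isUnit_lam := fun y hy => by
        obtain ⟨a, ha, h, -, hu⟩ := ElemExt5.good_pos hK he hy
        rw [h, Int.toNat_natCast]
        exact hu }
  have hof : ∀ (i : ℕ) (x : K), LambdaRing.LambdaOps.lam i (AdjoinRoot.of p x) =
      AdjoinRoot.of p (LambdaRing.LambdaOps.lam i x) := fun i x => ElemExt5.lam_of hp hk x i
  refine ⟨inst, Pe, hof, fun i hi => ?_, ⟨fun i x => (hof i x).symm, ?_, fun x => AdjoinRoot.lift_of (ElemExt5.eval_aug_extPoly hK he),
    fun x hx => .of x hx⟩, ⟨.root, AdjoinRoot.lift_root (ElemExt5.eval_aug_extPoly hK he)⟩, fun h => .rest h⟩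
  · show LambdaRing.LambdaOps.lam i (AdjoinRoot.root p) = 0
    rw [← AdjoinRoot.mk_X, ← Polynomial.monomial_one_one_eq_X]
    show (ElemExt5.ops hp).lam i _ = 0
    rw [ElemExt5.lam_monomial hp hk, Lambda.pos_lam_one P i hi, map_zero, zero_mul]
  · rw [injective_iff_map_eq_zero]
    intro x hx
    haveI : Nontrivial K := by
      obtain ⟨z, hz⟩ := P.aug_surjective 1
      exact ⟨z, 0, fun h => by rw [h, map_zero] at hz; exact zero_ne_one hz⟩
    rw [← AdjoinRoot.mk_C, AdjoinRoot.mk_eq_zero, ← Polynomial.modByMonic_eq_zero_iff_dvd hp,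
      (Polynomial.modByMonic_eq_self_iff hp).2 (lt_of_le_of_lt Polynomial.degree_C_le (by
        rw [Polynomial.degree_eq_natDegree hp.ne_zero, hdeg]; exact_mod_cast hm)), Polynomial.C_eq_zero] at hx
    exact hx

end Groth.Agent.S3778
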