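import Groth.Statements.S3781
import Groth.Agent.Lib.Lambda.Det

set_option autoImplicit false
universe v u
open CategoryTheory CategoryTheory.Limits AlgebraicGeometry
attribute [local instance] HasDerivedCategory.standard
open KRR

namespace Groth.Agent.S3781

/-- Let K be a λ-ring with positive structure having the splitting property, L its group of line
elements and F^n the γ-filtration. Assume moreover that the inverse of a line element is a line
element and that for a positive e with ε(e) = r the element det e = λ^r(e) is positive (hence a line
element); these are part of the published setting but are not implied by the axioms used here, so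
they are hypotheses. Then u ↦ u − 1 induces an isomorphism L ≅ Gr^1 K = F^1/F^2: every x ∈ F^1 is
congruent modulo F^2 to u − 1 for some line element u, and line elements u, v with u − v ∈ F^2 are
equal. -/
theorem result (K : Type v) [CommRing K] [LambdaRing.LambdaOps K] (P : LambdaRing.PosStructure K) (hK : LambdaRing.HasSplitting K P)
    (hLinv : ∀ w : K, P.IsLine w → ∃ w' : K, P.IsLine w' ∧ w * w' = 1)
    (hdet : ∀ e : K, e ∈ P.pos → LambdaRing.LambdaOps.lam (P.aug e).toNat e ∈ P.pos) :
    (∀ x : K, x ∈ LambdaRing.gammaFiltration P 1 → ∃ u : K, P.IsLine u ∧ x - (u - 1) ∈ LambdaRing.gammaFiltration P 2) ∧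
    ∀ u v : K, P.IsLine u → P.IsLine v → u - v ∈ LambdaRing.gammaFiltration P 2 → u = v := by
  exact ⟨fun x hx => Groth.Agent.Lambda.exists_line_congr hK hLinv hdet x hx,
    fun u v hu hv h => Groth.Agent.Lambda.line_eq_of_sub_mem hK hu hv h⟩

end Groth.Agent.S3781
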