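import Groth.Statements.S3783
import Groth.Agent.Lib.PBK5.Hom
import Groth.Agent.Lib.PBK5.Sect

set_option autoImplicit false
universe v u
open CategoryTheory CategoryTheory.Limits AlgebraicGeometry
attribute [local instance] HasDerivedCategory.standard
open KRR

namespace Groth.Agent.S3783

/-- For P = P^n_Y: let Y be a connected Noetherian scheme, p : P^n_Y ⟶ Y, with models of K(P), K(Y)
having the splitting property and q = p^K the pull-back. Then for every k, an element y ∈ K(Y) lies
in F^k K(Y) if and only if p^K y lies in F^k K(P) (γ-filtrations). -/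
theorem result (n : ℕ) (Y : Scheme.{u}) [IsNoetherian Y] [ConnectedSpace ↥Y]
    (KP : Type v) [CommRing KP] [LambdaRing.LambdaOps KP] (PP : LambdaRing.PosStructure KP) (φP : SGA6.Kvb (KRR.PY n Y) →+ KP) (hKP : KRR.IsModel (KRR.PY n Y) KP PP φP) (hsP : LambdaRing.HasSplitting KP PP)
    (KY : Type v) [CommRing KY] [LambdaRing.LambdaOps KY] (PY : LambdaRing.PosStructure KY) (φY : SGA6.Kvb Y →+ KY) (hKY : KRR.IsModel Y KY PY φY) (hsY : LambdaRing.HasSplitting KY PY)
    (q : KY →+ KP) (hq : KRR.IsPull (KRR.pr n Y) φY φP q) (k : ℕ) :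
    (LambdaRing.gammaFiltration PP k).comap q = LambdaRing.gammaFiltration PY k := by
  obtain ⟨s, hs⟩ := PBK5.exists_section_PY n Y
  obtain ⟨g, hg, -⟩ := CMReg18.existsUnique_isPull s φY hKP.bijective
  have hid : ∀ y, g (q y) = y := by
    intro y
    obtain ⟨a, rfl⟩ := hKY.bijective.2 y
    induction a using K0Cat.clSub_induction with
    | h0 => simp
    | hneg a ha => simp [ha]
    | hadd a b ha hb => simp [ha, hb]
    | hcl E hE =>
      refine ((congrArg g (hq E hE)).trans (hg _ (M2.isFinLocFree_pullback _ hE))).trans (congrArg φY ?_)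
      exact PBK5.cl_congr ((Scheme.Modules.pullbackComp s (KRR.pr n Y)).app E ≪≫
        (Scheme.Modules.pullbackCongr hs).app E ≪≫ (Scheme.Modules.pullbackId Y).app E)
        (M2.isFinLocFree_pullback _ (M2.isFinLocFree_pullback _ hE))
  ext y
  refine ⟨fun hy => ?_, fun hy => PBK5.pull_filtration hKY hKP hq k hy⟩
  rw [← hid y]
  exact PBK5.pull_filtration hKP hKY hg k hy

end Groth.Agent.S3783
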