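import Groth.Statements.S3786
import Groth.Agent.Lib.PBK5.Exchange
import Groth.Agent.Lib.CohMop.ProperSupport
import Groth.Agent.Lib.CohFound.RpushHc

set_option autoImplicit false
universe v u
open CategoryTheory CategoryTheory.Limits AlgebraicGeometry
attribute [local instance] HasDerivedCategory.standard
set_option backward.isDefEq.respectTransparency false
set_option backward.isDefEq.respectTransparency.types false
set_option linter.style.haveILetI false
open KRR

namespace Groth.Agent.S3786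

open Groth.Agent.CMReg18 (overData kPush evalZero)
open Groth.Agent.LFResK5 (Bd BdP kcl kEquiv pushK)

attribute [local instance] Groth.Agent.ExtFil4.kvbRing

theorem delta_kcl {Y : Scheme.{u}} [IsLocallyNoetherian Y] (hY' : KRR.HasEnoughLocFree Y)
    (hY : ∀ M : Y.Modules, FlatMod.IsFinLocFree M → Coh.IsCoh M) {M : Y.Modules} (hM : Bd M) :
    SGA6.mapSub (𝟭 Y.Modules) (KRR.vbP Y) (fun M : Y.Modules => Coh.IsCoh M) hY (kcl hY' M) =
      KZero.clSub (fun M : Y.Modules => Coh.IsCoh M) M := by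
  have key : SGA6.mapSub (𝟭 Y.Modules) (KRR.vbP Y) (fun M : Y.Modules => Coh.IsCoh M) hY =
      (SGA6.mapSub (𝟭 Y.Modules) (BdP Y) (fun M : Y.Modules => Coh.IsCoh M) fun _ h => h.1).comp
        (kEquiv hY').toAddMonoidHom := LFResK5.addHom_ext fun E hE => by
    show SGA6.mapSub (𝟭 Y.Modules) (KRR.vbP Y) (fun M : Y.Modules => Coh.IsCoh M) hY (KRR.cl Y E) =
      SGA6.mapSub (𝟭 Y.Modules) (BdP Y) (fun M : Y.Modules => Coh.IsCoh M) _ (kEquiv hY' (KRR.cl Y E))
    rw [LFResK5.kEquiv_cl hY' hE, LFResK5.mapSub_clSub _ _ _ (fun _ h => h.1) (LFResK5.bd_of_isFinLocFree hE)]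
    exact LFResK5.mapSub_clSub _ _ _ hY hE
  rw [key]
  show SGA6.mapSub _ _ _ _ (kEquiv hY' (kcl hY' M)) = _
  rw [kcl, AddEquiv.apply_symm_apply]
  exact LFResK5.mapSub_clSub _ _ _ (fun _ h => h.1) hM

theorem isZero_rpush_of_rpushAb {A B : Scheme.{u}} (g : A ⟶ B) [HasInjectiveResolutions A.Modules] {M : A.Modules}
    (q : ℕ) (h : IsZero ((Coh.RpushAb g q).obj (Coh.toAb M))) : IsZero ((Coh.Rpush g q).obj M) := by
  obtain ⟨e⟩ := CohFound.nonempty_abF_rpush_iso_shPre g M q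
  obtain ⟨e'⟩ := CohFound.nonempty_rpush_iso_shPre (g.base : CohFound.sp A ⟶ CohFound.sp B) ((CohFound.abF A).obj M) q
  have h1 : IsZero ((CohFound.abF B).obj ((Coh.Rpush g q).obj M)) := h.of_iso (e ≪≫ e'.symm)
  rw [IsZero.iff_id_eq_zero]
  exact (CohFound.abF B).map_injective (h1.eq_of_src _ _)

/-- Let Y be a connected Noetherian scheme in which every coherent module on Y and on P^n_Y is a
quotient of a finite locally free one, and f = i ≫ p : X ⟶ Y with i : X ⟶ P^n_Y a regular closed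
imbedding (X connected) and p the projection. Let δ_X : K₀(bundles on X) ⟶ K₀(Coh X) and δ_Y be the
maps induced by the inclusions (arguments hX, hY), f_K = p_K ∘ i_K the push-forward on K of bundles
(through models (KX, PX, φX), (KP, PP, φP), (KY, PY, φY)), and g the push-forward on K₀ of coherent
modules, g[F] = Σ_{i ≤ N} (-1)^i [R^i f_* F]. Then δ_Y ∘ f_K = g ∘ δ_X: for x ∈ K₀(bundles on X) and
y ∈ K₀(bundles on Y) with φY y = f_K (φX x), δ_Y y = g (δ_X x). -/
theorem result (n : ℕ) {X Y : Scheme.{u}} [IsNoetherian X] [ConnectedSpace ↥X] [IsNoetherian Y] [ConnectedSpace ↥Y] (hYe : KRR.HasEnoughLocFree Y)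
    (hPe : KRR.HasEnoughLocFree (KRR.PY n Y)) [HasInjectiveResolutions X.Modules]
    (i : X ⟶ KRR.PY n Y) (hi : Mor2.IsRegularClosedImmersion i)
    (hX : ∀ M : X.Modules, FlatMod.IsFinLocFree M → Coh.IsCoh M) (hY : ∀ M : Y.Modules, FlatMod.IsFinLocFree M → Coh.IsCoh M)
    (KX : Type v) [CommRing KX] [LambdaRing.LambdaOps KX] (PX : LambdaRing.PosStructure KX) (φX : SGA6.Kvb X →+ KX) (hKX : KRR.IsModel X KX PX φX)
    (KP : Type v) [CommRing KP] [LambdaRing.LambdaOps KP] (PP : LambdaRing.PosStructure KP) (φP : SGA6.Kvb (KRR.PY n Y) →+ KP) (hKP : KRR.IsModel (KRR.PY n Y) KP PP φP)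
    (KY : Type v) [CommRing KY] [LambdaRing.LambdaOps KY] (PY : LambdaRing.PosStructure KY) (φY : SGA6.Kvb Y →+ KY) (hKY : KRR.IsModel Y KY PY φY)
    (a : KX →+ KP) (ha : KRR.IsPushCl i φX φP a) (b : KP →+ KY) (hb : KRR.IsPushPr n Y φP φY b)
    (N : ℕ) (g : SGA6.Kcoh X →+ SGA6.Kcoh Y) (hg : KRR.IsPushCoh (i ≫ KRR.pr n Y) N g)
    (x : SGA6.Kvb X) (y : SGA6.Kvb Y) (hxy : φY y = b (a (φX x))) :
    SGA6.mapSub (𝟭 Y.Modules) (KRR.vbP Y) (fun M : Y.Modules => Coh.IsCoh M) hY y =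
      g (SGA6.mapSub (𝟭 X.Modules) (KRR.vbP X) (fun M : X.Modules => Coh.IsCoh M) hX x) := by
  haveI := hi.1
  haveI := PBK5.isNoetherian_PY n Y
  haveI : IsProper (KRR.pr n Y) := inferInstanceAs (IsProper (CohB1.ProjSpaceOver.toBase n Y))
  have hy : y = kPush n Y (pushK i hi hPe x) := hKY.bijective.1 (hxy.trans (PBK5.push_factor i hi hPe ha hb x))
  subst hy
  let δX := SGA6.mapSub (𝟭 X.Modules) (KRR.vbP X) (fun M : X.Modules => Coh.IsCoh M) hX
  let δY := SGA6.mapSub (𝟭 Y.Modules) (KRR.vbP Y) (fun M : Y.Modules => Coh.IsCoh M) hY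
  have H : δY.comp ((kPush n Y).comp (pushK i hi hPe)) = g.comp δX := by
    refine LFResK5.addHom_ext fun F hF => ?_
    show δY (kPush n Y (pushK i hi hPe (KRR.cl X F))) = g (δX (KRR.cl X F))
    let l := PBK5.pullHom i (PBK5.xi (PBK5.twPY n Y) 1)
    let l' := PBK5.pullHom i (PBK5.xi (PBK5.twPY n Y) (-1))
    have hB := LFResK5.bd_push_of_finLocFree i hi hF
    obtain ⟨hc, k, hk⟩ := hB
    obtain ⟨N₀, hN₁, hN₂⟩ := PBK5.pushGood hYe hPe k hc (hk.mono (Nat.le_succ k))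
    let G : ℤ → X.Modules := fun z => CohB1.tensorMod F ((Scheme.Modules.pullback i).obj ((overData n Y).O z))
    have hO : ∀ z : ℤ, FlatMod.IsFinLocFree ((overData n Y).O z) := fun z => PBK5.vb_O (W := PBK5.twPY n Y) z
    have hG : ∀ z, FlatMod.IsFinLocFree (G z) := fun z =>
      M2.isFinLocFree_tensor hF (M2.isFinLocFree_pullback i (hO z))
    let h : ℤ → SGA6.Kvb X := fun z => KRR.cl X (G z)
    have h0 : ∀ z : ℕ, h z = ExtFil4.cl F * l ^ z := fun z => by
      have hp : PBK5.pullHom i (PBK5.xi (PBK5.twPY n Y) (z : ℤ)) = l ^ z := by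
        show _ = PBK5.pullHom i _ ^ z
        rw [← map_pow, PBK5.xi_pow_nat]
      rw [← hp, show PBK5.pullHom i (PBK5.xi (PBK5.twPY n Y) (z : ℤ)) =
        ExtFil4.cl ((Scheme.Modules.pullback i).obj ((overData n Y).O (z : ℤ))) from PBK5.pullHom_cl i (hO z)]
      exact (PBK5.cl_mul hF (M2.isFinLocFree_pullback i (hO z))).symm
    have hgeom : evalZero n h (N₀ + n) = ExtFil4.cl F := by
      refine PBK5.evalZero_geom (ExtFil4.cl F) l l' ?_ n ?_ h h0 _ (by omega)
      · show PBK5.pullHom i _ * PBK5.pullHom i _ = 1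
        rw [← map_mul, PBK5.xi_add, add_neg_cancel, PBK5.xi_zero, map_one]
      · show (PBK5.pullHom i _ - 1) ^ (n + 1) = 0
        rw [← map_one (PBK5.pullHom i), ← map_sub, ← map_pow, PBK5.xi_sub_one_pow, map_zero]
    rw [LFResK5.pushK_cl i hi hPe hF, hN₂ (N₀ + n) le_rfl, CMReg18.map_evalZero]
    refine Eq.trans ?_ ((CMReg18.map_evalZero (g.comp δX) n h (N₀ + n)).symm.trans (congrArg (g.comp δX) hgeom))
    refine CMReg18.evalZero_congr n _ fun z hz _ => ?_
    obtain ⟨hz0, hzB⟩ := hN₁ z (by omega)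
    obtain ⟨et⟩ := CohFound.nonempty_push_tensor_iso i F (LFResK5.isCoh_of_isFinLocFree hF).1 ((overData n Y).O z)
      (M2.isQCoh_of_isFinLocFree (hO z))
    have hvan : ∀ q : ℕ, 1 ≤ q → IsZero ((Coh.Rpush (i ≫ KRR.pr n Y) q).obj (G z)) := fun q hq => by
      obtain ⟨e⟩ := CohMop.nonempty_rpush_push_iso i (KRR.pr n Y) (G z) q
      exact ((isZero_rpush_of_rpushAb (KRR.pr n Y) q (hz0 q hq)).of_iso
        ((Coh.Rpush (KRR.pr n Y) q).mapIso et)).of_iso e.symm
    show δY (kcl hYe _) = g (δX (KRR.cl X (G z)))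
    rw [show δX (KRR.cl X (G z)) = KZero.clSub (fun M : X.Modules => Coh.IsCoh M) (G z) from
      LFResK5.mapSub_clSub _ _ _ hX (hG z), hg.2 _ (LFResK5.isCoh_of_isFinLocFree (hG z)),
      show δY (kcl hYe _) = KZero.clSub (fun M : Y.Modules => Coh.IsCoh M) _ from delta_kcl hYe hY hzB,
      Finset.sum_eq_single 0 (fun q _ hq => by
        rw [K0Cat.clSub_of_isZero (hvan q (by omega)) (DPerf.isCoh_of_isZero (hvan q (by omega))), smul_zero])
        (fun h => absurd (Finset.mem_range.2 (Nat.succ_pos N)) h), pow_zero, one_smul]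
    have e0 : (Scheme.Modules.pushforward (KRR.pr n Y)).obj ((overData n Y).tw ((Scheme.Modules.pushforward i).obj F) z) ≅ (Coh.Rpush (i ≫ KRR.pr n Y) 0).obj (G z) := ?_
    refine LFResK5.clSub_iso_of_zero _ (fun hh => DPerf.isCoh_of_isZero hh) e0 hzB.1 ⟨M1.isQCoh_of_isIso e0 hzB.1.1, M1.isFT_of_isIso e0 hzB.1.2⟩
    exact (Scheme.Modules.pushforward (KRR.pr n Y)).mapIso et.symm ≪≫
      (Scheme.Modules.pushforwardComp i (KRR.pr n Y)).app _ ≪≫
      ((Scheme.Modules.pushforward (i ≫ KRR.pr n Y)).rightDerivedZeroIsoSelf.app (G z)).symm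
  exact DFunLike.congr_fun H x

end Groth.Agent.S3786
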