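import Groth.Statements.S3788
import Groth.Agent.Lib.KModel5.Main
import Groth.Agent.Lib.Wedge2.Props
import Groth.Agent.Lib.Cyc26.SplitBase

set_option autoImplicit false
universe v u
open CategoryTheory CategoryTheory.Limits AlgebraicGeometry
attribute [local instance] HasDerivedCategory.standard
open KRR

namespace Groth.Agent.S3788

/-- The relation satisfied by the tautological class: let X be a connected Noetherian scheme, E finite
locally free of rank r + 1, and (π : P ⟶ X, O(1), q) its projective bundle P(E) (universal property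
for invertible quotients of pull-backs of E), P connected Noetherian. With models of K(X), K(P), g =
π^K, e = [E] and ℓ = [O(1)]: Σ_{i=0}^{r+1} (-1)^i π^K(λ^i e) ℓ^{r+1-i} = 0 in K(P). -/
theorem result (X P : Scheme.{u}) [IsNoetherian X] [ConnectedSpace ↥X] [IsNoetherian P] [ConnectedSpace ↥P]
    (r : ℕ) (E : X.Modules) (hE : FlatMod.IsFinLocFreeOfRank (r + 1) E)
    (π : P ⟶ X) (O1 : P.Modules) (q : (Scheme.Modules.pullback π).obj E ⟶ O1) (hPB : KRR.IsProjBundle π E O1 q)
    (KX : Type v) [CommRing KX] [LambdaRing.LambdaOps KX] (PX : LambdaRing.PosStructure KX) (φX : SGA6.Kvb X →+ KX) (hKX : KRR.IsModel X KX PX φX)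
    (KP : Type v) [CommRing KP] [LambdaRing.LambdaOps KP] (PP : LambdaRing.PosStructure KP) (φP : SGA6.Kvb P →+ KP) (hKP : KRR.IsModel P KP PP φP)
    (g : KX →+ KP) (hg : KRR.IsPull π φX φP g) :
    ∑ i ∈ Finset.range (r + 2), (-1 : KP) ^ i * g (LambdaRing.LambdaOps.lam i (φX (KRR.cl X E))) * φP (KRR.cl P O1) ^ (r + 1 - i) = 0 := by
  haveI := hPB.epi
  have hEl := Groth.Agent.M2.isFinLocFree_of_ofRank hE
  let E' := (Scheme.Modules.pullback π).obj E
  have hE' : FlatMod.IsFinLocFreeOfRank (r + 1) E' := fun y => by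
    obtain ⟨U, hU, ⟨i⟩⟩ := hE (π y)
    exact ⟨π ⁻¹ᵁ U, hU, ⟨Groth.Agent.M2.pullbackRestrictIso π E U ≪≫ (Scheme.Modules.pullback _).mapIso i ≪≫
      Groth.Agent.M2.freeModPullbackIso _ _⟩⟩
  have hE'l := Groth.Agent.M2.isFinLocFree_of_ofRank hE'
  have hOl := Groth.Agent.M2.isFinLocFree_of_ofRank hPB.invertible
  let S : ShortComplex P.Modules := ShortComplex.mk (kernel.ι q) q (kernel.condition q)
  have hS : S.ShortExact := ShortComplex.ShortExact.mk' (S.exact_of_f_is_kernel (kernelIsKernel q)) inferInstance inferInstance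
  have hk : FlatMod.IsFinLocFreeOfRank r (kernel q) :=
    Groth.Agent.Cyc26Split.isFinLocFreeOfRank_kernel _ _ _ hS hE' hPB.invertible
  have hkl := Groth.Agent.M2.isFinLocFree_of_ofRank hk
  have hgl : ∀ i : ℕ, g (LambdaRing.LambdaOps.lam i (φX (KRR.cl X E))) =
      LambdaRing.LambdaOps.lam i (φP (KRR.cl P E')) := fun i => by
    obtain ⟨L, hL, hLE⟩ := Groth.Agent.KModel5.hasExt X i E hEl
    rw [hKX.map_lam i E L hEl hL hLE, hg L hL, hKP.map_lam i _ _ hE'l (Groth.Agent.M2.isFinLocFree_pullback π hL)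
      (Groth.Agent.Wedge2.isExtPow_pullback' π (Groth.Agent.M1.isFP_isQCoh (Groth.Agent.M1.isFP_of_isFinLocFree hEl)) hLE)]
  have hsum : φP (KRR.cl P E') = φP (KRR.cl P (kernel q)) + φP (KRR.cl P O1) := by
    rw [← map_add]
    exact congrArg φP (Groth.Agent.K0Cat.clSub_ses S hS hkl hE'l hOl)
  obtain ⟨L, hL, hLk⟩ := Groth.Agent.KModel5.hasExt P (r + 1) (kernel q) hkl
  have htop : LambdaRing.LambdaOps.lam (r + 1) (φP (KRR.cl P (kernel q))) = 0 := by
    rw [hKP.map_lam (r + 1) _ L hkl hL hLk,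
      show KRR.cl P L = 0 from Groth.Agent.K0Cat.clSub_of_isZero (Groth.Agent.DeRhamH7.isZero_extPow hLk fun x => by
        obtain ⟨D, e, hxD, he⟩ := Groth.Agent.P1Split.exists_isBas_nhd hk x
        exact ⟨r, D, e, hxD, by omega, he⟩) hL, map_zero]
  have hline : φP (KRR.cl P O1) ∈ PP.pos := (hKP.mem_pos_iff _).2 ⟨1, O1, le_rfl, hPB.invertible, rfl⟩
  simp only [hgl, hsum]
  generalize φP (KRR.cl P (kernel q)) = a at htop ⊢
  have haug : PP.aug (φP (KRR.cl P O1)) = 1 := by rw [hKP.aug_cl 1 O1 hPB.invertible]; rfl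
  generalize φP (KRR.cl P O1) = l at hline haug ⊢
  have hadd : ∀ i : ℕ, LambdaRing.LambdaOps.lam (i + 1) (a + l) =
      LambdaRing.LambdaOps.lam (i + 1) a + LambdaRing.LambdaOps.lam i a * l := fun i => by
    rw [LambdaRing.LambdaOps.lam_add, Finset.sum_range_succ, Finset.sum_range_succ, Nat.sub_self,
      LambdaRing.LambdaOps.lam_zero l, mul_one, show i + 1 - i = 1 by omega, LambdaRing.LambdaOps.lam_one,
      Finset.sum_eq_zero fun j hj => ?_, zero_add, add_comm]
    have hj' := Finset.mem_range.1 hj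
    rw [PP.lam_eq_zero l hline (i + 1 - j) (by rw [haug]; omega), mul_zero]
  let F : ℕ → KP := fun i => (-1) ^ i * LambdaRing.LambdaOps.lam i a * l ^ (r + 1 - i)
  rw [Finset.sum_range_succ']
  have hterm : ∀ i ∈ Finset.range (r + 1),
      (-1 : KP) ^ (i + 1) * LambdaRing.LambdaOps.lam (i + 1) (a + l) * l ^ (r + 1 - (i + 1)) = F (i + 1) - F i :=
    fun i hi => by
      have hi' := Finset.mem_range.1 hi
      simp only [F]
      rw [hadd, show r + 1 - i = (r + 1 - (i + 1)) + 1 by omega, pow_succ (-1 : KP) i, pow_succ]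
      ring
  rw [Finset.sum_congr rfl hterm, Finset.sum_range_sub]
  simp [F, htop, LambdaRing.LambdaOps.lam_zero]

end Groth.Agent.S3788
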