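import Groth.Statements.S3790
import Groth.Agent.Lib.PBK5.BaseChangeCl
import Groth.Agent.Lib.PBK5.Exchange
import Groth.Agent.Lib.CMReg18.UniformFib

set_option autoImplicit false
universe v u
open CategoryTheory CategoryTheory.Limits AlgebraicGeometry
attribute [local instance] HasDerivedCategory.standard
set_option backward.isDefEq.respectTransparency false
set_option backward.isDefEq.respectTransparency.types false
set_option linter.style.haveILetI false
open KRR

namespace Groth.Agent.S3790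

open Groth.Agent.LFResK5 (pushK)

attribute [local instance] Groth.Agent.ExtFil4.kvbRing

/-- Let X be a connected Noetherian scheme on which every coherent module is a quotient of a finite
locally free one, and i : Y ⟶ X, j : Z ⟶ X regular closed imbeddings (Y, Z connected) meeting
regularly: with W = Y ×_X Z and projections h : W ⟶ Y, g : W ⟶ Z, the base change g is a regular
closed imbedding of the same codimension as i (conormal modules of i and g finite locally free of
the same rank), W connected. With models and push-forwards i_K, j_K, (g ≫ j)_K: [O_Y] · [O_Z] =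
[O_{Y ∩ Z}] in K(X), i.e. i_K(1) · j_K(1) = (g ≫ j)_K(1). -/
theorem result {X Y Z W : Scheme.{u}} [IsNoetherian X] [ConnectedSpace ↥X] (hXe : KRR.HasEnoughLocFree X)
    (i : Y ⟶ X) (hi : Mor2.IsRegularClosedImmersion i) [ConnectedSpace ↥Y]
    (j : Z ⟶ X) (hj : Mor2.IsRegularClosedImmersion j) [ConnectedSpace ↥Z]
    (h : W ⟶ Y) (g : W ⟶ Z) (hsq : IsPullback g h j i) (hg : Mor2.IsRegularClosedImmersion g) [ConnectedSpace ↥W]
    (d : ℕ) (hci : FlatMod.IsFinLocFreeOfRank d (Omega.conormal i)) (hcg : FlatMod.IsFinLocFreeOfRank d (Omega.conormal g))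
    (KX : Type v) [CommRing KX] [LambdaRing.LambdaOps KX] (PX : LambdaRing.PosStructure KX) (φX : SGA6.Kvb X →+ KX) (hKX : KRR.IsModel X KX PX φX)
    (KY : Type v) [CommRing KY] [LambdaRing.LambdaOps KY] (PY : LambdaRing.PosStructure KY) (φY : SGA6.Kvb Y →+ KY) (hKY : KRR.IsModel Y KY PY φY)
    (KZ : Type v) [CommRing KZ] [LambdaRing.LambdaOps KZ] (PZ : LambdaRing.PosStructure KZ) (φZ : SGA6.Kvb Z →+ KZ) (hKZ : KRR.IsModel Z KZ PZ φZ)
    (KW : Type v) [CommRing KW] [LambdaRing.LambdaOps KW] (PW : LambdaRing.PosStructure KW) (φW : SGA6.Kvb W →+ KW) (hKW : KRR.IsModel W KW PW φW)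
    (a : KY →+ KX) (ha : KRR.IsPushCl i φY φX a) (b : KZ →+ KX) (hb : KRR.IsPushCl j φZ φX b)
    (c : KW →+ KX) (hc : KRR.IsPushCl (g ≫ j) φW φX c) :
    a 1 * b 1 = c 1 := by
  haveI := hi.1
  haveI := hj.1
  haveI := hg.1
  haveI := CMReg18.isNoetherian_of_immersion i
  haveI := CMReg18.isNoetherian_of_immersion j
  haveI := CMReg18.isNoetherian_of_immersion g
  have hgj := RegImm26.regularClosedImmersion_comp g j hg hj
  haveI := hgj.1
  have hZe := PBK5.hasEnoughLocFree_closed j hXe
  have key : ∀ {V : Scheme.{u}} [IsNoetherian V] (k : V ⟶ X) [IsClosedImmersion k]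
      (hk : Mor2.IsRegularClosedImmersion k) {KV : Type v} [CommRing KV] (φV : SGA6.Kvb V →+ KV)
      (k' : KV →+ KX), KRR.IsPushCl k φV φX k' → φV (KRR.cl V (Coh.structureModule V)) = 1 →
        k' 1 = φX (pushK k hk hXe 1) := by
    intro V _ k _ hk KV _ φV k' hk' h1
    rw [← h1, (LFResK5.isPushCl_iff k hk hXe φV φX k').1 hk' _ ExtFil4.isVB_one,
      ← LFResK5.pushK_cl k hk hXe ExtFil4.isVB_one]
    rfl
  rw [key i hi φY a ha hKY.map_one, key j hj φZ b hb hKZ.map_one, key (g ≫ j) hgj φW c hc hKW.map_one]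
  have hmul : ∀ p q : SGA6.Kvb X, φX (p * q) = φX p * φX q := fun p q => map_mul (PBK5.modelHom hKX) p q
  rw [← hmul, mul_comm (pushK i hi hXe 1), ← PBK5.pushK_mul j hj hXe, one_mul,
    PBK5.pushK_comp g j hg hj hgj hZe hXe]
  show φX (pushK j hj hXe (CMReg18.kPull j (pushK i hi hXe 1))) = φX (pushK j hj hXe (pushK g hg hZe 1))
  rw [show CMReg18.kPull j (pushK i hi hXe 1) = pushK g hg hZe (CMReg18.kPull h 1) from
    DFunLike.congr_fun (PBK5.BCCl.kPull_pushK i j g h hsq hi hg d hci hcg hXe hZe) 1,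
    show CMReg18.kPull h (1 : SGA6.Kvb Y) = 1 from map_one (PBK5.pullHom h)]

end Groth.Agent.S3790
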