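import Groth.Statements.S3793
import Groth.Agent.Lib.PBK5.Tangent
import Groth.Agent.Lib.PBK5.Exchange

set_option linter.style.haveILetI false
set_option backward.isDefEq.respectTransparency false
set_option backward.isDefEq.respectTransparency.types false
set_option synthInstance.maxHeartbeats 400000
set_option maxHeartbeats 1600000

set_option autoImplicit false
universe v u
open CategoryTheory CategoryTheory.Limits AlgebraicGeometry
attribute [local instance] HasDerivedCategory.standard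
open KRR

namespace Groth.Agent.S3793

/-- Let S be affine Noetherian, Y connected and quasi-projective over S, and f : X ⟶ Y (X connected)
with two factorizations f = i₁ ≫ p = i₂ ≫ p' through regular closed imbeddings i₁ : X ⟶ P^n_Y, i₂ :
X ⟶ P^m_Y (conormal modules C₁, C₂ finite locally free of ranks c₁, c₂) and the projections. With a
model of K(X), the tangent element computed from either factorization is the same: ((n+1)[i₁^*O(1)]
- 1) - [C₁^∨] = ((m+1)[i₂^*O(1)] - 1) - [C₂^∨] (duals as sheaf Hom into O_X; [T_{P/Y}] = (n+1)[O(1)]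
- 1 by the Euler sequence). -/
theorem result (S : Scheme.{u}) [IsAffine S] [IsNoetherian S] (n m : ℕ) {X Y : Scheme.{u}} [IsNoetherian Y] [ConnectedSpace ↥Y] (qY : Y ⟶ S) (hqY : KRR.IsQProjOver qY)
    [ConnectedSpace ↥X] (f : X ⟶ Y)
    (i₁ : X ⟶ KRR.PY n Y) (h₁ : Mor2.IsRegularClosedImmersion i₁) (hf₁ : i₁ ≫ KRR.pr n Y = f) (c₁ : ℕ)
    (hC₁ : FlatMod.IsFinLocFreeOfRank c₁ (Omega.conormal i₁)) [DCoh.HasSheafHom (Omega.conormal i₁)]
    (i₂ : X ⟶ KRR.PY m Y) (h₂ : Mor2.IsRegularClosedImmersion i₂) (hf₂ : i₂ ≫ KRR.pr m Y = f) (c₂ : ℕ)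
    (hC₂ : FlatMod.IsFinLocFreeOfRank c₂ (Omega.conormal i₂)) [DCoh.HasSheafHom (Omega.conormal i₂)]
    (KX : Type v) [CommRing KX] [LambdaRing.LambdaOps KX] (PX : LambdaRing.PosStructure KX) (φX : SGA6.Kvb X →+ KX) (hKX : KRR.IsModel X KX PX φX) :
    ((n + 1 : ℕ) : KX) * φX (KRR.cl X ((Scheme.Modules.pullback i₁).obj (Twist.twistOver n Y 1))) - 1
        - φX (KRR.cl X ((DCoh.sheafHom (Omega.conormal i₁)).obj (Coh.structureModule X))) =
      ((m + 1 : ℕ) : KX) * φX (KRR.cl X ((Scheme.Modules.pullback i₂).obj (Twist.twistOver m Y 1))) - 1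
        - φX (KRR.cl X ((DCoh.sheafHom (Omega.conormal i₂)).obj (Coh.structureModule X))) := by
  haveI := h₁.1
  haveI := h₂.1
  haveI : Smooth (KRR.pr n Y) := inferInstanceAs (Smooth (CohB1.ProjSpaceOver.toBase n Y))
  haveI : Smooth (KRR.pr m Y) := inferInstanceAs (Smooth (CohB1.ProjSpaceOver.toBase m Y))
  haveI := PBK5.isNoetherian_PY n Y
  haveI : IsLocallyNoetherian X := LocallyOfFiniteType.isLocallyNoetherian i₁
  let R := ULift.{u} ℤ
  let z (k : ℕ) : KRR.PY k Y ⟶ CohB1.ProjSpace k R :=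
    pullback.fst (CohB1.ProjSpace.toSpec k R) (specULiftZIsTerminal.from Y)
  have hz : ∀ k, IsPullback (z k) (KRR.pr k Y) (CohB1.ProjSpace.toSpec k R) (specULiftZIsTerminal.from Y) :=
    fun k => IsPullback.of_hasPullback _ _
  obtain ⟨Ωn, dn, hdn⟩ := Omega12.exists_isUniversal (CohB1.ProjSpace.toSpec n R)
  obtain ⟨Ωm, dm, hdm⟩ := Omega12.exists_isUniversal (CohB1.ProjSpace.toSpec m R)
  let p₁ := pullback.fst (KRR.pr n Y) (KRR.pr m Y)
  let p₂ := pullback.snd (KRR.pr n Y) (KRR.pr m Y)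
  let i := pullback.lift i₁ i₂ (hf₁.trans hf₂.symm)
  have e₁ : i ≫ p₁ = i₁ := pullback.lift_fst _ _ _
  have e₂ : i ≫ p₂ = i₂ := pullback.lift_snd _ _ _
  haveI : IsClosedImmersion (i ≫ p₁) := by rw [e₁]; infer_instance
  haveI : IsClosedImmersion i := IsClosedImmersion.of_comp i p₁
  have k₁ := PBK5.Tangent.cl_conormal m R i p₁ (p₂ ≫ z m) (KRR.pr n Y ≫ specULiftZIsTerminal.from Y)
    ((IsPullback.of_hasPullback (KRR.pr n Y) (KRR.pr m Y)).flip.paste_horiz (hz m)) i₁ e₁
    (M2.isFinLocFree_of_ofRank hC₁) (i₂ ≫ z m) (by rw [← Category.assoc, e₂]) hdm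
  have k₂ := PBK5.Tangent.cl_conormal n R i p₂ (p₁ ≫ z n) (KRR.pr m Y ≫ specULiftZIsTerminal.from Y)
    ((IsPullback.of_hasPullback (KRR.pr n Y) (KRR.pr m Y)).paste_horiz (hz n)) i₂ e₂
    (M2.isFinLocFree_of_ofRank hC₂) (i₁ ≫ z n) (by rw [← Category.assoc, e₁]) hdn
  have key := congrArg (fun a => φX (PBK5.Tangent.dualK X a)) (k₁.symm.trans k₂)
  simp only [map_add] at key
  rw [PBK5.Tangent.dualK_cl (M2.isFinLocFree_of_ofRank hC₁),
    PBK5.Tangent.dualK_cl (M2.isFinLocFree_of_ofRank hC₂)] at key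
  have en := PBK5.Tangent.dualK_omega n R hKX (i₁ ≫ z n) hdn
  have em := PBK5.Tangent.dualK_omega m R hKX (i₂ ≫ z m) hdm
  have hl : ∀ (k : ℕ) (a : X ⟶ KRR.PY k Y),
      KRR.cl X ((Scheme.Modules.pullback a).obj (Twist.twistOver k Y 1)) =
        KRR.cl X ((Scheme.Modules.pullback (a ≫ z k)).obj (_root_.Twist.twistProjSpace k R 1)) := fun k a =>
    ExtFil4.cl_iso ((Scheme.Modules.pullbackComp a (z k)).app _)
      (M2.isFinLocFree_pullback a (M2.isFinLocFree_pullback (z k)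
        (M2.isFinLocFree_of_isInvertible (Twist.isInvertible_twistProjSpace k R 1))))
  have hd : ∀ (C : X.Modules) [DCoh.HasSheafHom C], FlatMod.IsFinLocFree C →
      KRR.cl X ((DCoh.sheafHom C).obj (Coh.structureModule X)) = KRR.cl X (CohMop.dual C) := fun C _ hC =>
    (ExtFil4.cl_iso ((CohMop.sheafHomIhomIso C).app _).symm (CohMop.isFinLocFree_dual hC)).symm
  rw [hl, hl, hd _ (M2.isFinLocFree_of_ofRank hC₁), hd _ (M2.isFinLocFree_of_ofRank hC₂)]
  linear_combination -key + em - en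

end Groth.Agent.S3793
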