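import Groth.Statements.S3799
import Groth.Agent.Lib.LFResK5.Mul

set_option autoImplicit false
universe v u
open CategoryTheory CategoryTheory.Limits AlgebraicGeometry
attribute [local instance] HasDerivedCategory.standard
open KRR

namespace Groth.Agent.S3799

/-- Let f : X ⟶ Y be a regular closed imbedding of connected Noetherian schemes, where every coherent
module on Y is a quotient of a finite locally free one, and (KX, PX, φX), (KY, PY, φY) models of
K(X), K(Y). Then there is a unique additive map h : K(X) ⟶ K(Y) such that h[F] = Σ_k (-1)^k [L_k]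
for every finite locally free F on X and every finite resolution L of f_* F by finite locally free
modules (the push-forward f_K). -/
theorem result {X Y : Scheme.{u}} (f : X ⟶ Y) (hf : Mor2.IsRegularClosedImmersion f)
    [IsNoetherian X] [ConnectedSpace ↥X] [IsNoetherian Y] [ConnectedSpace ↥Y] (hYe : KRR.HasEnoughLocFree Y)
    (KX : Type v) [CommRing KX] [LambdaRing.LambdaOps KX] (PX : LambdaRing.PosStructure KX) (φX : SGA6.Kvb X →+ KX) (hKX : KRR.IsModel X KX PX φX)
    (KY : Type v) [CommRing KY] [LambdaRing.LambdaOps KY] (PY : LambdaRing.PosStructure KY) (φY : SGA6.Kvb Y →+ KY) (hKY : KRR.IsModel Y KY PY φY) :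
    ∃! h : KX →+ KY, KRR.IsPushCl f φX φY h := by
  haveI := hf.1
  let ψ := AddEquiv.ofBijective φX hKX.bijective
  refine ⟨φY.comp ((Groth.Agent.LFResK5.pushK f hf hYe).comp ψ.symm.toAddMonoidHom), ?_, fun g hg => ?_⟩
  · refine (Groth.Agent.LFResK5.isPushCl_iff f hf hYe φX φY _).2 fun F hF => ?_
    show φY (Groth.Agent.LFResK5.pushK f hf hYe (ψ.symm (φX _))) = _
    rw [show ψ.symm (φX (KRR.cl X F)) = KRR.cl X F from ψ.symm_apply_apply _,
      Groth.Agent.LFResK5.pushK_cl f hf hYe hF]
  · have key : g.comp φX = φY.comp (Groth.Agent.LFResK5.pushK f hf hYe) :=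
      Groth.Agent.LFResK5.addHom_ext fun F hF => by
        show g (φX _) = φY (Groth.Agent.LFResK5.pushK f hf hYe _)
        rw [(Groth.Agent.LFResK5.isPushCl_iff f hf hYe φX φY g).1 hg F hF,
          Groth.Agent.LFResK5.pushK_cl f hf hYe hF]
    refine AddMonoidHom.ext fun x => ?_
    obtain ⟨a, rfl⟩ := hKX.bijective.2 x
    show g (φX a) = φY (Groth.Agent.LFResK5.pushK f hf hYe (ψ.symm (φX a)))
    rw [show ψ.symm (φX a) = a from ψ.symm_apply_apply a]
    exact DFunLike.congr_fun key a

end Groth.Agent.S3799
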