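import Groth.Statements.S3803
import Groth.Agent.Lib.PBK5.ZeroScheme

set_option autoImplicit false
universe v u
open CategoryTheory CategoryTheory.Limits AlgebraicGeometry
attribute [local instance] HasDerivedCategory.standard
open KRR

namespace Groth.Agent.S3803

/-- Let Y be a connected Noetherian scheme on which every coherent module is a quotient of a finite
locally free one, E' a finite locally free O_Y-module of rank d (to be thought of as the dual E^∨ of
a rank-d bundle E) with a homomorphism t : E' → O_Y (the dual of a section s of E), and i : X → Y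
the closed immersion of the zero scheme of s: on every affine open of Y the kernel ideal of i is
generated by the image of t. Assume X is connected and Noetherian and i is a regular closed
immersion of codimension d (its conormal module is finite locally free of rank d). Then for models
K(X) and K(Y) of the Grothendieck rings of vector bundles (KRR.IsModel) and h = i_K : K(X) → K(Y)
the push-forward on K-theory (KRR.IsPushCl), one has i_K(1) = λ_{−1}([E']) = Σ_{j ≤ d} (−1)^j [Λ^j
E'] in K(Y). -/
theorem result {X Y : Scheme.{u}} [IsNoetherian X] [ConnectedSpace ↥X] [IsNoetherian Y] [ConnectedSpace ↥Y] (hYe : KRR.HasEnoughLocFree Y)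
    (d : ℕ) (E' : Y.Modules) (hE' : FlatMod.IsFinLocFreeOfRank d E') (t : E' ⟶ Coh.structureModule Y)
    (i : X ⟶ Y) [IsClosedImmersion i]
    (ht : ∀ U : Y.affineOpens, i.ker.ideal U = Ideal.span {a : Γ(Y, U.1) | ∃ s : Γ(E', U.1), (t.app U.1) s = a})
    (hi : Mor2.IsRegularClosedImmersion i) (hci : FlatMod.IsFinLocFreeOfRank d (Omega.conormal i))
    (KX : Type v) [CommRing KX] [LambdaRing.LambdaOps KX] (PX : LambdaRing.PosStructure KX) (φX : SGA6.Kvb X →+ KX) (hKX : KRR.IsModel X KX PX φX)
    (KY : Type v) [CommRing KY] [LambdaRing.LambdaOps KY] (PY : LambdaRing.PosStructure KY) (φY : SGA6.Kvb Y →+ KY) (hKY : KRR.IsModel Y KY PY φY)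
    (h : KX →+ KY) (hh : KRR.IsPushCl i φX φY h) :
    h 1 = KRR.lamAlt PY (φY (KRR.cl Y E')) := by
  obtain ⟨L, π, hL, hE⟩ := PBK5.ZeroSch.exists_isLFRes hE' ht hi hci
  have h1 := hh (Coh.structureModule X) ExtFil4.isVB_one d L π hL
  rw [hKX.map_one] at h1
  rw [h1, KRR.lamAlt, hKY.aug_cl d E' hE', Int.toNat_natCast]
  refine Finset.sum_congr rfl fun k _ => ?_
  rw [hKY.map_lam k E' (L.X k) (M2.isFinLocFree_of_ofRank hE') (hL.finLocFree k) (hE k)]
  simp [zsmul_eq_mul]

end Groth.Agent.S3803
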