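import Groth.Statements.S3806
import Groth.Agent.Lib.PP16.Basic

set_option autoImplicit false
universe u
open scoped TensorProduct
attribute [local instance] PP16.mapAlgebra PP16.isScalarTower_mapAlgebra
open PP16

namespace Groth.Agent.S3806

section
variable (A B A' B' : Type u) [CommRing A] [CommRing B] [Algebra A B]
    [CommRing A'] [CommRing B'] [Algebra A' B'] [Algebra A A'] [Algebra B B'] [Algebra A B']
    [IsScalarTower A A' B'] [IsScalarTower A B B'] [Algebra.IsPushout A A' B B']

theorem exists_ext (C : Type u) [CommRing C] [Algebra B C] [Algebra A C] [IsScalarTower A B C]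
    (d : B →ₐ[A] C) :
    ∃ g : B' →ₐ[A'] B' ⊗[B] C, ∀ b, g (algebraMap B B' b) = (1 : B') ⊗ₜ[B] d b := by
  let fA : A' →ₐ[A] B' ⊗[B] C :=
    ((Algebra.TensorProduct.includeLeft (R := B) (S := A) (A := B') (B := C))).comp
      (IsScalarTower.toAlgHom A A' B')
  let gB : B →ₐ[A] B' ⊗[B] C :=
    ((Algebra.TensorProduct.includeRight (R := B) (A := B') (B := C)).restrictScalars A).comp d
  refine ⟨{ (Algebra.pushoutDesc B' fA gB (fun _ _ => mul_comm _ _)).toRingHom with
      commutes' := fun a => ?_ }, fun b => ?_⟩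
  · show Algebra.pushoutDesc B' fA gB _ (algebraMap A' B' a) = _
    rw [Algebra.pushoutDesc_left]
    rfl
  · show Algebra.pushoutDesc B' fA gB _ (algebraMap B B' b) = _
    rw [Algebra.pushoutDesc_right]
    rfl

include A in
theorem ext_of (D : Type u) [CommRing D] [Algebra A' D] (φ ψ : B' →ₐ[A'] D)
    (h : ∀ b, φ (algebraMap B B' b) = ψ (algebraMap B B' b)) : φ = ψ := by
  letI : Algebra A D := ((algebraMap A' D).comp (algebraMap A A')).toAlgebra
  haveI : IsScalarTower A A' D := IsScalarTower.of_algebraMap_eq fun _ => rfl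
  have : φ.restrictScalars A = ψ.restrictScalars A :=
    Algebra.IsPushout.algHom_ext (R := A) (S := A') (R' := B) (h₁ := AlgHom.ext h)
      (h₂ := AlgHom.ext fun a => (φ.commutes a).trans (ψ.commutes a).symm)
  exact AlgHom.ext fun x => DFunLike.congr_fun this x

end

/-- Let A → A' be a ring map, B an A-algebra and B' = B ⊗_A A'. Then the canonical map P^n_{B/A} ⊗_B B'
→ P^n_{B'/A'} induced by functoriality of principal parts is an isomorphism; that is, the square B →
P^n_{B/A}, B → B', with P^n_{B'/A'} in the corner, is a pushout of rings. -/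
theorem result (n : ℕ) (A B A' B' : Type u) [CommRing A] [CommRing B] [Algebra A B]
    [CommRing A'] [CommRing B'] [Algebra A' B'] [Algebra A A'] [Algebra B B'] [Algebra A B']
    [IsScalarTower A A' B'] [IsScalarTower A B B'] [Algebra.IsPushout A B A' B'] :
    Algebra.IsPushout B (PP16.P n A B) B' (PP16.P n A' B') := by
  haveI : Algebra.IsPushout A A' B B' := Algebra.IsPushout.symm inferInstance
  obtain ⟨g, hg⟩ := exists_ext A B A' B' (PP16.P n A B) (PP16.dn n A B)
  exact PP.isPushout_of n A B A' B' g hg (fun D _ _ φ ψ h => ext_of A B A' B' D φ ψ h)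

end Groth.Agent.S3806
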