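import Groth.Statements.S3807
import Groth.Agent.Lib.PP16.Basic
import Mathlib.RingTheory.Localization.BaseChange

set_option autoImplicit false
universe u
open scoped TensorProduct
attribute [local instance] PP16.mapAlgebra PP16.isScalarTower_mapAlgebra
open PP16

namespace Groth.Agent.S3807

theorem exists_ext (A B B' : Type u) [CommRing A] [CommRing B] [Algebra A B]
    [CommRing B'] [Algebra B B'] [Algebra A B'] [IsScalarTower A B B'] (S : Submonoid B)
    [IsLocalization S B'] (C : Type u) [CommRing C] [Algebra B C] [Algebra A C] [IsScalarTower A B C]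
    (d : B →ₐ[A] C) (I : Ideal C) (hI : ∃ m, I ^ m = ⊥) (hd : ∀ b, d b - algebraMap B C b ∈ I) :
    ∃ g : B' →ₐ[A] B' ⊗[B] C, ∀ b, g (algebraMap B B' b) = (1 : B') ⊗ₜ[B] d b := by
  let gB : B →ₐ[A] B' ⊗[B] C :=
    ((Algebra.TensorProduct.includeRight (R := B) (A := B') (B := C)).restrictScalars A).comp d
  have hu : ∀ y : S, IsUnit (gB y) := by
    intro y
    obtain ⟨m, hm⟩ := hI
    have hnil : IsNilpotent (d y - algebraMap B C (y : B)) :=
      ⟨m, by simpa [hm] using Ideal.pow_mem_pow (hd y) m⟩
    have h1 : gB y = (algebraMap B B' (y : B)) ⊗ₜ[B] (1 : C) +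
        (Algebra.TensorProduct.includeRight (R := B) (A := B') (B := C)) (d y - algebraMap B C (y : B)) := by
      rw [map_sub, AlgHom.commutes]
      show (1 : B') ⊗ₜ[B] d y = algebraMap B (B' ⊗[B] C) (y : B) + _
      simp [gB]
    rw [h1]
    exact (hnil.map (Algebra.TensorProduct.includeRight (R := B) (A := B') (B := C))).isUnit_add_left_of_commute
      ((IsLocalization.map_units B' y).map
        (Algebra.TensorProduct.includeLeft (R := B) (S := B) (A := B') (B := C))) (Commute.all _ _)
  exact ⟨IsLocalization.liftAlgHom (M := S) hu, fun b => by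
    simp [IsLocalization.liftAlgHom, gB]⟩

/-- Let B be an A-algebra, S a multiplicative subset of B and B' = S⁻¹B. Then the canonical map
S⁻¹P^n_{B/A} → P^n_{B'/A} induced by functoriality is an isomorphism: P^n_{B'/A} is the localization
of P^n_{B/A} at the image of S. -/
theorem result (n : ℕ) (A B B' : Type u) [CommRing A] [CommRing B] [Algebra A B]
    [CommRing B'] [Algebra B B'] [Algebra A B'] [IsScalarTower A B B'] (S : Submonoid B) [IsLocalization S B'] :
    IsLocalization (S.map (algebraMap B (PP16.P n A B))) (PP16.P n A B') := by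
  letI := PP16.mapAlgebra n A B A B'
  haveI := PP16.isScalarTower_mapAlgebra n A B A B'
  obtain ⟨g, hg⟩ := exists_ext A B B' S (PP16.P n A B) (PP16.dn n A B) (PP16.augIdeal n A B)
    ⟨n + 1, PP.augIdeal_pow n A B⟩ (PP.dn_sub_mem n A B)
  haveI : Algebra.IsPushout B (PP16.P n A B) B' (PP16.P n A B') :=
    PP.isPushout_of n A B A B' g hg (fun D _ _ φ ψ h => IsLocalization.algHom_ext S (AlgHom.ext h))
  exact (Algebra.isLocalization_iff_isPushout S B').mpr inferInstance

end Groth.Agent.S3807
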