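import Groth.Statements.S3808
import Groth.Agent.Lib.PP16.Basic
import Mathlib.RingTheory.Localization.Basic

set_option autoImplicit false
universe u
open scoped TensorProduct
open PP16

namespace Groth.Agent.S3808

theorem exists_homs {A A' B' C : Type u} [CommRing A] [CommRing A'] [CommRing B'] [CommRing C]
    [Algebra A A'] [Algebra A' B'] [Algebra A B'] [IsScalarTower A A' B'] (R : Submonoid A)
    [IsLocalization R A'] [Algebra A C] [Algebra A' C] [IsScalarTower A A' C]
    (l r : B' →ₐ[A] C) (hl : ∀ a, l (algebraMap A' B' a) = algebraMap A' C a) :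
    ∃ f g : B' →ₐ[A'] C, (∀ c, f c = l c) ∧ ∀ c, g c = r c :=
  ⟨{ l.toRingHom with commutes' := hl },
    { r.toRingHom with
      commutes' := fun a => DFunLike.congr_fun (IsLocalization.algHom_ext R
        (AlgHom.ext fun x => ((r.comp (IsScalarTower.toAlgHom A A' B')).commutes x).trans
          ((IsScalarTower.toAlgHom A A' C).commutes x).symm) :
          r.comp (IsScalarTower.toAlgHom A A' B') = IsScalarTower.toAlgHom A A' C) a },
    fun _ => rfl, fun _ => rfl⟩

/-- Let A → B be a ring map, R a multiplicative subset of A, S one of B containing the image of R, and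
A' = R⁻¹A, B' = S⁻¹B with the induced map A' → B'. Then the canonical map P^n_{B'/A} → P^n_{B'/A'}
is bijective. -/
theorem result (n : ℕ) (A B A' B' : Type u) [CommRing A] [CommRing B] [Algebra A B]
    [CommRing A'] [CommRing B'] [Algebra A A'] [Algebra B B'] [Algebra A' B'] [Algebra A B']
    [IsScalarTower A A' B'] [IsScalarTower A B B'] (R : Submonoid A) (S : Submonoid B) [IsLocalization R A']
    [IsLocalization S B'] (hRS : ∀ r ∈ R, algebraMap A B r ∈ S) :
    Function.Bijective (PP16.map n A B' A' B') := by
  obtain ⟨f, g, hf, hg⟩ := exists_homs R (C := PP16.P n A B') (IsScalarTower.toAlgHom A B' (PP16.P n A B'))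
    (PP16.dn n A B') (fun a => (IsScalarTower.algebraMap_apply A' B' (PP16.P n A B') a).symm)
  have hJ := PP.augIdeal_pow n A B'
  let h := PP.liftP (A := A') (B := B') f g (PP16.augIdeal n A B') hJ fun c => by
    rw [hf, hg]; exact PP.dn_sub_mem n A B' c
  have hinv : ∀ x, h (PP16.map n A B' A' B' x) = x := by
    have e := PP.hom_ext n A B' (φ := h.toRingHom.comp (PP16.map n A B' A' B').toRingHom) (ψ := RingHom.id _)
      (fun c => by
        show h (PP16.map n A B' A' B' (algebraMap B' _ c)) = _
        rw [PP16.map_algebraMap, PP.liftP_algebraMap, hf]; rfl)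
      (fun c => by
        show h (PP16.map n A B' A' B' (PP16.dn n A B' c)) = _
        rw [PP16.map_dn, PP.liftP_dn, hg]; rfl)
    exact DFunLike.congr_fun e
  exact ⟨Function.LeftInverse.injective hinv,
    PP.surjective_of_generators n A' B' (PP16.map n A B' A' B').toRingHom
      (fun c => ⟨_, PP16.map_algebraMap n A B' A' B' c⟩) (fun c => ⟨_, PP16.map_dn n A B' A' B' c⟩)⟩

end Groth.Agent.S3808
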