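import Groth.Statements.S3811
import Groth.Agent.Lib.PP16.Basic

set_option autoImplicit false
universe u
open scoped TensorProduct
open PP16

namespace Groth.Agent.S3811

theorem exists_inverse (n : ℕ) (A B : Type u) [CommRing A] [CommRing B] [Algebra A B] (g : B →ₐ[A] A) :
    ∃ h : PP16.P n A B →+* B ⧸ RingHom.ker g ^ (n + 1),
      (∀ b, h (algebraMap B _ b) = Ideal.Quotient.mk _ (algebraMap A B (g b))) ∧
      ∀ b, h (PP16.dn n A B b) = Ideal.Quotient.mk _ b := by
  have hJ : ((RingHom.ker g).map (Ideal.Quotient.mk (RingHom.ker g ^ (n + 1)))) ^ (n + 1) = ⊥ := by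
    rw [← Ideal.map_pow, Ideal.map_quotient_self]
  let f : B →ₐ[A] B ⧸ RingHom.ker g ^ (n + 1) := (Algebra.ofId A _).comp g
  let m : B →ₐ[A] B ⧸ RingHom.ker g ^ (n + 1) := Ideal.Quotient.mkₐ A _
  refine ⟨(PP.liftP f m _ hJ fun b => ?_).toRingHom, fun b => PP.liftP_algebraMap f m _ hJ _ b,
    fun b => PP.liftP_dn f m _ hJ _ b⟩
  show Ideal.Quotient.mk _ b - Ideal.Quotient.mk _ (algebraMap A B (g b)) ∈ _
  rw [← map_sub]
  refine Ideal.mem_map_of_mem _ ?_
  rw [RingHom.mem_ker, map_sub, AlgHom.commutes]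
  exact sub_self _

theorem mk_eq_zero {B P0 : Type*} [CommRing B] [CommRing P0] (n : ℕ) (d e : B →+* P0) (K : Ideal B)
    (I : Ideal P0) (hI : I ^ (n + 1) = ⊥) (hde : ∀ b, d b - e b ∈ I) (b : B) (hb : b ∈ K ^ (n + 1)) :
    Ideal.Quotient.mk (K.map e) (d b) = 0 := by
  have hle : K.map d ≤ I ⊔ K.map e := by
    rw [Ideal.map_le_iff_le_comap]
    intro k hk
    have : d k = (d k - e k) + e k := by ring
    rw [Ideal.mem_comap, this]
    exact add_mem (Ideal.mem_sup_left (hde k)) (Ideal.mem_sup_right (Ideal.mem_map_of_mem e hk))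
  have h2 : (I ⊔ K.map e).map (Ideal.Quotient.mk (K.map e)) = I.map (Ideal.Quotient.mk (K.map e)) := by
    rw [Ideal.map_sup, Ideal.map_quotient_self, sup_bot_eq]
  have h3 := Ideal.mem_map_of_mem (Ideal.Quotient.mk (K.map e)) (Ideal.mem_map_of_mem d hb)
  rw [Ideal.map_pow, Ideal.map_pow] at h3
  have h4 := Ideal.pow_right_mono ((Ideal.map_mono hle).trans h2.le) (n + 1) h3
  rw [← Ideal.map_pow, hI, Ideal.map_bot] at h4
  exact (Submodule.mem_bot _).mp h4

theorem surj_aux {A B P0 : Type*} [CommRing A] [CommRing B] [CommRing P0] [Algebra A B] [Algebra B P0]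
    [Algebra A P0] [IsScalarTower A B P0] {d : B →ₐ[A] P0}
    (hgen : ∀ S : Subring P0, (∀ b, algebraMap B P0 b ∈ S) → (∀ b, d b ∈ S) → ∀ x, x ∈ S)
    (d' : B →ₐ[A] P0) (g : B →ₐ[A] A) (e : B →ₐ[A] P0) (hd : d = d' := by rfl) :
    Function.Surjective ((Ideal.Quotient.mk ((RingHom.ker g).map (algebraMap B P0))).comp d'.toRingHom) := by
  subst hd
  set N := (RingHom.ker g).map (algebraMap B P0)
  set φ := (Ideal.Quotient.mk N).comp d.toRingHom
  intro y
  obtain ⟨x, rfl⟩ := Ideal.Quotient.mk_surjective y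
  refine hgen (φ.range.comap (Ideal.Quotient.mk N)) (fun b => ?_) (fun b => ⟨b, rfl⟩) x
  refine ⟨algebraMap A B (g b), ?_⟩
  show Ideal.Quotient.mk N (d (algebraMap A B (g b))) = Ideal.Quotient.mk N (algebraMap B P0 b)
  rw [AlgHom.commutes, IsScalarTower.algebraMap_apply A B P0, Ideal.Quotient.eq, ← map_sub]
  refine Ideal.mem_map_of_mem _ ?_
  rw [RingHom.mem_ker, map_sub, AlgHom.commutes]
  exact sub_self _

/-- Let B be an A-algebra with an A-algebra retraction g : B → A, and K the kernel of g. The composite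
of d^n : B → P^n_{B/A} with the projection P^n_{B/A} → P^n_{B/A} / K P^n_{B/A} (base change of
P^n_{B/A} along g) is surjective with kernel K^(n+1); thus P^n_{B/A} ⊗_B A is identified with
B/K^(n+1), the class of d^n t corresponding to the class of t. -/
theorem result (n : ℕ) (A B : Type u) [CommRing A] [CommRing B] [Algebra A B]
    (g : B →ₐ[A] A) :
    Function.Surjective ((Ideal.Quotient.mk ((RingHom.ker g).map (algebraMap B (PP16.P n A B)))).comp
        (PP16.dn n A B).toRingHom) ∧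
      RingHom.ker ((Ideal.Quotient.mk ((RingHom.ker g).map (algebraMap B (PP16.P n A B)))).comp
        (PP16.dn n A B).toRingHom) = RingHom.ker g ^ (n + 1) := by
  set N := (RingHom.ker g).map (algebraMap B (PP16.P n A B))
  obtain ⟨h, h1, h2⟩ := exists_inverse n A B g
  have hker : ∀ b : B, b ∈ RingHom.ker g ^ (n + 1) →
      (Ideal.Quotient.mk N) (PP16.dn n A B b) = 0 := fun b hb =>
    mk_eq_zero n (PP16.dn n A B).toRingHom (algebraMap B (PP16.P n A B)) (RingHom.ker g)
      (PP16.augIdeal n A B) (PP.augIdeal_pow n A B) (PP.dn_sub_mem n A B) b hb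
  constructor
  · refine surj_aux (P0 := PP16.P n A B) ?_ (PP16.dn n A B) g (IsScalarTower.toAlgHom A B (PP16.P n A B))
    intro S s1 s2 x
    exact PP.mem_of_generators n A B S s1 s2 x
  · refine le_antisymm (fun b hb => ?_) fun b hb => hker b hb
    have hb' : PP16.dn n A B b ∈ N := Ideal.Quotient.eq_zero_iff_mem.mp hb
    have hN : N ≤ RingHom.ker h := by
      rw [Ideal.map_le_iff_le_comap]
      intro c hc
      show h (algebraMap B _ c) = 0
      rw [h1, hc, map_zero, map_zero]
    have := hN hb'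
    rw [RingHom.mem_ker, h2] at this
    exact Ideal.Quotient.eq_zero_iff_mem.mp this

end Groth.Agent.S3811
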