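import Groth.Statements.S3812
import Groth.Agent.Lib.PP16.Poly
import Mathlib.Algebra.MvPolynomial.CommRing

set_option autoImplicit false
universe u
open scoped TensorProduct
open PP16

namespace Groth.Agent.S3812

theorem exists_equiv {B Q P0 σ : Type*} [CommRing B] [CommRing Q] [CommRing P0] [Algebra B Q]
    [Algebra B P0] (τ : Q →ₐ[B] P0) (I : Ideal Q) (hk : RingHom.ker τ = I)
    (hs : Function.Surjective τ) (x : σ → P0) (y : σ → Q) (hxy : ∀ i, τ (y i) = x i) :
    ∃ e : P0 ≃ₐ[B] Q ⧸ I, ∀ i, e (x i) = Ideal.Quotient.mk I (y i) := by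
  subst hk
  refine ⟨(Ideal.quotientKerAlgEquivOfSurjective (f := τ) hs).symm, fun i => ?_⟩
  rw [AlgEquiv.symm_apply_eq, ← hxy]
  rfl

/-- Let B = A[T_i] be a polynomial algebra. There is an isomorphism of B-algebras from P^n_{B/A} onto
B[U_i]/(U)^(n+1), where (U) is the ideal generated by the new indeterminates, sending the principal
part d^n T_i to the class of T_i + U_i for every i (so d^n F(T) goes to the class of F(T + U)). -/
theorem result (n : ℕ) (A : Type u) [CommRing A] (σ : Type u) :
    ∃ e : PP16.P n A (MvPolynomial σ A) ≃ₐ[MvPolynomial σ A]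
        (MvPolynomial σ (MvPolynomial σ A) ⧸
          Ideal.span (Set.range (MvPolynomial.X : σ → MvPolynomial σ (MvPolynomial σ A))) ^ (n + 1)),
      ∀ i : σ, e (PP16.dn n A (MvPolynomial σ A) (MvPolynomial.X i)) =
        Ideal.Quotient.mk _ (MvPolynomial.C (MvPolynomial.X i : MvPolynomial σ A) +
          (MvPolynomial.X i : MvPolynomial σ (MvPolynomial σ A))) := by
  let ρ : MvPolynomial σ A →ₐ[A] MvPolynomial σ (MvPolynomial σ A) ⧸
      Ideal.span (Set.range (MvPolynomial.X : σ → MvPolynomial σ (MvPolynomial σ A))) ^ (n + 1) :=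
    MvPolynomial.aeval fun i : σ => Ideal.Quotient.mk
      (Ideal.span (Set.range (MvPolynomial.X : σ → MvPolynomial σ (MvPolynomial σ A))) ^ (n + 1))
      (MvPolynomial.C (MvPolynomial.X i : MvPolynomial σ A) + (MvPolynomial.X i : MvPolynomial σ (MvPolynomial σ A)))
  obtain ⟨hs, hk⟩ := PP.tauMap_surjective_ker n A (MvPolynomial σ A) MvPolynomial.X ρ
    (fun i => MvPolynomial.aeval_X _ i) (fun D _ _ φ ψ h => MvPolynomial.algHom_ext h)
    (fun φ ψ h => MvPolynomial.algHom_ext h)
  exact exists_equiv _ _ hk hs (fun i => PP16.dn n A (MvPolynomial σ A) (MvPolynomial.X i))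
    (fun i => MvPolynomial.C (MvPolynomial.X i) + MvPolynomial.X i) fun i => by
      rw [map_add, PP.tauMap, MvPolynomial.aeval_C, MvPolynomial.aeval_X, add_sub_cancel]

end Groth.Agent.S3812
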