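import Groth.Statements.S3813
import Groth.Agent.Lib.PP16.Basic
import Mathlib.LinearAlgebra.SymmetricAlgebra.Basic

set_option autoImplicit false
universe u
open scoped TensorProduct
open PP16

namespace Groth.Agent.S3813

open SymmetricAlgebra

theorem sub_mem_of_gens {A E Q : Type*} [CommRing A] [AddCommGroup E] [Module A E] [CommRing Q] [Algebra A Q]
    (φ ψ : SymmetricAlgebra A E →ₐ[A] Q) (J : Ideal Q) (h : ∀ t, φ (ι A E t) - ψ (ι A E t) ∈ J)
    (f : SymmetricAlgebra A E) : φ f - ψ f ∈ J := by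
  induction f using SymmetricAlgebra.induction with
  | algebraMap a => rw [AlgHom.commutes, AlgHom.commutes, sub_self]; exact zero_mem J
  | ι t => exact h t
  | mul p q hp hq =>
    rw [map_mul, map_mul, show φ p * φ q - ψ p * ψ q = (φ p - ψ p) * φ q + ψ p * (φ q - ψ q) by ring]
    exact add_mem (J.mul_mem_right _ hp) (J.mul_mem_left _ hq)
  | add p q hp hq => rw [map_add, map_add, add_sub_add_comm]; exact add_mem hp hq

theorem hfg_aux {A S Q0 : Type u} [CommRing A] [CommRing S] [CommRing Q0] [Algebra A S] [Algebra A Q0]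
    (I : Ideal Q0) (c : Q0) (hc : c ∈ I) :
    (1 : S) ⊗ₜ[A] c ∈ I.map (Algebra.TensorProduct.includeRight (R := A) (A := S) (B := Q0)) :=
  Ideal.mem_map_of_mem (Algebra.TensorProduct.includeRight (R := A) (A := S) (B := Q0)) hc

theorem pow_map_includeRight {A S Q0 : Type u} [CommRing A] [CommRing S] [CommRing Q0] [Algebra A S]
    [Algebra A Q0] (I : Ideal Q0) {m : ℕ} (h : I ^ m = ⊥) :
    (I.map (Algebra.TensorProduct.includeRight (R := A) (A := S) (B := Q0))) ^ m = ⊥ := by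
  rw [← Ideal.map_pow, h, Ideal.map_bot]

theorem exists_tau (n : ℕ) (A E : Type u) [CommRing A] [AddCommGroup E] [Module A E] :
    ∃ τ : (SymmetricAlgebra A E ⧸ RingHom.ker (SymmetricAlgebra.lift (0 : E →ₗ[A] A)) ^ (n + 1)) →ₐ[A]
        PP16.P n A (SymmetricAlgebra A E),
      ∀ t, τ (Ideal.Quotient.mk _ (ι A E t)) = PP16.dn n A (SymmetricAlgebra A E) (ι A E t) -
        algebraMap (SymmetricAlgebra A E) (PP16.P n A (SymmetricAlgebra A E)) (ι A E t) := by
  let S := SymmetricAlgebra A E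
  let T : S →ₐ[A] PP16.P n A S := SymmetricAlgebra.lift
    ((PP16.dn n A S).toLinearMap ∘ₗ ι A E -
      (IsScalarTower.toAlgHom A S (PP16.P n A S)).toLinearMap ∘ₗ ι A E)
  have hT : ∀ t, T (ι A E t) = PP16.dn n A S (ι A E t) - algebraMap S (PP16.P n A S) (ι A E t) :=
    fun t => lift_ι_apply _ t
  have hsub : ∀ x, T x - ((Algebra.ofId A (PP16.P n A S)).comp (SymmetricAlgebra.lift (0 : E →ₗ[A] A))) x ∈
      PP16.augIdeal n A S := by
    refine sub_mem_of_gens T _ _ fun t => ?_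
    rw [hT, AlgHom.comp_apply, lift_ι_apply, LinearMap.zero_apply, map_zero, sub_zero]
    exact PP.dn_sub_mem n A S _
  refine ⟨Ideal.Quotient.liftₐ _ T fun x hx => ?_, hT⟩
  have hle : (RingHom.ker (SymmetricAlgebra.lift (0 : E →ₗ[A] A))).map T ≤ PP16.augIdeal n A S := by
    rw [Ideal.map_le_iff_le_comap]
    intro y hy
    have h := hsub y
    rw [AlgHom.comp_apply, show SymmetricAlgebra.lift (0 : E →ₗ[A] A) y = 0 from hy, map_zero, sub_zero] at h
    exact h
  have h := Ideal.pow_right_mono hle (n + 1)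
  rw [← Ideal.map_pow, PP.augIdeal_pow] at h
  exact (Submodule.mem_bot _).mp (h (Ideal.mem_map_of_mem _ hx))

theorem exists_fwd (n : ℕ) (A : Type u) [CommRing A] (E : Type u) [AddCommGroup E] [Module A E]
    (Q0 : Type u) [CommRing Q0] [Algebra A Q0] (π : SymmetricAlgebra A E →ₐ[A] Q0) (I : Ideal Q0)
    (hI : I ^ (n + 1) = ⊥) (hπ : ∀ t, π (ι A E t) ∈ I) :
    ∃ Φ : PP16.P n A (SymmetricAlgebra A E) →ₐ[SymmetricAlgebra A E] SymmetricAlgebra A E ⊗[A] Q0,
      ∀ t, Φ (PP16.dn n A (SymmetricAlgebra A E) (ι A E t)) = ι A E t ⊗ₜ 1 + 1 ⊗ₜ π (ι A E t) := by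
  let S := SymmetricAlgebra A E
  let f : S →ₐ[A] S ⊗[A] Q0 := Algebra.TensorProduct.includeLeft
  let g : S →ₐ[A] S ⊗[A] Q0 := SymmetricAlgebra.lift
    (f.toLinearMap ∘ₗ ι A E +
      ((Algebra.TensorProduct.includeRight : Q0 →ₐ[A] S ⊗[A] Q0).comp π).toLinearMap ∘ₗ ι A E)
  have hg : ∀ t, g (ι A E t) = f (ι A E t) + (1 : S) ⊗ₜ[A] π (ι A E t) := fun t => lift_ι_apply _ t
  have hfg : ∀ b, g b - f b ∈ I.map (Algebra.TensorProduct.includeRight (R := A) (A := S) (B := Q0)) := by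
    refine sub_mem_of_gens g f _ fun t => ?_
    rw [hg, add_sub_cancel_left]
    exact hfg_aux I _ (hπ t)
  have hJ := pow_map_includeRight (A := A) (S := S) I hI
  refine ⟨{ (PP.liftP f g _ hJ hfg).toRingHom with
    commutes' := fun b => PP.liftP_algebraMap f g _ hJ hfg b }, fun t => ?_⟩
  show PP.liftP f g _ hJ hfg (PP16.dn n A S (ι A E t)) = _
  rw [PP.liftP_dn, hg]
  rfl

theorem equiv_of {S Q0 P0 : Type u} {A : Type u} [CommRing A] [CommRing S] [CommRing Q0] [CommRing P0]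
    [Algebra A S] [Algebra A Q0] [Algebra A P0] [Algebra S P0] [IsScalarTower A S P0]
    (Φ : P0 →ₐ[S] S ⊗[A] Q0) (τ : Q0 →ₐ[A] P0) (hP : ∀ x, Algebra.TensorProduct.lift (Algebra.ofId S P0) τ
      (fun _ _ => Commute.all _ _) (Φ x) = x) (hQ : ∀ q, Φ (τ q) = (1 : S) ⊗ₜ[A] q) :
    Function.Bijective Φ := by
  refine ⟨Function.LeftInverse.injective hP, fun y => ⟨Algebra.TensorProduct.lift (Algebra.ofId S P0) τ
      (fun _ _ => Commute.all _ _) y, ?_⟩⟩
  induction y using TensorProduct.induction_on with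
  | zero => simp
  | tmul s q =>
    rw [Algebra.TensorProduct.lift_tmul, map_mul, hQ, Algebra.ofId_apply, AlgHom.commutes,
      Algebra.TensorProduct.algebraMap_apply, Algebra.TensorProduct.tmul_mul_tmul]
    simp
  | add x y hx hy => rw [map_add, map_add, hx, hy]

theorem exists_equiv (n : ℕ) (A E : Type u) [CommRing A] [AddCommGroup E] [Module A E] :
    ∃ e : PP16.P n A (SymmetricAlgebra A E) ≃ₐ[SymmetricAlgebra A E]
        (SymmetricAlgebra A E ⊗[A] (SymmetricAlgebra A E ⧸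
          RingHom.ker (SymmetricAlgebra.lift (0 : E →ₗ[A] A)) ^ (n + 1))),
      ∀ t : E, e (PP16.dn n A (SymmetricAlgebra A E) (SymmetricAlgebra.ι A E t)) =
        SymmetricAlgebra.ι A E t ⊗ₜ 1 + 1 ⊗ₜ Ideal.Quotient.mk _ (SymmetricAlgebra.ι A E t) := by
  obtain ⟨τ, hτ⟩ := exists_tau n A E
  obtain ⟨Φ, hΦ⟩ := exists_fwd n A E _ (Ideal.Quotient.mkₐ A ((RingHom.ker (SymmetricAlgebra.lift (0 : E →ₗ[A] A))) ^ (n + 1))) ((RingHom.ker (SymmetricAlgebra.lift (0 : E →ₗ[A] A))).map (Ideal.Quotient.mk _))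
    (by rw [← Ideal.map_pow, Ideal.map_quotient_self])
    (fun t => Ideal.mem_map_of_mem _ (show SymmetricAlgebra.lift (0 : E →ₗ[A] A) (ι A E t) = 0 by simp))
  refine ⟨AlgEquiv.ofBijective Φ (equiv_of Φ τ ?_ ?_), hΦ⟩
  · let Ψ := Algebra.TensorProduct.lift (Algebra.ofId (SymmetricAlgebra A E)
      (PP16.P n A (SymmetricAlgebra A E))) τ (fun _ _ => Commute.all _ _)
    have hd : ((Ψ.restrictScalars A).comp (Φ.restrictScalars A)).comp (PP16.dn n A _) =
        PP16.dn n A (SymmetricAlgebra A E) := by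
      refine SymmetricAlgebra.algHom_ext (LinearMap.ext fun t => ?_)
      show Ψ (Φ (PP16.dn n A (SymmetricAlgebra A E) (ι A E t))) = PP16.dn n A (SymmetricAlgebra A E) (ι A E t)
      rw [hΦ, map_add, Algebra.TensorProduct.lift_tmul, Algebra.TensorProduct.lift_tmul, map_one,
        map_one, mul_one, one_mul]
      erw [hτ]
      exact add_sub_cancel _ _
    have h := PP.hom_ext n A _ (φ := Ψ.toRingHom.comp Φ.toRingHom) (ψ := RingHom.id _)
      (fun b => (congrArg Ψ (Φ.commutes b)).trans (Ψ.commutes b))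
      (fun b => DFunLike.congr_fun hd b)
    exact DFunLike.congr_fun h
  · have hq : ((Φ.restrictScalars A).comp τ).comp (Ideal.Quotient.mkₐ A ((RingHom.ker (SymmetricAlgebra.lift (0 : E →ₗ[A] A))) ^ (n + 1))) =
        (Algebra.TensorProduct.includeRight (R := A) (A := SymmetricAlgebra A E)).comp
          (Ideal.Quotient.mkₐ A ((RingHom.ker (SymmetricAlgebra.lift (0 : E →ₗ[A] A))) ^ (n + 1))) := by
      refine SymmetricAlgebra.algHom_ext (LinearMap.ext fun t => ?_)
      show Φ (τ (Ideal.Quotient.mk _ (ι A E t))) = _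
      rw [hτ, map_sub, hΦ, AlgHom.commutes, Algebra.TensorProduct.algebraMap_apply]
      exact add_sub_cancel_left _ _
    intro q
    obtain ⟨x, rfl⟩ := Ideal.Quotient.mk_surjective q
    exact DFunLike.congr_fun hq x

/-- Let E be an A-module, B = Sym_A(E) its symmetric algebra and K the augmentation ideal of B (the
kernel of the A-algebra map B → A killing E). For every n there is an isomorphism of B-algebras from
P^n_{B/A} onto B ⊗_A (B/K^(n+1)) sending the principal part d^n t of an element t of E to t ⊗ 1 + 1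
⊗ (class of t). -/
theorem result (n : ℕ) (A : Type u) [CommRing A] (E : Type u) [AddCommGroup E]
    [Module A E] :
    ∃ e : PP16.P n A (SymmetricAlgebra A E) ≃ₐ[SymmetricAlgebra A E]
        (SymmetricAlgebra A E ⊗[A] (SymmetricAlgebra A E ⧸
          RingHom.ker (SymmetricAlgebra.lift (0 : E →ₗ[A] A)) ^ (n + 1))),
      ∀ t : E, e (PP16.dn n A (SymmetricAlgebra A E) (SymmetricAlgebra.ι A E t)) =
        SymmetricAlgebra.ι A E t ⊗ₜ 1 + 1 ⊗ₜ Ideal.Quotient.mk _ (SymmetricAlgebra.ι A E t) := by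
  exact exists_equiv n A E

end Groth.Agent.S3813
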