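import Groth.Statements.S3815
import Groth.Agent.Lib.Diff16.Basic
import Groth.Agent.Lib.PP16.Basic
import Mathlib.LinearAlgebra.TensorProduct.Basic

set_option autoImplicit false
universe u
open scoped TensorProduct
open scoped BigOperators
open PP16

namespace Groth.Agent.S3815

section
variable (n : ℕ) (A B : Type u) [CommRing A] [CommRing B] [Algebra A B]
    {M N : Type u} [AddCommGroup M] [Module A M] [Module B M] [IsScalarTower A B M]
    [AddCommGroup N] [Module A N] [Module B N] [IsScalarTower A B N] (D : M →ₗ[A] N)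

/-- `(b ⊗ c) ↦ m ↦ b • D (c • m)`. -/
noncomputable def pre : B ⊗[A] B →ₗ[A] (M →ₗ[A] N) :=
  TensorProduct.lift (LinearMap.mk₂ A (fun b c => b • (D ∘ₗ (LinearMap.lsmul B M c).restrictScalars A))
    (fun b b' c => add_smul b b' _) (fun a b c => smul_assoc a b _)
    (fun b c c' => LinearMap.ext fun m => by simp [add_smul, smul_add])
    (fun a b c => LinearMap.ext fun m => by simp [smul_assoc, smul_comm a b]))

theorem pre_tmul (b c : B) (m : M) : pre A B D (b ⊗ₜ c) m = b • D (c • m) := rfl

theorem pre_eq_linearize (x : B ⊗[A] B) (m : M) :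
    pre A B D x m = Diff16.linearize A B B N (D ∘ₗ (LinearMap.toSpanSingleton B M m).restrictScalars A) x := by
  induction x using TensorProduct.induction_on with
  | zero => simp
  | add x y hx hy => rw [map_add, LinearMap.add_apply, map_add, hx, hy]
  | tmul b c => simp [pre_tmul, Diff16.linearize]

theorem exists_u (h : Diff16.IsDiffOpLE A B M N n D) :
    ∃ u : PP16.PM n A B M →+ N, ∀ (y : B ⊗[A] B) (m : M),
      u ((Ideal.Quotient.mk (KaehlerDifferential.ideal A B ^ (n + 1)) y : PP16.Pr n A B) ⊗ₜ[B] m) = pre A B D y m := by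
  have hm : ∀ m, Diff16.IsDiffOpLE A B B N n (D ∘ₗ (LinearMap.toSpanSingleton B M m).restrictScalars A) := by
    intro m
    have h0 : Diff16.IsDiffOpLE A B B M 0 ((LinearMap.toSpanSingleton B M m).restrictScalars A) :=
      fun b x => by simp [mul_smul]
    simpa using DiffOps.comp h0 h
  let q : B ⊗[A] B →+ PP16.P n A B := (Ideal.Quotient.mk (KaehlerDifferential.ideal A B ^ (n + 1))).toAddMonoidHom
  have hq : Function.Surjective q := Ideal.Quotient.mk_surjective
  let pre' : B ⊗[A] B →+ (M →+ N) :=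
    AddMonoidHom.mk' (fun y => (pre A B D y).toAddMonoidHom) fun y z => by
      ext m; simp
  have hker : q.ker ≤ pre'.ker := by
    intro y hy
    refine AddMonoidHom.ext fun m => ?_
    show pre A B D y m = 0
    rw [pre_eq_linearize]
    exact (DiffOps.iff_vanish n _).mp (hm m) y (Ideal.Quotient.eq_zero_iff_mem.mp hy)
  let f : PP16.Pr n A B →+ (M →+ N) := q.liftOfSurjective hq ⟨pre', hker⟩
  have hf : ∀ (y : B ⊗[A] B) (m : M),
      f (Ideal.Quotient.mk (KaehlerDifferential.ideal A B ^ (n + 1)) y) m = pre A B D y m := fun y m =>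
    DFunLike.congr_fun (AddMonoidHom.liftOfRightInverse_comp_apply q _ _ ⟨pre', hker⟩ y) m
  refine ⟨TensorProduct.liftAddHom f fun c x m => ?_, fun y m => ?_⟩
  · obtain ⟨y, rfl⟩ := Ideal.Quotient.mk_surjective (x : PP16.P n A B)
    show f (Ideal.Quotient.mk (KaehlerDifferential.ideal A B ^ (n + 1)) (((1 : B) ⊗ₜ[A] c) * y)) m =
      f (Ideal.Quotient.mk (KaehlerDifferential.ideal A B ^ (n + 1)) y) (c • m)
    rw [hf, hf]
    induction y using TensorProduct.induction_on with
    | zero => simp
    | add y z hy hz => rw [mul_add, map_add, LinearMap.add_apply, map_add, LinearMap.add_apply, hy, hz]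
    | tmul p q => simp [pre_tmul, Algebra.TensorProduct.tmul_mul_tmul, smul_smul, mul_comm]
  · exact hf y m

variable (u : PP16.PM n A B M →+ N) (hu1 : ∀ (b : B) (t : PP16.PM n A B M), u (algebraMap B (PP16.P n A B) b • t) = b • u t)
  (hu2 : ∀ m : M, u (PP16.dM n A B M m) = D m)

include hu1 in
theorem u_left (b : B) (y : B ⊗[A] B) (m : M) :
    u ((Ideal.Quotient.mk (KaehlerDifferential.ideal A B ^ (n + 1)) ((b ⊗ₜ[A] (1 : B)) * y) : PP16.Pr n A B) ⊗ₜ[B] m) =
      b • u ((Ideal.Quotient.mk (KaehlerDifferential.ideal A B ^ (n + 1)) y : PP16.Pr n A B) ⊗ₜ[B] m) := by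
  rw [← hu1, TensorProduct.smul_tmul']
  rfl

theorem u_right (c : B) (y : B ⊗[A] B) (m : M) :
    u ((Ideal.Quotient.mk (KaehlerDifferential.ideal A B ^ (n + 1)) (((1 : B) ⊗ₜ[A] c) * y) : PP16.Pr n A B) ⊗ₜ[B] m) =
      u ((Ideal.Quotient.mk (KaehlerDifferential.ideal A B ^ (n + 1)) y : PP16.Pr n A B) ⊗ₜ[B] (c • m)) := by
  rw [← TensorProduct.smul_tmul]
  rfl

include hu1 hu2 in
theorem eq_pre (y : B ⊗[A] B) (m : M) :
    u ((Ideal.Quotient.mk (KaehlerDifferential.ideal A B ^ (n + 1)) y : PP16.Pr n A B) ⊗ₜ[B] m) = pre A B D y m := by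
  induction y using TensorProduct.induction_on with
  | zero =>
    rw [map_zero (Ideal.Quotient.mk _), map_zero, LinearMap.zero_apply]
    exact (congrArg u (TensorProduct.zero_tmul _ m)).trans (map_zero u)
  | add y z hy hz =>
    rw [map_add (Ideal.Quotient.mk _), map_add (pre A B D), LinearMap.add_apply, ← hy, ← hz, ← map_add u]
    exact congrArg u (TensorProduct.add_tmul _ _ m)
  | tmul b c =>
    rw [show b ⊗ₜ[A] c = (b ⊗ₜ[A] (1 : B)) * (((1 : B) ⊗ₜ[A] c) * ((1 : B) ⊗ₜ[A] (1 : B))) by simp,
      u_left n A B u hu1, u_right n A B u]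
    rw [show u ((Ideal.Quotient.mk (KaehlerDifferential.ideal A B ^ (n + 1)) ((1 : B) ⊗ₜ[A] (1 : B)) : PP16.Pr n A B) ⊗ₜ[B] (c • m)) = D (c • m) from hu2 _]
    simp [pre_tmul]

include hu1 hu2 in
theorem isDiffOpLE_of_u : Diff16.IsDiffOpLE A B M N n D := by
  have key : ∀ (k : ℕ) (r : B ⊗[A] B) (E : M →ₗ[A] N),
      (∀ m, E m = u ((Ideal.Quotient.mk (KaehlerDifferential.ideal A B ^ (n + 1)) r : PP16.Pr n A B) ⊗ₜ[B] m)) →
      (∀ x ∈ KaehlerDifferential.ideal A B ^ (k + 1), r * x ∈ KaehlerDifferential.ideal A B ^ (n + 1)) →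
      Diff16.IsDiffOpLE A B M N k E := by
    intro k
    induction k with
    | zero =>
      intro r E hE hr b m
      rw [hE, hE, ← u_right n A B u b r m, ← u_left n A B u hu1 b r m]
      refine congrArg (fun z => u (z ⊗ₜ[B] m)) ?_
      refine Ideal.Quotient.eq.mpr ?_
      rw [← sub_mul, mul_comm]
      exact hr _ (by rw [zero_add, pow_one]; exact KaehlerDifferential.one_smul_sub_smul_one_mem_ideal A b)
    | succ k ih =>
      intro r E hE hr c
      refine ih (r * ((1 : B) ⊗ₜ[A] c - c ⊗ₜ[A] (1 : B))) _ (fun m => ?_) fun x hx => ?_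
      · rw [DiffOps.commutator_apply, hE, hE, ← u_right n A B u c r m, ← u_left n A B u hu1 c r m, ← map_sub u]
        refine congrArg u ?_
        rw [show r * ((1 : B) ⊗ₜ[A] c - c ⊗ₜ[A] (1 : B)) = ((1 : B) ⊗ₜ[A] c) * r - (c ⊗ₜ[A] (1 : B)) * r by ring,
          map_sub (Ideal.Quotient.mk _)]
        exact (TensorProduct.sub_tmul _ _ m).symm
      · rw [mul_assoc]
        refine hr _ ?_
        rw [pow_succ']
        exact Ideal.mul_mem_mul (KaehlerDifferential.one_smul_sub_smul_one_mem_ideal A c) hx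
  refine key n 1 D (fun m => ?_) fun x hx => by rwa [one_mul]
  rw [map_one]
  exact (hu2 m).symm

end

/-- Let B be an A-algebra, M and N two B-modules and D : M → N an A-linear map. Let P^n(M) = P^n_{B/A}
⊗_B M, the tensor product formed with the B-module structure of P^n_{B/A} through d^n, regarded as a
B-module through the first factor of P^n_{B/A}, with d^n_M : M → P^n(M), m ↦ 1 ⊗ m. Then D is a
differential operator of order at most n relative to A (order defined through iterated commutators
with multiplication by elements of B) if and only if there is exactly one additive map u : P^n(M) →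
N which is B-linear for the first-factor structure and satisfies u(1 ⊗ m) = D(m) for all m ∈ M. -/
theorem result (n : ℕ) (A B : Type u) [CommRing A] [CommRing B] [Algebra A B]
    (M N : Type u) [AddCommGroup M] [Module A M] [Module B M] [IsScalarTower A B M]
    [AddCommGroup N] [Module A N] [Module B N] [IsScalarTower A B N] (D : M →ₗ[A] N) :
    Diff16.IsDiffOpLE A B M N n D ↔
      ∃! u : PP16.PM n A B M →+ N,
        (∀ (b : B) (t : PP16.PM n A B M), u (algebraMap B (PP16.P n A B) b • t) = b • u t) ∧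
          ∀ m : M, u (PP16.dM n A B M m) = D m := by
  constructor
  · intro h
    obtain ⟨u, hu⟩ := exists_u n A B D h
    refine ⟨u, ⟨fun b t => ?_, fun m => ?_⟩, fun v hv => ?_⟩
    · induction t using TensorProduct.induction_on with
      | zero => simp
      | add x y hx hy => rw [smul_add, map_add, map_add, hx, hy, smul_add]
      | tmul x m =>
        obtain ⟨y, rfl⟩ := Ideal.Quotient.mk_surjective (x : PP16.P n A B)
        rw [TensorProduct.smul_tmul']
        show u ((Ideal.Quotient.mk (KaehlerDifferential.ideal A B ^ (n + 1)) ((b ⊗ₜ[A] (1 : B)) * y) : PP16.Pr n A B) ⊗ₜ[B] m) =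
          b • u ((Ideal.Quotient.mk (KaehlerDifferential.ideal A B ^ (n + 1)) y : PP16.Pr n A B) ⊗ₜ[B] m)
        rw [hu, hu]
        induction y using TensorProduct.induction_on with
        | zero => simp
        | add y z hy hz => rw [mul_add, map_add, LinearMap.add_apply, map_add, LinearMap.add_apply, hy, hz, smul_add]
        | tmul p q => simp [pre_tmul, Algebra.TensorProduct.tmul_mul_tmul, mul_smul]
    · show u ((Ideal.Quotient.mk (KaehlerDifferential.ideal A B ^ (n + 1)) ((1 : B) ⊗ₜ[A] (1 : B)) : PP16.Pr n A B) ⊗ₜ[B] m) = D m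
      rw [hu, pre_tmul, one_smul, one_smul]
    · have key : ∀ t, v t = u t := by
        intro t
        induction t using TensorProduct.induction_on with
        | zero => simp
        | add x y hx hy => rw [map_add, map_add, hx, hy]
        | tmul x m =>
          obtain ⟨y, rfl⟩ := Ideal.Quotient.mk_surjective (x : PP16.P n A B)
          show v ((Ideal.Quotient.mk (KaehlerDifferential.ideal A B ^ (n + 1)) y : PP16.Pr n A B) ⊗ₜ[B] m) =
            u ((Ideal.Quotient.mk (KaehlerDifferential.ideal A B ^ (n + 1)) y : PP16.Pr n A B) ⊗ₜ[B] m)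
          rw [hu]
          exact eq_pre n A B D v hv.1 hv.2 y m
      exact AddMonoidHom.ext key
  · rintro ⟨u, ⟨hu1, hu2⟩, -⟩
    exact isDiffOpLE_of_u n A B D u hu1 hu2

end Groth.Agent.S3815
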