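import Groth.Statements.S3816
import Groth.Agent.Lib.PP16.Monomial

set_option autoImplicit false
universe u
open scoped TensorProduct
open scoped BigOperators
open PP16

namespace Groth.Agent.S3816

theorem coord_tauMap {A B : Type u} [CommRing A] [CommRing B] [Algebra A B] {ι : Type} [Fintype ι]
    (z : ι → B) (m : ℕ) (b : Module.Basis {p : ι → ℕ // ∑ i, p i ≤ m} B (PP16.P m A B))
    (hb : ∀ p, b p = PP.zetaMon (A := A) z m p.1) (p : {p : ι → ℕ // ∑ i, p i ≤ m}) (f : MvPolynomial ι B) :
    b.coord p (PP.tauMap m A B z f) = f.coeff (Finsupp.equivFunOnFinite.symm p.1) := by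
  classical
  have h : (b.coord p) ∘ₗ (PP.tauMap m A B z).toLinearMap = MvPolynomial.lcoeff B (Finsupp.equivFunOnFinite.symm p.1) := by
    refine MvPolynomial.linearMap_ext fun d => LinearMap.ext_ring ?_
    show b.coord p (PP.tauMap m A B z (MvPolynomial.monomial d 1)) =
      MvPolynomial.coeff (Finsupp.equivFunOnFinite.symm p.1) (MvPolynomial.monomial d (1 : B))
    by_cases hd : d.degree ≤ m
    · have hd' : ∑ i, d i ≤ m := by rwa [← PP.degree_eq_sum]
      rw [PP.tauMap_monomial, one_smul, ← hb ⟨_, hd'⟩, MvPolynomial.coeff_monomial, Module.Basis.coord_apply,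
        b.repr_self, Finsupp.single_apply]
      refine if_congr ⟨fun h => ?_, fun h => ?_⟩ rfl rfl
      · subst h; exact Finsupp.ext fun i => rfl
      · exact Subtype.ext (by subst h; rfl)
    · rw [PP.tauMap_pow_eq_zero m A B z, map_zero, MvPolynomial.coeff_monomial, if_neg]
      · rintro rfl
        exact hd (by rw [PP.degree_eq_sum]; exact p.2)
      · refine (MvPolynomial.mem_pow_idealOfVars_iff' _ _).mpr fun e he => ?_
        rw [MvPolynomial.coeff_monomial, if_neg]
        rintro rfl
        omega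
  exact LinearMap.congr_fun h f

theorem linearIndependent_D {A B : Type u} [CommRing A] [CommRing B] [Algebra A B] {ι : Type} [Fintype ι]
    [DecidableEq ι] (z : ι → B)
    (hker : ∀ f, PP.tauMap 1 A B z f = 0 → ∀ d : ι →₀ ℕ, d.degree ≤ 1 → f.coeff d = 0) :
    LinearIndependent B fun i => KaehlerDifferential.D A B (z i) := by
  rw [Fintype.linearIndependent_iff]
  intro g hg i
  let f : MvPolynomial ι B := ∑ j, MvPolynomial.C (g j) * MvPolynomial.X j
  have h0 : PP.tauMap 1 A B z f = 0 := by
    rw [PP.tauMap_eq_mk, Ideal.Quotient.eq_zero_iff_mem]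
    have he : ((∑ j, g j • SymGr.del A B (z j) : ↥(KaehlerDifferential.ideal A B)) : B ⊗[A] B) =
        PP.tauT (A := A) z f := by
      rw [map_sum, Submodule.coe_sum]
      refine Finset.sum_congr rfl fun j _ => ?_
      rw [map_mul, PP.tauT, MvPolynomial.aeval_C, MvPolynomial.aeval_X, ← Algebra.smul_def]
      rfl
    rw [← he, show (1 : ℕ) + 1 = 2 from rfl, ← Ideal.toCotangent_eq_zero]
    show KaehlerDifferential.fromIdeal A B _ = 0
    rw [map_sum, ← hg]
    exact Finset.sum_congr rfl fun j _ => LinearMap.map_smul_of_tower (KaehlerDifferential.fromIdeal A B) _ _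
  have := hker f h0 (Finsupp.single i 1) (by simp)
  classical
  simpa [f, MvPolynomial.coeff_sum, MvPolynomial.coeff_C_mul, MvPolynomial.coeff_X, MvPolynomial.coeff_X', Finsupp.single_left_inj (one_ne_zero : (1 : ℕ) ≠ 0)] using this

theorem canon_injective_of_ker {A B : Type u} [CommRing A] [CommRing B] [Algebra A B] {ι : Type} [Fintype ι]
    (z : ι → B) (b : Module.Basis ι B (KaehlerDifferential A B))
    (hb : ∀ i, b i = KaehlerDifferential.D A B (z i)) {κ : Type u} [Fintype κ]
    (hker : ∀ f, PP.tauMap (Fintype.card κ) A B z f = 0 → ∀ d : ι →₀ ℕ, d.degree ≤ Fintype.card κ → f.coeff d = 0) :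
    Function.Injective (SymGr.canon B (KaehlerDifferential.ideal A B) κ) := by
  let L : (ι →₀ B) →ₗ[B] (KaehlerDifferential.ideal A B).Cotangent := b.repr.symm.toLinearMap
  let L' : (KaehlerDifferential.ideal A B).Cotangent →ₗ[B] (ι →₀ B) := b.repr.toLinearMap
  have hL : ∀ i, L (Finsupp.single i 1) = (KaehlerDifferential.ideal A B).toCotangent (SymGr.del A B (z i)) :=
    fun i => (b.repr_symm_single_one (i := i)).trans (hb i)
  rw [← LinearMap.ker_eq_bot, LinearMap.ker_eq_bot']
  intro y hy
  obtain ⟨x, rfl⟩ : ∃ x, SymGr.map L x = y := ⟨SymGr.map L' y, by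
    have : (SymGr.map (ι := κ) L) ∘ₗ SymGr.map L' = LinearMap.id := SymGr.hom_ext fun t => by
      rw [LinearMap.comp_apply, SymGr.map_tprod, SymGr.map_tprod, LinearMap.id_apply]
      congr 1
      funext i
      exact b.repr.symm_apply_apply (t i)
    exact LinearMap.congr_fun this y⟩
  obtain ⟨hmem, hc⟩ := PP.canon_map_eq (A := A) z κ L hL x
  rw [hc, Submodule.Quotient.mk_eq_zero] at hy
  have hx : SymGr.prodMap (ι := κ) (SymGr.linForm (R := B) (σ := ι)) x = 0 := by
    ext d
    rw [MvPolynomial.coeff_zero]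
    by_contra hd
    refine hd (hker _ ?_ d (SymGr.prodMap_linForm_isHomogeneous x d hd).le)
    rw [PP.tauMap_eq_mk, Ideal.Quotient.eq_zero_iff_mem]
    exact hy
  rw [SymGr.prodMap_linForm_injective (hx.trans (map_zero _).symm), map_zero]

/-- a) iff b) (affine form, finite family): let B be an A-algebra and z_1, …, z_r elements of B whose
differentials generate the module of differentials of B over A. The following are equivalent: (a) B
is differentially smooth over A and (dz_i) is a basis of the module of differentials; (b) there is a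
family (D_p), indexed by multi-indices p, of differential operators B → B (each of some finite
order) with D_p(z^q) = (∏ binom(q_i, p_i)) z^(q-p) for all p, q. -/
theorem result (A B : Type u) [CommRing A] [CommRing B]
    [Algebra A B] (ι : Type) [Fintype ι] [DecidableEq ι] (z : ι → B)
    (hz : Submodule.span B (Set.range fun i => KaehlerDifferential.D A B (z i)) = ⊤) :
    (PP16.IsDiffSmooth A B ∧
        ∃ b : Module.Basis ι B (KaehlerDifferential A B), ∀ i, b i = KaehlerDifferential.D A B (z i)) ↔
      ∃ Dp : (ι → ℕ) → (B →ₗ[A] B),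
        (∀ p, ∃ k : ℕ, Diff16.IsDiffOpLE A B B B k (Dp p)) ∧
        ∀ p q : ι → ℕ, Dp p (∏ i, z i ^ q i) =
          ((∏ i, Nat.choose (q i) (p i) : ℕ) : B) * ∏ i, z i ^ (q i - p i) := by
  classical
  constructor
  · rintro ⟨hB, b, hb⟩
    rw [SymGr.isDiffSmooth_iff] at hB
    have hker : ∀ m f, PP.tauMap m A B z f = 0 → ∀ d : ι →₀ ℕ, d.degree ≤ m → f.coeff d = 0 :=
      fun m => PP.tauMap_ker_of_diffSmooth z hB.2 b hb m
    choose Bm hBm using fun m => PP.exists_basis (A := A) z m (PP.tauMap_surjective_of_span A z hz m) (hker m)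
    let Dp : (ι → ℕ) → (B →ₗ[A] B) := fun p =>
      (((Bm (∑ i, p i)).coord ⟨p, le_rfl⟩).restrictScalars A) ∘ₗ (PP16.dn (∑ i, p i) A B).toLinearMap
    have hlin : ∀ (p : ι → ℕ) (x : B ⊗[A] B), PP.lin (Dp p) x =
        (Bm (∑ i, p i)).coord ⟨p, le_rfl⟩ (Ideal.Quotient.mk _ x) := by
      intro p x
      induction x using TensorProduct.induction_on with
      | zero => simp only [map_zero]
      | add x y hx hy => simp only [map_add, hx, hy]
      | tmul a c =>
        rw [PP.lin_tmul, PP.mk_tmul, ← Algebra.smul_def, map_smul]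
        rfl
    refine ⟨Dp, fun p => ⟨∑ i, p i, (DiffOps.iff_vanish _ _).mpr fun x hx => ?_⟩, fun p q => ?_⟩
    · rw [← PP.lin_eq_linearize, hlin, Ideal.Quotient.eq_zero_iff_mem.mpr hx, map_zero]
    set m := ∑ i, p i with hm
    have hdn : PP16.dn m A B (∏ i, z i ^ q i) =
        PP.tauMap m A B z (∏ i, (MvPolynomial.C (z i) + MvPolynomial.X i : MvPolynomial ι B) ^ q i) := by
      rw [map_prod, map_prod]
      refine Finset.prod_congr rfl fun i _ => ?_
      rw [map_pow, map_pow, map_add, PP.tauMap, MvPolynomial.aeval_C, MvPolynomial.aeval_X, add_sub_cancel]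
    show (Bm m).coord ⟨p, le_rfl⟩ (PP16.dn m A B (∏ i, z i ^ q i)) = _
    rw [hdn]
    refine (coord_tauMap z m (Bm m) (hBm m) ⟨p, le_rfl⟩ _).trans ?_
    rw [PP.coeff_shift_prod]
    rfl
  · rintro ⟨Dp, hD, hDz⟩
    have hker : ∀ m f, PP.tauMap m A B z f = 0 → ∀ d : ι →₀ ℕ, d.degree ≤ m → f.coeff d = 0 :=
      fun m => PP.ker_of_operators hz Dp hD hDz m
    have hli := linearIndependent_D z (hker 1)
    let b := Module.Basis.mk hli hz.ge
    have hb : ∀ i, b i = KaehlerDifferential.D A B (z i) := fun i => Module.Basis.mk_apply hli hz.ge i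
    refine ⟨?_, b, hb⟩
    rw [SymGr.isDiffSmooth_iff]
    exact ⟨Module.Projective.of_basis b, fun κ _ => canon_injective_of_ker z b hb (hker _) ⟩

end Groth.Agent.S3816
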