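import Groth.Statements.S3818
import Groth.Agent.Lib.PP16.Monomial

set_option autoImplicit false
universe u
open scoped TensorProduct
open scoped BigOperators
open PP16

namespace Groth.Agent.S3818

theorem lin_zetaMon {A B : Type u} [CommRing A] [CommRing B] [Algebra A B] {ι : Type} [Fintype ι]
    (z : ι → B) (p r : ι → ℕ) (D : B →ₗ[A] B)
    (hD : ∀ q : ι → ℕ, D (∏ i, z i ^ q i) = ((∏ i, Nat.choose (q i) (p i) : ℕ) : B) * ∏ i, z i ^ (q i - p i))
    [Decidable (r = p)] :
    PP.lin D (PP.tauT (A := A) z (MvPolynomial.monomial (Finsupp.equivFunOnFinite.symm r) 1)) =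
      if r = p then 1 else 0 := by
  classical
  rw [PP.lin_tauT p D hD, MvPolynomial.coeff_monomial]
  exact if_congr Finsupp.equivFunOnFinite.symm.injective.eq_iff rfl rfl

theorem existsUnique_coeffs {A B : Type u} [CommRing A] [CommRing B] [Algebra A B] {ι : Type} [Fintype ι]
    (z : ι → B) (hz : Submodule.span B (Set.range fun i => KaehlerDifferential.D A B (z i)) = ⊤)
    (Dp : (ι → ℕ) → (B →ₗ[A] B)) (hD : ∀ p, ∃ k : ℕ, Diff16.IsDiffOpLE A B B B k (Dp p))
    (hDz : ∀ p q : ι → ℕ, Dp p (∏ i, z i ^ q i) =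
        ((∏ i, Nat.choose (q i) (p i) : ℕ) : B) * ∏ i, z i ^ (q i - p i))
    (m : ℕ) (D : B →ₗ[A] B) (hDm : Diff16.IsDiffOpLE A B B B m D)
    (Bm : Module.Basis {p : ι → ℕ // ∑ i, p i ≤ m} B (PP16.P m A B)) (hBm : ∀ p, Bm p = PP.zetaMon (A := A) z m p.1) :
    ∃! a : {p : ι → ℕ // ∑ i, p i ≤ m} →₀ B, D = a.sum fun p c => c • Dp p.1 := by
  classical
  let mon : {p : ι → ℕ // ∑ i, p i ≤ m} → B ⊗[A] B := fun p =>
    PP.tauT (A := A) z (MvPolynomial.monomial (Finsupp.equivFunOnFinite.symm p.1) 1)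
  haveI : Finite {p : ι → ℕ // ∑ i, p i ≤ m} :=
    Finite.of_injective (fun p (i : ι) => (⟨p.1 i, Nat.lt_succ_of_le
      ((Finset.single_le_sum (fun j _ => Nat.zero_le (p.1 j)) (Finset.mem_univ i)).trans p.2)⟩ : Fin (m + 1)))
      fun p q h => Subtype.ext (funext fun i => by simpa using congrFun h i)
  haveI := Fintype.ofFinite {p : ι → ℕ // ∑ i, p i ≤ m}
  have hsum : ∀ (a : {p : ι → ℕ // ∑ i, p i ≤ m} →₀ B) (x : B ⊗[A] B),
      PP.lin (a.sum fun p c => c • Dp p.1) x = ∑ p, a p * PP.lin (Dp p.1) x := by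
    intro a x
    induction x using TensorProduct.induction_on with
    | zero => simp
    | add x y hx hy => rw [map_add, hx, hy, ← Finset.sum_add_distrib]; simp [mul_add]
    | tmul b c =>
      simp only [PP.lin_tmul]
      rw [Finsupp.sum_fintype _ _ (fun p => zero_smul B (Dp p.1)), LinearMap.sum_apply, Finset.mul_sum]
      exact Finset.sum_congr rfl fun p _ => by simp [mul_left_comm]
  refine ⟨Finsupp.equivFunOnFinite.symm fun p => PP.lin D (mon p), ?_, fun a ha => ?_⟩
  · refine LinearMap.ext fun c => ?_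
    have key : ∀ x : B ⊗[A] B, PP.lin D x = ∑ p, PP.lin D (mon p) * PP.lin (Dp p.1) x := by
      intro x
      let y : PP16.P m A B := Ideal.Quotient.mk _ x
      have hy : y = Ideal.Quotient.mk _ (∑ q, Bm.repr y q • mon q) := by
        conv_lhs => rw [← Bm.sum_repr y]
        rw [map_sum]
        refine Finset.sum_congr rfl fun q _ => ?_
        rw [hBm]
        show _ = (Ideal.Quotient.mkₐ B _) (Bm.repr y q • mon q)
        rw [map_smul]
        congr 1
        show _ = Ideal.Quotient.mk _ (mon q)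
        rw [← PP.tauMap_eq_mk, PP.tauMap_monomial, one_smul]
        rfl
      have hd := Ideal.Quotient.eq.mp hy
      have h1 : ∀ E : B →ₗ[A] B, (∀ w ∈ KaehlerDifferential.ideal A B ^ (m + 1), PP.lin E w = 0) →
          PP.lin E x = ∑ q, Bm.repr y q * PP.lin E (mon q) := by
        intro E hE
        have := hE _ hd
        rw [map_sub, sub_eq_zero] at this
        rw [this, map_sum]
        simp
      rw [h1 D (fun w hw => by rw [PP.lin_eq_linearize]; exact (DiffOps.iff_vanish m D).mp hDm w hw)]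
      have h2 : ∀ p : {p : ι → ℕ // ∑ i, p i ≤ m}, PP.lin (Dp p.1) x = Bm.repr y p := by
        intro p
        rw [h1 _ (fun w hw => PP.lin_eq_zero hz p.1 (Dp p.1) (hD p.1) (hDz p.1) m p.2 w hw),
          Finset.sum_eq_single p]
        · rw [lin_zetaMon z p.1 p.1 _ (hDz p.1), if_pos rfl, mul_one]
        · intro q _ hq
          rw [lin_zetaMon z p.1 q.1 _ (hDz p.1), if_neg (fun h => hq (Subtype.ext h)), mul_zero]
        · simp
      exact Finset.sum_congr rfl fun p _ => by rw [h2, mul_comm]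
    have := key ((1 : B) ⊗ₜ[A] c)
    have e := hsum (Finsupp.equivFunOnFinite.symm fun p => PP.lin D (mon p)) ((1 : B) ⊗ₜ[A] c)
    simp only [PP.lin_tmul, one_mul, Finsupp.coe_equivFunOnFinite_symm] at this e
    rw [this, e]
  · ext p
    have h := hsum a (mon p)
    rw [← ha, Finset.sum_eq_single p] at h
    · rw [lin_zetaMon z p.1 p.1 _ (hDz p.1), if_pos rfl, mul_one] at h
      simpa using h.symm
    · intro q _ hq
      rw [lin_zetaMon z q.1 p.1 _ (hDz q.1), if_neg (fun h => hq (Subtype.ext h).symm), mul_zero]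
    · simp

/-- Last assertion (affine form, finite family): let B be an A-algebra, z_1, …, z_r elements of B whose
differentials generate the module of differentials, and (D_p) a family of differential operators B →
B (each of some finite order) with D_p(z^q) = (∏ binom(q_i, p_i)) z^(q-p). Then D_p has order at
most |p|, and every differential operator B → B of order at most m relative to A can be written in
exactly one way as a B-linear combination ∑_{|p| ≤ m} a_p D_p. -/
theorem result (A B : Type u) [CommRing A] [CommRing B] [Algebra A B]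
    (ι : Type) [Fintype ι] [DecidableEq ι] (z : ι → B)
    (hz : Submodule.span B (Set.range fun i => KaehlerDifferential.D A B (z i)) = ⊤)
    (Dp : (ι → ℕ) → (B →ₗ[A] B)) (hD : ∀ p, ∃ k : ℕ, Diff16.IsDiffOpLE A B B B k (Dp p))
    (hDz : ∀ p q : ι → ℕ, Dp p (∏ i, z i ^ q i) =
        ((∏ i, Nat.choose (q i) (p i) : ℕ) : B) * ∏ i, z i ^ (q i - p i)) :
    (∀ p, Diff16.IsDiffOpLE A B B B (∑ i, p i) (Dp p)) ∧
      ∀ (m : ℕ) (D : B →ₗ[A] B), Diff16.IsDiffOpLE A B B B m D →
        ∃! a : {p : ι → ℕ // ∑ i, p i ≤ m} →₀ B, D = a.sum fun p c => c • Dp p.1 := by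
  classical
  refine ⟨fun p => (DiffOps.iff_vanish _ _).mpr fun x hx => ?_, fun m D hDm => ?_⟩
  · rw [← PP.lin_eq_linearize]
    exact PP.lin_eq_zero hz p (Dp p) (hD p) (hDz p) _ le_rfl x hx
  have hker := fun f => PP.ker_of_operators hz Dp hD hDz m f
  obtain ⟨Bm, hBm⟩ := PP.exists_basis (A := A) z m (PP.tauMap_surjective_of_span A z hz m) hker
  exact existsUnique_coeffs z hz Dp hD hDz m D hDm Bm hBm

end Groth.Agent.S3818
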