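import Groth.Statements.S3819
import Groth.Agent.Lib.SymGr.DiffSmooth
import Mathlib.LinearAlgebra.FreeModule.Basic
import Mathlib.RingTheory.Derivation.Basic
import Mathlib.Data.Nat.Factorial.Basic
import Mathlib.Algebra.Algebra.Rat
import Mathlib.Algebra.CharZero.Defs
import Mathlib.Data.Rat.Cast.CharZero
import Mathlib.LinearAlgebra.Finsupp.LSum

set_option autoImplicit false
universe u
open scoped TensorProduct
open PP16

namespace Groth.Agent.S3819

section
variable {κ : Type u} {A B : Type u} [CommRing A] [CommRing B] [Algebra A B]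

/-- `f ↦ Σ T i ⊗ f i`. -/
noncomputable def phiF : (κ →₀ B) →ₗ[A] MvPolynomial κ B ⊗[A] B :=
  Finsupp.lsum A fun i => (TensorProduct.mk A (MvPolynomial κ B) B (MvPolynomial.X i))

theorem phiF_smul (c : B) (f : κ →₀ B) :
    phiF (A := A) (c • f) = ((1 : MvPolynomial κ B) ⊗ₜ[A] c) * phiF (A := A) f := by
  induction f using Finsupp.induction_linear with
  | zero => simp
  | add x y hx hy => rw [smul_add, map_add, map_add, mul_add, hx, hy]
  | single i a =>
    simp [phiF, Algebra.TensorProduct.tmul_mul_tmul]

variable (e : Module.Basis κ B (KaehlerDifferential A B))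

/-- `c ↦ Σ T i ⊗ D_i c`. -/
noncomputable def phi : B →ₗ[A] MvPolynomial κ B ⊗[A] B :=
  phiF ∘ₗ (e.repr.toLinearMap.restrictScalars A) ∘ₗ (KaehlerDifferential.D A B).toLinearMap

theorem phi_mul (c d : B) :
    phi e (c * d) = ((1 : MvPolynomial κ B) ⊗ₜ[A] c) * phi e d + ((1 : MvPolynomial κ B) ⊗ₜ[A] d) * phi e c := by
  show phiF (e.repr (KaehlerDifferential.D A B (c * d))) = _
  rw [Derivation.leibniz, map_add, map_smul, map_smul, map_add, phiF_smul, phiF_smul]
  rfl

/-- The degree raising derivation. -/
noncomputable def eul : MvPolynomial κ B ⊗[A] B →ₗ[A] MvPolynomial κ B ⊗[A] B :=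
  TensorProduct.lift (LinearMap.mk₂ A (fun p c => (p ⊗ₜ[A] (1 : B)) * phi e c)
    (fun p q c => by simp [TensorProduct.add_tmul, add_mul])
    (fun a p c => by rw [← TensorProduct.smul_tmul', smul_mul_assoc])
    (fun p c d => by rw [map_add, mul_add])
    (fun a p c => by rw [map_smul, mul_smul_comm]))

theorem eul_tmul (p : MvPolynomial κ B) (c : B) : eul e (p ⊗ₜ[A] c) = (p ⊗ₜ[A] (1 : B)) * phi e c := rfl

theorem eul_mul (x y : MvPolynomial κ B ⊗[A] B) : eul e (x * y) = x * eul e y + y * eul e x := by
  induction x using TensorProduct.induction_on with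
  | zero => simp
  | add x x' hx hx' => rw [add_mul, map_add, hx, hx', map_add]; ring
  | tmul p c =>
    induction y using TensorProduct.induction_on with
    | zero => simp
    | add y y' hy hy' => rw [mul_add, map_add, hy, hy', map_add]; ring
    | tmul q d =>
      have h1 : p ⊗ₜ[A] c = (p ⊗ₜ[A] (1 : B)) * ((1 : MvPolynomial κ B) ⊗ₜ[A] c) := by simp
      have h2 : q ⊗ₜ[A] d = (q ⊗ₜ[A] (1 : B)) * ((1 : MvPolynomial κ B) ⊗ₜ[A] d) := by simp
      rw [Algebra.TensorProduct.tmul_mul_tmul, eul_tmul, eul_tmul, eul_tmul, phi_mul, h1, h2,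
        show (p * q) ⊗ₜ[A] (1 : B) = (p ⊗ₜ[A] (1 : B)) * (q ⊗ₜ[A] (1 : B)) by simp]
      ring

/-- The multiplication. -/
noncomputable def eps : MvPolynomial κ B ⊗[A] B →ₐ[A] MvPolynomial κ B :=
  Algebra.TensorProduct.lift (AlgHom.id A _) (IsScalarTower.toAlgHom A B (MvPolynomial κ B))
    fun _ _ => Commute.all _ _

theorem eps_tmul (p : MvPolynomial κ B) (c : B) : eps (A := A) (p ⊗ₜ[A] c) = p * MvPolynomial.C c := by
  simp [eps]

theorem iter_mem_pow {Q P : Type*} [CommRing Q] [CommRing P] (E : Q →+ Q)
    (hE : ∀ a b, E (a * b) = a * E b + b * E a) (π : Q →+* P) (m : ℕ) {x : Q}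
    (hx : x ∈ RingHom.ker π ^ (m + 1)) : E x ∈ RingHom.ker π ^ m := by
  induction m generalizing x with
  | zero => simp
  | succ m ih =>
    rw [pow_succ'] at hx
    refine Submodule.mul_induction_on hx (fun a ha b hb => ?_) (fun a b ha hb => by rw [map_add]; exact add_mem ha hb)
    rw [hE]
    refine add_mem ?_ (Ideal.mul_mem_right _ _ hb)
    rw [pow_succ']
    exact Ideal.mul_mem_mul ha (ih hb)

theorem iter_eq_zero {Q P : Type*} [CommRing Q] [CommRing P] (E : Q →+ Q)
    (hE : ∀ a b, E (a * b) = a * E b + b * E a) (π : Q →+* P) (m : ℕ) {x : Q}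
    (hx : x ∈ RingHom.ker π ^ (m + 1)) : π (E^[m] x) = 0 := by
  induction m generalizing x with
  | zero => simpa using hx
  | succ m ih =>
    rw [Function.iterate_succ_apply]
    exact ih (iter_mem_pow E hE π (m + 1) hx)

theorem iter_add {Q : Type*} [AddCommMonoid Q] (E : Q →+ Q) (m : ℕ) {ι : Type*} (s : Finset ι) (f : ι → Q) :
    E^[m] (∑ i ∈ s, f i) = ∑ i ∈ s, E^[m] (f i) := by
  induction m with
  | zero => simp
  | succ m ih => simp only [Function.iterate_succ_apply', ih, map_sum]

theorem iter_prod {Q P : Type*} [CommRing Q] [CommRing P] (E : Q →+ Q)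
    (hE : ∀ a b, E (a * b) = a * E b + b * E a) (π : Q →+* P) {ι : Type*} (m : ℕ) :
    ∀ (s : Finset ι), s.card = m → ∀ (x : ι → Q), (∀ i ∈ s, π (x i) = 0) → ∀ r,
      π (E^[m] (r * ∏ i ∈ s, x i)) = (m.factorial : P) * π r * ∏ i ∈ s, π (E (x i)) := by
  classical
  induction m with
  | zero =>
    intro s hs x _ r
    rw [Finset.card_eq_zero.mp hs]
    simp
  | succ m ih =>
    intro s hs x hx r
    have hder : ∀ t : Finset ι, E (∏ i ∈ t, x i) = ∑ i ∈ t, (∏ k ∈ t.erase i, x k) * E (x i) := by
      intro t
      induction t using Finset.induction_on with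
      | empty =>
        have h := hE 1 1
        simp only [mul_one, one_mul] at h
        simpa using h
      | insert a t hat iht =>
        rw [Finset.prod_insert hat, hE, iht, Finset.sum_insert hat, Finset.erase_insert hat,
          Finset.mul_sum, add_comm]
        congr 1
        refine Finset.sum_congr rfl fun i hi => ?_
        rw [Finset.erase_insert_of_ne (by rintro rfl; exact hat hi),
          Finset.prod_insert (fun h => hat (Finset.mem_of_mem_erase h)), mul_assoc]
    have hterm : ∀ i ∈ s, π (E^[m] (r * ((∏ k ∈ s.erase i, x k) * E (x i)))) =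
        (m.factorial : P) * π r * ∏ k ∈ s, π (E (x k)) := by
      intro i hi
      rw [show r * ((∏ k ∈ s.erase i, x k) * E (x i)) = r * E (x i) * ∏ k ∈ s.erase i, x k by ring,
        ih (s.erase i) (by rw [Finset.card_erase_of_mem hi, hs]; omega) x (fun k hk => hx k (Finset.mem_of_mem_erase hk)),
        ← Finset.mul_prod_erase s _ hi, map_mul]
      ring
    have hzero : π (E^[m] ((∏ i ∈ s, x i) * E r)) = 0 := by
      refine iter_eq_zero E hE π m (Ideal.mul_mem_right _ _ ?_)
      have := Ideal.prod_mem_prod (I := fun _ => RingHom.ker π) (x := x) (s := s)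
        fun i hi => RingHom.mem_ker.mpr (hx i hi)
      simpa [hs] using this
    have hsplit : ∀ (k : ℕ) (a b : Q), E^[k] (a + b) = E^[k] a + E^[k] b := by
      intro k
      induction k with
      | zero => simp
      | succ k ihk => intro a b; simp only [Function.iterate_succ_apply, map_add, ihk]
    rw [Function.iterate_succ_apply, hE, hsplit, map_add, hder, Finset.mul_sum, iter_add,
      map_sum, Finset.sum_congr rfl hterm, hzero, add_zero, Finset.sum_const, hs, Nat.factorial_succ,
      nsmul_eq_mul, Nat.cast_mul]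
    ring

/-- The linear form on cotangent classes. -/
noncomputable def form : KaehlerDifferential A B →ₗ[B] MvPolynomial κ B :=
  SymGr.linForm ∘ₗ e.repr.toLinearMap

theorem eps_phiF (f : κ →₀ B) : eps (phiF (A := A) f) = SymGr.linForm f := by
  induction f using Finsupp.induction_linear with
  | zero => simp
  | add x y hx hy => rw [map_add, map_add, map_add, hx, hy]
  | single i a =>
    simp [phiF, eps_tmul, SymGr.linForm, MvPolynomial.smul_eq_C_mul, mul_comm]

end

theorem canon_injective_charZero (A B : Type u) [CommRing A] [CommRing B] [Algebra A B] [Algebra ℚ B]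
    {κ : Type u} (e : Module.Basis κ B (KaehlerDifferential A B)) (ι : Type u) [Fintype ι] :
    Function.Injective (SymGr.canon B (KaehlerDifferential.ideal A B) ι) := by
  classical
  let inc : B ⊗[A] B →ₐ[A] MvPolynomial κ B ⊗[A] B :=
    Algebra.TensorProduct.map (IsScalarTower.toAlgHom A B (MvPolynomial κ B)) (AlgHom.id A B)
  let d : B → MvPolynomial κ B ⊗[A] B := fun b => inc (SymGr.del A B b : B ⊗[A] B)
  have hdb : ∀ b, d b = (1 : MvPolynomial κ B) ⊗ₜ[A] b - MvPolynomial.C b ⊗ₜ[A] (1 : B) := fun b => by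
    simp [d, inc, SymGr.del]
  have hd0 : ∀ b, eps (d b) = 0 := fun b => by rw [hdb, map_sub, eps_tmul, eps_tmul]; simp
  have hd1 : ∀ b, eps (eul e (d b)) = form e (KaehlerDifferential.D A B b) := fun b => by
    rw [hdb, map_sub, eul_tmul, eul_tmul,
      show phi e (1 : B) = 0 by simp [phi], mul_zero, sub_zero,
      show (1 : MvPolynomial κ B) ⊗ₜ[A] (1 : B) = 1 from rfl, one_mul]
    exact eps_phiF _
  have hI : (KaehlerDifferential.ideal A B).map inc ≤ RingHom.ker (eps (A := A) (B := B) (κ := κ)) := by
    rw [← KaehlerDifferential.span_range_eq_ideal, Ideal.map_span, Ideal.span_le]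
    rintro _ ⟨_, ⟨b, rfl⟩, rfl⟩
    exact hd0 b
  have hsmul : ∀ (k : ℕ) (p : MvPolynomial κ B) (y : MvPolynomial κ B ⊗[A] B),
      (eul e)^[k] ((p ⊗ₜ[A] (1 : B)) * y) = (p ⊗ₜ[A] (1 : B)) * (eul e)^[k] y := by
    intro k p
    induction k with
    | zero => intro y; simp
    | succ k ih =>
      intro y
      simp only [Function.iterate_succ_apply]
      have h0 : eul e (p ⊗ₜ[A] (1 : B)) = 0 := by
        rw [eul_tmul, show phi e (1 : B) = 0 by simp [phi], mul_zero]
      rw [eul_mul, h0, mul_zero, add_zero, ih]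
  have hB : ∀ (s : B) (z : B ⊗[A] B), inc (s • z) = (MvPolynomial.C s ⊗ₜ[A] (1 : B)) * inc z := by
    intro s z
    induction z using TensorProduct.induction_on with
    | zero => simp
    | add x y hx hy => rw [smul_add, map_add, map_add, hx, hy, mul_add]
    | tmul a c => simp [inc, TensorProduct.smul_tmul', Algebra.TensorProduct.tmul_mul_tmul]
  let L : ↥((KaehlerDifferential.ideal A B ^ Fintype.card ι).restrictScalars B) →ₗ[B] MvPolynomial κ B :=
    { toFun := fun x => eps ((eul e)^[Fintype.card ι] (inc (x : B ⊗[A] B)))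
      map_add' := fun x y => by
        show eps ((eul e)^[Fintype.card ι] (inc ((x : B ⊗[A] B) + (y : B ⊗[A] B)))) = eps _ + eps _
        rw [map_add, ← Module.End.pow_apply, ← Module.End.pow_apply, ← Module.End.pow_apply, map_add, map_add]
      map_smul' := fun s x => by
        show eps ((eul e)^[Fintype.card ι] (inc (s • (x : B ⊗[A] B)))) = s • eps _
        rw [hB, hsmul, map_mul, eps_tmul, map_one, mul_one, MvPolynomial.smul_eq_C_mul] }
  have hL : ((KaehlerDifferential.ideal A B ^ (Fintype.card ι + 1)).restrictScalars B).comap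
      ((KaehlerDifferential.ideal A B ^ Fintype.card ι).restrictScalars B).subtype ≤ LinearMap.ker L := by
    intro x hx
    refine iter_eq_zero (eul e).toAddMonoidHom (eul_mul e) (eps (A := A) (B := B) (κ := κ)).toRingHom _ ?_
    have h := Ideal.mem_map_of_mem inc (show (x : B ⊗[A] B) ∈ KaehlerDifferential.ideal A B ^ (Fintype.card ι + 1) from hx)
    rw [Ideal.map_pow] at h
    exact Ideal.pow_right_mono hI _ h
  let fm : (KaehlerDifferential.ideal A B).Cotangent →ₗ[B] MvPolynomial κ B := form e
  have h : (Submodule.liftQ _ L hL) ∘ₗ SymGr.canon B (KaehlerDifferential.ideal A B) ι =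
      ((Fintype.card ι).factorial : B) • SymGr.prodMap (ι := ι) fm := by
    refine LinearMap.ext_on_range (SymGr.tprod_span_eq_top
      (fun b => (KaehlerDifferential.ideal A B).toCotangent (SymGr.del A B b))
      (SymGr.span_toCotangent_del A B)) fun c => ?_
    rw [LinearMap.comp_apply, SymGr.canon_tprod]
    rw [LinearMap.smul_apply, SymGr.prodMap_tprod]
    show eps ((eul e)^[Fintype.card ι] (inc (∏ i, (SymGr.del A B (c i) : B ⊗[A] B)))) = _
    rw [map_prod, ← one_mul (∏ i, inc _)]
    refine (iter_prod (eul e).toAddMonoidHom (eul_mul e) (eps (A := A) (B := B) (κ := κ)).toRingHom (Fintype.card ι)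
      Finset.univ rfl (fun i => d (c i)) (fun i _ => hd0 _) 1).trans ?_
    rw [map_one, mul_one, Finset.prod_congr rfl fun i _ => (show (eps (A := A) (B := B) (κ := κ)).toRingHom
      ((eul e).toAddMonoidHom (d (c i))) = form e (KaehlerDifferential.D A B (c i)) from hd1 (c i)),
      MvPolynomial.smul_eq_C_mul, map_natCast]
    rfl
  have hu : IsUnit ((Fintype.card ι).factorial : B) := by
    rw [← map_natCast (algebraMap ℚ B)]
    exact (IsUnit.mk0 _ (Nat.cast_ne_zero.mpr (Nat.factorial_ne_zero _))).map _
  have hinj : Function.Injective (SymGr.prodMap (ι := ι) fm) := by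
    show Function.Injective (SymGr.prodMap (ι := ι) (form e))
    have he : SymGr.prodMap (ι := ι) (form e) =
        (SymGr.prodMap (ι := ι) (SymGr.linForm (R := B) (σ := κ))) ∘ₗ SymGr.map e.repr.toLinearMap :=
      SymGr.hom_ext fun x => by
        rw [LinearMap.comp_apply, SymGr.map_tprod, SymGr.prodMap_tprod, SymGr.prodMap_tprod]
        rfl
    rw [he]
    exact SymGr.prodMap_linForm_injective.comp (SymGr.map_injective_of_leftInverse _ e.repr.symm.toLinearMap
      (LinearMap.ext fun x => e.repr.symm_apply_apply x))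
  intro x y hxy
  apply hinj
  have := congrArg (Submodule.liftQ _ L hL) hxy
  change ((Submodule.liftQ _ L hL) ∘ₗ SymGr.canon B (KaehlerDifferential.ideal A B) ι) x =
    ((Submodule.liftQ _ L hL) ∘ₗ SymGr.canon B (KaehlerDifferential.ideal A B) ι) y at this
  rw [h] at this
  exact hu.smul_left_cancel.mp this

/-- Let B be an A-algebra containing the rational numbers (a scheme of characteristic 0) whose module of
differentials over A is a free B-module, of any rank. Then B is differentially smooth over A. -/
theorem result (A B : Type u) [CommRing A] [CommRing B] [Algebra A B] [Algebra ℚ B]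
    (hΩ : Module.Free B (KaehlerDifferential A B)) : PP16.IsDiffSmooth A B := by
  rw [SymGr.isDiffSmooth_iff]
  refine ⟨inferInstance, fun ι _ => ?_⟩
  exact canon_injective_charZero A B (Module.Free.chooseBasis B (KaehlerDifferential A B)) ι

end Groth.Agent.S3819
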