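import Groth.Statements.S3821
import Groth.Agent.Lib.SymGr.DiffSmoothBC
import Groth.Agent.S3806

set_option autoImplicit false
universe u
open scoped TensorProduct
open PP16

namespace Groth.Agent.S3821

theorem isBaseChange_P (n : ℕ) (A B A' B' : Type u) [CommRing A] [CommRing B] [Algebra A B]
    [CommRing A'] [CommRing B'] [Algebra A' B'] [Algebra A A'] [Algebra B B'] [Algebra A B']
    [IsScalarTower A A' B'] [IsScalarTower A B B'] [Algebra.IsPushout A A' B B'] :
    ∃ π : PP16.P n A B →ₗ[B] PP16.P n A' B', IsBaseChange B' π ∧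
      ∀ x, π x = PP16.map n A B A' B' x := by
  letI := PP16.mapAlgebra n A B A' B'
  haveI := PP16.isScalarTower_mapAlgebra n A B A' B'
  haveI : Algebra.IsPushout A B A' B' := Algebra.IsPushout.symm inferInstance
  have h := (Groth.Agent.S3806.result n A B A' B').symm.out
  exact ⟨_, h, fun x => rfl⟩

theorem lmul_bijective (A B : Type u) [CommRing A] [CommRing B] [Algebra A B] :
    Function.Bijective ((Ideal.Quotient.mk (KaehlerDifferential.ideal A B)).comp
      (algebraMap B (B ⊗[A] B))) := by
  refine ⟨fun a b hab => ?_, fun y => ?_⟩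
  · have h : algebraMap B (B ⊗[A] B) a - algebraMap B (B ⊗[A] B) b ∈ KaehlerDifferential.ideal A B :=
      Ideal.Quotient.eq.mp hab
    rw [KaehlerDifferential.ideal, RingHom.mem_ker, map_sub, sub_eq_zero] at h
    simpa [Algebra.TensorProduct.algebraMap_apply] using h
  · obtain ⟨r, rfl⟩ := Ideal.Quotient.mk_surjective y
    obtain ⟨s, hs⟩ := SymGr.exists_sub_mem_ideal A B r
    exact ⟨s, (Ideal.Quotient.eq.mpr hs).symm⟩

theorem isDiffSmooth_bc (A B A' B' : Type u) [CommRing A] [CommRing B] [Algebra A B]
    [CommRing A'] [CommRing B'] [Algebra A' B'] [Algebra A A'] [Algebra B B'] [Algebra A B']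
    [IsScalarTower A A' B'] [IsScalarTower A B B'] [Algebra.IsPushout A A' B B']
    (h : PP16.IsDiffSmooth A B) : PP16.IsDiffSmooth A' B' := by
  rw [SymGr.isDiffSmooth_iff] at h ⊢
  obtain ⟨hproj, hc⟩ := h
  have hβ := SymGr.isBaseChange_kaehlerMap A B A' B'
  refine ⟨Module.Projective.of_equiv hβ.equiv, fun ι _ => ?_⟩
  haveI : Module.Projective B (KaehlerDifferential.ideal A B).Cotangent := hproj
  have hgr : ∀ n, Module.Projective B (SymGr.gr B (KaehlerDifferential.ideal A B) (n + 1)) := by
    intro n
    have hb : Function.Bijective (SymGr.canon B (KaehlerDifferential.ideal A B) (ULift.{u} (Fin (n + 1)))) :=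
      ⟨hc _, SymGr.canon_surjective (SymGr.exists_sub_mem_ideal A B)⟩
    haveI := SymGr.projective_symmetricPower (R := B) (M := (KaehlerDifferential.ideal A B).Cotangent)
      (ι := ULift.{u} (Fin (n + 1)))
    have hcard : Fintype.card (ULift.{u} (Fin (n + 1))) = n + 1 := by simp
    have := Module.Projective.of_equiv (LinearEquiv.ofBijective _ hb)
    rwa [hcard] at this
  obtain ⟨ρ, hρ⟩ := SymGr.exists_retraction_grIncl (KaehlerDifferential.ideal A B) (lmul_bijective A B) hgr
    (Fintype.card ι)
  obtain ⟨π, hπ, hπm⟩ := isBaseChange_P (Fintype.card ι) A B A' B'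
  obtain ⟨gm, hgm⟩ := SymGr.exists_grMap A B A' B' (Fintype.card ι)
  let β : (KaehlerDifferential.ideal A B).Cotangent →ₗ[B] (KaehlerDifferential.ideal A' B').Cotangent :=
    KaehlerDifferential.map A A' B B'
  have hcm := SymGr.canon_comm A B A' B' ι gm hgm
  refine SymGr.injective_ascend (M := (KaehlerDifferential.ideal A B).Cotangent) (M' := (KaehlerDifferential.ideal A' B').Cotangent)
    (R' := B') β (SymGr.canon B (KaehlerDifferential.ideal A B) ι)
    (SymGr.canon B' (KaehlerDifferential.ideal A' B') ι) gm hcm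
    (SymGr.grIncl (KaehlerDifferential.ideal A B) (Fintype.card ι)) ρ hρ
    (SymGr.grIncl (KaehlerDifferential.ideal A' B') (Fintype.card ι)) π hπ ?_ ?_
    ⟨hc ι, SymGr.canon_surjective (SymGr.exists_sub_mem_ideal A B)⟩
  · intro x
    obtain ⟨⟨x, hx⟩, rfl⟩ := Submodule.Quotient.mk_surjective _ x
    rw [hgm, hπm]
    first | rfl | skip
  · show Submodule.span B' (Set.range (KaehlerDifferential.map A A' B B')) = (⊤ : Submodule B' (KaehlerDifferential A' B'))
    rw [eq_top_iff, ← KaehlerDifferential.span_range_derivation A' B', Submodule.span_le]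
    rintro _ ⟨b, rfl⟩
    refine hβ.inductionOn (KaehlerDifferential.D A' B' b) _ (zero_mem _) (fun m => Submodule.subset_span ⟨m, rfl⟩)
      (fun s x hx => Submodule.smul_mem _ s hx) (fun x y hx hy => add_mem hx hy)

/-- Let B be an A-algebra, A → A' a ring map and B' = B ⊗_A A'. If B is differentially smooth over A,
then B' is differentially smooth over A'. -/
theorem result (A B A' B' : Type u) [CommRing A] [CommRing B] [Algebra A B]
    [CommRing A'] [CommRing B'] [Algebra A' B'] [Algebra A A'] [Algebra B B'] [Algebra A B']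
    [IsScalarTower A A' B'] [IsScalarTower A B B'] [Algebra.IsPushout A B A' B']
    (h : PP16.IsDiffSmooth A B) : PP16.IsDiffSmooth A' B' := by
  haveI : Algebra.IsPushout A A' B B' := Algebra.IsPushout.symm inferInstance
  exact isDiffSmooth_bc A B A' B' h

end Groth.Agent.S3821
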