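import Groth.Statements.S3823
import Groth.Agent.Lib.QRegLoc3.Basic
import Groth.Agent.Lib.SymGr.DiffSmooth

set_option autoImplicit false
universe u
open scoped TensorProduct
open PP16

namespace Groth.Agent.S3823

namespace Bridge
open SymGr
variable (A B : Type u) [CommRing A] [CommRing B] [Algebra A B]

local notation "I" => KaehlerDifferential.ideal A B
local notation "R" => B ⊗[A] B

theorem smul_sub_mem (r : R) (m : (I).Cotangent) :
    r • m = Algebra.TensorProduct.lmul' A r • m := by
  obtain ⟨z, rfl⟩ := (I).toCotangent_surjective m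
  rw [← sub_eq_zero, ← algebraMap_smul R (Algebra.TensorProduct.lmul' A r), ← sub_smul, ← map_smul,
    Ideal.toCotangent_eq_zero, pow_two]
  refine Ideal.mul_mem_mul ?_ z.2
  change Algebra.TensorProduct.lmul' A (r - algebraMap B R _) = 0
  simp [Algebra.TensorProduct.algebraMap_apply]

theorem projective_iff :
    Module.Projective B (KaehlerDifferential A B) ↔ Module.Projective (R ⧸ I) (I).Cotangent := by
  let g : R →ₐ[A] B := Algebra.TensorProduct.lmul' A
  let e : R ⧸ I ≃+* B := RingHom.quotientKerEquivOfSurjective (f := g.toRingHom)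
    fun b => ⟨b ⊗ₜ 1, by simp [g]⟩
  letI := RingHomInvPair.of_ringEquiv e
  letI := RingHomInvPair.of_ringEquiv e.symm
  let L : (I).Cotangent ≃ₛₗ[(e : R ⧸ I →+* B)] (I).Cotangent :=
    { AddEquiv.refl _ with
      map_smul' := fun c m => by
        obtain ⟨r, rfl⟩ := Ideal.Quotient.mk_surjective c
        exact smul_sub_mem A B r m }
  exact ⟨fun h => by
      haveI : Module.Projective B (I).Cotangent := h
      exact Module.Projective.of_equiv L.symm, fun h => Module.Projective.of_equiv (M := (I).Cotangent) L⟩

variable (ι : Type u) [Fintype ι]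

noncomputable local instance symMod : Module B (Sym[R] ι (I).Cotangent) := Module.compHom _ (algebraMap B R)

local instance symTower : IsScalarTower B R (Sym[R] ι (I).Cotangent) :=
  IsScalarTower.of_algebraMap_smul fun _ _ => rfl

/-- Change of the ring of symmetric powers. -/
noncomputable def up : Sym[B] ι (I).Cotangent →ₗ[B] Sym[R] ι (I).Cotangent :=
  lift ((SymmetricPower.tprod R (ι := ι) (M := (I).Cotangent)).restrictScalars B)
    fun e x => SymmetricPower.tprod_equiv e x

theorem up_tprod (x : ι → (I).Cotangent) :
    up A B ι (SymmetricPower.tprod B x) = SymmetricPower.tprod R x := lift_tprod _ _ x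

theorem up_surjective [Nonempty ι] : Function.Surjective (up A B ι) := by
  intro y
  have h : y ∈ Submodule.span R (Set.range (SymmetricPower.tprod R (ι := ι) (M := (I).Cotangent))) := by
    rw [SymmetricPower.span_tprod_eq_top]; trivial
  induction h using Submodule.span_induction with
  | mem y hy => obtain ⟨x, rfl⟩ := hy; exact ⟨_, lift_tprod _ _ x⟩
  | zero => exact ⟨0, map_zero _⟩
  | add a b _ _ ha hb =>
    obtain ⟨a, rfl⟩ := ha
    obtain ⟨b, rfl⟩ := hb
    exact ⟨a + b, map_add _ _ _⟩
  | smul r a _ ha =>
    obtain ⟨a, rfl⟩ := ha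
    refine ⟨Algebra.TensorProduct.lmul' A r • a, ?_⟩
    rw [map_smul, ← algebraMap_smul R (Algebra.TensorProduct.lmul' A r), ← sub_eq_zero, ← sub_smul]
    exact smul_sym_eq_zero _ (fun m => by rw [sub_smul, algebraMap_smul, smul_sub_mem A B r m, sub_self]) _

/-- Underlying identification of graded pieces. -/
noncomputable def grId : gr B (I) (Fintype.card ι) →+ gr R (I) (Fintype.card ι) :=
  QuotientAddGroup.map _ _ (AddMonoidHom.mk' (fun x => (⟨x.1, x.2⟩ : ↥(((I) ^ Fintype.card ι).restrictScalars R)))
    fun _ _ => rfl) fun _ hx => hx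

theorem canon_up (y : Sym[B] ι (I).Cotangent) : canon R (I) ι (up A B ι y) = grId A B ι (canon B (I) ι y) := by
  have h : y ∈ Submodule.span B (Set.range (SymmetricPower.tprod B (ι := ι) (M := (I).Cotangent))) := by
    rw [SymmetricPower.span_tprod_eq_top]; trivial
  induction h using Submodule.span_induction with
  | mem y hy =>
    obtain ⟨x, rfl⟩ := hy
    obtain ⟨z, rfl⟩ : ∃ z : ι → ↥(I), (fun i => (I).toCotangent (z i)) = x :=
      ⟨fun i => rep (I) (x i), funext fun i => toCotangent_rep (I) _⟩
    rw [canon_tprod, up_tprod]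
    exact canon_tprod R (I) ι z
  | zero => simp
  | add a b _ _ ha hb => simp only [map_add, ha, hb]
  | smul c a _ ha =>
    rw [map_smul (up A B ι), LinearMap.map_smul (canon B (I) ι), ← algebraMap_smul R c (up A B ι a),
      LinearMap.map_smul (canon R (I) ι), ha]
    generalize canon B (I) ι a = w
    obtain ⟨w, rfl⟩ := Submodule.Quotient.mk_surjective _ w
    exact congrArg Submodule.Quotient.mk (Subtype.ext (algebraMap_smul R c (w : R)))

theorem injective_top [Nonempty ι] (h : Function.Injective (canon B (I) ι)) :
    Function.Injective (canon R (I) ι) := by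
  rw [injective_iff_map_eq_zero]
  intro y hy
  obtain ⟨y, rfl⟩ := up_surjective A B ι y
  rw [canon_up] at hy
  have : canon B (I) ι y = 0 := by
    obtain ⟨w, hw⟩ := Submodule.Quotient.mk_surjective _ (canon B (I) ι y)
    rw [← hw] at hy ⊢
    exact (Submodule.Quotient.mk_eq_zero _).2 ((QuotientAddGroup.eq_zero_iff _).1 hy : _)
  rw [h (this.trans (map_zero _).symm), map_zero]

theorem injective_bot [Nonempty ι] (h : Function.Injective (canon R (I) ι)) :
    Function.Injective (canon B (I) ι) := by
  rw [injective_iff_map_eq_zero]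
  intro y hy
  letI : Module R (Sym[B] ι (I).Cotangent) := Module.compHom _ (Algebra.TensorProduct.lmul' A).toRingHom
  let M : MultilinearMap R (fun _ : ι => (I).Cotangent) (Sym[B] ι (I).Cotangent) :=
    { toFun := fun x => SymmetricPower.tprod B x
      map_update_add' := fun x i a b => MultilinearMap.map_update_add _ x i a b
      map_update_smul' := fun x i r a => by
        rw [smul_sub_mem, MultilinearMap.map_update_smul]
        rfl }
  have key : ∀ w, lift M (fun e x => SymmetricPower.tprod_equiv e x) (up A B ι w) = w := by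
    intro w
    have hw : w ∈ Submodule.span B (Set.range (SymmetricPower.tprod B (ι := ι) (M := (I).Cotangent))) := by
      rw [SymmetricPower.span_tprod_eq_top]; trivial
    induction hw using Submodule.span_induction with
    | mem w hw => obtain ⟨x, rfl⟩ := hw; rw [up_tprod]; exact lift_tprod M _ x
    | zero => simp
    | add a b _ _ ha hb => simp only [map_add, ha, hb]
    | smul c a _ ha =>
      rw [map_smul, ← algebraMap_smul R c, map_smul, ha]
      change Algebra.TensorProduct.lmul' A (algebraMap B R c) • a = c • a
      rw [Algebra.TensorProduct.algebraMap_apply]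
      simp
  have h0 : up A B ι y = 0 := h (by rw [canon_up, hy, map_zero, map_zero])
  rw [← key y, h0, map_zero]

theorem injective_empty [IsEmpty ι] (hmem : ∀ b : B, algebraMap B R b ∈ I → b = 0) :
    Function.Injective (canon B (I) ι) := by
  rw [injective_iff_map_eq_zero]
  intro y hy
  have h : y ∈ Submodule.span B (Set.range (SymmetricPower.tprod B (ι := ι) (M := (I).Cotangent))) := by
    rw [SymmetricPower.span_tprod_eq_top]; trivial
  have hr : Set.range (SymmetricPower.tprod B (ι := ι) (M := (I).Cotangent)) =
      {SymmetricPower.tprod B fun i => (I).toCotangent (isEmptyElim i : ↥(I))} := by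
    ext z
    constructor
    · rintro ⟨x, rfl⟩
      exact congrArg (SymmetricPower.tprod B) (Subsingleton.elim _ _)
    · rintro rfl
      exact ⟨_, rfl⟩
  rw [hr] at h
  obtain ⟨b, rfl⟩ := Submodule.mem_span_singleton.1 h
  rw [map_smul, canon_tprod, zeta, ← Submodule.Quotient.mk_smul, Submodule.Quotient.mk_eq_zero] at hy
  have hy' : b • ∏ i, ((isEmptyElim i : ↥(I)) : R) ∈ (I) ^ (Fintype.card ι + 1) := hy
  rw [Finset.univ_eq_empty, Finset.prod_empty, ← Algebra.algebraMap_eq_smul_one] at hy'
  rw [hmem b (Ideal.pow_le_self (Nat.succ_ne_zero _) hy'), zero_smul]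

end Bridge

/-- Let B be an A-algebra of finite type. Then B is differentially smooth over A if and only if the
diagonal immersion is quasi-regular, that is, the kernel I of B ⊗_A B → B is a quasi-regular ideal:
every prime of B ⊗_A B containing I has a basic open neighbourhood on which I is generated by a
quasi-regular sequence. -/
theorem result (A B : Type u) [CommRing A] [CommRing B] [Algebra A B]
    [Algebra.FiniteType A B] :
    PP16.IsDiffSmooth A B ↔ PP16.IsLocallyQuasiRegular (B ⊗[A] B) (KaehlerDifferential.ideal A B) := by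
  rw [SymGr.isDiffSmooth_iff, QRegLoc3.iff_conditions, SymGr.symGrBijective_iff]
  let I := KaehlerDifferential.ideal A B
  have hfg : I.FG := KaehlerDifferential.ideal_fg A B
  have hmem : ∀ b : B, algebraMap B (B ⊗[A] B) b ∈ I → b = 0 := fun b hb => by
    have : Algebra.TensorProduct.lmul' A (algebraMap B (B ⊗[A] B) b) = 0 := hb
    simpa [Algebra.TensorProduct.algebraMap_apply] using this
  constructor
  · rintro ⟨hp, hc⟩
    exact ⟨hfg, (Bridge.projective_iff A B).1 hp, fun ι _ _ => Bridge.injective_top A B ι (hc ι)⟩
  · rintro ⟨-, hp, hc⟩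
    refine ⟨(Bridge.projective_iff A B).2 hp, fun ι _ => ?_⟩
    rcases isEmpty_or_nonempty ι with h | h
    · exact Bridge.injective_empty A B ι hmem
    · exact Bridge.injective_bot A B ι (hc ι)

end Groth.Agent.S3823
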