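import Groth.Statements.S3825
import Groth.Agent.Lib.QReg3.Change

set_option autoImplicit false
universe u
open QReg16

namespace Groth.Agent.S3825

/-- a) iff c) (affine local form): let A be a local ring and I a proper ideal generated by some
quasi-regular sequence. For a finite family (f_i) of elements of I, the following are equivalent:
(a) (f_i) is a quasi-regular sequence generating I; (c) the classes of the f_i form a basis of the
A/I-module I/I² (equivalently, b): (f_i) is a minimal system of generators of I). -/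
theorem result {A : Type u} [CommRing A] [IsLocalRing A]
    (I : Ideal A) (hI : I ≤ IsLocalRing.maximalIdeal A)
    (hq : ∃ (r : ℕ) (g : Fin r → A), CAlgX.IsQuasiRegular g ∧ Ideal.span (Set.range g) = I)
    {m : ℕ} (f : Fin m → I) :
    (CAlgX.IsQuasiRegular (fun i => (f i : A)) ∧ Ideal.span (Set.range fun i => (f i : A)) = I) ↔
      (LinearIndependent (A ⧸ I) (fun i => I.toCotangent (f i)) ∧
        Submodule.span (A ⧸ I) (Set.range fun i => I.toCotangent (f i)) = ⊤) := by
  classical
  obtain ⟨r, g, hg, hgI⟩ := hq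
  have hne : I ≠ ⊤ := fun e => (IsLocalRing.maximalIdeal.isMaximal A).ne_top (top_le_iff.mp (e ▸ hI))
  haveI : Nontrivial (A ⧸ I) := Ideal.Quotient.nontrivial_iff.mpr hne
  have hfg : I.FG := ⟨Finset.univ.image g, by rw [← hgI, Finset.coe_image, Finset.coe_univ, Set.image_univ]⟩
  have hli : ∀ {N : ℕ} (u : Fin N → I), CAlgX.IsQuasiRegular (fun i => (u i : A)) →
      Ideal.span (Set.range fun i => (u i : A)) = I → LinearIndependent (A ⧸ I) (fun i => I.toCotangent (u i)) := by
    intro N u hu huI
    rw [Fintype.linearIndependent_iff]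
    intro c hc i
    choose c' hc' using fun j => Ideal.Quotient.mk_surjective (I := I) (c j)
    have h0 : I.toCotangent (∑ j, c' j • u j) = 0 := by
      rw [map_sum, ← hc]
      refine Finset.sum_congr rfl fun j _ => ?_
      rw [map_smul, ← hc' j]
      rfl
    rw [Ideal.toCotangent_eq_zero, AddSubmonoidClass.coe_finsetSum] at h0
    have := QReg3.mem_of_linear hu c' (by rw [huI]; exact h0) i
    rw [huI] at this
    rw [← hc' i]
    exact Ideal.Quotient.eq_zero_iff_mem.mpr this
  have hsp : ∀ {N : ℕ} (u : Fin N → I), Ideal.span (Set.range fun i => (u i : A)) = I →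
      Submodule.span (A ⧸ I) (Set.range fun i => I.toCotangent (u i)) = ⊤ := by
    intro N u huI
    rw [eq_top_iff]
    rintro y -
    obtain ⟨⟨x, hx⟩, rfl⟩ := I.toCotangent_surjective y
    have hx' : x ∈ Ideal.span (Set.range fun i => (u i : A)) := huI.symm ▸ hx
    obtain ⟨c, hc⟩ := (Submodule.mem_span_range_iff_exists_fun A).mp hx'
    rw [show (⟨x, hx⟩ : I) = ∑ j, c j • u j from Subtype.ext (by rw [AddSubmonoidClass.coe_finsetSum]; exact hc.symm),
      map_sum]
    refine sum_mem fun j _ => ?_
    rw [map_smul, show c j • I.toCotangent (u j) = Ideal.Quotient.mk I (c j) • I.toCotangent (u j) from rfl]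
    exact Submodule.smul_mem _ _ (Submodule.subset_span ⟨j, rfl⟩)
  constructor
  · rintro ⟨h1, h2⟩
    exact ⟨hli f h1 h2, hsp f h2⟩
  · rintro ⟨h1, h2⟩
    have hspan : Ideal.span (Set.range fun i => (f i : A)) = I := by
      refine le_antisymm (Ideal.span_le.mpr (by rintro _ ⟨i, rfl⟩; exact (f i).2)) ?_
      refine Submodule.le_of_le_smul_of_le_jacobson_bot hfg (hI.trans (IsLocalRing.maximalIdeal_le_jacobson ⊥)) ?_
      intro x hx
      obtain ⟨c, hc⟩ := (Submodule.mem_span_range_iff_exists_fun (A ⧸ I)).mp (h2 ▸ Submodule.mem_top : I.toCotangent ⟨x, hx⟩ ∈ _)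
      choose c' hc' using fun j => Ideal.Quotient.mk_surjective (I := I) (c j)
      have h0 : I.toCotangent (∑ j, c' j • f j) = I.toCotangent ⟨x, hx⟩ := by
        rw [map_sum, ← hc]
        refine Finset.sum_congr rfl fun j _ => ?_
        rw [map_smul, ← hc' j]
        rfl
      rw [Ideal.toCotangent_eq, AddSubmonoidClass.coe_finsetSum, pow_two, ← smul_eq_mul] at h0
      rw [show x = (∑ j, ((c' j • f j : I) : A)) - ((∑ j, ((c' j • f j : I) : A)) - x) by ring]
      exact sub_mem (Submodule.mem_sup_left (sum_mem fun j _ => Ideal.mul_mem_left _ _ (Ideal.subset_span ⟨j, rfl⟩)))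
        (Submodule.mem_sup_right h0)
    let g' : Fin r → I := fun i => ⟨g i, hgI.le (Ideal.subset_span ⟨i, rfl⟩)⟩
    let b₁ := Module.Basis.mk h1 h2.ge
    let b₂ := Module.Basis.mk (hli g' hg hgI) (hsp g' hgI).ge
    obtain rfl : m = r := Fin.equiv_iff_eq.mp ⟨b₁.indexEquiv b₂⟩
    exact ⟨QReg3.isQuasiRegular_of_span_eq g _ hg (hspan.trans hgI.symm), hspan⟩

end Groth.Agent.S3825
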