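import Groth.Statements.S3828
import Groth.Agent.Lib.QReg3.InfPow

set_option autoImplicit false
universe u
open QReg16

namespace Groth.Agent.S3828

/-- Let A be a Noetherian ring, J an ideal of A, and f_1, …, f_r elements of A forming a weakly regular
sequence on A/J (each f_i a nonzerodivisor on A/(J + (f_1, …, f_{i−1}))) and generating an ideal R
contained in the Jacobson radical of A; put Q = J + R. Then J ∩ Rⁿ = J·Rⁿ for every n > 0, and J ∩
Q² = J·Q (equivalently, the canonical map J/JQ → Q/Q² is injective). -/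
theorem result {A : Type u} [CommRing A] [IsNoetherianRing A] (J : Ideal A)
    {r : ℕ} (f : Fin r → A) (hf : RingTheory.Sequence.IsWeaklyRegular (A ⧸ J) (List.ofFn f))
    (hrad : Ideal.span (Set.range f) ≤ (⊥ : Ideal A).jacobson) :
    (∀ n : ℕ, 0 < n → J ⊓ Ideal.span (Set.range f) ^ n = J * Ideal.span (Set.range f) ^ n) ∧
      J ⊓ (J ⊔ Ideal.span (Set.range f)) ^ 2 = J * (J ⊔ Ideal.span (Set.range f)) := by
  refine ⟨fun n _ => QReg3.inf_pow_eq_mul J f hf n, le_antisymm ?_ (le_inf Ideal.mul_le_left ?_)⟩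
  · rintro x ⟨hxJ, hx⟩
    rw [pow_two, Ideal.sup_mul] at hx
    obtain ⟨y, hy, z, hz, rfl⟩ := Submodule.mem_sup.mp hx
    rw [Ideal.mul_sup, mul_comm (Ideal.span (Set.range f)) J, ← pow_two] at hz
    obtain ⟨u, hu, v, hv, rfl⟩ := Submodule.mem_sup.mp hz
    have hu' : u ∈ J * (J ⊔ Ideal.span (Set.range f)) := Ideal.mul_mono_right le_sup_right hu
    refine add_mem hy (add_mem hu' ?_)
    have hvJ : v ∈ J := by
      have e : v = (y + (u + v)) - (y + u) := by ring
      rw [e]
      exact sub_mem hxJ (add_mem (Ideal.mul_le_left hy) (Ideal.mul_le_left hu))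
    have := (QReg3.inf_pow_eq_mul J f hf 2).le ⟨hvJ, hv⟩
    exact Ideal.mul_mono_right ((Ideal.pow_le_self two_ne_zero).trans le_sup_right) this
  · rw [pow_two]
    exact Ideal.mul_mono_left le_sup_left

end Groth.Agent.S3828
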