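import Groth.Statements.S3843
import Groth.Agent.Lib.SchDom.Basic

set_option autoImplicit false
universe u
open CategoryTheory CategoryTheory.Limits AlgebraicGeometry TopologicalSpace
open Rat20

namespace Groth.Agent.S3843

/-- For the open subset U = X; the general case is the same statement over the open subscheme U: let f :
X' → X be flat and locally of finite presentation. Then for every schematically dense open subset V
of X, the preimage f⁻¹(V) is schematically dense in X'. -/
theorem result {X X' : Scheme.{u}} (f : X' ⟶ X) [Flat f]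
    [LocallyOfFinitePresentation f] (V : X.Opens) (hV : CInt.IsSchematicallyDense V) :
    CInt.IsSchematicallyDense (f ⁻¹ᵁ V) := by
  have hdom : Groth.Agent.SchDom.Dom (fun _ : PUnit.{u+1} => V.ι) := by
    intro W t ht
    apply hV W
    rw [map_zero]
    have h0 := ht ⟨⟩
    rw [Scheme.Opens.ι_app] at h0
    have h1 := congrArg (X.presheaf.map (eqToHom (show V.ι ''ᵁ V.ι ⁻¹ᵁ W = W ⊓ V by
      rw [Scheme.Hom.image_preimage_eq_opensRange_inf, Scheme.Opens.opensRange_ι, inf_comm]).symm).op) h0
    replace h1 := h1.trans (map_zero _)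
    erw [← CommRingCat.comp_apply, ← Functor.map_comp] at h1
    exact h1
  intro W
  refine (injective_iff_map_eq_zero _).2 fun t ht => ?_
  refine hdom.baseChange f W t fun _ => ?_
  have key : ∀ {A B : Scheme.{u}} (p : A ⟶ B) (q : B ⟶ X'), q.app W t = 0 → (p ≫ q).app W t = 0 := by
    intro A B p q hq
    rw [Scheme.Hom.comp_app]
    erw [CommRingCat.comp_apply, hq]
    exact map_zero _
  have h2 : (f ⁻¹ᵁ V).ι.app W t = 0 := by
    rw [Scheme.Opens.ι_app]
    have h1 := congrArg (X'.presheaf.map (eqToHom (show (f ⁻¹ᵁ V).ι ''ᵁ (f ⁻¹ᵁ V).ι ⁻¹ᵁ W = W ⊓ f ⁻¹ᵁ V by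
      rw [Scheme.Hom.image_preimage_eq_opensRange_inf, Scheme.Opens.opensRange_ι, inf_comm])).op) ht
    replace h1 := h1.trans (map_zero _)
    erw [← CommRingCat.comp_apply, ← Functor.map_comp] at h1
    exact h1
  have hh : pullback.snd V.ι f = ((pullbackSymmetry V.ι f).hom ≫ (pullbackRestrictIsoRestrict f V).hom) ≫ (f ⁻¹ᵁ V).ι := by
    rw [Category.assoc, pullbackRestrictIsoRestrict_hom_ι, pullbackSymmetry_hom_comp_fst]
  show (pullback.snd V.ι f).app W t = 0
  rw [hh]
  exact key _ _ h2

end Groth.Agent.S3843
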