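import Groth.Statements.S3835
import Groth.Agent.Lib.NeronMap.Dense
import Groth.Agent.S3843
import Mathlib.AlgebraicGeometry.Sites.Fpqc
import Mathlib.AlgebraicGeometry.Morphisms.UniversallyOpen
-- import your own Groth.Agent.* helpers here

set_option autoImplicit false
universe u
open CategoryTheory CategoryTheory.Limits AlgebraicGeometry TopologicalSpace
open Rat20

set_option backward.isDefEq.respectTransparency.types false
open CategoryTheory AlgebraicGeometry CategoryTheory.Limits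

namespace Groth.Agent.S3835

/-- Let Y be separated over S, X an S-scheme with a schematically dense open subscheme U, h : U → Y an
S-morphism (a representative of a pseudo-morphism from X to Y over S), and f : X' → X a flat
morphism locally of finite presentation, X' being regarded as an S-scheme through f. Let x' be a
point of X' with image x = f(x'). If there is an S-morphism from an open neighbourhood V' of x' to Y
agreeing with h ∘ f on f⁻¹(U) ∩ V' (the pulled-back pseudo-morphism is defined at x'), then there is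
an S-morphism from an open neighbourhood V of x to Y agreeing with h on U ∩ V (the pseudo-morphism
is defined at x). -/
theorem result {X X' Y S : Scheme.{u}} (pX : X ⟶ S) (pY : Y ⟶ S)
    [IsSeparated pY] (U : X.Opens) (hU : CInt.IsSchematicallyDense U) (h : (U : Scheme.{u}) ⟶ Y)
    (hh : h ≫ pY = U.ι ≫ pX) (f : X' ⟶ X) [Flat f] [LocallyOfFinitePresentation f] (x' : ↥X')
    (V' : X'.Opens) (hx' : x' ∈ V') (v' : (V' : Scheme.{u}) ⟶ Y) (hv'S : v' ≫ pY = V'.ι ≫ f ≫ pX)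
    (hv' : X'.homOfLE (inf_le_right : f ⁻¹ᵁ U ⊓ V' ≤ V') ≫ v' =
      X'.homOfLE (inf_le_left : f ⁻¹ᵁ U ⊓ V' ≤ f ⁻¹ᵁ U) ≫ (f ∣_ U) ≫ h) :
    ∃ (V : X.Opens) (v : (V : Scheme.{u}) ⟶ Y), f x' ∈ V ∧ v ≫ pY = V.ι ≫ pX ∧
      X.homOfLE (inf_le_right : U ⊓ V ≤ V) ≫ v = X.homOfLE (inf_le_left : U ⊓ V ≤ U) ≫ h := by
  let W : X.Opens := ⟨f '' (V' : Set X'), f.isOpenMap _ V'.2⟩
  have hle : V' ≤ f ⁻¹ᵁ W := fun z hz => ⟨z, hz, rfl⟩
  obtain ⟨q, hq⟩ : ∃ q : (V' : Scheme.{u}) ⟶ (W : Scheme.{u}), q ≫ W.ι = V'.ι ≫ f :=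
    ⟨X'.homOfLE hle ≫ (f ∣_ W), by simp only [Category.assoc, morphismRestrict_ι, Scheme.homOfLE_ι_assoc]⟩
  haveI : Surjective q := ⟨by
    rintro ⟨_, z, hz, rfl⟩
    refine ⟨⟨z, hz⟩, Subtype.ext ?_⟩
    exact congrArg (fun t : (V' : Scheme.{u}) ⟶ X => t ⟨z, hz⟩) hq⟩
  haveI : Flat (f ∣_ W) := IsZariskiLocalAtTarget.restrict ‹_› W
  haveI : LocallyOfFinitePresentation (f ∣_ W) := IsZariskiLocalAtTarget.restrict ‹_› W
  have hq0 : q = X'.homOfLE hle ≫ (f ∣_ W) := by
    rw [← cancel_mono W.ι, hq]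
    simp only [Category.assoc, morphismRestrict_ι, Scheme.homOfLE_ι_assoc]
  haveI : Flat q := hq0 ▸ inferInstance
  haveI : LocallyOfFinitePresentation q := hq0 ▸ inferInstance
  have key : ∀ {Q : Scheme.{u}} (r : Q ⟶ (V' : Scheme.{u})) (s : Q ⟶ (U : Scheme.{u})),
      s ≫ U.ι = r ≫ V'.ι ≫ f → r ≫ v' = s ≫ h := by
    intro Q r s hs
    have hr : Set.range (r ≫ V'.ι) ⊆ Set.range ((f ⁻¹ᵁ U ⊓ V' : X'.Opens).ι) := by
      rw [Scheme.Opens.range_ι]
      rintro _ ⟨z, rfl⟩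
      refine ⟨?_, (r z).2⟩
      show f ((r ≫ V'.ι) z) ∈ U
      rw [← Scheme.Hom.comp_apply, Category.assoc, ← hs]
      exact (s z).2
    let t := IsOpenImmersion.lift (f ⁻¹ᵁ U ⊓ V' : X'.Opens).ι (r ≫ V'.ι) hr
    have ht : t ≫ (f ⁻¹ᵁ U ⊓ V' : X'.Opens).ι = r ≫ V'.ι := IsOpenImmersion.lift_fac _ _ hr
    have hr' : r = t ≫ X'.homOfLE inf_le_right := by
      rw [← cancel_mono V'.ι, Category.assoc, Scheme.homOfLE_ι, ht]
    rw [hr', Category.assoc, hv', ← Category.assoc, ← Category.assoc]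
    congr 1
    rw [← cancel_mono U.ι, hs, hr']
    simp only [Category.assoc, morphismRestrict_ι, Scheme.homOfLE_ι_assoc]
  have hW : CInt.IsSchematicallyDense (W.ι ⁻¹ᵁ U) := Groth.Agent.NeronMap.dense_preimage_ι hU W
  haveI : Flat (pullback.fst q q ≫ q) := inferInstance
  haveI : LocallyOfFinitePresentation (pullback.fst q q ≫ q) := inferInstance
  have hQ := Groth.Agent.S3843.result (pullback.fst q q ≫ q) (W.ι ⁻¹ᵁ U) hW
  have hab : pullback.fst q q ≫ v' = pullback.snd q q ≫ v' := by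
    refine Groth.Agent.NeronMap.eq_of_ι_comp_eq hQ pY _ _ ?_ ?_
    · simp only [Category.assoc, hv'S]
      rw [← reassoc_of% hq, ← Category.assoc, pullback.condition, Category.assoc]
    · have h1 : (((pullback.fst q q ≫ q) ∣_ (W.ι ⁻¹ᵁ U)) ≫ (W.ι ∣_ U)) ≫ U.ι =
          ((pullback.fst q q ≫ q) ⁻¹ᵁ (W.ι ⁻¹ᵁ U)).ι ≫ pullback.fst q q ≫ q ≫ W.ι := by
        rw [Category.assoc, morphismRestrict_ι, ← Category.assoc, morphismRestrict_ι, Category.assoc, Category.assoc]
      refine (Category.assoc _ _ _).symm.trans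
        ((key _ (((pullback.fst q q ≫ q) ∣_ (W.ι ⁻¹ᵁ U)) ≫ (W.ι ∣_ U)) ?_).trans
          ((key _ (((pullback.fst q q ≫ q) ∣_ (W.ι ⁻¹ᵁ U)) ≫ (W.ι ∣_ U)) ?_).symm.trans (Category.assoc _ _ _)))
      · rw [h1, ← hq, Category.assoc]
      · rw [h1, ← hq, pullback.condition_assoc, Category.assoc]
  let v := EffectiveEpi.desc q v' fun {Z} a b e => by
    have := congrArg (fun t => pullback.lift a b e ≫ t) hab
    exact (pullback.lift_fst_assoc a b e v').symm.trans (this.trans (pullback.lift_snd_assoc a b e v'))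
  have hv : q ≫ v = v' := EffectiveEpi.fac _ _ _
  refine ⟨W, v, ⟨x', hx', rfl⟩, ?_, ?_⟩
  · rw [← cancel_epi q, reassoc_of% hv, hv'S, reassoc_of% hq]
  · let m := X.homOfLE (inf_le_right : U ⊓ W ≤ W)
    rw [← cancel_epi (pullback.snd q m), ← Category.assoc, ← pullback.condition, Category.assoc, hv,
      key _ (pullback.snd q m ≫ X.homOfLE (inf_le_left : U ⊓ W ≤ U)) ?_, Category.assoc]
    rw [← hq, pullback.condition_assoc]
    simp only [m, Category.assoc, Scheme.homOfLE_ι]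

end Groth.Agent.S3835
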