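import Groth.Statements.S3836
import Groth.Agent.Lib.SectExtend.Basic
import Groth.Agent.Lib.ValCritRes.Basic
import Mathlib.RingTheory.ZariskisMainTheorem
import Mathlib.AlgebraicGeometry.Morphisms.QuasiFinite

set_option autoImplicit false
universe u
open CategoryTheory CategoryTheory.Limits AlgebraicGeometry TopologicalSpace
open Rat20

namespace Groth.Agent.S3836

open IsLocalRing Groth.Agent CategoryTheory.Limits

/-- Zariski's main theorem at one quasi-finite point, for a birational map to a normal local ring. -/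
theorem exists_hom_of_quasiFiniteAt {A T R K : Type u} [CommRing A] [CommRing T] [CommRing R]
    [IsLocalRing R] [IsDomain R] [IsIntegrallyClosed R] [Field K] [Algebra R K] [IsFractionRing R K]
    (ι : A →+* T) (hft : ι.FiniteType) (q : Ideal T) [q.IsPrime] (hq : ι.QuasiFiniteAt q)
    (κ : T →+* K) (hκ : Function.Injective κ) (ε : A →+* R) (hc : κ.comp ι = (algebraMap R K).comp ε)
    (hfrac : ∀ r, ∃ a s, IsUnit (ε s) ∧ r * ε s = ε a)
    (hcontr : ∀ a, ι a ∈ q ↔ ¬ IsUnit (ε a)) :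
    ∃ ψ : T →+* R, (∀ t, algebraMap R K (ψ t) = κ t) ∧ ∀ t, t ∈ q ↔ ¬ IsUnit (ψ t) := by
  have key : ∀ t r, κ t = algebraMap R K r → (t ∈ q ↔ ¬ IsUnit r) := by
    intro t r htr
    obtain ⟨a, s, hs, hrs⟩ := hfrac r
    have h1 : t * ι s = ι a := hκ <| by
      rw [map_mul, htr, ← RingHom.comp_apply κ, ← RingHom.comp_apply κ ι a, hc, RingHom.comp_apply,
        RingHom.comp_apply, ← map_mul, hrs]
    have hsq : ι s ∉ q := fun hm => (hcontr s).1 hm hs
    have h2 : t ∈ q ↔ ι a ∈ q := by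
      rw [← h1]
      exact ⟨fun hm => q.mul_mem_right _ hm, fun hm => (Ideal.IsPrime.mem_or_mem ‹_› hm).resolve_right hsq⟩
    rw [h2, hcontr a, ← hrs, IsUnit.mul_iff]
    simp [hs]
  have hmem : ∀ t, κ t ∈ (algebraMap R K).range := by
    algebraize [ι, ε]
    letI : Algebra A K := ((algebraMap R K).comp ε).toAlgebra
    haveI : IsScalarTower A R K := IsScalarTower.of_algebraMap_eq fun _ => rfl
    let κA : T →ₐ[A] K := { κ with commutes' := fun a => RingHom.congr_fun hc a }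
    haveI : Algebra.FiniteType A T := hft
    haveI : Algebra.QuasiFiniteAt A q := hq
    obtain ⟨r, hrq, hr, hx⟩ := Algebra.zariskisMainProperty_iff.1
      (Algebra.ZariskisMainProperty.of_finiteType (R := A) q)
    have hint : ∀ t, IsIntegral A t → ∃ r₀, algebraMap R K r₀ = κ t := fun t ht =>
      IsIntegrallyClosed.isIntegral_iff.1 (ht.map κA).tower_top
    obtain ⟨r₀, hr₀⟩ := hint r hr
    have hu : IsUnit r₀ := not_not.1 fun h => hrq ((key r r₀ hr₀.symm).2 h)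
    intro t
    obtain ⟨m, hm⟩ := hx t
    obtain ⟨c, hcm⟩ := hint _ hm
    obtain ⟨v, hv⟩ := (hu.pow m).exists_left_inv
    refine ⟨v * c, ?_⟩
    rw [map_mul, hcm, map_mul, map_pow, ← hr₀, ← map_pow, ← mul_assoc, ← map_mul, hv, map_one, one_mul]
  let er : R ≃+* (algebraMap R K).range :=
    RingEquiv.ofBijective _ ⟨fun a b hab => IsFractionRing.injective R K
      (congrArg Subtype.val hab), (algebraMap R K).rangeRestrict_surjective⟩
  let ψ : T →+* R := er.symm.toRingHom.comp (κ.codRestrict _ hmem)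
  have hψ : ∀ t, algebraMap R K (ψ t) = κ t := fun t =>
    congrArg Subtype.val (er.apply_symm_apply ⟨_, hmem t⟩)
  exact ⟨ψ, hψ, fun t => key t (ψ t) (hψ t).symm⟩

theorem pt_eq_bot {T : Type u} [CommRing T] [IsDomain T] {K : Type u} [Field K] (κ : T →+* K)
    (hκ : Function.Injective κ) :
    Spec.map (CommRingCat.ofHom κ) (closedPoint K) = ⟨⊥, Ideal.isPrime_bot⟩ := by
  apply PrimeSpectrum.ext
  show Ideal.comap κ (maximalIdeal K) = ⊥
  rw [IsLocalRing.isField_iff_maximalIdeal_eq.1 (Field.toIsField K), ← RingHom.ker_eq_comap_bot,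
    (RingHom.injective_iff_ker_eq_bot _).1 hκ]

/-- The extension on the local ring, through the closure of the graph. -/
theorem exists_stalk_extension {X P : Scheme.{u}} (pr : P ⟶ X) [LocallyOfFiniteType pr] (x : X)
    [IsDomain (X.presheaf.stalk x)] (hx : IsIntegrallyClosed (X.presheaf.stalk x))
    (ρP : Spec (CommRingCat.of (FractionRing (X.presheaf.stalk x))) ⟶ P)
    (hρ : ρP ≫ pr = WeilExt.genι x) (z : P) (hz : pr z = x)
    (hsp : ρP (closedPoint (FractionRing (X.presheaf.stalk x))) ⤳ z)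
    (O : P.Opens) (hzO : z ∈ O)
    (hiso : ∀ p ∈ O, ρP (closedPoint (FractionRing (X.presheaf.stalk x))) ⤳ p → pr p = x → p = z) :
    ∃ φ : Spec (X.presheaf.stalk x) ⟶ P, φ ≫ pr = X.fromSpecStalk x ∧
      Spec.map (CommRingCat.ofHom (algebraMap (X.presheaf.stalk x)
        (FractionRing (X.presheaf.stalk x)))) ≫ φ = ρP := by
  haveI := hx
  let K := FractionRing (X.presheaf.stalk x)
  obtain ⟨_, ⟨U₀, hU₀, rfl⟩, hxU₀, -⟩ :=
    X.isBasis_affineOpens.exists_subset_of_mem_open (Set.mem_univ x) isOpen_univ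
  revert U₀
  intro (U₀ : X.Opens) hU₀ hxU₀
  obtain ⟨_, ⟨W, hW, rfl⟩, hzW, hWle⟩ := P.isBasis_affineOpens.exists_subset_of_mem_open
    (show z ∈ (pr ⁻¹ᵁ U₀ ⊓ O : P.Opens) from ⟨show pr z ∈ U₀ from hz ▸ hxU₀, hzO⟩) (pr ⁻¹ᵁ U₀ ⊓ O).2
  revert W
  intro (W : P.Opens) hW hzW hWle
  have hζW : ρP (closedPoint K) ∈ W := hsp.mem_open W.2 hzW
  have hr : Set.range ρP ⊆ Set.range hW.fromSpec := by
    rw [hW.range_fromSpec]
    rintro _ ⟨p, rfl⟩
    rwa [Subsingleton.elim p (closedPoint K)]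
  let κ₀ : Γ(P, W) →+* K := (Spec.preimage (IsOpenImmersion.lift hW.fromSpec ρP hr)).hom
  have hκ₀ : Spec.map (CommRingCat.ofHom κ₀) ≫ hW.fromSpec = ρP :=
    (congrArg (· ≫ hW.fromSpec) (Spec.map_preimage _)).trans (IsOpenImmersion.lift_fac _ _ _)
  let T := κ₀.range
  let s₀ : Γ(P, W) ⟶ CommRingCat.of T := CommRingCat.ofHom κ₀.rangeRestrict
  haveI : IsClosedImmersion (Spec.map s₀) :=
    IsClosedImmersion.spec_of_surjective _ κ₀.rangeRestrict_surjective
  let iT : Spec (CommRingCat.of T) ⟶ P := Spec.map s₀ ≫ hW.fromSpec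
  let fT : Spec (CommRingCat.of T) ⟶ X := iT ≫ pr
  have hgen : Spec.map (CommRingCat.ofHom T.subtype) ≫ iT = ρP := by
    rw [← Category.assoc, ← Spec.map_comp]; exact hκ₀
  have hζ : ∀ p, ρP (closedPoint K) ⤳ iT p := by
    intro p
    rw [← hgen, Scheme.Hom.comp_apply, pt_eq_bot T.subtype Subtype.val_injective]
    exact ((PrimeSpectrum.le_iff_specializes _ p).1 bot_le).map iT.continuous
  -- the point over `z`
  obtain ⟨z₀, hz₀⟩ : z ∈ Set.range hW.fromSpec := by rw [hW.range_fromSpec]; exact hzW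
  have hzT : z₀ ∈ Set.range (Spec.map s₀) := by
    have h1 : Spec.map (CommRingCat.ofHom κ₀) (closedPoint K) ⤳ z₀ := by
      apply hW.fromSpec.isOpenEmbedding.isInducing.specializes_iff.1
      rw [hz₀, ← Scheme.Hom.comp_apply, hκ₀]
      exact hsp
    have h2 := (PrimeSpectrum.le_iff_specializes _ _).2 h1
    show z₀ ∈ Set.range (PrimeSpectrum.comap κ₀.rangeRestrict)
    rw [range_comap_of_surjective _ _ κ₀.rangeRestrict_surjective]
    refine (PrimeSpectrum.mem_zeroLocus z₀ _).2 ?_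
    intro a ha
    refine h2 ?_
    show κ₀ a ∈ maximalIdeal K
    rw [show κ₀ a = 0 from congrArg Subtype.val (RingHom.mem_ker.1 ha)]
    exact Ideal.zero_mem _
  obtain ⟨q, hq⟩ := hzT
  have hqz : iT q = z := by
    rw [show iT q = hW.fromSpec (Spec.map s₀ q) from rfl, hq, hz₀]
  have hqx : fT q = x := by rw [show fT q = pr (iT q) from rfl, hqz, hz]
  have hqf : fT.QuasiFiniteAt q := by
    rw [Scheme.Hom.quasiFiniteAt_iff_isOpen_singleton_asFiber]
    rw [← (fT.fiberHomeo (fT q)).isOpen_image, Set.image_singleton]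
    have e : fT.fiberHomeo (fT q) (fT.asFiber q) = ⟨q, rfl⟩ := (fT.fiberHomeo (fT q)).apply_symm_apply _
    rw [e]
    refine ⟨iT ⁻¹' (O : Set P), O.2.preimage iT.continuous, ?_⟩
    ext ⟨p, hp⟩
    simp only [Set.mem_preimage, Set.mem_singleton_iff, Subtype.mk.injEq]
    refine ⟨fun hpO => ?_, fun h => ?_⟩
    · have hp' : fT p = x := (Set.mem_singleton_iff.1 hp).trans hqx
      exact iT.isEmbedding.injective ((hiso _ hpO (hζ p) hp').trans hqz.symm)
    · subst h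
      show iT p ∈ O
      rw [hqz]; exact hzO
  -- the ring maps
  have hle : (⊤ : (Spec (CommRingCat.of T)).Opens) ≤ fT ⁻¹ᵁ U₀ := fun p _ => by
    show pr (iT p) ∈ U₀
    have : iT p ∈ W := hW.range_fromSpec.le ⟨_, rfl⟩
    exact (hWle this).1
  let hT := isAffineOpen_top (Spec (CommRingCat.of T))
  let e : CommRingCat.of T ⟶ Γ(Spec (CommRingCat.of T), ⊤) := (Scheme.ΓSpecIso (CommRingCat.of T)).inv
  have htop : hT.fromSpec = Spec.map e := by
    rw [IsAffineOpen.fromSpec_top, Scheme.isoSpec_Spec_inv]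
  let κ' : Γ(Spec (CommRingCat.of T), ⊤) →+* K := T.subtype.comp (Scheme.ΓSpecIso (CommRingCat.of T)).hom.hom
  have hκ' : ∀ t, κ' (e.hom t) = (t : K) := fun t => by
    have := congrArg (fun φ : CommRingCat.of T ⟶ CommRingCat.of T => φ.hom t) (Scheme.ΓSpecIso (CommRingCat.of T)).inv_hom_id
    exact congrArg Subtype.val this
  let q' := hT.primeIdealOf ⟨q, trivial⟩
  have hq' : ∀ t, e.hom t ∈ q'.asIdeal ↔ t ∈ q.asIdeal := fun t => by
    have h1 : hT.fromSpec q' = q := hT.fromSpec_primeIdealOf ⟨q, trivial⟩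
    rw [htop] at h1
    rw [← h1]
    rfl
  have hcompat : fT.appLE U₀ ⊤ hle ≫ CommRingCat.ofHom κ' =
      X.presheaf.germ U₀ x hxU₀ ≫ CommRingCat.ofHom (algebraMap (X.presheaf.stalk x) K) := by
    apply Spec.map_injective
    rw [← cancel_mono hU₀.fromSpec]
    simp only [Spec.map_comp, Category.assoc]
    rw [IsAffineOpen.SpecMap_appLE_fromSpec fT hU₀ hT hle]
    have e2 : Spec.map (X.presheaf.germ U₀ x hxU₀) ≫ hU₀.fromSpec = X.fromSpecStalk x := by
      rw [← IsAffineOpen.fromSpecStalk_eq_fromSpecStalk hU₀ hxU₀, IsAffineOpen.fromSpecStalk]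
    have e3 : Spec.map (CommRingCat.ofHom κ') ≫ hT.fromSpec = Spec.map (CommRingCat.ofHom T.subtype) := by
      rw [htop, ← Spec.map_comp]
      congr 1
      exact CommRingCat.hom_ext (RingHom.ext hκ')
    refine ((Category.assoc _ _ _).symm.trans (congrArg (· ≫ fT) e3)).trans ?_
    rw [e2]
    simp only [fT]
    rw [← Category.assoc, hgen, hρ]
    rfl
  letI : Algebra Γ(X, U₀) (X.presheaf.stalk x) := (X.presheaf.germ U₀ x hxU₀).hom.toAlgebra
  haveI : IsLocalization.AtPrime (X.presheaf.stalk x) (hU₀.primeIdealOf ⟨x, hxU₀⟩).asIdeal :=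
    hU₀.isLocalization_stalk ⟨x, hxU₀⟩
  have hx0 : Spec.map (fT.appLE U₀ ⊤ hle) q' = hU₀.primeIdealOf ⟨x, hxU₀⟩ := by
    apply hU₀.fromSpec.isOpenEmbedding.injective
    rw [hU₀.fromSpec_primeIdealOf, ← Scheme.Hom.comp_apply,
      IsAffineOpen.SpecMap_appLE_fromSpec fT hU₀ hT hle, Scheme.Hom.comp_apply, hT.fromSpec_primeIdealOf]
    exact hqx
  obtain ⟨ψ, hψ, hψq⟩ := exists_hom_of_quasiFiniteAt (fT.appLE U₀ ⊤ hle).hom
    (fT.finiteType_appLE hU₀ hT hle) q'.asIdeal (hqf.quasiFiniteAt hT hU₀ hle trivial) κ'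
    (fun a b hab => (Scheme.ΓSpecIso (CommRingCat.of T)).commRingCatIsoToRingEquiv.injective
      (Subtype.ext hab))
    (X.presheaf.germ U₀ x hxU₀).hom (congrArg CommRingCat.Hom.hom hcompat)
    (fun r => by
      obtain ⟨⟨a, s⟩, hs⟩ := IsLocalization.surj (hU₀.primeIdealOf ⟨x, hxU₀⟩).asIdeal.primeCompl r
      exact ⟨a, s.1, IsLocalization.map_units (X.presheaf.stalk x) s, hs⟩)
    (fun a => by
      refine Iff.trans ?_ (not_congr (IsLocalization.AtPrime.isUnit_to_map_iff (X.presheaf.stalk x)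
        (hU₀.primeIdealOf ⟨x, hxU₀⟩).asIdeal a).symm)
      rw [← hx0]
      exact not_not.symm)
  let ψW : Γ(P, W) →+* X.presheaf.stalk x := ψ.comp (e.hom.comp κ₀.rangeRestrict)
  have hψW : ∀ a, algebraMap (X.presheaf.stalk x) K (ψW a) = κ₀ a := fun a => (hψ _).trans (hκ' _)
  have hψWq : ∀ a, a ∈ z₀.asIdeal ↔ ¬ IsUnit (ψW a) := fun a => by
    refine Iff.trans ?_ ((hq' (κ₀.rangeRestrict a)).symm.trans (hψq _))
    rw [← hq]; rfl
  letI : Algebra Γ(P, W) (P.presheaf.stalk z) := (P.presheaf.germ W z hzW).hom.toAlgebra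
  have hpid : hW.primeIdealOf ⟨z, hzW⟩ = z₀ := hW.fromSpec.isOpenEmbedding.injective
    ((hW.fromSpec_primeIdealOf ⟨z, hzW⟩).trans hz₀.symm)
  haveI : IsLocalization.AtPrime (P.presheaf.stalk z) z₀.asIdeal := hpid ▸ hW.isLocalization_stalk ⟨z, hzW⟩
  let ψB : P.presheaf.stalk z →+* X.presheaf.stalk x :=
    IsLocalization.lift (M := z₀.asIdeal.primeCompl) (g := ψW) fun s =>
      not_not.1 fun h => s.2 ((hψWq _).2 h)
  have hψB : ∀ a, ψB (algebraMap Γ(P, W) _ a) = ψW a := fun a => IsLocalization.lift_eq _ a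
  haveI : IsLocalHom ψB := ⟨fun b hb => by
    obtain ⟨a, s, rfl⟩ := IsLocalization.exists_mk'_eq z₀.asIdeal.primeCompl b
    rw [IsLocalization.AtPrime.isUnit_mk'_iff]
    intro ha
    apply (hψWq a).1 ha
    have h1 := congrArg ψB (IsLocalization.mk'_spec (P.presheaf.stalk z) a s)
    rw [map_mul, hψB, hψB] at h1
    rw [← h1]
    exact hb.mul (not_not.1 fun h => s.2 ((hψWq _).2 h))⟩
  let φ : Spec (X.presheaf.stalk x) ⟶ P := Spec.map (CommRingCat.ofHom ψB) ≫ P.fromSpecStalk z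
  have hφgen : Spec.map (CommRingCat.ofHom (algebraMap (X.presheaf.stalk x) K)) ≫ φ = ρP := by
    rw [← hκ₀]
    simp only [φ]
    rw [← IsAffineOpen.fromSpecStalk_eq_fromSpecStalk hW hzW, IsAffineOpen.fromSpecStalk,
      ← Spec.map_comp_assoc, ← Spec.map_comp_assoc]
    congr 2
    refine CommRingCat.hom_ext (RingHom.ext fun a => ?_)
    show algebraMap (X.presheaf.stalk x) K (ψB (algebraMap Γ(P, W) _ a)) = κ₀ a
    rw [hψB, hψW]
  refine ⟨φ, ?_, hφgen⟩
  refine ValCritRes.hom_ext_of_injective (algebraMap (X.presheaf.stalk x) K)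
    (IsFractionRing.injective (X.presheaf.stalk x) K) _ _ ?_ ?_
  · show pr (P.fromSpecStalk z (Spec.map (CommRingCat.ofHom ψB) (closedPoint (X.presheaf.stalk x)))) =
      X.fromSpecStalk x (closedPoint (X.presheaf.stalk x))
    rw [ValCritRes.map_closedPoint ψB, Scheme.fromSpecStalk_closedPoint]
    exact hz.trans Scheme.fromSpecStalk_closedPoint.symm
  · rw [← Category.assoc, hφgen, hρ]
    rfl

/-- On an integral open subscheme, the image of the generic point specializes to every point. -/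
theorem gen_specializes {V X : Scheme.{u}} [IsIntegral V] (j : V ⟶ X) (q : V) :
    j (genericPoint V) ⤳ j q :=
  (genericPoint_specializes q).map j.continuous

/-- Basic facts at a point with an integral affine neighbourhood. -/
theorem exists_nhd {X : Scheme.{u}} (hX : ∀ y : ↥X, ∃ W : X.Opens, y ∈ W ∧ IsIntegral (W : Scheme.{u}))
    (x : X) : ∃ (U₀ : X.Opens) (_ : x ∈ U₀), IsIntegral (U₀ : Scheme.{u}) ∧ IsDomain (X.presheaf.stalk x) ∧
      X.IsGermInjectiveAt x := by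
  obtain ⟨W₀, hxW₀, hW₀⟩ := hX x
  haveI := hW₀
  refine ⟨W₀, hxW₀, hW₀, ?_, ?_⟩
  · exact MulEquiv.isDomain ((W₀ : Scheme.{u}).presheaf.stalk ⟨x, hxW₀⟩)
      (W₀.stalkIso ⟨x, hxW₀⟩).commRingCatIsoToRingEquiv.symm.toMulEquiv
  · have : X.IsGermInjectiveAt (W₀.ι ⟨x, hxW₀⟩) := inferInstance
    exact this

/-- Let X be a locally integral S-scheme, Y an S-scheme locally of finite type and separated over S, and
h : U → Y an S-morphism on a dense open subset (a rational S-map ω). Let Γ be the closure in X ×_S Y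
of the graph of h and p : Γ → X the projection. If x is a point of X whose local ring is integrally
closed and the fibre p⁻¹(x) contains an isolated point, then ω is defined at x: some S-morphism from
an open neighbourhood of x to Y agrees with h on U. -/
theorem result {X Y S : Scheme.{u}} (pX : X ⟶ S) (pY : Y ⟶ S)
    [LocallyOfFiniteType pY] [IsSeparated pY] (hX : ∀ y : ↥X, ∃ W : X.Opens, y ∈ W ∧ IsIntegral (W : Scheme.{u}))
    (U : X.Opens) (hU : Dense (U : Set ↥X)) (h : (U : Scheme.{u}) ⟶ Y) (hh : U.ι ≫ pX = h ≫ pY)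
    (x : ↥X) (hx : IsIntegrallyClosed (X.presheaf.stalk x))
    (z : ↥(pullback pX pY)) (hz : pullback.fst pX pY z = x)
    (hzΓ : z ∈ closure (Set.range (pullback.lift U.ι h hh)))
    (hiso : ∃ W : (pullback pX pY).Opens, (W : Set ↥(pullback pX pY)) ∩ closure (Set.range (pullback.lift U.ι h hh)) ∩
      (pullback.fst pX pY) ⁻¹' {x} = {z}) :
    ∃ (V : X.Opens) (v : (V : Scheme.{u}) ⟶ Y), x ∈ V ∧ v ≫ pY = V.ι ≫ pX ∧
      X.homOfLE (inf_le_right : U ⊓ V ≤ V) ≫ v = X.homOfLE (inf_le_left : U ⊓ V ≤ U) ≫ h := by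
  obtain ⟨U₀, hxU₀, hU₀i, hdom, hgi⟩ := exists_nhd hX x
  haveI := hU₀i
  haveI := hdom
  haveI := hgi
  let K := FractionRing (X.presheaf.stalk x)
  have hηU₀ : Groth.Agent.WeilExt.genOf x ∈ U₀ :=
    (Groth.Agent.SectExtend.genOf_specializes x).mem_open U₀.2 hxU₀
  have hη : ∀ p ∈ U₀, Groth.Agent.WeilExt.genOf x ⤳ p := fun p hp => by
    have h1 : U₀.ι (genericPoint (U₀ : Scheme.{u})) ⤳ Groth.Agent.WeilExt.genOf x :=
      gen_specializes U₀.ι (⟨_, hηU₀⟩ : ↥(U₀ : Scheme.{u}))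
    rw [← Groth.Agent.WeilExt.isMaxPt_genOf x _ h1]
    exact gen_specializes U₀.ι (⟨p, hp⟩ : ↥(U₀ : Scheme.{u}))
  have hηU : Groth.Agent.WeilExt.genOf x ∈ U := by
    obtain ⟨p, hp0, hpU⟩ := hU.inter_open_nonempty _ U₀.2 ⟨x, hxU₀⟩
    exact (hη p hp0).mem_open U.2 hpU
  let τ : Spec (CommRingCat.of K) ⟶ (U : Scheme.{u}) :=
    IsOpenImmersion.lift U.ι (Groth.Agent.WeilExt.genι x) (by
      rw [Scheme.Opens.range_ι]; rintro - ⟨v, rfl⟩
      rw [Groth.Agent.WeilExt.genι_apply]; exact hηU)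
  have hτ : τ ≫ U.ι = Groth.Agent.WeilExt.genι x := IsOpenImmersion.lift_fac _ _ _
  let γ := CategoryTheory.Limits.pullback.lift U.ι h hh
  have hsp : (τ ≫ γ) (IsLocalRing.closedPoint K) ⤳ z := by
    refine specializes_iff_mem_closure.2 ?_
    have h1 : z ∈ closure ((CategoryTheory.Limits.pullback.fst pX pY ⁻¹ᵁ U₀ : (CategoryTheory.Limits.pullback pX pY).Opens) ∩ Set.range γ) :=
      IsOpen.inter_closure ((CategoryTheory.Limits.pullback.fst pX pY) ⁻¹ᵁ U₀).2
        ⟨show CategoryTheory.Limits.pullback.fst pX pY z ∈ U₀ from hz ▸ hxU₀, hzΓ⟩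
    refine closure_minimal ?_ isClosed_closure h1
    rintro _ ⟨hp0, p, rfl⟩
    have hp : U.ι p ∈ U₀ := by
      have : CategoryTheory.Limits.pullback.fst pX pY (γ p) ∈ U₀ := hp0
      rwa [← Scheme.Hom.comp_apply, CategoryTheory.Limits.pullback.lift_fst] at this
    have hτp : τ (IsLocalRing.closedPoint K) ⤳ p := by
      apply U.ι.isOpenEmbedding.isInducing.specializes_iff.1
      rw [← Scheme.Hom.comp_apply, hτ, Groth.Agent.WeilExt.genι_apply]
      exact hη _ hp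
    exact specializes_iff_mem_closure.1 (hτp.map γ.continuous)
  obtain ⟨W, hW⟩ := hiso
  have hzW : z ∈ W := (hW.ge rfl).1.1
  obtain ⟨φ, hφpr, hφgen⟩ := exists_stalk_extension (CategoryTheory.Limits.pullback.fst pX pY) x hx (τ ≫ γ)
    (by rw [Category.assoc, CategoryTheory.Limits.pullback.lift_fst, hτ]) z hz hsp W hzW
    fun p hpW hζp hpx => hW.le ⟨⟨hpW, by
      refine closure_mono ?_ (specializes_iff_mem_closure.1 hζp)
      exact Set.singleton_subset_iff.2 ⟨τ (IsLocalRing.closedPoint K), rfl⟩⟩, hpx⟩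
  have hφY : (φ ≫ CategoryTheory.Limits.pullback.snd pX pY) ≫ pY = X.fromSpecStalk x ≫ pX := by
    rw [Category.assoc, ← CategoryTheory.Limits.pullback.condition, reassoc_of% hφpr]
  obtain ⟨U₁, hxU₁, t, ht, htq⟩ := spread_out_of_isGermInjective' pX pY
    (φ ≫ CategoryTheory.Limits.pullback.snd pX pY) (x := x) hφY
  refine ⟨U₁ ⊓ U₀, X.homOfLE inf_le_left ≫ t, ⟨hxU₁, hxU₀⟩,
    by rw [Category.assoc, htq, Scheme.homOfLE_ι_assoc], ?_⟩
  have hgen : Groth.Agent.WeilExt.genOf x ∈ U ⊓ (U₁ ⊓ U₀) :=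
    ⟨hηU, (Groth.Agent.SectExtend.genOf_specializes x).mem_open U₁.2 hxU₁, hηU₀⟩
  haveI : Nonempty ((U ⊓ (U₁ ⊓ U₀) : X.Opens) : Scheme.{u}) := ⟨⟨_, hgen⟩⟩
  haveI : IsIntegral ((U ⊓ (U₁ ⊓ U₀) : X.Opens) : Scheme.{u}) :=
    isIntegral_of_isOpenImmersion (X.homOfLE (inf_le_right.trans inf_le_right : U ⊓ (U₁ ⊓ U₀) ≤ U₀))
  let c : Spec (CommRingCat.of K) ⟶ ((U ⊓ (U₁ ⊓ U₀) : X.Opens) : Scheme.{u}) :=
    IsOpenImmersion.lift (U ⊓ (U₁ ⊓ U₀)).ι (Groth.Agent.WeilExt.genι x) (by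
      rw [Scheme.Opens.range_ι]; rintro - ⟨v, rfl⟩
      rw [Groth.Agent.WeilExt.genι_apply]; exact hgen)
  have hc : c ≫ (U ⊓ (U₁ ⊓ U₀)).ι = Groth.Agent.WeilExt.genι x := IsOpenImmersion.lift_fac _ _ _
  haveI : IsDominant c := Groth.Agent.SectExtend.isDominant_of_isMaxPt (U ⊓ (U₁ ⊓ U₀)).ι c (by
    rw [← Scheme.Hom.comp_apply, hc, Groth.Agent.WeilExt.genι_apply]
    exact Groth.Agent.WeilExt.isMaxPt_genOf x)
  refine ext_of_isDominant_of_isSeparated pY ?_ c ?_
  · simp only [Category.assoc, htq, ← hh, Scheme.homOfLE_ι_assoc]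
  · have e1 : c ≫ X.homOfLE (inf_le_left : U ⊓ (U₁ ⊓ U₀) ≤ U) = τ := by
      rw [← cancel_mono U.ι, Category.assoc, Scheme.homOfLE_ι, hc, hτ]
    have e2 : c ≫ X.homOfLE (inf_le_right : U ⊓ (U₁ ⊓ U₀) ≤ U₁ ⊓ U₀) ≫ X.homOfLE inf_le_left =
        Spec.map (CommRingCat.ofHom (algebraMap (X.presheaf.stalk x) K)) ≫ U₁.fromSpecStalkOfMem x hxU₁ := by
      rw [← cancel_mono U₁.ι]
      simp only [Category.assoc, Scheme.homOfLE_ι, Scheme.Opens.fromSpecStalkOfMem_ι]
      exact hc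
    rw [reassoc_of% e1, reassoc_of% e2, ← ht, reassoc_of% hφgen, CategoryTheory.Limits.pullback.lift_snd]

end Groth.Agent.S3836
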