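import Groth.Statements.S3837
import Groth.Agent.S3836

set_option autoImplicit false
universe u
open CategoryTheory CategoryTheory.Limits AlgebraicGeometry TopologicalSpace
open Rat20

namespace Groth.Agent.S3837

/-- The part over `V'` of the preimage of the closure of the graph is the graph of `v'`. -/
theorem eq_graph {X X' Y S : Scheme.{u}} (pX : X ⟶ S) (pY : Y ⟶ S) [IsSeparated pY]
    (U : X.Opens) (h : (U : Scheme.{u}) ⟶ Y) (hh : U.ι ≫ pX = h ≫ pY)
    (f : X' ⟶ X) [UniversallyOpen f] (V' : X'.Opens) (v' : (V' : Scheme.{u}) ⟶ Y)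
    (hv' : (V'.ι ≫ f) ≫ pX = v' ≫ pY)
    (hag : X'.homOfLE (inf_le_right : f ⁻¹ᵁ U ⊓ V' ≤ V') ≫ v' =
      X'.homOfLE (inf_le_left : f ⁻¹ᵁ U ⊓ V' ≤ f ⁻¹ᵁ U) ≫ (f ∣_ U) ≫ h)
    (p : V') (z : ↥(pullback pX pY)) (hz : pullback.fst pX pY z = f (V'.ι p))
    (hzΓ : z ∈ closure (Set.range (pullback.lift U.ι h hh))) :
    z = pullback.lift (V'.ι ≫ f) v' hv' p := by
  let γ := pullback.lift U.ι h hh
  let gV := pullback.lift (V'.ι ≫ f) v' hv'
  let fP := pullback.fst pX pY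
  obtain ⟨w, hw1, hw2⟩ := Scheme.Pullback.exists_preimage_pullback (f := f) (g := fP) (V'.ι p) z hz.symm
  let σ : (V' : Scheme.{u}) ⟶ pullback f fP := pullback.lift V'.ι gV (by
      simp only [gV, fP, pullback.lift_fst])
  let A : Set ↥(pullback f fP) := (pullback.snd f fP) ⁻¹' Set.range γ
  let PV : (pullback f fP).Opens := pullback.fst f fP ⁻¹ᵁ V'
  have hA : (PV : Set ↥(pullback f fP)) ∩ A ⊆ Set.range σ := by
    rintro a ⟨ha, haA⟩
    have haA' : a ∈ Set.range (pullback.fst (pullback.snd f fP) γ) := by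
      rw [Scheme.Pullback.range_fst]; exact haA
    obtain ⟨c, rfl⟩ := haA'
    let Q := pullback (pullback.snd f fP) γ
    let i : (((pullback.fst (pullback.snd f fP) γ) ⁻¹ᵁ PV : Q.Opens) : Scheme.{u}) ⟶ Q :=
      ((pullback.fst (pullback.snd f fP) γ) ⁻¹ᵁ PV).ι
    let q1 := i ≫ pullback.fst (pullback.snd f fP) γ
    let qu := i ≫ pullback.snd (pullback.snd f fP) γ
    have hq : q1 ≫ pullback.snd f fP = qu ≫ γ := by simp [q1, qu, pullback.condition]
    have hqx : (q1 ≫ pullback.fst f fP) ≫ f = qu ≫ U.ι := by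
      rw [Category.assoc, pullback.condition, reassoc_of% hq]
      simp only [γ, fP, pullback.lift_fst]
    have hr : Set.range (q1 ≫ pullback.fst f fP) ⊆ Set.range (f ⁻¹ᵁ U ⊓ V').ι := by
      rw [Scheme.Opens.range_ι]
      rintro _ ⟨t, rfl⟩
      refine ⟨show f ((q1 ≫ pullback.fst f fP) t) ∈ U from ?_, t.2⟩
      rw [← Scheme.Hom.comp_apply, hqx]
      exact Subtype.coe_prop (qu t)
    let b := IsOpenImmersion.lift (f ⁻¹ᵁ U ⊓ V').ι (q1 ≫ pullback.fst f fP) hr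
    have hb : b ≫ (f ⁻¹ᵁ U ⊓ V').ι = q1 ≫ pullback.fst f fP := IsOpenImmersion.lift_fac _ _ _
    have hbu : b ≫ X'.homOfLE (inf_le_left : f ⁻¹ᵁ U ⊓ V' ≤ f ⁻¹ᵁ U) ≫ (f ∣_ U) = qu := by
      rw [← cancel_mono U.ι, Category.assoc, Category.assoc, morphismRestrict_ι,
        Scheme.homOfLE_ι_assoc, reassoc_of% hb]
      simpa using hqx
    have hσ : q1 = b ≫ X'.homOfLE (inf_le_right : f ⁻¹ᵁ U ⊓ V' ≤ V') ≫ σ := by
      apply pullback.hom_ext
      · simp only [σ, Category.assoc, pullback.lift_fst, Scheme.homOfLE_ι, hb]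
      · rw [hq]
        apply pullback.hom_ext
        · simp only [γ, σ, gV, Category.assoc, pullback.lift_fst, pullback.lift_snd, pullback.lift_snd_assoc,
            Scheme.homOfLE_ι_assoc]
          rw [reassoc_of% hb]
          simpa using hqx.symm
        · simp only [γ, σ, gV, Category.assoc, pullback.lift_snd, pullback.lift_snd_assoc]
          rw [hag, reassoc_of% hbu]
    exact ⟨_, (congrArg (fun φ => φ (⟨c, ha⟩ :
      (((pullback.fst (pullback.snd f fP) γ) ⁻¹ᵁ PV : Q.Opens) : Scheme.{u}))) hσ).symm⟩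
  have hwV : w ∈ PV := show pullback.fst f fP w ∈ V' from hw1 ▸ p.2
  have hwA : w ∈ closure A :=
    (pullback.snd f fP).isOpenMap.preimage_closure_subset_closure_preimage
      (show pullback.snd f fP w ∈ closure (Set.range γ) from hw2.symm ▸ hzΓ)
  have hwσ : w ∈ closure (Set.range σ) :=
    closure_mono hA (IsOpen.inter_closure PV.2 ⟨hwV, hwA⟩)
  -- the graph is closed in the part over `V'`
  let σ' : (V' : Scheme.{u}) ⟶ (PV : Scheme.{u}) := IsOpenImmersion.lift PV.ι σ (by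
    rw [Scheme.Opens.range_ι]
    rintro _ ⟨t, rfl⟩
    show pullback.fst f fP (σ t) ∈ V'
    rw [← Scheme.Hom.comp_apply]
    simp only [σ, pullback.lift_fst]
    exact t.2)
  have hσ' : σ' ≫ PV.ι = σ := IsOpenImmersion.lift_fac _ _ _
  have hid : σ' ≫ (pullback.fst f fP ∣_ V') = 𝟙 _ := by
    rw [← cancel_mono V'.ι, Category.assoc, morphismRestrict_ι, reassoc_of% hσ']
    simp only [σ, pullback.lift_fst, Category.id_comp]
  haveI : IsSeparated (pullback.fst f fP ∣_ V') :=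
    IsZariskiLocalAtTarget.restrict (P := @IsSeparated) inferInstance _
  haveI : IsClosedImmersion (σ' ≫ (pullback.fst f fP ∣_ V')) := by rw [hid]; infer_instance
  haveI : IsClosedImmersion σ' := IsClosedImmersion.of_comp σ' (pullback.fst f fP ∣_ V')
  have hw' : (⟨w, hwV⟩ : (PV : Scheme.{u})) ∈ closure (Set.range σ') := by
    rw [PV.ι.isOpenEmbedding.isInducing.closure_eq_preimage_closure_image, ← Set.range_comp]
    show w ∈ closure _
    rw [show (PV.ι ∘ σ') = ⇑σ from funext fun t => by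
      rw [Function.comp_apply, ← Scheme.Hom.comp_apply, hσ']]
    exact hwσ
  obtain ⟨t, ht⟩ := σ'.isClosedEmbedding.isClosed_range.closure_eq ▸ hw'
  have hwt : σ t = w := by rw [← hσ', Scheme.Hom.comp_apply, ht]; rfl
  have htp : t = p := by
    apply V'.ι.isOpenEmbedding.injective
    rw [← hw1, ← hwt, ← Scheme.Hom.comp_apply, show σ ≫ pullback.fst f fP = V'.ι from pullback.lift_fst _ _ _]
  rw [← hw2, ← hwt, htp, ← Scheme.Hom.comp_apply]
  simp only [σ, pullback.lift_snd]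
  rfl

/-- Let X be a normal S-scheme (locally integral with integrally closed local rings), Y an S-scheme
locally of finite type and separated over S, h : U → Y an S-morphism on a dense open subset (a
rational S-map ω), and f : X' → X a morphism locally of finite type and universally open with X'
reduced, so that f⁻¹(U) is dense and ω ∘ f is defined. Then for x' in X' with image x, ω is defined
at x if and only if ω ∘ f is defined at x': some S-morphism on an open neighbourhood of x agrees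
with h on U if and only if some S-morphism on an open neighbourhood of x' agrees with h ∘ f on the
preimage of U. -/
theorem result {X X' Y S : Scheme.{u}} (pX : X ⟶ S) (pY : Y ⟶ S)
    [LocallyOfFiniteType pY] [IsSeparated pY] (hX : ∀ y : ↥X, ∃ W : X.Opens, y ∈ W ∧ IsIntegral (W : Scheme.{u}))
    (hXn : ∀ y : ↥X, IsIntegrallyClosed (X.presheaf.stalk y))
    (U : X.Opens) (hU : Dense (U : Set ↥X)) (h : (U : Scheme.{u}) ⟶ Y) (hh : h ≫ pY = U.ι ≫ pX)
    (f : X' ⟶ X) [LocallyOfFiniteType f] [UniversallyOpen f] [IsReduced X'] (x' : ↥X') :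
    (∃ (V : X.Opens) (v : (V : Scheme.{u}) ⟶ Y), f x' ∈ V ∧ v ≫ pY = V.ι ≫ pX ∧
        X.homOfLE (inf_le_right : U ⊓ V ≤ V) ≫ v = X.homOfLE (inf_le_left : U ⊓ V ≤ U) ≫ h) ↔
      ∃ (V' : X'.Opens) (v' : (V' : Scheme.{u}) ⟶ Y), x' ∈ V' ∧ v' ≫ pY = V'.ι ≫ f ≫ pX ∧
        X'.homOfLE (inf_le_right : f ⁻¹ᵁ U ⊓ V' ≤ V') ≫ v' =
          X'.homOfLE (inf_le_left : f ⁻¹ᵁ U ⊓ V' ≤ f ⁻¹ᵁ U) ≫ (f ∣_ U) ≫ h := by
  have hh' : U.ι ≫ pX = h ≫ pY := hh.symm
  constructor
  · rintro ⟨V, v, hx, hv, hag⟩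
    refine ⟨f ⁻¹ᵁ V, (f ∣_ V) ≫ v, hx, ?_, ?_⟩
    · rw [Category.assoc, hv, morphismRestrict_ι_assoc]
    · let b : ((f ⁻¹ᵁ U ⊓ f ⁻¹ᵁ V : X'.Opens) : Scheme.{u}) ⟶ ((U ⊓ V : X.Opens) : Scheme.{u}) :=
        IsOpenImmersion.lift (U ⊓ V).ι ((f ⁻¹ᵁ U ⊓ f ⁻¹ᵁ V).ι ≫ f) (by
          rw [Scheme.Opens.range_ι]; rintro _ ⟨t, rfl⟩; exact t.2)
      have hb : b ≫ (U ⊓ V).ι = (f ⁻¹ᵁ U ⊓ f ⁻¹ᵁ V).ι ≫ f := IsOpenImmersion.lift_fac _ _ _
      have e1 : X'.homOfLE (inf_le_right : f ⁻¹ᵁ U ⊓ f ⁻¹ᵁ V ≤ f ⁻¹ᵁ V) ≫ (f ∣_ V) =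
          b ≫ X.homOfLE (inf_le_right : U ⊓ V ≤ V) := by
        rw [← cancel_mono V.ι, Category.assoc, morphismRestrict_ι, Scheme.homOfLE_ι_assoc,
          Category.assoc, Scheme.homOfLE_ι, hb]
      have e2 : X'.homOfLE (inf_le_left : f ⁻¹ᵁ U ⊓ f ⁻¹ᵁ V ≤ f ⁻¹ᵁ U) ≫ (f ∣_ U) =
          b ≫ X.homOfLE (inf_le_left : U ⊓ V ≤ U) := by
        rw [← cancel_mono U.ι, Category.assoc, morphismRestrict_ι, Scheme.homOfLE_ι_assoc,
          Category.assoc, Scheme.homOfLE_ι, hb]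
      rw [reassoc_of% e1, hag, reassoc_of% e2]
  · rintro ⟨V', v', hx', hv', hag⟩
    have hv'' : (V'.ι ≫ f) ≫ pX = v' ≫ pY := by rw [Category.assoc, hv']
    let gV := CategoryTheory.Limits.pullback.lift (V'.ι ≫ f) v' hv''
    let p₀ : V' := ⟨x', hx'⟩
    have hz₀ : CategoryTheory.Limits.pullback.fst pX pY (gV p₀) = f x' := by
      rw [← Scheme.Hom.comp_apply, show gV ≫ CategoryTheory.Limits.pullback.fst pX pY = V'.ι ≫ f from
        CategoryTheory.Limits.pullback.lift_fst _ _ _]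
      rfl
    have hzΓ : gV p₀ ∈ closure (Set.range (CategoryTheory.Limits.pullback.lift U.ι h hh')) := by
      have hd : p₀ ∈ closure (V'.ι ⁻¹' (f ⁻¹' (U : Set X))) :=
        ((hU.preimage f.isOpenMap).preimage V'.ι.isOpenEmbedding.isOpenMap) p₀
      refine closure_mono ?_ (image_closure_subset_closure_image gV.continuous ⟨p₀, hd, rfl⟩)
      rintro _ ⟨t, ht, rfl⟩
      refine ⟨(X'.homOfLE (inf_le_left : f ⁻¹ᵁ U ⊓ V' ≤ f ⁻¹ᵁ U) ≫ (f ∣_ U)) ⟨t.1, ht, t.2⟩, ?_⟩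
      have e : X'.homOfLE (inf_le_right : f ⁻¹ᵁ U ⊓ V' ≤ V') ≫ gV =
          X'.homOfLE (inf_le_left : f ⁻¹ᵁ U ⊓ V' ≤ f ⁻¹ᵁ U) ≫ (f ∣_ U) ≫
            CategoryTheory.Limits.pullback.lift U.ι h hh' := by
        apply CategoryTheory.Limits.pullback.hom_ext
        · simp only [gV, Category.assoc, CategoryTheory.Limits.pullback.lift_fst, morphismRestrict_ι,
            Scheme.homOfLE_ι_assoc]
        · simpa only [gV, Category.assoc, CategoryTheory.Limits.pullback.lift_snd] using hag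
      rw [← Scheme.Hom.comp_apply, Category.assoc, ← e, Scheme.Hom.comp_apply]
      congr 1
      apply V'.ι.isOpenEmbedding.injective
      rw [← Scheme.Hom.comp_apply, Scheme.homOfLE_ι]
      rfl
    obtain ⟨V, v, hx, hv, hagv⟩ := Groth.Agent.S3836.result pX pY hX U hU h hh' (f x') (hXn _) (gV p₀) hz₀ hzΓ
      ⟨⊤, Set.eq_singleton_iff_unique_mem.2 ⟨⟨⟨trivial, hzΓ⟩, hz₀⟩, fun z hz =>
        eq_graph pX pY U h hh' f V' v' hv'' hag p₀ z hz.2 hz.1.2⟩⟩
    exact ⟨V, v, hx, hv, hagv⟩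

end Groth.Agent.S3837
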