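import Groth.Statements.S3840
import Groth.Agent.Lib.DescTriv11.Main

set_option autoImplicit false
universe u
open CategoryTheory CategoryTheory.Limits AlgebraicGeometry TopologicalSpace
open Div21

namespace Groth.Agent.S3840

/-- Let f : X → Y be a faithfully flat morphism between locally Noetherian schemes, with f quasi-compact
or open; assume Y is normal and that the fibre X_y is integral whenever y is a point of Y whose
local ring has dimension 1. If L is an invertible O_X-module whose restriction to X_η is isomorphic
to O_{X_η} for each maximal point η of Y, then L ≅ f^*(M) for some invertible O_Y-module M. -/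
theorem result {X Y : Scheme.{u}} [IsLocallyNoetherian X]
    [IsLocallyNoetherian Y] (f : X ⟶ Y) [Flat f] [Surjective f] (hf : QuasiCompact f ∨ IsOpenMap f)
    (hY : Pi1.IsNormalScheme Y)
    (hfib : ∀ y : ↥Y, ringKrullDim ↑(Y.presheaf.stalk y) = 1 → IsIntegral (f.fiber y))
    (L : X.Modules) (hL : PicF.IsInvertible L)
    (htriv : ∀ η : ↥Y, (∀ z : ↥Y, z ⤳ η → z = η) →
      Nonempty ((Scheme.Modules.pullback (f.fiberι η)).obj L ≅ Coh.structureModule (f.fiber η))) :
    ∃ M : Y.Modules, PicF.IsInvertible M ∧ Nonempty ((Scheme.Modules.pullback f).obj M ≅ L) := by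
  classical
  have θ : Groth.Agent.DescTriv11.Theta f L := fun η hη => (htriv η hη).some
  exact Groth.Agent.DescTriv11.exists_descent f hY hf hfib hL θ

end Groth.Agent.S3840
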