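import Groth.Statements.S3842
import Mathlib

set_option autoImplicit false
universe u
open CategoryTheory CategoryTheory.Limits AlgebraicGeometry TopologicalSpace
open Rat20

namespace Groth.Agent.S3842

/-- For the open subset U = X; the general case is the same statement over the open subscheme U: let f :
X' → X be a morphism of schemes with X' reduced, suppose the irreducible components of X form a
locally finite family and that every irreducible component of X' dominates an irreducible component
of X (the closure of its image is an irreducible component of X). Then for every schematically dense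
open subset V of X, the preimage f⁻¹(V) is schematically dense in X'. -/
theorem result {X X' : Scheme.{u}} (f : X' ⟶ X) [IsReduced X']
    (hfin : ∀ x : ↥X, ∃ W : X.Opens, x ∈ W ∧ {Z ∈ irreducibleComponents ↥X | (Z ∩ (W : Set ↥X)).Nonempty}.Finite)
    (hdom : ∀ Z' ∈ irreducibleComponents ↥X', closure (f '' Z') ∈ irreducibleComponents ↥X)
    (V : X.Opens) (hV : CInt.IsSchematicallyDense V) : CInt.IsSchematicallyDense (f ⁻¹ᵁ V) := by
  have hdense : ∀ O : X.Opens, (O : Set X).Nonempty → ((O : Set X) ∩ V).Nonempty := by
    intro O hO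
    by_contra hc
    obtain ⟨x, hx⟩ := hO
    have hbot : O ⊓ V = ⊥ := TopologicalSpace.Opens.ext (Set.not_nonempty_iff_eq_empty.1 hc)
    haveI : Subsingleton Γ(X, O ⊓ V) := by rw [hbot]; infer_instance
    have h1 : (1 : Γ(X, O)) = 0 := hV O (Subsingleton.elim _ _)
    have := congrArg (X.presheaf.germ O x hx) h1
    rw [map_one, map_zero] at this
    exact one_ne_zero this
  have hgen : ∀ x' : X', closure {x'} ∈ irreducibleComponents X' → f x' ∈ V := by
    intro x' hx'
    have hC := hdom _ hx'
    have hC' : closure (f '' closure {x'}) = closure {f x'} := by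
      refine subset_antisymm (closure_minimal ?_ isClosed_closure) (closure_mono ?_)
      · refine (image_closure_subset_closure_image f.continuous).trans ?_
        rw [Set.image_singleton]
      · rw [← Set.image_singleton]
        exact Set.image_mono subset_closure
    rw [hC'] at hC
    obtain ⟨W, hxW, hW⟩ := hfin (f x')
    let others := {Z ∈ irreducibleComponents X | (Z ∩ (W : Set X)).Nonempty} \ {closure {f x'}}
    have hcl : IsClosed (⋃ Z ∈ others, Z) :=
      (hW.subset Set.sdiff_subset).isClosed_biUnion fun Z hZ => isClosed_of_mem_irreducibleComponents Z hZ.1.1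
    let O : X.Opens := ⟨(W : Set X) ∩ (⋃ Z ∈ others, Z)ᶜ, W.2.inter hcl.isOpen_compl⟩
    have hxO : f x' ∈ O := by
      refine ⟨hxW, fun h => ?_⟩
      obtain ⟨Z, hZ, hxZ⟩ := Set.mem_iUnion₂.1 h
      have hle : closure {f x'} ⊆ Z :=
        closure_minimal (Set.singleton_subset_iff.2 hxZ) (isClosed_of_mem_irreducibleComponents Z hZ.1.1)
      exact hZ.2 ((hC.2 hZ.1.1.1 hle).antisymm hle)
    obtain ⟨z, hzO, hzV⟩ := hdense O ⟨_, hxO⟩
    have hzC : z ∈ closure {f x'} := by
      by_contra hz
      refine hzO.2 (Set.mem_iUnion₂.2 ⟨irreducibleComponent z,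
        ⟨⟨irreducibleComponent_mem_irreducibleComponents z, ⟨z, mem_irreducibleComponent, hzO.1⟩⟩, fun e => ?_⟩,
        mem_irreducibleComponent⟩)
      exact hz (e ▸ mem_irreducibleComponent)
    exact (specializes_iff_mem_closure.2 hzC).mem_open V.2 hzV
  intro W
  refine (injective_iff_map_eq_zero _).2 fun t ht => ?_
  apply (basicOpen_eq_bot_iff t).1
  rw [eq_bot_iff]
  intro z hz
  have hcomp := irreducibleComponent_mem_irreducibleComponents z
  haveI : QuasiSober X' := inferInstance
  obtain ⟨ξ, hξ⟩ := QuasiSober.sober hcomp.1 (isClosed_of_mem_irreducibleComponents _ hcomp)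
  have hξV : ξ ∈ f ⁻¹ᵁ V := hgen ξ (by rw [hξ]; exact hcomp)
  have hξb : ξ ∈ X'.basicOpen t :=
    (specializes_iff_mem_closure.2 (hξ.symm ▸ mem_irreducibleComponent : z ∈ closure {ξ})).mem_open
      (X'.basicOpen t).2 hz
  have : ξ ∈ X'.basicOpen (X'.presheaf.map (homOfLE (inf_le_left : W ⊓ f ⁻¹ᵁ V ≤ W)).op t) := by
    rw [Scheme.basicOpen_res]
    exact ⟨⟨X'.basicOpen_le t hξb, hξV⟩, hξb⟩
  rw [ht, Scheme.basicOpen_zero] at this
  exact this

end Groth.Agent.S3842
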