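import Groth.Statements.S3845
import Mathlib.AlgebraicGeometry.Morphisms.FormallyUnramified

set_option autoImplicit false
universe u
open CategoryTheory CategoryTheory.Limits AlgebraicGeometry TopologicalSpace
open Unram17

namespace Groth.Agent.S3845

/-- a) iff b): let f : X → Y be locally of finite presentation and x a point of X. Then f is unramified
on some open neighbourhood of x if and only if the diagonal X → X ×_Y X is a local isomorphism at x
(its restriction to some open neighbourhood of x is an open immersion). -/
theorem result {X Y : Scheme.{u}} (f : X ⟶ Y)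
    [LocallyOfFinitePresentation f] (x : ↥X) :
    (∃ U : X.Opens, x ∈ U ∧ FormallyUnramified (U.ι ≫ f)) ↔
      SchLoc.IsLocalIsoAt (pullback.diagonal f) x := by
  constructor
  · rintro ⟨U, hxU, hU⟩
    refine ⟨U, hxU, ?_⟩
    let m := pullback.map (U.ι ≫ f) (U.ι ≫ f) f f U.ι U.ι (𝟙 Y) (Category.comp_id _) (Category.comp_id _)
    have hm : pullback.diagonal (U.ι ≫ f) ≫ m = U.ι ≫ pullback.diagonal f := by
      apply pullback.hom_ext <;> simp only [m, Category.assoc, pullback.lift_fst, pullback.lift_snd,
        pullback.diagonal_fst, pullback.diagonal_snd, pullback.diagonal_fst_assoc, pullback.diagonal_snd_assoc, Category.comp_id]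
    rw [← hm]
    infer_instance
  · rintro ⟨U, hxU, hU⟩
    refine ⟨U, hxU, ?_⟩
    let m := pullback.map (U.ι ≫ f) (U.ι ≫ f) f f U.ι U.ι (𝟙 Y) (Category.comp_id _) (Category.comp_id _)
    have hm : pullback.diagonal (U.ι ≫ f) ≫ m = U.ι ≫ pullback.diagonal f := by
      apply pullback.hom_ext <;> simp only [m, Category.assoc, pullback.lift_fst, pullback.lift_snd,
        pullback.diagonal_fst, pullback.diagonal_snd, pullback.diagonal_fst_assoc, pullback.diagonal_snd_assoc, Category.comp_id]
    haveI : IsOpenImmersion (pullback.diagonal (U.ι ≫ f) ≫ m) := hm ▸ hU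
    haveI : IsOpenImmersion (pullback.diagonal (U.ι ≫ f)) := IsOpenImmersion.of_comp _ m
    infer_instance

end Groth.Agent.S3845
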