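import Groth.Statements.S3846
import Mathlib.AlgebraicGeometry.Morphisms.FormallyUnramified

set_option autoImplicit false
universe u
open CategoryTheory CategoryTheory.Limits AlgebraicGeometry TopologicalSpace
open Unram17

namespace Groth.Agent.S3846

theorem isOpenImmersion_of_comp {X Y Z : Scheme.{u}} (t : X ⟶ Y) (q : Y ⟶ Z) [IsOpenImmersion (t ≫ q)]
    [IsOpenImmersion (pullback.diagonal q)] : IsOpenImmersion t := by
  have h : MorphismProperty.HasOfPostcompProperty @IsOpenImmersion (MorphismProperty.diagonal @IsOpenImmersion) :=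
    MorphismProperty.hasOfPostcompProperty_iff_le_diagonal.mpr le_rfl
  exact h.of_postcomp t q (inferInstanceAs (IsOpenImmersion (pullback.diagonal q))) inferInstance

/-- a) iff b''): let f : X → Y be locally of finite presentation and x a point of X. Then f is
unramified on some open neighbourhood of x if and only if, for every base change g : Y' → Y and
every section s' of X ×_Y Y' → Y', s' is a local isomorphism at every point y' of Y' such that
s'(y') lies over x. -/
theorem result {X Y : Scheme.{u}} (f : X ⟶ Y) [LocallyOfFinitePresentation f]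
    (x : ↥X) :
    (∃ U : X.Opens, x ∈ U ∧ FormallyUnramified (U.ι ≫ f)) ↔
      ∀ (Y' : Scheme.{u}) (g : Y' ⟶ Y) (s' : Y' ⟶ pullback f g), s' ≫ pullback.snd f g = 𝟙 Y' →
        ∀ y' : ↥Y', pullback.fst f g (s' y') = x → SchLoc.IsLocalIsoAt s' y' := by
  constructor
  · rintro ⟨U, hxU, hU⟩ Y' g s' hs' y' hy'
    let p := pullback.fst f g
    let W : Y'.Opens := s' ⁻¹ᵁ (p ⁻¹ᵁ U)
    have hW : y' ∈ W := show p (s' y') ∈ U from hy' ▸ hxU
    refine ⟨W, hW, ?_⟩
    let q := (p ⁻¹ᵁ U).ι ≫ pullback.snd f g
    have hq : IsPullback (p ∣_ U) q (U.ι ≫ f) g :=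
      (isPullback_morphismRestrict p U).paste_vert (IsPullback.of_hasPullback f g)
    haveI : FormallyUnramified q := MorphismProperty.of_isPullback hq hU
    haveI : LocallyOfFiniteType q := MorphismProperty.of_isPullback hq (inferInstance : LocallyOfFiniteType (U.ι ≫ f))
    let t : (W : Scheme.{u}) ⟶ (p ⁻¹ᵁ U : Scheme.{u}) := IsOpenImmersion.lift (p ⁻¹ᵁ U).ι (W.ι ≫ s') (by
      rintro _ ⟨w, rfl⟩
      rw [Scheme.Opens.range_ι]
      exact w.2)
    have ht : t ≫ (p ⁻¹ᵁ U).ι = W.ι ≫ s' := IsOpenImmersion.lift_fac _ _ _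
    have htq : t ≫ q = W.ι := by
      rw [← Category.assoc, ht, Category.assoc, hs', Category.comp_id]
    haveI : IsOpenImmersion (t ≫ q) := htq ▸ inferInstance
    haveI := isOpenImmersion_of_comp t q
    rw [← ht]
    infer_instance
  · intro h
    obtain ⟨U, hxU, hU⟩ := h X f (pullback.diagonal f) (pullback.diagonal_snd f) x (by
      rw [← Scheme.Hom.comp_apply, pullback.diagonal_fst]
      rfl)
    refine ⟨U, hxU, ?_⟩
    let m := pullback.map (U.ι ≫ f) (U.ι ≫ f) f f U.ι U.ι (𝟙 Y) (Category.comp_id _) (Category.comp_id _)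
    have hm : pullback.diagonal (U.ι ≫ f) ≫ m = U.ι ≫ pullback.diagonal f := by
      apply pullback.hom_ext <;> simp only [m, Category.assoc, pullback.lift_fst, pullback.lift_snd, pullback.diagonal_fst, pullback.diagonal_snd, pullback.diagonal_fst_assoc, pullback.diagonal_snd_assoc, Category.comp_id]
    haveI : IsOpenImmersion (pullback.diagonal (U.ι ≫ f) ≫ m) := hm ▸ hU
    haveI : IsOpenImmersion (pullback.diagonal (U.ι ≫ f)) := IsOpenImmersion.of_comp _ m
    infer_instance

end Groth.Agent.S3846
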