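import Groth.Statements.S3848
import Groth.Agent.Lib.SectExtend.Basic
import Groth.Agent.Lib.SectExtend.Dvr
import Groth.Agent.Lib.DVRVal.Criterion
import Groth.Agent.Lib.ValCritRes.Basic

set_option autoImplicit false
universe u
open CategoryTheory CategoryTheory.Limits AlgebraicGeometry TopologicalSpace
open Rat20

namespace Groth.Agent.S3848

open IsLocalRing Groth.Agent

section
variable {X Y : Scheme.{u}} (q : Y ⟶ X) (U : X.Opens) (h : (U : Scheme.{u}) ⟶ Y) (x : X) (y₀ : Y)

/-- The valuative condition, for an arbitrary fraction field. -/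
theorem exists_lift
    (H : ∀ (R : Type u) [CommRing R] [IsDomain R] [IsDiscreteValuationRing R]
        (u : Spec (CommRingCat.of R) ⟶ X), u (IsLocalRing.closedPoint R) = x →
        ∀ ub : Spec (CommRingCat.of (FractionRing R)) ⟶ (U : Scheme.{u}),
          ub ≫ U.ι = Spec.map (CommRingCat.ofHom (algebraMap R (FractionRing R))) ≫ u →
          ∃ h₁ : Spec (CommRingCat.of R) ⟶ Y, h₁ ≫ q = u ∧ h₁ (IsLocalRing.closedPoint R) = y₀ ∧
            Spec.map (CommRingCat.ofHom (algebraMap R (FractionRing R))) ≫ h₁ = ub ≫ h)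
    {R : Type u} [CommRing R] [IsDomain R] [IsDiscreteValuationRing R] {K : Type u} [Field K]
    [Algebra R K] [IsFractionRing R K] (v : Spec (CommRingCat.of R) ⟶ X) (hv : v (closedPoint R) = x)
    (σ : Spec (CommRingCat.of K) ⟶ (U : Scheme.{u}))
    (hσ : σ ≫ U.ι = Spec.map (CommRingCat.ofHom (algebraMap R K)) ≫ v) :
    ∃ h₁ : Spec (CommRingCat.of R) ⟶ Y, h₁ ≫ q = v ∧ h₁ (closedPoint R) = y₀ ∧
      Spec.map (CommRingCat.ofHom (algebraMap R K)) ≫ h₁ = σ ≫ h ∧ h (σ (closedPoint K)) ⤳ y₀ := by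
  obtain ⟨e, he⟩ := DVRVal.exists_iff_fractionRing (A := R) K
  obtain ⟨h₁, hq, hy, hgen⟩ := H R v hv (e.inv ≫ σ) (by rw [Category.assoc, hσ, ← he]; simp)
  have hgen' : Spec.map (CommRingCat.ofHom (algebraMap R K)) ≫ h₁ = σ ≫ h := by
    rw [← he, Category.assoc, hgen, Category.assoc, Iso.hom_inv_id_assoc]
  refine ⟨h₁, hq, hy, hgen', ?_⟩
  have h2 := congrArg (fun φ : Spec (CommRingCat.of K) ⟶ Y => φ (closedPoint K)) hgen'
  simp only [Scheme.Hom.comp_apply] at h2
  rw [← h2, ← hy]
  exact (specializes_closedPoint _).map h₁.continuous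

/-- The values of `h` at points specializing to `x` specialize to `y₀`. -/
theorem specializes_of_dvr
    (H : ∀ (R : Type u) [CommRing R] [IsDomain R] [IsDiscreteValuationRing R]
        (u : Spec (CommRingCat.of R) ⟶ X), u (IsLocalRing.closedPoint R) = x →
        ∀ ub : Spec (CommRingCat.of (FractionRing R)) ⟶ (U : Scheme.{u}),
          ub ≫ U.ι = Spec.map (CommRingCat.ofHom (algebraMap R (FractionRing R))) ≫ u →
          ∃ h₁ : Spec (CommRingCat.of R) ⟶ Y, h₁ ≫ q = u ∧ h₁ (IsLocalRing.closedPoint R) = y₀ ∧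
            Spec.map (CommRingCat.ofHom (algebraMap R (FractionRing R))) ≫ h₁ = ub ≫ h)
    {K : Type u} [Field K] (A : ValuationSubring K) [IsDiscreteValuationRing A]
    (v : Spec (CommRingCat.of A) ⟶ X) (hv : v (closedPoint A) = x)
    (σ : Spec (CommRingCat.of K) ⟶ (U : Scheme.{u}))
    (hσ : Spec.map (CommRingCat.ofHom A.subtype) ≫ v = σ ≫ U.ι) (p : (U : Scheme.{u}))
    (hp : ∀ s, σ s = p) : h p ⤳ y₀ := by
  obtain ⟨-, -, -, -, hsp⟩ := exists_lift q U h x y₀ H v hv σ hσ.symm
  rwa [hp] at hsp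

/-- A map of the local ring at `x` into a valuation ring, as a point of the base. -/
theorem exists_base_point {K : Type u} [Field K] (j : X.presheaf.stalk x →+* K) (V : ValuationSubring K)
    (hmem : ∀ a, j a ∈ V) (hlt : ∀ a ∈ maximalIdeal (X.presheaf.stalk x), V.valuation (j a) < 1) :
    ∃ v : Spec (CommRingCat.of V) ⟶ X, v (closedPoint V) = x ∧
      Spec.map (CommRingCat.ofHom V.subtype) ≫ v = Spec.map (CommRingCat.ofHom j) ≫ X.fromSpecStalk x := by
  let ρ : X.presheaf.stalk x →+* V := j.codRestrict V.toSubring hmem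
  haveI : IsLocalHom ρ := ⟨fun a ha => by
    by_contra hu
    exact ((V.valuation_lt_one_iff _).2 (hlt a hu)) ha⟩
  refine ⟨Spec.map (CommRingCat.ofHom ρ) ≫ X.fromSpecStalk x, ?_, ?_⟩
  · show X.fromSpecStalk x (Spec.map (CommRingCat.ofHom ρ) (closedPoint V)) = x
    rw [ValCritRes.map_closedPoint ρ]
    exact Scheme.fromSpecStalk_closedPoint
  · rw [← Spec.map_comp_assoc]; rfl

end

/-- Existence of the extension on the local ring. -/
theorem exists_stalk_extension {X Y : Scheme.{u}} [IsLocallyNoetherian X] (q : Y ⟶ X) (U : X.Opens)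
    (hU : Dense (U : Set X)) (h : (U : Scheme.{u}) ⟶ Y) (x : X) (hxU : x ∉ U)
    [IsDomain (X.presheaf.stalk x)] (hx : IsIntegrallyClosed (X.presheaf.stalk x)) (y₀ : Y)
    (hh : h ≫ q = U.ι)
    (H : ∀ (R : Type u) [CommRing R] [IsDomain R] [IsDiscreteValuationRing R]
        (u : Spec (CommRingCat.of R) ⟶ X), u (IsLocalRing.closedPoint R) = x →
        ∀ ub : Spec (CommRingCat.of (FractionRing R)) ⟶ (U : Scheme.{u}),
          ub ≫ U.ι = Spec.map (CommRingCat.ofHom (algebraMap R (FractionRing R))) ≫ u →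
          ∃ h₁ : Spec (CommRingCat.of R) ⟶ Y, h₁ ≫ q = u ∧ h₁ (IsLocalRing.closedPoint R) = y₀ ∧
            Spec.map (CommRingCat.ofHom (algebraMap R (FractionRing R))) ≫ h₁ = ub ≫ h)
    (τ : Spec (CommRingCat.of (FractionRing (X.presheaf.stalk x))) ⟶ (U : Scheme.{u}))
    (hτ : τ ≫ U.ι = WeilExt.genι x) :
    ∃ φ : Spec (X.presheaf.stalk x) ⟶ Y, φ ≫ q = X.fromSpecStalk x ∧
      φ (closedPoint (X.presheaf.stalk x)) = y₀ ∧
      Spec.map (CommRingCat.ofHom (algebraMap (X.presheaf.stalk x)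
        (FractionRing (X.presheaf.stalk x)))) ≫ φ = τ ≫ h := by
  haveI := hx
  let K := FractionRing (X.presheaf.stalk x)
  have hnf : ¬ IsField (X.presheaf.stalk x) := fun hf => hxU <| by
    have hg : WeilExt.genOf x = x := by
      refine Eq.trans ?_ (Scheme.fromSpecStalk_closedPoint (X := X) (x := x))
      show (X.fromSpecStalk x).base _ = X.fromSpecStalk x (closedPoint _)
      congr 1
      exact PrimeSpectrum.ext (isField_iff_maximalIdeal_eq.1 hf).symm
    exact hg ▸ (WeilExt.isMaxPt_genOf x).mem_of_dense U.2 hU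
  have key : ∀ V : ValuationSubring K, IsDiscreteValuationRing V →
      (∀ a, algebraMap (X.presheaf.stalk x) K a ∈ V) →
      (∀ a ∈ maximalIdeal (X.presheaf.stalk x), V.valuation (algebraMap (X.presheaf.stalk x) K a) < 1) →
      ∃ ψ : Y.presheaf.stalk y₀ ⟶ CommRingCat.of V, IsLocalHom ψ.hom ∧
        Spec.map (ψ ≫ CommRingCat.ofHom V.subtype) ≫ Y.fromSpecStalk y₀ = τ ≫ h := by
    intro V hV hmem hlt
    haveI := hV
    obtain ⟨v, hv, hvj⟩ := exists_base_point x (algebraMap (X.presheaf.stalk x) K) V hmem hlt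
    obtain ⟨h₁, -, hy, hgen, -⟩ := exists_lift q U h x y₀ H v hv τ (by rw [hτ]; exact hvj.symm)
    obtain ⟨ψ, hψl, hψ⟩ := ValCritRes.exists_stalkHom h₁ y₀ hy
    refine ⟨ψ, hψl, ?_⟩
    rw [Spec.map_comp, Category.assoc, hψ]
    exact hgen
  obtain ⟨V₀, hV₀, hmem₀, hlt₀⟩ := SectExtend.exists_dvr_dominating (K := K) hnf
  obtain ⟨ψ₀, -, hψ₀⟩ := key V₀ hV₀ hmem₀ hlt₀
  let φK : Y.presheaf.stalk y₀ ⟶ CommRingCat.of K := ψ₀ ≫ CommRingCat.ofHom V₀.subtype
  have hrange : ∀ b, φK.hom b ∈ (algebraMap (X.presheaf.stalk x) K).range := fun b => by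
    refine SectExtend.mem_range_of_forall_dvr _ fun V hV hmem hlt => ?_
    obtain ⟨ψ, -, hψ⟩ := key V hV hmem hlt
    rw [show φK = ψ ≫ CommRingCat.ofHom V.subtype from ValCritRes.stalkHom_ext (hψ₀.trans hψ.symm)]
    exact Subtype.coe_prop _
  let er : X.presheaf.stalk x ≃+* (algebraMap (X.presheaf.stalk x) K).range :=
    RingEquiv.ofBijective _ ⟨fun a b hab => IsFractionRing.injective (X.presheaf.stalk x) K
      (congrArg Subtype.val hab), (algebraMap (X.presheaf.stalk x) K).rangeRestrict_surjective⟩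
  let ψ : Y.presheaf.stalk y₀ →+* X.presheaf.stalk x :=
    er.symm.toRingHom.comp (φK.hom.codRestrict _ hrange)
  have hψK : ∀ b, algebraMap (X.presheaf.stalk x) K (ψ b) = φK.hom b := fun b =>
    congrArg Subtype.val (er.apply_symm_apply ⟨_, hrange b⟩)
  haveI : IsLocalHom ψ := ⟨fun b hb => by
    obtain ⟨ψV, hψVl, hψV⟩ := key V₀ hV₀ hmem₀ hlt₀
    haveI := hψVl
    have he : φK = ψV ≫ CommRingCat.ofHom V₀.subtype := ValCritRes.stalkHom_ext (hψ₀.trans hψV.symm)
    apply isUnit_of_map_unit ψV.hom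
    let ρ : X.presheaf.stalk x →+* V₀ := (algebraMap (X.presheaf.stalk x) K).codRestrict V₀.toSubring hmem₀
    have : ψV.hom b = ρ (ψ b) := Subtype.ext (by
      rw [show ((ρ (ψ b) : V₀) : K) = φK.hom b from hψK b, he]; rfl)
    rw [this]
    exact hb.map ρ⟩
  let φ : Spec (X.presheaf.stalk x) ⟶ Y := Spec.map (CommRingCat.ofHom ψ) ≫ Y.fromSpecStalk y₀
  have hφc : φ (closedPoint (X.presheaf.stalk x)) = y₀ := by
    show Y.fromSpecStalk y₀ (Spec.map (CommRingCat.ofHom ψ) (closedPoint (X.presheaf.stalk x))) = y₀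
    rw [ValCritRes.map_closedPoint ψ]
    exact Scheme.fromSpecStalk_closedPoint
  have hgen : Spec.map (CommRingCat.ofHom (algebraMap (X.presheaf.stalk x) K)) ≫ φ = τ ≫ h := by
    rw [← hψ₀, ← Spec.map_comp_assoc]
    congr 2
    exact CommRingCat.hom_ext (RingHom.ext hψK)
  have hqy : q y₀ = x := by
    obtain ⟨v, hv, hvj⟩ := exists_base_point x (algebraMap (X.presheaf.stalk x) K) V₀ hmem₀ hlt₀
    haveI := hV₀
    obtain ⟨h₁, h₁q, hy, -, -⟩ := exists_lift q U h x y₀ H v hv τ (by rw [hτ]; exact hvj.symm)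
    rw [← hy, ← Scheme.Hom.comp_apply, h₁q, hv]
  refine ⟨φ, ?_, hφc, hgen⟩
  refine ValCritRes.hom_ext_of_injective (algebraMap (X.presheaf.stalk x) K)
    (IsFractionRing.injective (X.presheaf.stalk x) K) _ _ ?_ ?_
  · show q (φ (closedPoint (X.presheaf.stalk x))) = X.fromSpecStalk x (closedPoint _)
    rw [hφc, hqy, Scheme.fromSpecStalk_closedPoint]
  · rw [← Category.assoc, hgen, Category.assoc, hh, hτ]
    rfl

/-- In the case S = X (valuative criterion for a rational map to be defined at a point): let X be a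
locally Noetherian scheme, q : Y → X a morphism locally of finite type, U a dense open subset of X,
h : U → Y a section of q over U, x a point of X outside U whose local ring is an integrally closed
domain, and y₀ a point of Y over x with trivial residue field extension (an X-morphism Spec k(x) →
Y). Then h extends to a section h' of q over an open subset U' containing U and x with h'(x) = y₀ if
and only if: for every discrete valuation ring R and every morphism u : Spec R → X sending the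
closed point to x and the generic point into U, there is a morphism h₁ : Spec R → Y over X sending
the closed point to y₀ and agreeing with h at the generic point. -/
theorem result {X Y : Scheme.{u}} [IsLocallyNoetherian X] (q : Y ⟶ X)
    [LocallyOfFiniteType q] (U : X.Opens) (hU : Dense (U : Set ↥X)) (h : (U : Scheme.{u}) ⟶ Y)
    (hh : h ≫ q = U.ι) (x : ↥X) (hxU : x ∉ U) [IsDomain ↑(X.presheaf.stalk x)]
    (hx : IsIntegrallyClosed ↑(X.presheaf.stalk x)) (y₀ : ↥Y) (hy₀ : q y₀ = x)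
    (hk : Function.Bijective (q.residueFieldMap y₀)) :
    (∃ (U' : X.Opens) (hUU' : U ≤ U') (hxU' : x ∈ U') (h' : (U' : Scheme.{u}) ⟶ Y),
        h' ≫ q = U'.ι ∧ X.homOfLE hUU' ≫ h' = h ∧ h' ⟨x, hxU'⟩ = y₀) ↔
      ∀ (R : Type u) [CommRing R] [IsDomain R] [IsDiscreteValuationRing R]
        (u : Spec (CommRingCat.of R) ⟶ X), u (IsLocalRing.closedPoint R) = x →
        ∀ ub : Spec (CommRingCat.of (FractionRing R)) ⟶ (U : Scheme.{u}),
          ub ≫ U.ι = Spec.map (CommRingCat.ofHom (algebraMap R (FractionRing R))) ≫ u →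
          ∃ h₁ : Spec (CommRingCat.of R) ⟶ Y, h₁ ≫ q = u ∧ h₁ (IsLocalRing.closedPoint R) = y₀ ∧
            Spec.map (CommRingCat.ofHom (algebraMap R (FractionRing R))) ≫ h₁ = ub ≫ h := by
  constructor
  · rintro ⟨U', hUU', hxU', h', h'q, h'h, h'x⟩ R _ _ _ u hu ub hub
    have hr : Set.range u ⊆ Set.range U'.ι := by
      rw [Scheme.Opens.range_ι]
      rintro _ ⟨p, rfl⟩
      exact ((specializes_closedPoint p).map u.continuous).mem_open U'.2 (hu ▸ hxU')
    refine ⟨IsOpenImmersion.lift U'.ι u hr ≫ h', ?_, ?_, ?_⟩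
    · rw [Category.assoc, h'q, IsOpenImmersion.lift_fac]
    · rw [Scheme.Hom.comp_apply, ← h'x]
      congr 1
      apply U'.ι.isOpenEmbedding.injective
      rw [← Scheme.Hom.comp_apply, IsOpenImmersion.lift_fac]
      exact hu
    · rw [← h'h, ← Category.assoc, ← Category.assoc]
      congr 1
      rw [← cancel_mono U'.ι, Category.assoc, IsOpenImmersion.lift_fac, Category.assoc,
        Scheme.homOfLE_ι, hub]
  · intro H
    obtain ⟨τ, hτ⟩ := Groth.Agent.SectExtend.exists_lift_gen U hU x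
    obtain ⟨φ, hφq, hφx, hφgen⟩ := exists_stalk_extension q U hU h x hxU hx y₀ hh H τ hτ
    obtain ⟨_, ⟨W, hW, rfl⟩, hyW, -⟩ :=
      Y.isBasis_affineOpens.exists_subset_of_mem_open (Set.mem_univ y₀) isOpen_univ
    revert W
    intro (W : Y.Opens) hW hyW
    haveI : IsAffine (W : Scheme.{u}) := hW
    haveI : IsSeparated (CategoryTheory.Limits.terminal.from (W : Scheme.{u})) := inferInstance
    haveI : IsSeparated ((W.ι ≫ q) ≫ CategoryTheory.Limits.terminal.from X) := by
      rw [CategoryTheory.Limits.terminal.comp_from]; infer_instance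
    haveI : IsSeparated (W.ι ≫ q) := IsSeparated.of_comp (W.ι ≫ q) (CategoryTheory.Limits.terminal.from X)
    have hgenW : ∀ p : U, U.ι p ⤳ x → h p ∈ W := fun p hp => by
      by_cases hne : x = U.ι p
      · exact absurd (show x ∈ U by rw [hne]; exact p.2) hxU
      obtain ⟨A, v, hA, hv, hvA⟩ := Groth.Agent.DVRVal.exists_dvr_specializes U.ι p x hp hne
      haveI := hA
      have hq := Scheme.fromSpecResidueField_apply (X := (U : Scheme.{u})) p
      generalize hσ : (U : Scheme.{u}).fromSpecResidueField p = σ at hvA hq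
      exact (specializes_of_dvr q U h x y₀ H A v hv σ hvA p hq).mem_open W.2 hyW
    obtain ⟨U', hUU', hxU', h', h1, h2, h3⟩ :=
      Groth.Agent.SectExtend.exists_extension q U hU h hh x φ hφq W (hφx ▸ hyW) hgenW τ hτ hφgen
    exact ⟨U', hUU', hxU', h', h1, h2, h3.trans hφx⟩

end Groth.Agent.S3848
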