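import Groth.Statements.S3849
import Groth.Agent.Lib.SectExtend.Basic
import Groth.Agent.Lib.SectExtend.Dvr
import Groth.Agent.Lib.SectExtend.ZMT
import Groth.Agent.Lib.DVRVal.Criterion
import Groth.Agent.Lib.ValCritRes.Basic

set_option autoImplicit false
universe u
open CategoryTheory CategoryTheory.Limits AlgebraicGeometry TopologicalSpace
open Rat20

namespace Groth.Agent.S3849

open IsLocalRing Groth.Agent

/-- An algebraic description of the extension: a factorisation through the local ring at `x`. -/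
theorem exists_stalk_extension {X Y : Scheme.{u}} [IsLocallyNoetherian X] (q : Y ⟶ X)
    [LocallyOfFiniteType q] [LocallyQuasiFinite q] (U : X.Opens)
    (h : (U : Scheme.{u}) ⟶ Y) (hh : h ≫ q = U.ι) (x : X)
    [IsDomain (X.presheaf.stalk x)] (hx : IsIntegrallyClosed (X.presheaf.stalk x))
    {R' : Type u} [CommRing R'] [IsLocalRing R'] {F : Type u} [Field F] (jR : R' →+* F)
    (hjR : Function.Injective jR)
    (u : Spec (CommRingCat.of R') ⟶ X) (hu : u (closedPoint R') = x)
    (ub : Spec (CommRingCat.of F) ⟶ (U : Scheme.{u}))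
    (hub : ub ≫ U.ι = Spec.map (CommRingCat.ofHom jR) ≫ u)
    (h₁ : Spec (CommRingCat.of R') ⟶ Y) (hq : h₁ ≫ q = u)
    (hgen : Spec.map (CommRingCat.ofHom jR) ≫ h₁ = ub ≫ h)
    (τ : Spec (CommRingCat.of (FractionRing (X.presheaf.stalk x))) ⟶ (U : Scheme.{u}))
    (hτ : τ ≫ U.ι = WeilExt.genι x) :
    ∃ φ : Spec (X.presheaf.stalk x) ⟶ Y, φ ≫ q = X.fromSpecStalk x ∧
      Spec.map (CommRingCat.ofHom (algebraMap (X.presheaf.stalk x)
        (FractionRing (X.presheaf.stalk x)))) ≫ φ = τ ≫ h := by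
  haveI := hx
  let K := FractionRing (X.presheaf.stalk x)
  let y₀ : Y := h₁ (closedPoint R')
  have hqy : q y₀ = x := by rw [← hu, ← hq]; rfl
  -- the prime of the local ring below `ub`
  obtain ⟨aC, haC, hau⟩ := ValCritRes.exists_stalkHom u x hu
  let aR : X.presheaf.stalk x →+* R' := aC.hom
  haveI : IsLocalHom aR := haC
  have hau' : Spec.map (CommRingCat.ofHom aR) ≫ X.fromSpecStalk x = u := hau
  let jx : X.presheaf.stalk x →+* F := jR.comp aR
  let P : Ideal (X.presheaf.stalk x) := RingHom.ker jx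
  haveI : P.IsPrime := RingHom.ker_isPrime _
  let OL := Localization.AtPrime P
  let σL : OL →+* F := IsLocalization.lift (M := P.primeCompl) (g := jx) fun s =>
    IsUnit.mk0 _ (show jx s.1 ≠ 0 from s.2)
  have hσL : ∀ r, σL (algebraMap _ OL r) = jx r := fun r => IsLocalization.lift_eq _ r
  let χ : OL →+* K := IsLocalization.lift (M := P.primeCompl) (g := algebraMap (X.presheaf.stalk x) K)
    fun s => IsUnit.mk0 _ ((map_ne_zero_iff _ (IsFractionRing.injective (X.presheaf.stalk x) K)).2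
      fun h0 => s.2 (h0 ▸ P.zero_mem))
  have hχ : ∀ r, χ (algebraMap _ OL r) = algebraMap (X.presheaf.stalk x) K r := fun r =>
    IsLocalization.lift_eq _ r
  have hχinj : Function.Injective χ := IsLocalization.lift_injective_iff _ |>.2 fun a b =>
    ⟨fun e => congrArg _ (IsLocalization.injective OL P.primeCompl_le_nonZeroDivisors e),
      fun e => congrArg _ (IsFractionRing.injective (X.presheaf.stalk x) K e)⟩
  -- the map on the localisation
  let gX : Spec (CommRingCat.of OL) ⟶ X :=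
    Spec.map (CommRingCat.ofHom (algebraMap (X.presheaf.stalk x) OL)) ≫ X.fromSpecStalk x
  have hgσ : Spec.map (CommRingCat.ofHom σL) ≫ gX = ub ≫ U.ι := by
    rw [hub, ← hau', ← Spec.map_comp_assoc, ← Spec.map_comp_assoc, ← CommRingCat.ofHom_comp,
      ← CommRingCat.ofHom_comp]
    congr 3
    exact RingHom.ext hσL
  haveI : IsLocalHom σL := ⟨fun a ha => by
    obtain ⟨r, s, rfl⟩ := IsLocalization.exists_mk'_eq P.primeCompl a
    rw [IsLocalization.AtPrime.isUnit_mk'_iff]
    intro hr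
    have h0 : σL (IsLocalization.mk' OL r s) = 0 := by
      rw [IsLocalization.lift_mk']
      rw [show jx r = 0 from hr, zero_mul]
    exact ha.ne_zero h0⟩
  have hgclosed : gX (closedPoint OL) = U.ι (ub (closedPoint F)) := by
    rw [← ValCritRes.map_closedPoint σL, ← Scheme.Hom.comp_apply, hgσ, Scheme.Hom.comp_apply]
  have hr : Set.range gX ⊆ Set.range U.ι := by
    rw [Scheme.Opens.range_ι]
    rintro _ ⟨p, rfl⟩
    refine ((specializes_closedPoint p).map gX.continuous).mem_open U.2 ?_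
    rw [hgclosed]
    exact Subtype.coe_prop _
  let g : Spec (CommRingCat.of OL) ⟶ (U : Scheme.{u}) := IsOpenImmersion.lift U.ι gX hr
  have hg : g ≫ U.ι = gX := IsOpenImmersion.lift_fac _ _ _
  have hgub : Spec.map (CommRingCat.ofHom σL) ≫ g = ub := by
    rw [← cancel_mono U.ι, Category.assoc, hg, hgσ]
  have hgy : (g ≫ h) (closedPoint OL) ⤳ y₀ := by
    have h2 : h (ub (closedPoint F)) ⤳ y₀ := by
      rw [← Scheme.Hom.comp_apply, ← hgen, Scheme.Hom.comp_apply]
      exact (specializes_closedPoint _).map h₁.continuous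
    rw [← hgub, Scheme.Hom.comp_apply, ValCritRes.map_closedPoint σL] at h2
    exact h2
  obtain ⟨β, hβ⟩ := ValCritRes.exists_stalkHom_of_specializes (g ≫ h) y₀ hgy
  obtain ⟨ψ₁, hψ₁l, hψ₁⟩ := ValCritRes.exists_stalkHom h₁ y₀ rfl
  haveI := hψ₁l
  have hβψ : β ≫ CommRingCat.ofHom σL = ψ₁ ≫ CommRingCat.ofHom jR := by
    apply ValCritRes.stalkHom_ext
    rw [Spec.map_comp, Category.assoc, hβ, Spec.map_comp, Category.assoc, hψ₁, reassoc_of% hgub, hgen]
  -- affine neighbourhoods
  obtain ⟨_, ⟨U₀, hU₀, rfl⟩, hxU₀, -⟩ :=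
    X.isBasis_affineOpens.exists_subset_of_mem_open (Set.mem_univ x) isOpen_univ
  revert U₀
  intro (U₀ : X.Opens) hU₀ hxU₀
  obtain ⟨_, ⟨W, hW, rfl⟩, hyW, hWU⟩ := Y.isBasis_affineOpens.exists_subset_of_mem_open
    (show y₀ ∈ (q ⁻¹ᵁ U₀ : Y.Opens) from show q y₀ ∈ U₀ from hqy ▸ hxU₀) (q ⁻¹ᵁ U₀).2
  revert W
  intro (W : Y.Opens) hW hyW hWU
  let ι := (q.appLE U₀ W hWU).hom
  let ε := (X.presheaf.germ U₀ x hxU₀).hom
  let γ := (Y.presheaf.germ W y₀ hyW).hom
  let βr : Y.presheaf.stalk y₀ →+* OL := β.hom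
  let ψr : Y.presheaf.stalk y₀ →+* R' := ψ₁.hom
  have hψσ : ∀ b, σL (βr b) = jR (ψr b) := fun b =>
    congrArg (fun φ : Y.presheaf.stalk y₀ ⟶ CommRingCat.of F => φ.hom b) hβψ
  have hcompat : q.appLE U₀ W hWU ≫ Y.presheaf.germ W y₀ hyW ≫ β =
      X.presheaf.germ U₀ x hxU₀ ≫ CommRingCat.ofHom (algebraMap (X.presheaf.stalk x) OL) := by
    apply Spec.map_injective
    rw [← cancel_mono hU₀.fromSpec]
    simp only [Spec.map_comp, Category.assoc]
    rw [IsAffineOpen.SpecMap_appLE_fromSpec q hU₀ hW hWU]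
    have e1 : Spec.map (Y.presheaf.germ W y₀ hyW) ≫ hW.fromSpec = Y.fromSpecStalk y₀ := by
      rw [← IsAffineOpen.fromSpecStalk_eq_fromSpecStalk hW hyW, IsAffineOpen.fromSpecStalk]
    have e2 : Spec.map (X.presheaf.germ U₀ x hxU₀) ≫ hU₀.fromSpec = X.fromSpecStalk x := by
      rw [← IsAffineOpen.fromSpecStalk_eq_fromSpecStalk hU₀ hxU₀, IsAffineOpen.fromSpecStalk]
    rw [reassoc_of% e1, reassoc_of% hβ, hh, e2]
    exact hg
  let O : Subring K := χ.range
  let eO : OL ≃+* O := RingEquiv.ofBijective χ.rangeRestrict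
    ⟨fun a b e => hχinj (congrArg Subtype.val e), χ.rangeRestrict_surjective⟩
  let σ : O →+* F := σL.comp eO.symm.toRingHom
  have hσ : ∀ a, σ ⟨χ a, ⟨a, rfl⟩⟩ = σL a := fun a =>
    congrArg σL (eO.symm_apply_apply a)
  let κ : Γ(Y, W) →+* K := χ.comp (βr.comp γ)
  have hS : ∀ s, κ s ∈ (algebraMap (X.presheaf.stalk x) K).range := fun s => by
    refine SectExtend.mem_range_of_quasiFinite ι
      (LocallyQuasiFinite.quasiFinite_appLE hU₀ hW hWU) (q.finiteType_appLE hU₀ hW hWU) ε κ ?_ O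
      (fun r => ⟨_, hχ r⟩) (fun s => ⟨_, rfl⟩) σ jR hjR aR (fun r => ?_) (ψr.comp γ) (fun s => ?_) s
    · refine RingHom.ext fun a => ?_
      have := congrArg (fun φ : Γ(X, U₀) ⟶ CommRingCat.of OL => χ (φ.hom a)) hcompat
      exact this.trans (hχ _)
    · have : (⟨algebraMap (X.presheaf.stalk x) K r, ⟨_, hχ r⟩⟩ : O) = ⟨χ (algebraMap _ OL r), ⟨_, rfl⟩⟩ :=
        Subtype.ext (hχ r).symm
      rw [this, hσ, hσL]; rfl
    · exact (hσ _).trans (hψσ _)
  let er : X.presheaf.stalk x ≃+* (algebraMap (X.presheaf.stalk x) K).range :=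
    RingEquiv.ofBijective _ ⟨fun a b hab => IsFractionRing.injective (X.presheaf.stalk x) K
      (congrArg Subtype.val hab), (algebraMap (X.presheaf.stalk x) K).rangeRestrict_surjective⟩
  let ψS : Γ(Y, W) →+* X.presheaf.stalk x := er.symm.toRingHom.comp (κ.codRestrict _ hS)
  have hψS : ∀ s, algebraMap (X.presheaf.stalk x) OL (ψS s) = βr (γ s) := fun s => by
    apply hχinj
    rw [hχ]
    exact congrArg Subtype.val (er.apply_symm_apply ⟨_, hS s⟩)
  have haψ : ∀ s, aR (ψS s) = ψr (γ s) := fun s => hjR <| by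
    rw [← hψσ, ← hψS, hσL]; rfl
  letI : Algebra Γ(Y, W) (Y.presheaf.stalk y₀) := γ.toAlgebra
  haveI : IsLocalization.AtPrime (Y.presheaf.stalk y₀) (hW.primeIdealOf ⟨y₀, hyW⟩).asIdeal :=
    hW.isLocalization_stalk ⟨y₀, hyW⟩
  let ψB : Y.presheaf.stalk y₀ →+* X.presheaf.stalk x :=
    IsLocalization.lift (M := (hW.primeIdealOf ⟨y₀, hyW⟩).asIdeal.primeCompl) (g := ψS) fun s => by
      apply isUnit_of_map_unit aR
      rw [haψ]
      exact (IsLocalization.map_units (Y.presheaf.stalk y₀) s).map ψr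
  have hψB : (algebraMap (X.presheaf.stalk x) OL).comp ψB = βr := by
    refine IsLocalization.ringHom_ext (hW.primeIdealOf ⟨y₀, hyW⟩).asIdeal.primeCompl
      (RingHom.ext fun s => ?_)
    show algebraMap _ OL (ψB (γ s)) = βr (γ s)
    rw [show ψB (γ s) = ψS s from IsLocalization.lift_eq _ s, hψS]
  haveI : IsLocalHom ψB := ⟨fun b hb => by
    apply isUnit_of_map_unit ψr
    have : ψr b = aR (ψB b) := hjR <| by
      rw [← hψσ, ← hψB, RingHom.comp_apply, hσL]; rfl
    rw [this]
    exact hb.map aR⟩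
  let φ : Spec (X.presheaf.stalk x) ⟶ Y := Spec.map (CommRingCat.ofHom ψB) ≫ Y.fromSpecStalk y₀
  have hφgen : Spec.map (CommRingCat.ofHom (algebraMap (X.presheaf.stalk x) K)) ≫ φ = τ ≫ h := by
    have e3 : Spec.map (CommRingCat.ofHom χ) ≫ g = τ := by
      rw [← cancel_mono U.ι, Category.assoc, hg, hτ, ← Spec.map_comp_assoc, ← CommRingCat.ofHom_comp,
        show χ.comp (algebraMap (X.presheaf.stalk x) OL) = algebraMap (X.presheaf.stalk x) K from RingHom.ext hχ]
      rfl
    rw [← e3, Category.assoc, ← hβ, ← Spec.map_comp_assoc, ← Spec.map_comp_assoc]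
    congr 2
    refine CommRingCat.hom_ext (RingHom.ext fun b => ?_)
    show algebraMap (X.presheaf.stalk x) K (ψB b) = χ (βr b)
    rw [← hψB, RingHom.comp_apply, hχ]
  refine ⟨φ, ?_, hφgen⟩
  refine ValCritRes.hom_ext_of_injective (algebraMap (X.presheaf.stalk x) K)
    (IsFractionRing.injective (X.presheaf.stalk x) K) _ _ ?_ ?_
  · show q (Y.fromSpecStalk y₀ (Spec.map (CommRingCat.ofHom ψB) (closedPoint (X.presheaf.stalk x)))) =
      X.fromSpecStalk x (closedPoint (X.presheaf.stalk x))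
    rw [ValCritRes.map_closedPoint ψB, Scheme.fromSpecStalk_closedPoint]
    exact hqy.trans Scheme.fromSpecStalk_closedPoint.symm
  · rw [← Category.assoc, hφgen, Category.assoc, hh, hτ]
    rfl

/-- A discrete valuation ring through `x`, with a section over it, from an extension. -/
theorem exists_dvr_section {X Y : Scheme.{u}} [IsLocallyNoetherian X] (q : Y ⟶ X) (U : X.Opens)
    (hU : Dense (U : Set X)) (h : (U : Scheme.{u}) ⟶ Y) (x : X) (hxU : x ∉ U)
    [IsDomain (X.presheaf.stalk x)] (U' : X.Opens) (hUU' : U ≤ U') (hxU' : x ∈ U')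
    (h' : (U' : Scheme.{u}) ⟶ Y) (h'q : h' ≫ q = U'.ι) (h'h : X.homOfLE hUU' ≫ h' = h) :
    ∃ (R : Type u) (_ : CommRing R) (_ : IsDomain R) (_ : IsDiscreteValuationRing R)
      (u : Spec (CommRingCat.of R) ⟶ X) (ub : Spec (CommRingCat.of (FractionRing R)) ⟶ (U : Scheme.{u}))
      (h₁ : Spec (CommRingCat.of R) ⟶ Y),
      u (IsLocalRing.closedPoint R) = x ∧
        ub ≫ U.ι = Spec.map (CommRingCat.ofHom (algebraMap R (FractionRing R))) ≫ u ∧
        h₁ ≫ q = u ∧ Spec.map (CommRingCat.ofHom (algebraMap R (FractionRing R))) ≫ h₁ = ub ≫ h := by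
  let K := FractionRing (X.presheaf.stalk x)
  have hnf : ¬ IsField (X.presheaf.stalk x) := fun hf => hxU <| by
    have hg : WeilExt.genOf x = x := by
      refine Eq.trans ?_ (Scheme.fromSpecStalk_closedPoint (X := X) (x := x))
      show (X.fromSpecStalk x).base _ = X.fromSpecStalk x (closedPoint _)
      congr 1
      exact PrimeSpectrum.ext (isField_iff_maximalIdeal_eq.1 hf).symm
    exact hg ▸ (WeilExt.isMaxPt_genOf x).mem_of_dense U.2 hU
  obtain ⟨τ, hτ⟩ := SectExtend.exists_lift_gen U hU x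
  obtain ⟨V, hV, hmem, hlt⟩ := SectExtend.exists_dvr_dominating (K := K) hnf
  haveI := hV
  let ρ : X.presheaf.stalk x →+* V := (algebraMap (X.presheaf.stalk x) K).codRestrict V.toSubring hmem
  haveI : IsLocalHom ρ := ⟨fun a ha => by
    by_contra hu
    exact ((V.valuation_lt_one_iff _).2 (hlt a hu)) ha⟩
  let u : Spec (CommRingCat.of V) ⟶ X := Spec.map (CommRingCat.ofHom ρ) ≫ X.fromSpecStalk x
  have hu : u (closedPoint V) = x := by
    show X.fromSpecStalk x (Spec.map (CommRingCat.ofHom ρ) (closedPoint V)) = x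
    rw [ValCritRes.map_closedPoint ρ]
    exact Scheme.fromSpecStalk_closedPoint
  obtain ⟨e, he⟩ := DVRVal.exists_iff_fractionRing (A := V) K
  have hτu : τ ≫ U.ι = Spec.map (CommRingCat.ofHom (algebraMap V K)) ≫ u := by
    rw [hτ, ← Spec.map_comp_assoc]; rfl
  have hr : Set.range u ⊆ Set.range U'.ι := by
    rw [Scheme.Opens.range_ι]
    rintro _ ⟨p, rfl⟩
    exact ((specializes_closedPoint p).map u.continuous).mem_open U'.2 (show u (closedPoint V) ∈ U' by rw [hu]; exact hxU')
  have hub : (e.inv ≫ τ) ≫ U.ι = Spec.map (CommRingCat.ofHom (algebraMap V (FractionRing V))) ≫ u := by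
    rw [Category.assoc, hτu, ← he]; simp
  refine ⟨V, inferInstance, inferInstance, hV, u, e.inv ≫ τ, IsOpenImmersion.lift U'.ι u hr ≫ h', hu,
    hub, by rw [Category.assoc, h'q, IsOpenImmersion.lift_fac], ?_⟩
  rw [← h'h, ← Category.assoc, ← Category.assoc]
  congr 1
  rw [← cancel_mono U'.ι, Category.assoc, IsOpenImmersion.lift_fac, Category.assoc, Scheme.homOfLE_ι, hub]

/-- In the case S = X (sections of q : Y → X): let X be a locally Noetherian scheme, q : Y → X
separated, locally of finite type and locally quasi-finite, U a dense open subset of X, h : U → Y a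
section of q over U, and x a point of X outside U whose local ring is an integrally closed domain.
Then h extends to a section of q over an open subset containing U and x if and only if there exist a
discrete valuation ring R, a morphism u : Spec R → X sending the closed point to x and the generic
point into U, and a morphism Spec R → Y over X agreeing with h at the generic point. -/
theorem result {X Y : Scheme.{u}} [IsLocallyNoetherian X] (q : Y ⟶ X)
    [LocallyOfFiniteType q] [IsSeparated q] [LocallyQuasiFinite q] (U : X.Opens) (hU : Dense (U : Set ↥X))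
    (h : (U : Scheme.{u}) ⟶ Y) (hh : h ≫ q = U.ι) (x : ↥X) (hxU : x ∉ U) [IsDomain ↑(X.presheaf.stalk x)]
    (hx : IsIntegrallyClosed ↑(X.presheaf.stalk x)) :
    (∃ (U' : X.Opens) (hUU' : U ≤ U') (h' : (U' : Scheme.{u}) ⟶ Y),
        x ∈ U' ∧ h' ≫ q = U'.ι ∧ X.homOfLE hUU' ≫ h' = h) ↔
      ∃ (R : Type u) (_ : CommRing R) (_ : IsDomain R) (_ : IsDiscreteValuationRing R)
        (u : Spec (CommRingCat.of R) ⟶ X) (ub : Spec (CommRingCat.of (FractionRing R)) ⟶ (U : Scheme.{u}))
        (h₁ : Spec (CommRingCat.of R) ⟶ Y),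
        u (IsLocalRing.closedPoint R) = x ∧
          ub ≫ U.ι = Spec.map (CommRingCat.ofHom (algebraMap R (FractionRing R))) ≫ u ∧
          h₁ ≫ q = u ∧ Spec.map (CommRingCat.ofHom (algebraMap R (FractionRing R))) ≫ h₁ = ub ≫ h := by
  constructor
  · rintro ⟨U', hUU', h', hxU', h'q, h'h⟩
    exact exists_dvr_section q U hU h x hxU U' hUU' hxU' h' h'q h'h
  · rintro ⟨R, _, _, _, u, ub, h₁, hu, hub, hq, hgen⟩
    obtain ⟨τ, hτ⟩ := Groth.Agent.SectExtend.exists_lift_gen U hU x
    obtain ⟨φ, hφq, hφgen⟩ := exists_stalk_extension q U h hh x hx (algebraMap R (FractionRing R))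
      (IsFractionRing.injective R (FractionRing R)) u hu ub hub h₁ hq hgen τ hτ
    obtain ⟨U', hUU', hxU', h', h1, h2, -⟩ := Groth.Agent.SectExtend.exists_extension q U hU h hh x φ hφq ⊤
      trivial (fun _ _ => trivial) τ hτ hφgen
    exact ⟨U', hUU', h', hxU', h1, h2⟩

end Groth.Agent.S3849
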