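import Groth.Statements.S3851
import Groth.Agent.Lib.CKaehlerFree3.PerfRank
import Groth.Agent.Lib.CKaehlerFree3.FreeRegular
import Groth.Agent.Lib.CKaehlerFree3.Etale
import Groth.Agent.Lib.RegLoc.Basic
import Groth.Agent.S3847

set_option autoImplicit false
universe u
open scoped TensorProduct
open EGA418

namespace Groth.Agent.S3851

open scoped TensorProduct

/-- a) iff a') iff b), and b) implies d): let k be a field, A a complete Noetherian local k-algebra
whose residue field is finite over k, p a non-maximal prime of A, n the largest dimension of an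
irreducible component of Spec A containing p, and Ω̂ the completion of the module of differentials
of A over k for the topology of the maximal ideal. For a field extension k' of k write A' = A ⊗̂_k
k' (the completion of A ⊗_k k' for the extension of the maximal ideal). The following are
equivalent: (a) for every extension k' and every prime p' of A' over p, A'_{p'} is regular; (a') for
some perfect extension k' and some prime p' of A' over p, A'_{p'} is regular; (b) Ω̂_p is a free
A_p-module of rank n. Moreover (b) implies (d): A_p is geometrically regular over k. (The converse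
of the last implication, valid when [k : k^p] is finite, is not stated.) -/
theorem result (k A : Type u) [Field k] [CommRing A]
    [IsLocalRing A] [IsNoetherianRing A] [Algebra k A] [IsAdicComplete (IsLocalRing.maximalIdeal A) A]
    [Module.Finite k (IsLocalRing.ResidueField A)] (p : Ideal A) [p.IsPrime] (hp : p ≠ IsLocalRing.maximalIdeal A)
    (n : ℕ) (hn₁ : ∀ q ∈ minimalPrimes A, q ≤ p → ringKrullDim (A ⧸ q) ≤ n)
    (hn₂ : ∃ q ∈ minimalPrimes A, q ≤ p ∧ ringKrullDim (A ⧸ q) = n) :
    List.TFAE [
      ∀ (k' : Type u) [Field k'] [Algebra k k']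
        (p' : Ideal (AdicCompletion ((IsLocalRing.maximalIdeal A).map
          (Algebra.TensorProduct.includeLeft : A →ₐ[k] A ⊗[k] k')) (A ⊗[k] k'))) [p'.IsPrime],
        (p'.comap (algebraMap (A ⊗[k] k') _)).comap
            (Algebra.TensorProduct.includeLeft : A →ₐ[k] A ⊗[k] k').toRingHom = p →
          IsRegularLocalRing (Localization.AtPrime p'),
      ∃ (k' : Type u) (_ : Field k') (_ : Algebra k k') (_ : PerfectField k')
        (p' : Ideal (AdicCompletion ((IsLocalRing.maximalIdeal A).map
          (Algebra.TensorProduct.includeLeft : A →ₐ[k] A ⊗[k] k')) (A ⊗[k] k'))) (_ : p'.IsPrime),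
        (p'.comap (algebraMap (A ⊗[k] k') _)).comap
            (Algebra.TensorProduct.includeLeft : A →ₐ[k] A ⊗[k] k').toRingHom = p ∧
          IsRegularLocalRing (Localization.AtPrime p'),
      Module.Free (Localization.AtPrime p)
          (LocalizedModule p.primeCompl (AdicCompletion (IsLocalRing.maximalIdeal A) (KaehlerDifferential k A))) ∧
        Module.finrank (Localization.AtPrime p)
          (LocalizedModule p.primeCompl (AdicCompletion (IsLocalRing.maximalIdeal A) (KaehlerDifferential k A))) = n] ∧
    ((Module.Free (Localization.AtPrime p)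
          (LocalizedModule p.primeCompl (AdicCompletion (IsLocalRing.maximalIdeal A) (KaehlerDifferential k A))) ∧
        Module.finrank (Localization.AtPrime p)
          (LocalizedModule p.primeCompl (AdicCompletion (IsLocalRing.maximalIdeal A) (KaehlerDifferential k A))) = n) →
      CAlg.IsGeometricallyRegular k (Localization.AtPrime p)) := by
  classical
  haveI hfinA : Module.Finite A (AdicCompletion (IsLocalRing.maximalIdeal A) (KaehlerDifferential k A)) := S4528.result
  set M := AdicCompletion (IsLocalRing.maximalIdeal A) (KaehlerDifferential k A) with hM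
  have hgenOf : (Module.Free (Localization.AtPrime p) (LocalizedModule p.primeCompl M) ∧
      Module.finrank (Localization.AtPrime p) (LocalizedModule p.primeCompl M) = n) →
      ∃ s : Fin n → LocalizedModule p.primeCompl M, Submodule.span (Localization.AtPrime p) (Set.range s) = ⊤ := by
    rintro ⟨hf, hr⟩
    haveI := hf
    exact ⟨Module.finBasisOfFinrankEq (Localization.AtPrime p) _ hr, Module.Basis.span_eq _⟩
  have hcomap : ∀ (k' : Type u) [Field k'] [Algebra k k'] (P : Ideal (CKaehlerFree3.CT k A k')),
      (P.comap (algebraMap (A ⊗[k] k') (CKaehlerFree3.CT k A k'))).comap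
        (Algebra.TensorProduct.includeLeft : A →ₐ[k] A ⊗[k] k').toRingHom =
      P.comap (algebraMap A (CKaehlerFree3.CT k A k')) := fun k' _ _ P => by
    rw [Ideal.comap_comap, IsScalarTower.algebraMap_eq A (A ⊗[k] k') (CKaehlerFree3.CT k A k')]
    rfl
  refine ⟨?_, fun h3 => ?_⟩
  · tfae_have 1 → 2 := by
      intro h1
      let K := AlgebraicClosure k
      obtain ⟨-, -, hflat, -⟩ := CKaehlerFree3.basic_props k A K
      haveI := hflat
      haveI : Nontrivial (CKaehlerFree3.CT k A K) := by
        haveI : Nontrivial ((A ⊗[k] K) ⧸ CKaehlerFree3.cI k A K ^ 1) := by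
          rw [Ideal.Quotient.nontrivial_iff, pow_one]
          intro htop
          let φ : A ⊗[k] K →ₐ[k] IsLocalRing.ResidueField A ⊗[k] K :=
            Algebra.TensorProduct.map (IsScalarTower.toAlgHom k A (IsLocalRing.ResidueField A)) (AlgHom.id k K)
          have h0 : CKaehlerFree3.cI k A K ≤ RingHom.ker φ.toRingHom :=
            Ideal.map_le_iff_le_comap.2 fun a ha => by
              change φ (a ⊗ₜ 1) = 0
              rw [Algebra.TensorProduct.map_tmul, map_one,
                show IsScalarTower.toAlgHom k A (IsLocalRing.ResidueField A) a = 0 from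
                  (IsLocalRing.residue_eq_zero_iff a).2 ha, TensorProduct.zero_tmul]
          rw [htop] at h0
          haveI : Nontrivial (IsLocalRing.ResidueField A ⊗[k] K) := inferInstance
          exact one_ne_zero (α := IsLocalRing.ResidueField A ⊗[k] K)
            ((map_one φ).symm.trans (h0 (Submodule.mem_top : (1 : A ⊗[k] K) ∈ ⊤)))
        exact (AdicCompletion.evalₐ (CKaehlerFree3.cI k A K) 1).toRingHom.domain_nontrivial
      obtain ⟨M₀, hM₀⟩ := Ideal.exists_maximal (CKaehlerFree3.CT k A K)
      obtain ⟨-, hff, -, -⟩ := CKaehlerFree3.local_props k A K M₀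
      haveI := hff
      obtain ⟨Q, hQ⟩ := PrimeSpectrum.comap_surjective_of_faithfullyFlat (B := Localization.AtPrime M₀) ⟨p, inferInstance⟩
      let P := Q.asIdeal.comap (algebraMap (CKaehlerFree3.CT k A K) (Localization.AtPrime M₀))
      haveI : P.IsPrime := Ideal.comap_isPrime _ _
      have hP : P.comap (algebraMap A (CKaehlerFree3.CT k A K)) = p := by
        rw [Ideal.comap_comap, ← IsScalarTower.algebraMap_eq]
        exact congrArg PrimeSpectrum.asIdeal hQ
      exact ⟨K, inferInstance, inferInstance, inferInstance, P, inferInstance, (hcomap K P).trans hP,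
        h1 K P ((hcomap K P).trans hP)⟩
    tfae_have 2 → 3 := by
      rintro ⟨K, _, _, _, P, _, hP, hreg⟩
      haveI := hreg
      have hP' : P.comap (algebraMap A (CKaehlerFree3.CT k A K)) = p := (hcomap K P).symm.trans hP
      have hle := CKaehlerFree3.finrank_le_of_regular k A K p n hn₁ P hP'
      obtain ⟨q, hq, hqp, hdim⟩ := hn₂
      haveI := hq.1.1
      obtain ⟨-, -, hflat, -⟩ := CKaehlerFree3.basic_props k A K
      haveI := hflat
      haveI := (CKaehlerFree3.basic_props k A K).1
      haveI : IsDomain (Localization.AtPrime p) := by
        haveI : P.LiesOver p := ⟨hP'.symm⟩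
        letI := (Localization.localRingHom p P (algebraMap A (CKaehlerFree3.CT k A K)) hP'.symm).toAlgebra
        haveI : IsScalarTower A (Localization.AtPrime p) (Localization.AtPrime P) :=
          IsScalarTower.of_algebraMap_eq fun a => by
            rw [IsScalarTower.algebraMap_apply A (CKaehlerFree3.CT k A K) (Localization.AtPrime P)]
            exact (Localization.localRingHom_to_map p P _ hP'.symm a).symm
        haveI : IsLocalHom (algebraMap (Localization.AtPrime p) (Localization.AtPrime P)) :=
          Localization.isLocalHom_localRingHom p P _ hP'.symm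
        haveI : Module.Flat A (Localization.AtPrime P) := Module.Flat.trans A (CKaehlerFree3.CT k A K) _
        haveI : Module.Flat (Localization.AtPrime p) (Localization.AtPrime P) :=
          (Module.flat_iff_of_isLocalization (Localization.AtPrime p) p.primeCompl (Localization.AtPrime P)).2 inferInstance
        haveI : IsRegularLocalRing (Localization.AtPrime p) :=
          RegLoc.isRegularLocalRing_of_flat (Localization.AtPrime p) (Localization.AtPrime P)
        exact RegLoc.isDomain _
      have hgen : Submodule.span p.ResidueField (Set.range fun y : M => (1 : p.ResidueField) ⊗ₜ[A] y) = ⊤ := by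
        rw [eq_top_iff]
        intro z hz
        clear hz
        induction z using TensorProduct.induction_on with
        | zero => exact zero_mem _
        | add a b ha hb => exact add_mem ha hb
        | tmul c y =>
          rw [show c ⊗ₜ[A] y = c • ((1 : p.ResidueField) ⊗ₜ[A] y) by rw [TensorProduct.smul_tmul', smul_eq_mul, mul_one]]
          exact Submodule.smul_mem _ _ (Submodule.subset_span ⟨y, rfl⟩)
      obtain ⟨t, ht, htspan, htind⟩ :=
        exists_linearIndependent p.ResidueField (Set.range fun y : M => (1 : p.ResidueField) ⊗ₜ[A] y)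
      rw [hgen] at htspan
      haveI : Fintype t := Set.Finite.fintype htind.setFinite
      have hcard : Fintype.card t = Module.finrank p.ResidueField (p.ResidueField ⊗[A] M) := by
        rw [← Module.finrank_eq_card_basis (Module.Basis.mk htind (by rw [Subtype.range_coe, htspan]))]
      choose y hy using fun z : t => ht z.2
      let e := Fintype.equivFin t
      let y' : Fin n → M := fun i => if hi : (i : ℕ) < Fintype.card t then y (e.symm ⟨i, hi⟩) else 0
      have hspan : Submodule.span p.ResidueField (Set.range fun i => (1 : p.ResidueField) ⊗ₜ[A] y' i) = ⊤ := by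
        rw [eq_top_iff, ← htspan, Submodule.span_le]
        intro z hz
        refine Submodule.subset_span ⟨⟨e ⟨z, hz⟩, lt_of_lt_of_le (e ⟨z, hz⟩).2 (hcard ▸ hle)⟩, ?_⟩
        simp only [y', Fin.is_lt, dif_pos, Fin.eta, Equiv.symm_apply_apply]
        exact hy ⟨z, hz⟩
      have htop := CKaehlerFree3.localized_span_eq_top p y' hspan
      have hlow : n ≤ Module.finrank q.ResidueField (q.ResidueField ⊗[A] M) := by
        have h2 := S3847.result k A q q hq le_rfl
        rw [hdim, ← Module.finrank_eq_rank, Cardinal.toENat_nat] at h2
        exact_mod_cast h2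
      exact CKaehlerFree3.free_of_rank_at_minimal p q hq hqp _ htop hlow
    tfae_have 3 → 1 := by
      intro h3 K _ _ P _ hP
      obtain ⟨J, _, _, _, _, _, -, ⟨s, hs, hsJ⟩, ⟨g, hg, hE⟩, -⟩ :=
        CKaehlerFree3.exists_chart_of_free k A p hp n hn₁ hn₂ (hgenOf h3)
      exact CKaehlerFree3.isRegularLocalRing_of_chart k A K p n J s hs hsJ g hg hE P ((hcomap K P).symm.trans hP)
    tfae_finish
  · obtain ⟨J, _, _, _, -, -, -, -, -, hgeo⟩ :=
      CKaehlerFree3.exists_chart_of_free k A p hp n hn₁ hn₂ (hgenOf h3)
    exact hgeo

end Groth.Agent.S3851
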