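import Groth.Statements.S3856
import Groth.Agent.Lib.Compl.Noetherian
import Groth.Agent.Lib.LinTop.Complete
import Mathlib.RingTheory.AdicCompletion.Topology

set_option autoImplicit false
universe u
open AdicRing

namespace Groth.Agent.S3856

/-- Let A be a ring that is complete and separated for the J-adic topology of an ideal J. If A/J² is
Noetherian (equivalently, A/J is Noetherian and J/J² is a finitely generated A/J-module), then A is
Noetherian. The published statement is phrased for a formal spectrum Spf(A) all of whose levels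
Spec(A/J^(n+1)) are Noetherian; it is stated here with the weaker hypothesis that A/J² is
Noetherian. -/
theorem result (A : Type u) [CommRing A]
    (J : Ideal A) [IsAdicComplete J A] [IsNoetherianRing (A ⧸ J ^ 2)] : IsNoetherianRing A := by
  classical
  letI : WithIdeal A := ⟨J⟩
  have had : IsAdic J := rfl
  haveI : CompleteSpace A := (had.isAdicComplete_iff.1 inferInstance).1
  haveI : T2Space A := (had.isAdicComplete_iff.1 inferInstance).2
  have hle2 : J ^ 2 ≤ J := Ideal.pow_le_self two_ne_zero
  haveI : IsNoetherianRing (A ⧸ J) :=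
    isNoetherianRing_of_surjective (A ⧸ J ^ 2) (A ⧸ J) (Ideal.Quotient.factor hle2)
      (Ideal.Quotient.factor_surjective hle2)
  obtain ⟨s, hs⟩ := (IsNoetherian.noetherian (J.map (Ideal.Quotient.mk (J ^ 2))) :
    (J.map (Ideal.Quotient.mk (J ^ 2))).FG)
  have hlift : ∀ y : s, ∃ x ∈ J, Ideal.Quotient.mk (J ^ 2) x = y := fun y => by
    refine (Ideal.mem_map_iff_of_surjective _ Ideal.Quotient.mk_surjective).1 ?_
    rw [← hs]
    exact Ideal.subset_span y.2
  choose g hg hg' using hlift
  let K : Ideal A := Ideal.span (Set.range g)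
  have hKfg : K.FG := Submodule.fg_span (Set.finite_range g)
  have hKJ : K ≤ J := Ideal.span_le.2 (Set.range_subset_iff.2 hg)
  have h2 : J ≤ K ⊔ J ^ 2 := by
    intro x hx
    have hle : J.map (Ideal.Quotient.mk (J ^ 2)) ≤ K.map (Ideal.Quotient.mk (J ^ 2)) := by
      rw [← hs]
      refine Ideal.span_le.2 fun y hy => ?_
      rw [show y = _ from (hg' ⟨y, hy⟩).symm]
      exact Ideal.mem_map_of_mem _ (Ideal.subset_span ⟨_, rfl⟩)
    obtain ⟨y, hy, hxy⟩ := (Ideal.mem_map_iff_of_surjective _ Ideal.Quotient.mk_surjective).1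
      (hle (Ideal.mem_map_of_mem _ hx))
    exact Submodule.mem_sup.2 ⟨y, hy, x - y, Ideal.Quotient.eq.1 hxy.symm, by ring⟩
  have hm : ∀ m, J ≤ K ⊔ J ^ (m + 2) := by
    intro m
    induction m with
    | zero => exact h2
    | succ m ih =>
      refine h2.trans (sup_le le_sup_left ?_)
      rw [sq]
      refine (Ideal.mul_mono le_rfl ih).trans ?_
      rw [Ideal.mul_sup, ← pow_succ']
      exact sup_le_sup Ideal.mul_le_right le_rfl
  have hcl : J ≤ K.closure := by
    rw [LinTopH7.le_closure_iff]
    intro U hU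
    obtain ⟨n, hn⟩ := (isAdic_iff.1 had).2 _ (LinTopH7.nhds_of_open hU)
    exact (hm n).trans (sup_le_sup le_rfl ((Ideal.pow_le_pow_right (by omega)).trans hn))
  have hKadic : IsAdic K := LinTopH7.isAdic_of_fg hKfg (fun n => LinTopH7.isOpen_of_le
    (J := (K ^ n).closure) ((Ideal.pow_right_mono hcl n).trans (LinTopH7.closure_pow_le K n))
    ((isAdic_iff.1 had).1 n)) fun U hU => by
    obtain ⟨n, hn⟩ := (isAdic_iff.1 had).2 U hU
    refine ⟨n, subset_trans (LinTopH7.closure_le_of_open (Ideal.pow_right_mono hKJ n) ?_) hn⟩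
    exact (isAdic_iff.1 had).1 n
  have hJK : J ≤ K := hcl.trans
    (LinTopH7.closure_le_of_open le_rfl (by simpa using (isAdic_iff.1 hKadic).1 1))
  exact Compl.isNoetherianRing_of_isAdicComplete J (le_antisymm hJK hKJ ▸ hKfg)

end Groth.Agent.S3856
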