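import Groth.Statements.S3857
import Groth.Agent.Lib.FormalH7.Sys

set_option autoImplicit false
universe u
open FCompl

namespace Groth.Agent.S3857

open AlgebraicGeometry in
/-- Here formal schemes are presented as systems of thickenings, an adic morphism being one all of whose
squares are cartesian. Let S_0 -> S_1 -> ... be a locally Noetherian adic formal system and (X_n ->
S_n) a compatible family of morphisms such that every square X_n -> X_(n+1), S_n -> S_(n+1) is
cartesian. If X_0 is locally Noetherian, then (X_n) is a locally Noetherian adic formal system. -/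
theorem result {𝔛 𝔖 : FSch.Sys.{u}} (f : 𝔛 ⟶ 𝔖)
    (h𝔖 : 𝔖.IsLocNoethFormal) (hf : FSch.IsAdicHom f) [IsLocallyNoetherian (𝔛.X 0)] :
    𝔛.IsLocNoethFormal := by
  exact Groth.Agent.FormalH7.isLocNoethFormal_of_isAdicHom f h𝔖 hf

end Groth.Agent.S3857
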