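import Groth.Statements.S3860
import Mathlib.RingTheory.AdicCompletion.RingHom

set_option autoImplicit false
universe u
open FCompl

namespace Groth.Agent.S3860

open AlgebraicGeometry in
/-- (Affine adic case; the formal spectra presented as the systems Spec(A/I^(n+1)) and Spec(B/K^(n+1)).)
Let I be an ideal of a ring A which is complete and separated for the I-adic topology, and K an
ideal of a ring B. Then φ ↦ (Spec of the induced maps B/K^(n+1) -> A/I^(n+1)) is a bijection from
the ring homomorphisms φ : B -> A with φ(K) ⊆ I onto the morphisms of systems from Spf(A) to Spf(B),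
i.e. the compatible families of morphisms Spec(A/I^(n+1)) -> Spec(B/K^(n+1)). -/
theorem result (A B : Type u) [CommRing A] [CommRing B] (I : Ideal A) (K : Ideal B)
    [IsAdicComplete I A] :
    Function.Bijective (fun φ : {φ : B →+* A // K ≤ I.comap φ} ↦ FSch.spfMap I K φ.1 φ.2) := by
  have inj : ∀ n : ℕ, ∀ p q : B ⧸ K ^ (n + 1) →+* A ⧸ I ^ (n + 1),
      Spec.map (CommRingCat.ofHom p) = Spec.map (CommRingCat.ofHom q) → p = q := fun n p q h =>
    congrArg CommRingCat.Hom.hom (Spec.map_injective h)
  refine ⟨fun φ φ' h => Subtype.ext ?_, fun g => ?_⟩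
  · refine RingHom.ext fun b => ?_
    have hH : ∀ n, φ.1 b ≡ φ'.1 b [SMOD (I ^ n • ⊤ : Ideal A)] := fun n => by
      rcases n with - | n
      · simp
      have h1 := RingHom.congr_fun (inj n _ _ (congrArg (fun ψ => (ψ : FSch.Hom _ _).app n) h)) (Ideal.Quotient.mk _ b)
      rw [SModEq.sub_mem, smul_eq_mul, Ideal.mul_top]
      exact Ideal.Quotient.eq.1 h1
    exact sub_eq_zero.1 (IsHausdorff.haus (inferInstance : IsHausdorff I A) _ fun n => by
      rw [SModEq.sub_mem, sub_zero, ← SModEq.sub_mem]
      exact hH n)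
  · choose ψ hψ using fun n => Spec.map_surjective ((g : FSch.Hom _ _).app n)
    let f : ∀ n : ℕ, B →+* A ⧸ I ^ (n + 1) := fun n => (ψ n).hom.comp (Ideal.Quotient.mk _)
    have hc : ∀ {m : ℕ}, (Ideal.Quotient.factorPow I (Nat.succ_le_succ m.le_succ)).comp (f (m + 1)) = f m := by
      intro m
      have h1 := (g : FSch.Hom _ _).comm m
      rw [← hψ m, ← hψ (m + 1)] at h1
      change CategoryTheory.CategoryStruct.comp (Spec.map (ψ m)) (Spec.map _) =
        CategoryTheory.CategoryStruct.comp (Spec.map _) (Spec.map (ψ (m + 1))) at h1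
      rw [← Spec.map_comp, ← Spec.map_comp] at h1
      have h2 := congrArg CommRingCat.Hom.hom (Spec.map_injective h1)
      exact RingHom.ext fun b => (RingHom.congr_fun h2 (Ideal.Quotient.mk _ b)).symm
    have ha : StrictMono fun n : ℕ => n + 1 := fun a b h => Nat.succ_lt_succ h
    let φ := IsAdicComplete.StrictMono.liftRingHom I ha f hc
    have hφ : ∀ n b, Ideal.Quotient.mk (I ^ (n + 1)) (φ b) = (ψ n).hom (Ideal.Quotient.mk _ b) := fun n b =>
      IsAdicComplete.StrictMono.mk_liftRingHom I ha f hc b
    refine ⟨⟨φ, fun k hk => ?_⟩, FSch.Hom.ext (funext fun n => ?_)⟩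
    · have h0 := hφ 0 k
      have hk1 : k ∈ K ^ (0 + 1) := by simpa using hk
      rw [Ideal.Quotient.eq_zero_iff_mem.2 hk1, map_zero, Ideal.Quotient.eq_zero_iff_mem] at h0
      rw [zero_add, pow_one] at h0
      exact h0
    · rw [← hψ n]
      show Spec.map _ = _
      congr 1
      exact CommRingCat.hom_ext (Ideal.Quotient.ringHom_ext (RingHom.ext fun b => hφ n b))

end Groth.Agent.S3860
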