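import Groth.Statements.S3870
import Groth.Agent.Lib.FormalH7.Stalk

set_option autoImplicit false
universe u
open FCompl

namespace Groth.Agent.S3870

/-- For a ring A, an ideal J and a prime ideal 𝔭, let A{S⁻¹}, S = A ∖ 𝔭, be the completion of A_𝔭 for
the topology defined by the extension of J, and A_{S} the subring of A{S⁻¹} generated by the images
of the completed localizations A_{f}, f ∉ 𝔭 (the stalk at 𝔭 of the structure sheaf of Spf(A), as a
plain ring, when A is adic Noetherian and 𝔭 is open). If A is Noetherian and J ⊆ 𝔭, then A_{S} is a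
Noetherian ring. -/
theorem result (A : Type u) [CommRing A] [IsNoetherianRing A] (J : Ideal A)
    (𝔭 : Ideal A) [𝔭.IsPrime] (hJ : J ≤ 𝔭) : IsNoetherianRing (FSch.stalkSubring A J 𝔭) := by
  exact Groth.Agent.FormalH7.isNoetherianRing_stalkSubring hJ

end Groth.Agent.S3870
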