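import Groth.Statements.S3874
import Groth.Agent.Lib.FormalH7.Stalk

set_option autoImplicit false
universe u
open FCompl

namespace Groth.Agent.S3874

/-- Let A be a Noetherian ring, J an ideal, f ∈ A and n ≥ 0, and let A_{f} be the completion of the
localization A_f for the topology defined by the extension of J. There is a ring isomorphism from
the localization of A/J^(n+1) away from the class of f onto A_{f} modulo the (n+1)-st power of the
extension of J to A_{f}, compatible with the canonical maps from A (and hence unique). In terms of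
formal spectra: the open D(f) of Spf(A) is Spf(A_{f}), and at level n its ring is the ring
(A/J^(n+1))_f of the open D(f) of Spec(A/J^(n+1)). -/
theorem result (A : Type u) [CommRing A] [IsNoetherianRing A] (J : Ideal A)
    (f : A) (n : ℕ) :
    ∃ e : Localization.Away (Ideal.Quotient.mk (J ^ (n + 1)) f) ≃+*
        FSch.cAway A J f ⧸ (J.map (algebraMap A (FSch.cAway A J f))) ^ (n + 1),
      ∀ a : A, e (algebraMap (A ⧸ J ^ (n + 1)) _ (Ideal.Quotient.mk (J ^ (n + 1)) a)) =
        Ideal.Quotient.mk _ (algebraMap A (FSch.cAway A J f) a) := by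
  set I := J ^ (n + 1) with hI
  let q : A →+* Localization.Away f ⧸ I.map (algebraMap A (Localization.Away f)) :=
    (Ideal.Quotient.mk _).comp (algebraMap A _)
  have hfu : IsUnit (q f) := (IsLocalization.Away.algebraMap_isUnit (S := Localization.Away f) f).map (Ideal.Quotient.mk _)
  let qI : A ⧸ I →+* Localization.Away f ⧸ I.map (algebraMap A (Localization.Away f)) :=
    Ideal.Quotient.lift I q (fun a ha => Ideal.Quotient.eq_zero_iff_mem.2 (Ideal.mem_map_of_mem _ ha))
  let u : Localization.Away (Ideal.Quotient.mk I f) →+* Localization.Away f ⧸ I.map (algebraMap A (Localization.Away f)) :=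
    IsLocalization.Away.lift (Ideal.Quotient.mk I f) (g := qI) hfu
  let w : A →+* Localization.Away (Ideal.Quotient.mk I f) := (algebraMap (A ⧸ I) _).comp (Ideal.Quotient.mk I)
  let v0 : Localization.Away f →+* Localization.Away (Ideal.Quotient.mk I f) :=
    IsLocalization.Away.lift f (g := w) (IsLocalization.Away.algebraMap_isUnit (Ideal.Quotient.mk I f))
  have hv0 : ∀ a, v0 (algebraMap A _ a) = w a := fun a => IsLocalization.Away.lift_eq f _ a
  let v : Localization.Away f ⧸ I.map (algebraMap A (Localization.Away f)) →+* Localization.Away (Ideal.Quotient.mk I f) :=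
    Ideal.Quotient.lift _ v0 (fun z hz => by
      refine (Ideal.map_le_iff_le_comap.2 (fun a ha => ?_) : I.map _ ≤ RingHom.ker v0) hz
      rw [Ideal.mem_comap, RingHom.mem_ker, hv0]
      show algebraMap (A ⧸ I) _ (Ideal.Quotient.mk I a) = 0
      rw [Ideal.Quotient.eq_zero_iff_mem.2 ha, map_zero])
  have hu : ∀ a, u (w a) = q a := fun a => IsLocalization.Away.lift_eq (Ideal.Quotient.mk I f) hfu _
  let e0 : Localization.Away (Ideal.Quotient.mk I f) ≃+* Localization.Away f ⧸ I.map (algebraMap A (Localization.Away f)) :=
    RingEquiv.ofRingHom u v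
      (Ideal.Quotient.ringHom_ext (IsLocalization.ringHom_ext (Submonoid.powers f) (RingHom.ext fun a => by
        show u (v0 (algebraMap A _ a)) = q a
        rw [hv0, hu])))
      (IsLocalization.ringHom_ext (Submonoid.powers (Ideal.Quotient.mk I f)) (Ideal.Quotient.ringHom_ext (RingHom.ext fun a => by
        show v (u (w a)) = w a
        rw [hu]
        exact hv0 a)))
  have hfg : (J.map (algebraMap A (Localization.Away f))).FG := Ideal.FG.map (IsNoetherian.noetherian J) _
  let e1 := (Groth.Agent.FormalH7.cplQuotEquiv (J.map (algebraMap A (Localization.Away f))) hfg (n + 1)).symm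
  refine ⟨e0.trans ((Ideal.quotEquivOfEq (Ideal.map_pow _ _ _)).trans (e1.trans (Ideal.quotEquivOfEq ?_))), fun a => ?_⟩
  · rw [Ideal.map_pow, Ideal.map_map]
    rfl
  · have h0 : e0 (algebraMap (A ⧸ I) _ (Ideal.Quotient.mk I a)) = q a := hu a
    have h1 : e1 (Ideal.Quotient.mk _ (algebraMap A (Localization.Away f) a)) =
        Ideal.Quotient.mk _ (algebraMap A (FSch.cAway A J f) a) := by
      rw [RingEquiv.symm_apply_eq, Groth.Agent.FormalH7.cplQuotEquiv_mk, AdicCompletion.algebraMap_apply,
        AdicCompletion.evalₐ_of]
    simp only [RingEquiv.trans_apply]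
    rw [h0]
    simp only [q, RingHom.comp_apply, Ideal.quotEquivOfEq_mk]
    rw [h1, Ideal.quotEquivOfEq_mk]

end Groth.Agent.S3874
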