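import Groth.Statements.S3877
import Groth.Agent.Lib.ExtColim.Support

set_option autoImplicit false
open CategoryTheory CategoryTheory.Limits Opposite
universe u
open ToposFin

namespace Groth.Agent.S3877

/-- Let E be the topos of sheaves on a small site and assume E is coherent, i.e. an algebraic topos
whose final object is coherent. Then for every q the functor F ↦ H^q(E, F) on abelian sheaves (Ext
groups out of the constant sheaf Z) preserves colimits indexed by any small filtered category. -/
theorem result {C : Type u} [SmallCategory C]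
    {J : GrothendieckTopology C} (hE : ToposFin.IsAlgebraic J) (hT : ToposFin.IsCoherent (⊤_ (ToposFin.Sh J)))
    (Λ : Type u) [SmallCategory Λ] [IsFiltered Λ] (q : ℕ) :
    PreservesColimitsOfShape Λ (Sheaf.functorH J q : Sheaf J AddCommGrpCat.{u} ⥤ AddCommGrpCat.{u}) := by
  let M := (Groth.Agent.SiteCoh.frP J).obj (⊤_ (ToposFin.Sh J)).obj
  haveI : ∀ D : Λ ⥤ Sheaf J AddCommGrpCat.{u},
      PreservesColimit D ((Abelian.extFunctor.{u} q).obj (Opposite.op M)) := fun D =>
    Groth.Agent.ExtColim.preservesColimit_extFunctor
      (Groth.Agent.CohColim.free_surj_inj hE hT q D).1 (Groth.Agent.CohColim.free_surj_inj hE hT q D).2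
  haveI : PreservesColimitsOfShape Λ ((Abelian.extFunctor.{u} q).obj (Opposite.op M)) := ⟨fun {_} => inferInstance⟩
  obtain ⟨e⟩ := Groth.Agent.CohColim.nonempty_freeTerminalIso (J := J)
  exact preservesColimitsOfShape_of_natIso
    (F := (Abelian.extFunctor.{u} q).obj (Opposite.op M)) ((Abelian.extFunctor.{u} q).mapIso e.symm.op)

end Groth.Agent.S3877
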