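import Groth.Statements.S3882
import Groth.Agent.Lib.HyperH28.Kill

set_option autoImplicit false
universe u
open CategoryTheory
open Hyper

namespace Groth.Agent.S3882

open Opposite CategoryTheory.Limits in
/-- The statement its proof reduces the result to (hypercoverings of an object X of a small site with
fibre products; coskeleta assumed to exist): let N be a presheaf of abelian groups whose associated
sheaf is zero, K a hypercovering of X and ξ a class in the p-th Cech cohomology group of N with
respect to K. Then there is a morphism of hypercoverings f : L -> K such that ξ maps to zero in the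
p-th Cech cohomology group of N with respect to L. (So Cech cohomology over all hypercoverings up to
homotopy kills such presheaves in every degree.) -/
theorem result {C : Type u} [SmallCategory C] [HasPullbacks C]
    (J : GrothendieckTopology C) (X : C)
    [∀ (n : ℕ) (F : (SimplexCategory.Truncated n)ᵒᵖ ⥤ Limits.FormalCoproduct.{u} (Over X)),
      (SimplexCategory.Truncated.inclusion n).op.HasRightKanExtension F]
    (K : SimplicialObject (FormalCoproduct.{u} (Over X))) (hK : Hyper.IsHypercovering J X K)
    (N : Cᵒᵖ ⥤ AddCommGrpCat.{u}) (hN : IsZero ((presheafToSheaf J AddCommGrpCat.{u}).obj N))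
    (p : ℕ) (ξ : Hyper.cechH X K N p) :
    ∃ (L : SimplicialObject (FormalCoproduct.{u} (Over X))) (f : L ⟶ K),
      Hyper.IsHypercovering J X L ∧ Hyper.cechHMap X f N p ξ = 0 := by
  exact Groth.Agent.HyperH28.exists_class_killed_of_zero J X K hK N hN p ξ

end Groth.Agent.S3882
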