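import Groth.Statements.S3886
import Mathlib.AlgebraicTopology.SimplicialObject.ChainHomotopy

set_option autoImplicit false
universe u
open CategoryTheory
open Hyper

namespace Groth.Agent.S3886

open Opposite CategoryTheory.Limits in
/-- Let a, b : L -> K be two morphisms of simplicial semi-representable objects over an object X of a
small category (simplicial objects in formal coproducts of objects over X), homotopic in the
combinatorial (simplicial) sense. Then for every presheaf of abelian groups P and every p, a and b
induce the same map from the p-th Cech cohomology group of P with respect to K to that with respect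
to L. -/
theorem result {C : Type u} [SmallCategory C] (X : C)
    {K L : SimplicialObject (FormalCoproduct.{u} (Over X))} (a b : L ⟶ K)
    (h : Nonempty (SimplicialObject.Homotopy a b)) (P : Cᵒᵖ ⥤ AddCommGrpCat.{u}) (p : ℕ) :
    Hyper.cechHMap X a P p = Hyper.cechHMap X b P p := by
  obtain ⟨H⟩ := h
  let G : FormalCoproduct.{u} (Over X) ⥤ AddCommGrpCat.{u}ᵒᵖ :=
    ((FormalCoproduct.evalOp.{u} (Over X) AddCommGrpCat.{u}).obj ((Over.forget X).op ⋙ P)).rightOp
  have c := (H.whiskerRight G).toChainHomotopy
  have hd : ∀ (Z : SimplicialObject (FormalCoproduct.{u} (Over X))) (n : ℕ),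
      ((AlgebraicTopology.alternatingFaceMapComplex AddCommGrpCat.{u}ᵒᵖ).obj
        (((SimplicialObject.whiskering _ _).obj G).obj Z)).d (n + 1) n =
        ((Hyper.cechCx X Z P).d n (n + 1)).op := by
    intro Z n
    apply Quiver.Hom.unop_inj
    rw [AlgebraicTopology.alternatingFaceMapComplex_obj_d]
    show _ = (Hyper.cechCx X Z P).d n (n + 1)
    refine Eq.trans ?_ (CochainComplex.of_d (V := AddCommGrpCat.{u}) _ _ n).symm
    rw [AlgebraicTopology.AlternatingCofaceMapComplex.d_eq_unop_d]
    rfl
  let e : ∀ i j, (Hyper.cechCx X K P).X i ⟶ (Hyper.cechCx X L P).X j := fun i j => (c.hom j i).unop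
  have key : Homotopy (Hyper.cechMap X a P) (Hyper.cechMap X b P) :=
    { hom := e
      zero := fun i j hij => by
        show (c.hom j i).unop = _
        rw [c.zero j i (fun h' => hij h')]
        rfl
      comm := fun n => by
        have hc := congrArg Quiver.Hom.unop (c.comm n)
        cases n with
        | zero =>
          rw [dNext_eq_zero _ _ (by simp), zero_add, prevD_eq (j' := 1) (w := by simp), hd] at hc
          rw [prevD_eq_zero e 0 (by simp), add_zero,
            dNext_eq e (show (ComplexShape.up ℕ).Rel 0 1 from rfl)]
          exact hc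
        | succ n =>
          rw [dNext_eq (i' := n) (w := by simp), prevD_eq (j' := n + 2) (w := by simp), hd, hd] at hc
          rw [dNext_eq e (show (ComplexShape.up ℕ).Rel (n + 1) (n + 2) from rfl),
            prevD_eq e (show (ComplexShape.up ℕ).Rel n (n + 1) from rfl), add_comm (_ ≫ _) (_ ≫ _)]
          exact hc }
  show AddCommGrpCat.Hom.hom (HomologicalComplex.homologyMap (Hyper.cechMap X a P) p) =
    AddCommGrpCat.Hom.hom (HomologicalComplex.homologyMap (Hyper.cechMap X b P) p)
  rw [key.homologyMap_eq p]

end Groth.Agent.S3886
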