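import Groth.Statements.S3892
import Groth.Agent.Lib.HyperH28.ColimCech

set_option autoImplicit false
universe u
open CategoryTheory
open Hyper

namespace Groth.Agent.S3892

open Opposite CategoryTheory.Limits in
/-- A map-free consequence in each degree of the comparison between Cech cohomology over hypercoverings
and sheaf cohomology (hypercoverings of an object X of a small site with fibre products; coskeleta
assumed to exist): for a presheaf of abelian groups G with associated sheaf G^# and q ≥ 0, the group
H^q(X, G^#) is zero if and only if for every hypercovering K of X and every class ξ in the q-th Cech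
cohomology group of the presheaf G with respect to K there is a morphism of hypercoverings f : L ->
K such that ξ maps to zero with respect to L. This is weaker than the published statement, an
isomorphism between the colimit of these Cech groups over all hypercoverings and H^q(X, G^#). -/
theorem result {C : Type u} [SmallCategory C] [HasPullbacks C]
    (J : GrothendieckTopology C) (X : C)
    [∀ (n : ℕ) (F : (SimplexCategory.Truncated n)ᵒᵖ ⥤ Limits.FormalCoproduct.{u} (Over X)),
      (SimplexCategory.Truncated.inclusion n).op.HasRightKanExtension F]
    (G : Cᵒᵖ ⥤ AddCommGrpCat.{u}) (q : ℕ) :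
    Subsingleton (CohSite.HU ((presheafToSheaf J AddCommGrpCat.{u}).obj G) q X) ↔
      ∀ (K : SimplicialObject (FormalCoproduct.{u} (Over X))), Hyper.IsHypercovering J X K →
        ∀ ξ : Hyper.cechH X K G q, ∃ (L : SimplicialObject (FormalCoproduct.{u} (Over X))) (f : L ⟶ K),
          Hyper.IsHypercovering J X L ∧ Hyper.cechHMap X f G q ξ = 0 := by
  cases q with
  | zero =>
    rw [Groth.Agent.HyperH28.subsingleton_HU_zero_iff_dies X J]
    exact (Groth.Agent.HyperH28.diesZero_sheafify_iff X J G).trans
      (Groth.Agent.HyperH28.forall_class_dies_iff_zero X J G).symm
  | succ p =>
    rw [Groth.Agent.HyperH28.subsingleton_HU_succ_iff_dies X J p]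
    exact (Groth.Agent.HyperH28.diesSucc_sheafify_iff X J G p).trans
      (Groth.Agent.HyperH28.forall_class_dies_iff_succ X J G p).symm

end Groth.Agent.S3892
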