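import Groth.Statements.S3893
import Groth.Agent.Lib.HyperH28.Acyclic

set_option autoImplicit false
universe u
open CategoryTheory
open Hyper

namespace Groth.Agent.S3893

open Opposite CategoryTheory.Limits in
/-- (Degenerate case of the spectral sequence of a hypercovering; hypercoverings of an object X of a
small site with fibre products, coskeleta assumed to exist.) Let F be an abelian sheaf with H^q(U,
F) = 0 for every object U of the site and every q > 0. Then for every hypercovering K of X the Cech
cohomology groups of F with respect to K vanish in positive degrees. -/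
theorem result {C : Type u} [SmallCategory C] [HasPullbacks C]
    (J : GrothendieckTopology C) (X : C)
    [∀ (n : ℕ) (F : (SimplexCategory.Truncated n)ᵒᵖ ⥤ Limits.FormalCoproduct.{u} (Over X)),
      (SimplexCategory.Truncated.inclusion n).op.HasRightKanExtension F]
    (F : Sheaf J AddCommGrpCat.{u}) (hF : ∀ (U : C) (q : ℕ), Subsingleton (CohSite.HU F (q + 1) U))
    (K : SimplicialObject (FormalCoproduct.{u} (Over X))) (hK : Hyper.IsHypercovering J X K) (p : ℕ) :
    IsZero (Hyper.cechH X K F.obj (p + 1)) := by
  rw [Hyper.cechH, ← HomologicalComplex.exactAt_iff_isZero_homology,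
    HomologicalComplex.exactAt_iff' _ p (p + 1) (p + 1 + 1) (by simp) (by simp), ShortComplex.ab_exact_iff]
  exact Groth.Agent.HyperH28.isZero_cech_succ_of_acyclic J X K
    (Groth.Agent.HyperH28.isLocContr_of_site K (J.over X) (Groth.Agent.HyperH28.isHypercoveringSite_over J X K hK))
    (Groth.Agent.HyperH28.isZeroOneCover_of_hypercovering J X K hK) p F hF

end Groth.Agent.S3893
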