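import Groth.Statements.S3894


set_option autoImplicit false
universe u
open CategoryTheory CategoryTheory.Limits Opposite
open Tors

namespace Groth.Agent.S3894

/-- A torsor P under an abelian sheaf G is trivial, i.e. equivariantly isomorphic to G acting on itself
by translations, if and only if P has a global section (a morphism from the final sheaf of sets). -/
theorem result {C : Type u} [SmallCategory C] {J : GrothendieckTopology C}
    {G : Sheaf J AddCommGrpCat.{u}} (T : Tors.Torsor G) : T.IsTrivial ↔ T.HasSection := by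
  let F := (sheafCompose J (forget AddCommGrpCat.{u})).obj G
  constructor
  · rintro ⟨e, he⟩
    refine ⟨⟨{ app := fun U => TypeCat.ofHom fun _ => e.hom.hom.app U (0 : G.obj.obj U), naturality := ?_ }⟩⟩
    intro U V f
    ext x
    have h2 := ConcreteCategory.congr_hom (e.hom.hom.naturality f) (0 : G.obj.obj U)
    have h3 : G.obj.map f (0 : G.obj.obj U) = 0 := map_zero _
    refine Eq.trans ?_ h2
    exact congrArg (e.hom.hom.app V) h3.symm
  · rintro ⟨s⟩
    let z : F ⟶ ⊤_ _ := terminal.from F
    let p (U : Cᵒᵖ) : T.P.obj.obj U := s.hom.app U (z.hom.app U (0 : G.obj.obj U))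
    have hp {U V : Cᵒᵖ} (f : U ⟶ V) : T.P.obj.map f (p U) = p V := by
      have h2 := ConcreteCategory.congr_hom ((z ≫ s).hom.naturality f) (0 : G.obj.obj U)
      have h3 : G.obj.map f (0 : G.obj.obj U) = 0 := map_zero _
      refine Eq.trans h2.symm ?_
      exact congrArg ((z ≫ s).hom.app V) h3
    let φ : F.obj ⟶ T.P.obj :=
      { app := fun U => TypeCat.ofHom fun (g : G.obj.obj U) => T.vadd g (p U)
        naturality := fun U V f => by
          ext g
          have h4 := T.map_vadd f g (p U)
          rw [hp f] at h4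
          exact h4.symm }
    haveI : ∀ U, IsIso (φ.app U) := fun U => by
      rw [isIso_iff_bijective]
      exact ⟨fun g h hgh => (T.free_transitive (p U) (T.vadd g (p U))).unique rfl hgh.symm,
        fun q => (T.free_transitive (p U) q).exists⟩
    haveI : IsIso φ := NatIso.isIso_of_isIso_app φ
    haveI hiso : IsIso (⟨φ⟩ : F ⟶ T.P) := by
      haveI : IsIso ((sheafToPresheaf J (Type u)).map (⟨φ⟩ : F ⟶ T.P)) := ‹IsIso φ›
      exact isIso_of_fully_faithful (sheafToPresheaf J (Type u)) (⟨φ⟩ : F ⟶ T.P)
    exact ⟨@asIso _ _ _ _ (⟨φ⟩ : F ⟶ T.P) hiso, fun U g h => T.add_vadd g h (p U)⟩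

end Groth.Agent.S3894
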