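import Groth.Statements.S3951
import Groth.Agent.Lib.RedCell16.Open

set_option linter.style.haveILetI false
set_option backward.isDefEq.respectTransparency false
set_option backward.isDefEq.respectTransparency.types false
-- import your own Groth.Agent.* helpers here

set_option autoImplicit false
open CategoryTheory MonoidalCategory CartesianMonoidalCategory MonObj GrpObj AlgebraicGeometry
universe u
open RedSub

namespace Groth.Agent.S3951

/-- Let G be a split reductive S-group (splitting D) and b a system of simple roots of its root datum,
with positive roots R_+ and negative roots R_-. For enumerations e⁻ of R_- and e⁺ of R_+ in any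
order, the morphism G_a^{R_-} x_S T x_S G_a^{R_+} ⟶ G given by the ordered product of the root
homomorphisms and the torus is an open immersion, and its image (the big cell) does not depend on
the chosen orderings. -/
theorem result {S : Scheme.{u}} {G : Over S} [GrpObj G] (D : Red.SplitRed G) (b : D.P.Base)
    {n m : ℕ} (eneg : Fin n → D.idx) (epos : Fin m → D.idx)
    (hneg : RedSub.Enumerates (RedSub.negRoots D.P b) eneg) (hpos : RedSub.Enumerates (RedSub.posRoots D.P b) epos) :
    IsOpenImmersion (RedSub.cellMap D eneg epos).left ∧
      ∀ (eneg' : Fin n → D.idx) (epos' : Fin m → D.idx), RedSub.Enumerates (RedSub.negRoots D.P b) eneg' →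
        RedSub.Enumerates (RedSub.posRoots D.P b) epos' →
        Set.range (RedSub.cellMap D eneg' epos').left.base = Set.range (RedSub.cellMap D eneg epos).left.base := by
  refine ⟨RedCell16.isOpenImmersion_cellMap D b eneg epos hneg hpos, fun eneg' epos' hneg' hpos' => ?_⟩
  exact Set.Subset.antisymm (RedCell16.range_cellMap_le D b eneg epos hneg hpos eneg' epos' hneg' hpos')
    (RedCell16.range_cellMap_le D b eneg' epos' hneg' hpos' eneg epos hneg hpos)

end Groth.Agent.S3951
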