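import Groth.Statements.S3952
import Groth.Agent.Lib.RedCell16.BorelField
import Groth.Agent.Lib.GrpLaw19.Basic

set_option linter.style.haveILetI false
set_option backward.isDefEq.respectTransparency false
set_option backward.isDefEq.respectTransparency.types false
-- import your own Groth.Agent.* helpers here

set_option autoImplicit false
open CategoryTheory MonoidalCategory CartesianMonoidalCategory MonObj GrpObj AlgebraicGeometry
universe u
open RedSub

namespace Groth.Agent.S3952

/-- Let G be a split reductive S-group (splitting D), b a system of simple roots and e an enumeration of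
the positive roots in any order. Then the morphism T x_S G_a^{R_+} ⟶ G, (t, x) ↦ i(t) u_{e 0}(x_0) ⋯
u_{e (m-1)}(x_{m-1}), is a closed immersion, and its image is a Borel subgroup of G: there are a
Borel subgroup B ⟶ G (closed, smooth, with Borel geometric fibres) and an isomorphism of T x_S
G_a^{R_+} with B over G. -/
theorem result {S : Scheme.{u}} {G : Over S} [GrpObj G] (D : Red.SplitRed G)
    (b : D.P.Base) {m : ℕ} (epos : Fin m → D.idx) (hpos : RedSub.Enumerates (RedSub.posRoots D.P b) epos) :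
    IsClosedImmersion (RedSub.borelMap D epos).left ∧
      ∃ (B : Over S) (_ : GrpObj B) (i : B ⟶ G) (e : D.T ⊗ RedSub.pow (Red.Ga S) m ≅ B),
        Red.IsBorel i ∧ e.hom ≫ i = RedSub.borelMap D epos := by

  classical
  obtain ⟨n, m', eneg, -, hneg, -⟩ := RedCell16.exists_enum D b
  haveI hcl := RedCell16.isClosedImmersion_borelMap D eneg epos b hneg hpos
  refine ⟨hcl, ?_⟩
  haveI : Mono (RedSub.borelMap D epos) := Over.mono_of_mono_left _
  haveI := RedCell16.smooth_borelDom D m
  rcases isEmpty_or_nonempty S with hS | hS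
  · choose mm hm using fun (_ : Unit) => (⟨_, (RedCell16.hom_subsingleton ((D.T ⊗ RedSub.pow (Red.Ga S) m) ⊗ (D.T ⊗ RedSub.pow (Red.Ga S) m)) G).2.elim
      ((RedCell16.hom_subsingleton _ (D.T ⊗ RedSub.pow (Red.Ga S) m)).1.some ≫ RedSub.borelMap D epos) _⟩ :
      ∃ d, d ≫ RedSub.borelMap D epos = (fst _ _ ≫ RedSub.borelMap D epos) * (snd _ _ ≫ RedSub.borelMap D epos))
    obtain ⟨ee⟩ := (RedCell16.hom_subsingleton (𝟙_ (Over S)) (D.T ⊗ RedSub.pow (Red.Ga S) m)).1
    refine ⟨_, SubGrp13.grpObjOfMono (RedSub.borelMap D epos) (hm ()) (e := ee) ((RedCell16.hom_subsingleton _ G).2.elim _ _)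
      (n := 𝟙 _) ((RedCell16.hom_subsingleton _ G).2.elim _ _), RedSub.borelMap D epos, Iso.refl _,
      ⟨SubGrp13.isMonHom_grpObjOfMono _ _ _ _, hcl, inferInstance, fun s => isEmptyElim s⟩, Category.id_comp _⟩
  obtain ⟨s₀⟩ := hS
  haveI := RedCell16.isReduced D s₀
  obtain ⟨hgrp, hmon⟩ := RedCell16.exists_grpObj D b epos hpos
  letI := hgrp
  haveI := hmon
  refine ⟨_, hgrp, RedSub.borelMap D epos, Iso.refl _, ⟨hmon, hcl, inferInstance, fun s => ?_⟩, Category.id_comp _⟩
  let φ := Red.geomPt s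
  let K := AlgebraicClosure (S.residueField s)
  let DK := RedCell16.geomSplit D s
  haveI : DK.P.IsReduced := RedCell16.isReduced D s
  haveI := D.maximalTorus.1
  have hG := D.reductive.2.2 s
  haveI : IsAffineHom G.hom := D.reductive.1
  haveI : Smooth G.hom := D.reductive.2.1
  haveI : IsAffine (Red.bc φ G).left := hG.1
  haveI : Smooth (Red.bc φ G).hom := hG.2.1
  haveI : ConnectedSpace (Red.bc φ G).left := hG.2.2.1
  haveI hci : IsClosedImmersion ((Over.pullback φ).map (RedSub.borelMap D epos)).left :=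
    MorphismProperty.overPullbackMap (P := @IsClosedImmersion) φ (RedSub.borelMap D epos) hcl
  refine ⟨inferInstance, hci, MorphismProperty.pullback_snd (P := @Smooth) _ _ inferInstance, ?_,
    GrpLaw19.isSolvableGrp_bc φ (RedCell16.isSolvableGrp_borel D b epos hpos eneg hneg),
    fun B' _ i' _ f hc' hs' hn' hsol' hf => ?_⟩
  · let e : Red.bc φ (D.T ⊗ RedSub.pow (Red.Ga S) m) ≅ Red.bc φ D.T ⊗ RedSub.pow (Red.Ga _) m :=
      (Functor.Monoidal.μIso (Over.pullback φ) D.T (RedSub.pow (Red.Ga S) m)).symm ≪≫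
        (Iso.refl _ ⊗ᵢ RedCell16.powBc φ m)
    haveI : IsIso e.inv.left := inferInstanceAs (IsIso ((Over.forget _).map e.inv))
    obtain ⟨-, h1, h2, -⟩ := TorPts21.props_of_isTorus DK.maximalTorus.2.2.1
    haveI := h1
    haveI := h2
    haveI := RedCell16.connectedSpace_powGa (K := K) m
    letI := RedCell16.grpPow (k := K) m
    haveI : Smooth (RedSub.pow (Red.Ga (Spec (CommRingCat.of K))) m).hom := (RedCell16.lft_pow (k := K) m).2.1
    haveI := RedCell16.connectedSpace_grpTensor (Red.bc φ D.T) (RedSub.pow (Red.Ga (Spec (CommRingCat.of K))) m)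
    exact e.inv.left.surjective.connectedSpace e.inv.left.continuous
  · haveI := hc'
    haveI := hs'
    haveI := hn'
    obtain ⟨t₀, ht₀⟩ := (RedCell16.factor_iff D b epos hpos D.i).2
      (by simpa using RedCell16.torus_mem_borelPts D b (𝟙 D.T))
    have hu₀ : ∀ c ∈ RedSub.posRoots D.P b, ∃ w, w ≫ RedSub.borelMap D epos = D.u c := fun c hc =>
      (RedCell16.factor_iff D b epos hpos _).2 (RedCell16.gens_le_borelPts D b (by
        rw [show D.u c = RankOne.P (D.u c) (Red.gaFn (𝟙 (Red.Ga S))) by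
          rw [RankOne.P, GaPts.gaFn_injective (GaPts.gaFn_ptOfFn (Red.gaFn (𝟙 (Red.Ga S)))), Category.id_comp]]
        exact RedCell16.P_mem_gens D hc _))
    refine RedCell16.isIso_of_pts _ i' f hf fun x => ?_
    let ψ : RankOne16.kPt (𝟙 (Spec (CommRingCat.of K))) ⟶ VecGrp.pt K K := Over.homMk (𝟙 _) (by
      show 𝟙 _ ≫ Spec.map (CommRingCat.ofHom (algebraMap K K)) = 𝟙 _
      rw [show CommRingCat.ofHom (algebraMap K K) = 𝟙 _ from rfl, Spec.map_id, Category.comp_id])
    let ψ' : VecGrp.pt K K ⟶ RankOne16.kPt (𝟙 (Spec (CommRingCat.of K))) := Over.homMk (𝟙 _) (by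
      show 𝟙 _ ≫ 𝟙 _ = Spec.map (CommRingCat.ofHom (algebraMap K K))
      rw [show CommRingCat.ofHom (algebraMap K K) = 𝟙 _ from rfl, Spec.map_id, Category.comp_id])
    have key := RedCell16.mem_borelPts_of_solvable DK b i' hsol' ((Over.pullback φ).map t₀ ≫ f)
      (by rw [Category.assoc, hf, ← Functor.map_comp, ht₀]) (fun c hc => by
        obtain ⟨w, hw⟩ := hu₀ c hc
        exact ⟨(RedCell16.gaBc φ).inv ≫ (Over.pullback φ).map w ≫ f, by
          rw [Category.assoc, Category.assoc, hf, ← Functor.map_comp, hw]; rfl⟩) (ψ ≫ x)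
    let R : Subgroup (RankOne16.kPt (𝟙 (Spec (CommRingCat.of K))) ⟶ Red.bc φ G) :=
      (MonoidHom.mk' (fun y => y ≫ (Over.pullback φ).map (RedSub.borelMap D epos)) fun y y' => MonObj.mul_comp y y' _).range
    obtain ⟨τ, z, hz, e⟩ := key
    have hzR : z ∈ R := by
      refine (Subgroup.closure_le (K := R)).2 ?_ hz
      rintro _ ⟨c, a, hc, rfl⟩
      obtain ⟨w, hw⟩ := hu₀ c hc
      exact ⟨GaPts.ptOfFn a ≫ (RedCell16.gaBc φ).inv ≫ (Over.pullback φ).map w, by
        show (GaPts.ptOfFn a ≫ (RedCell16.gaBc φ).inv ≫ (Over.pullback φ).map w) ≫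
          (Over.pullback φ).map (RedSub.borelMap D epos) = RankOne.P (DK.u c) a
        rw [Category.assoc, Category.assoc, ← Functor.map_comp, hw]
        rfl⟩
    have hτR : τ ≫ DK.i ∈ R := ⟨τ ≫ (Over.pullback φ).map t₀, by
      show (τ ≫ (Over.pullback φ).map t₀) ≫ (Over.pullback φ).map (RedSub.borelMap D epos) = τ ≫ DK.i
      rw [Category.assoc, ← Functor.map_comp, ht₀]⟩
    obtain ⟨y, hy⟩ : (ψ ≫ x) ≫ i' ∈ R := e ▸ mul_mem hτR hzR
    refine ⟨ψ' ≫ y, ?_⟩
    rw [Category.assoc, show y ≫ (Over.pullback φ).map (RedSub.borelMap D epos) = (ψ ≫ x) ≫ i' from hy,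
      ← Category.assoc, ← Category.assoc, show ψ' ≫ ψ = 𝟙 _ from Over.OverMorphism.ext (Category.comp_id _), Category.id_comp]

end Groth.Agent.S3952
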