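import Groth.Statements.S3955
import Groth.Agent.Lib.RedCell16.BruhatCells

set_option linter.style.haveILetI false
set_option backward.isDefEq.respectTransparency false
set_option backward.isDefEq.respectTransparency.types false
-- import your own Groth.Agent.* helpers here

set_option autoImplicit false
open CategoryTheory MonoidalCategory CartesianMonoidalCategory MonObj GrpObj AlgebraicGeometry
universe u
open RedSub

namespace Groth.Agent.S3955

/-- Let G be a split reductive S-group (splitting D), b a system of simple roots with enumeration e⁺ of
the positive roots, and n a family of S-points of G realising the reflections. For a word l in the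
roots let w_l be the corresponding Weyl group element, n_l the product of the n's along l, and C_l
the image of the Bruhat cell map (y, t, x) ↦ ∏_{a ∈ R_- ∩ w_l(R_-)} u_a(y_a) · n_l · t · ∏_{a ∈ R_+}
u_a(x_a). Then the C_l, for w_l ranging over the Weyl group, partition the underlying space of G:
every point lies in some C_l, and if a point lies in C_l and C_{l'} then w_l = w_{l'}. -/
theorem result {S : Scheme.{u}} {G : Over S} [GrpObj G] (D : Red.SplitRed G) (b : D.P.Base)
    {m : ℕ} (epos : Fin m → D.idx) (hpos : RedSub.Enumerates (RedSub.posRoots D.P b) epos)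
    (nr : D.idx → (𝟙_ (Over S) ⟶ G)) (hnr : RedSub.RealisesReflections D nr) :
    (∀ x : ↥G.left, ∃ (l : List D.idx) (k : ℕ) (e : Fin k → D.idx),
      RedSub.Enumerates (RedSub.negMeetNeg D.P b (RedSub.wordPerm D.P l)) e ∧
        x ∈ Set.range (RedSub.bruhatMap D nr l e epos).left.base) ∧
    ∀ (l l' : List D.idx) (k k' : ℕ) (e : Fin k → D.idx) (e' : Fin k' → D.idx) (x : ↥G.left),
      RedSub.Enumerates (RedSub.negMeetNeg D.P b (RedSub.wordPerm D.P l)) e →
      RedSub.Enumerates (RedSub.negMeetNeg D.P b (RedSub.wordPerm D.P l')) e' →
      x ∈ Set.range (RedSub.bruhatMap D nr l e epos).left.base →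
      x ∈ Set.range (RedSub.bruhatMap D nr l' e' epos).left.base →
      RedSub.wordPerm D.P l = RedSub.wordPerm D.P l' := by
  refine ⟨fun x => ?_, fun l l' k k' e e' x he he' hx hx' => ?_⟩
  · haveI := RedCell16.isReduced D (G.hom x)
    exact RedCell16.exists_mem_bruhat D hnr x epos hpos
  · haveI := RedCell16.isReduced D (G.hom x)
    exact RedCell16.wordPerm_eq_of_mem D hnr e e' epos hpos he he' hx hx'

end Groth.Agent.S3955
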