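import Groth.Statements.S3956
import Groth.Agent.Lib.RedCell16.BruhatCells
import Groth.Agent.Lib.RedCell16.Generate

set_option linter.style.haveILetI false
set_option backward.isDefEq.respectTransparency false
set_option backward.isDefEq.respectTransparency.types false
-- import your own Groth.Agent.* helpers here

set_option autoImplicit false
open CategoryTheory MonoidalCategory CartesianMonoidalCategory MonObj GrpObj AlgebraicGeometry
universe u
open RedSub

namespace Groth.Agent.S3956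

/-- Let A be a local ring, S = Spec A, and G a split reductive S-group with a pinning D (splitting plus
simple roots). Then the group G(S) of sections is generated by T(S) together with the sections of
the root groups u_a(G_a(S)) for a a simple root or the negative of a simple root. -/
theorem result {A : Type u} [CommRing A] [IsLocalRing A]
    {G : Over (Spec (CommRingCat.of A))} [GrpObj G] (D : Red.Pinning G) :
    Subgroup.closure
        ({g : 𝟙_ (Over (Spec (CommRingCat.of A))) ⟶ G | ∃ t : 𝟙_ _ ⟶ D.T, g = t ≫ D.i} ∪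
          {g | ∃ a : D.idx, (a ∈ D.base.support ∨ D.P.reflectionPerm a a ∈ D.base.support) ∧
            ∃ x : 𝟙_ _ ⟶ Red.Ga (Spec (CommRingCat.of A)), g = x ≫ D.u a}) = ⊤ := by
  haveI := RedCell16.isReduced D.toSplitRed (IsLocalRing.closedPoint A : Spec (CommRingCat.of A))
  haveI := D.fintypeIdx
  haveI := D.maximalTorus.1
  haveI := fun c => (D.rootHom c).1
  let D' := D.toSplitRed
  rw [eq_top_iff]
  rintro g -
  set H := Subgroup.closure
        ({g : 𝟙_ (Over (Spec (CommRingCat.of A))) ⟶ G | ∃ t : 𝟙_ _ ⟶ D.T, g = t ≫ D.i} ∪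
          {g | ∃ a : D.idx, (a ∈ D.base.support ∨ D.P.reflectionPerm a a ∈ D.base.support) ∧
            ∃ x : 𝟙_ _ ⟶ Red.Ga (Spec (CommRingCat.of A)), g = x ≫ D.u a}) with hH
  have hT : ∀ t : 𝟙_ _ ⟶ D.T, t ≫ D.i ∈ H := fun t => Subgroup.subset_closure (Or.inl ⟨t, rfl⟩)
  have hP0 : ∀ a, a ∈ D.base.support ∨ D.P.reflectionPerm a a ∈ D.base.support → ∀ y, RankOne.P (D.u a) y ∈ H :=
    fun a ha y => Subgroup.subset_closure (Or.inr ⟨a, ha, GaPts.ptOfFn y, rfl⟩)
  have hW : ∀ a ∈ D.base.support, ∃ pm, ∃ E : RankOne.Datum D.i (RedCell16.rootChar D' a) (D.u a) pm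
      (RedCell16.coChar D' a), (RankOne16.W (D.u a) pm : 𝟙_ _ ⟶ G) ∈ H := fun a ha => by
    obtain ⟨vd, cu, -, hvd, E⟩ := RedCell16.exists_dual D' a
    refine ⟨vd, E, ?_⟩
    show RankOne.P (D.u a) 1 * RankOne.P vd (-1) * RankOne.P (D.u a) 1 ∈ H
    rw [hvd]
    exact Subgroup.mul_mem _ (Subgroup.mul_mem _ (hP0 a (Or.inl ha) _)
      (hP0 _ (Or.inr (by show RootDLib.ng D.P (RootDLib.ng D.P a) ∈ _; rw [RootDLib.ng_ng]; exact ha)) _)) (hP0 a (Or.inl ha) _)
  have hN : ∀ {h : 𝟙_ _ ⟶ G} {v : D.P.Aut}, v ∈ D.P.weylGroup → RedCell16.Nrm D' h v → h ∈ H := fun {h v} hv hh => by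
    rw [← RootDLib.closure_simple_eq (RootComb21.isSimpleSys_support D.base)] at hv
    obtain ⟨l, hl, rfl⟩ := RootDLib.exists_word hv
    obtain ⟨w, hw, hwn⟩ : ∃ w, w ∈ H ∧ RedCell16.Nrm D' w (RootDLib.wprod D.P l) := by
      clear hh hv
      induction l with
      | nil => exact ⟨1, Subgroup.one_mem _, RedCell16.Nrm.one⟩
      | cons c l ih =>
        obtain ⟨w, hw, hwn⟩ := ih fun y hy => hl y (List.mem_cons_of_mem c hy)
        obtain ⟨pm, E, hc⟩ := hW c (hl c List.mem_cons_self)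
        exact ⟨_, Subgroup.mul_mem _ hc hw, by
          rw [RootDLib.wprod_cons]; exact (RedCell16.nrm_W D' c E).mul hwn⟩
    obtain ⟨τ, rfl⟩ := hwn.exists_torus D' D.base hh
    exact Subgroup.mul_mem _ hw (hT τ)
  have hP : ∀ c y, RankOne.P (D.u c) y ∈ H := fun c => RedCell16.mem_of_reflect_closed D' D.base
    {c | ∀ y, RankOne.P (D.u c) y ∈ H} (fun a ha => hP0 a (Or.inl ha)) (fun a ha c hc y => by
      obtain ⟨pm, E, hm⟩ := hW a ha
      obtain ⟨ν, hν⟩ := RedCell16.exists_weyl_conj D' a E D.base c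
      rw [show RankOne.P (D.u (D.P.reflectionPerm a c)) y = _ from hν _ y]
      exact Subgroup.mul_mem _ (Subgroup.mul_mem _ hm (hc _)) (Subgroup.inv_mem _ hm)) c
  obtain ⟨nr, hnr⟩ := RedCell16.exists_realises D'
  obtain ⟨n, m, eneg, epos, hneg, hpos⟩ := RedCell16.exists_enum D' D.base
  obtain ⟨l, d, hd⟩ := RedCell16.exists_mem_translate D' hnr (g.left (IsLocalRing.closedPoint A)) eneg epos hneg hpos
  set N : 𝟙_ _ ⟶ G := (l.map nr).prod with hNdef
  let lam : G ⟶ G := (toUnit G ≫ N⁻¹) * 𝟙 G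
  have hlam : ∀ {X : Over (Spec (CommRingCat.of A))} (q : X ⟶ G), q ≫ lam = (toUnit X ≫ N)⁻¹ * q := fun {X} q => by
    rw [MonObj.comp_mul, RedCell16.toUnit_comp, GrpObj.comp_inv, Category.comp_id]
  have e1 : ((toUnit _ ≫ N) * RedSub.cellMap D' eneg epos) ≫ lam = RedSub.cellMap D' eneg epos := by
    rw [hlam, inv_mul_cancel_left]
  have hclosed : (g ≫ lam).left (IsLocalRing.closedPoint A) ∈ (Set.range (RedSub.cellMap D' eneg epos).left.base) :=
    ⟨d, by
      conv_lhs => rw [← e1]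
      rw [Over.comp_left, Over.comp_left, Scheme.Hom.comp_apply, Scheme.Hom.comp_apply, ← hd]⟩
  haveI := RedCell16.isOpenImmersion_cellMap D' D.base eneg epos hneg hpos
  obtain ⟨y, t, z, hyz⟩ := RedCell16.exists_cellPt D' eneg epos hneg hpos (g ≫ lam) fun p => by
    have hU : IsLocalRing.closedPoint A ∈ ((g ≫ lam).left ⁻¹ᵁ (RedSub.cellMap D' eneg epos).left.opensRange :
        (Spec (CommRingCat.of A)).Opens) := hclosed
    exact (SetLike.ext_iff.1 (IsLocalRing.closed_point_mem_iff.1 hU) p).2 trivial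
  rw [hlam, show toUnit (𝟙_ (Over (Spec (CommRingCat.of A)))) = 𝟙 _ from toUnit_unique _ _, Category.id_comp,
    RedCell16.cellPt_eq] at hyz
  have hrp : ∀ {k : ℕ} (e : Fin k → D.idx) (v : Fin k → Γ((𝟙_ (Over (Spec (CommRingCat.of A)))).left, ⊤)),
      RedCell16.rp D' e v ∈ H := fun e v => by
    refine (Subgroup.closure_le _).2 ?_ (RedCell16.rp_mem_gens D' (R := Set.univ) e v fun _ => trivial)
    rintro _ ⟨c, a, -, rfl⟩
    exact hP c a
  rw [show g = N * (N⁻¹ * g) by rw [mul_inv_cancel_left], hyz]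
  exact Subgroup.mul_mem _ (hN (by rw [RootDLib.weylGroup_eq_closure]; exact RootDLib.wprod_mem fun _ _ => Set.mem_univ _ : RootDLib.wprod D.P l ∈ D.P.weylGroup) (RedCell16.nrm_word D' nr hnr l))
    (Subgroup.mul_mem _ (hrp _ _) (Subgroup.mul_mem _ (hT t) (hrp _ _)))

end Groth.Agent.S3956
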