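import Groth.Statements.S3957
import Groth.Agent.S3956
import Groth.Agent.Lib.PMor16.CoradHom

set_option linter.style.haveILetI false
set_option backward.isDefEq.respectTransparency false
set_option backward.isDefEq.respectTransparency.types false
-- import your own Groth.Agent.* helpers here

set_option autoImplicit false
open CategoryTheory MonoidalCategory CartesianMonoidalCategory MonObj GrpObj AlgebraicGeometry
universe u
open RedSub

namespace Groth.Agent.S3957

/-- Let A be a local ring, S = Spec A, and G a split reductive S-group with a pinning D which is simply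
connected (the coroots span the coweight lattice). Then G(S) is generated by the sections of the
root groups u_a(G_a(S)) for a a simple root or the negative of a simple root. -/
theorem result {A : Type u} [CommRing A] [IsLocalRing A]
    {G : Over (Spec (CommRingCat.of A))} [GrpObj G] (D : Red.Pinning G)
    (hsc : Submodule.span ℤ (Set.range D.P.coroot) = ⊤) :
    Subgroup.closure
        {g : 𝟙_ (Over (Spec (CommRingCat.of A))) ⟶ G | ∃ a : D.idx, (a ∈ D.base.support ∨ D.P.reflectionPerm a a ∈ D.base.support) ∧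
            ∃ x : 𝟙_ _ ⟶ Red.Ga (Spec (CommRingCat.of A)), g = x ≫ D.u a} = ⊤ := by
  classical
  haveI := RedCell16.isReduced D.toSplitRed (IsLocalRing.closedPoint A : Spec (CommRingCat.of A))
  haveI := D.fintypeIdx
  haveI := D.maximalTorus.1
  let D' := D.toSplitRed
  set H := Subgroup.closure
        {g : 𝟙_ (Over (Spec (CommRingCat.of A))) ⟶ G | ∃ a : D.idx, (a ∈ D.base.support ∨ D.P.reflectionPerm a a ∈ D.base.support) ∧
            ∃ x : 𝟙_ _ ⟶ Red.Ga (Spec (CommRingCat.of A)), g = x ≫ D.u a} with hH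
  have hP : ∀ a, a ∈ D.base.support ∨ D.P.reflectionPerm a a ∈ D.base.support → ∀ y, RankOne.P (D.u a) y ∈ H :=
    fun a ha y => Subgroup.subset_closure ⟨a, ha, GaPts.ptOfFn y, rfl⟩
  have hco : ∀ a ∈ D.base.support, ∀ v, (GmPts.ptOfUnit v ≫ RedCell16.coChar D' a) ≫ D.i ∈ H := fun a ha v => by
    obtain ⟨vd, cu, -, hvd, E⟩ := RedCell16.exists_dual D' a
    have hw : ∀ x x', (RankOne.w (D.u a) vd x x' : 𝟙_ _ ⟶ G) ∈ H := fun x x' => by
      show RankOne.P (D.u a) x * RankOne.P vd x' * RankOne.P (D.u a) x ∈ H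
      rw [hvd]
      exact Subgroup.mul_mem _ (Subgroup.mul_mem _ (hP a (Or.inl ha) _)
        (hP _ (Or.inr (by show RootDLib.ng D.P (RootDLib.ng D.P a) ∈ _; rw [RootDLib.ng_ng]; exact ha)) _)) (hP a (Or.inl ha) _)
    have key := RankOne.w_smul_left E v 1 (-1) (v : Γ((𝟙_ (Over (Spec (CommRingCat.of A)))).left, ⊤))
      (-((v⁻¹ : (Γ((𝟙_ (Over (Spec (CommRingCat.of A)))).left, ⊤))ˣ) : Γ((𝟙_ (Over (Spec (CommRingCat.of A)))).left, ⊤)))
      (by ring) (by rw [_root_.mul_one]) (by rw [neg_mul, Units.inv_mul])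
    rw [Category.assoc]
    show RankOne.A D.i (RedCell16.coChar D' a) v ∈ H
    rw [eq_mul_inv_iff_mul_eq.2 key.symm]
    exact Subgroup.mul_mem _ (hw _ _) (Subgroup.inv_mem _ (hw _ _))
  have hspan : Submodule.span ℤ (Set.range fun a : D.base.support => D.P.coroot a) = ⊤ := by
    rw [show Set.range (fun a : D.base.support => D.P.coroot a) = D.P.coroot '' D.base.support by ext; simp,
      D.base.span_coroot_support]
    exact hsc
  let B : Module.Basis D.base.support ℤ (Module.Dual ℤ D.M) :=
    Module.Basis.mk D.base.linearIndepOn_coroot hspan.ge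
  let mm : D.base.support → D.M := fun a => (Module.evalEquiv ℤ D.M).symm (B.coord a)
  have hmm : ∀ (a : D.base.support) (θ : Module.Dual ℤ D.M), θ (mm a) = B.repr θ a := fun a θ => by
    show θ ((Module.evalEquiv ℤ D.M).symm (B.coord a)) = _
    rw [Module.apply_evalEquiv_symm_apply]
    rfl
  have hdec : ∀ x : D.M, x = ∑ a : D.base.support, D.P.coroot a x • mm a := fun x => by
    refine sub_eq_zero.1 ((Module.forall_dual_apply_eq_zero_iff ℤ _).1 fun θ => ?_)
    rw [map_sub, map_sum, sub_eq_zero]
    conv_lhs => rw [← B.sum_repr θ]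
    simp [hmm, B, mul_comm]
  have hT : ∀ t : 𝟙_ _ ⟶ D.T, t ≫ D.i ∈ H := fun t => by
    let uu : D.base.support → (Γ((𝟙_ (Over (Spec (CommRingCat.of A)))).left, ⊤))ˣ := fun a =>
      ((RedCell16.chars D').ch t).toHomUnits (Multiplicative.ofAdd (mm a))
    have hchar : ∀ x : D.M, (RedCell16.chars D').ch t (Multiplicative.ofAdd x) =
        ((∏ a : D.base.support, uu a ^ D.P.coroot a x : (Γ((𝟙_ (Over (Spec (CommRingCat.of A)))).left, ⊤))ˣ) : Γ((𝟙_ (Over (Spec (CommRingCat.of A)))).left, ⊤)) := fun x => by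
      conv_lhs => rw [hdec x, ofAdd_sum, ← MonoidHom.coe_toHomUnits, map_prod]
      congr 1
      exact Finset.prod_congr rfl fun a _ => by rw [ofAdd_zsmul, map_zpow]
    have key : ∀ (s : Finset D.base.support) (t' : 𝟙_ _ ⟶ D.T), (∀ x : D.M, (RedCell16.chars D').ch t' (Multiplicative.ofAdd x) =
        ((∏ a ∈ s, uu a ^ D.P.coroot a x : (Γ((𝟙_ (Over (Spec (CommRingCat.of A)))).left, ⊤))ˣ) : Γ((𝟙_ (Over (Spec (CommRingCat.of A)))).left, ⊤))) → t' ≫ D.i ∈ H := by
      intro s
      induction s using Finset.induction_on with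
      | empty =>
        intro t' ht'
        rw [show t' = 1 from (RedCell16.chars D').inj fun x => by
          rw [show x = Multiplicative.ofAdd x.toAdd from rfl, ht', (RedCell16.chars D').one]; simp, MonObj.one_comp]
        exact Subgroup.one_mem _
      | insert c s hcs ih =>
        intro t' ht'
        let p : 𝟙_ _ ⟶ D.T := GmPts.ptOfUnit (uu c) ≫ RedCell16.coChar D' c
        have h2 : (p⁻¹ * t') ≫ D.i ∈ H := ih _ fun x => by
          have hp := (RedCell16.chars D').mul p⁻¹ p (Multiplicative.ofAdd x)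
          rw [inv_mul_cancel, (RedCell16.chars D').one, RedCell16.ch_coChar, GmPts.unitOfPt_ptOfUnit] at hp
          rw [(RedCell16.chars D').mul, ht', Finset.prod_insert hcs, Units.val_mul, ← _root_.mul_assoc]
          simp only [RedCell16.co, LinearMap.toAddMonoidHom_coe] at hp ⊢
          rw [← hp, _root_.one_mul]
        rw [show t' = p * (p⁻¹ * t') by rw [mul_inv_cancel_left], MonObj.mul_comp]
        exact Subgroup.mul_mem _ (hco c c.2 _) h2
    exact key Finset.univ t hchar
  refine top_le_iff.1 ((Groth.Agent.S3956.result D).ge.trans ((Subgroup.closure_le _).2 ?_))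
  rintro _ (⟨t, rfl⟩ | hg)
  · exact hT t
  · exact Subgroup.subset_closure hg

end Groth.Agent.S3957
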