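import Groth.Statements.S3958
import Groth.Agent.Lib.RedCell16.Generate

set_option linter.style.haveILetI false
set_option backward.isDefEq.respectTransparency false
set_option backward.isDefEq.respectTransparency.types false
-- import your own Groth.Agent.* helpers here

set_option autoImplicit false
open CategoryTheory MonoidalCategory CartesianMonoidalCategory MonObj GrpObj AlgebraicGeometry
universe u
open RedSub

namespace Groth.Agent.S3958

/-- (ii) implies (i), with the target a group scheme: let G be a reductive S-group with a pinning D and
H an S-group scheme. Two homomorphisms f, g : G ⟶ H which agree on the torus T and on the root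
groups U_a and U_{-a} for every simple root a are equal. -/
theorem result {S : Scheme.{u}} {G H : Over S} [GrpObj G] [GrpObj H]
    (D : Red.Pinning G) (f g : G ⟶ H) [IsMonHom f] [IsMonHom g] (hT : D.i ≫ f = D.i ≫ g)
    (hU : ∀ a : D.idx, a ∈ D.base.support → D.u a ≫ f = D.u a ≫ g ∧
      D.u (D.P.reflectionPerm a a) ≫ f = D.u (D.P.reflectionPerm a a) ≫ g) :
    f = g := by
  rcases isEmpty_or_nonempty S with hS | ⟨⟨s⟩⟩
  · exact (RedCell16.hom_subsingleton G H).2.elim _ _
  haveI : D.P.IsReduced := RedCell16.isReduced D.toSplitRed s
  exact RedCell16.hom_ext_simple D.toSplitRed D.base f g hT fun a ha => hU a ha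

end Groth.Agent.S3958
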