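import Groth.Statements.S3992
import Groth.Agent.Lib.PMor16.UnipTorus

set_option linter.style.haveILetI false
set_option backward.isDefEq.respectTransparency false
set_option backward.isDefEq.respectTransparency.types false
-- import your own Groth.Agent.* helpers here

set_option autoImplicit false
open CategoryTheory MonoidalCategory CartesianMonoidalCategory MonObj GrpObj AlgebraicGeometry
universe u
open RedSub

namespace Groth.Agent.S3992

/-- Let G be a reductive S-group, T a maximal torus of G and U a sub-group-scheme of G, smooth over S,
whose geometric fibres are connected and unipotent (contain no non-trivial subtorus), and which is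
normalised by T. Then U x_G T is trivial: a point of U whose image in G lies in T is the unit. (The
source does not require connected fibres; with the prelude's surrogate for unipotency, connectedness
is needed for the hypothesis to mean unipotent.) -/
theorem result {S : Scheme.{u}} {G T U : Over S} [GrpObj G]
    [GrpObj T] [GrpObj U] (hG : Red.IsReductive G) (i : T ⟶ G) (hT : Red.IsMaximalTorus i) (j : U ⟶ G)
    (hU : RedSub.IsSubgrp j) [Smooth U.hom]
    (hfib : ∀ s : S, ConnectedSpace ↥(Red.geomFibre s U).left ∧
      Red.HasNoSubtorus (AlgebraicClosure (S.residueField s)) (Red.geomFibre s U))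
    (hnorm : ∀ (X : Over S) (x : X ⟶ T) (y : X ⟶ U), ∃ y' : X ⟶ U, (x ≫ i) * (y ≫ j) * (x ≫ i)⁻¹ = y' ≫ j)
    (X : Over S) (y : X ⟶ U) (x : X ⟶ T) (h : y ≫ j = x ≫ i) : y = 1 := by
  exact PMor16.inter_trivial hG i hT j hU hfib hnorm y x h

end Groth.Agent.S3992
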