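import Groth.Prelude.Def_VanCyc
import Mathlib.AlgebraicGeometry.Morphisms.FiniteType
import Mathlib.Topology.KrullDimension
import Groth.Agent.Lib.CdField3.Nearby
-- import your own Groth.Agent.* helpers here

namespace VanCyc
end VanCyc

set_option autoImplicit false
set_option backward.isDefEq.respectTransparency false
set_option backward.isDefEq.respectTransparency.types false
universe u
open CategoryTheory CategoryTheory.Limits AlgebraicGeometry
open VanCyc

namespace Groth.Agent.S4006

/-- Let R be a strictly henselian discrete valuation ring with fraction field K, Ω a separable closure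
of K, f : X -> Spec R of finite type, N invertible in R and F an abelian sheaf on X killed by N. If
the generic fibre X_η = X ×_S Spec K has dimension at most d, then the nearby-cycle sheaves i^* R^q
jbar_* (jbar^* F) on the special fibre vanish for every q > d (the nearby-cycles functor has
cohomological dimension at most dim X_η). -/
theorem result (R K Ω : Type u) [CommRing R] [IsDomain R] [IsDiscreteValuationRing R]
    (hR : EtCoh.IsStrictlyHenselianLocalRing R) [Field K] [Algebra R K] [IsFractionRing R K] [Field Ω] [Algebra K Ω]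
    [IsSepClosure K Ω] [Algebra R Ω] [IsScalarTower R K Ω]
    {X : Scheme.{u}} (f : X ⟶ Spec (CommRingCat.of R)) [LocallyOfFiniteType f] [QuasiCompact f]
    (d : ℕ) (hd : topologicalKrullDim ↥(VanCyc.fib R f K) ≤ d) (N : ℕ) (hN : IsUnit (N : R))
    (F : EtCoh.Ab X) (hF : EtCoh.KilledBy N F) (q : ℕ) (hq : d < q) :
    IsZero (VanCyc.psi R Ω f q ((EtCoh.pull (VanCyc.jA R f Ω)).obj F)) := by
  haveI : IsSepClosed Ω := IsSepClosure.sep_closed K
  haveI : Algebra.IsSeparable K Ω := IsSepClosure.separable
  haveI : Algebra.IsAlgebraic K Ω := inferInstance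
  have hN0 : 0 < N := Nat.pos_of_ne_zero fun h => by
    rw [h, Nat.cast_zero, isUnit_zero_iff] at hN
    exact zero_ne_one hN
  have hG : EtCoh.IsTorsion ((EtCoh.pull (VanCyc.jA R f Ω)).obj F) :=
    Groth.Agent.FieldBr3.isTorsion_pull' _ fun U s x =>
      ⟨U, 𝟙 U, ⟨x, rfl⟩, isOfFinAddOrder_iff_nsmul_eq_zero.2 ⟨N, hN0, hF U _⟩⟩
  refine Functor.map_isZero _ (Groth.Agent.CdField3.isZero_Rpush_geomFibre f (algebraMap K Ω)
    (algebraMap_isIntegral_iff.2 (Algebra.IsAlgebraic.isIntegral)) (VanCyc.toS R K) (VanCyc.toS R Ω) ?_ d hd _ hG q hq)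
  rw [← Spec.map_comp, ← CommRingCat.ofHom_comp, ← IsScalarTower.algebraMap_eq R K Ω]

end Groth.Agent.S4006
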