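import Groth.Statements.S4007
import Groth.Agent.Lib.QuadSing19.Cone
import Groth.Agent.Lib.QuadSing19.HensIso

set_option autoImplicit false
universe u
open VanCyc

namespace Groth.Agent.S4007

/-- Case of an algebraically closed ground field k: let O be a local k-algebra essentially of finite
type whose residue field is k (the local ring of a scheme of finite type over k at a closed point)
having an ordinary quadratic singularity of dimension n (that is, the completion of O is
k-isomorphic to k[[x_0, …, x_n]]/(f) with f congruent modulo terms of order at least 3 to an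
ordinary quadratic form). Then there is an ordinary quadratic form Q in n + 1 variables over k such
that the henselisation of O is k-isomorphic to the henselisation of k[x_0, …, x_n]/(Q) at the
origin. (The binder asserting that the origin ideal is prime is always satisfiable.) -/
theorem result (k : Type u) [Field k] [IsAlgClosed k]
    (O : Type u) [CommRing O] [IsLocalRing O] [Algebra k O] [Algebra.EssFiniteType k O]
    (hk : ∀ y : O, ∃ c : k, y - algebraMap k O c ∈ IsLocalRing.maximalIdeal O)
    (n : ℕ) (hq : VanCyc.IsOrdQuadSing k O n)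
    (Oh : Type u) [CommRing Oh] [IsLocalRing Oh] [Algebra O Oh] [IsLocalHom (algebraMap O Oh)]
    [Hensel.IsHenselization O Oh] [Algebra k Oh] [IsScalarTower k O Oh] :
    ∃ a : Fin (n + 1) → Fin (n + 1) → k, VanCyc.QuadOrd a ∧
      ∀ [(VanCyc.originQuot k a 0).IsPrime] (C : Type u) [CommRing C] [IsLocalRing C]
        [Algebra (Localization.AtPrime (VanCyc.originQuot k a 0)) C]
        [IsLocalHom (algebraMap (Localization.AtPrime (VanCyc.originQuot k a 0)) C)]
        [Hensel.IsHenselization (Localization.AtPrime (VanCyc.originQuot k a 0)) C]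
        [Algebra k C] [IsScalarTower k (Localization.AtPrime (VanCyc.originQuot k a 0)) C],
        Nonempty (Oh ≃ₐ[k] C) := by
  classical
  obtain ⟨f, hf, ⟨ψ⟩⟩ := hq
  obtain ⟨a, ha, ⟨ν⟩⟩ := QuadSing19.exists_normalForm (0 : Fin (n + 1)) f hf
  refine ⟨a, ha, ?_⟩
  intro hprime C _ _ _ _ _ _ _
  let A := Algebra.EssFiniteType.subalgebra k O
  let M := Algebra.EssFiniteType.submonoid k O
  let p : Ideal A := (IsLocalRing.maximalIdeal O).comap (algebraMap A O)
  haveI : p.IsPrime := Ideal.IsPrime.comap _
  have hM : p.primeCompl = M := by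
    ext x
    simp only [p, Ideal.mem_primeCompl_iff, Ideal.mem_comap, IsLocalRing.mem_maximalIdeal, mem_nonunits_iff, not_not]
    rfl
  haveI : IsLocalization.AtPrime O p := by
    show IsLocalization p.primeCompl O
    rw [hM]; infer_instance
  let e : Localization.AtPrime p ≃ₐ[k] O :=
    (IsLocalization.algEquiv p.primeCompl (Localization.AtPrime p) O).restrictScalars k
  obtain ⟨E, hE⟩ := QuadSing19.exists_cplEquiv_of_ringEquiv e.toRingEquiv
  letI : Algebra (Localization.AtPrime p) Oh := ((algebraMap O Oh).comp e.toRingEquiv.toRingHom).toAlgebra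
  haveI : IsLocalHom (algebraMap (Localization.AtPrime p) Oh) := ⟨fun x hx => by
    have h1 : IsUnit (e x) := IsLocalHom.map_nonunit (f := algebraMap O Oh) _ hx
    simpa using h1.map e.symm⟩
  haveI : Hensel.IsHenselization (Localization.AtPrime p) Oh :=
    QuadSing19.isHenselization_of_ringEquiv (A := O) (T := Oh) e.toRingEquiv fun _ => rfl
  haveI : IsScalarTower k (Localization.AtPrime p) Oh := IsScalarTower.of_algebraMap_eq fun c => by
    show _ = algebraMap O Oh (e (algebraMap k _ c))
    rw [AlgEquiv.commutes, ← IsScalarTower.algebraMap_apply]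
  let Q := VanCyc.originQuot k a 0
  let g : MvPolynomial (Fin (n + 1)) k := VanCyc.quadPoly a - MvPolynomial.C 0
  have hspan : ∀ x : MvPolynomial (Fin (n + 1)) k, x ∈ VanCyc.originIdeal k ↔ MvPolynomial.eval 0 x = 0 := by
    intro x
    have h := QuadSing19.taylor_mem_pow_iff (0 : Fin (n + 1) → k) 1 x
    rw [pow_one, pow_one] at h
    have h' : VanCyc.originIdeal k (N := n + 1) = Ideal.span (Set.range MvPolynomial.X) := by
      rw [VanCyc.originIdeal, IsLocalRing.maximalIdeal_eq_bot, Ideal.map_bot, bot_sup_eq]
    rw [h']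
    simp only [Pi.zero_apply, map_zero, sub_zero] at h
    rw [← h, ← QuadSing19.constantCoeff_taylor]
    exact ⟨fun hx => PSIdeal.constantCoeff_of_mem hx, fun hx => PSIdeal.mem_varIdeal hx⟩
  have hg : MvPolynomial.eval 0 g = 0 := by
    simp [g, VanCyc.quadPoly, map_sum, apply_ite (MvPolynomial.constantCoeff (R := k) (σ := Fin (n + 1)))]
  have hpt : QuadSing19.IsPoint g Q (0 : Fin (n + 1) → k) := ⟨by
    show ((VanCyc.originIdeal k).map (Ideal.Quotient.mk (Ideal.span {g}))).comap _ = _
    rw [Ideal.comap_map_of_surjective _ Ideal.Quotient.mk_surjective, ← RingHom.ker_eq_comap_bot, Ideal.mk_ker,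
      sup_eq_left.2 ((Ideal.span_singleton_le_iff_mem _).2 ((hspan g).2 hg))]
    exact Ideal.ext hspan⟩
  obtain ⟨-, -, -, ⟨χ⟩⟩ := QuadSing19.exists_expansion hpt
  have hT : QuadSing19.taylor (0 : Fin (n + 1) → k) g =
      QuadSing19.qEval a fun i => (MvPowerSeries.X i : MvPowerSeries (Fin (n + 1)) k) := by
    simp [g, QuadSing19.qEval, VanCyc.quadEval, VanCyc.quadPoly, map_sum, QuadSing19.taylor,
      apply_ite (MvPolynomial.aeval (R := k) fun i : Fin (n + 1) => (MvPowerSeries.X i : MvPowerSeries (Fin (n + 1)) k))]
  rw [hT] at χ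
  let E' : AdicCompletion (IsLocalRing.maximalIdeal (Localization.AtPrime p)) (Localization.AtPrime p) ≃ₐ[k]
      AdicCompletion (IsLocalRing.maximalIdeal O) O :=
    AlgEquiv.ofRingEquiv (f := E) fun c => by
      rw [IsScalarTower.algebraMap_apply k (Localization.AtPrime p)]
      refine (hE _).trans ?_
      show algebraMap O _ (e (algebraMap k _ c)) = _
      rw [AlgEquiv.commutes, ← IsScalarTower.algebraMap_apply]
  exact QuadSing19.exists_algEquiv_henselization k A (VanCyc.quadRing k a 0) p Q
    (((E'.trans ψ).trans ν).trans χ.symm) Oh C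

end Groth.Agent.S4007
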