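import Groth.Statements.S4008
import Groth.Agent.Lib.HensCoord15.Sep
-- import your own Groth.Agent.* helpers here

set_option autoImplicit false
universe u
open VanCyc

namespace Groth.Agent.S4008

/-- Let A be a henselian local ring with residue field k, B₀ a finitely presented A-algebra and P a
maximal ideal of B₀ above the maximal ideal of A, with B = (B₀)_P flat over A and residue field B₀/P
purely inseparable over k (a closed point x of the closed fibre of X = Spec B₀ -> S = Spec A with
k(x) radicial over k). Suppose the closed fibre B/𝔪_A B has at its closed point a non-degenerate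
quadratic singularity of dimension n. Then there are a non-degenerate quadratic form Q in n + 1
variables with coefficients in A (coefficient matrix a) and an element b of the maximal ideal of A
such that the henselisation of B is A-isomorphic to the henselisation of A[x_0, …, x_n]/(Q - b) at
the origin of its closed fibre. -/
theorem result (A : Type u) [CommRing A] [HenselianLocalRing A]
    (B₀ : Type u) [CommRing B₀] [Algebra A B₀] [Algebra.FinitePresentation A B₀]
    (P : Ideal B₀) [P.IsMaximal] (hP : (IsLocalRing.maximalIdeal A).map (algebraMap A B₀) ≤ P)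
    (hPi : ∀ y : B₀, ∃ (e : ℕ) (c : A),
      y ^ ringExpChar (IsLocalRing.ResidueField A) ^ e - algebraMap A B₀ c ∈ P)
    [Module.Flat A (Localization.AtPrime P)] (n : ℕ)
    (hq : VanCyc.IsNondegQuadPt (VanCyc.fibHom A (Localization.AtPrime P)) n)
    (Bh : Type u) [CommRing Bh] [IsLocalRing Bh] [Algebra (Localization.AtPrime P) Bh]
    [IsLocalHom (algebraMap (Localization.AtPrime P) Bh)] [Hensel.IsHenselization (Localization.AtPrime P) Bh]
    [Algebra A Bh] [IsScalarTower A (Localization.AtPrime P) Bh] :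
    ∃ (a : Fin (n + 1) → Fin (n + 1) → A) (b : A), VanCyc.QuadNondeg a ∧ b ∈ IsLocalRing.maximalIdeal A ∧
      ∀ [(VanCyc.originQuot A a b).IsPrime] (C : Type u) [CommRing C] [IsLocalRing C]
        [Algebra (Localization.AtPrime (VanCyc.originQuot A a b)) C]
        [IsLocalHom (algebraMap (Localization.AtPrime (VanCyc.originQuot A a b)) C)]
        [Hensel.IsHenselization (Localization.AtPrime (VanCyc.originQuot A a b)) C]
        [Algebra A C] [IsScalarTower A (Localization.AtPrime (VanCyc.originQuot A a b)) C],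
        Nonempty (Bh ≃ₐ[A] C) := by
  classical
  haveI hloc : IsLocalHom (algebraMap A (Localization.AtPrime P)) := ⟨fun a ha => by
    by_contra hn
    rw [IsScalarTower.algebraMap_apply A B₀ (Localization.AtPrime P)] at ha
    exact (IsLocalization.AtPrime.isUnit_to_map_iff (Localization.AtPrime P) P _).1 ha
      (hP (Ideal.mem_map_of_mem _ ((IsLocalRing.mem_maximalIdeal a).2 hn)))⟩
  have hrt := Groth.Agent.HensCoord15.residue_trivial A B₀ P hP hPi n hq
  have hPm : ∀ a : A, algebraMap A B₀ a ∈ P ↔ a ∈ IsLocalRing.maximalIdeal A := fun a =>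
    ⟨fun h => (IsLocalRing.mem_maximalIdeal a).2 fun hu =>
      (inferInstance : P.IsPrime).ne_top (Ideal.eq_top_of_isUnit_mem P h (hu.map _)),
      fun h => hP (Ideal.mem_map_of_mem _ h)⟩
  have hres : ∀ r : Localization.AtPrime P, ∃ a : A,
      r - algebraMap A _ a ∈ IsLocalRing.maximalIdeal (Localization.AtPrime P) := by
    intro r
    obtain ⟨b, s, rfl⟩ := IsLocalization.exists_mk'_eq P.primeCompl r
    obtain ⟨c, hc⟩ := hrt b
    obtain ⟨d, hd⟩ := hrt s
    have hdu : IsUnit d := by
      by_contra hn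
      refine s.2 ?_
      have h := add_mem hd ((hPm d).2 ((IsLocalRing.mem_maximalIdeal d).2 hn))
      rwa [sub_add_cancel] at h
    obtain ⟨d', hd'⟩ := hdu.exists_right_inv
    refine ⟨c * d', ?_⟩
    rw [← (IsLocalRing.maximalIdeal (Localization.AtPrime P)).mul_unit_mem_iff_mem
      (IsLocalization.map_units (Localization.AtPrime P) s), sub_mul, IsLocalization.mk'_spec,
      IsScalarTower.algebraMap_apply A B₀ (Localization.AtPrime P), ← map_mul, ← map_sub,
      IsLocalization.AtPrime.to_map_mem_maximal_iff _ P]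
    have : b - algebraMap A B₀ (c * d') * s = (b - algebraMap A B₀ c) -
        algebraMap A B₀ (c * d') * (s - algebraMap A B₀ d) - algebraMap A B₀ c * algebraMap A B₀ (d * d' - 1) := by
      rw [map_sub (algebraMap A B₀), map_mul, map_mul, map_one]; ring
    rw [this, hd', sub_self, map_zero, mul_zero, sub_zero]
    exact sub_mem hc (Ideal.mul_mem_left _ _ hd)
  haveI : IsLocalHom (algebraMap A (AlgebraicClosure (IsLocalRing.ResidueField A))) :=
    Groth.Agent.HensCoord15.isLocalHom_algebraicClosure
  obtain ⟨L, _, _, _, _, _, ι, hι, hex, huniq, hL⟩ := Groth.Agent.HensCoord15.exists_geometric_fibre hres n hq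
  obtain ⟨F, π, hF0, hF1, hF2, hπ, -, hker⟩ := Groth.Agent.HensCoord15.exists_hypersurface B₀ P hPm hrt Bh L ι hι hex huniq n hL
  obtain ⟨a, c, Φ, ha, hc, hΦ⟩ := Groth.Agent.HensCoord15.exists_normalForm F hF0 hF1 hF2
  refine ⟨a, -c, ha, neg_mem hc, ?_⟩
  intro hprime C _ _ _ _ _ _ _
  let g : MvPolynomial (Fin (n + 1)) A := VanCyc.quadPoly a - MvPolynomial.C (-c)
  let π₂ : MvPolynomial (Fin (n + 1)) A →ₐ[A] VanCyc.quadRing A a (-c) := Ideal.Quotient.mkₐ A _
  have horig : VanCyc.originIdeal A (N := n + 1) =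
      RingHom.ker (algebraMap (MvPolynomial (Fin (n + 1)) A) (IsLocalRing.ResidueField A)) := by
    refine le_antisymm (sup_le (Ideal.map_le_iff_le_comap.2 fun x hx => ?_) (Ideal.span_le.2 ?_)) fun p hp => ?_
    · rw [Ideal.mem_comap, RingHom.mem_ker]
      exact (MvPolynomial.eval₂Hom_C _ _ x).trans ((IsLocalRing.residue_eq_zero_iff x).2 hx)
    · rintro _ ⟨i, rfl⟩
      exact MvPolynomial.eval₂Hom_X' _ _ i
    · have key : ∀ q : MvPolynomial (Fin (n + 1)) A, ∃ e : A, q - MvPolynomial.C e ∈
          Ideal.span (Set.range (MvPolynomial.X : Fin (n + 1) → _)) ∧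
          algebraMap (MvPolynomial (Fin (n + 1)) A) (IsLocalRing.ResidueField A) q = IsLocalRing.residue A e := by
        intro q
        induction q using MvPolynomial.induction_on with
        | C e => exact ⟨e, by simp, MvPolynomial.eval₂Hom_C _ _ e⟩
        | add x y hx hy =>
          obtain ⟨e, he, he'⟩ := hx
          obtain ⟨f, hf, hf'⟩ := hy
          exact ⟨e + f, by rw [map_add, add_sub_add_comm]; exact add_mem he hf, by rw [map_add, map_add, he', hf']⟩
        | mul_X x i _ =>
          refine ⟨0, by simpa using Ideal.mul_mem_left _ x (Ideal.subset_span (Set.mem_range_self i)), ?_⟩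
          rw [map_mul, map_zero]
          exact mul_eq_zero_of_right _ (MvPolynomial.eval₂Hom_X' _ _ i)
      obtain ⟨e, he, he'⟩ := key p
      rw [RingHom.mem_ker, he', IsLocalRing.residue_eq_zero_iff] at hp
      rw [← sub_add_cancel p (MvPolynomial.C e)]
      exact add_mem (Ideal.mem_sup_right he) (Ideal.mem_sup_left (Ideal.mem_map_of_mem _ hp))
  have hX0 : ∀ i : Fin (n + 1), algebraMap (MvPolynomial (Fin (n + 1)) A) (IsLocalRing.ResidueField A) (MvPolynomial.X i) = 0 :=
    fun i => MvPolynomial.eval₂Hom_X' _ _ i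
  have hgm : g ∈ VanCyc.originIdeal A := by
    rw [horig, RingHom.mem_ker, map_sub]
    have h1 : algebraMap (MvPolynomial (Fin (n + 1)) A) (IsLocalRing.ResidueField A) (VanCyc.quadPoly a) = 0 := by
      simp only [VanCyc.quadPoly, map_sum, apply_ite (algebraMap (MvPolynomial (Fin (n + 1)) A) (IsLocalRing.ResidueField A)),
        map_mul, map_zero, hX0, mul_zero, ite_self, Finset.sum_const_zero]
    rw [h1, zero_sub, neg_eq_zero]
    exact (MvPolynomial.eval₂Hom_C _ _ _).trans ((IsLocalRing.residue_eq_zero_iff _).2 (neg_mem hc))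
  have hQ : (VanCyc.originQuot A a (-c)).comap π₂ =
      RingHom.ker (algebraMap (MvPolynomial (Fin (n + 1)) A) (IsLocalRing.ResidueField A)) := by
    show ((VanCyc.originIdeal A).map (Ideal.Quotient.mk (Ideal.span {g}))).comap (Ideal.Quotient.mk (Ideal.span {g})) = _
    rw [Ideal.comap_map_of_surjective _ Ideal.Quotient.mk_surjective, ← RingHom.ker_eq_comap_bot, Ideal.mk_ker,
      sup_eq_left.2 ((Ideal.span_singleton_le_iff_mem _).2 hgm)]
    exact horig
  obtain ⟨ρ, hρ, -, -, hρk⟩ := Groth.Agent.HensCoord15.exists_presentation (VanCyc.quadRing A a (-c)) π₂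
    Ideal.Quotient.mk_surjective (VanCyc.originQuot A a (-c)) hQ C
  let p := π.comp Φ.symm.toAlgHom
  have hp : Function.Surjective p := hπ.comp Φ.symm.surjective
  have hrfl : algebraMap (MvPolynomial (Fin (n + 1)) A) (Groth.Agent.HensCoord15.H (Fin (n + 1)) A) g = Φ F := by
    rw [hΦ, map_sub]
    have hC : ∀ e : A, algebraMap (MvPolynomial (Fin (n + 1)) A) (Groth.Agent.HensCoord15.H (Fin (n + 1)) A)
        (MvPolynomial.C e) = algebraMap A _ e := fun e => rfl
    have hXe : ∀ i, algebraMap (MvPolynomial (Fin (n + 1)) A) (Groth.Agent.HensCoord15.H (Fin (n + 1)) A)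
        (MvPolynomial.X i) = Groth.Agent.HensCoord15.X i := fun i => rfl
    simp only [VanCyc.quadPoly, VanCyc.quadEval, map_sum,
      apply_ite (algebraMap (MvPolynomial (Fin (n + 1)) A) (Groth.Agent.HensCoord15.H (Fin (n + 1)) A)),
      map_mul, map_zero, hC, hXe, map_neg, sub_neg_eq_add]
    exact add_comm _ _
  have hk : RingHom.ker p = RingHom.ker ρ := by
    rw [hρk, show RingHom.ker π₂ = Ideal.span {g} from Ideal.mk_ker, Ideal.map_span, Set.image_singleton, hrfl]
    ext z
    rw [RingHom.mem_ker, Ideal.mem_span_singleton']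
    show π (Φ.symm z) = 0 ↔ _
    rw [← RingHom.mem_ker, hker, Ideal.mem_span_singleton']
    constructor
    · rintro ⟨w, hw⟩
      exact ⟨Φ w, by rw [← map_mul, hw, Φ.apply_symm_apply]⟩
    · rintro ⟨w, hw⟩
      exact ⟨Φ.symm w, by rw [← hw, map_mul, Φ.symm_apply_apply]⟩
  exact ⟨((Ideal.quotientKerAlgEquivOfSurjective hp).symm.trans (Ideal.quotientEquivAlgOfEq A hk)).trans
    (Ideal.quotientKerAlgEquivOfSurjective hρ)⟩

end Groth.Agent.S4008
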