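import Groth.Statements.S4014
import Groth.Agent.Lib.HensCoord15.Core
import Groth.Agent.Lib.HensCoord15.NormalOrd
import Groth.Agent.Lib.HensCoord15.DegModel
-- import your own Groth.Agent.* helpers here

set_option autoImplicit false
universe u
open VanCyc

namespace Groth.Agent.S4014

/-- Let A be a henselian local ring whose residue field k has characteristic 2, B₀ a finitely presented
A-algebra and P a maximal ideal of B₀ above the maximal ideal of A, with B = (B₀)_P flat over A and
B₀/P = k (a k-rational point). Suppose the closed fibre B/𝔪_A B has at its closed point an ordinary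
quadratic singularity of even dimension 2m which is degenerate, i.e. not non-degenerate (in
characteristic 2 and even dimension every ordinary quadratic point is degenerate). Then there are a
non-degenerate quadratic form Q' in 2m variables over A (coefficient matrix a'), b in the maximal
ideal of A and c in A such that the henselisation of B is A-isomorphic to the henselisation of
A[x_0, …, x_{2m}]/(x_0² + b x_0 + c + Q'(x_1, …, x_{2m})) at the point of its closed fibre where
x_1, …, x_{2m} vanish (the unique maximal ideal containing 𝔪_A and x_1, …, x_{2m}). (The published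
statement allows a residue field purely inseparable over k; there it fails, because the quadratic
form of the model has its coefficients in A, so the rational case is taken here.) -/
theorem result (A : Type u) [CommRing A] [HenselianLocalRing A]
    (hA : CharP (IsLocalRing.ResidueField A) 2)
    (B₀ : Type u) [CommRing B₀] [Algebra A B₀] [Algebra.FinitePresentation A B₀]
    (P : Ideal B₀) [P.IsMaximal] (hP : (IsLocalRing.maximalIdeal A).map (algebraMap A B₀) ≤ P)
    (hPi : ∀ y : B₀, ∃ c : A, y - algebraMap A B₀ c ∈ P)
    [Module.Flat A (Localization.AtPrime P)] (m : ℕ)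
    (hq : VanCyc.IsOrdQuadPt (VanCyc.fibHom A (Localization.AtPrime P)) (2 * m))
    (hq' : ¬ VanCyc.IsNondegQuadPt (VanCyc.fibHom A (Localization.AtPrime P)) (2 * m))
    (Bh : Type u) [CommRing Bh] [IsLocalRing Bh] [Algebra (Localization.AtPrime P) Bh]
    [IsLocalHom (algebraMap (Localization.AtPrime P) Bh)] [Hensel.IsHenselization (Localization.AtPrime P) Bh]
    [Algebra A Bh] [IsScalarTower A (Localization.AtPrime P) Bh] :
    ∃ (a' : Fin (2 * m) → Fin (2 * m) → A) (b c : A), VanCyc.QuadNondeg a' ∧ b ∈ IsLocalRing.maximalIdeal A ∧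
      ∀ (Q : Ideal (VanCyc.degQuadRing A a' b c)) [Q.IsMaximal], VanCyc.sideIdeal A a' b c ≤ Q →
        ∀ (C : Type u) [CommRing C] [IsLocalRing C] [Algebra (Localization.AtPrime Q) C]
          [IsLocalHom (algebraMap (Localization.AtPrime Q) C)] [Hensel.IsHenselization (Localization.AtPrime Q) C]
          [Algebra A C] [IsScalarTower A (Localization.AtPrime Q) C],
          Nonempty (Bh ≃ₐ[A] C) := by
  classical
  haveI hloc : IsLocalHom (algebraMap A (Localization.AtPrime P)) := ⟨fun a ha => by
    by_contra hn
    rw [IsScalarTower.algebraMap_apply A B₀ (Localization.AtPrime P)] at ha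
    exact (IsLocalization.AtPrime.isUnit_to_map_iff (Localization.AtPrime P) P _).1 ha
      (hP (Ideal.mem_map_of_mem _ ((IsLocalRing.mem_maximalIdeal a).2 hn)))⟩
  have hPm : ∀ a : A, algebraMap A B₀ a ∈ P ↔ a ∈ IsLocalRing.maximalIdeal A := fun a =>
    ⟨fun h => (IsLocalRing.mem_maximalIdeal a).2 fun hu =>
      (inferInstance : P.IsPrime).ne_top (Ideal.eq_top_of_isUnit_mem P h (hu.map _)),
      fun h => hP (Ideal.mem_map_of_mem _ h)⟩
  have hres : ∀ r : Localization.AtPrime P, ∃ a : A,
      r - algebraMap A _ a ∈ IsLocalRing.maximalIdeal (Localization.AtPrime P) := by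
    intro r
    obtain ⟨b, s, rfl⟩ := IsLocalization.exists_mk'_eq P.primeCompl r
    obtain ⟨c, hc⟩ := hPi b
    obtain ⟨d, hd⟩ := hPi s
    have hdu : IsUnit d := by
      by_contra hn
      refine s.2 ?_
      have h := add_mem hd ((hPm d).2 ((IsLocalRing.mem_maximalIdeal d).2 hn))
      rwa [sub_add_cancel] at h
    obtain ⟨d', hd'⟩ := hdu.exists_right_inv
    refine ⟨c * d', ?_⟩
    rw [← (IsLocalRing.maximalIdeal (Localization.AtPrime P)).mul_unit_mem_iff_mem
      (IsLocalization.map_units (Localization.AtPrime P) s), sub_mul, IsLocalization.mk'_spec,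
      IsScalarTower.algebraMap_apply A B₀ (Localization.AtPrime P), ← map_mul, ← map_sub,
      IsLocalization.AtPrime.to_map_mem_maximal_iff _ P]
    have : b - algebraMap A B₀ (c * d') * s = (b - algebraMap A B₀ c) -
        algebraMap A B₀ (c * d') * (s - algebraMap A B₀ d) - algebraMap A B₀ c * algebraMap A B₀ (d * d' - 1) := by
      rw [map_sub (algebraMap A B₀), map_mul, map_mul, map_one]; ring
    rw [this, hd', sub_self, map_zero, mul_zero, sub_zero]
    exact sub_mem hc (Ideal.mul_mem_left _ _ hd)
  have h2 : (2 : IsLocalRing.ResidueField A) = 0 := by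
    simpa using (CharP.cast_eq_zero (IsLocalRing.ResidueField A) 2)
  haveI : IsLocalHom (algebraMap A (AlgebraicClosure (IsLocalRing.ResidueField A))) :=
    Groth.Agent.HensCoord15.isLocalHom_algebraicClosure
  obtain ⟨L, _, _, _, _, _, ι, hι, hex, huniq, hL⟩ := Groth.Agent.HensCoord15.exists_geometric_fibre' hres
    (fun L _ _ _ => VanCyc.IsOrdQuadSing (AlgebraicClosure (IsLocalRing.ResidueField A)) L (2 * m)) hq
  obtain ⟨F, π, hF, hπ, -, hker⟩ :=
    Groth.Agent.HensCoord15.exists_hypersurface_ord B₀ P hPm hPi Bh L ι hι hex huniq (2 * m) hL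
  obtain ⟨a', b, c, ha, hb, hc, Φ, w, hw, hΦ⟩ := Groth.Agent.HensCoord15.exists_normalForm_ord h2 F hF
  refine ⟨a', b, c, ha, hb, ?_⟩
  intro Q hQm hside C _ _ _ _ _ _ _
  exact Groth.Agent.HensCoord15.degQuad_iso a' b c hb hc Bh π hπ F hker Φ w hw hΦ Q hside C

end Groth.Agent.S4014
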