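import Groth.Statements.S4019
import Groth.Agent.Lib.LefPen13.PairBasis
import Groth.Agent.Lib.LefPen13.Exist1
import Groth.Agent.Lib.LefPen13.Exist2

set_option linter.style.haveILetI false

set_option autoImplicit false
universe u
open CategoryTheory CategoryTheory.Limits AlgebraicGeometry
open LefPen

namespace Groth.Agent.S4019

/-- Let k be an algebraically closed field and X an irreducible smooth proper k-scheme of dimension n ≥
1 embedded in projective r-space by a closed immersion i. For every d ≥ 2 the composite of i with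
the d-uple embedding is a Lefschetz embedding: the pairs (F, G) of degree-d forms spanning a
Lefschetz pencil for X (independent forms; base locus X ∩ V(F, G) a transversal section; all but
finitely many members transversal to X; each other member cutting X in a scheme smooth except at one
ordinary quadratic singularity) contain the non-vanishing locus of a polynomial function of the
coefficients that is not identically zero, i.e. a dense open set of the space of pencils. -/
theorem result (k : Type u) [Field k] [IsAlgClosed k] (r n : ℕ) (hn : 1 ≤ n)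
    {X : Scheme.{u}} (i : X ⟶ CohB1.ProjSpace r k) [IsClosedImmersion i] [IrreducibleSpace X]
    [SmoothOfRelativeDimension n (i ≫ CohB1.ProjSpace.toSpec r k)]
    (d : ℕ) (hd : 2 ≤ d) : LefPen.IsLefschetzEmb k n i d := by
  classical
  haveI : Smooth (i ≫ CohB1.ProjSpace.toSpec r k) := SmoothOfRelativeDimension.smooth n _
  obtain ⟨m, rfl⟩ : ∃ m, n = m + 1 := ⟨n - 1, by omega⟩
  haveI : Module.Finite k (LefPen.Form r k d) := (Groth.Agent.LefPen22.finrank_form k r d).2
  let b := Module.finBasis k (LefPen.Form r k d)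
  have hd1 : 1 ≤ d := by omega
  obtain ⟨j₁, ⟨χ₁⟩⟩ := Groth.Agent.LefPen13.exists_point i
  haveI : Nonempty (Σ j : Fin (r + 1), Groth.Agent.LefPen13.A i j →ₐ[k] k) := ⟨⟨j₁, χ₁⟩⟩
  obtain ⟨F₀, hF₀⟩ := Groth.Agent.LefPen13.exists_oneNode i (m := m) (d := d) hd
  obtain ⟨f, hf, hfS⟩ := Groth.Agent.LefPen13.exists_prime_eqn i b hd1
  obtain ⟨g, hg0, hgS⟩ := Groth.Agent.LefPen13.oneNode_open i b F₀ hF₀
  have hfg : ¬ f ∣ g := fun ⟨w, hw⟩ => hg0 (by
    obtain ⟨j, χ, hnode, -⟩ := hF₀
    rw [hw, map_mul, hfS F₀ ⟨j, χ, hnode.1⟩, zero_mul])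
  obtain ⟨E₀, hE₀, hE₀'⟩ := Groth.Agent.LefPen13.exists_nonsingular_poly i b hd1
  obtain ⟨c, hc⟩ : ∃ c, MvPolynomial.eval c E₀ ≠ 0 := by
    by_contra! h
    exact hE₀ (MvPolynomial.funext fun c => (h c).trans (map_zero _).symm)
  have hH₀ : ¬ Groth.Agent.LefPen13.Singular i (b.equivFun.symm c) := fun hs =>
    hc ((congrArg (fun x => MvPolynomial.eval x E₀) (b.equivFun.apply_symm_apply c)).symm.trans (hE₀' _ hs))
  obtain ⟨E₁, hE₁, hE₁'⟩ := Groth.Agent.LefPen13.exists_good_poly_through i b (m := m) hd1 j₁ χ₁ f g hf hfg hfS hgS _ hH₀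
  obtain ⟨c₁, hc₁⟩ : ∃ c, MvPolynomial.eval c E₁ ≠ 0 := by
    by_contra! h
    exact hE₁ (MvPolynomial.funext fun c => (h c).trans (map_zero _).symm)
  have hgood := hE₁' (b.equivFun.symm c₁) (by rwa [LinearEquiv.apply_symm_apply])
  let b₂ := Groth.Agent.LefPen13.pairBasis b
  have hfst : ∀ v : LefPen.Form r k d × LefPen.Form r k d,
      Groth.Agent.LefPen13.frm b (Groth.Agent.LefPen13.fst (b₂.equivFun v)) = v.1 := fun v => by
    rw [Groth.Agent.LefPen13.fst_pairBasis]; exact b.equivFun.symm_apply_apply _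
  have hsnd : ∀ v : LefPen.Form r k d × LefPen.Form r k d,
      Groth.Agent.LefPen13.frm b (Groth.Agent.LefPen13.snd (b₂.equivFun v)) = v.2 := fun v => by
    rw [Groth.Agent.LefPen13.snd_pairBasis]; exact b.equivFun.symm_apply_apply _
  obtain ⟨E, hE0, hE⟩ := Groth.Agent.LefPen13.good_open (n := m + 1) i b hn
    (b₂.equivFun (b.equivFun.symm c, b.equivFun.symm c₁)) (by rw [hfst, hsnd]; exact hgood)
  refine ⟨_, Groth.Agent.LefPen13.isPolyFun_eval b₂ E, ⟨_, hE0⟩, fun w hw => ?_⟩
  have hG := hE _ hw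
  rw [hfst, hsnd] at hG
  exact (Groth.Agent.LefPen13.pencil_iff i b hn w.1 w.2).2 hG

end Groth.Agent.S4019
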