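import Groth.Statements.S4020
import Groth.Agent.Lib.LefPen13.PairBasis
import Groth.Agent.Lib.LefPen13.CharZ.Node

set_option linter.style.haveILetI false

set_option autoImplicit false
universe u
open CategoryTheory CategoryTheory.Limits AlgebraicGeometry
open LefPen

namespace Groth.Agent.S4020

/-- Let k be an algebraically closed field and X an irreducible smooth proper k-scheme of dimension n ≥
1 embedded in projective r-space by a closed immersion i; assume k has characteristic zero. Then i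
itself is a Lefschetz embedding: the pairs of linear forms spanning a Lefschetz pencil of hyperplane
sections of X contain the non-vanishing locus of a not identically zero polynomial function of their
coefficients. -/
theorem result (k : Type u) [Field k] [IsAlgClosed k] (r n : ℕ) (hn : 1 ≤ n)
    {X : Scheme.{u}} (i : X ⟶ CohB1.ProjSpace r k) [IsClosedImmersion i] [IrreducibleSpace X]
    [SmoothOfRelativeDimension n (i ≫ CohB1.ProjSpace.toSpec r k)]
    [CharZero k] : LefPen.IsLefschetzEmb k n i 1 := by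
  classical
  haveI : Smooth (i ≫ CohB1.ProjSpace.toSpec r k) := SmoothOfRelativeDimension.smooth n _
  obtain ⟨m, rfl⟩ : ∃ m, n = m + 1 := ⟨n - 1, by omega⟩
  haveI : Module.Finite k (LefPen.Form r k 1) := (Groth.Agent.LefPen22.finrank_form k r 1).2
  let b := Module.finBasis k (LefPen.Form r k 1)
  have hd1 : 1 ≤ 1 := le_rfl
  obtain ⟨j₁, ⟨χ₁⟩⟩ := Groth.Agent.LefPen13.exists_point i
  haveI : Nonempty (Σ j : Fin (r + 1), Groth.Agent.LefPen13.A i j →ₐ[k] k) := ⟨⟨j₁, χ₁⟩⟩
  obtain ⟨f, hf, hfS⟩ := Groth.Agent.LefPen13.exists_prime_eqn i b hd1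
  obtain ⟨g, hfg, hgS⟩ : ∃ g : MvPolynomial (Fin (Module.finrank k (LefPen.Form r k 1))) k, ¬ f ∣ g ∧
      ∀ F, Groth.Agent.LefPen13.Singular i F → MvPolynomial.eval (b.equivFun F) g ≠ 0 →
        Groth.Agent.LefPen13.OneNode i F (m + 1) := by
    by_cases hsmall : ∃ g : MvPolynomial (Fin (Module.finrank k (LefPen.Form r k 1))) k, ¬ f ∣ g ∧
        ∀ F, Groth.Agent.LefPen13.Singular i F → MvPolynomial.eval (b.equivFun F) g = 0
    · obtain ⟨g, hfg, hg⟩ := hsmall
      exact ⟨g, hfg, fun F hF hne => absurd (hg F hF) hne⟩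
    · obtain ⟨F₀, hF₀⟩ := Groth.Agent.LefPen13.exists_oneNode_one i (m := m) b f hf hfS
        (fun G hG => by_contra fun h => hsmall ⟨G, h, hG⟩)
      obtain ⟨g, hg0, hgS⟩ := Groth.Agent.LefPen13.oneNode_open i b F₀ hF₀
      obtain ⟨j, χ, hnode, -⟩ := hF₀
      exact ⟨g, fun ⟨w, hw⟩ => hg0 (by rw [hw, map_mul, hfS F₀ ⟨j, χ, hnode.1⟩, zero_mul]), hgS⟩
  obtain ⟨E₀, hE₀, hE₀'⟩ := Groth.Agent.LefPen13.exists_nonsingular_poly i b hd1
  obtain ⟨c, hc⟩ : ∃ c, MvPolynomial.eval c E₀ ≠ 0 := by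
    by_contra! h
    exact hE₀ (MvPolynomial.funext fun c => (h c).trans (map_zero _).symm)
  have hH₀ : ¬ Groth.Agent.LefPen13.Singular i (b.equivFun.symm c) := fun hs =>
    hc ((congrArg (fun x => MvPolynomial.eval x E₀) (b.equivFun.apply_symm_apply c)).symm.trans (hE₀' _ hs))
  obtain ⟨E₁, hE₁, hE₁'⟩ := Groth.Agent.LefPen13.exists_good_poly_through i b (m := m) hd1 j₁ χ₁ f g hf hfg hfS hgS _ hH₀
  obtain ⟨c₁, hc₁⟩ : ∃ c, MvPolynomial.eval c E₁ ≠ 0 := by
    by_contra! h
    exact hE₁ (MvPolynomial.funext fun c => (h c).trans (map_zero _).symm)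
  have hgood := hE₁' (b.equivFun.symm c₁) (by rwa [LinearEquiv.apply_symm_apply])
  let b₂ := Groth.Agent.LefPen13.pairBasis b
  have hfst : ∀ v : LefPen.Form r k 1 × LefPen.Form r k 1,
      Groth.Agent.LefPen13.frm b (Groth.Agent.LefPen13.fst (b₂.equivFun v)) = v.1 := fun v => by
    rw [Groth.Agent.LefPen13.fst_pairBasis]; exact b.equivFun.symm_apply_apply _
  have hsnd : ∀ v : LefPen.Form r k 1 × LefPen.Form r k 1,
      Groth.Agent.LefPen13.frm b (Groth.Agent.LefPen13.snd (b₂.equivFun v)) = v.2 := fun v => by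
    rw [Groth.Agent.LefPen13.snd_pairBasis]; exact b.equivFun.symm_apply_apply _
  obtain ⟨E, hE0, hE⟩ := Groth.Agent.LefPen13.good_open (n := m + 1) i b hn
    (b₂.equivFun (b.equivFun.symm c, b.equivFun.symm c₁)) (by rw [hfst, hsnd]; exact hgood)
  refine ⟨_, Groth.Agent.LefPen13.isPolyFun_eval b₂ E, ⟨_, hE0⟩, fun w hw => ?_⟩
  have hG := hE _ hw
  rw [hfst, hsnd] at hG
  exact (Groth.Agent.LefPen13.pencil_iff i b hn w.1 w.2).2 hG

end Groth.Agent.S4020
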