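import Groth.Statements.S4021
import Groth.Agent.Lib.LefPen13.PairBasis

set_option autoImplicit false
set_option linter.style.haveILetI false
universe u
open CategoryTheory CategoryTheory.Limits AlgebraicGeometry
open LefPen

namespace Groth.Agent.S4021

/-- Let k be an algebraically closed field and X an irreducible smooth proper k-scheme of dimension n ≥
1 embedded in projective r-space by a closed immersion i, and let d ≥ 1. The set of pairs (F, G) of
degree-d forms spanning a Lefschetz pencil for X is Zariski open in the space of pairs of forms. -/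
theorem result (k : Type u) [Field k] [IsAlgClosed k] (r n : ℕ) (hn : 1 ≤ n)
    {X : Scheme.{u}} (i : X ⟶ CohB1.ProjSpace r k) [IsClosedImmersion i] [IrreducibleSpace X]
    [SmoothOfRelativeDimension n (i ≫ CohB1.ProjSpace.toSpec r k)]
    (d : ℕ) (hd : 1 ≤ d) :
    LefPen.IsZOpen k {FG : LefPen.Form r k d × LefPen.Form r k d | LefPen.IsLefschetzPencil k n i d FG.1 FG.2} := by
  haveI : Smooth (i ≫ CohB1.ProjSpace.toSpec r k) := SmoothOfRelativeDimension.smooth n _
  haveI : Module.Finite k (LefPen.Form r k d) := (Groth.Agent.LefPen22.finrank_form k r d).2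
  let b := Module.finBasis k (LefPen.Form r k d)
  let b₂ := Groth.Agent.LefPen13.pairBasis b
  have hfst : ∀ v : LefPen.Form r k d × LefPen.Form r k d,
      Groth.Agent.LefPen13.frm b (Groth.Agent.LefPen13.fst (b₂.equivFun v)) = v.1 := fun v => by
    rw [Groth.Agent.LefPen13.fst_pairBasis]; exact b.equivFun.symm_apply_apply _
  have hsnd : ∀ v : LefPen.Form r k d × LefPen.Form r k d,
      Groth.Agent.LefPen13.frm b (Groth.Agent.LefPen13.snd (b₂.equivFun v)) = v.2 := fun v => by
    rw [Groth.Agent.LefPen13.snd_pairBasis]; exact b.equivFun.symm_apply_apply _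
  intro v hv
  obtain ⟨E, hE0, hE⟩ := Groth.Agent.LefPen13.good_open (n := n) i b hn (b₂.equivFun v) (by
    rw [hfst, hsnd]; exact (Groth.Agent.LefPen13.pencil_iff i b hn v.1 v.2).1 hv)
  refine ⟨_, Groth.Agent.LefPen13.isPolyFun_eval b₂ E, hE0, fun w hw => ?_⟩
  have hG := hE _ hw
  rw [hfst, hsnd] at hG
  exact (Groth.Agent.LefPen13.pencil_iff i b hn w.1 w.2).2 hG

end Groth.Agent.S4021
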