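import Groth.Statements.S4022
import Groth.Agent.Lib.LefPen13.Exist1
import Groth.Agent.Lib.LefPen13.Exist2

set_option linter.style.haveILetI false

set_option autoImplicit false
universe u
open CategoryTheory CategoryTheory.Limits AlgebraicGeometry
open LefPen

namespace Groth.Agent.S4022

/-- Let k be an algebraically closed field and X an irreducible smooth proper k-scheme of dimension n ≥
1 embedded in projective r-space by a closed immersion i; let d ≥ 1 be such that the degree-d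
embedding is a Lefschetz embedding, and let H₀ be a degree-d form whose hypersurface cuts X
transversally. Then the forms G such that (H₀, G) spans a Lefschetz pencil contain the non-vanishing
locus of a not identically zero polynomial function: the Lefschetz pencils through H₀ are dense open
among pencils through H₀. -/
theorem result (k : Type u) [Field k] [IsAlgClosed k] (r n : ℕ) (hn : 1 ≤ n)
    {X : Scheme.{u}} (i : X ⟶ CohB1.ProjSpace r k) [IsClosedImmersion i] [IrreducibleSpace X]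
    [SmoothOfRelativeDimension n (i ≫ CohB1.ProjSpace.toSpec r k)]
    (d : ℕ) (hd : 1 ≤ d) (hL : LefPen.IsLefschetzEmb k n i d) (H₀ : LefPen.Form r k d)
    (hH₀ : LefPen.Transversal k n 1 (LefPen.secToSpec i ({H₀} : Set (LefPen.Form r k d)))) :
    LefPen.IsGeneric k {G : LefPen.Form r k d | LefPen.IsLefschetzPencil k n i d H₀ G} := by
  classical
  haveI : Smooth (i ≫ CohB1.ProjSpace.toSpec r k) := SmoothOfRelativeDimension.smooth n _
  obtain ⟨m, rfl⟩ : ∃ m, n = m + 1 := ⟨n - 1, by omega⟩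
  haveI : Module.Finite k (LefPen.Form r k d) := (Groth.Agent.LefPen22.finrank_form k r d).2
  let b := Module.finBasis k (LefPen.Form r k d)
  obtain ⟨j₁, ⟨χ₁⟩⟩ := Groth.Agent.LefPen13.exists_point i
  haveI : Nonempty (Σ j : Fin (r + 1), Groth.Agent.LefPen13.A i j →ₐ[k] k) := ⟨⟨j₁, χ₁⟩⟩
  rw [Groth.Agent.LefPen13.transversal_iff i hn H₀] at hH₀
  obtain ⟨f, hf, hfS⟩ := Groth.Agent.LefPen13.exists_prime_eqn i b hd
  obtain ⟨φ, -, ⟨v, hv⟩, hS⟩ := hL
  obtain ⟨hli, -, -, hmem⟩ := (Groth.Agent.LefPen13.pencil_iff i b hn v.1 v.2).1 (hS v hv)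
  obtain ⟨g, hfg, hgS⟩ : ∃ g : MvPolynomial (Fin (Module.finrank k (LefPen.Form r k d))) k, ¬ f ∣ g ∧
      ∀ F, Groth.Agent.LefPen13.Singular i F → MvPolynomial.eval (b.equivFun F) g ≠ 0 →
        Groth.Agent.LefPen13.OneNode i F (m + 1) := by
    by_cases hsing : ∃ s t : k, (s ≠ 0 ∨ t ≠ 0) ∧ Groth.Agent.LefPen13.Singular i (s • v.1 + t • v.2)
    · obtain ⟨s, t, hst, hs⟩ := hsing
      obtain ⟨g, hg0, hgS⟩ := Groth.Agent.LefPen13.oneNode_open i b _ (hmem s t hst hs)
      exact ⟨g, fun ⟨w, hw⟩ => hg0 (by rw [hw, map_mul, hfS _ hs, zero_mul]), hgS⟩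
    · push Not at hsing
      obtain ⟨g, hfg, hg⟩ := Groth.Agent.LefPen13.exists_eqn_of_line i b f hfS v.1 v.2 hsing
      exact ⟨g, hfg, fun F hF hne => absurd (hg F hF) hne⟩
  obtain ⟨E, hE, hE'⟩ := Groth.Agent.LefPen13.exists_good_poly_through i b (m := m) hd j₁ χ₁ f g hf hfg hfS hgS H₀ hH₀
  obtain ⟨c₁, hc₁⟩ : ∃ c, MvPolynomial.eval c E ≠ 0 := by
    by_contra! h
    exact hE (MvPolynomial.funext fun c => (h c).trans (map_zero _).symm)
  refine ⟨_, Groth.Agent.LefPen13.isPolyFun_eval b E, ⟨b.equivFun.symm c₁, ?_⟩, fun G hG => ?_⟩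
  · rwa [LinearEquiv.apply_symm_apply]
  · exact (Groth.Agent.LefPen13.pencil_iff i b hn H₀ G).2 (hE' G hG)

end Groth.Agent.S4022
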