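import Groth.Statements.S4023
import Groth.Agent.Lib.LefPen13.Exists

set_option autoImplicit false
universe u
open CategoryTheory CategoryTheory.Limits AlgebraicGeometry
open LefPen

namespace Groth.Agent.S4023

/-- Let k be an algebraically closed field and X an irreducible smooth proper k-scheme of dimension n ≥
1 embedded in projective r-space by a closed immersion i. For every closed point x₀ of X and every d
≥ 2 there is a degree-d form H such that x₀ lies on X ∩ V(H) and is an ordinary quadratic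
singularity of it. -/
theorem result (k : Type u) [Field k] [IsAlgClosed k] (r n : ℕ) (hn : 1 ≤ n)
    {X : Scheme.{u}} (i : X ⟶ CohB1.ProjSpace r k) [IsClosedImmersion i] [IrreducibleSpace X]
    [SmoothOfRelativeDimension n (i ≫ CohB1.ProjSpace.toSpec r k)]
    (x₀ : X) (hx₀ : IsClosed ({x₀} : Set X)) (d : ℕ) (hd : 2 ≤ d) :
    ∃ (H : LefPen.Form r k d) (y : LefPen.Sec i ({H} : Set (LefPen.Form r k d))),
      LefPen.secι i ({H} : Set (LefPen.Form r k d)) y = x₀ ∧
      LefPen.IsOrdQuadSing k (n - 1) (LefPen.secToSpec i ({H} : Set (LefPen.Form r k d))) y := by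
  haveI : Smooth (i ≫ CohB1.ProjSpace.toSpec r k) := SmoothOfRelativeDimension.smooth n _
  obtain ⟨m, rfl⟩ : ∃ m, n = m + 1 := ⟨n - 1, by omega⟩
  obtain ⟨j, χ, rfl⟩ := Groth.Agent.LefPen13.exists_pX i x₀ hx₀
  haveI := Groth.Agent.LefPen13.smooth i j
  obtain ⟨P, τ, hτ⟩ := Groth.Agent.LefPen13.exists_isExp (Groth.Agent.LefPen13.locally_std i (m + 1) j) χ
  obtain ⟨H, h2, hq⟩ := Groth.Agent.LefPen13.exists_node i j χ P τ hτ d hd
  refine ⟨H, Groth.Agent.LefPen13.secP i H j χ (Groth.Agent.LefPen13.apply_eq_zero_of_mem_sq i h2),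
    Groth.Agent.LefPen13.secι_secP i H j χ _, ?_⟩
  obtain ⟨E, hE⟩ := Groth.Agent.LefPen13.exists_cpl_secP i H j χ (Groth.Agent.LefPen13.apply_eq_zero_of_mem_sq i h2) P τ hτ
  refine ⟨Groth.Agent.LefPen13.isClosed_secP i H j χ _, _,
    ⟨Groth.Agent.LefPen13.stdQuad k (m + 1), (MvPolynomial.mem_homogeneousSubmodule _ _).2
      (Groth.Agent.LefPen13.stdQuad_isHomogeneous k _)⟩, E, hE, fun t ht => ?_, fun t ht => ?_, ?_⟩
  · exact Groth.Agent.H2Alg.PSHom.coeff_eq_zero_of_mem_pow ((hτ.hmem 2 _).1 h2) ht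
  · simp only [← hq]
    exact Groth.Agent.LefPen13.coeff_qp _ ht
  · exact (Groth.Agent.LefPen13.nondegQuad_iff _).2 (Groth.Agent.LefPen13.nondeg_stdQuad k _)

end Groth.Agent.S4023
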