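import Groth.Statements.S4024
import Groth.Agent.Lib.TangForm19.Basic
-- import your own Groth.Agent.* helpers here

set_option autoImplicit false
universe u
open CategoryTheory CategoryTheory.Limits AlgebraicGeometry
open LefPen Groth.Agent.TangForm19

namespace Groth.Agent.S4024

set_option linter.style.haveILetI false
set_option backward.isDefEq.respectTransparency.types false


/-- Let k be a field (the source works over an algebraically closed field; the count is the same over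
any field), d ≥ 2, x₁ = [v₁] and x₂ = [v₂] two distinct points of projective r-space and P(W₁) ∋ x₁,
P(W₂) ∋ x₂ linear subspaces. In the space of degree-d forms, those whose hypersurface passes through
x₁ tangentially to P(W₁) and through x₂ tangentially to P(W₂) form a linear subspace of codimension
dim P(W₁) + dim P(W₂) + 2 = dim W₁ + dim W₂ when d ≥ 3 or when the line x₁x₂ is not contained in
both P(W₁) and P(W₂), and of codimension dim W₁ + dim W₂ - 1 when d = 2 and the line x₁x₂ lies in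
P(W₁) ∩ P(W₂). -/
theorem result (k : Type u) [Field k] (r d : ℕ) (hd : 2 ≤ d)
    (W₁ W₂ : Submodule k (Fin (r + 1) → k)) (v₁ v₂ : Fin (r + 1) → k) (h₁ : v₁ ∈ W₁) (h₂ : v₂ ∈ W₂)
    (hv : LinearIndependent k ![v₁, v₂]) :
    ((3 ≤ d ∨ ¬ (v₂ ∈ W₁ ∧ v₁ ∈ W₂)) →
      Module.finrank k (LefPen.Form r k d) =
        Module.finrank k ↥(LefPen.tangentForms k d W₁ v₁ W₂ v₂) + (Module.finrank k ↥W₁ + Module.finrank k ↥W₂)) ∧
    ((d = 2 ∧ v₂ ∈ W₁ ∧ v₁ ∈ W₂) →
      Module.finrank k (LefPen.Form r k d) + 1 =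
        Module.finrank k ↥(LefPen.tangentForms k d W₁ v₁ W₂ v₂) + (Module.finrank k ↥W₁ + Module.finrank k ↥W₂)) := by
  classical
  obtain ⟨x₀, hx₀1, hx₀2⟩ := exists_coord hv
  obtain ⟨x₁, hx₁2, hx₁1⟩ := exists_coord (LinearIndependent.pair_symm_iff.mp hv)
  obtain ⟨e, rfl⟩ : ∃ e, d = e + 2 := ⟨d - 2, by omega⟩
  let Ψ := (Φ (e + 2) W₁ v₁ x₀).prod (Φ (e + 2) W₂ v₂ x₁)
  have hker : tangentForms k (e + 2) W₁ v₁ W₂ v₂ = LinearMap.ker Ψ := by
    rw [LinearMap.ker_prod, ker_Φ h₁ hx₀1, ker_Φ h₂ hx₁2]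
    rfl
  have hfin : Module.finrank k (Module.Dual k W₁ × Module.Dual k W₂) =
      Module.finrank k W₁ + Module.finrank k W₂ := by
    rw [Module.finrank_prod, Subspace.dual_finrank_eq, Subspace.dual_finrank_eq]
  haveI : FiniteDimensional k (Form r k (e + 2)) :=
    Module.Finite.iff_fg.mpr (MvPolynomial.homogeneousSubmodule_fg (Fin (r + 1)) k (e + 2))
  have hrk := Ψ.finrank_range_add_finrank_ker
  rw [hker]
  have onto : ∀ (φ : Module.Dual k W₁) (ψ : Module.Dual k W₂),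
      (e = 0 → ∀ (a : v₂ ∈ W₁) (b : v₁ ∈ W₂), φ ⟨v₂, a⟩ = ψ ⟨v₁, b⟩) →
      (φ, ψ) ∈ LinearMap.range Ψ := by
    intro φ ψ hcomp
    rcases Nat.eq_zero_or_pos e with rfl | he
    · let t : k := if h : v₂ ∈ W₁ then φ ⟨v₂, h⟩ else if h' : v₁ ∈ W₂ then ψ ⟨v₁, h'⟩ else 0
      obtain ⟨H, hH, hHv⟩ := exists_ext W₂ ψ v₁ t (fun h => by
        by_cases h' : v₂ ∈ W₁
        · simp only [t, dif_pos h']; exact (hcomp rfl h' h).symm
        · simp only [t, dif_neg h', dif_pos h])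
      obtain ⟨F, hF, hFv⟩ := exists_ext W₁ (φ - t • x₁.domRestrict W₁) v₂ 0 (fun h => by
        simp [t, dif_pos h, hx₁2])
      obtain ⟨G, hG1, hG2⟩ := exists_form 0 hx₀1 hx₀2 hx₁2 hx₁1 W₁ W₂ F H
      refine ⟨G, Prod.ext (LinearMap.ext fun w => ?_) (LinearMap.ext fun w => ?_)⟩
      · show Φ _ W₁ v₁ x₀ G w = φ w
        simp [hG1, hF, hHv]
      · show Φ _ W₂ v₂ x₁ G w = ψ w
        simp [hG2, hH, hFv]
    · obtain ⟨F, hF⟩ := φ.exists_extend
      obtain ⟨H, hH⟩ := ψ.exists_extend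
      obtain ⟨G, hG1, hG2⟩ := exists_form e hx₀1 hx₀2 hx₁2 hx₁1 W₁ W₂ F H
      refine ⟨G, Prod.ext (LinearMap.ext fun w => ?_) (LinearMap.ext fun w => ?_)⟩
      · show Φ _ W₁ v₁ x₀ G w = φ w
        simpa [hG1, zero_pow he.ne'] using LinearMap.congr_fun hF w
      · show Φ _ W₂ v₂ x₁ G w = ψ w
        simpa [hG2, zero_pow he.ne'] using LinearMap.congr_fun hH w
  refine ⟨fun hcase => ?_, ?_⟩
  · have htop : LinearMap.range Ψ = ⊤ := by
      refine eq_top_iff.mpr fun p _ => onto p.1 p.2 fun he a b => ?_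
      rcases hcase with h | h
      · omega
      · exact absurd ⟨a, b⟩ h
    rw [htop, finrank_top, hfin] at hrk
    omega
  · rintro ⟨he, a, b⟩
    obtain rfl : e = 0 := by omega
    let L : Module.Dual k W₁ × Module.Dual k W₂ →ₗ[k] k :=
      (Module.Dual.eval k W₁ ⟨v₂, a⟩).coprod (- Module.Dual.eval k W₂ ⟨v₁, b⟩)
    have hL : ∀ p : Module.Dual k W₁ × Module.Dual k W₂, L p = p.1 ⟨v₂, a⟩ - p.2 ⟨v₁, b⟩ := fun p => by simp [L, sub_eq_add_neg]
    have hrange : LinearMap.range Ψ = LinearMap.ker L := by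
      refine le_antisymm ?_ fun (p : Module.Dual k W₁ × Module.Dual k W₂) hp => onto p.1 p.2 fun _ _ _ => ?_
      · rintro _ ⟨G, rfl⟩
        rw [LinearMap.mem_ker, hL]
        show Φ _ W₁ v₁ x₀ G ⟨v₂, a⟩ - Φ _ W₂ v₂ x₁ G ⟨v₁, b⟩ = 0
        rw [Φ_apply, Φ_apply, hx₀2, hx₁1, D_symm ((MvPolynomial.mem_homogeneousSubmodule 2 G.1).mp G.2) v₁ v₂]
        ring
      · rw [LinearMap.mem_ker, hL, sub_eq_zero] at hp
        exact hp
    have hsurj : LinearMap.range L = ⊤ := by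
      refine eq_top_iff.mpr fun t _ => ⟨(t • x₁.domRestrict W₁, 0), ?_⟩
      simp [hL, hx₁2]
    have hLrk := L.finrank_range_add_finrank_ker
    rw [hsurj, finrank_top, Module.finrank_self, hfin, ← hrange] at hLrk
    omega

end Groth.Agent.S4024
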