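import Groth.Statements.S4025
import Groth.Agent.Lib.LefPen13.Open
import Groth.Agent.Lib.LefPen13.Fun

set_option autoImplicit false
set_option linter.style.haveILetI false
universe u
open CategoryTheory CategoryTheory.Limits AlgebraicGeometry
open LefPen

namespace Groth.Agent.S4025

/-- Let k be an algebraically closed field and X an irreducible smooth proper k-scheme of dimension n ≥
1 embedded in projective r-space by a closed immersion i, and let d ≥ 1. Inside the dual variety
(the forms whose hypersurface does not cut X transversally), the forms H such that X ∩ V(H) is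
smooth except at exactly one point which is an ordinary quadratic singularity form an open subset:
around each such H₀ there is a polynomial function on the space of forms, non-zero at H₀, whose
non-vanishing locus meets the dual variety only in such forms. -/
theorem result (k : Type u) [Field k] [IsAlgClosed k] (r n : ℕ) (hn : 1 ≤ n)
    {X : Scheme.{u}} (i : X ⟶ CohB1.ProjSpace r k) [IsClosedImmersion i] [IrreducibleSpace X]
    [SmoothOfRelativeDimension n (i ≫ CohB1.ProjSpace.toSpec r k)]
    (d : ℕ) (hd : 1 ≤ d) (H₀ : LefPen.Form r k d) (hH₀ : LefPen.OneOrdQuad k n i H₀) :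
    ∃ f : LefPen.Form r k d → k, LefPen.IsPolyFun k f ∧ f H₀ ≠ 0 ∧
      ∀ H : LefPen.Form r k d, ¬ LefPen.Transversal k n 1 (LefPen.secToSpec i ({H} : Set (LefPen.Form r k d))) →
        f H ≠ 0 → LefPen.OneOrdQuad k n i H := by
  haveI : Smooth (i ≫ CohB1.ProjSpace.toSpec r k) := SmoothOfRelativeDimension.smooth n _
  obtain ⟨m, rfl⟩ : ∃ m, n = m + 1 := ⟨n - 1, by omega⟩
  haveI : Module.Finite k (LefPen.Form r k d) := (Groth.Agent.LefPen22.finrank_form k r d).2
  let b := Module.finBasis k (LefPen.Form r k d)
  obtain ⟨E, hE0, hE⟩ := Groth.Agent.LefPen13.oneNode_open i b H₀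
    ((Groth.Agent.LefPen13.oneOrdQuad_iff i H₀ hn).1 hH₀)
  refine ⟨_, Groth.Agent.LefPen13.isPolyFun_eval b E, hE0, fun H hT hf => ?_⟩
  rw [Groth.Agent.LefPen13.transversal_iff i hn H, not_not] at hT
  exact (Groth.Agent.LefPen13.oneOrdQuad_iff i H hn).2 (hE H hT hf)

end Groth.Agent.S4025
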