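import Mathlib.FieldTheory.IsAlgClosed.Basic
import Mathlib.RingTheory.MvPolynomial.Basic
import Mathlib.RingTheory.Polynomial.Basic
import Mathlib.RingTheory.Localization.FractionRing
import Mathlib.Algebra.MvPolynomial.CommRing
import Groth.Agent.Lib.Gems6.SubstLine

set_option autoImplicit false
universe u
namespace LefPen
end LefPen
open LefPen

namespace Groth.Agent.S4027

/-- Let k be an algebraically closed field, r ≥ 2, and F ∈ k[X_1, …, X_r] an irreducible polynomial with
F(0) ≠ 0 (in the source the origin is the base point of the lines considered and lies off the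
hypersurface F = 0; without this the claim fails, e.g. for X_1 - X_2^2). Then the polynomial G(T) =
F(X_1 T, …, X_r T), with coefficients in the field of rational functions k(X_1, …, X_r), is
irreducible. -/
theorem result (k : Type u) [Field k] [IsAlgClosed k] (r : ℕ) (hr : 2 ≤ r)
    (F : MvPolynomial (Fin r) k) (hF : Irreducible F) (hF0 : MvPolynomial.eval (fun _ => (0 : k)) F ≠ 0) :
    Irreducible ((MvPolynomial.eval₂ (Polynomial.C.comp MvPolynomial.C)
        (fun j => Polynomial.C (MvPolynomial.X j) * Polynomial.X) F).map
      (algebraMap (MvPolynomial (Fin r) k) (FractionRing (MvPolynomial (Fin r) k)))) := by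
  exact Groth.Agent.Gems6.SubstLine.main F hF hF0

end Groth.Agent.S4027
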