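import Groth.Statements.S4039
import Groth.Agent.Lib.QuadPts24.Geom
import Groth.Agent.Lib.QuadPts24.Count
import Mathlib.Algebra.Ring.GeomSum

set_option autoImplicit false
universe u
open CategoryTheory CategoryTheory.Limits AlgebraicGeometry
open LefPen

namespace Groth.Agent.S4039

noncomputable section Helpers
open MvPolynomial QuadraticMap Groth.Agent

theorem exists_quadraticForm {k : Type u} [Field k] {N : ℕ} (p : MvPolynomial (Fin N) k) (hp : p.IsHomogeneous 2) :
    ∃ f : QuadraticForm k (Fin N → k), (∀ v, f v = MvPolynomial.eval v p) ∧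
      ∀ v l, polar f v (Pi.single l 1) = MvPolynomial.eval v (pderiv l p) := by
  classical
  suffices h : ∀ e ∈ p.support, ∃ f : QuadraticForm k (Fin N → k),
      (∀ v, f v = MvPolynomial.eval v (monomial e (p.coeff e))) ∧
      ∀ v l, polar f v (Pi.single l 1) = MvPolynomial.eval v (pderiv l (monomial e (p.coeff e))) by
    choose F hF1 hF2 using h
    refine ⟨∑ e ∈ p.support.attach, F e.1 e.2, fun v => ?_, fun v l => ?_⟩
    · rw [QuadraticMap.sum_apply]
      conv_rhs => rw [as_sum p, map_sum, ← Finset.sum_attach]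
      exact Finset.sum_congr rfl fun e _ => hF1 _ _ v
    · conv_rhs => rw [as_sum p, map_sum, map_sum, ← Finset.sum_attach]
      simp only [polar, QuadraticMap.sum_apply, ← Finset.sum_sub_distrib]
      exact Finset.sum_congr rfl fun e _ => hF2 _ _ v l
  intro e he
  have hd : e.degree = 2 := by
    by_contra hne
    exact mem_support_iff.1 he (hp.coeff_eq_zero hne)
  obtain ⟨i, j, rfl⟩ : ∃ i j, e = Finsupp.single i 1 + Finsupp.single j 1 := by
    obtain ⟨i, hi⟩ : ∃ i, e i ≠ 0 := by
      by_contra! hc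
      rw [show e = 0 from Finsupp.ext hc, map_zero] at hd
      omega
    obtain ⟨e', rfl⟩ : ∃ e', e = Finsupp.single i 1 + e' :=
      le_iff_exists_add.1 (Finsupp.single_le_iff.2 (Nat.one_le_iff_ne_zero.2 hi))
    rw [map_add, Finsupp.degree_single] at hd
    obtain ⟨j, hj⟩ : ∃ j, e' j ≠ 0 := by
      by_contra! hc
      rw [show e' = 0 from Finsupp.ext hc, map_zero] at hd
      omega
    obtain ⟨e'', rfl⟩ : ∃ e'', e' = Finsupp.single j 1 + e'' :=
      le_iff_exists_add.1 (Finsupp.single_le_iff.2 (Nat.one_le_iff_ne_zero.2 hj))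
    rw [map_add, Finsupp.degree_single] at hd
    exact ⟨i, j, by rw [(Finsupp.degree_eq_zero_iff e'').1 (by omega), add_zero]⟩
  refine ⟨p.coeff (Finsupp.single i 1 + Finsupp.single j 1) • QuadraticMap.linMulLin (LinearMap.proj i) (LinearMap.proj j),
    fun v => ?_, fun v l => ?_⟩
  all_goals
    rw [show monomial (Finsupp.single i 1 + Finsupp.single j 1) (p.coeff (Finsupp.single i 1 + Finsupp.single j 1)) =
      C (p.coeff (Finsupp.single i 1 + Finsupp.single j 1)) * (MvPolynomial.X i * MvPolynomial.X j) by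
        rw [MvPolynomial.X, MvPolynomial.X, monomial_mul, C_mul_monomial, one_mul, mul_one]]
  · simp
  · rw [pderiv_C_mul, pderiv_mul, pderiv_X, pderiv_X]
    simp only [polar, QuadraticMap.smul_apply, QuadraticMap.linMulLin_apply, LinearMap.coe_proj, Function.eval,
      Pi.add_apply, smul_eq_mul, map_mul, map_add, eval_C, eval_X, Pi.single_apply]
    split_ifs <;> simp_all <;> ring

end Helpers

end Groth.Agent.S4039

namespace Groth.Agent.S4039

/-- Let k be a finite field with q elements, n ≥ 0, and Q a quadratic form in n + 2 variables over k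
whose zero scheme X = V(Q) ⊆ P^{n+1}_k is smooth over k of relative dimension n (a smooth quadric of
dimension n over k). Then the number of k-rational points of X is Σ_{i=0}^{n} q^i if n is odd, and
Σ_{i=0}^{n} q^i + ε q^{n/2} with ε = 1 or ε = -1 if n is even, where ε = 1 exactly when X is split,
i.e. contains a k-rational linear subspace of dimension n/2 (Q vanishes on a subspace of k^{n+2} of
dimension n/2 + 1). -/
theorem result (k : Type u) [Field k] [Fintype k] (n : ℕ) (Q : LefPen.Form (n + 1) k 2)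
    [SmoothOfRelativeDimension n ((LefPen.hypIdeal Q).subschemeι ≫ CohB1.ProjSpace.toSpec (n + 1) k)] :
    (Odd n → (SgaExt.pointCount ((LefPen.hypIdeal Q).subschemeι ≫ CohB1.ProjSpace.toSpec (n + 1) k) k : ℤ) =
      ∑ i ∈ Finset.range (n + 1), (Fintype.card k : ℤ) ^ i) ∧
    (Even n → ∃ ε : ℤ, (ε = 1 ∨ ε = -1) ∧
      (SgaExt.pointCount ((LefPen.hypIdeal Q).subschemeι ≫ CohB1.ProjSpace.toSpec (n + 1) k) k : ℤ) =
        (∑ i ∈ Finset.range (n + 1), (Fintype.card k : ℤ) ^ i) + ε * (Fintype.card k : ℤ) ^ (n / 2) ∧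
      (ε = 1 ↔ ∃ W : Submodule k (Fin (n + 1 + 1) → k), Module.finrank k ↥W = n / 2 + 1 ∧
        ∀ w ∈ W, MvPolynomial.eval w Q.1 = 0)) := by
  classical
  obtain ⟨f, hf, hpol⟩ := exists_quadraticForm Q.1 ((MvPolynomial.mem_homogeneousSubmodule _ _).1 Q.2)
  have hnd : Groth.Agent.QuadPts24.ND f := by
    intro x hx hx0
    by_contra hne
    haveI : SmoothOfRelativeDimension (n + 1 - 1) ((LefPen.hypIdeal Q).subschemeι ≫ CohB1.ProjSpace.toSpec (n + 1) k) :=
      ‹SmoothOfRelativeDimension n _›
    obtain ⟨l, hl⟩ := Groth.Agent.QuadPts24.eval_eq_zero_imp Q (Nat.le_add_left 1 n) x hne ((hf x).symm.trans hx0)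
    exact hl ((hpol x l).symm.trans (hx _))
  obtain ⟨hodd, heven⟩ := Groth.Agent.QuadPts24.count (n + 1 + 1) (Fin (n + 1 + 1) → k) f (by simp) hnd
  set C := SgaExt.pointCount ((LefPen.hypIdeal Q).subschemeι ≫ CohB1.ProjSpace.toSpec (n + 1) k) k with hC
  set q : ℤ := (Fintype.card k : ℤ) with hq
  have hN : (Nat.card { x // f x = 0 } : ℤ) = (C : ℤ) * (q - 1) + 1 := by
    have h1 := Groth.Agent.QuadPts24.card_zs Q
    rw [Groth.Agent.QuadPts24.card_pts, ← hC, Nat.card_eq_fintype_card (α := kˣ), Fintype.card_units] at h1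
    have h2 : Nat.card { x // f x = 0 } = Nat.card (Groth.Agent.QuadPts24.Zs Q) + 1 := by
      rw [← Finite.card_option]
      refine (Nat.card_eq_of_bijective (fun o : Option (Groth.Agent.QuadPts24.Zs Q) =>
        (o.elim ⟨0, map_zero f⟩ (fun v => ⟨v.1, (hf v.1).trans v.2.2⟩) : { x // f x = 0 })) ⟨?_, ?_⟩).symm
      · rintro (_ | a) (_ | b) h <;> simp only [Option.elim] at h
        · rfl
        · exact absurd (congrArg Subtype.val h).symm b.2.1
        · exact absurd (congrArg Subtype.val h) a.2.1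
        · exact congrArg some (Subtype.ext (congrArg (fun t : { x // f x = 0 } => t.1) h))
      · rintro ⟨x, hx⟩
        by_cases h0 : x = 0
        · exact ⟨none, Subtype.ext h0.symm⟩
        · exact ⟨some ⟨x, h0, (hf x).symm.trans hx⟩, rfl⟩
    rw [h2, h1]
    push_cast [Nat.cast_sub (Fintype.card_pos (α := k))]
    ring
  have hq1 : q - 1 ≠ 0 := by
    have : 1 < Fintype.card k := Fintype.one_lt_card
    omega
  have hg := geom_sum_mul q (n + 1)
  constructor
  · intro hn
    have h := hodd (by obtain ⟨r, rfl⟩ := hn; exact ⟨r + 1, by ring⟩)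
    rw [hN, Nat.add_sub_cancel] at h
    refine mul_right_cancel₀ hq1 ?_
    rw [hg]
    linear_combination h
  · intro hn
    obtain ⟨r, rfl⟩ := hn
    obtain ⟨hpos, hneg⟩ := heven r (by ring)
    rw [show (r + r) / 2 = r by omega]
    have hiff : Groth.Agent.QuadPts24.TS f (r + 1) ↔ ∃ W : Submodule k (Fin (r + r + 1 + 1) → k),
        Module.finrank k ↥W = r + 1 ∧ ∀ w ∈ W, MvPolynomial.eval w Q.1 = 0 := by
      refine exists_congr fun W => and_congr_right fun _ => forall₂_congr fun w _ => ?_
      rw [hf]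
    by_cases hts : Groth.Agent.QuadPts24.TS f (r + 1)
    · refine ⟨1, Or.inl rfl, mul_right_cancel₀ hq1 ?_, iff_of_true rfl (hiff.1 hts)⟩
      have h := hpos hts
      rw [hN] at h
      rw [add_mul, hg]
      linear_combination h
    · refine ⟨-1, Or.inr rfl, mul_right_cancel₀ hq1 ?_, iff_of_false (by norm_num) (fun h => hts (hiff.2 h))⟩
      have h := hneg hts
      rw [hN] at h
      rw [add_mul, hg]
      linear_combination h

end Groth.Agent.S4039
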