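import Groth.Statements.S4040
import Groth.Agent.Lib.HdgLef1.Decomp

set_option autoImplicit false
universe u
open CategoryTheory CategoryTheory.Limits AlgebraicGeometry
open LefPen

namespace Groth.Agent.S4040

open Groth.Agent


/-- Over a field (base Spec k): let k be a field and Y ⊆ P^{n+d}_k the common zero scheme of d ≥ 1 forms
of degrees a_j ≥ 1, smooth over k of relative dimension n (a smooth complete intersection of
dimension n); let Ω = Ω^1_{Y/k} (the conormal sheaf of the diagonal) and L an O_Y-module which is a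
j-th exterior power of Ω. Then H^i(Y, L) = 0 for all i, j with i ≠ j and i + j ≠ n. -/
theorem result (k : Type u) [Field k] (n d : ℕ) (hd : 1 ≤ d) (a : Fin d → ℕ) (ha : ∀ j, 1 ≤ a j)
    (G : ∀ j : Fin d, LefPen.Form (n + d) k (a j))
    [SmoothOfRelativeDimension n ((LefPen.ciIdeal G).subschemeι ≫ CohB1.ProjSpace.toSpec (n + d) k)]
    (j : ℕ) (L : (LefPen.ciIdeal G).subscheme.Modules) (hL : ExtPow.IsExtPow j (Omega.sheaf ((LefPen.ciIdeal G).subschemeι ≫ CohB1.ProjSpace.toSpec (n + d) k)) L)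
    (i : ℕ) (hij : i ≠ j) (hijn : i + j ≠ n) :
    Subsingleton (Coh.HH (LefPen.ciIdeal G).subscheme L i) := by
  obtain ⟨e⟩ := ExtFil4.isoExtPow hL (HdgLef1.isExtPow_E (HdgLef1.filtForms_ci (k := k) rfl hd a ha G).locFree j)
  obtain ⟨z⟩ := HdgLef1.nonempty_twE_zero (LefPen.ciIdeal G).subschemeι
    (Omega.sheaf ((LefPen.ciIdeal G).subschemeι ≫ CohB1.ProjSpace.toSpec (n + d) k)) j
  letI := HdgLef1.overP (LefPen.ciIdeal G).subschemeι
  have h := HdgLef1.filtForms_ci (k := k) rfl hd a ha G
  refine HdgLef1.van_congr k (z ≪≫ e.symm) ?_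
  rcases Nat.lt_or_gt_of_ne hijn with hlt | hgt
  · exact h.zero j i (by omega) hij
  · exact h.high j i 0 (by omega) (by simp) (Or.inr (by omega))

end Groth.Agent.S4040
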