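import Groth.Statements.S4041
import Groth.Agent.Lib.HdgLef1.Decomp

set_option autoImplicit false
universe u
open CategoryTheory CategoryTheory.Limits AlgebraicGeometry
open LefPen

namespace Groth.Agent.S4041

open Groth.Agent


/-- Let k be a field, n ≥ 0 and d ≥ 1 integers, a_1, …, a_d ≥ 1, and G_1, …, G_d homogeneous forms over
k in n + d + 1 variables with G_j of degree a_j; let Y ⊂ P^{n+d}_k be the closed subscheme defined
by the ideal generated by the G_j, and assume that the composite Y → P^{n+d}_k → Spec k is smooth of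
relative dimension n. Let Ω be the sheaf of relative differentials of Y over k (for this composite
morphism) and L an i-th exterior power of Ω. Then, for 0 ≤ i ≤ n with 2i ≠ n, the k-vector space
H^i(Y, L) = H^i(Y, Ω^i) has dimension one. Only the dimension statement over a field is given here.
(The published statement moreover names a basis: η^i for 2i < n, and for n < 2i the element α_i dual
to η^{n-i}, which satisfies η^i = (Π a_j) α_i; η the Hodge class of a hyperplane section. The
k-structure on cohomology is the one induced by the structure morphism, supplied as the Over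
instance, which is required to agree with the composite Y → P^{n+d}_k → Spec k.) -/
theorem result (k : Type u) [Field k] (n d : ℕ) (hd : 1 ≤ d) (a : Fin d → ℕ) (ha : ∀ j, 1 ≤ a j)
    (G : ∀ j : Fin d, LefPen.Form (n + d) k (a j))
    [SmoothOfRelativeDimension n ((LefPen.ciIdeal G).subschemeι ≫ CohB1.ProjSpace.toSpec (n + d) k)]
    [hO : (LefPen.ciIdeal G).subscheme.Over (Spec (CommRingCat.of k))] (hover : (LefPen.ciIdeal G).subscheme ↘ Spec (CommRingCat.of k) = ((LefPen.ciIdeal G).subschemeι ≫ CohB1.ProjSpace.toSpec (n + d) k))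
    (i : ℕ) (hi : i ≤ n) (hin : 2 * i ≠ n) (L : (LefPen.ciIdeal G).subscheme.Modules) (hL : ExtPow.IsExtPow i (Omega.sheaf ((LefPen.ciIdeal G).subschemeι ≫ CohB1.ProjSpace.toSpec (n + d) k)) L) :
    Module.finrank k (Coh.HH (LefPen.ciIdeal G).subscheme L i) = 1 := by
  obtain ⟨e⟩ := ExtFil4.isoExtPow hL (HdgLef1.isExtPow_E (HdgLef1.filtForms_ci (k := k) rfl hd a ha G).locFree i)
  have h := HdgLef1.filtForms_ci (k := k) rfl hd a ha G
  obtain ⟨z⟩ := HdgLef1.nonempty_twE_zero (LefPen.ciIdeal G).subschemeι
    (Omega.sheaf ((LefPen.ciIdeal G).subschemeι ≫ CohB1.ProjSpace.toSpec (n + d) k)) i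
  have hk : letI := HdgLef1.overP (LefPen.ciIdeal G).subschemeι;
      Nonempty (Coh.HH (LefPen.ciIdeal G).subscheme L i ≃ₗ[k] k) := by
    letI := HdgLef1.overP (LefPen.ciIdeal G).subschemeι
    rcases Nat.lt_or_gt_of_ne hin with hlt | hgt
    · obtain ⟨c⟩ := h.low i (by omega)
      exact ⟨(CurveCoh17.hequiv k (e ≪≫ z.symm) i).trans c⟩
    · obtain ⟨c⟩ := h.top i (by omega) hi
      exact ⟨(CurveCoh17.hequiv k (e ≪≫ z.symm) i).trans c⟩
  obtain ⟨c⟩ := HdgLef1.nonempty_equiv_congr hover.symm L i hk
  exact c.finrank_eq.trans (Module.finrank_self k)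

end Groth.Agent.S4041
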