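import Groth.Statements.S4046
import Groth.Agent.Lib.LefPen13.Fun
-- import your own Groth.Agent.* helpers here

set_option autoImplicit false
set_option linter.style.haveILetI false
universe u
open CategoryTheory CategoryTheory.Limits AlgebraicGeometry
open LefPen

namespace Groth.Agent.S4046

/-- The dual variety is closed and irreducible: on the space of forms: let k be an algebraically closed
field and X an irreducible smooth proper k-scheme of dimension n ≥ 1 embedded in projective r-space
by a closed immersion i, and let d ≥ 1. The degree-d forms whose hypersurface cuts X transversally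
form a Zariski-open set, and its complement (the affine cone over the dual variety of the degree-d
embedding) is irreducible: if two polynomial functions f, g on the space of forms have product
vanishing at every non-transversal form, then one of them vanishes at every non-transversal form. -/
theorem result (k : Type u) [Field k] [IsAlgClosed k] (r n : ℕ) (hn : 1 ≤ n)
    {X : Scheme.{u}} (i : X ⟶ CohB1.ProjSpace r k) [IsClosedImmersion i] [IrreducibleSpace X]
    [SmoothOfRelativeDimension n (i ≫ CohB1.ProjSpace.toSpec r k)]
    (d : ℕ) (hd : 1 ≤ d) :
    LefPen.IsZOpen k {H : LefPen.Form r k d |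
      LefPen.Transversal k n 1 (LefPen.secToSpec i ({H} : Set (LefPen.Form r k d)))} ∧
    ∀ f g : LefPen.Form r k d → k, LefPen.IsPolyFun k f → LefPen.IsPolyFun k g →
      (∀ H : LefPen.Form r k d, ¬ LefPen.Transversal k n 1 (LefPen.secToSpec i ({H} : Set (LefPen.Form r k d))) →
        f H * g H = 0) →
      (∀ H : LefPen.Form r k d, ¬ LefPen.Transversal k n 1 (LefPen.secToSpec i ({H} : Set (LefPen.Form r k d))) → f H = 0) ∨
      (∀ H : LefPen.Form r k d, ¬ LefPen.Transversal k n 1 (LefPen.secToSpec i ({H} : Set (LefPen.Form r k d))) → g H = 0) := by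
  haveI : Smooth (i ≫ CohB1.ProjSpace.toSpec r k) := SmoothOfRelativeDimension.smooth n _
  haveI : Module.Finite k (LefPen.Form r k d) := (LefPen22.finrank_form k r d).2
  let b := Module.finBasis k (LefPen.Form r k d)
  constructor
  · intro H hH
    obtain ⟨E, hE0, hE⟩ := LefPen13.singular_closed i b H ((LefPen13.transversal_iff i hn H).1 hH)
    exact ⟨_, LefPen13.isPolyFun_eval b E, hE0, fun F hF =>
      (LefPen13.transversal_iff i hn F).2 fun hs => hF (hE F hs)⟩
  · intro f g hf hg hfg
    obtain ⟨G, hG⟩ := LefPen13.exists_poly b hf
    obtain ⟨G', hG'⟩ := LefPen13.exists_poly b hg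
    have hiff : ∀ F, ¬ LefPen.Transversal k n 1 (LefPen.secToSpec i ({F} : Set (LefPen.Form r k d))) ↔
        LefPen13.Singular i F := fun F => (LefPen13.transversal_iff i hn F).not_left
    refine (LefPen13.singular_irreducible i b hd G G' fun F hF => ?_).imp
      (fun h F hF => (hG F).symm.trans (h F ((hiff F).1 hF)))
      (fun h F hF => (hG' F).symm.trans (h F ((hiff F).1 hF)))
    rw [hG, hG']
    exact hfg F ((hiff F).2 hF)

end Groth.Agent.S4046
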