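import Groth.Statements.S4056
import Groth.Agent.Lib.SemiNhd19.Neron
-- import your own Groth.Agent.* helpers here

set_option autoImplicit false
universe u
open CategoryTheory CategoryTheory.Limits AlgebraicGeometry MonObj
open SGA7

namespace Groth.Agent.S4056

set_option linter.style.haveILetI false
set_option backward.isDefEq.respectTransparency.types false


/-- Last assertion: over a Dedekind domain R with fraction field K: let N be a group scheme over Spec R
which is a Néron model of its generic fibre, an abelian variety over K, and let G be a smooth
separated group scheme of finite type over Spec R whose geometric fibres contain no copy of the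
additive group. Then every homomorphism u : G -> N of group schemes over Spec R which is an
isomorphism on generic fibres is an open immersion. -/
theorem result (R K : Type u) [CommRing R] [IsDedekindDomain R] [Field K] [Algebra R K] [IsFractionRing R K]
    (N : Over (Spec (CommRingCat.of R))) [GrpObj N] (hN : SGA7.IsNeron R K N)
    [IsProper ((SGA7.genFib R K).obj N).hom] [GeometricallyIntegral ((SGA7.genFib R K).obj N).hom]
    (G : Over (Spec (CommRingCat.of R))) [GrpObj G] [Smooth G.hom] [IsSeparated G.hom] [QuasiCompact G.hom]
    (hG : SGA7.FibresUnipotentRankZero G) (u : G ⟶ N) [IsMonHom u] [IsIso ((SGA7.genFib R K).map u)] :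
    IsOpenImmersion u.left := by
  haveI := hN.1
  haveI := hN.2.1
  exact Groth.Agent.SemiNhd19.isOpenImmersion_of_genFib (K := K) N G hG u

end Groth.Agent.S4056
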