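import Groth.Statements.S4057
import Groth.Agent.Lib.SemiNhd19.Ext
-- import your own Groth.Agent.* helpers here

set_option autoImplicit false
universe u
open CategoryTheory CategoryTheory.Limits AlgebraicGeometry MonObj
open SGA7

namespace Groth.Agent.S4057

set_option linter.style.haveILetI false
set_option backward.isDefEq.respectTransparency.types false


/-- Let R -> R' be an injective homomorphism of Dedekind domains (a dominant morphism of the spectra)
with fraction fields K and K', N a group scheme over Spec R which is a Néron model of its generic
fibre (an abelian variety over K) and whose geometric fibres contain no copy of the additive group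
(semistable reduction), and N' a group scheme over Spec R' which is a Néron model of its generic
fibre. Then every homomorphism u : N ×_R R' -> N' of group schemes over Spec R' which is an
isomorphism on generic fibres is an open immersion. -/
theorem result (R K R' K' : Type u) [CommRing R] [IsDedekindDomain R]
    [Field K] [Algebra R K] [IsFractionRing R K] [CommRing R'] [IsDedekindDomain R']
    [Field K'] [Algebra R' K'] [IsFractionRing R' K']
    (φ : R →+* R') (hφ : Function.Injective φ)
    (N : Over (Spec (CommRingCat.of R))) [GrpObj N] (hN : SGA7.IsNeron R K N)
    [IsProper ((SGA7.genFib R K).obj N).hom] [GeometricallyIntegral ((SGA7.genFib R K).obj N).hom]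
    (hss : SGA7.FibresUnipotentRankZero N)
    (N' : Over (Spec (CommRingCat.of R'))) [GrpObj N'] (hN' : SGA7.IsNeron R' K' N')
    (u : Red.bc (Spec.map (CommRingCat.ofHom φ)) N ⟶ N') [IsMonHom u] [IsIso ((SGA7.genFib R' K').map u)] :
    IsOpenImmersion u.left := by
  haveI := hN.1
  haveI := hN.2.1
  haveI := hN.2.2.1
  haveI := hN'.1
  haveI := hN'.2.1
  haveI : IsCommMonObj ((SGA7.genFib R K).obj N) :=
    AlgebraicGeometry.isCommMonObj_of_isProper_of_geometricallyIntegral _
  haveI := Groth.Agent.SemiNhd19.isCommMonObj_genFib (K := K) N
  let f := Spec.map (CommRingCat.ofHom φ)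
  haveI : Smooth (Red.bc f N).hom := inferInstanceAs (Smooth (pullback.snd N.hom f))
  haveI : IsSeparated (Red.bc f N).hom := inferInstanceAs (IsSeparated (pullback.snd N.hom f))
  haveI : QuasiCompact (Red.bc f N).hom := inferInstanceAs (QuasiCompact (pullback.snd N.hom f))
  exact Groth.Agent.SemiNhd19.isOpenImmersion_of_comm (K := K') N' (Red.bc f N)
    (Groth.Agent.SemiNhd19.fibresUnipotentRankZero_bc f N hss) u

end Groth.Agent.S4057
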