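import Groth.Statements.S4058
import Groth.Agent.Lib.ZConn5.ProperFibre
-- import your own Groth.Agent.* helpers here

set_option autoImplicit false
universe u
open CategoryTheory CategoryTheory.Limits AlgebraicGeometry MonObj
open SGA7

namespace Groth.Agent.S4058

set_option linter.style.haveILetI false
set_option backward.isDefEq.respectTransparency.types false


/-- (iii) ⇒ (iv): let R be a discrete valuation ring with fraction field K and residue field k, and N a
group scheme over Spec R which is a Néron model of its generic fibre, an abelian variety over K. If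
the special fibre N ×_R k is proper over k, then N is proper over Spec R. (In (iii) as published the
special fibre is an abelian variety; connectedness of the special fibre is not assumed here.) -/
theorem result (R K : Type u) [CommRing R] [IsDomain R] [IsDiscreteValuationRing R] [Field K]
    [Algebra R K] [IsFractionRing R K]
    (N : Over (Spec (CommRingCat.of R))) [GrpObj N] (hN : SGA7.IsNeron R K N)
    [IsProper ((SGA7.genFib R K).obj N).hom] [GeometricallyIntegral ((SGA7.genFib R K).obj N).hom]
    [IsProper (Red.bc (Spec.map (CommRingCat.ofHom (IsLocalRing.residue R))) N).hom] :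
    IsProper N.hom := by
  classical
  obtain ⟨hsm, hsep, hqc, -⟩ := hN
  haveI := hsm; haveI := hsep; haveI := hqc
  let f := N.hom
  let g : Spec (CommRingCat.of R) ⟶ N.left := η[N].left
  have hg : g ≫ f = 𝟙 _ := Over.w η[N]
  let y : ↥(Spec (CommRingCat.of R)) := IsLocalRing.closedPoint R
  let ξ : ↥(Spec (CommRingCat.of R)) := (⟨⊥, Ideal.isPrime_bot⟩ : PrimeSpectrum R)
  haveI : IsLocallyNoetherian (Spec (CommRingCat.of R)) := inferInstance
  -- the closed fibre is proper
  let jk : Spec (CommRingCat.of (IsLocalRing.ResidueField R)) ⟶ Spec (CommRingCat.of R) :=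
    Spec.map (CommRingCat.ofHom (IsLocalRing.residue R))
  have sq : IsPullback (pullback.fst N.hom jk) (pullback.snd N.hom jk) N.hom jk := IsPullback.of_hasPullback _ _
  haveI : IsProper (pullback.snd N.hom jk) :=
    ‹IsProper (Red.bc (Spec.map (CommRingCat.ofHom (IsLocalRing.residue R))) N).hom›
  let t : ↥(Spec (CommRingCat.of (IsLocalRing.ResidueField R))) := IsLocalRing.closedPoint _
  have ht : jk t = y := PrimeSpectrum.ext (by
    show Ideal.comap (IsLocalRing.residue R) (IsLocalRing.maximalIdeal (IsLocalRing.ResidueField R)) = IsLocalRing.maximalIdeal R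
    rw [IsLocalRing.maximalIdeal_eq_bot]
    exact IsLocalRing.ker_residue)
  have hpy : IsProper (f.fiberToSpecResidueField y) := by
    have h := (ZConn5.isProper_fibre_iff sq t).1 (ZConn5.isProper_fibre_of_isProper _ t)
    rwa [ht] at h
  have hop := ZConn5.isOpen_component_fibre f g hg y
  have hyc : IsClosed ({y} : Set ↥(Spec (CommRingCat.of R))) :=
    IsLocalRing.isClosed_singleton_closedPoint R
  have hF : IsClosed (f.base ⁻¹' {y}) := hyc.preimage f.continuous
  have hCcl : IsClosed (connectedComponentIn (f.base ⁻¹' {y}) (g.base y)) := by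
    have hm : g.base y ∈ f.base ⁻¹' {y} := SectionCompConn4.apply_section hg y
    refine isClosed_of_closure_subset ?_
    refine IsPreconnected.subset_connectedComponentIn isPreconnected_connectedComponentIn.closure
      (subset_closure (mem_connectedComponentIn hm)) ?_
    exact closure_minimal (connectedComponentIn_subset _ _) hF
  let W : (f.fiber y).Opens := ⟨_, hop⟩
  haveI : IsClosedImmersion W.ι := by
    refine IsClosedImmersion.of_isPreimmersion _ ?_
    rw [Scheme.Opens.range_ι]
    exact hCcl.preimage (f.fiberι y).continuous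
  haveI := hpy
  obtain ⟨U, hyU, hU⟩ := ZConn5.exists_proper_nhd_section f g hg y hop
    (inferInstanceAs (IsProper (W.ι ≫ f.fiberToSpecResidueField y)))
  have hUtop : U = ⊤ := eq_top_iff.2 fun x _ => (IsLocalRing.specializes_closedPoint x).mem_open U.2 hyU
  -- the generic fibre is connected
  let jK : Spec (CommRingCat.of K) ⟶ Spec (CommRingCat.of R) := Spec.map (CommRingCat.ofHom (algebraMap R K))
  have hξ : Set.range jK = {ξ} := by
    refine Set.eq_singleton_iff_unique_mem.2 ⟨⟨IsLocalRing.closedPoint K, ?_⟩, ?_⟩
    · refine PrimeSpectrum.ext ?_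
      show Ideal.comap (algebraMap R K) (IsLocalRing.maximalIdeal K) = ⊥
      rw [IsLocalRing.maximalIdeal_eq_bot]
      exact Ideal.comap_bot_of_injective _ (IsFractionRing.injective R K)
    · rintro _ ⟨s, rfl⟩
      refine PrimeSpectrum.ext ?_
      show Ideal.comap (algebraMap R K) s.asIdeal = ⊥
      rw [(Ideal.eq_bot_or_top s.asIdeal).resolve_right s.isPrime.ne_top]
      exact Ideal.comap_bot_of_injective _ (IsFractionRing.injective R K)
  haveI : GeometricallyIntegral (pullback.snd N.hom jK) :=
    ‹GeometricallyIntegral ((SGA7.genFib R K).obj N).hom›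
  haveI : IsIntegral (pullback N.hom jK) :=
    GeometricallyIntegral.isIntegral_of_subsingleton (pullback.snd N.hom jK)
  have hgen : _root_.IsPreconnected (f.base ⁻¹' {ξ}) := by
    have e : Set.range (pullback.fst N.hom jK).base = f.base ⁻¹' Set.range jK.base := Scheme.Pullback.range_fst N.hom jK
    rw [show Set.range jK.base = {ξ} from hξ] at e
    rw [← e]
    exact isPreconnected_range (pullback.fst N.hom jK).continuous
  -- the components along the unit section fill everything
  haveI : IsSeparated (f ∣_ U) := IsZariskiLocalAtTarget.restrict (P := @IsSeparated) inferInstance _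
  haveI : LocallyOfFiniteType (f ∣_ U) := IsZariskiLocalAtTarget.restrict (P := @LocallyOfFiniteType) inferInstance _
  have huniv : (f ⁻¹ᵁ U).ι.base ⁻¹' MoreMor.sectionComponents f g = Set.univ := by
    refine Set.eq_univ_of_forall fun x => ?_
    have hsp : ξ ⤳ f ((f ⁻¹ᵁ U).ι x) := (PrimeSpectrum.le_iff_specializes ξ _).1 bot_le
    obtain ⟨z, hz, hfz⟩ := Flat.generalizingMap f hsp
    have hzU : z ∈ f ⁻¹ᵁ U := by rw [hUtop]; trivial
    refine Specializes.mem_closed (x := (⟨z, hzU⟩ : ↥(f ⁻¹ᵁ U))) ?_ hU.isClosed ?_
    · exact ((f ⁻¹ᵁ U).ι.isEmbedding.isInducing.specializes_iff).1 hz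
    · show z ∈ MoreMor.sectionComponents f g
      have h1 : z ∈ connectedComponentIn (f.base ⁻¹' {ξ}) (g.base ξ) :=
        hgen.subset_connectedComponentIn (SectionCompConn4.apply_section hg ξ) subset_rfl hfz
      rw [← ZConn5.sectionComponents_inter_fibre f g ξ] at h1
      exact h1.1
  haveI : IsProper (f ∣_ U) := by
    refine ZConn5.isProper_of_propOn_univ _ ?_
    exact huniv ▸ hU
  exact (IsZariskiLocalAtTarget.iff_of_iSup_eq_top (P := @IsProper) (fun _ : PUnit.{1} => U)
    (eq_top_iff.2 (le_iSup_of_le PUnit.unit (le_of_eq hUtop.symm)))).2 fun _ => ‹_›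

end Groth.Agent.S4058
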