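import Groth.Statements.S4059
import Groth.Agent.Lib.MulFlat8.Main
-- import your own Groth.Agent.* helpers here

set_option autoImplicit false
universe u
open CategoryTheory CategoryTheory.Limits AlgebraicGeometry MonObj
open SGA7

namespace Groth.Agent.S4059

/-- The four equivalent conditions, for a group scheme with the properties of the identity component of
a Néron model: let R be a discrete valuation ring with fraction field K and G a smooth separated
group scheme of finite type over Spec R with connected fibres whose generic fibre is an abelian
variety over K (proper and geometrically integral); let m > 0 and write [m] : G -> G for the m-th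
power morphism. The following are equivalent: (i) [m] is flat; (ii) [m] is surjective; (iii) [m] is
locally quasi-finite; (iv) m is invertible in the residue field of R, or the geometric special fibre
of G contains no copy of the additive group. -/
theorem result (R K : Type u) [CommRing R] [IsDomain R] [IsDiscreteValuationRing R] [Field K]
    [Algebra R K] [IsFractionRing R K]
    (G : Over (Spec (CommRingCat.of R))) [GrpObj G] [Smooth G.hom] [IsSeparated G.hom] [QuasiCompact G.hom]
    (hconn : ∀ s : ↥(Spec (CommRingCat.of R)), ConnectedSpace ↥(Red.bc ((Spec (CommRingCat.of R)).fromSpecResidueField s) G).left)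
    [IsProper ((SGA7.genFib R K).obj G).hom] [GeometricallyIntegral ((SGA7.genFib R K).obj G).hom]
    (m : ℕ) (hm : 0 < m) :
    [Flat ((𝟙 G : G ⟶ G) ^ m).left, Surjective ((𝟙 G : G ⟶ G) ^ m).left,
      LocallyQuasiFinite ((𝟙 G : G ⟶ G) ^ m).left,
      (m : IsLocalRing.ResidueField R) ≠ 0 ∨
        SGA7.FibreUnipotentRankZero (IsLocalRing.closedPoint R) G].TFAE := by
  haveI : IsCommMonObj ((SGA7.genFib R K).obj G) := AlgebraicGeometry.isCommMonObj_of_isProper_of_geometricallyIntegral _
  haveI := Groth.Agent.SemiNhd19.isCommMonObj_genFib (R := R) (K := K) G
  exact Groth.Agent.MulFlat8.tfae G m K hconn hm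

end Groth.Agent.S4059
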