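import Groth.Statements.S4062
import Groth.Agent.Lib.QUnip.Val
import Groth.Agent.Lib.QUnip.Padic

set_option autoImplicit false
universe u
open CategoryTheory CategoryTheory.Limits AlgebraicGeometry MonObj
open SGA7

namespace Groth.Agent.S4062

/-- Let R be a henselian discrete valuation ring with fraction field K and residue field k, λ a prime
invertible in k, Ω a separable closure of K (Aut_K(Ω) carries the Krull topology), W a valuation
subring of Ω lying over R, and ρ a continuous homomorphism from Aut_K(Ω) to GL_n(ℚ_λ). Assume that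
no finite extension of k contains all roots of unity of λ-power order (for every finite extension k'
there is some λ^m such that k' has no primitive λ^m-th root of unity). Then there is an open
subgroup I₁ of Aut_K(Ω) such that ρ(σ) is unipotent for every σ in I₁ lying in the inertia group at
W. -/
theorem result (R K Ω : Type u) [CommRing R] [IsDomain R]
    [IsDiscreteValuationRing R] [HenselianLocalRing R] [Field K] [Algebra R K] [IsFractionRing R K]
    [Field Ω] [Algebra K Ω] [IsSepClosure K Ω] (W : ValuationSubring Ω) (hW : SGA7.LiesOver K R W)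
    (lam : ℕ) [Fact lam.Prime] (hlam : (lam : IsLocalRing.ResidueField R) ≠ 0)
    (hstar : ∀ (k' : Type u) [Field k'] [Algebra (IsLocalRing.ResidueField R) k'],
      FiniteDimensional (IsLocalRing.ResidueField R) k' → ∃ m : ℕ, ∀ ζ : k', ¬ IsPrimitiveRoot ζ (lam ^ m))
    (n : ℕ) (ρ : (Ω ≃ₐ[K] Ω) →* Matrix.GeneralLinearGroup (Fin n) (Padic lam)) (hρ : Continuous ρ) :
    ∃ I₁ : OpenSubgroup (Ω ≃ₐ[K] Ω), ∀ σ : Ω ≃ₐ[K] Ω, σ ∈ I₁ → SGA7.IsInertia W σ →
      IsNilpotent ((ρ σ : Matrix (Fin n) (Fin n) (Padic lam)) - 1) := by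
  classical
  haveI : IsGalois K Ω := IsSepClosure.isGalois
  haveI : IsSepClosed Ω := IsSepClosure.sep_closed K
  have hlp : lam.Prime := Fact.out
  set q : ℝ := ((lam : ℝ)⁻¹) with hq
  have hq0 : 0 < q := inv_pos.mpr (by exact_mod_cast hlp.pos)
  have hq1 : q < 1 := inv_lt_one_of_one_lt₀ (by exact_mod_cast hlp.one_lt)
  let f : (Ω ≃ₐ[K] Ω) → Matrix (Fin n) (Fin n) (Padic lam) := fun σ => (ρ σ).1
  have hf : Continuous f := Units.continuous_val.comp hρ
  have hU : ∀ J : ℕ, ∃ E : IntermediateField K Ω, FiniteDimensional K E ∧ Normal K E ∧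
      ∀ σ ∈ E.fixingSubgroup, QUnip.Bd (q ^ J) (f σ - 1) := by
    intro J
    have hmem : {σ | QUnip.Bd (q ^ J) (f σ - 1)} ∈ nhds (1 : Ω ≃ₐ[K] Ω) := by
      have h1 : f 1 = 1 := by simp [f]
      have hab : ∀ a b, ∀ᶠ σ in nhds (1 : Ω ≃ₐ[K] Ω), ‖(f σ - 1) a b‖ ≤ q ^ J := fun a b => by
        have hc : Continuous fun σ => ‖(f σ - 1) a b‖ :=
          continuous_norm.comp ((hf.sub continuous_const).matrix_elem a b)
        exact (hc.tendsto 1).eventually (eventually_le_nhds (by simp [h1, pow_pos hq0 J]))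
      have h2 := Filter.eventually_all.mpr fun a => Filter.eventually_all.mpr fun b => hab a b
      exact h2
    obtain ⟨E, hE1, hE2, hE3⟩ := (krullTopology_mem_nhds_one_iff_of_normal K Ω _).mp hmem
    exact ⟨E, hE1, hE2, fun σ hσ => hE3 hσ⟩
  obtain ⟨E₂, hE2fd, hE2n, hE2⟩ := hU 2
  refine ⟨⟨E₂.fixingSubgroup, IntermediateField.fixingSubgroup_isOpen E₂⟩, fun σ hσ hI => ?_⟩
  change σ ∈ E₂.fixingSubgroup at hσ
  have hstab := QUnip.stable (R := R) hW
  have hnormal : ∀ g : Ω ≃ₐ[K] Ω, g * σ * g⁻¹ ∈ E₂.fixingSubgroup := fun g => by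
    rw [IntermediateField.mem_fixingSubgroup_iff]
    intro y hy
    have h := AlgEquiv.restrictNormal_commutes g⁻¹ E₂ ⟨y, hy⟩
    change _ = g⁻¹ y at h
    rw [AlgEquiv.mul_apply, AlgEquiv.mul_apply, (IntermediateField.mem_fixingSubgroup_iff _ _).mp hσ (g⁻¹ y)
      (h ▸ SetLike.coe_mem _), ← AlgEquiv.mul_apply, mul_inv_cancel, AlgEquiv.one_apply]
  obtain ⟨g, c, hgc⟩ := QUnip.exists_cyclotomic (Ω := Ω) hW hlp hlam hstar
  obtain ⟨ϖ, hϖ⟩ := IsDiscreteValuationRing.exists_irreducible R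
  refine QUnip.isNilpotent_sub_one lam (f σ) (hE2 σ hσ) c fun J => ?_
  obtain ⟨E, hEfd, hEn, hE⟩ := hU J
  obtain ⟨N, hN⟩ : ∃ N, N = Module.finrank K E + c + 2 := ⟨_, rfl⟩
  obtain ⟨ζ, m, hζ, hm1, hm2, hmc, hgζ⟩ := hgc N (by omega) (by omega)
  have hvl : ∀ k : ℕ, W.valuation ((lam ^ k : ℕ) : Ω) = 1 := fun k => by
    push_cast; rw [map_pow, QUnip.val_natCast hW hlam, one_pow]
  haveI : NeZero (lam ^ N) := ⟨pow_ne_zero _ hlp.pos.ne'⟩
  haveI : NeZero ((lam ^ N : ℕ) : Ω) := ⟨fun h => by simpa [h] using hvl N⟩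
  obtain ⟨P, hP⟩ := IsSepClosed.exists_pow_nat_eq (algebraMap K Ω (algebraMap R K ϖ)) (lam ^ N)
  have hP0 : P ≠ 0 := fun h => by
    rw [h, zero_pow (pow_ne_zero _ hlp.pos.ne')] at hP
    exact hϖ.ne_zero (IsFractionRing.injective R K (by
      rw [map_zero]; exact (algebraMap K Ω).injective (by rw [map_zero]; exact hP.symm)))
  let τ : Ω ≃ₐ[K] Ω := g * σ * g⁻¹ * (σ ^ m)⁻¹
  have hτI : SGA7.IsInertia W τ :=
    QUnip.isInertia_mul (QUnip.isInertia_conj hI hstab) (QUnip.isInertia_inv (QUnip.isInertia_pow hI m))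
  have hfixζ : ∀ {s : Ω ≃ₐ[K] Ω}, SGA7.IsInertia W s → ∀ i : ℕ, s (ζ ^ i) = ζ ^ i := fun hs i => by
    rw [map_pow, QUnip.inertia_fix_root hs (hvl N) hζ.pow_eq_one]
  have hroot : ∀ s : Ω ≃ₐ[K] Ω, ∃ i : ℕ, s P = ζ ^ i * P := fun s => by
    obtain ⟨i, -, hi⟩ := hζ.eq_pow_of_pow_eq_one (ξ := s P / P)
      (by rw [div_pow, ← map_pow, hP, s.commutes, div_self]; simp [hϖ.ne_zero])
    exact ⟨i, by rw [hi, div_mul_cancel₀ _ hP0]⟩
  obtain ⟨i, hi⟩ := hroot σ
  obtain ⟨j, hj⟩ := hroot g⁻¹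
  have hσm : (σ ^ m) P = ζ ^ (i * m) * P := by
    clear hm1 hm2 hmc hgζ τ hτI
    induction m with
    | zero => simp
    | succ m ih =>
      rw [pow_succ', AlgEquiv.mul_apply, ih, map_mul, hfixζ hI, hi, Nat.mul_succ, pow_add]; ring
  have hgσ : (g * σ * g⁻¹) P = ζ ^ (i * m) * P := by
    have e : σ (g⁻¹ P) = ζ ^ i * g⁻¹ P := by rw [hj, map_mul, hfixζ hI, hi]; ring
    rw [AlgEquiv.mul_apply, AlgEquiv.mul_apply, e, map_mul, ← AlgEquiv.mul_apply g g⁻¹, mul_inv_cancel,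
      AlgEquiv.one_apply, map_pow, hgζ, ← pow_mul, mul_comm m i]
  have hτP : τ P = P := by
    have h1 : τ ((σ ^ m) P) = (g * σ * g⁻¹) P := by
      rw [← AlgEquiv.mul_apply τ]; simp only [τ, inv_mul_cancel_right]
    rw [hσm, hgσ, map_mul, hfixζ hτI] at h1
    exact mul_left_cancel₀ (pow_ne_zero _ (hζ.ne_zero (pow_ne_zero _ hlp.pos.ne'))) h1
  have hτ2 : τ ∈ E₂.fixingSubgroup := mul_mem (hnormal g) (inv_mem (pow_mem hσ m))
  obtain ⟨d, hd, hdE⟩ := QUnip.exists_coprime_fixing (R := R) hW hlp hlam hϖ E (N := N) (by omega) hP hτI hτP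
  have hfpow : ∀ (s : Ω ≃ₐ[K] Ω) (k : ℕ), f (s ^ k) = f s ^ k := fun s k => by simp [f]
  have hτJ : QUnip.Bd (q ^ J) (f τ - 1) := by
    refine QUnip.Bd.of_pow (pow_lt_one₀ hq0.le hq1 two_ne_zero) (pow_nonneg hq0.le J) (hE2 τ hτ2) ?_
      (by rw [← hfpow]; exact hE _ hdE)
    rw [Padic.norm_natCast_eq_one_iff]
    exact hlp.coprime_iff_not_dvd.mpr hd
  refine ⟨m, ρ g, hm1, hm2, hmc, ?_⟩
  have e : (ρ g).1 * f σ * ((ρ g)⁻¹).1 - f σ ^ m = (f τ - 1) * f σ ^ m := by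
    have h1 : f τ * f σ ^ m = (ρ g).1 * f σ * ((ρ g)⁻¹).1 := by
      simp only [f, ← Units.val_pow_eq_pow_val, ← map_pow, ← Units.val_mul, ← map_inv, ← map_mul, τ,
        inv_mul_cancel_right]
    rw [sub_mul, _root_.one_mul, h1]
  rw [e]
  have hσ1 : QUnip.Bd 1 (f σ) := QUnip.bd_one_of_sub (pow_le_one₀ hq0.le hq1.le) (hE2 σ hσ)
  have h3 := hτJ.mul (pow_nonneg hq0.le J) zero_le_one (hσ1.pow m)
  rw [_root_.mul_one] at h3
  exact h3

end Groth.Agent.S4062
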