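import Groth.Statements.S4064
import Groth.Agent.Lib.ExtYoneda.Basic

set_option autoImplicit false
universe w v v'
open CategoryTheory CategoryTheory.Abelian
open SGA7

namespace Groth.Agent.S4064

/-- Let P -> F -> R and R -> E -> Q be short exact sequences in an abelian category (F an extension of R
by P, E an extension of Q by R). A blended extension of E by F is an object X with a monomorphism i
: F -> X and an epimorphism p : X -> E such that P -> X -> E (via i) and F -> X -> Q (via p) are
short exact and F -> X -> E is the composite F -> R -> E. Such an X exists if and only if the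
composite of the two extension classes, an element of Ext^2(Q, P), is zero. -/
theorem result {C : Type w} [Category.{v} C] [Abelian C]
    [HasExt.{v'} C] {P F R E Q : C} (a : P ⟶ F) (b : F ⟶ R) (wF : a ≫ b = 0)
    (hF : (ShortComplex.mk a b wF).ShortExact) (c : R ⟶ E) (d : E ⟶ Q) (wE : c ≫ d = 0)
    (hE : (ShortComplex.mk c d wE).ShortExact) :
    (∃ (X : C) (i : F ⟶ X) (p : X ⟶ E), i ≫ p = b ≫ c ∧
        (∃ w : (a ≫ i) ≫ p = 0, (ShortComplex.mk (a ≫ i) p w).ShortExact) ∧
        (∃ w : i ≫ (p ≫ d) = 0, (ShortComplex.mk i (p ≫ d) w).ShortExact)) ↔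
      hE.extClass.comp hF.extClass (rfl : 1 + 1 = 2) = 0 := by
  open CategoryTheory.Limits CategoryTheory.Abelian in
  constructor
  · rintro ⟨X, i, p, hip, ⟨w₁, h₁⟩, -⟩
    have n : hF.extClass = (Ext.mk₀ c).comp h₁.extClass (zero_add 1) := by
      have := ShortComplex.ShortExact.extClass_naturality hF h₁
        { τ₁ := 𝟙 P
          τ₂ := i
          τ₃ := c
          comm₁₂ := Category.id_comp _
          comm₂₃ := hip }
      exact (Ext.comp_mk₀_id _).symm.trans this
    rw [n]
    exact hE.extClass_comp_assoc _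
  · intro h
    obtain ⟨ξ, hξ⟩ := Ext.contravariant_sequence_exact₁ hE P hF.extClass (rfl : 1 + 1 = 2) h
    obtain ⟨X, α, β, w, hX, rfl⟩ := Groth.Agent.ExtYoneda.exists_extension ξ
    change (Ext.mk₀ c).comp hX.extClass (zero_add 1) = hF.extClass at hξ
    have hz : (Ext.mk₀ (b ≫ c)).comp hX.extClass (zero_add 1) = 0 := by
      rw [← Ext.mk₀_comp_mk₀_assoc, hξ]
      exact hF.comp_extClass
    obtain ⟨y, hy⟩ := Ext.covariant_sequence_exact₃ F hX (Ext.mk₀ (b ≫ c)) (zero_add 1) hz
    obtain ⟨i₀, rfl⟩ := Ext.mk₀_bijective _ _ |>.2 y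
    rw [Ext.mk₀_comp_mk₀] at hy
    have hi₀ : i₀ ≫ β = b ≫ c := (Ext.mk₀_bijective _ _).1 hy
    have : CategoryTheory.Mono α := hX.mono_f
    have : CategoryTheory.Mono a := hF.mono_f
    have : CategoryTheory.Epi b := hF.epi_g
    have : CategoryTheory.Mono c := hE.mono_f
    have : CategoryTheory.Epi d := hE.epi_g
    have : CategoryTheory.Epi β := hX.epi_g
    have hai : (a ≫ i₀) ≫ β = 0 := by rw [Category.assoc, hi₀, reassoc_of% wF, zero_comp]
    have he : ∀ {T : C} (t : T ⟶ X) (_ : t ≫ β = 0), ∃ s : T ⟶ P, s ≫ α = t := fun t ht =>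
      ⟨hX.exact.lift t ht, hX.exact.lift_f t ht⟩
    obtain ⟨e, he'⟩ := he (a ≫ i₀) hai
    have n : hF.extClass.comp (Ext.mk₀ e) (add_zero 1) = hF.extClass := by
      have := ShortComplex.ShortExact.extClass_naturality hF hX
        { τ₁ := e
          τ₂ := i₀
          τ₃ := c
          comm₁₂ := he'
          comm₂₃ := hi₀ }
      exact this.trans hξ
    have n' : hF.extClass.comp (Ext.mk₀ (e - 𝟙 P)) (add_zero 1) = 0 := by
      rw [sub_eq_add_neg, Ext.mk₀_add, Ext.mk₀_neg, Ext.comp_add, Ext.comp_neg, n, ← sub_eq_add_neg]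
      exact sub_eq_zero.2 (Ext.comp_mk₀_id _).symm
    obtain ⟨y, hy⟩ := Ext.contravariant_sequence_exact₁ hF P (Ext.mk₀ (e - 𝟙 P)) (add_zero 1) n'
    obtain ⟨t, rfl⟩ := Ext.mk₀_bijective _ _ |>.2 y
    rw [Ext.mk₀_comp_mk₀] at hy
    have ht : a ≫ t = e - 𝟙 P := (Ext.mk₀_bijective _ _).1 hy
    let i := i₀ - t ≫ α
    have h1 : a ≫ i = α := by
      simp only [i, Preadditive.comp_sub, ← he', ← Category.assoc, ht, Preadditive.sub_comp]
      simp
    have h2 : i ≫ β = b ≫ c := by
      simp only [i, Preadditive.sub_comp, Category.assoc, w, comp_zero, sub_zero, hi₀]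
    refine ⟨X, i, β, h2, ⟨by rw [h1]; exact w, ?_⟩, ⟨by rw [reassoc_of% h2, wE, comp_zero], ?_⟩⟩
    · simp only [h1]
      exact hX
    · refine { exact := ?_, mono_f := ?_, epi_g := epi_comp β d }
      · rw [ShortComplex.exact_iff_exact_up_to_refinements]
        intro T x hx
        change T ⟶ X at x
        change x ≫ β ≫ d = 0 at hx
        obtain ⟨T₁, π₁, _, r, hr⟩ := hE.exact.exact_up_to_refinements (x ≫ β) (by
          change (x ≫ β) ≫ d = 0
          rw [Category.assoc, hx])
        change π₁ ≫ x ≫ β = r ≫ c at hr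
        obtain ⟨T₂, π₂, _, f, hf⟩ := (epi_iff_surjective_up_to_refinements b).1 inferInstance r
        obtain ⟨s, hs⟩ := he (π₂ ≫ π₁ ≫ x - f ≫ i) (by
          rw [Preadditive.sub_comp, Category.assoc, Category.assoc, Category.assoc, h2, hr,
            reassoc_of% hf, sub_self])
        refine ⟨T₂, π₂ ≫ π₁, inferInstance, f + s ≫ a, ?_⟩
        change (π₂ ≫ π₁) ≫ x = (f + s ≫ a) ≫ i
        rw [Preadditive.add_comp, Category.assoc, Category.assoc, h1, hs, add_sub_cancel]
      · refine Preadditive.mono_of_cancel_zero _ fun {T} g hg => ?_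
        change g ≫ i = 0 at hg
        have hgb : g ≫ b = 0 := by
          refine (cancel_mono c).1 ?_
          rw [Category.assoc, zero_comp]
          refine (congrArg (g ≫ ·) h2.symm).trans ?_
          exact (Category.assoc g i β).symm.trans ((congrArg (· ≫ β) hg).trans zero_comp)
        obtain ⟨s, rfl⟩ : ∃ s : T ⟶ P, s ≫ a = g := ⟨hF.exact.lift g hgb, hF.exact.lift_f g hgb⟩
        rw [Category.assoc, h1] at hg
        rw [(cancel_mono α).1 (hg.trans zero_comp.symm), zero_comp]

end Groth.Agent.S4064
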