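import Groth.Statements.S4065
-- import your own Groth.Agent.* helpers here

set_option autoImplicit false
universe w v
open CategoryTheory
open SGA7

namespace Groth.Agent.S4065

/-- Let P -> F -> R and R -> E -> Q be short exact sequences in an abelian category and X a blended
extension of E by F: i : F -> X and p : X -> E with i, p composing to F -> R -> E and with P -> X ->
E and F -> X -> Q short exact. Then u ↦ 1_X + (X -> E -> Q -> P -> F -> X) is a bijection from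
Hom(Q, P) onto the set of endomorphisms φ of X with i φ = i and φ p = p (the automorphisms of the
blended extension; every such φ is invertible), and it turns addition into composition (a group
isomorphism Hom(Q, P) ≅ Aut(X)). -/
theorem result {C : Type w} [Category.{v} C] [Abelian C]
    {P F R E Q X : C} (a : P ⟶ F) (b : F ⟶ R) (wF : a ≫ b = 0)
    (hF : (ShortComplex.mk a b wF).ShortExact) (c : R ⟶ E) (d : E ⟶ Q) (wE : c ≫ d = 0)
    (hE : (ShortComplex.mk c d wE).ShortExact) (i : F ⟶ X) (p : X ⟶ E) (hip : i ≫ p = b ≫ c)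
    (w₁ : (a ≫ i) ≫ p = 0) (h₁ : (ShortComplex.mk (a ≫ i) p w₁).ShortExact)
    (w₂ : i ≫ (p ≫ d) = 0) (h₂ : (ShortComplex.mk i (p ≫ d) w₂).ShortExact) :
    Set.BijOn (fun v : Q ⟶ P => 𝟙 X + p ≫ d ≫ v ≫ a ≫ i) Set.univ
      {φ : X ⟶ X | i ≫ φ = i ∧ φ ≫ p = p} ∧
      ∀ v v' : Q ⟶ P, 𝟙 X + p ≫ d ≫ (v + v') ≫ a ≫ i =
        (𝟙 X + p ≫ d ≫ v ≫ a ≫ i) ≫ (𝟙 X + p ≫ d ≫ v' ≫ a ≫ i) := by
  have : Epi p := h₁.epi_g
  have : Mono i := h₂.mono_f
  have : Mono (a ≫ i) := h₁.mono_f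
  have : Epi (p ≫ d) := h₂.epi_g
  have hpd : ∀ (v : Q ⟶ P), i ≫ p ≫ d ≫ v ≫ a ≫ i = 0 := fun v => by
    simp only [← Category.assoc] at w₂ ⊢; simp [w₂]
  have hap : ∀ (v : Q ⟶ P), (p ≫ d ≫ v ≫ a ≫ i) ≫ p = 0 := fun v => by
    simp only [Category.assoc] at w₁ ⊢; simp [w₁]
  refine ⟨⟨fun v _ => ⟨by simp [hpd], by rw [Preadditive.add_comp, hap]; simp⟩, ?_, ?_⟩, fun v v' => ?_⟩
  · intro v _ v' _ h
    replace h : (p ≫ d) ≫ v ≫ (a ≫ i) = (p ≫ d) ≫ v' ≫ (a ≫ i) := by simpa using h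
    rwa [cancel_epi, cancel_mono] at h
  · rintro φ ⟨hi, hp⟩
    obtain ⟨l, hl⟩ : ∃ l, l ≫ (a ≫ i) = φ - 𝟙 X :=
      ⟨h₁.exact.lift (φ - 𝟙 X) (by simp [hp]), h₁.exact.lift_f _ _⟩
    have : i ≫ l = 0 := by rw [← cancel_mono (a ≫ i), Category.assoc, hl]; simp [hi]
    obtain ⟨v, hv⟩ : ∃ v, (p ≫ d) ≫ v = l := ⟨h₂.exact.desc l this, h₂.exact.g_desc _ _⟩
    refine ⟨v, trivial, ?_⟩
    show 𝟙 X + p ≫ d ≫ v ≫ a ≫ i = φ
    rw [← add_sub_cancel (𝟙 X) φ, ← hl, ← hv]; simp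
  · have : (p ≫ d ≫ v ≫ a ≫ i) ≫ p ≫ d ≫ v' ≫ a ≫ i = 0 := by
      simp only [Category.assoc] at hap ⊢
      rw [← Category.assoc i]
      simp [← Category.assoc, show (a ≫ i) ≫ p = 0 from w₁]
    simp [Preadditive.add_comp, this]; abel

end Groth.Agent.S4065
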