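import Groth.Statements.S4070
import Groth.Agent.Lib.ZConn5.SectionProper
import Groth.Agent.Lib.HensSect19.Basic
import Groth.Agent.Lib.SepDense19.Basic
-- import your own Groth.Agent.* helpers here

set_option autoImplicit false
universe u
open CategoryTheory CategoryTheory.Limits AlgebraicGeometry MonObj
open MonoidalCategory
open SGA7

namespace Groth.Agent.S4070

set_option linter.style.haveILetI false
set_option backward.isDefEq.respectTransparency.types false


/-- Let R be a strictly henselian discrete valuation ring (henselian, separably closed residue field)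
with fraction field K and N a group scheme over Spec R which is a Néron model of its generic fibre,
an abelian variety A over K, so that sections of N over Spec R are the K-points of A. Then the
special fibre of N has finitely many connected components, every one of them is met by a section,
and two sections x, y meet the same connected component if and only if x · y⁻¹ meets the connected
component of the unit section: the component group of the special fibre is A(K) modulo the subgroup
of points reducing into the identity component. -/
theorem result (R K : Type u) [CommRing R] [IsDomain R] [IsDiscreteValuationRing R] [HenselianLocalRing R]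
    [IsSepClosed (IsLocalRing.ResidueField R)] [Field K] [Algebra R K] [IsFractionRing R K]
    (N : Over (Spec (CommRingCat.of R))) [GrpObj N] (hN : SGA7.IsNeron R K N)
    [IsProper ((SGA7.genFib R K).obj N).hom] [GeometricallyIntegral ((SGA7.genFib R K).obj N).hom] :
    (Set.range (SGA7.secComp R N)).Finite ∧
    (∀ z ∈ SGA7.specialFibreSet R N, ∃ x : 𝟙_ (Over (Spec (CommRingCat.of R))) ⟶ N, z ∈ SGA7.secComp R N x) ∧
      ∀ x y : 𝟙_ (Over (Spec (CommRingCat.of R))) ⟶ N,
        SGA7.secComp R N x = SGA7.secComp R N y ↔ x * y⁻¹ ∈ SGA7.secUnitComp R N := by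
  classical
  obtain ⟨hsm, hsep, hqc, -⟩ := hN
  haveI := hsm; haveI := hsep; haveI := hqc
  let k := IsLocalRing.ResidueField R
  let y₀ : ↥(Spec (CommRingCat.of R)) := IsLocalRing.closedPoint R
  let jk : Spec (CommRingCat.of k) ⟶ Spec (CommRingCat.of R) :=
    Spec.map (CommRingCat.ofHom (IsLocalRing.residue R))
  have hrjk : Set.range jk.base = {y₀} := by
    refine Set.eq_singleton_iff_unique_mem.2 ⟨⟨IsLocalRing.closedPoint k, ?_⟩, ?_⟩
    · refine PrimeSpectrum.ext ?_
      show Ideal.comap (IsLocalRing.residue R) (IsLocalRing.maximalIdeal k) = IsLocalRing.maximalIdeal R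
      rw [IsLocalRing.maximalIdeal_eq_bot]
      exact IsLocalRing.ker_residue
    · rintro _ ⟨s, rfl⟩
      refine PrimeSpectrum.ext ?_
      show Ideal.comap (IsLocalRing.residue R) s.asIdeal = IsLocalRing.maximalIdeal R
      rw [(Ideal.eq_bot_or_top s.asIdeal).resolve_right s.isPrime.ne_top]
      exact IsLocalRing.ker_residue
  haveI : IsClosedImmersion jk := IsClosedImmersion.spec_of_surjective _ IsLocalRing.residue_surjective
  let jc := pullback.fst N.hom jk
  let q := pullback.snd N.hom jk
  let F := SGA7.specialFibreSet R N
  have hr : Set.range jc.base = F := by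
    show Set.range (pullback.fst N.hom jk).base = _
    have e : Set.range (pullback.fst N.hom jk).base = N.hom.base ⁻¹' Set.range jk.base := Scheme.Pullback.range_fst N.hom jk
    rw [e, hrjk]; rfl
  haveI : IsClosedImmersion jc := MorphismProperty.pullback_fst (P := @IsClosedImmersion) _ _ inferInstance
  haveI : Smooth q := MorphismProperty.pullback_snd (P := @Smooth) _ _ inferInstance
  haveI : QuasiCompact q := MorphismProperty.pullback_snd (P := @QuasiCompact) _ _ inferInstance
  haveI : IsLocallyNoetherian (pullback N.hom jk) := LocallyOfFiniteType.isLocallyNoetherian q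
  haveI : CompactSpace ↥(pullback N.hom jk) := QuasiCompact.compactSpace_of_compactSpace q
  haveI : IsNoetherian (pullback N.hom jk) := {}
  have hcomp : ∀ a, connectedComponentIn F (jc.base a) = jc.base '' connectedComponent a := by
    intro a
    refine subset_antisymm ?_ ?_
    · have hsub : connectedComponentIn F (jc.base a) ⊆ Set.range jc.base := hr ▸ connectedComponentIn_subset _ _
      rw [← Set.image_preimage_eq_of_subset hsub]
      refine Set.image_mono (IsPreconnected.subset_connectedComponent ?_
        (mem_connectedComponentIn (show jc.base a ∈ F from hr ▸ Set.mem_range_self a)))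
      rw [← jc.isEmbedding.isInducing.isPreconnected_image, Set.image_preimage_eq_of_subset hsub]
      exact isPreconnected_connectedComponentIn
    · exact (isPreconnected_connectedComponent.image jc.base jc.continuous.continuousOn).subset_connectedComponentIn
        ⟨a, mem_connectedComponent, rfl⟩ (hr ▸ Set.image_subset_range _ _)
  have hxF : ∀ x : 𝟙_ (Over (Spec (CommRingCat.of R))) ⟶ N, x.left.base y₀ ∈ F := fun x => by
    show N.hom.base (x.left.base y₀) = y₀
    rw [← Scheme.Hom.comp_apply, Over.w x]
    rfl
  refine ⟨?_, ?_, ?_⟩
  · -- finitely many components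
    have hfin : ((fun T : Set ↥(pullback N.hom jk) => if h : T.Nonempty then jc.base '' connectedComponent h.some else ∅) ''
        irreducibleComponents ↥(pullback N.hom jk)).Finite :=
      TopologicalSpace.NoetherianSpace.finite_irreducibleComponents.image _
    refine hfin.subset ?_
    rintro _ ⟨x, rfl⟩
    obtain ⟨a, ha⟩ : x.left.base y₀ ∈ Set.range jc.base := hr ▸ hxF x
    refine ⟨irreducibleComponent a, irreducibleComponent_mem_irreducibleComponents a, ?_⟩
    have hne : (irreducibleComponent a).Nonempty := ⟨a, mem_irreducibleComponent⟩
    show dite _ _ _ = connectedComponentIn F (x.left.base y₀)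
    rw [dif_pos hne, ← ha, hcomp]
    refine congrArg _ ?_
    exact (connectedComponent_eq (isIrreducible_irreducibleComponent.isPreirreducible.isPreconnected.subset_connectedComponent
      mem_irreducibleComponent hne.some_mem)).symm
  · -- every component has a section
    intro z hz
    obtain ⟨a, rfl⟩ : z ∈ Set.range jc.base := hr ▸ hz
    letI : (pullback N.hom jk).Over (Spec (CommRingCat.of k)) := ⟨q⟩
    haveI : LocallyOfFiniteType ((pullback N.hom jk) ↘ Spec (CommRingCat.of k)) := inferInstanceAs (LocallyOfFiniteType q)
    haveI : Smooth ((pullback N.hom jk) ↘ Spec (CommRingCat.of k)) := inferInstanceAs (Smooth q)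
    haveI := GeomRed.geometricallyReduced_of_smooth (k := k) (X := pullback N.hom jk)
    obtain ⟨b, hb, -, hfin, hsep'⟩ := SepDense19.exists_separable_point (k := k)
      (⟨connectedComponent a, ZConn5.isOpen_connectedComponent a⟩ : (pullback N.hom jk).Opens) (x := a) mem_connectedComponent
    letI := Curv2.resAlgebra k (pullback N.hom jk) b
    haveI := hsep'
    let σ : (pullback N.hom jk).residueField b →ₐ[k] k := IsSepClosed.lift
    let p : Spec (CommRingCat.of k) ⟶ pullback N.hom jk :=
      Spec.map (CommRingCat.ofHom σ.toRingHom) ≫ (pullback N.hom jk).fromSpecResidueField b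
    have hpq : p ≫ q = 𝟙 _ := by
      have k0 : Spec.map (CommRingCat.ofHom (Curv2.resMap k (pullback N.hom jk) b)) =
          (pullback N.hom jk).fromSpecResidueField b ≫ q := GeomIrr.spec_resMap k (pullback N.hom jk) b
      have k1 : σ.toRingHom.comp (Curv2.resMap k (pullback N.hom jk) b) = algebraMap k k := σ.comp_algebraMap
      rw [Category.assoc, ← k0, ← Spec.map_comp, ← CommRingCat.ofHom_comp, k1]
      exact Spec.map_id _
    have hρ : RingHom.ker (IsLocalRing.residue R) = IsLocalRing.maximalIdeal R := IsLocalRing.ker_residue
    haveI : HenselianRing R (RingHom.ker (IsLocalRing.residue R)) := by rw [hρ]; infer_instance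
    obtain ⟨s, hs, hs0⟩ := HensSect19.exists_section_of_smooth (IsLocalRing.residue R) IsLocalRing.residue_surjective
      N.hom (p ≫ jc) (by rw [Category.assoc, pullback.condition, reassoc_of% hpq])
    refine ⟨Over.homMk s hs, ?_⟩
    have h1 : s.base y₀ = jc.base b := by
      have e := congrArg (fun m : Spec (CommRingCat.of k) ⟶ N.left => m.base (IsLocalRing.closedPoint k)) hs0
      simp only [Scheme.Hom.comp_apply] at e
      have e1 : (Spec.map (CommRingCat.ofHom (IsLocalRing.residue R))).base (IsLocalRing.closedPoint k) = y₀ :=
        Set.mem_singleton_iff.1 (hrjk ▸ Set.mem_range_self (f := jk.base) (IsLocalRing.closedPoint k))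
      rw [e1] at e
      rw [e]
      refine congrArg jc.base ?_
      show p.base (IsLocalRing.closedPoint k) = b
      simp only [p, Scheme.Hom.comp_apply]
      exact Scheme.fromSpecResidueField_apply _ _
    show jc.base a ∈ connectedComponentIn F (s.base y₀)
    rw [h1, hcomp]
    exact ⟨a, (connectedComponent_eq hb) ▸ mem_connectedComponent, rfl⟩
  · -- translations
    intro x y
    let τ : (𝟙_ (Over (Spec (CommRingCat.of R))) ⟶ N) → (N ⟶ N) := fun c =>
      𝟙 N * (CartesianMonoidalCategory.toUnit N ≫ c)
    have hτ : ∀ (a c : 𝟙_ (Over (Spec (CommRingCat.of R))) ⟶ N), a ≫ τ c = a * c := fun a c => by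
      show a ≫ (𝟙 N * (CartesianMonoidalCategory.toUnit N ≫ c)) = a * c
      rw [MonObj.comp_mul, Category.comp_id, ← Category.assoc,
        Subsingleton.elim (a ≫ CartesianMonoidalCategory.toUnit N) (𝟙 _), Category.id_comp]
    have hmv : ∀ (a b c : 𝟙_ (Over (Spec (CommRingCat.of R))) ⟶ N),
        a.left.base y₀ ∈ connectedComponentIn F (b.left.base y₀) →
          (a * c).left.base y₀ ∈ connectedComponentIn F ((b * c).left.base y₀) := by
      intro a b c hab
      have himg : (τ c).left.base '' connectedComponentIn F (b.left.base y₀) ⊆
          connectedComponentIn F ((b * c).left.base y₀) := by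
        refine IsPreconnected.subset_connectedComponentIn
          (isPreconnected_connectedComponentIn.image _ (τ c).left.continuous.continuousOn)
          ⟨b.left.base y₀, mem_connectedComponentIn (hxF b), ?_⟩ ?_
        · rw [← hτ, Over.comp_left, Scheme.Hom.comp_apply]
        · rintro _ ⟨w, hw, rfl⟩
          show N.hom.base ((τ c).left.base w) = y₀
          rw [← Scheme.Hom.comp_apply, Over.w (τ c)]
          exact connectedComponentIn_subset F _ hw
      refine himg ⟨a.left.base y₀, hab, ?_⟩
      rw [← hτ, Over.comp_left, Scheme.Hom.comp_apply]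
    have h1 : (1 : 𝟙_ (Over (Spec (CommRingCat.of R))) ⟶ N) = η[N] := (MonObj.one_eq_one (M := N)).symm
    show connectedComponentIn F (x.left.base y₀) = connectedComponentIn F (y.left.base y₀) ↔
      (x * y⁻¹).left.base y₀ ∈ connectedComponentIn F (η[N].left.base y₀)
    constructor
    · intro h
      have h' := hmv x y y⁻¹ (h ▸ mem_connectedComponentIn (hxF x))
      rwa [mul_inv_cancel, h1] at h'
    · intro h
      rw [← h1] at h
      have h' := hmv _ _ y h
      rw [inv_mul_cancel_right, _root_.one_mul] at h'
      exact (connectedComponentIn_eq h').symm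

end Groth.Agent.S4070
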