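import Groth.Statements.S4071
import Groth.Agent.Lib.NeronGrp19.Sections
import Groth.Agent.Lib.TorsLift22.Etale
import Groth.Agent.Lib.GrpComp19.Basic
import Groth.Agent.Lib.ZConn5.SectionProper
import Mathlib.AlgebraicGeometry.Group.Abelian
-- import your own Groth.Agent.* helpers here

set_option autoImplicit false
universe u
open CategoryTheory CategoryTheory.Limits AlgebraicGeometry MonObj
open MonoidalCategory
open SGA7
open MonoidalCategory CartesianMonoidalCategory

namespace Groth.Agent.S4071

set_option linter.style.haveILetI false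
set_option backward.isDefEq.respectTransparency.types false


/-- Let R be a strictly henselian discrete valuation ring with fraction field K, N a group scheme over
Spec R which is a Néron model of its generic fibre, an abelian variety A over K, and n an integer
invertible in the residue field of R. If x is a section of N (a K-point of A) whose n-th power meets
the connected component of the unit section in the special fibre, then there is a section y with y^n
= 1 such that x · y⁻¹ meets the connected component of the unit section: the n-torsion of the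
component group is the image of the n-torsion of A(K). -/
theorem result (R K : Type u) [CommRing R] [IsDomain R] [IsDiscreteValuationRing R] [HenselianLocalRing R]
    [IsSepClosed (IsLocalRing.ResidueField R)] [Field K] [Algebra R K] [IsFractionRing R K]
    (N : Over (Spec (CommRingCat.of R))) [GrpObj N] (hN : SGA7.IsNeron R K N)
    [IsProper ((SGA7.genFib R K).obj N).hom] [GeometricallyIntegral ((SGA7.genFib R K).obj N).hom]
    (n : ℕ) (hn : (n : IsLocalRing.ResidueField R) ≠ 0)
    (x : 𝟙_ (Over (Spec (CommRingCat.of R))) ⟶ N) (hx : x ^ n ∈ SGA7.secUnitComp R N) :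
    ∃ y : 𝟙_ (Over (Spec (CommRingCat.of R))) ⟶ N, y ^ n = 1 ∧ x * y⁻¹ ∈ SGA7.secUnitComp R N := by
  classical
  obtain ⟨hsm, hsep, hqc, hnm⟩ := hN
  haveI := hsm; haveI := hsep; haveI := hqc
  haveI := isCommMonObj_of_isProper_of_geometricallyIntegral ((SGA7.genFib R K).obj N)
  haveI : IsCommMonObj N := by
    haveI : Smooth (N ⊗ N).hom := inferInstanceAs (Smooth (pullback.fst N.hom N.hom ≫ N.hom))
    have h : fst N N * snd N N = snd N N * fst N N := by
      refine (hnm (N ⊗ N) inferInstance).1 ?_
      show (SGA7.genFib R K).map _ = (SGA7.genFib R K).map _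
      rw [Functor.map_mul, Functor.map_mul, mul_comm]
    constructor
    rw [show μ[N] = fst N N * snd N N by rw [Hom.mul_def, lift_fst_snd, Category.id_comp]]
    rw [MonObj.comp_mul, CartesianMonoidalCategory.braiding_hom_fst, CartesianMonoidalCategory.braiding_hom_snd]
    exact h.symm
  let k := IsLocalRing.ResidueField R
  let y₀ : ↥(Spec (CommRingCat.of R)) := IsLocalRing.closedPoint R
  let jk : Spec (CommRingCat.of k) ⟶ Spec (CommRingCat.of R) :=
    Spec.map (CommRingCat.ofHom (IsLocalRing.residue R))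
  have hrjk : Set.range jk.base = {y₀} := by
    refine Set.eq_singleton_iff_unique_mem.2 ⟨⟨IsLocalRing.closedPoint k, ?_⟩, ?_⟩
    · refine PrimeSpectrum.ext ?_
      show Ideal.comap (IsLocalRing.residue R) (IsLocalRing.maximalIdeal k) = IsLocalRing.maximalIdeal R
      rw [IsLocalRing.maximalIdeal_eq_bot]
      exact IsLocalRing.ker_residue
    · rintro _ ⟨s, rfl⟩
      refine PrimeSpectrum.ext ?_
      show Ideal.comap (IsLocalRing.residue R) s.asIdeal = IsLocalRing.maximalIdeal R
      rw [(Ideal.eq_bot_or_top s.asIdeal).resolve_right s.isPrime.ne_top]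
      exact IsLocalRing.ker_residue
  haveI : IsClosedImmersion jk := IsClosedImmersion.spec_of_surjective _ IsLocalRing.residue_surjective
  let Nk := (Over.pullback jk).obj N
  let jc : Nk.left ⟶ N.left := pullback.fst N.hom jk
  haveI : Smooth Nk.hom := MorphismProperty.pullback_snd (P := @Smooth) _ _ inferInstance
  haveI : QuasiCompact Nk.hom := MorphismProperty.pullback_snd (P := @QuasiCompact) _ _ inferInstance
  haveI : IsLocallyNoetherian Nk.left := LocallyOfFiniteType.isLocallyNoetherian Nk.hom
  haveI : CompactSpace ↥Nk.left := QuasiCompact.compactSpace_of_compactSpace Nk.hom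
  haveI : IsNoetherian Nk.left := {}
  let F := SGA7.specialFibreSet R N
  have hr : Set.range jc.base = F := by
    show Set.range (pullback.fst N.hom jk).base = _
    have e : Set.range (pullback.fst N.hom jk).base = N.hom.base ⁻¹' Set.range jk.base := Scheme.Pullback.range_fst N.hom jk
    rw [e, hrjk]; rfl
  haveI : IsClosedImmersion jc := MorphismProperty.pullback_fst (P := @IsClosedImmersion) _ _ inferInstance
  have hxF : ∀ s : 𝟙_ (Over (Spec (CommRingCat.of R))) ⟶ N, s.left.base y₀ ∈ F := fun s => by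
    show N.hom.base (s.left.base y₀) = y₀
    rw [← Scheme.Hom.comp_apply, Over.w s]
    rfl
  let e0 : ↥N.left := η[N].left.base y₀
  obtain ⟨a, ha⟩ : e0 ∈ Set.range jc.base := hr ▸ hxF η[N]
  let C := connectedComponentIn F e0
  have hcomp : C = jc.base '' connectedComponent a := by
    show connectedComponentIn F e0 = _
    rw [← ha]
    refine subset_antisymm ?_ ?_
    · have hsub : connectedComponentIn F (jc.base a) ⊆ Set.range jc.base := hr ▸ connectedComponentIn_subset _ _
      rw [← Set.image_preimage_eq_of_subset hsub]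
      refine Set.image_mono (IsPreconnected.subset_connectedComponent ?_
        (mem_connectedComponentIn (show jc.base a ∈ F from hr ▸ Set.mem_range_self a)))
      rw [← jc.isEmbedding.isInducing.isPreconnected_image, Set.image_preimage_eq_of_subset hsub]
      exact isPreconnected_connectedComponentIn
    · exact (isPreconnected_connectedComponent.image jc.base jc.continuous.continuousOn).subset_connectedComponentIn
        ⟨a, mem_connectedComponent, rfl⟩ (hr ▸ Set.image_subset_range _ _)
  have hCirr : IsIrreducible C :=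
    hcomp ▸ (GrpComp19.isIrreducible_connectedComponent Nk a).image _ jc.continuous.continuousOn
  let U₀ : N.left.Opens := ⟨(jc.base '' (connectedComponent a)ᶜ)ᶜ,
    ((jc.isClosedEmbedding.isClosedMap _ (ZConn5.isOpen_connectedComponent a).isClosed_compl)).isOpen_compl⟩
  have hCU : C ⊆ U₀ := by
    rw [hcomp]
    rintro _ ⟨b, hb, rfl⟩ ⟨b', hb', e⟩
    exact hb' (jc.isEmbedding.injective e ▸ hb)
  have hUF : ∀ w, w ∈ F → w ∈ U₀ → w ∈ C := by
    intro w hw hwU
    obtain ⟨b, rfl⟩ : w ∈ Set.range jc.base := hr ▸ hw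
    rw [hcomp]
    refine ⟨b, ?_, rfl⟩
    by_contra hb
    exact hwU ⟨b, hb, rfl⟩
  -- translations
  let τ : (𝟙_ (Over (Spec (CommRingCat.of R))) ⟶ N) → (N ⟶ N) := fun c => 𝟙 N * (toUnit N ≫ c)
  have hτ : ∀ (a c : 𝟙_ (Over (Spec (CommRingCat.of R))) ⟶ N), a ≫ τ c = a * c := fun a c => by
    show a ≫ (𝟙 N * (toUnit N ≫ c)) = a * c
    rw [MonObj.comp_mul, Category.comp_id, ← Category.assoc,
      Subsingleton.elim (a ≫ toUnit N) (𝟙 _), Category.id_comp]
  have hmv : ∀ (a b c : 𝟙_ (Over (Spec (CommRingCat.of R))) ⟶ N),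
      a.left.base y₀ ∈ connectedComponentIn F (b.left.base y₀) →
        (a * c).left.base y₀ ∈ connectedComponentIn F ((b * c).left.base y₀) := by
    intro a b c hab
    have himg : (τ c).left.base '' connectedComponentIn F (b.left.base y₀) ⊆
        connectedComponentIn F ((b * c).left.base y₀) := by
      refine IsPreconnected.subset_connectedComponentIn
        (isPreconnected_connectedComponentIn.image _ (τ c).left.continuous.continuousOn)
        ⟨b.left.base y₀, mem_connectedComponentIn (hxF b), ?_⟩ ?_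
      · rw [← hτ, Over.comp_left, Scheme.Hom.comp_apply]
      · rintro _ ⟨w, hw, rfl⟩
        show N.hom.base ((τ c).left.base w) = y₀
        rw [← Scheme.Hom.comp_apply, Over.w (τ c)]
        exact connectedComponentIn_subset F _ hw
    refine himg ⟨a.left.base y₀, hab, ?_⟩
    rw [← hτ, Over.comp_left, Scheme.Hom.comp_apply]
  have h1 : (1 : 𝟙_ (Over (Spec (CommRingCat.of R))) ⟶ N) = η[N] := (MonObj.one_eq_one (M := N)).symm
  -- the power map
  let pn : N ⟶ N := 𝟙 N ^ n
  have hpn : ∀ s : 𝟙_ (Over (Spec (CommRingCat.of R))) ⟶ N, s ≫ pn = s ^ n := fun s => by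
    show s ≫ 𝟙 N ^ n = s ^ n
    rw [MonObj.comp_pow, Category.comp_id]
  have hnR : IsUnit (n : R) := by
    rw [← IsLocalRing.residue_ne_zero_iff_isUnit, map_natCast]; exact hn
  haveI : Etale pn.left := TorsLift22.etale_pow N (by
    have := hnR.map (Scheme.ΓSpecIso (CommRingCat.of R)).inv.hom
    simpa using this)
  let U' : N.left.Opens := ⟨pn.left.base '' U₀, pn.left.isOpenMap _ U₀.2⟩
  have hlift : ∀ q : 𝟙_ (Over (Spec (CommRingCat.of R))) ⟶ N, q.left.base y₀ ∈ U' →
      ∃ w, w ^ n = q ∧ w.left.base y₀ ∈ C := by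
    rintro q ⟨z, hzU, hz⟩
    let ql : Spec (CommRingCat.of R) ⟶ N.left := q.left
    have hql : ql ≫ N.hom = 𝟙 _ := Over.w q
    obtain ⟨t, ht1, ht2⟩ := Scheme.Pullback.exists_preimage_pullback (f := pn.left) (g := ql) z y₀ hz
    haveI : Etale (pullback.snd pn.left ql) := MorphismProperty.pullback_snd (P := @Etale) _ _ inferInstance
    obtain ⟨g, hg, hgU⟩ := NeronGrp19.exists_section_mem (pullback.snd pn.left ql)
      ((pullback.fst pn.left ql) ⁻¹ᵁ U₀) t (by show _ ∈ U₀; rw [ht1]; exact hzU) ht2
    have hw : (g ≫ pullback.fst pn.left ql) ≫ N.hom = 𝟙 _ := by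
      rw [← Over.w pn, ← Category.assoc, Category.assoc g, pullback.condition, ← Category.assoc g, hg,
        Category.id_comp, hql]
    let w : 𝟙_ (Over (Spec (CommRingCat.of R))) ⟶ N := Over.homMk (g ≫ pullback.fst pn.left ql) hw
    refine ⟨w, ?_, hUF _ (hxF w) hgU⟩
    rw [← hpn]
    ext1
    show (g ≫ pullback.fst pn.left ql) ≫ pn.left = ql
    rw [Category.assoc, pullback.condition, reassoc_of% hg]
  let c := x ^ n
  let ρ : N ⟶ N := (toUnit N ≫ c) * (𝟙 N)⁻¹
  have hρ : ∀ s : 𝟙_ (Over (Spec (CommRingCat.of R))) ⟶ N, s ≫ ρ = c * s⁻¹ := fun s => by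
    show s ≫ ((toUnit N ≫ c) * (𝟙 N)⁻¹) = c * s⁻¹
    rw [MonObj.comp_mul, GrpObj.comp_inv, Category.comp_id, ← Category.assoc,
      Subsingleton.elim (s ≫ toUnit N) (𝟙 _), Category.id_comp]
  have heU : e0 ∈ U' := by
    refine ⟨e0, hCU (mem_connectedComponentIn (hxF η[N])), ?_⟩
    show (η[N].left ≫ pn.left).base y₀ = η[N].left.base y₀
    rw [← Over.comp_left, hpn, ← h1, one_pow]
  let V : N.left.Opens := ρ.left ⁻¹ᵁ U'
  have hcV : c.left.base y₀ ∈ V := by
    show (c.left ≫ ρ.left).base y₀ ∈ U'
    rw [← Over.comp_left, hρ, mul_inv_cancel, h1]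
    exact heU
  obtain ⟨z, hzC, hzU', hzV⟩ := hCirr.2 U' V U'.2 V.2 ⟨e0, mem_connectedComponentIn (hxF η[N]), heU⟩
    ⟨c.left.base y₀, hx, hcV⟩
  obtain ⟨g, hg, hgU⟩ := NeronGrp19.exists_section_mem N.hom (U' ⊓ V) z ⟨hzU', hzV⟩
    (connectedComponentIn_subset F _ hzC)
  let p : 𝟙_ (Over (Spec (CommRingCat.of R))) ⟶ N := Over.homMk g hg
  obtain ⟨w₁, hw₁, hw₁C⟩ := hlift p hgU.1
  obtain ⟨w₂, hw₂, hw₂C⟩ := hlift (c * p⁻¹) (by
    rw [← hρ, Over.comp_left, Scheme.Hom.comp_apply]
    exact hgU.2)
  have hwC : (w₁ * w₂).left.base y₀ ∈ C := by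
    have h := hmv w₁ η[N] w₂ hw₁C
    rw [← h1, _root_.one_mul] at h
    rw [show C = connectedComponentIn F (w₂.left.base y₀) from connectedComponentIn_eq hw₂C]
    exact h
  refine ⟨x * (w₁ * w₂)⁻¹, ?_, ?_⟩
  · rw [mul_pow, inv_pow, mul_pow, hw₁, hw₂, mul_comm c p⁻¹, mul_inv_cancel_left]
    exact mul_inv_cancel c
  · rw [mul_inv_rev, inv_inv, mul_comm (w₁ * w₂) x⁻¹, mul_inv_cancel_left]
    exact hwC

end Groth.Agent.S4071
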