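import Groth.Statements.S4075
import Groth.Agent.Lib.InertiaEt19.Basic
import Groth.Agent.Lib.SGA7Torsion.Main
import Mathlib.AlgebraicGeometry.Group.Abelian
import Mathlib.AlgebraicGeometry.Morphisms.Etale
import Mathlib.Algebra.Category.Ring.Constructions
-- import your own Groth.Agent.* helpers here

set_option autoImplicit false
universe u
open CategoryTheory CategoryTheory.Limits AlgebraicGeometry MonObj
open SGA7
open MonoidalCategory CartesianMonoidalCategory

namespace Groth.Agent.S4075

set_option linter.style.haveILetI false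
set_option backward.isDefEq.respectTransparency.types false


/-- Let R be a henselian discrete valuation ring with fraction field K, Ω a separable closure of K, W a
valuation subring of Ω lying over R, N a group scheme over Spec R which is a Néron model of its
generic fibre A = N_K, an abelian variety, and m an integer invertible in the residue field. For an
m-torsion Ω-point x of A, the inertia group at W fixes x if and only if the point of N underlying x
specialises to a point of the special fibre of N (x factors through the finite part of the m-torsion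
of N): the fixed part of the m-torsion is the inertia invariants. -/
theorem result (R K Ω : Type u) [CommRing R] [IsDomain R]
    [IsDiscreteValuationRing R] [HenselianLocalRing R] [Field K] [Algebra R K] [IsFractionRing R K]
    [Field Ω] [Algebra K Ω] [IsSepClosure K Ω] (W : ValuationSubring Ω) (hW : SGA7.LiesOver K R W)
    (N : Over (Spec (CommRingCat.of R))) [GrpObj N] (hN : SGA7.IsNeron R K N)
    [IsProper ((SGA7.genFib R K).obj N).hom] [GeometricallyIntegral ((SGA7.genFib R K).obj N).hom]
    (m : ℕ) (hm : (m : IsLocalRing.ResidueField R) ≠ 0)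
    (x : SGA7.Pts Ω ((SGA7.genFib R K).obj N)) (hx : x ^ m = 1) :
    (∀ σ : Ω ≃ₐ[K] Ω, SGA7.IsInertia W σ → SGA7.galAct σ x = x) ↔
      ∃ z ∈ SGA7.specialFibreSet R N,
        (x.left ≫ pullback.fst N.hom (Spec.map (CommRingCat.ofHom (algebraMap R K)))).base
          (IsLocalRing.closedPoint Ω) ⤳ z := by
  classical
  obtain ⟨hsm, hsep, hqc, hnm⟩ := hN
  haveI := hsm; haveI := hsep; haveI := hqc
  letI : Algebra R Ω := ((algebraMap K Ω).comp (algebraMap R K)).toAlgebra
  haveI : IsScalarTower R K Ω := IsScalarTower.of_algebraMap_eq fun _ => rfl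
  let g : Spec (CommRingCat.of K) ⟶ Spec (CommRingCat.of R) := Spec.map (CommRingCat.ofHom (algebraMap R K))
  let sΩ : Spec (CommRingCat.of Ω) ⟶ Spec (CommRingCat.of R) := Spec.map (CommRingCat.ofHom (algebraMap R Ω))
  let a : Spec (CommRingCat.of Ω) ⟶ N.left := x.left ≫ pullback.fst N.hom g
  have hxw : x.left ≫ pullback.snd N.hom g = Spec.map (CommRingCat.ofHom (algebraMap K Ω)) := Over.w x
  have ha : a ≫ N.hom = sΩ := by
    simp only [a, sΩ, Category.assoc, pullback.condition]
    rw [reassoc_of% hxw, ← Spec.map_comp]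
    rfl
  have hR : ∀ r : R, algebraMap R Ω r ∈ W := hW.1
  constructor
  · intro hfix
    obtain ⟨U, hU, hPU, -⟩ := exists_isAffineOpen_mem_and_subset (X := N.left)
      (x := a.base (IsLocalRing.closedPoint Ω)) (U := ⊤) trivial
    have hrg : Set.range a.base ⊆ Set.range hU.fromSpec.base := by
      rw [hU.range_fromSpec]
      rintro _ ⟨t, rfl⟩
      rw [Subsingleton.elim t (IsLocalRing.closedPoint Ω)]
      exact hPU
    let l := IsOpenImmersion.lift hU.fromSpec a hrg
    have hl : l ≫ hU.fromSpec = a := IsOpenImmersion.lift_fac _ _ _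
    let φ : Γ(N.left, U) ⟶ CommRingCat.of Ω := Spec.preimage l
    let ρ : CommRingCat.of R ⟶ Γ(N.left, U) := Spec.preimage (hU.fromSpec ≫ N.hom)
    have hρ : Spec.map ρ = hU.fromSpec ≫ N.hom := Spec.map_preimage _
    have hφ : Spec.map φ = l := Spec.map_preimage _
    letI : Algebra R Γ(N.left, U) := ρ.hom.toAlgebra
    have hρφ : ρ ≫ φ = CommRingCat.ofHom (algebraMap R Ω) := by
      apply Spec.map_injective
      rw [Spec.map_comp, hφ, hρ, reassoc_of% hl, ha]
    let φA : Γ(N.left, U) →ₐ[R] Ω :=
      { φ.hom with commutes' := fun r => congrArg (fun q : CommRingCat.of R ⟶ CommRingCat.of Ω => q.hom r) hρφ }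
    haveI : Algebra.FiniteType R Γ(N.left, U) := RingHom.finiteType_algebraMap.1
      ((HasRingHomProperty.Spec_iff (P := @LocallyOfFiniteType)).1
        (show LocallyOfFiniteType (Spec.map ρ) by rw [hρ]; infer_instance))
    obtain ⟨T, hT⟩ := (‹Algebra.FiniteType R Γ(N.left, U)›).out
    have hTfix : ∀ t : Γ(N.left, U), φA t ∈ IntermediateField.adjoin K {θ : Ω | InertiaEt19.IsEtElem R θ} := by
      refine fun t => InertiaEt19.mem_adjoin_of_fixed (R := R) hW fun σ hσ => ?_
      have h := congrArg (fun q : SGA7.pt Ω ⟶ (SGA7.genFib R K).obj N => q.left ≫ pullback.fst N.hom g) (hfix σ hσ)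
      change (Spec.map (CommRingCat.ofHom (σ : Ω →+* Ω)) ≫ x.left) ≫ pullback.fst N.hom g = a at h
      rw [Category.assoc] at h
      change Spec.map (CommRingCat.ofHom (σ : Ω →+* Ω)) ≫ a = a at h
      rw [← hl, ← Category.assoc, cancel_mono, ← hφ, ← Spec.map_comp] at h
      exact congrArg (fun q : Γ(N.left, U) ⟶ CommRingCat.of Ω => q.hom t) (Spec.map_injective h)
    choose s hs hst using fun t => IntermediateField.exists_finset_of_mem_adjoin (hTfix t)
    let S : Finset Ω := T.biUnion s
    have hS : ∀ θ ∈ S, InertiaEt19.IsEtElem R θ := fun θ hθ => by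
      obtain ⟨t, -, hθt⟩ := Finset.mem_biUnion.1 hθ
      exact hs t hθt
    let L := IntermediateField.adjoin K (S : Set Ω)
    let R' := Algebra.adjoin R (S : Set Ω)
    have hRL : R' ≤ L.toSubalgebra.restrictScalars R := Algebra.adjoin_le (IntermediateField.subset_adjoin K _)
    have hφL : ∀ c, φA c ∈ L := fun c => by
      have hc : c ∈ Algebra.adjoin R (T : Set Γ(N.left, U)) := hT ▸ trivial
      have h1 : Algebra.adjoin R (T : Set Γ(N.left, U)) ≤ (L.toSubalgebra.restrictScalars R).comap φA :=
        Algebra.adjoin_le fun t ht => IntermediateField.adjoin.mono K _ _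
          (Finset.coe_subset.2 (Finset.subset_biUnion_of_mem s (Finset.mem_coe.1 ht))) (hst t)
      exact h1 hc
    obtain ⟨hEt, hFin⟩ := InertiaEt19.etale_adjoin (R := R) (K := K) S hS
    haveI := hEt
    letI : Algebra R' L := (Subalgebra.inclusion hRL).toRingHom.toAlgebra
    haveI : IsLocalization ((nonZeroDivisors R).map (algebraMap R R')) L := by
      have hscale : ∀ y ∈ L, ∃ r : R, r ≠ 0 ∧ algebraMap R Ω r * y ∈ R' := by
        intro y hy
        change y ∈ L.toSubalgebra at hy
        rw [IntermediateField.adjoin_toSubalgebra_of_isAlgebraic (fun θ hθ => (Algebra.IsAlgebraic.isAlgebraic θ : IsAlgebraic K θ))] at hy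
        induction hy using Algebra.adjoin_induction with
        | mem θ hθ => exact ⟨1, one_ne_zero, by rw [map_one, _root_.one_mul]; exact Algebra.subset_adjoin hθ⟩
        | algebraMap c =>
          obtain ⟨⟨b, d⟩, hbd⟩ := IsLocalization.surj (nonZeroDivisors R) c
          refine ⟨d, nonZeroDivisors.ne_zero d.2, ?_⟩
          change c * algebraMap R K d = algebraMap R K b at hbd
          rw [IsScalarTower.algebraMap_apply R K Ω, ← map_mul, mul_comm, hbd, ← IsScalarTower.algebraMap_apply]
          exact R'.algebraMap_mem b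
        | add y y' _ _ ih ih' =>
          obtain ⟨r, hr, h⟩ := ih
          obtain ⟨r', hr', h'⟩ := ih'
          refine ⟨r * r', mul_ne_zero hr hr', ?_⟩
          rw [show algebraMap R Ω (r * r') * (y + y') =
            algebraMap R Ω r' * (algebraMap R Ω r * y) + algebraMap R Ω r * (algebraMap R Ω r' * y') by
              rw [map_mul]; ring]
          exact add_mem (mul_mem (R'.algebraMap_mem r') h) (mul_mem (R'.algebraMap_mem r) h')
        | mul y y' _ _ ih ih' =>
          obtain ⟨r, hr, h⟩ := ih
          obtain ⟨r', hr', h'⟩ := ih'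
          refine ⟨r * r', mul_ne_zero hr hr', ?_⟩
          rw [show algebraMap R Ω (r * r') * (y * y') = (algebraMap R Ω r * y) * (algebraMap R Ω r' * y') by
              rw [map_mul]; ring]
          exact mul_mem h h'
      have hinjR : Function.Injective (algebraMap R Ω) :=
        (algebraMap K Ω).injective.comp (IsFractionRing.injective R K)
      refine { map_units := ?_, surj := ?_, exists_of_eq := ?_ }
      · rintro ⟨_, r, hr, rfl⟩
        refine isUnit_iff_ne_zero.2 fun h => nonZeroDivisors.ne_zero hr (hinjR ?_)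
        rw [map_zero]
        exact congrArg Subtype.val h
      · intro y
        obtain ⟨r, hr, hmem⟩ := hscale y y.2
        refine ⟨⟨⟨_, hmem⟩, ⟨_, r, mem_nonZeroDivisors_of_ne_zero hr, rfl⟩⟩, Subtype.ext ?_⟩
        show (y : Ω) * algebraMap R Ω r = algebraMap R Ω r * y
        ring
      · intro p q hpq
        exact ⟨1, congrArg _ (Subtype.ext (congrArg (fun z : L => (z : Ω)) hpq))⟩
    have hpo := CommRingCat.isPushout_of_isLocalization (algebraMap R R') (algebraMap K L)
      (RingHom.ext fun r => Subtype.ext rfl) (nonZeroDivisors R)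
    let Y : Over (Spec (CommRingCat.of R)) := Over.mk (Spec.map (CommRingCat.ofHom (algebraMap R R')))
    haveI : Etale Y.hom := (HasRingHomProperty.Spec_iff (P := @Etale)).2 (RingHom.etale_algebraMap.2 hEt)
    let toY : Spec (CommRingCat.of L) ⟶ Y.left := Spec.map (CommRingCat.ofHom (algebraMap R' L))
    have sq : IsPullback toY (Spec.map (CommRingCat.ofHom (algebraMap K L))) Y.hom g :=
      isPullback_SpecMap_of_isPushout _ _ _ _ hpo
    let φL : Γ(N.left, U) →+* L := (φA.toRingHom).codRestrict L.toSubfield.toSubring hφL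
    let b : Spec (CommRingCat.of L) ⟶ N.left := Spec.map (CommRingCat.ofHom φL) ≫ hU.fromSpec
    have hb : b ≫ N.hom = Spec.map (CommRingCat.ofHom (algebraMap K L)) ≫ g := by
      simp only [b, g]
      rw [Category.assoc, ← hρ, ← Spec.map_comp, ← Spec.map_comp]
      refine congrArg Spec.map (CommRingCat.hom_ext (RingHom.ext fun r => Subtype.ext ?_))
      exact congrArg (fun q : CommRingCat.of R ⟶ CommRingCat.of Ω => q.hom r) hρφ
    let hK : (SGA7.genFib R K).obj Y ⟶ (SGA7.genFib R K).obj N :=
      Over.homMk (sq.isoPullback.inv ≫ pullback.lift b (Spec.map (CommRingCat.ofHom (algebraMap K L))) hb)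
        (by
          show (sq.isoPullback.inv ≫ pullback.lift b _ hb) ≫ pullback.snd N.hom g = pullback.snd Y.hom g
          rw [Category.assoc, pullback.lift_snd, sq.isoPullback_inv_snd])
    obtain ⟨gY, hgY⟩ := (hnm Y inferInstance).2 hK
    have hgb : toY ≫ gY.left = b := by
      have h1 : ((SGA7.genFib R K).map gY).left ≫ pullback.fst N.hom g = pullback.fst Y.hom g ≫ gY.left := by
        simp only [SGA7.genFib, g, Over.pullback_map_left]; exact pullback.lift_fst _ _ _
      have h2 : sq.isoPullback.hom ≫ ((SGA7.genFib R K).map gY).left ≫ pullback.fst N.hom g = b := by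
        rw [show (SGA7.genFib R K).map gY = hK from hgY]
        show sq.isoPullback.hom ≫ (sq.isoPullback.inv ≫ pullback.lift b _ hb) ≫ pullback.fst N.hom g = b
        rw [Category.assoc, Iso.hom_inv_id_assoc, pullback.lift_fst]
      rw [h1, ← Category.assoc, sq.isoPullback_hom_fst] at h2
      exact h2
    let iW : R' →+* W := (R'.val.toRingHom).codRestrict W.toSubring (fun r => by
      refine InertiaEt19.mem_of_isIntegral (R := R) hR ?_
      haveI := hFin
      exact (Algebra.IsIntegral.isIntegral r).map R'.val)
    let toW : Spec (CommRingCat.of W) ⟶ Y.left := Spec.map (CommRingCat.ofHom iW)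
    refine ⟨gY.left.base (toW.base (IsLocalRing.closedPoint W)), ?_, ?_⟩
    · show N.hom.base (gY.left.base (toW.base (IsLocalRing.closedPoint W))) = IsLocalRing.closedPoint R
      rw [← Scheme.Hom.comp_apply, ← Scheme.Hom.comp_apply]
      rw [Over.w gY, show toW ≫ Y.hom = Spec.map (CommRingCat.ofHom (iW.comp (algebraMap R R'))) by
        rw [CommRingCat.ofHom_comp, Spec.map_comp]; rfl]
      refine PrimeSpectrum.ext (Ideal.ext fun r => ?_)
      constructor
      · intro hr
        by_contra hu
        have hru : IsUnit r := by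
          change r ∉ IsLocalRing.maximalIdeal R at hu
          rw [IsLocalRing.mem_maximalIdeal] at hu
          exact not_not.1 hu
        exact (IsLocalRing.mem_maximalIdeal _).1 hr (hru.map (iW.comp (algebraMap R R')))
      · intro hr
        exact (W.valuation_lt_one_iff _).2 (hW.2 r hr)
    · let iΩ : Spec (CommRingCat.of Ω) ⟶ Spec (CommRingCat.of W) :=
        Spec.map (CommRingCat.ofHom (algebraMap W Ω))
      have hab : a = iΩ ≫ toW ≫ gY.left := by
        have e : iΩ ≫ toW = Spec.map (CommRingCat.ofHom L.val.toRingHom) ≫ toY := by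
          simp only [iΩ, toW, toY]
          rw [← Spec.map_comp, ← Spec.map_comp]
          rfl
        rw [← Category.assoc, e, Category.assoc, hgb, ← hl, ← hφ]
        simp only [b]
        rw [← Category.assoc, ← Spec.map_comp]
        rfl
      show a.base (IsLocalRing.closedPoint Ω) ⤳ _
      rw [hab, Scheme.Hom.comp_apply, Scheme.Hom.comp_apply]
      exact ((IsLocalRing.specializes_closedPoint _).map toW.continuous).map gY.left.continuous
  · rintro ⟨z, hz, hsp⟩ σ hσ
    change a.base (IsLocalRing.closedPoint Ω) ⤳ z at hsp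
    let χ : CommRingCat.of R ⟶ N.left.presheaf.stalk z := Spec.preimage (N.left.fromSpecStalk z ≫ N.hom)
    let ψ : N.left.presheaf.stalk z ⟶ CommRingCat.of Ω :=
      N.left.presheaf.stalkSpecializes hsp ≫ Scheme.stalkClosedPointTo a
    have hψ : Spec.map ψ ≫ N.left.fromSpecStalk z = a := by
      simp only [ψ]
      rw [Spec.map_comp, Category.assoc, Scheme.SpecMap_stalkSpecializes_fromSpecStalk,
        Scheme.Spec_stalkClosedPointTo_fromSpecStalk]
    have hχψ : χ ≫ ψ = CommRingCat.ofHom (algebraMap R Ω) := by
      apply Spec.map_injective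
      rw [Spec.map_comp, Spec.map_preimage, reassoc_of% hψ, ha]
    have hχ : ∀ r ∈ IsLocalRing.maximalIdeal R, χ.hom r ∈ IsLocalRing.maximalIdeal (N.left.presheaf.stalk z) := by
      intro r hr
      have e : (Spec.map χ).base (IsLocalRing.closedPoint (N.left.presheaf.stalk z)) = IsLocalRing.closedPoint R := by
        rw [Spec.map_preimage, Scheme.Hom.comp_apply, Scheme.fromSpecStalk_closedPoint]
        exact hz
      exact (Ideal.ext_iff.1 (congrArg PrimeSpectrum.asIdeal e) r).2 hr
    obtain ⟨V, hV, hVloc⟩ := IsLocalRing.exists_factor_valuationRing ψ.hom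
    have hψr : ∀ r, ψ.hom (χ.hom r) = algebraMap R Ω r := fun r =>
      congrArg (fun q : CommRingCat.of R ⟶ CommRingCat.of Ω => q.hom r) hχψ
    have hVW : V = W := by
      have hlies : SGA7.LiesOver K R V := by
        refine ⟨fun r => ?_, fun r hr => ?_⟩
        · have h := hV (χ.hom r)
          rw [hψr] at h
          exact h
        · have h1 : (⟨ψ.hom (χ.hom r), hV _⟩ : V) ∈ IsLocalRing.maximalIdeal V := fun hu =>
            (IsLocalRing.mem_maximalIdeal _).1 (hχ r hr) (hVloc.map_nonunit _ hu)
          have h2 := (V.valuation_lt_one_iff _).1 h1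
          change V.valuation (ψ.hom (χ.hom r)) < 1 at h2
          rw [hψr] at h2
          exact h2
      exact SetLike.ext fun w =>
        (InertiaEt19.mem_iff_isIntegral (R := R) hlies w).trans (InertiaEt19.mem_iff_isIntegral (R := R) hW w).symm
    subst hVW
    let B := N
    letI : Algebra R V := ((algebraMap R Ω).codRestrict V.toSubring hR).toAlgebra
    let adj := Over.mapPullbackAdj g
    let P : Over (Spec (CommRingCat.of R)) := (Over.map g).obj (SGA7.pt (K := K) Ω)
    let e := adj.homEquiv (SGA7.pt (K := K) Ω) N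
    have he : ∀ p q : P ⟶ N, e (p * q) = e p * e q := fun p q => by
      simp only [e, Adjunction.homEquiv_unit]
      exact (congrArg _ (Functor.map_mul (Over.pullback g) p q)).trans (MonObj.comp_mul _ _ _)
    let eM : (P ⟶ N) →* SGA7.Pts Ω ((Over.pullback g).obj N) := MonoidHom.mk' e he
    have heM : Function.Injective eM := e.injective
    haveI := isCommMonObj_of_isProper_of_geometricallyIntegral ((SGA7.genFib R K).obj N)
    have hcommP : ∀ p q : P ⟶ N, Commute p q := fun p q =>
      heM (by rw [map_mul, map_mul]; exact mul_comm _ _)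
    let z₀ : P ⟶ N := Over.homMk a (by
      show a ≫ N.hom = Spec.map (CommRingCat.ofHom (algebraMap K Ω)) ≫ g
      rw [ha, ← Spec.map_comp]; rfl)
    have hz₀x : e z₀ = x := by
      apply e.symm.injective
      rw [Equiv.symm_apply_apply]
      ext1
      show a = _
      simp [e, adj, a, Adjunction.homEquiv_counit, g]
    have hz₀ : z₀ ^ m = 1 := heM (by rw [map_pow, map_one]; show e z₀ ^ m = 1; rw [hz₀x]; exact hx)
    show SGA7.specAut σ ≫ x = x
    rw [← hz₀x, ← adj.homEquiv_naturality_left]
    congr 1
    let Q : Over (Spec (CommRingCat.of R)) := SGA7Torsion.specOver R V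
    let incl : CommRingCat.of V ⟶ CommRingCat.of Ω := CommRingCat.ofHom (algebraMap V Ω)
    have hincl : Spec.map incl ≫ Q.hom = P.hom := by
      change Spec.map incl ≫ Spec.map _ = Spec.map _ ≫ Spec.map _
      rw [← Spec.map_comp, ← Spec.map_comp]
      rfl
    let j : P ⟶ Q := Over.homMk (Spec.map incl) hincl
    let ψV : N.left.presheaf.stalk z ⟶ CommRingCat.of V := CommRingCat.ofHom (ψ.hom.codRestrict V.toSubring hV)
    let lz : Q ⟶ N := Over.homMk (Spec.map ψV ≫ N.left.fromSpecStalk z) (by
      show (Spec.map ψV ≫ N.left.fromSpecStalk z) ≫ N.hom = Spec.map _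
      rw [Category.assoc, ← Spec.map_preimage (N.left.fromSpecStalk z ≫ N.hom), ← Spec.map_comp]
      exact congrArg Spec.map (CommRingCat.hom_ext (RingHom.ext fun r => Subtype.ext (hψr r))))
    have hj : j ≫ lz = z₀ := by
      ext1
      show Spec.map incl ≫ Spec.map ψV ≫ N.left.fromSpecStalk z = a
      rw [← Category.assoc, ← Spec.map_comp]
      exact hψ
    let σW : V →ₐ[R] V :=
      { toFun := fun w => ⟨σ w, (hσ w w.2).1⟩
        map_one' := Subtype.ext (map_one σ)
        map_mul' := fun p q => Subtype.ext (map_mul σ _ _)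
        map_zero' := Subtype.ext (map_zero σ)
        map_add' := fun p q => Subtype.ext (map_add σ _ _)
        commutes' := fun r => Subtype.ext (σ.commutes _) }
    have hjσ : (Over.map g).map (SGA7.specAut σ) ≫ j = j ≫ SGA7Torsion.specHom σW := by
      ext1
      change Spec.map _ ≫ Spec.map incl = Spec.map incl ≫ Spec.map _
      rw [← Spec.map_comp, ← Spec.map_comp]
      rfl
    have hinj : Function.Injective fun p : Q ⟶ N => j ≫ p := fun p q hpq => by
      have hpq' : (j ≫ p).left = Spec.map incl ≫ q.left := congrArg CommaMorphism.left hpq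
      let S : ValuativeCommSq N.hom :=
        { R := V, K := Ω, i₁ := (j ≫ p).left, i₂ := Q.hom, commSq := ⟨(Over.w (j ≫ p)).trans hincl.symm⟩ }
      have hu := IsSeparated.valuativeCriterion N.hom S
      let lp : S.commSq.LiftStruct := { l := p.left, fac_left := rfl, fac_right := Over.w p }
      let lq : S.commSq.LiftStruct := { l := q.left, fac_left := hpq'.symm, fac_right := Over.w q }
      exact Over.OverMorphism.ext (congrArg CommSq.LiftStruct.l (hu.elim lp lq))
    let res : (Q ⟶ N) →* (P ⟶ N) := MonoidHom.mk' (fun p => j ≫ p) (fun p q => MonObj.comp_mul _ _ _)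
    have hres : Function.Injective res := hinj
    have hzn : lz ^ m = 1 := hres (by rw [map_pow, map_one]; exact (congrArg (· ^ m) hj).trans hz₀)
    let z' : Q ⟶ N := SGA7Torsion.specHom σW ≫ lz
    have hz'n : z' ^ m = 1 := by rw [← MonObj.comp_pow, hzn, MonObj.comp_one]
    have hzc : Commute z' lz := hres (by rw [map_mul, map_mul]; exact hcommP _ _)
    have hd : (z' * lz⁻¹) ^ m = 1 := by
      rw [(hzc.inv_right).mul_pow, hz'n, inv_pow, hzn, inv_one, _root_.one_mul]
    have hσm : (Ideal.Quotient.mkₐ R (IsLocalRing.maximalIdeal V)).comp σW =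
        Ideal.Quotient.mkₐ R (IsLocalRing.maximalIdeal V) := by
      refine AlgHom.ext fun w => (Ideal.Quotient.mk_eq_mk_iff_sub_mem _ _).mpr ?_
      exact (V.valuation_lt_one_iff _).mpr (hσ w w.2).2
    have hc : SGA7Torsion.specHom (Ideal.Quotient.mkₐ R (IsLocalRing.maximalIdeal V)) ≫ (z' * lz⁻¹) = 1 := by
      rw [MonObj.comp_mul, GrpObj.comp_inv, ← Category.assoc, ← SGA7Torsion.specHom_comp, hσm, mul_inv_cancel]
    have hmR : IsUnit (m : R) := by
      rw [← IsLocalRing.residue_ne_zero_iff_isUnit, map_natCast]; exact hm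
    have hmV : IsUnit (m : V) := by simpa using hmR.map (algebraMap R V)
    have hz' : z' = lz := mul_inv_eq_one.mp (SGA7Torsion.eq_one_of_pow_eq_one N _ m hmV hd hc)
    rw [← hj, ← Category.assoc, hjσ, Category.assoc, show SGA7Torsion.specHom σW ≫ lz = lz from hz']

end Groth.Agent.S4075
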