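import Groth.Statements.S4078
import Groth.Agent.Lib.LMSimple8.SerreSetup

set_option autoImplicit false
universe u
open CategoryTheory CategoryTheory.Limits AlgebraicGeometry MonObj
open SGA7

namespace Groth.Agent.S4078

/-- Let k be a field, G a smooth connected commutative group scheme over k whose geometric fibre
contains no copy of the additive group (an extension of an abelian variety by a torus), n ≥ 2 an
integer and u an automorphism of the group scheme G of finite order (some positive power of u under
composition is the identity) which induces the identity on the n-torsion: for every k-scheme T and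
every T-point x of G with x^n = 1 one has u(x) = x. Then u is the identity if n ≥ 3, and u composed
with itself is the identity if n = 2. -/
theorem result (k : Type u) [Field k] (G : Over (Spec (CommRingCat.of k))) [GrpObj G]
    [IsCommMonObj G] [Smooth G.hom] [ConnectedSpace ↥G.left] (hG : SGA7.FibresUnipotentRankZero G)
    (n : ℕ) (hn : 2 ≤ n) (u : Aut G) [IsMonHom u.hom] (N : ℕ) (hN : 0 < N) (huN : u ^ N = 1)
    (hu : ∀ (T : Over (Spec (CommRingCat.of k))) (x : T ⟶ G), x ^ n = 1 → x ≫ u.hom = x) :
    (3 ≤ n → u = 1) ∧ (n = 2 → u * u = 1) := by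
  haveI := Groth.Agent.LMSimple8.SerreLemma.qc_hom (G := G)
  have hS := Groth.Agent.LMSimple8.SerreLemma.isSA_of_rankZero hG
  let U := Groth.Agent.LMSimple8.SerreLemma.toEnd u
  obtain ⟨v, hv⟩ := Groth.Agent.LMSimple8.SerreLemma.exists_div hS (show 0 < n by omega) (U - 1) fun T x hx => by
    rw [Groth.Agent.LMSimple8.SerreLemma.comp_und_toEnd_sub_one, hu T x hx, mul_inv_cancel]
  rw [sub_eq_iff_eq_add'] at hv
  have hUN := Groth.Agent.LMSimple8.SerreLemma.toEnd_pow_eq_one u huN
  constructor
  · intro h3
    have h1 : U = 1 := hv.trans (Groth.Agent.LMSimple8.SerreLemma.eq_one_of_congr hS h3 hN v (hv ▸ hUN))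
    simpa using Groth.Agent.LMSimple8.SerreLemma.eq_one_of_toEnd u (m := 1) (by rw [pow_one]; exact h1)
  · rintro rfl
    have h2 : U ^ 2 = 1 + ((4 : ℕ) : CategoryTheory.End (CategoryTheory.CommGrp.mk G)) * (v + v * v) := by
      rw [hv]
      push_cast
      rw [pow_two]
      noncomm_ring
    have h4 : (U ^ 2) ^ N = 1 := by rw [← pow_mul, mul_comm, pow_mul, hUN, one_pow]
    have h1 : U ^ 2 = 1 := h2.trans
      (Groth.Agent.LMSimple8.SerreLemma.eq_one_of_congr hS (by norm_num) hN _ (h2 ▸ h4))
    rw [← pow_two]
    exact Groth.Agent.LMSimple8.SerreLemma.eq_one_of_toEnd u h1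

end Groth.Agent.S4078
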