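import Groth.Statements.S4080
import Groth.Agent.Lib.SemiNhd19.Open
-- import your own Groth.Agent.* helpers here

set_option autoImplicit false
universe u
open CategoryTheory CategoryTheory.Limits AlgebraicGeometry MonObj
open SGA7

namespace Groth.Agent.S4080

set_option linter.style.haveILetI false
set_option backward.isDefEq.respectTransparency.types false


/-- Let S be a scheme, G a commutative group scheme over S which is flat, separated and of finite
presentation, H a smooth quasi-separated group scheme over S, u : G -> H a homomorphism, s a point
of S such that the geometric fibre of G at s contains no copy of the additive group, and t a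
generization of s such that u_t is an isogeny (surjective with finite kernel) and a monomorphism.
Then u_s is an isomorphism of G_s onto an open subgroup of H_s: the morphism induced on the fibres
at s is an open immersion. -/
theorem result {S : Scheme.{u}} (G H : Over S) [GrpObj G] [IsCommMonObj G]
    [Flat G.hom] [IsSeparated G.hom] [LocallyOfFinitePresentation G.hom] [QuasiCompact G.hom]
    [GrpObj H] [Smooth H.hom] [QuasiSeparated H.hom]
    (u : G ⟶ H) [IsMonHom u] (s t : ↥S) (hts : t ⤳ s) (hs : SGA7.FibreUnipotentRankZero s G)
    (hiso : SGA7.IsIsogenyOver (SGA7.fibreHom t u)) [Mono (SGA7.fibreHom t u)] :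
    IsOpenImmersion (SGA7.fibreHom s u).left := by
  exact Groth.Agent.SemiNhd19.fibre_isOpenImmersion u hts hs hiso

end Groth.Agent.S4080
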