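import Groth.Statements.S4085
import Groth.Agent.Lib.GrpQuot.Glue

set_option autoImplicit false
universe u
open CategoryTheory MonoidalCategory CartesianMonoidalCategory MonObj GrpObj AlgebraicGeometry CategoryTheory.Limits
open GrpQ

namespace Groth.Agent.S4085

/-- Let (U, R, s, t, c) be a groupoid scheme over S such that the source map s is finite locally free
and, for every point x of U, the set t(s⁻¹(x)) is contained in an affine open of U. Then there are a
scheme Y and a morphism p : U → Y with t ≫ p = s ≫ p which is a coequalizer of (t, s) in the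
category of schemes; p is integral, surjective and open, two points of U have the same image exactly
when they are the target and source of a point of R, the morphism R → U ×_Y U with components (t, s)
is surjective, and Y is affine when U is. (The source also shows that (Y, p) is a cokernel in all
ringed spaces.) -/
theorem result (S : Scheme.{u}) (G : Grpd.GroupoidScheme S)
    (ha : Mor2.IsFinLocFree G.s)
    (hb : ∀ x : G.U, ∃ V : G.U.Opens, IsAffineOpen V ∧ G.t.base '' (G.s.base ⁻¹' {x}) ⊆ (V : Set G.U)) :
    ∃ (Y : Scheme.{u}) (p : G.U ⟶ Y) (w : G.t ≫ p = G.s ≫ p),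
      Nonempty (IsColimit (Cofork.ofπ p w)) ∧ IsIntegralHom p ∧ Surjective p ∧ IsOpenMap p.base ∧
      (∀ x y : G.U, p.base x = p.base y ↔ ∃ r : G.R, G.t.base r = x ∧ G.s.base r = y) ∧
      Function.Surjective (pullback.lift G.t G.s w).base ∧ (IsAffine G.U → IsAffine Y) := by
  obtain ⟨h1, h2, h3⟩ := ha
  by_cases hU : IsAffine G.U
  · refine ⟨_, G.toQuot, GrpQuot.t_toQuot G, ?_, GrpQuot.isIntegralHom_toQuot G, GrpQuot.surjective_toQuot G,
      GrpQuot.isOpenMap_toQuot G, GrpQuot.toQuot_eq_iff G, GrpQuot.surjective_lift G, fun _ => inferInstance⟩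
    refine ⟨Cofork.IsColimit.ofExistsUnique fun s => GrpQuot.isQuot_toQuot.descTop s.π ?_⟩
    intro T r x y hx hy
    rw [Category.comp_id] at hx hy
    rw [hx, hy, Category.assoc, Category.assoc, s.condition]
  · have hcov : ∀ x : G.U, ∃ c : GrpQuot.Chart G, x ∈ c.W := fun x =>
      let ⟨c, hc, _⟩ := GrpQuot.exists_affine_chart hb x
      ⟨c, hc⟩
    refine ⟨_, GrpQuot.toGlued hcov, GrpQuot.t_toGlued hcov, ?_, GrpQuot.isIntegralHom_toGlued hcov hb,
      GrpQuot.surjective_toGlued hcov, GrpQuot.isOpenMap_toGlued hcov, GrpQuot.toGlued_eq_iff hcov,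
      GrpQuot.surjective_lift_glued hcov, fun h => absurd h hU⟩
    exact ⟨Cofork.IsColimit.ofExistsUnique fun s => GrpQuot.exists_desc_glued hcov s.π s.condition⟩

end Groth.Agent.S4085
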