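import Groth.Statements.S4086
import Groth.Agent.Lib.GrpQuot.EquivRel

set_option autoImplicit false
universe u
open CategoryTheory MonoidalCategory CartesianMonoidalCategory MonObj GrpObj AlgebraicGeometry CategoryTheory.Limits
open GrpQ

namespace Groth.Agent.S4086

/-- Let (U, R, s, t, c) be a groupoid scheme over S with s finite locally free and every set t(s⁻¹(x))
contained in an affine open of U, and assume that j = (t, s) : R → U ×_S U is a monomorphism. Then
for every coequalizer p : U → Y of (t, s) in schemes, the square formed by t, s, p, p is cartesian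
(R ≅ U ×_Y U) and p is finite locally free. (The source adds that Y is then the quotient sheaf for
the fppf topology and that its formation commutes with base change on Y.) -/
theorem result (S : Scheme.{u}) (G : Grpd.GroupoidScheme S)
    (ha : Mor2.IsFinLocFree G.s)
    (hb : ∀ x : G.U, ∃ V : G.U.Opens, IsAffineOpen V ∧ G.t.base '' (G.s.base ⁻¹' {x}) ⊆ (V : Set G.U))
    [Mono G.j] (Y : Scheme.{u}) (p : G.U ⟶ Y) (w : G.t ≫ p = G.s ≫ p) (hc : IsColimit (Cofork.ofπ p w)) :
    IsPullback G.t G.s p p ∧ Mor2.IsFinLocFree p := by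
  obtain ⟨h1, h2, h3⟩ := ha
  have hcov : ∀ x : G.U, ∃ c : GrpQuot.Chart G, x ∈ c.W := fun x =>
    let ⟨c, hc, _⟩ := GrpQuot.exists_affine_chart hb x
    ⟨c, hc⟩
  obtain ⟨φ, hφ, -⟩ := GrpQuot.exists_desc_glued hcov p w
  have hwg := GrpQuot.t_toGlued hcov
  let ψ : Y ⟶ GrpQuot.Quot G := hc.desc (Cofork.ofπ (GrpQuot.toGlued hcov) hwg)
  have hψ : p ≫ ψ = GrpQuot.toGlued hcov := hc.fac (Cofork.ofπ (GrpQuot.toGlued hcov) hwg) WalkingParallelPair.one
  have : IsIso φ := ⟨ψ, (GrpQuot.exists_desc_glued hcov (GrpQuot.toGlued hcov) hwg).unique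
      (by rw [reassoc_of% hφ, hψ]) (Category.comp_id _),
    Cofork.IsColimit.hom_ext hc (by show p ≫ ψ ≫ φ = p ≫ 𝟙 Y; rw [reassoc_of% hψ, hφ, Category.comp_id])⟩
  obtain ⟨g1, g2, g3⟩ := GrpQuot.isFinLocFree_glued (G := G) hb hcov
  subst hφ
  exact ⟨(GrpQuot.isPullback_glued hb hcov).of_iso (Iso.refl _) (Iso.refl _) (Iso.refl _) (asIso φ)
    (by simp) (by simp) (by simp) (by simp), inferInstance, inferInstance, inferInstance⟩

end Groth.Agent.S4086
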