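import Groth.Statements.S4088
import Groth.Agent.Lib.GrpdProper19.Main
import Groth.Agent.Lib.StAlg16.ImmNoeth

set_option autoImplicit false
universe u
open CategoryTheory MonoidalCategory CartesianMonoidalCategory MonObj GrpObj AlgebraicGeometry CategoryTheory.Limits
open GrpQ

namespace Groth.Agent.S4088

/-- With the object scheme assumed to admit an S-immersion into some P^n_S (a special case of
quasi-projective): let S be locally noetherian and (U, R, s, t, c) a groupoid scheme over S such
that s is proper and flat, U admits an immersion e into P^n_S over S, and j = (t, s) : R → U ×_S U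
is quasi-finite (locally quasi-finite and locally of finite type). Then (t, s) has a coequalizer p :
U → Y in schemes together with q : Y → S through which U → S factors; p is surjective, open, proper
and of finite presentation, q is separated and of finite presentation; R → U ×_Y U is surjective;
and if j is a monomorphism then R ≅ U ×_Y U and p is flat. -/
theorem result (S : Scheme.{u}) [IsLocallyNoetherian S] (G : Grpd.GroupoidScheme S)
    [IsProper G.s] [Flat G.s] (n : ℕ) (e : G.U ⟶ CohB1.ProjSpaceOver n S) [IsImmersion e]
    (he : e ≫ CohB1.ProjSpaceOver.toBase n S = G.pU) [LocallyQuasiFinite G.j] [LocallyOfFiniteType G.j] :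
    ∃ (Y : Scheme.{u}) (p : G.U ⟶ Y) (w : G.t ≫ p = G.s ≫ p) (q : Y ⟶ S),
      Nonempty (IsColimit (Cofork.ofπ p w)) ∧ p ≫ q = G.pU ∧ Surjective p ∧ IsOpenMap p.base ∧ IsProper p ∧
      LocallyOfFinitePresentation p ∧ IsSeparated q ∧ LocallyOfFinitePresentation q ∧ QuasiCompact q ∧
      Function.Surjective (pullback.lift G.t G.s w).base ∧
      (Mono G.j → IsPullback G.t G.s p p ∧ Flat p) := by
  haveI : IsLocallyNoetherian S := inferInstance
  haveI : IsProper (CohB1.ProjSpaceOver.toBase n S) := ProjSpace.isProper_toBase n S
  haveI : LocallyOfFiniteType G.pU := by rw [← he]; infer_instance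
  haveI : IsSeparated G.pU := by rw [← he]; infer_instance
  haveI : QuasiCompact G.pU := by
    haveI : IsLocallyNoetherian (CohB1.ProjSpaceOver n S) :=
      LocallyOfFiniteType.isLocallyNoetherian (CohB1.ProjSpaceOver.toBase n S)
    haveI : QuasiCompact e := StAlg16.quasiCompact_of_isImmersion e
    haveI : QuasiCompact (CohB1.ProjSpaceOver.toBase n S) := inferInstance
    rw [← he]
    exact MorphismProperty.comp_mem @QuasiCompact _ _ inferInstance inferInstance
  exact GrpdProper19.exists_quotient G (QuotProj11.isQuasiProjective_of_isImmersion G.pU e inferInstance he)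

end Groth.Agent.S4088
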