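import Groth.Statements.S4095
import Groth.Agent.Lib.GrpdDense19.Main
import Groth.Agent.Lib.ActGrpd19.Basic

set_option autoImplicit false
universe u
open CategoryTheory MonoidalCategory CartesianMonoidalCategory MonObj GrpObj AlgebraicGeometry CategoryTheory.Limits
open GrpQ

namespace Groth.Agent.S4095

/-- Let S be noetherian, G an S-group scheme flat and of finite type over S acting on an S-scheme X of
finite type, with action d₀ : G ×_S X → X and projection d₁, and suppose the stabilizer F of the
diagonal (the pullback of (d₀, d₁) : G ×_S X → X ×_S X along the diagonal) is quasi-finite over X.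
Then there is a dense open U of X, saturated (d₀⁻¹(U) = d₁⁻¹(U)), such that the pair d₀|, d₁| :
d₁⁻¹(U) ⇉ U has a coequalizer p : U → V in schemes, with V of finite presentation over S and p
surjective, open and of finite presentation, and d₁⁻¹(U) → U ×_V U surjective; if moreover G acts
freely ((d₀, d₁) a monomorphism) then d₁⁻¹(U) ≅ U ×_V U via (d₀, d₁) and p is faithfully flat (U is
a G-torsor over V for the fppf topology). -/
theorem result (S : Scheme.{u}) [IsNoetherian S] (G X : Over S) [GrpObj G]
    [Flat G.hom] [LocallyOfFiniteType G.hom] [QuasiCompact G.hom] [LocallyOfFiniteType X.hom] [QuasiCompact X.hom]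
    (a : AlgGrp.Action G X)
    (hF : LocallyQuasiFinite (pullback.snd (lift a.act (snd G X)) (lift (𝟙 X) (𝟙 X))).left) :
    ∃ (U : X.left.Opens) (hU : a.act.left ⁻¹ᵁ U = (snd G X).left ⁻¹ᵁ U), Dense (U : Set X.left) ∧
      ∃ (V : Scheme.{u}) (p : (U : Scheme.{u}) ⟶ V)
        (w : a.act.left.resLE U ((snd G X).left ⁻¹ᵁ U) hU.ge ≫ p = ((snd G X).left ∣_ U) ≫ p) (q : V ⟶ S),
        Nonempty (IsColimit (Cofork.ofπ p w)) ∧ p ≫ q = U.ι ≫ X.hom ∧
        Surjective p ∧ IsOpenMap p.base ∧ LocallyOfFinitePresentation p ∧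
        LocallyOfFinitePresentation q ∧ QuasiCompact q ∧ QuasiSeparated q ∧
        Function.Surjective (pullback.lift (a.act.left.resLE U ((snd G X).left ⁻¹ᵁ U) hU.ge) ((snd G X).left ∣_ U) w).base ∧
        (Mono (lift a.act (snd G X)) →
          IsPullback (a.act.left.resLE U ((snd G X).left ⁻¹ᵁ U) hU.ge) ((snd G X).left ∣_ U) p p ∧ Flat p) := by
  let A := ActGrpd19.actGrpd a
  haveI : Flat A.s := MorphismProperty.of_isPullback (P := @Flat) (AlgGrpBasic19.isPullback_snd (G := G) (X := X)).flip ‹Flat G.hom›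
  haveI : LocallyOfFiniteType A.s :=
    MorphismProperty.of_isPullback (P := @LocallyOfFiniteType) (AlgGrpBasic19.isPullback_snd (G := G) (X := X)).flip ‹LocallyOfFiniteType G.hom›
  haveI : QuasiCompact A.s := MorphismProperty.of_isPullback (P := @QuasiCompact) (AlgGrpBasic19.isPullback_snd (G := G) (X := X)).flip ‹QuasiCompact G.hom›
  haveI : LocallyOfFiniteType A.pU := ‹LocallyOfFiniteType X.hom›
  haveI : QuasiCompact A.pU := ‹QuasiCompact X.hom›
  haveI := GrpdDense19.isNoetherian_U A
  haveI := GrpdDense19.isNoetherian_R A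
  haveI : LocallyOfFiniteType A.j := by
    haveI : LocallyOfFiniteType (A.j ≫ pullback.snd A.pU A.pU) := by rw [GrpdB.j_snd]; infer_instance
    exact locallyOfFiniteType_of_comp A.j (pullback.snd A.pU A.pU)
  haveI : QuasiCompact A.j := GrpdDense19.quasiCompact_of_noetherian _
  haveI : QuasiCompact A.stabilizerToU := MorphismProperty.pullback_snd _ _ ‹_›
  haveI : LocallyQuasiFinite A.stabilizerToU := (ActGrpd19.stabilizer_iff a @LocallyQuasiFinite).2 hF
  haveI : LocallyQuasiFinite A.j := GrpQuot.lqf_j_of_stabilizer A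
  obtain ⟨W, hW, hd, V, p, w, q, h1, h2, h3, h4, h5, h6, h7, h8, h9, h10⟩ := GrpdDense19.exists_quotient A
  refine ⟨W, hW, hd, V, p, w, q, h1, h2, h3, h4, h5, h6, h7, h8, h9, fun hm => h10 ?_⟩
  rw [ActGrpd19.j_eq]
  exact inferInstanceAs (Mono ((Over.forget S).map (CartesianMonoidalCategory.lift a.act (CartesianMonoidalCategory.snd G X))))

end Groth.Agent.S4095
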