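import Groth.Statements.S4096
import Groth.Agent.Lib.FlatStab19.Reduced
import Groth.Agent.Lib.ActGrpd19.Basic

set_option autoImplicit false
universe u
open CategoryTheory MonoidalCategory CartesianMonoidalCategory MonObj GrpObj AlgebraicGeometry CategoryTheory.Limits
open GrpQ

namespace Groth.Agent.S4096

/-- Let S be noetherian, G an S-group scheme flat and of finite type acting on an S-scheme X of finite
type, d = (d₀, d₁) : G ×_S X → X ×_S X, and F the stabilizer of the diagonal. Then a) d factors as ψ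
: G ×_S X → Y surjective, flat and locally of finite presentation followed by a monomorphism τ : Y →
X ×_S X (Y represents the sheaf image of d) if and only if F is flat over X; b) in that case the two
morphisms Y → X induced by the projections are surjective, flat and of finite presentation. -/
theorem result (S : Scheme.{u}) [IsNoetherian S] (G X : Over S) [GrpObj G]
    [Flat G.hom] [LocallyOfFiniteType G.hom] [QuasiCompact G.hom] [LocallyOfFiniteType X.hom] [QuasiCompact X.hom]
    (a : AlgGrp.Action G X) :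
    ((∃ (Y : Over S) (ψ : G ⊗ X ⟶ Y) (τ : Y ⟶ X ⊗ X), ψ ≫ τ = lift a.act (snd G X) ∧
        Surjective ψ.left ∧ Flat ψ.left ∧ LocallyOfFinitePresentation ψ.left ∧ Mono τ) ↔
      Flat (pullback.snd (lift a.act (snd G X)) (lift (𝟙 X) (𝟙 X))).left) ∧
    (∀ (Y : Over S) (ψ : G ⊗ X ⟶ Y) (τ : Y ⟶ X ⊗ X), ψ ≫ τ = lift a.act (snd G X) →
      Surjective ψ.left → Flat ψ.left → LocallyOfFinitePresentation ψ.left → Mono τ →
      (Surjective (τ ≫ fst X X).left ∧ Flat (τ ≫ fst X X).left ∧ LocallyOfFinitePresentation (τ ≫ fst X X).left ∧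
        QuasiCompact (τ ≫ fst X X).left ∧ QuasiSeparated (τ ≫ fst X X).left ∧
       Surjective (τ ≫ snd X X).left ∧ Flat (τ ≫ snd X X).left ∧ LocallyOfFinitePresentation (τ ≫ snd X X).left ∧
        QuasiCompact (τ ≫ snd X X).left ∧ QuasiSeparated (τ ≫ snd X X).left)) := by
  let A := ActGrpd19.actGrpd a
  haveI : Flat A.s := MorphismProperty.of_isPullback (P := @Flat) (AlgGrpBasic19.isPullback_snd (G := G) (X := X)).flip ‹Flat G.hom›
  haveI : LocallyOfFiniteType A.s :=
    MorphismProperty.of_isPullback (P := @LocallyOfFiniteType) (AlgGrpBasic19.isPullback_snd (G := G) (X := X)).flip ‹LocallyOfFiniteType G.hom›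
  haveI : QuasiCompact A.s := MorphismProperty.of_isPullback (P := @QuasiCompact) (AlgGrpBasic19.isPullback_snd (G := G) (X := X)).flip ‹QuasiCompact G.hom›
  haveI : LocallyOfFiniteType A.pU := ‹LocallyOfFiniteType X.hom›
  haveI : QuasiCompact A.pU := ‹QuasiCompact X.hom›
  haveI := GrpdDense19.isNoetherian_U A
  haveI := GrpdDense19.isNoetherian_R A
  haveI := FlatStab19.lfp_j A
  haveI : Flat A.t := GrpQuot.flat_t A
  haveI : LocallyOfFiniteType A.t := by
    rw [← A.i_s]
    haveI : IsIso A.i := GrpQuot.isIso_i A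
    infer_instance
  haveI : QuasiCompact A.t := GrpdDense19.quasiCompact_of_noetherian _
  haveI : IsLocallyNoetherian X.left := inferInstanceAs (IsLocallyNoetherian A.U)
  have hA : A.j = (CartesianMonoidalCategory.lift a.act (CartesianMonoidalCategory.snd G X)).left := ActGrpd19.j_eq a
  refine ⟨⟨fun ⟨Y, ψ, τ, e, hs, hf, hl, hm⟩ => ?_, fun hF => ?_⟩, fun Y ψ τ e hs hf hl hm => ?_⟩
  · haveI := hm
    have hmτ : Mono τ.left := Over.mono_left_of_mono τ
    haveI : Flat (pullback.fst A.j A.j) :=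
      @MonoFact19.flat_fst_of_factor _ _ _ A.j ψ.left τ.left hf hmτ
        ((congrArg CommaMorphism.left e).trans hA.symm)
    exact (ActGrpd19.stabilizer_iff a @Flat).1 (FlatStab19.flat_stabilizer_of_kernelPair A)
  · haveI : Flat A.stabilizerToU := (ActGrpd19.stabilizer_iff a @Flat).2 hF
    haveI := FlatStab19.flat_fst_of_stabilizer A
    obtain ⟨Y, ψ, τ, h1, h2, h3, h4, hψ⟩ := MonoFact19.exists_factor A.j
    haveI := h4
    let τ₁ : Y ⟶ (X ⊗ X).left := τ
    let ψ₁ : (G ⊗ X).left ⟶ Y := ψ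
    have hψ₁ : ψ₁ ≫ τ₁ = (CartesianMonoidalCategory.lift a.act (CartesianMonoidalCategory.snd G X)).left := hψ.trans hA
    let τ' : Over.mk (τ₁ ≫ (X ⊗ X).hom) ⟶ X ⊗ X := Over.homMk τ₁
    let ψ' : G ⊗ X ⟶ Over.mk (τ₁ ≫ (X ⊗ X).hom) := Over.homMk ψ₁ (by
      show ψ₁ ≫ τ₁ ≫ (X ⊗ X).hom = _
      rw [reassoc_of% hψ₁, Over.w])
    exact ⟨_, ψ', τ', Over.OverMorphism.ext hψ₁, h1, h2, h3,
      ⟨fun x y h => Over.OverMorphism.ext ((cancel_mono τ).1 (congrArg CommaMorphism.left h))⟩⟩
  · haveI := hm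
    haveI : Mono τ.left := Over.mono_left_of_mono τ
    have e₁ : ψ.left ≫ (τ ≫ CartesianMonoidalCategory.fst X X).left = a.act.left := by
      rw [← Over.comp_left, ← Category.assoc, e, CartesianMonoidalCategory.lift_fst]
    have e₂ : ψ.left ≫ (τ ≫ CartesianMonoidalCategory.snd X X).left = (CartesianMonoidalCategory.snd G X).left := by
      rw [← Over.comp_left, ← Category.assoc, e, CartesianMonoidalCategory.lift_snd]
    haveI : Flat a.act.left := ‹Flat A.t›
    haveI : LocallyOfFiniteType a.act.left := ‹LocallyOfFiniteType A.t›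
    haveI : QuasiCompact a.act.left := ‹QuasiCompact A.t›
    haveI : Flat (CartesianMonoidalCategory.snd G X).left := ‹Flat A.s›
    haveI : LocallyOfFiniteType (CartesianMonoidalCategory.snd G X).left := ‹LocallyOfFiniteType A.s›
    haveI : QuasiCompact (CartesianMonoidalCategory.snd G X).left := ‹QuasiCompact A.s›
    obtain ⟨p1, p2, p3, p4⟩ := @FlatStab19.leg_props _ _ _ _ ψ.left hs hf hl _ _ e₁ _ _ _
    obtain ⟨q1, q2, q3, q4⟩ := @FlatStab19.leg_props _ _ _ _ ψ.left hs hf hl _ _ e₂ _ _ _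
    have hsurj : ∀ (m : Y.left ⟶ X.left) (f : (G ⊗ X).left ⟶ X.left), ψ.left ≫ m = f →
        Function.Surjective f → Surjective m := fun m f h hf => ⟨fun x => by
      obtain ⟨r, rfl⟩ := hf x
      exact ⟨ψ.left r, by rw [← Scheme.Hom.comp_apply, h]⟩⟩
    exact ⟨hsurj _ _ e₁ (fun x => ⟨A.e x, GrpdB.t_e (G := A) x⟩), p1, p2, p3, p4,
      hsurj _ _ e₂ (fun x => ⟨A.e x, GrpdB.s_e (G := A) x⟩), q1, q2, q3, q4⟩

end Groth.Agent.S4096
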