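import Groth.Statements.S4099
import Groth.Agent.Lib.GrpNeutral20.Chart
import Groth.Agent.Lib.GrpNeutral20.Smooth
import Groth.Agent.Lib.GrpLocus20.Basic
import Groth.Agent.Lib.SectionCompFlat4
import Groth.Agent.S4955

set_option autoImplicit false
universe u
open CategoryTheory MonoidalCategory CartesianMonoidalCategory MonObj GrpObj AlgebraicGeometry CategoryTheory.Limits
open SGA3

namespace Groth.Agent.S4099

/-- (ii) ⟹ (iv): let S be a reduced scheme and G an S-group scheme locally of finite presentation over S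
such that every fibre G_s is smooth over κ(s) and s ↦ dim G_s is locally constant on S. Then G⁰ (the
union of the neutral components of the fibres) is open, underlies an open subgroup scheme smooth
over S, and G is smooth over S at every point of the unit section. (Without 'S reduced' the last two
conclusions fail.) -/
theorem result (S : Scheme.{u}) [IsReduced S] (G : Over S) [GrpObj G]
    [LocallyOfFinitePresentation G.hom]
    (hfib : ∀ s : S, Smooth (pullback.snd G.hom (S.fromSpecResidueField s)))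
    (hdim : IsLocallyConstant (fun s : S => topologicalKrullDim ↥(G.hom.base ⁻¹' {s}))) :
    IsOpen (SGA3x.neutralSet G) ∧
    (∃ (G0 : Over S) (_ : GrpObj G0) (i : G0 ⟶ G), IsMonHom i ∧ IsOpenImmersion i.left ∧
      Set.range i.left.base = SGA3x.neutralSet G ∧ Smooth G0.hom) ∧
    ∃ U : G.left.Opens, Smooth (U.ι ≫ G.hom) ∧ ∀ p : ↥(𝟙_ (Over S)).left, η[G].left.base p ∈ U := by
  have hG : ∀ s : S, LocallyOfFiniteType (G.hom.fiberToSpecResidueField s) := Groth.Agent.GrpNeutral20.lft_fibres G
  let U₁ : G.left.Opens := ⟨{x | ∃ W : G.left.Opens, x ∈ W ∧ Smooth (W.ι ≫ G.hom)},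
    Groth.Agent.GrpLocus20.isOpen_setOf_nhd G.hom @Smooth⟩
  haveI hU₁s : Smooth (U₁.ι ≫ G.hom) := by
    refine Groth.Agent.GrpAtPt20.of_forall_nhd @Smooth _ fun x => ?_
    obtain ⟨W, hxW, hW⟩ := x.2
    refine ⟨U₁.ι ⁻¹ᵁ W, hxW, ?_⟩
    rw [← morphismRestrict_ι_assoc]
    exact MorphismProperty.comp_mem @Smooth _ _ inferInstance hW
  have hU₁ : ∀ s : S, η[G].left s ∈ U₁ := by
    intro s
    obtain ⟨c, -⟩ := Groth.Agent.GrpNeutral20.exists_chart_le G ⊤ s trivial
    haveI : IsAffine c.U.toScheme := c.hU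
    haveI : IsAffine c.V.toScheme := c.hV
    let v : c.V.toScheme := ⟨s, c.hsV⟩
    have hfv : c.f (c.σ v) = v := by rw [← Scheme.Hom.comp_apply, c.σ_f]; rfl
    have hfib' : Smooth (c.f.fiberToSpecResidueField v) := by
      let b := c.V.toScheme.fromSpecResidueField v
      let j : pullback c.f b ⟶ pullback G.hom (b ≫ c.V.ι) :=
        Limits.pullback.map c.f b G.hom (b ≫ c.V.ι) c.U.ι (𝟙 _) c.V.ι c.f_ι (Category.id_comp _).symm
      haveI : IsOpenImmersion j := inferInstance
      haveI : Smooth (Limits.pullback.snd G.hom (b ≫ c.V.ι)) := by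
        rw [show b ≫ c.V.ι = _ from (Scheme.Hom.SpecMap_residueFieldMap_fromSpecResidueField c.V.ι v).symm]
        have big := IsPullback.of_hasPullback G.hom (Spec.map (c.V.ι.residueFieldMap v) ≫ S.fromSpecResidueField (c.V.ι v))
        exact MorphismProperty.of_isPullback (P := @Smooth)
          (IsPullback.of_right (h₁₁ := Limits.pullback.lift _ _ (big.w.trans (Category.assoc _ _ _).symm))
            (h₁₂ := Limits.pullback.fst G.hom (S.fromSpecResidueField (c.V.ι v)))
            (by rw [Limits.pullback.lift_fst]; exact big) (Limits.pullback.lift_snd _ _ _)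
            (IsPullback.of_hasPullback G.hom _)) (hfib (c.V.ι v))
      have e : c.f.fiberToSpecResidueField v = j ≫ Limits.pullback.snd G.hom (b ≫ c.V.ι) :=
        ((Limits.pullback.lift_snd _ _ _).trans (Category.comp_id _)).symm
      rw [e]
      have hj : Smooth j := SmoothOfRelativeDimension.smooth 0 j
      exact MorphismProperty.comp_mem @Smooth _ _ hj ‹_›
    have hgi := fun y => Groth.Agent.GrpNeutral20.Chart.gi c hG y
    have h4955 := Groth.Agent.S4955.result c.f c.σ c.σ_f hgi (c.σ v)
      (show c.σ v ∈ connectedComponentIn (c.f ⁻¹' {c.f (c.σ v)}) (c.σ (c.f (c.σ v))) by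
        rw [hfv]; exact mem_connectedComponentIn hfv)
      ⟨{z | topologicalKrullDim ↥(G.hom.base ⁻¹' {c.V.ι z}) = topologicalKrullDim ↥(G.hom.base ⁻¹' {c.V.ι v})},
        ((hdim.isOpen_fiber (topologicalKrullDim ↥(G.hom.base ⁻¹' {c.V.ι v}))).preimage c.V.ι.continuous).mem_nhds
          (by rw [hfv]; rfl),
        fun z hz => by
          rw [hfv, c.dim_component hG, c.dim_component hG]
          exact hz⟩
    haveI : IsReduced c.V.toScheme := isReduced_of_isOpenImmersion c.V.ι
    haveI := hfib'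
    haveI : GeometricallyReduced (c.f.fiberToSpecResidueField v) :=
      Groth.Agent.AbRigid.geometricallyReduced_of_smooth _
    have hred : FBase.IsGeomReducedAt (c.f.fiberToSpecResidueField (c.f.base (c.σ v))) (c.f.asFiber (c.σ v)) := by
      exact (fun y (h : y = v) (z : ↥(c.f.fiber y)) => by
        subst h
        exact @Groth.Agent.SectionCompFlat4.isGeomReducedAt_of_geometricallyReduced _ _ _ (c.f.fiberToSpecResidueField v) (@Groth.Agent.AbRigid.geometricallyReduced_of_smooth _ _ _ hfib') z :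
          ∀ y, y = v → ∀ z : ↥(c.f.fiber y), FBase.IsGeomReducedAt (c.f.fiberToSpecResidueField y) z) _ hfv _
    obtain ⟨W, hW0, hW⟩ := Groth.Agent.FibreLocus.smoothPt_of_flatPt_of_mem_fibSet c.f (𝟙 _) (c.σ v)
      (h4955.2 inferInstance hred)
      ((Groth.Agent.FibreLocus.forall_fibSet_id_iff Groth.Agent.FibreLocus.isPtLocal_smoothPt c.f v).1
        ((Groth.Agent.FibreLocus.forall_smoothPt_iff _).2 hfib') _ hfv)
    refine ⟨c.U.ι ''ᵁ W, ⟨c.σ v, hW0, c.σ_apply v⟩, ?_⟩
    haveI := hW
    have e : c.U.ι ''ᵁ W = (W.ι ≫ c.U.ι).opensRange := TopologicalSpace.Opens.ext (by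
      simp only [Scheme.Hom.coe_opensRange, Scheme.Hom.comp_base, TopCat.hom_comp, ContinuousMap.coe_comp,
        Set.range_comp, Scheme.Opens.range_ι]; rfl)
    rw [e, ← Scheme.Hom.isoOpensRange_inv_comp (W.ι ≫ c.U.ι), Category.assoc, Category.assoc]
    refine (MorphismProperty.cancel_left_of_respectsIso @Smooth _ _).2 ?_
    rw [← c.f_ι, ← Category.assoc]
    infer_instance
  obtain ⟨hopen, G0, i0, i, h1, h2, h3, h4, -⟩ := Groth.Agent.GrpNeutral20.exists_openSubgroup G U₁ hU₁
  exact ⟨hopen, ⟨G0, i0, i, h1, h2, h3, h4⟩, U₁, hU₁s, fun p => hU₁ p⟩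


end Groth.Agent.S4099
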