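import Groth.Statements.S4104
import Groth.Agent.Lib.HopfFlat20.Main

set_option autoImplicit false
universe u
open CategoryTheory MonoidalCategory CartesianMonoidalCategory MonObj GrpObj AlgebraicGeometry CategoryTheory.Limits
open SGA3 TensorProduct

namespace Groth.Agent.S4104

/-- Let φ : A' → A be a bialgebra map between commutative Hopf algebras over a field k (a homomorphism
of affine k-groups Spec A → Spec A', not necessarily of finite type). If the corresponding morphism
of schemes is a monomorphism, i.e. φ is an epimorphism in the category of commutative rings, then φ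
is surjective (the homomorphism is a closed immersion). -/
theorem result (k : Type u) [Field k] (A' A : Type u) [CommRing A'] [HopfAlgebra k A']
    [CommRing A] [HopfAlgebra k A] (φ : A' →ₐc[k] A)
    (hepi : ∀ (R : Type u) [CommRing R] (f g : A →+* R), f.comp (φ : A' →+* A) = g.comp (φ : A' →+* A) → f = g) :
    Function.Surjective φ := by
  classical
  let B := (φ : A' →ₐ[k] A).range
  haveI := (Groth.Agent.HopfFlat.isSub_range φ).faithfullyFlat
  have h1 : ∀ a : A, a ⊗ₜ[B] (1 : A) = (1 : A) ⊗ₜ[B] a := by
    intro a
    have := hepi (A ⊗[B] A) (Algebra.TensorProduct.includeLeftRingHom)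
      (Algebra.TensorProduct.includeRight : A →ₐ[B] A ⊗[B] A).toRingHom (RingHom.ext fun x => by
        exact Algebra.TensorProduct.tmul_one_eq_one_tmul (A := A) (B := A) (⟨φ x, x, rfl⟩ : B))
    exact RingHom.congr_fun this a
  let M : Submodule B A := Submodule.span B {1}
  intro a
  have h2 : Submodule.Quotient.mk (p := M) a = 0 := by
    refine Module.FaithfullyFlat.tensorProduct_mk_injective (A := B) (B := A) (A ⧸ M) ?_
    have := congrArg (LinearMap.lTensor A M.mkQ) (h1 a)
    simp only [LinearMap.lTensor_tmul, Submodule.mkQ_apply] at this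
    rw [TensorProduct.mk_apply, TensorProduct.mk_apply, ← this, TensorProduct.tmul_zero,
      (Submodule.Quotient.mk_eq_zero M).2 (Submodule.subset_span rfl), TensorProduct.tmul_zero]
  rw [Submodule.Quotient.mk_eq_zero, Submodule.mem_span_singleton] at h2
  obtain ⟨⟨_, x, rfl⟩, hb⟩ := h2
  refine ⟨x, ?_⟩
  rw [← hb, Subalgebra.smul_def, smul_eq_mul, _root_.mul_one]
  rfl


end Groth.Agent.S4104
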