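import Groth.Statements.S4106
import Groth.Agent.Lib.AntiAff20.Hull

set_option autoImplicit false
universe u
open CategoryTheory MonoidalCategory CartesianMonoidalCategory MonObj GrpObj AlgebraicGeometry CategoryTheory.Limits
open SGA3

namespace Groth.Agent.S4106

/-- Let G be an algebraic group over a field k (a k-group scheme of finite type) and ρ : G → G_af = Spec
O(G) the canonical morphism to its affine hull. Then ρ is surjective and flat, and G_af is of finite
type over k: the morphism G_af → Spec k through which the structure morphism of G factors is locally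
of finite type. -/
theorem result (k : Type u) [Field k] (G : Over (Spec (CommRingCat.of k))) [GrpObj G]
    [LocallyOfFiniteType G.hom] [QuasiCompact G.hom] :
    Surjective G.left.toSpecΓ ∧ Flat G.left.toSpecΓ ∧
      LocallyOfFiniteType (Spec.map G.hom.appTop ≫ (Spec (CommRingCat.of k)).isoSpec.inv) := by
  haveI : QuasiSeparated G.hom := AlgGrpBasic19.quasiSeparatedSpace
  obtain ⟨A, cA, hA, e, m, hm, he, hinj⟩ := AntiAff20.exists_hull G
  haveI := hm
  haveI := AntiAff20.finiteType_of_injective m hinj
  haveI : IsAffine (AntiAff20.HX (k := k) A).left := inferInstanceAs (IsAffine (Spec _))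
  haveI hl : LocallyOfFiniteType (AntiAff20.HX (k := k) A).hom := by
    show LocallyOfFiniteType (Spec.map (CommRingCat.ofHom (algebraMap k A)))
    rw [HasRingHomProperty.Spec_iff (P := @LocallyOfFiniteType), CommRingCat.hom_ofHom, RingHom.finiteType_algebraMap]
    infer_instance
  obtain ⟨hs, hf⟩ := AntiAff20.surjective_flat_of_injective_appTop m hinj
  haveI : IsIso e.hom.left := ((Over.forget _).mapIso e).isIso_hom
  haveI : IsIso e.inv.left := ((Over.forget _).mapIso e).isIso_inv
  have h : G.left.toSpecΓ = m.left ≫ e.hom.left := by rw [← Over.comp_left, he]; rfl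
  refine ⟨h ▸ inferInstance, h ▸ inferInstance, ?_⟩
  have h2 : (AffGrp19.aff G).hom = e.inv.left ≫ (AntiAff20.HX (k := k) A).hom := (Over.w e.inv).symm
  have h3 : Spec.map G.hom.appTop ≫ (Spec (CommRingCat.of k)).isoSpec.inv = (AffGrp19.aff G).hom := by
    show _ = Spec.map _
    rw [Spec.map_comp, Scheme.isoSpec_Spec_inv]
  rw [h3, h2]
  infer_instance


end Groth.Agent.S4106
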