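import Groth.Statements.S4107
import Groth.Agent.Lib.AntiAff20.Smooth
import Groth.Agent.Lib.AntiAff20.Kernel
import Groth.Agent.Lib.Rigid19.AntiAffine

set_option autoImplicit false
universe u
open CategoryTheory MonoidalCategory CartesianMonoidalCategory MonObj GrpObj AlgebraicGeometry CategoryTheory.Limits
open SGA3

namespace Groth.Agent.S4107

/-- Let G be an algebraic group over a field k, ρ : G → Spec O(G) the canonical morphism and N = Ker ρ,
the fibre of ρ over the image of the unit section. Then O(N) = k (the structure morphism N → Spec k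
induces an isomorphism on global sections), and N is smooth over k and connected. (The source adds
that N is commutative and characteristic in G.) -/
theorem result (k : Type u) [Field k] (G : Over (Spec (CommRingCat.of k))) [GrpObj G]
    [LocallyOfFiniteType G.hom] [QuasiCompact G.hom] :
    IsIso (pullback.snd G.left.toSpecΓ (η[G].left ≫ G.left.toSpecΓ) ≫ (𝟙_ (Over (Spec (CommRingCat.of k)))).hom).appTop ∧
    Smooth (pullback.snd G.left.toSpecΓ (η[G].left ≫ G.left.toSpecΓ) ≫ (𝟙_ (Over (Spec (CommRingCat.of k)))).hom) ∧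
    ConnectedSpace ↥(pullback G.left.toSpecΓ (η[G].left ≫ G.left.toSpecΓ)) := by
  haveI : QuasiSeparated G.hom := AlgGrpBasic19.quasiSeparatedSpace
  obtain ⟨hN, hl, hq, hb⟩ := AntiAff20.exists_antiAffine_kernel G
  haveI := hl; haveI := hq
  have hs := AntiAff20.smooth_of_antiAffine _ hb
  have hc := Rigid19.connectedSpace_of_antiAffine hb
  haveI hi : IsIso (pullback (AffGrp19.toAff G) η[AffGrp19.aff G]).hom.appTop := by
    haveI : IsIso (AffGrp19.structRing (pullback (AffGrp19.toAff G) η[AffGrp19.aff G])) :=
      (ConcreteCategory.isIso_iff_bijective _).mpr hb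
    exact IsIso.of_isIso_comp_left (Scheme.ΓSpecIso (CommRingCat.of k)).inv _
  have sq := (IsPullback.of_hasPullback (AffGrp19.toAff G) η[AffGrp19.aff G]).map (Over.forget _)
  let e : (pullback (AffGrp19.toAff G) η[AffGrp19.aff G]).left ≅
      pullback G.left.toSpecΓ (η[G].left ≫ G.left.toSpecΓ) := sq.isoPullback
  have he : e.hom ≫ (pullback.snd G.left.toSpecΓ (η[G].left ≫ G.left.toSpecΓ) ≫
      (𝟙_ (Over (Spec (CommRingCat.of k)))).hom) = (pullback (AffGrp19.toAff G) η[AffGrp19.aff G]).hom := by
    rw [← Category.assoc, show e.hom ≫ pullback.snd G.left.toSpecΓ (η[G].left ≫ G.left.toSpecΓ) =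
      (pullback.snd (AffGrp19.toAff G) η[AffGrp19.aff G]).left from sq.isoPullback_hom_snd]
    exact Over.w _
  refine ⟨?_, ?_, ?_⟩
  · rw [← he] at hi
    rw [Scheme.Hom.comp_appTop] at hi
    haveI := hi
    haveI : IsIso e.hom.appTop := inferInstanceAs (IsIso (e.hom.app ⊤))
    exact IsIso.of_isIso_comp_right _ e.hom.appTop
  · rw [← he] at hs
    exact (MorphismProperty.cancel_left_of_respectsIso @Smooth e.hom _).1 hs
  · exact e.hom.homeomorph.connectedSpace_iff.1 hc


end Groth.Agent.S4107
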