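import Groth.Statements.S4110
import Groth.Agent.Lib.HeightOne.Local

set_option autoImplicit false
universe u
open CategoryTheory MonoidalCategory CartesianMonoidalCategory MonObj GrpObj AlgebraicGeometry CategoryTheory.Limits
open SGA3

namespace Groth.Agent.S4110

/-- (iv) ⟹ (ii), over a local base: let R be a local ring of prime characteristic p and A a commutative
Hopf algebra over R which is of finite presentation and flat over R (an R-group G locally of finite
presentation and flat; finiteness is then a consequence) and of height ≤ 1: every element a of the
augmentation ideal satisfies a^p = 0 (the Frobenius of G is trivial). Then A is isomorphic as an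
R-algebra to R[X₁, …, Xₙ]/(X₁^p, …, Xₙ^p) for some n (n is the rank of the conormal module ω_G,
which is free). -/
theorem result (p : ℕ) [Fact p.Prime] (R : Type u) [CommRing R]
    [IsLocalRing R] [CharP R p] (A : Type u) [CommRing A] [HopfAlgebra R A] [Algebra.FinitePresentation R A] [Module.Flat R A]
    (h1 : ∀ a : A, Bialgebra.counitAlgHom R A a = 0 → a ^ p = 0) :
    ∃ n : ℕ, Nonempty (A ≃ₐ[R] (MvPolynomial (Fin n) R ⧸
      Ideal.span (Set.range fun i : Fin n => (MvPolynomial.X i : MvPolynomial (Fin n) R) ^ p))) := by
  exact Groth.Agent.HeightOne.exists_algEquiv p R A h1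

end Groth.Agent.S4110
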