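import Groth.Statements.S4112
import Groth.Agent.Lib.MulEtale20.Basic
import Groth.Agent.Lib.RigidRel.MulEtale
import Groth.Agent.Lib.AbRigid.Isogeny

set_option autoImplicit false
universe u
open CategoryTheory MonoidalCategory CartesianMonoidalCategory MonObj GrpObj AlgebraicGeometry CategoryTheory.Limits
open SGA3

namespace Groth.Agent.S4112

/-- Let G be a commutative algebraic group over a field k and n a natural number invertible in k. Then
the n-th power morphism G → G is etale. -/
theorem result (k : Type u) [Field k] (G : Over (Spec (CommRingCat.of k))) [GrpObj G]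
    [IsCommMonObj G] [LocallyOfFiniteType G.hom] [QuasiCompact G.hom] (n : ℕ) (hn : (n : k) ≠ 0) :
    Etale ((𝟙 G : G ⟶ G) ^ n).left := by
  haveI : IsSeparated G.hom := Groth.Agent.AbRigid.isSeparated_of_grpObj G
  haveI : IsLocallyNoetherian G.left := LocallyOfFiniteType.isLocallyNoetherian G.hom
  haveI : LocallyOfFiniteType ((𝟙 G ^ n : G ⟶ G).left ≫ G.hom) := by rw [Over.w]; infer_instance
  haveI : LocallyOfFiniteType (𝟙 G ^ n : G ⟶ G).left := locallyOfFiniteType_of_comp _ G.hom
  haveI : LocallyOfFinitePresentation (𝟙 G ^ n : G ⟶ G).left := inferInstance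
  haveI : FormallyUnramified (𝟙 G ^ n : G ⟶ G).left := by
    have hu : IsUnit ((n : ℤ) : Γ(Spec (CommRingCat.of k), ⊤)) := by
      rw [Int.cast_natCast, ← map_natCast (Scheme.ΓSpecIso (CommRingCat.of k)).inv.hom n]
      exact (isUnit_iff_ne_zero.2 hn).map _
    have h := Groth.Agent.MulEtale.formallyUnramified_zpow G (n : ℤ) hu
    rwa [zpow_natCast] at h
  haveI : IsMonHom (𝟙 G ^ n : G ⟶ G) :=
    { one_hom := by
        rw [MonObj.comp_pow, Category.comp_id, one_eq_one, one_pow]
      mul_hom := by
        rw [MonObj.comp_pow, Category.comp_id, show μ[G] = fst G G * snd G G by simp [Hom.mul_def],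
          mul_pow, MonObj.comp_mul, tensorHom_fst, tensorHom_snd, MonObj.comp_pow, Category.comp_id,
          MonObj.comp_pow, Category.comp_id] }
  haveI : Flat (𝟙 G ^ n : G ⟶ G).left := Groth.Agent.AbRigid.flat_of_flat_stalkMap G G _ _
    (Groth.Agent.MulEtale20.flat_unramified_pow G n hn).1
  exact Etale.of_formallyUnramified_of_flat _


end Groth.Agent.S4112
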