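import Groth.Statements.S4114
import Groth.Agent.Lib.FinGrp20.Field
import Mathlib.AlgebraicGeometry.Group.Affine
import Mathlib.AlgebraicGeometry.Morphisms.FlatRank
import Mathlib.RingTheory.Flat.EquationalCriterion

set_option autoImplicit false
universe u
open CategoryTheory MonoidalCategory CartesianMonoidalCategory MonObj GrpObj AlgebraicGeometry CategoryTheory.Limits
open SGA3

namespace Groth.Agent.S4114

/-- Let S be a reduced scheme and G an S-group scheme which is finite locally free of constant rank n
over S. Then the n-th power morphism of G is the trivial endomorphism (g ↦ gⁿ factors through the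
unit section). -/
theorem result (S : Scheme.{u}) [IsReduced S] (G : Over S) [GrpObj G] (n : ℕ)
    (hG : Mor2.IsFinLocFreeOfDeg n G.hom) : (𝟙 G : G ⟶ G) ^ n = 1 := by
  have aff : ∀ (R : CommRingCat.{u}) (f : Spec R ⟶ S), IsReduced (Spec R) →
      (𝟙 (Red.bc f G) : Red.bc f G ⟶ Red.bc f G) ^ n = 1 := by
    intro R f hR
    haveI : _root_.IsReduced Γ(Spec R, ⊤) := IsReduced.component_reduced ⊤
    haveI : _root_.IsReduced R :=
      isReduced_of_injective (Scheme.ΓSpecIso R).inv.hom (ConcreteCategory.bijective_of_isIso _).1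
    haveI := hG.1.1
    haveI := hG.1.2.1
    haveI := hG.1.2.2
    let G' : Over (Spec R) := Red.bc f G
    haveI : IsFinite G'.hom := inferInstanceAs (IsFinite (pullback.snd G.hom f))
    haveI : Flat G'.hom := inferInstanceAs (Flat (pullback.snd G.hom f))
    haveI : LocallyOfFinitePresentation G'.hom :=
      inferInstanceAs (LocallyOfFinitePresentation (pullback.snd G.hom f))
    haveI : IsAffine G'.left := isAffine_of_isAffineHom G'.hom
    show (𝟙 G' : G' ⟶ G') ^ n = 1
    obtain ⟨⟨H⟩, ⟨e⟩⟩ := essImage_hopfSpec.2 (show IsAffine (Grp.mk G').X.left from inferInstance)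
    let X := ((hopfSpec R).obj (Opposite.op H)).X
    let j : X ⟶ G' := e.hom.hom.hom
    let g : G' ⟶ X := e.inv.hom.hom
    have hfg : g ≫ j = 𝟙 G' := congrArg (fun k => k.hom.hom) e.inv_hom_id
    have hgf : j ≫ g = 𝟙 X := congrArg (fun k => k.hom.hom) e.hom_inv_id
    haveI : IsIso j := ⟨g, hgf, hfg⟩
    have hX : X.hom = j.left ≫ G'.hom := (Over.w j).symm
    have hX' : X.hom = Spec.map (CommRingCat.ofHom (algebraMap R H)) := rfl
    have hF : IsFinite X.hom := by rw [hX]; infer_instance
    have hFl : Flat X.hom := by rw [hX]; infer_instance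
    have hL : LocallyOfFinitePresentation X.hom := by rw [hX]; infer_instance
    rw [hX'] at hF hFl hL
    haveI : Module.Finite R H := RingHom.finite_algebraMap.mp ((IsFinite.SpecMap_iff _).mp hF)
    haveI : Module.Flat R H := RingHom.flat_algebraMap_iff.mp (Flat.SpecMap_iff.mp hFl)
    haveI : Algebra.FinitePresentation R H := RingHom.finitePresentation_algebraMap.mp
      ((HasRingHomProperty.Spec_iff (P := @LocallyOfFinitePresentation)).mp hL)
    haveI : Module.FinitePresentation R H :=
      Module.FinitePresentation.of_finite_of_finitePresentation _ _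
    haveI : Module.Projective R H := Module.Flat.projective_of_finitePresentation
    have hr : ∀ p : PrimeSpectrum R, Module.rankAtStalk (R := R) H p = n := by
      intro p
      rw [← Scheme.Hom.finrank_SpecMap_algebraMap R H p, ← hG.2 (f.base p)]
      have h1 := congrFun (Scheme.Hom.finrank_comp_left_of_isIso j.left G'.hom) p
      rw [← hX] at h1
      exact h1.trans (Scheme.Hom.finrank_pullback_snd G.hom f p)
    have h1 : (𝟙 X : X ⟶ X) ^ n = 1 := by
      let e' := Spec.mapMulEquiv (R := R) (S := H) (T := H)
      have hid : e' (WithConv.toConv (AlgHom.id R H)) = 𝟙 X := by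
        apply Over.OverMorphism.ext
        exact Spec.map_id _
      have := congrArg e' (Groth.Agent.FinGrp.convPow_rank_eq_one (A := H) n hr (AlgHom.id R H))
      rw [map_pow, map_one, hid] at this
      exact this
    have key : ((𝟙 X : X ⟶ X) ^ n) ≫ j = j ^ n := by rw [MonObj.pow_comp, Category.id_comp]
    rw [h1, MonObj.one_comp] at key
    calc (𝟙 G' : G' ⟶ G') ^ n = g ≫ (j ^ n) := by rw [MonObj.comp_pow, hfg]
      _ = 1 := by rw [← key, MonObj.comp_one]
  let 𝒰 := S.affineCover
  refine Over.OverMorphism.ext (Scheme.Cover.hom_ext (Precoverage.ZeroHypercover.pullback₁ G.hom 𝒰) _ _ fun i => ?_)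
  haveI : IsReduced (𝒰.X i) := isReduced_of_isOpenImmersion (𝒰.f i)
  have h := aff _ (𝒰.f i) ‹_›
  have h2 : (Over.pullback (𝒰.f i)).map ((𝟙 G : G ⟶ G) ^ n) =
      (Over.pullback (𝒰.f i)).map (1 : G ⟶ G) := by
    rw [Functor.map_one]
    refine (map_pow (Functor.homMonoidHom (Over.pullback (𝒰.f i))) (𝟙 G : G ⟶ G) n).trans ?_
    rw [Functor.homMonoidHom_apply, CategoryTheory.Functor.map_id]
    exact h
  have h3 := congrArg (fun m => m.left ≫ pullback.fst G.hom (𝒰.f i)) h2
  show pullback.fst _ _ ≫ _ = pullback.fst _ _ ≫ _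
  simpa [pullback.lift_fst, -Functor.map_one] using h3


end Groth.Agent.S4114
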