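import Groth.Statements.S4129
import Groth.Agent.Lib.RetrDesc20.BaseChange
import Groth.Agent.Lib.RetrDesc20.Split
import Groth.Agent.Lib.PerfProd19.Basic

set_option autoImplicit false
universe u
open TensorProduct
open SGA3
open Groth.Agent Groth.Agent.RetrDesc20

namespace Groth.Agent.S4129

/-- In Hopf-algebra form: let k be a perfect field, A a finitely generated commutative Hopf algebra over
k (an algebraic group E) and ψ : C → A an injective bialgebra map from a finitely generated
commutative Hopf algebra C which is formally smooth over k and unipotent in the fixed-vector sense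
(a smooth unipotent quotient U = Spec C of E). Let J be the Hopf ideal of A generated by the image
of the augmentation ideal of C and suppose the kernel H = Spec (A/J) is of multiplicative type
(diagonalizable after a faithfully flat extension of k). Suppose moreover that U is connected (C has
no idempotents other than 0 and 1). Then the extension 1 → H → E → U → 1 is trivial with a unique
lifting: there is exactly one bialgebra map r : A → C with r ∘ ψ = id. (The published statement
omits the connectedness of U; it is added here, for existence as well as uniqueness, as its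
published proof assumes it.) -/
theorem result (k : Type u) [Field k] [PerfectField k]
    (A C : Type u) [CommRing A] [HopfAlgebra k A] [Algebra.FiniteType k A] [CommRing C] [HopfAlgebra k C]
    [Algebra.FiniteType k C] [Algebra.FormallySmooth k C] (hC : HopfRep.IsUnipotent k C)
    (ψ : C →ₐc[k] A) (hψ : Function.Injective ψ)
    (J : Ideal A) [J.IsHopfIdeal k] (hJ : J = Ideal.map (ψ : C →+* A) (RingHom.ker (Bialgebra.counitAlgHom k C)))
    (hH : SGA3b.IsMultTypeConst k (A ⧸ J))
    (hU : ∀ e : C, IsIdempotentElem e → e = 0 ∨ e = 1) :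
    ∃! r : A →ₐc[k] C, r.comp ψ = BialgHom.id k C := by
  let K := AlgebraicClosure k
  haveI : Nontrivial C := (Bialgebra.counitAlgHom k C).toRingHom.domain_nontrivial
  haveI : IsDomain C := UnipConst20.isDomain_of_connected (k := k) C hU
  haveI : IsNoetherianRing C := Algebra.FiniteType.isNoetherianRing k C
  haveI : Nontrivial (K ⊗[k] C) := (Bialgebra.counitAlgHom K (K ⊗[k] C)).toRingHom.domain_nontrivial
  haveI : IsDomain (K ⊗[k] C) :=
    UnipConst20.isDomain_of_connected (k := K) _ (UnipConst20.idem_baseChange C K)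
  let L : Ideal (K ⊗[k] A) := Ideal.map (mapK ψ K) (RingHom.ker (Bialgebra.counitAlgHom K (K ⊗[k] C)))
  haveI : L.IsHopfIdeal K := MultTypeLib.isHopfIdeal_map_aug (mapK ψ K)
  let π : A →ₐc[k] A ⧸ J := Bialgebra.Quotient.mkBialgHom (R := k) J
  haveI : Algebra.FiniteType k (A ⧸ J) :=
    Algebra.FiniteType.of_surjective (Ideal.Quotient.mkₐ k J) (Ideal.Quotient.mkₐ_surjective k J)
  let πK : K ⊗[k] A →ₐc[K] K ⊗[k] (A ⧸ J) := Bialgebra.TensorProduct.map (BialgHom.id K K) π
  have hπK : Function.Surjective πK := by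
    intro y
    induction y using TensorProduct.induction_on with
    | zero => exact ⟨0, map_zero _⟩
    | tmul c b =>
      obtain ⟨a, rfl⟩ := Ideal.Quotient.mk_surjective b
      exact ⟨c ⊗ₜ[k] a, Bialgebra.TensorProduct.map_tmul _ _ _ _⟩
    | add u v hu hv =>
      obtain ⟨u, rfl⟩ := hu
      obtain ⟨v, rfl⟩ := hv
      exact ⟨u + v, map_add _ _ _⟩
  let q : K ⊗[k] A →ₐc[K] (K ⊗[k] A) ⧸ L := Bialgebra.Quotient.mkBialgHom (R := K) L
  have hker : ∀ z, πK z = 0 → q z = 0 := by
    intro z hz
    have h1 : z ∈ RingHom.ker (Algebra.TensorProduct.map (AlgHom.id k K) (Ideal.Quotient.mkₐ k J)) := hz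
    rw [Algebra.TensorProduct.lTensor_ker (Ideal.Quotient.mkₐ k J) (Ideal.Quotient.mkₐ_surjective k J),
      show RingHom.ker (Ideal.Quotient.mkₐ k J) = J from Ideal.Quotient.mkₐ_ker k J] at h1
    refine Ideal.Quotient.eq_zero_iff_mem.2 ?_
    refine (Ideal.map_le_iff_le_comap (K := L)).2 ?_ h1
    rw [hJ, Ideal.map_le_iff_le_comap]
    intro c hc
    show (1 : K) ⊗ₜ[k] ψ c ∈ L
    rw [← mapK_tmul]
    refine Ideal.mem_map_of_mem (mapK ψ K) (RingHom.mem_ker.2 ?_)
    rw [counit_tmul_field, RingHom.mem_ker.1 hc, map_zero, mul_zero]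
  obtain ⟨g, hg⟩ := UnipPts20.exists_descend πK hπK q hker
  have hQ : HopfRep.IsDiagonalizable K ((K ⊗[k] A) ⧸ L) := by
    obtain ⟨M, _, ⟨eM⟩⟩ : SGA3b.IsDiag K (K ⊗[k] (A ⧸ J)) :=
      MTSub29.isDiag_algClosed inferInstance (MultTypeLib.isMultType_of_const hH) K
    have hd : HopfRep.IsDiagonalizable K (K ⊗[k] (A ⧸ J)) := by
      refine eq_top_iff.2 fun z _ => ?_
      rw [← eM.symm_apply_apply z]
      generalize eM z = w
      induction w using MonoidAlgebra.induction_linear with
      | zero => rw [map_zero]; exact zero_mem _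
      | add x y hx hy => rw [map_add]; exact add_mem hx hy
      | single m c =>
        rw [show MonoidAlgebra.single m c = c • MonoidAlgebra.single m (1 : K) by simp, map_smul]
        exact Submodule.smul_mem _ _ (Submodule.subset_span ((MonoidAlgebra.isGroupLikeElem_single_one m).map eM.symm))
    refine eq_top_iff.2 fun y _ => ?_
    obtain ⟨x, rfl⟩ := Ideal.Quotient.mk_surjective y
    show q x ∈ _
    rw [← hg]
    have h := Submodule.apply_mem_span_image_of_mem_span (g : K ⊗[k] (A ⧸ J) →ₗ[K] (K ⊗[k] A) ⧸ L)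
      (hd.ge (Submodule.mem_top (x := πK x)))
    refine Submodule.span_mono ?_ h
    rintro _ ⟨a, ha, rfl⟩
    exact ha.map g
  obtain ⟨R, hR, huniq⟩ := exists_split ((S7951.result k K C).1 hC) (mapK ψ K) (mapK_injective ψ K hψ) L rfl hQ
  let F : A →ₐ[k] K ⊗[k] C :=
    (AlgHom.restrictScalars k (R : K ⊗[k] A →ₐ[K] K ⊗[k] C)).comp Algebra.TensorProduct.includeRight
  have hFψ : ∀ c, F (ψ c) = (1 : K) ⊗ₜ[k] c := fun c => by
    have h := DFunLike.congr_fun hR ((1 : K) ⊗ₜ[k] c)
    rw [BialgHom.comp_apply, mapK_tmul] at h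
    exact h
  have hεF : ∀ a, Bialgebra.counitAlgHom K (K ⊗[k] C) (F a) = algebraMap k K (Bialgebra.counitAlgHom k A a) :=
    fun a => (CoalgHomClass.counit_comp_apply R ((1 : K) ⊗ₜ[k] a)).trans
      ((counit_tmul_field (k := k) (1 : K) a).trans (one_mul _))
  -- counit preserving algebra maps over the quotient are equal to `R`
  have hU1 : ∀ F' : A →ₐ[k] K ⊗[k] C, (∀ c, F' (ψ c) = (1 : K) ⊗ₜ[k] c) →
      (∀ a, Bialgebra.counitAlgHom K (K ⊗[k] C) (F' a) = algebraMap k K (Bialgebra.counitAlgHom k A a)) →
      F' = F := by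
    intro F' h1 h2
    let ρ : K ⊗[k] A →ₐ[K] K ⊗[k] C :=
      Algebra.TensorProduct.lift (Algebra.ofId K (K ⊗[k] C)) F' (fun _ _ => Commute.all _ _)
    have hρ : ∀ a, ρ ((1 : K) ⊗ₜ[k] a) = F' a := fun a => by simp [ρ, ← Algebra.TensorProduct.one_def]
    refine AlgHom.ext fun a => (hρ a).symm.trans (huniq ρ (fun z => ?_) (fun z => ?_) _)
    · induction z using TensorProduct.induction_on with
      | zero => simp
      | add x y hx hy => simp only [map_add, hx, hy]
      | tmul c v => simp [ρ, h1, Algebra.TensorProduct.algebraMap_apply, Algebra.TensorProduct.tmul_mul_tmul]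
    · induction z using TensorProduct.induction_on with
      | zero => simp
      | add x y hx hy => simp only [map_add, hx, hy]
      | tmul c v =>
        show Bialgebra.counitAlgHom K (K ⊗[k] C) (ρ (c ⊗ₜ[k] v)) = Bialgebra.counitAlgHom K (K ⊗[k] A) (c ⊗ₜ[k] v)
        rw [counit_tmul_field, Algebra.TensorProduct.lift_tmul, map_mul, h2, Algebra.ofId_apply, AlgHom.commutes]
        rfl
  have htw : ∀ (σ : K →ₐ[k] K), (Algebra.TensorProduct.map σ (AlgHom.id k C)).comp F = F := by
    intro σ
    refine hU1 _ (fun c => ?_) (fun a => ?_)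
    · rw [AlgHom.comp_apply, hFψ, Algebra.TensorProduct.map_tmul, map_one, AlgHom.id_apply]
    · have hnat : ∀ z : K ⊗[k] C, Bialgebra.counitAlgHom K (K ⊗[k] C)
          (Algebra.TensorProduct.map σ (AlgHom.id k C) z) = σ (Bialgebra.counitAlgHom K (K ⊗[k] C) z) := by
        intro z
        induction z using TensorProduct.induction_on with
        | zero => simp
        | add p q hp hq => simp only [map_add, hp, hq]
        | tmul c b => rw [Algebra.TensorProduct.map_tmul, counit_tmul_field, counit_tmul_field, map_mul,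
            AlgHom.commutes]; rfl
      rw [AlgHom.comp_apply, hnat, hεF, AlgHom.commutes]
  haveI : IsReduced (K ⊗[k] K) := PerfProd19.isReduced_tensor (k := k) K K
  haveI : IsReduced ((K ⊗[k] K) ⊗[k] C) := PerfProd19.isReduced_tensor (k := k) (K ⊗[k] K) C
  have heq : ∀ a, d₁ K C (F a) = d₂ K C (F a) := fun a => by
    refine sub_eq_zero.1 (isNilpotent_of_evalAll_eq_zero (k := k) ?_).eq_zero
    funext χ
    rw [map_sub, Pi.sub_apply, Pi.zero_apply, evalAll_d₁, evalAll_d₂, sub_eq_zero]
    exact (DFunLike.congr_fun (htw (twist χ)) a).symm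
  obtain ⟨r, hr⟩ := exists_bialgHom_of_rational R fun a => exists_of_pullback_eq (heq a)
  have hinj : Function.Injective (Algebra.TensorProduct.includeRight : C →ₐ[k] K ⊗[k] C) :=
    Algebra.TensorProduct.includeRight_injective (algebraMap k K).injective
  refine ⟨r, BialgHom.ext fun c => hinj ((hr _).trans (hFψ c)), fun r' hr' => BialgHom.ext fun a => hinj ?_⟩
  show (1 : K) ⊗ₜ[k] r' a = (1 : K) ⊗ₜ[k] r a
  have e := hU1 (Algebra.TensorProduct.includeRight.comp (r' : A →ₐ[k] C)) (fun c => ?_) (fun a => ?_)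
  · exact (DFunLike.congr_fun e a).trans (hr a).symm
  · show (1 : K) ⊗ₜ[k] r' (ψ c) = _
    exact congrArg (fun x => (1 : K) ⊗ₜ[k] x) (DFunLike.congr_fun hr' c)
  · show Bialgebra.counitAlgHom K (K ⊗[k] C) ((1 : K) ⊗ₜ[k] r' a) = _
    rw [counit_tmul_field, one_mul]
    exact congrArg (algebraMap k K) (CoalgHomClass.counit_comp_apply r' a)

end Groth.Agent.S4129
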