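import Groth.Statements.S4131
import Groth.Agent.Lib.RankOne16.CommMain
import Groth.Agent.Lib.RankOne16.GaFibre

set_option linter.style.haveILetI false
set_option backward.isDefEq.respectTransparency false
set_option backward.isDefEq.respectTransparency.types false
-- import your own Groth.Agent.* helpers here

set_option autoImplicit false
universe u
open CategoryTheory MonoidalCategory CartesianMonoidalCategory MonObj GrpObj AlgebraicGeometry CategoryTheory.Limits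
open Red

namespace Groth.Agent.S4131

/-- Let G be an S-group scheme, i : T → G a subtorus, α : T → 𝔾_m a character which is non-trivial on
every geometric fibre, and p₊, p₋ : 𝔾_a → G homomorphisms which are monomorphisms normalised by T
with multipliers α and α⁻¹ (i(t) p₊(x) i(t)⁻¹ = p₊(α(t)x), i(t) p₋(y) i(t)⁻¹ = p₋(α(t)⁻¹y)). Assume
(i) the morphism 𝔾_a ×_S T ×_S 𝔾_a → G, (y, t, x) ↦ p₋(y)·i(t)·p₊(x), is an open immersion, with
image Ω, and (ii) on every geometric fibre the images of p₊ and p₋ do not commute. Then there is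
exactly one pair (a, α*) consisting of an S-point a of 𝔾_m and a homomorphism α* : 𝔾_m → T such that
for every S-scheme X and all points x, y of 𝔾_a with values in X: p₊(x)p₋(y) lies in Ω if and only
if 1 + a·x·y is a unit (as a function on X), and in that case p₊(x)p₋(y) = p₋(y')·i(α*(z))·p₊(x')
where z = 1 + axy, y'·z = y and x'·z = x; moreover α ∘ α* is the squaring map of 𝔾_m. -/
theorem result (S : Scheme.{u}) (G T : Over S) [GrpObj G] [GrpObj T] (i : T ⟶ G)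
    [IsMonHom i] [Mono i] (hT : Red.IsTorus T) (α : T ⟶ Red.Gm S) [IsMonHom α]
    (hα : ∀ s : S, (Over.pullback (Red.geomPt s)).map α ≠ 1)
    (pp pm : Red.Ga S ⟶ G) [IsMonHom pp] [Mono pp] [IsMonHom pm] [Mono pm]
    (hpp : ∀ (X : Over S) (t : X ⟶ T) (x : X ⟶ Red.Ga S), ∃ x' : X ⟶ Red.Ga S,
      x' ≫ pp = (t ≫ i) * (x ≫ pp) * (t ≫ i)⁻¹ ∧ Red.gaFn x' = Red.gmFn (t ≫ α) * Red.gaFn x)
    (hpm : ∀ (X : Over S) (t : X ⟶ T) (y : X ⟶ Red.Ga S), ∃ y' : X ⟶ Red.Ga S,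
      y' ≫ pm = (t ≫ i) * (y ≫ pm) * (t ≫ i)⁻¹ ∧ Red.gaFn y' * Red.gmFn (t ≫ α) = Red.gaFn y)
    (hΩ : IsOpenImmersion (((pm ⊗ₘ i) ⊗ₘ pp) ≫ (μ[G] ▷ G) ≫ μ[G]).left)
    (hnc : ∀ s : S, ∃ (X : Over (Spec (CommRingCat.of (AlgebraicClosure (S.residueField s)))))
      (x y : X ⟶ Red.bc (Red.geomPt s) (Red.Ga S)),
      (x ≫ (Over.pullback (Red.geomPt s)).map pp) * (y ≫ (Over.pullback (Red.geomPt s)).map pm) ≠
        (y ≫ (Over.pullback (Red.geomPt s)).map pm) * (x ≫ (Over.pullback (Red.geomPt s)).map pp)) :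
    ∃! q : (𝟙_ (Over S) ⟶ Red.Gm S) × (Red.Gm S ⟶ T), IsMonHom q.2 ∧ q.2 ≫ α = (𝟙 (Red.Gm S)) ^ 2 ∧
      ∀ (X : Over S) (x y : X ⟶ Red.Ga S),
        ((∃ w : X ⟶ (Red.Ga S ⊗ T) ⊗ Red.Ga S, w ≫ (((pm ⊗ₘ i) ⊗ₘ pp) ≫ (μ[G] ▷ G) ≫ μ[G]) = (x ≫ pp) * (y ≫ pm)) ↔
          IsUnit (1 + Red.gmFn (toUnit X ≫ q.1) * Red.gaFn x * Red.gaFn y)) ∧
        (IsUnit (1 + Red.gmFn (toUnit X ≫ q.1) * Red.gaFn x * Red.gaFn y) →
          ∃ (x' y' : X ⟶ Red.Ga S) (z : X ⟶ Red.Gm S),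
            Red.gmFn z = 1 + Red.gmFn (toUnit X ≫ q.1) * Red.gaFn x * Red.gaFn y ∧
            Red.gaFn x' * Red.gmFn z = Red.gaFn x ∧ Red.gaFn y' * Red.gmFn z = Red.gaFn y ∧
            (x ≫ pp) * (y ≫ pm) = (y' ≫ pm) * (z ≫ q.2 ≫ i) * (x' ≫ pp)) := by
  classical
  have K : RankOne16.Cellular i α pp pm :=
    ⟨inferInstance, inferInstance, inferInstance, inferInstance, hT, hα, hpp, hpm, hΩ⟩
  have hnc' : ∀ s : S, ¬ ∀ (X : Over S) (_ : X ⟶ RankOne16.sp (Red.geomPt s)) (u v : Γ(X.left, ⊤)),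
      RankOne.P pp u * RankOne.P pm v = RankOne.P pm v * RankOne.P pp u := by
    intro s h
    obtain ⟨X, x, y, hne⟩ := hnc s
    refine hne ?_
    let ψ := Red.geomPt s
    let adj := Over.mapPullbackAdj ψ
    let X₀ := (Over.map ψ).obj X
    obtain ⟨x₀, hx₀⟩ := (adj.homEquiv X (Red.Ga S)).surjective x
    obtain ⟨y₀, hy₀⟩ := (adj.homEquiv X (Red.Ga S)).surjective y
    have hx : x ≫ (Over.pullback ψ).map pp = RankOne16.bcHom ψ G X (x₀ ≫ pp) := by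
      rw [← hx₀]; exact (adj.homEquiv_naturality_right x₀ pp).symm
    have hy : y ≫ (Over.pullback ψ).map pm = RankOne16.bcHom ψ G X (y₀ ≫ pm) := by
      rw [← hy₀]; exact (adj.homEquiv_naturality_right y₀ pm).symm
    rw [hx, hy, ← MonoidHom.map_mul, ← MonoidHom.map_mul, RankOne.comp_eq_P pp x₀, RankOne.comp_eq_P pm y₀,
      h X₀ (Over.homMk X.hom) (Red.gaFn x₀) (Red.gaFn y₀)]
  obtain ⟨c, av, hc, hav, hsq, hV, hco⟩ := K.exists_rule hnc'
  let c₁ : 𝟙_ (Over S) ⟶ Red.Gm S := GmPts.ptOfUnit (c _)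
  have hc₁ : ∀ X : Over S, Red.gmFn (toUnit X ≫ c₁) = (c X : Γ(X.left, ⊤)) := fun X => by
    rw [GmPts.gmFn_comp, GmPts.gmFn_ptOfUnit]
    exact congrArg Units.val (hc _ X (toUnit X))
  have hin : ∀ (X : Over S) (x y : X ⟶ Red.Ga S),
      (∃ w : X ⟶ (Red.Ga S ⊗ T) ⊗ Red.Ga S, w ≫ (((pm ⊗ₘ i) ⊗ₘ pp) ≫ (μ[G] ▷ G) ≫ μ[G]) = (x ≫ pp) * (y ≫ pm)) ↔
        RankOne16.InV i pp pm (Red.gaFn x) (Red.gaFn y) := fun X x y => by
    rw [RankOne.comp_eq_P pp x, RankOne.comp_eq_P pm y]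
    constructor
    · rintro ⟨w, hw⟩ p
      rw [← hw]
      exact ⟨w.left p, rfl⟩
    · intro h
      obtain ⟨b, t, a, hba⟩ := K.exists_co h
      refine ⟨lift (lift (GaPts.ptOfFn b) t) (GaPts.ptOfFn a), ?_⟩
      rw [show RankOne.P pp (Red.gaFn x) * RankOne.P pm (Red.gaFn y) = RankOne16.cell i pp pm b t a from hba,
        RankOne16.cell_eq]
  refine ⟨(c₁, av), ⟨hav, ?_, fun X x y => ⟨?_, fun hu => ?_⟩⟩, ?_⟩
  · apply (GmPts.equiv _).injective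
    show GmPts.unitOfPt (av ≫ α) = GmPts.unitOfPt ((𝟙 (Red.Gm S)) ^ 2)
    have h1 := hsq _ (GmPts.unitOfPt (𝟙 (Red.Gm S)))
    rw [GmPts.ptOfUnit_unitOfPt, Category.id_comp] at h1
    rw [h1, pow_two, GmPts.unitOfPt_mul]
  · rw [hin, hV, hc₁]
  · rw [hc₁] at hu ⊢
    obtain ⟨z, hz⟩ := hu
    refine ⟨GaPts.ptOfFn (Red.gaFn x * ((z⁻¹ : (Γ(X.left, ⊤))ˣ) : Γ(X.left, ⊤))),
      GaPts.ptOfFn (Red.gaFn y * ((z⁻¹ : (Γ(X.left, ⊤))ˣ) : Γ(X.left, ⊤))), GmPts.ptOfUnit z,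
      by rw [GmPts.gmFn_ptOfUnit, hz],
      by rw [GaPts.gaFn_ptOfFn, GmPts.gmFn_ptOfUnit, Units.inv_mul_cancel_right],
      by rw [GaPts.gaFn_ptOfFn, GmPts.gmFn_ptOfUnit, Units.inv_mul_cancel_right], ?_⟩
    have h := hco X _ _ z hz
    rw [RankOne16.Co, RankOne16.cell] at h
    rw [RankOne.comp_eq_P pp x, RankOne.comp_eq_P pm y, h, Category.assoc]
    rfl
  · rintro ⟨c', av'⟩ ⟨hav', hsq', h'⟩
    -- the formula in terms of coordinates
    have hco' : ∀ (X : Over S) (a b : Γ(X.left, ⊤)), IsUnit (1 + (c X : Γ(X.left, ⊤)) * a * b) →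
        ∃ z : (Γ(X.left, ⊤))ˣ, (z : Γ(X.left, ⊤)) = 1 + Red.gmFn (toUnit X ≫ c') * a * b ∧
          RankOne16.Co i pp pm a b (b * ((z⁻¹ : (Γ(X.left, ⊤))ˣ) : Γ(X.left, ⊤))) (GmPts.ptOfUnit z ≫ av')
            (a * ((z⁻¹ : (Γ(X.left, ⊤))ˣ) : Γ(X.left, ⊤))) := fun X a b hu => by
      obtain ⟨h1, h2⟩ := h' X (GaPts.ptOfFn a) (GaPts.ptOfFn b)
      rw [hin, GaPts.gaFn_ptOfFn, GaPts.gaFn_ptOfFn, hV] at h1
      rw [GaPts.gaFn_ptOfFn, GaPts.gaFn_ptOfFn] at h2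
      obtain ⟨x', y', z, hz, hx', hy', he⟩ := h2 (h1.1 hu)
      refine ⟨GmPts.unitOfPt z, by rw [GmPts.val_unitOfPt, hz], ?_⟩
      rw [← GmPts.val_unitOfPt] at hx' hy'
      rw [RankOne16.Co, RankOne16.cell, GmPts.ptOfUnit_unitOfPt, Category.assoc, ← (Units.eq_mul_inv_iff_mul_eq _).2 hx',
        ← (Units.eq_mul_inv_iff_mul_eq _).2 hy', ← RankOne.comp_eq_P, ← RankOne.comp_eq_P]
      exact he
    have hcc : c' = c₁ := by
      apply GmPts.gmFn_injective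
      show Red.gmFn c' = Red.gmFn c₁
      rw [GmPts.gmFn_ptOfUnit]
      obtain ⟨X, g, v, hg, hv⟩ := RankOne16.exists_cover_poly (𝟙_ (Over S))
        (1 + Polynomial.C ((c (𝟙_ (Over S))).val) * Polynomial.X) (by simp)
      haveI := hg
      refine RankOne16.fn_injective_of_epi g _ _ ?_
      simp only [Polynomial.eval₂_add, Polynomial.eval₂_one, Polynomial.eval₂_mul, Polynomial.eval₂_C,
        Polynomial.eval₂_X] at hv
      rw [show g.left.appTop.hom ((c (𝟙_ (Over S))).val) = (c X : Γ(X.left, ⊤)) from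
        congrArg Units.val (hc _ X g)] at hv
      have hv' : IsUnit (1 + (c X : Γ(X.left, ⊤)) * 1 * (v : Γ(X.left, ⊤))) := by rwa [_root_.mul_one]
      obtain ⟨z', hz', he'⟩ := hco' X 1 (v : Γ(X.left, ⊤)) hv'
      obtain ⟨z, hz⟩ := hv'
      obtain ⟨-, -, e3⟩ := K.co_unique he' (hco X 1 _ z hz)
      have e4 : z' = z := inv_injective (Units.ext (by simpa using e3))
      rw [e4, hz, _root_.mul_one, _root_.mul_one, add_right_inj] at hz'
      rw [← GmPts.gmFn_comp, Subsingleton.elim g (toUnit X), ← v.mul_left_inj.1 hz']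
      exact (congrArg Units.val (hc _ X (toUnit X))).symm
    have havv : av' = av := by
      let U := GmPts.unitOfPt (𝟙 (Red.Gm S))
      let a : Γ((Red.Gm S).left, ⊤) := (((c _)⁻¹ : (Γ((Red.Gm S).left, ⊤))ˣ) : Γ((Red.Gm S).left, ⊤)) *
        ((U : Γ((Red.Gm S).left, ⊤)) - 1)
      have hU : 1 + (c (Red.Gm S) : Γ((Red.Gm S).left, ⊤)) * a * 1 = U := by
        simp only [a]; rw [_root_.mul_one, Units.mul_inv_cancel_left]; ring
      obtain ⟨z', hz', he'⟩ := hco' _ a 1 (by rw [hU]; exact U.isUnit)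
      obtain ⟨-, e2, -⟩ := K.co_unique he' (hco _ a 1 U hU.symm)
      rw [hcc, hc₁, hU] at hz'
      rwa [show z' = U from Units.ext hz', GmPts.ptOfUnit_unitOfPt, Category.id_comp, Category.id_comp] at e2
    rw [hcc, havv]

end Groth.Agent.S4131
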