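import Groth.Statements.S4136
import Groth.Agent.Lib.TorusLift21.Main

set_option linter.style.haveILetI false
set_option maxHeartbeats 1600000
set_option backward.isDefEq.respectTransparency.types false
-- import your own Groth.Agent.* helpers here

set_option autoImplicit false
universe u
open CategoryTheory MonoidalCategory CartesianMonoidalCategory MonObj GrpObj AlgebraicGeometry CategoryTheory.Limits
open SGA3x

namespace Groth.Agent.S4136

/-- First assertion: let G be an S-group scheme which is affine and smooth over S. Then the reductive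
rank of the geometric fibres (the dimension of their maximal tori) is a lower semicontinuous
function on S: for every n the set of points whose geometric fibre has a maximal torus of dimension
≥ n is open. (The source also proves that the nilpotent rank is upper semicontinuous.) -/
theorem result (S : Scheme.{u}) (G : Over S) [GrpObj G] [IsAffineHom G.hom] [Smooth G.hom] (n : ℕ) :
    IsOpen {s : S | ∃ r : WithBot ℕ∞, SGA3x.HasRedRank G s r ∧ (n : WithBot ℕ∞) ≤ r} := by
  refine isOpen_iff_forall_mem_open.2 fun s ⟨r, ⟨T₀, _, i₀, hT₀, hr⟩, hn⟩ => ?_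
  haveI := hT₀.1
  haveI := hT₀.2.1
  haveI : Smooth (Red.geomFibre s G).hom := inferInstanceAs (Smooth (Limits.pullback.snd G.hom (Red.geomPt s)))
  haveI : IsAffineHom (Red.geomFibre s G).hom :=
    inferInstanceAs (IsAffineHom (Limits.pullback.snd G.hom (Red.geomPt s)))
  obtain ⟨d, ⟨C⟩⟩ := TorPts21.exists_chars hT₀.2.2.1
  obtain ⟨C₀, _, c₀, hc₀, -⟩ := TorusCentr19.exists_centralizer'
    (MTRigid29.isMT_of_ft (TorPts21.isMultTypeFT_of_isTorus hT₀.2.2.1)) ‹Smooth (Red.geomFibre s G).hom› i₀
  obtain ⟨V, hs, hV⟩ := TorusLift21.exists_nhd_bounds G s i₀ hT₀.2.2.1 C c₀ hc₀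
  refine ⟨V, fun t ht => ?_, V.2, hs⟩
  obtain ⟨⟨T, _, i, d', hT, hd, hTd⟩, -⟩ := hV t ht
  refine ⟨(d' : WithBot ℕ∞), ⟨T, inferInstance, i, hT, hTd⟩, hn.trans ?_⟩
  rw [← hr, TorusLift21.dim_of_chars _ C]
  exact_mod_cast hd

end Groth.Agent.S4136
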