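import Groth.Statements.S4137
import Groth.Agent.Lib.GenNorm20.Main

set_option autoImplicit false
universe u
open CategoryTheory MonoidalCategory CartesianMonoidalCategory MonObj GrpObj AlgebraicGeometry CategoryTheory.Limits
open SGA3

namespace Groth.Agent.S4137

set_option linter.style.haveILetI false
set_option backward.isDefEq.respectTransparency.types false

/-- Let S be an integral scheme, G and H S-group schemes of finite presentation over S and i : H → G a
homomorphism which is a quasi-compact monomorphism. Then there is a non-empty open U of S over which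
i becomes a closed immersion and the centralizer and the normalizer of H_U in G_U are representable
by closed subgroup schemes of G_U of finite presentation over U. -/
theorem result (S : Scheme.{u}) [IsIntegral S] (G H : Over S)
    [GrpObj G] [GrpObj H] [LocallyOfFinitePresentation G.hom] [QuasiCompact G.hom] [QuasiSeparated G.hom]
    [LocallyOfFinitePresentation H.hom] [QuasiCompact H.hom] [QuasiSeparated H.hom]
    (i : H ⟶ G) [IsMonHom i] [Mono i] [QuasiCompact i.left] :
    ∃ U : S.Opens, (U : Set S).Nonempty ∧ IsClosedImmersion ((Over.pullback U.ι).map i).left ∧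
      ∃ (C N : Over (U : Scheme.{u})) (_ : GrpObj C) (_ : GrpObj N) (c : C ⟶ Red.bc U.ι G) (n : N ⟶ Red.bc U.ι G),
        Red.IsCentralizerOf ((Over.pullback U.ι).map i) c ∧ IsClosedImmersion c.left ∧
          LocallyOfFinitePresentation C.hom ∧ QuasiCompact C.hom ∧
        Red.IsNormalizerOf ((Over.pullback U.ι).map i) n ∧ IsClosedImmersion n.left ∧
          LocallyOfFinitePresentation N.hom ∧ QuasiCompact N.hom := by
  obtain ⟨W, hW, hWc⟩ := GenNorm20.exists_open_isClosedImmersion G H i
  obtain ⟨U, hU, hUW, hsep, Y, y', hY, hf, hs, hq⟩ := GenNorm20.exists_open_free_cover G H W hW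
  haveI := hsep
  haveI := hf
  haveI := hs
  haveI := hq
  have hci : IsClosedImmersion ((Over.pullback U.ι).map i).left :=
    GenNorm20.isClosedImmersion_map_comp W.ι (S.homOfLE hUW) (S.homOfLE_ι hUW) i hWc
  haveI := hci
  haveI : LocallyOfFinitePresentation (Red.bc U.ι G).hom := MorphismProperty.pullback_snd _ _ inferInstance
  haveI : QuasiCompact (Red.bc U.ι G).hom := MorphismProperty.pullback_snd _ _ inferInstance
  haveI : LocallyOfFinitePresentation (Red.bc U.ι H).hom := MorphismProperty.pullback_snd _ _ inferInstance
  obtain ⟨C, _, c, hc1, hc2, hc3, hc4⟩ := GenNorm20.exists_centralizer_of_cover ((Over.pullback U.ι).map i) y' hY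
  obtain ⟨N, _, n, hn1, hn2, hn3, hn4⟩ := GenNorm20.exists_normalizer_of_cover ((Over.pullback U.ι).map i) y' hY
  exact ⟨U, ⟨_, hU⟩, hci, C, N, inferInstance, inferInstance, c, n, hc1, hc2, hc3, hc4, hn1, hn2, hn3, hn4⟩

end Groth.Agent.S4137
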