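import Groth.Statements.S4140
import Groth.Agent.Lib.GrpNeutral20.Sep

set_option autoImplicit false
universe u
open CategoryTheory MonoidalCategory CartesianMonoidalCategory MonObj GrpObj AlgebraicGeometry CategoryTheory.Limits
open SGA3

namespace Groth.Agent.S4140

/-- Let G be an S-group scheme locally of finite presentation over S such that s ↦ dim G_s is locally
constant, and σ, τ two S-points of G with values in the neutral component G⁰ (their images lie in
the union of the neutral components of the fibres). Then the subscheme of coincidences of σ and τ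
(the pullback of the diagonal of G along (σ, τ)) is a closed subscheme of S. -/
theorem result (S : Scheme.{u}) (G : Over S) [GrpObj G]
    [LocallyOfFinitePresentation G.hom]
    (hdim : IsLocallyConstant (fun s : S => topologicalKrullDim ↥(G.hom.base ⁻¹' {s})))
    (σ τ : 𝟙_ (Over S) ⟶ G) (hσ : Set.range σ.left.base ⊆ SGA3x.neutralSet G)
    (hτ : Set.range τ.left.base ⊆ SGA3x.neutralSet G) :
    IsClosedImmersion (pullback.fst (lift σ τ) (lift (𝟙 G) (𝟙 G))).left := by
  have hu : ∀ x ∈ SGA3x.neutralSet G, EGA43.IsUnivOpenAt G.hom x := fun x hx =>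
    GrpNeutral20.univOpen_of_const G (G.hom x)
      ⟨_, (hdim.isOpen_fiber (topologicalKrullDim ↥(G.hom ⁻¹' {G.hom x}))).mem_nhds rfl, fun t ht => ht⟩ hx rfl
  have h := (IsPullback.of_hasPullback (lift σ τ) (lift (𝟙 G) (𝟙 G))).map (Over.forget S)
  simp only [Over.forget_map] at h
  have hΔ : (lift (𝟙 G) (𝟙 G)).left = pullback.diagonal G.hom := by
    show _ = (pullback.diagonal G.hom : G.left ⟶ pullback G.hom G.hom)
    apply pullback.hom_ext
    · rw [pullback.diagonal_fst]
      exact congrArg (fun φ => φ.left) (lift_fst (𝟙 G) (𝟙 G))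
    · rw [pullback.diagonal_snd]
      exact congrArg (fun φ => φ.left) (lift_snd (𝟙 G) (𝟙 G))
  haveI : IsPreimmersion (lift (𝟙 G) (𝟙 G)).left := by
    rw [hΔ]; exact (inferInstance : IsPreimmersion (pullback.diagonal G.hom))
  haveI : IsPreimmersion (pullback.fst (lift σ τ) (lift (𝟙 G) (𝟙 G))).left :=
    MorphismProperty.of_isPullback (P := @IsPreimmersion) h.flip ‹IsPreimmersion (lift (𝟙 G) (𝟙 G)).left›
  refine IsClosedImmersion.of_isPreimmersion _ ?_
  have hr : Set.range (pullback.fst (lift σ τ) (lift (𝟙 G) (𝟙 G))).left =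
      (lift σ τ).left ⁻¹' Set.range (pullback.diagonal G.hom) := by
    ext t
    constructor
    · rintro ⟨p, rfl⟩
      refine ⟨(pullback.snd (lift σ τ) (lift (𝟙 G) (𝟙 G))).left p, ?_⟩
      rw [← hΔ, ← GrpNeutral20.hap, ← GrpNeutral20.hap, pullback.condition]
    · rintro ⟨g, hg⟩
      obtain ⟨p, hp, -⟩ := Scheme.exists_preimage_of_isPullback h t g (hg.symm.trans (by rw [hΔ]; rfl))
      exact ⟨p, hp⟩
  rw [hr, ← isOpen_compl_iff, isOpen_iff_forall_mem_open]
  intro s hs
  have e1 : pullback.fst G.hom G.hom ((lift σ τ).left s) = σ.left s := by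
    conv_rhs => rw [← lift_fst σ τ]
    rw [GrpNeutral20.hap]; rfl
  have e2 : pullback.snd G.hom G.hom ((lift σ τ).left s) = τ.left s := by
    conv_rhs => rw [← lift_snd σ τ]
    rw [GrpNeutral20.hap]; rfl
  obtain ⟨U, hsU, hU⟩ := GrpNeutral20.exists_isSeparated_nhd G.hom (η[G].left s)
  obtain ⟨V, hV, hVs⟩ := GrpNeutral20.isSeparated_actSet (OrbitTop19.mulAction G)
    (GrpNeutral20.constDimGen_of_isLocallyConstant G hdim) hu U hU
  have key : ∀ ρ : 𝟙_ (Over S) ⟶ G, Set.range ρ.left ⊆ SGA3x.neutralSet G → ρ.left s ∈ V := by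
    intro ρ hρ
    show ρ.left s ∈ (V : Set G.left)
    rw [hV]
    refine ⟨(lift ρ η[G]).left s, ⟨?_, ?_⟩, ?_⟩
    · rw [← GrpNeutral20.hap, lift_fst]
      exact hρ ⟨s, rfl⟩
    · rw [← GrpNeutral20.hap, lift_snd]
      exact hsU
    · rw [← GrpNeutral20.hap]
      have e : lift ρ η[G] ≫ (OrbitTop19.mulAction G).act = ρ := by
        show lift ρ η[G] ≫ μ[G] = ρ
        rw [← Hom.mul_def, show η[G] = (1 : 𝟙_ (Over S) ⟶ G) from by rw [Hom.one_def]; simp]
        exact mul_one ρ
      rw [e]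
  obtain ⟨O, hO, hqO, hdisj⟩ := GrpNeutral20.diagonal_nhd G.hom V hVs ((lift σ τ).left s)
    (e1 ▸ key σ hσ) (e2 ▸ key τ hτ) hs
  exact ⟨(lift σ τ).left ⁻¹' O, fun t ht => hdisj _ ht, hO.preimage (lift σ τ).left.continuous, hqO⟩


end Groth.Agent.S4140
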