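import Groth.Statements.S4149
import Groth.Agent.Lib.RedCtr21.Field
import Groth.Agent.Lib.NilpMT21.Central
import Groth.Agent.Lib.AttrBorel21.MaxTori
-- import your own Groth.Agent.* helpers here

set_option autoImplicit false
universe u
open CategoryTheory MonoidalCategory CartesianMonoidalCategory MonObj GrpObj AlgebraicGeometry CategoryTheory.Limits
open SGA3x

namespace Groth.Agent.S4149

/-- Let G be an affine, connected algebraic group over a field k which is nilpotent (for some n the n-th
term of the lower central series of G(X) is trivial for every k-scheme X). Then G has a largest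
subgroup of multiplicative type M — a closed subgroup scheme of multiplicative type and of finite
type through which every such subgroup factors — and M is central in G. (The source adds that M is
characteristic and G/M unipotent.) -/
theorem result (k : Type u) [Field k] (G : Over (Spec (CommRingCat.of k)))
    [GrpObj G] [IsAffine G.left] [LocallyOfFiniteType G.hom] [ConnectedSpace ↥G.left]
    (hnil : ∃ n : ℕ, ∀ X : Over (Spec (CommRingCat.of k)), (⊤ : Subgroup (X ⟶ G)).lowerCentralSeries n = ⊥) :
    ∃ (M : Over (Spec (CommRingCat.of k))) (_ : GrpObj M) (m : M ⟶ G), IsMonHom m ∧ IsClosedImmersion m.left ∧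
      SGA3x.IsMultTypeFT M ∧
      (∀ (M' : Over (Spec (CommRingCat.of k))) [GrpObj M'] (m' : M' ⟶ G) [IsMonHom m'] [Mono m'],
        SGA3x.IsMultTypeFT M' → ∃ f : M' ⟶ M, f ≫ m = m') ∧
      ∀ (X : Over (Spec (CommRingCat.of k))) (x : X ⟶ M) (g : X ⟶ G), (x ≫ m) * g = g * (x ≫ m) := by
  haveI : CompactSpace G.left := inferInstance
  haveI : QuasiCompact G.hom := (quasiCompact_iff_compactSpace G.hom).2 inferInstance
  obtain ⟨M, _, m, h1, h2, hc, h3, h4, h5⟩ := RedCtr21.exists_reductiveCentre G
  refine ⟨M, inferInstance, m, h1, hc, h3, fun M' _ m' _ _ hM' => ?_, h4⟩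
  haveI := MTRigid29.isMonHom_map m' (𝟙 (Spec (CommRingCat.of k)))
  obtain ⟨w, hw⟩ := h5 _ (𝟙 _) _ ((Over.pullback (𝟙 _)).map m') (MTRigid29.isMultTypeFT_bc hM' _) fun X x g => by
    refine DiagGL.fl_injective (𝟙 (Spec (CommRingCat.of k))) G ?_
    rw [DiagGL.fl_mul, DiagGL.fl_mul, DiagGL.fl_comp_map]
    exact NilpMT21.central_of_nilpotent m' hM' hnil _ _ _
  exact AttrBorel21.exists_lift_of_bc_id m m' w hw

end Groth.Agent.S4149
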