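import Groth.Statements.S4150
import Groth.Agent.Lib.AbelGrp20.Main

set_option autoImplicit false
universe u
open CategoryTheory MonoidalCategory CartesianMonoidalCategory MonObj GrpObj AlgebraicGeometry CategoryTheory.Limits
open SGA3

namespace Groth.Agent.S4150

/-- Let k be a field. The category of commutative algebraic k-groups (commutative group objects in
k-schemes whose underlying scheme is of finite type over k, as a full subcategory of commutative
group objects over Spec k) is an abelian category. -/
theorem result (k : Type u) [Field k] :
    Nonempty (Abelian (ObjectProperty.FullSubcategory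
      (fun G : CommGrp (Over (Spec (CommRingCat.of k))) => LocallyOfFiniteType G.X.hom ∧ QuasiCompact G.X.hom))) := by
  have e : (fun G : CommGrp (Over (Spec (CommRingCat.of k))) => LocallyOfFiniteType G.X.hom ∧ QuasiCompact G.X.hom) =
      Groth.Agent.AbelGrp20.IsAlg (k := k) False := by
    funext G
    exact propext ⟨fun h => ⟨h.1, h.2, False.elim⟩, fun h => ⟨h.1, h.2.1⟩⟩
  rw [e]
  exact Groth.Agent.AbelGrp20.nonempty_abelian

end Groth.Agent.S4150
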