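import Groth.Statements.S4205
import Groth.Agent.Lib.AnPtsTop.ProperConv
-- import your own Groth.Agent.* helpers here

set_option autoImplicit false
open CategoryTheory AlgebraicGeometry Topology TopologicalSpace
open An

namespace Groth.Agent.S4205

/-- Let X be a scheme of finite type over ℂ (locally of finite type and quasi-compact over ℂ, carried as
two instance hypotheses). Then X is proper over ℂ if and only if X(ℂ) with the complex topology is
compact and Hausdorff. -/
theorem result (X : Scheme.{0}) [X.Over An.SC] [LocallyOfFiniteType (X ↘ An.SC)] [QuasiCompact (X ↘ An.SC)] :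
    IsProper (X ↘ An.SC) ↔ CompactSpace (An.Pts X) ∧ T2Space (An.Pts X) := by
  exact AnPtsTop.isProper_iff_compact

end Groth.Agent.S4205
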