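import Groth.Statements.S4209
import Groth.Agent.Lib.AnPtsTop.EpsSite
-- import your own Groth.Agent.* helpers here

set_option autoImplicit false
open CategoryTheory AlgebraicGeometry Topology TopologicalSpace
open An

namespace Groth.Agent.S4209

/-- For X locally of finite type over ℂ, U ↦ U(ℂ) defines a morphism of sites ε from the classical site
of X(ℂ) to the small etale site of X; in particular the functor is continuous (precomposition with
it carries sheaves to sheaves). This is the hypothesis An.EpsCont carried by the comparison
statements. -/
theorem result (X : Scheme.{0}) [X.Over An.SC] [LocallyOfFiniteType (X ↘ An.SC)]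
    [Fact An.EtaleLH] :
    An.EpsCont X := by
  exact AnPtsTop.epsCont

end Groth.Agent.S4209
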