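import Groth.Statements.S4243
import Mathlib.FieldTheory.Finite.Polynomial

set_option autoImplicit false
open SGA4h

namespace Groth.Agent.S4243

/-- Let k be a finite field with q elements and P a nonzero homogeneous polynomial of degree d in r+1
variables over k. If P vanishes at every point of k^{r+1} (that is, the hypersurface P = 0 in
projective r-space passes through every rational point), then d ≥ q + 1. -/
theorem result (k : Type) [Field k] [Fintype k] (r d : ℕ)
    (P : MvPolynomial (Fin (r + 1)) k) (hP : P.IsHomogeneous d) (hP0 : P ≠ 0)
    (hvan : ∀ x : Fin (r + 1) → k, MvPolynomial.eval x P = 0) :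
    Fintype.card k + 1 ≤ d := by
  classical
  by_contra hlt
  push Not at hlt
  obtain ⟨q, hq⟩ : ∃ q, Fintype.card k = q := ⟨_, rfl⟩
  have hq2 : 2 ≤ q := hq ▸ Fintype.one_lt_card
  set c : Fin (r + 1) → k := fun i => P.coeff (Finsupp.single i q)
  set S : MvPolynomial (Fin (r + 1)) k :=
    ∑ i, MvPolynomial.C (c i) * (MvPolynomial.X i ^ q - MvPolynomial.X i) with hS
  have hcS : ∀ m, S.coeff m = ∑ i, c i *
      ((if Finsupp.single i q = m then 1 else 0) - (if Finsupp.single i 1 = m then (1 : k) else 0)) := by
    intro m
    simp [hS, MvPolynomial.coeff_sum, MvPolynomial.coeff_X_pow, MvPolynomial.coeff_X']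
  have hdeg : ∀ m, P.coeff m ≠ 0 → m.degree = d := fun m hm => by
    rw [← hP hm, Finsupp.degree_eq_weight_one]; rfl
  have hPS : P - S = 0 := by
    refine MvPolynomial.eq_zero_of_eval_eq_zero _ _ _ (fun v => ?_) ?_
    · simp [hS, hvan v, ← hq, FiniteField.pow_card]
    · rw [MvPolynomial.mem_restrictDegree, hq]
      intro m hm i
      rw [MvPolynomial.mem_support_iff, MvPolynomial.coeff_sub, hcS] at hm
      by_contra hlt'
      apply hm
      have hi : q ≤ m i := by omega
      have h1 : ∀ j, ¬ Finsupp.single j 1 = m := fun j h => by
        rw [← h, Finsupp.single_apply] at hi; split_ifs at hi <;> omega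
      have h3 : Finsupp.single i q ≠ m → P.coeff m = 0 := fun hne => by
        by_contra hc
        apply hne
        have hd := hdeg m hc
        have hsum : m i + (∑ j ∈ Finset.univ.erase i, m j) = d := by
          rw [← hd, Finsupp.degree_eq_sum, Finset.add_sum_erase _ _ (Finset.mem_univ i)]
        ext j
        by_cases hj : j = i
        · subst hj; simp; omega
        · rw [Finsupp.single_eq_of_ne hj]
          have := Finset.single_le_sum (f := fun j => m j) (fun _ _ => Nat.zero_le _)
            (Finset.mem_erase.2 ⟨hj, Finset.mem_univ j⟩)
          omega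
      simp only [h1, if_false, sub_zero, mul_ite, mul_one, mul_zero]
      by_cases he : Finsupp.single i q = m
      · rw [Finset.sum_eq_single i (fun j _ hj => by
          rw [if_neg]; intro h; rw [← he] at h
          exact hj ((Finsupp.single_left_inj (by omega)).1 h)) (by simp), if_pos he, ← he]
        simp [c]
      · rw [h3 he, zero_sub, neg_eq_zero]
        refine Finset.sum_eq_zero fun j _ => ?_
        rw [if_neg]
        intro h
        rcases eq_or_ne j i with rfl | hj
        · exact he h
        · rw [← h, Finsupp.single_eq_of_ne (Ne.symm hj)] at hi; omega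
  apply hP0
  rw [sub_eq_zero] at hPS
  rw [hPS, hS]
  refine Finset.sum_eq_zero fun i _ => ?_
  suffices c i = 0 by simp [this]
  by_contra hc
  have hdq : d = q := by
    have := hdeg _ hc
    simpa using this.symm
  have h0 : P.coeff (Finsupp.single i 1) = 0 := by
    by_contra h
    have := hdeg _ h
    simp at this; omega
  rw [hPS, hcS, Finset.sum_eq_single i (fun j _ hj => by
    rw [if_neg, if_neg]
    · simp
    · exact fun h => hj ((Finsupp.single_left_inj (by omega)).1 h)
    · intro h
      have := congrArg Finsupp.degree h
      simp at this; omega) (by simp), if_pos rfl, if_neg (fun h => by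
      have := congrArg Finsupp.degree h
      simp at this; omega)] at h0
  simp at h0; exact hc h0

end Groth.Agent.S4243
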