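import Groth.Statements.S4263
import Groth.Agent.Lib.HmapComp15.Basic
import Groth.Agent.Lib.FrobCorr5.Main
import Groth.Agent.Lib.FrobContract7.Basic

set_option autoImplicit false
set_option backward.isDefEq.respectTransparency false
set_option backward.isDefEq.respectTransparency.types false
universe u
open CategoryTheory CategoryTheory.Limits AlgebraicGeometry Opposite CategoryTheory.Abelian
open scoped BigOperators
open SGA4h

namespace Groth.Agent.S4263

open Groth.Agent Groth.Agent.HmapComp15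

section helpers

variable {X Y Z : Scheme.{u}} {M : Type} [AddCommGroup M]

lemma key (f : X ⟶ Y) (g : Y ⟶ Z) :
    (EtCoh.pull f).map (EtCore.pullConst g M).hom ≫ (EtCore.pullConst f M).hom =
      (EtCore.pullComp f g).inv.app _ ≫ (EtCore.pullConst (f ≫ g) M).hom := by
  let cf := EtCore.pullConst f M
  let cg := EtCore.pullConst g M
  let cfg := EtCore.pullConst (f ≫ g) M
  show (EtCoh.pull f).map cg.hom ≫ cf.hom = (EtCore.pullComp f g).inv.app _ ≫ cfg.hom
  have h := pullConst_compM (M := M) f g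
  refine (cancel_epi ((EtCoh.pull f).map cg.inv)).1 ?_
  refine (cancel_epi cf.inv).1 ?_
  have h1 : (EtCoh.pull f).map cg.inv ≫ (EtCoh.pull f).map cg.hom ≫ cf.hom = cf.hom := by
    rw [← Category.assoc, ← Functor.map_comp, Iso.inv_hom_id, CategoryTheory.Functor.map_id, Category.id_comp]
  have h2 : cf.inv ≫ (EtCoh.pull f).map cg.inv ≫ (EtCore.pullComp f g).inv.app _ = cfg.inv := h
  rw [h1, Iso.inv_hom_id, ← Category.assoc ((EtCoh.pull f).map cg.inv), ← Category.assoc cf.inv, h2, Iso.inv_hom_id]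

lemma key' (f : X ⟶ Y) (g : Y ⟶ Z) (f₀ : X ⟶ Z) (w : f ≫ g = f₀) :
    (EtCoh.pull f).map (EtCore.pullConst g M).hom ≫ (EtCore.pullConst f M).hom =
      (((EtCore.pullComp f g).symm ≪≫ EtCore.pullCongr w).app _).hom ≫ (EtCore.pullConst f₀ M).hom := by
  subst w
  rw [key]
  simp [EtCore.pullCongr]

variable [Fact FinFr.PullExact.{u}] {Λ : Type} [CommRing Λ]

lemma endConstAdd_eq (f : X ⟶ X) [PreservesFiniteLimits (EtCoh.pull f)] (n : ℕ)
    (x : EtCoh.H X (EtCoh.const X Λ) n) :
    FinFr.endConstAdd f n x =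
      (EtCore.Hpull f (EtCoh.const X Λ) n x).comp (Ext.mk₀ (EtCore.pullConst f Λ).hom) (add_zero n) := rfl

lemma endConstAdd_comp (f g : X ⟶ X) (n : ℕ) (x : EtCoh.H X (EtCoh.const X Λ) n) :
    FinFr.endConstAdd f n (FinFr.endConstAdd g n x) = FinFr.endConstAdd (f ≫ g) n x := by
  haveI := FinFr.pullExact_out f
  haveI := FinFr.pullExact_out g
  haveI := FinFr.pullExact_out (f ≫ g)
  rw [endConstAdd_eq, endConstAdd_eq, endConstAdd_eq]
  rw [FieldBr3.Hpull_comp_mk₀, Ext.comp_assoc_of_third_deg_zero, Ext.mk₀_comp_mk₀, key, ← Ext.mk₀_comp_mk₀,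
    ← Ext.comp_assoc_of_third_deg_zero]
  exact congrArg (fun t => Ext.comp t (Ext.mk₀ (EtCore.pullConst (f ≫ g) Λ).hom) (add_zero n))
    (FieldH25.Hpull_comp f g (EtCoh.const X Λ) n x)

section Frob

variable (p : ℕ) [Fact p.Prime] [FrobSch.IsCharP X p]

lemma pullConst_inv_alpha :
    (EtCore.pullConst (FrobSch.frob X p) M).inv ≫ (FrobCorr5.α p X).app (EtCoh.const X M) = 𝟙 _ := by
  let φ := FrobSch.frob X p
  let Z := EtCoh.const X M
  refine hom_ext_sec fun m => ?_
  show ((FrobCorr5.α p X).app Z).hom.app (op (EtCoh.top X)) ((EtCore.pullConst φ M).inv.hom.app _ (mSec X m)) =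
    mSec X m
  erw [pullConst_inv_sec φ m]
  erw [NatTrans.naturality_apply]
  have h := congrArg (fun t => t.hom.app (op (EtCoh.top X)) (mSec X m)) (FrobCorr5.unit_α p X Z)
  refine (congrArg _ h).trans ?_
  show Z.obj.map (EtCore.bcTopIso φ).inv.op (Z.obj.map ((FrobCorr5.relIso p X).inv.app (EtCoh.top X)).op _) = _
  rw [← Functor.map_comp_apply, ← op_comp,
    (EtCore.topIsTerminal X).hom_ext ((EtCore.bcTopIso φ).inv ≫ (FrobCorr5.relIso p X).inv.app (EtCoh.top X)) (𝟙 _),
    op_id]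
  exact ConcreteCategory.congr_hom (Z.obj.map_id _) _

lemma endConstAdd_frob (n : ℕ) (x : EtCoh.H X (EtCoh.const X Λ) n) :
    FinFr.endConstAdd (FrobSch.frob X p) n x = x := by
  haveI := FinFr.pullExact_out (FrobSch.frob X p)
  have h := DFunLike.congr_fun (FrobCorr5.trivial_action p X (EtCoh.const X Λ) n) x
  have he : (EtCore.pullConst (FrobSch.frob X p) Λ).hom = (FrobCorr5.α p X).app (EtCoh.const X Λ) :=
    ((cancel_epi (EtCore.pullConst (FrobSch.frob X p) Λ).inv).1 (by
      rw [pullConst_inv_alpha, Iso.inv_hom_id]))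
  rw [endConstAdd_eq, he]
  exact h

lemma endConstAdd_fpow (m n : ℕ) (x : EtCoh.H X (EtCoh.const X Λ) n) :
    FinFr.endConstAdd (FrobContract7.fpow p X (m + 1)) n x = x := by
  induction m generalizing x with
  | zero =>
    rw [FrobContract7.fpow_succ, FrobContract7.fpow_zero, Category.comp_id, endConstAdd_frob]
  | succ m ih =>
    rw [FrobContract7.fpow_succ, ← endConstAdd_comp, endConstAdd_frob, ih]

end Frob

lemma fpow_spec (p : ℕ) [Fact p.Prime] {A : Type u} [CommRing A] [FrobSch.IsCharP (Spec (CommRingCat.of A)) p]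
    (φ : A →+* A) (m : ℕ) (hφ : ∀ a, φ a = a ^ p ^ m) :
    Spec.map (CommRingCat.ofHom φ) = FrobContract7.fpow p (Spec (CommRingCat.of A)) m := by
  refine ext_of_isAffine ?_
  ext s
  rw [FrobContract7.fpow_appTop]
  have h := ConcreteCategory.congr_hom (Scheme.ΓSpecIso_naturality (CommRingCat.ofHom φ)) s
  apply (Scheme.ΓSpecIso (CommRingCat.of A)).commRingCatIsoToRingEquiv.injective
  rw [map_pow]
  refine h.trans ?_
  exact hφ _

variable {k K : Type u} [Field k] [Field K] [Algebra k K] {X₀ : Scheme.{u}} (a : X₀ ⟶ Spec (CommRingCat.of k))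

lemma galH_eq (σ : K ≃ₐ[k] K) (n : ℕ)
    (x : EtCoh.H (FinFr.ext K a) ((EtCoh.pull (FinFr.extπ K a)).obj (EtCoh.const X₀ Λ)) n) :
    FinFr.galH a σ (EtCoh.const X₀ Λ) n x =
      Sheaf.H.map (EtCore.pullConst (FinFr.extπ K a) Λ).inv n
        (FinFr.endConstAdd (Λ := Λ) (FinFr.galAct a σ) n
          (Sheaf.H.map (EtCore.pullConst (FinFr.extπ K a) Λ).hom n x)) := by
  haveI := FinFr.pullExact_out (FinFr.galAct a σ)
  show (EtCore.Hpull (FinFr.galAct a σ) _ n x).comp (Ext.mk₀ (((EtCore.pullComp (FinFr.galAct a σ) (FinFr.extπ K a)).symm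
      ≪≫ EtCore.pullCongr (FinFr.galAct_fst a σ)).app _).hom) (add_zero n) =
    ((EtCore.Hpull (FinFr.galAct a σ) _ n (x.comp (Ext.mk₀ (EtCore.pullConst (FinFr.extπ K a) Λ).hom) (add_zero n))).comp
      (Ext.mk₀ (EtCore.pullConst (FinFr.galAct a σ) Λ).hom) (add_zero n)).comp
      (Ext.mk₀ (EtCore.pullConst (FinFr.extπ K a) Λ).inv) (add_zero n)
  rw [FieldBr3.Hpull_comp_mk₀, Ext.comp_assoc_of_third_deg_zero, Ext.comp_assoc_of_third_deg_zero,
    Ext.mk₀_comp_mk₀, Ext.mk₀_comp_mk₀, ← Category.assoc,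
    key' (FinFr.galAct a σ) (FinFr.extπ K a) _ (FinFr.galAct_fst a σ), Category.assoc, Iso.hom_inv_id, Category.comp_id]

section main

variable [Fintype k] [Algebra.IsAlgebraic k K]

theorem extHom_eq (p : ℕ) [Fact p.Prime] [CharP k p] (r : ℕ) (hr : Fintype.card k = p ^ r)
    (R : Type u) [CommRing R] [Algebra k R] (φ : R →+* R) (hφ : ∀ t : R, φ t = t ^ Fintype.card k)
    (hw : Spec.map (CommRingCat.ofHom φ) ≫ Spec.map (CommRingCat.ofHom (algebraMap k R)) =
      Spec.map (CommRingCat.ofHom (algebraMap k R))) :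
    haveI : FrobSch.IsCharP (FinFr.ext K (Spec.map (CommRingCat.ofHom (algebraMap k R)))) p :=
      FrobSch.IsCharP.of_hom (FinFr.extπ K (Spec.map (CommRingCat.ofHom (algebraMap k R))) ≫
        Spec.map (CommRingCat.ofHom (algebraMap k R))) p
    FinFr.extHom K (Spec.map (CommRingCat.ofHom (algebraMap k R))) (Spec.map (CommRingCat.ofHom φ)) hw =
      FrobContract7.fpow p (FinFr.ext K (Spec.map (CommRingCat.ofHom (algebraMap k R)))) r ≫
        FinFr.galAct (Spec.map (CommRingCat.ofHom (algebraMap k R))) (FinFr.arith k K).symm := by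
  haveI : FrobSch.IsCharP (FinFr.ext K (Spec.map (CommRingCat.ofHom (algebraMap k R)))) p :=
      FrobSch.IsCharP.of_hom (FinFr.extπ K (Spec.map (CommRingCat.ofHom (algebraMap k R))) ≫
        Spec.map (CommRingCat.ofHom (algebraMap k R))) p
  haveI : FrobSch.IsCharP (Spec (CommRingCat.of R)) p :=
    FrobSch.IsCharP.of_hom (Spec.map (CommRingCat.ofHom (algebraMap k R))) p
  haveI : FrobSch.IsCharP (Spec (CommRingCat.of K)) p := FrobSch.IsCharP.of_hom (FinFr.specι k K) p
  apply pullback.hom_ext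
  · rw [FinFr.extHom_fst, Category.assoc, FinFr.galAct_fst, FrobContract7.fpow_comp,
      fpow_spec p φ r (fun t => (hφ t).trans (by rw [hr]))]
  · rw [Category.assoc, FinFr.galAct_snd, ← Category.assoc, FrobContract7.fpow_comp, Category.assoc,
      ← fpow_spec p (FinFr.arith k K : K →+* K) r (fun t => by
        show FiniteField.frobeniusAlgEquivOfAlgebraic k K t = _
        rw [← hr]; rfl),
      ← Spec.map_comp]
    rw [show FinFr.extHom K (Spec.map (CommRingCat.ofHom (algebraMap k R))) (Spec.map (CommRingCat.ofHom φ)) hw ≫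
        pullback.snd _ _ = pullback.snd _ _ ≫ 𝟙 _ from pullback.lift_snd _ _ _]
    congr 1
    rw [← CommRingCat.ofHom_comp]
    refine (Spec.map_id _).symm.trans (congrArg Spec.map ?_)
    ext t
    exact ((FinFr.arith k K).apply_symm_apply t).symm

end main

end helpers

/-- For an affine scheme and constant coefficients, pullback along the Frobenius endomorphism equals the
geometric Frobenius on cohomology. -/
theorem result (k K : Type u) [Field k] [Fintype k] [Field K] [Algebra k K]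
    [Algebra.IsAlgebraic k K] (Λ : Type) [CommRing Λ] [Fact FinFr.PullExact.{u}]
    (R : Type u) [CommRing R] [Algebra k R] (φ : R →+* R) (hφ : ∀ r : R, φ r = r ^ Fintype.card k)
    (hw : Spec.map (CommRingCat.ofHom φ) ≫ Spec.map (CommRingCat.ofHom (algebraMap k R)) =
      Spec.map (CommRingCat.ofHom (algebraMap k R))) (n : ℕ)
    (x : EtCoh.H (FinFr.ext K (Spec.map (CommRingCat.ofHom (algebraMap k R))))
      (EtLam.pullback (FinFr.extπ K (Spec.map (CommRingCat.ofHom (algebraMap k R)))) (FinFr.constLam Λ (Spec (CommRingCat.of R)))).carrier n) :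
    FinFr.frob (K := K) (Spec.map (CommRingCat.ofHom (algebraMap k R))) (FinFr.constLam Λ (Spec (CommRingCat.of R))) n x =
      Sheaf.H.map (EtCore.pullConst (FinFr.extπ K (Spec.map (CommRingCat.ofHom (algebraMap k R)))) Λ).inv n
        (FinFr.endConstAdd (Λ := Λ) (FinFr.extHom K (Spec.map (CommRingCat.ofHom (algebraMap k R))) (Spec.map (CommRingCat.ofHom φ)) hw) n
          (Sheaf.H.map (EtCore.pullConst (FinFr.extπ K (Spec.map (CommRingCat.ofHom (algebraMap k R)))) Λ).hom n x)) := by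
  obtain ⟨p, hp⟩ := CharP.exists k
  obtain ⟨⟨r, hr0⟩, hprime, hr⟩ := FiniteField.card k p
  haveI : Fact p.Prime := ⟨hprime⟩
  haveI : FrobSch.IsCharP (FinFr.ext K (Spec.map (CommRingCat.ofHom (algebraMap k R)))) p :=
      FrobSch.IsCharP.of_hom (FinFr.extπ K (Spec.map (CommRingCat.ofHom (algebraMap k R))) ≫
        Spec.map (CommRingCat.ofHom (algebraMap k R))) p
  obtain ⟨m, rfl⟩ := Nat.exists_eq_succ_of_ne_zero hr0.ne'
  refine (galH_eq (Λ := Λ) (Spec.map (CommRingCat.ofHom (algebraMap k R))) (FinFr.arith k K).symm n x).trans ?_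
  refine DFunLike.congr_arg (Sheaf.H.map (EtCore.pullConst (FinFr.extπ K (Spec.map (CommRingCat.ofHom (algebraMap k R)))) Λ).inv n) ?_
  rw [extHom_eq p (m + 1) hr R φ hφ hw, ← endConstAdd_comp, endConstAdd_fpow]

end Groth.Agent.S4263
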