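import Groth.Statements.S4268
import Groth.Agent.Lib.Exact8.ProjPush2

set_option autoImplicit false
universe u
open CategoryTheory CategoryTheory.Limits AlgebraicGeometry
attribute [local instance] HasDerivedCategory.standard
open KSix

namespace Groth.Agent.S4268


/-- In the case where f is projective, over an arbitrary base: let Y be a scheme, i : X ⟶ P^r_Y a closed
immersion and f : X ⟶ Y the composite with the projection; suppose f is a perfect morphism and let E
be a bounded below perfect object of D(O_X). Assuming Rf_* exists, Rf_*E is perfect on Y. (The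
source allows a closed immersion into any P(F) with F quasi-coherent of finite type on Y.) -/
theorem result {X Y : Scheme.{u}} (r : ℕ)
    (i : X ⟶ CohB1.ProjSpaceOver r Y) [IsClosedImmersion i]
    (hf : MoreMor.IsPerfectMor (i ≫ CohB1.ProjSpaceOver.toBase r Y)) [DCoh.HasRpush (i ≫ CohB1.ProjSpaceOver.toBase r Y)]
    (E : DCoh.D X) (b : ℤ) [E.IsGE b] (hE : DCoh.IsPerfect E) :
    DCoh.IsPerfect ((DCoh.Rpush (i ≫ CohB1.ProjSpaceOver.toBase r Y)).obj E) := by
  let F := (DerivedCategory.Q (C := X.Modules)).objPreimage E
  let e : DCoh.toD X F ≅ E := DerivedCategory.Q.objObjPreimageIso E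
  have hF := Exact8.isPerfectRel_of_isPerfectMor _ hf F (DGen9.isPerfect_of_iso e.symm hE)
  exact DGen9.isPerfect_of_iso ((DCoh.Rpush _).mapIso e) (Exact8.isPerfect_rpush_proj_of_perfectRel r i F hF).2


end Groth.Agent.S4268
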