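import Groth.Statements.S4272
import Groth.Agent.Lib.Chow13.Main
import Groth.Agent.Lib.CubeField.DivSection

set_option autoImplicit false
set_option backward.isDefEq.respectTransparency false
open TopologicalSpace
universe u
open CategoryTheory CategoryTheory.Limits AlgebraicGeometry
attribute [local instance] HasDerivedCategory.standard
open KSix

namespace Groth.Agent.S4272

/-- A separated Noetherian scheme whose local rings are factorial (unique factorisation domains) is
divisorial, i.e. admits an ample family of invertible modules. -/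
theorem result (X : Scheme.{u}) [IsNoetherian X] [X.IsSeparated]
    (hfact : ∀ x : X, ∃ _ : IsDomain (X.presheaf.stalk x), UniqueFactorizationMonoid (X.presheaf.stalk x)) :
    MoreMor.HasAmpleFamily X := by
  refine ⟨inferInstance, fun x => ?_⟩
  have hΔ : ∀ V W : X.Opens, IsAffineOpen V → IsAffineOpen W → IsAffineOpen (V ⊓ W) :=
    fun V W hV hW => hV.inf hW
  obtain ⟨U, hU, hxU, hgU⟩ :=
    Groth.Agent.Chow13.exists_dense_affineOpen (X := X) NoetherianSpace.finite_irreducibleComponents x
  have hdense : Dense (U : Set X) := fun y => by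
    let g := genericPoints.ofComponent
      (⟨irreducibleComponent y, irreducibleComponent_mem_irreducibleComponents y⟩ : irreducibleComponents (X : Type u))
    have hs : g.1 ⤳ y := (genericPoints.isGenericPoint_ofComponent _).specializes mem_irreducibleComponent
    exact closure_mono (Set.singleton_subset_iff.2 (hgU g.2)) hs.mem_closure
  obtain ⟨I, hI, hsupp⟩ := Groth.Agent.SecDiv.exists_effCartier_compl hΔ U hU hdense fun y _ => by
    obtain ⟨h1, h2⟩ := hfact y
    exact ⟨h1, h2⟩
  obtain ⟨N, hN, -, s, hs⟩ := Groth.Agent.CubeField.exists_inverse_section_of_effCartier hI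
  have hgl : CohB1.genLocus N s = U := Opens.ext (by rw [hs, hsupp, compl_compl])
  refine ⟨N, 1, s ≫ (Groth.Agent.M2.tensorPowOne N).inv, hN, le_rfl, ?_, ?_⟩
  · rw [← Iso.symm_hom, Groth.Agent.Amp.genLocus_comp_iso, hgl]; exact hxU
  · rw [← Iso.symm_hom, Groth.Agent.Amp.genLocus_comp_iso, hgl]; exact hU

end Groth.Agent.S4272
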