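import Groth.Statements.S4274
import Groth.Agent.Lib.AmpleRes8.Main

set_option autoImplicit false
universe u
open CategoryTheory CategoryTheory.Limits AlgebraicGeometry
attribute [local instance] HasDerivedCategory.standard
open KSix

namespace Groth.Agent.S4274


/-- Existence of global resolutions: let X be a scheme with an ample family (L_i) of invertible modules,
and assume X separated or Noetherian. Every pseudo-coherent object E of D(O_X) with bounded
cohomology is isomorphic in D(O_X) to (the image of) a bounded above complex F all of whose terms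
are finite direct sums of modules L_j^{⊗ -k} with k > 0. -/
theorem result (X : Scheme.{u}) {ι : Type u} (L : ι → X.Modules)
    (hL : KSix.IsAmpleFamily L) (hX : X.IsSeparated ∨ IsNoetherian X)
    (E : DCoh.D X) (hE : ∀ k : ℤ, DCoh.IsPseudoCoherentD k E) (a b : ℤ) [E.IsGE a] [E.IsLE b] :
    ∃ (F : CochainComplex X.Modules ℤ) (c : ℤ), (∀ i : ℤ, c < i → IsZero (F.X i)) ∧ (∀ i : ℤ, KSix.InAddL L (F.X i)) ∧
      Nonempty (DCoh.toD X F ≅ E) := by
---
  obtain ⟨F, h1, h2, h3⟩ := Groth.Agent.AmpleRes8.exists_resolution L hL E hE b
    (fun i hi => DerivedCategory.isZero_of_isLE E b i hi)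
  exact ⟨F, b, h1, h2, h3⟩


end Groth.Agent.S4274
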