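import Groth.Statements.S4280
import Groth.Agent.Lib.NumPoly18.TauEuler

set_option autoImplicit false
universe u
open CategoryTheory CategoryTheory.Limits AlgebraicGeometry
open Pic13

open Groth.Agent Groth.Agent.NumPoly18
namespace Groth.Agent.S4280

/-- Let k be an algebraically closed field, X a proper k-scheme carrying an ample invertible module H,
and L an invertible O_X-module, with inverse L', which is τ-equivalent to zero. Then L^{⊗ m} ⊗ H and
L'^{⊗ m} ⊗ H are ample for every m ≥ 0. -/
theorem result (k : Type u) [Field k] [IsAlgClosed k] (X : Scheme.{u}) [X.Over (Spec (CommRingCat.of k))]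
    [IsProper (X ↘ Spec (CommRingCat.of k))]
    (H : X.Modules) (hH : CohB1.IsAmple H) (L L' : X.Modules) (hL : PicF.IsInvertible L)
    (hLL' : Nonempty (CohB1.tensorMod L L' ≅ Coh.structureModule X)) (hτ : Pic13.IsTauEquivZero k X L) (m : ℕ) :
    CohB1.IsAmple (CohB1.tensorMod (CohB1.tensorPow L m) H) ∧ CohB1.IsAmple (CohB1.tensorMod (CohB1.tensorPow L' m) H) := by
  obtain ⟨d, hd⟩ := NumPoly18.exists_dim_le k X
  obtain ⟨e⟩ := hLL'
  have hL' : PicF.IsInvertible L' := M2.isInvertible_of_tensor_iso_unit L' L (M2.tensorComm L' L ≪≫ e)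
  have h1 := NumPoly18.isAmple_tensor_of_nef (k := k) hH (M2.isInvertible_tensorPow hL m)
    ((NumPoly18.nef_of_tau hd hL hτ).pow hL m)
  have h2 := NumPoly18.isAmple_tensor_of_nef (k := k) hH (M2.isInvertible_tensorPow hL' m)
    ((NumPoly18.nef_inverse_of_tau hd hL hL' e hτ).pow hL' m)
  exact ⟨Amp.isAmple_of_iso (M2.tensorComm _ _) h1, Amp.isAmple_of_iso (M2.tensorComm _ _) h2⟩

end Groth.Agent.S4280
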