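import Groth.Statements.S4285
import Groth.Agent.Lib.CMReg18.QuotFam

set_option autoImplicit false
universe u
open CategoryTheory CategoryTheory.Limits AlgebraicGeometry
open Pic13

open Groth.Agent Groth.Agent.CMReg18
namespace Groth.Agent.S4285

/-- (iii) implies (i), over the base S = Spec k with k algebraically closed: let X ⊆ P^n_k be a closed
subscheme, m an integer and φ a polynomial. The family of coherent O_X-modules F which are m-regular
(H^q(X, F(m - q)) = 0 for q ≥ 1) and have Hilbert polynomial φ (χ(F(d)) = φ(d) for all integers d)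
is bounded. (The source allows a finite set of Hilbert polynomials and a projective X over a
Noetherian base with O_X(1) generated by global sections on the fibres.) -/
theorem result (k : Type u) [Field k] [IsAlgClosed k] (n : ℕ) (X : Scheme.{u}) [X.Over (Spec (CommRingCat.of k))]
    (i : X ⟶ CohB1.ProjSpace n k) [IsClosedImmersion i] (hi : i ≫ CohB1.ProjSpace.toSpec n k = X ↘ Spec (CommRingCat.of k))
    (m : ℤ) (φ : Polynomial ℚ) :
    Pic13.IsBounded k X (fun F : X.Modules => Coh.IsCoh F ∧ Pic13.IsMRegular k i F m ∧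
      ∀ d : ℤ, (FGA.eulerCharLE k X (Pic13.twistOn k i F d) n : ℚ) = φ.eval (d : ℚ)) := by
  haveI := isProper_projSpace k (n := n)
  haveI : IsProper (X ↘ Spec (CommRingCat.of k)) := NumPoly18.isProper_of_closedImmersion i hi
  have hfin : {f : ℤ → ℤ | ∀ d : ℤ, (f d : ℚ) = φ.eval (d : ℚ)}.Finite :=
    Set.Subsingleton.finite fun f hf g hg => funext fun d => by exact_mod_cast (hf d).trans (hg d).symm
  obtain ⟨T, q, h1, h2, G, h3, h4⟩ := isBounded_regular i hi m hfin
  refine ⟨T, q, h1, h2, G, h3, fun F hF => h4 F ⟨hF.1, hF.2.1, fun d => ?_⟩⟩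
  show ((Curv2.euler k X (((projData k n).pullback i).tw F d) : ℤ) : ℚ) = _
  rw [← eulerCharLE_twistOn i hi hF.1]
  exact hF.2.2 d

end Groth.Agent.S4285
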