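import Groth.Statements.S4297
import Groth.Agent.Lib.PCoh.Infinite

set_option autoImplicit false
universe w v u
open CategoryTheory CategoryTheory.Limits
open PCoh

namespace Groth.Agent.S4297


/-- Punctual site: faithfulness of K⁻(C₀)/(acyclic complexes) ⟶ D(C): let C be an abelian category and
C₀ a strictly full additive subcategory, quasi-stable under kernels of epimorphisms and
quasi-liftable. If two chain maps f, g : E ⟶ E' between bounded above complexes with terms in C₀
have the same image in D(C), then there are a bounded above complex E'' with terms in C₀ and a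
quasi-isomorphism s : E'' ⟶ E such that s ≫ f and s ≫ g are homotopic. -/
theorem result {C : Type u} [Category.{v} C] [Abelian C] [HasDerivedCategory.{w} C]
    (P : ObjectProperty C) [P.IsClosedUnderIsomorphisms] [P.ContainsZero] (hsum : ∀ X Y : C, P X → P Y → P (X ⨯ Y))
    (hqs : PCoh.IsQuasiStableUnderKernels P) (hql : PCoh.IsQuasiLiftable P)
    (E E' : CochainComplex C ℤ) (hE : PCoh.IsStrictPCAll P E) (hE' : PCoh.IsStrictPCAll P E')
    (f g : E ⟶ E') (hfg : DerivedCategory.Q.map f = DerivedCategory.Q.map g) :
    ∃ (E'' : CochainComplex C ℤ) (s : E'' ⟶ E), PCoh.IsStrictPCAll P E'' ∧ QuasiIso s ∧ Nonempty (Homotopy (s ≫ f) (s ≫ g)) := by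
  have h : DerivedCategory.Qh.map ((HomotopyCategory.quotient C (ComplexShape.up ℤ)).map f) =
      DerivedCategory.Qh.map ((HomotopyCategory.quotient C (ComplexShape.up ℤ)).map g) := hfg
  obtain ⟨G, s, hs, fac⟩ := (MorphismProperty.map_eq_iff_precomp DerivedCategory.Qh
    (HomotopyCategory.quasiIso C (ComplexShape.up ℤ)) _ _).1 h
  obtain ⟨G, rfl⟩ := HomotopyCategory.quotient_obj_surjective G
  obtain ⟨s, rfl⟩ := (HomotopyCategory.quotient _ _).map_surjective s
  have hs' : QuasiIso s := (HomotopyCategory.quotient_map_mem_quasiIso_iff s).1 hs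
  obtain ⟨E'', v, hE'', hv⟩ := PCoh.exists_strictAll_quasiIso_to hsum hqs hql hE s
  refine ⟨E'', v ≫ s, hE'', inferInstance, ⟨HomotopyCategory.homotopyOfEq _ _ ?_⟩⟩
  rw [Category.assoc, Category.assoc, Functor.map_comp, Functor.map_comp]
  exact congrArg _ (((Functor.map_comp _ _ _).trans fac).trans (Functor.map_comp _ _ _).symm)


end Groth.Agent.S4297
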