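import Groth.Statements.S4302
import Groth.Agent.Lib.Exact8.ProjPush2
import Groth.Agent.Lib.Exact8.ProjAmp
import Groth.Agent.Lib.RelPCS8.PerfAmp
import Groth.Agent.Lib.RelPCS8.FlatTerms
import Groth.Agent.Lib.DGen9.RelLocal

set_option autoImplicit false
universe u
open CategoryTheory CategoryTheory.Limits AlgebraicGeometry
attribute [local instance] HasDerivedCategory.standard
open KSix Pretriangulated ZeroObject

namespace Groth.Agent.S4302


/-- Over an affine base Y, through the embedding criterion for perfect amplitude: let i : X ⟶ P^r_Y be a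
closed immersion with Y affine, f : X ⟶ Y the composite with the projection, and E a bounded object
of D(O_X) such that Ri_*E has perfect amplitude in [a, b] on P^r_Y. Assuming the derived functors
exist, Rf_*E has perfect amplitude in [a, b + r] on Y (r bounds the cohomological dimension of f on
quasi-coherent modules). -/
theorem result {X Y : Scheme.{u}} [IsAffine Y] (r : ℕ)
    (i : X ⟶ CohB1.ProjSpaceOver r Y) [IsClosedImmersion i]
    [DCoh.HasRpush i] [DCoh.HasRpush (i ≫ CohB1.ProjSpaceOver.toBase r Y)]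
    (E : DCoh.D X) (a₀ b₀ : ℤ) [E.IsGE a₀] [E.IsLE b₀] (a b : ℤ)
    (hE : KSix.HasPerfectAmplitudeIn a b ((DCoh.Rpush i).obj E)) :
    KSix.HasPerfectAmplitudeIn a (b + r) ((DCoh.Rpush (i ≫ CohB1.ProjSpaceOver.toBase r Y)).obj E) := by
  let p := CohB1.ProjSpaceOver.toBase r Y
  haveI : DCoh.HasRpush p := DBC9.hasRpush _
  let e := (DPush.compIso i p).app E
  let E' := (DCoh.Rpush i).obj E
  suffices h : KSix.HasPerfectAmplitudeIn a (b + r) ((DCoh.Rpush p).obj E') by
    intro y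
    obtain ⟨V, hyV, hV⟩ := h y
    exact ⟨V, hyV, fun F ⟨eF⟩ => hV F ⟨eF ≪≫ e.symm⟩⟩
  by_cases hab : a ≤ b
  · obtain ⟨h1, h2⟩ := RelPCS8.PerfAmp.of_perfectAmplitude hE
    have hperf : DCoh.IsPerfect E' := DPerf.isPerfect_iff_approx.2 h1
    have hq : DCoh.IsQCohD E' := DGen9.isQCohD_of_isPerfect hperf
    obtain ⟨G, hv, hfl, ⟨eG⟩⟩ := h2
    have hTA : RelPCS8.TorMV.TA p a b E' := RelPCS8.TorMV.ta_iso p eG
      ((RelPCS8.TorMV.ta_toD_iff p a b G).2
        (RelPCS8.hasTorAmplitude_of_flat_terms G a b hv fun k => DPerf.isFlatOver_of_isFlat p (hfl k)))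
    haveI : E'.IsGE a := (DerivedCategory.isGE_iff E' a).2 fun k hk =>
      DPerf.isZero_HD_of_flatAmplitude ⟨G, hv, hfl, ⟨eG⟩⟩ (Or.inl hk)
    have hY := RelPCS8.TorRpush.ta_rpush p (𝟙 Y) p (Category.comp_id p) r
      (Exact8.isZero_hd_rpush_projSpace Y r) hq a hTA
    haveI := RelPCS8.TorRpush.ta_isLE (𝟙 Y) hY
    obtain ⟨I, hI, ⟨eI⟩⟩ := KInjLib.exists_iso_kInjective ((DCoh.Rpush p).obj E')
    haveI : (DCoh.toD Y I).IsLE (b + r) := (DerivedCategory.isLE_iff _ _).2 fun k hk =>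
      (DerivedCategory.isZero_of_isLE ((DCoh.Rpush p).obj E') (b + r) k hk).of_iso
        ((DerivedCategory.homologyFunctor _ k).mapIso eI.symm)
    obtain ⟨H, hHv, hHf, ⟨eH⟩⟩ := (RelPCS8.StalkId.flatAmplitude_iff_torAmp_stalks I (b + r) a (b + r)).2
      ((RelPCS8.TorMV.ta_toD_iff (𝟙 Y) a (b + r) I).1 (RelPCS8.TorMV.ta_iso _ eI hY))
    exact (RelPCS8.PerfAmp.hasPerfectAmplitudeIn_iff _ a (b + r) (by omega)).2
      ⟨DGen9.isPseudoCoherentD_of_isPerfect (PerfPush9.isPerfect_rpush_relPerf p E'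
        (fun m => DGen9.isPseudoCoherentD_of_isPerfect hperf m) (DPerf.locHasFiniteRelTorDim_of_isPerfect _ hperf)) _,
        H, hHv, hHf, ⟨eH ≪≫ eI.symm⟩⟩
  · have hz : IsZero E' := by
      obtain ⟨F, ⟨eF⟩⟩ := Functor.EssSurj.mem_essImage
        (F := (DerivedCategory.Q : CochainComplex _ ℤ ⥤ _)) E'
      refine DMV.isZero_of_hd fun k => ?_
      obtain ⟨G, hv, hfl, ⟨eG⟩⟩ := (RelPCS8.PerfAmp.of_perfectAmplitude hE).2
      exact DPerf.isZero_HD_of_flatAmplitude ⟨G, hv, hfl, ⟨eG⟩⟩ (by omega)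
    obtain ⟨_, _⟩ := DPush.exists_commShift_isTriangulated p
    intro y
    refine ⟨⊤, trivial, fun F ⟨eF⟩ => ⟨0, fun k _ => ?_, fun k => ?_, ⟨?_⟩⟩⟩
    · exact (HomologicalComplex.eval _ _ k).map_isZero (isZero_zero _)
    · exact KFlat.Sch.isFinLocFree_of_isZero ((HomologicalComplex.eval _ _ k).map_isZero (isZero_zero _))
    · exact (((DPerf.resD (⊤ : Y.Opens).ι).map_isZero (((DCoh.Rpush p).map_isZero hz).of_iso eF)).of_iso
        ((DPerf.resFac (⊤ : Y.Opens).ι).app F).symm).iso (DerivedCategory.Q.map_isZero (isZero_zero _))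


end Groth.Agent.S4302
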