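import Groth.Statements.S4303
import Groth.Agent.Lib.CMReg18.Bounded
import Groth.Agent.Lib.NumPoly18.Trans
import Groth.Agent.Lib.NumPoly18.Surf
import Groth.Agent.Lib.NumPoly18.BigNef
import Groth.Agent.Lib.CubeField.Embed

set_option autoImplicit false
universe u
open CategoryTheory CategoryTheory.Limits AlgebraicGeometry
open Pic13

namespace Groth.Agent.S4303


set_option backward.isDefEq.respectTransparency false
set_option maxHeartbeats 800000
open Groth.Agent Groth.Agent.NumPoly18 Groth.Agent.Snapper TopologicalSpace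


variable {k : Type u} [Field k] {X : Scheme.{u}} [X.Over (Spec (CommRingCat.of k))]

theorem bounded_tensor {P : X.Modules → Prop} (hb : Pic13.IsBounded k X P) [IsProper (X ↘ Spec (CommRingCat.of k))]
    {N : X.Modules} (hN : Coh.IsCoh N) :
    Pic13.IsBounded k X (fun G => ∃ L, P L ∧ Nonempty (G ≅ CohB1.tensorMod L N)) := by
  obtain ⟨T, q, hq, hqc, F, hF, h⟩ := hb
  haveI := hq
  haveI : IsLocallyNoetherian T := LocallyOfFiniteType.isLocallyNoetherian q
  haveI : IsLocallyNoetherian (Pic13.prodK k X q) :=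
    LocallyOfFiniteType.isLocallyNoetherian (pullback.snd (X ↘ Spec (CommRingCat.of k)) q)
  refine ⟨T, q, hq, hqc, CohB1.tensorMod F ((Scheme.Modules.pullback (pullback.fst (X ↘ Spec (CommRingCat.of k)) q)).obj N),
    CurveCoh17.isCoh_tensor hF (M1.isCoh_pullback _ hN), fun G hG => ?_⟩
  obtain ⟨L, hL, ⟨e⟩⟩ := hG
  obtain ⟨t, ht, ⟨a⟩⟩ := h L hL
  refine ⟨t, ht, ⟨M2.pullTensorIso (Pic13.sliceAt k X q t ht) F _ ≪≫ M2.tensorIso a
    ((Scheme.Modules.pullbackComp (Pic13.sliceAt k X q t ht) (pullback.fst (X ↘ Spec (CommRingCat.of k)) q)).app N ≪≫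
      (Scheme.Modules.pullbackCongr (show Pic13.sliceAt k X q t ht ≫
        pullback.fst (X ↘ Spec (CommRingCat.of k)) q = 𝟙 X from pullback.lift_fst _ _ _)).app N ≪≫
      (Scheme.Modules.pullbackId X).app N) ≪≫ e.symm⟩⟩

theorem bounded_sq {P : X.Modules → Prop} (hb : Pic13.IsBounded k X P) [IsProper (X ↘ Spec (CommRingCat.of k))] :
    Pic13.IsBounded k X (fun G => ∃ L, P L ∧ Nonempty (G ≅ CohB1.tensorMod L L)) := by
  obtain ⟨T, q, hq, hqc, F, hF, h⟩ := hb
  haveI := hq
  haveI : IsLocallyNoetherian T := LocallyOfFiniteType.isLocallyNoetherian q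
  haveI : IsLocallyNoetherian (Pic13.prodK k X q) :=
    LocallyOfFiniteType.isLocallyNoetherian (pullback.snd (X ↘ Spec (CommRingCat.of k)) q)
  refine ⟨T, q, hq, hqc, CohB1.tensorMod F F, CurveCoh17.isCoh_tensor hF hF, fun G hG => ?_⟩
  obtain ⟨L, hL, ⟨e⟩⟩ := hG
  obtain ⟨t, ht, ⟨a⟩⟩ := h L hL
  exact ⟨t, ht, ⟨M2.pullTensorIso (Pic13.sliceAt k X q t ht) F F ≪≫ M2.tensorIso a a ≪≫ e.symm⟩⟩

/-- The mixed differences of a fixed family of twists are bounded on bounded families. -/
theorem exists_md_bound {A : X.Modules} [IsProper (X ↘ Spec (CommRingCat.of k))] (hA : CohB1.IsAmple A)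
    {P : X.Modules → Prop} (hb : Pic13.IsBounded k X P)
    {r : ℕ} {M : Fin r → X.Modules} (hM : ∀ i, PicF.IsInvertible (M i)) :
    ∃ B : ℚ, ∀ G, P G → |md k M G| ≤ B := by
  classical
  haveI : IsNoetherian X := CohFound.isNoetherian_of_isProper (X ↘ (Spec (CommRingCat.of k)))
  obtain ⟨n, j, hj, hjp⟩ := CubeField.exists_closedImmersion_of_isAmple (X ↘ Spec (CommRingCat.of k)) hA
  haveI := hj
  have hN : ∀ I : Finset (Fin r), Coh.IsCoh (FGA.multiTwist M (ind I)) := fun I =>
    Snapper.isCoh_of_isInvertible (isInvertible_multiTwist hM _)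
  have key : ∀ I : Finset (Fin r), ∃ B : ℚ, ∀ G, P G → |NumPoly18.chi k M G (ind I)| ≤ B := fun I => by
    obtain ⟨m, N, S, hS, hd⟩ := CMReg18.exists_bounded_data j (bounded_tensor hb (hN I))
    obtain ⟨B, hB⟩ := (hS.image fun f : ℤ → ℤ => |(f 0 : ℚ)|).bddAbove
    refine ⟨B, fun G hG => hB ⟨_, (hd _ ⟨G, hG, ⟨Iso.refl _⟩⟩).1, ?_⟩⟩
    simp only [NumPoly18.chi]
    rw [CurveCoh17.euler_iso (CMReg18.TwistData.twZero _ _)]
  choose B hB using key
  refine ⟨∑ I, B I, fun G hG => ?_⟩
  rw [md, mixedDiff]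
  refine (Finset.abs_sum_le_sum_abs _ _).trans (Finset.sum_le_sum fun I _ => ?_)
  rw [abs_mul, abs_pow, abs_neg, abs_one, one_pow, one_mul]
  exact hB I G hG



/-- (i) implies (iii), over S = Spec k with k algebraically closed: let X be a proper integral k-scheme
of dimension r = s + 2 ≥ 2 carrying an ample invertible module H with inverse H', and P a family of
invertible O_X-modules. Condition (iii): as L runs through P (with inverse L'), the degree
(c₁(L)·c₁(H)^{r-1}) stays bounded and (c₁(L)²·c₁(H)^{r-2}) stays bounded below; condition (i): P is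
bounded. Intersection numbers are those of FGA.intNum, taking the inverse modules as arguments. -/
theorem result (k : Type u) [Field k] [IsAlgClosed k] (X : Scheme.{u})
    [X.Over (Spec (CommRingCat.of k))] [IsProper (X ↘ Spec (CommRingCat.of k))] [IsIntegral X] (s : ℕ)
    (hdim : topologicalKrullDim X = (s + 2 : ℕ)) (H H' : X.Modules) (hH : CohB1.IsAmple H)
    (hHH' : Nonempty (CohB1.tensorMod H H' ≅ Coh.structureModule X))
    (P : X.Modules → Prop) (hP : ∀ L, P L → PicF.IsInvertible L)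
    (hb : Pic13.IsBounded k X P) :
    ∃ B : ℤ, ∀ L L' : X.Modules, P L → Nonempty (CohB1.tensorMod L L' ≅ Coh.structureModule X) →
      |FGA.intNum k X (s + 2) (Matrix.vecCons L' (fun _ : Fin (s + 1) => H')) (Coh.structureModule X)| ≤ B ∧
      -B ≤ FGA.intNum k X (s + 2) (Matrix.vecCons L' (Matrix.vecCons L' (fun _ : Fin s => H'))) (Coh.structureModule X) := by
  haveI : IsNoetherian X := CohFound.isNoetherian_of_isProper (X ↘ (Spec (CommRingCat.of k)))
  obtain ⟨eH⟩ := hHH'
  have hH' : PicF.IsInvertible H' := M2.isInvertible_of_tensor_iso_unit H' H (M2.tensorComm H' H ≪≫ eH)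
  have hO := M1.isCoh_structureModule X
  have hr := dim_support_le hdim.le (Coh.structureModule X)
  obtain ⟨B₁, h1⟩ := exists_md_bound (k := k) hH hb (M := fun _ : Fin (s + 1) => H') fun _ => hH'
  obtain ⟨B₂, h2⟩ := exists_md_bound (k := k) hH hb (M := fun _ : Fin s => H') fun _ => hH'
  obtain ⟨B₃, h3⟩ := exists_md_bound (k := k) hH (bounded_sq hb) (M := fun _ : Fin s => H') fun _ => hH'
  let c₁ := md k (fun _ : Fin (s + 1) => H') (Coh.structureModule X)
  let c₂ := md k (fun _ : Fin s => H') (Coh.structureModule X)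
  obtain ⟨B, hB⟩ := exists_nat_ge (max (B₁ + |c₁|) (B₃ + 2 * B₂ + |c₂|))
  refine ⟨(B : ℤ), fun L L' hL hLL' => ?_⟩
  obtain ⟨eL⟩ := hLL'
  have hLi := hP L hL
  have hL' : PicF.IsInvertible L' := M2.isInvertible_of_tensor_iso_unit L' L (M2.tensorComm L' L ≪≫ eL)
  have hM : ∀ i : Fin (s + 1), PicF.IsInvertible ((fun _ : Fin (s + 1) => H') i) := fun _ => hH'
  have hM' : ∀ i : Fin s, PicF.IsInvertible ((fun _ : Fin s => H') i) := fun _ => hH'
  have i1 : (FGA.intNum k X (s + 2) (Matrix.vecCons L' (fun _ : Fin (s + 1) => H')) (Coh.structureModule X) : ℚ) =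
      (-1) ^ (s + 2) * - md k (Fin.cons L (fun _ : Fin (s + 1) => H') : Fin (s + 2) → X.Modules) (Coh.structureModule X) := by
    rw [intNum_eq_mixedDiff hdim.le (M := Matrix.vecCons L' (fun _ : Fin (s + 1) => H')) (NumPoly18.isInvertible_cons hL' hM) hO]
    exact congrArg _ (md_cons_inverse hLi hL' eL hM hO hr)
  have i2 : (FGA.intNum k X (s + 2) (Matrix.vecCons L' (Matrix.vecCons L' (fun _ : Fin s => H'))) (Coh.structureModule X) : ℚ) =
      (-1) ^ (s + 2) * md k (Fin.cons L (Fin.cons L (fun _ : Fin s => H')) : Fin (s + 2) → X.Modules) (Coh.structureModule X) := by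
    rw [intNum_eq_mixedDiff hdim.le (M := Matrix.vecCons L' (Matrix.vecCons L' (fun _ : Fin s => H'))) (NumPoly18.isInvertible_cons hL' (NumPoly18.isInvertible_cons hL' hM')) hO]
    refine congrArg _ ((md_cons_inverse hLi hL' eL (NumPoly18.isInvertible_cons hL' hM') hO hr).trans ?_)
    show -md k (Fin.cons L (Fin.cons L' (fun _ : Fin s => H')) : Fin (s + 2) → X.Modules) (Coh.structureModule X) = _
    rw [md_swap, md_cons_inverse hLi hL' eL (NumPoly18.isInvertible_cons hLi hM') hO hr, neg_neg]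
  have b1 : |md k (Fin.cons L (fun _ : Fin (s + 1) => H') : Fin (s + 2) → X.Modules) (Coh.structureModule X)| ≤ B₁ + |c₁| := by
    rw [md_cons, md_iso _ (M2.tensorLUnit L)]
    exact (abs_sub _ _).trans (add_le_add (h1 L hL) le_rfl)
  have b2 : |md k (Fin.cons L (Fin.cons L (fun _ : Fin s => H')) : Fin (s + 2) → X.Modules) (Coh.structureModule X)| ≤
      B₃ + 2 * B₂ + |c₂| := by
    rw [md_cons, md_cons, md_cons, md_iso _ (M2.tensorIso (M2.tensorLUnit L) (Iso.refl L)), md_iso _ (M2.tensorLUnit L)]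
    have a1 := abs_le.1 (h3 _ ⟨L, hL, ⟨Iso.refl _⟩⟩)
    have a2 := abs_le.1 (h2 L hL)
    have a3 := abs_le.1 (le_refl |c₂|)
    exact abs_le.2 ⟨by linarith [a1.1, a2.2, a2.1, a3.1, a3.2], by linarith [a1.2, a2.1, a2.2, a3.1, a3.2]⟩
  constructor
  · have h : |(FGA.intNum k X (s + 2) (Matrix.vecCons L' (fun _ : Fin (s + 1) => H')) (Coh.structureModule X) : ℚ)| ≤ (B : ℚ) := by
      rw [i1, abs_mul, abs_pow, abs_neg, abs_one, one_pow, one_mul, abs_neg]
      exact b1.trans ((le_max_left _ _).trans hB)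
    exact_mod_cast h
  · have h : |(FGA.intNum k X (s + 2) (Matrix.vecCons L' (Matrix.vecCons L' (fun _ : Fin s => H'))) (Coh.structureModule X) : ℚ)| ≤ (B : ℚ) := by
      rw [i2, abs_mul, abs_pow, abs_neg, abs_one, one_pow, one_mul]
      exact b2.trans ((le_max_right _ _).trans hB)
    have h' := (abs_le.1 h).1
    exact_mod_cast h'

end Groth.Agent.S4303
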