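import Groth.Statements.S4305
import Groth.Agent.Lib.NumPoly18.TauEuler

set_option autoImplicit false
universe u
open CategoryTheory CategoryTheory.Limits AlgebraicGeometry
open Pic13

open Groth.Agent Groth.Agent.NumPoly18
namespace Groth.Agent.S4305

/-- Let k be an algebraically closed field, X an irreducible proper k-scheme of dimension ≤ d carrying
an ample invertible module H with inverse H', and L an invertible module with inverse L'. Condition
(v): χ(L^{⊗ m} ⊗ H^{⊗ n}) = χ(H^{⊗ n}) for all integers m, n — written with natural exponents on L,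
L', H, H' to cover all signs, Euler characteristics in degrees ≤ d; condition (i): L is τ-equivalent
to zero. -/
theorem result (k : Type u) [Field k] [IsAlgClosed k] (X : Scheme.{u})
    [X.Over (Spec (CommRingCat.of k))] [IsProper (X ↘ Spec (CommRingCat.of k))] [IrreducibleSpace X]
    (d : ℕ) (hd : topologicalKrullDim X ≤ d) (H H' L L' : X.Modules) (hH : CohB1.IsAmple H) (hL : PicF.IsInvertible L)
    (hHH' : Nonempty (CohB1.tensorMod H H' ≅ Coh.structureModule X)) (hLL' : Nonempty (CohB1.tensorMod L L' ≅ Coh.structureModule X))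
    (hτ : Pic13.IsTauEquivZero k X L) :
    ∀ m n : ℕ,
      FGA.eulerCharLE k X (CohB1.tensorMod (CohB1.tensorPow L m) (CohB1.tensorPow H n)) d = FGA.eulerCharLE k X (CohB1.tensorPow H n) d ∧
      FGA.eulerCharLE k X (CohB1.tensorMod (CohB1.tensorPow L m) (CohB1.tensorPow H' n)) d = FGA.eulerCharLE k X (CohB1.tensorPow H' n) d ∧
      FGA.eulerCharLE k X (CohB1.tensorMod (CohB1.tensorPow L' m) (CohB1.tensorPow H n)) d = FGA.eulerCharLE k X (CohB1.tensorPow H n) d ∧
      FGA.eulerCharLE k X (CohB1.tensorMod (CohB1.tensorPow L' m) (CohB1.tensorPow H' n)) d = FGA.eulerCharLE k X (CohB1.tensorPow H' n) d := by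
  haveI : IsNoetherian X := CohFound.isNoetherian_of_isProper (X ↘ Spec (CommRingCat.of k))
  obtain ⟨e⟩ := hLL'
  obtain ⟨eH⟩ := hHH'
  have hL' : PicF.IsInvertible L' := M2.isInvertible_of_tensor_iso_unit L' L (M2.tensorComm L' L ≪≫ e)
  have hH' : PicF.IsInvertible H' := M2.isInvertible_of_tensor_iso_unit H' H (M2.tensorComm H' H ≪≫ eH)
  intro m n
  have key : ∀ (B : X.Modules), PicF.IsInvertible B → ∀ (P : X.Modules), PicF.IsInvertible P →
      Curv2.euler k X (CohB1.tensorMod B P) = Curv2.euler k X B →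
      FGA.eulerCharLE k X (CohB1.tensorMod P B) d = FGA.eulerCharLE k X B d := fun B hB P hP h => by
    rw [Snapper.eulerCharLE_eq_euler d hd (Snapper.isCoh_of_isInvertible (M2.isInvertible_tensor hP hB)),
      Snapper.eulerCharLE_eq_euler d hd (Snapper.isCoh_of_isInvertible hB),
      CurveCoh17.euler_iso (M2.tensorComm P B), h]
  have hB := M2.isInvertible_tensorPow hH.1 n
  have hB' := M2.isInvertible_tensorPow hH' n
  exact ⟨key _ hB _ (M2.isInvertible_tensorPow hL m)
      (NumPoly18.euler_tensorPow_eq_of_tau hd hL hτ (Snapper.isCoh_of_isInvertible hB) m),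
    key _ hB' _ (M2.isInvertible_tensorPow hL m)
      (NumPoly18.euler_tensorPow_eq_of_tau hd hL hτ (Snapper.isCoh_of_isInvertible hB') m),
    key _ hB _ (M2.isInvertible_tensorPow hL' m)
      (NumPoly18.euler_tensorPow_inverse_eq_of_tau hd hL hL' e hτ (Snapper.isCoh_of_isInvertible hB) m),
    key _ hB' _ (M2.isInvertible_tensorPow hL' m)
      (NumPoly18.euler_tensorPow_inverse_eq_of_tau hd hL hL' e hτ (Snapper.isCoh_of_isInvertible hB') m)⟩

end Groth.Agent.S4305
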