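import Groth.Statements.S4329
import Groth.Agent.Lib.EtStalk.Push
import Groth.Agent.Lib.FibLocal8.Criterion
import Groth.Agent.Lib.DPush.Comp
import Groth.Agent.Lib.RPlusComp3.Basic

set_option autoImplicit false
universe u
open CategoryTheory CategoryTheory.Limits AlgebraicGeometry Opposite
attribute [local instance] HasDerivedCategory.standard
open EtSix

namespace Groth.Agent.S4329

open Groth.Agent

theorem isIso_compUnit_app {X Y Z : Scheme.{u}} (f : X ⟶ Y) (g : Y ⟶ Z)
    [DCoh.HasRpushEt X f] [DCoh.HasRpushEt Y g] (I : CochainComplex (EtCoh.Ab X) ℤ) [I.IsKInjective] :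
    IsIso ((EtSix.compUnit f g).app ((HomotopyCategory.quotient (EtCoh.Ab X) (ComplexShape.up ℤ)).obj I)) := by
  haveI : PreservesFiniteLimits (EtCoh.pull f) := EtStalk.preservesFiniteLimits_pull f
  haveI : PreservesFiniteColimits (EtCoh.pull f) :=
    haveI := (EtCoh.pullPushAdj f).leftAdjoint_preservesColimits
    inferInstance
  haveI : (EtCoh.pull f).Additive := (EtCoh.pullPushAdj f).left_adjoint_additive
  haveI : CochainComplex.IsKInjective (((EtCoh.push f).mapHomologicalComplex (ComplexShape.up ℤ)).obj I) :=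
    FibLocal8.isKInjective_push (EtCoh.pullPushAdj f) I
  have h : KInjLib.EnoughKInj (EtCoh.Ab X) := KInjLib.enoughKInj_of_grothendieck
  have h' : KInjLib.EnoughKInj (EtCoh.Ab Y) := KInjLib.enoughKInj_of_grothendieck
  haveI h1 : IsIso (((DCoh.pushEtKh Y g).totalRightDerivedUnit DerivedCategory.Qh
      (HomotopyCategory.quasiIso (EtCoh.Ab Y) (ComplexShape.up ℤ))).app
      (((EtCoh.push f).mapHomotopyCategory (ComplexShape.up ℤ)).obj
      ((HomotopyCategory.quotient (EtCoh.Ab X) (ComplexShape.up ℤ)).obj I))) :=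
    KInjLib.isIso_app_of_isKInjective h' ((DCoh.pushEtKh Y g).totalRightDerivedUnit DerivedCategory.Qh
      (HomotopyCategory.quasiIso (EtCoh.Ab Y) (ComplexShape.up ℤ)))
      (((EtCoh.push f).mapHomologicalComplex (ComplexShape.up ℤ)).obj I)
  haveI h2 : IsIso (((DCoh.pushEtKh X f).totalRightDerivedUnit DerivedCategory.Qh
      (HomotopyCategory.quasiIso (EtCoh.Ab X) (ComplexShape.up ℤ))).app
      ((HomotopyCategory.quotient (EtCoh.Ab X) (ComplexShape.up ℤ)).obj I)) :=
    KInjLib.isIso_app_of_isKInjective h _ I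
  haveI h0 : IsIso (NatTrans.mapHomotopyCategory (EtCoh.pushComp g f).inv (ComplexShape.up ℤ)) :=
    ⟨NatTrans.mapHomotopyCategory (EtCoh.pushComp g f).hom _,
      by rw [← NatTrans.mapHomotopyCategory_comp, Iso.inv_hom_id, NatTrans.mapHomotopyCategory_id],
      by rw [← NatTrans.mapHomotopyCategory_comp, Iso.hom_inv_id, NatTrans.mapHomotopyCategory_id]⟩
  simp only [EtSix.compUnit, NatTrans.comp_app, Functor.whiskerLeft_app, Functor.whiskerRight_app,
    Functor.associator_inv_app, Functor.associator_hom_app]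
  refine @IsIso.comp_isIso _ _ _ _ _ _ _ inferInstance ?_
  refine @IsIso.comp_isIso _ _ _ _ _ _ _ inferInstance ?_
  refine @IsIso.comp_isIso _ _ _ _ _ _ _ h1 ?_
  refine @IsIso.comp_isIso _ _ _ _ _ _ _ inferInstance ?_
  refine @IsIso.comp_isIso _ _ _ _ _ _ _ ?_ inferInstance
  exact @Functor.map_isIso _ _ _ _ _ _ (DCoh.RpushEt Y g) _ h2

/-- Composition of derived direct images: for the small etale sites of schemes and abelian sheaves: let
f : X -> Y and g : Y -> Z be morphisms of schemes and assume the unbounded derived direct images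
Rf_*, Rg_* and R(g ∘ f)_* exist (they do; the existence is recorded as instance hypotheses). Then
the canonical morphism R(g ∘ f)_* -> Rg_* ∘ Rf_* of functors D(X_et) -> D(Z_et), induced by (g ∘
f)_* ≅ g_* ∘ f_* through the universal property of R(g ∘ f)_* as a right derived functor, is an
isomorphism. -/
theorem result {X Y Z : Scheme.{u}} (f : X ⟶ Y) (g : Y ⟶ Z)
    [DCoh.HasRpushEt X f] [DCoh.HasRpushEt Y g] [DCoh.HasRpushEt X (f ≫ g)] :
    IsIso (EtSix.compMap f g) := by
  rw [NatTrans.isIso_iff_isIso_app]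
  intro K
  obtain ⟨I, hI, ⟨e⟩⟩ := KInjLib.exists_iso_kInjective K
  rw [NatTrans.isIso_app_iff_of_iso (EtSix.compMap f g)
    (e ≪≫ ((DerivedCategory.quotientCompQhIso (EtCoh.Ab X)).app I).symm)]
  let u := (DCoh.pushEtKh X (f ≫ g)).totalRightDerivedUnit DerivedCategory.Qh
    (HomotopyCategory.quasiIso (EtCoh.Ab X) (ComplexShape.up ℤ))
  haveI := KInjLib.isIso_app_of_isKInjective KInjLib.enoughKInj_of_grothendieck u I
  haveI : IsIso (u.app ((HomotopyCategory.quotient (EtCoh.Ab X) (ComplexShape.up ℤ)).obj I) ≫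
      (EtSix.compMap f g).app (DerivedCategory.Qh.obj ((HomotopyCategory.quotient (EtCoh.Ab X) (ComplexShape.up ℤ)).obj I))) := by
    rw [EtSix.compMap, Functor.rightDerived_fac_app]
    exact isIso_compUnit_app f g I
  change IsIso ((EtSix.compMap f g).app (DerivedCategory.Qh.obj ((HomotopyCategory.quotient (EtCoh.Ab X) (ComplexShape.up ℤ)).obj I)))
  exact IsIso.of_isIso_comp_left (u.app _) _

end Groth.Agent.S4329
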