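import Groth.Statements.S4334
import Groth.Agent.Lib.CurveFin32.Base
import Groth.Agent.Lib.HdgLef1.Geo

set_option autoImplicit false
universe u
open CategoryTheory CategoryTheory.Limits AlgebraicGeometry Opposite
open EtSix

namespace Groth.Agent.S4334

/-- The degree-two step in canonical form: let X be a smooth projective curve over an algebraically
closed field k (here: X integral, with a proper morphism X -> Spec k that is smooth of relative
dimension 1), and n an integer that is nonzero in k, so that the n-th power map on G_m is an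
epimorphism of sheaves on the small etale site (taken as the hypothesis h). Then the boundary map
H^1(X, G_m) -> H^2(X, μ_n) of the Kummer sequence is surjective, and its kernel is the image of
multiplication by n on H^1(X, G_m). -/
theorem result (k : Type u) [Field k] [IsAlgClosed k] {X : Scheme.{u}} [IsIntegral X]
    (f : X ⟶ Spec (CommRingCat.of k)) [IsProper f] [SmoothOfRelativeDimension 1 f]
    (n : ℕ) (hn : (n : k) ≠ 0) (h : Epi (EtCoh.powMap X n)) :
    Function.Surjective (EtSix.kummerBoundary h 1) ∧
      (EtSix.kummerBoundary h 1).ker = (n • AddMonoidHom.id (EtCoh.H X (EtCoh.Gm X) 1)).range := by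
  have hdim : topologicalKrullDim X ≤ 1 :=
    (Groth.Agent.HdgLef1.dim_eq_of_smoothOfRelativeDimension k f 1).le.trans (by norm_num)
  haveI := SmoothOfRelativeDimension.smooth 1 f
  have key : ∀ (m : ℕ), (m : k) ≠ 0 → ∀ ξ : EtCoh.H X (EtCoh.Gm X) 2, m • ξ = 0 → ξ = 0 := fun m => by
    induction m using Nat.strong_induction_on with
    | _ m ih =>
      intro hm ξ hξ
      rcases eq_or_ne m 1 with rfl | h1
      · rwa [one_smul] at hξ
      obtain ⟨ℓ, hℓ, d, rfl⟩ := Nat.exists_prime_and_dvd h1
      rw [Nat.cast_mul, mul_ne_zero_iff] at hm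
      have hd0 : 0 < d := Nat.pos_of_ne_zero fun h => hm.2 (by simp [h])
      refine ih d (lt_mul_of_one_lt_left hd0 hℓ.one_lt) hm.2 ξ ?_
      refine Groth.Agent.PBC24.eq_zero_of_pow_nsmul_curve f hdim hℓ hm.1 le_rfl _ (e := 1) ?_
      rw [pow_one, ← mul_nsmul']
      exact hξ
  have hS := EtSix.kummerShortExact h
  refine ⟨fun y => ?_, ?_⟩
  · have h0 : y.comp (CategoryTheory.Abelian.Ext.mk₀ (EtCoh.muι X n)) (add_zero 2) = 0 := by
      refine key n hn _ ?_
      rw [← Groth.Agent.CurveFin32.comp_powMap]
      exact Groth.Agent.CurveFin32.comp_mk₀_eq_zero (kernel.condition _) y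
    obtain ⟨c, hc⟩ := CategoryTheory.Abelian.Ext.covariant_sequence_exact₁ _ hS y h0 (n₀ := 1) rfl
    exact ⟨c, hc⟩
  · ext x
    constructor
    · intro hx
      obtain ⟨w, hw⟩ := CategoryTheory.Abelian.Ext.covariant_sequence_exact₃ _ hS x (n₁ := 2) rfl hx
      exact ⟨w, (Groth.Agent.CurveFin32.comp_powMap n w).symm.trans hw⟩
    · rintro ⟨w, rfl⟩
      show ((n • AddMonoidHom.id _) w : EtCoh.H X (EtCoh.Gm X) 1).comp hS.extClass rfl = 0
      rw [show (n • AddMonoidHom.id (EtCoh.H X (EtCoh.Gm X) 1)) w = n • w from rfl,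
        ← Groth.Agent.CurveFin32.comp_powMap]
      exact Groth.Agent.CurveFin32.comp_mk₀_extClass hS _ w

end Groth.Agent.S4334
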