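import Groth.Statements.S4337
import Groth.Agent.Lib.LinTop.Complete
import Mathlib.RingTheory.Nakayama
import Mathlib.LinearAlgebra.TensorProduct.RightExactness

set_option autoImplicit false
universe u
open LinTop

namespace Groth.Agent.S4337

/-- Let A be an admissible ring, J an ideal of definition, and u : M -> N a homomorphism of A-modules
with N of finite type. Then u is surjective if and only if u tensored with A/J is surjective. -/
theorem result
    (A : Type u) [CommRing A] [UniformSpace A] [IsUniformAddGroup A] [IsTopologicalRing A]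
    (hA : LinTop.IsAdmissible A) (J : Ideal A) (hJ : LinTop.IsIdealOfDefinition A J)
    (M N : Type u) [AddCommGroup M] [Module A M] [AddCommGroup N] [Module A N] [Module.Finite A N]
    (u : M →ₗ[A] N) :
    Function.Surjective u ↔ Function.Surjective (u.rTensor (A ⧸ J)) := by
  obtain ⟨⟨hlin, -⟩, ht, hc⟩ := hA
  refine ⟨fun h => LinearMap.rTensor_surjective _ h, fun h => ?_⟩
  let P : Submodule A N := LinearMap.range u ⊔ J • ⊤
  let g : N →ₗ[A] (A ⧸ J) →ₗ[A] N ⧸ P :=
    LinearMap.flip (Submodule.liftQ J (LinearMap.lsmul A (N →ₗ[A] N ⧸ P) |>.flip P.mkQ)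
      (fun a ha => LinearMap.ext fun n => (Submodule.Quotient.mk_eq_zero P).2
        (Submodule.mem_sup_right (Submodule.smul_mem_smul ha Submodule.mem_top))))
  have hg : (TensorProduct.lift g) ∘ₗ u.rTensor (A ⧸ J) = 0 := by
    refine TensorProduct.ext' fun m q => ?_
    obtain ⟨a, rfl⟩ := Submodule.Quotient.mk_surjective J q
    refine (Submodule.Quotient.mk_eq_zero P).2 (Submodule.mem_sup_left ?_)
    exact ⟨a • m, map_smul u a m⟩
  have h0 : TensorProduct.lift g = 0 := by
    refine LinearMap.ext fun z => ?_
    obtain ⟨w, rfl⟩ := h z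
    exact LinearMap.congr_fun hg w
  refine LinearMap.range_eq_top.1 (top_le_iff.1 ?_)
  refine Submodule.le_of_le_smul_of_le_jacobson_bot (Module.Finite.fg_top (R := A) (M := N))
    (LinTopH7.le_jacobson fun x hx => LinTopH7.topNil_of_mem hJ hx) fun n _ => ?_
  have := LinearMap.congr_fun h0 (TensorProduct.tmul A n (Submodule.Quotient.mk 1))
  change (1 : A) • Submodule.Quotient.mk (p := P) n = 0 at this
  have hn : Submodule.Quotient.mk (p := P) n = 0 := by rwa [one_smul] at this
  exact (Submodule.Quotient.mk_eq_zero P).1 hn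

end Groth.Agent.S4337
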