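import Groth.Statements.S4339
import Groth.Agent.Lib.AdicLimH7.Basic
import Groth.Agent.Lib.Compl.Noetherian

set_option autoImplicit false
universe u
open AdicRing

namespace Groth.Agent.S4339

/-- Let (B_n) be an inverse system of rings with surjective transition maps B_{n+1} → B_n whose kernels
are the (n+1)-st powers of the kernels of the maps B_{n+1} → B_0, the kernel of B_1 → B_0 being
finitely generated, and let A be its inverse limit. Then A is Noetherian if and only if B_0 is
Noetherian. -/
theorem result
    (B : ℕ → Type u) [∀ n, CommRing (B n)]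
    (u : ∀ n, B (n + 1) →+* B n) (hu : ∀ n, Function.Surjective (u n))
    (v : ∀ n, B n →+* B 0) (hv0 : v 0 = RingHom.id (B 0)) (hv : ∀ n, (v n).comp (u n) = v (n + 1))
    (hker : ∀ n, RingHom.ker (u n) = RingHom.ker (v (n + 1)) ^ (n + 1))
    (hfg : (RingHom.ker (v 1)).FG)
    (A : Type u) [CommRing A] (p : ∀ n, A →+* B n)
    (hp : ∀ n, (u n).comp (p (n + 1)) = p n)
    (hinj : ∀ x : A, (∀ n, p n x = 0) → x = 0)
    (hlift : ∀ y : (∀ n, B n), (∀ n, u n (y (n + 1)) = y n) → ∃ x : A, ∀ n, p n x = y n) :
    IsNoetherianRing A ↔ IsNoetherianRing (B 0) := by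
  have hps : ∀ n (y : B n), ∃ x, p n x = y := by
    intro n y
    letI : ∀ n, Algebra ℤ (B n) := fun n => inferInstance
    obtain ⟨z, hz, rfl⟩ := Groth.Agent.AdicLimH7.exists_compatible (A := ℤ) (M := B)
      (f := fun n => (u n).toAddMonoidHom.toIntLinearMap) (fun n => hu n) n y
    obtain ⟨x, hx⟩ := hlift z hz
    exact ⟨x, hx n⟩
  refine ⟨fun hA => isNoetherianRing_of_surjective A (B 0) (p 0) (hps 0), fun hB => ?_⟩
  have hvp : ∀ n x, v n (p n x) = p 0 x := by
    intro n
    induction n with
    | zero => intro x; rw [hv0]; rfl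
    | succ n ih => intro x; rw [← hv n, RingHom.comp_apply, ← RingHom.comp_apply (u n), hp]; exact ih x
  have hmap : ∀ n, RingHom.ker (v n) = (RingHom.ker (p 0)).map (p n) := by
    intro n
    refine le_antisymm (fun y hy => ?_) (Ideal.map_le_iff_le_comap.mpr fun x hx => ?_)
    · obtain ⟨x, rfl⟩ := hps n y
      refine Ideal.mem_map_of_mem _ ?_
      rw [RingHom.mem_ker] at hy ⊢
      rwa [hvp] at hy
    · rw [Ideal.mem_comap, RingHom.mem_ker, hvp]
      exact hx
  obtain ⟨S, hS⟩ := hfg
  classical
  choose g hg using fun s => hps 1 s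
  let I : Ideal A := Ideal.span ((S.image g : Finset A) : Set A)
  have hI : I.FG := ⟨_, rfl⟩
  have hIle : I ≤ RingHom.ker (p 0) := by
    refine Ideal.span_le.mpr fun x hx => ?_
    obtain ⟨s, hs, rfl⟩ := Finset.mem_image.mp hx
    have hs' : s ∈ RingHom.ker (v 1) := hS ▸ Ideal.subset_span hs
    rw [SetLike.mem_coe, RingHom.mem_ker, ← hvp 1, hg]
    exact hs'
  -- powers of the kernels vanish
  have hnil : ∀ n, RingHom.ker (v n) ^ (n + 1) = ⊥ := by
    intro n
    rw [eq_bot_iff, hmap n, ← Ideal.map_pow, Ideal.map_le_iff_le_comap]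
    intro x hx
    have h1 : p (n + 1) x ∈ RingHom.ker (u n) := by
      rw [hker n, hmap (n + 1), ← Ideal.map_pow]
      exact Ideal.mem_map_of_mem _ hx
    rw [Ideal.mem_comap, Ideal.mem_bot, ← hp n, RingHom.comp_apply]
    exact h1
  have hX : ∀ n, RingHom.ker (v n) = I.map (p n) := by
    intro n
    refine le_antisymm ?_ ((Ideal.map_mono hIle).trans (hmap n).ge)
    induction n with
    | zero =>
      intro y hy
      rw [hv0, RingHom.mem_ker, RingHom.id_apply] at hy
      rw [hy]
      exact zero_mem _
    | succ n ih =>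
      rcases n with _ | n
      · conv_lhs => rw [← hS]
        refine Ideal.span_le.mpr fun s hs => ?_
        rw [← hg s]
        exact Ideal.mem_map_of_mem _ (Ideal.subset_span (Finset.mem_image_of_mem g hs))
      · have hstep : RingHom.ker (v (n + 2)) ≤
            I.map (p (n + 2)) ⊔ RingHom.ker (v (n + 2)) ^ 2 := by
          intro y hy
          have h1 : u (n + 1) y ∈ RingHom.ker (v (n + 1)) := by
            rw [RingHom.mem_ker, ← RingHom.comp_apply, hv]
            exact hy
          have h2 : u (n + 1) y ∈ (I.map (p (n + 2))).map (u (n + 1)) := by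
            rw [Ideal.map_map, hp]
            exact ih h1
          obtain ⟨a, ha, hay⟩ := (Ideal.mem_map_iff_of_surjective _ (hu (n + 1))).mp h2
          have h3 : y - a ∈ RingHom.ker (v (n + 2)) ^ 2 := by
            refine Ideal.pow_le_pow_right (show 2 ≤ n + 1 + 1 by omega) ?_
            rw [← hker (n + 1), RingHom.mem_ker, map_sub, hay, sub_self]
          exact Submodule.mem_sup.mpr ⟨a, ha, y - a, h3, by abel⟩
        have hk : ∀ k, RingHom.ker (v (n + 2)) ≤
            I.map (p (n + 2)) ⊔ RingHom.ker (v (n + 2)) ^ (k + 1) := by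
          intro k
          induction k with
          | zero => rw [zero_add, pow_one]; exact le_sup_right
          | succ k ihk =>
            refine hstep.trans (sup_le le_sup_left ?_)
            rw [pow_two]
            refine (Ideal.mul_mono ihk le_rfl).trans ?_
            rw [Ideal.sup_mul, ← pow_succ]
            exact sup_le_sup_right Ideal.mul_le_left _
        refine (hk (n + 2)).trans ?_
        rw [hnil (n + 2), sup_bot_eq]
  letI alg : ∀ n, Algebra A (B n) := fun n => (p n).toAlgebra
  let f : ∀ n, B (n + 1) →ₗ[A] B n := fun n =>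
    { toFun := u n
      map_add' := map_add _
      map_smul' := fun a x => by
        rw [Algebra.smul_def, Algebra.smul_def, map_mul]
        simp only [RingHom.algebraMap_toAlgebra, RingHom.id_apply]
        rw [← RingHom.comp_apply, hp] }
  let π : ∀ n, A →ₗ[A] B n := fun n => Algebra.linearMap A (B n)
  have h : Groth.Agent.AdicLimH7.Sys I B f A π := by
    refine ⟨fun n => hu n, fun n => ?_, fun n => LinearMap.ext fun x => ?_, hinj, hlift⟩
    · ext y
      rw [Ideal.smul_top_eq_map, Submodule.restrictScalars_mem, RingHom.algebraMap_toAlgebra,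
        Ideal.map_pow, ← hX (n + 1), ← hker n, LinearMap.mem_ker, RingHom.mem_ker]
      rfl
    · exact RingHom.congr_fun (hp n) x
  haveI := h.isAdicComplete hI
  have hI' : I = RingHom.ker (p 0) := by
    refine le_antisymm hIle fun x hx => ?_
    have h1 : x ∈ LinearMap.ker (π 0) := hx
    rw [h.ker_eq hI 0, zero_add, pow_one, smul_eq_mul, Ideal.mul_top] at h1
    exact h1
  haveI : IsNoetherianRing (A ⧸ I) :=
    isNoetherianRing_of_ringEquiv (B 0)
      ((Ideal.quotEquivOfEq hI').trans (RingHom.quotientKerEquivOfSurjective (hps 0))).symm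
  exact Groth.Agent.Compl.isNoetherianRing_of_isAdicComplete I hI

end Groth.Agent.S4339
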