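import Groth.Statements.S4341
import Groth.Agent.Lib.ModM1.Coh

set_option autoImplicit false
universe u
open QCohSup

namespace Groth.Agent.S4341

open AlgebraicGeometry in
open CategoryTheory in
open Opposite in
/-- Case of the trivial invertible sheaf. Let X be a quasi-compact quasi-separated scheme, f a global
section of O_X, F a quasi-coherent O_X-module and t a section of F over X_f. Then there is an n > 0
such that f^n t is the restriction of a global section of F. (The published statement assumes X with
Noetherian underlying space, or separated and quasi-compact; both are quasi-compact quasi-separated,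
which is what the argument uses: a finite affine cover with quasi-compact pairwise intersections.) -/
theorem result
    (X : Scheme.{u}) [CompactSpace X] [QuasiSeparatedSpace X] (f : Γ(X, ⊤))
    (F : X.Modules) [Coh.IsQCoh F] (t : F.val.obj (op (X.basicOpen f))) :
    ∃ n : ℕ, 0 < n ∧ ∃ s : F.val.obj (op ⊤),
      (F.val.map (homOfLE (le_top : X.basicOpen f ≤ ⊤)).op).hom s =
        (show X.ringCatSheaf.obj.obj (op (X.basicOpen f)) from
          X.presheaf.map (homOfLE (le_top : X.basicOpen f ≤ ⊤)).op f) ^ n • t := by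
  suffices h : ∀ t : Γ(F, X.basicOpen f), ∃ n : ℕ, 0 < n ∧ ∃ s : Γ(F, ⊤),
      Groth.Agent.M1.mres F (le_top : X.basicOpen f ≤ ⊤) s =
        Groth.Agent.M1.rs (X.basicOpen f) f ^ n • t from h t
  intro t
  have hle : (⊤ : X.Opens) ⊓ X.basicOpen f ≤ X.basicOpen f := inf_le_right
  have hge : X.basicOpen f ≤ (⊤ : X.Opens) ⊓ X.basicOpen f := by rw [top_inf_eq]
  obtain ⟨n, s, hs⟩ := Groth.Agent.M1.locSurj_of_isCompact F f (U := ⊤) CompactSpace.isCompact_univ
    (Groth.Agent.M1.mres F hle t)
  refine ⟨n + 1, n.succ_pos, Groth.Agent.M1.rs ⊤ f • s, ?_⟩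
  have h1 : Groth.Agent.M1.mres F (le_top : X.basicOpen f ≤ ⊤) s =
      Groth.Agent.M1.rs (X.basicOpen f) f ^ n • t := by
    rw [← Groth.Agent.M1.mres_mres F inf_le_left hge, hs, Groth.Agent.M1.mres_pow_smul,
      Groth.Agent.M1.mres_mres, Groth.Agent.M1.mres_id]
  have h2 := Groth.Agent.M1.mres_pow_smul F (le_top : X.basicOpen f ≤ ⊤) f 1 s
  rw [pow_one, pow_one] at h2
  rw [h2, h1, ← mul_smul, ← pow_succ']

end Groth.Agent.S4341
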