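import Groth.Statements.S4342
import Groth.Agent.Lib.ModM1.Extend
import Groth.Agent.Lib.ModM1.Pull

set_option autoImplicit false
universe u
open QCohSup

namespace Groth.Agent.S4342

open AlgebraicGeometry in
open CategoryTheory in
open Opposite in
/-- In the sectionwise form its proof gives. Let X be a scheme whose underlying space is locally
Noetherian and F a quasi-coherent O_X-module. For every affine open U and every section s of F over
U there is a quasi-coherent sub-O_X-module of finite type of F having s among its sections over U;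
hence F is the inductive limit of its quasi-coherent submodules of finite type. -/
theorem result
    {X : Scheme.{u}}
    (hX : ∀ x : X, ∃ U : X.Opens, x ∈ U ∧ TopologicalSpace.NoetherianSpace (U : Set X))
    (F : X.Modules) [Coh.IsQCoh F]
    (U : X.affineOpens) (s : F.val.obj (op (U : X.Opens))) :
    ∃ (G' : X.Modules) (i' : G' ⟶ F), Mono i' ∧ Coh.IsQCoh G' ∧ CohB1.IsFT G' ∧
      ∃ g : G'.val.obj (op (U : X.Opens)), (i'.val.app (op (U : X.Opens))).hom g = s := by
  have hF : Coh.IsQCoh F := inferInstance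
  let hle := (Groth.Agent.M1.image_ι_top (X := X) U.1)
  let t : Γ(F.restrict U.1.ι, ⊤) := Groth.Agent.M1.mres F hle.le s
  let q₀ := Groth.Agent.M1.secHom t
  let H := Groth.Agent.M1.Sub.im q₀
  have hH := Groth.Agent.M1.Sub.isQCoh_im q₀ (Groth.Agent.M1.isQCoh_structureModule _)
    (Groth.Agent.M1.isQCoh_restrict hF U.1.ι)
  have hH' := Groth.Agent.M1.Sub.isFT_im q₀ (Groth.Agent.M1.isCoh_structureModule _).2
  obtain ⟨e, -⟩ := Groth.Agent.M1.Sub.exists_iso ((Groth.Agent.M1.Sub.ext U.1.ι H).res U.1.ι) H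
    (Groth.Agent.M1.Sub.mem_res_ext U.1.ι H)
  obtain ⟨q, hq, hq', hag⟩ := Groth.Agent.M1.Sub.exists_extend_noetherian hF hX
    (Groth.Agent.M1.Sub.ext U.1.ι H) U.1
    ⟨Groth.Agent.M1.isQCoh_of_isIso e.symm hH, Groth.Agent.M1.isFT_of_isIso e.symm hH'⟩
  have hm : (Groth.Agent.M1.Sub.ext U.1.ι H).mem U.1 s := by
    rw [Groth.Agent.M1.Sub.mem_ext]
    have h1 := Groth.Agent.M1.Sub.im_mem_app q₀ ⊤ (Groth.Agent.M1.one ⊤)
    rw [Groth.Agent.M1.secHom_app_one] at h1
    exact H.mem_restrict_mres U.1.ι le_top hle.le _ s h1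
  obtain ⟨g, hg⟩ := (hag U.1 le_rfl s).mp hm
  exact ⟨q.P, q.i, q.mono, hq, hq', g, hg⟩

end Groth.Agent.S4342
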