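import Groth.Statements.S4343
import Groth.Agent.Lib.RatMapH11.SpreadUniqOpens
import Mathlib.AlgebraicGeometry.Birational.RationalMap

set_option autoImplicit false
universe u
open RatMapD

namespace Groth.Agent.S4343

open AlgebraicGeometry in
open CategoryTheory in
/-- Let X, Y be S-schemes with X irreducible and Y locally of finite type over S. Two S-rational maps
from X to Y to which corresponds the same morphism Spec(O_x) -> Y, x the generic point of X, are
equal. (The published statement has Y of finite type over S; only local finite type is used. X is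
not assumed reduced.) -/
theorem result
    (S X Y : Scheme.{u}) [X.Over S] [Y.Over S] [IrreducibleSpace X]
    [LocallyOfFiniteType (Y ↘ S)] (f g : X ⤏ Y) [f.IsOver S] [g.IsOver S]
    (h : f.fromFunctionField = g.fromFunctionField) : f = g := by
  obtain ⟨f', hf', rfl⟩ := Scheme.RationalMap.exists_partialMap_over S f
  obtain ⟨g', hg', rfl⟩ := Scheme.RationalMap.exists_partialMap_over S g
  rw [Scheme.PartialMap.toRationalMap_eq_iff]
  rw [Scheme.RationalMap.fromFunctionField_toRationalMap, Scheme.RationalMap.fromFunctionField_toRationalMap] at h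
  have hd : Dense ((f'.domain ⊓ g'.domain : X.Opens) : Set X) :=
    f'.dense_domain.inter_of_isOpen_left g'.dense_domain f'.domain.2
  rw [← f'.fromFunctionField_restrict hd inf_le_left, ← g'.fromFunctionField_restrict hd inf_le_right] at h
  have hη : genericPoint X ∈ f'.domain ⊓ g'.domain :=
    (genericPoint_specializes _).mem_open (f'.domain ⊓ g'.domain).2 hd.nonempty.choose_spec
  obtain ⟨W, hW, hηW, heq⟩ := Groth.Agent.RatMapH11.exists_open_eq_of_fromSpecStalkOfMem_eq (Y ↘ S)
    (f'.domain ⊓ g'.domain) (X.homOfLE inf_le_left ≫ f'.hom) (X.homOfLE inf_le_right ≫ g'.hom) (by simp) _ hη h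
  refine ⟨W, W.2.dense ⟨_, hηW⟩, hW.trans inf_le_left, hW.trans inf_le_right, ?_⟩
  rw [Scheme.homOfLE_homOfLE_assoc, Scheme.homOfLE_homOfLE_assoc] at heq
  exact heq

end Groth.Agent.S4343
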