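import Groth.Statements.S4344
import Mathlib.AlgebraicGeometry.Birational.RationalMap

set_option autoImplicit false
universe u
open RatMapD

namespace Groth.Agent.S4344

open AlgebraicGeometry in
open CategoryTheory in
/-- Let X be a reduced S-scheme, Y an S-scheme separated over S and f an S-rational map from X to Y.
There is a representative g of f which is an S-morphism and of which every S-morphism representing f
is a restriction; in particular g is the unique S-morphism of the class of f defined on the largest
open where some S-representative is defined. (The published statement speaks of the domain of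
definition among all representatives; over a base that is not separated that domain can be larger
than the one on which an S-representative exists, and this row takes the latter.) -/
theorem result
    (S X Y : Scheme.{u}) [X.Over S] [Y.Over S] [IsReduced X] [IsSeparated (Y ↘ S)]
    (f : X ⤏ Y) [f.IsOver S] :
    ∃ g : X.PartialMap Y, g.IsOver S ∧ g.toRationalMap = f ∧
      ∀ h : X.PartialMap Y, h.IsOver S → h.toRationalMap = f →
        ∃ hle : h.domain ≤ g.domain, h = g.restrict h.domain h.dense_domain hle := by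
  let I := {g : X.PartialMap Y // g.IsOver S ∧ g.toRationalMap = f}
  let O : I → X.Opens := fun g => g.1.domain
  have key : ∀ a b : I, X.homOfLE (inf_le_left : O a ⊓ O b ≤ O a) ≫ a.1.hom =
      X.homOfLE (inf_le_right : O a ⊓ O b ≤ O b) ≫ b.1.hom := fun a b => by
    haveI := a.2.1
    haveI := b.2.1
    exact (Scheme.PartialMap.equiv_iff_of_isSeparated (S := S)).mp
      (Scheme.PartialMap.toRationalMap_eq_iff.mp (a.2.2.trans b.2.2.symm))
  let C := Scheme.Opens.iSupOpenCover O
  let m : ((⨆ g, O g : X.Opens) : Scheme.{u}) ⟶ Y := C.glueMorphisms (fun a : I => a.1.hom) fun a b => by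
    refine (cancel_epi (isPullback_opens_inf_le (le_iSup O a) (le_iSup O b)).isoPullback.hom).mp ?_
    change _ ≫ Limits.pullback.fst (X.homOfLE (le_iSup O a)) (X.homOfLE (le_iSup O b)) ≫ _ =
      _ ≫ Limits.pullback.snd (X.homOfLE (le_iSup O a)) (X.homOfLE (le_iSup O b)) ≫ _
    rw [IsPullback.isoPullback_hom_fst_assoc, IsPullback.isoPullback_hom_snd_assoc]
    exact key a b
  have hm : ∀ a : I, X.homOfLE (le_iSup O a) ≫ m = a.1.hom := fun a =>
    Scheme.Cover.ι_glueMorphisms C (fun a : I => a.1.hom) _ a
  obtain ⟨g₀, hg₀, hf₀⟩ := Scheme.RationalMap.exists_partialMap_over S f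
  let g : X.PartialMap Y := ⟨⨆ g, O g, g₀.dense_domain.mono (le_iSup O ⟨g₀, hg₀, hf₀⟩), m⟩
  have hres : ∀ a : I, a.1 = g.restrict a.1.domain a.1.dense_domain (le_iSup O a) := fun a => by
    refine Scheme.PartialMap.ext _ _ rfl ?_
    refine (hm a).symm.trans ?_
    have aux : ∀ (U V W : X.Opens) (h : U = V) (h1 : U ≤ W) (h2 : V ≤ W) (n : (W : Scheme.{u}) ⟶ Y),
        X.homOfLE h1 ≫ n = (X.isoOfEq h).hom ≫ X.homOfLE h2 ≫ n := by
      intro U V W h h1 h2 n
      subst h
      simp
    exact aux _ _ _ _ _ _ m
  refine ⟨g, ?_, ?_, fun h hh hhf => ⟨le_iSup O ⟨h, hh, hhf⟩, hres ⟨h, hh, hhf⟩⟩⟩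
  · rw [Scheme.PartialMap.isOver_iff]
    refine Scheme.Cover.hom_ext C _ _ fun a => ?_
    show X.homOfLE (le_iSup O a) ≫ m ≫ (Y ↘ S) = X.homOfLE (le_iSup O a) ≫ _
    haveI := a.2.1
    rw [reassoc_of% hm a, Scheme.homOfLE_ι_assoc]
    exact Scheme.PartialMap.isOver_iff.mp a.2.1
  · rw [← hf₀]
    refine Eq.trans ?_ (congrArg Scheme.PartialMap.toRationalMap (hres ⟨g₀, hg₀, hf₀⟩)).symm
    simp

end Groth.Agent.S4344
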