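import Groth.Statements.S4345
import Mathlib.RingTheory.LocalRing.LocalSubring
import Mathlib.RingTheory.Spectrum.Prime.Basic
import Mathlib.Tactic.TFAE

set_option autoImplicit false
universe u
open SchLoc

namespace Groth.Agent.S4345

/-- Let A and B be subrings of a field R, C the subring generated by A and B, and for a subring E let
L(E) be the set of local subrings E_p of R, p a prime ideal of E. The following are equivalent: (i)
for every local subring Q of R containing A and B, the localizations of A and of B at the traces of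
the maximal ideal of Q coincide; (ii) for every prime ideal r of C the localizations of A and B at
the traces of r coincide; (iii) two members of L(A) and L(B) dominated by a common local subring of
R are equal; (iv) the intersection of L(A) and L(B) is L(C). -/
theorem result
    (R : Type u) [Field R] (A B : Subring R) :
    [ ∀ (Q : LocalSubring R) (hA : A ≤ Q.toSubring) (hB : B ≤ Q.toSubring),
        LocalSubring.ofPrime A ((IsLocalRing.maximalIdeal Q.toSubring).comap (Subring.inclusion hA)) =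
          LocalSubring.ofPrime B ((IsLocalRing.maximalIdeal Q.toSubring).comap (Subring.inclusion hB)),
      ∀ r : PrimeSpectrum ↥(A ⊔ B),
        LocalSubring.ofPrime A (r.asIdeal.comap (Subring.inclusion (le_sup_left : A ≤ A ⊔ B))) =
          LocalSubring.ofPrime B (r.asIdeal.comap (Subring.inclusion (le_sup_right : B ≤ A ⊔ B))),
      ∀ (p : PrimeSpectrum A) (q : PrimeSpectrum B),
        (∃ Q : LocalSubring R, LocalSubring.ofPrime A p.asIdeal ≤ Q ∧ LocalSubring.ofPrime B q.asIdeal ≤ Q) →
          LocalSubring.ofPrime A p.asIdeal = LocalSubring.ofPrime B q.asIdeal,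
      Set.range (fun p : PrimeSpectrum A ↦ LocalSubring.ofPrime A p.asIdeal) ∩
          Set.range (fun q : PrimeSpectrum B ↦ LocalSubring.ofPrime B q.asIdeal) =
        Set.range (fun r : PrimeSpectrum ↥(A ⊔ B) ↦ LocalSubring.ofPrime (A ⊔ B) r.asIdeal) ].TFAE := by
  -- the trace of a local subring on a subring
  have F1 : ∀ {E : Subring R} (Q : LocalSubring R) (h : E ≤ Q.toSubring),
      LocalSubring.ofPrime E ((IsLocalRing.maximalIdeal Q.toSubring).comap (Subring.inclusion h)) ≤ Q := by
    intro E Q h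
    set P := (IsLocalRing.maximalIdeal Q.toSubring).comap (Subring.inclusion h)
    have key : ∀ x ∈ (LocalSubring.ofPrime E P).toSubring, ∃ a : E, ∃ s : E, s ∉ P ∧
        x * (s : R) = a := by
      intro x hx
      obtain ⟨⟨a, s⟩, e⟩ := IsLocalization.surj P.primeCompl
        (⟨x, hx⟩ : (LocalSubring.ofPrime E P).toSubring)
      exact ⟨a, s.1, s.2, congrArg Subtype.val e⟩
    have hu : ∀ s : E, s ∉ P → IsUnit (Subring.inclusion h s) := fun s hs => by
      by_contra hn
      exact hs hn
    have hle : (LocalSubring.ofPrime E P).toSubring ≤ Q.toSubring := by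
      intro x hx
      obtain ⟨a, s, hs, e⟩ := key x hx
      obtain ⟨u, hu'⟩ := hu s hs
      have h1 : x = (a : R) * ((↑u⁻¹ : Q.toSubring) : R) := by
        have h2 : ((u : Q.toSubring) : R) * ((↑u⁻¹ : Q.toSubring) : R) = 1 := by
          rw [← Subring.coe_mul, Units.mul_inv, Subring.coe_one]
        rw [← e, mul_assoc, show (s : R) = ((u : Q.toSubring) : R) from
          congrArg Subtype.val hu'.symm, h2, mul_one]
      rw [h1]
      exact mul_mem (h a.2) (u⁻¹ : (Q.toSubring)ˣ).1.2
    refine ⟨hle, ⟨fun y hy => ?_⟩⟩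
    obtain ⟨a, s, hs, e⟩ := key y.1 y.2
    have ha : a ∉ P := fun ha => by
      have : Subring.inclusion hle y * Subring.inclusion h s = Subring.inclusion h a := Subtype.ext e
      exact (IsLocalRing.mem_maximalIdeal _).1 ha (this ▸ hy.mul (hu s hs))
    have hya : y * algebraMap E _ s = algebraMap E _ a := Subtype.ext e
    exact isUnit_of_mul_isUnit_left (hya.symm ▸
      IsLocalization.map_units _ (⟨a, ha⟩ : P.primeCompl))
  have F2 : ∀ {E : Subring R} (p : Ideal E) [p.IsPrime] (Q : LocalSubring R),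
      LocalSubring.ofPrime E p ≤ Q → ∃ h : E ≤ Q.toSubring,
        p = (IsLocalRing.maximalIdeal Q.toSubring).comap (Subring.inclusion h) := by
    intro E p _ Q hQ
    obtain ⟨hle, hloc⟩ := hQ
    refine ⟨(LocalSubring.le_ofPrime E p).trans hle, ?_⟩
    refine (IsLocalization.AtPrime.comap_maximalIdeal (LocalSubring.ofPrime E p).toSubring p).symm.trans ?_
    ext a
    simp only [Ideal.mem_comap, IsLocalRing.mem_maximalIdeal, mem_nonunits_iff]
    exact not_congr ⟨fun hu => hu.map (Subring.inclusion hle),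
      fun hu => hloc.map_nonunit (algebraMap E _ a) hu⟩
  have cg : ∀ {E : Subring R} (p q : Ideal E) [p.IsPrime] [q.IsPrime], p = q →
      LocalSubring.ofPrime E p = LocalSubring.ofPrime E q := by
    intro E p q _ _ h
    subst h
    rfl
  have cc : ∀ {D E G : Subring R} (h : D ≤ E) (h' : E ≤ G) (I : Ideal G),
      (I.comap (Subring.inclusion h')).comap (Subring.inclusion h) =
        I.comap (Subring.inclusion (h.trans h')) := fun _ _ _ => rfl
  -- restricting to a smaller subring
  have F4 : ∀ {D E : Subring R} (h : D ≤ E) (r : Ideal E) [r.IsPrime],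
      LocalSubring.ofPrime D (r.comap (Subring.inclusion h)) ≤ LocalSubring.ofPrime E r := by
    intro D E h r _
    obtain ⟨hE, hr⟩ := F2 r _ le_rfl
    refine le_of_eq_of_le (cg _ _ ?_) (F1 _ (h.trans hE))
    rw [← cc h hE]
    exact congrArg (Ideal.comap (Subring.inclusion h)) hr
  tfae_have 1 → 2 := by
    intro h1 r
    obtain ⟨h, hr⟩ := F2 r.asIdeal _ le_rfl
    have e := h1 (LocalSubring.ofPrime (A ⊔ B) r.asIdeal) (le_sup_left.trans h) (le_sup_right.trans h)
    refine (cg _ _ ?_).trans (e.trans (cg _ _ ?_))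
    · exact (congrArg (Ideal.comap (Subring.inclusion (le_sup_left : A ≤ A ⊔ B))) hr).trans
        (cc _ _ _)
    · exact ((congrArg (Ideal.comap (Subring.inclusion (le_sup_right : B ≤ A ⊔ B))) hr).trans
        (cc _ _ _)).symm
  tfae_have 2 → 3 := by
    rintro h2 p q ⟨Q, hpQ, hqQ⟩
    obtain ⟨hA, hp⟩ := F2 p.asIdeal Q hpQ
    obtain ⟨hB, hq⟩ := F2 q.asIdeal Q hqQ
    have e := h2 ⟨(IsLocalRing.maximalIdeal Q.toSubring).comap (Subring.inclusion (sup_le hA hB)),
      inferInstance⟩
    exact (cg _ _ (hp.trans (cc _ _ _).symm)).trans (e.trans (cg _ _ ((cc _ _ _).trans hq.symm)))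
  -- a local subring dominated by a localization of the sup and containing it
  have F3 : ∀ (r : Ideal ↥(A ⊔ B)) [r.IsPrime] (L : LocalSubring R), A ⊔ B ≤ L.toSubring →
      L ≤ LocalSubring.ofPrime (A ⊔ B) r → LocalSubring.ofPrime (A ⊔ B) r = L := by
    intro r _ L hle hL
    refine le_antisymm (le_of_eq_of_le (cg _ _ ?_) (F1 L hle)) hL
    obtain ⟨h', hr'⟩ := F2 r _ le_rfl
    obtain ⟨hle', hloc⟩ := hL
    refine hr'.trans (Ideal.ext fun c => ?_)
    simp only [Ideal.mem_comap, IsLocalRing.mem_maximalIdeal, mem_nonunits_iff]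
    exact not_congr ⟨fun hu => hloc.map_nonunit (Subring.inclusion hle c) hu,
      fun hu => hu.map (Subring.inclusion hle')⟩
  tfae_have 3 → 4 := by
    intro h3
    ext L
    constructor
    · rintro ⟨⟨p, rfl⟩, ⟨q, hq⟩⟩
      obtain ⟨hA, hp⟩ := F2 p.asIdeal _ le_rfl
      obtain ⟨hB, -⟩ := F2 q.asIdeal _ hq.le
      let r : PrimeSpectrum ↥(A ⊔ B) :=
        ⟨(IsLocalRing.maximalIdeal (LocalSubring.ofPrime A p.asIdeal).toSubring).comap
          (Subring.inclusion (sup_le hA hB)), inferInstance⟩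
      refine ⟨r, F3 r.asIdeal _ (sup_le hA hB) ?_⟩
      exact le_of_eq_of_le (cg _ _ (hp.trans (cc _ _ _).symm))
        (F4 (le_sup_left : A ≤ A ⊔ B) r.asIdeal)
    · rintro ⟨r, rfl⟩
      have hrA : (r.asIdeal.comap (Subring.inclusion (le_sup_left : A ≤ A ⊔ B))).IsPrime :=
        Ideal.comap_isPrime _ _
      have hrB : (r.asIdeal.comap (Subring.inclusion (le_sup_right : B ≤ A ⊔ B))).IsPrime :=
        Ideal.comap_isPrime _ _
      have e := h3 ⟨_, hrA⟩ ⟨_, hrB⟩ ⟨_, F4 _ _, F4 _ _⟩
      have hle : A ⊔ B ≤ (LocalSubring.ofPrime A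
          (r.asIdeal.comap (Subring.inclusion (le_sup_left : A ≤ A ⊔ B)))).toSubring :=
        sup_le (LocalSubring.le_ofPrime A _)
          ((LocalSubring.le_ofPrime B _).trans (LocalSubring.toSubring_mono e.ge))
      have hrL := F3 r.asIdeal _ hle (F4 _ _)
      exact ⟨⟨⟨_, hrA⟩, hrL.symm⟩, ⟨⟨_, hrB⟩, e.symm.trans hrL.symm⟩⟩
  tfae_have 4 → 1 := by
    intro h4 Q hA hB
    let r : PrimeSpectrum ↥(A ⊔ B) :=
      ⟨(IsLocalRing.maximalIdeal Q.toSubring).comap (Subring.inclusion (sup_le hA hB)), inferInstance⟩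
    obtain ⟨⟨p, hp⟩, ⟨q, hq⟩⟩ := h4.ge ⟨r, rfl⟩
    have hrQ : LocalSubring.ofPrime (A ⊔ B) r.asIdeal ≤ Q := F1 Q _
    obtain ⟨hA', hp'⟩ := F2 p.asIdeal Q (hp.le.trans hrQ)
    obtain ⟨hB', hq'⟩ := F2 q.asIdeal Q (hq.le.trans hrQ)
    exact (cg _ _ hp'.symm).trans ((hp.trans hq.symm).trans (cg _ _ hq'))
  tfae_finish

end Groth.Agent.S4345
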