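import Groth.Statements.S4348
import Groth.Agent.Lib.ModM1.Push
import Groth.Agent.Lib.ModM1.Pull
import Mathlib.CategoryTheory.Abelian.Basic

set_option autoImplicit false
universe u
open QCohSup

namespace Groth.Agent.S4348

open AlgebraicGeometry in
open CategoryTheory in
open CategoryTheory.Limits in
/-- Let X be a scheme and U an open subscheme such that the inclusion j : U -> X is quasi-compact. For a
quasi-coherent O_X-module F and a quasi-coherent submodule G of F|U, the canonical extension of G to
X (the preimage of j_*(G) under F -> j_*(F|U), here the fibre product in the category of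
O_X-modules) is quasi-coherent. -/
theorem result
    {X : Scheme.{u}} (U : X.Opens) [QuasiCompact U.ι] (F : X.Modules) [Coh.IsQCoh F]
    (G : (U : Scheme.{u}).Modules) [Coh.IsQCoh G]
    (i : G ⟶ (Scheme.Modules.pullback U.ι).obj F) [Mono i] :
    Coh.IsQCoh (pullback ((Scheme.Modules.pushforward U.ι).map i)
      ((Scheme.Modules.pullbackPushforwardAdjunction U.ι).unit.app F)) := by
  have key : ∀ {A B C : X.Modules} (f : A ⟶ C) (g : B ⟶ C) [Mono f],
      Nonempty (kernel (g ≫ cokernel.π f) ≅ pullback f g) := by
    intro A B C f g _
    have w₁ : (kernel.ι (g ≫ cokernel.π f) ≫ g) ≫ cokernel.π f = 0 := by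
      rw [Category.assoc, kernel.condition]
    have w₂ : pullback.snd f g ≫ g ≫ cokernel.π f = 0 := by
      rw [← Category.assoc, ← pullback.condition, Category.assoc, cokernel.condition, comp_zero]
    refine ⟨{ hom := pullback.lift (Abelian.monoLift f _ w₁) (kernel.ι _) (Abelian.monoLift_comp _ _ _)
              inv := kernel.lift _ (pullback.snd f g) w₂
              hom_inv_id := by rw [← cancel_mono (kernel.ι (g ≫ cokernel.π f)), Category.assoc, kernel.lift_ι, pullback.lift_snd, Category.id_comp]
              inv_hom_id := by rw [← cancel_mono (pullback.snd f g), Category.assoc, pullback.lift_snd, kernel.lift_ι, Category.id_comp] }⟩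
  haveI : Mono ((Scheme.Modules.pushforward U.ι).map i) :=
    haveI := (Scheme.Modules.pullbackPushforwardAdjunction U.ι).isRightAdjoint
    inferInstance
  obtain ⟨e⟩ := key ((Scheme.Modules.pushforward U.ι).map i)
    ((Scheme.Modules.pullbackPushforwardAdjunction U.ι).unit.app F)
  have hpull := Groth.Agent.M1.isQCoh_pullback U.ι (M := F) inferInstance
  exact Groth.Agent.M1.isQCoh_of_isIso e (Groth.Agent.M1.isQCoh_kernel ‹Coh.IsQCoh F›
    (Groth.Agent.M1.isQCoh_cokernel (Groth.Agent.M1.isQCoh_push U.ι inferInstance)
      (Groth.Agent.M1.isQCoh_push U.ι hpull) _) _)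

end Groth.Agent.S4348
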