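import Groth.Statements.S4349
import Groth.Agent.Lib.RatFunH11.Basic
import Mathlib.AlgebraicGeometry.Properties

set_option autoImplicit false
universe u
open RatFun

namespace Groth.Agent.S4349

open AlgebraicGeometry in
/-- Second assertion (in the form: sections over a dense open inject into the ring of rational
functions). Let X be a reduced scheme and V a dense open subset of X. The canonical map from the
sections of O_X over V to the ring R(X) of rational functions on X is injective. (The published
statement also assumes X locally integral or locally Noetherian; that hypothesis serves the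
quasi-coherence of the sheaf of rational functions and is not needed here.) -/
theorem result (X : Scheme.{u}) [IsReduced X]
    (V : X.Opens) (hV : Dense (V : Set X)) :
    Function.Injective (RatFun.toRing X V hV) := by
  intro s t h
  obtain ⟨O, h1, h2, hO, e⟩ := (Groth.Agent.RatFunH11.toRing_eq_iff hV hV s t).1 h
  rw [← sub_eq_zero]
  apply eq_zero_of_basicOpen_eq_bot
  by_contra hne
  obtain ⟨x, hx⟩ : ((X.basicOpen (s - t) : X.Opens) : Set X).Nonempty := by
    rw [Set.nonempty_iff_ne_empty]
    intro he
    exact hne (TopologicalSpace.Opens.ext he)
  obtain ⟨y, hy, hyO⟩ := hO.inter_open_nonempty _ (X.basicOpen (s - t)).isOpen ⟨x, hx⟩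
  have he : X.presheaf.map (CategoryTheory.homOfLE h1).op (s - t) = 0 := by rw [map_sub, e, sub_self]
  have h0 := X.basicOpen_res (s - t) (CategoryTheory.homOfLE h1).op
  rw [he, Scheme.basicOpen_zero] at h0
  have hmem : y ∈ O ⊓ X.basicOpen (s - t) := ⟨hyO, hy⟩
  exact (h0.ge hmem).elim

end Groth.Agent.S4349
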