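import Groth.Statements.S4351
import Groth.Agent.Lib.QCGen12.Basic
import Groth.Agent.S4342

set_option autoImplicit false
universe u
open QCohSup

namespace Groth.Agent.S4351

open AlgebraicGeometry in
open CategoryTheory in
open Opposite in
/-- Case a), in the sectionwise form its proof gives. Let X be a scheme whose underlying space is
locally Noetherian and B a quasi-coherent O_X-algebra. Every section of B over an affine open U lies
in a quasi-coherent sub-O_X-algebra of B whose sections over every affine open form an algebra of
finite type over the functions (a condition equivalent to being of finite type near every point);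
hence B is the inductive limit of its quasi-coherent sub-O_X-algebras of finite type. -/
theorem result
    {X : Scheme.{u}}
    (hX : ∀ x : X, ∃ U : X.Opens, x ∈ U ∧ TopologicalSpace.NoetherianSpace (U : Set X))
    (B : RelSpec.QCAlg X)
    (U : X.affineOpens) (b : B.presheaf.obj (op (U : X.Opens))) :
    ∃ (B' : RelSpec.QCAlg X) (φ : B' ⟶ B),
      (∀ V : X.Opens, Function.Injective (φ.hom.app (op V)).hom) ∧
      (∀ V : X.affineOpens, (B'.str.app (op (V : X.Opens))).hom.FiniteType) ∧
      b ∈ Set.range (φ.hom.app (op (U : X.Opens))).hom := by
  haveI : Coh.IsQCoh B.toModule := M1.QC.isQCoh_toModule B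
  obtain ⟨G', i', hi, hG, hG', g, hg⟩ :=
    Groth.Agent.S4342.result hX B.toModule U b
  exact ⟨QCGen12.subAlg ⟨G', i', hi⟩ hG, QCGen12.subAlgHom ⟨G', i', hi⟩ hG, fun V => Subtype.val_injective,
    fun V => QCGen12.finiteType_subAlg _ hG hG' V,
    ⟨b, QCGen12.gen_le_loc _ _ (Subring.subset_closure (Or.inr ⟨g, hg⟩))⟩, rfl⟩


end Groth.Agent.S4351
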