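import Groth.Statements.S4356
import Groth.Agent.Lib.ModM1.Exact
import Groth.Agent.Lib.ModM1.Stalk
import Mathlib.LinearAlgebra.Dimension.FreeAndStrongRankCondition

set_option autoImplicit false
universe u
open TorSh

namespace Groth.Agent.S4356

section helpers

open AlgebraicGeometry CategoryTheory

variable {X : Scheme.{u}} [IsIntegral X]

variable (X) in
/-- the point of `Spec` of the function field -/
noncomputable abbrev pt : Spec (X.presheaf.stalk (genericPoint X)) :=
  IsLocalRing.closedPoint (X.presheaf.stalk (genericPoint X))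

theorem pt_mem {U : X.Opens} (hU : genericPoint X ∈ U) : pt X ∈ X.fromSpecStalk (genericPoint X) ⁻¹ᵁ U := by
  show X.fromSpecStalk (genericPoint X) (pt X) ∈ U
  exact (Scheme.fromSpecStalk_closedPoint (X := X) (x := genericPoint X)).symm ▸ hU

/-- evaluation of functions at the generic point -/
noncomputable def ψ {U : X.Opens} (hU : genericPoint X ∈ U) :
    Γ(X, U) →+* (Spec (X.presheaf.stalk (genericPoint X))).presheaf.stalk (pt X) :=
  ((X.fromSpecStalk (genericPoint X)).app U ≫
    (Spec (X.presheaf.stalk (genericPoint X))).presheaf.germ _ (pt X) (pt_mem hU)).hom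

theorem ψ_eq {U : X.Opens} (hU : genericPoint X ∈ U) (s : Γ(X, U)) :
    ψ hU s = (Spec (X.presheaf.stalk (genericPoint X))).presheaf.germ ⊤ (pt X) trivial
      ((Scheme.ΓSpecIso (X.presheaf.stalk (genericPoint X))).inv (X.presheaf.germ U _ hU s)) := by
  show (Spec (X.presheaf.stalk (genericPoint X))).presheaf.germ _ (pt X) (pt_mem hU)
    ((X.fromSpecStalk (genericPoint X)).app U s) = _
  rw [Scheme.fromSpecStalk_app hU]
  exact TopCat.Presheaf.germ_res_apply _ _ _ _ _

theorem ψ_res {U V : X.Opens} (h : V ≤ U) (hV : genericPoint X ∈ V) (s : Γ(X, U)) :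
    ψ hV (X.presheaf.map (homOfLE h).op s) = ψ (h hV) s := by
  rw [ψ_eq, ψ_eq, TopCat.Presheaf.germ_res_apply]

theorem eq_zero_of_ψ {U : X.Opens} (hU : genericPoint X ∈ U) (s : Γ(X, U)) (h : ψ hU s = 0) : s = 0 := by
  haveI : Nonempty U := ⟨⟨_, hU⟩⟩
  refine germ_injective_of_isIntegral X (genericPoint X) hU ?_
  rw [ψ_eq] at h
  have h1 := germ_injective_of_isIntegral (Spec (X.presheaf.stalk (genericPoint X))) (pt X) (U := ⊤) trivial
    (h.trans (map_zero _).symm)
  rw [map_zero]
  exact (Scheme.ΓSpecIso (X.presheaf.stalk (genericPoint X))).symm.commRingCatIsoToRingEquiv.injective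
    (h1.trans (map_zero _).symm)

theorem exists_ψ_eq (l : (Spec (X.presheaf.stalk (genericPoint X))).presheaf.stalk (pt X)) :
    ∃ (W : X.Opens) (hW : genericPoint X ∈ W) (s : Γ(X, W)), ψ hW s = l := by
  obtain ⟨O, hO, c, rfl⟩ := (Spec (X.presheaf.stalk (genericPoint X))).presheaf.exists_germ_eq l
  have hO' : O = ⊤ := (IsLocalRing.closedPoint_mem_iff O).1 hO
  subst hO'
  obtain ⟨W, hW, s, hs⟩ := X.presheaf.exists_germ_eq
    ((Scheme.ΓSpecIso (X.presheaf.stalk (genericPoint X))).hom c)
  refine ⟨W, hW, s, ?_⟩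
  rw [ψ_eq, hs, Iso.hom_inv_id_apply]

variable {G : X.Modules} (i : G ⟶ (Scheme.Modules.pushforward (X.fromSpecStalk (genericPoint X))).obj
  (Coh.structureModule (Spec (X.presheaf.stalk (genericPoint X)))))

/-- a section of `G` as an element of the function field -/
noncomputable def ev {U : X.Opens} (hU : genericPoint X ∈ U) (t : Γ(G, U)) :
    (Spec (X.presheaf.stalk (genericPoint X))).presheaf.stalk (pt X) :=
  (Spec (X.presheaf.stalk (genericPoint X))).presheaf.germ _ (pt X) (pt_mem hU)
    (show Γ(Spec (X.presheaf.stalk (genericPoint X)), X.fromSpecStalk (genericPoint X) ⁻¹ᵁ U) from i.app U t)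

theorem ev_smul {U : X.Opens} (hU : genericPoint X ∈ U) (s : Γ(X, U)) (t : Γ(G, U)) :
    ev i hU (s • t) = ψ hU s * ev i hU t := by
  unfold ev
  rw [Scheme.Modules.Hom.app_smul]
  exact map_mul _ ((X.fromSpecStalk (genericPoint X)).app U s) _

theorem ev_zero {U : X.Opens} (hU : genericPoint X ∈ U) : ev i hU (0 : Γ(G, U)) = 0 := by
  unfold ev
  rw [map_zero]
  exact map_zero _

theorem ev_res {U V : X.Opens} (h : V ≤ U) (hV : genericPoint X ∈ V) (t : Γ(G, U)) :
    ev i hV (Groth.Agent.M1.mres G h t) = ev i (h hV) t := by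
  unfold ev
  have hnat : i.app V (Groth.Agent.M1.mres G h t) = _ :=
    ConcreteCategory.congr_hom (i.mapPresheaf.naturality (homOfLE h).op) t
  rw [hnat]
  exact TopCat.Presheaf.germ_res_apply _ _ _ _ _

theorem ev_injective [Mono i] {U : X.Opens} (hU : genericPoint X ∈ U) : Function.Injective (ev i hU) := by
  intro a b h
  haveI : Nonempty (X.fromSpecStalk (genericPoint X) ⁻¹ᵁ U : (Spec (X.presheaf.stalk (genericPoint X))).Opens) :=
    ⟨⟨_, pt_mem hU⟩⟩
  exact Groth.Agent.M1.app_injective i U
    (germ_injective_of_isIntegral (Spec (X.presheaf.stalk (genericPoint X))) (pt X) (pt_mem hU) h)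

end helpers

open AlgebraicGeometry in
open CategoryTheory in
/-- Converse assertion (the sheaf of rational functions of the integral scheme X being modelled as the
direct image of the structure sheaf of Spec of the function field under its canonical morphism to
X). On an integral scheme, a nonzero quasi-coherent sub-O_X-module of the sheaf of rational
functions is torsion-free of rank 1: every stalk is a torsion-free module over the local ring, and
the stalk at the generic point is one-dimensional over the function field. (The published statement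
does not exclude the zero submodule, whose generic stalk has dimension 0; it is excluded here.) -/
theorem result
    (X : Scheme.{u}) [IsIntegral X] (G : X.Modules) [Coh.IsQCoh G]
    (i : G ⟶ (Scheme.Modules.pushforward (X.fromSpecStalk (genericPoint X))).obj
        (Coh.structureModule (Spec (X.presheaf.stalk (genericPoint X))))) [Mono i]
    (hG : ¬ Limits.IsZero G) :
    TorSh.IsTorsionFree G ∧
      Module.finrank (X.presheaf.stalk (genericPoint X)) (G.presheaf.stalk (genericPoint X)) = 1 := by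
  have hne : ∀ (U : X.Opens) (x : X), x ∈ U → genericPoint X ∈ U := fun U x hx =>
    ((genericPoint_spec X).specializes trivial).mem_open U.2 hx
  letI : Field ((Spec (X.presheaf.stalk (genericPoint X))).presheaf.stalk (pt X)) :=
    IsField.toField (MulEquiv.isField (Field.toIsField X.functionField)
      ((RingEquiv.ofBijective ((Spec (X.presheaf.stalk (genericPoint X))).presheaf.germ ⊤ (pt X) trivial).hom
        ⟨germ_injective_of_isIntegral _ _ _, fun l => by
          obtain ⟨O, hO, c, rfl⟩ := (Spec (X.presheaf.stalk (genericPoint X))).presheaf.exists_germ_eq l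
          have hO' : O = ⊤ := (IsLocalRing.closedPoint_mem_iff O).1 hO
          subst hO'
          exact ⟨c, rfl⟩⟩).symm.trans
        (Scheme.ΓSpecIso (X.presheaf.stalk (genericPoint X))).commRingCatIsoToRingEquiv).toMulEquiv)
  have htf : ∀ x : X, ∀ (r : X.presheaf.stalk x) (a : G.presheaf.stalk x), r • a = 0 → r = 0 ∨ a = 0 := by
    intro x r a hra
    obtain ⟨U, hxU, s, rfl⟩ := X.presheaf.exists_germ_eq r
    obtain ⟨V, hxV, t, rfl⟩ := G.presheaf.exists_germ_eq a
    rw [← TopCat.Presheaf.germ_res_apply X.presheaf (homOfLE (inf_le_left : U ⊓ V ≤ U)) x ⟨hxU, hxV⟩ s,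
      ← Groth.Agent.M1.germ_mres G (inf_le_right : U ⊓ V ≤ V) (show x ∈ U ⊓ V from ⟨hxU, hxV⟩) t,
      ← Groth.Agent.M1.germ_smul] at hra
    obtain ⟨W, hxW, i₁, i₂, he⟩ := G.presheaf.germ_eq (U := U ⊓ V) (V := U ⊓ V) x ⟨hxU, hxV⟩ ⟨hxU, hxV⟩ _ 0 (hra.trans (map_zero _).symm)
    have hη : genericPoint X ∈ W := hne W x hxW
    have h1 := ev_res i (U := U ⊓ V) i₁.le hη
      (X.presheaf.map (homOfLE (inf_le_left : U ⊓ V ≤ U)).op s • Groth.Agent.M1.mres G inf_le_right t)
    have hz : Groth.Agent.M1.mres G i₁.le (X.presheaf.map (homOfLE (inf_le_left : U ⊓ V ≤ U)).op s • Groth.Agent.M1.mres G inf_le_right t) = (0 : Γ(G, W)) := he.trans (map_zero _)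
    rw [hz, ev_zero, ev_smul,
      ψ_res, ev_res] at h1
    rcases mul_eq_zero.1 h1.symm with h | h
    · left
      rw [eq_zero_of_ψ _ s h, map_zero]
    · right
      rw [ev_injective i _ (h.trans (ev_zero i _).symm), map_zero]
  refine ⟨fun x => Module.IsTorsionFree.of_smul_eq_zero (htf x), ?_⟩
  -- rank
  obtain ⟨a, ha⟩ : ∃ a : G.presheaf.stalk (genericPoint X), a ≠ 0 := by
    by_contra hall
    push Not at hall
    refine hG ?_
    rw [Limits.IsZero.iff_id_eq_zero]
    refine Scheme.Modules.hom_ext _ _ fun U => ?_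
    ext t
    show t = 0
    by_cases hU : genericPoint X ∈ U
    · obtain ⟨W, hW, i₁, i₂, he⟩ := G.presheaf.germ_eq _ hU hU t 0 ((hall _).trans (map_zero _).symm)
      have h1 := ev_res i i₁.le hW t
      rw [show Groth.Agent.M1.mres G i₁.le t = 0 from he.trans (map_zero _), ev_zero] at h1
      exact ev_injective i _ (h1.symm.trans (ev_zero i _).symm)
    · exact Groth.Agent.M1.section_ext _ _ fun x hx => absurd (hne U x hx) hU
  refine finrank_eq_one a ha fun b => ?_
  obtain ⟨U, hU, t₁, rfl⟩ := G.presheaf.exists_germ_eq a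
  obtain ⟨V, hV, t₂, rfl⟩ := G.presheaf.exists_germ_eq b
  have hc₁ : ev i hU t₁ ≠ 0 := fun h => ha (by rw [ev_injective i hU (h.trans (ev_zero i hU).symm), map_zero])
  obtain ⟨W, hW, s, hs⟩ := exists_ψ_eq (ev i hV t₂ / ev i hU t₁)
  have hZ : genericPoint X ∈ W ⊓ (U ⊓ V) := ⟨hW, hU, hV⟩
  refine ⟨X.presheaf.germ W _ hW s, ?_⟩
  rw [← TopCat.Presheaf.germ_res_apply X.presheaf (homOfLE (inf_le_left : W ⊓ (U ⊓ V) ≤ W)) _ hZ s,
    ← Groth.Agent.M1.germ_mres G (inf_le_right.trans inf_le_left : W ⊓ (U ⊓ V) ≤ U) hZ t₁,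
    ← Groth.Agent.M1.germ_mres G (inf_le_right.trans inf_le_right : W ⊓ (U ⊓ V) ≤ V) hZ t₂,
    ← Groth.Agent.M1.germ_smul]
  congr 1
  refine ev_injective i hZ ?_
  rw [ev_smul, ψ_res, ev_res, ev_res, hs]
  exact div_mul_cancel₀ _ hc₁

end Groth.Agent.S4356
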