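import Groth.Statements.S4357
import Groth.Agent.Lib.TensorMod.PullSupport

set_option autoImplicit false
universe u
open QCohSup

namespace Groth.Agent.S4357

open AlgebraicGeometry in
open CategoryTheory in
/-- Consider a scheme morphism f : Y -> X together with an O_X-module F that is quasi-coherent and of
finite type. The support of the pullback of F along f (those points of Y at which its stalk does not
vanish) coincides with the inverse image under f of the support of F. (When applied to the closed
immersions cut out by the powers of an ideal sheaf on a locally Noetherian scheme, this describes
the support of each level of a completed coherent module.) -/
theorem result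
    {X Y : Scheme.{u}} (f : Y ⟶ X) (F : X.Modules) [Coh.IsQCoh F] (hF : CohB1.IsFT F) :
    CohB1.support ((Scheme.Modules.pullback f).obj F) = f.base ⁻¹' CohB1.support F := by
  exact Groth.Agent.M2.support_pullback f ‹Coh.IsQCoh F› hF

end Groth.Agent.S4357
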