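import Groth.Statements.S4359
import Groth.Agent.Lib.SchPt.Basic

set_option autoImplicit false
universe u
open FinCond

namespace Groth.Agent.S4359

open AlgebraicGeometry in
open CategoryTheory in
/-- Let S be a locally Noetherian scheme, p : X -> S a morphism of finite type (locally of finite type
and quasi-compact) and q : Y -> S any morphism. Then every morphism f : X -> Y with f followed by q
equal to p is of finite type, that is, locally of finite type and quasi-compact. -/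
theorem result
    {X Y S : Scheme.{u}} [IsLocallyNoetherian S] (p : X ⟶ S) (q : Y ⟶ S)
    [LocallyOfFiniteType p] [QuasiCompact p] (f : X ⟶ Y) (hf : f ≫ q = p) :
    LocallyOfFiniteType f ∧ QuasiCompact f := by
  haveI h1 : LocallyOfFiniteType (f ≫ q) := hf ▸ (inferInstance : LocallyOfFiniteType p)
  refine ⟨locallyOfFiniteType_of_comp f q, ?_⟩
  haveI := LocallyOfFiniteType.isLocallyNoetherian p
  haveI : QuasiCompact (f ≫ q) := hf ▸ (inferInstance : QuasiCompact p)
  have hX : ∀ x : X, ∃ U : X.Opens, x ∈ U ∧ TopologicalSpace.NoetherianSpace U := fun x ↦ by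
    obtain ⟨_, ⟨V : X.Opens, hV, rfl⟩, hxV, -⟩ :=
      X.isBasis_affineOpens.exists_subset_of_mem_open (Set.mem_univ x) isOpen_univ
    haveI := IsLocallyNoetherian.component_noetherian (X := X) ⟨V, hV⟩
    exact ⟨V, hxV, noetherianSpace_of_isAffineOpen V hV⟩
  refine ⟨fun U hU hUc ↦ ?_⟩
  choose W hW hxW using fun y : Y ↦ show ∃ W : S.Opens, IsAffineOpen W ∧ q y ∈ W by
    obtain ⟨_, ⟨V : S.Opens, hV, rfl⟩, hxV, -⟩ :=
      S.isBasis_affineOpens.exists_subset_of_mem_open (Set.mem_univ (q y)) isOpen_univ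
    exact ⟨V, hV, hxV⟩
  obtain ⟨s, hs⟩ := hUc.elim_finite_subcover (fun y ↦ (q ⁻¹ᵁ W y : Set Y))
    (fun y ↦ (q ⁻¹ᵁ W y).isOpen) (fun y _ ↦ Set.mem_iUnion.2 ⟨y, hxW y⟩)
  have e : f ⁻¹' U = ⋃ y ∈ s, f ⁻¹' U ∩ ((f ≫ q) ⁻¹ᵁ W y : Set X) := by
    rw [← Set.inter_iUnion₂, eq_comm, Set.inter_eq_left]
    intro x hx
    obtain ⟨y, hy, hxy⟩ := Set.mem_iUnion₂.1 (hs hx)
    exact Set.mem_iUnion₂.2 ⟨y, hy, hxy⟩
  rw [e]
  refine s.isCompact_biUnion fun y _ ↦ ?_
  have := Groth.Agent.SchPt.noetherianSpace_of_isCompact hX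
    ((f ≫ q).isCompact_preimage (hW y).isCompact)
  exact (TopologicalSpace.noetherianSpace_set_iff _).1 this _ Set.inter_subset_right

end Groth.Agent.S4359
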