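import Groth.Statements.S4361
import Groth.Agent.Lib.SchPt.Basic

set_option autoImplicit false
universe u
open FinCond

namespace Groth.Agent.S4361

open AlgebraicGeometry in
open CategoryTheory in
/-- Let f : X -> Y and g : Y -> Z be morphisms whose composite is quasi-compact, and suppose the
underlying space of X is locally Noetherian (every point has an open neighbourhood which is a
Noetherian topological space). Then f is quasi-compact. (The published statement also covers the
case g separated, which is the standard cancellation property; this row states only the case of a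
locally Noetherian source.) -/
theorem result
    {X Y Z : Scheme.{u}} (f : X ⟶ Y) (g : Y ⟶ Z) [QuasiCompact (f ≫ g)]
    (hX : ∀ x : X, ∃ U : X.Opens, x ∈ U ∧ TopologicalSpace.NoetherianSpace U) :
    QuasiCompact f := by
  refine ⟨fun U hU hUc ↦ ?_⟩
  choose W hW hxW using fun y : Y ↦ show ∃ W : Z.Opens, IsAffineOpen W ∧ g y ∈ W by
    obtain ⟨_, ⟨V : Z.Opens, hV, rfl⟩, hxV, -⟩ :=
      Z.isBasis_affineOpens.exists_subset_of_mem_open (Set.mem_univ (g y)) isOpen_univ
    exact ⟨V, hV, hxV⟩
  obtain ⟨s, hs⟩ := hUc.elim_finite_subcover (fun y ↦ (g ⁻¹ᵁ W y : Set Y))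
    (fun y ↦ (g ⁻¹ᵁ W y).isOpen) (fun y _ ↦ Set.mem_iUnion.2 ⟨y, hxW y⟩)
  have e : f ⁻¹' U = ⋃ y ∈ s, f ⁻¹' U ∩ ((f ≫ g) ⁻¹ᵁ W y : Set X) := by
    rw [← Set.inter_iUnion₂, eq_comm, Set.inter_eq_left]
    intro x hx
    obtain ⟨y, hy, hxy⟩ := Set.mem_iUnion₂.1 (hs hx)
    exact Set.mem_iUnion₂.2 ⟨y, hy, hxy⟩
  rw [e]
  refine s.isCompact_biUnion fun y _ ↦ ?_
  have := Groth.Agent.SchPt.noetherianSpace_of_isCompact hX
    ((f ≫ g).isCompact_preimage (hW y).isCompact)
  exact (TopologicalSpace.noetherianSpace_set_iff _).1 this _ Set.inter_subset_right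

end Groth.Agent.S4361
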