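import Groth.Statements.S4362
import Mathlib.Data.DFinsupp.WellFounded

set_option autoImplicit false
universe u
open FinCond

namespace Groth.Agent.S4362

open AlgebraicGeometry in
open CategoryTheory in
/-- If X is a Noetherian scheme, every increasing sequence of quasi-coherent sheaves of ideals of the
structure sheaf is eventually constant; equivalently the ordered set of quasi-coherent ideal sheaves
of X is well-founded for the reverse order. (On a locally Noetherian scheme quasi-coherent and
coherent ideal sheaves coincide.) -/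
theorem result
    (X : Scheme.{u}) [IsNoetherian X] : WellFoundedGT X.IdealSheafData := by
  obtain ⟨s, hs, e⟩ := isCompact_and_isOpen_iff_finite_and_eq_biUnion_affineOpens.1
    ⟨(isCompact_univ : IsCompact (Set.univ : Set X)), isOpen_univ⟩
  haveI : Finite s := hs.to_subtype
  haveI : ∀ U : s, IsNoetherianRing Γ(X, (U.1 : X.Opens)) :=
    fun U ↦ IsLocallyNoetherian.component_noetherian U.1
  have hw0 : WellFoundedLT (∀ U : s, (Ideal Γ(X, (U.1 : X.Opens)))ᵒᵈ) := inferInstance
  have hw : WellFoundedGT (∀ U : s, Ideal Γ(X, (U.1 : X.Opens))) := ⟨hw0.wf⟩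
  refine StrictMono.wellFoundedGT (f := fun I : X.IdealSheafData ↦ fun U : s ↦ I.ideal U.1) ?_
  refine Monotone.strictMono_of_injective (fun I J h U ↦ h U.1) fun I J h ↦ ?_
  refine Scheme.IdealSheafData.ext_of_iSup_eq_top (fun U : s ↦ U.1) ?_ (fun U ↦ congrFun h U)
  refine eq_top_iff.2 fun x _ ↦ ?_
  obtain ⟨U, hU, hx⟩ := Set.mem_iUnion₂.1 (e ▸ Set.mem_univ x : x ∈ _)
  exact TopologicalSpace.Opens.mem_iSup.2 ⟨⟨U, hU⟩, hx⟩

end Groth.Agent.S4362
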