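import Groth.Statements.S4363
import Mathlib.AlgebraicGeometry.Morphisms.Immersion
-- import your own Groth.Agent.* helpers here

set_option autoImplicit false
universe u v
open RedSep

namespace Groth.Agent.S4363

open AlgebraicGeometry in
open CategoryTheory in
/-- Let Y be an affine scheme, f : X -> Y a morphism and (U i) a cover of X by affine open subschemes.
Then f is separated if and only if, for every pair of indices i, j, the intersection of U i and U j
is an affine open and its ring of sections is generated, as a ring, by the images of the rings of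
sections of U i and of U j under the restriction maps. -/
theorem result
    {X Y : Scheme.{u}} [IsAffine Y] (f : X ⟶ Y) {ι : Type v} (U : ι → X.Opens)
    (hU : ∀ i, IsAffineOpen (U i)) (hcov : ⨆ i, U i = ⊤) :
    IsSeparated f ↔ ∀ i j, IsAffineOpen (U i ⊓ U j) ∧
      Subring.closure (Set.range (X.presheaf.map (homOfLE (inf_le_left : U i ⊓ U j ≤ U i)).op).hom ∪
        Set.range (X.presheaf.map (homOfLE (inf_le_right : U i ⊓ U j ≤ U j)).op).hom) = ⊤ := by
  open Limits in
  classical
  let q : ∀ i j, pullback ((U i).ι ≫ f) ((U j).ι ≫ f) ⟶ pullback f f := fun i j =>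
    pullback.map _ _ _ _ (U i).ι (U j).ι (𝟙 Y) (by simp) (by simp)
  let d : ∀ i j, (U i ⊓ U j : X.Opens).toScheme ⟶ pullback ((U i).ι ≫ f) ((U j).ι ≫ f) :=
    fun i j => pullback.lift (X.homOfLE inf_le_left) (X.homOfLE inf_le_right) (by
      rw [← Category.assoc, X.homOfLE_ι, ← Category.assoc, X.homOfLE_ι])
  have hd : ∀ i j, d i j ≫ q i j = (U i ⊓ U j : X.Opens).ι ≫ pullback.diagonal f := fun i j => by
    apply pullback.hom_ext
    · rw [Category.assoc, pullback.lift_fst, pullback.lift_fst_assoc, X.homOfLE_ι, Category.assoc,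
        pullback.diagonal_fst, Category.comp_id]
    · rw [Category.assoc, pullback.lift_snd, pullback.lift_snd_assoc, X.homOfLE_ι, Category.assoc,
        pullback.diagonal_snd, Category.comp_id]
  have hq : ∀ i j, Set.range (q i j) =
      pullback.fst f f ⁻¹' (U i : Set X) ∩ pullback.snd f f ⁻¹' (U j : Set X) := fun i j => by
    simp [q, Scheme.Pullback.range_map]
  have hpre : ∀ i j, q i j ⁻¹' Set.range (pullback.diagonal f) = Set.range (d i j) := fun i j => by
    have : IsOpenImmersion (q i j) := by dsimp only [q]; infer_instance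
    apply subset_antisymm
    · rintro v ⟨x, hx⟩
      have hv : q i j v ∈ Set.range (q i j) := ⟨v, rfl⟩
      rw [hq, ← hx] at hv
      have hx' : x ∈ U i ⊓ U j :=
        ⟨by simpa [← Scheme.Hom.comp_apply] using hv.1, by simpa [← Scheme.Hom.comp_apply] using hv.2⟩
      refine ⟨⟨x, hx'⟩, (q i j).isOpenEmbedding.injective (Eq.trans ?_ hx)⟩
      exact congr($(hd i j) ⟨x, hx'⟩)
    · rintro _ ⟨x, rfl⟩
      exact ⟨(U i ⊓ U j : X.Opens).ι x, congr($((hd i j).symm) x)⟩
  have haff : ∀ i j, IsAffine (pullback ((U i).ι ≫ f) ((U j).ι ≫ f)) := fun i j => by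
    have : IsAffine (U i).toScheme := hU i
    have : IsAffine (U j).toScheme := hU j
    infer_instance
  -- surjectivity of the comorphism is generation by the two restriction maps
  have hgen : ∀ i j, Function.Surjective (d i j).appTop ↔
      Subring.closure
        (Set.range (X.presheaf.map (homOfLE (inf_le_left : U i ⊓ U j ≤ U i)).op).hom ∪
        Set.range (X.presheaf.map (homOfLE (inf_le_right : U i ⊓ U j ≤ U j)).op).hom) = ⊤ := by
    intro i j
    have := haff i j
    have : IsAffine (U i).toScheme := hU i
    have : IsAffine (U j).toScheme := hU j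
    set P := pullback ((U i).ι ≫ f) ((U j).ι ≫ f)
    let p₁ := pullback.fst ((U i).ι ≫ f) ((U j).ι ≫ f)
    let p₂ := pullback.snd ((U i).ι ≫ f) ((U j).ι ≫ f)
    let R' : Subring Γ(P, ⊤) :=
      Subring.closure (Set.range p₁.appTop.hom ∪ Set.range p₂.appTop.hom)
    have hR' : R' = ⊤ := by
      let incl : CommRingCat.of R' ⟶ Γ(P, ⊤) := CommRingCat.ofHom R'.subtype
      let φ₁ : Γ((U i).toScheme, ⊤) ⟶ CommRingCat.of R' := CommRingCat.ofHom
        (p₁.appTop.hom.codRestrict R' fun a => Subring.subset_closure (Or.inl ⟨a, rfl⟩))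
      let φ₂ : Γ((U j).toScheme, ⊤) ⟶ CommRingCat.of R' := CommRingCat.ofHom
        (p₂.appTop.hom.codRestrict R' fun a => Subring.subset_closure (Or.inr ⟨a, rfl⟩))
      let a₁ := Spec.map φ₁ ≫ (U i).toScheme.isoSpec.inv
      let a₂ := Spec.map φ₂ ≫ (U j).toScheme.isoSpec.inv
      let c : P ⟶ Spec (CommRingCat.of R') := P.toSpecΓ ≫ Spec.map incl
      have hc₁ : c ≫ a₁ = p₁ := by
        have e : φ₁ ≫ incl = p₁.appTop := rfl
        simp only [c, a₁, Category.assoc]
        rw [← Spec.map_comp_assoc, e, ← Scheme.toSpecΓ_naturality_assoc, ← Scheme.isoSpec_hom,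
          Iso.hom_inv_id, Category.comp_id]
      have hc₂ : c ≫ a₂ = p₂ := by
        have e : φ₂ ≫ incl = p₂.appTop := rfl
        simp only [c, a₂, Category.assoc]
        rw [← Spec.map_comp_assoc, e, ← Scheme.toSpecΓ_naturality_assoc, ← Scheme.isoSpec_hom,
          Iso.hom_inv_id, Category.comp_id]
      have hci : Function.Injective c.appTop := by
        have e : c.appTop = (Scheme.ΓSpecIso _).hom ≫ incl := by
          simp only [c, Scheme.Hom.comp_appTop, Scheme.toSpecΓ_appTop, Scheme.ΓSpecIso_naturality]
        rw [e]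
        exact Subtype.val_injective.comp (ConcreteCategory.bijective_of_isIso _).1
      have hw : a₁ ≫ (U i).ι ≫ f = a₂ ≫ (U j).ι ≫ f := by
        apply ext_of_isAffine
        ext t
        apply hci
        have e : (c ≫ a₁ ≫ (U i).ι ≫ f).appTop = (c ≫ a₂ ≫ (U j).ι ≫ f).appTop := by
          rw [reassoc_of% hc₁, reassoc_of% hc₂, pullback.condition]
        exact congr($e t)
      let r : Spec (CommRingCat.of R') ⟶ P := pullback.lift a₁ a₂ hw
      have hcr : c ≫ r = 𝟙 P := by
        apply pullback.hom_ext
        · rw [Category.assoc, pullback.lift_fst, Category.id_comp]; exact hc₁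
        · rw [Category.assoc, pullback.lift_snd, Category.id_comp]; exact hc₂
      rw [eq_top_iff]
      intro z _
      have e := congr($(congrArg Scheme.Hom.appTop hcr) z)
      simp only [c, Scheme.Hom.comp_appTop, Scheme.toSpecΓ_appTop, Scheme.ΓSpecIso_naturality,
        Scheme.Hom.id_appTop] at e
      rw [← show incl ((Scheme.ΓSpecIso _).hom (r.appTop z)) = z from e]
      exact ((Scheme.ΓSpecIso _).hom (r.appTop z)).2
    let t := (U i ⊓ U j : X.Opens).topIso.hom
    have hbij : Function.Bijective t := ConcreteCategory.bijective_of_isIso t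
    have e₁ : p₁.appTop ≫ (d i j).appTop ≫ t =
        (U i).topIso.hom ≫ X.presheaf.map (homOfLE (inf_le_left : U i ⊓ U j ≤ U i)).op := by
      rw [← Category.assoc, ← Scheme.Hom.comp_appTop, pullback.lift_fst, Scheme.homOfLE_appTop]
      simp only [t, Scheme.Opens.topIso_hom]
      erw [← Functor.map_comp, ← Functor.map_comp]
      rfl
    have e₂ : p₂.appTop ≫ (d i j).appTop ≫ t =
        (U j).topIso.hom ≫ X.presheaf.map (homOfLE (inf_le_right : U i ⊓ U j ≤ U j)).op := by
      rw [← Category.assoc, ← Scheme.Hom.comp_appTop, pullback.lift_snd, Scheme.homOfLE_appTop]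
      simp only [t, Scheme.Opens.topIso_hom]
      erw [← Functor.map_comp, ← Functor.map_comp]
      rfl
    have key : ((d i j).appTop ≫ t).hom.range = Subring.closure
        (Set.range (X.presheaf.map (homOfLE (inf_le_left : U i ⊓ U j ≤ U i)).op).hom ∪
        Set.range (X.presheaf.map (homOfLE (inf_le_right : U i ⊓ U j ≤ U j)).op).hom) := by
      rw [RingHom.range_eq_map, ← hR', RingHom.map_closure, Set.image_union, ← Set.range_comp,
        ← Set.range_comp]
      have s₁ : Function.Surjective (U i).topIso.hom := (ConcreteCategory.bijective_of_isIso _).2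
      have s₂ : Function.Surjective (U j).topIso.hom := (ConcreteCategory.bijective_of_isIso _).2
      have f₁ : ((d i j).appTop ≫ t).hom ∘ p₁.appTop.hom =
          (X.presheaf.map (homOfLE (inf_le_left : U i ⊓ U j ≤ U i)).op).hom ∘ (U i).topIso.hom :=
        funext fun z => congr($e₁ z)
      have f₂ : ((d i j).appTop ≫ t).hom ∘ p₂.appTop.hom =
          (X.presheaf.map (homOfLE (inf_le_right : U i ⊓ U j ≤ U j)).op).hom ∘ (U j).topIso.hom :=
        funext fun z => congr($e₂ z)
      rw [f₁, f₂, s₁.range_comp, s₂.range_comp]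
    rw [← key, RingHom.range_eq_top]
    exact ⟨fun h => hbij.2.comp h, fun h => Function.Surjective.of_comp_left h hbij.1⟩
  constructor
  · intro _ i j
    have hdc : IsClosedImmersion (d i j) := by
      have : IsPreimmersion (d i j ≫ q i j) := by rw [hd]; infer_instance
      have : IsOpenImmersion (q i j) := by dsimp only [q]; infer_instance
      have : IsPreimmersion (d i j) := IsPreimmersion.of_comp (d i j) (q i j)
      refine IsClosedImmersion.of_isPreimmersion _ ?_
      rw [← hpre]
      exact (pullback.diagonal f).isClosedEmbedding.isClosed_range.preimage (q i j).continuous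
    have := haff i j
    have hW : IsAffine (U i ⊓ U j : X.Opens).toScheme := isAffine_of_isAffineHom (d i j)
    exact ⟨hW, (hgen i j).mp (IsClosedImmersion.isAffine_surjective_of_isAffine (f := d i j)).2⟩
  · intro h
    refine ⟨IsClosedImmersion.of_isPreimmersion _ (isClosed_of_closure_subset fun z hz => ?_)⟩
    obtain ⟨i, hi⟩ := TopologicalSpace.Opens.mem_iSup.mp
      (hcov ▸ TopologicalSpace.Opens.mem_top (pullback.fst f f z))
    obtain ⟨j, hj⟩ := TopologicalSpace.Opens.mem_iSup.mp
      (hcov ▸ TopologicalSpace.Opens.mem_top (pullback.snd f f z))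
    obtain ⟨w, rfl⟩ : z ∈ Set.range (q i j) := hq i j ▸ ⟨hi, hj⟩
    have : IsAffine (U i ⊓ U j : X.Opens).toScheme := (h i j).1
    have := haff i j
    have : IsClosedImmersion (d i j) :=
      IsClosedImmersion.of_surjective_of_isAffine _ ((hgen i j).mpr (h i j).2)
    have : IsOpenImmersion (q i j) := by dsimp only [q]; infer_instance
    have h1 : w ∈ closure (q i j ⁻¹' Set.range (pullback.diagonal f)) := by
      rw [← (q i j).isOpenEmbedding.isOpenMap.preimage_closure_eq_closure_preimage
        (q i j).continuous]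
      exact hz
    rw [hpre, (d i j).isClosedEmbedding.isClosed_range.closure_eq, ← hpre] at h1
    exact h1

end Groth.Agent.S4363
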