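import Groth.Statements.S4366
import Mathlib.AlgebraicGeometry.Morphisms.Flat
import Mathlib.RingTheory.Flat.Localization

set_option autoImplicit false
universe u
open SchMor

namespace Groth.Agent.S4366

open AlgebraicGeometry in
open CategoryTheory in
open CategoryTheory.Limits in
/-- Let f : X -> Y be a morphism, y a point of Y and Z = Spec O_{Y,y} the local scheme of Y at y with
its canonical morphism to Y. Then the projection p : X x_Y Z -> X induces isomorphisms on all local
rings: for every point t of X x_Y Z the homomorphism O_{X, p t} -> O_{X x_Y Z, t} is bijective. (The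
published statement also asserts that p is a homeomorphism onto the preimage of Z; that part is not
stated here.) -/
theorem result
    {X Y : Scheme.{u}} (f : X ⟶ Y) (y : Y) (t : ↑(pullback f (Y.fromSpecStalk y))) :
    IsIso ((pullback.fst f (Y.fromSpecStalk y)).stalkMap t) := by
  haveI : Flat (Y.fromSpecStalk y) := by
    obtain ⟨_, ⟨V : Y.Opens, hV, rfl⟩, hyV, -⟩ :=
      Y.isBasis_affineOpens.exists_subset_of_mem_open (Set.mem_univ y) isOpen_univ
    rw [← IsAffineOpen.fromSpecStalk_eq_fromSpecStalk hV hyV]
    haveI : Flat (Spec.map (Y.presheaf.germ V y hyV)) := by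
      rw [HasRingHomProperty.Spec_iff (P := @Flat)]
      letI := (Y.presheaf.germ V y hyV).hom.toAlgebra
      haveI : IsLocalization.AtPrime (Y.presheaf.stalk y) (hV.primeIdealOf ⟨y, hyV⟩).asIdeal :=
        hV.isLocalization_stalk ⟨y, hyV⟩
      exact IsLocalization.flat (Y.presheaf.stalk y) (hV.primeIdealOf ⟨y, hyV⟩).asIdeal.primeCompl
    haveI : IsOpenImmersion hV.fromSpec := hV.isOpenImmersion_fromSpec
    exact MorphismProperty.comp_mem _ _ _ ‹_› (inferInstance : Flat hV.fromSpec)
  have hflat := Flat.stalkMap (pullback.fst f (Y.fromSpecStalk y)) t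
  have hsurj := (pullback.fst f (Y.fromSpecStalk y)).stalkMap_surjective t
  algebraize [((pullback.fst f (Y.fromSpecStalk y)).stalkMap t).hom]
  haveI := @Module.FaithfullyFlat.of_flat_of_isLocalHom _ _ _ _ _ _ _
    hflat ((pullback.fst f (Y.fromSpecStalk y)).toLRSHom.prop t)
  have hinj : Function.Injective ((pullback.fst f (Y.fromSpecStalk y)).stalkMap t).hom :=
    FaithfulSMul.algebraMap_injective _ _
  exact (ConcreteCategory.isIso_iff_bijective _).2 ⟨hinj, hsurj⟩

end Groth.Agent.S4366
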