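import Groth.Statements.S4369

set_option autoImplicit false
universe u
open AffSch

namespace Groth.Agent.S4369


/-- Let φ : A' -> A be a ring homomorphism such that every f in A can be written f = h φ(f') with h
invertible in A (this holds in particular when φ is surjective). Then the associated continuous map
Spec A -> Spec A' is a homeomorphism onto its image. -/
theorem result
    {A' A : Type u} [CommRing A'] [CommRing A] (φ : A' →+* A)
    (h : ∀ f : A, ∃ (u : Aˣ) (f' : A'), f = (u : A) * φ f') :
    Topology.IsEmbedding (PrimeSpectrum.comap φ) := by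
  have hind : Topology.IsInducing (PrimeSpectrum.comap φ) := by
    refine ⟨le_antisymm (PrimeSpectrum.continuous_comap φ).le_induced ?_⟩
    intro W hW
    obtain ⟨S, hS, rfl⟩ := PrimeSpectrum.isTopologicalBasis_basic_opens.open_eq_sUnion hW
    refine @isOpen_sUnion _ (TopologicalSpace.induced (PrimeSpectrum.comap φ) inferInstance) _ fun V hV => ?_
    obtain ⟨f, rfl⟩ := hS hV
    obtain ⟨u, f', hf⟩ := h f
    refine isOpen_induced_iff.2 ⟨PrimeSpectrum.basicOpen f', (PrimeSpectrum.basicOpen f').isOpen, ?_⟩
    ext p
    simp only [Set.mem_preimage, SetLike.mem_coe, PrimeSpectrum.mem_basicOpen, PrimeSpectrum.comap_asIdeal,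
      Ideal.mem_comap]
    rw [hf]
    exact not_congr (p.asIdeal.unit_mul_mem_iff_mem u.isUnit).symm
  exact hind.isEmbedding


end Groth.Agent.S4369
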