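import Groth.Statements.S4370
import Groth.Agent.Lib.RedSep.Basic

set_option autoImplicit false
universe u
open RedSep

namespace Groth.Agent.S4370

open AlgebraicGeometry in
open CategoryTheory in
/-- Let f : X -> Y be an open immersion and let g : X_red -> Y_red be the morphism of reduced schemes
induced by f, i.e. the morphism between the closed subschemes defined by the nilradicals whose
composite with the inclusion of Y_red in Y is the inclusion of X_red in X followed by f. Then g is
an open immersion. -/
theorem result
    {X Y : Scheme.{u}} (f : X ⟶ Y) [IsOpenImmersion f]
    (g : X.nilradical.subscheme ⟶ Y.nilradical.subscheme)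
    (hg : g ≫ Y.nilradical.subschemeι = X.nilradical.subschemeι ≫ f) :
    IsOpenImmersion g := by
  have : IsReduced (Limits.pullback f Y.nilradical.subschemeι) := by
    have := Groth.Agent.RedSepLib.isReduced_nilradical_subscheme Y
    exact isReduced_of_isOpenImmersion (Limits.pullback.snd f Y.nilradical.subschemeι)
  have := Groth.Agent.RedSepLib.isReduced_nilradical_subscheme X
  obtain ⟨e, he⟩ := Groth.Agent.RedSepLib.exists_iso_of_range_eq X.nilradical.subschemeι
    (Limits.pullback.fst f Y.nilradical.subschemeι) (by
      simp [Scheme.IdealSheafData.range_subschemeι, Scheme.Pullback.range_fst])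
  have hg' : g = e.hom ≫ Limits.pullback.snd f Y.nilradical.subschemeι := by
    rw [← cancel_mono Y.nilradical.subschemeι, hg, Category.assoc, ← Limits.pullback.condition,
      ← Category.assoc, he]
  rw [hg']
  infer_instance

end Groth.Agent.S4370
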