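import Groth.Statements.S4371
import Mathlib.RingTheory.MvPolynomial.Basic
import Mathlib.Algebra.MvPolynomial.Division
import Mathlib.RingTheory.Polynomial.Basic
import Mathlib.AlgebraicGeometry.FunctionField

set_option autoImplicit false
universe u
open RedSep

namespace Groth.Agent.S4371

open AlgebraicGeometry in
open CategoryTheory in
/-- Let K be a field and Y = Spec K[s, t] the affine plane over K. The open subset D(s) ∪ D(t) of Y, the
complement of the closed point s = t = 0, is not affine. -/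
theorem result
    (K : Type u) [Field K] :
    ¬ IsAffineOpen (X := Spec (CommRingCat.of (MvPolynomial (Fin 2) K)))
      (PrimeSpectrum.basicOpen (MvPolynomial.X 0 : MvPolynomial (Fin 2) K) ⊔
        PrimeSpectrum.basicOpen (MvPolynomial.X 1 : MvPolynomial (Fin 2) K)) := by
  intro hW
  let A := CommRingCat.of (MvPolynomial (Fin 2) K)
  let f : Γ(Spec A, ⊤) := (Scheme.ΓSpecIso A).inv (MvPolynomial.X 0)
  let g : Γ(Spec A, ⊤) := (Scheme.ΓSpecIso A).inv (MvPolynomial.X 1)
  set W : (Spec A).Opens := (Spec A).basicOpen f ⊔ (Spec A).basicOpen g with hWdef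
  replace hW : IsAffineOpen W := by
    rwa [hWdef, basicOpen_eq_of_affine, basicOpen_eq_of_affine]
  have hWf : (Spec A).basicOpen f ≤ W := le_sup_left
  have hWg : (Spec A).basicOpen g ≤ W := le_sup_right
  -- in `Γ(W)` the two coordinates generate the unit ideal
  let r := (Spec A).presheaf.map (homOfLE (le_top : W ≤ ⊤)).op
  have hspan : Ideal.span {r f, r g} = ⊤ := by
    rw [← hW.iSup_basicOpen_eq_self_iff, iSup_subtype]
    simp only [iSup_insert, iSup_singleton, r, Scheme.basicOpen_res]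
    rw [inf_eq_right.mpr hWf, inf_eq_right.mpr hWg]
  obtain ⟨p, q, hpq⟩ := Ideal.mem_span_pair.mp (hspan ▸ Submodule.mem_top : (1 : Γ(Spec A, W)) ∈ _)
  -- embed everything into the function field
  have : _root_.IsDomain A := inferInstanceAs (_root_.IsDomain (MvPolynomial (Fin 2) K))
  let η := genericPoint (Spec A)
  have hfne : (Spec A).basicOpen f ≠ ⊥ := by
    simp only [f, g, basicOpen_eq_of_affine, ne_eq]
    exact fun h => MvPolynomial.X_ne_zero (R := K) (0 : Fin 2)
      ((PrimeSpectrum.basicOpen_eq_bot_iff _).mp h).eq_zero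
  have hgne : (Spec A).basicOpen g ≠ ⊥ := by
    simp only [f, g, basicOpen_eq_of_affine, ne_eq]
    exact fun h => MvPolynomial.X_ne_zero (R := K) (1 : Fin 2)
      ((PrimeSpectrum.basicOpen_eq_bot_iff _).mp h).eq_zero
  have hηf : η ∈ (Spec A).basicOpen f := (genericPoint_spec _).mem_open_set_iff
    ((Spec A).basicOpen f).isOpen |>.mpr (by
      simpa using Set.nonempty_iff_ne_empty.mpr (fun h => hfne (TopologicalSpace.Opens.ext h)))
  have hηg : η ∈ (Spec A).basicOpen g := (genericPoint_spec _).mem_open_set_iff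
    ((Spec A).basicOpen g).isOpen |>.mpr (by
      simpa using Set.nonempty_iff_ne_empty.mpr (fun h => hgne (TopologicalSpace.Opens.ext h)))
  have hηW : η ∈ W := hWf hηf
  let φ : A →+* (Spec A).presheaf.stalk η :=
    ((Scheme.ΓSpecIso A).inv ≫ (Spec A).presheaf.germ ⊤ η trivial).hom
  have hφ : Function.Injective φ := by
    intro a b h
    exact (Scheme.ΓSpecIso A).symm.commRingCatIsoToRingEquiv.injective
      (germ_injective_of_isIntegral (X := Spec A) (U := ⊤) η trivial h)
  let ψ := ((Spec A).presheaf.germ W η hηW).hom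
  have hψ : ∀ a, ψ (r ((Scheme.ΓSpecIso A).inv a)) = φ a := fun a =>
    TopCat.Presheaf.germ_res_apply _ _ _ _ _
  have gr : ∀ (U V : (Spec A).Opens) (hVU : V ≤ U) (hV : η ∈ V) (x : Γ(Spec A, U)),
      (Spec A).presheaf.germ V η hV (((Spec A).presheaf.map (homOfLE hVU).op).hom x) =
        (Spec A).presheaf.germ U η (hVU hV) x :=
    fun U V hVU hV x => TopCat.Presheaf.germ_res_apply _ _ _ _ _
  have loc : ∀ (a : A) (h : η ∈ (Spec A).basicOpen ((Scheme.ΓSpecIso A).inv a))
      (hle : (Spec A).basicOpen ((Scheme.ΓSpecIso A).inv a) ≤ W) (z : Γ(Spec A, W)),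
      ∃ (n : ℕ) (b : A), ψ z * φ a ^ n = φ b := by
    intro a h hle z
    have := (isAffineOpen_top (Spec A)).isLocalization_basicOpen ((Scheme.ΓSpecIso A).inv a)
    obtain ⟨⟨b, _, n, rfl⟩, e⟩ := IsLocalization.surj
      (Submonoid.powers ((Scheme.ΓSpecIso A).inv a)) ((Spec A).presheaf.map (homOfLE hle).op z)
    refine ⟨n, (Scheme.ΓSpecIso A).hom b, ?_⟩
    have e' := congrArg ((Spec A).presheaf.germ _ η h) e
    simp only [map_mul, map_pow, RingHom.algebraMap_toAlgebra] at e'
    erw [gr W _ hle h, gr ⊤ _ le_top h, gr ⊤ _ le_top h] at e'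
    simpa [ψ, φ] using e'
  have div : ∀ z : Γ(Spec A, W), ∃ b : A, ψ z = φ b := by
    intro z
    obtain ⟨n, a, ha⟩ := loc _ hηf hWf z
    obtain ⟨m, a', ha'⟩ := loc _ hηg hWg z
    have e : a * (MvPolynomial.X 1 : MvPolynomial (Fin 2) K) ^ m =
        a' * (MvPolynomial.X 0 : MvPolynomial (Fin 2) K) ^ n := by
      apply hφ
      simp only [map_mul, map_pow, ← ha, ← ha']
      ring
    have hp : Prime (MvPolynomial.X 0 : MvPolynomial (Fin 2) K) := MvPolynomial.X_prime
    have hnd : ¬ (MvPolynomial.X 0 : MvPolynomial (Fin 2) K) ∣ MvPolynomial.X 1 ^ m := by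
      intro h
      obtain ⟨c, hc⟩ := hp.dvd_of_dvd_pow h
      have := congrArg (MvPolynomial.eval (![0, 1] : Fin 2 → K)) hc
      simp at this
    obtain ⟨b, hb⟩ := hp.pow_dvd_of_dvd_mul_right n hnd (Dvd.intro_left a' e.symm)
    refine ⟨b, mul_right_cancel₀ (pow_ne_zero n ?_) (ha.trans ?_)⟩
    · rw [map_ne_zero_iff _ hφ]
      exact MvPolynomial.X_ne_zero (R := K) (0 : Fin 2)
    · rw [hb, map_mul, map_pow, mul_comm]
  obtain ⟨p', hp'⟩ := div p
  obtain ⟨q', hq'⟩ := div q
  have h1 := congrArg ψ hpq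
  rw [map_add, map_mul, map_mul, map_one, hp', hq', hψ, hψ, ← map_mul, ← map_mul, ← map_add,
    ← map_one φ] at h1
  have := congrArg (MvPolynomial.eval (0 : Fin 2 → K)) (hφ h1)
  simp [A] at this

end Groth.Agent.S4371
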