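import Groth.Statements.S4372
import Groth.Agent.Lib.RedSep.Basic

set_option autoImplicit false
universe u
open RedSep

namespace Groth.Agent.S4372

open AlgebraicGeometry in
open CategoryTheory in
/-- Let h : Z -> X be an immersion with Z reduced (a reduced subscheme of X), and let W be the reduced
closed subscheme of X whose underlying space is the closure of h(Z). Then Z is an open subscheme of
W: h factors as an open immersion Z -> W followed by the closed immersion W -> X. Stated as the
existence of such a factorization through a reduced scheme W closed-immersed onto the closure of the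
image. -/
theorem result
    {Z X : Scheme.{u}} (h : Z ⟶ X) [IsImmersion h] [IsReduced Z] :
    ∃ (W : Scheme.{u}) (j : Z ⟶ W) (i : W ⟶ X), IsOpenImmersion j ∧ IsClosedImmersion i ∧
      IsReduced W ∧ Set.range i = closure (Set.range h) ∧ j ≫ i = h := by
  let U : X.Opens := ⟨coborder (Set.range h), h.isLocallyClosed_range.isOpen_coborder⟩
  let C : TopologicalSpace.Closeds X := TopologicalSpace.Closeds.closure (Set.range h)
  let I := Scheme.IdealSheafData.vanishingIdeal C
  have hW := Groth.Agent.RedSepLib.isReduced_vanishingIdeal_subscheme C
  obtain ⟨l, hl, hlh, hlr⟩ := Groth.Agent.RedSepLib.exists_closedImmersion_lift h U subset_coborder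
    isClosed_preimage_val_coborder
  have : IsReduced (Limits.pullback I.subschemeι U.ι) :=
    isReduced_of_isOpenImmersion (Limits.pullback.fst I.subschemeι U.ι)
  have hr : Set.range l = Set.range (Limits.pullback.snd I.subschemeι U.ι) := by
    rw [hlr, Scheme.Pullback.range_snd, Scheme.IdealSheafData.range_subschemeι]
    ext x
    simp only [I, Scheme.IdealSheafData.coe_support_vanishingIdeal, Set.mem_preimage]
    refine ⟨fun hx => subset_closure hx, fun hx => ?_⟩
    have hx' : U.ι x ∈ closure (Set.range h) ∩ coborder (Set.range h) := ⟨hx, x.2⟩
    rwa [closure_inter_coborder] at hx'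
  obtain ⟨e, he⟩ := Groth.Agent.RedSepLib.exists_iso_of_range_eq l
    (Limits.pullback.snd I.subschemeι U.ι) hr
  refine ⟨I.subscheme, e.hom ≫ Limits.pullback.fst _ _, I.subschemeι, inferInstance, inferInstance,
    hW, by simp [I, C, Scheme.IdealSheafData.range_subschemeι], ?_⟩
  rw [Category.assoc, Limits.pullback.condition, ← Category.assoc, he, hlh]

end Groth.Agent.S4372
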