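import Groth.Statements.S4375
import Groth.Agent.Lib.SerreAff11.Cover
import Groth.Agent.Lib.SerreAff11.Free
import Groth.Agent.Lib.ModM1.LocFree

set_option autoImplicit false
universe u
open CategoryTheory CategoryTheory.Limits AlgebraicGeometry
open EGA2

namespace Groth.Agent.S4375

/-- (c') ⇒ (a): let X be a quasi-compact separated scheme. Suppose that for every n, every
quasi-coherent O_X-module F admitting a monomorphism into the free module O_X^n, and every
epimorphism p : F → F'' onto a quasi-coherent O_X-module, the map induced by p on global sections is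
surjective. Then X is affine. (The published statement also allows X to be a scheme whose underlying
space is Noetherian; this row assumes it quasi-compact and separated.) -/
theorem result (X : Scheme.{u}) [CompactSpace X] [X.IsSeparated]
    (h : ∀ (n : ℕ) (F F'' : X.Modules) (i : F ⟶ FlatMod.freeMod X n) (p : F ⟶ F''),
      Mono i → Epi p → Coh.IsQCoh F → Coh.IsQCoh F'' →
        Function.Surjective (p.val.app (Opposite.op ⊤)).hom) :
    IsAffine X := by
  have h1 : ∀ (F F'' : X.Modules) (i : F ⟶ Coh.structureModule X) (p : F ⟶ F''), Mono i → Epi p →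
      Coh.IsQCoh F → Coh.IsQCoh F'' → Function.Surjective (p.app ⊤) := fun F F'' i p hi hp hF hF'' => by
    let e : Coh.structureModule X ≅ FlatMod.freeMod X 1 :=
      (coproductUniqueIso (fun _ : Fin 1 => Coh.structureModule X)).symm
    haveI := hi
    exact h 1 F F'' (i ≫ e.hom) p (mono_comp _ _) hp hF hF''
  obtain ⟨n, g, haff, hcov⟩ := SerreAff11.exists_affine_cover ⊤ isCompact_univ h1
  refine SerreAff11.isAffine_of_lift g haff ?_
  have hz : Limits.cokernel.π (SerreAff11.rowHom g) = 0 := by
    refine M1.unit_hom_ext ?_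
    have hm : (M1.Sub.im (SerreAff11.rowHom g)).mem ⊤ (M1.one ⊤) := M1.Sub.mem_of_locally _ _ fun y hy => by
      obtain ⟨i, hi⟩ := hcov y hy
      obtain ⟨m, hm⟩ := SerreAff11.exists_local_lift g i
      refine ⟨X.basicOpen (g i), le_top, hi, ?_⟩
      rw [M1.mres_one, ← hm]
      exact M1.Sub.im_mem_app _ _ m
    exact ((M1.Sub.mem_ker _ _ _).1 hm).trans rfl
  haveI : Epi (SerreAff11.rowHom g) := Abelian.epi_of_cokernel_π_eq_zero _ hz
  have hfree : Coh.IsQCoh (FlatMod.freeMod X n) :=
    M1.isQCoh_of_isIso (M1.freeModFrIso X n).symm (M1.isQCoh_fr X _)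
  obtain ⟨a, ha⟩ := h n _ _ (𝟙 (FlatMod.freeMod X n)) ((M1.freeModFrIso X n).hom ≫ SerreAff11.rowHom g)
    inferInstance (epi_comp _ _) hfree (M1.isQCoh_structureModule X) (M1.one ⊤)
  exact ⟨(M1.freeModFrIso X n).hom.app ⊤ a, ha⟩

end Groth.Agent.S4375
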