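import Groth.Statements.S4377
import Groth.Agent.Lib.SerreAff11.Ideal
import Groth.Agent.Lib.RDerLES.Horseshoe
import Mathlib.Topology.Sheaves.Functors

set_option autoImplicit false
universe u
open CategoryTheory CategoryTheory.Limits AlgebraicGeometry
open EGA2

namespace Groth.Agent.S4377

/-- (c') ⇒ (a): let f : X → Y be a separated quasi-compact morphism such that R¹f_*(J) = 0 (first higher
direct image of the underlying abelian sheaf) for every quasi-coherent submodule J of O_X. Then f is
an affine morphism. -/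
theorem result {X Y : Scheme.{u}} (f : X ⟶ Y) [IsSeparated f] [QuasiCompact f]
    (h : ∀ (J : X.Modules) (i : J ⟶ Coh.structureModule X), Mono i → Coh.IsQCoh J →
      Limits.IsZero ((Coh.RpushAb f 1).obj (Coh.toAb J))) :
    IsAffineHom f := by
  refine ⟨fun U hU => SerreAff11.isAffineOpen_of_surjAt _
    (QuasiCompact.isCompact_preimage _ U.2 hU.isCompact) ?_⟩
  intro M N p i hi hp hM hN
  have hz := h (kernel p) i hi (M1.isQCoh_kernel hM hN p)
  have hS : (ShortComplex.mk (kernel.ι p) p (kernel.condition p)).ShortExact :=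
    { exact := ShortComplex.exact_kernel p }
  haveI : (M1.toShAb X).Additive := inferInstanceAs (SheafOfModules.toSheaf X.ringCatSheaf).Additive
  have hS' : ((ShortComplex.mk (kernel.ι p) p (kernel.condition p)).map (M1.toShAb X)).ShortExact := hS.map_of_exact _
  haveI : PreservesLimitsOfSize.{0, 0} (Coh.pushAb f) :=
    (TopCat.Sheaf.pullbackPushforwardAdjunction AddCommGrpCat.{u} f.base).rightAdjoint_preservesLimits
  haveI : PreservesFiniteLimits (Coh.pushAb f) := PreservesLimitsOfSize.preservesFiniteLimits _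
  let S : ShortComplex (Sheaf (Opens.grothendieckTopology X) AddCommGrpCat.{u}) :=
    ShortComplex.mk (X₁ := Coh.toAb (kernel p)) (X₂ := Coh.toAb M) (X₃ := Coh.toAb N)
      ((M1.toShAb X).map (kernel.ι p)) ((M1.toShAb X).map p) (by
        refine ((M1.toShAb X).map_comp _ _).symm.trans ?_
        rw [kernel.condition, Functor.map_zero]
        rfl)
  have hS'' : S.ShortExact :=
    { exact := hS'.exact, mono_f := hS'.mono_f, epi_g := hS'.epi_g }
  obtain ⟨R⟩ := RDerLES.exists_sesRes hS''
  obtain ⟨-, ⟨w, hw⟩, -⟩ := RDerLES.exact_sequences (Coh.pushAb f) R 0 1 rfl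
  haveI : Epi (((Coh.pushAb f).rightDerived 0).map S.g) := hw.epi_f (hz.eq_of_tgt _ _)
  haveI : Epi ((Coh.pushAb f).map S.g) :=
    ((MorphismProperty.epimorphisms _).arrow_mk_iso_iff
      (Arrow.isoMk' _ _ ((Coh.pushAb f).rightDerivedZeroIsoSelf.app S.X₂)
        ((Coh.pushAb f).rightDerivedZeroIsoSelf.app S.X₃)
        ((Coh.pushAb f).rightDerivedZeroIsoSelf.hom.naturality S.g).symm)).1 ‹_›
  haveI : Epi ((M1.toShAb Y).map ((Coh.push f).map p)) :=
    inferInstanceAs (Epi ((Coh.pushAb f).map S.g))
  haveI : Epi ((Coh.push f).map p) := (M1.toShAb Y).epi_of_epi_map this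
  exact M1.app_surjective_affine_of_isQCoh (M1.isQCoh_push f hM) (M1.isQCoh_push f hN) ((Coh.push f).map p) hU

end Groth.Agent.S4377
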