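import Groth.Statements.S4378
import Mathlib.AlgebraicGeometry.Morphisms.Proper

set_option autoImplicit false
universe u
open CategoryTheory CategoryTheory.Limits AlgebraicGeometry
open EGA2

namespace Groth.Agent.S4378

/-- Let q : Y → S be separated and of finite type, and f : X → Y a morphism such that X is also
separated and of finite type over S through f ≫ q. Then f is proper if and only if for every scheme
S' over S the morphism X ×_S S' → Y ×_S S' induced by f is closed (as a map of topological spaces). -/
theorem result {X Y S : Scheme.{u}} (q : Y ⟶ S) (f : X ⟶ Y)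
    [IsSeparated q] [LocallyOfFiniteType q] [QuasiCompact q]
    [IsSeparated (f ≫ q)] [LocallyOfFiniteType (f ≫ q)] [QuasiCompact (f ≫ q)] :
    IsProper f ↔ ∀ (S' : Scheme.{u}) (g : S' ⟶ S),
      IsClosedMap (pullback.map (f ≫ q) g q g f (𝟙 S') (𝟙 S) (Category.comp_id (f ≫ q))
        ((Category.comp_id g).trans (Category.id_comp g).symm)).base := by
  have sq : ∀ (S' : Scheme.{u}) (g : S' ⟶ S), IsPullback
      (pullback.fst (f ≫ q) g) (pullback.map (f ≫ q) g q g f (𝟙 S') (𝟙 S) (Category.comp_id (f ≫ q))
        ((Category.comp_id g).trans (Category.id_comp g).symm)) f (pullback.fst q g) := by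
    intro S' g
    refine IsPullback.of_bot ?_ (pullback.lift_fst _ _ _).symm (IsPullback.of_hasPullback q g)
    rw [pullback.lift_snd, Category.comp_id]
    exact IsPullback.of_hasPullback (f ≫ q) g
  refine ⟨fun hf S' g => ?_, fun h => ?_⟩
  · haveI := MorphismProperty.of_isPullback (P := @IsProper) (sq S' g) hf
    exact Scheme.Hom.isClosedMap _
  · haveI : IsSeparated f := IsSeparated.of_comp f q
    haveI : LocallyOfFiniteType f := locallyOfFiniteType_of_comp f q
    haveI : QuasiCompact f := QuasiCompact.of_comp f q
    haveI : UniversallyClosed f := ⟨fun Z Y' i y snd hsq => ?_⟩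
    · exact {}
    · let σ : Y' ⟶ pullback q (y ≫ q) := pullback.lift y (𝟙 Y') (by simp)
      haveI : IsClosedImmersion (σ ≫ pullback.snd q (y ≫ q)) := by rw [pullback.lift_snd]; infer_instance
      haveI : IsClosedImmersion σ := IsClosedImmersion.of_comp σ (pullback.snd q (y ≫ q))
      let m := pullback.map (f ≫ q) (y ≫ q) q (y ≫ q) f (𝟙 Y') (𝟙 S) (Category.comp_id (f ≫ q))
        ((Category.comp_id (y ≫ q)).trans (Category.id_comp (y ≫ q)).symm)
      let j := pullback.mapDesc f y q
      haveI : IsClosedImmersion j := inferInstance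
      have hcomm : hsq.flip.isoPullback.hom ≫ j ≫ m = snd ≫ σ := by
        apply pullback.hom_ext
        · simp only [j, m, σ, pullback.mapDesc, pullback.map, Category.assoc, pullback.lift_fst, pullback.lift_fst_assoc, Category.comp_id]
          simp [IsPullback.isoPullback_hom_fst_assoc, hsq.w]
        · simp only [j, m, σ, pullback.mapDesc, pullback.map, Category.assoc, pullback.lift_snd, pullback.lift_snd_assoc, Category.comp_id]
          simp
      intro T hT
      have h1 : IsClosed ((hsq.flip.isoPullback.hom ≫ j ≫ m).base '' T) := by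
        have : ((hsq.flip.isoPullback.hom ≫ j ≫ m).base '' T) = m.base '' (j.base '' (hsq.flip.isoPullback.hom.base '' T)) := by
          rw [← Set.image_comp, ← Set.image_comp]; rfl
        rw [this]
        exact h Y' (y ≫ q) _ (j.isClosedMap _ (hsq.flip.isoPullback.hom.homeomorph.isClosedMap _ hT))
      rw [hcomm] at h1
      have h2 : snd.base '' T = σ.base ⁻¹' ((snd ≫ σ).base '' T) := by
        ext z
        constructor
        · rintro ⟨t, ht, rfl⟩; exact ⟨t, ht, rfl⟩
        · rintro ⟨t, ht, he⟩; exact ⟨t, ht, σ.isClosedEmbedding.injective he⟩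
      rw [h2]
      exact h1.preimage σ.continuous

end Groth.Agent.S4378
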