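import Groth.Statements.S4385
import Groth.Agent.Lib.RelAmple18.Compl

set_option autoImplicit false
universe u
open CategoryTheory CategoryTheory.Limits AlgebraicGeometry
open EGA2

namespace Groth.Agent.S4385

/-- Let f : X → Y and f' : X' → Y be quasi-compact morphisms, X'' = X ⨿ X' their disjoint union with f''
: X'' → Y the morphism restricting to f and f', and L'' an O_{X''}-module whose inverse images L on
X and L' on X' (along the two coprojections) are invertible. Then L'' is ample relative to f'' if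
and only if L is ample relative to f and L' is ample relative to f'. -/
theorem result {X X' Y : Scheme.{u}} (f : X ⟶ Y) (f' : X' ⟶ Y) [QuasiCompact f] [QuasiCompact f']
    (L'' : (X ⨿ X').Modules)
    (hL : PicF.IsInvertible ((Scheme.Modules.pullback (coprod.inl : X ⟶ X ⨿ X')).obj L''))
    (hL' : PicF.IsInvertible ((Scheme.Modules.pullback (coprod.inr : X' ⟶ X ⨿ X')).obj L'')) :
    RelAmple.IsRelAmple (coprod.desc f f') L'' ↔
      RelAmple.IsRelAmple f ((Scheme.Modules.pullback (coprod.inl : X ⟶ X ⨿ X')).obj L'') ∧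
        RelAmple.IsRelAmple f' ((Scheme.Modules.pullback (coprod.inr : X' ⟶ X ⨿ X')).obj L'') := by
  have hcompl := AlgebraicGeometry.isCompl_opensRange_inl_inr X X'
  have hA : ∀ V : Y.Opens, (coprod.inl : X ⟶ X ⨿ X') ''ᵁ (f ⁻¹ᵁ V) =
      (coprod.inl : X ⟶ X ⨿ X').opensRange ⊓ coprod.desc f f' ⁻¹ᵁ V := fun V => by
    rw [← Scheme.Hom.image_preimage_eq_opensRange_inf, ← Scheme.Hom.comp_preimage, coprod.inl_desc]
  have hB : ∀ V : Y.Opens, (coprod.inr : X' ⟶ X ⨿ X') ''ᵁ (f' ⁻¹ᵁ V) =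
      (coprod.inr : X' ⟶ X ⨿ X').opensRange ⊓ coprod.desc f f' ⁻¹ᵁ V := fun V => by
    rw [← Scheme.Hom.image_preimage_eq_opensRange_inf, ← Scheme.Hom.comp_preimage, coprod.inr_desc]
  have hq : QuasiCompact (coprod.desc f f') := by
    refine (quasiCompact_iff _).mpr fun U hU hc => ?_
    let V : Y.Opens := ⟨U, hU⟩
    have he : coprod.desc f f' ⁻¹ᵁ V = (coprod.inl : X ⟶ X ⨿ X') ''ᵁ (f ⁻¹ᵁ V) ⊔ (coprod.inr : X' ⟶ X ⨿ X') ''ᵁ (f' ⁻¹ᵁ V) := by
      rw [hA, hB, ← inf_sup_right, hcompl.sup_eq_top, top_inf_eq]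
    have h1 := ((f.isCompact_preimage (U := V) hc).image (coprod.inl : X ⟶ X ⨿ X').continuous).union
      ((f'.isCompact_preimage (U := V) hc).image (coprod.inr : X' ⟶ X ⨿ X').continuous)
    rw [show (coprod.desc f f') ⁻¹' U = ((coprod.desc f f' ⁻¹ᵁ V : (X ⨿ X').Opens) : Set (X ⨿ X' : Scheme.{u})) from rfl, he]
    exact h1
  constructor
  · intro h
    refine ⟨(Groth.Agent.RA.isRelAmple_def f).mpr fun V hV => ?_, (Groth.Agent.RA.isRelAmple_def f').mpr fun V hV => ?_⟩
    · rw [Groth.Agent.RA.ampleOn_pullback_openImmersion_iff, hA]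
      refine Groth.Agent.RA.AmpleOn.mono (h.2 ⟨V, hV⟩) inf_le_right ?_
      rw [← hA]
      exact (Groth.Agent.RA.isCompact_preimage f hV).image (coprod.inl : X ⟶ X ⨿ X').continuous
    · rw [Groth.Agent.RA.ampleOn_pullback_openImmersion_iff, hB]
      refine Groth.Agent.RA.AmpleOn.mono (h.2 ⟨V, hV⟩) inf_le_right ?_
      rw [← hB]
      exact (Groth.Agent.RA.isCompact_preimage f' hV).image (coprod.inr : X' ⟶ X ⨿ X').continuous
  · rintro ⟨h, h'⟩
    refine (Groth.Agent.RA.isRelAmple_def _).mpr fun V hV => ?_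
    let P := coprod.desc f f' ⁻¹ᵁ V
    haveI := Groth.Agent.RA.compactSpace_of_isCompact (Groth.Agent.RA.isCompact_preimage (coprod.desc f f') hV)
    refine Groth.Agent.RA.isAmple_of_isCompl (A := P.ι ⁻¹ᵁ (coprod.inl : X ⟶ X ⨿ X').opensRange)
      (B := P.ι ⁻¹ᵁ (coprod.inr : X' ⟶ X ⨿ X').opensRange) ⟨?_, ?_⟩ ?_ ?_
    · rw [disjoint_iff, ← Scheme.Hom.preimage_inf, hcompl.inf_eq_bot, Scheme.Hom.preimage_bot]
    · rw [codisjoint_iff, ← Scheme.Hom.preimage_sup, hcompl.sup_eq_top, Scheme.Hom.preimage_top]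
    · rw [Groth.Agent.RA.ampleOn_restrict_iff, Scheme.Hom.image_preimage_eq_opensRange_inf,
        Scheme.Opens.opensRange_ι, inf_comm, ← hA, ← Groth.Agent.RA.ampleOn_pullback_openImmersion_iff]
      exact h.2 ⟨V, hV⟩
    · rw [Groth.Agent.RA.ampleOn_restrict_iff, Scheme.Hom.image_preimage_eq_opensRange_inf,
        Scheme.Opens.opensRange_ι, inf_comm, ← hB, ← Groth.Agent.RA.ampleOn_pullback_openImmersion_iff]
      exact h'.2 ⟨V, hV⟩

end Groth.Agent.S4385
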