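import Groth.Statements.S4393
import Groth.Agent.Lib.EGA2.Graded

set_option autoImplicit false
universe u
open EGA2

namespace Groth.Agent.S4393

/-- Let S be a ring graded in nonnegative degrees which is an S_0-algebra of finite type. Then there is
an integer h > 0 such that S_{mh} = (S_h)^m (the S_0-submodule spanned by m-fold products of
elements of S_h) for every m > 0. -/
theorem result {R A : Type u} [CommRing R] [CommRing A] [Algebra R A] (𝒜 : ℕ → Submodule R A) [GradedAlgebra 𝒜] [Algebra.FiniteType (𝒜 0) A] :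
    ∃ h : ℕ, 0 < h ∧ ∀ m : ℕ, 0 < m → 𝒜 (m * h) = (𝒜 h : Submodule R A) ^ m := by
  obtain ⟨l, n₁, hl, h⟩ := Groth.Agent.EGA2.exists_eventually_periodic 𝒜 (ℳ := 𝒜)
  refine ⟨(n₁ + 1) * l, by positivity, fun m hm => ?_⟩
  induction m with
  | zero => omega
  | succ m ih =>
    rcases Nat.eq_zero_or_pos m with rfl | hm'
    · simp
    · have hle : n₁ ≤ m * ((n₁ + 1) * l) :=
        calc n₁ ≤ n₁ + 1 := Nat.le_succ _
          _ ≤ (n₁ + 1) * l := Nat.le_mul_of_pos_right _ hl
          _ ≤ m * ((n₁ + 1) * l) := Nat.le_mul_of_pos_left _ hm'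
      rw [add_mul, one_mul, Groth.Agent.EGA2.periodic_mul 𝒜 (ℳ := 𝒜) hl h (n₁ + 1) (Nat.succ_pos _)
        _ hle, ih hm', smul_eq_mul, pow_succ']

end Groth.Agent.S4393
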