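import Groth.Statements.S4394
import Groth.Agent.Lib.EGA2.Graded

set_option autoImplicit false
universe u
open EGA2

namespace Groth.Agent.S4394

/-- Let S be a ring graded in nonnegative degrees which is an S_0-algebra of finite type. Then for every
integer n > 0 there is m₀ such that S_m ⊆ (S_+)^n for all m ≥ m₀. -/
theorem result {R A : Type u} [CommRing R] [CommRing A] [Algebra R A] (𝒜 : ℕ → Submodule R A) [GradedAlgebra 𝒜] [Algebra.FiniteType (𝒜 0) A]
    (n : ℕ) (hn : 0 < n) :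
    ∃ m₀ : ℕ, ∀ m : ℕ, m₀ ≤ m → (𝒜 m : Set A) ⊆ ((HomogeneousIdeal.irrelevant 𝒜).toIdeal ^ n : Ideal A) := by
  obtain ⟨l, n₁, hl, h⟩ := Groth.Agent.EGA2.exists_eventually_periodic 𝒜 (ℳ := 𝒜)
  suffices H : ∀ n, ∀ m, n₁ + n * l ≤ m → 𝒜 m ≤ Submodule.restrictScalars R
      ((HomogeneousIdeal.irrelevant 𝒜).toIdeal ^ n) from ⟨n₁ + n * l, fun m hm x hx => H n m hm hx⟩
  intro n
  induction n with
  | zero => intro m _; simp
  | succ n ih =>
    intro m hm
    have h1 : (n + 1) * l = n * l + l := by ring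
    obtain ⟨k, rfl⟩ : ∃ k, m = k + l := ⟨m - l, by omega⟩
    rw [h k (by omega), Submodule.smul_le]
    intro a ha b hb
    rw [Submodule.restrictScalars_mem, pow_succ', smul_eq_mul]
    exact Ideal.mul_mem_mul (Groth.Agent.EGA2.mem_irr_of_mem 𝒜 hl ha) (ih k (by omega) hb)

end Groth.Agent.S4394
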