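import Groth.Statements.S4395
import Mathlib.RingTheory.GradedAlgebra.Radical
import Mathlib.RingTheory.GradedAlgebra.Homogeneous.Ideal

set_option autoImplicit false
universe u
open EGA2

namespace Groth.Agent.S4395

/-- Let S be a ring graded in nonnegative degrees, n₀ > 0 an integer and, for every n ≥ n₀, p_n an
additive subgroup of S_n. Then there is a graded prime ideal p of S not containing S_+ with p ∩ S_n
= p_n for all n ≥ n₀ if and only if: (1) S_m p_n ⊆ p_{m+n} for all m ≥ 0 and n ≥ n₀; (2) for m ≥ n₀,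
n ≥ n₀, f ∈ S_m, g ∈ S_n, fg ∈ p_{m+n} implies f ∈ p_m or g ∈ p_n; (3) p_n ≠ S_n for at least one n
≥ n₀. Moreover such a graded prime ideal is unique. -/
theorem result {R A : Type u} [CommRing R] [CommRing A] [Algebra R A] (𝒜 : ℕ → Submodule R A) [GradedAlgebra 𝒜]
    (n₀ : ℕ) (hn₀ : 0 < n₀) (p : ℕ → AddSubgroup A) (hp : ∀ n : ℕ, n₀ ≤ n → (p n : Set A) ⊆ 𝒜 n) :
    ((∃ 𝔭 : HomogeneousIdeal 𝒜, 𝔭.toIdeal.IsPrime ∧ ¬ HomogeneousIdeal.irrelevant 𝒜 ≤ 𝔭 ∧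
        ∀ n : ℕ, n₀ ≤ n → (𝔭.toIdeal : Set A) ∩ 𝒜 n = p n) ↔
      ((∀ m n : ℕ, n₀ ≤ n → ∀ a ∈ 𝒜 m, ∀ b ∈ p n, a * b ∈ p (m + n)) ∧
        (∀ m n : ℕ, n₀ ≤ m → n₀ ≤ n → ∀ f ∈ 𝒜 m, ∀ g ∈ 𝒜 n, f * g ∈ p (m + n) → f ∈ p m ∨ g ∈ p n) ∧
        ∃ n : ℕ, n₀ ≤ n ∧ (p n : Set A) ≠ 𝒜 n)) ∧
    ∀ 𝔭 𝔮 : HomogeneousIdeal 𝒜, 𝔭.toIdeal.IsPrime → 𝔮.toIdeal.IsPrime →
      ¬ HomogeneousIdeal.irrelevant 𝒜 ≤ 𝔭 → ¬ HomogeneousIdeal.irrelevant 𝒜 ≤ 𝔮 →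
      (∀ n : ℕ, n₀ ≤ n → (𝔭.toIdeal : Set A) ∩ 𝒜 n = p n) → (∀ n : ℕ, n₀ ≤ n → (𝔮.toIdeal : Set A) ∩ 𝒜 n = p n) →
      𝔭 = 𝔮 := by
  classical
  have hmem : ∀ (𝔭 : HomogeneousIdeal 𝒜), (∀ n : ℕ, n₀ ≤ n → (𝔭.toIdeal : Set A) ∩ 𝒜 n = p n) →
      ∀ n, n₀ ≤ n → ∀ a ∈ 𝒜 n, a ∈ 𝔭.toIdeal ↔ a ∈ p n := fun 𝔭 h n hn a ha => by
    constructor
    · intro h'
      exact (h n hn).le ⟨h', ha⟩
    · intro h'
      exact ((h n hn).ge h').1
  have hbig : ∀ (𝔭 : HomogeneousIdeal 𝒜), 𝔭.toIdeal.IsPrime → ¬ HomogeneousIdeal.irrelevant 𝒜 ≤ 𝔭 →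
      ∃ n, n₀ ≤ n ∧ ∃ h ∈ 𝒜 n, h ∉ 𝔭.toIdeal := fun 𝔭 h𝔭 hn => by
    rw [HomogeneousIdeal.irrelevant_le] at hn
    push Not at hn
    obtain ⟨m, hm, hle⟩ := hn
    obtain ⟨h, hh, hhp⟩ := SetLike.not_le_iff_exists.mp (show ¬ (𝒜 m).toAddSubmonoid ≤ 𝔭.toIdeal.toAddSubmonoid from fun hh => hle fun x hx => hh hx)
    replace hh : h ∈ 𝒜 m := hh
    refine ⟨n₀ * m, Nat.le_mul_of_pos_right n₀ hm, h ^ n₀, ?_, fun h' => hhp (h𝔭.mem_of_pow_mem _ h')⟩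
    simpa [smul_eq_mul] using SetLike.pow_mem_graded n₀ hh
  refine ⟨⟨?_, ?_⟩, ?_⟩
  · rintro ⟨𝔭, h𝔭, hirr, heq⟩
    refine ⟨fun m n hn a ha b hb => ?_, fun m n hm hn f hf g hg hfg => ?_, ?_⟩
    · have hb' := hp n hn hb
      rw [← hmem 𝔭 heq (m + n) (hn.trans (Nat.le_add_left n m)) _ (SetLike.mul_mem_graded ha hb')]
      exact Ideal.mul_mem_left _ _ ((hmem 𝔭 heq n hn b hb').2 hb)
    · rw [← hmem 𝔭 heq (m + n) (hn.trans (Nat.le_add_left n m)) _ (SetLike.mul_mem_graded hf hg)] at hfg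
      exact (h𝔭.mem_or_mem hfg).imp (hmem 𝔭 heq m hm f hf).1 (hmem 𝔭 heq n hn g hg).1
    · obtain ⟨n, hn, h, hh, hhp⟩ := hbig 𝔭 h𝔭 hirr
      exact ⟨n, hn, fun he => hhp ((hmem 𝔭 heq n hn h hh).2 (he.ge hh))⟩
  · rintro ⟨h1, h2, n₁, hn₁, hne⟩
    obtain ⟨f, hf, hfp⟩ : ∃ f ∈ 𝒜 n₁, f ∉ p n₁ := by
      by_contra hc
      push Not at hc
      exact hne (Set.Subset.antisymm (hp n₁ hn₁) hc)
    have hle : ∀ d, n₀ ≤ d + n₁ := fun d => hn₁.trans (Nat.le_add_left _ _)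
    let I : Ideal A :=
      { carrier := {a | ∀ d, (DirectSum.decompose 𝒜 a d : A) * f ∈ p (d + n₁)}
        zero_mem' := fun d => by simp
        add_mem' := fun {a b} ha hb d => by
          rw [DirectSum.decompose_add, DirectSum.add_apply, Submodule.coe_add, add_mul]
          exact add_mem (ha d) (hb d)
        smul_mem' := fun c a ha d => by
          rw [smul_eq_mul, ← DirectSum.sum_support_decompose 𝒜 c, Finset.sum_mul, DirectSum.decompose_sum,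
            DFinsupp.finsetSum_apply, Submodule.coe_sum, Finset.sum_mul]
          refine sum_mem fun j _ => ?_
          by_cases hjd : j ≤ d
          · rw [DirectSum.coe_decompose_mul_of_left_mem_of_le 𝒜 (DirectSum.decompose 𝒜 c j).2 hjd, mul_assoc]
            have := h1 j (d - j + n₁) (hle _) _ (DirectSum.decompose 𝒜 c j).2 _ (ha (d - j))
            rwa [← add_assoc, Nat.add_sub_cancel' hjd] at this
          · rw [DirectSum.coe_decompose_mul_of_left_mem_of_not_le 𝒜 (DirectSum.decompose 𝒜 c j).2 hjd, zero_mul]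
            exact zero_mem _ }
    have hI : ∀ n (a : A), a ∈ 𝒜 n → (a ∈ I ↔ a * f ∈ p (n + n₁)) := fun n a ha => by
      constructor
      · intro h
        have := h n
        rwa [DirectSum.decompose_of_mem_same 𝒜 ha] at this
      · intro h d
        by_cases hd : n = d
        · subst hd; rwa [DirectSum.decompose_of_mem_same 𝒜 ha]
        · rw [DirectSum.decompose_of_mem_ne 𝒜 ha hd, zero_mul]; exact zero_mem _
    have hhom : I.IsHomogeneous 𝒜 := fun i a ha =>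
      (hI i _ (DirectSum.decompose 𝒜 a i).2).2 (ha i)
    have hfI : f ∉ I := fun h => by
      have := (hI n₁ f hf).1 h
      exact (h2 n₁ n₁ hn₁ hn₁ f hf f hf this).elim hfp hfp
    have hprime : I.IsPrime := by
      refine hhom.isPrime_of_homogeneous_mem_or_mem (fun h => hfI (h ▸ Submodule.mem_top)) ?_
      rintro x y ⟨i, hx⟩ ⟨j, hy⟩ hxy
      have hz := (hI (i + j) _ (SetLike.mul_mem_graded hx hy)).1 hxy
      have hz' := h1 n₁ (i + j + n₁) (hle _) f hf _ hz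
      rw [show f * (x * y * f) = (x * f) * (y * f) by ring,
        show n₁ + (i + j + n₁) = (i + n₁) + (j + n₁) by ring] at hz'
      exact (h2 _ _ (hle i) (hle j) _ (SetLike.mul_mem_graded hx hf) _ (SetLike.mul_mem_graded hy hf) hz').imp
        (hI i x hx).2 (hI j y hy).2
    refine ⟨⟨I, hhom⟩, hprime, fun h => hfI (h (HomogeneousIdeal.mem_irrelevant_of_mem _ (hn₀.trans_le hn₁) hf)),
      fun n hn => ?_⟩
    ext a
    constructor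
    · rintro ⟨ha, han⟩
      exact (h2 n n₁ hn hn₁ a han f hf ((hI n a han).1 ha)).resolve_right hfp
    · intro ha
      refine ⟨(hI n a (hp n hn ha)).2 ?_, hp n hn ha⟩
      have := h1 n₁ n hn f hf a ha
      rwa [mul_comm f a, add_comm n₁ n] at this
  · intro 𝔭 𝔮 h𝔭 h𝔮 hp1 hq1 e1 e2
    obtain ⟨N, hN, h, hh, hhp⟩ := hbig 𝔭 h𝔭 hp1
    have hhq : h ∉ 𝔮.toIdeal := fun h' => hhp ((hmem 𝔭 e1 N hN h hh).2 ((hmem 𝔮 e2 N hN h hh).1 h'))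
    have key : ∀ d, ∀ a ∈ 𝒜 d, a ∈ 𝔭.toIdeal ↔ a ∈ 𝔮.toIdeal := fun d a ha => by
      have hd : n₀ ≤ d + N := hN.trans (Nat.le_add_left _ _)
      have hah : a * h ∈ 𝒜 (d + N) := SetLike.mul_mem_graded ha hh
      calc a ∈ 𝔭.toIdeal ↔ a * h ∈ 𝔭.toIdeal :=
            ⟨Ideal.mul_mem_right _ _, fun h' => (h𝔭.mem_or_mem h').resolve_right hhp⟩
        _ ↔ a * h ∈ p (d + N) := hmem 𝔭 e1 _ hd _ hah
        _ ↔ a * h ∈ 𝔮.toIdeal := (hmem 𝔮 e2 _ hd _ hah).symm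
        _ ↔ a ∈ 𝔮.toIdeal := ⟨fun h' => (h𝔮.mem_or_mem h').resolve_right hhq, Ideal.mul_mem_right _ _⟩
    apply HomogeneousIdeal.ext
    ext a
    constructor <;> intro ha <;> rw [← DirectSum.sum_support_decompose 𝒜 a] <;> refine sum_mem fun i _ => ?_
    · exact (key i _ (DirectSum.decompose 𝒜 a i).2).1 (𝔭.isHomogeneous i ha)
    · exact (key i _ (DirectSum.decompose 𝒜 a i).2).2 (𝔮.isHomogeneous i ha)

end Groth.Agent.S4395
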