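import Groth.Statements.S4396
import Groth.Agent.Lib.EGA2.Dehom
import Groth.Agent.Lib.EGA2.DegHom

set_option autoImplicit false
universe u
open AlgebraicGeometry
open EGA2

namespace Groth.Agent.S4396

/-- Let S be a ring graded in nonnegative degrees, d > 0, and S^{(d)} the graded ring whose degree-n
part is S_{nd} (given here as any graded ring S' with an injective algebra homomorphism φ : S' → S
carrying S'_n onto S_{nd} for every n); let f' ∈ S'_1, with image f = φ(f') ∈ S_d. Then there is a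
ring isomorphism between the degree-zero homogeneous localization S_(f) and the quotient S'/(f' -
1)S', whose inverse sends the class of an element x of S'_n to the fraction φ(x)/f^n. (The module
part of the published statement is not stated here.) -/
theorem result {R A : Type u} [CommRing R] [CommRing A] [Algebra R A] (𝒜 : ℕ → Submodule R A) [GradedAlgebra 𝒜]
    {B : Type u} [CommRing B] [Algebra R B] (ℬ : ℕ → Submodule R B) [GradedAlgebra ℬ]
    (d : ℕ) (hd : 0 < d) (φ : B →ₐ[R] A) (hφ : Function.Injective φ)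
    (hdeg : ∀ n : ℕ, Submodule.map φ.toLinearMap (ℬ n) = 𝒜 (n * d)) (f' : B) (hf' : f' ∈ ℬ 1) :
    ∃ e : HomogeneousLocalization.Away 𝒜 (φ f') ≃+* B ⧸ Ideal.span {f' - 1},
      ∀ (n : ℕ) (x : B), x ∈ ℬ n →
        (e.symm (Ideal.Quotient.mk (Ideal.span {f' - 1}) x)).val =
          Localization.mk (φ x) ⟨φ f' ^ n, pow_mem (Submonoid.mem_powers (φ f')) n⟩ := by
  have hdeg' : ∀ (n : ℕ) (b : B), b ∈ ℬ n → φ.toRingHom b ∈ 𝒜 (n * d) := fun n b hb =>
    (hdeg n).le (Submodule.mem_map_of_mem hb)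
  let ζ : HomogeneousLocalization.Away ℬ f' →+* HomogeneousLocalization.Away 𝒜 (φ f') :=
    Groth.Agent.EGA2.degAwayMap φ.toRingHom hdeg' f'
  have hbij : Function.Bijective ζ := by
    constructor
    · rw [injective_iff_map_eq_zero]
      intro x hx
      obtain ⟨n, b, hb, rfl⟩ := HomogeneousLocalization.Away.mk_surjective ℬ hf' x
      obtain ⟨k, hk⟩ := (Groth.Agent.EGA2.away_mk_eq_zero_iff 𝒜 (hdeg' 1 f' hf')).1
        ((Groth.Agent.EGA2.degAwayMap_mk φ.toRingHom hdeg' hf' n b hb).symm.trans hx)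
      rw [Groth.Agent.EGA2.away_mk_eq_zero_iff]
      exact ⟨k, hφ (by rw [map_zero, map_mul, map_pow]; exact hk)⟩
    · intro x
      obtain ⟨n, a, ha, rfl⟩ := HomogeneousLocalization.Away.mk_surjective 𝒜 (hdeg' 1 f' hf') x
      have ha' : a ∈ 𝒜 (n * d) := by rwa [smul_eq_mul, one_mul] at ha
      rw [← hdeg n] at ha'
      obtain ⟨b, hb, hba⟩ := ha'
      refine ⟨HomogeneousLocalization.Away.mk ℬ hf' n b (by simpa using hb), ?_⟩
      refine (Groth.Agent.EGA2.degAwayMap_mk φ.toRingHom hdeg' hf' n b _).trans ?_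
      exact (Groth.Agent.EGA2.away_mk_eq_iff 𝒜 _).2 ⟨0, by rw [← hba]; rfl⟩
  let e₁ : B ⧸ Ideal.span {f' - 1} ≃+* HomogeneousLocalization.Away ℬ f' :=
    (Ideal.quotEquivOfEq (Groth.Agent.EGA2.ker_dehom ℬ hf').symm).trans
      (RingHom.quotientKerEquivOfSurjective (Groth.Agent.EGA2.dehom_surjective ℬ hf'))
  refine ⟨(e₁.trans (RingEquiv.ofBijective ζ hbij)).symm, fun n x hx => ?_⟩
  show (ζ (Groth.Agent.EGA2.dehom ℬ hf' x)).val = _
  rw [Groth.Agent.EGA2.dehom_of_mem ℬ hf' hx]
  exact Groth.Agent.EGA2.val_degAwayMap_mk φ.toRingHom hdeg' hf' n x _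

end Groth.Agent.S4396
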