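import Groth.Statements.S4399
import Groth.Agent.Lib.Twist.Invertible
import Groth.Agent.Lib.Twist.Triv

set_option autoImplicit false
universe u
open CategoryTheory CategoryTheory.Limits AlgebraicGeometry
open EGA2

namespace Groth.Agent.S4399

/-- Let S be a ring graded in nonnegative degrees, X = Proj S, d > 0, and U the union of the opens
D_+(f) for f running through S_d. Then for every integer n the restriction of the twisting sheaf
O_X(nd) to U is an invertible O_U-module. -/
theorem result {R A : Type u} [CommRing R] [CommRing A] [Algebra R A] (𝒜 : ℕ → Submodule R A) [GradedAlgebra 𝒜]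
    (d : ℕ) (hd : 0 < d) (n : ℤ) :
    PicF.IsInvertible ((Twist.twist 𝒜 (n * d)).restrict (⨆ f : 𝒜 d, Proj.basicOpen 𝒜 (f : A)).ι) := by
  refine Groth.Agent.Twist.isInvertible_restrict _ _ fun y => ?_
  have hy : (⨆ f : 𝒜 d, Proj.basicOpen 𝒜 (f : A)).ι y ∈ (⨆ f : 𝒜 d, Proj.basicOpen 𝒜 (f : A)) := y.2
  obtain ⟨f, hf⟩ := TopologicalSpace.Opens.mem_iSup.1 hy
  have h := Groth.Agent.Twist.nonempty_iso_basicOpen_mul 𝒜 (d := d) (i := d) (j := 0) f.2
    (SetLike.one_mem_graded 𝒜) (Nat.zero_add d).symm n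
  rw [mul_one] at h
  exact ⟨_, hf, h⟩

end Groth.Agent.S4399
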