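import Groth.Statements.S4405
import Groth.Agent.Lib.EGA2.ProjSpectrum

set_option autoImplicit false
universe u
open EGA2

namespace Groth.Agent.S4405

/-- Let S be a ring graded in nonnegative degrees and E any subset of the irrelevant ideal S_+. Then the
intersection of S_+ with the vanishing ideal of the closed subset V_+(E) of Proj S equals the
intersection of S_+ with the radical of the graded ideal generated by E (the smallest homogeneous
ideal containing E). -/
theorem result {R A : Type u} [CommRing R] [CommRing A] [Algebra R A] (𝒜 : ℕ → Submodule R A) [GradedAlgebra 𝒜]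
    (E : Set A) (hE : E ⊆ (HomogeneousIdeal.irrelevant 𝒜).toIdeal) :
    (HomogeneousIdeal.irrelevant 𝒜).toIdeal ⊓
        (ProjectiveSpectrum.vanishingIdeal (ProjectiveSpectrum.zeroLocus 𝒜 E)).toIdeal =
      (HomogeneousIdeal.irrelevant 𝒜).toIdeal ⊓ (Ideal.homogeneousHull 𝒜 (Ideal.span E)).toIdeal.radical := by
  ext x
  simp only [Submodule.mem_inf, and_congr_right_iff]
  intro hx
  constructor
  · intro h
    replace h := (ProjectiveSpectrum.mem_vanishingIdeal _ x).1 h
    refine Groth.Agent.EGA2.mem_radical_of_forall_mem 𝒜 (HomogeneousIdeal.isHomogeneous _) hx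
      fun p hp => h p ?_
    intro e he
    exact hp (Ideal.le_toIdeal_homogeneousHull 𝒜 _ (Ideal.subset_span he))
  · intro h
    refine (ProjectiveSpectrum.mem_vanishingIdeal _ x).2 fun p hp => ?_
    have hle : Ideal.homogeneousHull 𝒜 (Ideal.span E) ≤ p.asHomogeneousIdeal :=
      (Ideal.homogeneousHull.gc 𝒜).l_le (Ideal.span_le.2 hp)
    obtain ⟨n, hn⟩ := h
    exact p.isPrime.mem_of_pow_mem n (hle hn)

end Groth.Agent.S4405
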