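import Groth.Statements.S4407
import Groth.Agent.Lib.QAGen11.Basic
import Groth.Agent.Lib.QA11.Basic

set_option autoImplicit false
universe u
open CategoryTheory CategoryTheory.Limits AlgebraicGeometry
open EGA2

namespace Groth.Agent.S4407

/-- (a) ⇒ (e): let X be a quasi-affine scheme. Then every quasi-coherent O_X-module is generated by its
global sections (it is a quotient of a free O_X-module on some index set). -/
theorem result (X : Scheme.{u}) [X.IsQuasiAffine] (F : X.Modules)
    (hF : Coh.IsQCoh F) : Curv2.IsGloballyGenerated F := by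
  haveI := hF
  haveI : (Scheme.Opens.toScheme (⊤ : X.Opens)).IsQuasiAffine := Scheme.IsQuasiAffine.of_isAffineHom X.topIso.hom
  refine RA.isGloballyGenerated_of_span F fun x => top_le_iff.mp fun a _ => ?_
  obtain ⟨t, c, rfl⟩ := QAGen11.exists_smul_germ_eq F ⊤ (x := x) trivial a
  exact Submodule.smul_mem _ c (Submodule.subset_span ⟨t, rfl⟩)

end Groth.Agent.S4407
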