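import Groth.Statements.S4408
import Groth.Agent.Lib.QAGen11.Basic
import Groth.Agent.Lib.ModM1.Extend

set_option autoImplicit false
universe u
open CategoryTheory CategoryTheory.Limits AlgebraicGeometry
open EGA2

namespace Groth.Agent.S4408

/-- (e') ⇒ (a): let X be a quasi-compact separated scheme such that every quasi-coherent submodule of
finite type of O_X is generated by its global sections. Then X is quasi-affine. (The published
statement also allows X to be a scheme whose underlying space is Noetherian; this row assumes it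
quasi-compact and separated.) -/
theorem result (X : Scheme.{u}) [CompactSpace X] [X.IsSeparated]
    (h : ∀ (J : X.Modules) (i : J ⟶ Coh.structureModule X), Mono i → Coh.IsQCoh J → CohB1.IsFT J →
      Curv2.IsGloballyGenerated J) :
    X.IsQuasiAffine := by
  refine Scheme.IsQuasiAffine.of_forall_exists_mem_basicOpen X fun x => ?_
  obtain ⟨U, hU, hxU, -⟩ := exists_isAffineOpen_mem_and_subset (X := X) (x := x) (U := ⊤) trivial
  let I := SerreAff11.idealOf U
  let W : M1.Sub (Coh.structureModule X) := ⟨_, 𝟙 _, inferInstance⟩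
  have hW : W.FTOn U := by
    refine ⟨M1.isQCoh_restrict (M1.isQCoh_structureModule X) _, ?_⟩
    refine M1.isFT_restrict ?_ _
    haveI : Epi (M1.freeHom (M := Coh.structureModule X) fun _ : PUnit.{u + 1} => M1.one ⊤) := by
      refine @epi_of_epi _ _ _ _ _ (M1.ιF PUnit.unit) _ ?_
      rw [M1.ιF_freeHom, show M1.secHom (M := Coh.structureModule X) (M1.one ⊤) = 𝟙 _ from
        M1.unit_hom_ext (M1.secHom_app_one _)]
      infer_instance
    exact M1.isFT_of_epi_fr (M1.freeHom (M := Coh.structureModule X) fun _ : PUnit.{u + 1} => M1.one ⊤)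
  have hag : M1.Sub.Agree W I U := fun T hT s => by
    refine ⟨fun _ => ?_, fun _ => ⟨s, rfl⟩⟩
    have := I.mem_smul (show Γ(X, T) from s) (I.mem_mres hT (SerreAff11.idealOf_mem_one U))
    rw [show M1.mres (Coh.structureModule X) hT (1 : Γ(X, U)) = (1 : Γ(X, T)) from M1.mres_one hT] at this
    convert this using 1
    exact (mul_one (show Γ(X, T) from s)).symm
  let p₀ : M1.Sub I.P := ⟨_, 𝟙 _, inferInstance⟩
  obtain ⟨q, hq, hqFT, hqU⟩ := M1.Sub.exists_extend_qcqs (SerreAff11.isQCoh_idealOf U) p₀ U hU.isCompact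
    (hW.congr hag)
  obtain ⟨a, ha⟩ := SerreAff11.idealOf_mem_one U
  obtain ⟨b, hb⟩ := (hqU U le_rfl a).1 ⟨a, rfl⟩
  haveI := I.mono
  haveI := q.mono
  obtain ⟨t, ht⟩ := QAGen11.exists_unit_of_globallyGenerated (q.i ≫ I.i) hxU b
    (by rw [M1.comp_app_apply, hb]; exact ha) (h q.P (q.i ≫ I.i) (mono_comp _ _) hq hqFT)
  refine ⟨_, ?_, ht⟩
  have hle : X.basicOpen (show Γ(X, ⊤) from (q.i ≫ I.i).app ⊤ t) ≤ U :=
    SerreAff11.basicOpen_le_of_mem _ ⟨q.i.app ⊤ t, (M1.comp_app_apply q.i I.i ⊤ t).symm⟩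
  have e : X.basicOpen (X.presheaf.map (homOfLE (le_top : U ≤ ⊤)).op (show Γ(X, ⊤) from (q.i ≫ I.i).app ⊤ t)) =
      X.basicOpen (show Γ(X, ⊤) from (q.i ≫ I.i).app ⊤ t) := by
    rw [Scheme.basicOpen_res]
    exact inf_eq_right.2 hle
  exact e ▸ hU.basicOpen _

end Groth.Agent.S4408
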