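import Groth.Statements.S4409
import Groth.Agent.Lib.QAGen11.Basic
import Groth.Agent.Lib.QCGen12.QuasiAffine

set_option autoImplicit false
universe u
open CategoryTheory CategoryTheory.Limits AlgebraicGeometry
open EGA2

namespace Groth.Agent.S4409

/-- (a) ⇔ (d): let f : X → Y be a quasi-compact morphism. Then f is quasi-affine (the preimage of every
affine open of Y is a quasi-affine scheme) if and only if f is separated and, for every
quasi-coherent O_X-module F, the canonical morphism f^*(f_*(F)) → F (counit of the adjunction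
between f^* and f_*) is an epimorphism. -/
theorem result {X Y : Scheme.{u}} (f : X ⟶ Y) [QuasiCompact f] :
    Mor2.IsQuasiAffine f ↔ (IsSeparated f ∧ ∀ F : X.Modules, Coh.IsQCoh F →
      Epi ((Scheme.Modules.pullbackPushforwardAdjunction f).counit.app F)) := by
  refine ⟨fun hf => ⟨QCGen12.isSeparated_of_quasiAffine f hf.2, fun F hF => ?_⟩, fun ⟨hs, h⟩ => ⟨inferInstance, fun V hV => ?_⟩⟩
  · haveI := hF
    refine (M1.epi_iff_stalk _).mpr fun x => fun a => ?_
    obtain ⟨V, hV, hxV, -⟩ := exists_isAffineOpen_mem_and_subset (X := Y) (x := f x) (U := ⊤) trivial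
    haveI := hf.2 V hV
    obtain ⟨t, c, rfl⟩ := QAGen11.exists_smul_germ_eq F (f ⁻¹ᵁ V) (x := x) hxV a
    let ε := (Scheme.Modules.pullbackPushforwardAdjunction f).counit.app F
    let s : Γ((Scheme.Modules.pullback f).obj ((Scheme.Modules.pushforward f).obj F), f ⁻¹ᵁ V) :=
      ((Scheme.Modules.pullbackPushforwardAdjunction f).unit.app ((Scheme.Modules.pushforward f).obj F)).app V t
    have hs : ε.app (f ⁻¹ᵁ V) s = t := by
      have h1 := congr((($((Scheme.Modules.pullbackPushforwardAdjunction f).right_triangle_components F)).app V) t)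
      exact h1
    refine ⟨c • Amp.gm _ x (U := f ⁻¹ᵁ V) hxV s, ?_⟩
    refine (map_smul (M2.stMap ((M2.pmF X).map ε) x) c _).trans ?_
    refine congrArg (c • ·) ((M2.stMap_sg ((M2.pmF X).map ε) (U := f ⁻¹ᵁ V) (x := x) hxV s).trans ?_)
    exact congrArg (Amp.gm F x (U := f ⁻¹ᵁ V) hxV) hs
  · haveI := hs
    haveI : IsAffine V.toScheme := hV
    haveI : CompactSpace (f ⁻¹ᵁ V).toScheme :=
      isCompact_iff_compactSpace.mp (QuasiCompact.isCompact_preimage _ V.2 hV.isCompact)
    haveI : QuasiSeparatedSpace (f ⁻¹ᵁ V).toScheme := quasiSeparatedSpace_of_quasiSeparated (f ∣_ V)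
    refine QAGen11.isQuasiAffine_of_forall _ fun x hx => ?_
    obtain ⟨U, hU, hxU, hUW⟩ := exists_isAffineOpen_mem_and_subset (X := X) (x := x) (U := f ⁻¹ᵁ V) hx
    let I := SerreAff11.idealOf U
    haveI := SerreAff11.isQCoh_idealOf U
    obtain ⟨a, ha⟩ := SerreAff11.idealOf_mem_one U
    haveI := h I.P inferInstance
    obtain ⟨V', t, ht⟩ := QAGen11.exists_unit_of_epi_counit f I.i hxU a ha
    obtain ⟨g, hg, hxg⟩ := hV.exists_basicOpen_le (V := V' ⊓ V) ⟨f x, X.basicOpen_le _ ht, hx⟩ hx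
    let r : Γ(X, f ⁻¹ᵁ V) := f.app V g
    have hr : X.basicOpen r = f ⁻¹ᵁ Y.basicOpen g := (Scheme.preimage_basicOpen f g).symm
    have hle : X.basicOpen r ≤ f ⁻¹ᵁ V' := hr.le.trans (f.preimage_mono (hg.trans inf_le_left))
    obtain ⟨T, u, hu, hT⟩ := QAGen11.exists_section_unit_smul I.P (f ⁻¹ᵁ V) r (M1.mres I.P hle t)
    let G : Γ(X, f ⁻¹ᵁ V) := I.i.app (f ⁻¹ᵁ V) T
    have hle' : X.basicOpen G ≤ U := SerreAff11.basicOpen_le_of_mem G ⟨T, rfl⟩
    refine ⟨G, ?_, ?_⟩
    · have e : X.basicOpen (X.presheaf.map (homOfLE (hUW : U ≤ f ⁻¹ᵁ V)).op G) = X.basicOpen G := by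
        rw [Scheme.basicOpen_res]
        exact inf_eq_right.2 hle'
      exact e ▸ hU.basicOpen _
    · have hxr : x ∈ X.basicOpen r := hr.ge hxg
      have h1 : X.presheaf.map (homOfLE (X.basicOpen_le r)).op G =
          u * X.presheaf.map (homOfLE hle).op (show Γ(X, f ⁻¹ᵁ V') from I.i.app (f ⁻¹ᵁ V') t) := by
        have h2 := congrArg (I.i.app (X.basicOpen r)) hT
        rw [M1.app_mres, Scheme.Modules.Hom.app_smul, M1.app_mres] at h2
        exact h2
      have h3 : x ∈ X.basicOpen (X.presheaf.map (homOfLE (X.basicOpen_le r)).op G) := by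
        rw [h1, Scheme.basicOpen_mul, Scheme.basicOpen_of_isUnit _ hu, Scheme.basicOpen_res]
        exact ⟨hxr, hxr, ht⟩
      rw [Scheme.basicOpen_res] at h3
      exact h3.2

end Groth.Agent.S4409
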