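import Groth.Statements.S4410
import Groth.Agent.Lib.QCGen12.QuasiAffine

set_option autoImplicit false
universe u
open CategoryTheory CategoryTheory.Limits AlgebraicGeometry
open EGA2

namespace Groth.Agent.S4410

/-- Let Y be a quasi-compact separated scheme and f : X → Y a quasi-affine morphism of finite type. Then
there are a scheme X'', an affine morphism of finite type g : X'' → Y and an immersion j : X → X''
with j ≫ g = f. (The published statement also allows Y to be a scheme whose underlying space is
Noetherian; this row assumes it quasi-compact and separated. The published statement realises X'' as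
the relative spectrum of a quasi-coherent sub-algebra of finite type of f_*O_X, and says every
larger such sub-algebra also works; only the resulting factorisation is stated here.) -/
theorem result {X Y : Scheme.{u}} [CompactSpace Y] [Y.IsSeparated]
    (f : X ⟶ Y) (hf : Mor2.IsQuasiAffine f) [LocallyOfFiniteType f] :
    ∃ (X'' : Scheme.{u}) (g : X'' ⟶ Y) (j : X ⟶ X''), IsAffineHom g ∧ LocallyOfFiniteType g ∧ IsImmersion j ∧ j ≫ g = f := by
  obtain ⟨hqc, hqa⟩ := hf
  haveI := hqc
  haveI : IsSeparated f := QCGen12.isSeparated_of_quasiAffine f hqa
  let C := RelSpec.QCAlg.directImage f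
  let g : X ⟶ C.spec := QCGen12.lift C f (𝟙 _)
  have hg : g ≫ C.π = f := QCGen12.lift_π C f (𝟙 _) (CategoryTheory.Category.comp_id _)
  haveI : IsImmersion g := QCGen12.isImmersion_lift_of_quasiAffine f hqa
  haveI : LocallyOfFiniteType (g ≫ C.π) := by rw [hg]; infer_instance
  haveI : QuasiCompact (g ≫ C.π) := by rw [hg]; infer_instance
  obtain ⟨C', φ, h1, h2, h3⟩ := QCGen12.exists_subalgebra_isImmersion C g
  exact ⟨C'.spec, C'.π, g ≫ RelSpec.QCAlg.specMap φ, inferInstance,
    QCGen12.locallyOfFiniteType_π C' h2, h3, by
      rw [CategoryTheory.Category.assoc, RelSpec.QCAlg.specMap_π, hg]⟩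


end Groth.Agent.S4410
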