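import Groth.Statements.S4411
import Groth.Agent.Lib.EGA2.Veronese

set_option autoImplicit false
universe u
open EGA2

namespace Groth.Agent.S4411

/-- Let S be a ring graded in nonnegative degrees which is an S_0-algebra of finite type, d > 0, and
S^{(d)} the graded ring whose degree-n part is S_{nd} (given here as any graded ring S' with an
injective algebra homomorphism φ : S' → S carrying S'_n onto S_{nd} for every n). Then S^{(d)} is an
algebra of finite type over its degree-zero part S'_0 (which φ identifies with S_0). -/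
theorem result {R A : Type u} [CommRing R] [CommRing A] [Algebra R A] (𝒜 : ℕ → Submodule R A) [GradedAlgebra 𝒜] [Algebra.FiniteType (𝒜 0) A]
    {B : Type u} [CommRing B] [Algebra R B] (ℬ : ℕ → Submodule R B) [GradedAlgebra ℬ]
    (d : ℕ) (hd : 0 < d) (φ : B →ₐ[R] A) (hφ : Function.Injective φ)
    (hdeg : ∀ n : ℕ, Submodule.map φ.toLinearMap (ℬ n) = 𝒜 (n * d)) :
    Algebra.FiniteType (ℬ 0) B := by
  classical
  obtain ⟨π, hπ, hlin⟩ := Groth.Agent.EGA2.exists_veronese_retraction hφ hdeg
  obtain ⟨s, hE, hs, -⟩ := Groth.Agent.EGA2.exists_homogeneous_gens 𝒜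
  choose! e he hmem using hE
  -- the subalgebra of A generated by the d-th powers of the generators
  let C : Subalgebra (𝒜 0) A := Algebra.adjoin (𝒜 0) ((fun i => i ^ d) '' (s : Set A))
  have : Algebra.IsIntegral C A := by
    refine ⟨fun x => ?_⟩
    have hx : x ∈ Algebra.adjoin (𝒜 0) (s : Set A) := by rw [hs]; trivial
    induction hx using Algebra.adjoin_induction with
    | mem i hi =>
      exact IsIntegral.of_pow hd (isIntegral_algebraMap (R := C)
        (x := ⟨i ^ d, Algebra.subset_adjoin ⟨i, hi, rfl⟩⟩))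
    | algebraMap r => exact isIntegral_algebraMap (R := C) (x := ⟨_, C.algebraMap_mem r⟩)
    | add x y _ _ hx hy => exact hx.add hy
    | mul x y _ _ hx hy => exact hx.mul hy
  have : Algebra.FiniteType C A := Algebra.FiniteType.of_restrictScalars_finiteType (𝒜 0) C A
  have : Module.Finite C A := (Algebra.IsIntegral.finite (R := C) (A := A) :)
  obtain ⟨t, ht⟩ := Module.Finite.fg_top (R := C) (M := A)
  let T : Subalgebra (ℬ 0) B := Algebra.adjoin (ℬ 0)
    (↑(s.image fun i => π (i ^ d)) ∪ ↑(t.image π) : Set B)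
  have h0 : ∀ r ∈ 𝒜 0, ∃ b ∈ T, φ b = r := by
    intro r hr
    have h00 : r ∈ 𝒜 (0 * d) := by rwa [zero_mul]
    rw [← hdeg 0] at h00
    obtain ⟨b, hb, hbr⟩ := h00
    exact ⟨b, T.algebraMap_mem ⟨b, hb⟩, hbr⟩
  have hC : ∀ c ∈ C, ∃ b ∈ T, φ b = c := by
    intro c hc
    induction hc using Algebra.adjoin_induction with
    | mem x hx =>
      obtain ⟨i, hi, rfl⟩ := hx
      have h1 : i ^ d ∈ 𝒜 (e i * d) := by
        have := SetLike.pow_mem_graded d (hmem i hi)
        rwa [smul_eq_mul, mul_comm] at this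
      rw [← hdeg] at h1
      obtain ⟨b, -, hb⟩ := h1
      have hb' : φ b = i ^ d := hb
      refine ⟨b, Algebra.subset_adjoin (Set.mem_union_left _ ?_), hb'⟩
      exact Finset.mem_image.2 ⟨i, hi, by rw [← hb', hπ]⟩
    | algebraMap r => exact h0 _ r.2
    | add x y _ _ hx hy =>
      obtain ⟨a, ha, rfl⟩ := hx
      obtain ⟨b, hb, rfl⟩ := hy
      exact ⟨a + b, add_mem ha hb, map_add φ a b⟩
    | mul x y _ _ hx hy =>
      obtain ⟨a, ha, rfl⟩ := hx
      obtain ⟨b, hb, rfl⟩ := hy
      exact ⟨a * b, mul_mem ha hb, map_mul φ a b⟩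
  refine ⟨⟨s.image (fun i => π (i ^ d)) ∪ t.image π, ?_⟩⟩
  rw [Finset.coe_union]
  refine eq_top_iff.2 fun b _ => ?_
  have hb : φ b ∈ Submodule.span C (t : Set A) := by rw [ht]; trivial
  rw [← hπ b]
  generalize φ b = a at hb ⊢
  obtain ⟨g, rfl⟩ := Submodule.mem_span_finset'.1 hb
  rw [map_sum]
  refine sum_mem fun i _ => ?_
  obtain ⟨c, hc, hcg⟩ := hC _ (g i).2
  rw [Subalgebra.smul_def, smul_eq_mul, ← hcg, hlin]
  exact mul_mem hc (Algebra.subset_adjoin (Set.mem_union_right _ (Finset.mem_image.2 ⟨_, i.2, rfl⟩)))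

end Groth.Agent.S4411
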