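import Groth.Statements.S4416
import Groth.Agent.Lib.QuotProj11.Chow

set_option autoImplicit false
universe u
open CategoryTheory CategoryTheory.Limits AlgebraicGeometry
open EGA2

namespace Groth.Agent.S4416

/-- Let r : X → S be separated of finite type, and assume either S Noetherian, or S quasi-compact and
separated with X having finitely many irreducible components. Then r is proper if and only if there
are a scheme X' and a surjective morphism f : X' → X with f ≫ r projective. Moreover, when r is
proper, f can be chosen so that in addition there is a dense open U of X with f⁻¹(U) dense in X'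
over which f is an isomorphism, and with X' irreducible (resp. reduced) if X is. (The published
statement also remarks that f is then projective; that is not stated here.) -/
theorem result {X S : Scheme.{u}} (r : X ⟶ S) [IsSeparated r] [LocallyOfFiniteType r] [QuasiCompact r]
    (h : IsNoetherian S ∨ (CompactSpace S ∧ S.IsSeparated ∧ (irreducibleComponents X).Finite)) :
    (IsProper r ↔ ∃ (X' : Scheme.{u}) (f : X' ⟶ X), Surjective f ∧ RelProj.IsProjective (f ≫ r)) ∧
    (IsProper r → ∃ (X' : Scheme.{u}) (f : X' ⟶ X), Surjective f ∧ RelProj.IsProjective (f ≫ r) ∧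
        (∃ U : X.Opens, Dense (U : Set X) ∧ Dense ((f ⁻¹ᵁ U : X'.Opens) : Set X') ∧ IsIso (f ∣_ U)) ∧
        (IrreducibleSpace X → IrreducibleSpace X') ∧ (IsReduced X → IsReduced X')) := by
  obtain ⟨hc, hq, hfin⟩ := Groth.Agent.QuotProj11.finite_irreducibleComponents r h
  obtain ⟨X', π, h1, -, ⟨N, j, hj, hjr⟩, h4, hU, h7, h8⟩ := Groth.Agent.QuotProj11.chow_projective_finite r hfin
  have hP : IsProper r → RelProj.IsProjective (π ≫ r) := fun hr => by
    haveI := Groth.Agent.QuotProj11.isProper_of_isHProjective h1
    haveI : IsProper (j ≫ CohB1.ProjSpaceOver.toBase N S) := by rw [hjr]; infer_instance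
    haveI : IsProper j := IsProper.of_comp j (CohB1.ProjSpaceOver.toBase N S)
    exact Groth.Agent.QuotProj11.isProjective_of_isHProjective
      ⟨N, j, Groth.Agent.QuotProj11.isClosedImmersion_of_isImmersion_of_isProper j, hjr⟩
  refine ⟨⟨fun hr => ⟨X', π, h4, hP hr⟩, ?_⟩, fun hr => ⟨X', π, h4, hP hr, hU, h8, h7⟩⟩
  rintro ⟨X'', g, hg, hgr⟩
  haveI := Groth.Agent.QuotProj11.isProper_of_isProjective hgr
  haveI : UniversallyClosed r := UniversallyClosed.of_comp_surjective g r
  exact { }

end Groth.Agent.S4416
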