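import Groth.Statements.S4417
import Groth.Agent.Lib.VeryAmple11.QuasiProjSum

set_option autoImplicit false
universe u
open CategoryTheory CategoryTheory.Limits AlgebraicGeometry
open EGA2

namespace Groth.Agent.S4417

/-- Let f : X → Y and f' : X' → Y be quasi-projective morphisms (of finite type, each admitting a
relatively ample module). Then the morphism X ⨿ X' → Y restricting to f and f' on the two summands
is quasi-projective. -/
theorem result {X X' Y : Scheme.{u}} (f : X ⟶ Y) (f' : X' ⟶ Y)
    (hf : RelProj.IsQuasiProjective f) (hf' : RelProj.IsQuasiProjective f') :
    RelProj.IsQuasiProjective (coprod.desc f f') := by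
  exact Groth.Agent.VA11.isQuasiProjective_coprod hf hf'

end Groth.Agent.S4417
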