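import Groth.Statements.S4422
import Groth.Agent.Lib.VeryAmple11.BC
import Groth.Agent.Lib.VeryAmple11.ProjCrit
import Groth.Agent.S4421
import Groth.Agent.Lib.TensorMod.QCohTensor

set_option autoImplicit false
universe u
open CategoryTheory CategoryTheory.Limits AlgebraicGeometry
open EGA2

namespace Groth.Agent.S4422

/-- Let a : Y → S and a' : Y' → S be morphisms and f : X → Y, f' : X' → Y' projective morphisms (so X
and X' are S-schemes through f ≫ a and f' ≫ a'). Then the product f ×_S f' : X ×_S X' → Y ×_S Y' is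
projective. -/
theorem result {X X' Y Y' S : Scheme.{u}} (a : Y ⟶ S) (a' : Y' ⟶ S) (f : X ⟶ Y) (f' : X' ⟶ Y')
    (hf : RelProj.IsProjective f) (hf' : RelProj.IsProjective f') :
    RelProj.IsProjective (pullback.map (f ≫ a) (f' ≫ a') a a' f f' (𝟙 S) (Category.comp_id (f ≫ a)) (Category.comp_id (f' ≫ a'))) := by
  open Groth.Agent in
  obtain ⟨u, v, hsq, -, -, hu⟩ := VA11.exists_isPullback_prod f f' (IsPullback.of_hasPullback (f ≫ a) (f' ≫ a'))
    (IsPullback.of_hasPullback a a') (pullback.map (f ≫ a) (f' ≫ a') a a' f f' (𝟙 S) (Category.comp_id (f ≫ a))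
      (Category.comp_id (f' ≫ a'))) (pullback.lift_fst _ _ _) (pullback.lift_snd _ _ _)
  have hA := S4421.result f hf (pullback.fst a a')
  have hB := S4421.result f' hf' (pullback.snd a a')
  haveI := QuotProj11.isProper_of_isProjective hA
  haveI := QuotProj11.isProper_of_isProjective hB
  haveI : IsProper u := MorphismProperty.of_isPullback hsq.flip inferInstance
  obtain ⟨L, E, φ, hL, hE, hFT, hva⟩ := VA11.exists_vamp_of_isProjective hA
  obtain ⟨L', E', φ', hL', hE', hFT', hva'⟩ := VA11.exists_vamp_of_isProjective hB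
  obtain ⟨φ'', hφ''⟩ := VA11.exists_vamp_fibreProd hsq hL hL' hE hE' hva hva'
  rw [← hu]
  exact VA11.isProjective_of_vamp (M2.isQCoh_tensor hE hE') (M2.isFT_tensor hE hE' hFT hFT') hφ''

end Groth.Agent.S4422
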