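import Groth.Statements.S4425
import Groth.Agent.Lib.VeryAmple11.FT
import Groth.Agent.Lib.VeryAmple11.AmplePow

set_option autoImplicit false
universe u
open CategoryTheory CategoryTheory.Limits AlgebraicGeometry
open EGA2

namespace Groth.Agent.S4425

/-- (a) ⇔ (c): let Y be a quasi-compact separated scheme and f : X → Y a morphism. Then f is
quasi-projective if and only if f is of finite type and there are a quasi-coherent graded
O_Y-algebra 𝒮, generated by its degree-one part with that part of finite type, a relative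
homogeneous spectrum p : P → Y of 𝒮 (given with its charts over affine opens), and an open immersion
j : X → P with dense image such that j ≫ p = f. (The published statement also allows Y whose
underlying space is Noetherian, and adds a third equivalent condition, an immersion into some P(E);
this row assumes Y quasi-compact and separated and states only the equivalence of the other two.) -/
theorem result {X Y : Scheme.{u}} [CompactSpace Y] [Y.IsSeparated] (f : X ⟶ Y) :
    RelProj.IsQuasiProjective f ↔
      (LocallyOfFiniteType f ∧ QuasiCompact f ∧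
        ∃ (𝒮 : RelProj.QCGrAlg Y) (P : Scheme.{u}) (p : P ⟶ Y)
          (chart : ∀ (U : Y.Opens) (hU : IsAffineOpen U), ((p ⁻¹ᵁ U : P.Opens) : Scheme.{u}) ≅ Proj (𝒮.deg U hU))
          (j : X ⟶ P), 𝒮.IsGenDegOne ∧ 𝒮.IsFTDeg 1 ∧ RelProj.IsRelProj 𝒮 p chart ∧
            IsOpenImmersion j ∧ Dense (Set.range j.base) ∧ j ≫ p = f) := by
  open Groth.Agent in
  constructor
  · rintro ⟨hlft, hqc, L, hL⟩
    refine ⟨hlft, hqc, ?_⟩
    obtain ⟨n₀, -, hn⟩ := VA11.eventually_isRelVeryAmple f hL
    obtain ⟨E, φ, hE, hft, hva⟩ := VA11.exists_ft_vamp (hn n₀ le_rfl)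
    obtain ⟨P, p, chart, hP⟩ := RelProj11.exists_isRelProj (VA11.symGr hE)
    obtain ⟨O1, lam, hO1⟩ := RelProj11.exists_isRelTwist hP 1
    obtain ⟨i, hi, hip, -⟩ := VA11.exists_immersion_of_vamp hE hva (VA11.isGrSymAlg_symGr hE) hP hO1
    haveI := QuotProj11.isProper_of_isRelProj hP (VA11.isGenDegOne_of_isGrSymAlg hE (VA11.isGrSymAlg_symGr hE))
      (VA11.isFTDeg_one_of_isGrSymAlg hE hft (VA11.isGrSymAlg_symGr hE))
    haveI : QuasiCompact i := by
      haveI : QuasiCompact (i ≫ p) := hip ▸ hqc
      exact QuasiCompact.of_comp i p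
    obtain ⟨𝒮', Q, q, chart', e, hgen, hft', hQ, heq⟩ := QuotProj11.isProjective_comp_of_isClosedImmersion i.imageι
      (VA11.isProjective_of_isRelProj hE hft (VA11.isGrSymAlg_symGr hE) hP)
    refine ⟨𝒮', Q, q, chart', i.toImage ≫ e.hom, hgen, hft', hQ, inferInstance, ?_, ?_⟩
    · exact (i.toImage ≫ e.hom).denseRange
    · rw [Category.assoc, heq, ← Category.assoc, Scheme.Hom.toImage_imageι, hip]
  · rintro ⟨hlft, hqc, 𝒮, P, p, chart, j, hgen, hft, hP, hj, -, rfl⟩
    obtain ⟨O1, lam, hO1⟩ := RelProj11.exists_isRelTwist hP 1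
    haveI := hqc
    exact ⟨hlft, hqc, _, VA11.isRelAmple_of_embedding hgen hO1 j j.isEmbedding (CategoryTheory.Iso.refl _)⟩

end Groth.Agent.S4425
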