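import Groth.Statements.S4428
import Groth.Agent.Lib.RelAmple18.Ops
import Groth.Agent.Lib.Twist.Pullback

set_option autoImplicit false
universe u
open CategoryTheory CategoryTheory.Limits AlgebraicGeometry
open EGA2

namespace Groth.Agent.S4428

/-- Let a₁ : Y₁ → S and a₂ : Y₂ → S be morphisms, f₁ : X₁ → Y₁ and f₂ : X₂ → Y₂ quasi-compact morphisms
(so X₁, X₂ are S-schemes through f_i ≫ a_i), and L₁, L₂ modules on X₁, X₂ ample relative to f₁, f₂.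
Then the external tensor product p₁^*(L₁) ⊗ p₂^*(L₂) on X₁ ×_S X₂ (p₁, p₂ the projections) is ample
relative to the product morphism f₁ ×_S f₂ : X₁ ×_S X₂ → Y₁ ×_S Y₂. -/
theorem result {X₁ X₂ Y₁ Y₂ S : Scheme.{u}} (a₁ : Y₁ ⟶ S) (a₂ : Y₂ ⟶ S)
    (f₁ : X₁ ⟶ Y₁) (f₂ : X₂ ⟶ Y₂) [QuasiCompact f₁] [QuasiCompact f₂] (L₁ : X₁.Modules) (L₂ : X₂.Modules)
    (hL₁ : RelAmple.IsRelAmple f₁ L₁) (hL₂ : RelAmple.IsRelAmple f₂ L₂) :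
    RelAmple.IsRelAmple
      (pullback.map (f₁ ≫ a₁) (f₂ ≫ a₂) a₁ a₂ f₁ f₂ (𝟙 S) (Category.comp_id (f₁ ≫ a₁)) (Category.comp_id (f₂ ≫ a₂)))
      (CohB1.tensorMod ((Scheme.Modules.pullback (pullback.fst (f₁ ≫ a₁) (f₂ ≫ a₂))).obj L₁)
        ((Scheme.Modules.pullback (pullback.snd (f₁ ≫ a₁) (f₂ ≫ a₂))).obj L₂)) := by
  open Groth.Agent in
  classical
  -- affineness of rectangles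
  have rect : ∀ {A₁ A₂ B : Scheme.{u}} (g₁ : A₁ ⟶ B) (g₂ : A₂ ⟶ B) (W : B.Opens) (_ : IsAffineOpen W)
      (G₁ : A₁.Opens) (G₂ : A₂.Opens) (_ : IsAffineOpen G₁) (_ : IsAffineOpen G₂)
      (_ : G₁ ≤ g₁ ⁻¹ᵁ W) (_ : G₂ ≤ g₂ ⁻¹ᵁ W),
      IsAffineOpen (pullback.fst g₁ g₂ ⁻¹ᵁ G₁ ⊓ pullback.snd g₁ g₂ ⁻¹ᵁ G₂) := by
    intro A₁ A₂ B g₁ g₂ W hW G₁ G₂ hG₁ hG₂ l₁ l₂
    haveI : IsAffine (W : Scheme.{u}) := hW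
    haveI : IsAffine (G₁ : Scheme.{u}) := hG₁
    haveI : IsAffine (G₂ : Scheme.{u}) := hG₂
    have e₁ : g₁.resLE W G₁ l₁ ≫ W.ι = G₁.ι ≫ g₁ := Scheme.Hom.resLE_comp_ι g₁ l₁
    have e₂ : g₂.resLE W G₂ l₂ ≫ W.ι = G₂.ι ≫ g₂ := Scheme.Hom.resLE_comp_ι g₂ l₂
    let φ := pullback.map (g₁.resLE W G₁ l₁) (g₂.resLE W G₂ l₂) g₁ g₂ G₁.ι G₂.ι W.ι e₁ e₂
    have hφ : φ.opensRange = pullback.fst g₁ g₂ ⁻¹ᵁ G₁ ⊓ pullback.snd g₁ g₂ ⁻¹ᵁ G₂ := by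
      refine TopologicalSpace.Opens.ext ?_
      have h := Scheme.Pullback.range_map (g₁.resLE W G₁ l₁) (g₂.resLE W G₂ l₂) g₁ g₂ G₁.ι G₂.ι W.ι e₁ e₂
      rw [Scheme.Opens.range_ι, Scheme.Opens.range_ι] at h
      exact h
    rw [← hφ]
    exact isAffineOpen_opensRange φ
  set m := pullback.map (f₁ ≫ a₁) (f₂ ≫ a₂) a₁ a₂ f₁ f₂ (𝟙 S) (Category.comp_id (f₁ ≫ a₁)) (Category.comp_id (f₂ ≫ a₂)) with hm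
  set p₁ := pullback.fst (f₁ ≫ a₁) (f₂ ≫ a₂) with hp₁
  set p₂ := pullback.snd (f₁ ≫ a₁) (f₂ ≫ a₂) with hp₂
  have w₁ : m ≫ pullback.fst a₁ a₂ = p₁ ≫ f₁ := by rw [hm, hp₁]; exact pullback.lift_fst _ _ _
  have w₂ : m ≫ pullback.snd a₁ a₂ = p₂ ≫ f₂ := by rw [hm, hp₂]; exact pullback.lift_snd _ _ _
  haveI : QuasiCompact m := MorphismProperty.pullback_map (P := @QuasiCompact) inferInstance inferInstance rfl rfl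
  refine RA.isRelAmple_of_local m fun y => ?_
  obtain ⟨W, hW, hyW, -⟩ := exists_isAffineOpen_mem_and_subset (U := (⊤ : S.Opens))
    (x := a₁ (pullback.fst a₁ a₂ y)) trivial
  obtain ⟨V₁, hV₁, hy₁, hV₁W⟩ := exists_isAffineOpen_mem_and_subset (U := a₁ ⁻¹ᵁ W) (x := pullback.fst a₁ a₂ y) hyW
  obtain ⟨V₂, hV₂, hy₂, hV₂W⟩ := exists_isAffineOpen_mem_and_subset (U := a₂ ⁻¹ᵁ W) (x := pullback.snd a₁ a₂ y)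
    (by
      show a₂ (pullback.snd a₁ a₂ y) ∈ W
      rw [← Scheme.Hom.comp_apply, ← pullback.condition, Scheme.Hom.comp_apply]
      exact hyW)
  have hVW₁ : V₁ ≤ a₁ ⁻¹ᵁ W := hV₁W
  have hVW₂ : V₂ ≤ a₂ ⁻¹ᵁ W := hV₂W
  refine ⟨_, rect a₁ a₂ W hW V₁ V₂ hV₁ hV₂ hVW₁ hVW₂, ⟨hy₁, hy₂⟩, ?_⟩
  set V := pullback.fst a₁ a₂ ⁻¹ᵁ V₁ ⊓ pullback.snd a₁ a₂ ⁻¹ᵁ V₂ with hV
  set U := m ⁻¹ᵁ V with hU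
  have hUeq : U = p₁ ⁻¹ᵁ (f₁ ⁻¹ᵁ V₁) ⊓ p₂ ⁻¹ᵁ (f₂ ⁻¹ᵁ V₂) := by
    rw [hU, hV, Scheme.Hom.preimage_inf, ← Scheme.Hom.comp_preimage, ← Scheme.Hom.comp_preimage, w₁, w₂]
    rfl
  have le₁ : U ≤ p₁ ⁻¹ᵁ (f₁ ⁻¹ᵁ V₁) := hUeq ▸ inf_le_left
  have le₂ : U ≤ p₂ ⁻¹ᵁ (f₂ ⁻¹ᵁ V₂) := hUeq ▸ inf_le_right
  have hA₁ := hL₁.2 ⟨V₁, hV₁⟩
  have hA₂ := hL₂.2 ⟨V₂, hV₂⟩
  obtain ⟨i₁, -, hc₁⟩ := Amp.isAmple_iff.mp hA₁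
  obtain ⟨i₂, -, hc₂⟩ := Amp.isAmple_iff.mp hA₂
  let r₁ := p₁.resLE (f₁ ⁻¹ᵁ V₁) U le₁
  let r₂ := p₂.resLE (f₂ ⁻¹ᵁ V₂) U le₂
  have cmp₁ : Nonempty ((Scheme.Modules.pullback r₁).obj (L₁.restrict (f₁ ⁻¹ᵁ V₁).ι) ≅
      ((Scheme.Modules.pullback p₁).obj L₁).restrict U.ι) :=
    ⟨(Scheme.Modules.pullback r₁).mapIso ((Scheme.Modules.restrictFunctorIsoPullback _).app L₁) ≪≫
      (Scheme.Modules.pullbackComp r₁ (f₁ ⁻¹ᵁ V₁).ι).app L₁ ≪≫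
      (Scheme.Modules.pullbackCongr (Scheme.Hom.resLE_comp_ι p₁ le₁)).app L₁ ≪≫
      ((Scheme.Modules.pullbackComp U.ι p₁).app L₁).symm ≪≫
      ((Scheme.Modules.restrictFunctorIsoPullback U.ι).app _).symm⟩
  have cmp₂ : Nonempty ((Scheme.Modules.pullback r₂).obj (L₂.restrict (f₂ ⁻¹ᵁ V₂).ι) ≅
      ((Scheme.Modules.pullback p₂).obj L₂).restrict U.ι) :=
    ⟨(Scheme.Modules.pullback r₂).mapIso ((Scheme.Modules.restrictFunctorIsoPullback _).app L₂) ≪≫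
      (Scheme.Modules.pullbackComp r₂ (f₂ ⁻¹ᵁ V₂).ι).app L₂ ≪≫
      (Scheme.Modules.pullbackCongr (Scheme.Hom.resLE_comp_ι p₂ le₂)).app L₂ ≪≫
      ((Scheme.Modules.pullbackComp U.ι p₂).app L₂).symm ≪≫
      ((Scheme.Modules.restrictFunctorIsoPullback U.ι).app _).symm⟩
  obtain ⟨e₁⟩ := cmp₁
  obtain ⟨e₂⟩ := cmp₂
  have j₁ : PicF.IsInvertible (((Scheme.Modules.pullback p₁).obj L₁).restrict U.ι) :=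
    M2.isInvertible_of_iso e₁ (Twist.isInvertible_pullback r₁ i₁)
  have j₂ : PicF.IsInvertible (((Scheme.Modules.pullback p₂).obj L₂).restrict U.ι) :=
    M2.isInvertible_of_iso e₂ (Twist.isInvertible_pullback r₂ i₂)
  rw [RA.AmpleOn, RA.isAmple_iso_iff (M2.restrictTensorIso U.ι _ _)]
  refine Amp.isAmple_iff.mpr ⟨M2.isInvertible_tensor j₁ j₂, RA.compactSpace_of_isCompact (RA.isCompact_preimage m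
    (rect a₁ a₂ W hW V₁ V₂ hV₁ hV₂ hVW₁ hVW₂)), fun x => ?_⟩
  obtain ⟨n₁, G₁, hs₁, hx₁, hG₁⟩ := hc₁ (r₁ x)
  obtain ⟨n₂, G₂, hs₂, hx₂, hG₂⟩ := hc₂ (r₂ x)
  refine ⟨n₁ * (n₂ + 1) + n₂, r₁ ⁻¹ᵁ G₁ ⊓ r₂ ⁻¹ᵁ G₂, Amp.HasSec.tensor j₁ j₂
    (((hs₁.powPow i₁ n₂).pullback r₁ i₁).map_iso e₁ |>.of_eq (by ring))
    (((hs₂.powPow i₂ n₁).pullback r₂ i₂).map_iso e₂ |>.of_eq (by ring)), ⟨hx₁, hx₂⟩, ?_⟩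
  have key : U.ι ''ᵁ (r₁ ⁻¹ᵁ G₁ ⊓ r₂ ⁻¹ᵁ G₂) =
      p₁ ⁻¹ᵁ ((f₁ ⁻¹ᵁ V₁).ι ''ᵁ G₁) ⊓ p₂ ⁻¹ᵁ ((f₂ ⁻¹ᵁ V₂).ι ''ᵁ G₂) := by
    have hr₁ : ∀ z : (U : Scheme.{u}), ((r₁ z).1 : X₁) = p₁ z.1 := fun z =>
      (Scheme.Hom.comp_apply r₁ (f₁ ⁻¹ᵁ V₁).ι z).symm.trans
        (congrArg (fun g : (U : Scheme.{u}) ⟶ X₁ => g z) (Scheme.Hom.resLE_comp_ι p₁ le₁))
    have hr₂ : ∀ z : (U : Scheme.{u}), ((r₂ z).1 : X₂) = p₂ z.1 := fun z =>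
      (Scheme.Hom.comp_apply r₂ (f₂ ⁻¹ᵁ V₂).ι z).symm.trans
        (congrArg (fun g : (U : Scheme.{u}) ⟶ X₂ => g z) (Scheme.Hom.resLE_comp_ι p₂ le₂))
    ext z
    constructor
    · rintro ⟨z', ⟨hz₁, hz₂⟩, rfl⟩
      exact ⟨⟨r₁ z', hz₁, hr₁ z'⟩, ⟨r₂ z', hz₂, hr₂ z'⟩⟩
    · rintro ⟨⟨b₁, hb₁, hb₁e⟩, ⟨b₂, hb₂, hb₂e⟩⟩
      have hzU : z ∈ U := hUeq ▸ ⟨show p₁ z ∈ f₁ ⁻¹ᵁ V₁ from hb₁e ▸ b₁.2, show p₂ z ∈ f₂ ⁻¹ᵁ V₂ from hb₂e ▸ b₂.2⟩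
      refine ⟨⟨z, hzU⟩, ⟨?_, ?_⟩, rfl⟩
      · have : b₁ = r₁ ⟨z, hzU⟩ := Subtype.ext (hb₁e.trans (hr₁ ⟨z, hzU⟩).symm)
        show r₁ ⟨z, hzU⟩ ∈ G₁
        rw [← this]; exact hb₁
      · have : b₂ = r₂ ⟨z, hzU⟩ := Subtype.ext (hb₂e.trans (hr₂ ⟨z, hzU⟩).symm)
        show r₂ ⟨z, hzU⟩ ∈ G₂
        rw [← this]; exact hb₂
  rw [← U.ι.isAffineOpen_iff_of_isOpenImmersion, key]
  refine rect (f₁ ≫ a₁) (f₂ ≫ a₂) W hW _ _ (hG₁.image_of_isOpenImmersion _) (hG₂.image_of_isOpenImmersion _) ?_ ?_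
  · rintro _ ⟨b, -, rfl⟩
    show a₁ (f₁ b.1) ∈ W
    exact hVW₁ b.2
  · rintro _ ⟨b, -, rfl⟩
    show a₂ (f₂ b.1) ∈ W
    exact hVW₂ b.2

end Groth.Agent.S4428
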