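import Groth.Statements.S4430
import Groth.Agent.S4429
import Mathlib.LinearAlgebra.Charpoly.BaseChange

set_option autoImplicit false
universe u
open EGA2

namespace Groth.Agent.S4430

/-- Let A be an integral domain with fraction field K, E a finitely generated A-module and u an
endomorphism of E whose characteristic-polynomial coefficients (those of u ⊗ 1 on K ⊗_A E) all lie
in A. If u is an automorphism of E, then its determinant, as an element of A, is invertible in A. -/
theorem result (A : Type u) [CommRing A] [IsDomain A] (K : Type u) [Field K]
    [Algebra A K] [IsFractionRing A K] (E : Type u) [AddCommGroup E] [Module A E] [Module.Finite A E]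
    (u : E →ₗ[A] E) (hcoeff : ∀ i : ℕ, ((u.baseChange K).charpoly).coeff i ∈ (algebraMap A K).range)
    (a : A) (ha : algebraMap A K a = LinearMap.det (u.baseChange K)) (hu : Function.Bijective u) :
    IsUnit a := by
  let e := LinearEquiv.ofBijective u hu
  have hinv : (e.symm.toLinearMap.baseChange K) * (u.baseChange K) = 1 := by
    rw [Module.End.mul_eq_comp, ← LinearMap.baseChange_comp]
    have : e.symm.toLinearMap ∘ₗ u = LinearMap.id := LinearMap.ext e.symm_apply_apply
    rw [this, LinearMap.baseChange_id]
    rfl
  have hdet : LinearMap.det (e.symm.toLinearMap.baseChange K) * algebraMap A K a = 1 := by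
    rw [ha, ← map_mul, hinv, map_one]
  have hint : IsIntegral A (LinearMap.det (e.symm.toLinearMap.baseChange K)) := by
    rw [LinearMap.det_eq_sign_charpoly_coeff]
    exact (isIntegral_one.neg.pow _).mul
      (Groth.Agent.S4429.result A K E e.symm.toLinearMap 0)
  have : FaithfulSMul A (integralClosure A K) :=
    (faithfulSMul_iff_algebraMap_injective A (integralClosure A K)).2 fun x y h =>
      IsFractionRing.injective A K (congrArg Subtype.val h)
  have := Algebra.IsIntegral.isLocalHom A (integralClosure A K)
  refine IsUnit.of_map (algebraMap A (integralClosure A K)) a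
    (IsUnit.of_mul_eq_one ⟨_, hint⟩ (Subtype.ext ?_))
  rw [mul_comm] at hdet
  exact hdet

end Groth.Agent.S4430
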