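import Groth.Statements.S4431
import Groth.Agent.Lib.EGA2.Charpoly
import Mathlib.RingTheory.Localization.BaseChange

set_option autoImplicit false
universe u
open EGA2

namespace Groth.Agent.S4431

/-- Let A be an integral domain with fraction field K, E a finitely generated torsion-free A-module and
u an endomorphism of E whose characteristic-polynomial coefficients (those of u ⊗ 1 on K ⊗_A E) all
lie in A. If the determinant of u is the image of a unit of A, then u is an automorphism of E. -/
theorem result (A : Type u) [CommRing A] [IsDomain A] (K : Type u) [Field K]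
    [Algebra A K] [IsFractionRing A K] (E : Type u) [AddCommGroup E] [Module A E] [Module.Finite A E]
    [Module.IsTorsionFree A E]
    (u : E →ₗ[A] E) (hcoeff : ∀ i : ℕ, ((u.baseChange K).charpoly).coeff i ∈ (algebraMap A K).range)
    (a : A) (ha : algebraMap A K a = LinearMap.det (u.baseChange K)) (hunit : IsUnit a) :
    Function.Bijective u := by
  classical
  obtain ⟨P, hP⟩ : (u.baseChange K).charpoly ∈ Polynomial.lifts (algebraMap A K) :=
    (Polynomial.lifts_iff_coeff_lifts _).2 hcoeff
  rw [Polynomial.coe_mapRingHom] at hP
  have hP0 : Polynomial.aeval u P = 0 := by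
    have h1 : Polynomial.aeval (u.baseChange K) P = 0 := by
      rw [← Polynomial.aeval_map_algebraMap K, hP, LinearMap.aeval_self_charpoly]
    have h2 := Polynomial.aeval_algHom_apply (Module.End.baseChangeHom A K E) u P
    rw [show (Module.End.baseChangeHom A K E) u = u.baseChange K from rfl, h1] at h2
    refine LinearMap.ext fun x => ?_
    have hinj : Function.Injective (TensorProduct.mk A K E 1) := by
      intro x y h
      obtain ⟨⟨c, hc⟩, hxy⟩ := (IsLocalizedModule.eq_iff_exists (nonZeroDivisors A) (TensorProduct.mk A K E 1)).1 h
      exact (isRegular_iff_mem_nonZeroDivisors.2 hc).isSMulRegular hxy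
    refine hinj ?_
    have := congrArg (fun T => T ((1 : K) ⊗ₜ[A] x)) h2.symm
    rw [LinearMap.zero_apply, map_zero]
    exact this
  have hc0 : IsUnit (P.coeff 0) := by
    have := LinearMap.det_eq_sign_charpoly_coeff (u.baseChange K)
    rw [← ha, ← hP, Polynomial.coeff_map,
      show ((-1 : K)) = algebraMap A K (-1) by simp, ← map_pow, ← map_mul] at this
    have := IsFractionRing.injective A K this
    rw [this] at hunit
    exact isUnit_of_mul_isUnit_right hunit
  obtain ⟨c, hc⟩ := hc0
  have hfac : u * Polynomial.aeval u P.divX = -algebraMap A (Module.End A E) (P.coeff 0) := by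
    rw [eq_neg_iff_add_eq_zero]
    rw [← Polynomial.X_mul_divX_add P, map_add, map_mul, Polynomial.aeval_X, Polynomial.aeval_C] at hP0
    exact hP0
  have hcomm : u * Polynomial.aeval u P.divX = Polynomial.aeval u P.divX * u := by
    have := congrArg (Polynomial.aeval (R := A) u) (mul_comm Polynomial.X P.divX)
    simpa only [map_mul, Polynomial.aeval_X] using this
  constructor
  · intro x y h
    have := congrArg (fun T : E => Polynomial.aeval u P.divX T) h
    simp only [← Module.End.mul_apply, ← hcomm, hfac, LinearMap.neg_apply, neg_inj,
      Module.algebraMap_end_apply, ← hc] at this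
    simpa using congrArg (fun z => (↑c⁻¹ : A) • z) this
  · intro y
    refine ⟨Polynomial.aeval u P.divX (-((↑c⁻¹ : A) • y)), ?_⟩
    rw [← Module.End.mul_apply, hfac]
    simp [Module.algebraMap_end_apply, ← hc, smul_smul]

end Groth.Agent.S4431
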