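import Groth.Statements.S4432
import Groth.Agent.Lib.CharInt11.Basic
import Mathlib.RingTheory.LocalProperties.Reduced
import Mathlib.RingTheory.Localization.Submodule
import Mathlib.RingTheory.MvPolynomial.Basic
import Mathlib.Algebra.MvPolynomial.Nilpotent

set_option autoImplicit false
universe u
open EGA2

namespace Groth.Agent.S4432

/-- Let A be a reduced Noetherian ring, K its total ring of fractions, and E a finitely generated
A-module with K ⊗_A E free over K. The A-subalgebra of K generated by the coefficients of the
characteristic polynomials of v ⊗ 1 (v running through all endomorphisms of E), i.e. by all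
elementary symmetric functions of all endomorphisms of E, is a finitely generated A-module. -/
theorem result (A : Type u) [CommRing A] [IsNoetherianRing A] [IsReduced A]
    (E : Type u) [AddCommGroup E] [Module A E] [Module.Finite A E]
    [Module.Free (FractionRing A) (TensorProduct A (FractionRing A) E)] :
    (Algebra.adjoin A {c : FractionRing A | ∃ (v : E →ₗ[A] E) (j : ℕ),
        c = ((v.baseChange (FractionRing A)).charpoly).coeff j}).toSubmodule.FG := by
  classical
  rcases subsingleton_or_nontrivial A with hA | hA
  · haveI : Subsingleton (FractionRing A) := Function.Surjective.subsingleton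
      (f := fun x : A × nonZeroDivisors A => IsLocalization.mk' (FractionRing A) x.1 x.2) fun z => by
        obtain ⟨x, s, hxs⟩ := IsLocalization.exists_mk'_eq (nonZeroDivisors A) z
        exact ⟨(x, s), hxs⟩
    exact ⟨∅, Subsingleton.elim _ _⟩
  haveI : IsReduced (FractionRing A) := isReduced_localizationPreserves (nonZeroDivisors A) _ inferInstance
  haveI : IsNoetherianRing (FractionRing A) :=
    IsLocalization.isNoetherianRing (nonZeroDivisors A) (FractionRing A) inferInstance
  let K := FractionRing A
  let V := TensorProduct A K E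
  haveI : Module.Finite K V := inferInstance
  let ι := Module.Free.ChooseBasisIndex K V
  let b : Module.Basis ι K V := Module.Free.chooseBasis K V
  obtain ⟨m, φ, hφ⟩ := Submodule.fg_iff_exists_fin_generating_family.1 (Module.Finite.fg_top (R := A) (M := Module.End A E))
  let R := MvPolynomial (Fin m) A
  let S := MvPolynomial (Fin m) K
  letI : Algebra R S := MvPolynomial.algebraMvPolynomial
  haveI : IsScalarTower A R S := IsScalarTower.of_algebraMap_eq fun a =>
    ((MvPolynomial.map_C (algebraMap A K) a).trans (congrArg MvPolynomial.C rfl)).symm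
  let ψK : Module.End A E →ₐ[A] Matrix ι ι K :=
    (((LinearMap.toMatrixAlgEquiv b).toAlgHom).restrictScalars A).comp (Module.End.baseChangeHom A K E)
  let ψ : Module.End A E →ₐ[A] Matrix ι ι S := ((Algebra.ofId K S).restrictScalars A).mapMatrix.comp ψK
  let N : Submodule R (Matrix ι ι S) := Submodule.span R (Set.range ψ)
  have hNfg : N.FG := by
    refine ⟨Finset.univ.image (ψ ∘ φ), le_antisymm ?_ (Submodule.span_le.2 ?_)⟩
    · exact Submodule.span_mono (by simp [Set.subset_def])
    rintro _ ⟨v, rfl⟩
    have hv : v ∈ Submodule.span A (Set.range φ) := hφ ▸ trivial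
    rw [Finset.coe_image, Finset.coe_univ, Set.image_univ]
    induction hv using Submodule.span_induction with
    | mem x hx => obtain ⟨l, rfl⟩ := hx; exact Submodule.subset_span ⟨l, rfl⟩
    | zero => rw [map_zero]; exact zero_mem _
    | add x y _ _ hx hy => rw [map_add]; exact add_mem hx hy
    | smul a x _ hx =>
      rw [map_smul, ← IsScalarTower.algebraMap_smul R]
      exact Submodule.smul_mem _ _ hx
  let NA := N.toSubalgebra (Submodule.subset_span ⟨1, map_one ψ⟩) fun x y hx hy => by
    induction hx using Submodule.span_induction with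
    | mem x hx =>
      induction hy using Submodule.span_induction with
      | mem y hy =>
        obtain ⟨v, rfl⟩ := hx
        obtain ⟨w, rfl⟩ := hy
        exact Submodule.subset_span ⟨v * w, map_mul ψ v w⟩
      | zero => rw [mul_zero]; exact zero_mem _
      | add p q _ _ hp hq => rw [mul_add]; exact add_mem hp hq
      | smul c p _ hp => rw [mul_smul_comm]; exact Submodule.smul_mem _ _ hp
    | zero => rw [zero_mul]; exact zero_mem _
    | add p q _ _ hp hq => rw [add_mul]; exact add_mem hp hq
    | smul c p _ hp => rw [smul_mul_assoc]; exact Submodule.smul_mem _ _ hp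
  let M : Matrix ι ι S := ∑ l, (MvPolynomial.X l : R) • ψ (φ l)
  have hM : IsIntegral R M := IsIntegral.of_mem_of_fg NA hNfg M
    (show M ∈ N from Submodule.sum_mem _ fun l _ => Submodule.smul_mem _ _ (Submodule.subset_span ⟨_, rfl⟩))
  let T : Set K := ⋃ j ∈ Finset.range (Fintype.card ι + 1),
    (fun α => MvPolynomial.coeff α (M.charpoly.coeff j)) '' ↑(M.charpoly.coeff j).support
  have hT : T.Finite := Set.Finite.biUnion (Finset.finite_toSet _) fun j _ => (Finset.finite_toSet _).image _
  have hTint : ∀ x ∈ T, IsIntegral A x := by
    intro x hx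
    simp only [T, Set.mem_iUnion, Set.mem_image] at hx
    obtain ⟨j, -, α, -, rfl⟩ := hx
    exact MvPolynomial.isIntegral_iff_isIntegral_coeff.mp
      (Groth.Agent.CharInt11.isIntegral_matrix_charpoly_coeff M hM j) α
  have hfg := fg_adjoin_of_finite hT hTint
  haveI : IsNoetherian A (Algebra.adjoin A T).toSubmodule := isNoetherian_of_fg_of_noetherian _ hfg
  refine isNoetherian_submodule.1 (isNoetherian_of_fg_of_noetherian _ hfg) _ ?_
  refine Subalgebra.toSubmodule.monotone (Algebra.adjoin_le ?_)
  rintro _ ⟨v, j, rfl⟩
  have hv : v ∈ Submodule.span A (Set.range φ) := hφ ▸ trivial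
  obtain ⟨a, rfl⟩ := (Submodule.mem_span_range_iff_exists_fun A).1 hv
  let ev : S →+* K := MvPolynomial.eval fun l => algebraMap A K (a l)
  have hev : ev.mapMatrix M = ψK (∑ l, a l • φ l) := by
    rw [map_sum, map_sum]
    refine Finset.sum_congr rfl fun l _ => ?_
    ext x y
    simp [ψ, ev, Algebra.smul_def, RingHom.mapMatrix_apply, AlgHom.mapMatrix_apply, Matrix.map_apply,
      Matrix.algebraMap_eq_diagonal, Matrix.diagonal_mul]
    rw [show algebraMap R S (MvPolynomial.X l) = MvPolynomial.X l from MvPolynomial.map_X (algebraMap A K) l,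
      show algebraMap K S (ψK (φ l) x y) = MvPolynomial.C (ψK (φ l) x y) from rfl,
      MvPolynomial.eval_X, MvPolynomial.eval_C]
  have hc : ((∑ l, a l • φ l).baseChange K).charpoly.coeff j = ev (M.charpoly.coeff j) := by
    rw [← LinearMap.charpoly_toMatrix _ b, ← Polynomial.coeff_map, ← Matrix.charpoly_map]
    exact congrArg (fun W : Matrix ι ι K => W.charpoly.coeff j) hev.symm
  rw [hc]
  rcases le_or_gt j (Fintype.card ι) with hj | hj
  · simp only [ev, MvPolynomial.eval_eq]
    refine Subalgebra.sum_mem _ fun α hα => Subalgebra.mul_mem _ (Algebra.subset_adjoin ?_)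
      (Subalgebra.prod_mem _ fun l _ => Subalgebra.pow_mem _ (Subalgebra.algebraMap_mem _ _) _)
    simp only [T, Set.mem_iUnion, Set.mem_image]
    exact ⟨j, Finset.mem_range.2 (Nat.lt_succ_of_le hj), α, hα, rfl⟩
  · rw [Polynomial.coeff_eq_zero_of_natDegree_lt (by rw [Matrix.charpoly_natDegree_eq_dim]; exact hj), map_zero]
    exact zero_mem _

end Groth.Agent.S4432
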