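import Groth.Statements.S4434
import Mathlib
import Groth.Agent.Lib.DVRVal.Basic

set_option autoImplicit false
universe u
open EGA2

namespace Groth.Agent.S4434

/-- Let A be a Noetherian domain with field of fractions K and L a finitely generated field extension of
K. The integral closure of A in L is the intersection of the discrete valuation subrings of L (with
fraction field L) containing the image of A: an element of L is integral over A exactly when it
belongs to all of them. -/
theorem result (A : Type u) [CommRing A] [IsDomain A] [IsNoetherianRing A]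
    (K : Type u) [Field K] [Algebra A K] [IsFractionRing A K]
    (L : Type u) [Field L] [Algebra K L] [Algebra A L] [IsScalarTower A K L] (hfg : (⊤ : IntermediateField K L).FG) (x : L) :
    IsIntegral A x ↔ ∀ R : ValuationSubring L, IsDiscreteValuationRing R → (∀ a : A, algebraMap A L a ∈ R) → x ∈ R := by
  constructor
  · intro hx R _ hA
    let f : A →+* R := (algebraMap A L).codRestrict R.toSubring hA
    obtain ⟨p, hp, hpx⟩ := hx
    have hx' : IsIntegral R x := ⟨p.map f, hp.map f, by rw [Polynomial.eval₂_map]; exact hpx⟩
    obtain ⟨y, hy⟩ := IsIntegrallyClosed.isIntegral_iff.mp hx'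
    exact hy ▸ y.2
  · intro h
    by_contra hx
    have hx0 : x ≠ 0 := by rintro rfl; exact hx isIntegral_zero
    let := invertibleOfNonzero (inv_ne_zero hx0)
    let B := Algebra.adjoin A ({x⁻¹} : Set L)
    haveI : Algebra.FiniteType A B := (Subalgebra.fg_iff_finiteType B).mp ⟨{x⁻¹}, by simp [B]⟩
    haveI : IsNoetherianRing B := Algebra.FiniteType.isNoetherianRing A B
    let xinv : B := ⟨x⁻¹, Algebra.subset_adjoin rfl⟩
    have hne : Ideal.span {xinv} ≠ ⊤ := fun eq => hx <| by
      obtain ⟨p, hp, hpx⟩ := Algebra.exists_aeval_invOf_eq_zero_of_idealMap_adjoin_sup_span_eq_top x⁻¹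
        (⊥ : Ideal A) bot_ne_top (top_unique <| eq.ge.trans le_add_self)
      exact ⟨p, by simpa [Polynomial.Monic, sub_eq_zero] using hp, by simpa [Polynomial.aeval_def] using hpx⟩
    obtain ⟨m, hm, hle⟩ := Ideal.exists_le_maximal _ hne
    haveI := hm.isPrime
    have hu (y : m.primeCompl) : IsUnit (algebraMap B L y) := IsUnit.mk0 _ fun h0 => y.2 (by
      rw [Subtype.ext (show ((y : B) : L) = ((0 : B) : L) from h0)]; exact zero_mem _)
    let φ : Localization.AtPrime m →+* L := IsLocalization.lift hu
    have hess : φ.EssFiniteType := by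
      haveI : Algebra.EssFiniteType A K := Algebra.EssFiniteType.of_isLocalization _ (nonZeroDivisors A)
      haveI : Algebra.EssFiniteType K L := IntermediateField.fg_top_iff.1 hfg
      have h1 : (algebraMap A L).EssFiniteType :=
        RingHom.essFiniteType_algebraMap.mpr (Algebra.EssFiniteType.comp A K L)
      refine RingHom.EssFiniteType.of_comp ((algebraMap B (Localization.AtPrime m)).comp (algebraMap A B)) ?_
      rw [← RingHom.comp_assoc, IsLocalization.lift_comp]
      exact h1
    have hxm : algebraMap B (Localization.AtPrime m) xinv ∈ IsLocalRing.maximalIdeal _ :=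
      (IsLocalization.AtPrime.to_map_mem_maximal_iff _ m _).mpr (hle (Ideal.mem_span_singleton_self _))
    have hker : RingHom.ker φ ≠ IsLocalRing.maximalIdeal _ := by
      intro e
      rw [← e, RingHom.mem_ker, IsLocalization.lift_eq] at hxm
      exact inv_ne_zero hx0 hxm
    obtain ⟨V, hV, hmem, hlt⟩ := Groth.Agent.DVRVal.exists_dvr _ L φ hess hker
    have hxV := h V hV fun a => by
      have := hmem (algebraMap B _ (algebraMap A B a))
      rwa [IsLocalization.lift_eq] at this
    have h1 := hlt _ hxm
    rw [IsLocalization.lift_eq] at h1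
    change V.valuation x⁻¹ < 1 at h1
    have h2 := (V.valuation_le_one_iff x).mpr hxV
    have : V.valuation x⁻¹ * V.valuation x < 1 := mul_lt_one_of_lt_of_le h1 h2
    rw [← map_mul, inv_mul_cancel₀ hx0, map_one] at this
    exact lt_irrefl _ this

end Groth.Agent.S4434
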