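import Groth.Statements.S4435
import Groth.Agent.Lib.H12.DimZero
import Mathlib.AlgebraicGeometry.FunctionField
import Mathlib.RingTheory.Localization.Finiteness
import Mathlib.RingTheory.Algebraic.Integral
import Mathlib.AlgebraicGeometry.Morphisms.Finite

set_option autoImplicit false
universe u
open CategoryTheory CategoryTheory.Limits AlgebraicGeometry
open EGA2

namespace Groth.Agent.S4435

/-- Let X, S be integral schemes and f : X ⟶ S a dominant morphism. If f is integral, the field of
rational functions of X is algebraic over that of S; if f is finite, it is a finite extension. Here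
the extension is given by the stalk map of f at the generic point of X, whose source is the local
ring of S at the generic point of S (f being dominant), i.e. the function field of S. -/
theorem result {X S : Scheme.{u}} [IsIntegral X] [IsIntegral S]
    (f : X ⟶ S) [IsDominant f] :
    (IsIntegralHom f → (f.stalkMap (genericPoint X)).hom.IsIntegral) ∧
      (IsFinite f → (f.stalkMap (genericPoint X)).hom.Finite) := by
  have hgen : f (genericPoint X) = genericPoint S := by
    refine IsGenericPoint.eq ?_ (genericPoint_spec _)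
    show closure _ = _
    refine Set.eq_univ_of_univ_subset ?_
    rw [← f.denseRange.closure_range]
    refine closure_minimal ?_ isClosed_closure
    rintro _ ⟨x, rfl⟩
    exact specializes_iff_mem_closure.1 ((genericPoint_specializes x).map f.continuous)
  obtain ⟨U, hU, hx, -⟩ := exists_isAffineOpen_mem_and_subset (U := (⊤ : S.Opens)) (x := f (genericPoint X)) trivial
  haveI : Nonempty U := ⟨⟨_, hx⟩⟩
  haveI : Nonempty (f ⁻¹ᵁ U) := ⟨⟨genericPoint X, hx⟩⟩
  haveI : IsDomain Γ(S, U) := IsIntegral.component_integral _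
  haveI : IsDomain Γ(X, f ⁻¹ᵁ U) := IsIntegral.component_integral _
  have core : ∀ [IsIntegralHom f], (f.stalkMap (genericPoint X)).hom.IsIntegral ∧
      ((f.app U).hom.Finite → (f.stalkMap (genericPoint X)).hom.Finite) := by
    intro _
    have hV : IsAffineOpen (f ⁻¹ᵁ U) := hU.preimage f
    haveI := functionField_isFractionRing_of_isAffineOpen X (f ⁻¹ᵁ U) hV
    letI : Algebra Γ(S, U) (S.presheaf.stalk (f (genericPoint X))) := (S.presheaf.germ U _ hx).hom.toAlgebra
    haveI : IsFractionRing Γ(S, U) (S.presheaf.stalk (f (genericPoint X))) := by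
      have := functionField_isFractionRing_of_isAffineOpen S U hU
      have key : ∀ (y : S) (hy : y ∈ U), y = genericPoint S →
          @IsFractionRing Γ(S, U) _ (S.presheaf.stalk y) _ (S.presheaf.germ U y hy).hom.toAlgebra := by
        rintro _ hy rfl
        exact this
      exact key _ hx hgen
    letI : Algebra Γ(S, U) Γ(X, f ⁻¹ᵁ U) := (f.app U).hom.toAlgebra
    letI : Algebra Γ(X, f ⁻¹ᵁ U) (X.presheaf.stalk (genericPoint X)) := (X.presheaf.germ (f ⁻¹ᵁ U) _ hx).hom.toAlgebra
    haveI : IsFractionRing Γ(X, f ⁻¹ᵁ U) (X.presheaf.stalk (genericPoint X)) :=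
      functionField_isFractionRing_of_isAffineOpen X (f ⁻¹ᵁ U) hV
    letI : Algebra (S.presheaf.stalk (f (genericPoint X))) (X.presheaf.stalk (genericPoint X)) :=
      (f.stalkMap (genericPoint X)).hom.toAlgebra
    letI : Algebra Γ(S, U) (X.presheaf.stalk (genericPoint X)) :=
      ((X.presheaf.germ (f ⁻¹ᵁ U) _ hx).hom.comp (f.app U).hom).toAlgebra
    haveI : IsScalarTower Γ(S, U) Γ(X, f ⁻¹ᵁ U) (X.presheaf.stalk (genericPoint X)) :=
      IsScalarTower.of_algebraMap_eq fun _ => rfl
    haveI : IsScalarTower Γ(S, U) (S.presheaf.stalk (f (genericPoint X))) (X.presheaf.stalk (genericPoint X)) :=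
      IsScalarTower.of_algebraMap_eq fun a => (Scheme.Hom.germ_stalkMap_apply f U _ hx a).symm
    haveI : Algebra.IsIntegral Γ(S, U) Γ(X, f ⁻¹ᵁ U) := ⟨f.isIntegral_app U hU⟩
    haveI : FaithfulSMul Γ(S, U) Γ(X, f ⁻¹ᵁ U) := by
      rw [faithfulSMul_iff_algebraMap_injective]
      intro a b hab
      apply IsFractionRing.injective Γ(S, U) (S.presheaf.stalk (f (genericPoint X)))
      have hfield : IsField (S.presheaf.stalk (f (genericPoint X))) := by rw [hgen]; exact Field.toIsField S.functionField
      letI := hfield.toField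
      refine (f.stalkMap (genericPoint X)).hom.injective ?_
      show f.stalkMap _ (S.presheaf.germ U _ hx a) = f.stalkMap _ (S.presheaf.germ U _ hx b)
      rw [Scheme.Hom.germ_stalkMap_apply, Scheme.Hom.germ_stalkMap_apply]
      exact congrArg _ hab
    haveI : Algebra.IsAlgebraic Γ(S, U) Γ(X, f ⁻¹ᵁ U) := Algebra.IsIntegral.isAlgebraic
    haveI : IsLocalization (Algebra.algebraMapSubmonoid Γ(X, f ⁻¹ᵁ U) (nonZeroDivisors Γ(S, U))) (X.presheaf.stalk (genericPoint X)) := inferInstance
    refine ⟨?_, fun hfin => ?_⟩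
    · intro z
      obtain ⟨⟨b, s⟩, hz⟩ := IsLocalization.surj (Algebra.algebraMapSubmonoid Γ(X, f ⁻¹ᵁ U) (nonZeroDivisors Γ(S, U))) z
      obtain ⟨a, ha, hs⟩ := s.2
      have hb : IsIntegral (S.presheaf.stalk (f (genericPoint X))) (algebraMap Γ(X, f ⁻¹ᵁ U) (X.presheaf.stalk (genericPoint X)) b) :=
        IsIntegral.tower_top (R := Γ(S, U)) ((Algebra.IsIntegral.isIntegral b).map (IsScalarTower.toAlgHom Γ(S, U) _ _))
      obtain ⟨u, hu⟩ := (IsLocalization.map_units (S.presheaf.stalk (f (genericPoint X))) (⟨a, ha⟩ : nonZeroDivisors Γ(S, U)))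
      have hz' : z = algebraMap _ _ b * algebraMap (S.presheaf.stalk (f (genericPoint X))) _ ↑u⁻¹ := by
        rw [← hz, mul_assoc, ← hs, ← IsScalarTower.algebraMap_apply,
          IsScalarTower.algebraMap_apply Γ(S, U) (S.presheaf.stalk (f (genericPoint X))), ← map_mul,
          show algebraMap Γ(S, U) (S.presheaf.stalk (f (genericPoint X))) a = (u : _) from hu.symm, Units.mul_inv, map_one, mul_one]
      show IsIntegral (S.presheaf.stalk (f (genericPoint X))) z
      rw [hz']
      exact hb.mul isIntegral_algebraMap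
    · haveI : Module.Finite Γ(S, U) Γ(X, f ⁻¹ᵁ U) := hfin
      exact Module.Finite.of_isLocalization Γ(S, U) Γ(X, f ⁻¹ᵁ U) (nonZeroDivisors Γ(S, U))
  refine ⟨fun h => core.1, fun h => core.2 (f.finite_app U hU)⟩

end Groth.Agent.S4435
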