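import Groth.Statements.S4436
import Groth.Agent.Lib.RankFree12.Scheme
import Groth.Agent.Lib.PushFin12.Basic
import Groth.Agent.Lib.DetNorm28.Exists
-- import your own Groth.Agent.* helpers here

set_option autoImplicit false
universe u
open CategoryTheory CategoryTheory.Limits AlgebraicGeometry
open EGA2

set_option backward.isDefEq.respectTransparency false
set_option linter.style.haveILetI false
open Groth.Agent.M1 TensorProduct Opposite TopologicalSpace

namespace Groth.Agent.S4436

set_option backward.isDefEq.respectTransparency false in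
/-- A module on `Spec R` that becomes free after inverting `r` is free on `D(r)`. -/
theorem fr_away_of_basis {R : CommRingCat.{u}} (N : ModuleCat.{u} R) (r : R)
    {I : Type u} [Finite I] (b : Module.Basis I (Localization (.powers r)) (LocalizedModule.Away r N)) :
    Nonempty ((Scheme.Modules.pullback
      (Spec.map (CommRingCat.ofHom (algebraMap R (Localization (.powers r)))))).obj (tilde N) ≅ fr I) := by
  let S := CommRingCat.of (Localization (Submonoid.powers r))
  let φ : R ⟶ S := CommRingCat.ofHom (algebraMap R (Localization (.powers r)))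
  let e : Localization (Submonoid.powers r) ⊗[R] N ≃ₗ[Localization (Submonoid.powers r)]
      (I →₀ Localization (Submonoid.powers r)) :=
    (LocalizedModule.equivTensorProduct (.powers r) N).symm.trans b.repr
  let g : ((ModuleCat.restrictScalars φ.hom).obj (ModuleCat.of S S)) ≃ₗ[R]
      Localization (Submonoid.powers r) :=
    { toFun := fun x => x
      invFun := fun x => x
      left_inv := fun _ => rfl
      right_inv := fun _ => rfl
      map_add' := fun _ _ => rfl
      map_smul' := fun a x =>
        (Algebra.smul_def (A := Localization (Submonoid.powers r)) a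
          (show Localization (Submonoid.powers r) from x)).symm }
  let q := TensorProduct.congr g (LinearEquiv.refl R N)
  let d : ((ModuleCat.extendScalars φ.hom).obj N) ≅
      ModuleCat.of S (Localization (Submonoid.powers r) ⊗[R] N) :=
    LinearEquiv.toModuleIso
      (X₁ := (ModuleCat.extendScalars φ.hom).obj N)
      (X₂ := Localization (Submonoid.powers r) ⊗[R] N) (R := S)
      { toFun := fun x => q x
        invFun := fun x => q.symm x
        left_inv := fun x => q.symm_apply_apply x
        right_inv := fun x => q.apply_symm_apply x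
        map_add' := fun x y => q.map_add x y
        map_smul' := fun c x => by
          induction (show ((ModuleCat.restrictScalars φ.hom).obj (ModuleCat.of S S)) ⊗[R] N from x)
            using TensorProduct.induction_on with
          | zero => erw [smul_zero, q.map_zero, smul_zero]
          | tmul a m => rfl
          | add x y hx hy => erw [smul_add, q.map_add, hx, hy, q.map_add, smul_add] }
  let e' : ((ModuleCat.extendScalars φ.hom).obj N) ≅ ModuleCat.of S (I →₀ S) :=
    d ≪≫ LinearEquiv.toModuleIso (X₁ := Localization (Submonoid.powers r) ⊗[R] N) (R := S) e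
  exact ⟨tildePullbackObjIso φ N ≪≫ (tilde.functor S).mapIso e' ≪≫ frTildeIso _⟩


/-- Let f : X' ⟶ X be a finite morphism and F' a locally free O_{X'}-module of rank r. Then every point
of X has an open neighbourhood U over whose inverse image F' is free of rank r; this is the content
of the statement that the direct image of F' is a locally free module of rank r over the direct
image of O_{X'} (the converse implication being immediate). -/
theorem result {X' X : Scheme.{u}} (f : X' ⟶ X) [IsFinite f] (r : ℕ)
    (F : X'.Modules) (hF : FlatMod.IsFinLocFreeOfRank r F) (x : X) :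
    ∃ U : X.Opens, x ∈ U ∧ Nonempty (F.restrict (f ⁻¹ᵁ U).ι ≅ FlatMod.freeMod (↑(f ⁻¹ᵁ U)) r) := by
  classical
  obtain ⟨U, hU, hxU, -⟩ := exists_isAffineOpen_mem_and_subset (x := x) (U := ⊤) trivial
  let W := f ⁻¹ᵁ U
  have hW : IsAffineOpen W := hU.preimage f
  have hLF : FlatMod.IsFinLocFree F := fun y => (hF y).imp fun V h => ⟨r, h.1, h.2⟩
  have hFP : CohB1.IsFP F := isFP_of_isFinLocFree hLF
  have hQ : Coh.IsQCoh F := isFP_isQCoh hFP
  haveI := hQ
  have hfree : ∀ y, Module.Free (X'.presheaf.stalk y) (F.presheaf.stalk y) := fun y => by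
    obtain ⟨V, hyV, ⟨e⟩⟩ := hF y
    exact free_stalk_of_freeMod hQ e hyV
  haveI := finitePresentation_sections hFP hW
  haveI : Module.Flat Γ(X', W) Γ(F, W) := Groth.Agent.PushFin12.flat_sections_of_flat_stalks hQ hW fun y => by
    haveI := hfree y; infer_instance
  haveI : Module.Projective Γ(X', W) Γ(F, W) := Module.Flat.projective_of_finitePresentation
  letI : Algebra Γ(X, U) Γ(X', W) := (f.app U).hom.toAlgebra
  haveI : Module.Finite Γ(X, U) Γ(X', W) := IsFinite.finite_app (f := f) U hU
  let p := (hU.primeIdealOf ⟨x, hxU⟩)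
  have hrk : ∀ q : PrimeSpectrum Γ(X', W), Module.rankAtStalk Γ(F, W) q = r := by
    intro q
    have hyW : hW.fromSpec q ∈ W := hW.range_fromSpec.le ⟨q, rfl⟩
    have hq : hW.primeIdealOf ⟨hW.fromSpec q, hyW⟩ = q :=
      hW.fromSpec.isOpenEmbedding.injective (hW.fromSpec_primeIdealOf _)
    rw [← hq]
    generalize hW.fromSpec q = y at hyW
    obtain ⟨V, hyV, ⟨e⟩⟩ := hF y
    letI := stalkModule F hyW
    haveI := isLocalizedModule_germ F hW hyW
    let := TopCat.Presheaf.algebra_section_stalk X'.presheaf (⟨y, hyW⟩ : W)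
    haveI := hW.isLocalization_stalk ⟨y, hyW⟩
    haveI : IsScalarTower Γ(X', W) (X'.presheaf.stalk y) (F.presheaf.stalk y) :=
      IsScalarTower.of_algebraMap_smul fun _ _ => rfl
    haveI := hfree y
    haveI := finite_stalk hQ (isFP_isFT hFP) y
    have hb : IsBaseChange (X'.presheaf.stalk y) (germₗ F hyW) :=
      IsLocalizedModule.isBaseChange (hW.primeIdealOf ⟨y, hyW⟩).asIdeal.primeCompl _ _
    have h := Module.rankAtStalk_isBaseChange hb (IsLocalRing.closedPoint (X'.presheaf.stalk y))
    rw [Module.rankAtStalk_eq_finrank_of_free] at h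
    have h2 := RankFree12.rk_of_freeMod hQ e hyV
    rw [RankFree12.rk, Module.finrank_baseChange] at h2
    rw [hW.primeIdealOf_eq_map_closedPoint, ← h2]
    exact h.symm
  let S := Algebra.algebraMapSubmonoid Γ(X', W) p.asIdeal.primeCompl
  let Rq := Localization S
  haveI : Finite (MaximalSpectrum Rq) := DetNorm28.finite_maximalSpectrum_localization p.asIdeal
  let g : Γ(F, W) →ₗ[Γ(X', W)] Rq ⊗[Γ(X', W)] Γ(F, W) := TensorProduct.mk Γ(X', W) Rq Γ(F, W) 1
  haveI : IsLocalizedModule S g :=
    (isLocalizedModule_iff_isBaseChange S Rq g).mpr (TensorProduct.isBaseChange Γ(X', W) Γ(F, W) Rq)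
  obtain ⟨b⟩ := Module.nonempty_basis_of_flat_of_finrank_eq Rq (Rq ⊗[Γ(X', W)] Γ(F, W)) r fun P => by
    letI := Ideal.Quotient.field P.asIdeal
    have h := Module.rankAtStalk_baseChange (R := Rq) (M := Rq ⊗[Γ(X', W)] Γ(F, W)) (S := Rq ⧸ P.asIdeal)
      (default : PrimeSpectrum (Rq ⧸ P.asIdeal))
    rw [Module.rankAtStalk_eq_finrank_of_free, Module.rankAtStalk_baseChange, hrk] at h
    simpa using h
  obtain ⟨t, ht, b', -⟩ := Module.FinitePresentation.exists_basis_localizedModule_powers S g Rq
    (b.reindex (Equiv.ulift.{u}).symm)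
  obtain ⟨s, hs, rfl⟩ := ht
  haveI := isQCoh_fromSpec hQ hW
  let N := moduleSpecΓFunctor.obj (F.restrict hW.fromSpec)
  let t : Γ(X', W) := algebraMap Γ(X, U) Γ(X', W) s
  let eN : N ≃ₗ[Γ(X', W)] Γ(F, W) := affineSecEquiv F hW
  let eL : LocalizedModule.Away t N ≃ₗ[Localization (Submonoid.powers t)] LocalizedModule.Away t Γ(F, W) :=
    IsLocalizedModule.mapEquiv (Submonoid.powers t) (LocalizedModule.mkLinearMap _ _)
      (LocalizedModule.mkLinearMap _ _) (Localization (Submonoid.powers t)) eN
  obtain ⟨e⟩ := fr_away_of_basis N t (b'.map eL.symm)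
  let j := Spec.map (CommRingCat.ofHom (algebraMap Γ(X', W) (Localization (.powers t))))
  haveI : IsOpenImmersion j := IsOpenImmersion.of_isLocalization t
  let φ : F.restrict hW.fromSpec ≅ tilde N :=
    (@asIso _ _ _ _ (F.restrict hW.fromSpec).fromTildeΓ
      (Scheme.Modules.isIso_fromTildeΓ_of_isQuasicoherent (R := Γ(X', W)) _)).symm
  let ej : F.restrict (j ≫ hW.fromSpec) ≅ fr (ULift.{u} (Fin r)) :=
    (restrictRestrictIso F hW.fromSpec j (j ≫ hW.fromSpec) rfl).symm ≪≫
      (Scheme.Modules.restrictFunctor j).mapIso φ ≪≫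
      (Scheme.Modules.restrictFunctorIsoPullback j).app (tilde N) ≪≫ e
  refine ⟨X.basicOpen s, ?_, ?_⟩
  · show x ∈ X.basicOpen s
    have := hU.fromSpec_primeIdealOf ⟨x, hxU⟩
    rw [show x = hU.fromSpec (hU.primeIdealOf ⟨x, hxU⟩) from this.symm]
    show hU.primeIdealOf ⟨x, hxU⟩ ∈ hU.fromSpec ⁻¹ᵁ X.basicOpen s
    rw [hU.fromSpec_preimage_basicOpen]
    exact hs
  have hrange : Set.range (f ⁻¹ᵁ X.basicOpen s).ι ⊆ Set.range (j ≫ hW.fromSpec) := by
    rw [Scheme.Opens.range_ι, Scheme.preimage_basicOpen]
    intro y hy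
    have hy' : y ∈ hW.fromSpec ''ᵁ (PrimeSpectrum.basicOpen t) := by
      rw [hW.fromSpec_image_basicOpen]; exact hy
    obtain ⟨q, hq, rfl⟩ := hy'
    obtain ⟨z, hz⟩ : q ∈ Set.range j := by
      change (q : PrimeSpectrum _) ∈ Set.range (PrimeSpectrum.comap (algebraMap Γ(X', W) (Localization (.powers t))))
      rw [PrimeSpectrum.localization_away_comap_range (S := Localization.Away t) t]
      exact hq
    exact ⟨z, congrArg hW.fromSpec hz⟩
  exact ⟨(restrictLiftIso F (j ≫ hW.fromSpec) _ hrange).symm ≪≫
    (Scheme.Modules.restrictFunctor (IsOpenImmersion.lift (j ≫ hW.fromSpec) _ hrange)).mapIso ej ≪≫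
      (frRestrictIso (IsOpenImmersion.lift (j ≫ hW.fromSpec) _ hrange) _).symm ≪≫ (freeModFrIso _ r).symm⟩

end Groth.Agent.S4436
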