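import Groth.Statements.S4441
import Mathlib.AlgebraicGeometry.ValuativeCriterion
import Mathlib.AlgebraicGeometry.FunctionField
import Mathlib.RingTheory.Valuation.LocalSubring

set_option autoImplicit false
universe u
open CategoryTheory CategoryTheory.Limits AlgebraicGeometry
open EGA2

namespace Groth.Agent.S4441

/-- Let X and Y be integral separated schemes and f : X ⟶ Y a dominant, quasi-compact, universally
closed morphism, ξ the generic point of X. Every valuation subring R of the function field K(X) of X
which dominates the local ring of Y at a point y (via O_{Y,y} → O_{Y,f(ξ)} → K(X): image inside R,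
maximal ideal into the maximal ideal of R) also dominates the local ring of X at some point x (via
O_{X,x} → K(X)). -/
theorem result {X Y : Scheme.{u}} [IsIntegral X] [IsIntegral Y]
    [X.IsSeparated] [Y.IsSeparated] (f : X ⟶ Y) [IsDominant f] [QuasiCompact f] [UniversallyClosed f]
    (R : ValuationSubring X.functionField) (y : Y) (hy : f.base (genericPoint X) ⤳ y)
    (hdom : (∀ a : Y.presheaf.stalk y, (Y.presheaf.stalkSpecializes hy ≫ f.stalkMap (genericPoint X)).hom a ∈ R) ∧
      ∀ a ∈ IsLocalRing.maximalIdeal (Y.presheaf.stalk y),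
        R.valuation ((Y.presheaf.stalkSpecializes hy ≫ f.stalkMap (genericPoint X)).hom a) < 1) :
    ∃ x : X, (∀ a : X.presheaf.stalk x, algebraMap (X.presheaf.stalk x) X.functionField a ∈ R) ∧
      ∀ a ∈ IsLocalRing.maximalIdeal (X.presheaf.stalk x), R.valuation (algebraMap (X.presheaf.stalk x) X.functionField a) < 1 := by
  let ψ : Y.presheaf.stalk y →+* X.functionField := (Y.presheaf.stalkSpecializes hy ≫ f.stalkMap (genericPoint X)).hom
  let φ : Y.presheaf.stalk y →+* R := ψ.codRestrict R.toSubring hdom.1
  haveI : IsLocalHom (CommRingCat.ofHom φ).hom := ⟨fun a ha => by_contra fun hna => by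
    have h2 := hdom.2 a ((IsLocalRing.mem_maximalIdeal a).2 hna)
    obtain ⟨u, hu⟩ := ha
    have h3 : R.valuation ((u : R) : X.functionField) = 1 := R.valuation_unit u
    rw [hu] at h3
    exact h2.ne h3⟩
  have hsq : CommSq (X.fromSpecStalk (genericPoint X)) (Spec.map (CommRingCat.ofHom (algebraMap R X.functionField))) f
      (Spec.map (CommRingCat.ofHom φ) ≫ Y.fromSpecStalk y) := ⟨by
    rw [← Spec.map_comp_assoc]
    show _ = Spec.map (Y.presheaf.stalkSpecializes hy ≫ f.stalkMap (genericPoint X)) ≫ _
    rw [Spec.map_comp, Category.assoc, Scheme.SpecMap_stalkSpecializes_fromSpecStalk, Scheme.SpecMap_stalkMap_fromSpecStalk]⟩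
  have hexist : ValuativeCriterion.Existence f := by
    have h : (ValuativeCriterion.Existence ⊓ @QuasiCompact : MorphismProperty Scheme) f := by
      rw [← UniversallyClosed.eq_valuativeCriterion]; infer_instance
    exact h.1
  obtain ⟨⟨⟨l, hl, -⟩⟩⟩ := hexist ⟨R, X.functionField, _, _, hsq⟩
  let x := l (IsLocalRing.closedPoint R)
  let τ : X.presheaf.stalk x ⟶ CommRingCat.of R := Scheme.stalkClosedPointTo l
  have heq : τ ≫ CommRingCat.ofHom (algebraMap R X.functionField) =
      X.presheaf.stalkSpecializes (genericPoint_specializes x) := by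
    apply Spec.map_injective
    rw [← cancel_mono (X.fromSpecStalk x), Scheme.SpecMap_stalkSpecializes_fromSpecStalk, Spec.map_comp, Category.assoc]
    rw [show Spec.map τ ≫ X.fromSpecStalk x = l from Scheme.Spec_stalkClosedPointTo_fromSpecStalk l]
    exact hl
  have hx : ∀ a, algebraMap (X.presheaf.stalk x) X.functionField a = ((τ a : R) : X.functionField) := fun a =>
    (ConcreteCategory.congr_hom heq a).symm
  refine ⟨x, fun a => by rw [hx]; exact (τ a).2, fun a ha => ?_⟩
  rw [hx]
  refine (R.valuation_lt_one_iff (τ a)).1 ((IsLocalRing.mem_maximalIdeal _).2 fun hu => ?_)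
  refine (IsLocalRing.mem_maximalIdeal a).1 ha ?_
  haveI : IsLocalHom τ.hom := inferInstanceAs (IsLocalHom (Scheme.stalkClosedPointTo l).hom)
  exact (isUnit_map_iff τ.hom a).1 hu

end Groth.Agent.S4441
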