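import Groth.Statements.S4442
import Groth.Agent.Lib.CurveNF.Dim
import Groth.Agent.Lib.VarDim.Irred

set_option autoImplicit false
universe u
open CategoryTheory CategoryTheory.Limits AlgebraicGeometry
attribute [local instance] Curv2.resAlgebra
open EGA2

namespace Groth.Agent.S4442

/-- (a) ⇔ (b): let X be a scheme of finite type over a field k. The residue fields of the generic points
of the irreducible components of X all have transcendence degree one over k if and only if the local
ring of X at every closed point has dimension one. (The published statement has a third equivalent
condition: the irreducible closed subsets of X other than the irreducible components are exactly the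
closed points of X. This row states only the equivalence of the first two.) -/
theorem result (k : Type u) [Field k] (X : Scheme.{u})
    [X.Over (Spec (CommRingCat.of k))] [LocallyOfFiniteType (X ↘ (Spec (CommRingCat.of k)))]
    [QuasiCompact (X ↘ (Spec (CommRingCat.of k)))] :
    (∀ x : X, closure ({x} : Set X) ∈ irreducibleComponents (X : Type u) → Algebra.trdeg k (X.residueField x) = 1) ↔
      ∀ x : X, IsClosed ({x} : Set X) → ringKrullDim (X.presheaf.stalk x) = 1 := by
  set f := X ↘ (Spec (CommRingCat.of k)) with hf
  have hs : ∀ x : X, Algebra.trdeg k (X.residueField x) = 1 ↔ Groth.Agent.VarDim.sdim f x = 1 := by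
    intro x
    have h := Groth.Agent.VarDim.trdeg_residueField f x
    have key : Algebra.trdeg k (X.residueField x) = (Groth.Agent.VarDim.sdim f x : Cardinal) := by
      convert h using 2
      refine Algebra.algebra_ext _ _ fun r => ?_
      rfl
    rw [key, ← Nat.cast_one, Nat.cast_inj]
  refine ⟨fun h x hx => Groth.Agent.CurveNF.ringKrullDim_stalk_eq_one_of_maximal f
    (fun g hg => (hs g).1 (h g ((Groth.Agent.VarDim.maximal_iff_mem_irreducibleComponents g).1 hg)))
    (fun y => Groth.Agent.VarDim.exists_maximal_specializes f y) hx, fun h x hx => ?_⟩
  exact (hs x).2 (Groth.Agent.CurveNF.sdim_eq_one_of_maximal f h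
    ((Groth.Agent.VarDim.maximal_iff_mem_irreducibleComponents x).2 hx))

end Groth.Agent.S4442
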