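import Groth.Statements.S4443
import Groth.Agent.Lib.CurveNF.Fibres

set_option autoImplicit false
universe u
open CategoryTheory CategoryTheory.Limits AlgebraicGeometry
open EGA2

namespace Groth.Agent.S4443

/-- Let X be an irreducible algebraic curve over a field k (separated and of finite type over k,
nonempty, irreducible, local rings at closed points of dimension one). Then the generic point is the
only non-closed point of X, and the closed subsets of X distinct from X are exactly the finite sets
of closed points. (The published statement adds that these are also exactly the subsets of X that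
are not dense in X, an immediate consequence; this row does not state it.) -/
theorem result (k : Type u) [Field k] (X : Scheme.{u})
    [X.Over (Spec (CommRingCat.of k))] [LocallyOfFiniteType (X ↘ (Spec (CommRingCat.of k)))]
    [QuasiCompact (X ↘ (Spec (CommRingCat.of k)))] [IsSeparated (X ↘ (Spec (CommRingCat.of k)))]
    [Nonempty X] [IrreducibleSpace X] (hcurve : ∀ x : X, IsClosed ({x} : Set X) → ringKrullDim (X.presheaf.stalk x) = 1) :
    (∀ x : X, ¬ IsClosed ({x} : Set X) → x = genericPoint X) ∧
      ∀ F : Set X, IsClosed F → (F ≠ Set.univ ↔ (F.Finite ∧ ∀ x ∈ F, IsClosed ({x} : Set X))) := by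
  let p := X ↘ (Spec (CommRingCat.of k))
  have hne : ∀ x : X, x ≠ genericPoint X → IsClosed ({x} : Set X) := fun x hx =>
    Groth.Agent.CurveNF.isClosed_singleton_of_ne p hcurve hx
  have hgen : ¬ IsClosed ({genericPoint X} : Set X) := fun h => by
    have h1 := (Groth.Agent.VarDim.sdim_eq_zero_iff_isClosed p _).2 h
    rw [Groth.Agent.CurveNF.sdim_genericPoint p hcurve] at h1
    exact one_ne_zero h1
  refine ⟨fun x hx => by_contra fun h => hx (hne x h), fun F hF => ⟨fun h => ?_, fun h e => ?_⟩⟩
  · have hξ : genericPoint X ∉ F := fun hmem => h (Set.eq_univ_of_univ_subset (by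
      rw [← (genericPoint_spec X).def]
      exact closure_minimal (Set.singleton_subset_iff.2 hmem) hF))
    exact ⟨Groth.Agent.CurveNF.finite_of_isClosed p hcurve hF hξ, fun x hx => hne x fun e => hξ (e ▸ hx)⟩
  · exact hgen (h.2 _ (e ▸ Set.mem_univ _))

end Groth.Agent.S4443
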