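import Groth.Statements.S4444
import Groth.Agent.Lib.CurveNF.Complete
import Groth.Agent.Lib.CurveNF.SigmaProper
import Groth.Agent.Lib.VarDim.Fibration

set_option autoImplicit false
universe u
open CategoryTheory CategoryTheory.Limits AlgebraicGeometry
open EGA2

namespace Groth.Agent.S4444

/-- Every normal algebraic curve X over a field k (separated and of finite type over k, nonempty, local
rings at closed points of dimension one, all local rings integrally closed domains) admits a
k-morphism which is an open immersion with dense image into a normal algebraic curve proper over k.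
(The uniqueness of this completion up to unique isomorphism is not part of this row.) -/
theorem result (k : Type u) [Field k] (X : Scheme.{u})
    [X.Over (Spec (CommRingCat.of k))] [LocallyOfFiniteType (X ↘ (Spec (CommRingCat.of k)))]
    [QuasiCompact (X ↘ (Spec (CommRingCat.of k)))] [IsSeparated (X ↘ (Spec (CommRingCat.of k)))] [Nonempty X]
    (hcurve : ∀ x : X, IsClosed ({x} : Set X) → ringKrullDim (X.presheaf.stalk x) = 1) (hnorm : Pi1.IsNormalScheme X) :
    ∃ (Xc : Scheme.{u}) (sc : Xc ⟶ Spec (CommRingCat.of k)) (j : X ⟶ Xc), IsOpenImmersion j ∧ Dense (Set.range j.base) ∧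
      j ≫ sc = X ↘ (Spec (CommRingCat.of k)) ∧ IsProper sc ∧ Pi1.IsNormalScheme Xc ∧
      ∀ x : Xc, IsClosed ({x} : Set Xc) → ringKrullDim (Xc.presheaf.stalk x) = 1 := by
  classical
  let p := X ↘ (Spec (CommRingCat.of k))
  haveI : IsLocallyNoetherian X := LocallyOfFiniteType.isLocallyNoetherian p
  haveI : CompactSpace X := QuasiCompact.compactSpace_of_compactSpace p
  haveI : IsNoetherian X := {}
  haveI : ∀ x : X, _root_.IsReduced (X.presheaf.stalk x) := fun x => by
    haveI := (hnorm x).1; infer_instance
  haveI : IsReduced X := isReduced_of_isReduced_stalk X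
  let ι := {g : X // IsClopen (closure ({g} : Set X)) ∧ closure ({g} : Set X) ∈ irreducibleComponents X}
  have hinjι : ∀ g h : ι, closure ({g.1} : Set X) = closure {h.1} → g = h := fun g h e =>
    Subtype.ext (IsGenericPoint.eq (show IsGenericPoint g.1 (closure ({h.1} : Set X)) from e) rfl)
  haveI : Finite ι :=
    haveI : Finite (irreducibleComponents (X : Type u)) :=
      TopologicalSpace.NoetherianSpace.finite_irreducibleComponents.to_subtype
    Finite.of_injective (fun g : ι => (⟨_, g.2.2⟩ : irreducibleComponents (X : Type u)))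
      fun g h e => hinjι g h (congrArg Subtype.val e)
  let C : ι → X.Opens := fun g => ⟨closure ({g.1} : Set X), g.2.1.isOpen⟩
  have hcov : ∀ x : X, ∃ g : ι, x ∈ C g := by
    intro x
    obtain ⟨g, hgx, hg⟩ := Groth.Agent.VarDim.Fibration.exists_component_isClopen hnorm x
    refine ⟨⟨g, hg, ?_⟩, specializes_iff_mem_closure.1 hgx⟩
    refine ⟨isIrreducible_singleton.closure, fun Z hZ hle => ?_⟩
    exact hZ.isPreirreducible.isPreconnected.subset_isClopen hg ⟨g, hle (subset_closure rfl), subset_closure rfl⟩
  have hdisj : ∀ g h : ι, g ≠ h → Disjoint (C g : Set X) (C h) := by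
    intro g h hne
    rw [Set.disjoint_iff_forall_ne]
    rintro a ha b hb rfl
    apply hne
    apply hinjι
    refine le_antisymm ?_ ?_
    · exact isIrreducible_singleton.closure.isPreirreducible.isPreconnected.subset_isClopen h.2.1 ⟨a, ha, hb⟩
    · exact isIrreducible_singleton.closure.isPreirreducible.isPreconnected.subset_isClopen g.2.1 ⟨a, hb, ha⟩
  haveI hint : ∀ g : ι, IsIntegral (C g : Scheme.{u}) := fun g => by
    haveI : IrreducibleSpace (C g : Scheme.{u}) := by
      show IrreducibleSpace (closure ({g.1} : Set X))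
      exact (Subtype.irreducibleSpace isIrreducible_singleton.closure)
    exact isIntegral_of_irreducibleSpace_of_isReduced _
  have hst : ∀ g (y : (C g : Scheme.{u})), Function.Bijective ((C g).ι.stalkMap y) := fun g y =>
    ConcreteCategory.bijective_of_isIso _
  have hcl : ∀ g, IsClosedImmersion (C g).ι := fun g => IsClosedImmersion.of_isPreimmersion _ (by
    rw [Scheme.Opens.range_ι]; exact isClosed_closure)
  choose Y hY q j hq hj hjq hYn hYd using fun g : ι =>
    haveI := hcl g
    Groth.Agent.CurveNF.exists_completion_integral ((C g).ι ≫ p)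
      (fun y hy => by
        have hy' : IsClosed ({(C g).ι y} : Set X) := by
          have := (C g).ι.isClosedMap _ hy
          rwa [Set.image_singleton] at this
        rw [← hcurve _ hy']
        exact (ringKrullDim_eq_of_ringEquiv (RingEquiv.ofBijective ((C g).ι.stalkMap y).hom (hst g y))).symm)
      (fun y => by
        haveI := (hnorm ((C g).ι y)).1
        haveI := (hnorm ((C g).ι y)).2
        exact ⟨inferInstance, IsIntegrallyClosed.of_equiv (RingEquiv.ofBijective ((C g).ι.stalkMap y).hom (hst g y))⟩)
  haveI := hj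
  haveI := hq
  have hd : IsIso (Limits.Sigma.desc fun g => (C g).ι) := by
    obtain ⟨hc⟩ := nonempty_isColimit_cofanMk_of (fun g => (C g).ι) (by
      rw [eq_top_iff]
      intro x _
      obtain ⟨g, hg⟩ := hcov x
      exact TopologicalSpace.Opens.mem_iSup.2 ⟨g, by rwa [Scheme.Opens.opensRange_ι]⟩) (fun g h hne => by
      show Disjoint (C g).ι.opensRange (C h).ι.opensRange
      rw [Scheme.Opens.opensRange_ι, Scheme.Opens.opensRange_ι]
      exact TopologicalSpace.Opens.coe_disjoint.mp (hdisj g h hne))
    exact (Limits.Cofan.nonempty_isColimit_iff_isIso_sigmaDesc _).1 ⟨hc⟩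
  haveI hmap : IsOpenImmersion (Limits.Sigma.map j) := by
    refine IsZariskiLocalAtTarget.of_openCover (P := @IsOpenImmersion) (sigmaOpenCover Y) fun i => ?_
    show IsOpenImmersion (pullback.snd (Limits.Sigma.map j) (Sigma.ι Y i))
    rw [← IsPullback.isoPullback_inv_snd (Groth.Agent.CurveNF.isPullback_sigmaMap j i).flip]
    infer_instance
  let jc : X ⟶ ∐ Y := inv (Limits.Sigma.desc fun g => (C g).ι) ≫ Limits.Sigma.map j
  have hιjc : ∀ g, (C g).ι ≫ jc = j g ≫ Sigma.ι Y g := fun g => by
    have : Sigma.ι (fun g => (C g).toScheme) g ≫ Limits.Sigma.desc (fun g => (C g).ι) = (C g).ι := Sigma.ι_desc _ _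
    rw [← this]
    simp only [jc, Category.assoc, IsIso.hom_inv_id_assoc]
    simp [Limits.Sigma.map]
  refine ⟨∐ Y, Limits.Sigma.desc q, jc, inferInstance, ?_, ?_, Groth.Agent.CurveNF.isProper_sigmaDesc q, fun x => ?_, fun x hx => ?_⟩
  · intro x
    obtain ⟨g, y, rfl⟩ := Groth.Agent.CurveNF.exists_sigma_eq x
    haveI := hY g
    haveI : Nonempty (C g : Scheme.{u}) := ⟨⟨g.1, subset_closure rfl⟩⟩
    have hy : y ∈ closure (Set.range (j g)) := by
      rw [((j g).isOpenEmbedding.isOpen_range.dense (Set.range_nonempty _)).closure_eq]; trivial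
    refine closure_mono ?_ (image_closure_subset_closure_image (Sigma.ι Y g).continuous ⟨y, hy, rfl⟩)
    rintro _ ⟨_, ⟨z, rfl⟩, rfl⟩
    exact ⟨(C g).ι z, by rw [← Scheme.Hom.comp_apply, hιjc, Scheme.Hom.comp_apply]⟩
  · have h : Limits.Sigma.map j ≫ Limits.Sigma.desc q = Limits.Sigma.desc (fun g => (C g).ι) ≫ p := by
      refine Limits.Sigma.hom_ext _ _ fun g => ?_
      simp [Limits.Sigma.map, hjq]
    simp only [jc, Category.assoc, h, IsIso.inv_hom_id_assoc]
    rfl
  · obtain ⟨g, y, rfl⟩ := Groth.Agent.CurveNF.exists_sigma_eq x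
    have e := RingEquiv.ofBijective ((Sigma.ι Y g).stalkMap y).hom (ConcreteCategory.bijective_of_isIso _)
    haveI := (hYn g y).1
    haveI := (hYn g y).2
    haveI : IsDomain ((∐ Y).presheaf.stalk (Sigma.ι Y g y)) := MulEquiv.isDomain _ e.toMulEquiv
    exact ⟨inferInstance, IsIntegrallyClosed.of_equiv e.symm⟩
  · obtain ⟨g, y, rfl⟩ := Groth.Agent.CurveNF.exists_sigma_eq x
    have hy : IsClosed ({y} : Set (Y g)) := by
      have : ({y} : Set (Y g)) = Sigma.ι Y g ⁻¹' {Sigma.ι Y g y} := by
        ext z; exact ⟨fun h => by rw [h]; rfl, fun h => (Sigma.ι Y g).isOpenEmbedding.injective h⟩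
      rw [this]; exact hx.preimage (Sigma.ι Y g).continuous
    rw [← hYd g y hy]
    exact ringKrullDim_eq_of_ringEquiv (RingEquiv.ofBijective ((Sigma.ι Y g).stalkMap y).hom (ConcreteCategory.bijective_of_isIso _))

end Groth.Agent.S4444
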