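import Groth.Statements.S4445
import Mathlib
import Groth.Agent.Lib.DVRVal.Curve
import Groth.Agent.Lib.Curve17.FunctionField

set_option autoImplicit false
universe u
open CategoryTheory CategoryTheory.Limits AlgebraicGeometry
attribute [local instance] Curv2.stalkAlgebra
open EGA2

namespace Groth.Agent.S4445

/-- Let X be a normal irreducible algebraic curve over a field k with field of rational functions K, and
Y an integral complete (proper over k) algebraic curve with field of rational functions L. Dominant
k-morphisms X ⟶ Y correspond bijectively to k-embeddings L → K: for every k-algebra homomorphism φ :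
L → K there is exactly one k-morphism u : X ⟶ Y mapping the generic point of X to the generic point
of Y and inducing φ on the stalks at the generic points. -/
theorem result (k : Type u) [Field k] (X Y : Scheme.{u})
    [X.Over (Spec (CommRingCat.of k))] [LocallyOfFiniteType (X ↘ (Spec (CommRingCat.of k)))]
    [QuasiCompact (X ↘ (Spec (CommRingCat.of k)))] [IsSeparated (X ↘ (Spec (CommRingCat.of k)))] [IsIntegral X]
    (hX : ∀ x : X, IsClosed ({x} : Set X) → ringKrullDim (X.presheaf.stalk x) = 1) (hnorm : Pi1.IsNormalScheme X)
    [Y.Over (Spec (CommRingCat.of k))] [IsProper (Y ↘ (Spec (CommRingCat.of k)))] [IsIntegral Y]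
    (hY : ∀ y : Y, IsClosed ({y} : Set Y) → ringKrullDim (Y.presheaf.stalk y) = 1)
    (φ : Y.functionField →ₐ[k] X.functionField) :
    ∃! u : X ⟶ Y, u ≫ (Y ↘ (Spec (CommRingCat.of k))) = X ↘ (Spec (CommRingCat.of k)) ∧
      ∃ hu : u.base (genericPoint X) = genericPoint Y,
        (Y.presheaf.stalkSpecializes (specializes_of_eq hu) ≫ u.stalkMap (genericPoint X)).hom = (φ : Y.functionField →+* X.functionField) := by
  let pX := X ↘ (Spec (CommRingCat.of k))
  let pY := Y ↘ (Spec (CommRingCat.of k))
  have hv : ∀ x : X, ValuationRing (X.presheaf.stalk x) := fun x =>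
    Groth.Agent.DVRVal.valuationRing_stalk_of_normal_curve pX hX hnorm x
  have hθ : Groth.Agent.Curve17.baseStalk pY (genericPoint Y) ≫ CommRingCat.ofHom (φ : Y.functionField →+* X.functionField) =
      Groth.Agent.Curve17.baseStalk pX (genericPoint X) := by
    ext c
    exact φ.commutes c
  obtain ⟨u, e, hu, hgen⟩ := Groth.Agent.Curve17.exists_hom_of_functionField pX pY hv _ hθ
  refine ⟨u, ⟨hu, e, congrArg CommRingCat.Hom.hom hgen⟩, fun v ⟨hv', ev, hvgen⟩ => ?_⟩
  haveI : IsDominant (X.fromSpecStalk (genericPoint X)) := by
    refine ⟨fun y => ?_⟩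
    refine closure_mono (s := {genericPoint X}) (t := Set.range (X.fromSpecStalk (genericPoint X))) ?_
      (specializes_iff_mem_closure.1 (genericPoint_specializes y))
    rintro _ rfl
    exact ⟨_, Scheme.fromSpecStalk_closedPoint⟩
  refine ext_of_isDominant_of_isSeparated pY (hv'.trans hu.symm) (X.fromSpecStalk (genericPoint X)) ?_
  have key : ∀ (w : X ⟶ Y) (hw : w (genericPoint X) = genericPoint Y),
      X.fromSpecStalk (genericPoint X) ≫ w =
        Spec.map (Y.presheaf.stalkSpecializes (specializes_of_eq hw) ≫ w.stalkMap (genericPoint X)) ≫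
          Y.fromSpecStalk (genericPoint Y) := fun w hw => by
    rw [Spec.map_comp, Category.assoc, Scheme.SpecMap_stalkSpecializes_fromSpecStalk,
      Scheme.SpecMap_stalkMap_fromSpecStalk]
  rw [key v ev, key u e]
  congr 2
  exact (CommRingCat.hom_ext hvgen).trans hgen.symm

end Groth.Agent.S4445
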