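import Groth.Statements.S4448
import Groth.Agent.Lib.CurveNF.Basic

set_option autoImplicit false
universe u
open CategoryTheory CategoryTheory.Limits AlgebraicGeometry
open EGA2

namespace Groth.Agent.S4448

/-- Let X be an integral scheme with field of rational functions k(ξ), K a field extension of k(ξ) (an
embedding φ), and X' the integral closure of X relative to K, i.e. the normalization of X along the
morphism g : Spec K ⟶ X through the generic point. Then X' is integral and normal, the generic point
ξ' of X' is the only point over ξ, the canonical morphism Spec K ⟶ X' hits ξ', and the field of
rational functions of X' (the local ring at ξ') maps isomorphically onto the algebraic closure of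
k(ξ) in K. (The quasi-compactness and quasi-separatedness binders on g always hold; they are needed
only to form the normalization.) -/
theorem result (X : Scheme.{u}) [IsIntegral X] (K : Type u) [Field K]
    (φ : X.functionField →+* K) (g : Spec (CommRingCat.of K) ⟶ X)
    (hg : g = Spec.map (CommRingCat.ofHom φ) ≫ X.fromSpecStalk (genericPoint X)) [QuasiCompact g] [QuasiSeparated g] :
    ∃ (_ : IsIntegral g.normalization), Pi1.IsNormalScheme g.normalization ∧
      g.fromNormalization.base ⁻¹' {genericPoint X} = {genericPoint g.normalization} ∧
      g.toNormalization.base (IsLocalRing.closedPoint K) = genericPoint g.normalization ∧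
      Function.Injective (Scheme.stalkClosedPointTo g.toNormalization).hom ∧
      Set.range (Scheme.stalkClosedPointTo g.toNormalization).hom =
        {y : K | ∃ q : Polynomial X.functionField, q.Monic ∧ Polynomial.eval₂ φ y q = 0} := by
  obtain ⟨hI, hN⟩ := Groth.Agent.CurveNF.isIntegral_and_normal hg
  exact ⟨hI, hN, Groth.Agent.CurveNF.preimage_genericPoint hg,
    Groth.Agent.CurveNF.toNormalization_closedPoint (g := g),
    Groth.Agent.CurveNF.stalkClosedPointTo_injective (g := g),
    Groth.Agent.CurveNF.range_stalkClosedPointTo hg⟩

end Groth.Agent.S4448
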