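import Groth.Statements.S4451
import Mathlib
import Groth.Agent.Lib.DVRVal.Curve
import Groth.Agent.Lib.Curve17.FunctionField
import Groth.Agent.Lib.H12.SchLoc

set_option autoImplicit false
universe u
open CategoryTheory CategoryTheory.Limits AlgebraicGeometry
attribute [local instance] Curv2.stalkAlgebra
open EGA2

namespace Groth.Agent.S4451

/-- Let X be a normal, complete, irreducible algebraic curve over a field k with field of rational
functions K. The set of local rings of X, as subrings of K, consists of K itself (at the generic
point) and of the valuation rings of K containing k (and distinct from K): every non-generic point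
has such a valuation ring as local ring, and every such valuation ring is the local ring of exactly
one point. -/
theorem result (k : Type u) [Field k] (X : Scheme.{u})
    [X.Over (Spec (CommRingCat.of k))] [IsProper (X ↘ (Spec (CommRingCat.of k)))] [IsIntegral X]
    (hX : ∀ x : X, IsClosed ({x} : Set X) → ringKrullDim (X.presheaf.stalk x) = 1) (hnorm : Pi1.IsNormalScheme X) :
    (∀ x : X, x ≠ genericPoint X → ∃ R : ValuationSubring X.functionField, R ≠ ⊤ ∧
        (R : Set X.functionField) = Set.range (algebraMap (X.presheaf.stalk x) X.functionField)) ∧
      ∀ R : ValuationSubring X.functionField, R ≠ ⊤ → (∀ c : k, algebraMap k X.functionField c ∈ R) →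
        ∃! x : X, (R : Set X.functionField) = Set.range (algebraMap (X.presheaf.stalk x) X.functionField) := by
  let pX := X ↘ (Spec (CommRingCat.of k))
  have hv : ∀ x : X, ValuationRing (X.presheaf.stalk x) := fun x =>
    Groth.Agent.DVRVal.valuationRing_stalk_of_normal_curve pX hX hnorm x
  haveI : X.IsSeparated := ⟨by
    rw [← terminal.comp_from pX]; infer_instance⟩
  refine ⟨fun x hx => ?_, fun R hR hk => ?_⟩
  · haveI := hv x
    let R : ValuationSubring X.functionField :=
      ⟨(algebraMap (X.presheaf.stalk x) X.functionField).range, ValuationRing.isInteger_or_isInteger _⟩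
    refine ⟨R, fun htop => hx ?_, RingHom.coe_range _⟩
    have hsurj : Function.Surjective (algebraMap (X.presheaf.stalk x) X.functionField) := fun z => by
      have : z ∈ R := htop ▸ ValuationSubring.mem_top z
      exact this
    have hfield : IsField (X.presheaf.stalk x) :=
      ((RingEquiv.ofBijective _ ⟨IsFractionRing.injective _ _, hsurj⟩).toMulEquiv.isField (Field.toIsField _))
    letI := hfield.toField
    obtain ⟨q, hq⟩ : genericPoint X ∈ Set.range (X.fromSpecStalk x) := by
      rw [Scheme.range_fromSpecStalk]; exact genericPoint_specializes x
    rw [← hq]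
    have : q = IsLocalRing.closedPoint (X.presheaf.stalk x) := by
      apply PrimeSpectrum.ext
      exact ((Ideal.eq_bot_or_top q.asIdeal).resolve_right q.isPrime.ne_top).trans
        ((Ideal.eq_bot_or_top _).resolve_right (IsLocalRing.maximalIdeal.isMaximal _).ne_top).symm
    rw [this]
    exact Scheme.fromSpecStalk_closedPoint.symm
  · let ψ : k →+* R := (algebraMap k X.functionField).codRestrict R.toSubring hk
    have hψ : CommRingCat.ofHom ψ ≫ CommRingCat.ofHom R.subtype = Groth.Agent.Curve17.baseStalk pX (genericPoint X) := by
      ext c; rfl
    let S : ValuativeCommSq pX :=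
      { R := R, K := X.functionField, i₁ := X.fromSpecStalk (genericPoint X),
        i₂ := Spec.map (CommRingCat.ofHom ψ),
        commSq := ⟨by
          rw [← Groth.Agent.Curve17.SpecMap_baseStalk, ← hψ, Spec.map_comp]
          rfl⟩ }
    have hP : (ValuativeCriterion ⊓ @QuasiCompact ⊓ @QuasiSeparated ⊓ @LocallyOfFiniteType) pX := by
      rw [← IsProper.eq_valuativeCriterion]; infer_instance
    obtain ⟨⟨l, hl1, hl2⟩⟩ := (hP.1.1.1.existence S).exists_lift
    dsimp only [S] at hl1 hl2
    set x := l (IsLocalRing.closedPoint R)
    have hcomp : Scheme.stalkClosedPointTo l ≫ CommRingCat.ofHom R.subtype =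
        CommRingCat.ofHom (algebraMap (X.presheaf.stalk x) X.functionField) := by
      apply Spec.map_injective
      rw [← cancel_mono (X.fromSpecStalk x), Spec.map_comp, Category.assoc,
        Scheme.Spec_stalkClosedPointTo_fromSpecStalk]
      exact hl1.trans (Scheme.SpecMap_stalkSpecializes_fromSpecStalk (genericPoint_specializes x)).symm
    have hb := bijective_rangeRestrict_comp_of_valuationRing (R := X.presheaf.stalk x) (K := X.functionField)
      (Scheme.stalkClosedPointTo l).hom R.subtype (CommRingCat.hom_ext_iff.mp hcomp)
    have hc : ∀ a, (((Scheme.stalkClosedPointTo l).hom a : R) : X.functionField) =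
        algebraMap (X.presheaf.stalk x) X.functionField a := fun a =>
      congrArg (fun φ : X.presheaf.stalk x ⟶ CommRingCat.of X.functionField => φ.hom a) hcomp
    have hxR : (R : Set X.functionField) = Set.range (algebraMap (X.presheaf.stalk x) X.functionField) := by
      ext z
      constructor
      · intro hz
        obtain ⟨a, ha⟩ := hb.2 ⟨z, ⟨⟨z, hz⟩, rfl⟩⟩
        refine ⟨a, ?_⟩
        rw [← hc]
        exact congrArg Subtype.val ha
      · rintro ⟨a, rfl⟩
        rw [← hc]
        exact ((Scheme.stalkClosedPointTo l).hom a).2
    refine ⟨x, hxR, fun y hy => ?_⟩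
    refine Groth.Agent.H12.eq_of_dominated y x (LocalSubring.range (algebraMap (X.presheaf.stalk y) X.functionField))
      le_rfl (le_of_eq (LocalSubring.toSubring_injective (SetLike.coe_injective ?_)))
    simp only [LocalSubring.range]
    exact hxR.symm.trans hy

end Groth.Agent.S4451
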