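import Groth.Statements.S4452
import Groth.Agent.Lib.VeryAmple11.ProjCrit
import Groth.Agent.Lib.PushFin12.Basic
import Groth.Agent.Lib.QAGen11.Basic

set_option autoImplicit false
universe u
open CategoryTheory CategoryTheory.Limits AlgebraicGeometry
open EGA2

namespace Groth.Agent.S4452

/-- Every finite morphism f : X ⟶ Y is projective (here: X is Y-isomorphic to the homogeneous spectrum
of a quasi-coherent graded O_Y-algebra generated by its degree-one part, that part being of finite
type — the form of projectivity equivalent to X being a closed subscheme of a projective bundle P(E)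
with E quasi-coherent of finite type). -/
theorem result {X Y : Scheme.{u}} (f : X ⟶ Y) [IsFinite f] : RelProj.IsProjective f := by
  have hO : Coh.IsQCoh (Coh.structureModule X) :=
    Groth.Agent.Twist.isQCoh_of_isInvertible (Groth.Agent.QAGen11.isInvertible_unit X)
  have hFT : CohB1.IsFT (Coh.structureModule X) :=
    Groth.Agent.M1.isFT_of_finite_sections hO fun U _ => inferInstanceAs (Module.Finite Γ(X, U) Γ(X, U))
  exact Groth.Agent.VA11.isProjective_of_vamp (Groth.Agent.M1.isQCoh_push f hO)
    ((Groth.Agent.PushFin12.isFT_iff f _ hO).1 hFT)
    (Groth.Agent.VA11.vamp_of_forall fun U hU => Groth.Agent.VA11.va_unit U hU)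

end Groth.Agent.S4452
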