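import Groth.Statements.S4453
import Groth.Agent.Lib.NormBundle5.Rel
import Groth.Agent.Lib.RelAmple18.Ops
import Groth.Agent.S4418
import Groth.Agent.S12416
-- import your own Groth.Agent.* helpers here

set_option autoImplicit false
set_option linter.style.haveILetI false
universe u
open CategoryTheory CategoryTheory.Limits AlgebraicGeometry
open EGA2

namespace Groth.Agent.S4453

/-- Let Y be a quasi-compact separated scheme or a scheme whose underlying space is Noetherian, f : X ⟶
Y a morphism of finite type and g : X' ⟶ X a finite surjective morphism such that the direct image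
of O_{X'} is a finite locally free O_X-module. Then f is projective if and only if f ∘ g is
projective. (The companion assertion, on quasi-projectivity, is the
existence-of-a-relatively-ample-module equivalence stated separately.) -/
theorem result {X X' Y : Scheme.{u}} (f : X ⟶ Y) [LocallyOfFiniteType f]
    [QuasiCompact f] (g : X' ⟶ X) [IsFinite g] [Surjective g]
    (hfree : FlatMod.IsFinLocFree ((Coh.push g).obj (Coh.structureModule X')))
    (hY : (CompactSpace Y ∧ Y.IsSeparated) ∨ TopologicalSpace.NoetherianSpace Y) :
    RelProj.IsProjective f ↔ RelProj.IsProjective (g ≫ f) := by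
  open Groth.Agent in
  obtain ⟨hc, hqs⟩ : CompactSpace Y ∧ QuasiSeparatedSpace Y := by
    rcases hY with ⟨h1, h2⟩ | h
    · haveI := h2
      exact ⟨h1, inferInstance⟩
    · haveI := h
      exact ⟨inferInstance, inferInstance⟩
  haveI := hc
  haveI := hqs
  constructor
  · intro h
    obtain ⟨⟨-, -, L, hL⟩, hp⟩ := Groth.Agent.S4418.result f h
    haveI := hp
    exact Groth.Agent.S12416.result (g ≫ f)
      ⟨inferInstance, inferInstance, _, Norm11.isRelAmple_pullback f hL⟩
  · intro h
    obtain ⟨⟨-, -, L', hL'⟩, hp⟩ := Groth.Agent.S4418.result (g ≫ f) h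
    haveI := hp
    obtain ⟨D⟩ := Groth.Agent.NormBundle5.exists_mulNorm hfree
    obtain ⟨L, -, hL⟩ := Groth.Agent.NormBundle5.exists_isRelAmple f D
      (RA.isInvertible_of_isRelAmple (g ≫ f) hL') hL'
    haveI : IsSeparated f := RA.isSeparated_of_isRelAmple f hL
    haveI : UniversallyClosed f := UniversallyClosed.of_comp_surjective g f
    haveI : IsProper f := ⟨⟩
    exact Groth.Agent.S12416.result f ⟨inferInstance, inferInstance, L, hL⟩

end Groth.Agent.S4453
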