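import Groth.Statements.S4454
import Groth.Agent.Lib.CurveNF.Basic
import Groth.Agent.Lib.CurveNF.Dim

set_option autoImplicit false
universe u
open CategoryTheory CategoryTheory.Limits AlgebraicGeometry
open EGA2

namespace Groth.Agent.S4454

/-- Case of an integral curve and a single field: let X be an integral algebraic curve over a field k, K
a finite extension of its field of rational functions and X' the integral closure of X in K (the
normalization of X along the morphism g : Spec K ⟶ X through the generic point). Then the canonical
morphism X' ⟶ X is finite and X' is a normal algebraic curve over k (local rings integrally closed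
domains, of dimension one at closed points). -/
theorem result (k : Type u) [Field k] (X : Scheme.{u})
    [X.Over (Spec (CommRingCat.of k))] [LocallyOfFiniteType (X ↘ (Spec (CommRingCat.of k)))]
    [QuasiCompact (X ↘ (Spec (CommRingCat.of k)))] [IsSeparated (X ↘ (Spec (CommRingCat.of k)))] [IsIntegral X]
    (hX : ∀ x : X, IsClosed ({x} : Set X) → ringKrullDim (X.presheaf.stalk x) = 1)
    (K : Type u) [Field K] (φ : X.functionField →+* K) (hφ : φ.Finite) (g : Spec (CommRingCat.of K) ⟶ X)
    (hg : g = Spec.map (CommRingCat.ofHom φ) ≫ X.fromSpecStalk (genericPoint X)) [QuasiCompact g] [QuasiSeparated g] :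
    IsFinite g.fromNormalization ∧ Pi1.IsNormalScheme g.normalization ∧
      ∀ x' : g.normalization, IsClosed ({x'} : Set g.normalization) → ringKrullDim (g.normalization.presheaf.stalk x') = 1 := by
  let p := X ↘ (Spec (CommRingCat.of k))
  have hfin : IsFinite g.fromNormalization := Groth.Agent.CurveNF.isFinite_fromNormalization hg p hφ
  obtain ⟨hI, hN⟩ := Groth.Agent.CurveNF.isIntegral_and_normal hg
  refine ⟨hfin, hN, (Groth.Agent.CurveNF.curve_iff_sdim_genericPoint (g.fromNormalization ≫ p)).2 ?_⟩
  have h1 := (Groth.Agent.CurveNF.curve_iff_sdim_genericPoint p).1 hX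
  refine le_antisymm ?_ (Nat.one_le_iff_ne_zero.2 fun h0 => ?_)
  · have hmono : StrictMono (g.fromNormalization.base : g.normalization → X) := fun a b hab => by
      refine Groth.Agent.VarDim.lt_of_specializes_ne (Specializes.map (show b ⤳ a from hab.le) g.fromNormalization.continuous)
        fun (e : g.fromNormalization a = g.fromNormalization b) => ?_
      exact hab.ne (Groth.Agent.H12.eq_of_specializes_of_isIntegralHom g.fromNormalization (show b ⤳ a from hab.le) e.symm).symm
    have h := Order.height_le_height_apply_of_strictMono _ hmono (genericPoint g.normalization)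
    rw [Groth.Agent.VarDim.height_eq_sdim (g.fromNormalization ≫ p), Groth.Agent.VarDim.height_eq_sdim p,
      Groth.Agent.CurveNF.fromNormalization_genericPoint hg, h1] at h
    exact_mod_cast h
  · have hc := (Groth.Agent.VarDim.sdim_eq_zero_iff_isClosed (g.fromNormalization ≫ p) _).1 h0
    have hξ : IsClosed ({genericPoint X} : Set X) := by
      have := g.fromNormalization.isClosedMap _ hc
      rwa [Set.image_singleton, Groth.Agent.CurveNF.fromNormalization_genericPoint hg] at this
    have h2 := (Groth.Agent.VarDim.sdim_eq_zero_iff_isClosed p _).2 hξ
    omega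

end Groth.Agent.S4454
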