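import Groth.Statements.S4456
import Groth.Agent.Lib.CohFound.AffMor
-- import your own Groth.Agent.* helpers here

set_option autoImplicit false
universe u
open Coherent

namespace Groth.Agent.S4456

open AlgebraicGeometry CategoryTheory in
/-- Let f : X → Y be an affine morphism, g : Y → Z a morphism of schemes and F a quasi-coherent
O_X-module. Then for every p ≥ 0 the higher direct image R^p g_*(f_* F) is isomorphic to R^p (g ∘
f)_* F (higher direct images of the underlying abelian sheaves). The source shows that the canonical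
comparison map is an isomorphism; only the existence of an isomorphism is asserted here. -/
theorem result {X Y Z : Scheme.{u}} (f : X ⟶ Y) (g : Y ⟶ Z)
    [IsAffineHom f] (F : X.Modules) [Coh.IsQCoh F] (p : ℕ) :
    Nonempty ((Coh.RpushAb g p).obj (Coh.toAb ((Coh.push f).obj F)) ≅
      (Coh.RpushAb (f ≫ g) p).obj (Coh.toAb F)) := by
  have : F.IsQuasicoherent := ‹Coh.IsQCoh F›
  let fb : Groth.Agent.CohFound.sp X ⟶ Groth.Agent.CohFound.sp Y := f.base
  let gb : Groth.Agent.CohFound.sp Y ⟶ Groth.Agent.CohFound.sp Z := g.base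
  let G := (Groth.Agent.CohFound.abF X).obj F
  obtain ⟨e₁⟩ := Groth.Agent.CohFound.nonempty_rpush_iso_shPre gb
    ((Groth.Agent.CohFound.abF Y).obj ((Coh.push f).obj F)) p
  obtain ⟨e₂⟩ := Groth.Agent.CohFound.nonempty_rpush_iso_shPre (fb ≫ gb) G p
  exact ⟨e₁ ≪≫ (presheafToSheaf _ AddCommGrpCat.{u}).mapIso
    (Functor.isoWhiskerLeft (TopologicalSpace.Opens.map gb).op
      (Groth.Agent.CohFound.hcPreIso (Groth.Agent.CohFound.abFPushIso f F) p ≪≫
        Groth.Agent.CohFound.hcPreIsoPush fb
          (Groth.Agent.CohFound.locKilled_of_isAffineHom f F) (injectiveResolution G) p)) ≪≫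
    e₂.symm⟩

end Groth.Agent.S4456
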