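import Groth.Statements.S4468
import Groth.Agent.Lib.BlowUp3.TwistAmple

set_option autoImplicit false
universe u
open Coherent

namespace Groth.Agent.S4468

open CategoryTheory CategoryTheory.Limits AlgebraicGeometry

open AlgebraicGeometry CategoryTheory in
/-- Let k be a field, X and Y integral schemes projective over k (given with closed immersions into
projective spaces over k) and f : X → Y a birational k-morphism (it sends the generic point of X to
that of Y and induces a bijection between the function fields). Then X is Y-isomorphic to the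
blow-up of Y in a closed subscheme: there is a quasi-coherent ideal sheaf I on Y such that f is a
blowing up of Y in I (universal property of the blow-up). -/
theorem result (k : Type u) [Field k] {X Y : Scheme.{u}} [IsIntegral X] [IsIntegral Y]
    (a b : ℕ) (iX : X ⟶ CohB1.ProjSpace a k) [IsClosedImmersion iX] (iY : Y ⟶ CohB1.ProjSpace b k)
    [IsClosedImmersion iY] (f : X ⟶ Y)
    (hk : f ≫ iY ≫ CohB1.ProjSpace.toSpec b k = iX ≫ CohB1.ProjSpace.toSpec a k)
    (hgen : f.base (genericPoint X) = genericPoint Y)
    (hbir : Function.Bijective (f.residueFieldMap (genericPoint X)).hom) :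
    ∃ I : Y.IdealSheafData, BlowUp.IsBlowUp f I := by
  haveI : IsSeparated (iY ≫ CohB1.ProjSpace.toSpec b k) := inferInstance
  haveI : Y.IsSeparated := ⟨by
    rw [← Limits.terminal.comp_from (iY ≫ CohB1.ProjSpace.toSpec b k)]; infer_instance⟩
  let g : Y ⟶ Spec (CommRingCat.of k) := iY ≫ CohB1.ProjSpace.toSpec b k
  let v := ProjSpace.overMap a g ≫ (ProjSpace.overSpecIso a k).inv
  have H : IsPullback v (CohB1.ProjSpaceOver.toBase a Y) (CohB1.ProjSpace.toSpec a k) g :=
    IsPullback.of_iso (ProjSpace.isPullback_overMap a g) (Iso.refl _) (ProjSpace.overSpecIso a k).symm (Iso.refl _)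
      (Iso.refl _) (by simp [v]) (by simp) (by
        simp only [Iso.refl_hom, Category.comp_id, Iso.symm_hom]
        rw [← ProjSpace.overSpecIso_hom_toBase, Iso.inv_hom_id_assoc]) (by simp)
  let i := H.lift iX f hk.symm
  haveI : IsSeparated v := MorphismProperty.of_isPullback (P := @IsSeparated) H.flip
    (inferInstanceAs (IsSeparated (iY ≫ CohB1.ProjSpace.toSpec b k)))
  haveI : IsClosedImmersion (i ≫ v) := by rw [H.lift_fst]; infer_instance
  haveI : IsClosedImmersion i := IsClosedImmersion.of_comp i v
  obtain ⟨P⟩ := BlowUp3.exists_projData f i (H.lift_snd _ _ _)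
  obtain ⟨T⟩ := BlowUp3.nonempty_twistData_of_projSpace b k iY
  exact BlowUp3.exists_isBlowUp f P T hgen (BlowUp3.bijective_stalkMap_of_residue f hgen hbir)

end Groth.Agent.S4468
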