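import Groth.Statements.S4469
import Mathlib.RingTheory.ZariskisMainTheorem
import Mathlib.RingTheory.Ideal.MinimalPrime.Noetherian
import Mathlib.RingTheory.FiniteType

set_option autoImplicit false
universe u
open CAlg

namespace Groth.Agent.S4469




/-- Let A be an integrally closed Noetherian local domain with field of fractions K, B an A-algebra of
finite type which is a domain with the same field of fractions (A → B → K compatible with A → K),
and 𝔫 a maximal ideal of B lying over the maximal ideal 𝔪 of A and minimal among the prime ideals of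
B lying over 𝔪. Then B = A: the structure map A → B is bijective. -/
theorem result (A B K : Type u) [CommRing A]
    [IsDomain A] [IsNoetherianRing A] [IsLocalRing A] [IsIntegrallyClosed A] [CommRing B] [IsDomain B]
    [Field K] [Algebra A B] [Algebra B K] [Algebra A K] [IsScalarTower A B K] [IsFractionRing A K]
    [IsFractionRing B K] [Algebra.FiniteType A B] (n : Ideal B) [n.IsMaximal]
    (hn : n.comap (algebraMap A B) = IsLocalRing.maximalIdeal A)
    (hmin : ∀ q : Ideal B, q.IsPrime → q.comap (algebraMap A B) = IsLocalRing.maximalIdeal A → q ≤ n → q = n) :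
    Function.Bijective (algebraMap A B) := by
  classical
  have : IsNoetherianRing B := Algebra.FiniteType.isNoetherianRing A B
  let m := IsLocalRing.maximalIdeal A
  let J := m.map (algebraMap A B)
  have hfin : J.minimalPrimes.Finite := J.finite_minimalPrimes_of_isNoetherianRing
  let P : PrimeSpectrum B := ⟨n, inferInstance⟩
  let U : Set (PrimeSpectrum B) := (⋃ Q ∈ J.minimalPrimes \ {n}, PrimeSpectrum.zeroLocus (Q : Set B))ᶜ
  have hU : IsOpen U := ((hfin.sdiff).isClosed_biUnion fun Q _ => PrimeSpectrum.isClosed_zeroLocus _).isOpen_compl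
  have hqf : Algebra.QuasiFiniteAt A n := by
    refine Algebra.QuasiFiniteAt.of_isOpen_singleton_fiber P ?_
    refine isOpen_induced_iff.2 ⟨U, hU, ?_⟩
    ext ⟨q, hq⟩
    have hq' : q.asIdeal.comap (algebraMap A B) = m := (congrArg PrimeSpectrum.asIdeal hq).trans hn
    simp only [U, Set.mem_preimage, Set.mem_compl_iff, Set.mem_iUnion, PrimeSpectrum.mem_zeroLocus,
      SetLike.coe_subset_coe, Set.mem_singleton_iff, Subtype.mk.injEq, Set.mem_sdiff, not_exists]
    have hJ : ∀ Q, Q ∈ J.minimalPrimes → Q ≤ n → Q = n := fun Q hQ hle => by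
      have : Q.IsPrime := hQ.1.1
      refine hmin Q hQ.1.1 (((IsLocalRing.maximalIdeal.isMaximal A).eq_of_le ?_ ?_).symm) hle
      · exact (Ideal.IsPrime.comap _).ne_top
      · exact Ideal.map_le_iff_le_comap.1 hQ.1.2
    constructor
    · intro h
      obtain ⟨Q, hQ, hQq⟩ := Ideal.exists_minimalPrimes_le (I := J) (J := q.asIdeal)
        (Ideal.map_le_iff_le_comap.2 hq'.ge)
      have hQn : Q = n := by_contra fun hne => h Q ⟨hQ, hne⟩ hQq
      exact PrimeSpectrum.ext ((Ideal.IsMaximal.eq_of_le inferInstance q.isPrime.ne_top (show n ≤ q.asIdeal by rw [← hQn]; exact hQq)).symm)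
    · rintro h Q ⟨hQ, hne⟩ hle
      exact hne (hJ Q hQ (by subst h; exact hle))
  obtain ⟨r, hr, hint, hx⟩ := Algebra.zariskisMainProperty_iff.1 (Algebra.ZariskisMainProperty.of_finiteType (R := A) n)
  have hinjK : Function.Injective (algebraMap B K) := IsFractionRing.injective B K
  have key : ∀ y : B, IsIntegral A y → ∃ a : A, algebraMap A B a = y := by
    intro y hy
    obtain ⟨a, ha⟩ := IsIntegrallyClosed.isIntegral_iff.1 (hy.map (IsScalarTower.toAlgHom A B K))
    exact ⟨a, hinjK (by rw [← IsScalarTower.algebraMap_apply]; exact ha)⟩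
  have hinjA : Function.Injective (algebraMap A B) := fun a b h => by
    apply IsFractionRing.injective A K
    rw [IsScalarTower.algebraMap_apply A B K, IsScalarTower.algebraMap_apply A B K, h]
  refine ⟨hinjA, fun x => ?_⟩
  obtain ⟨a, rfl⟩ := key r hint
  have ha : IsUnit a := IsLocalRing.notMem_maximalIdeal.1 fun h => hr (by
    have : a ∈ n.comap (algebraMap A B) := hn ▸ h
    exact this)
  obtain ⟨k, hk⟩ := hx x
  obtain ⟨c, hc⟩ := key _ hk
  refine ⟨↑(ha.pow k).unit⁻¹ * c, ?_⟩
  rw [map_mul, hc, ← map_pow, ← mul_assoc, ← map_mul, IsUnit.val_inv_mul, map_one, one_mul]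

end Groth.Agent.S4469
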