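import Groth.Statements.S4470
import Groth.Agent.Lib.AmpleDesc5.Main
import Groth.Agent.Lib.Norm11.Restrict
-- import your own Groth.Agent.* helpers here

set_option autoImplicit false
universe u
open Coherent

namespace Groth.Agent.S4470

open AlgebraicGeometry CategoryTheory in
/-- Let Y be a Noetherian scheme, f : X → Y a morphism of finite type, g : X' → X a finite surjective
morphism, L an invertible O_X-module and L' = g^* L. Suppose there is a subset Z of X, proper over
Y, such that for every point x of X outside Z either the local ring of X at x is an integrally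
closed domain or the stalk of g_* O_{X'} at x is a free module over that local ring. Then L is ample
relative to f if and only if L' is ample relative to g ≫ f. -/
theorem result {X X' Y : Scheme.{u}} (f : X ⟶ Y)
    [IsNoetherian Y] [LocallyOfFiniteType f] [QuasiCompact f] (g : X' ⟶ X) [IsFinite g] [Surjective g]
    (L : X.Modules) (hL : PicF.IsInvertible L) (Z : Set X) (hZ : ClSub.IsProperOver f Z)
    (hreg : ∀ x : X, x ∉ Z →
      (IsDomain (X.presheaf.stalk x) ∧ IsIntegrallyClosed (X.presheaf.stalk x)) ∨
        Module.Free (X.presheaf.stalk x) (((Coh.push g).obj (Coh.structureModule X')).presheaf.stalk x)) :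
    RelAmple.IsRelAmple f L ↔ RelAmple.IsRelAmple (g ≫ f) ((Scheme.Modules.pullback g).obj L) := by
  obtain ⟨hZc, hZp⟩ := hZ
  haveI : IsLocallyNoetherian X := LocallyOfFiniteType.isLocallyNoetherian f
  refine ⟨Groth.Agent.Norm11.isRelAmple_pullback f,
    Groth.Agent.AmpleDesc5.isRelAmple_of_pullback f g ⟨Z, hZc⟩ hZp (fun x hx => ?_) hL⟩
  rcases hreg x hx with h | h
  · exact Or.inl h
  · haveI := h
    obtain ⟨U, n, hxU, ⟨e⟩⟩ := Groth.Agent.M1.exists_freeMod_of_free_stalk
      (Groth.Agent.M1.isFP_of_isCoh (Groth.Agent.Norm11.isCoh_push_structure (g := g))) x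
    exact Or.inr ⟨U, hxU, Groth.Agent.AmpleDesc5.flat_restrict_of_isFinLocFree g U
      (Groth.Agent.M2.isFinLocFree_of_iso e.symm (Groth.Agent.M2.isFinLocFree_of_ofRank (Groth.Agent.M2.isFinLocFreeOfRank_freeMod _ n)))⟩

end Groth.Agent.S4470
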