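import Groth.Statements.S4476
import Groth.Agent.Lib.LiftFib11.HomLift

set_option autoImplicit false
universe u
attribute [local instance] HasDerivedCategory.standard
open Coherent

namespace Groth.Agent.S4476

open AlgebraicGeometry CategoryTheory in
/-- Over a local base. Let A be a Noetherian local ring with closed point y, X a scheme proper and flat
over Spec A, F and G finite locally free O_X-modules and F_y, G_y their restrictions (module
pullbacks) to the closed fibre X_y. Assume that the internal Hom functor Hom(F_y, −) exists as the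
right adjoint of F_y ⊗ − and that H^1(X_y, Hom(F_y, G_y)) = 0. Then every morphism u₀ : F_y → G_y is
the restriction to X_y of a morphism u : F → G; moreover for every such u, if u₀ is a monomorphism
(resp. an epimorphism) then u is a monomorphism (resp. an epimorphism). (Over a general locally
Noetherian base the published statements give u on the inverse image of a neighbourhood of y; over
the spectrum of a local ring that neighbourhood is the whole base.) -/
theorem result (A : Type u) [CommRing A] [IsNoetherianRing A]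
    [IsLocalRing A] (X : Scheme.{u}) [X.Over (Spec (CommRingCat.of A))]
    [IsProper (X ↘ Spec (CommRingCat.of A))] [Flat (X ↘ Spec (CommRingCat.of A))]
    (F G : X.Modules) (hF : FlatMod.IsFinLocFree F) (hG : FlatMod.IsFinLocFree G)
    [DCoh.HasSheafHom (CohIII.fiberMod (X ↘ Spec (CommRingCat.of A)) F (IsLocalRing.closedPoint A))]
    (h1 : Subsingleton (Coh.HH ((X ↘ Spec (CommRingCat.of A)).fiber (IsLocalRing.closedPoint A))
      ((DCoh.sheafHom (CohIII.fiberMod (X ↘ Spec (CommRingCat.of A)) F (IsLocalRing.closedPoint A))).obj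
        (CohIII.fiberMod (X ↘ Spec (CommRingCat.of A)) G (IsLocalRing.closedPoint A))) 1))
    (u₀ : CohIII.fiberMod (X ↘ Spec (CommRingCat.of A)) F (IsLocalRing.closedPoint A) ⟶
      CohIII.fiberMod (X ↘ Spec (CommRingCat.of A)) G (IsLocalRing.closedPoint A)) :
    (∃ u : F ⟶ G,
      (Scheme.Modules.pullback ((X ↘ Spec (CommRingCat.of A)).fiberι (IsLocalRing.closedPoint A))).map u = u₀) ∧
    ∀ u : F ⟶ G,
      (Scheme.Modules.pullback ((X ↘ Spec (CommRingCat.of A)).fiberι (IsLocalRing.closedPoint A))).map u = u₀ →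
        (Mono u₀ → Mono u) ∧ (Epi u₀ → Epi u) := by
  haveI : IsLocallyNoetherian X := LocallyOfFiniteType.isLocallyNoetherian (X ↘ Spec (CommRingCat.of A))
  let f := X ↘ Spec (CommRingCat.of A)
  let s := IsLocalRing.closedPoint A
  obtain ⟨V, hs, t, ht⟩ := LiftFib11.exists_lift_hom f hF hG s
    (LiftFib11.subsingleton_HH_of_iso (HilbObs3.nonempty_sheafHom_iso _ _).some h1) u₀
  have hU : ∀ W : X.Opens, W ≤ f ⁻¹ᵁ V := fun W x _ =>
    (IsLocalRing.specializes_closedPoint (R := A) (f x)).mem_open V.2 hs
  refine ⟨⟨LiftFib11.morOfSec hU t, ?_⟩, fun u hu => ?_⟩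
  · refine ((Scheme.Modules.pullbackPushforwardAdjunction (f.fiberι s)).homEquiv _ _).injective ?_
    refine Scheme.Modules.hom_ext _ _ fun W => ?_
    ext a
    rw [Adjunction.homEquiv_unit, Adjunction.homEquiv_unit]
    show ((Scheme.Modules.pullback (f.fiberι s)).map (LiftFib11.morOfSec hU t)).app (f.fiberι s ⁻¹ᵁ W)
        (M2.pullSec (f.fiberι s) F a) = u₀.app (f.fiberι s ⁻¹ᵁ W) (M2.pullSec (f.fiberι s) F a)
    rw [LiftFib11.pullback_map_pullSec, ht W (hU W) a, LiftFib11.morOfSec_app]
  · subst hu
    have hZ : ∀ T : Set X, IsClosed T → T.Nonempty → ∃ z ∈ Set.range (f.fiberι s), z ∈ T := by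
      rintro T hT ⟨x, hx⟩
      obtain ⟨z, hz, hfz⟩ := (IsLocalRing.specializes_closedPoint (R := A) (f x)).mem_closed
        (f.isClosedMap T hT) ⟨x, hx, rfl⟩
      exact ⟨z, (f.range_fiberι s).ge hfz, hz⟩
    have h := LiftFib11.mono_epi_of_closed ((M1.isCoh_iff_isFP F).2 (M1.isFP_of_isFinLocFree hF))
      ((M1.isCoh_iff_isFP G).2 (M1.isFP_of_isFinLocFree hG)) u _ hZ
    exact ⟨fun hm => h.1 (Set.forall_mem_range.2 (LiftFib11.injective_stalk_of_fibre f hF hG s u hm)),
      fun he => h.2 (Set.forall_mem_range.2 (LiftFib11.surjective_stalk_of_fibre f hF hG s u he))⟩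

end Groth.Agent.S4476
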