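import Groth.Statements.S4477
import Groth.Agent.Lib.LiftFib11.HomLift

set_option autoImplicit false
universe u
attribute [local instance] HasDerivedCategory.standard
open Coherent

namespace Groth.Agent.S4477

open AlgebraicGeometry CategoryTheory in
/-- Let Y be a locally Noetherian scheme, f : X → Y a proper flat morphism, y a point of Y, and F, G
finite locally free O_X-modules whose restrictions F_y and G_y to the fibre X_y are isomorphic (both
isomorphic to one locally free E₀). Assume that Hom(F_y, −) exists as the right adjoint of F_y ⊗ −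
and that H^1(X_y, Hom(F_y, F_y)) = 0. Then there is an open neighbourhood U of y such that the
restrictions of F and G to f⁻¹(U) are isomorphic. -/
theorem result {X Y : Scheme.{u}} (f : X ⟶ Y) [IsProper f] [Flat f]
    [IsLocallyNoetherian Y] (y : Y) (F G : X.Modules) (hF : FlatMod.IsFinLocFree F) (hG : FlatMod.IsFinLocFree G)
    [DCoh.HasSheafHom (CohIII.fiberMod f F y)]
    (h1 : Subsingleton (Coh.HH (f.fiber y) ((DCoh.sheafHom (CohIII.fiberMod f F y)).obj (CohIII.fiberMod f F y)) 1))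
    (hy : Nonempty (CohIII.fiberMod f F y ≅ CohIII.fiberMod f G y)) :
    ∃ U : Y.Opens, y ∈ U ∧ Nonempty (F.restrict (f ⁻¹ᵁ U).ι ≅ G.restrict (f ⁻¹ᵁ U).ι) := by
  obtain ⟨θ⟩ := hy
  obtain ⟨V, hs, t, ht⟩ := LiftFib11.exists_lift_hom f hF hG y
    (LiftFib11.subsingleton_HH_of_iso
      (((DCoh.sheafHom (CohIII.fiberMod f F y)).mapIso θ) ≪≫ (HilbObs3.nonempty_sheafHom_iso _ _).some) h1) θ.hom
  let O : Set X := {x | ∃ W : X.Opens, x ∈ W ∧ ∀ (W' : X.Opens) (hU : W' ≤ f ⁻¹ᵁ V), W' ≤ W →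
    Function.Bijective (LiftFib11.hev F G t hU)}
  have hO : IsOpen O := isOpen_iff_forall_mem_open.2 fun x ⟨W, hx, hW⟩ => ⟨W, fun z hz => ⟨W, hz, hW⟩, W.2, hx⟩
  obtain ⟨V', hV'V, hsV', hle⟩ := LiftFib11.exists_preimage_le f ⟨O, hO⟩ y V hs fun x hx => by
    obtain ⟨w, rfl⟩ : x ∈ Set.range (f.fiberι y) := by rw [f.range_fiberι]; exact hx
    exact LiftFib11.exists_bijective_near f hF hG y θ t ht w
      (LiftFib11.le_preimage f hs (TopologicalSpace.Opens.mem_top w))
  let t' := M1.mres (M2.homMod F G) (f.preimage_mono hV'V) t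
  haveI : IsIso (LiftFib11.morOfSecRes (f ⁻¹ᵁ V') t') := PushUnit3.isIso_of_locally_bijective _ fun x => by
    obtain ⟨W, hxW, hW⟩ := hle x.2
    refine ⟨(f ⁻¹ᵁ V').ι ⁻¹ᵁ W, hxW, fun W' hW' => ?_⟩
    exact hW _ (((f ⁻¹ᵁ V').ι_image_le W').trans (f.preimage_mono hV'V))
      (((f ⁻¹ᵁ V').ι.image_mono hW').trans (by rintro _ ⟨z, hz, rfl⟩; exact hz))
  exact ⟨V', hsV', ⟨asIso (LiftFib11.morOfSecRes (f ⁻¹ᵁ V') t')⟩⟩

end Groth.Agent.S4477
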