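import Groth.Statements.S4478
import Groth.Agent.Lib.PropSuppH7.FormalFn
import Groth.Agent.Lib.CohFound.FormalFn
import Mathlib.RingTheory.AdicCompletion.Functoriality

set_option autoImplicit false
universe u
open Coherent

namespace Groth.Agent.S4478

open AlgebraicGeometry CategoryTheory Limits in
theorem completion_equiv_push {A : Type u} [CommRing A] [IsNoetherianRing A] {X Z : Scheme.{u}}
    [X.Over (Spec (CommRingCat.of A))] [Z.Over (Spec (CommRingCat.of A))] (i : Z ⟶ X) [IsClosedImmersion i]
    [IsLocallyNoetherian X] [IsProper (Z ↘ Spec (CommRingCat.of A))]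
    (hi : i ≫ (X ↘ Spec (CommRingCat.of A)) = Z ↘ Spec (CommRingCat.of A)) (I : Ideal A)
    {N : Z.Modules} (hN : Coh.IsCoh N) {M : X.Modules} (e : M ≅ (Scheme.Modules.pushforward i).obj N) (p : ℕ) :
    Nonempty (AdicCompletion I (Coh.HH X M p) ≃+ Formal.HHlim I M p) := by
  haveI : IsLocallyNoetherian Z := LocallyOfFiniteType.isLocallyNoetherian i
  let P := Scheme.Modules.pushforward i
  let G := SheafOfModules.toSheaf X.ringCatSheaf
  obtain ⟨T, hT⟩ := PushNatH7.exists_HH_push_natural i p
  choose θ hθ using fun n => PropSuppH7.exists_modPow_push_iso i hi I (n + 1) hN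
  have hq : ∀ n, Coh.IsQCoh (Formal.modPow I n N) := fun n => (Algz27C.isCoh_modPow (I := I) n hN).1
  let ψ : ∀ n, Formal.modPow I (n + 1) M ⟶ P.obj (Formal.modPow I (n + 1) N) := fun n =>
    (Algz27C.modPowIso I (n + 1) e).hom ≫ (θ n).hom
  have hψ : ∀ n, Formal.modPowπ I (n + 1) M ≫ ψ n = e.hom ≫ P.map (Formal.modPowπ I (n + 1) N) := fun n =>
    (Category.assoc _ _ _).symm.trans ((congrArg (· ≫ (θ n).hom) (Algz27C.modPowπ_map I (n + 1) e.hom)).trans
      ((Category.assoc _ _ _).trans (congrArg (e.hom ≫ ·) (hθ n))))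
  have hψt : ∀ n, Formal.modPowTrans I (n + 1) M ≫ ψ n = ψ (n + 1) ≫ P.map (Formal.modPowTrans I (n + 1) N) := by
    intro n
    rw [← cancel_epi (Formal.modPowπ I (n + 1 + 1) M)]
    refine ((Category.assoc _ _ _).symm.trans (congrArg (· ≫ ψ n) (Formal.modPowπ_trans I (n + 1) M))).trans ?_
    refine (hψ n).trans ?_
    refine Eq.trans ?_ ((Category.assoc _ _ _).symm.trans rfl).symm
    rw [hψ (n + 1), Category.assoc, ← P.map_comp, Formal.modPowπ_trans]
  let a : Coh.HH X M p ≃+ Coh.HH Z N p := (PropSuppH7.hhIso e p).trans (T N hN.1)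
  let b : ∀ n, Formal.HHmodPow I M p n ≃+ Formal.HHmodPow I N p n := fun n =>
    (PropSuppH7.hhIso (Algz27C.modPowIso I (n + 1) e ≪≫ θ n) p).trans (T _ (hq (n + 1)))
  have hlin : ∀ (r : A) x, a (r • x) = r • a x := fun r x => by
    change T _ _ (Sheaf.H.map (G.map e.hom) p (Sheaf.H.map (G.map (Formal.smulMod A M r)) p x)) =
      Sheaf.H.map ((SheafOfModules.toSheaf _).map (Formal.smulMod A N r)) p (T _ _ (Sheaf.H.map (G.map e.hom) p x))
    refine (congrArg (T _ _) ((Formal.HHmap_comp _ _ p x).trans ((congrArg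
      (fun φ => Sheaf.H.map (G.map φ) p x) ((FormalH7.smulMod_naturality e.hom r).trans
        (congrArg (e.hom ≫ ·) (FormalH7.pushforward_map_smulMod i hi N r).symm))).trans
      (Formal.HHmap_comp _ _ p x).symm))).trans ?_
    exact hT _ _ hN.1 _ _ _
  let aL : Coh.HH X M p ≃ₗ[A] Coh.HH Z N p := { a with map_smul' := hlin }
  have ht : ∀ n x, b n (Formal.HHmodPowTrans I M p n x) = Formal.HHmodPowTrans I N p n (b (n + 1) x) := fun n x => by
    change T _ _ (Sheaf.H.map (G.map (ψ n)) p (Sheaf.H.map (G.map (Formal.modPowTrans I (n + 1) M)) p x)) =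
      Sheaf.H.map _ p (T _ _ (Sheaf.H.map (G.map (ψ (n + 1))) p x))
    refine (congrArg (T _ _) ((Formal.HHmap_comp _ _ p x).trans ((congrArg
      (fun φ => Sheaf.H.map (G.map φ) p x) (hψt n)).trans (Formal.HHmap_comp _ _ p x).symm))).trans ?_
    exact hT _ _ (hq _) _ _ _
  let B : Formal.HHlim I M p ≃+ Formal.HHlim I N p :=
    { toFun := fun z => ⟨fun n => b n (z.1 n), fun n => (ht n _).symm.trans (congrArg (b n) (z.2 n))⟩
      invFun := fun z => ⟨fun n => (b n).symm (z.1 n), fun n => (b n).injective (by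
        rw [ht, AddEquiv.apply_symm_apply, AddEquiv.apply_symm_apply]; exact z.2 n)⟩
      left_inv := fun z => Subtype.ext (funext fun n => (b n).symm_apply_apply _)
      right_inv := fun z => Subtype.ext (funext fun n => (b n).apply_symm_apply _)
      map_add' := fun z w => Subtype.ext (funext fun n => map_add (b n) _ _) }
  obtain ⟨eN, -⟩ := CohFound.FF.exists_completion_equiv I N p hN
  exact ⟨((AdicCompletion.congr I aL).toAddEquiv.trans eN).trans B.symm⟩

open AlgebraicGeometry CategoryTheory in
/-- The comparison statement extended to modules with proper support, over an affine base. Let A be a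
Noetherian ring, I an ideal of A, X a scheme of finite type over Spec A and F a coherent O_X-module
whose support is proper over Spec A. Then for every p the I-adic completion of H^p(X, F) is
isomorphic, as an additive group, to the inverse limit of the groups H^p(X, F/I^(n+1)F). (The source
proves that the canonical map is a topological isomorphism; only the existence of an additive
isomorphism is asserted, as for the proper case.) -/
theorem result (A : Type u) [CommRing A] [IsNoetherianRing A] (I : Ideal A)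
    (X : Scheme.{u}) [X.Over (Spec (CommRingCat.of A))]
    [LocallyOfFiniteType (X ↘ Spec (CommRingCat.of A))] [QuasiCompact (X ↘ Spec (CommRingCat.of A))]
    (F : X.Modules) (hF : Coh.IsCoh F)
    (hs : ClSub.IsProperOver (X ↘ Spec (CommRingCat.of A)) (CohB1.support F)) (p : ℕ) :
    Nonempty (AdicCompletion I (Coh.HH X F p) ≃+ Formal.HHlim I F p) := by
  haveI : IsLocallyNoetherian X := LocallyOfFiniteType.isLocallyNoetherian (X ↘ Spec (CommRingCat.of A))
  obtain ⟨Z, i, hi, hp, -, N, hN, hNft, ⟨e₀⟩⟩ :=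
    PropSuppH7.exists_model (X ↘ Spec (CommRingCat.of A)) hF.1 hF.2 hs
  haveI : IsLocallyNoetherian Z := LocallyOfFiniteType.isLocallyNoetherian i
  letI : Z.Over (Spec (CommRingCat.of A)) := ⟨i ≫ (X ↘ Spec (CommRingCat.of A))⟩
  haveI : IsProper (Z ↘ Spec (CommRingCat.of A)) := hp
  exact completion_equiv_push i rfl I ⟨hN, hNft⟩ e₀.symm p

end Groth.Agent.S4478
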