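import Groth.Statements.S4480
import Groth.Agent.Lib.VarDim.Normal
import Groth.Agent.Lib.Stein6.Core
import Groth.Agent.Lib.Stein6.Finite
import Mathlib.AlgebraicGeometry.Morphisms.Proper
-- import your own Groth.Agent.* helpers here

set_option autoImplicit false
set_option linter.style.haveILetI false
set_option backward.isDefEq.respectTransparency.types false
universe u
open Coherent

namespace Groth.Agent.S4480

open AlgebraicGeometry CategoryTheory in
/-- Let X and Y be locally Noetherian integral schemes and f : X → Y a proper dominant morphism such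
that the function field R(Y) is algebraically closed in R(X) (every element of R(X) satisfying a
nonzero polynomial over R(Y) comes from R(Y)). Let y be a point of Y whose local ring is integrally
closed (a normal point). Then the fibre X_y is geometrically connected over the residue field of y
(its base change to every field extension of that residue field is connected and nonempty; in
particular X_y is connected and nonempty), and there is an open neighbourhood U of y such that
O_Y(V) → O_X(f⁻¹V) is an isomorphism for every open V ⊆ U. -/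
theorem result {X Y : Scheme.{u}}
    [IsIntegral X] [IsIntegral Y] [IsLocallyNoetherian X] [IsLocallyNoetherian Y] (f : X ⟶ Y) [IsProper f]
    (hdom : f.base (genericPoint X) ⤳ genericPoint Y)
    (halg : ∀ x : X.functionField,
      (∃ q : Polynomial Y.functionField, q ≠ 0 ∧
        Polynomial.eval₂ (CohIII.stalkToFunctionField f (genericPoint Y) hdom) x q = 0) →
      x ∈ Set.range (CohIII.stalkToFunctionField f (genericPoint Y) hdom))
    (y : Y) (hy : IsIntegrallyClosed (Y.presheaf.stalk y)) :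
    GeometricallyConnected (f.fiberToSpecResidueField y) ∧
      ∃ U : Y.Opens, y ∈ U ∧ ∀ V : Y.Opens, V ≤ U → IsIso (f.app V) := by
  have hgen : f (genericPoint X) = genericPoint Y :=
    (hdom.antisymm ((genericPoint_spec Y).specializes trivial)).eq
  let σ : Y.functionField →+* X.functionField := CohIII.stalkToFunctionField f (genericPoint Y) hdom
  have hξ : ∀ (V : Y.Opens) [Nonempty V], genericPoint X ∈ f ⁻¹ᵁ V := fun V _ => by
    show f (genericPoint X) ∈ V
    rw [hgen]
    exact ((genericPoint_spec Y).mem_open_set_iff V.isOpen).mpr (by simpa using ‹Nonempty V›)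
  have hne : ∀ (V : Y.Opens) [Nonempty V], Nonempty (f ⁻¹ᵁ V : X.Opens) := fun V _ => ⟨⟨_, hξ V⟩⟩
  have hσ : ∀ (V : Y.Opens) [Nonempty V] (a : Γ(Y, V)),
      σ (Y.germToFunctionField V a) = (haveI := hne V; X.germToFunctionField (f ⁻¹ᵁ V) (f.app V a)) := by
    intro V _ a
    show (f.stalkMap (genericPoint X)) ((Y.presheaf.stalkSpecializes hdom) (Y.presheaf.germ V _ _ a)) = _
    rw [TopCat.Presheaf.germ_stalkSpecializes_apply, Scheme.Hom.germ_stalkMap_apply]
  -- every open piece: injectivity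
  have hinj : ∀ (V : Y.Opens) [Nonempty V], Function.Injective (f.app V) := by
    intro V _ a b h
    haveI := hne V
    apply Y.germToFunctionField_injective V
    apply σ.injective
    rw [hσ V a, hσ V b]
    exact congrArg _ h
  obtain ⟨W₀, hW₀, hyW₀, -⟩ := exists_isAffineOpen_mem_and_subset (X := Y) (x := y) (U := ⊤) trivial
  haveI : Nonempty W₀ := ⟨⟨_, hyW₀⟩⟩
  haveI := hne W₀
  letI : Algebra Γ(Y, W₀) Γ(X, f ⁻¹ᵁ W₀) := (f.app W₀).hom.toAlgebra
  haveI : Module.Finite Γ(Y, W₀) Γ(X, f ⁻¹ᵁ W₀) := Groth.Agent.Stein6.finite_app f hW₀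
  obtain ⟨S, hS⟩ := Module.Finite.fg_top (R := Γ(Y, W₀)) (M := Γ(X, f ⁻¹ᵁ W₀))
  have hq : ∀ b : Γ(X, f ⁻¹ᵁ W₀), ∃ (q : Y.functionField),
      σ q = X.germToFunctionField (f ⁻¹ᵁ W₀) b ∧
      ∃ O : Y.Opens, y ∈ O ∧ ∀ z ∈ O, q ∈ (algebraMap (Y.presheaf.stalk z) Y.functionField).range := by
    intro b
    obtain ⟨p, hp, hp0⟩ : IsIntegral Γ(Y, W₀) b := Algebra.IsIntegral.isIntegral b
    have hp' : Polynomial.eval₂ (σ.comp (Y.germToFunctionField W₀).hom)
        (X.germToFunctionField (f ⁻¹ᵁ W₀) b) p = 0 := by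
      have hc : σ.comp (Y.germToFunctionField W₀).hom =
          (X.germToFunctionField (f ⁻¹ᵁ W₀)).hom.comp (f.app W₀).hom := RingHom.ext fun a => hσ W₀ a
      rw [hc, ← Polynomial.hom_eval₂]
      exact (congrArg _ hp0).trans (map_zero _)
    obtain ⟨q, hq⟩ := halg (X.germToFunctionField (f ⁻¹ᵁ W₀) b)
      ⟨p.map (Y.germToFunctionField W₀).hom, (hp.map _).ne_zero, by rw [Polynomial.eval₂_map]; exact hp'⟩
    refine ⟨q, hq, ?_⟩
    have hint : IsIntegral (Y.presheaf.stalk y) q := by
      refine ⟨p.map (Y.presheaf.germ W₀ y hyW₀).hom, hp.map _, ?_⟩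
      rw [Polynomial.eval₂_map, show (algebraMap (Y.presheaf.stalk y) Y.functionField).comp
        (Y.presheaf.germ W₀ y hyW₀).hom = (Y.germToFunctionField W₀).hom from
        RingHom.ext fun a => Groth.Agent.VarDim.germ_functionField_eq W₀ y hyW₀ a]
      apply σ.injective
      rw [Polynomial.hom_eval₂, map_zero, show σ q = _ from hq]
      exact hp'
    haveI := hy
    obtain ⟨w, hw⟩ := IsIntegrallyClosed.isIntegral_iff.mp hint
    obtain ⟨O, hyO, a, ha⟩ := Y.presheaf.exists_germ_eq w
    haveI : Nonempty O := ⟨⟨_, hyO⟩⟩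
    refine ⟨O, hyO, fun z hz => ⟨Y.presheaf.germ O z hz a, ?_⟩⟩
    rw [Groth.Agent.VarDim.germ_functionField_eq O z hz a,
      ← Groth.Agent.VarDim.germ_functionField_eq O y hyO a, ha, hw]
  choose q hqσ O hyO hqO using hq
  let U : Y.Opens := W₀ ⊓ S.inf O
  have hyU : y ∈ U := by
    refine ⟨hyW₀, ?_⟩
    classical
    clear hS
    induction S using Finset.induction_on with
    | empty => rw [Finset.inf_empty]; trivial
    | insert a s _ ih => rw [Finset.inf_insert]; exact ⟨hyO a, ih⟩
  have hUO : ∀ b ∈ S, U ≤ O b := fun b hb => inf_le_right.trans (Finset.inf_le hb)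
  have hU : ∀ V : Y.Opens, V ≤ U → Function.Bijective (f.app V) := by
    intro V hVU
    rcases isEmpty_or_nonempty V with hV | hV
    · have hbot : V = ⊥ := by ext x; exact ⟨fun hx => (hV.false ⟨x, hx⟩).elim, fun hx => hx.elim⟩
      subst hbot
      haveI : Subsingleton Γ(X, f ⁻¹ᵁ (⊥ : Y.Opens)) :=
        CommRingCat.subsingleton_of_isTerminal (X.sheaf.isTerminalOfEqEmpty (by ext x; simp))
      haveI : Subsingleton Γ(Y, (⊥ : Y.Opens)) :=
        CommRingCat.subsingleton_of_isTerminal Y.sheaf.isTerminalOfEmpty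
      exact ⟨fun a b _ => Subsingleton.elim a b, fun b => ⟨0, Subsingleton.elim _ _⟩⟩
    haveI := hne V
    refine ⟨hinj V, fun b => ?_⟩
    have hx : ∀ z ∈ V, ∃ q' : Y.functionField, σ q' = X.germToFunctionField (f ⁻¹ᵁ V) b ∧
        q' ∈ (algebraMap (Y.presheaf.stalk z) Y.functionField).range := by
      intro z hzV
      obtain ⟨g, hgV, hzg⟩ := hW₀.exists_basicOpen_le (⟨z, hzV⟩ : V) (hVU hzV).1
      haveI : Nonempty (Y.basicOpen g) := ⟨⟨_, hzg⟩⟩
      have hbo := f.preimage_basicOpen g
      have hle : X.basicOpen (f.app W₀ g) ≤ f ⁻¹ᵁ V :=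
        hbo.ge.trans ((TopologicalSpace.Opens.map f.base).monotone hgV)
      haveI : Nonempty (X.basicOpen (f.app W₀ g)) := ⟨⟨_, hbo.le (hξ (Y.basicOpen g))⟩⟩
      obtain ⟨n, c, hc⟩ := exists_eq_pow_mul_of_isCompact_of_isQuasiSeparated X (f ⁻¹ᵁ W₀)
        (f.isCompact_preimage hW₀.isCompact) (f.isQuasiSeparated_preimage hW₀.isQuasiSeparated)
        (f.app W₀ g) (X.presheaf.map (homOfLE hle).op b)
      have hres : ∀ (V₁ V₂ : X.Opens) [Nonempty V₁] [Nonempty V₂] (e : V₂ ≤ V₁) (s : Γ(X, V₁)),
          X.germToFunctionField V₂ (X.presheaf.map (homOfLE e).op s) = X.germToFunctionField V₁ s :=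
        fun _ _ _ _ _ _ => TopCat.Presheaf.germ_res_apply X.presheaf _ _ _ _
      have hc' := congrArg (X.germToFunctionField (X.basicOpen (f.app W₀ g))) hc
      simp only [TopCat.Presheaf.restrictOpenCommRingCat_apply, map_mul, map_pow] at hc'
      rw [hres, hres, hres, ← hσ W₀ g] at hc'
      have hmem : c ∈ Submodule.span Γ(Y, W₀) (S : Set Γ(X, f ⁻¹ᵁ W₀)) := by rw [hS]; trivial
      obtain ⟨Q, hQ, hQr⟩ : ∃ Q : Y.functionField, σ Q = X.germToFunctionField (f ⁻¹ᵁ W₀) c ∧
          Q ∈ (algebraMap (Y.presheaf.stalk z) Y.functionField).range := by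
        clear hc hc'
        induction hmem using Submodule.span_induction with
        | mem x hx => exact ⟨q x, hqσ x, hqO x z (hUO x hx (hVU hzV))⟩
        | zero => exact ⟨0, by rw [map_zero, map_zero], zero_mem _⟩
        | add x x' _ _ h h' =>
          obtain ⟨Q, hQ, hQr⟩ := h
          obtain ⟨Q', hQ', hQr'⟩ := h'
          exact ⟨Q + Q', by rw [map_add, map_add, hQ, hQ'], add_mem hQr hQr'⟩
        | smul r x _ h =>
          obtain ⟨Q, hQ, hQr⟩ := h
          refine ⟨Y.germToFunctionField W₀ r * Q, ?_, mul_mem ⟨_,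
            Groth.Agent.VarDim.germ_functionField_eq W₀ z (hVU hzV).1 r⟩ hQr⟩
          rw [map_mul, hQ, hσ W₀ r, Algebra.smul_def, map_mul]
          rfl
      have hu : IsUnit (Y.presheaf.germ W₀ z (hVU hzV).1 g) := (Y.mem_basicOpen g z _).mp hzg
      obtain ⟨w, hw⟩ := hQr
      refine ⟨Q / Y.germToFunctionField W₀ g ^ n, ?_, ⟨w * ↑(hu.unit⁻¹ ^ n), ?_⟩⟩
      · rw [map_div₀, map_pow, hQ, hc', mul_div_cancel_left₀]
        refine pow_ne_zero n ?_
        rw [map_ne_zero, ← Groth.Agent.VarDim.germ_functionField_eq W₀ z (hVU hzV).1 g]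
        exact (hu.map _).ne_zero
      · rw [map_mul, hw, div_eq_mul_inv, Units.val_pow_eq_pow_val, map_pow, ← inv_pow,
          ← Groth.Agent.VarDim.germ_functionField_eq W₀ z (hVU hzV).1 g]
        congr 2
        exact eq_inv_of_mul_eq_one_left (by rw [← map_mul, IsUnit.val_inv_mul, map_one])
    obtain ⟨⟨z₀, hz₀⟩⟩ := id hV
    obtain ⟨q₀, hq₀, -⟩ := hx z₀ hz₀
    obtain ⟨a, ha⟩ := Groth.Agent.VarDim.exists_section_of_forall_stalk V q₀ (fun z hz => by
      obtain ⟨q', hq', hr⟩ := hx z hz
      rwa [σ.injective (hq₀.trans hq'.symm)])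
    exact ⟨a, X.germToFunctionField_injective (f ⁻¹ᵁ V) (by rw [← hσ V a, ha]; exact hq₀)⟩
  refine ⟨?_, U, hyU, fun V hV => (ConcreteCategory.isIso_iff_bijective _).2 (hU V hV)⟩
  haveI : IsProper (f ∣_ U) := IsZariskiLocalAtTarget.restrict ‹_› U
  haveI : GeometricallyConnected (f ∣_ U) :=
    Groth.Agent.Stein6.geometricallyConnected_of_app_bijective (f ∣_ U) (fun V => by
      rw [← ConcreteCategory.isIso_iff_bijective, morphismRestrict_app]
      refine @IsIso.comp_isIso _ _ _ _ _ _ _ ?_ (Functor.map_isIso _ _)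
      exact (ConcreteCategory.isIso_iff_bijective _).2 (hU _ (U.ι_image_le V)))
  let p := IsOpenImmersion.lift U.ι (Y.fromSpecResidueField y) (by
    rw [Scheme.range_fromSpecResidueField, Scheme.Opens.range_ι, Set.singleton_subset_iff]
    exact hyU)
  have hp : p ≫ U.ι = Y.fromSpecResidueField y := IsOpenImmersion.lift_fac _ _ _
  have sq := (IsPullback.of_hasPullback (f ∣_ U) p).paste_horiz (isPullback_morphismRestrict f U).flip
  rw [hp] at sq
  have e : (sq.isoPullback).hom ≫ f.fiberToSpecResidueField y = Limits.pullback.snd (f ∣_ U) p :=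
    sq.isoPullback_hom_snd
  have h : GeometricallyConnected (Limits.pullback.snd (f ∣_ U) p) :=
    MorphismProperty.of_isPullback (IsPullback.of_hasPullback (f ∣_ U) p) ‹_›
  rw [← e] at h
  exact (MorphismProperty.cancel_left_of_respectsIso @GeometricallyConnected sq.isoPullback.hom _).mp h

end Groth.Agent.S4480
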