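import Groth.Statements.S4481
import Groth.Agent.S0008
import Groth.Agent.Lib.CohFound.CechSite
import Groth.Agent.Lib.ModM1.Push

set_option autoImplicit false
universe u
open Coherent

namespace Groth.Agent.S4481

open AlgebraicGeometry CategoryTheory CategoryTheory.Limits Opposite TopologicalSpace

/-- Čech cohomology commutes with a functor between opens preserving finite nonempty infima. -/
theorem nonempty_cechH_comp {A B : TopCat.{u}} {ι : Type u} (Φ : Opens A ⥤ Opens B)
    (hΦ : ∀ (n : ℕ) (b : Fin (n + 1) → Opens A), Φ.obj (⨅ k, b k) = ⨅ k, Φ.obj (b k))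
    (U : ι → Opens A) (V : ι → Opens B) (hV : ∀ i, Φ.obj (U i) = V i)
    (P : (Opens B)ᵒᵖ ⥤ AddCommGrpCat.{u}) (p : ℕ) :
    Nonempty (CohB1.cechHTop U (Φ.op ⋙ P) p ≅ CohB1.cechHTop V P p) := by
  have he : ∀ (n : ℕ) (a : Fin (n + 1) → ι), Φ.obj (∏ᶜ (U ∘ a)) = ∏ᶜ (V ∘ a) := fun n a => by
    rw [Groth.Agent.CohFound.pi_opens_eq, Groth.Agent.CohFound.pi_opens_eq, hΦ]
    simp [hV]
  let e : (FormalCoproduct.cosimplicialObjectFunctor (FormalCoproduct.mk _ U).cech).obj (Φ.op ⋙ P) ≅
      (FormalCoproduct.cosimplicialObjectFunctor (FormalCoproduct.mk _ V).cech).obj P :=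
    NatIso.ofComponents
      (fun n => Pi.mapIso fun a => P.mapIso (eqToIso (congrArg op (he _ a))))
      (fun {n m} g => Groth.Agent.CohFound.pi_square
        ((FormalCoproduct.mk _ U).cech.map g.op).f _ _ _ _ fun a =>
          (P.map_comp _ _).symm.trans ((congrArg P.map (Subsingleton.elim _ _)).trans
            (P.map_comp _ _)))
  exact ⟨(HomologicalComplex.homologyFunctor _ _ p).mapIso
    ((AlgebraicTopology.alternatingCofaceMapComplex _).mapIso e)⟩

open AlgebraicGeometry CategoryTheory Opposite in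
/-- Let X be a separated scheme, f_1, …, f_n global functions on X such that every open X_{f_i} is
quasi-compact, U the union of the X_{f_i}, and suppose there are sections g_1, …, g_n of O_X over U
with Σ g_i · (f_i|_U) = 1. Then for every quasi-coherent O_X-module G and every p > 0 the Čech
cohomology group of G in degree p with respect to the family of opens (X_{f_i}) is zero. (The
published statement also covers a scheme whose underlying space is Noetherian, not necessarily
separated; this row treats separated X.) -/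
theorem result (X : Scheme.{u}) [X.IsSeparated] (n : ℕ)
    (f : Fin n → Γ(X, ⊤)) (hqc : ∀ i, IsCompact (X.basicOpen (f i) : Set X))
    (g : Fin n → Γ(X, ⨆ i, X.basicOpen (f i)))
    (hg : (Finset.univ.sum fun i => g i *
      (X.presheaf.map (homOfLE (le_top : (⨆ i, X.basicOpen (f i)) ≤ ⊤)).op).hom (f i)) = 1)
    (G : X.Modules) [Coh.IsQCoh G] (p : ℕ) (hp : 0 < p) :
    Limits.IsZero (CohB1.cechH (fun i : ULift.{u} (Fin n) => X.basicOpen (f i.down)) G p) := by
  let W : X.Opens := ⨆ i, X.basicOpen (f i)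
  have hWc : IsCompact (W : Set X) := by
    show IsCompact ((⨆ i, X.basicOpen (f i) : X.Opens) : Set X)
    rw [Opens.coe_iSup]
    exact isCompact_iUnion hqc
  haveI : CompactSpace (W : Scheme.{u}) := isCompact_iff_compactSpace.mp hWc
  haveI : (W : Scheme.{u}).IsSeparated := ⟨by rw [← terminal.comp_from W.ι]; infer_instance⟩
  let G' := G.restrict W.ι
  haveI hG' : Coh.IsQCoh G' := Groth.Agent.M1.isQCoh_restrict ‹_› _
  let h := (W : Scheme.{u}).toSpecΓ
  let P := (Scheme.Modules.pushforward h).obj G'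
  haveI hP : P.IsQuasicoherent := Groth.Agent.M1.isQCoh_push h hG'
  haveI hiso : IsIso P.fromTildeΓ := @Scheme.Modules.isIso_fromTildeΓ_of_isQuasicoherent Γ((W : Scheme.{u}), ⊤) P hP
  let fw : ULift.{u} (Fin n) → Γ((W : Scheme.{u}), ⊤) := fun i => W.ι.appTop (f i.down)
  have hspan : Ideal.span (Set.range fw) = ⊤ := by
    rw [Ideal.eq_top_iff_one]
    have h1 : (1 : Γ((W : Scheme.{u}), ⊤)) = ∑ i : Fin n, W.topIso.inv (g i) * fw ⟨i⟩ := by
      have h2 := congrArg W.topIso.inv hg
      rw [map_one, map_sum] at h2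
      rw [← h2]
      refine Finset.sum_congr rfl fun i _ => ?_
      rw [map_mul]
      congr 1
      show (X.presheaf.map _ ≫ W.topIso.inv).hom (f i) = W.ι.appTop.hom (f i)
      simp only [Scheme.Opens.topIso, Scheme.Hom.appTop, Scheme.Opens.ι_app]
      refine Eq.trans (ConcreteCategory.congr_hom (X.presheaf.map_comp _ _).symm (f i)) ?_
      exact ConcreteCategory.congr_hom (congrArg X.presheaf.map (Subsingleton.elim _ _)) (f i)
    rw [h1]
    exact Ideal.sum_mem _ fun i _ => Ideal.mul_mem_left _ _ (Ideal.subset_span ⟨⟨i⟩, rfl⟩)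
  let D : ULift.{u} (Fin n) → (Spec Γ((W : Scheme.{u}), ⊤)).Opens := fun i => PrimeSpectrum.basicOpen (fw i)
  let Φ : (Spec Γ((W : Scheme.{u}), ⊤)).Opens ⥤ X.Opens := Opens.map h.base ⋙ W.ι.opensFunctor
  have hΦ : ∀ (m : ℕ) (b : Fin (m + 1) → (Spec Γ((W : Scheme.{u}), ⊤)).Opens),
      Φ.obj (⨅ k, b k) = ⨅ k, Φ.obj (b k) := fun m b => by
    have hmem : ∀ (B : TopCat.{u}) (c : Fin (m + 1) → Opens B) (x : B), x ∈ (⨅ k, c k) ↔ ∀ k, x ∈ c k :=
      fun B c x => by
        rw [← Finset.inf_univ_eq_iInf, ← SetLike.mem_coe, Opens.coe_finset_inf]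
        simp
    ext x
    rw [SetLike.mem_coe, SetLike.mem_coe, hmem]
    constructor
    · rintro ⟨z, hz, rfl⟩ k
      exact ⟨z, (hmem _ b _).1 hz k, rfl⟩
    · intro hx
      obtain ⟨z, hz, rfl⟩ := hx 0
      refine ⟨z, (hmem _ b _).2 fun k => ?_, rfl⟩
      obtain ⟨z', hz', he⟩ := hx k
      obtain rfl := W.ι.isOpenEmbedding.injective he
      exact hz'
  have hV : ∀ i, Φ.obj (D i) = X.basicOpen (f i.down) := fun i => by
    show W.ι ''ᵁ (h ⁻¹ᵁ PrimeSpectrum.basicOpen (fw i)) = _
    rw [Scheme.toSpecΓ_preimage_basicOpen]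
    show W.ι ''ᵁ ((W : Scheme.{u}).basicOpen (W.ι.app ⊤ (f i.down))) = _
    rw [← Scheme.preimage_basicOpen, Scheme.Hom.image_preimage_eq_opensRange_inf, Scheme.Opens.opensRange_ι]
    exact inf_eq_right.2 (le_iSup (fun i => X.basicOpen (f i)) i.down)
  obtain ⟨e⟩ := nonempty_cechH_comp Φ hΦ D (fun i : ULift.{u} (Fin n) => X.basicOpen (f i.down)) hV G.presheaf p
  refine Limits.IsZero.of_iso ?_ e.symm
  have hz := Groth.Agent.S0008.result Γ((W : Scheme.{u}), ⊤) (moduleSpecΓFunctor.obj P) n fw hspan p hp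
  exact hz.of_iso (((CategoryTheory.cechComplexFunctor (A := AddCommGrpCat.{u}) D) ⋙
    HomologicalComplex.homologyFunctor _ _ p).mapIso
      ((Scheme.Modules.toPresheaf _).mapIso (@asIso _ _ _ _ P.fromTildeΓ hiso).symm))

end Groth.Agent.S4481
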