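import Groth.Statements.S4482
import Groth.Agent.S0847
import Groth.Agent.S2434
import Groth.Agent.S3545
import Groth.Agent.S3561
import Groth.Agent.S4400
import Groth.Agent.Lib.Twist.GlobalProjSpace
import Groth.Agent.Lib.CohFound.ProperFinite
import Groth.Agent.Lib.CurveCoh17.Skyscraper

set_option autoImplicit false
set_option linter.style.haveILetI false
set_option backward.isDefEq.respectTransparency false
set_option backward.isDefEq.respectTransparency.types false
set_option maxHeartbeats 1000000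
universe u
open Coherent

namespace Groth.Agent.S4482

open AlgebraicGeometry CategoryTheory Opposite in
/-- Constants act on sections of `M(n)~` through the base ring. -/
theorem toGlobal_smul_globalOf {A S : Type u} [CommRing A] [CommRing S] [Algebra A S] (𝒜 : ℕ → Submodule A S)
    [GradedAlgebra 𝒜] {M : Type u} [AddCommGroup M] [Module A M] [Module S M] [IsScalarTower A S M]
    (ℳ : ℕ → Submodule A M) [DirectSum.Decomposition ℳ] [SetLike.GradedSMul 𝒜 ℳ] {i : ℕ} (a : A) (m : ℳ i) :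
    (show Γ(GrTilde.tilde 𝒜 ℳ (i : ℤ), ⊤) from GrTilde.globalOf 𝒜 ℳ (a • m)) =
      (show Γ(Proj 𝒜, ⊤) from Coh.toGlobal (Proj 𝒜 ↘ Spec (CommRingCat.of A)) a) •
        (show Γ(GrTilde.tilde 𝒜 ℳ (i : ℤ), ⊤) from GrTilde.globalOf 𝒜 ℳ m) := by
  refine Subtype.ext (funext fun x => Subtype.ext ?_)
  have h1 : (1 : S) ∉ x.1.asHomogeneousIdeal := fun h => x.1.isPrime.ne_top ((Ideal.eq_top_iff_one _).mpr h)
  have e0 : Coh.toGlobal (Proj 𝒜 ↘ Spec (CommRingCat.of A)) a =
      (Proj.toSpecZero 𝒜).appTop ((Scheme.ΓSpecIso _).inv (algebraMap A (𝒜 0) a)) :=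
    congrArg (Proj.toSpecZero 𝒜).appTop
      (ConcreteCategory.congr_hom (Scheme.ΓSpecIso_inv_naturality (CommRingCat.ofHom (algebraMap A (𝒜 0)))).symm a)
  let c := Twist.valO (show Γ(Proj 𝒜, ⊤) from Coh.toGlobal (Proj 𝒜 ↘ Spec (CommRingCat.of A)) a) x.1 trivial
  have hv : c = Localization.mk (algebraMap A S a) ⟨1, h1⟩ :=
    (congrArg (fun r : Γ(Proj 𝒜, ⊤) => Twist.valO r x.1 (show x.1 ∈ (⊤ : (Proj 𝒜).Opens) from trivial)) e0).trans
      (Twist.valO_toSpecZero 𝒜 (algebraMap A (𝒜 0) a) x.1 h1)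
  refine Eq.trans ?_ (GrTilde.coe_smul_val (𝒜 := 𝒜) (ℳ := ℳ) _ x.1 _ _).symm
  show LocalizedModule.mk (a • m.1) ⟨1, h1⟩ = c • LocalizedModule.mk m.1 ⟨1, h1⟩
  rw [hv, LocalizedModule.mk_smul_mk, algebraMap_smul]
  exact congrArg (LocalizedModule.mk _) (Subtype.ext (mul_one 1).symm)

open AlgebraicGeometry CategoryTheory in
/-- Let A be an Artinian local ring, S a graded A-algebra with S_0 the image of A, generated by r+1
elements of degree one spanning S_1, M a finitely generated graded S-module (graded in nonnegative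
degrees) and X = Proj S. Then there is N such that for every n ≥ N the Euler characteristic of the
module M(n)~, namely the alternating sum over 0 ≤ j ≤ r of the lengths of the A-modules H^j(X,
M(n)~), equals the length of the A-module M_n. -/
theorem result {A S : Type u} [CommRing A] [IsArtinianRing A]
    [IsLocalRing A] [CommRing S] [Algebra A S] (𝒜 : ℕ → Submodule A S) [GradedAlgebra 𝒜]
    (h0 : ∀ s ∈ 𝒜 0, s ∈ Set.range (algebraMap A S)) (r : ℕ) (g : Fin (r + 1) → S)
    (hg1 : ∀ i, g i ∈ 𝒜 1) (hspan : Submodule.span A (Set.range g) = 𝒜 1)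
    (hgen : Algebra.adjoin A (Set.range g) = ⊤) {M : Type u} [AddCommGroup M] [Module A M] [Module S M]
    [IsScalarTower A S M] [Module.Finite S M] (ℳ : ℕ → Submodule A M) [DirectSum.Decomposition ℳ]
    [SetLike.GradedSMul 𝒜 ℳ] :
    ∃ N : ℕ, ∀ n : ℕ, N ≤ n →
      ((Finset.range (r + 1)).sum fun j => (-1 : ℤ) ^ j *
          ((Module.length A (Coh.HH (Proj 𝒜) (GrTilde.tilde 𝒜 ℳ (n : ℤ)) j)).toNat : ℤ)) =
        ((Module.length A ↥(ℳ n)).toNat : ℤ) := by
  classical
  haveI hft : Algebra.FiniteType A S :=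
    ⟨⟨Finset.univ.image g, by rw [Finset.coe_image, Finset.coe_univ, Set.image_univ, hgen]⟩⟩
  haveI : IsNoetherianRing S := Algebra.FiniteType.isNoetherianRing A S
  have hirr : (HomogeneousIdeal.irrelevant 𝒜).toIdeal = Ideal.span (𝒜 1 : Set S) := by
    have hle : Ideal.span (𝒜 1 : Set S) ≤ (HomogeneousIdeal.irrelevant 𝒜).toIdeal := Ideal.span_le.2 fun z hz => by
      change GradedRing.proj 𝒜 0 z = 0
      rw [GradedRing.proj_apply]
      exact DirectSum.decompose_of_mem_ne 𝒜 hz (by decide)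
    refine le_antisymm (fun z hz => ?_) hle
    have hdec : ∀ w : S, ∃ a : A, w - algebraMap A S a ∈ Ideal.span (𝒜 1 : Set S) := fun w => by
      have hw : w ∈ Algebra.adjoin A (Set.range g) := by rw [hgen]; trivial
      induction hw using Algebra.adjoin_induction with
      | mem w hw =>
        obtain ⟨i, rfl⟩ := hw
        exact ⟨0, by rw [map_zero, sub_zero]; exact Ideal.subset_span (hg1 i)⟩
      | algebraMap a => exact ⟨a, by rw [sub_self]; exact Ideal.zero_mem _⟩
      | add w w' _ _ h h' =>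
        obtain ⟨a, ha⟩ := h
        obtain ⟨b, hb⟩ := h'
        exact ⟨a + b, by rw [map_add, add_sub_add_comm]; exact Ideal.add_mem _ ha hb⟩
      | mul w w' _ _ h h' =>
        obtain ⟨a, ha⟩ := h
        obtain ⟨b, hb⟩ := h'
        refine ⟨a * b, ?_⟩
        rw [map_mul, show w * w' - algebraMap A S a * algebraMap A S b =
          (w - algebraMap A S a) * w' + algebraMap A S a * (w' - algebraMap A S b) by ring]
        exact Ideal.add_mem _ (Ideal.mul_mem_right _ _ ha) (Ideal.mul_mem_left _ _ hb)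
    obtain ⟨a, ha⟩ := hdec z
    have h1 : algebraMap A S a ∈ (HomogeneousIdeal.irrelevant 𝒜).toIdeal := by
      have := Ideal.sub_mem _ hz (hle ha)
      rwa [sub_sub_cancel] at this
    have h2 : algebraMap A S a = 0 := by
      change GradedRing.proj 𝒜 0 (algebraMap A S a) = 0 at h1
      rwa [GradedRing.proj_apply, DirectSum.decompose_of_mem_same 𝒜 (SetLike.algebraMap_mem_graded 𝒜 a)] at h1
    rwa [h2, sub_zero] at ha
  haveI : IsScalarTower A (𝒜 0) S := ⟨fun a y z => by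
    show (a • y.1) * z = a • (y.1 * z)
    exact smul_mul_assoc a y.1 z⟩
  haveI : Algebra.FiniteType (𝒜 0) S :=
    Algebra.FiniteType.of_restrictScalars_finiteType A (𝒜 0) S
  have hsurj : Function.Surjective (algebraMap A (𝒜 0)) := fun s => by
    obtain ⟨a, ha⟩ := h0 s.1 s.2
    exact ⟨a, Subtype.ext ha⟩
  haveI : IsProper (Proj 𝒜 ↘ Spec (CommRingCat.of A)) := by
    haveI : IsClosedImmersion (Spec.map (CommRingCat.ofHom (algebraMap A (𝒜 0)))) :=
      IsClosedImmersion.spec_of_surjective _ hsurj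
    show IsProper (Proj.toSpecZero 𝒜 ≫ Spec.map (CommRingCat.ofHom (algebraMap A (𝒜 0))))
    infer_instance
  have hTF : ∃ n : ℕ, (Submodule.span S (⋃ k ∈ Set.Ici n, (ℳ k : Set M))).FG := ⟨0, by
    rw [show Submodule.span S (⋃ i ∈ Set.Ici 0, (ℳ i : Set M)) = ⊤ from eq_top_iff.2 fun m _ => by
      rw [← DirectSum.sum_support_decompose ℳ m]
      exact Submodule.sum_mem _ fun i _ =>
        Submodule.subset_span (Set.mem_iUnion₂.2 ⟨i, Set.mem_Ici.2 (Nat.zero_le i), SetLike.coe_mem _⟩)]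
    exact Module.Finite.fg_top⟩
  have hcoh : Coh.IsCoh (GrTilde.tilde 𝒜 ℳ 0) :=
    ⟨S3545.result 𝒜 ℳ 0, S3561.result 𝒜 (IsNoetherian.noetherian _) ℳ hTF⟩
  choose d₀ hd₀ using fun p : ℕ => S0847.result 𝒜 _ hcoh (p + 1) (Nat.succ_pos p)
  obtain ⟨N₁, hN₁⟩ := S2434.result 𝒜 h0 r g hg1 hspan hgen ℳ
  let D : ℕ := (Finset.range r).sup fun p => (d₀ p).toNat
  refine ⟨max N₁ D, fun n hn => ?_⟩
  obtain ⟨e⟩ := S4400.result 𝒜 hirr ℳ (n : ℤ)
  rw [Finset.sum_range_succ', Finset.sum_eq_zero, zero_add, pow_zero, one_mul, Nat.cast_inj]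
  · congr 1
    let α : ℳ n →+ Γ(GrTilde.tilde 𝒜 ℳ (n : ℤ), ⊤) := AddMonoidHom.mk' (fun m => GrTilde.globalOf 𝒜 ℳ m)
      (fun a b => Subtype.ext (funext fun x => Subtype.ext ((LocalizedModule.mk_add_mk.trans (by
        refine congrArg₂ LocalizedModule.mk ?_ (Subtype.ext (mul_one 1))
        exact congrArg₂ (· + ·) (one_smul S a.1) (one_smul S b.1))).symm)))
    let E : ℳ n ≃+ Coh.HH (Proj 𝒜) (GrTilde.tilde 𝒜 ℳ (n : ℤ)) 0 :=
      (AddEquiv.ofBijective α (show Function.Bijective α from hN₁ n (le_of_max_le_left hn))).trans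
        (CurveCoh17.hh0 (GrTilde.tilde 𝒜 ℳ (n : ℤ))).symm
    refine LinearEquiv.length_eq ({ E.symm with map_smul' := fun a y => ?_ } :
      Coh.HH (Proj 𝒜) (GrTilde.tilde 𝒜 ℳ (n : ℤ)) 0 ≃ₗ[A] ℳ n)
    obtain ⟨m, rfl⟩ := E.surjective y
    show E.symm (a • E m) = a • E.symm (E m)
    rw [E.symm_apply_apply]
    refine E.symm_apply_eq.2 ?_
    apply (CurveCoh17.hh0 _).injective
    refine (CurveCoh17.hh0_smul (Coh.toGlobal (Proj 𝒜 ↘ Spec (CommRingCat.of A)) a) (E m)).trans ?_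
    show _ = (CurveCoh17.hh0 _) ((CurveCoh17.hh0 _).symm (α (a • m)))
    rw [AddEquiv.apply_symm_apply]
    show _ • (CurveCoh17.hh0 _) ((CurveCoh17.hh0 _).symm (α m)) = _
    rw [AddEquiv.apply_symm_apply]
    exact (toGlobal_smul_globalOf 𝒜 ℳ a m).symm
  · intro j hj
    have hj' : j < r := Finset.mem_range.1 hj
    have hD : d₀ j ≤ (n : ℤ) := by
      have h := (Finset.le_sup (f := fun p => (d₀ p).toNat) (Finset.mem_range.2 hj')).trans (le_of_max_le_right hn)
      omega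
    haveI := hd₀ j (n : ℤ) hD
    haveI : Subsingleton (Coh.HH (Proj 𝒜) (GrTilde.tilde 𝒜 ℳ (n : ℤ)) (j + 1)) :=
      @Equiv.subsingleton _ _ (CohFound.hhExt (GrTilde.tilde 𝒜 ℳ (n : ℤ)) (j + 1)).toEquiv
        (CohFound.subsingleton_hc_of_iso e.symm (j + 1) ⊤
          ((CohFound.hhExt (Twist.twistBy 𝒜 (GrTilde.tilde 𝒜 ℳ 0) (n : ℤ)) (j + 1)).symm.toEquiv.subsingleton))
    rw [Module.length_eq_zero]
    simp

end Groth.Agent.S4482
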