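import Groth.Statements.S4483
import Groth.Agent.Lib.PBK5.Reg
import Groth.Agent.Lib.PBK5.Twist

set_option autoImplicit false
universe u
open Coherent

namespace Groth.Agent.S4483

open AlgebraicGeometry CategoryTheory in
/-- Let Y be a scheme, E a locally free O_Y-module of rank r+1, and (π : P → Y, O(1), q : π^*E → O(1)) a
projective bundle P(E) of E, characterised by its universal property; let L be an O_P-module with L
⊗ O(1) ≅ O_P, playing the role of O(-1). Then the higher direct images R^i π_* O(n) vanish except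
possibly for i = 0, n ≥ 0 and for i = r, n ≤ -(r+1): precisely, R^i π_*(O(1)^{⊗ n}) = 0 for all n ≥
0 and i ≠ 0, and R^i π_*(L^{⊗ m}) = 0 for all m ≥ 1 and all i unless i = r and m ≥ r + 1 (higher
direct images of the underlying abelian sheaves). -/
theorem result {Y P : Scheme.{u}} (π : P ⟶ Y) (r : ℕ)
    (E : Y.Modules) (hE : FlatMod.IsFinLocFreeOfRank (r + 1) E) (O1 : P.Modules)
    (q : (Scheme.Modules.pullback π).obj E ⟶ O1) (hP : KRR.IsProjBundle π E O1 q)
    (L : P.Modules) (hL : ClSub.IsInverseOf L O1) :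
    (∀ (n i : ℕ), i ≠ 0 → Limits.IsZero ((Coh.RpushAb π i).obj (Coh.toAb (CohB1.tensorPow O1 n)))) ∧
    (∀ (m i : ℕ), 1 ≤ m → ¬ (i = r ∧ r + 1 ≤ m) →
      Limits.IsZero ((Coh.RpushAb π i).obj (Coh.toAb (CohB1.tensorPow L m)))) := by
  obtain ⟨W, ⟨e1⟩, hnat, hneg⟩ := PBK5.exists_tw hP.invertible hL
  have hB := PBK5.isPB_of_projBundle hP hE W e1
  have key : ∀ (d : ℤ) (i : ℕ), ¬ ((i = 0 ∧ 0 ≤ d) ∨ (i = r ∧ d ≤ -((r : ℤ) + 1))) →
      Limits.IsZero ((Coh.RpushAb π i).obj (Coh.toAb (W.O d))) := fun d i h =>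
    hB.isZero_rpush (Twist.isQCoh_of_isInvertible (W.inv d)) i fun t => ⟨⊤, trivial, fun U _ hc => hc.van d i h⟩
  refine ⟨fun n i hi => ?_, fun m i hm hne => ?_⟩
  · obtain ⟨e⟩ := hnat n
    exact PBK5.rpush_of_iso e.symm (key _ i (by omega))
  · obtain ⟨e⟩ := hneg m
    exact PBK5.rpush_of_iso e.symm (key _ i (by omega))

end Groth.Agent.S4483
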