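import Groth.Prelude.Def_Pi1
import Groth.Prelude.Def_ega3
import Groth.Prelude.Def_CAlg2
import Mathlib.AlgebraicGeometry.Morphisms.Proper
import Mathlib.AlgebraicGeometry.Noetherian
import Mathlib.AlgebraicGeometry.FunctionField
import Mathlib.AlgebraicGeometry.Fiber
import Mathlib.Topology.Connected.Clopen
import Mathlib.FieldTheory.SeparableDegree
import Mathlib.FieldTheory.AlgebraicClosure
import Mathlib.SetTheory.Cardinal.Finite
import Groth.Agent.Lib.Stein6.UnibranchFibres

set_option autoImplicit false
universe u
namespace Coherent
end Coherent
open Coherent

namespace Groth.Agent.S4484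

open AlgebraicGeometry CategoryTheory in
/-- Let X and Y be locally Noetherian integral schemes and f : X → Y a proper dominant morphism; regard
the function field R(X) as an extension of R(Y) through f. Suppose that the algebraic closure of
R(Y) in R(X) has finite separable degree n over R(Y). Then for every point y of Y whose local ring
is unibranch, the fibre X_y has finitely many, and at most n, connected components. -/
theorem result {X Y : Scheme.{u}} [IsIntegral X]
    [IsIntegral Y] [IsLocallyNoetherian X] [IsLocallyNoetherian Y] (f : X ⟶ Y) [IsProper f]
    (hdom : f.base (genericPoint X) ⤳ genericPoint Y) [Algebra Y.functionField X.functionField]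
    (halg : algebraMap Y.functionField X.functionField = CohIII.stalkToFunctionField f (genericPoint Y) hdom)
    (n : ℕ) (hn0 : 0 < n)
    (hn : Field.finSepDegree Y.functionField ↥(algebraicClosure Y.functionField X.functionField) = n)
    (y : Y) (hy : CAlg2.IsUnibranch (Y.presheaf.stalk y)) :
    Finite (_root_.ConnectedComponents ↥(f.fiber y)) ∧
      Nat.card (_root_.ConnectedComponents ↥(f.fiber y)) ≤ n := by
  rename_i inst
  have e : inst = (CohIII.stalkToFunctionField f (genericPoint Y) hdom).toAlgebra :=
    Algebra.algebra_ext _ _ fun r => RingHom.congr_fun halg r
  subst e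
  exact Groth.Agent.Stein6.card_connectedComponents_le f hdom y hy hn0 hn

end Groth.Agent.S4484
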