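import Groth.Statements.S4485
import Groth.Agent.Lib.FlatCx.Fiber
import Groth.Agent.Lib.FlatCx.RankExact
-- import your own Groth.Agent.* helpers here

set_option autoImplicit false
universe u
open FlatCx

namespace Groth.Agent.S4485

open CategoryTheory CategoryTheory.Limits in
/-- For the homological functor T_p(M) = H_p(P ⊗_A M) of a chain complex P of flat modules over a
commutative ring A. If T_p takes injections to injections and surjections to surjections and T_p(A)
is a finitely presented A-module, then the function x ↦ dim_{k(x)} H_p(P ⊗_A k(x)) is locally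
constant on Spec A (hence constant when Spec A is connected). No Noetherian hypothesis on A. -/
theorem result {A : Type u} [CommRing A]
    (P : ChainComplex (ModuleCat.{u} A) ℤ) (hP : ∀ i, Module.Flat A (P.X i)) (p : ℤ)
    (hex : (CohIII.TFun P p).PreservesMonomorphisms ∧ (CohIII.TFun P p).PreservesEpimorphisms)
    (hfp : Module.FinitePresentation A (CohIII.T P p (ModuleCat.of A A))) :
    IsLocallyConstant (CohIII.dRank P p) := by
  have := hP
  have hflat : Module.Flat A (Groth.Agent.FlatCxLib.H P p) :=
    ((Groth.Agent.FlatCxLib.exact_iff_epi_and_flat P p).1 hex).2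
  have : Module.FinitePresentation A (Groth.Agent.FlatCxLib.H P p) := hfp
  have e : CohIII.dRank P p = Module.rankAtStalk (R := A) (Groth.Agent.FlatCxLib.H P p) := funext fun x =>
    (Groth.Agent.FlatCxLib.dRank_eq_finrank P p hex.2 x).trans (Groth.Agent.FlatCxLib.fibRank_eq_rankAtStalk x)
  rw [e]
  exact Module.isLocallyConstant_rankAtStalk

end Groth.Agent.S4485
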