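import Groth.Statements.S4487
import Groth.Agent.Lib.FlatCx.Generic
-- import your own Groth.Agent.* helpers here

set_option autoImplicit false
universe u
open FlatCx

namespace Groth.Agent.S4487

open CategoryTheory CategoryTheory.Limits in
/-- The case of the homological functor T_p(M) = H_p(P ⊗_A M) of a chain complex P of flat modules over
a commutative ring A. Let A be Noetherian and suppose P_i = 0 for i < i₀ and that every T_n(A) is a
finitely generated A-module. Then for every integer N there is a dense open subset U of Spec A such
that, for every p ≤ N, the function x ↦ dim_{k(x)} H_p(P ⊗_A k(x)) is locally constant on U. (The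
published statement says constant on U; over the product of two fields, with P the projective module
supported on one factor placed in degree 0, the only dense open set is the whole two-point spectrum
and the ranks there are 1 and 0, so locally constant on U is what holds; the argument produces U as
a disjoint union of opens, one dense in each irreducible component, on each of which the functions
are constant.) -/
theorem result {A : Type u} [CommRing A] [IsNoetherianRing A]
    (P : ChainComplex (ModuleCat.{u} A) ℤ) (hP : ∀ i, Module.Flat A (P.X i)) (i₀ : ℤ)
    (hb : ∀ i < i₀, IsZero (P.X i))
    (hfg : ∀ n : ℤ, Module.Finite A (CohIII.T P n (ModuleCat.of A A))) (N : ℤ) :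
    ∃ U : Set (PrimeSpectrum A), IsOpen U ∧ Dense U ∧
      ∀ p ≤ N, IsLocallyConstant (fun x : U => CohIII.dRank P p x) := by
  have := hP
  exact Groth.Agent.FlatCxLib.exists_dense_open_dRank P hb hfg N

end Groth.Agent.S4487
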