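import Groth.Statements.S4488
import Groth.Agent.Lib.FlatCx.Generic
-- import your own Groth.Agent.* helpers here

set_option autoImplicit false
universe u
open FlatCx

namespace Groth.Agent.S4488

open CategoryTheory CategoryTheory.Limits in
/-- For the homological functor T_q(M) = H_q(P ⊗_A M) of a chain complex P of flat modules over a
commutative local ring A with residue field k. Suppose P_i = 0 for i < i₀ and that every T_n(A) is a
finitely presented A-module, and let p be an integer. If T_q takes injections to injections and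
surjections to surjections for every q ≤ p, then dim_{k(x)} T_q(k(x)) = dim_k T_q(k) for every point
x of Spec A and every q ≤ p. Conversely, if A is reduced and this equality holds at the generic
point of every irreducible component of Spec A (every minimal prime) for every q ≤ p, then T_q takes
injections to injections and surjections to surjections for every q ≤ p. No Noetherian hypothesis on
A. -/
theorem result {A : Type u} [CommRing A] [IsLocalRing A]
    (P : ChainComplex (ModuleCat.{u} A) ℤ) (hP : ∀ i, Module.Flat A (P.X i)) (i₀ : ℤ)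
    (hb : ∀ i < i₀, IsZero (P.X i))
    (hfp : ∀ n : ℤ, Module.FinitePresentation A (CohIII.T P n (ModuleCat.of A A))) (p : ℤ) :
    ((∀ q ≤ p, (CohIII.TFun P q).PreservesMonomorphisms ∧ (CohIII.TFun P q).PreservesEpimorphisms) →
        ∀ (x : PrimeSpectrum A), ∀ q ≤ p, CohIII.dRank P q x = CohIII.dRank P q (IsLocalRing.closedPoint A)) ∧
      (IsReduced A →
        (∀ x : PrimeSpectrum A, x.asIdeal ∈ minimalPrimes A →
          ∀ q ≤ p, CohIII.dRank P q x = CohIII.dRank P q (IsLocalRing.closedPoint A)) →
        ∀ q ≤ p, (CohIII.TFun P q).PreservesMonomorphisms ∧ (CohIII.TFun P q).PreservesEpimorphisms) := by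
  have := hP
  have key : ∀ q, (CohIII.TFun P q).PreservesEpimorphisms → ∀ x : PrimeSpectrum A,
      CohIII.dRank P q x = Groth.Agent.FlatCxLib.fibRank (Groth.Agent.FlatCxLib.H P q) x := fun q h x =>
    Groth.Agent.FlatCxLib.dRank_eq_finrank P q h x
  refine ⟨fun h x q hq => ?_, fun _ hmin => ?_⟩
  · obtain ⟨he, hf⟩ := (Groth.Agent.FlatCxLib.exact_iff_epi_and_flat P q).1 (h q hq)
    have : Module.Flat A (Groth.Agent.FlatCxLib.H P q) := hf
    have : Module.FinitePresentation A (Groth.Agent.FlatCxLib.H P q) := hfp q
    rw [key q he, key q he, Groth.Agent.FlatCxLib.fibRank_eq_rankAtStalk, Groth.Agent.FlatCxLib.fibRank_eq_rankAtStalk]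
    obtain ⟨U, hU, hUo, hc⟩ := mem_nhds_iff.1 ((Module.isLocallyConstant_rankAtStalk (R := A)
      (M := Groth.Agent.FlatCxLib.H P q)).eventually_eq (IsLocalRing.closedPoint A))
    exact hU ((IsLocalRing.specializes_closedPoint x).mem_open hUo hc)
  · suffices ∀ n : ℕ, i₀ - 1 + n ≤ p → Module.Flat A (Groth.Agent.FlatCxLib.Cok P (i₀ - 1 + n)) by
      intro q hq
      have hc : ∀ r ≤ p, Module.Flat A (Groth.Agent.FlatCxLib.Cok P r) := by
        intro r hr
        rcases lt_or_ge r i₀ with hlt | hge
        · have := Groth.Agent.FlatCxLib.subsingleton_cok P hb hlt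
          infer_instance
        · obtain ⟨n, hn⟩ : ∃ n : ℕ, r = i₀ - 1 + n := ⟨(r - i₀ + 1).toNat, by omega⟩
          exact hn ▸ this n (hn ▸ hr)
      exact ⟨(Groth.Agent.FlatCxLib.preservesMono_iff P q).2 (hc q hq),
        (Groth.Agent.FlatCxLib.preservesEpi_iff P (sub_add_cancel q 1)).2 (hc (q - 1) (by omega))⟩
    intro n
    induction n with
    | zero =>
      intro _
      have := Groth.Agent.FlatCxLib.subsingleton_cok P hb (i := i₀ - 1 + (0 : ℕ)) (by omega)
      infer_instance
    | succ n ih =>
      intro hn
      let q : ℤ := i₀ - 1 + (n + 1 : ℕ)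
      have he : (CohIII.TFun P q).PreservesEpimorphisms :=
        (Groth.Agent.FlatCxLib.preservesEpi_iff P (show i₀ - 1 + (n : ℤ) + 1 = q by omega)).2 (ih (by omega))
      have : Module.FinitePresentation A (Groth.Agent.FlatCxLib.H P q) := hfp q
      have : Module.Free A (Groth.Agent.FlatCxLib.H P q) :=
        Groth.Agent.FlatCxLib.free_of_fibRank_minimalPrimes fun y hy =>
          ((key q he _).symm.trans ((hmin y hy q hn).symm.trans (key q he y))).le
      exact (Groth.Agent.FlatCxLib.preservesMono_iff P q).1
        ((Groth.Agent.FlatCxLib.exact_iff_epi_and_flat P q).2 ⟨he, inferInstance⟩).1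

end Groth.Agent.S4488
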