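import Groth.Statements.S4491
import Groth.Agent.Lib.FlatCx.Basic
-- import your own Groth.Agent.* helpers here

set_option autoImplicit false
universe u
open FlatCx

namespace Groth.Agent.S4491

open CategoryTheory CategoryTheory.Limits in
/-- For the homological functor T_i(M) = H_i(P ⊗_A M) of a chain complex P of flat modules over a
commutative ring A. Let q + 1 = p and suppose T_p takes surjections to surjections. If
multiplication by f ∈ A is injective on an A-module M, then multiplication by f is injective on
T_q(M). In particular, when A is a domain, T_q(A) is torsion-free. -/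
theorem result {A : Type u} [CommRing A]
    (P : ChainComplex (ModuleCat.{u} A) ℤ) (hP : ∀ i, Module.Flat A (P.X i)) (p q : ℤ) (hpq : q + 1 = p)
    (hex : (CohIII.TFun P p).PreservesEpimorphisms) :
    (∀ (M : ModuleCat.{u} A) (f : A), Function.Injective (fun x : M => f • x) →
        Function.Injective (fun y : CohIII.T P q M => f • y)) ∧
      (IsDomain A → NoZeroSMulDivisors A (CohIII.T P q (ModuleCat.of A A))) := by
  have := hP
  have := (Groth.Agent.FlatCxLib.preservesEpi_iff_preservesMono P hpq).1 hex
  have key : ∀ (M : ModuleCat.{u} A) (f : A), Function.Injective (fun x : M => f • x) →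
      Function.Injective (fun y : CohIII.T P q M => f • y) := fun M f hf a b hab => by
    have : Mono (ModuleCat.ofHom (f • (LinearMap.id : M →ₗ[A] M))) :=
      (ModuleCat.mono_iff_injective _).2 hf
    refine (ModuleCat.mono_iff_injective ((CohIII.TFun P q).map
      (ModuleCat.ofHom (f • (LinearMap.id : M →ₗ[A] M))))).1 inferInstance ?_
    exact (Groth.Agent.FlatCxLib.map_smul_id P q M f a).trans
      (hab.trans (Groth.Agent.FlatCxLib.map_smul_id P q M f b).symm)
  refine ⟨key, fun hA => ⟨fun {c x} hcx => ?_⟩⟩
  by_cases hc : c = 0
  · exact Or.inl hc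
  · exact Or.inr (key (ModuleCat.of A A) c (mul_right_injective₀ hc) (hcx.trans (smul_zero c).symm))

end Groth.Agent.S4491
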