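import Groth.Statements.S4496
import Groth.Agent.Lib.FlatCx.Exact
-- import your own Groth.Agent.* helpers here

set_option autoImplicit false
universe u
open FlatCx

namespace Groth.Agent.S4496

open CategoryTheory CategoryTheory.Limits MonoidalCategory in
/-- For the homological functor T_p(M) = H_p(P ⊗_A M) of a chain complex P of flat modules over a
commutative ring A: T_p takes injections to injections and surjections to surjections if and only if
T_p is isomorphic to the functor M ↦ N ⊗_A M for some flat A-module N (which is then isomorphic to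
T_p(A)). -/
theorem result {A : Type u} [CommRing A]
    (P : ChainComplex (ModuleCat.{u} A) ℤ) (hP : ∀ i, Module.Flat A (P.X i)) (p : ℤ) :
    ((CohIII.TFun P p).PreservesMonomorphisms ∧ (CohIII.TFun P p).PreservesEpimorphisms) ↔
      ∃ N : ModuleCat.{u} A, Module.Flat A N ∧ Nonempty (CohIII.TFun P p ≅ tensorLeft N) := by
  have := hP
  refine ⟨fun h => ?_, fun ⟨N, hN, ⟨e⟩⟩ => ⟨?_, Groth.Agent.FlatCxLib.preservesEpi_of_iso P p e⟩⟩
  · obtain ⟨he, hf⟩ := (Groth.Agent.FlatCxLib.exact_iff_epi_and_flat P p).1 h
    exact ⟨_, hf, ⟨Groth.Agent.FlatCxLib.isoTensorLeft P p he⟩⟩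
  · have := (Groth.Agent.FlatCxLib.preservesMono_tensorLeft_iff N).2 hN
    exact Functor.PreservesMonomorphisms.of_iso e.symm

end Groth.Agent.S4496
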