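import Groth.Statements.S4498
import Groth.Agent.Lib.CBC10.Corep0

set_option autoImplicit false
universe u
attribute [local instance] HasDerivedCategory.standard
open Coherent

namespace Groth.Agent.S4498

open AlgebraicGeometry CategoryTheory Opposite in
/-- The global form over an affine base. Let A be a Noetherian ring, X a proper A-scheme with structure
morphism f, and F, F' coherent O_X-modules flat over Spec A. Let η be a natural transformation from
the functor M ↦ Γ(X, f^*(M~) ⊗ F) to the functor M ↦ Γ(X, f^*(M~) ⊗ F') of the A-module M (the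
published statement takes η induced by a homomorphism F → F'; this row allows any natural
transformation, which is all the argument uses). Then the kernel functor M ↦ Ker(η_M) is
corepresentable by a finitely generated A-module R: there are such an R and a natural transformation
ι : Hom_A(R, −) → Γ(X, f^*(−~) ⊗ F) with injective components whose image at every M is exactly the
kernel of η_M. (R is then unique up to unique isomorphism.) -/
theorem result (A : Type u) [CommRing A]
    [IsNoetherianRing A] (X : Scheme.{u}) [X.Over (Spec (CommRingCat.of A))]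
    [IsProper (X ↘ Spec (CommRingCat.of A))] (F F' : X.Modules) (hF : Coh.IsCoh F) (hF' : Coh.IsCoh F')
    (hfl : FlatMod.IsFlatOver (X ↘ Spec (CommRingCat.of A)) F)
    (hfl' : FlatMod.IsFlatOver (X ↘ Spec (CommRingCat.of A)) F')
    (η : CohIII.tensorAFunctor A F ⋙ CohIII.globalSectionsA A ⟶ CohIII.tensorAFunctor A F' ⋙ CohIII.globalSectionsA A) :
    ∃ (R : ModuleCat.{u} A) (ι : (linearCoyoneda A (ModuleCat.{u} A)).obj (op R) ⟶
        CohIII.tensorAFunctor A F ⋙ CohIII.globalSectionsA A),
      Module.Finite A R ∧ (∀ M : ModuleCat.{u} A, Function.Injective (ι.app M).hom) ∧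
        ∀ (M : ModuleCat.{u} A) (x : (CohIII.tensorAFunctor A F ⋙ CohIII.globalSectionsA A).obj M),
          (η.app M).hom x = 0 ↔ ∃ y, (ι.app M).hom y = x := by
  obtain ⟨Q, hQ, ⟨e⟩⟩ := Groth.Agent.CBC10.exists_corep0 A F hF hfl
  obtain ⟨Q', hQ', ⟨e'⟩⟩ := Groth.Agent.CBC10.exists_corep0 A F' hF' hfl'
  let θ := e.inv ≫ η ≫ e'.hom
  let φ : Q' ⟶ Q := (θ.app Q).hom (show ((linearCoyoneda A (ModuleCat.{u} A)).obj (op Q)).obj Q from 𝟙 Q)
  have hθ : ∀ (M : ModuleCat.{u} A) (g : Q ⟶ M), (θ.app M).hom g = φ ≫ g := fun M g => by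
    refine Eq.trans ?_ (ConcreteCategory.congr_hom (θ.naturality g)
      (show ((linearCoyoneda A (ModuleCat.{u} A)).obj (op Q)).obj Q from 𝟙 Q))
    exact congrArg (θ.app M).hom (Category.id_comp g).symm
  let π : Q ⟶ ModuleCat.of A (Q ⧸ LinearMap.range φ.hom) := ModuleCat.ofHom (LinearMap.range φ.hom).mkQ
  let ι := (linearCoyoneda A (ModuleCat.{u} A)).map π.op ≫ e.inv
  haveI := hQ
  have hι : ∀ (M : ModuleCat.{u} A) (y : ((linearCoyoneda A (ModuleCat.{u} A)).obj
      (op (ModuleCat.of A (Q ⧸ LinearMap.range φ.hom)))).obj M), (ι.app M).hom y = (e.inv.app M).hom (π ≫ y) :=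
    fun M y => rfl
  have hinj : ∀ M : ModuleCat.{u} A, Function.Injective (e.inv.app M).hom := fun M =>
    (e.app M).symm.toLinearEquiv.injective
  refine ⟨ModuleCat.of A (Q ⧸ LinearMap.range φ.hom), ι, inferInstance, fun M y y' h => ?_, fun M x => ?_⟩
  · rw [hι, hι] at h
    exact ModuleCat.hom_ext (Submodule.linearMap_qext _ (congrArg ModuleCat.Hom.hom (hinj M h)))
  · let g : Q ⟶ M := (e.hom.app M).hom x
    have hx : (e.inv.app M).hom g = x := (e.app M).toLinearEquiv.symm_apply_apply x
    have hkey : (e'.hom.app M).hom ((η.app M).hom x) = φ ≫ g := by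
      rw [← hθ M g, ← hx]
      rfl
    constructor
    · intro h0
      rw [h0, map_zero] at hkey
      have hle : LinearMap.range φ.hom ≤ LinearMap.ker g.hom := by
        rintro _ ⟨z, rfl⟩
        exact LinearMap.congr_fun (congrArg ModuleCat.Hom.hom hkey.symm) z
      refine ⟨ModuleCat.ofHom ((LinearMap.range φ.hom).liftQ g.hom hle), (hι M _).trans (Eq.trans ?_ hx)⟩
      exact congrArg (e.inv.app M).hom (ModuleCat.hom_ext (Submodule.liftQ_mkQ _ _ _))
    · rintro ⟨y, hy⟩
      have hg : g = π ≫ y := by
        apply hinj M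
        rw [hx, ← hy, hι]
      have h0 : φ ≫ g = 0 := by
        rw [hg, ← Category.assoc, show φ ≫ π = 0 from ModuleCat.hom_ext (LinearMap.ext fun z =>
          (Submodule.Quotient.mk_eq_zero _).2 ⟨z, rfl⟩), CategoryTheory.Limits.zero_comp]
      apply (e'.app M).toLinearEquiv.injective
      refine hkey.trans (h0.trans ?_)
      exact (map_zero _).symm


end Groth.Agent.S4498
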