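import Groth.Statements.S4499
import Groth.Agent.Lib.TorFlatPres27.Two
-- import your own Groth.Agent.* helpers here

set_option autoImplicit false
universe u
attribute [local instance] HasDerivedCategory.standard
open FlatCx

namespace Groth.Agent.S4499

/-- Let A be a Noetherian local ring with residue field k, and d : P₁ → P₀ an A-linear map between flat
A-modules, viewed as a two-term chain complex, so that H₁ = Ker d, H₀ = Coker d and H₁ of the
complex tensored with k is Ker(d ⊗ 1_k). Let α : (Ker d) ⊗_A k → P₁ ⊗_A k be the map induced by the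
inclusion Ker d → P₁; its image lies in Ker(d ⊗ 1_k). Then there is an exact sequence 0 →
Tor₂^A(Coker d, k) → (Ker d) ⊗_A k → Ker(d ⊗ 1_k) → Tor₁^A(Coker d, k) → 0 with middle map α, stated
here as: Ker α is isomorphic to Tor₂^A(Coker d, k), and the quotient of Ker(d ⊗ 1_k) by the image of
α is isomorphic to Tor₁^A(Coker d, k) (existence of A-linear isomorphisms only; Tor is Mathlib's,
left derived in the second variable). (In the published statement the cokernel is printed without
its prime, as the module of 0-cycles; the proof is about the cokernel of d.) -/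
theorem result {A : Type u} [CommRing A] [IsNoetherianRing A]
    [IsLocalRing A] {P₁ P₀ : Type u} [AddCommGroup P₁] [Module A P₁] [AddCommGroup P₀] [Module A P₀]
    [Module.Flat A P₁] [Module.Flat A P₀] (d : P₁ →ₗ[A] P₀) :
    Nonempty (LinearMap.ker ((LinearMap.ker d).subtype.rTensor (IsLocalRing.ResidueField A)) ≃ₗ[A]
        DRing.Tor A 2 (P₀ ⧸ LinearMap.range d) (IsLocalRing.ResidueField A)) ∧
      LinearMap.range ((LinearMap.ker d).subtype.rTensor (IsLocalRing.ResidueField A)) ≤
        LinearMap.ker (d.rTensor (IsLocalRing.ResidueField A)) ∧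
      Nonempty ((↥(LinearMap.ker (d.rTensor (IsLocalRing.ResidueField A))) ⧸
          Submodule.comap (LinearMap.ker (d.rTensor (IsLocalRing.ResidueField A))).subtype
            (LinearMap.range ((LinearMap.ker d).subtype.rTensor (IsLocalRing.ResidueField A)))) ≃ₗ[A]
        DRing.Tor A 1 (P₀ ⧸ LinearMap.range d) (IsLocalRing.ResidueField A)) := by
  exact ⟨Groth.Agent.TorFlatPres27.nonempty_ker_equiv_tor_two d _, Groth.Agent.TorFlatPres27.range_le_ker d _, Groth.Agent.TorFlatPres27.nonempty_quotient_equiv_tor_one d _⟩

end Groth.Agent.S4499
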