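import Groth.Statements.S4500
import Groth.Agent.Lib.CBC10.CorepHom

set_option autoImplicit false
universe u
attribute [local instance] HasDerivedCategory.standard
open Coherent

namespace Groth.Agent.S4500

open AlgebraicGeometry CategoryTheory CategoryTheory.Limits Opposite in
/-- The global form over an affine base. Let A be a Noetherian ring, X a proper A-scheme with structure
morphism f, F a coherent O_X-module flat over Spec A, and G an O_X-module admitting a presentation
E₁ → E₀ → G → 0 with E₀, E₁ finite locally free O_X-modules. Then there are a finitely generated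
A-module N and an isomorphism of functors of the A-module M between Hom_{O_X}(G, f^*(M~) ⊗ F) and
Hom_A(N, M) (as abelian-group-valued functors). (N is then unique up to unique isomorphism.) -/
theorem result (A : Type u) [CommRing A] [IsNoetherianRing A]
    (X : Scheme.{u}) [X.Over (Spec (CommRingCat.of A))] [IsProper (X ↘ Spec (CommRingCat.of A))]
    (F : X.Modules) (hF : Coh.IsCoh F) (hfl : FlatMod.IsFlatOver (X ↘ Spec (CommRingCat.of A)) F)
    (G E₀ E₁ : X.Modules) (h₀ : FlatMod.IsFinLocFree E₀) (h₁ : FlatMod.IsFinLocFree E₁)
    (v : E₁ ⟶ E₀) (π : E₀ ⟶ G) [Epi π] (w : v ≫ π = 0) (hex : (ShortComplex.mk v π w).Exact) :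
    ∃ N : ModuleCat.{u} A, Module.Finite A N ∧
      Nonempty (CohIII.tensorAFunctor A F ⋙ preadditiveCoyoneda.obj (op G) ≅
        (linearCoyoneda A (ModuleCat.{u} A)).obj (op N) ⋙ forget₂ (ModuleCat.{u} A) AddCommGrpCat.{u}) := Groth.Agent.CBC10.exists_corepHom_of_presentation A F hF hfl G E₀ E₁ h₀ h₁ v π w hex


end Groth.Agent.S4500
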