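import Groth.Statements.S4508
import Groth.Agent.Lib.CBC10.FieldBC

set_option autoImplicit false
universe u
open Coherent

namespace Groth.Agent.S4508

open AlgebraicGeometry CategoryTheory CategoryTheory.Limits in
/-- For a single sheaf placed in degree 0 (the published statement is for a finite complex of such
sheaves). Let Y and Y' be locally Noetherian schemes, f : X ⟶ Y proper, g : Y' ⟶ Y any morphism, F a
coherent O_X-module flat over Y; let X' = X ×_Y Y' with projections f' : X' ⟶ Y' and X' ⟶ X, and F'
the pullback of F to X'. Then F' is flat over Y', and for every point y' of Y' the Euler–Poincaré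
characteristic of the fibre, Σ_i (−1)^i dim_{k(y')} H^i(X'_{y'}, F'_{y'}), equals Σ_i (−1)^i
dim_{k(g(y'))} H^i(X_{g(y')}, F_{g(y')}). -/
theorem result {X Y Y' : Scheme.{u}} (f : X ⟶ Y) (g : Y' ⟶ Y) [IsProper f]
    [IsLocallyNoetherian Y] [IsLocallyNoetherian Y'] (F : X.Modules) (hF : Coh.IsCoh F)
    (hfl : FlatMod.IsFlatOver f F) :
    FlatMod.IsFlatOver (pullback.snd f g) ((Scheme.Modules.pullback (pullback.fst f g)).obj F) ∧
      ∀ y' : Y', PerfAux.eulerChar (pullback.snd f g) ((Scheme.Modules.pullback (pullback.fst f g)).obj F) y' =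
        PerfAux.eulerChar f F (g.base y') := by
  haveI := hF.1
  refine ⟨fun x' => Groth.Agent.FlatH4.isFlatOverAt_baseChange (IsPullback.of_hasPullback f g) F x' (hfl _),
    fun y' => finsum_congr fun i => congrArg (fun n : ℕ => (-1 : ℤ) ^ i * (n : ℤ)) ?_⟩
  exact Groth.Agent.CBC10.fiberRank_baseChange g hF hfl y' i

end Groth.Agent.S4508
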