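import Groth.Statements.S4510
import Groth.Agent.Lib.SteinSurj5.Local

set_option autoImplicit false
universe u
attribute [local instance] HasDerivedCategory.standard
open Coherent

namespace Groth.Agent.S4510

open AlgebraicGeometry CategoryTheory CategoryTheory.Limits in
/-- Over a local base (so that the point y is the closed point and cohomological flatness at y is
exactness of T^A_0). Let A be a Noetherian local ring with maximal ideal m, X a proper and flat
A-scheme with structure morphism f, y the closed point of Spec A (the point whose prime ideal is m),
and suppose that the ring of global functions Γ(X_y, O_{X_y}) of the closed fibre is an étale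
k(y)-algebra (a finite product of finite separable extensions of k(y)). Then O_X is cohomologically
flat over Spec A in degree 0: the functor M ↦ H^0(X, f^*(M~) ⊗ O_X) of the A-module M takes
injections to injections and surjections to surjections. -/
theorem result (A : Type u) [CommRing A]
    [IsNoetherianRing A] [IsLocalRing A] (X : Scheme.{u}) [X.Over (Spec (CommRingCat.of A))]
    [IsProper (X ↘ Spec (CommRingCat.of A))] [Flat (X ↘ Spec (CommRingCat.of A))]
    (y : ↥(Spec (CommRingCat.of A))) (hy : y.asIdeal = IsLocalRing.maximalIdeal A)
    (het : Algebra.Etale ((Spec (CommRingCat.of A)).residueField y)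
      Γ((X ↘ Spec (CommRingCat.of A)).fiber y, ⊤)) :
    (CohIII.tensorAFunctor A (Coh.structureModule X) ⋙ CohIII.HAb X 0).PreservesMonomorphisms ∧
      (CohIII.tensorAFunctor A (Coh.structureModule X) ⋙ CohIII.HAb X 0).PreservesEpimorphisms := by
  exact SteinSurj5.preserves_TX_zero A X y hy het

end Groth.Agent.S4510
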