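import Groth.Statements.S4511
import Groth.Agent.Lib.AdicSmooth3.CohenSmall

set_option autoImplicit false
universe u
open EGA41

namespace Groth.Agent.S4511

open IsLocalRing in
/-- Let A be a complete Noetherian local ring whose residue field has characteristic p (p = 0 allowed).
The following are equivalent: (a) A contains a field, i.e. there is a ring homomorphism from a field
into A; (b) p·1 = 0 in A; (c) A is isomorphic to a quotient of a power series ring K[[T_1, …, T_n]]
over a field K. Moreover, when they hold, the surjection in (c) may be chosen with kernel contained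
in the square of the maximal ideal of K[[T_1, …, T_n]]. -/
theorem result (A : Type u) [CommRing A] [IsLocalRing A] [IsNoetherianRing A]
    [IsAdicComplete (maximalIdeal A) A] (p : ℕ) [CharP (ResidueField A) p] :
    [∃ (K : Type u) (_ : Field K), Nonempty (K →+* A),
     (p : A) = 0,
     ∃ (K : Type u) (_ : Field K) (n : ℕ) (f : MvPowerSeries (Fin n) K →+* A), Function.Surjective f].TFAE ∧
    ((p : A) = 0 → ∃ (K : Type u) (_ : Field K) (n : ℕ) (f : MvPowerSeries (Fin n) K →+* A),
      Function.Surjective f ∧ RingHom.ker f ≤ maximalIdeal (MvPowerSeries (Fin n) K) ^ 2) := by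
  classical
  have hpm : (p : A) ∈ maximalIdeal A := by
    rw [← residue_eq_zero_iff, map_natCast]; exact CharP.cast_eq_zero _ p
  have h32 : (∃ (K : Type u) (_ : Field K) (n : ℕ) (f : MvPowerSeries (Fin n) K →+* A), Function.Surjective f) →
      ∃ (K : Type u) (_ : Field K), Nonempty (K →+* A) := by
    rintro ⟨K, iK, n, f, -⟩
    exact ⟨K, iK, ⟨f.comp MvPowerSeries.C⟩⟩
  have h12 : (∃ (K : Type u) (_ : Field K), Nonempty (K →+* A)) → (p : A) = 0 := by
    rintro ⟨K, iK, ⟨g⟩⟩
    by_contra hne
    have hK : (p : K) ≠ 0 := fun h => hne (by rw [← map_natCast g, h, map_zero])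
    have := (IsUnit.mk0 (p : K) hK).map g
    rw [map_natCast] at this
    exact hpm this
  have h23 : (p : A) = 0 → ∃ (K : Type u) (_ : Field K) (n : ℕ) (f : MvPowerSeries (Fin n) K →+* A),
      Function.Surjective f ∧ RingHom.ker f ≤ maximalIdeal (MvPowerSeries (Fin n) K) ^ 2 := by
    intro hp0
    obtain ⟨g, hg⟩ : ∃ g : ResidueField A →+* A, ∀ x, residue A (g x) = x := by
      have hI : (Cohen.Filt.ofAdic (maximalIdeal A)).I 1 = RingHom.ker (residue A) := by
        rw [ker_residue]; exact pow_one _
      rcases CharP.char_is_prime_or_zero (ResidueField A) p with hp | hp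
      · haveI : Fact p.Prime := ⟨hp⟩
        obtain ⟨W, i1, i2, f, -, hmax, hk, hs⟩ := Cohen.exists_cohen_map (p := p) _ (residue A) residue_surjective hI
        let e : ResidueField W ≃+* ResidueField A :=
          (Ideal.quotEquivOfEq hk.symm).trans (RingHom.quotientKerEquivOfSurjective hs)
        let f' : ResidueField W →+* A := Ideal.Quotient.lift _ f fun w hw => by
          rw [hmax, Ideal.mem_span_singleton'] at hw
          obtain ⟨c, rfl⟩ := hw
          rw [map_mul, map_natCast, hp0, mul_zero]
        refine ⟨f'.comp e.symm.toRingHom, fun x => ?_⟩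
        obtain ⟨w, hw⟩ := residue_surjective (R := W) (e.symm x)
        show residue A (f' (e.symm x)) = x
        rw [← hw]
        have h2 : e (residue W w) = residue A (f w) := rfl
        rw [show f' (residue W w) = f w from rfl, ← h2, hw, RingEquiv.apply_symm_apply]
      · subst hp
        haveI : CharZero (ResidueField A) := CharP.charP_to_charZero _
        exact Cohen.exists_lift_charZero _ (residue A) residue_surjective hI
    letI : Algebra (ResidueField A) A := g.toAlgebra
    have hfg : (maximalIdeal A).FG := IsNoetherian.noetherian _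
    obtain ⟨s, hs, hspan⟩ := Submodule.FG.exists_span_finset_card_eq_spanFinrank hfg
    let z : Fin s.card → A := fun i => (s.equivFin.symm i : A)
    have hz : Set.range z = (s : Set A) := by
      ext x
      constructor
      · rintro ⟨i, rfl⟩; exact Subtype.property _
      · intro hx
        exact ⟨s.equivFin ⟨x, hx⟩, by simp [z]⟩
    obtain ⟨ψ, hψ⟩ := H2Alg.PSHom.exists_algHom (A := ResidueField A) (maximalIdeal A) z fun i =>
      hspan.le (Submodule.subset_span (hz.le (Set.mem_range_self i)))
    have hV : (H2Alg.PSHom.V s.card (ResidueField A)).map ψ = maximalIdeal A := by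
      rw [H2Alg.PSHom.V, Ideal.map_span, ← Set.range_comp, show (ψ ∘ fun i => MvPowerSeries.X i) = z from funext hψ, hz]
      exact hspan
    have hsurj : Function.Surjective ψ := H2Alg.PSHom.surjective ψ (maximalIdeal A) hV fun t =>
      ⟨residue A t, by
        rw [← residue_eq_zero_iff, map_sub, RingHom.algebraMap_toAlgebra, hg, sub_self]⟩
    refine ⟨ResidueField A, inferInstance, s.card, ψ.toRingHom, hsurj, fun x hx => ?_⟩
    haveI := H2Alg.PSHom.isRegularLocalRing (ResidueField A) s.card
    by_contra hx2
    have hxm : x ∈ maximalIdeal (MvPowerSeries (Fin s.card) (ResidueField A)) := le_maximalIdeal (RingHom.ker_ne_top _) hx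
    obtain ⟨hreg, hrk⟩ := RegLoc.quotient_span_singleton hxm hx2
    haveI := hreg
    let φ : MvPowerSeries (Fin s.card) (ResidueField A) ⧸ Ideal.span {x} →+* A := Ideal.Quotient.lift _ ψ.toRingHom
      fun y hy => RingHom.mem_ker.mp ((Ideal.span_singleton_le_iff_mem _).mpr hx hy)
    have hφ : Function.Surjective φ := fun a => by
      obtain ⟨r, rfl⟩ := hsurj a
      exact ⟨Ideal.Quotient.mk _ r, rfl⟩
    haveI := IsLocalHom.of_surjective φ hφ
    have h1 : (maximalIdeal A).spanFinrank ≤
        (maximalIdeal (MvPowerSeries (Fin s.card) (ResidueField A) ⧸ Ideal.span {x})).spanFinrank := by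
      rw [← map_maximalIdeal_of_surjective φ hφ]
      exact Ideal.spanFinrank_map_le_of_fg φ (IsNoetherian.noetherian _)
    have h2 := H2Alg.PSHom.spanFinrank_le (ResidueField A) s.card
    omega
  refine ⟨?_, h23⟩
  tfae_have 1 → 2 := h12
  tfae_have 2 → 3 := fun h => by
    obtain ⟨K, iK, n, f, hf, -⟩ := h23 h
    exact ⟨K, iK, n, f, hf⟩
  tfae_have 3 → 1 := h32
  tfae_finish

end Groth.Agent.S4511
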