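import Groth.Statements.S4513
import Groth.Agent.Lib.Sep.Basic
import Groth.Agent.Lib.AdicSmooth.Jacobian

set_option autoImplicit false
universe u
open EGA41

namespace Groth.Agent.S4513

open IsLocalRing in
/-- Let A be a Noetherian local ring and k a field mapping to A such that A is formally smooth over k
for the adic topology of its maximal ideal (k discrete). Then every field K with k → K → A
(compatible ring maps) is a separable extension of k, i.e. K is geometrically reduced over k. -/
theorem result {k A K : Type u} [Field k] [CommRing A]
    [IsLocalRing A] [IsNoetherianRing A] [Algebra k A] (h : CAlgX.IsAdicFormallySmooth k A (maximalIdeal A))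
    [Field K] [Algebra k K] [Algebra K A] [IsScalarTower k K A] :
    Algebra.IsGeometricallyReduced k K := by
  rw [← Sep.formallySmooth_iff_isGeometricallyReduced k K, Sep.formallySmooth_iff_injective k K,
    Sep.injective_iff_derivation_extends k K]
  intro D
  let ι : K →+* ResidueField A := (residue A).comp (algebraMap K A)
  haveI : IsScalarTower k K (ResidueField A) := IsScalarTower.of_algebraMap_eq fun a => by
    rw [IsScalarTower.algebraMap_apply k A (ResidueField A), IsScalarTower.algebraMap_apply k K A,
      ← IsScalarTower.algebraMap_apply K A (ResidueField A)]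
  let e : Derivation ℤ k (ResidueField A) :=
    Derivation.mk' (((Algebra.linearMap K (ResidueField A)).restrictScalars ℤ) ∘ₗ (D.toLinearMap.restrictScalars ℤ))
      (fun a b => by simp [Derivation.leibniz, Algebra.smul_def, ← IsScalarTower.algebraMap_apply k K (ResidueField A)])
  letI : Module (A ⧸ maximalIdeal A) (ResidueField A) := (Semiring.toModule : Module (ResidueField A) (ResidueField A))
  haveI : IsScalarTower A (A ⧸ maximalIdeal A) (ResidueField A) :=
    inferInstanceAs (IsScalarTower A (ResidueField A) (ResidueField A))
  obtain ⟨d, hd⟩ := AdicSmooth.exists_extension (M := ResidueField A) (maximalIdeal A) h e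
  obtain ⟨π, hπ⟩ := LinearMap.exists_leftInverse_of_injective (Algebra.linearMap K (ResidueField A))
    (LinearMap.ker_eq_bot.mpr (algebraMap K (ResidueField A)).injective)
  refine ⟨Derivation.mk' ((π.restrictScalars ℤ) ∘ₗ
    (AddMonoidHom.toIntLinearMap { toFun := fun x : K => (d (algebraMap K A x) : ResidueField A), map_zero' := by simp, map_add' := fun x y => by simp }))
    (fun a b => ?_), fun a => ?_⟩
  · show π (d (algebraMap K A (a * b))) = a • π (d (algebraMap K A b)) + b • π (d (algebraMap K A a))
    rw [map_mul, Derivation.leibniz, ← map_smul π, ← map_smul π, ← map_add π]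
    congr 1
    rw [algebraMap_smul, algebraMap_smul]
  · show π (d (algebraMap K A (algebraMap k K a))) = D a
    rw [← IsScalarTower.algebraMap_apply k K A, hd a]
    exact LinearMap.congr_fun hπ (D a)

end Groth.Agent.S4513
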