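import Groth.Statements.S4515
import Mathlib.RingTheory.Flat.EquationalCriterion
import Mathlib.RingTheory.AdicCompletion.Basic

set_option autoImplicit false
universe u
open EGA41

namespace Groth.Agent.S4515

theorem exists_limit {A : Type u} [CommRing A] {I : Ideal A} {N : Type u} [AddCommGroup N] [Module A N]
    [IsPrecomplete I N] (f : ℕ → N) (h : ∀ n, f (n + 1) - f n ∈ (I ^ n • ⊤ : Submodule A N)) :
    ∃ L : N, ∀ n, f n - L ∈ (I ^ n • ⊤ : Submodule A N) := by
  have hf : ∀ {m n}, m ≤ n → f m ≡ f n [SMOD (I ^ m • ⊤ : Submodule A N)] := fun {m n} hmn => by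
    induction hmn with
    | refl => rfl
    | @step k hk ih =>
      refine ih.trans (SModEq.sub_mem.2 ?_)
      rw [← neg_sub, neg_mem_iff]
      exact Submodule.smul_mono_left (Ideal.pow_le_pow_right hk) (h k)
  obtain ⟨L, hL⟩ := IsPrecomplete.prec ‹_› hf
  exact ⟨L, fun n => SModEq.sub_mem.1 (hL n)⟩

/-- Let A be a ring, J an ideal of A, and M, N two A-modules which are Hausdorff for the J-adic
topology; suppose moreover that N is J-adically complete and M is flat. Let u : N → M be A-linear.
If the induced map N/JN → M/JM is bijective (surjectivity and injectivity written out below), then u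
is bijective. -/
theorem result {A : Type u} [CommRing A] (J : Ideal A)
    {M N : Type u} [AddCommGroup M] [Module A M] [AddCommGroup N] [Module A N]
    [IsHausdorff J M] [IsAdicComplete J N] [Module.Flat A M] (u : N →ₗ[A] M)
    (hsurj : ∀ m : M, ∃ n : N, m - u n ∈ (J • ⊤ : Submodule A M))
    (hinj : ∀ n : N, u n ∈ (J • ⊤ : Submodule A M) → n ∈ (J • ⊤ : Submodule A N)) :
    Function.Bijective u := by
  have hmap : ∀ k, (J ^ k • ⊤ : Submodule A N).map u ≤ J ^ k • ⊤ := fun k => by
    rw [Submodule.map_smul'']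
    exact Submodule.smul_mono le_rfl le_top
  have step : ∀ k, ∀ m ∈ (J ^ k • ⊤ : Submodule A M),
      ∃ w ∈ (J ^ k • ⊤ : Submodule A N), m - u w ∈ (J ^ (k + 1) • ⊤ : Submodule A M) := fun k m hm => by
    refine Submodule.smul_induction_on hm (fun r hr x _ => ?_) fun x y ⟨w, hw, hw'⟩ ⟨z, hz, hz'⟩ => ?_
    · obtain ⟨n, hn⟩ := hsurj x
      refine ⟨r • n, Submodule.smul_mem_smul hr trivial, ?_⟩
      rw [map_smul, ← smul_sub, pow_succ, mul_smul]
      exact Submodule.smul_mem_smul hr hn
    · refine ⟨w + z, add_mem hw hz, ?_⟩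
      rw [map_add, add_sub_add_comm]
      exact add_mem hw' hz'
  have surj : Function.Surjective u := fun m => by
    choose W hW hW' using step
    let f : ∀ k : ℕ, {x : N // m - u x ∈ (J ^ k • ⊤ : Submodule A M)} := fun k =>
      Nat.rec ⟨0, by simp⟩ (fun k p => ⟨p.1 + W k _ p.2, by rw [map_add, ← sub_sub]; exact hW' k _ p.2⟩) k
    obtain ⟨L, hL⟩ := exists_limit (I := J) (fun k => (f k).1) fun k => by
      change (f k).1 + W k _ (f k).2 - (f k).1 ∈ _
      rw [add_sub_cancel_left]
      exact hW k _ (f k).2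
    refine ⟨L, (sub_eq_zero.1 (IsHausdorff.haus' (I := J) (m - u L) fun k => ?_)).symm⟩
    rw [SModEq.zero, ← sub_add_sub_cancel m (u (f k).1) (u L), ← map_sub]
    exact add_mem (f k).2 (hmap k ⟨_, hL k, rfl⟩)
  refine ⟨?_, surj⟩
  rw [injective_iff_map_eq_zero]
  intro x hx
  refine IsHausdorff.haus' (I := J) x fun k => ?_
  rw [SModEq.zero]
  induction k with
  | zero => simp
  | succ k ih =>
    obtain ⟨s, a, n, hsum, ha⟩ : ∃ (s : ℕ) (a : Fin s → A) (n : Fin s → N),
        x = ∑ i, a i • n i ∧ ∀ i, a i ∈ J ^ k := by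
      refine Submodule.smul_induction_on ih (fun r hr y _ => ⟨1, fun _ => r, fun _ => y, by simp, fun _ => hr⟩)
        fun y z ⟨s, a, n, e, ha⟩ ⟨t, b, p, e', hb⟩ => ⟨s + t, Fin.append a b, Fin.append n p, ?_, ?_⟩
      · rw [Fin.sum_univ_add]
        simp [e, e']
      · exact fun i => Fin.addCases (fun i => by simpa using ha i) (fun i => by simpa using hb i) i
    have h0 : ∑ i, a i • u (n i) = 0 := by
      simpa [hsum, map_sum, map_smul] using hx
    obtain ⟨t, b, y, hy, hab⟩ := Module.Flat.iff_forall_isTrivialRelation.1 ‹_› h0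
    choose z hz using fun j => surj (y j)
    have hker : ∀ i, n i - ∑ j, b i j • z j ∈ (J • ⊤ : Submodule A N) := fun i => hinj _ (by
      rw [map_sub, map_sum]
      simp only [map_smul, hz, ← hy i, sub_self]
      exact zero_mem _)
    have e : x = ∑ i, a i • (n i - ∑ j, b i j • z j) := by
      simp only [smul_sub, Finset.sum_sub_distrib, ← hsum, Finset.smul_sum, smul_smul]
      rw [Finset.sum_comm, Finset.sum_eq_zero fun j _ => ?_, sub_zero]
      rw [← Finset.sum_smul, hab j, zero_smul]
    rw [e, pow_succ, mul_smul]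
    exact sum_mem fun i _ => Submodule.smul_mem_smul (ha i) (hker i)

end Groth.Agent.S4515
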