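import Groth.Statements.S4517
import Groth.Agent.Lib.PBasis.Over

set_option autoImplicit false
universe u
open EGA41

namespace Groth.Agent.S4517

/-- Let p be a prime, B an A-algebra of characteristic p, and suppose there is s ≥ 0 such that b^(p^s)
lies in the image of A for every b ∈ B. Then the kernel of the multiplication map B ⊗_A B → B is a
nil ideal. -/
theorem result (p : ℕ) [Fact p.Prime] {A B : Type u}
    [CommRing A] [CommRing B] [Algebra A B] [CharP B p] (s : ℕ)
    (hpow : ∀ b : B, b ^ p ^ s ∈ Set.range (algebraMap A B)) :
    ∀ x ∈ KaehlerDifferential.ideal A B, IsNilpotent x := by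
  exact PBasis.isNilpotent_of_mem_ideal p s hpow

end Groth.Agent.S4517
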