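import Groth.Statements.S4518
import Groth.Agent.Lib.PBasis.Over

set_option autoImplicit false
universe u
open EGA41

namespace Groth.Agent.S4518

section
variable (p : ℕ) [Fact p.Prime] {A C B : Type u} [CommRing A] [CommRing C]
    [CommRing B] [Algebra A C] [Algebra C B] [Algebra A B] [IsScalarTower A C B] {ι κ : Type u}

theorem map_mem_pPower {c : C} (hc : c ∈ EGA41.pPowerSubalgebra p A C) :
    algebraMap C B c ∈ EGA41.pPowerSubalgebra p A B := by
  induction hc using Algebra.adjoin_induction with
  | mem w hw =>
    obtain ⟨d, rfl⟩ := hw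
    exact Algebra.subset_adjoin ⟨algebraMap C B d, (map_pow _ _ _).symm⟩
  | algebraMap r => rw [← IsScalarTower.algebraMap_apply A C B]; exact Subalgebra.algebraMap_mem _ r
  | add u v _ _ hu hv => rw [map_add]; exact add_mem hu hv
  | mul u v _ _ hu hv => rw [map_mul]; exact mul_mem hu hv

theorem generating_tower [CharP B p] (hpow : ∀ b : B, b ^ p ∈ Set.range (algebraMap A B)) (x : ι → C) (y : κ → B)
    (hx : EGA41.IsPGenerating p A x) (hy : EGA41.IsPGenerating p C y) :
    EGA41.IsPGenerating p A (Sum.elim (fun i => algebraMap C B (x i)) y) := by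
  rw [← PBasis.isPGenerating_iff_adjoin p] at hx hy ⊢
  have hC : ∀ c : C, algebraMap C B c ∈
      Algebra.adjoin (EGA41.pPowerSubalgebra p A B) (Set.range (Sum.elim (fun i => algebraMap C B (x i)) y)) := by
    intro c
    have hc : c ∈ Algebra.adjoin (EGA41.pPowerSubalgebra p A C) (Set.range x) := hx ▸ Algebra.mem_top
    induction hc using Algebra.adjoin_induction with
    | mem w hw => obtain ⟨i, rfl⟩ := hw; exact Algebra.subset_adjoin ⟨Sum.inl i, rfl⟩
    | algebraMap r => exact Subalgebra.algebraMap_mem _ (⟨_, map_mem_pPower p r.2⟩ : EGA41.pPowerSubalgebra p A B)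
    | add u v _ _ hu hv => rw [map_add]; exact add_mem hu hv
    | mul u v _ _ hu hv => rw [map_mul]; exact mul_mem hu hv
  rw [eq_top_iff]
  rintro b -
  have hb : b ∈ Algebra.adjoin (EGA41.pPowerSubalgebra p C B) (Set.range y) := hy ▸ Algebra.mem_top
  induction hb using Algebra.adjoin_induction with
  | mem w hw => obtain ⟨i, rfl⟩ := hw; exact Algebra.subset_adjoin ⟨Sum.inr i, rfl⟩
  | algebraMap r =>
    obtain ⟨r, hr⟩ := r
    show r ∈ _
    induction hr using Algebra.adjoin_induction with
    | mem w hw =>
      obtain ⟨d, rfl⟩ := hw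
      exact Subalgebra.algebraMap_mem _ (⟨_, Algebra.subset_adjoin ⟨d, rfl⟩⟩ : EGA41.pPowerSubalgebra p A B)
    | algebraMap c => exact hC c
    | add u v _ _ hu hv => exact add_mem hu hv
    | mul u v _ _ hu hv => exact mul_mem hu hv
  | add u v _ _ hu hv => exact add_mem hu hv
  | mul u v _ _ hu hv => exact mul_mem hu hv

theorem linearIndependent_transfer {R₁ R₂ M : Type u} [CommRing R₁] [CommRing R₂] [AddCommGroup M] [Module R₁ M]
    [Module R₂ M] (f : R₁ →+* R₂) (hf : Function.Bijective f) (hsmul : ∀ r (m : M), f r • m = r • m) {n : Type u}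
    (v : n → M) : LinearIndependent R₁ v ↔ LinearIndependent R₂ v := by
  rw [linearIndependent_iff', linearIndependent_iff']
  refine ⟨fun h s g hg i hi => ?_, fun h s g hg i hi => ?_⟩
  · choose g' hg' using fun j => hf.2 (g j)
    have := h s g' (by rw [← hg]; exact Finset.sum_congr rfl fun j _ => by rw [← hsmul, hg']) i hi
    rw [← hg' i, this, map_zero]
  · exact hf.1 ((h s (fun j => f (g j)) (by simpa [hsmul] using hg) i hi).trans (map_zero f).symm)

theorem independent_tower [CharP B p] (hinj : Function.Injective (algebraMap C B))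
    (hpow : ∀ b : B, b ^ p ∈ Set.range (algebraMap A B)) (x : ι → C) (y : κ → B) (hx : EGA41.IsPBasis p A x) :
    EGA41.IsPIndependent p C y ↔
      EGA41.IsPIndependent p A (Sum.elim (fun i => algebraMap C B (x i)) y) := by
  let A0 := EGA41.pPowerSubalgebra p A C
  let SA := EGA41.pPowerSubalgebra p A B
  let SC := EGA41.pPowerSubalgebra p C B
  have hpowC : ∀ b : B, b ^ p ∈ Set.range (algebraMap C B) := fun b => by
    obtain ⟨a, ha⟩ := hpow b
    exact ⟨algebraMap A C a, by rw [← IsScalarTower.algebraMap_apply A C B, ha]⟩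
  let fC : C →+* SC := (algebraMap C B).codRestrict SC.toSubring fun c => SC.algebraMap_mem c
  have hfC : Function.Bijective fC := ⟨fun a b h => hinj (congrArg Subtype.val h), fun s => by
    obtain ⟨c, hc⟩ := PBasis.mem_range_of_mem_pPower p hpowC s.2
    exact ⟨c, Subtype.ext hc⟩⟩
  let fA : A0 →+* SA := ((algebraMap C B).comp A0.val.toRingHom).codRestrict SA.toSubring fun c => map_mem_pPower p (C := C) (c := (c : C)) c.2
  have hfA : Function.Bijective fA := ⟨fun a b h => Subtype.ext (hinj (congrArg Subtype.val h)), fun s => by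
    obtain ⟨a, ha⟩ := PBasis.mem_range_of_mem_pPower p hpow s.2
    exact ⟨⟨algebraMap A C a, A0.algebraMap_mem a⟩, Subtype.ext (by
      show algebraMap C B (algebraMap A C a) = _
      rw [← IsScalarTower.algebraMap_apply A C B, ha])⟩⟩
  unfold EGA41.IsPIndependent
  rw [← linearIndependent_transfer fC hfC (fun r m => (Algebra.smul_def r m).symm) (M := B),
    ← linearIndependent_transfer fA hfA (fun r m => (Algebra.smul_def (r : C) m).symm) (M := B)]
  let eqv : ({e : ι →₀ ℕ // ∀ i, e i < p} × {e : κ →₀ ℕ // ∀ i, e i < p}) ≃ {e : ι ⊕ κ →₀ ℕ // ∀ i, e i < p} :=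
    { toFun := fun e => ⟨Finsupp.sumFinsuppEquivProdFinsupp.symm (e.1.1, e.2.1), fun i => by
        cases i with
        | inl i => simpa using e.1.2 i
        | inr i => simpa using e.2.2 i⟩
      invFun := fun e => (⟨(Finsupp.sumFinsuppEquivProdFinsupp e.1).1, fun i => by simpa using e.2 (Sum.inl i)⟩,
        ⟨(Finsupp.sumFinsuppEquivProdFinsupp e.1).2, fun i => by simpa using e.2 (Sum.inr i)⟩)
      left_inv := fun e => by simp
      right_inv := fun e => by simp }
  have hmon : (fun e => EGA41.pMonomial (Sum.elim (fun i => algebraMap C B (x i)) y) (eqv e).1) =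
      fun e : {e : ι →₀ ℕ // ∀ i, e i < p} × {e : κ →₀ ℕ // ∀ i, e i < p} =>
        EGA41.pMonomial x e.1.1 • EGA41.pMonomial y e.2.1 := funext fun e => by
    rw [Algebra.smul_def]
    simp [eqv, EGA41.pMonomial, map_finsuppProd, map_pow, Finsupp.sumFinsuppEquivProdFinsupp_symm_apply,
      Finsupp.prod_sumElim, Function.comp_def]
  rw [← linearIndependent_equiv' eqv (f := fun e : {e : ι ⊕ κ →₀ ℕ // ∀ i, e i < p} =>
    EGA41.pMonomial (Sum.elim (fun i => algebraMap C B (x i)) y) e.1) hmon]
  let bx := Module.Basis.mk hx.1 hx.2.ge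
  refine ⟨fun h => linearIndependent_smul hx.1 h, fun h => linearIndependent_iff.mpr fun l hl => ?_⟩
  have key : Finsupp.linearCombination A0
      (fun e : {e : ι →₀ ℕ // ∀ i, e i < p} × {e : κ →₀ ℕ // ∀ i, e i < p} =>
        EGA41.pMonomial x e.1.1 • EGA41.pMonomial y e.2.1)
      (l.sum fun f c => (bx.repr c).mapDomain fun e => (e, f)) = 0 := by
    rw [← hl, Finsupp.linearCombination_apply (R := C), map_finsuppSum]
    refine Finsupp.sum_congr fun f _ => ?_
    rw [Finsupp.linearCombination_mapDomain]
    conv_rhs => rw [← bx.linearCombination_repr (l f)]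
    simp only [Finsupp.linearCombination_apply, Finsupp.sum, Finset.sum_smul, Function.comp_apply, smul_assoc,
      bx, Module.Basis.mk_apply]
  have h0 := linearIndependent_iff.mp h _ key
  ext f
  refine bx.repr.injective ?_
  ext e
  have := DFunLike.congr_fun h0 (e, f)
  rw [Finsupp.sum_apply, Finsupp.sum_eq_single f] at this
  · rw [Finsupp.mapDomain_apply (fun a b h => (Prod.mk.injEq _ _ _ _ ▸ h).1)] at this
    rw [Finsupp.zero_apply, map_zero, Finsupp.zero_apply]
    exact congrArg Subtype.val this
  · intro g _ hg
    rw [Finsupp.mapDomain_of_notMem_range]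
    rintro ⟨e', he'⟩
    exact hg (congrArg Prod.snd he')
  · simp

end

/-- Let p be a prime and A → C → B rings of characteristic p with C → B injective and every p-th power
of B in the image of A (so, identifying, B^p ⊆ A ⊆ C ⊆ B up to replacing A by its image); let x be a
family of elements of C and y a family of elements of B. (i) If x is a system of p-generators of C
over A and y one of B over C, then the family obtained by putting x (viewed in B) and y together is
a system of p-generators of B over A. (ii) If x is a p-basis of C over A, then y is p-independent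
over C if and only if the combined family is p-independent over A. (The published statement only
asks B^p ⊆ C and reduces to B^p ⊆ A by enlarging A to A[B^p]; but p-independence of x in C over A
refers to A[C^p], which can be smaller than A[B^p] — for A = 𝔽_p, C = 𝔽_p(t^p) ⊂ B = 𝔽_p(t), x =
(t^p), y = (t), x is a p-basis of C over A and y is p-independent over C while (t^p, t) is not
p-independent over A — so this row assumes B^p ⊆ A, the case the published proof treats.) -/
theorem result (p : ℕ) [Fact p.Prime] {A C B : Type u} [CommRing A] [CommRing C]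
    [CommRing B] [Algebra A C] [Algebra C B] [Algebra A B] [IsScalarTower A C B] [CharP B p]
    (hinj : Function.Injective (algebraMap C B)) (hpow : ∀ b : B, b ^ p ∈ Set.range (algebraMap A B))
    {ι κ : Type u} (x : ι → C) (y : κ → B) :
    (EGA41.IsPGenerating p A x → EGA41.IsPGenerating p C y →
      EGA41.IsPGenerating p A (Sum.elim (fun i => algebraMap C B (x i)) y)) ∧
    (EGA41.IsPBasis p A x →
      (EGA41.IsPIndependent p C y ↔ EGA41.IsPIndependent p A (Sum.elim (fun i => algebraMap C B (x i)) y))) := by
  refine ⟨generating_tower p hpow x y, fun hx => ?_⟩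
  exact independent_tower p hinj hpow x y hx

end Groth.Agent.S4518
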