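import Groth.Statements.S4520
import Groth.Agent.Lib.Imperf4.PBasisImperf

set_option autoImplicit false
universe u
open EGA41

namespace Groth.Agent.S4520

open Groth.Agent

open TensorProduct in
/-- Let p be a prime, B a reduced ring of characteristic p, A a subring with B^p ⊆ A ⊆ B (here A → B
injective with all p-th powers in its image, and R → A → B with image in B the set of p-th powers, R
standing for B^p). Suppose B has a p-basis (x_λ) over A and A has a p-basis over R, and let x'_λ ∈ A
map to x_λ^p. Then the elements 1 ⊗ d_{A/ℤ}(x'_λ) form a basis of the B-module Υ_{B/A}, the kernel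
of B ⊗_A Ω_{A/ℤ} → Ω_{B/ℤ}. (The published statement also identifies Υ_{B/A} with the Frobenius
twist of Ω_{B/A}; this row states only the basis.) -/
theorem result (p : ℕ) [Fact p.Prime] {R A B : Type u} [CommRing R] [CommRing A]
    [CommRing B] [IsReduced B] [Algebra R A] [Algebra A B] [Algebra R B] [IsScalarTower R A B] [CharP B p]
    (hinj : Function.Injective (algebraMap A B)) (hpow : ∀ b : B, b ^ p ∈ Set.range (algebraMap A B))
    (hR : Set.range (algebraMap R B) = Set.range fun b : B => b ^ p)
    {Λ M : Type u} (x : Λ → B) (hx : EGA41.IsPBasis p A x) (x' : Λ → A) (hx' : ∀ i, algebraMap A B (x' i) = x i ^ p)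
    (y : M → A) (hy : EGA41.IsPBasis p R y) :
    ∃ b : Module.Basis Λ B (EGA41.imperfection ℤ A B),
      ∀ i, (b i : B ⊗[A] Ω[A⁄ℤ]) = (1 : B) ⊗ₜ[A] KaehlerDifferential.D ℤ A (x' i) := by
  classical
  have hli := PBasis.linearIndependent_of_isPBasis p hinj x hx
  obtain ⟨b₀, hb₀⟩ := PBasis.exists_kaehler_basis p x x' (fun i => (hx' i).symm) hli (PBasis.span_of_isPBasis p hpow x hx.2)
  choose δ hδ using fun i => Imperf4.exists_dual_derivation p hinj hR x x' hx' y hy ((b₀.coord i).compDer (KaehlerDifferential.D A B))
  exact Imperf4.exists_basis_imperfection p hinj hpow x hx x' hx' δ fun i j => by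
    rw [hδ]
    show (b₀.coord i (KaehlerDifferential.D A B (x j))) ^ p = _
    rw [← hb₀, Module.Basis.coord_apply, Module.Basis.repr_self, Finsupp.single_apply]
    by_cases h : i = j
    · rw [if_pos h, if_pos h.symm, one_pow]
    · rw [if_neg h, if_neg (Ne.symm h), zero_pow (Fact.out : p.Prime).ne_zero]

end Groth.Agent.S4520
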