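import Groth.Statements.S4522
import Groth.Agent.Lib.PBasis.Field
import Mathlib.LinearAlgebra.TensorProduct.Basis
import Mathlib.RingTheory.TensorProduct.Free

set_option autoImplicit false
universe u
open EGA41

namespace Groth.Agent.S4522

/-- Let L be a field of characteristic p > 0 and K a subfield with L^p ⊆ K ⊆ L (here R → K → L with the
image of R in L the set of p-th powers and every p-th power of L in the image of K). Then the
canonical L-linear map L ⊗_K Ω_{K/L^p} → Ω_{L/L^p} is injective, so that 0 → Ω_{K/L^p} ⊗_K L →
Ω_{L/L^p} → Ω_{L/K} → 0 is exact: the imperfection module of L over K relative to L^p vanishes. -/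
theorem result (p : ℕ) [Fact p.Prime] {R K L : Type u} [Field R] [Field K] [Field L]
    [Algebra R K] [Algebra K L] [Algebra R L] [IsScalarTower R K L] [CharP L p]
    (hR : Set.range (algebraMap R L) = Set.range fun y : L => y ^ p)
    (hK : ∀ y : L, y ^ p ∈ Set.range (algebraMap K L)) :
    Function.Injective (KaehlerDifferential.mapBaseChange R K L) := by
  classical
  haveI : CharP K p := (RingHom.charP_iff (algebraMap K L) (algebraMap K L).injective p).mpr inferInstance
  obtain ⟨t, ht, htspan, htli⟩ := exists_linearIndependent K (Set.range (KaehlerDifferential.D R K))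
  have ht2 : ⊤ ≤ Submodule.span K (Set.range (Subtype.val : t → Ω[K⁄R])) := by
    rw [Subtype.range_coe, htspan, KaehlerDifferential.span_range_derivation]
  let b := Module.Basis.mk htli ht2
  choose y hy using fun i : t => ht i.2
  let x : t → L := fun i => algebraMap K L (y i)
  let P : Subfield L := (algebraMap R L).fieldRange
  have hP : ∀ z : L, z ^ p ∈ P := fun z => (hR ▸ ⟨z, rfl⟩ : z ^ p ∈ Set.range (algebraMap R L))
  have hx : ∀ a, x a ∉ PBasis.adjS P (x '' {c | c ≠ a}) := by
    intro a ha
    let φ := algebraMap K L
    have hle : PBasis.adjS P (x '' {c | c ≠ a}) ≤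
        (PBasis.adjS (algebraMap R K).fieldRange (y '' {c | c ≠ a})).map φ := by
      refine PBasis.adjS_le ?_ ?_
      · rintro _ ⟨r, rfl⟩
        exact ⟨algebraMap R K r, PBasis.le_adjS _ _ ⟨r, rfl⟩, (IsScalarTower.algebraMap_apply R K L r).symm⟩
      · rintro _ ⟨c, hc, rfl⟩
        exact ⟨y c, PBasis.subset_adjS _ _ ⟨c, hc, rfl⟩, rfl⟩
    obtain ⟨w, hw, hwa⟩ := hle ha
    let d : Derivation R K K := (b.coord a).compDer (KaehlerDifferential.D R K)
    have hdy : ∀ c, d (y c) = if c = a then 1 else 0 := fun c => by
      show b.coord a (KaehlerDifferential.D R K (y c)) = _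
      rw [hy c, show (c : Ω[K⁄R]) = b c from (Module.Basis.mk_apply _ _ c).symm, Module.Basis.coord_apply,
        Module.Basis.repr_self, Finsupp.single_apply]
    let d' : Derivation (algebraMap R K).fieldRange K K :=
      { toFun := d
        map_add' := map_add d
        map_smul' := fun c z => by
          obtain ⟨r, hr⟩ := c.2
          show d ((c : K) * z) = (c : K) * d z
          rw [Derivation.leibniz, ← hr, Derivation.map_algebraMap, smul_zero, add_zero, smul_eq_mul]
        map_one_eq_zero' := d.map_one_eq_zero
        leibniz' := d.leibniz }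
    have h0 : d w = 0 := PBasis.D_eq_zero_of_mem_closure d' (by
      rintro _ ⟨c, hc, rfl⟩
      show d (y c) = 0
      rw [hdy, if_neg (by exact hc)]) hw
    rw [φ.injective hwa, hdy, if_pos rfl] at h0
    exact one_ne_zero h0
  have hli := (PBasis.linearIndependent_D_iff p P hP x).mpr hx
  let d2 : Derivation P L Ω[L⁄R] :=
    { toFun := KaehlerDifferential.D R L
      map_add' := map_add _
      map_smul' := fun c z => by
        obtain ⟨r, hr⟩ := c.2
        show KaehlerDifferential.D R L ((c : L) * z) = (c : L) • KaehlerDifferential.D R L z
        rw [Derivation.leibniz, ← hr, Derivation.map_algebraMap, smul_zero, add_zero]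
      map_one_eq_zero' := Derivation.map_one_eq_zero _
      leibniz' := Derivation.leibniz _ }
  let d3 : Derivation R L Ω[L⁄P] :=
    { toFun := KaehlerDifferential.D P L
      map_add' := map_add _
      map_smul' := fun r z => by
        show KaehlerDifferential.D P L (r • z) = r • KaehlerDifferential.D P L z
        rw [Algebra.smul_def, Derivation.leibniz, show KaehlerDifferential.D P L (algebraMap R L r) = 0 from
          (KaehlerDifferential.D P L).map_algebraMap ⟨_, r, rfl⟩, smul_zero, add_zero, algebraMap_smul]
      map_one_eq_zero' := Derivation.map_one_eq_zero _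
      leibniz' := Derivation.leibniz _ }
  refine (injective_iff_map_eq_zero _).mpr fun w hw => ?_
  let bL := b.baseChange L
  have h2 := congrArg d3.liftKaehlerDifferential hw
  rw [map_zero, ← bL.linearCombination_repr w, Finsupp.linearCombination_apply, map_finsuppSum, map_finsuppSum] at h2
  have hbL : ∀ i, d3.liftKaehlerDifferential (KaehlerDifferential.mapBaseChange R K L (bL i)) =
      KaehlerDifferential.D P L (x i) := fun i => by
    rw [show bL i = (1 : L) ⊗ₜ[K] b i from Module.Basis.baseChange_apply L b i,
      show b i = KaehlerDifferential.D R K (y i) from (Module.Basis.mk_apply _ _ i).trans (hy i).symm,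
      KaehlerDifferential.mapBaseChange_tmul, one_smul, KaehlerDifferential.map_D]
    exact Derivation.liftKaehlerDifferential_comp_D d3 _
  simp only [map_smul, hbL] at h2
  have h3 := linearIndependent_iff.mp hli (bL.repr w) (by rw [Finsupp.linearCombination_apply]; exact h2)
  exact bL.repr.map_eq_zero_iff.mp h3

end Groth.Agent.S4522
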