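import Groth.Statements.S4524
import Groth.Agent.Lib.AdicSmooth.FieldFS
import Mathlib.RingTheory.Kaehler.JacobiZariski
import Mathlib.RingTheory.Unramified.Field
import Mathlib.RingTheory.Flat.FaithfullyFlat.Basic
import Mathlib.FieldTheory.IntermediateField.Adjoin.Basic

set_option autoImplicit false
universe u
open EGA41

namespace Groth.Agent.S4524

open scoped TensorProduct

/-- Let k be a field of characteristic 0 and K an extension of k. Then Ω_{K/k} = 0 if and only if K is
an algebraic extension of k. -/
theorem result {k K : Type u} [Field k] [CharZero k] [Field K] [Algebra k K] :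
    Subsingleton (Ω[K⁄k]) ↔ Algebra.IsAlgebraic k K := by
  constructor
  · intro h
    refine ⟨fun x => ?_⟩
    by_contra hx
    let L := IntermediateField.adjoin k {x}
    have : Algebra.FormallySmooth L K := Groth.Agent.FieldFS.formallySmooth_of_perfectField L K
    have : Algebra.EssFiniteType k L := by
      have : IntermediateField.FG L := IntermediateField.fg_adjoin_of_finite (Set.finite_singleton x)
      exact IntermediateField.essFiniteType_iff.2 this
    have hinj : Function.Injective (KaehlerDifferential.mapBaseChange k L K) := by
      have hex := Algebra.H1Cotangent.exact_δ_mapBaseChange k L K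
      rw [injective_iff_map_eq_zero]
      intro z hz
      obtain ⟨y, rfl⟩ := (hex z).1 hz
      rw [Subsingleton.elim y 0, map_zero]
    have hΩ : Subsingleton (Ω[L⁄k]) := by
      have h1 : Subsingleton (K ⊗[L] Ω[L⁄k]) := hinj.subsingleton
      exact (Module.FaithfullyFlat.subsingleton_tensorProduct_iff_right L K).1 h1
    have : Algebra.FormallyUnramified k L := ⟨hΩ⟩
    have hfin : Module.Finite k L := Algebra.FormallyUnramified.finite_of_free k L
    have := (IsIntegral.of_finite k (⟨x, IntermediateField.mem_adjoin_simple_self k x⟩ : L)).map (IntermediateField.val L)
    exact hx this.isAlgebraic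
  · intro h
    have : Algebra.IsSeparable k K := inferInstance
    have := Algebra.FormallyUnramified.of_isSeparable k K
    infer_instance

end Groth.Agent.S4524
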