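import Groth.Statements.S4526
import Groth.Agent.Lib.CartierEq3.Field
import Mathlib.LinearAlgebra.Dimension.Constructions

set_option autoImplicit false
universe u
open EGA41

namespace Groth.Agent.S4526

/-- Let k ⊆ K ⊆ L be three fields with L an extension of finite type of k. Then Ω_{L/k} and Ω_{K/k} are
finite-dimensional and rank_L Ω_{L/k} − rank_K Ω_{K/k} ≥ trdeg_K L. (The published statement also
gives the exact value trdeg_K L + d(L/K, k) and an equality criterion; this row states only the
inequality.) -/
theorem result {k K L : Type u} [Field k] [Field K] [Field L]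
    [Algebra k K] [Algebra K L] [Algebra k L] [IsScalarTower k K L] [Algebra.EssFiniteType k L] :
    Module.Finite L (Ω[L⁄k]) ∧ Module.Finite K (Ω[K⁄k]) ∧
      (Cardinal.toNat (Algebra.trdeg K L) : ℤ) ≤ (Module.finrank L (Ω[L⁄k]) : ℤ) - Module.finrank K (Ω[K⁄k]) := by
  haveI : Algebra.EssFiniteType K L := Algebra.EssFiniteType.of_comp k K L
  obtain ⟨hΩ, hU, hle⟩ := CartierEq3.imperfection_ineq k K L
  obtain ⟨hL, -, -⟩ := CartierEq3.imperfection_ineq k k L
  haveI := hΩ
  haveI := hL
  haveI hker : Module.Finite L (LinearMap.ker (KaehlerDifferential.mapBaseChange k K L)) := hU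
  haveI hK : Module.Finite L (TensorProduct K L Ω[K⁄k]) := by
    constructor
    refine Submodule.fg_of_fg_map_of_fg_inf_ker (KaehlerDifferential.mapBaseChange k K L) ?_ ?_
    · exact IsNoetherian.noetherian _
    · rw [top_inf_eq]; exact Module.Finite.iff_fg.mp hker
  have hrank := Module.rank_baseChange (R := L) (S := K) (M' := Ω[K⁄k])
  try rw [Cardinal.lift_id] at hrank
  haveI : Module.Finite K Ω[K⁄k] :=
    Module.rank_lt_aleph0_iff.mp (hrank ▸ Module.rank_lt_aleph0_iff.mpr hK)
  refine ⟨hL, inferInstance, ?_⟩
  have r1 := (KaehlerDifferential.mapBaseChange k K L).finrank_range_add_finrank_ker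
  have r2 := (KaehlerDifferential.map k K L L).finrank_range_add_finrank_ker
  rw [LinearMap.range_eq_top.mpr (KaehlerDifferential.map_surjective k K L), finrank_top,
    (KaehlerDifferential.exact_mapBaseChange_map k K L).linearMap_ker_eq] at r2
  rw [Module.finrank_baseChange] at r1
  have r3 : Module.finrank L (EGA41.imperfection k K L) =
      Module.finrank L (LinearMap.ker (KaehlerDifferential.mapBaseChange k K L)) := rfl
  omega

end Groth.Agent.S4526
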