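import Groth.Statements.S4529
import Mathlib.RingTheory.Nakayama
import Mathlib.RingTheory.Nilpotent.Basic
import Mathlib.RingTheory.OrzechProperty
import Mathlib.RingTheory.FiniteType
import Mathlib.Algebra.Module.Projective

set_option autoImplicit false
universe u
open EGA41

namespace Groth.Agent.S4529

/-- Let A be a ring, M, N two A-modules with N projective, u : M → N a homomorphism and J an ideal of A;
suppose either (i) J is nilpotent, or (ii) J is contained in the Jacobson radical of A and M is of
finite type. Then u is left invertible if and only if the induced map u₀ : M/JM → N/JN is left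
invertible. (A left inverse of u₀ composed with N → N/JN is an A-linear map v : N → M/JM with v ∘ u
the projection, and conversely; the right-hand side is written in that form.) -/
theorem result {A : Type u} [CommRing A] {M N : Type u} [AddCommGroup M] [Module A M]
    [AddCommGroup N] [Module A N] [Module.Projective A N] (u : M →ₗ[A] N) (J : Ideal A)
    (hJ : IsNilpotent J ∨ (J ≤ (⊥ : Ideal A).jacobson ∧ Module.Finite A M)) :
    (∃ w : N →ₗ[A] M, w ∘ₗ u = LinearMap.id) ↔
      ∃ v : N →ₗ[A] M ⧸ (J • ⊤ : Submodule A M), v ∘ₗ u = (J • ⊤ : Submodule A M).mkQ := by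
  constructor
  · rintro ⟨w, hw⟩
    exact ⟨(J • ⊤ : Submodule A M).mkQ ∘ₗ w, by rw [LinearMap.comp_assoc, hw, LinearMap.comp_id]⟩
  · rintro ⟨v, hv⟩
    obtain ⟨w, hw⟩ := Module.projective_lifting_property (J • ⊤ : Submodule A M).mkQ v (Submodule.mkQ_surjective _)
    let e : M →ₗ[A] M := w ∘ₗ u
    have he : ∀ m, m - e m ∈ (J • ⊤ : Submodule A M) := fun m => by
      rw [← Submodule.Quotient.eq]
      have h1 := LinearMap.congr_fun hv m
      have h2 := LinearMap.congr_fun hw (u m)
      simp only [LinearMap.comp_apply, Submodule.mkQ_apply] at h1 h2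
      exact h1.symm.trans h2.symm
    have hbij : Function.Bijective e := by
      rcases hJ with ⟨n, hn⟩ | ⟨hle, hfin⟩
      · have hd : ∀ k, ∀ m, ((1 - e : Module.End A M) ^ k) m ∈ (J ^ k • ⊤ : Submodule A M) := fun k => by
          induction k with
          | zero => intro m; simp
          | succ k ih =>
            intro m
            rw [pow_succ' (1 - e : Module.End A M), Module.End.mul_apply]
            have hmap : (J ^ k • ⊤ : Submodule A M).map (1 - e : Module.End A M) ≤ J ^ (k + 1) • ⊤ := by
              rw [Submodule.map_smul'', pow_succ J, mul_smul]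
              refine Submodule.smul_mono le_rfl ?_
              rintro _ ⟨y, -, rfl⟩
              exact he y
            exact hmap ⟨_, ih m, rfl⟩
        have hnil : IsNilpotent (1 - e : Module.End A M) := ⟨n, LinearMap.ext fun m => by
          have h1 := hd n m
          rw [hn, Submodule.zero_eq_bot, Submodule.bot_smul, Submodule.mem_bot] at h1
          rw [h1, LinearMap.zero_apply]⟩
        have := IsNilpotent.isUnit_one_sub hnil
        rw [sub_sub_cancel] at this
        exact (Module.End.isUnit_iff e).1 this
      · refine OrzechProperty.bijective_of_surjective_endomorphism e (LinearMap.range_eq_top.1 ?_)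
        refine eq_top_iff.2 (Submodule.le_of_le_smul_of_le_jacobson_bot (Module.Finite.fg_top) hle fun m _ => ?_)
        rw [← sub_add_cancel m (e m), add_comm]
        exact Submodule.add_mem_sup ⟨m, rfl⟩ (he m)
    let E := LinearEquiv.ofBijective e hbij
    exact ⟨E.symm.toLinearMap ∘ₗ w, LinearMap.ext fun m => E.symm_apply_eq.2 rfl⟩

end Groth.Agent.S4529
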