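import Groth.Statements.S4530
import Groth.Agent.Lib.LeftInv.Basic
import Mathlib.RingTheory.Spectrum.Prime.Topology
import Mathlib.Tactic.TFAE

set_option autoImplicit false
universe u
open EGA41

namespace Groth.Agent.S4530

open TensorProduct in
/-- Let A be a ring, M an A-module of finite type, N a projective A-module, u : M → N a homomorphism.
For a prime ideal 𝔭 the following are equivalent: (a) u_𝔭 : M_𝔭 → N_𝔭 is left invertible; (b) u ⊗ 1
: M ⊗ k(𝔭) → N ⊗ k(𝔭) is injective; (d) there is f ∉ 𝔭 with u_f : M_f → N_f left invertible.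
Moreover the set of such 𝔭 is open in Spec A. (The published statement also has a determinant
criterion (c); this row omits it.) -/
theorem result {A : Type u} [CommRing A] {M N : Type u} [AddCommGroup M] [Module A M]
    [Module.Finite A M] [AddCommGroup N] [Module A N] [Module.Projective A N] (u : M →ₗ[A] N) :
    (∀ p : PrimeSpectrum A,
      [∃ w : LocalizedModule p.asIdeal.primeCompl N →ₗ[A] LocalizedModule p.asIdeal.primeCompl M,
          w ∘ₗ LocalizedModule.map p.asIdeal.primeCompl u = LinearMap.id,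
       Function.Injective (u.lTensor p.asIdeal.ResidueField),
       ∃ f : A, f ∉ p.asIdeal ∧
          ∃ w : LocalizedModule (Submonoid.powers f) N →ₗ[A] LocalizedModule (Submonoid.powers f) M,
            w ∘ₗ LocalizedModule.map (Submonoid.powers f) u = LinearMap.id].TFAE) ∧
    IsOpen {p : PrimeSpectrum A |
      ∃ w : LocalizedModule p.asIdeal.primeCompl N →ₗ[A] LocalizedModule p.asIdeal.primeCompl M,
        w ∘ₗ LocalizedModule.map p.asIdeal.primeCompl u = LinearMap.id} := by
  constructor
  · intro p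
    tfae_have 1 ↔ 2 := (Groth.Agent.LeftInv.lInv_iff_localized u _).trans
      (Groth.Agent.LeftInv.lInv_iff_residue u p.asIdeal).symm
    tfae_have 1 → 3 := by
      intro h
      obtain ⟨w, t, ht, hw⟩ := (Groth.Agent.LeftInv.lInv_iff_localized u _).1 h
      exact ⟨t, ht, (Groth.Agent.LeftInv.lInv_iff_localized u _).2 ⟨w, t, Submonoid.mem_powers t, hw⟩⟩
    tfae_have 3 → 1 := by
      rintro ⟨f, hf, h⟩
      obtain ⟨w, t, ⟨k, rfl⟩, hw⟩ := (Groth.Agent.LeftInv.lInv_iff_localized u _).1 h
      exact (Groth.Agent.LeftInv.lInv_iff_localized u _).2 ⟨w, f ^ k, p.asIdeal.primeCompl.pow_mem hf k, hw⟩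
    tfae_finish
  · rw [isOpen_iff_forall_mem_open]
    intro p hp
    obtain ⟨w, t, ht, hw⟩ := (Groth.Agent.LeftInv.lInv_iff_localized u _).1 hp
    exact ⟨PrimeSpectrum.basicOpen t, fun q hq => (Groth.Agent.LeftInv.lInv_iff_localized u _).2 ⟨w, t, hq, hw⟩,
      PrimeSpectrum.isOpen_basicOpen, ht⟩

end Groth.Agent.S4530
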