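import Groth.Statements.S4531
import Groth.Agent.Lib.LeftInv.Basic
import Mathlib.RingTheory.Flat.FaithfullyFlat.Basic

set_option autoImplicit false
universe u
open EGA41

namespace Groth.Agent.S4531

open TensorProduct in
/-- Let A be a ring, M an A-module of finite type, N a projective A-module and u : M → N a homomorphism.
(i) u is left invertible if and only if u_𝔪 : M_𝔪 → N_𝔪 is left invertible for every maximal ideal 𝔪
of A. (ii) If A' is an A-algebra which is a faithfully flat A-module, u is left invertible if and
only if u ⊗ 1 : M ⊗_A A' → N ⊗_A A' is left invertible (as an A'-linear map). -/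
theorem result {A : Type u} [CommRing A] {M N : Type u} [AddCommGroup M] [Module A M]
    [Module.Finite A M] [AddCommGroup N] [Module A N] [Module.Projective A N] (u : M →ₗ[A] N) :
    ((∃ w : N →ₗ[A] M, w ∘ₗ u = LinearMap.id) ↔
      ∀ (m : Ideal A) [m.IsMaximal],
        ∃ w : LocalizedModule m.primeCompl N →ₗ[A] LocalizedModule m.primeCompl M,
          w ∘ₗ LocalizedModule.map m.primeCompl u = LinearMap.id) ∧
    ∀ (A' : Type u) [CommRing A'] [Algebra A A'] [Module.FaithfullyFlat A A'],
      (∃ w : N →ₗ[A] M, w ∘ₗ u = LinearMap.id) ↔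
        ∃ w : A' ⊗[A] N →ₗ[A'] A' ⊗[A] M, w ∘ₗ u.baseChange A' = LinearMap.id := by
  refine ⟨⟨?_, fun h => ?_⟩, fun A' _ _ _ => ⟨?_, fun ⟨W, hW⟩ => ?_⟩⟩
  · rintro ⟨w, hw⟩ m _
    exact (Groth.Agent.LeftInv.lInv_iff_localized u _).2 ⟨w, 1, m.primeCompl.one_mem, by rw [hw, one_smul]⟩
  · exact Groth.Agent.LeftInv.exists_leftInverse_of_forall_maximal u fun m hm =>
      (Groth.Agent.LeftInv.lInv_iff_localized u _).1 (h m)
  · rintro ⟨w, hw⟩
    exact ⟨w.baseChange A', by rw [← LinearMap.baseChange_comp, hw, LinearMap.baseChange_id]⟩
  · refine Groth.Agent.LeftInv.exists_leftInverse_of_forall_maximal u fun m hm => ?_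
    rw [← Groth.Agent.LeftInv.lInv_iff_residue]
    refine (Module.FaithfullyFlat.lTensor_injective_iff_injective A A' _).1 ?_
    have hinj : Function.Injective ((u.baseChange A').restrictScalars A |>.lTensor m.ResidueField) := by
      intro x y hxy
      have h := congrArg ((W.restrictScalars A).lTensor m.ResidueField) hxy
      rwa [← LinearMap.comp_apply, ← LinearMap.comp_apply, ← LinearMap.lTensor_comp,
        ← LinearMap.restrictScalars_comp, hW, show (LinearMap.id : A' ⊗[A] M →ₗ[A'] A' ⊗[A] M).restrictScalars A =
          LinearMap.id from rfl, LinearMap.lTensor_id, LinearMap.id_apply, LinearMap.id_apply] at h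
    have e : (TensorProduct.leftComm A m.ResidueField A' N).toLinearMap ∘ₗ
        ((u.baseChange A').restrictScalars A).lTensor m.ResidueField =
        (u.lTensor m.ResidueField).lTensor A' ∘ₗ (TensorProduct.leftComm A m.ResidueField A' M).toLinearMap :=
      TensorProduct.ext' fun a z => by
        induction z with
        | zero => simp
        | add y z hy hz => rw [TensorProduct.tmul_add, map_add, hy, hz, map_add]
        | tmul b x => simp
    have h2 : Function.Injective ((u.lTensor m.ResidueField).lTensor A' ∘ₗ
        (TensorProduct.leftComm A m.ResidueField A' M).toLinearMap) := by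
      rw [← e, LinearMap.coe_comp]
      exact (LinearEquiv.injective _).comp hinj
    exact (Function.Injective.of_comp_iff' _ (LinearEquiv.bijective _)).1 h2

end Groth.Agent.S4531
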