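import Groth.Statements.S4536
import Groth.Agent.Lib.AdicSmooth.Basic

set_option autoImplicit false
universe u
open EGA41

namespace Groth.Agent.S4536

/-- Let A carry the 𝔞-adic and B the 𝔟-adic topology, A → B being continuous (a power of 𝔞 maps into 𝔟).
Then B is formally smooth over A if and only if for every n the (A/𝔞ⁿ)-algebra B/𝔞ⁿB, with the adic
topology of the image of 𝔟, is formally smooth over the discrete ring A/𝔞ⁿ. -/
theorem result {A B : Type u} [CommRing A] [CommRing B] [Algebra A B]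
    (𝔞 : Ideal A) (𝔟 : Ideal B) (hAB : ∃ k : ℕ, (𝔞 ^ k).map (algebraMap A B) ≤ 𝔟) :
    EGA41.IsFormallySmoothAdic A 𝔞 B 𝔟 ↔
      ∀ n : ℕ, EGA41.IsFormallySmoothAdic (A ⧸ 𝔞 ^ n) ⊥ (B ⧸ (𝔞 ^ n).map (algebraMap A B))
        (𝔟.map (Ideal.Quotient.mk ((𝔞 ^ n).map (algebraMap A B)))) := by
  constructor
  · intro h n C _ _ J hJ _ u hu
    letI : Algebra A C := ((algebraMap (A ⧸ 𝔞 ^ n) C).comp (algebraMap A (A ⧸ 𝔞 ^ n))).toAlgebra
    haveI : IsScalarTower A (A ⧸ 𝔞 ^ n) C := IsScalarTower.of_algebraMap_eq fun _ => rfl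
    have hC : (𝔞 ^ n).map (algebraMap A C) = ⊥ := by
      rw [IsScalarTower.algebraMap_eq A (A ⧸ 𝔞 ^ n) C, ← Ideal.map_map, Ideal.Quotient.algebraMap_eq,
        Ideal.map_quotient_self, Ideal.map_bot]
    let π := Ideal.Quotient.mkₐ A ((𝔞 ^ n).map (algebraMap A B))
    obtain ⟨k, hk⟩ := hu
    obtain ⟨v, hv⟩ := h C J hJ ⟨n, hC⟩ ((u.restrictScalars A).comp π) ⟨k, fun x hx => hk _ (by
      rw [← Ideal.map_pow]; exact Ideal.mem_map_of_mem _ hx)⟩
    have hker : ∀ x ∈ (𝔞 ^ n).map (algebraMap A B), v x = 0 := by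
      intro x hx
      have h2 : ((𝔞 ^ n).map (algebraMap A B)).map v.toRingHom = ⊥ := by
        rw [Ideal.map_map, ← hC]; congr 1; exact v.comp_algebraMap
      exact Ideal.mem_bot.1 (h2 ▸ Ideal.mem_map_of_mem v.toRingHom hx)
    let w := Ideal.Quotient.liftₐ _ v hker
    refine ⟨{ w.toRingHom with commutes' := fun a => ?_ }, AlgHom.ext fun x => ?_⟩
    · obtain ⟨a, rfl⟩ := Ideal.Quotient.mk_surjective a
      exact v.commutes a
    · obtain ⟨b, rfl⟩ := Ideal.Quotient.mk_surjective x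
      exact AlgHom.congr_fun hv b
  · intro h C _ _ J hJ hC u hu
    obtain ⟨n, hn⟩ := hC
    obtain ⟨k, hk⟩ := hu
    have hker : ∀ x ∈ 𝔞 ^ n, algebraMap A C x = 0 := fun x hx =>
      Ideal.mem_bot.1 (hn ▸ Ideal.mem_map_of_mem _ hx)
    letI : Algebra (A ⧸ 𝔞 ^ n) C := (Ideal.Quotient.lift (𝔞 ^ n) (algebraMap A C) hker).toAlgebra
    haveI : IsScalarTower A (A ⧸ 𝔞 ^ n) C := IsScalarTower.of_algebraMap_eq fun _ => rfl
    have hker' : ∀ x ∈ (𝔞 ^ n).map (algebraMap A B), u x = 0 := fun x hx => by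
      have h2 : ((𝔞 ^ n).map (algebraMap A B)).map u.toRingHom = ⊥ := by
        rw [Ideal.map_map, show u.toRingHom.comp (algebraMap A B) = algebraMap A (C ⧸ J) from u.comp_algebraMap,
          show algebraMap A (C ⧸ J) = (Ideal.Quotient.mk J).comp (algebraMap A C) from rfl,
          ← Ideal.map_map, hn, Ideal.map_bot]
      exact Ideal.mem_bot.1 (h2 ▸ Ideal.mem_map_of_mem u.toRingHom hx)
    let u' : (B ⧸ (𝔞 ^ n).map (algebraMap A B)) →ₐ[A ⧸ 𝔞 ^ n] C ⧸ J :=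
      { (Ideal.Quotient.liftₐ _ u hker').toRingHom with
        commutes' := fun a => by
          obtain ⟨a, rfl⟩ := Ideal.Quotient.mk_surjective a
          exact u.commutes a }
    obtain ⟨v, hv⟩ := h n C J hJ ⟨1, by simp⟩ u' ⟨k, fun x hx => by
      rw [← Ideal.map_pow, Ideal.mem_map_iff_of_surjective _ Ideal.Quotient.mk_surjective] at hx
      obtain ⟨y, hy, rfl⟩ := hx
      exact hk y hy⟩
    exact ⟨(v.restrictScalars A).comp (Ideal.Quotient.mkₐ A _), AlgHom.ext fun b =>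
      AlgHom.congr_fun hv (Ideal.Quotient.mk _ b)⟩

end Groth.Agent.S4536
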