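import Groth.Statements.S4539
import Mathlib
import Groth.Agent.Lib.Sep.Basic

set_option autoImplicit false
universe u
open EGA41

namespace Groth.Agent.S4539

open IsLocalRing in
/-- Let A be a local ring with residue characteristic p (p = 0 or a prime), P the prime local ring ℤ_(p)
(ℚ if p = 0) and P → A its unique local homomorphism. Then A is a Cohen ring, i.e. a Cohen P-algebra
— Noetherian and complete, flat over P, with pA its maximal ideal (and residue field separable over
the prime field) — if and only if A is a field of characteristic 0 or a complete discrete valuation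
ring of residue characteristic > 0 whose maximal ideal is generated by p·1. -/
theorem result (p : ℕ) [hp : (Ideal.span {(p : ℤ)}).IsPrime]
    {A : Type} [CommRing A] [IsLocalRing A] [CharP (ResidueField A) p]
    [Algebra (Localization.AtPrime (Ideal.span {(p : ℤ)})) A]
    [IsLocalHom (algebraMap (Localization.AtPrime (Ideal.span {(p : ℤ)})) A)] :
    EGA41.IsCohenAlgebra (Localization.AtPrime (Ideal.span {(p : ℤ)})) A ↔ EGA41.IsCohenRingEGA A := by
  classical
  set R := Localization.AtPrime (Ideal.span {(p : ℤ)}) with hR
  have hmR : maximalIdeal R = Ideal.span {(p : R)} := by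
    rw [← Localization.AtPrime.map_eq_maximalIdeal, Ideal.map_span, Set.image_singleton, map_natCast]
  have hmA : (maximalIdeal R).map (algebraMap R A) = Ideal.span {(p : A)} := by
    rw [hmR, Ideal.map_span, Set.image_singleton, map_natCast]
  have hgr : Algebra.IsGeometricallyReduced (ResidueField R) (ResidueField A) :=
    (Sep.formallySmooth_iff_isGeometricallyReduced _ _).mp (FieldFS.formallySmooth_of_perfectField _ _)
  have hp0 : p.Prime ∨ p = 0 := by
    rcases eq_or_ne p 0 with h | h
    · exact Or.inr h
    · exact Or.inl (Nat.prime_iff_prime_int.2 ((Ideal.span_singleton_prime (Nat.cast_ne_zero.2 h)).1 hp))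
  constructor
  · rintro ⟨-, hN, hC, hflat, hm, -⟩
    haveI := hN
    rw [hmA] at hm
    rcases hp0 with hpp | rfl
    · refine Or.inr ?_
      have hp0A : (p : A) ∈ nonZeroDivisors A := by
        have h0 : (p : R) ≠ 0 := by
          rw [← map_natCast (algebraMap ℤ R)]
          exact fun h => hpp.ne_zero (Nat.cast_eq_zero.1 ((IsLocalization.injective R (Ideal.span {(p : ℤ)}).primeCompl_le_nonZeroDivisors) (h.trans (map_zero _).symm)))
        have h1 : IsSMulRegular R (p : R) := (IsRegular.of_ne_zero h0).left
        have h2 : IsSMulRegular A (p : A) := by simpa using h1.of_flat (S := A)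
        refine mem_nonZeroDivisors_iff_right.2 fun x hx => h2 ?_
        simp only [smul_eq_mul, mul_zero]
        rw [mul_comm]; exact hx
      have hdec : ∀ x : A, x ≠ 0 → ∃ (n : ℕ) (u : A), IsUnit u ∧ x = (p : A) ^ n * u := by
        intro x hx
        have hne : ∃ n, x ∉ maximalIdeal A ^ n := by
          by_contra h
          simp only [not_exists, not_not] at h
          refine hx (Submodule.mem_bot A |>.1 ?_)
          rw [← Ideal.iInf_pow_eq_bot_of_isLocalRing (maximalIdeal A) (IsLocalRing.maximalIdeal.isMaximal A).ne_top]
          exact Submodule.mem_iInf _ |>.2 h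
        obtain ⟨m, hm'⟩ : ∃ m, Nat.find hne = m + 1 := Nat.exists_eq_succ_of_ne_zero fun h0 => by
          have := Nat.find_spec hne
          rw [h0, pow_zero, Ideal.one_eq_top] at this
          exact this trivial
        have h1 : x ∈ maximalIdeal A ^ m := not_not.1 (Nat.find_min hne (by omega))
        have h2 : x ∉ maximalIdeal A ^ (m + 1) := hm' ▸ Nat.find_spec hne
        rw [← hm, Ideal.span_singleton_pow, Ideal.mem_span_singleton] at h1 h2
        obtain ⟨u, rfl⟩ := h1
        refine ⟨m, u, by_contra fun hu => h2 ?_, rfl⟩
        have : u ∈ maximalIdeal A := hu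
        rw [← hm, Ideal.mem_span_singleton] at this
        rw [pow_succ]
        exact mul_dvd_mul_left _ this
      haveI : IsDomain A := by
        haveI : NoZeroDivisors A := ⟨fun {a b} hab => by
          by_contra hne
          obtain ⟨ha, hb⟩ := not_or.1 hne
          obtain ⟨n, u, hu, rfl⟩ := hdec a ha
          obtain ⟨m, v, hv, rfl⟩ := hdec b hb
          rw [mul_mul_mul_comm, ← pow_add, IsUnit.mul_left_eq_zero (hu.mul hv)] at hab
          exact nonZeroDivisors.ne_zero (pow_mem hp0A (n + m)) hab⟩
        exact NoZeroDivisors.to_isDomain A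
      have hpA : (p : A) ≠ 0 := nonZeroDivisors.ne_zero hp0A
      have hpprime : Prime (p : A) := (Ideal.span_singleton_prime hpA).1 (hm ▸ (IsLocalRing.maximalIdeal.isMaximal A).isPrime)
      haveI : IsDiscreteValuationRing A := IsDiscreteValuationRing.ofHasUnitMulPowIrreducibleFactorization
        ⟨p, hpprime.irreducible, fun {x} hx => by
          obtain ⟨n, u, hu, rfl⟩ := hdec x hx
          exact ⟨n, (associated_mul_isUnit_left_iff hu).2 (Associated.refl _) |>.symm⟩⟩
      exact ⟨inferInstance, inferInstance, hC, p, hpp, hm.symm⟩
    · refine Or.inl ⟨?_, ?_⟩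
      · refine IsLocalRing.isField_iff_maximalIdeal_eq.2 ?_
        rw [← hm, Nat.cast_zero, Ideal.span_singleton_eq_bot]
      · haveI : CharZero (ResidueField A) := CharP.charP_to_charZero _
        exact RingHom.charZero (IsLocalRing.residue A)
  · intro h
    rcases h with ⟨hF, hc⟩ | ⟨_, _, hC, q, hq, hm⟩
    · haveI := hc
      have hm0 : maximalIdeal A = ⊥ := IsLocalRing.isField_iff_maximalIdeal_eq.1 hF
      have hp : p = 0 := by
        have h := CharP.cast_eq_zero (ResidueField A) p
        rw [← map_natCast (residue A), residue_eq_zero_iff, hm0, Submodule.mem_bot] at h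
        exact_mod_cast h
      subst hp
      letI := hF.toField
      refine ⟨IsLocalization.isNoetherianRing (Ideal.span {((0:ℕ) : ℤ)}).primeCompl R inferInstance, inferInstance, ?_, ?_, ?_, hgr⟩
      · rw [hm0]; infer_instance
      · haveI : IsFractionRing ℤ R := by
          change IsLocalization _ R
          convert (inferInstance : IsLocalization (Ideal.span {((0:ℕ) : ℤ)}).primeCompl R) using 1
          ext x; simp [Ideal.primeCompl, mem_nonZeroDivisors_iff_ne_zero]
        letI := IsFractionRing.toField ℤ (K := R)
        infer_instance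
      · rw [hmA, hm0, Nat.cast_zero, Ideal.span_singleton_eq_bot]
    · have hqp : q = p := by
        have hq0 : (q : ResidueField A) = 0 := by
          rw [← map_natCast (residue A), residue_eq_zero_iff, hm]
          exact Ideal.subset_span rfl
        rw [CharP.cast_eq_zero_iff (ResidueField A) p] at hq0
        rcases hp0 with hpp | rfl
        · exact ((Nat.prime_dvd_prime_iff_eq hpp hq).1 hq0).symm
        · exact absurd (zero_dvd_iff.1 hq0) hq.ne_zero
      subst hqp
      refine ⟨IsLocalization.isNoetherianRing (Ideal.span {(q : ℤ)}).primeCompl R inferInstance, inferInstance, hC, ?_, hmA.trans hm.symm, hgr⟩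
      haveI : IsDomain R := IsLocalization.isDomain_localization (Ideal.span {(q : ℤ)}).primeCompl_le_nonZeroDivisors
      haveI : IsPrincipalIdealRing R := inferInstance
      rw [Module.Flat.flat_iff_torsion_eq_bot_of_isBezout, Submodule.eq_bot_iff]
      rintro x ⟨⟨a, ha⟩, hax⟩
      obtain ⟨z, s, rfl⟩ := IsLocalization.exists_mk'_eq (Ideal.span {(q : ℤ)}).primeCompl a
      have hz : z ≠ 0 := fun hz => nonZeroDivisors.ne_zero ha (by rw [hz, IsLocalization.mk'_zero])
      have h2 : algebraMap ℤ R z • x = 0 := by
        rw [← IsLocalization.mk'_spec R z s, mul_comm, mul_smul]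
        rw [Submonoid.mk_smul] at hax
        rw [hax, smul_zero]
      rw [Algebra.smul_def, eq_intCast, map_intCast] at h2
      refine (mul_eq_zero.1 h2).resolve_left ?_
      intro hz0
      obtain ⟨c, hc⟩ := CharP.exists A
      have hqne : (q : A) ≠ 0 := fun h0 => IsDiscreteValuationRing.not_a_field A (by rw [hm, h0, Ideal.span_singleton_eq_bot])
      rcases CharP.char_is_prime_or_zero A c with hcp | rfl
      · have : (c : ResidueField A) = 0 := by rw [← map_natCast (residue A), CharP.cast_eq_zero, map_zero]
        rw [CharP.cast_eq_zero_iff (ResidueField A) q, Nat.prime_dvd_prime_iff_eq hq hcp] at this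
        exact hqne (this ▸ CharP.cast_eq_zero A c)
      · haveI := CharP.charP_to_charZero A
        exact hz (Int.cast_eq_zero.1 hz0)

end Groth.Agent.S4539
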