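import Groth.Statements.S4540
import Groth.Agent.Lib.AdicSmooth.Kaehler
import Groth.Agent.S0582

set_option autoImplicit false
universe u
open EGA41

namespace Groth.Agent.S4540

open IsLocalRing TensorProduct in
/-- Let A, B be Noetherian local rings and A → B a local homomorphism making B a formally smooth
A-algebra for the adic topologies of the maximal ideals. Then for every ideal of definition 𝔟 of B,
the (B/𝔟)-module Ω_{B/A} ⊗_B (B/𝔟) is free. -/
theorem result {A B : Type u} [CommRing A] [IsLocalRing A]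
    [IsNoetherianRing A] [CommRing B] [IsLocalRing B] [IsNoetherianRing B] [Algebra A B] [IsLocalHom (algebraMap A B)]
    (h : EGA41.IsFormallySmoothAdic A (maximalIdeal A) B (maximalIdeal B))
    (𝔟 : Ideal B) (hle : 𝔟 ≤ maximalIdeal B) (hpow : ∃ k : ℕ, maximalIdeal B ^ k ≤ 𝔟) :
    Module.Free (B ⧸ 𝔟) ((B ⧸ 𝔟) ⊗[B] Ω[B⁄A]) := by
  obtain ⟨k, hk⟩ := hpow
  haveI : Module.Projective (B ⧸ 𝔟) ((B ⧸ 𝔟) ⊗[B] Ω[B⁄A]) :=
    AdicSmooth.projective_kaehler_mod (maximalIdeal A) (maximalIdeal B)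
      ⟨1, by rw [pow_one]; exact Ideal.map_le_iff_le_comap.mpr fun a ha => map_nonunit (algebraMap A B) a ha⟩ h 𝔟 ⟨k, hk⟩
  haveI : Nontrivial (B ⧸ 𝔟) := Ideal.Quotient.nontrivial_iff.mpr
    (fun e => (maximalIdeal.isMaximal B).ne_top (top_le_iff.mp (e ▸ hle)))
  haveI : IsLocalRing (B ⧸ 𝔟) := IsLocalRing.of_surjective' _ Ideal.Quotient.mk_surjective
  exact S0582.result _ _

end Groth.Agent.S4540
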