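import Groth.Statements.S4541
import Groth.Agent.Lib.PBasis.Over
import Mathlib.RingTheory.Smooth.Basic
import Mathlib.Algebra.CharP.Reduced
import Mathlib.FieldTheory.Perfect
import Mathlib.RingTheory.Ideal.Quotient.Operations

set_option autoImplicit false
universe u
open EGA41

namespace Groth.Agent.S4541

section
variable (p : ℕ) [Fact p.Prime] {A B : Type u} [CommRing A] [CharP A p] [PerfectRing A p] [CommRing B] [Algebra A B]
  [CharP B p] [IsReduced B] {ι : Type u} (x : ι → B) (hx : EGA41.IsPBasis p A x)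

include hx

theorem exists_root (b : EGA41.pPowerSubalgebra p A B) : ∃ c : B, c ^ p = b := by
  obtain ⟨b, hb⟩ := b
  suffices h : b ∈ (frobenius B p).range from h
  induction hb using Algebra.adjoin_induction with
  | mem w hw => obtain ⟨c, rfl⟩ := hw; exact ⟨c, rfl⟩
  | algebraMap r =>
    exact ⟨algebraMap A B ((frobeniusEquiv A p).symm r), by
      rw [frobenius_def, ← map_pow, frobeniusEquiv_symm_pow_p]⟩
  | add u v _ _ hu hv => exact add_mem hu hv
  | mul u v _ _ hu hv => exact mul_mem hu hv

theorem existsUnique_lift_sq {E : Type u} [CommRing E] [Algebra A E] (R : Ideal E) (hR : R ^ 2 = ⊥)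
    (v : B →ₐ[A] E ⧸ R) (z : ι → E) (hz : ∀ i, Ideal.Quotient.mk R (z i) = v (x i)) :
    ∃! w : B →ₐ[A] E, (Ideal.Quotient.mkₐ A R).comp w = v ∧ ∀ i, w (x i) = z i := by
  rcases subsingleton_or_nontrivial E with hs | hn
  · refine ⟨AlgHom.ofLinearMap 0 (Subsingleton.elim _ _) (fun _ _ => Subsingleton.elim _ _),
      ⟨AlgHom.ext fun b => ?_, fun i => Subsingleton.elim _ _⟩, fun w _ => AlgHom.ext fun b => Subsingleton.elim _ _⟩
    obtain ⟨e, he⟩ := Ideal.Quotient.mk_surjective (v b)
    show Ideal.Quotient.mk R _ = v b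
    rw [← he]
    exact congrArg _ (Subsingleton.elim _ _)
  haveI : CharP E p := (CharP.charP_iff_prime_eq_zero Fact.out).mpr (by
    rw [← map_natCast (algebraMap A E), CharP.cast_eq_zero, map_zero])
  have hp2 : R ^ p = ⊥ := le_bot_iff.mp (hR ▸ Ideal.pow_le_pow_right (Fact.out : p.Prime).two_le)
  choose root hroot using exists_root p x hx
  choose pre hpre using fun b => Ideal.Quotient.mk_surjective (v b)
  have hwd : ∀ (b : B) (e : E), Ideal.Quotient.mk R e = v b → pre b ^ p = e ^ p := fun b e he => by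
    rw [← sub_eq_zero, ← sub_pow_char, ← Submodule.mem_bot E, ← hp2]
    exact Ideal.pow_mem_pow (Ideal.Quotient.eq.mp ((hpre b).trans he.symm)) p
  have hkey : ∀ (c : B) (s : EGA41.pPowerSubalgebra p A B), c ^ p = s → pre (root s) ^ p = pre c ^ p := by
    intro c s h
    rw [frobenius_inj B p (show frobenius B p (root s) = frobenius B p c from (hroot s).trans h.symm)]
  let ψ : EGA41.pPowerSubalgebra p A B →ₐ[A] E :=
    { toFun := fun s => pre (root s) ^ p
      map_one' := by
        rw [hkey 1 1 (by simp), hwd 1 1 (by rw [map_one, map_one]), one_pow]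
      map_mul' := fun s t => by
        rw [hkey (root s * root t) (s * t) (by rw [mul_pow, hroot, hroot]; rfl),
          hwd _ (pre (root s) * pre (root t)) (by rw [map_mul, map_mul, hpre, hpre]), mul_pow]
      map_zero' := by
        rw [hkey 0 0 (by rw [zero_pow (Fact.out : p.Prime).ne_zero]; rfl), hwd 0 0 (by rw [map_zero, map_zero]),
          zero_pow (Fact.out : p.Prime).ne_zero]
      map_add' := fun s t => by
        rw [hkey (root s + root t) (s + t) (by rw [add_pow_char, hroot, hroot]; rfl),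
          hwd _ (pre (root s) + pre (root t)) (by rw [map_add, map_add, hpre, hpre]), add_pow_char]
      commutes' := fun r => by
        rw [hkey (algebraMap A B ((frobeniusEquiv A p).symm r)) _ (by
            rw [← map_pow, frobeniusEquiv_symm_pow_p]; rfl),
          hwd _ (algebraMap A E ((frobeniusEquiv A p).symm r)) (by rw [AlgHom.commutes]; rfl),
          ← map_pow, frobeniusEquiv_symm_pow_p] }
  have hψ : ∀ (b : B) (s : EGA41.pPowerSubalgebra p A B), b ^ p = s → ∀ e : E, Ideal.Quotient.mk R e = v b →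
      ψ s = e ^ p := fun b s h e he => (hkey b s h).trans (hwd b e he)
  letI : Algebra (EGA41.pPowerSubalgebra p A B) E := ψ.toRingHom.toAlgebra
  haveI : IsScalarTower A (EGA41.pPowerSubalgebra p A B) E :=
    IsScalarTower.of_algebraMap_eq fun r => (ψ.commutes r).symm
  obtain ⟨φ, hφ, hφu⟩ := PBasis.existsUnique_lift p (R := EGA41.pPowerSubalgebra p A B) x
    (fun i => ⟨x i ^ p, Algebra.subset_adjoin ⟨x i, rfl⟩⟩) (fun i => rfl) hx.1 hx.2 z
    (fun i => (hψ (x i) _ rfl (z i) (hz i)).symm)
  let w : B →ₐ[A] E := φ.restrictScalars A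
  have hmk : (Ideal.Quotient.mkₐ A R).comp w = v := by
    refine AlgHom.ext fun b => ?_
    have hb : b ∈ Algebra.adjoin (EGA41.pPowerSubalgebra p A B) (Set.range x) := by
      rw [(PBasis.isPGenerating_iff_adjoin p x).mpr hx.2]; trivial
    show Ideal.Quotient.mk R (φ b) = v b
    induction hb using Algebra.adjoin_induction with
    | mem y hy => obtain ⟨i, rfl⟩ := hy; rw [hφ, hz]
    | algebraMap s =>
      rw [AlgHom.commutes]
      show Ideal.Quotient.mk R (ψ s) = v (s : B)
      rw [hψ (root s) s (hroot s) (pre (root s)) (hpre _), map_pow, hpre, ← map_pow, hroot]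
    | add a c _ _ ha hc => rw [map_add, map_add, map_add, ha, hc]
    | mul a c _ _ ha hc => rw [map_mul, map_mul, map_mul, ha, hc]
  refine ⟨w, ⟨hmk, hφ⟩, fun w' hw' => ?_⟩
  let φ' : B →ₐ[EGA41.pPowerSubalgebra p A B] E :=
    { w'.toRingHom with
      commutes' := fun s => by
        show w' (s : B) = ψ s
        rw [hψ (root s) s (hroot s) (w' (root s)) (AlgHom.congr_fun hw'.1 (root s)), ← map_pow, hroot] }
  have := hφu φ' hw'.2
  exact AlgHom.ext fun b => AlgHom.congr_fun this b

theorem existsUnique_lift_nilpotent {E : Type u} [CommRing E] [Algebra A E] (R : Ideal E) (hR : IsNilpotent R)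
    (v : B →ₐ[A] E ⧸ R) (z : ι → E) (hz : ∀ i, Ideal.Quotient.mk R (z i) = v (x i)) :
    ∃! w : B →ₐ[A] E, (Ideal.Quotient.mkₐ A R).comp w = v ∧ ∀ i, w (x i) = z i := by
  obtain ⟨n, hn⟩ := hR
  replace hn : R ^ 2 ^ n = ⊥ := le_bot_iff.1 ((Ideal.pow_le_pow_right n.lt_two_pow_self.le).trans hn.le)
  induction n generalizing E with
  | zero =>
    rw [pow_zero, pow_one] at hn
    have hsq : R ^ 2 = ⊥ := le_bot_iff.mp ((Ideal.pow_le_self two_ne_zero).trans hn.le)
    exact existsUnique_lift_sq p x hx R hsq v z hz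
  | succ n ih =>
    let f : (E ⧸ R ^ 2 ^ n) →ₐ[A] E ⧸ R := Ideal.Quotient.factorₐ A (Ideal.pow_le_self (by positivity))
    let Rb : Ideal E := R ^ 2 ^ n
    have hRb : Rb ^ 2 = ⊥ := by rw [← pow_mul, ← pow_succ]; exact hn
    let R' : Ideal (E ⧸ Rb) := R.map (Ideal.Quotient.mk Rb)
    have hR' : R' ^ 2 ^ n = ⊥ := by rw [← Ideal.map_pow, Ideal.map_quotient_self]
    let e : ((E ⧸ Rb) ⧸ R') ≃ₐ[A] E ⧸ R :=
      DoubleQuot.quotQuotEquivQuotOfLEₐ A (Ideal.pow_le_self (by positivity) : Rb ≤ R)
    have he : ∀ y : E, e (Ideal.Quotient.mk R' (Ideal.Quotient.mk Rb y)) = Ideal.Quotient.mk R y := fun y => rfl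
    obtain ⟨wb, ⟨hwb, hwbz⟩, hwbu⟩ := ih R' (e.symm.toAlgHom.comp v) (fun i => Ideal.Quotient.mk Rb (z i))
      (fun i => e.injective (by simp [he, hz])) hR'
    obtain ⟨w, ⟨hw, hwz⟩, hwu⟩ := existsUnique_lift_sq p x hx Rb hRb wb z fun i => (hwbz i).symm
    refine ⟨w, ⟨AlgHom.ext fun b => ?_, hwz⟩, fun w' hw' => hwu w' ⟨?_, hw'.2⟩⟩
    · have h1 := congrArg e (AlgHom.congr_fun hwb b)
      simp only [AlgHom.comp_apply, AlgEquiv.coe_toAlgHom, AlgEquiv.apply_symm_apply] at h1
      rw [← h1, ← show Ideal.Quotient.mk Rb (w b) = wb b from AlgHom.congr_fun hw b]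
      exact (he _).symm
    · refine hwbu _ ⟨AlgHom.ext fun b => e.injective ?_, fun i => congrArg _ (hw'.2 i)⟩
      simp only [AlgHom.comp_apply, AlgEquiv.coe_toAlgHom, AlgEquiv.apply_symm_apply]
      exact (he _).trans (AlgHom.congr_fun hw'.1 b)

end

/-- Let p be a prime, A a perfect ring of characteristic p and B a reduced A-algebra of characteristic p
which admits a p-basis (x_α) over A. Then B is a formally smooth A-algebra (discrete topologies);
more precisely, for every A-algebra E, every nilpotent ideal R of E, every A-algebra homomorphism v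
: B → E/R and every family (z_α) of elements of E lifting the v(x_α), there is a unique A-algebra
homomorphism w : B → E lifting v with w(x_α) = z_α for all α. (The published statement assumes,
instead of A perfect and B reduced, that the canonical map A^(p) ⊗_A B → B^(p), a ⊗ b ↦ a b^p with
Frobenius-twisted structures, is injective; when A is perfect that condition says exactly that B is
reduced, which is the case stated here. The published statement also treats admissible topological
E; only discrete E is stated.) -/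
theorem result (p : ℕ) [Fact p.Prime] {A B : Type u} [CommRing A] [CharP A p]
    [PerfectRing A p] [CommRing B] [Algebra A B] [CharP B p] [IsReduced B]
    {ι : Type u} (x : ι → B) (hx : EGA41.IsPBasis p A x) :
    Algebra.FormallySmooth A B ∧
    ∀ (E : Type u) [CommRing E] [Algebra A E] (R : Ideal E), IsNilpotent R →
      ∀ (v : B →ₐ[A] E ⧸ R) (z : ι → E), (∀ i, Ideal.Quotient.mk R (z i) = v (x i)) →
        ∃! w : B →ₐ[A] E, (Ideal.Quotient.mkₐ A R).comp w = v ∧ ∀ i, w (x i) = z i := by
  refine ⟨?_, fun E _ _ R hR v z hz => existsUnique_lift_nilpotent p x hx R hR v z hz⟩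
  rw [Algebra.FormallySmooth.iff_comp_surjective]
  intro E _ _ R hR v
  choose z hz using fun i => Ideal.Quotient.mk_surjective (v (x i))
  obtain ⟨w, hw, -⟩ := existsUnique_lift_nilpotent p x hx R ⟨2, hR⟩ v z hz
  exact ⟨w, hw.1⟩

end Groth.Agent.S4541
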