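import Groth.Statements.S4547
import Groth.Agent.Lib.LeftInv.Basic
import Mathlib.RingTheory.LocalRing.Module
import Mathlib.LinearAlgebra.TensorProduct.Pi
import Mathlib.RingTheory.LocalRing.ResidueField.Ideal

set_option autoImplicit false
universe u
open EGA41

namespace Groth.Agent.S4547

open IsLocalRing TensorProduct in
/-- Let A be a local ring with residue field k, M an A-module of finite type, N a projective A-module
and u : M → N a homomorphism. Then u is left invertible if and only if there is a finite system of
generators (x_i) of M such that the elements 1 ⊗ u(x_i) of k ⊗_A N are linearly independent over k;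
and such a system (x_i) is then a basis of M. -/
theorem result {A : Type u} [CommRing A] [IsLocalRing A] {M N : Type u}
    [AddCommGroup M] [Module A M] [Module.Finite A M] [AddCommGroup N] [Module A N] [Module.Projective A N]
    (u : M →ₗ[A] N) :
    ((∃ w : N →ₗ[A] M, w ∘ₗ u = LinearMap.id) ↔
      ∃ (m : ℕ) (x : Fin m → M), Submodule.span A (Set.range x) = ⊤ ∧
        LinearIndependent (ResidueField A) (fun i => (1 : ResidueField A) ⊗ₜ[A] u (x i))) ∧
    ∀ (m : ℕ) (x : Fin m → M), Submodule.span A (Set.range x) = ⊤ →
      LinearIndependent (ResidueField A) (fun i => (1 : ResidueField A) ⊗ₜ[A] u (x i)) →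
        ∃ b : Module.Basis (Fin m) A M, ∀ i, b i = x i := by
  let k := ResidueField A
  have crit : ∀ {P : Type u} [AddCommGroup P] [Module A P] [Module.Finite A P] (v : P →ₗ[A] N),
      Function.Injective (v.lTensor k) → ∃ w : N →ₗ[A] P, w ∘ₗ v = LinearMap.id := fun {P} _ _ _ v hv => by
    refine Groth.Agent.LeftInv.exists_leftInverse_of_forall_maximal v fun m hm => ?_
    obtain rfl := IsLocalRing.eq_maximalIdeal hm
    rw [← Groth.Agent.LeftInv.lInv_iff_residue]
    let e : (maximalIdeal A).ResidueField ≃ₗ[A] k :=
      ((AlgEquiv.ofBijective (IsScalarTower.toAlgHom A (A ⧸ maximalIdeal A) (maximalIdeal A).ResidueField)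
        (Ideal.bijective_algebraMap_quotient_residueField _)).symm).toLinearEquiv
    have he : (LinearEquiv.rTensor N e).toLinearMap ∘ₗ v.lTensor (maximalIdeal A).ResidueField =
        v.lTensor k ∘ₗ (LinearEquiv.rTensor P e).toLinearMap := TensorProduct.ext' fun a x => by simp
    refine Function.Injective.of_comp (f := LinearEquiv.rTensor N e) ?_
    intro a b hab
    exact (hv.comp (LinearEquiv.rTensor P e).injective)
      ((LinearMap.congr_fun he a).symm.trans (hab.trans (LinearMap.congr_fun he b)))
  have indep : ∀ (m : ℕ) (x : Fin m → M), LinearIndependent k (fun i => (1 : k) ⊗ₜ[A] u (x i)) →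
      Function.Injective ((u ∘ₗ Fintype.linearCombination A x).lTensor k) := fun m x hx => by
    let e := TensorProduct.piScalarRight A k k (Fin m)
    have he : (u ∘ₗ Fintype.linearCombination A x).lTensor k =
        (Fintype.linearCombination k (fun i => (1 : k) ⊗ₜ[A] u (x i))).restrictScalars A ∘ₗ
          (e.restrictScalars A).toLinearMap := TensorProduct.ext' fun a f => by
      simp only [e, LinearMap.lTensor_tmul, LinearMap.comp_apply, Fintype.linearCombination_apply, map_sum, map_smul,
        TensorProduct.tmul_sum, LinearMap.coe_restrictScalars, LinearEquiv.coe_coe, LinearEquiv.restrictScalars_apply,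
        TensorProduct.piScalarRight_apply, TensorProduct.piScalarRightHom_tmul]
      refine Finset.sum_congr rfl fun i _ => ?_
      rw [TensorProduct.smul_tmul', smul_eq_mul, mul_one, TensorProduct.smul_tmul]
    rw [he, LinearMap.coe_comp]
    exact (linearIndependent_iff_injective_fintypeLinearCombination.1 hx).comp e.injective
  refine ⟨⟨fun ⟨w, hw⟩ => ?_, fun ⟨m, x, hx, hli⟩ => ?_⟩, fun m x hx hli => ?_⟩
  · let b := Module.finBasis k (k ⊗[A] M)
    have hsurj : ∀ z : k ⊗[A] M, ∃ y : M, (1 : k) ⊗ₜ[A] y = z :=
      TensorProduct.mk_surjective A M k Ideal.Quotient.mk_surjective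
    choose x hx using fun i => hsurj (b i)
    refine ⟨_, x, IsLocalRing.span_eq_top_of_tmul_eq_basis x b hx, ?_⟩
    have hinj : Function.Injective (u.baseChange k) := fun y z hyz => by
      have h := congrArg (w.baseChange k) hyz
      rwa [← LinearMap.comp_apply, ← LinearMap.comp_apply, ← LinearMap.baseChange_comp, hw, LinearMap.baseChange_id,
        LinearMap.id_apply, LinearMap.id_apply] at h
    have h1 := b.linearIndependent.map' (u.baseChange k) (LinearMap.ker_eq_bot.2 hinj)
    have e : (fun i => (1 : k) ⊗ₜ[A] u (x i)) = ⇑(u.baseChange k) ∘ ⇑b := funext fun i => by simp [← hx i]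
    exact e ▸ h1
  · refine crit u fun y z hyz => ?_
    have hs : Function.Surjective (Fintype.linearCombination A x) := by
      rw [← LinearMap.range_eq_top, Fintype.range_linearCombination, hx]
    have hs' := LinearMap.lTensor_surjective k hs
    obtain ⟨y, rfl⟩ := hs' y
    obtain ⟨z, rfl⟩ := hs' z
    rw [← LinearMap.comp_apply, ← LinearMap.comp_apply, ← LinearMap.lTensor_comp] at hyz
    rw [indep m x hli hyz]
  · obtain ⟨w, hw⟩ := crit _ (indep m x hli)
    have hinj : Function.Injective (Fintype.linearCombination A x) := fun a b h => by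
      have := congrArg (fun z => w (u z)) h
      simpa [← LinearMap.comp_apply, ← LinearMap.comp_assoc] using
        (LinearMap.congr_fun hw a).symm.trans (this.trans (LinearMap.congr_fun hw b))
    exact ⟨Module.Basis.mk (linearIndependent_iff_injective_fintypeLinearCombination.2 hinj) hx.ge,
      fun i => Module.Basis.mk_apply _ _ i⟩

end Groth.Agent.S4547
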