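import Groth.Statements.S4548
import Groth.Agent.Lib.PSSubfield4.Killed

set_option autoImplicit false
universe u
open EGA41

namespace Groth.Agent.S4548

open Groth.Agent

/-- Let k be a field of characteristic p > 0, A = k[[T_1, …, T_r]] and K its field of fractions. Then
there is a decreasing filtered family (A_α) of Noetherian subrings of A (rendered: a nonempty
family, directed downwards for inclusion) such that A is a free A_α-module of finite type for every
α and, K_α denoting the subfield of K generated by A_α (its field of fractions inside K), ⋂_α K_α =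
K^p. -/
theorem result (p : ℕ) [Fact p.Prime] (k : Type u) [Field k] [CharP k p]
    (r : ℕ) :
    ∃ (ι : Type u) (_ : Nonempty ι) (S : ι → Subring (MvPowerSeries (Fin r) k)),
      (∀ a b : ι, ∃ c, S c ≤ S a ⊓ S b) ∧
      (∀ i, IsNoetherianRing (S i) ∧ Module.Free (S i) (MvPowerSeries (Fin r) k) ∧ Module.Finite (S i) (MvPowerSeries (Fin r) k)) ∧
      ((⨅ i, Subfield.closure (algebraMap (MvPowerSeries (Fin r) k) (FractionRing (MvPowerSeries (Fin r) k)) '' (S i)) :
          Set (FractionRing (MvPowerSeries (Fin r) k)))) =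
        Set.range fun x : FractionRing (MvPowerSeries (Fin r) k) => x ^ p := by
  classical
  obtain ⟨ι, δ, hδ, hfin⟩ := CplDomain.exists_field_derivations k p
  let A := MvPowerSeries (Fin r) k
  let L := FractionRing A
  haveI : ExpChar k p := ExpChar.prime Fact.out
  haveI : CharP A p := charP_of_injective_ringHom (MvPowerSeries.C_injective (σ := Fin r) (R := k)) p
  have hpk : ∀ (T : Finset ι) (a : A), a ^ p ∈ CplDomain.killed (n := r) δ T := fun T a =>
    ⟨fun j => CplDomain.derivation_pow_char p (MvPowerSeries.pderiv k j) a,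
      fun i _ => CplDomain.derivation_pow_char p (CplDomain.coeffDer (δ i)) a⟩
  refine ⟨Finset ι, ⟨∅⟩, fun T => CplDomain.killed δ T, fun a b => ⟨a ∪ b, fun f hf =>
    ⟨⟨hf.1, fun i hi => hf.2 i (Finset.mem_union_left b hi)⟩, ⟨hf.1, fun i hi => hf.2 i (Finset.mem_union_right a hi)⟩⟩⟩,
    fun T => ?_, ?_⟩
  · obtain ⟨h1, h2⟩ := Groth.Agent.PSSubfield4.free_finite_killed (n := r) δ p hfin T
    haveI := h1
    exact ⟨Groth.Agent.PSSubfield4.isNoetherianRing_of_free (A := A), h1, h2⟩
  refine Set.ext fun z => ⟨fun hz => ?_, ?_⟩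
  · replace hz := Set.mem_iInter.1 hz
    obtain ⟨a, b, hb, rfl⟩ := IsFractionRing.div_surjective A z
    have hb0 : algebraMap A L b ≠ 0 := IsFractionRing.to_map_ne_zero_of_mem_nonZeroDivisors hb
    have hp1 : p - 1 + 1 = p := Nat.sub_add_cancel (Fact.out : p.Prime).one_le
    obtain ⟨g, hg⟩ := CplDomain.exists_root_of_killed δ p hδ (f := a * b ^ (p - 1)) fun T => by
      have hzT := hz T
      rw [SetLike.mem_coe, ← Subring.coe_map] at hzT
      obtain ⟨u, hu, v, hv, h⟩ := Subfield.mem_closure_iff.mp hzT
      rw [Subring.closure_eq] at hu hv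
      obtain ⟨a', ha', rfl⟩ := hu
      obtain ⟨b', hb', rfl⟩ := hv
      by_cases hb0' : b' = 0
      · rw [hb0', map_zero, div_zero, eq_comm, div_eq_zero_iff] at h
        rw [(injective_iff_map_eq_zero _).mp (IsFractionRing.injective A L) a (h.resolve_right hb0), zero_mul]
        exact zero_mem _
      rw [div_eq_div_iff ((map_ne_zero_iff _ (IsFractionRing.injective A L)).mpr hb0') hb0, ← map_mul, ← map_mul] at h
      have hc : a * b ^ (p - 1) * b' = a' * b ^ p := by
        rw [mul_right_comm, ← IsFractionRing.injective A L h, mul_assoc, ← pow_succ', hp1]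
      refine ⟨fun j => ?_, fun i hi => ?_⟩
      · have h1 := congrArg (MvPowerSeries.pderiv k j) hc
        rw [Derivation.leibniz, Derivation.leibniz (MvPowerSeries.pderiv k j) a', hb'.1 j, ha'.1 j,
          (hpk T b).1 j, smul_zero, smul_zero, smul_zero, add_zero, zero_add, smul_eq_mul] at h1
        exact (mul_eq_zero.mp h1).resolve_left hb0'
      · have h1 := congrArg (CplDomain.coeffDer (δ i)) hc
        rw [Derivation.leibniz, Derivation.leibniz (CplDomain.coeffDer (δ i)) a', hb'.2 i hi, ha'.2 i hi,
          (hpk T b).2 i hi, smul_zero, smul_zero, smul_zero, add_zero, zero_add, smul_eq_mul] at h1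
        exact (mul_eq_zero.mp h1).resolve_left hb0'
    refine ⟨algebraMap A L g / algebraMap A L b, ?_⟩
    show (algebraMap A L g / algebraMap A L b) ^ p = _
    rw [div_pow, ← map_pow, hg, map_mul, map_pow, div_eq_div_iff (pow_ne_zero _ hb0) hb0, mul_assoc, ← pow_succ, hp1]
  · rintro ⟨x, rfl⟩
    refine Set.mem_iInter.2 fun T => ?_
    obtain ⟨a, b, -, rfl⟩ := IsFractionRing.div_surjective A x
    show (algebraMap A L a / algebraMap A L b) ^ p ∈ _
    rw [div_pow, ← map_pow, ← map_pow]
    exact div_mem (Subfield.subset_closure ⟨_, hpk T a, rfl⟩) (Subfield.subset_closure ⟨_, hpk T b, rfl⟩)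

end Groth.Agent.S4548
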