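import Groth.Statements.S4550
import Groth.Agent.Lib.PSSubfield4.Basic

set_option autoImplicit false
universe u
open EGA41

namespace Groth.Agent.S4550

/-- Let k be a field, (k_α) a decreasing filtered family of subfields of k with intersection k₀, and
suppose there is a power q of the characteristic exponent of k with k^q ⊆ k₀. Then, inside k((T_1,
…, T_r)), one has ⋂_α k_α((T_1, …, T_r)) = k₀((T_1, …, T_r)); here F((T)) is the subfield of the
fraction field of k[[T]] generated by the power series with all coefficients in F. -/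
theorem result {k : Type u} [Field k] {ι : Type u} [Nonempty ι] (F : ι → Subfield k)
    (hdir : ∀ a b : ι, ∃ c, F c ≤ F a ⊓ F b) (e : ℕ) (hq : ∀ x : k, x ^ ringExpChar k ^ e ∈ ⨅ i, F i) (r : ℕ) :
    (⨅ i, Subfield.closure (algebraMap (MvPowerSeries (Fin r) k) (FractionRing (MvPowerSeries (Fin r) k)) ''
        {f | ∀ n, MvPowerSeries.coeff n f ∈ F i})) =
      Subfield.closure (algebraMap (MvPowerSeries (Fin r) k) (FractionRing (MvPowerSeries (Fin r) k)) ''
        {f | ∀ n, MvPowerSeries.coeff n f ∈ ⨅ i, F i}) := by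
  let A := MvPowerSeries (Fin r) k
  let L := FractionRing A
  refine le_antisymm (fun z hz => ?_) (le_iInf fun i => Subfield.closure_mono
    (Set.image_mono fun f hf n => (iInf_le F i : _) (hf n)))
  obtain ⟨a, b, hb, rfl⟩ := IsFractionRing.div_surjective A z
  have hb0 : algebraMap A L b ≠ 0 := IsFractionRing.to_map_ne_zero_of_mem_nonZeroDivisors hb
  let q := ringExpChar k ^ e
  have hq1 : 1 ≤ q := Nat.one_le_iff_ne_zero.2 (pow_ne_zero _ (expChar_pos k (ringExpChar k)).ne')
  have hbq : ∀ n, MvPowerSeries.coeff n (b ^ q) ∈ ⨅ i, F i :=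
    Groth.Agent.PSSubfield4.coeff_pow_mem _ e hq b
  refine (Groth.Agent.PSSubfield4.mem_closure_iff _ _).2 ⟨a * b ^ (q - 1), b ^ q, fun n => ?_, hbq, ?_⟩
  · rw [Subfield.mem_iInf]
    intro i
    obtain ⟨u, v, hu, hv, huv⟩ := (Groth.Agent.PSSubfield4.mem_closure_iff (F i) _).1 ((Subfield.mem_iInf.1 hz) i)
    by_cases hv0 : v = 0
    · rw [hv0, map_zero, div_zero, div_eq_zero_iff] at huv
      rw [(injective_iff_map_eq_zero _).mp (IsFractionRing.injective A L) a (huv.resolve_right hb0), zero_mul, map_zero]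
      exact zero_mem _
    have hv' : algebraMap A L v ≠ 0 := (map_ne_zero_iff _ (IsFractionRing.injective A L)).2 hv0
    rw [div_eq_div_iff hb0 hv', ← map_mul, ← map_mul] at huv
    refine Groth.Agent.PSSubfield4.mem_of_mul_eq (F i) hv0 (u := u * b ^ q) ?_ hv ?_ n
    · exact fun m => (Groth.Agent.PSSubfield4.coeffSubring (F i)).mul_mem hu (fun m => (Subfield.mem_iInf.1 (hbq m)) i) m
    · have h := IsFractionRing.injective A L huv
      calc a * b ^ (q - 1) * v = (a * v) * b ^ (q - 1) := by ring
        _ = u * (b ^ (q - 1) * b) := by rw [h]; ring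
        _ = u * b ^ q := by rw [← pow_succ, Nat.sub_add_cancel hq1]
  · rw [map_mul, map_pow, map_pow, div_eq_div_iff hb0 (pow_ne_zero _ hb0), mul_assoc, ← pow_succ, Nat.sub_add_cancel hq1]

end Groth.Agent.S4550
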