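import Groth.Statements.S4551
import Groth.Agent.S4574
import Groth.Agent.S4533
import Groth.Agent.S4537
import Groth.Agent.Lib.Cohen.Structure
import Groth.Agent.Lib.Sep.Basic
import Groth.Agent.Lib.AdicSmooth.RegularIff

set_option autoImplicit false
universe u
open EGA41

namespace Groth.Agent.S4551

/-- For every field k (any characteristic) the field of fractions k((T_1, …, T_r)) of the power series
ring k[[T_1, …, T_r]] is a separable extension of k, i.e. it is geometrically reduced over k. -/
theorem result (k : Type u) [Field k] (r : ℕ) :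
    Algebra.IsGeometricallyReduced k (FractionRing (MvPowerSeries (Fin r) k)) := by
  let A := MvPowerSeries (Fin r) k
  have hm : RingHom.ker (MvPowerSeries.constantCoeff : A →+* k) = IsLocalRing.maximalIdeal A :=
    IsLocalRing.eq_maximalIdeal (RingHom.ker_isMaximal_of_surjective _ fun x => ⟨MvPowerSeries.C x, MvPowerSeries.constantCoeff_C x⟩)
  have h0 : CAlgX.IsAdicFormallySmooth k A (IsLocalRing.maximalIdeal A) := by
    rw [Groth.Agent.S4537.result, ← hm]
    have := Groth.Agent.S4533.result k (⊥ : Ideal k) r
    rwa [Ideal.map_bot, bot_sup_eq] at this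
  haveI : IsRegularLocalRing A := Cohen.isRegularLocalRing_mvPowerSeries k r
  haveI : IsDomain A := RegLoc.isDomain A
  have h1 := Groth.Agent.S4574.result h0 (⊥ : Ideal A)
  let L := Localization.AtPrime (⊥ : Ideal A)
  haveI : IsFractionRing A L := by
    show IsLocalization (nonZeroDivisors A) L
    have : (⊥ : Ideal A).primeCompl = nonZeroDivisors A := by
      ext x; simp [Ideal.primeCompl, mem_nonZeroDivisors_iff_ne_zero]
    exact this ▸ (inferInstance : IsLocalization (⊥ : Ideal A).primeCompl L)
  have h2 : IsLocalRing.maximalIdeal L = ⊥ := by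
    rw [← Localization.AtPrime.map_eq_maximalIdeal, Ideal.map_bot]
  haveI : Algebra.FormallySmooth k L := by
    rw [Algebra.FormallySmooth.iff_comp_surjective]
    intro E _ _ J hJ u
    exact h1 E J hJ u ⟨1, fun x hx => by rw [pow_one, h2] at hx; rw [(Submodule.mem_bot L).1 hx, map_zero]⟩
  haveI : Algebra.FormallySmooth k (FractionRing A) := Algebra.FormallySmooth.of_equiv
    ((IsLocalization.algEquiv (nonZeroDivisors A) L (FractionRing A)).restrictScalars k)
  exact (Sep.formallySmooth_iff_isGeometricallyReduced k (FractionRing A)).1 inferInstance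

end Groth.Agent.S4551
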