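import Groth.Statements.S4552
-- import your own Groth.Agent.* helpers here

set_option autoImplicit false
universe u
open EGA41

namespace Groth.Agent.S4552

/-- For the 𝔞-adic topology on A and the deduced topology on M: the topological A-module M is formally
projective (for every open ideal 𝔞ⁿ, every pair of (A/𝔞ⁿ)-modules P, Q, every surjection P → Q and
every continuous A-linear map M → Q — here automatically continuous — there is a continuous A-linear
lift M → P) if and only if it is strictly formally projective, i.e. M/𝔞ⁿM is a projective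
(A/𝔞ⁿ)-module for every n. -/
theorem result {A : Type u} [CommRing A] (𝔞 : Ideal A) (M : Type u)
    [AddCommGroup M] [Module A M] :
    (∀ (n : ℕ) (P Q : Type u) [AddCommGroup P] [Module A P] [AddCommGroup Q] [Module A Q],
      (∀ a ∈ 𝔞 ^ n, ∀ y : P, a • y = 0) → (∀ a ∈ 𝔞 ^ n, ∀ y : Q, a • y = 0) →
      ∀ f : P →ₗ[A] Q, Function.Surjective f → ∀ v : M →ₗ[A] Q, ∃ w : M →ₗ[A] P, f ∘ₗ w = v) ↔
    ∀ n : ℕ, Module.Projective (A ⧸ 𝔞 ^ n) (M ⧸ (𝔞 ^ n • ⊤ : Submodule A M)) := by
  constructor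
  · intro h n
    let N := M ⧸ (𝔞 ^ n • ⊤ : Submodule A M)
    let f : (N →₀ (A ⧸ 𝔞 ^ n)) →ₗ[A ⧸ 𝔞 ^ n] N := Finsupp.linearCombination (A ⧸ 𝔞 ^ n) id
    have hk : ∀ a ∈ 𝔞 ^ n, ∀ y : N →₀ (A ⧸ 𝔞 ^ n), a • y = 0 := fun a ha y => by
      rw [← algebraMap_smul (A ⧸ 𝔞 ^ n) a y, Ideal.Quotient.algebraMap_eq,
        Ideal.Quotient.eq_zero_iff_mem.mpr ha, zero_smul]
    have hkN : ∀ a ∈ 𝔞 ^ n, ∀ y : N, a • y = 0 := fun a ha y => by
      obtain ⟨m, rfl⟩ := Submodule.Quotient.mk_surjective _ y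
      rw [← Submodule.Quotient.mk_smul, Submodule.Quotient.mk_eq_zero]
      exact Submodule.smul_mem_smul ha trivial
    obtain ⟨w, hw⟩ := h n (N →₀ (A ⧸ 𝔞 ^ n)) N hk hkN (f.restrictScalars A)
      (Finsupp.linearCombination_id_surjective (A ⧸ 𝔞 ^ n) N) (Submodule.mkQ _)
    have hw0 : (𝔞 ^ n • ⊤ : Submodule A M) ≤ LinearMap.ker w :=
      Submodule.smul_le.mpr fun a ha m _ => by rw [LinearMap.mem_ker, map_smul, hk a ha]
    refine Module.Projective.of_split
      ((Submodule.liftQ _ w hw0).extendScalarsOfSurjective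
        (show Function.Surjective (algebraMap A (A ⧸ 𝔞 ^ n)) from Ideal.Quotient.mk_surjective)) f
      (LinearMap.ext fun y => ?_)
    obtain ⟨m, rfl⟩ := Submodule.Quotient.mk_surjective _ y
    exact LinearMap.congr_fun hw m
  · intro h n P Q _ _ _ _ hP hQ f hf v
    have tP : Module.IsTorsionBySet A P (𝔞 ^ n : Ideal A) := fun y a => hP a.1 a.2 y
    have tQ : Module.IsTorsionBySet A Q (𝔞 ^ n : Ideal A) := fun y a => hQ a.1 a.2 y
    letI := tP.module
    letI := tQ.module
    haveI : IsScalarTower A (A ⧸ 𝔞 ^ n) P := tP.isScalarTower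
    haveI : IsScalarTower A (A ⧸ 𝔞 ^ n) Q := tQ.isScalarTower
    have hs : Function.Surjective (algebraMap A (A ⧸ 𝔞 ^ n)) := Ideal.Quotient.mk_surjective
    have hv : (𝔞 ^ n • ⊤ : Submodule A M) ≤ LinearMap.ker v :=
      Submodule.smul_le.mpr fun a ha m _ => by rw [LinearMap.mem_ker, map_smul, hQ a ha]
    haveI := h n
    obtain ⟨w, hw⟩ := Module.projective_lifting_property (f.extendScalarsOfSurjective hs)
      ((Submodule.liftQ _ v hv).extendScalarsOfSurjective hs) hf
    exact ⟨(w.restrictScalars A).comp (Submodule.mkQ _),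
      LinearMap.ext fun m => LinearMap.congr_fun hw (Submodule.Quotient.mk m)⟩

end Groth.Agent.S4552
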