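import Groth.Statements.S4555
import Groth.Agent.Lib.AdicSmooth.PowerSeries

set_option autoImplicit false
universe u
open EGA41

namespace Groth.Agent.S4555

/-- Let A carry the 𝔞-adic topology, B = A[[T_1, …, T_n]] the product topology (the adic topology of 𝔞B
+ (T_1, …, T_n)), and let E be a discrete topological A-algebra (a power of 𝔞 kills E). (i) If f : B
→ E is a continuous A-algebra homomorphism then each f(T_i) is nilpotent. (ii) Conversely, for every
family (z_i) of nilpotent elements of E there is one and only one continuous A-algebra homomorphism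
g : B → E with g(T_i) = z_i for all i. -/
theorem result (A : Type u) [CommRing A] (𝔞 : Ideal A) (n : ℕ) (E : Type u) [CommRing E]
    [Algebra A E] (hE : ∃ k : ℕ, (𝔞 ^ k).map (algebraMap A E) = ⊥) :
    (∀ f : MvPowerSeries (Fin n) A →ₐ[A] E,
      (∃ m : ℕ, ∀ x ∈ (𝔞.map (MvPowerSeries.C : A →+* MvPowerSeries (Fin n) A) ⊔
        RingHom.ker (MvPowerSeries.constantCoeff : MvPowerSeries (Fin n) A →+* A)) ^ m, f x = 0) →
      ∀ i, IsNilpotent (f (MvPowerSeries.X i))) ∧
    ∀ z : Fin n → E, (∀ i, IsNilpotent (z i)) →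
      ∃! g : MvPowerSeries (Fin n) A →ₐ[A] E,
        (∃ m : ℕ, ∀ x ∈ (𝔞.map (MvPowerSeries.C : A →+* MvPowerSeries (Fin n) A) ⊔
          RingHom.ker (MvPowerSeries.constantCoeff : MvPowerSeries (Fin n) A →+* A)) ^ m, g x = 0) ∧
        ∀ i, g (MvPowerSeries.X i) = z i := by
  constructor
  · rintro f ⟨m, hm⟩ i
    refine ⟨m, ?_⟩
    rw [← map_pow]
    exact hm _ (Ideal.pow_mem_pow (Ideal.mem_sup_right (RingHom.mem_ker.2 (MvPowerSeries.constantCoeff_X i))) m)
  · intro z hz
    obtain ⟨g, hgX, -⟩ := AdicSmooth.exists_algHom_of_isNilpotent (A := A) z hz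
    have hcont : ∃ m : ℕ, ∀ x ∈ (𝔞.map (MvPowerSeries.C : A →+* MvPowerSeries (Fin n) A) ⊔
        RingHom.ker (MvPowerSeries.constantCoeff : MvPowerSeries (Fin n) A →+* A)) ^ m, g x = 0 := by
      obtain ⟨k, hk⟩ := hE
      obtain ⟨N, hN⟩ : IsNilpotent
          ((RingHom.ker (MvPowerSeries.constantCoeff : MvPowerSeries (Fin n) A →+* A)).map g.toRingHom) := by
        have hle : RingHom.ker (MvPowerSeries.constantCoeff : MvPowerSeries (Fin n) A →+* A) ≤
            Ideal.span (Set.range fun i : Fin n => (MvPowerSeries.X i : MvPowerSeries (Fin n) A)) := fun f hf => by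
          simpa using AdicSmooth.mem_pow_of_coeff_eq_zero 1 f fun d hd => by
            have : d = 0 := (Finsupp.degree_eq_zero_iff d).1 (by omega)
            subst this
            simpa using hf
        obtain ⟨N, hN⟩ : IsNilpotent ((Ideal.span (Set.range fun i : Fin n =>
            (MvPowerSeries.X i : MvPowerSeries (Fin n) A))).map g.toRingHom) := by
          rw [Ideal.FG.isNilpotent_iff_le_nilradical
              (Ideal.FG.map (Submodule.fg_span (Set.finite_range _)) g.toRingHom), Ideal.map_span, Ideal.span_le]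
          rintro _ ⟨_, ⟨i, rfl⟩, rfl⟩
          simpa [mem_nilradical, hgX] using hz i
        exact ⟨N, le_bot_iff.1 ((Ideal.pow_right_mono (Ideal.map_mono hle) N).trans hN.le)⟩
      refine ⟨k + N, fun x hx => ?_⟩
      have h2 := Ideal.mem_map_of_mem g.toRingHom (Ideal.sup_pow_add_le_pow_sup_pow hx)
      rw [Ideal.map_sup, Ideal.map_pow, Ideal.map_pow, Ideal.map_map, hN,
        show g.toRingHom.comp MvPowerSeries.C = algebraMap A E from g.comp_algebraMap,
        ← Ideal.map_pow, hk] at h2
      simpa using h2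
    refine ⟨g, ⟨hcont, hgX⟩, fun g' hg' => AdicSmooth.algHom_eq_of_forall_X
      (fun i => Ideal.mem_sup_right (RingHom.mem_ker.2 (MvPowerSeries.constantCoeff_X i))) hg'.1 hcont
      fun i => by rw [hg'.2, hgX]⟩

end Groth.Agent.S4555
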