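import Groth.Statements.S4556
-- import your own Groth.Agent.* helpers here

set_option autoImplicit false
universe u
open EGA41

namespace Groth.Agent.S4556

/-- Let B be a formally smooth A-algebra, E and E' two A-algebras, R (resp. R') a nilpotent ideal of E
(resp. E'), f : E → E' a surjective A-algebra homomorphism with f(R) = R', and f' : E/R → E'/R' the
induced homomorphism. Let u : B → E/R be an A-algebra homomorphism and v' : B → E' an A-algebra
homomorphism through which f' ∘ u factors (v' followed by E' → E'/R' equals f' ∘ u). Then there is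
an A-algebra homomorphism v : B → E with f ∘ v = v'. (The published statement assumes only f(R) ⊆
R'; in that form it fails for B = ℚ[x, x⁻¹], E = ℚ[t], E' = ℚ[t]/(t²), R = 0, R' = (t), u : x ↦ 1
and v' : x ↦ 1 + t, since any v sends x to a unit of ℚ[t], a constant; the argument identifies R'
with the image of R, and that equality is assumed here.) -/
theorem result {A B E E' : Type u} [CommRing A] [CommRing B] [Algebra A B]
    [Algebra.FormallySmooth A B] [CommRing E] [CommRing E'] [Algebra A E] [Algebra A E']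
    (R : Ideal E) (R' : Ideal E') (hR : IsNilpotent R) (hR' : IsNilpotent R')
    (f : E →ₐ[A] E') (hf : Function.Surjective f) (hfR : R.map f.toRingHom = R')
    (u : B →ₐ[A] E ⧸ R) (v' : B →ₐ[A] E')
    (huv : (Ideal.Quotient.mkₐ A R').comp v' =
      (Ideal.quotientMapₐ R' f (fun x hx => hfR.le (Ideal.mem_map_of_mem f.toRingHom hx))).comp u) :
    ∃ v : B →ₐ[A] E, f.comp v = v' := by
  let q : E ⧸ R →ₐ[A] E' ⧸ R' :=
    Ideal.quotientMapₐ R' f (fun x hx => hfR.le (Ideal.mem_map_of_mem f.toRingHom hx))
  let P : Subalgebra A ((E ⧸ R) × E') :=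
    AlgHom.equalizer (q.comp (AlgHom.fst A _ _)) ((Ideal.Quotient.mkₐ A R').comp (AlgHom.snd A _ _))
  let g : E →ₐ[A] P := ((Ideal.Quotient.mkₐ A R).prod f).codRestrict P (fun x => rfl)
  let w : B →ₐ[A] P := (u.prod v').codRestrict P (fun b => (AlgHom.congr_fun huv b).symm)
  have hg : Function.Surjective g := by
    rintro ⟨⟨x, y⟩, hxy⟩
    obtain ⟨e, rfl⟩ := Ideal.Quotient.mk_surjective x
    have h' : y - f e ∈ R' := (Ideal.Quotient.eq).1 (Eq.symm hxy)
    rw [← hfR] at h'
    obtain ⟨r, hr, hre⟩ := (Ideal.mem_map_iff_of_surjective _ hf).1 h'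
    refine ⟨e + r, Subtype.ext (Prod.ext ?_ ?_)⟩
    · exact (Ideal.Quotient.eq).2 (by simpa using hr)
    · change f (e + r) = y
      rw [map_add]
      exact eq_sub_iff_add_eq'.1 hre
  have hnil : IsNilpotent (RingHom.ker g) := by
    obtain ⟨n, hn⟩ := hR
    refine ⟨n, le_bot_iff.1 ((Ideal.pow_right_mono (fun x hx => ?_) n).trans hn.le)⟩
    exact (Ideal.Quotient.eq_zero_iff_mem).1 congr((Subtype.val $(RingHom.mem_ker.1 hx)).1)
  refine ⟨Algebra.FormallySmooth.liftOfSurjective w g hg hnil, AlgHom.ext fun b => ?_⟩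
  exact congr((Subtype.val $(Algebra.FormallySmooth.liftOfSurjective_apply w g hg hnil b)).2)

end Groth.Agent.S4556
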