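import Groth.Statements.S4557
import Groth.Agent.Lib.CKaehlerFree3.GenRank
import Groth.Agent.Lib.CKaehlerFree3.Top
import Groth.Agent.S4528
import Mathlib.RingTheory.MvPowerSeries.NoZeroDivisors

set_option autoImplicit false
universe u
open EGA41

namespace Groth.Agent.S4557

theorem aeval_derivative_ne_zero_aux {R A E L : Type u} [CommRing R] [CommRing A] [Field E] [Field L]
    [Algebra R A] [Algebra A L] [Algebra R E] [Algebra R L] [IsScalarTower R A L] (ρ : E →+* L)
    (hρ : ρ.comp (algebraMap R E) = algebraMap R L) (P : Polynomial R) (a : A) (hP : Polynomial.aeval a P = 0)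
    (hsepP : (P.map (algebraMap R E)).Separable) : Polynomial.aeval a P.derivative ≠ 0 := by
  intro h0
  have h1 : (P.map (algebraMap R L)).Separable := by
    rw [← hρ, ← Polynomial.map_map]; exact hsepP.map
  have h2 : Polynomial.eval (algebraMap A L a) (P.map (algebraMap R L)) = 0 := by
    rw [Polynomial.eval_map, ← Polynomial.aeval_def, Polynomial.aeval_algebraMap_apply, hP, map_zero]
  have h3 := Polynomial.Separable.eval₂_derivative_ne_zero (RingHom.id L) h1 (x := algebraMap A L a)
    (by rw [Polynomial.eval₂_id]; exact h2)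
  rw [Polynomial.eval₂_id, Polynomial.derivative_map, Polynomial.eval_map, ← Polynomial.aeval_def,
    Polynomial.aeval_algebraMap_apply, h0, map_zero] at h3
  exact h3 rfl

theorem aeval_derivative_ne_zero {R A : Type u} [CommRing R] [IsDomain R] [CommRing A] [IsDomain A] [Algebra R A]
    (L : Type u) [Field L] [Algebra A L] [IsFractionRing A L]
    (hinj : Function.Injective (algebraMap R A)) (P : Polynomial R) (a : A) (hP : Polynomial.aeval a P = 0)
    (hsepP : (P.map (algebraMap R (FractionRing R))).Separable) : Polynomial.aeval a P.derivative ≠ 0 := by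
  let : Algebra R L := ((algebraMap A L).comp (algebraMap R A)).toAlgebra
  have : IsScalarTower R A L := IsScalarTower.of_algebraMap_eq fun _ => rfl
  have hL : Function.Injective (algebraMap R L) := (IsFractionRing.injective A L).comp hinj
  exact aeval_derivative_ne_zero_aux (L := L) (IsFractionRing.lift (K := FractionRing R) hL)
    (RingHom.ext fun x => IsFractionRing.lift_algebraMap hL x) P a hP hsepP

open IsLocalRing TensorProduct in
/-- Let A be a complete Noetherian local integral domain, A₀ a subring of A isomorphic to a power series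
ring k[[T_1, …, T_r]] over a field k such that A is a finite A₀-algebra and the field of fractions E
of A is a separable extension of the field of fractions L₀ of A₀ (here: A₀ = k[[T]] → A injective
and finite, A a k-algebra through A₀, and every element of A is a root of a polynomial over A₀ which
is separable over L₀). Then rk_A Ω̂_{A/k} = rk_E (Ω̂_{A/k} ⊗_A E) = dim A = r, where Ω̂_{A/k} is the
𝔪-adic completion of Ω_{A/k}; stated as dim_E (E ⊗_A Ω̂_{A/k}) = r. -/
theorem result (k : Type u) [Field k] (r : ℕ) (A : Type u) [CommRing A]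
    [IsDomain A] [IsLocalRing A] [IsNoetherianRing A] [IsAdicComplete (maximalIdeal A) A]
    [Algebra (MvPowerSeries (Fin r) k) A] [Algebra k A] [IsScalarTower k (MvPowerSeries (Fin r) k) A]
    (hinj : Function.Injective (algebraMap (MvPowerSeries (Fin r) k) A)) [Module.Finite (MvPowerSeries (Fin r) k) A]
    (hsep : ∀ a : A, ∃ P : Polynomial (MvPowerSeries (Fin r) k), Polynomial.aeval a P = 0 ∧
      (P.map (algebraMap (MvPowerSeries (Fin r) k) (FractionRing (MvPowerSeries (Fin r) k)))).Separable) :
    Module.finrank (FractionRing A) (FractionRing A ⊗[A] AdicCompletion (maximalIdeal A) (Ω[A⁄k])) = r := by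
  classical
  haveI : IsLocalHom (algebraMap (MvPowerSeries (Fin r) k) A) := by
    haveI : Algebra.IsIntegral (MvPowerSeries (Fin r) k) A := Algebra.IsIntegral.of_finite _ _
    haveI := Ideal.IsMaximal.under (A := MvPowerSeries (Fin r) k) (maximalIdeal A)
    refine ⟨fun a ha => by_contra fun hna => ?_⟩
    have hmem : a ∈ (maximalIdeal A).comap (algebraMap (MvPowerSeries (Fin r) k) A) := by
      rw [IsLocalRing.eq_maximalIdeal (inferInstance :
        ((maximalIdeal A).comap (algebraMap (MvPowerSeries (Fin r) k) A)).IsMaximal)]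
      exact hna
    exact (mem_maximalIdeal _).1 hmem ha
  -- the residue field is finite over `k`
  haveI : Module.Finite k (ResidueField A) := by
    obtain ⟨t, g, hg⟩ := Module.Finite.exists_fin' (MvPowerSeries (Fin r) k) A
    refine ⟨⟨Finset.univ.image fun i => residue A (g (Pi.single i 1)), eq_top_iff.2 fun z _ => ?_⟩⟩
    obtain ⟨z, rfl⟩ := residue_surjective z
    obtain ⟨c, rfl⟩ := hg z
    conv_lhs => skip
    rw [pi_eq_sum_univ c, map_sum, map_sum]
    refine Submodule.sum_mem _ fun i _ => ?_
    have hc : residue A (algebraMap (MvPowerSeries (Fin r) k) A (c i)) =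
        algebraMap k (ResidueField A) (MvPowerSeries.constantCoeff (c i)) := by
      rw [IsScalarTower.algebraMap_apply k A, ResidueField.algebraMap_eq, ← sub_eq_zero, ← map_sub,
        residue_eq_zero_iff, IsScalarTower.algebraMap_apply k (MvPowerSeries (Fin r) k) A, ← map_sub]
      refine map_nonunit (algebraMap (MvPowerSeries (Fin r) k) A) _ ?_
      rw [mem_maximalIdeal, mem_nonunits_iff, MvPowerSeries.isUnit_iff_constantCoeff, map_sub]
      simp [MvPowerSeries.algebraMap_apply]
    rw [map_smul, Algebra.smul_def, map_mul, hc, ← Algebra.smul_def]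
    refine Submodule.smul_mem _ _ (Submodule.subset_span (Finset.mem_coe.2 (Finset.mem_image.2
      ⟨i, Finset.mem_univ i, ?_⟩)))
    congr 2
    funext j
    simp [Pi.single_apply, eq_comm]
  haveI : Module.Finite A (AdicCompletion (maximalIdeal A) Ω[A⁄k]) := S4528.result
  set L := FractionRing A
  haveI : IsDomain (MvPowerSeries (Fin r) k) := NoZeroDivisors.to_isDomain _
  -- the relative differentials are torsion
  have hder : ∀ a : A, ∃ s : A, s ≠ 0 ∧ s • KaehlerDifferential.D (MvPowerSeries (Fin r) k) A a = 0 := by
    intro a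
    obtain ⟨P, hP, hsepP⟩ := hsep a
    refine ⟨Polynomial.aeval a P.derivative, ?_, ?_⟩
    · exact aeval_derivative_ne_zero (FractionRing A) hinj P a hP hsepP
    · have := (KaehlerDifferential.D (MvPowerSeries (Fin r) k) A).map_aeval P a
      rw [hP, map_zero] at this
      exact this.symm
  haveI : Algebra.EssFiniteType (MvPowerSeries (Fin r) k) A := inferInstance
  obtain ⟨t, ht⟩ := Module.finite_def.1 (inferInstance : Module.Finite A Ω[A⁄MvPowerSeries (Fin r) k])
  have htor : ∀ w : Ω[A⁄MvPowerSeries (Fin r) k], ∃ s : A, s ≠ 0 ∧ s • w = 0 := by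
    intro w
    have hw : w ∈ Submodule.span A (Set.range (KaehlerDifferential.D (MvPowerSeries (Fin r) k) A)) := by
      rw [KaehlerDifferential.span_range_derivation]; trivial
    induction hw using Submodule.span_induction with
    | mem _ hx => obtain ⟨a, rfl⟩ := hx; exact hder a
    | zero => exact ⟨1, one_ne_zero, smul_zero _⟩
    | add x y _ _ hx hy =>
      obtain ⟨s, hs, hsx⟩ := hx
      obtain ⟨s', hs', hsy⟩ := hy
      exact ⟨s * s', mul_ne_zero hs hs', by
        rw [smul_add, mul_comm, mul_smul, hsx, smul_zero, mul_comm, mul_smul, hsy, smul_zero, add_zero]⟩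
    | smul b x _ hx =>
      obtain ⟨s, hs, hsx⟩ := hx
      exact ⟨s, hs, by rw [smul_comm, hsx, smul_zero]⟩
  choose σ hσ0 hσ using htor
  let s := ∏ w ∈ t, σ w
  have hs0 : s ≠ 0 := Finset.prod_ne_zero_iff.2 fun w _ => hσ0 w
  have hs : ∀ w : Ω[A⁄MvPowerSeries (Fin r) k], s • w = 0 := fun w => by
    have hw : w ∈ Submodule.span A (t : Set Ω[A⁄MvPowerSeries (Fin r) k]) := by rw [ht]; trivial
    induction hw using Submodule.span_induction with
    | mem x hx =>
      obtain ⟨c, hc⟩ := Finset.dvd_prod_of_mem σ hx
      rw [show s = c * σ x by rw [mul_comm, ← hc], mul_smul, hσ, smul_zero]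
    | zero => rw [smul_zero]
    | add x y _ _ hx hy => rw [smul_add, hx, hy, add_zero]
    | smul b x _ hx => rw [smul_comm, hx, smul_zero]
  -- upper bound
  set M := AdicCompletion (maximalIdeal A) Ω[A⁄k]
  let e : Fin r → L ⊗[A] M := fun i => (1 : L) ⊗ₜ[A] AdicCompletion.of (maximalIdeal A) Ω[A⁄k]
      (KaehlerDifferential.D k A (algebraMap (MvPowerSeries (Fin r) k) A (MvPowerSeries.X i)))
  have hspan : Submodule.span L (Set.range e) = ⊤ := by
    rw [eq_top_iff]
    intro z _
    induction z using TensorProduct.induction_on with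
    | zero => exact zero_mem _
    | add a b ha hb => exact add_mem (ha trivial) (hb trivial)
    | tmul c y =>
      have h1 := CKaehlerFree3.smul_mem_span (k := k) s hs y
      have h2 : (1 : L) ⊗ₜ[A] (s • y) ∈ Submodule.span L (Set.range e) := by
        have := Submodule.mem_map_of_mem (f := TensorProduct.mk A L M 1) h1
        rw [Submodule.map_span, ← Set.range_comp] at this
        exact Submodule.span_subset_span A L _ this
      have hsL : algebraMap A L s ≠ 0 := fun h => hs0 (IsFractionRing.injective A L (h.trans (map_zero _).symm))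
      rw [TensorProduct.tmul_smul, ← algebraMap_smul L s] at h2
      rw [show c ⊗ₜ[A] y = c • ((1 : L) ⊗ₜ[A] y) by rw [TensorProduct.smul_tmul', smul_eq_mul, mul_one]]
      exact Submodule.smul_mem _ _ ((Submodule.smul_mem_iff _ hsL).1 h2)
  haveI : Module.Finite L (L ⊗[A] M) := inferInstance
  obtain ⟨φ, hφ⟩ := CKaehlerFree3.exists_surjective_completion (k := k) (n := r) (C := A) L hinj
  refine le_antisymm ?_ ?_
  · calc Module.finrank L (L ⊗[A] M) = Module.finrank L (Submodule.span L (Set.range e)) := by rw [hspan, finrank_top]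
      _ ≤ r := (finrank_range_le_card e).trans (Fintype.card_fin r).le
  · have := LinearMap.finrank_range_le φ
    rw [LinearMap.range_eq_top.2 hφ, finrank_top, Module.finrank_fin_fun] at this
    exact this

end Groth.Agent.S4557
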