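import Groth.Statements.S4559
import Groth.Agent.Lib.AdicSmooth.Deriv

set_option autoImplicit false
universe u
open EGA41

namespace Groth.Agent.S4559

theorem subsingleton_completion_iff {B : Type u} [CommRing B] (𝔟 : Ideal B) (M : Type u) [AddCommGroup M]
    [Module B M] :
    Subsingleton (AdicCompletion 𝔟 M) ↔ ∀ n : ℕ, (𝔟 ^ n • ⊤ : Submodule B M) = ⊤ := by
  constructor
  · intro h n
    rw [← Submodule.Quotient.subsingleton_iff]
    exact (AdicCompletion.eval_surjective 𝔟 M n).subsingleton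
  · intro h
    refine ⟨fun x y => AdicCompletion.ext fun n => ?_⟩
    haveI : Subsingleton (M ⧸ (𝔟 ^ n • ⊤ : Submodule B M)) := Submodule.Quotient.subsingleton_iff.mpr (h n)
    exact Subsingleton.elim _ _

theorem unique_of_sqZero {A B E : Type u} [CommRing A] [CommRing B] [Algebra A B] [CommRing E] [Algebra A E]
    {𝔟 : Ideal B} (h : ∀ n : ℕ, (𝔟 ^ n • ⊤ : Submodule B Ω[B⁄A]) = ⊤) (J : Ideal E) (hJ : J ^ 2 = ⊥)
    (v₁ v₂ : B →ₐ[A] E) (h₁ : ∃ m : ℕ, ∀ x ∈ 𝔟 ^ m, v₁ x = 0)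
    (hv : ∀ b : B, Ideal.Quotient.mk J (v₁ b) = Ideal.Quotient.mk J (v₂ b)) : v₁ = v₂ := by
  letI : Module B J := Module.compHom J v₁.toRingHom
  have hdef : ∀ (b : B) (j : J), ((b • j : J) : E) = v₁ b * (j : E) := fun _ _ => rfl
  haveI : IsScalarTower A B J := ⟨fun a b j => Subtype.ext (by
    show v₁ (a • b) * (j : E) = a • (v₁ b * (j : E))
    rw [map_smul, smul_mul_assoc])⟩
  have hz : ∀ p q : E, p ∈ J → q ∈ J → p * q = 0 := fun p q hp hq => by
    have : p * q ∈ J ^ 2 := by rw [pow_two]; exact Ideal.mul_mem_mul hp hq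
    rwa [hJ, Submodule.mem_bot] at this
  let d₀ : B →ₗ[A] J :=
    { toFun := fun b => ⟨v₁ b - v₂ b, Ideal.Quotient.eq.mp (hv b)⟩
      map_add' := fun x y => Subtype.ext (by
        show v₁ (x + y) - v₂ (x + y) = v₁ x - v₂ x + (v₁ y - v₂ y)
        rw [map_add, map_add]; ring)
      map_smul' := fun a x => Subtype.ext (by
        show v₁ (a • x) - v₂ (a • x) = a • (v₁ x - v₂ x)
        rw [map_smul, map_smul, smul_sub]) }
  have hd₀ : ∀ b, (d₀ b : E) = v₁ b - v₂ b := fun _ => rfl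
  let d : Derivation A B J := Derivation.mk' d₀ fun x y => Subtype.ext (by
    show (d₀ (x * y) : E) = ((x • d₀ y : J) : E) + ((y • d₀ x : J) : E)
    rw [hdef, hdef, hd₀, hd₀, hd₀, map_mul, map_mul]
    linear_combination -hz (v₁ x - v₂ x) (v₁ y - v₂ y) (d₀ x).2 (d₀ y).2)
  obtain ⟨m, hm⟩ := h₁
  have hk : (𝔟 ^ m • ⊤ : Submodule B Ω[B⁄A]) ≤ LinearMap.ker d.liftKaehlerDifferential :=
    Submodule.smul_le.mpr fun a ha w _ => by
      rw [LinearMap.mem_ker, map_smul]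
      exact Subtype.ext (by rw [hdef, hm a ha, zero_mul]; rfl)
  rw [h m, top_le_iff, LinearMap.ker_eq_top] at hk
  refine AlgHom.ext fun b => sub_eq_zero.mp ?_
  have h1 : d b = 0 := by
    rw [← Derivation.liftKaehlerDifferential_comp_D d, hk, LinearMap.zero_apply]
  exact congrArg Subtype.val h1

/-- Let A be 𝔞-adic and B a topological A-algebra for the 𝔟-adic topology (a power of 𝔞 maps into 𝔟).
Then B is a formally unramified A-algebra (for every homomorphism E → C of discrete A-algebras with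
nilpotent kernel and every continuous u : B → C there is at most one continuous lift B → E; here E
discrete means killed by a power of 𝔞, and one may take C = E/J) if and only if the separated
completion of Ω_{B/A}, i.e. its 𝔟-adic completion, is zero. -/
theorem result {A B : Type u} [CommRing A] [CommRing B] [Algebra A B]
    (𝔞 : Ideal A) (𝔟 : Ideal B) (hAB : ∃ k : ℕ, (𝔞 ^ k).map (algebraMap A B) ≤ 𝔟) :
    (∀ (E : Type u) [CommRing E] [Algebra A E], (∃ k : ℕ, (𝔞 ^ k).map (algebraMap A E) = ⊥) →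
      ∀ J : Ideal E, IsNilpotent J → ∀ v₁ v₂ : B →ₐ[A] E,
        (∃ m : ℕ, ∀ x ∈ 𝔟 ^ m, v₁ x = 0) → (∃ m : ℕ, ∀ x ∈ 𝔟 ^ m, v₂ x = 0) →
        (∀ b : B, Ideal.Quotient.mk J (v₁ b) = Ideal.Quotient.mk J (v₂ b)) → v₁ = v₂) ↔
    Subsingleton (AdicCompletion 𝔟 (Ω[B⁄A])) := by
  rw [subsingleton_completion_iff]
  constructor
  · intro h n
    let N := Ω[B⁄A] ⧸ (𝔟 ^ n • ⊤ : Submodule B Ω[B⁄A])
    let d : Derivation A B N := (Submodule.mkQ _).compDer (KaehlerDifferential.D A B)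
    letI : Module (B ⧸ 𝔟 ^ n)ᵐᵒᵖ N := Module.compHom N ((RingHom.id (B ⧸ 𝔟 ^ n)).fromOpposite mul_comm)
    haveI : IsCentralScalar (B ⧸ 𝔟 ^ n) N := ⟨fun _ _ => rfl⟩
    haveI : IsScalarTower A (B ⧸ 𝔟 ^ n) N := ⟨fun a c m => by
      obtain ⟨b, rfl⟩ := Ideal.Quotient.mk_surjective c
      show Ideal.Quotient.mk (𝔟 ^ n) (a • b) • m = a • (Ideal.Quotient.mk (𝔟 ^ n) b • m)
      exact smul_assoc a b m⟩
    let v₁ : B →ₐ[A] TrivSqZeroExt (B ⧸ 𝔟 ^ n) N :=
      (TrivSqZeroExt.inlAlgHom A (B ⧸ 𝔟 ^ n) N).comp (Ideal.Quotient.mkₐ A _)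
    let v₂ : B →ₐ[A] TrivSqZeroExt (B ⧸ 𝔟 ^ n) N :=
      { toFun := fun b => TrivSqZeroExt.inl (Ideal.Quotient.mk (𝔟 ^ n) b) + TrivSqZeroExt.inr (d b)
        map_one' := by simp
        map_mul' := fun x y => TrivSqZeroExt.ext (by simp) (by
          simp only [TrivSqZeroExt.snd_add, TrivSqZeroExt.snd_inl, TrivSqZeroExt.snd_inr, zero_add,
            TrivSqZeroExt.snd_mul, TrivSqZeroExt.fst_add, TrivSqZeroExt.fst_inl, TrivSqZeroExt.fst_inr, add_zero,
            Derivation.leibniz, op_smul_eq_smul]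
          rfl)
        map_zero' := by simp
        map_add' := fun x y => TrivSqZeroExt.ext (by simp) (by simp; abel)
        commutes' := fun a => TrivSqZeroExt.ext (by simp [TrivSqZeroExt.algebraMap_eq_inl'])
          (by simp [TrivSqZeroExt.algebraMap_eq_inl']) }
    have hk : ∃ k : ℕ, (𝔞 ^ k).map (algebraMap A (TrivSqZeroExt (B ⧸ 𝔟 ^ n) N)) = ⊥ := by
      obtain ⟨j, hj⟩ := hAB
      refine ⟨j * n, le_bot_iff.mp (Ideal.map_le_iff_le_comap.mpr fun a ha => ?_)⟩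
      have : algebraMap A B a ∈ 𝔟 ^ n := by
        refine Ideal.pow_right_mono hj n ?_
        rw [← Ideal.map_pow, ← pow_mul]
        exact Ideal.mem_map_of_mem _ ha
      rw [Ideal.mem_comap, Ideal.mem_bot, TrivSqZeroExt.algebraMap_eq_inl',
        IsScalarTower.algebraMap_apply A B (B ⧸ 𝔟 ^ n), Ideal.Quotient.algebraMap_eq,
        Ideal.Quotient.eq_zero_iff_mem.mpr this, TrivSqZeroExt.inl_zero]
    let J : Ideal (TrivSqZeroExt (B ⧸ 𝔟 ^ n) N) := RingHom.ker (TrivSqZeroExt.fstHom A (B ⧸ 𝔟 ^ n) N)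
    have hJ : IsNilpotent J := by
      refine ⟨2, le_bot_iff.mp ?_⟩
      rw [pow_two, Ideal.mul_le]
      intro x hx y hy
      have hx' : x.fst = 0 := hx
      have hy' : y.fst = 0 := hy
      exact Ideal.mem_bot.mpr (TrivSqZeroExt.ext (by simp [hx']) (by simp [hx', hy', TrivSqZeroExt.snd_mul]))
    have heq : v₁ = v₂ := by
      refine h _ hk J hJ v₁ v₂ ⟨n, fun x hx => ?_⟩ ⟨n + n, fun x hx => TrivSqZeroExt.ext ?_ ?_⟩ fun b => ?_
      · show TrivSqZeroExt.inl (Ideal.Quotient.mk (𝔟 ^ n) x) = 0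
        rw [Ideal.Quotient.eq_zero_iff_mem.mpr hx, TrivSqZeroExt.inl_zero]
      · show (TrivSqZeroExt.inl (Ideal.Quotient.mk (𝔟 ^ n) x) + TrivSqZeroExt.inr (d x) :
          TrivSqZeroExt (B ⧸ 𝔟 ^ n) N).fst = 0
        simp [Ideal.Quotient.eq_zero_iff_mem.mpr (Ideal.pow_le_pow_right (Nat.le_add_right n n) hx)]
      · show (TrivSqZeroExt.inl (Ideal.Quotient.mk (𝔟 ^ n) x) + TrivSqZeroExt.inr (d x) :
          TrivSqZeroExt (B ⧸ 𝔟 ^ n) N).snd = 0
        simp only [TrivSqZeroExt.snd_add, TrivSqZeroExt.snd_inl, TrivSqZeroExt.snd_inr, zero_add]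
        refine AdicSmooth.derivation_eq_zero_of_mem_pow n (fun a ha m => ?_) d hx
        obtain ⟨w, rfl⟩ := Submodule.Quotient.mk_surjective _ m
        rw [← Submodule.Quotient.mk_smul, Submodule.Quotient.mk_eq_zero]
        exact Submodule.smul_mem_smul ha trivial
      · rw [Ideal.Quotient.eq]
        show (v₁ b - v₂ b).fst = 0
        simp [v₁, v₂]
    have hd : ∀ b, d b = 0 := fun b => by
      have := congrArg TrivSqZeroExt.snd (AlgHom.congr_fun heq b)
      simpa [v₁, v₂] using this.symm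
    refine eq_top_iff.mpr (le_of_eq_of_le (KaehlerDifferential.span_range_derivation A B).symm
      (Submodule.span_le.mpr ?_))
    rintro _ ⟨b, rfl⟩
    exact (Submodule.Quotient.mk_eq_zero _).mp (hd b)
  · intro h E _ _ hE J hJ
    revert hE ‹Algebra A E›
    apply Ideal.IsNilpotent.induction_on (S := E) J hJ
    · intro E _ J hJ _ hE v₁ v₂ h₁ _ hv
      exact unique_of_sqZero h J hJ v₁ v₂ h₁ hv
    · intro E _ I J hIJ hI hJ _ hE v₁ v₂ h₁ h₂ hv
      refine hI hE v₁ v₂ h₁ h₂ fun b => AlgHom.congr_fun ?_ b (φ₁ := (Ideal.Quotient.mkₐ A I).comp v₁)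
        (φ₂ := (Ideal.Quotient.mkₐ A I).comp v₂)
      have hE' : ∃ k : ℕ, (𝔞 ^ k).map (algebraMap A (E ⧸ I)) = ⊥ := by
        obtain ⟨k, hk⟩ := hE
        refine ⟨k, ?_⟩
        rw [← Ideal.Quotient.mk_comp_algebraMap, ← Ideal.map_map, hk, Ideal.map_bot]
      refine hJ hE' _ _ (h₁.imp fun m hm x hx => by simp [hm x hx])
        (h₂.imp fun m hm x hx => by simp [hm x hx]) fun b => ?_
      rw [Ideal.Quotient.eq, AlgHom.comp_apply, AlgHom.comp_apply, Ideal.Quotient.mkₐ_eq_mk, ← map_sub]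
      exact Ideal.mem_map_of_mem _ (Ideal.Quotient.eq.mp (hv b))

end Groth.Agent.S4559
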