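import Groth.Statements.S4560
import Groth.Agent.Lib.AdicSmooth.Unramified

set_option autoImplicit false
universe u
open TensorProduct
open EGA41

namespace Groth.Agent.S4560

/-- Let A be a ring, 𝔪 an ideal of A, B an A-algebra; give A the 𝔪-adic topology and B the topology
deduced from it (the 𝔪B-adic topology), and put A₀ = A/𝔪, B₀ = B/𝔪B. Then B is a formally unramified
A-algebra (for these topologies: E discrete means killed by a power of 𝔪, and continuity of maps B →
E is then automatic) if and only if Ω_{B₀/A₀} = 0, i.e. B₀ is a formally unramified A₀-algebra. -/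
theorem result {A B : Type u} [CommRing A] [CommRing B] [Algebra A B] (𝔪 : Ideal A) :
    (∀ (E : Type u) [CommRing E] [Algebra A E], (∃ k : ℕ, (𝔪 ^ k).map (algebraMap A E) = ⊥) →
      ∀ J : Ideal E, IsNilpotent J → ∀ v₁ v₂ : B →ₐ[A] E,
        (∀ b : B, Ideal.Quotient.mk J (v₁ b) = Ideal.Quotient.mk J (v₂ b)) → v₁ = v₂) ↔
    Subsingleton (Ω[B ⧸ 𝔪.map (algebraMap A B)⁄A ⧸ 𝔪]) := by
  have e : Algebra.FormallyUnramified (A ⧸ 𝔪) (B ⧸ 𝔪.map (algebraMap A B)) ↔
      Subsingleton (Ω[B ⧸ 𝔪.map (algebraMap A B)⁄A ⧸ 𝔪]) := Algebra.formallyUnramified_iff _ _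
  rw [← e]
  constructor
  · intro h
    rw [Algebra.FormallyUnramified.iff_comp_injective]
    intro E _ _ I hI v₁ v₂ heq
    letI : Algebra A E := ((algebraMap (A ⧸ 𝔪) E).comp (algebraMap A (A ⧸ 𝔪))).toAlgebra
    haveI : IsScalarTower A (A ⧸ 𝔪) E := IsScalarTower.of_algebraMap_eq fun _ => rfl
    have hE : (𝔪 ^ 1).map (algebraMap A E) = ⊥ := by
      rw [pow_one, IsScalarTower.algebraMap_eq A (A ⧸ 𝔪) E, ← Ideal.map_map, Ideal.Quotient.algebraMap_eq,
        Ideal.map_quotient_self, Ideal.map_bot]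
    have := h E ⟨1, hE⟩ I ⟨2, hI⟩ ((v₁.restrictScalars A).comp (Ideal.Quotient.mkₐ A _))
      ((v₂.restrictScalars A).comp (Ideal.Quotient.mkₐ A _)) (fun b => AlgHom.congr_fun heq _)
    refine AlgHom.ext fun x => ?_
    obtain ⟨b, rfl⟩ := Ideal.Quotient.mk_surjective x
    exact AlgHom.congr_fun this b
  · intro h E _ _ hE J hJ v₁ v₂ heq
    obtain ⟨k, hk⟩ := hE
    let I := 𝔪.map (algebraMap A B)
    have htop : I • (⊤ : Submodule B (Ω[B⁄A])) = ⊤ := by
      haveI := h
      haveI : IsScalarTower A (A ⧸ 𝔪) (B ⧸ I) := IsScalarTower.of_algebraMap_eq fun _ => rfl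
      haveI : Algebra.FormallyUnramified A (B ⧸ I) := Algebra.FormallyUnramified.comp A (A ⧸ 𝔪) (B ⧸ I)
      have hexact := KaehlerDifferential.exact_kerCotangentToTensor_mapBaseChange A B (B ⧸ I)
        Ideal.Quotient.mk_surjective
      have hD : ∀ x ∈ I, KaehlerDifferential.D A B x ∈ I • (⊤ : Submodule B (Ω[B⁄A])) := by
        intro x hx
        refine Submodule.span_induction ?_ (by simp) (fun a b _ _ ha hb => by rw [map_add]; exact add_mem ha hb)
          (fun a b hb' hb => ?_) hx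
        · rintro _ ⟨a, -, rfl⟩; simp
        · rw [smul_eq_mul, Derivation.leibniz]
          exact add_mem (Submodule.smul_mem _ _ hb) (Submodule.smul_mem_smul hb' trivial)
      have h0 : ∀ z : (B ⧸ I) ⊗[B] Ω[B⁄A], z = 0 := by
        intro z
        obtain ⟨y, rfl⟩ := (hexact z).1 (Subsingleton.elim _ _)
        obtain ⟨⟨x, hx⟩, rfl⟩ := Ideal.toCotangent_surjective _ y
        rw [KaehlerDifferential.kerCotangentToTensor_toCotangent]
        apply (TensorProduct.quotTensorEquivQuotSMul (Ω[B⁄A]) I).injective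
        rw [map_zero, show (1 : B ⧸ I) = Ideal.Quotient.mk I 1 from rfl,
          TensorProduct.quotTensorEquivQuotSMul_mk_tmul, one_smul, Submodule.Quotient.mk_eq_zero]
        exact hD x (Ideal.Quotient.eq_zero_iff_mem.1 (RingHom.mem_ker.1 hx))
      refine eq_top_iff.2 fun w _ => (Submodule.Quotient.mk_eq_zero _).1 ?_
      obtain ⟨z, hz⟩ := (TensorProduct.quotTensorEquivQuotSMul (Ω[B⁄A]) I).surjective (Submodule.Quotient.mk w)
      rw [← hz, h0 z, map_zero]
    have hpow : ∀ j : ℕ, I ^ j • (⊤ : Submodule B (Ω[B⁄A])) = ⊤ := by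
      intro j
      induction j with
      | zero => simp
      | succ j ih => rw [pow_succ, ← smul_eq_mul, smul_assoc, htop, ih]
    have hkill : ∀ v : B →ₐ[A] E, ∀ x ∈ I ^ k, v x = 0 := fun v x hx => by
      have h2 : (I ^ k).map v.toRingHom = ⊥ := by
        rw [← Ideal.map_pow, Ideal.map_map, ← hk]; congr 1; exact v.comp_algebraMap
      exact Ideal.mem_bot.1 (h2 ▸ Ideal.mem_map_of_mem v.toRingHom hx)
    exact AdicSmooth.algHom_ext_of_smul_top_eq_top (I ^ k) (hpow k) J hJ v₁ v₂ (hkill v₁) (hkill v₂) heq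

end Groth.Agent.S4560
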