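import Groth.Statements.S4561
import Groth.Agent.Lib.NagJac3.Field
import Mathlib

set_option autoImplicit false
universe u
open EGA41

namespace Groth.Agent.S4561

/-- Let k₀ be a field of characteristic p > 0 with [k₀ : k₀^p] < ∞ and K₀ an extension of k₀. Inside
K₀((T_1, …, T_r)) one has (k₀(K₀^p))((T_1, …, T_r)) = k₀(K₀^p((T_1, …, T_r))); here, for a subfield
F of K₀, F((T)) denotes the subfield of the fraction field of K₀[[T]] generated by the power series
with all coefficients in F. -/
theorem result (p : ℕ) [Fact p.Prime] {k₀ K₀ : Type u} [Field k₀] [Field K₀] [Algebra k₀ K₀] [CharP k₀ p]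
    (hfin : Module.Finite (Subfield.closure (Set.range fun x : k₀ => x ^ p)) k₀) (r : ℕ) :
    Subfield.closure (algebraMap (MvPowerSeries (Fin r) K₀) (FractionRing (MvPowerSeries (Fin r) K₀)) ''
        {f | ∀ n, MvPowerSeries.coeff n f ∈
          Subfield.closure (Set.range (algebraMap k₀ K₀) ∪ Set.range fun y : K₀ => y ^ p)}) =
      Subfield.closure
        (Set.range (algebraMap k₀ (FractionRing (MvPowerSeries (Fin r) K₀))) ∪
          (Subfield.closure (algebraMap (MvPowerSeries (Fin r) K₀) (FractionRing (MvPowerSeries (Fin r) K₀)) ''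
            {f | ∀ n, MvPowerSeries.coeff n f ∈ Subfield.closure (Set.range fun y : K₀ => y ^ p)}) :
            Set (FractionRing (MvPowerSeries (Fin r) K₀)))) := by
  classical
  haveI : ExpChar k₀ p := ExpChar.prime Fact.out
  haveI : CharP K₀ p := charP_of_injective_algebraMap (algebraMap k₀ K₀).injective p
  have hfr : Subfield.closure (Set.range fun x : k₀ => x ^ p) = (frobenius k₀ p).fieldRange :=
    le_antisymm (Subfield.closure_le.2 (by rintro _ ⟨x, rfl⟩; exact ⟨x, rfl⟩))
      fun y ⟨x, hx⟩ => Subfield.subset_closure ⟨x, hx⟩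
  haveI : Module.Finite (frobenius k₀ p).fieldRange k₀ := hfr ▸ hfin
  obtain ⟨N, e, he⟩ := Groth.Agent.NagJac3.exists_pField_span p (k := k₀) (K := K₀)
  let A := MvPowerSeries (Fin r) K₀
  let L := FractionRing A
  have halg : ∀ c : k₀, algebraMap k₀ L c = algebraMap A L (MvPowerSeries.C (algebraMap k₀ K₀ c)) := fun c => by
    rw [IsScalarTower.algebraMap_apply k₀ A L, MvPowerSeries.algebraMap_apply]
  have hCmem : ∀ (F : Subfield K₀) (c : K₀), c ∈ F → ∀ n, MvPowerSeries.coeff n (MvPowerSeries.C c : A) ∈ F := fun F c hc n => by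
    rw [MvPowerSeries.coeff_C]
    split_ifs
    · exact hc
    · exact zero_mem F
  refine le_antisymm (Subfield.closure_le.2 ?_) (Subfield.closure_le.2 ?_)
  · rintro _ ⟨f, hf, rfl⟩
    have hle : Subfield.closure (Set.range (algebraMap k₀ K₀) ∪ Set.range fun y : K₀ => y ^ p) ≤ PBasis.pField p k₀ K₀ :=
      Subfield.closure_le.2 (by
        rintro _ (⟨c, rfl⟩ | ⟨y, rfl⟩)
        · exact (pPowerSubalgebra p k₀ K₀).algebraMap_mem c
        · exact PBasis.pow_mem_pField p k₀ K₀ y)
    choose g hg using fun n => he _ (hle (hf n))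
    let fj : Fin N → A := fun j n => g n j ^ p
    have hfj : f = ∑ j, MvPowerSeries.C (algebraMap k₀ K₀ (e j)) * fj j := MvPowerSeries.ext fun n => by
      rw [map_sum, hg n]
      exact Finset.sum_congr rfl fun j _ => (MvPowerSeries.coeff_C_mul n (fj j) _).symm
    rw [hfj, map_sum]
    refine sum_mem fun j _ => ?_
    rw [map_mul, ← halg]
    exact mul_mem (Subfield.subset_closure (Or.inl ⟨e j, rfl⟩)) (Subfield.subset_closure (Or.inr
      (Subfield.subset_closure ⟨fj j, fun n => Subfield.subset_closure ⟨g n j, rfl⟩, rfl⟩)))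
  · rintro x (⟨c, rfl⟩ | hx)
    · rw [halg]
      exact Subfield.subset_closure ⟨_, hCmem _ _ (Subfield.subset_closure (Or.inl ⟨c, rfl⟩)), rfl⟩
    · refine Subfield.closure_mono (Set.image_mono fun f hf n => ?_) hx
      exact Subfield.closure_mono Set.subset_union_right (hf n)

end Groth.Agent.S4561
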