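import Groth.Statements.S4566
import Groth.Agent.Lib.CAlgLow.AnUnram
import Groth.Agent.Lib.CplDomain.Nagata
import Groth.Agent.Lib.CplLocH7.Basic

set_option autoImplicit false
universe u
open CAlg

namespace Groth.Agent.S4566

open scoped TensorProduct


/-- Let A be a Noetherian local domain with fraction field K whose adic completion Â is reduced, and R
the total ring of fractions of Â with its K-algebra structure. If R is geometrically reduced over K
then A is Japanese (N-2). (The published statement asks R to be a separable K-algebra; what is used
is that K' ⊗_K R is reduced for every finite extension K' of K, which geometric reducedness gives.) -/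
theorem result {A R : Type u}
    [CommRing A] [IsDomain A] [IsLocalRing A] [IsNoetherianRing A]
    (hred : IsReduced (AdicCompletion (IsLocalRing.maximalIdeal A) A))
    [CommRing R] [Algebra (AdicCompletion (IsLocalRing.maximalIdeal A) A) R]
    [IsFractionRing (AdicCompletion (IsLocalRing.maximalIdeal A) A) R] [Algebra A R]
    [IsScalarTower A (AdicCompletion (IsLocalRing.maximalIdeal A) A) R]
    [Algebra (FractionRing A) R] [IsScalarTower A (FractionRing A) R]
    (h : Algebra.IsGeometricallyReduced (FractionRing A) R) :
    CAlg.IsN2 A := by
  haveI : Module.FaithfullyFlat A (AdicCompletion (IsLocalRing.maximalIdeal A) A) := CplLocH7.faithfullyFlat_cpl A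
  haveI : IsNoetherianRing (AdicCompletion (IsLocalRing.maximalIdeal A) A) := CplLocH7.isNoetherianRing_cpl A
  haveI := h
  intro K' _ _ _ _ hfin
  haveI := hfin
  haveI : Algebra.IsAlgebraic (FractionRing A) K' := Algebra.IsAlgebraic.of_finite _ _
  haveI : IsReduced (K' ⊗[FractionRing A] R) := inferInstance
  haveI := IsLocalization.tensorProduct_compatibleSMul (nonZeroDivisors A) (FractionRing A) K' R
  haveI : IsReduced (K' ⊗[A] R) :=
    isReduced_of_injective (Algebra.TensorProduct.equivOfCompatibleSMul A (FractionRing A) (FractionRing A) K' R).symm
      (AlgEquiv.injective _)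
  haveI : IsReduced (R ⊗[A] K') :=
    isReduced_of_injective (Algebra.TensorProduct.comm A R K') (AlgEquiv.injective _)
  exact AnUnram.finite_integralClosure_of_isReduced_fibre (AdicCompletion (IsLocalRing.maximalIdeal A) A)
    (CplDomain.isNagata_of_complete _) (nonZeroDivisors _) R (IsFractionRing.injective _ R)
    (fun a ha => AnUnram.isUnit_algebraMap_of_flat (AdicCompletion (IsLocalRing.maximalIdeal A) A) R a ha) K'

end Groth.Agent.S4566
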