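import Groth.Statements.S4567
import Groth.Agent.Lib.Branch14.BirScheme
import Groth.Agent.Lib.Branch14.Corollaries
import Groth.Agent.Lib.UnivHomeo.Basic

set_option autoImplicit false
universe u
open AlgebraicGeometry
open CAlg2

namespace Groth.Agent.S4567

theorem gu_spec (R : Type u) [CommRing R] (x : Spec (CommRingCat.of R)) :
    CAlg2.IsGeomUnibranch ((Spec (CommRingCat.of R)).presheaf.stalk x) ↔
      CAlg2.IsGeomUnibranch (Localization.AtPrime x.asIdeal) := by
  letI : Algebra R ((Spec (CommRingCat.of R)).presheaf.stalk x) := StructureSheaf.stalkAlgebra R x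
  haveI : IsLocalization.AtPrime ((Spec (CommRingCat.of R)).presheaf.stalk x) x.asIdeal :=
    inferInstanceAs (IsLocalization.AtPrime ((Spec.structureSheaf R).presheaf.stalk x) x.asIdeal)
  exact Branch14.Bir.gu_congr (IsLocalization.algEquiv x.asIdeal.primeCompl _ _).toRingEquiv

theorem normal_stalk {A : Type u} [CommRing A] [IsDomain A]
    (x : Spec (CommRingCat.of (integralClosure A (FractionRing A)))) :
    CAlg2.IsGeomUnibranch ((Spec (CommRingCat.of (integralClosure A (FractionRing A)))).presheaf.stalk x) := by
  haveI : IsIntegrallyClosed (integralClosure A (FractionRing A)) :=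
    haveI : IsFractionRing (integralClosure A (FractionRing A)) (FractionRing A) :=
      integralClosure.isFractionRing_of_finite_extension (FractionRing A) (FractionRing A)
    (IsIntegrallyClosed.integralClosure_eq_bot_iff (FractionRing A)).mp integralClosure_idem
  haveI := x.2
  haveI : IsIntegrallyClosed (Localization.AtPrime x.asIdeal) :=
    isIntegrallyClosed_of_isLocalization _ x.asIdeal.primeCompl x.asIdeal.primeCompl_le_nonZeroDivisors
  haveI : IsDomain (Localization.AtPrime x.asIdeal) :=
    IsLocalization.isDomain_localization x.asIdeal.primeCompl_le_nonZeroDivisors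
  exact (gu_spec _ x).2
    (Branch14.isGeomUnibranch_of_isIntegrallyClosed (Localization.AtPrime x.asIdeal))

theorem isBirational {A : Type u} [CommRing A] [IsDomain A] :
    RadPt.IsBirational (Spec.map (CommRingCat.ofHom (algebraMap A (integralClosure A (FractionRing A))))) := by
  have hgen : ∀ (R : Type u) [CommRing R] [IsDomain R] (x : Spec (CommRingCat.of R)),
      x ∈ genericPoints (Spec (CommRingCat.of R)) ↔ x.asIdeal = ⊥ := by
    intro R _ _ x
    rw [Branch14.Bir.mem_genericPoints_iff_forall]
    constructor
    · intro h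
      exact (congrArg PrimeSpectrum.asIdeal (h ⟨⊥, Ideal.isPrime_bot⟩
        ((PrimeSpectrum.le_iff_specializes _ x).1 (bot_le (a := x.asIdeal))))).symm
    · intro h z hz
      refine PrimeSpectrum.ext ?_
      rw [h, eq_bot_iff, ← h]
      exact (PrimeSpectrum.le_iff_specializes z x).2 hz
  have hinj : Function.Injective (algebraMap A (integralClosure A (FractionRing A))) := fun x y h =>
    IsFractionRing.injective A (FractionRing A) (congrArg Subtype.val h)
  have hbot : ∀ q : Ideal (integralClosure A (FractionRing A)), q.IsPrime →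
      q.comap (algebraMap A (integralClosure A (FractionRing A))) = ⊥ → q = ⊥ :=
    fun q _ h => Ideal.eq_bot_of_comap_eq_bot h
  set f := Spec.map (CommRingCat.ofHom (algebraMap A (integralClosure A (FractionRing A))))
  have hover : ∀ x, f x ∈ genericPoints (Spec (CommRingCat.of A)) → x.asIdeal = ⊥ := fun x hx =>
    hbot _ x.2 ((hgen A _).1 hx)
  have hcomap : ∀ x, x.asIdeal = ⊥ → f x ∈ genericPoints (Spec (CommRingCat.of A)) := fun x hx => by
    refine (hgen A _).2 ?_
    show x.asIdeal.comap (algebraMap A (integralClosure A (FractionRing A))) = ⊥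
    rw [hx]
    exact Ideal.comap_bot_of_injective _ hinj
  refine ⟨⟨fun x hx => hcomap x ((hgen _ x).1 hx), fun x hx x' hx' _ => ?_, fun y hy => ?_⟩,
    fun y hy => ⟨fun x x' hx hx' => ?_, fun x hx => ⟨(f.residueFieldMap x).hom.injective, fun z => ?_⟩⟩⟩
  · exact PrimeSpectrum.ext (((hgen _ x).1 hx).trans ((hgen _ x').1 hx').symm)
  · refine ⟨⟨⊥, Ideal.isPrime_bot⟩, (hgen _ _).2 rfl, PrimeSpectrum.ext ?_⟩
    rw [(hgen A y).1 hy]
    exact Ideal.comap_bot_of_injective _ hinj
  · subst hx
    exact PrimeSpectrum.ext ((hover x hy).trans (hover x' (hx' ▸ hy)).symm)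
  · subst hx
    have hx0 := hover x hy
    obtain ⟨c, t, ht, hc⟩ := UH.exists_ev _ x z
    have key : ∀ b : integralClosure A (FractionRing A),
        ∃ w, f.residueFieldMap x w = UH.ev _ x b := by
      intro b
      refine (UH.resAt_iff (algebraMap A (integralClosure A (FractionRing A))) x b).mp ?_
      obtain ⟨a, s, hs, hb⟩ := IsFractionRing.div_surjective (A := A) (b : FractionRing A)
      refine ⟨a, s, ?_, ?_⟩
      · rw [hx0, Ideal.mem_bot]
        exact fun h => nonZeroDivisors.ne_zero hs (hinj (h.trans (map_zero _).symm))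
      · rw [hx0, Ideal.mem_bot, sub_eq_zero]
        refine Subtype.ext ?_
        show algebraMap A (FractionRing A) s * (b : FractionRing A) = algebraMap A (FractionRing A) a
        rw [← hb, mul_div_cancel₀]
        exact IsFractionRing.to_map_ne_zero_of_mem_nonZeroDivisors hs
    obtain ⟨z₁, h₁⟩ := key c
    obtain ⟨z₂, h₂⟩ := key t
    refine ⟨z₁ / z₂, ?_⟩
    show (f.residueFieldMap x).hom (z₁ / z₂) = z
    rw [map_div₀]
    erw [h₁, h₂]
    rw [div_eq_iff (fun h0 => ht ((UH.ev_eq_zero _ x _).mp h0)), ← hc, mul_comm]


/-- Let A be a domain with integral closure A' (in its fraction field) and f : Spec A' → Spec A the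
canonical morphism. Then f is radicial (universally injective) if and only if every local ring A_p
is geometrically unibranch; when this holds f is a homeomorphism. -/
theorem result {A : Type u} [CommRing A] [IsDomain A] :
    (UniversallyInjective (Spec.map (CommRingCat.ofHom (algebraMap A (integralClosure A (FractionRing A))))) ↔
      ∀ (p : Ideal A) [p.IsPrime], CAlg2.IsGeomUnibranch (Localization.AtPrime p)) ∧
    ((∀ (p : Ideal A) [p.IsPrime], CAlg2.IsGeomUnibranch (Localization.AtPrime p)) →
      IsHomeomorph (PrimeSpectrum.comap (algebraMap A (integralClosure A (FractionRing A))))) := by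
  haveI : IsIntegralHom (Spec.map (CommRingCat.ofHom (algebraMap A (integralClosure A (FractionRing A))))) :=
    IsIntegralHom.SpecMap_iff.mpr (algebraMap_isIntegral_iff.mpr inferInstance)
  have hb := isBirational (A := A)
  have key := Branch14.Bir.iff_universallyInjective _ hb
  have hY : (∀ y : Spec (CommRingCat.of A), CAlg2.IsGeomUnibranch ((Spec (CommRingCat.of A)).presheaf.stalk y)) ↔
      ∀ (p : Ideal A) [p.IsPrime], CAlg2.IsGeomUnibranch (Localization.AtPrime p) := by
    constructor
    · intro h p hp
      let y : Spec (CommRingCat.of A) := ⟨p, hp⟩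
      exact (gu_spec A y).1 (h y)
    · intro h y
      haveI := y.2
      exact (gu_spec A y).2 (h y.asIdeal)
  have main : UniversallyInjective (Spec.map (CommRingCat.ofHom (algebraMap A (integralClosure A (FractionRing A))))) ↔
      ∀ (p : Ideal A) [p.IsPrime], CAlg2.IsGeomUnibranch (Localization.AtPrime p) :=
    ⟨fun h => hY.1 (key.2 ⟨normal_stalk, h⟩), fun h => (key.1 (hY.2 h)).2⟩
  refine ⟨main, fun h => ?_⟩
  have hi := ((tfae_universallyInjective _).out 0 2).1 (main.2 h)
  rw [isHomeomorph_iff_continuous_isClosedMap_bijective]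
  refine ⟨by fun_prop, PrimeSpectrum.isClosedMap_comap_of_isIntegral _ (algebraMap_isIntegral_iff.mpr inferInstance),
    hi.1, fun y => ?_⟩
  obtain ⟨Q, -, hQ, hQp⟩ := Ideal.exists_ideal_over_prime_of_isIntegral y.asIdeal (⊥ : Ideal (integralClosure A (FractionRing A)))
    (by rw [Ideal.comap_bot_of_injective _ fun x y h => IsFractionRing.injective A (FractionRing A) (congrArg Subtype.val h)]; exact bot_le)
  exact ⟨⟨Q, hQ⟩, PrimeSpectrum.ext hQp⟩

end Groth.Agent.S4567
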