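import Groth.Statements.S4569
import Mathlib.RingTheory.Localization.AtPrime.Basic

set_option autoImplicit false
universe u
open CAlg

namespace Groth.Agent.S4569

/-- Let A be a ring, x a non-zero-divisor of A with p = xA prime. For every n > 0 the inverse image in A
of x^n A_p is x^n A. -/
theorem result {A : Type u} [CommRing A] (x : A)
    (hx : x ∈ nonZeroDivisors A) [(Ideal.span ({x} : Set A)).IsPrime] (n : ℕ) (hn : 0 < n) :
    Ideal.comap (algebraMap A (Localization.AtPrime (Ideal.span ({x} : Set A))))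
      (Ideal.map (algebraMap A (Localization.AtPrime (Ideal.span ({x} : Set A)))) (Ideal.span ({x ^ n} : Set A))) =
      Ideal.span ({x ^ n} : Set A) := by
  clear hn
  refine le_antisymm ?_ Ideal.le_comap_map
  intro a ha
  rw [Ideal.mem_comap, IsLocalization.mem_map_algebraMap_iff (Ideal.span ({x} : Set A)).primeCompl] at ha
  obtain ⟨⟨⟨b, hb⟩, ⟨s, hs⟩⟩, he⟩ := ha
  rw [← map_mul, IsLocalization.eq_iff_exists (Ideal.span ({x} : Set A)).primeCompl] at he
  obtain ⟨⟨t, ht⟩, he⟩ := he
  have hts : t * s ∉ Ideal.span ({x} : Set A) := (Ideal.IsPrime.mul_notMem inferInstance ht hs)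
  have hmem : t * s * a ∈ Ideal.span ({x ^ n} : Set A) := by
    rw [show t * s * a = t * (a * s) by ring, he]
    exact Ideal.mul_mem_left _ _ hb
  clear he hb
  induction n generalizing a with
  | zero => rw [pow_zero, Ideal.span_singleton_one]; trivial
  | succ m ih =>
    obtain ⟨c, hc⟩ := Ideal.mem_span_singleton.1 hmem
    have ha : a ∈ Ideal.span ({x} : Set A) :=
      ((inferInstance : (Ideal.span ({x} : Set A)).IsPrime).mem_or_mem
        (Ideal.mem_span_singleton.2 ⟨x ^ m * c, by rw [hc]; ring⟩)).resolve_left hts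
    obtain ⟨a', rfl⟩ := Ideal.mem_span_singleton.1 ha
    have h' : t * s * a' = x ^ m * c := by
      refine (mul_cancel_left_mem_nonZeroDivisors hx).1 ?_
      calc x * (t * s * a') = t * s * (x * a') := by ring
        _ = x * (x ^ m * c) := by rw [hc]; ring
    obtain ⟨d, hd⟩ := Ideal.mem_span_singleton.1 (ih (Ideal.mem_span_singleton.2 ⟨c, h'⟩))
    exact Ideal.mem_span_singleton.2 ⟨d, by rw [hd]; ring⟩

end Groth.Agent.S4569
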