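import Groth.Statements.S4575
import Groth.Agent.Lib.RegLoc.Sop

set_option autoImplicit false
universe u
open IsLocalRing
open EGA41

namespace Groth.Agent.S4575

open IsLocalRing in
theorem indep_of_card {A : Type u} [CommRing A] [IsLocalRing A] [IsNoetherianRing A] {ι : Type*} [Fintype ι]
    (z : ι → A) (hz : Ideal.span (Set.range z) = maximalIdeal A) (hc : Fintype.card ι ≤ (maximalIdeal A).spanFinrank)
    (a : ι → A) (ha : ∑ i, a i * z i ∈ maximalIdeal A ^ 2) (i : ι) : a i ∈ maximalIdeal A := by
  classical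
  by_contra hi
  obtain ⟨w, hw⟩ := (IsLocalRing.notMem_maximalIdeal.1 hi).exists_left_inv
  let s : Finset A := (Finset.univ.erase i).image z
  have hzi : z i ∈ Ideal.span (s : Set A) ⊔ maximalIdeal A • maximalIdeal A := by
    have hsum : ∑ j ∈ Finset.univ.erase i, a j * z j ∈ Ideal.span (s : Set A) := Ideal.sum_mem _ fun j hj =>
      Ideal.mul_mem_left _ _ (Ideal.subset_span (Finset.mem_coe.2 (Finset.mem_image_of_mem z hj)))
    have : z i = w * (∑ j, a j * z j) - w * ∑ j ∈ Finset.univ.erase i, a j * z j := by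
      rw [← Finset.add_sum_erase _ _ (Finset.mem_univ i), mul_add, add_sub_cancel_right, ← mul_assoc, hw, one_mul]
    rw [this]
    refine sub_mem (Submodule.mem_sup_right ?_) (Submodule.mem_sup_left (Ideal.mul_mem_left _ _ hsum))
    rw [smul_eq_mul, ← pow_two]
    exact Ideal.mul_mem_left _ _ ha
  have hle : maximalIdeal A ≤ Ideal.span (s : Set A) := by
    refine Submodule.le_of_le_smul_of_le_jacobson_bot (IsNoetherian.noetherian _) (maximalIdeal_le_jacobson _) ?_
    conv_lhs => rw [← hz]
    rw [Ideal.span_le]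
    rintro _ ⟨j, rfl⟩
    by_cases hj : j = i
    · subst hj; exact hzi
    · exact Submodule.mem_sup_left (Ideal.subset_span (Finset.mem_coe.2
        (Finset.mem_image_of_mem z (Finset.mem_erase.2 ⟨hj, Finset.mem_univ j⟩))))
  have heq : maximalIdeal A = Ideal.span (s : Set A) := le_antisymm hle (by
    rw [← hz]; refine Ideal.span_mono ?_; intro x hx
    obtain ⟨j, -, rfl⟩ := Finset.mem_image.1 (Finset.mem_coe.1 hx); exact ⟨j, rfl⟩)
  have h1 : (maximalIdeal A).spanFinrank ≤ s.card := by
    rw [heq, ← Set.ncard_coe_finset]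
    exact Submodule.spanFinrank_span_le_ncard_of_finite s.finite_toSet
  have h2 : s.card < Fintype.card ι :=
    lt_of_le_of_lt Finset.card_image_le (Finset.card_lt_univ_of_notMem (Finset.notMem_erase i _))
  omega

/-- Let R be a regular local ring with maximal ideal m and n a proper ideal with R/n regular. Then
(n/n²) ⊗_R K → (m/m²) ⊗_R K is injective, K the residue field; stated in the equivalent form n ∩ m²
= m·n (the kernel of n/mn → m/m² is (n ∩ m²)/mn). -/
theorem result {R : Type u} [CommRing R] [IsRegularLocalRing R]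
    (n : Ideal R) (hn : n ≠ ⊤) (hreg : IsRegularRing (R ⧸ n)) :
    n ⊓ maximalIdeal R ^ 2 = maximalIdeal R * n := by
  haveI : Nontrivial (R ⧸ n) := Ideal.Quotient.nontrivial_iff.2 hn
  haveI : IsLocalRing (R ⧸ n) := .of_surjective' (Ideal.Quotient.mk n) Ideal.Quotient.mk_surjective
  haveI := hreg
  haveI : IsRegularLocalRing (R ⧸ n) := IsRegularLocalRing.of_isRegularRing_of_isLocalRing _
  obtain ⟨x, c, hc, hx, hnx⟩ := Groth.Agent.RegLoc.exists_generators_of_regular_quotient _ R n rfl
  refine le_antisymm ?_ (le_inf Ideal.mul_le_right ?_)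
  · rintro z ⟨hzn, hz2⟩
    rw [hnx] at hzn
    obtain ⟨a, rfl⟩ := Ideal.mem_span_range_iff_exists_fun.1 hzn
    let a' : Fin (maximalIdeal R).spanFinrank → R := fun j => if h : (j : ℕ) < c then a ⟨j, h⟩ else 0
    have hsum : ∑ j, a' j * x j = ∑ i, a i * x (Fin.castLE hc i) := by
      rw [← (Fintype.sum_of_injective (Fin.castLE hc) (Fin.castLE_injective hc) _ (fun j => a' j * x j) ?_ ?_)]
      · intro j hj
        have : ¬ (j : ℕ) < c := fun h => hj ⟨⟨j, h⟩, rfl⟩
        simp [a', this]
      · intro i; simp [a', i.isLt]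
    rw [show (∑ i, a i * x (Fin.castLE hc i) : R) = ∑ i, a i * x (Fin.castLE hc i) from rfl] at hz2
    refine Ideal.sum_mem _ fun i _ => Ideal.mul_mem_mul ?_ (hnx ▸ Ideal.subset_span ⟨i, rfl⟩)
    have := indep_of_card x hx (by simp) a' (by rw [hsum]; exact hz2) (Fin.castLE hc i)
    simpa [a', i.isLt] using this
  · rw [pow_two]
    exact Ideal.mul_mono_right (IsLocalRing.le_maximalIdeal hn)

end Groth.Agent.S4575
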