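import Groth.Statements.S4578
import Groth.Agent.Lib.SepFT3.Basic

set_option autoImplicit false
universe u
open IsLocalRing
open EGA41

namespace Groth.Agent.S4578

/-- Let k₀ be a field, k an extension field of k₀ which is separable (formally smooth) over k₀, C a
k-algebra of finite type and p a prime ideal of C. The following are equivalent: C_p is formally
smooth over k₀ (discrete topologies); C_p is formally smooth over k₀ for the adic topology of its
maximal ideal; C_f is formally smooth over k₀ for some f ∉ p; C_p is geometrically regular over k₀.
(The published statement adds that the set of primes p having these properties is open in Spec C;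
that openness is not stated here.) -/
theorem result {k₀ k C : Type u} [Field k₀] [Field k] [Algebra k₀ k]
    [Algebra.FormallySmooth k₀ k] [CommRing C] [Algebra k C] [Algebra k₀ C] [IsScalarTower k₀ k C]
    [Algebra.FiniteType k C]
    (p : Ideal C) [p.IsPrime] :
    [Algebra.FormallySmooth k₀ (Localization.AtPrime p),
     CAlgX.IsAdicFormallySmooth k₀ (Localization.AtPrime p) (maximalIdeal (Localization.AtPrime p)),
     ∃ f : C, f ∉ p ∧ Algebra.FormallySmooth k₀ (Localization.Away f),
     CAlg.IsGeometricallyRegular k₀ (Localization.AtPrime p)].TFAE := by
  tfae_have 1 → 2 := fun h => SepFT3.adicFS_of_formallySmooth _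
  tfae_have 2 → 3 := fun h => SepFT3.exists_formallySmooth_away (k := k) p h
  tfae_have 3 → 1 := fun ⟨f, hf, hsm⟩ => by
    haveI := hsm
    have hle : Submonoid.powers f ≤ p.primeCompl := by
      rintro _ ⟨n, rfl⟩
      exact p.primeCompl.pow_mem hf n
    letI : Algebra (Localization.Away f) (Localization.AtPrime p) :=
      IsLocalization.localizationAlgebraOfSubmonoidLe (Localization.Away f) (Localization.AtPrime p) _ _ hle
    haveI : IsScalarTower C (Localization.Away f) (Localization.AtPrime p) :=
      IsLocalization.localization_isScalarTower_of_submonoid_le _ _ _ _ hle
    haveI := IsLocalization.isLocalization_of_submonoid_le (Localization.Away f) (Localization.AtPrime p) _ _ hle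
    haveI : Algebra.FormallySmooth (Localization.Away f) (Localization.AtPrime p) :=
      Algebra.FormallySmooth.of_isLocalization (p.primeCompl.map (algebraMap C (Localization.Away f)))
    haveI : IsScalarTower k₀ (Localization.Away f) (Localization.AtPrime p) := .of_algebraMap_eq fun x => by
      rw [IsScalarTower.algebraMap_apply k₀ C (Localization.Away f),
        ← IsScalarTower.algebraMap_apply C (Localization.Away f) (Localization.AtPrime p),
        ← IsScalarTower.algebraMap_apply k₀ C (Localization.AtPrime p)]
    exact Algebra.FormallySmooth.comp k₀ (Localization.Away f) (Localization.AtPrime p)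
  tfae_have 2 ↔ 4 := SepFT3.adicFS_atPrime_iff (k := k) p
  tfae_finish

end Groth.Agent.S4578
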