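import Groth.Statements.S4579
import Groth.Agent.Lib.SepFT3.Basic
import Groth.Agent.S4578
import Groth.Agent.S19864

set_option autoImplicit false
universe u
open EGA41

namespace Groth.Agent.S4579

/-- Let k₀ be a field, k a separable (formally smooth) extension field of k₀ and C a k-algebra of finite
type. The following are equivalent: C is formally smooth over k₀ (discrete topologies); every C_p, p
prime, is formally smooth over k₀; every C_m, m maximal, is; C is geometrically regular over k₀.
(Geometric regularity is tested on finite extensions of k₀. The published statement quantifies the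
last condition over all extensions k' of k₀; for infinite ones the base change need not be
Noetherian, so it need not be regular in the Noetherian sense, and the printed proof passes through
the local rings as here.) -/
theorem result {k₀ k C : Type u} [Field k₀] [Field k] [Algebra k₀ k]
    [Algebra.FormallySmooth k₀ k] [CommRing C] [Algebra k C] [Algebra k₀ C] [IsScalarTower k₀ k C]
    [Algebra.FiniteType k C] :
    [Algebra.FormallySmooth k₀ C,
     ∀ (p : Ideal C) [p.IsPrime], Algebra.FormallySmooth k₀ (Localization.AtPrime p),
     ∀ (m : Ideal C) [m.IsMaximal], Algebra.FormallySmooth k₀ (Localization.AtPrime m),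
     CAlg.IsGeometricallyRegular k₀ C].TFAE := by
  haveI : IsNoetherianRing C := Algebra.FiniteType.isNoetherianRing k C
  tfae_have 1 → 2 := fun h p _ => by
    haveI := h
    haveI : Algebra.FormallySmooth C (Localization.AtPrime p) := Algebra.FormallySmooth.of_isLocalization p.primeCompl
    exact Algebra.FormallySmooth.comp k₀ C (Localization.AtPrime p)
  tfae_have 2 → 3 := fun h m _ => h m
  tfae_have 3 → 1 := fun h => SepFT3.formallySmooth_of_forall_adicFS (k := k) fun m _ => by
    haveI := h m
    exact SepFT3.adicFS_of_formallySmooth _
  tfae_have 4 → 3 := fun h m _ => by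
    have h2 : CAlg.IsGeometricallyRegular k₀ (Localization.AtPrime m) := fun k' _ _ hfin => by
      haveI := h k' hfin
      exact FormalFib3.regular_tensor_atPrime k' m
    obtain ⟨f, hf, hsm⟩ := SepFT3.exists_formallySmooth_away (k := k) m ((SepFT3.adicFS_atPrime_iff (k := k) m).2 h2)
    exact ((Groth.Agent.S4578.result (k₀ := k₀) (k := k) m).out 2 0).1 (show ∃ f : C, f ∉ m ∧ Algebra.FormallySmooth k₀ (Localization.Away f) from ⟨f, hf, hsm⟩)
  tfae_have 2 → 4 := fun h k' _ _ hfin => by
    haveI := hfin
    haveI : IsNoetherianRing (TensorProduct k₀ k' C) := by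
      haveI : Algebra.FiniteType C (TensorProduct k₀ C k') := inferInstance
      haveI : IsNoetherianRing (TensorProduct k₀ C k') := Algebra.FiniteType.isNoetherianRing C _
      exact isNoetherianRing_of_ringEquiv _ (Algebra.TensorProduct.comm k₀ C k').toRingEquiv
    refine isRegularRing_iff.2 fun Q _ => ?_
    let q := Q.comap (Algebra.TensorProduct.includeRight : C →ₐ[k₀] TensorProduct k₀ k' C)
    haveI := h q
    haveI : IsRegularRing (TensorProduct k₀ k' (Localization.AtPrime q)) :=
      (SepFT3.adicFS_atPrime_iff (k := k) q).1 (SepFT3.adicFS_of_formallySmooth _) k' hfin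
    exact Groth.Agent.S19864.isRegularLocalRing_tensor k₀ C k' Q q rfl
  tfae_finish

end Groth.Agent.S4579
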