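import Groth.Statements.S4580
import Groth.Agent.Lib.LeftInv.Jacobian

set_option autoImplicit false
universe u
open EGA41

namespace Groth.Agent.S4580

theorem map_eq_iff {B : Type u} [CommRing B] (J q : Ideal B) [q.IsPrime] {m : ℕ} (f : Fin m → B) (hf : ∀ i, f i ∈ J) :
    J.map (algebraMap B (Localization.AtPrime q)) =
        Ideal.span (Set.range fun i => algebraMap B (Localization.AtPrime q) (f i)) ↔
      ∀ x ∈ J, ∃ s ∉ q, s * x ∈ Ideal.span (Set.range f) := by
  have e : Ideal.span (Set.range fun i => algebraMap B (Localization.AtPrime q) (f i)) =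
      (Ideal.span (Set.range f)).map (algebraMap B (Localization.AtPrime q)) := by
    rw [Ideal.map_span, ← Set.range_comp]; rfl
  rw [e]
  constructor
  · intro h x hx
    exact (IsLocalization.algebraMap_mem_map_algebraMap_iff q.primeCompl _ _ _).mp (h ▸ Ideal.mem_map_of_mem _ hx)
  · intro h
    refine le_antisymm (Ideal.map_le_iff_le_comap.mpr fun x hx => ?_)
      (Ideal.map_mono (Ideal.span_le.mpr (Set.range_subset_iff.mpr hf)))
    exact (IsLocalization.algebraMap_mem_map_algebraMap_iff q.primeCompl _ _ _).mpr (h x hx)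

/-- Let k₀ be a field, k a separable (formally smooth) extension field of k₀, B = k[T_1, ..., T_r], J an
ideal of B and q a prime of B containing J, with image p in C = B/J. Then C_p is formally smooth
over k₀ for the discrete topologies if and only if there exist f_1, ..., f_m ∈ J whose images
generate J B_q and k₀-derivations D_1, ..., D_m of B with det(D_j f_i) ∉ q. -/
theorem result {k₀ k : Type u} [Field k₀] [Field k] [Algebra k₀ k]
    [Algebra.FormallySmooth k₀ k] (r : ℕ) (J q : Ideal (MvPolynomial (Fin r) k)) [q.IsPrime] (hJq : J ≤ q)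
    [(q.map (Ideal.Quotient.mk J)).IsPrime] :
    Algebra.FormallySmooth k₀ (Localization.AtPrime (q.map (Ideal.Quotient.mk J))) ↔
      ∃ (m : ℕ) (f : Fin m → MvPolynomial (Fin r) k) (D : Fin m → Derivation k₀ (MvPolynomial (Fin r) k) (MvPolynomial (Fin r) k)),
        (∀ i, f i ∈ J) ∧
        J.map (algebraMap (MvPolynomial (Fin r) k) (Localization.AtPrime q)) =
          Ideal.span (Set.range fun i => algebraMap (MvPolynomial (Fin r) k) (Localization.AtPrime q) (f i)) ∧
        Matrix.det (Matrix.of fun i j => D j (f i)) ∉ q := by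
  haveI : Algebra.FormallySmooth k₀ (MvPolynomial (Fin r) k) := Algebra.FormallySmooth.comp k₀ k _
  rw [LeftInv.formallySmooth_localization_iff_jacobian (A := k₀) (B := MvPolynomial (Fin r) k)
    (C := MvPolynomial (Fin r) k ⧸ J) Ideal.Quotient.mk_surjective (q.map (Ideal.Quotient.mk J))]
  have hmem : ∀ x, Ideal.Quotient.mk J x ∈ q.map (Ideal.Quotient.mk J) ↔ x ∈ q := fun x => by
    rw [← Ideal.mem_comap, Ideal.comap_map_of_surjective _ Ideal.Quotient.mk_surjective, ← RingHom.ker_eq_comap_bot,
      Ideal.mk_ker, sup_eq_left.mpr hJq]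
  simp only [Ideal.Quotient.algebraMap_eq, Ideal.mk_ker, hmem]
  constructor
  · rintro ⟨m, f, D, hf, hgen, hdet⟩
    exact ⟨m, f, D, hf, (map_eq_iff J q f hf).mpr hgen, hdet⟩
  · rintro ⟨m, f, D, hf, hmap, hdet⟩
    exact ⟨m, f, D, hf, (map_eq_iff J q f hf).mp hmap, hdet⟩

end Groth.Agent.S4580
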