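import Groth.Statements.S4581
import Mathlib.RingTheory.AdicCompletion.AsTensorProduct
import Mathlib.RingTheory.AdicCompletion.Algebra
import Mathlib.RingTheory.Noetherian.Basic
import Mathlib.RingTheory.IntegralClosure.Algebra.Basic
import Mathlib.RingTheory.Jacobson.Ideal
import Mathlib.RingTheory.Ideal.GoingUp
import Mathlib.RingTheory.TensorProduct.Basic
-- import your own Groth.Agent.* helpers here

set_option autoImplicit false
universe u
open EGA41 TensorProduct

namespace Groth.Agent.S4581

/-- The jacobson radical of a finite algebra over a semilocal ring is nilpotent modulo that of the base. -/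
theorem exists_pow_le {A₀ A : Type u} [CommRing A₀] [IsNoetherianRing A₀] [Finite (MaximalSpectrum A₀)]
    [CommRing A] [Algebra A₀ A] [Module.Finite A₀ A] :
    (Ideal.jacobson (⊥ : Ideal A₀)).map (algebraMap A₀ A) ≤ Ideal.jacobson ⊥ ∧
      ∃ c : ℕ, 0 < c ∧ Ideal.jacobson (⊥ : Ideal A) ^ c ≤
        (Ideal.jacobson (⊥ : Ideal A₀)).map (algebraMap A₀ A) := by
  haveI : IsNoetherianRing A := IsNoetherianRing.of_finite A₀ A
  have hI : (Ideal.jacobson (⊥ : Ideal A₀)).map (algebraMap A₀ A) ≤ Ideal.jacobson ⊥ := by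
    refine le_sInf fun M hM => ?_
    haveI := hM.2
    rw [Ideal.map_le_iff_le_comap]
    exact sInf_le ⟨bot_le, Ideal.isMaximal_comap_of_isIntegral_of_isMaximal M⟩
  refine ⟨hI, ?_⟩
  have hrad : Ideal.jacobson (⊥ : Ideal A) ≤
      ((Ideal.jacobson (⊥ : Ideal A₀)).map (algebraMap A₀ A)).radical := by
    rw [Ideal.radical_eq_sInf]
    refine le_sInf fun P ⟨hP, hPp⟩ => sInf_le ⟨bot_le, ?_⟩
    haveI := hPp
    haveI := Fintype.ofFinite (MaximalSpectrum A₀)
    have hle : Finset.univ.inf (fun M : MaximalSpectrum A₀ => M.asIdeal) ≤ P.comap (algebraMap A₀ A) := by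
      refine le_trans ?_ (Ideal.map_le_iff_le_comap.1 hP)
      exact le_sInf fun M hM => Finset.inf_le (f := fun M : MaximalSpectrum A₀ => M.asIdeal)
        (Finset.mem_univ (⟨M, hM.2⟩ : MaximalSpectrum A₀))
    obtain ⟨M, -, hM⟩ := ((Ideal.IsPrime.comap (algebraMap A₀ A)).inf_le').1 hle
    haveI : (P.comap (algebraMap A₀ A)).IsMaximal :=
      (M.isMaximal.eq_of_le (Ideal.IsPrime.comap _).ne_top hM) ▸ M.isMaximal
    exact Ideal.isMaximal_of_isIntegral_of_isMaximal_comap P this
  obtain ⟨c, hc⟩ := Ideal.exists_pow_le_of_le_radical_of_fg hrad (IsNoetherian.noetherian _)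
  exact ⟨c + 1, Nat.succ_pos c, (Ideal.pow_le_pow_right (Nat.le_succ c)).trans hc⟩

/-- Let A₀ be a semi-local Noetherian ring, A a module-finite A₀-algebra and Â the completion of A for
the adic topology of its Jacobson radical. For the discrete topologies, Â is a formally smooth
A-algebra relative to A₀. -/
theorem result {A₀ A : Type u} [CommRing A₀]
    [IsNoetherianRing A₀] [Finite (MaximalSpectrum A₀)] [CommRing A] [Algebra A₀ A] [Module.Finite A₀ A] :
    EGA41.IsFormallySmoothRel A₀ A (AdicCompletion (Ideal.jacobson (⊥ : Ideal A)) A) := by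
  obtain ⟨hle, c, hc0, hc⟩ := exists_pow_le (A₀ := A₀) (A := A)
  set I := Ideal.jacobson (⊥ : Ideal A₀)
  set m := Ideal.jacobson (⊥ : Ideal A)
  intro C _ _ _ _ J hJ u₀ hu
  obtain ⟨u, hu⟩ := hu
  have hsub : ∀ (n : ℕ) (y : A), y ∈ (I ^ n • ⊤ : Submodule A₀ A) → y ∈ m ^ n := by
    intro n y hy
    rw [Ideal.smul_top_eq_map, Submodule.restrictScalars_mem, Ideal.map_pow] at hy
    exact Ideal.pow_right_mono hle n hy
  have hsup : ∀ (n : ℕ) (y : A), y ∈ m ^ (c * n) → y ∈ (I ^ n • ⊤ : Submodule A₀ A) := by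
    intro n y hy
    rw [Ideal.smul_top_eq_map, Submodule.restrictScalars_mem, Ideal.map_pow]
    rw [pow_mul] at hy
    exact Ideal.pow_right_mono hc n hy
  have hcomap : ∀ n, I ^ n ≤ (m ^ n).comap (algebraMap A₀ A) := fun n => by
    rw [← Ideal.map_le_iff_le_comap, Ideal.map_pow]
    exact Ideal.pow_right_mono hle n
  let f : ∀ n, AdicCompletion I A₀ →+* A ⧸ m ^ n := fun n =>
    (Ideal.quotientMap (m ^ n) (algebraMap A₀ A) (hcomap n)).comp (AdicCompletion.evalₐ I n).toRingHom
  have hf : ∀ n (x : AdicCompletion.AdicCauchySequence I A₀),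
      f n (AdicCompletion.mk I A₀ x) = Ideal.Quotient.mk (m ^ n) (algebraMap A₀ A (x.val n)) := fun n x =>
    (congrArg (Ideal.quotientMap (m ^ n) (algebraMap A₀ A) (hcomap n)) (AdicCompletion.evalₐ_mk I n x)).trans
      Ideal.quotientMap_mk
  have hff : ∀ {k n : ℕ} (h : k ≤ n), (Ideal.Quotient.factorPow m h).comp (f n) = f k := by
    intro k n h
    refine RingHom.ext fun z => ?_
    induction z using AdicCompletion.induction_on with
    | _ x =>
      rw [RingHom.comp_apply, hf, hf]
      refine (Ideal.Quotient.factor_mk _ _).trans ?_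
      have h1 := congrArg (Ideal.quotientMap (m ^ k) (algebraMap A₀ A) (hcomap k))
        (AdicCompletion.Ideal.mk_eq_mk I h x)
      rwa [Ideal.quotientMap_mk, Ideal.quotientMap_mk] at h1
  let Φ₀ : AdicCompletion I A₀ →+* AdicCompletion m A := AdicCompletion.liftRingHom m f (fun h => hff h)
  have hΦ : ∀ n z, AdicCompletion.evalₐ m n (Φ₀ z) = f n z := fun n z =>
    AdicCompletion.evalₐ_liftRingHom m f (fun h => hff h) n z
  let Φ : AdicCompletion I A₀ →ₐ[A₀] AdicCompletion m A :=
    { Φ₀ with
      commutes' := fun r => by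
        refine AdicCompletion.ext_evalₐ fun n => ?_
        show AdicCompletion.evalₐ m n (Φ₀ (algebraMap A₀ _ r)) =
          AdicCompletion.evalₐ m n (algebraMap A₀ (AdicCompletion m A) r)
        rw [hΦ, IsScalarTower.algebraMap_apply A₀ A (AdicCompletion m A), AlgHom.commutes]
        exact congrArg (Ideal.quotientMap (m ^ n) (algebraMap A₀ A) (hcomap n))
          ((AdicCompletion.evalₐ I n).commutes r) }
  let T : A ⊗[A₀] AdicCompletion I A₀ →ₐ[A] AdicCompletion m A :=
    Algebra.TensorProduct.lift (Algebra.ofId A _) Φ fun _ _ => Commute.all _ _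
  let fac : ∀ n, (A ⧸ (I ^ n • ⊤ : Submodule A₀ A)) →ₗ[A₀] A ⧸ m ^ n := fun n =>
    Submodule.liftQ _ ((Ideal.Quotient.mkₐ A₀ (m ^ n)).toLinearMap) fun y hy =>
      LinearMap.mem_ker.2 (Ideal.Quotient.eq_zero_iff_mem.2 (hsub n y hy))
  let E := AdicCompletion.ofTensorProductEquivOfFiniteNoetherian I A
  let W : A ⊗[A₀] AdicCompletion I A₀ → AdicCompletion I A := fun z =>
    E (TensorProduct.comm A₀ A (AdicCompletion I A₀) z)
  have key : ∀ n z, AdicCompletion.evalₐ m n (T z) = fac n ((W z).val n) := by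
    intro n z
    induction z using TensorProduct.induction_on with
    | zero =>
      rw [map_zero, map_zero, show W 0 = 0 by simp [W]]
      exact (map_zero (fac n)).symm
    | add a b ha hb =>
      rw [map_add, map_add, ha, hb, show W (a + b) = W a + W b by simp [W]]
      exact (map_add (fac n) _ _).symm
    | tmul a z =>
      induction z using AdicCompletion.induction_on with
      | _ x =>
        have h1 : AdicCompletion.evalₐ m n (T (a ⊗ₜ AdicCompletion.mk I A₀ x)) =
            Ideal.Quotient.mk (m ^ n) a * Ideal.Quotient.mk (m ^ n) (algebraMap A₀ A (x.val n)) := by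
          rw [Algebra.TensorProduct.lift_tmul, map_mul, ← hf, ← hΦ]
          congr 1
        rw [h1, mul_comm, ← map_mul, ← Algebra.smul_def]
        rfl
  have hinj : Function.Injective T := by
    rw [injective_iff_map_eq_zero]
    intro z hz
    have h0 : W z = 0 := by
      refine AdicCompletion.ext fun n => ?_
      obtain ⟨y, hy⟩ := Submodule.Quotient.mk_surjective _ ((W z).val (c * n))
      have h1 := key (c * n) z
      rw [hz, map_zero, ← hy] at h1
      have h2 := hsup n y (Ideal.Quotient.eq_zero_iff_mem.1 h1.symm)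
      rw [← (W z).property (Nat.le_mul_of_pos_left n hc0), ← hy]
      exact (Submodule.Quotient.mk_eq_zero _).2 h2
    have := congrArg E.symm h0
    simpa [W] using this
  have hsurj : Function.Surjective T := by
    intro Y
    induction Y using AdicCompletion.induction_on with
    | _ y =>
      have hcompat : ∀ {k n : ℕ} (h : k ≤ n), y.val (c * n) - y.val (c * k) ∈ m ^ (c * k) := fun {k n} h =>
        Ideal.Quotient.eq.1 (AdicCompletion.Ideal.mk_eq_mk m (Nat.mul_le_mul_left c h) y)
      let w : AdicCompletion I A := ⟨fun n => Submodule.Quotient.mk (y.val (c * n)), fun {k n} h => by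
        show Submodule.Quotient.mk (y.val (c * n)) = Submodule.Quotient.mk (y.val (c * k))
        exact (Submodule.Quotient.eq _).2 (hsup k _ (hcompat h))⟩
      refine ⟨(TensorProduct.comm A₀ A (AdicCompletion I A₀)).symm (E.symm w),
        AdicCompletion.ext_evalₐ fun n => ?_⟩
      rw [key]
      simp only [W, LinearEquiv.apply_symm_apply, AdicCompletion.evalₐ_mk]
      exact Ideal.Quotient.eq.2 (Ideal.Quotient.eq.1
        (AdicCompletion.Ideal.mk_eq_mk m (Nat.le_mul_of_pos_left n hc0) y))
  let e := AlgEquiv.ofBijective T ⟨hinj, hsurj⟩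
  let v' : A ⊗[A₀] AdicCompletion I A₀ →ₐ[A] C :=
    Algebra.TensorProduct.lift (Algebra.ofId A C) (u.comp Φ) fun _ _ => Commute.all _ _
  refine ⟨v'.comp e.symm.toAlgHom, AlgHom.ext fun x => ?_⟩
  obtain ⟨z, rfl⟩ := e.surjective x
  show Ideal.Quotient.mk J (v' (e.symm (e z))) = u₀ (T z)
  rw [e.symm_apply_apply]
  induction z using TensorProduct.induction_on with
  | zero => simp
  | add a b ha hb => rw [map_add, map_add, map_add, map_add, ha, hb]
  | tmul a x =>
    rw [Algebra.TensorProduct.lift_tmul, Algebra.TensorProduct.lift_tmul, map_mul, map_mul]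
    congr 1
    · exact (u₀.commutes a).symm
    · exact DFunLike.congr_fun hu (Φ x)

end Groth.Agent.S4581
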