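import Groth.Statements.S4582
import Groth.Agent.Lib.FSFlat3.RegularHom
import Groth.Agent.Lib.CplDomain.GRing

set_option autoImplicit false
universe u
open IsLocalRing
open EGA41

namespace Groth.Agent.S4582

/-- Let A be a complete Noetherian local ring, p a prime of A, B = A_p, B̂ the completion of B, q a
prime of B̂ and r its contraction to B. Then B̂_q is formally smooth over B_r for the adic
topologies of the maximal ideals. -/
theorem result {A : Type u} [CommRing A]
    [IsLocalRing A] [IsNoetherianRing A] [IsAdicComplete (maximalIdeal A) A] (p : Ideal A) [p.IsPrime]
    (q : Ideal (AdicCompletion (maximalIdeal (Localization.AtPrime p)) (Localization.AtPrime p))) [q.IsPrime]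
    [Algebra (Localization.AtPrime (q.comap (algebraMap (Localization.AtPrime p)
        (AdicCompletion (maximalIdeal (Localization.AtPrime p)) (Localization.AtPrime p)))))
      (Localization.AtPrime q)]
    [IsScalarTower (Localization.AtPrime p)
      (Localization.AtPrime (q.comap (algebraMap (Localization.AtPrime p)
        (AdicCompletion (maximalIdeal (Localization.AtPrime p)) (Localization.AtPrime p)))))
      (Localization.AtPrime q)] :
    EGA41.IsFormallySmoothAdic
      (Localization.AtPrime (q.comap (algebraMap (Localization.AtPrime p)
        (AdicCompletion (maximalIdeal (Localization.AtPrime p)) (Localization.AtPrime p)))))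
      (maximalIdeal _) (Localization.AtPrime q) (maximalIdeal _) := by
  intro C _ _ J hJ _ u hu
  refine AdicSmooth.exists_lift_of_isAdicFormallySmooth ?_ J hJ u hu
  obtain ⟨hN, hG⟩ := CplDomain.isGRing_of_complete A
  obtain ⟨hflat, hfib⟩ := hG p
  haveI := hflat
  haveI : IsNoetherianRing (Localization.AtPrime p) := IsLocalization.isNoetherianRing p.primeCompl _ inferInstance
  exact FSFlat3.isAdicFormallySmooth_localization _ q rfl (hfib _).2

end Groth.Agent.S4582
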