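import Groth.Statements.S4583
import Groth.Agent.Lib.FormalFib3.Basic

set_option autoImplicit false
universe u
open IsLocalRing
open EGA41

namespace Groth.Agent.S4583

/-- Let A be a complete Noetherian local domain with fraction field K, p a prime of A, B = A_p, q a
prime of the completion B̂ of B with q ∩ B = 0. Then B̂_q is a K-algebra formally smooth over K for
the adic topology of its maximal ideal (the published statement adds that it is then geometrically
regular over K; that consequence is not stated). -/
theorem result {A : Type u} [CommRing A]
    [IsDomain A] [IsLocalRing A] [IsNoetherianRing A] [IsAdicComplete (maximalIdeal A) A] (p : Ideal A) [p.IsPrime]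
    (q : Ideal (AdicCompletion (maximalIdeal (Localization.AtPrime p)) (Localization.AtPrime p))) [q.IsPrime]
    (hq : q.comap (algebraMap (Localization.AtPrime p)
      (AdicCompletion (maximalIdeal (Localization.AtPrime p)) (Localization.AtPrime p))) = ⊥)
    [Algebra A (Localization.AtPrime q)]
    [IsScalarTower A (AdicCompletion (maximalIdeal (Localization.AtPrime p)) (Localization.AtPrime p))
      (Localization.AtPrime q)]
    [Algebra (FractionRing A) (Localization.AtPrime q)] [IsScalarTower A (FractionRing A) (Localization.AtPrime q)] :
    CAlgX.IsAdicFormallySmooth (FractionRing A) (Localization.AtPrime q) (maximalIdeal (Localization.AtPrime q)) := by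
  have hT : ∀ x : A, algebraMap (FractionRing A) (Localization.AtPrime q) (algebraMap A (FractionRing A) x) =
      algebraMap (Localization.AtPrime p) (Localization.AtPrime q) (algebraMap A (Localization.AtPrime p) x) := fun x => by
    rw [Algebra.algebraMap_eq_smul_one, Algebra.algebraMap_eq_smul_one (R := A) (A := FractionRing A), smul_assoc,
      one_smul, ← one_smul (AdicCompletion (maximalIdeal (Localization.AtPrime p)) (Localization.AtPrime p))
        (1 : Localization.AtPrime q), ← smul_assoc, ← Algebra.algebraMap_eq_smul_one,
      ← Algebra.algebraMap_eq_smul_one,
      IsScalarTower.algebraMap_apply A (Localization.AtPrime p)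
        (AdicCompletion (maximalIdeal (Localization.AtPrime p)) (Localization.AtPrime p)),
      ← IsScalarTower.algebraMap_apply (Localization.AtPrime p)
        (AdicCompletion (maximalIdeal (Localization.AtPrime p)) (Localization.AtPrime p)) (Localization.AtPrime q)]
  let R := Localization.AtPrime p
  let K := FractionRing A
  letI : Algebra R K := (IsLocalization.lift (M := p.primeCompl) (g := algebraMap A K) fun y =>
    IsLocalization.map_units K (⟨y.1, mem_nonZeroDivisors_of_ne_zero fun h0 => y.2 (h0 ▸ p.zero_mem)⟩ : nonZeroDivisors A)).toAlgebra
  haveI hAR : IsScalarTower A R K := .of_algebraMap_eq fun x => (IsLocalization.lift_eq _ x).symm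
  haveI : IsFractionRing R K := IsFractionRing.isFractionRing_of_isDomain_of_isLocalization p.primeCompl R K
  haveI : IsScalarTower R K (Localization.AtPrime q) := .of_algebraMap_eq' (IsLocalization.ringHom_ext p.primeCompl (RingHom.ext fun x => by
    show algebraMap R (Localization.AtPrime q) (algebraMap A R x) =
      algebraMap K (Localization.AtPrime q) (algebraMap R K (algebraMap A R x))
    rw [← IsScalarTower.algebraMap_apply A R K]
    exact (hT x).symm))
  haveI : IsNoetherianRing (EGA4.Cpl R) := inferInstance
  refine FormalFib3.isAdicFormallySmooth_atPrime (R := R) (S := EGA4.Cpl R) K q fun K' _ _ _ _ hfin => ?_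
  haveI := hfin
  letI : Algebra A K' := ((algebraMap K K').comp (algebraMap A K)).toAlgebra
  haveI : IsScalarTower A K K' := .of_algebraMap_eq fun _ => rfl
  haveI : IsScalarTower A R K' := .of_algebraMap_eq fun x => by
    rw [IsScalarTower.algebraMap_apply R K K', ← IsScalarTower.algebraMap_apply A R K]
    rfl
  exact CplDomain.regular_completion_fibre_domain A p K K' 

end Groth.Agent.S4583
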