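import Groth.Statements.S4584
import Groth.Agent.Lib.ConsTop3.Range

set_option autoImplicit false
universe u
open AlgebraicGeometry CategoryTheory Topology
open EGA41

namespace Groth.Agent.S4584

/-- Given a scheme X that is quasi-compact and quasi-separated, together with a constructible subset Z
of X, one can find an affine scheme X' with a morphism X' → X of finite presentation whose image
equals Z. -/
theorem result (X : Scheme.{u}) [CompactSpace X]
    [QuasiSeparatedSpace X] (Z : Set X) (hZ : IsConstructible Z) :
    ∃ (X' : Scheme.{u}) (f : X' ⟶ X), IsAffine X' ∧ LocallyOfFinitePresentation f ∧ QuasiCompact f ∧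
      QuasiSeparated f ∧ Set.range f.base = Z := by
  obtain ⟨X', f, hX', hf, hr⟩ := ConsTop3.exists_affine_finitePresentation hZ
  exact ⟨X', f, hX', hf, QuasiCompact.of_comp f (Limits.terminal.from X),
    QuasiSeparated.of_comp f (Limits.terminal.from X), hr⟩

end Groth.Agent.S4584
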