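import Groth.Statements.S4585
import Groth.Agent.Lib.FlatH4.GenFreeMain
import Mathlib.RingTheory.Flat.FaithfullyFlat.Algebra
import Mathlib.AlgebraicGeometry.Morphisms.FiniteType

set_option autoImplicit false
universe u
open AlgebraicGeometry CategoryTheory
open EGA41

namespace Groth.Agent.S4585

open TensorProduct

/-- Let Y be an irreducible scheme with generic point η and f : X → Y locally of finite type with
nonempty fibre over η. Then some open neighbourhood of η is contained in f(X). (The second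
assertion, on fibres of a quasi-coherent module of finite type, is not stated.) -/
theorem result {X Y : Scheme.{u}} (f : X ⟶ Y)
    [LocallyOfFiniteType f] [IrreducibleSpace Y] (h : genericPoint Y ∈ Set.range f.base) :
    genericPoint Y ∈ interior (Set.range f.base) := by
  obtain ⟨x, hx⟩ := h
  obtain ⟨V, hV, hηV, -⟩ := exists_isAffineOpen_mem_and_subset (X := Y) (x := f x) (U := ⊤) trivial
  obtain ⟨W, hW, hxW, hWV⟩ := exists_isAffineOpen_mem_and_subset (X := X) (x := x) (U := f ⁻¹ᵁ V) hηV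
  obtain ⟨p, hp⟩ : f x ∈ Set.range hV.fromSpec := by rw [hV.range_fromSpec]; exact hηV
  obtain ⟨q, hq⟩ : x ∈ Set.range hW.fromSpec := by rw [hW.range_fromSpec]; exact hxW
  let g := f.appLE V W hWV
  have hcomm : ∀ z, hV.fromSpec ((Spec.map g) z) = f (hW.fromSpec z) := fun z =>
    congrArg (fun φ : Spec Γ(X, W) ⟶ Y => φ z) (hV.SpecMap_appLE_fromSpec f hW hWV)
  have hgp : (Spec.map g) q = p := hV.fromSpec.isOpenEmbedding.injective (by rw [hcomm, hq, hp])
  have hgft : g.hom.FiniteType :=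
    HasRingHomProperty.appLE @LocallyOfFiniteType f ‹_› ⟨V, hV⟩ ⟨W, hW⟩ hWV
  let P : Ideal Γ(Y, V) := (p : PrimeSpectrum Γ(Y, V)).asIdeal
  let Q : Ideal Γ(X, W) := (q : PrimeSpectrum Γ(X, W)).asIdeal
  haveI : P.IsPrime := (p : PrimeSpectrum Γ(Y, V)).isPrime
  haveI : Q.IsPrime := (q : PrimeSpectrum Γ(X, W)).isPrime
  have hPQ : P = Q.comap g.hom := (congrArg PrimeSpectrum.asIdeal hgp).symm
  let gq : Γ(Y, V) ⧸ P →+* Γ(X, W) ⧸ Q := Ideal.quotientMap Q g.hom hPQ.le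
  have hgq : gq.FiniteType := by
    refine RingHom.FiniteType.of_comp_finiteType (f := Ideal.Quotient.mk P) ?_
    rw [Ideal.quotientMap_comp_mk]
    exact (RingHom.FiniteType.of_surjective _ Ideal.Quotient.mk_surjective).comp hgft
  have hinj : Function.Injective gq := Ideal.quotientMap_injective' hPQ.ge
  letI : Algebra (Γ(Y, V) ⧸ P) (Γ(X, W) ⧸ Q) := gq.toAlgebra
  haveI : Algebra.FiniteType (Γ(Y, V) ⧸ P) (Γ(X, W) ⧸ Q) := hgq
  obtain ⟨a, ha, hfree⟩ := FlatH4.exists_free_and_finitePresentation (R := Γ(Y, V) ⧸ P) (S := Γ(X, W) ⧸ Q)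
  let R' := Localization.Away a
  let C := R' ⊗[Γ(Y, V) ⧸ P] (Γ(X, W) ⧸ Q)
  haveI : Module.Free R' C := (hfree R' (IsLocalization.Away.algebraMap_isUnit a)).1
  haveI : Nontrivial C := by
    let K := FractionRing (Γ(X, W) ⧸ Q)
    have hu : IsUnit (algebraMap (Γ(Y, V) ⧸ P) K a) := by
      rw [isUnit_iff_ne_zero, IsScalarTower.algebraMap_apply _ (Γ(X, W) ⧸ Q) K, Ne,
        map_eq_zero_iff _ (IsFractionRing.injective (Γ(X, W) ⧸ Q) K)]
      exact fun h0 => ha (hinj (h0.trans (map_zero gq).symm))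
    exact (Algebra.TensorProduct.lift (IsLocalization.liftAlgHom (M := Submonoid.powers a)
      (f := Algebra.ofId (Γ(Y, V) ⧸ P) K) (by rintro ⟨_, n, rfl⟩; rw [map_pow]; exact hu.pow n))
      (IsScalarTower.toAlgHom (Γ(Y, V) ⧸ P) (Γ(X, W) ⧸ Q) K) (fun _ _ => Commute.all _ _)).toRingHom.domain_nontrivial
  obtain ⟨a, rfl⟩ := Ideal.Quotient.mk_surjective a
  have haP : a ∉ P := fun h => ha (Ideal.Quotient.eq_zero_iff_mem.2 h)
  refine mem_interior.2 ⟨hV.fromSpec '' ((PrimeSpectrum.basicOpen a : TopologicalSpace.Opens (PrimeSpectrum Γ(Y, V))) : Set (PrimeSpectrum Γ(Y, V))), ?_,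
    hV.fromSpec.isOpenEmbedding.isOpenMap _ (PrimeSpectrum.basicOpen a).2, ⟨p, haP, by rw [hp]; exact hx⟩⟩
  rintro _ ⟨r, hr, rfl⟩
  have hpr : P ≤ (r : PrimeSpectrum Γ(Y, V)).asIdeal := by
    refine (PrimeSpectrum.le_iff_specializes _ _).2 (hV.fromSpec.isOpenEmbedding.isInducing.specializes_iff.1 ?_)
    rw [hp, hx]
    exact genericPoint_specializes _
  let r' : PrimeSpectrum (Γ(Y, V) ⧸ P) := ⟨(r : PrimeSpectrum Γ(Y, V)).asIdeal.map (Ideal.Quotient.mk P),
    haveI := (r : PrimeSpectrum Γ(Y, V)).isPrime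
    Ideal.map_isPrime_of_surjective Ideal.Quotient.mk_surjective (by rw [Ideal.mk_ker]; exact hpr)⟩
  have hr' : r'.asIdeal.comap (Ideal.Quotient.mk P) = (r : PrimeSpectrum Γ(Y, V)).asIdeal := by
    rw [Ideal.comap_map_of_surjective _ Ideal.Quotient.mk_surjective, sup_eq_left, ← RingHom.ker, Ideal.mk_ker]
    exact hpr
  obtain ⟨s, hs⟩ : r' ∈ Set.range (PrimeSpectrum.comap (algebraMap (Γ(Y, V) ⧸ P) R')) := by
    rw [PrimeSpectrum.localization_away_comap_range R' (Ideal.Quotient.mk P a)]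
    show Ideal.Quotient.mk P a ∉ r'.asIdeal
    rw [← Ideal.mem_comap, hr']
    exact hr
  obtain ⟨t, ht⟩ := PrimeSpectrum.comap_surjective_of_faithfullyFlat (A := R') (B := C) s
  let ι : Γ(X, W) →+* C :=
    (Algebra.TensorProduct.includeRight (R := Γ(Y, V) ⧸ P) (A := R') (B := Γ(X, W) ⧸ Q)).toRingHom.comp (Ideal.Quotient.mk Q)
  refine ⟨hW.fromSpec (PrimeSpectrum.comap ι t), ?_⟩
  refine (hcomm _).symm.trans (congrArg _ ?_)
  have hιg : ι.comp g.hom = ((algebraMap R' C).comp (algebraMap (Γ(Y, V) ⧸ P) R')).comp (Ideal.Quotient.mk P) := by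
    ext b
    change (1 : R') ⊗ₜ[Γ(Y, V) ⧸ P] (gq (Ideal.Quotient.mk P b)) = algebraMap (Γ(Y, V) ⧸ P) R' (Ideal.Quotient.mk P b) ⊗ₜ[Γ(Y, V) ⧸ P] 1
    rw [Algebra.algebraMap_eq_smul_one, TensorProduct.smul_tmul, Algebra.smul_def, mul_one]
    rfl
  refine PrimeSpectrum.ext ?_
  change (t.asIdeal.comap ι).comap g.hom = _
  rw [Ideal.comap_comap, hιg, ← Ideal.comap_comap, ← Ideal.comap_comap]
  rw [show t.asIdeal.comap (algebraMap R' C) = s.asIdeal from congrArg PrimeSpectrum.asIdeal ht,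
    show s.asIdeal.comap (algebraMap (Γ(Y, V) ⧸ P) R') = r'.asIdeal from congrArg PrimeSpectrum.asIdeal hs, hr']

end Groth.Agent.S4585
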