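import Groth.Statements.S4586
import Groth.Agent.Lib.ConsTop3.QS
import Groth.Agent.S3399

set_option autoImplicit false
universe u
open AlgebraicGeometry CategoryTheory Topology
open EGA41

namespace Groth.Agent.S4586

/-- Let f : X → Y be surjective and either quasi-compact or locally of finite presentation, E ⊆ Y. Then
E is locally constructible (resp. pro-constructible, resp. ind-constructible) if and only if f⁻¹(E)
is. -/
theorem result {X Y : Scheme.{u}} (f : X ⟶ Y) [Surjective f]
    (hf : QuasiCompact f ∨ LocallyOfFinitePresentation f) (E : Set Y) :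
    (IsLocallyConstructible E ↔ IsLocallyConstructible (f.base ⁻¹' E)) ∧
    (ProCons.IsProConstructible E ↔ ProCons.IsProConstructible (f.base ⁻¹' E)) ∧
    (ProCons.IsIndConstructible E ↔ ProCons.IsIndConstructible (f.base ⁻¹' E)) := by
  have himg : ∀ T : Set Y, f.base '' (f.base ⁻¹' T) = T := fun T =>
    Set.image_preimage_eq T f.surjective
  have hpro : ∀ T : Set Y, ProCons.IsProConstructible (f.base ⁻¹' T) → ProCons.IsProConstructible T := by
    intro T hT
    rcases hf with hf | hf
    · exact himg T ▸ ConsTop3.isProConstructible_image f hT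
    · rw [← ConsTop3.isIndConstructible_compl_iff] at hT ⊢
      rw [← Set.preimage_compl] at hT
      exact himg Tᶜ ▸ S3399.result f _ hT
  have hind : ∀ T : Set Y, ProCons.IsIndConstructible (f.base ⁻¹' T) → ProCons.IsIndConstructible T := by
    intro T hT
    rw [← ConsTop3.isProConstructible_compl_iff] at hT ⊢
    exact hpro _ (by rwa [Set.preimage_compl])
  refine ⟨⟨fun h => ConsH13.isLocallyConstructible_preimage f h, fun h => ?_⟩,
    ⟨fun h => ConsH13.isProConstructible_preimage f h, hpro E⟩,
    ⟨fun h => ConsH13.isIndConstructible_preimage f h, hind E⟩⟩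
  obtain ⟨hi, hp⟩ := ConsTop3.isLocallyConstructible_iff.1 h
  exact ConsTop3.isLocallyConstructible_iff.2 ⟨hind E hi, hpro E hp⟩

end Groth.Agent.S4586
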