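import Groth.Statements.S4587
import Mathlib.AlgebraicGeometry.Properties

set_option autoImplicit false
universe u
open AlgebraicGeometry CategoryTheory
open EGA41

namespace Groth.Agent.S4587

/-- A morphism of schemes f : X → Y is generizing if and only if, for every irreducible closed subset Y'
of Y, each irreducible component of f⁻¹(Y') has dense image in Y'. -/
theorem result {X Y : Scheme.{u}} (f : X ⟶ Y) :
    GeneralizingMap f.base ↔
      ∀ Y' : Set Y, IsClosed Y' → IsIrreducible Y' →
        ∀ Z ∈ irreducibleComponents ↥(f.base ⁻¹' Y'), closure (f.base '' (Subtype.val '' Z)) = Y' := by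
  constructor
  · intro hgen Y' hY' hirr Z hZ
    let W : Set ↥(f.base ⁻¹' Y') := Z
    have hcl : IsClosed (f.base ⁻¹' Y') := hY'.preimage f.continuous
    obtain ⟨η, hη⟩ := QuasiSober.sober hirr hY'
    have hWirr : IsIrreducible (Subtype.val '' Z : Set X) := hZ.1.image _ continuous_subtype_val.continuousOn
    have hWcl : IsClosed (Subtype.val '' Z : Set X) :=
      hcl.isClosedEmbedding_subtypeVal.isClosedMap _ (isClosed_of_mem_irreducibleComponents Z hZ)
    obtain ⟨z, hz⟩ := QuasiSober.sober hWirr hWcl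
    have hzY : f.base z ∈ Y' := by
      obtain ⟨w, hw, hwz⟩ := hz.mem
      exact hwz ▸ w.2
    obtain ⟨z', hz', hfz'⟩ := hgen (hη.specializes hzY)
    have hz'Y : z' ∈ f.base ⁻¹' Y' := by
      change f.base z' ∈ Y'
      exact hfz' ▸ hη.mem
    have hmem : z' ∈ (Subtype.val '' Z : Set X) := by
      have hsub : Z ⊆ closure ({⟨z', hz'Y⟩} : Set ↥(f.base ⁻¹' Y')) := fun w hw =>
        (subtype_specializes_iff (⟨z', hz'Y⟩ : ↥(f.base ⁻¹' Y')) w).2 (hz'.trans (hz.specializes ⟨w, hw, rfl⟩)) |>.mem_closure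
      exact ⟨⟨z', hz'Y⟩, hZ.2 isIrreducible_singleton.closure hsub (subset_closure rfl), rfl⟩
    refine subset_antisymm (closure_minimal ?_ hY') ?_
    · rintro _ ⟨_, ⟨w, -, rfl⟩, rfl⟩
      exact w.2
    · exact hη.def.ge.trans (closure_mono (Set.singleton_subset_iff.2 ⟨z', hmem, hfz'⟩))
  · intro h x y hy
    let Y' := closure ({y} : Set Y)
    have hxY : x ∈ f.base ⁻¹' Y' := hy.mem_closure
    have hcl : IsClosed (f.base ⁻¹' Y') := isClosed_closure.preimage f.continuous
    obtain ⟨Z, hZ, hxZ⟩ := exists_mem_irreducibleComponents_subset_of_isIrreducible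
      ({⟨x, hxY⟩} : Set ↥(f.base ⁻¹' Y')) isIrreducible_singleton
    have hWirr : IsIrreducible (Subtype.val '' Z : Set X) := hZ.1.image _ continuous_subtype_val.continuousOn
    have hWcl : IsClosed (Subtype.val '' Z : Set X) :=
      hcl.isClosedEmbedding_subtypeVal.isClosedMap _ (isClosed_of_mem_irreducibleComponents Z hZ)
    obtain ⟨z, hz⟩ := QuasiSober.sober hWirr hWcl
    refine ⟨z, hz.specializes ⟨_, hxZ rfl, rfl⟩, ?_⟩
    have h1 : IsGenericPoint (f.base z) (closure (f.base '' (Subtype.val '' Z))) := hz.image f.continuous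
    rw [h Y' isClosed_closure isIrreducible_singleton.closure Z hZ] at h1
    exact h1.eq rfl

end Groth.Agent.S4587
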