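import Groth.Statements.S4589
import Groth.Agent.Lib.NagJac3.Open

set_option autoImplicit false
universe u
open IsLocalRing
open EGA41

namespace Groth.Agent.S4589

/-- Under the hypotheses of Nagata's Jacobian criterion — k a field of characteristic exponent p with k
finite over k^p, A a complete Noetherian local ring with residue field finite over a separable
extension K₀ of k, A a K₀-algebra formally smooth for its adic topology, q an ideal of A and B = A/q
— the set of primes n of B with B_n formally smooth over k for the adic topology of its maximal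
ideal is open in Spec B. -/
theorem result (p : ℕ) {k K₀ A : Type u} [Field k] [ExpChar k p]
    (hk : p = 1 ∨ Module.Finite (frobenius k p).fieldRange k)
    [Field K₀] [Algebra k K₀] [Algebra.IsGeometricallyReduced k K₀]
    [CommRing A] [IsLocalRing A] [IsNoetherianRing A] [IsAdicComplete (maximalIdeal A) A]
    [Algebra k A] [Algebra K₀ A] [IsScalarTower k K₀ A] [Module.Finite K₀ (ResidueField A)]
    (hA : CAlgX.IsAdicFormallySmooth K₀ A (maximalIdeal A))
    (q : Ideal A) :
    IsOpen {n : PrimeSpectrum (A ⧸ q) |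
      CAlgX.IsAdicFormallySmooth k (Localization.AtPrime n.asIdeal) (maximalIdeal (Localization.AtPrime n.asIdeal))} := by
  refine isOpen_iff_forall_mem_open.2 fun n hn => ?_
  let Q : Ideal A := n.asIdeal.comap (Ideal.Quotient.mk q)
  have hQmap : ∀ n' : PrimeSpectrum (A ⧸ q), (n'.asIdeal.comap (Ideal.Quotient.mk q)).map (Ideal.Quotient.mk q) = n'.asIdeal :=
    fun n' => Ideal.map_comap_of_surjective _ Ideal.Quotient.mk_surjective _
  have hqQ : ∀ n' : PrimeSpectrum (A ⧸ q), q ≤ n'.asIdeal.comap (Ideal.Quotient.mk q) := fun n' x hx => by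
    rw [Ideal.mem_comap, Ideal.Quotient.eq_zero_iff_mem.2 hx]
    exact zero_mem _
  haveI : ∀ n' : PrimeSpectrum (A ⧸ q), ((n'.asIdeal.comap (Ideal.Quotient.mk q)).map (Ideal.Quotient.mk q)).IsPrime :=
    fun n' => by rw [hQmap]; exact n'.2
  have hcongr : ∀ (I I' : Ideal (A ⧸ q)) [I.IsPrime] [I'.IsPrime], I = I' →
      (CAlgX.IsAdicFormallySmooth k (Localization.AtPrime I) (IsLocalRing.maximalIdeal (Localization.AtPrime I)) ↔
       CAlgX.IsAdicFormallySmooth k (Localization.AtPrime I') (IsLocalRing.maximalIdeal (Localization.AtPrime I'))) := by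
    intro I I' _ _ e
    subst e
    rfl
  obtain ⟨m, D, f, hfq, hgen, hdet⟩ := Groth.Agent.NagJac3.exists_jacobian_of_isAdicFormallySmooth hA p hk q Q
    (hqQ n) ((hcongr _ _ (hQmap n)).2 hn)
  obtain ⟨g, hg, hgI⟩ := Groth.Agent.NagJac3.exists_mul_mem_of_map_eq q Q (Set.range f)
    (by rw [hgen, Ideal.map_span, ← Set.range_comp]; rfl)
  refine ⟨PrimeSpectrum.basicOpen (Ideal.Quotient.mk q (g * Matrix.det (Matrix.of fun i j => D i (f j)))), ?_,
    PrimeSpectrum.isOpen_basicOpen, ?_⟩
  · intro n' hn'
    have hn'' : Ideal.Quotient.mk q (g * Matrix.det (Matrix.of fun i j => D i (f j))) ∉ n'.asIdeal := hn'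
    rw [map_mul] at hn''
    have h1 : g ∉ n'.asIdeal.comap (Ideal.Quotient.mk q) := fun h => hn'' (Ideal.mul_mem_right _ _ h)
    refine (hcongr _ _ (hQmap n')).1 (Groth.Agent.NagJac3.isAdicFormallySmooth_of_jacobian hA q _ (hqQ n') D f ?_
      fun h => hn'' (Ideal.mul_mem_left _ _ h))
    exact Groth.Agent.NagJac3.map_eq_span_of_mul_mem q _ f hfq hgI h1
  · show Ideal.Quotient.mk q (g * Matrix.det (Matrix.of fun i j => D i (f j))) ∉ n.asIdeal
    rw [map_mul]
    exact fun h => (n.2.mem_or_mem h).elim hg hdet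

end Groth.Agent.S4589
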