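import Groth.Statements.S4590
import Mathlib

set_option autoImplicit false
universe u
open CAlg

namespace Groth.Agent.S4590

open Polynomial


/-- Let A be a domain with fraction field K, B a faithfully flat A-algebra, C = B_red and R the total
ring of fractions of C. Then A → C is injective with nonzero elements going to non-zero-divisors, so
that K embeds in R, and an element of K is integral over C in R if and only if it is integral over
A. -/
theorem result {A B : Type u} [CommRing A] [IsDomain A]
    [CommRing B] [Algebra A B] [Module.FaithfullyFlat A B] :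
    Function.Injective (algebraMap A (B ⧸ nilradical B)) ∧
    (∀ a : A, a ≠ 0 → algebraMap A (B ⧸ nilradical B) a ∈ nonZeroDivisors (B ⧸ nilradical B)) ∧
    ∀ (R : Type u) [CommRing R] [Algebra (B ⧸ nilradical B) R] [IsFractionRing (B ⧸ nilradical B) R]
      [Algebra A R] [IsScalarTower A (B ⧸ nilradical B) R] [Algebra (FractionRing A) R]
      [IsScalarTower A (FractionRing A) R] (x : FractionRing A),
      IsIntegral (B ⧸ nilradical B) (algebraMap (FractionRing A) R x) ↔ IsIntegral A x := by
  classical
  have hinj : Function.Injective (algebraMap A (B ⧸ nilradical B)) := by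
    rw [injective_iff_map_eq_zero]
    intro a ha
    rw [IsScalarTower.algebraMap_apply A B (B ⧸ nilradical B), Ideal.Quotient.algebraMap_eq,
      Ideal.Quotient.eq_zero_iff_mem, mem_nilradical] at ha
    obtain ⟨n, hn⟩ := ha
    rw [← map_pow] at hn
    exact pow_eq_zero_iff'.mp ((FaithfulSMul.algebraMap_injective A B) (hn.trans (map_zero _).symm)) |>.1
  have hnzd : ∀ a : A, a ≠ 0 → algebraMap A (B ⧸ nilradical B) a ∈ nonZeroDivisors (B ⧸ nilradical B) := by
    intro a ha
    refine mem_nonZeroDivisors_iff_right.mpr fun z hz => ?_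
    obtain ⟨b, rfl⟩ := Ideal.Quotient.mk_surjective z
    rw [IsScalarTower.algebraMap_apply A B (B ⧸ nilradical B), Ideal.Quotient.algebraMap_eq, ← map_mul,
      Ideal.Quotient.eq_zero_iff_mem, mem_nilradical] at hz
    obtain ⟨n, hn⟩ := hz
    rw [Ideal.Quotient.eq_zero_iff_mem, mem_nilradical]
    refine ⟨n, (IsSMulRegular.of_flat (S := B) (IsRegular.of_ne_zero (pow_ne_zero n ha)).left.isSMulRegular) ?_⟩
    show algebraMap A B (a ^ n) • b ^ n = algebraMap A B (a ^ n) • (0 : B)
    rw [smul_zero, smul_eq_mul, map_pow, ← mul_pow, mul_comm, hn]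
  refine ⟨hinj, hnzd, fun R _ _ _ _ _ _ _ x => ⟨fun h => ?_, fun h =>
    (h.map (IsScalarTower.toAlgHom A (FractionRing A) R)).tower_top⟩⟩
  obtain ⟨a, c, hc, hx⟩ := IsFractionRing.div_surjective (A := A) x
  have hc0 : algebraMap A (FractionRing A) c ≠ 0 := IsFractionRing.to_map_ne_zero_of_mem_nonZeroDivisors hc
  have hac : algebraMap A (FractionRing A) a = algebraMap A (FractionRing A) c * x := by
    rw [← hx, mul_div_cancel₀ _ hc0]
  obtain ⟨P₀, hP₀, hPx⟩ := h
  haveI : Nontrivial (B ⧸ nilradical B) := hinj.nontrivial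
  obtain ⟨P, hP, -, hPm⟩ := lifts_and_degree_eq_and_monic
    ((mem_lifts _).mpr (map_surjective (Ideal.Quotient.mk (nilradical B)) Ideal.Quotient.mk_surjective P₀)) hP₀
  let g : B →+* R := (algebraMap (B ⧸ nilradical B) R).comp (Ideal.Quotient.mk (nilradical B))
  have hg : ∀ t : A, g (algebraMap A B t) = algebraMap A R t := fun t =>
    ((IsScalarTower.algebraMap_apply A (B ⧸ nilradical B) R t).symm)
  have h1 : g (eval (algebraMap A B a) (P.scaleRoots (algebraMap A B c))) = 0 := by
    rw [← eval₂_id, hom_eval₂, RingHom.comp_id,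
      show g (algebraMap A B a) = g (algebraMap A B c) * algebraMap (FractionRing A) R x by
        rw [hg, hg, IsScalarTower.algebraMap_apply A (FractionRing A) R, hac, map_mul, ← IsScalarTower.algebraMap_apply],
      scaleRoots_eval₂_mul, ← eval₂_map, hP, hPx, mul_zero]
  have h2 : IsNilpotent (eval (algebraMap A B a) (P.scaleRoots (algebraMap A B c))) := by
    rw [← mem_nilradical, ← Ideal.Quotient.eq_zero_iff_mem]
    exact IsFractionRing.injective (B ⧸ nilradical B) R (h1.trans (map_zero _).symm)
  obtain ⟨M, hM⟩ := h2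
  let Q : B[X] := (P.scaleRoots (algebraMap A B c)) ^ M
  have hQm : Q.Monic := ((monic_scaleRoots_iff _).mpr hPm).pow M
  have hQc : ∀ i, algebraMap A B c ^ (Q.natDegree - i) ∣ Q.coeff i := fun i => by
    have hQ : Q = (P ^ M).scaleRoots (algebraMap A B c) := by
      show (P.scaleRoots (algebraMap A B c)) ^ M = _
      have : ∀ m : ℕ, (P.scaleRoots (algebraMap A B c)) ^ m = (P ^ m).scaleRoots (algebraMap A B c) := fun m => by
        induction m with
        | zero => simp
        | succ m ih =>
          rw [pow_succ, pow_succ, ih, mul_scaleRoots']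
          rw [(hPm.pow m).leadingCoeff, hPm.leadingCoeff, one_mul]
          rcases subsingleton_or_nontrivial B with hB | hB
          · exact absurd (Subsingleton.elim (algebraMap A B 1) (algebraMap A B 0))
              (fun h => one_ne_zero ((FaithfulSMul.algebraMap_injective A B) h))
          · exact one_ne_zero
      exact this M
    rw [hQ, natDegree_scaleRoots, coeff_scaleRoots]
    exact dvd_mul_left _ _
  let I : Ideal A := Ideal.span (Set.range fun i : Fin Q.natDegree => c ^ (Q.natDegree - i) * a ^ (i : ℕ))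
  have hmem : a ^ Q.natDegree ∈ I := by
    rw [← Ideal.comap_map_eq_self_of_faithfullyFlat (B := B) I, Ideal.mem_comap, map_pow]
    have heval : eval (algebraMap A B a) Q = 0 := by rw [eval_pow, hM]
    rw [eval_eq_sum_range, Finset.sum_range_succ, hQm.coeff_natDegree, one_mul] at heval
    rw [eq_neg_of_add_eq_zero_right heval]
    refine neg_mem (sum_mem fun i hi => ?_)
    obtain ⟨d, hd⟩ := hQc i
    rw [hd, mul_comm _ d, mul_assoc, ← map_pow, ← map_pow, ← map_mul]
    exact Ideal.mul_mem_left _ _ (Ideal.mem_map_of_mem _ (Ideal.subset_span ⟨⟨i, Finset.mem_range.mp hi⟩, rfl⟩))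
  obtain ⟨r, hr⟩ := (Submodule.mem_span_range_iff_exists_fun A).mp hmem
  refine ⟨X ^ Q.natDegree - ∑ i : Fin Q.natDegree, C (r i) * X ^ (i : ℕ),
    monic_X_pow_sub ((Polynomial.degree_sum_fin_lt r).trans_le le_rfl), ?_⟩
  rw [eval₂_sub, eval₂_X_pow, eval₂_finset_sum, sub_eq_zero]
  simp only [eval₂_mul, eval₂_C, eval₂_X_pow]
  apply mul_left_cancel₀ (pow_ne_zero Q.natDegree hc0)
  rw [← mul_pow, ← hac, ← map_pow, ← hr, map_sum, Finset.mul_sum]
  refine Finset.sum_congr rfl fun i _ => ?_
  have hpow : algebraMap A (FractionRing A) c ^ Q.natDegree =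
      algebraMap A (FractionRing A) c ^ (Q.natDegree - (i : ℕ)) * algebraMap A (FractionRing A) c ^ (i : ℕ) := by
    rw [← pow_add, Nat.sub_add_cancel i.2.le]
  rw [hpow]
  rw [smul_eq_mul, map_mul, map_mul, map_pow, map_pow, hac, mul_pow]
  ring

end Groth.Agent.S4590
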