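import Groth.Statements.S4591
import Groth.Agent.Lib.ConsTop3.Scheme

set_option autoImplicit false
universe u
open AlgebraicGeometry
open EGA41

namespace Groth.Agent.S4591

/-- Let X be a quasi-compact scheme, F a pro-constructible subset and (E_i) a family of
ind-constructible subsets covering F. Then some finite subfamily covers F. -/
theorem result (X : Scheme.{u}) [CompactSpace X]
    (F : Set X) (hF : ProCons.IsProConstructible F) {ι : Type u} (E : ι → Set X)
    (hE : ∀ i, ProCons.IsIndConstructible (E i)) (h : F ⊆ ⋃ i, E i) :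
    ∃ J : Finset ι, F ⊆ ⋃ i ∈ J, E i := by
  classical
  obtain ⟨J, hJ⟩ := ConsTop3.exists_finite_inter_subset (ConsH13.isIndConstructible_compl hF) (fun i => (E i)ᶜ)
    (fun i => ConsTop3.isProConstructible_compl_iff.2 (hE i)) (by
      rw [← Set.compl_iUnion]; exact Set.compl_subset_compl.2 h)
  refine ⟨J, Set.compl_subset_compl.1 ?_⟩
  simpa [Set.compl_iUnion] using hJ

end Groth.Agent.S4591
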