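import Groth.Statements.S4593
-- import your own Groth.Agent.* helpers here

set_option autoImplicit false
universe u
open CategoryTheory CategoryTheory.Limits AlgebraicGeometry
open EGA41

namespace Groth.Agent.S4593

/-- Let B be a ring, (A_i) a filtered system of B-algebras with colimit A. The image of Spec A in Spec B
is the intersection of the images of the Spec A_i. -/
theorem result {I : Type u} [SmallCategory I] [IsFiltered I]
    (B : CommRingCat.{u}) (D : I ⥤ CommRingCat.{u}) (s : (Functor.const I).obj B ⟶ D) (c : Cocone D)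
    (hc : IsColimit c) (i₀ : I) :
    Set.range (Spec.map (s.app i₀ ≫ c.ι.app i₀)).base = ⋂ i : I, Set.range (Spec.map (s.app i)).base := by
  classical
  have hψ : ∀ i, s.app i₀ ≫ c.ι.app i₀ = s.app i ≫ c.ι.app i := by
    intro i
    have e : ∀ {a b : I} (g : a ⟶ b), s.app a ≫ D.map g = s.app b := fun g => by
      have := s.naturality g
      simp only [Functor.const_obj_map] at this
      rw [← this]; exact Category.id_comp _
    rw [← c.w (IsFiltered.leftToMax i₀ i), ← c.w (IsFiltered.rightToMax i₀ i), ← Category.assoc, e, ← Category.assoc, e]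
  ext p
  constructor
  · rintro ⟨q, rfl⟩
    refine Set.mem_iInter.2 fun i => ⟨(Spec.map (c.ι.app i)).base q, ?_⟩
    rw [hψ i, Spec.map_comp]
    rfl
  · intro hp
    rw [Set.mem_iInter] at hp
    let φ : B →+* c.pt := (s.app i₀ ≫ c.ι.app i₀).hom
    let P : Ideal B := p.asIdeal
    haveI : P.IsPrime := p.isPrime
    suffices (P.map φ).comap φ = P by
      obtain ⟨Q, hQ, hQP⟩ := (Ideal.comap_map_eq_self_iff_of_isPrime P).1 this
      exact ⟨⟨Q, hQ⟩, PrimeSpectrum.ext hQP⟩
    refine le_antisymm (fun x hx => ?_) Ideal.le_comap_map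
    have key : ∀ y ∈ P.map φ, ∃ (i : I) (z : D.obj i), z ∈ P.map (s.app i).hom ∧ c.ι.app i z = y := by
      intro y hy
      induction hy using Submodule.span_induction with
      | mem y hy =>
        obtain ⟨x, hx, rfl⟩ := hy
        exact ⟨i₀, s.app i₀ x, Ideal.mem_map_of_mem _ hx, rfl⟩
      | zero => exact ⟨i₀, 0, zero_mem _, map_zero _⟩
      | add y y' _ _ hy hy' =>
        obtain ⟨i, z, hz, rfl⟩ := hy
        obtain ⟨i', z', hz', rfl⟩ := hy'
        have e : ∀ {a b : I} (g : a ⟶ b) (w : D.obj a), w ∈ P.map (s.app a).hom →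
            D.map g w ∈ P.map (s.app b).hom := fun {a b} g w hw => by
          have h1 := Ideal.mem_map_of_mem (D.map g).hom hw
          rw [Ideal.map_map] at h1
          have h2 : (D.map g).hom.comp (s.app a).hom = (s.app b).hom := by
            have := congrArg CommRingCat.Hom.hom (s.naturality g)
            simpa using this.symm
          rwa [h2] at h1
        refine ⟨IsFiltered.max i i', D.map (IsFiltered.leftToMax i i') z + D.map (IsFiltered.rightToMax i i') z',
          add_mem (e _ _ hz) (e _ _ hz'), ?_⟩
        rw [map_add, ← CommRingCat.comp_apply, ← CommRingCat.comp_apply, c.w, c.w]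
      | smul r y _ hy =>
        obtain ⟨i, z, hz, rfl⟩ := hy
        obtain ⟨j, r, rfl⟩ := Concrete.isColimit_exists_rep D hc r
        refine ⟨IsFiltered.max i j, D.map (IsFiltered.rightToMax i j) r * D.map (IsFiltered.leftToMax i j) z,
          Ideal.mul_mem_left _ _ ?_, ?_⟩
        · have h1 := Ideal.mem_map_of_mem (D.map (IsFiltered.leftToMax i j)).hom hz
          rw [Ideal.map_map] at h1
          have h2 : (D.map (IsFiltered.leftToMax i j)).hom.comp (s.app i).hom = (s.app (IsFiltered.max i j)).hom := by
            have := congrArg CommRingCat.Hom.hom (s.naturality (IsFiltered.leftToMax i j))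
            simpa using this.symm
          rwa [h2] at h1
        · rw [map_mul, ← CommRingCat.comp_apply, ← CommRingCat.comp_apply, c.w, c.w]
          rfl
    obtain ⟨i, z, hz, hzx⟩ := key _ hx
    have hx' : c.ι.app i z = c.ι.app i (s.app i x) := by
      rw [hzx, ← CommRingCat.comp_apply, ← hψ i]
    obtain ⟨j, g, g', hj⟩ := (Concrete.isColimit_rep_eq_iff_exists D (i := i) (j := i) hc z (s.app i x)).1 hx'
    have hmem : s.app j x ∈ P.map (s.app j).hom := by
      have h1 := Ideal.mem_map_of_mem (D.map g).hom hz
      rw [Ideal.map_map] at h1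
      have h2 : ∀ {a b : I} (g : a ⟶ b), (D.map g).hom.comp (s.app a).hom = (s.app b).hom := fun g => by
        have := congrArg CommRingCat.Hom.hom (s.naturality g)
        simpa using this.symm
      rw [h2] at h1
      have h3 : (D.map g).hom z = (s.app j).hom x := hj.trans (RingHom.congr_fun (h2 g') x)
      rwa [h3] at h1
    obtain ⟨q, hq⟩ := hp j
    have : P.map (s.app j).hom ≤ q.asIdeal := Ideal.map_le_iff_le_comap.2 (congrArg PrimeSpectrum.asIdeal hq).ge
    exact (congrArg PrimeSpectrum.asIdeal hq).le (this hmem)

end Groth.Agent.S4593
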