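import Groth.Statements.S4594
-- import your own Groth.Agent.* helpers here

set_option autoImplicit false
universe u
open TensorProduct KaehlerDifferential
open EGA41

namespace Groth.Agent.S4594

/-- Let Λ be a ring, A → C a surjection of Λ-algebras with kernel J, C of characteristic p > 0, and π
the class of p·1 in J/J². If C is formally smooth over Λ/pΛ for the discrete topologies, then 0 →
(J/J²)/Cπ → Ω_{A/Λ} ⊗_A C → Ω_{C/Λ} → 0 is exact: the kernel of the conormal map J/J² → Ω_{A/Λ} ⊗_A
C is the span of π, and the base-change map to Ω_{C/Λ} is surjective with kernel the image of J/J². -/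
theorem result {Λ A C : Type u} [CommRing Λ] [CommRing A]
    [CommRing C] [Algebra Λ A] [Algebra A C] [Algebra Λ C] [IsScalarTower Λ A C]
    (hsurj : Function.Surjective (algebraMap A C)) (p : ℕ) [Fact p.Prime] [CharP C p]
    [Algebra (Λ ⧸ Ideal.span {(p : Λ)}) C] [IsScalarTower Λ (Λ ⧸ Ideal.span {(p : Λ)}) C]
    [Algebra.FormallySmooth (Λ ⧸ Ideal.span {(p : Λ)}) C]
    (hp : (p : A) ∈ RingHom.ker (algebraMap A C)) :
    LinearMap.ker (kerCotangentToTensor Λ A C) =
        Submodule.span A {(RingHom.ker (algebraMap A C)).toCotangent ⟨(p : A), hp⟩} ∧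
      LinearMap.range (kerCotangentToTensor Λ A C) = (LinearMap.ker (mapBaseChange Λ A C)).restrictScalars A ∧
      Function.Surjective (mapBaseChange Λ A C) := by
  classical
  refine ⟨le_antisymm ?_ ?_, range_kerCotangentToTensor Λ A C hsurj, mapBaseChange_surjective Λ A C hsurj⟩
  · intro z hz
    obtain ⟨x, rfl⟩ := Ideal.toCotangent_surjective _ z
    let I : Ideal A := RingHom.ker (algebraMap A C)
    let J : Ideal A := I ^ 2 ⊔ Ideal.span {(p : A)}
    have hJI : J ≤ I := sup_le (Ideal.pow_le_self two_ne_zero) (Ideal.span_le.2 (Set.singleton_subset_iff.2 hp))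
    have hpJ : Ideal.span {(p : Λ)} ≤ RingHom.ker ((Ideal.Quotient.mk J).comp (algebraMap Λ A)) := by
      rw [Ideal.span_le]
      rintro _ rfl
      refine Ideal.Quotient.eq_zero_iff_mem.2 (Ideal.mem_sup_right ?_)
      rw [map_natCast]
      exact Ideal.subset_span rfl
    letI : Algebra (Λ ⧸ Ideal.span {(p : Λ)}) (A ⧸ J) := (Ideal.Quotient.lift _ _ hpJ).toAlgebra
    let g₀ : (A ⧸ J) →+* C := Ideal.Quotient.lift J (algebraMap A C) hJI
    let g : (A ⧸ J) →ₐ[Λ ⧸ Ideal.span {(p : Λ)}] C :=
      { g₀ with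
        commutes' := fun r => by
          obtain ⟨r, rfl⟩ := Ideal.Quotient.mk_surjective r
          change algebraMap A C (algebraMap Λ A r) = algebraMap (Λ ⧸ Ideal.span {(p : Λ)}) C (Ideal.Quotient.mk _ r)
          rw [← IsScalarTower.algebraMap_apply, IsScalarTower.algebraMap_apply Λ (Λ ⧸ Ideal.span {(p : Λ)}) C]
          rfl }
    have hg : Function.Surjective g := fun c => by
      obtain ⟨a, rfl⟩ := hsurj c
      exact ⟨Ideal.Quotient.mk J a, rfl⟩
    have hkerg : RingHom.ker (g : (A ⧸ J) →+* C) = I.map (Ideal.Quotient.mk J) := by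
      ext y
      obtain ⟨a, rfl⟩ := Ideal.Quotient.mk_surjective y
      rw [Ideal.mem_quotient_iff_mem hJI]
      rfl
    have hsq : RingHom.ker (g : (A ⧸ J) →+* C) ^ 2 = ⊥ := by
      rw [hkerg, ← Ideal.map_pow, Ideal.map_eq_bot_iff_le_ker, Ideal.mk_ker]
      exact le_sup_left
    let s := Algebra.FormallySmooth.liftOfSurjective (AlgHom.id (Λ ⧸ Ideal.span {(p : Λ)}) C) g hg ⟨2, hsq⟩
    have hs : ∀ c, g (s c) = c := fun c =>
      Algebra.FormallySmooth.liftOfSurjective_apply (AlgHom.id (Λ ⧸ Ideal.span {(p : Λ)}) C) g hg ⟨2, hsq⟩ c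
    let φ : A → A ⧸ J := fun a => Ideal.Quotient.mk J a - s (algebraMap A C a)
    have hφ : ∀ a, φ a ∈ RingHom.ker (g : (A ⧸ J) →+* C) := fun a => by
      rw [RingHom.mem_ker, RingHom.coe_coe, map_sub, hs]
      exact sub_self _
    have hmul : ∀ a b, φ a * φ b = 0 := fun a b => by
      have := Ideal.mul_mem_mul (hφ a) (hφ b)
      rwa [← pow_two, hsq, Ideal.mem_bot] at this
    let δ : Derivation Λ A (A ⧸ J) :=
      Derivation.mk'
        { toFun := φ
          map_add' := fun a b => by simp [φ]; ring
          map_smul' := fun l a => by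
            simp only [φ, RingHom.id_apply, Algebra.smul_def, map_mul]
            rw [← IsScalarTower.algebraMap_apply, IsScalarTower.algebraMap_apply Λ (Λ ⧸ Ideal.span {(p : Λ)}) C,
              AlgHom.commutes, mul_sub]
            rfl }
        (fun a b => by
          change φ (a * b) = Ideal.Quotient.mk J a * φ b + Ideal.Quotient.mk J b * φ a
          have h := hmul a b
          simp only [φ, map_mul] at h ⊢
          linear_combination -h)
    have h1 : (Ideal.Quotient.mk (RingHom.ker (algebraMap A C)) 1) ⊗ₜ[A] D Λ A (x : A) =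
        (0 : (A ⧸ RingHom.ker (algebraMap A C)) ⊗[A] Ω[A⁄Λ]) := by
      have hz' : (1 : C) ⊗ₜ[A] D Λ A (x : A) = 0 := LinearMap.mem_ker.1 hz
      let e : (A ⧸ RingHom.ker (algebraMap A C)) ≃ₐ[A] C :=
        Ideal.quotientKerAlgEquivOfSurjective (f := Algebra.ofId A C) hsurj
      have := congrArg (TensorProduct.map e.symm.toLinearMap LinearMap.id) hz'
      rw [TensorProduct.map_tmul, map_zero, AlgEquiv.toLinearMap_apply, map_one, LinearMap.id_apply] at this
      exact this
    have h2 := congrArg (TensorProduct.quotTensorEquivQuotSMul Ω[A⁄Λ] (RingHom.ker (algebraMap A C))) h1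
    rw [TensorProduct.quotTensorEquivQuotSMul_mk_tmul, one_smul, map_zero, Submodule.Quotient.mk_eq_zero] at h2
    have h3 : ∀ ω ∈ I • (⊤ : Submodule A Ω[A⁄Λ]), δ.liftKaehlerDifferential ω = 0 := by
      intro ω hω
      refine Submodule.smul_induction_on hω (fun r hr η _ => ?_) (fun a b ha hb => by rw [map_add, ha, hb, add_zero])
      have hη : δ.liftKaehlerDifferential η ∈ RingHom.ker (g : (A ⧸ J) →+* C) := by
        clear * - hφ
        have : η ∈ Submodule.span A (Set.range (D Λ A)) := by rw [span_range_derivation]; trivial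
        induction this using Submodule.span_induction with
        | mem y hy => obtain ⟨a, rfl⟩ := hy; rw [Derivation.liftKaehlerDifferential_comp_D]; exact hφ a
        | zero => rw [map_zero]; exact zero_mem _
        | add a b _ _ ha hb => rw [map_add]; exact add_mem ha hb
        | smul a b _ hb => rw [map_smul, Algebra.smul_def]; exact Ideal.mul_mem_left _ _ hb
      rw [map_smul, Algebra.smul_def]
      have hr' : algebraMap A (A ⧸ J) r ∈ RingHom.ker (g : (A ⧸ J) →+* C) := by
        rw [hkerg]; exact Ideal.mem_map_of_mem _ hr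
      have := Ideal.mul_mem_mul hr' hη
      rwa [← pow_two, hsq, Ideal.mem_bot] at this
    have h4 : Ideal.Quotient.mk J (x : A) = 0 := by
      have := h3 _ h2
      rw [Derivation.liftKaehlerDifferential_comp_D] at this
      have hx0 : algebraMap A C (x : A) = 0 := x.2
      change Ideal.Quotient.mk J (x : A) - s (algebraMap A C (x : A)) = 0 at this
      rwa [hx0, map_zero, sub_zero] at this
    obtain ⟨q, hq, w, hw, hqw⟩ := Submodule.mem_sup.1 (Ideal.Quotient.eq_zero_iff_mem.1 h4)
    obtain ⟨a, rfl⟩ := Ideal.mem_span_singleton'.1 hw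
    refine Submodule.mem_span_singleton.2 ⟨a, ?_⟩
    rw [← map_smul, Ideal.toCotangent_eq]
    change a * (p : A) - (x : A) ∈ I ^ 2
    rw [← hqw, show a * (p : A) - (q + a * (p : A)) = -q by ring]
    exact neg_mem hq
  · rw [Submodule.span_le]
    rintro _ rfl
    rw [SetLike.mem_coe, LinearMap.mem_ker, kerCotangentToTensor_toCotangent, Derivation.map_natCast,
      TensorProduct.tmul_zero]

end Groth.Agent.S4594
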