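import Groth.Statements.S4595
import Groth.Agent.Lib.PPoly3.Artin

set_option autoImplicit false
universe u
open TensorProduct IsLocalRing
open EGA41

namespace Groth.Agent.S4595

/-- Let A be an Artinian local ring of characteristic p > 0 with maximal ideal m of square zero and
residue field K, f_1, …, f_r ∈ A, and B = A[T_1, …, T_r]/(T_1^p − f_1, …, T_r^p − f_r). Then B is
local, and dim_K m = dim_{K'}(m'/m'²) (m', K' the maximal ideal and residue field of B) if and only
if the d f_i ⊗ 1 are linearly independent in Ω_A ⊗_A K. -/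
theorem result {A : Type u} [CommRing A]
    [IsArtinianRing A] [IsLocalRing A] (hm : maximalIdeal A ^ 2 = ⊥) (p : ℕ) [Fact p.Prime] [CharP A p]
    {r : ℕ} (f : Fin r → A) :
    let B := MvPolynomial (Fin r) A ⧸ Ideal.span (Set.range fun i => MvPolynomial.X i ^ p - MvPolynomial.C (f i))
    ∃ _ : IsLocalRing B,
      (Module.finrank (ResidueField A) (CotangentSpace A) = Module.finrank (ResidueField B) (CotangentSpace B) ↔
        LinearIndependent (ResidueField A) (fun i => (1 : ResidueField A) ⊗ₜ[A] KaehlerDifferential.D ℤ A (f i))) := by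
  intro B
  let I := Ideal.span (Set.range fun i => MvPolynomial.X i ^ p - MvPolynomial.C (R := A) (σ := Fin r) (f i))
  haveI : Nontrivial B := PPoly3.nontrivial_quotient p f
  haveI : CharP B p := (CharP.charP_iff_prime_eq_zero Fact.out).mpr (by
    rw [← map_natCast (algebraMap A B), CharP.cast_eq_zero, map_zero])
  let t : Fin r → B := fun i => Ideal.Quotient.mk I (MvPolynomial.X i)
  have ht : MvPolynomial.aeval (R := A) t = Ideal.Quotient.mkₐ A I := MvPolynomial.algHom_ext fun i => by simp only [MvPolynomial.aeval_X]; rfl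
  have hsurj : Function.Surjective (MvPolynomial.aeval (R := A) t) := by rw [ht]; exact Ideal.Quotient.mk_surjective
  have hker : RingHom.ker (MvPolynomial.aeval (R := A) t) = I := by rw [ht]; exact Ideal.mk_ker
  have hrel : ∀ i, t i ^ p = algebraMap A B (f i) := fun i => by
    have h : MvPolynomial.X i ^ p - MvPolynomial.C (f i) ∈ RingHom.ker (MvPolynomial.aeval (R := A) t) :=
      hker ▸ Ideal.subset_span ⟨i, rfl⟩
    simpa [sub_eq_zero] using h
  obtain ⟨hloc, hhom⟩ := PPoly3.isLocalRing_of_pow hm p (PPoly3.pow_mem_range p f t hsurj hrel)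
  haveI := hhom
  haveI : IsNoetherianRing B := inferInstance
  exact ⟨hloc, PPoly3.finrank_cotangent_eq_iff p f t hsurj hker⟩

end Groth.Agent.S4595
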