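import Groth.Statements.S4598
import Groth.Agent.Lib.SchBasic.Basic

set_option autoImplicit false
universe u
open AlgebraicGeometry CategoryTheory CategoryTheory.Limits
open EGA41

namespace Groth.Agent.S4598

set_option backward.isDefEq.respectTransparency false

/-- If g : Y' → Y is quasi-compact and surjective and the base change X ×_Y Y' → Y' of f : X → Y is
quasi-separated, then f is quasi-separated. -/
theorem result {X Y Y' : Scheme.{u}} (f : X ⟶ Y)
    (g : Y' ⟶ Y) [QuasiCompact g] [Surjective g] [QuasiSeparated (pullback.snd f g)] :
    QuasiSeparated f := by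
  have := SchBasic.descendsAlong_quasiCompact.{u}
  rw [quasiSeparated_eq_diagonal_is_quasiCompact]
  have hq : MorphismProperty.diagonal @QuasiCompact (pullback.snd f g) := by
    rw [← quasiSeparated_eq_diagonal_is_quasiCompact]; infer_instance
  exact MorphismProperty.of_pullback_snd_of_descendsAlong
    (Q := @Surjective ⊓ @QuasiCompact) ⟨inferInstance, inferInstance⟩ hq

end Groth.Agent.S4598
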