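import Groth.Statements.S4601
import Mathlib.LinearAlgebra.Basis.VectorSpace
import Mathlib.RingTheory.Flat.Stability
import Mathlib.LinearAlgebra.TensorProduct.RightExactness
import Mathlib.RingTheory.Flat.Localization

set_option autoImplicit false
universe u
open TensorProduct
open CAlg

namespace Groth.Agent.S4601

open TensorProduct in
theorem nilp_aux {A A' K B Bq R : Type*} [CommRing A] [CommRing A'] [CommRing K] [CommRing B] [CommRing Bq] [CommRing R]
    [Algebra A A'] [Algebra A K] [Algebra A B] [Algebra A Bq] [Algebra A R] [Module.Flat A B] [Module.Flat A K]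
    (v : A' →ₐ[A] K) (hv : Function.Injective v) (π : B →ₐ[A] Bq) (hπ : Function.Surjective π)
    (hker : RingHom.ker π ≤ nilradical B) (ρ : Bq →ₐ[A] R) (hρ : Function.Injective ρ)
    (x : A' ⊗[A] B) (hx : IsNilpotent (Algebra.TensorProduct.map v (ρ.comp π) x)) : IsNilpotent x := by
  have h1 : Function.Injective (Algebra.TensorProduct.map v (AlgHom.id A B)) :=
    Module.Flat.rTensor_preserves_injective_linearMap (M := B) v.toLinearMap hv
  have h2 : Function.Injective (Algebra.TensorProduct.map (AlgHom.id A K) ρ) :=
    Module.Flat.lTensor_preserves_injective_linearMap (M := K) ρ.toLinearMap hρ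
  have e : Algebra.TensorProduct.map v (ρ.comp π) = (Algebra.TensorProduct.map (AlgHom.id A K) ρ).comp
      ((Algebra.TensorProduct.map (AlgHom.id A K) π).comp (Algebra.TensorProduct.map v (AlgHom.id A B))) :=
    Algebra.TensorProduct.ext' fun a b => by simp
  rw [e] at hx
  refine (IsNilpotent.map_iff h1).1 ?_
  obtain ⟨n, hn⟩ := (IsNilpotent.map_iff h2).1 hx
  rw [← map_pow] at hn
  have hmem : (Algebra.TensorProduct.map v (AlgHom.id A B) x) ^ n ∈
      RingHom.ker (Algebra.TensorProduct.map (AlgHom.id A K) π) := by
    rw [RingHom.mem_ker, ← map_pow]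
    exact hn
  rw [Algebra.TensorProduct.lTensor_ker _ hπ] at hmem
  have hle : (RingHom.ker π).map (Algebra.TensorProduct.includeRight : B →ₐ[A] K ⊗[A] B) ≤ nilradical (K ⊗[A] B) :=
    Ideal.map_le_iff_le_comap.2 fun b hb => (mem_nilradical.1 (hker hb)).map _
  exact IsNilpotent.of_pow (mem_nilradical.1 (hle hmem))


/-- Let A be a domain with fraction field K, B a Noetherian A-algebra which is flat over A, K' an
extension field of K, B₁ = B_red and R its total ring of fractions. For every sub-A-algebra A' of
K', the map (A' ⊗_A B)_red → (K' ⊗_A R)_red is injective, i.e. an element of A' ⊗_A B with nilpotent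
image in K' ⊗_A R is nilpotent. -/
theorem result {A B K' R : Type u} [CommRing A]
    [IsDomain A] [CommRing B] [Algebra A B] [IsNoetherianRing B] [Module.Flat A B]
    [Field K'] [Algebra A K'] [Algebra (FractionRing A) K'] [IsScalarTower A (FractionRing A) K']
    [CommRing R] [Algebra (B ⧸ nilradical B) R] [IsFractionRing (B ⧸ nilradical B) R]
    [Algebra B R] [IsScalarTower B (B ⧸ nilradical B) R] [Algebra A R] [IsScalarTower A B R]
    (A' : Subalgebra A K') (x : ↥A' ⊗[A] B)
    (hx : IsNilpotent (Algebra.TensorProduct.map A'.val (IsScalarTower.toAlgHom A B R) x)) :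
    IsNilpotent x := by
  haveI : Module.Free (FractionRing A) K' := Module.Free.of_divisionRing (FractionRing A) K'
  haveI : Module.Flat A K' := Module.Flat.trans A (FractionRing A) K'
  let π : B →ₐ[A] B ⧸ nilradical B := Ideal.Quotient.mkₐ A (nilradical B)
  let ρ : (B ⧸ nilradical B) →ₐ[A] R :=
    { algebraMap (B ⧸ nilradical B) R with
      commutes' := fun a => by
        show algebraMap (B ⧸ nilradical B) R (algebraMap A (B ⧸ nilradical B) a) = algebraMap A R a
        rw [IsScalarTower.algebraMap_apply A B R, IsScalarTower.algebraMap_apply B (B ⧸ nilradical B) R,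
          IsScalarTower.algebraMap_apply A B (B ⧸ nilradical B)] }
  refine nilp_aux (π := π) (ρ := ρ) A'.val Subtype.val_injective Ideal.Quotient.mk_surjective
    (by intro b hb; exact Ideal.Quotient.eq_zero_iff_mem.1 hb) (IsFractionRing.injective (B ⧸ nilradical B) R) x ?_
  have : ρ.comp π = IsScalarTower.toAlgHom A B R := by
    ext b
    exact (IsScalarTower.algebraMap_apply B (B ⧸ nilradical B) R b).symm
  rw [this]
  exact hx

end Groth.Agent.S4601
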