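import Groth.Statements.S4602
import Groth.Agent.Lib.FormalFib3.Basic

set_option autoImplicit false
universe u
open IsLocalRing
open EGA41

namespace Groth.Agent.S4602

open scoped TensorProduct

/-- Let A be a regular local ring with fraction field of characteristic zero, B a domain containing A
and module-finite over it, with fraction field L, n a prime of B, C = B_n, q a prime of the
completion Ĉ with q ∩ C = 0. Then Ĉ_q is formally smooth over L for the adic topology of its maximal
ideal. (Case (ii) of the published statement, in characteristic p with a suitable filtered family of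
subrings, is not stated.) -/
theorem result
    {A B : Type u} [CommRing A] [IsRegularLocalRing A] [CharZero A] [CommRing B] [IsDomain B] [Algebra A B]
    [Module.Finite A B] (hinj : Function.Injective (algebraMap A B)) (n : Ideal B) [n.IsPrime]
    (q : Ideal (AdicCompletion (maximalIdeal (Localization.AtPrime n)) (Localization.AtPrime n))) [q.IsPrime]
    (hq : q.comap (algebraMap (Localization.AtPrime n)
      (AdicCompletion (maximalIdeal (Localization.AtPrime n)) (Localization.AtPrime n))) = ⊥)
    [Algebra B (Localization.AtPrime q)]
    [IsScalarTower B (AdicCompletion (maximalIdeal (Localization.AtPrime n)) (Localization.AtPrime n))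
      (Localization.AtPrime q)]
    [Algebra (FractionRing B) (Localization.AtPrime q)] [IsScalarTower B (FractionRing B) (Localization.AtPrime q)] :
    CAlgX.IsAdicFormallySmooth (FractionRing B) (Localization.AtPrime q) (maximalIdeal (Localization.AtPrime q)) := by
  have hT : ∀ x : B, algebraMap (FractionRing B) (Localization.AtPrime q) (algebraMap B (FractionRing B) x) =
      algebraMap (Localization.AtPrime n) (Localization.AtPrime q) (algebraMap B (Localization.AtPrime n) x) := fun x => by
    rw [Algebra.algebraMap_eq_smul_one, Algebra.algebraMap_eq_smul_one (R := B) (A := FractionRing B), smul_assoc,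
      one_smul, ← one_smul (AdicCompletion (maximalIdeal (Localization.AtPrime n)) (Localization.AtPrime n))
        (1 : Localization.AtPrime q), ← smul_assoc, ← Algebra.algebraMap_eq_smul_one,
      ← Algebra.algebraMap_eq_smul_one,
      IsScalarTower.algebraMap_apply B (Localization.AtPrime n)
        (AdicCompletion (maximalIdeal (Localization.AtPrime n)) (Localization.AtPrime n)),
      ← IsScalarTower.algebraMap_apply (Localization.AtPrime n)
        (AdicCompletion (maximalIdeal (Localization.AtPrime n)) (Localization.AtPrime n)) (Localization.AtPrime q)]
  haveI : IsNoetherianRing B := IsNoetherianRing.of_finite A B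
  let R := Localization.AtPrime n
  let K := FractionRing B
  letI : Algebra R K := (IsLocalization.lift (M := n.primeCompl) (g := algebraMap B K) fun y =>
    IsLocalization.map_units K (⟨y.1, mem_nonZeroDivisors_of_ne_zero fun h0 => y.2 (h0 ▸ n.zero_mem)⟩ : nonZeroDivisors B)).toAlgebra
  haveI : IsScalarTower B R K := .of_algebraMap_eq fun x => (IsLocalization.lift_eq _ x).symm
  haveI : IsFractionRing R K := IsFractionRing.isFractionRing_of_isDomain_of_isLocalization n.primeCompl R K
  haveI : IsScalarTower R K (Localization.AtPrime q) := .of_algebraMap_eq' (IsLocalization.ringHom_ext n.primeCompl (RingHom.ext fun x => by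
    show algebraMap R (Localization.AtPrime q) (algebraMap B R x) =
      algebraMap K (Localization.AtPrime q) (algebraMap R K (algebraMap B R x))
    rw [← IsScalarTower.algebraMap_apply B R K]
    exact (hT x).symm))
  haveI := RegLoc.isDomain A
  haveI : CharZero B := charZero_of_injective_algebraMap hinj
  haveI : CharZero K := charZero_of_injective_algebraMap (IsFractionRing.injective B K)
  haveI : IsNoetherianRing (EGA4.Cpl R) := inferInstance
  haveI : IsNoetherianRing (Localization.AtPrime q) := IsLocalization.isNoetherianRing q.primeCompl _ inferInstance
  refine (AdicSmooth.adicFS_iff_regular K (Localization.AtPrime q)).mpr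
    (FormalFib3.isRegularLocalRing_atPrime (R := R) (S := EGA4.Cpl R) K q ?_)
  let F := FractionRing A
  let T := EGA4.Cpl (Localization.AtPrime (n.under A))
  haveI := CplDomain.isRegularRing_cpl_atPrime A (n.under A)
  haveI : IsRegularRing (T ⊗[A] F) :=
    FlatDepth.isRegularRing_of_isLocalization (Algebra.algebraMapSubmonoid T (nonZeroDivisors A))
  haveI : IsRegularRing (F ⊗[A] T) := IsRegularRing.of_ringEquiv (Algebra.TensorProduct.comm A T F).toRingEquiv
  haveI : FaithfulSMul A B := (faithfulSMul_iff_algebraMap_injective _ _).mpr hinj
  haveI : FaithfulSMul A K := (faithfulSMul_iff_algebraMap_injective _ _).mpr (by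
    rw [IsScalarTower.algebraMap_eq A B K]; exact (IsFractionRing.injective B K).comp hinj)
  letI := FractionRing.liftAlgebra A K
  haveI : FiniteDimensional F K := Module.Finite.of_isLocalization A B (nonZeroDivisors A)
  haveI : IsRegularRing ((F ⊗[A] T) ⊗[F] K) := FlatDepth.isRegularRing_tensor_separable (F ⊗[A] T) K
  haveI : Algebra.EssFiniteType B K := Algebra.EssFiniteType.of_isLocalization K (nonZeroDivisors B)
  haveI : Algebra.EssFiniteType R K := Algebra.EssFiniteType.of_comp B _ _
  exact CplDomain.regular_completion_fibre A B n K (@IsRegularRing.of_ringEquiv _ _ _ _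
    ((Algebra.TensorProduct.comm F (F ⊗[A] T) K).toRingEquiv.trans
      (Algebra.TensorProduct.cancelBaseChange A F F K T).toRingEquiv) ‹IsRegularRing ((F ⊗[A] T) ⊗[F] K)›)

end Groth.Agent.S4602
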