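import Groth.Statements.S4603
import Groth.Agent.Lib.ConsTop3.Scheme
import Groth.Agent.Lib.FlatH4.GenPt
import Groth.Agent.S3403

set_option autoImplicit false
universe u
open AlgebraicGeometry CategoryTheory
open EGA41

namespace Groth.Agent.S4603

/-- Let f : X → Y be quasi-compact. The following are equivalent: f is dominant; the fibre of f over
every maximal point of Y (a point with no proper generization, i.e. the generic point of an
irreducible component) is nonempty; every maximal point of Y is the image of a maximal point of X. -/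
theorem result {X Y : Scheme.{u}} (f : X ⟶ Y) [QuasiCompact f] :
    [IsDominant f,
     ∀ y : Y, (∀ y' : Y, y' ⤳ y → y' = y) → y ∈ Set.range f.base,
     ∀ y : Y, (∀ y' : Y, y' ⤳ y → y' = y) → ∃ x : X, (∀ x' : X, x' ⤳ x → x' = x) ∧ f.base x = y].TFAE := by
  tfae_have 1 → 2
  | hd, y, hy => by
    by_contra hyr
    have hpro : ProCons.IsProConstructible (Set.range f.base) := by
      rw [← Set.image_univ]
      exact ConsTop3.isProConstructible_image f
        (ConsTop3.isProConstructible_of_isLocallyConstructible Topology.IsConstructible.univ.isLocallyConstructible)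
    have hint : y ∈ interior (Set.range f.base)ᶜ :=
      (S3403.result Y _ (ConsTop3.isIndConstructible_compl_iff.2 hpro) y).2 fun y' hy' => (hy y' hy').symm ▸ hyr
    obtain ⟨z, hz, hz'⟩ := f.denseRange.inter_open_nonempty _ isOpen_interior ⟨y, hint⟩
    exact interior_subset hz hz'
  tfae_have 2 → 3
  | h, y, hy => by
    obtain ⟨x, rfl⟩ := h y hy
    obtain ⟨x', hx', hxx⟩ := FlatH4.exists_isMaxPt_specializes x
    exact ⟨x', hx', hy _ (hxx.map f.continuous)⟩
  tfae_have 3 → 1
  | h => by
    refine ⟨fun y => ?_⟩
    obtain ⟨η, hη, hηy⟩ := FlatH4.exists_isMaxPt_specializes y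
    obtain ⟨x, -, hx⟩ := h η hη
    exact hηy.mem_closed isClosed_closure (subset_closure ⟨x, hx⟩)
  tfae_finish

end Groth.Agent.S4603
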