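import Groth.Statements.S4605
import Groth.Agent.Lib.PBasis.Basic
import Mathlib.FieldTheory.IsAlgClosed.AlgebraicClosure

set_option autoImplicit false
universe u
open IsLocalRing
open EGA41

namespace Groth.Agent.S4605

/-- Let A be a local ring with maximal ideal m of square zero and residue field K of characteristic p >
0, F_i(T_i) = T_i^p + p Σ_{k=1}^{p-1} c_{ik} T_i^{p-k} − f_i (i in a finite index set) with c_{ik},
f_i ∈ A, and suppose the residues of the f_i in K are p-independent over K^p. Then A' = A[T_i]/(F_i)
is local with maximal ideal m A'. (The identification of the residue field with K(a_i^{1/p}) is not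
restated.) -/
theorem result {A : Type u} [CommRing A]
    [IsLocalRing A] (hm : maximalIdeal A ^ 2 = ⊥) (p : ℕ) [Fact p.Prime] [CharP (ResidueField A) p]
    {ι : Type u} [Finite ι] (c : ι → Fin p → A) (f : ι → A)
    (hind : LinearIndependent (↥(frobenius (ResidueField A) p).fieldRange)
      (fun e : {e : ι →₀ ℕ // ∀ i, e i < p} => EGA41.pMonomial (fun i => residue A (f i)) e.1)) :
    let F : ι → MvPolynomial ι A := fun i =>
      MvPolynomial.X i ^ p + (p : MvPolynomial ι A) * (Finset.univ.sum fun j : Fin p =>
        if (j : ℕ) = 0 then 0 else MvPolynomial.C (c i j) * MvPolynomial.X i ^ (p - (j : ℕ))) - MvPolynomial.C (f i)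
    ∃ _ : IsLocalRing (MvPolynomial ι A ⧸ Ideal.span (Set.range F)),
      maximalIdeal (MvPolynomial ι A ⧸ Ideal.span (Set.range F)) =
        (maximalIdeal A).map (algebraMap A (MvPolynomial ι A ⧸ Ideal.span (Set.range F))) := by
  classical
  intro F
  let k := ResidueField A
  let K := AlgebraicClosure k
  have hp0 : 0 < p := (Fact.out : p.Prime).pos
  choose z hz using fun i => IsAlgClosed.exists_pow_nat_eq (algebraMap k K (residue A (f i))) hp0
  have hli : LinearIndependent k fun e : {e : ι →₀ ℕ // ∀ i, e i < p} => EGA41.pMonomial z e.1 := by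
    rw [linearIndependent_iff']
    intro s g hg e he
    have h1 : ∑ e ∈ s, g e ^ p * EGA41.pMonomial (fun i => residue A (f i)) e.1 = 0 := by
      apply (algebraMap k K).injective
      rw [map_zero, map_sum]
      haveI : CharP K p := charP_of_injective_algebraMap (algebraMap k K).injective p
      have hfr : ∑ i ∈ s, (g i • EGA41.pMonomial z i.1) ^ p = 0 := by
        rw [← sum_pow_char, hg, zero_pow hp0.ne']
      rw [← hfr]
      refine Finset.sum_congr rfl fun e _ => ?_
      rw [Algebra.smul_def, mul_pow, map_mul, map_pow]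
      congr 1
      simp only [EGA41.pMonomial, Finsupp.prod, map_prod, map_pow, ← Finset.prod_pow, ← pow_mul]
      refine Finset.prod_congr rfl fun i _ => ?_
      rw [mul_comm, pow_mul, hz]
    have h2 := linearIndependent_iff'.mp hind s (fun e => ⟨g e ^ p, g e, rfl⟩) h1 e he
    exact eq_zero_of_pow_eq_zero (congrArg Subtype.val h2)
  have hker := PBasis.ker_aeval_eq p z (fun i => residue A (f i)) hz hli
  haveI hmax : (RingHom.ker (MvPolynomial.aeval (R := k) z : MvPolynomial ι k →ₐ[k] K)).IsMaximal := by
    haveI : (RingHom.ker (MvPolynomial.aeval (R := k) z : MvPolynomial ι k →ₐ[k] K)).IsPrime := RingHom.ker_isPrime _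
    let e := Ideal.quotientKerEquivRange (MvPolynomial.aeval (R := k) z)
    haveI : Algebra.IsIntegral k (MvPolynomial.aeval (R := k) z).range :=
      ⟨fun y => isIntegral_algHom_iff (MvPolynomial.aeval (R := k) z).range.val Subtype.val_injective |>.mp
        (Algebra.IsIntegral.isIntegral (y : K))⟩
    refine Ideal.Quotient.maximal_of_isField _ ?_
    exact MulEquiv.isField (isField_of_isIntegral_of_isField' (Field.toIsField k)) e.toMulEquiv
  haveI : (PBasis.relIdeal p fun i => residue A (f i)).IsMaximal := by rw [← hker]; exact hmax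
  let q := MvPolynomial.map (σ := ι) (residue A)
  have hq : Function.Surjective q := MvPolynomial.map_surjective _ residue_surjective
  haveI hP : ((PBasis.relIdeal p fun i => residue A (f i)).comap q).IsMaximal :=
    Ideal.comap_isMaximal_of_surjective q hq
  have hpm : (p : ResidueField A) = 0 := CharP.cast_eq_zero _ p
  have hqF : ∀ i, q (F i) = MvPolynomial.X i ^ p - MvPolynomial.C (residue A (f i)) := fun i => by
    have : (p : MvPolynomial ι k) = 0 := by rw [← map_natCast (MvPolynomial.C : k →+* _), hpm, map_zero]
    simp only [F, q, map_sub, map_add, map_mul, map_natCast, map_pow, MvPolynomial.map_X, MvPolynomial.map_C, this,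
      zero_mul, add_zero]
  have hmap : (Ideal.span (Set.range F)).map q = PBasis.relIdeal p fun i => residue A (f i) := by
    rw [Ideal.map_span, ← Set.range_comp]
    exact congrArg (fun g => Ideal.span (Set.range g)) (funext hqF)
  have hcomap : (PBasis.relIdeal p fun i => residue A (f i)).comap q =
      Ideal.span (Set.range F) ⊔ (maximalIdeal A).map (MvPolynomial.C : A →+* MvPolynomial ι A) := by
    rw [← hmap, Ideal.comap_map_of_surjective _ hq, ← RingHom.ker_eq_comap_bot, MvPolynomial.ker_map,
      IsLocalRing.ker_residue]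
  let π := Ideal.Quotient.mk (Ideal.span (Set.range F))
  have hIJ : Ideal.span (Set.range F) ≤ (PBasis.relIdeal p fun i => residue A (f i)).comap q :=
    hcomap ▸ le_sup_left
  have hM : ((PBasis.relIdeal p fun i => residue A (f i)).comap q).map π =
      (maximalIdeal A).map (algebraMap A (MvPolynomial ι A ⧸ Ideal.span (Set.range F))) := by
    rw [hcomap, Ideal.map_sup, Ideal.map_quotient_self, bot_sup_eq, Ideal.map_map]
    rfl
  haveI hMmax : ((maximalIdeal A).map (algebraMap A (MvPolynomial ι A ⧸ Ideal.span (Set.range F)))).IsMaximal := by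
    rw [← hM]
    refine (Ideal.map_eq_top_or_isMaximal_of_surjective π Ideal.Quotient.mk_surjective hP).resolve_left fun e => hP.ne_top ?_
    have := congrArg (Ideal.comap π) e
    rwa [Ideal.comap_map_of_surjective π Ideal.Quotient.mk_surjective, ← RingHom.ker_eq_comap_bot, Ideal.mk_ker,
      sup_eq_left.mpr hIJ, Ideal.comap_top] at this
  have huniq : ∀ M : Ideal (MvPolynomial ι A ⧸ Ideal.span (Set.range F)), M.IsMaximal →
      M = (maximalIdeal A).map (algebraMap A (MvPolynomial ι A ⧸ Ideal.span (Set.range F))) := fun M hM' => by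
    refine (hMmax.eq_of_le hM'.ne_top ?_).symm
    refine hM'.isPrime.le_of_pow_le (n := 2) ?_
    rw [← Ideal.map_pow, hm, Ideal.map_bot]
    exact bot_le
  haveI : IsLocalRing (MvPolynomial ι A ⧸ Ideal.span (Set.range F)) :=
    IsLocalRing.of_unique_max_ideal ⟨_, hMmax, huniq⟩
  exact ⟨inferInstance, (IsLocalRing.eq_maximalIdeal hMmax).symm⟩

end Groth.Agent.S4605
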