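import Groth.Statements.S4606
import Groth.Agent.Lib.LeftInv.AdicDetect
import Groth.Agent.Lib.AdicSmooth.Jacobian
import Groth.Agent.S2463

set_option autoImplicit false
universe u
open TensorProduct KaehlerDifferential IsLocalRing
open EGA41

namespace Groth.Agent.S4606

/-- Let B be a Noetherian A-algebra formally smooth for the discrete topologies, B → C a surjection with
kernel J, p a prime of C and q its contraction to A. Then C_p is formally smooth over A_q (A_q
discrete, C_p with the adic topology of its maximal ideal) if and only if κ(p) ⊗ J/J² → κ(p) ⊗ (C
⊗_B Ω_{B/A}) is injective. (The equivalent variant with the q-adic topology on A_q is not stated.) -/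
theorem result {A B C : Type u} [CommRing A]
    [CommRing B] [CommRing C] [Algebra A B] [Algebra B C] [Algebra A C] [IsScalarTower A B C] [IsNoetherianRing B]
    [Algebra.FormallySmooth A B] (hsurj : Function.Surjective (algebraMap B C)) (p : Ideal C) [p.IsPrime]
    [Algebra (Localization.AtPrime (p.comap (algebraMap A C))) (Localization.AtPrime p)]
    [IsScalarTower A (Localization.AtPrime (p.comap (algebraMap A C))) (Localization.AtPrime p)] :
    CAlgX.IsAdicFormallySmooth (Localization.AtPrime (p.comap (algebraMap A C))) (Localization.AtPrime p)
        (maximalIdeal (Localization.AtPrime p)) ↔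
      Function.Injective ((kerCotangentToTensor A B C).lTensor p.ResidueField) := by
  haveI : Module.Finite B (RingHom.ker (algebraMap B C)).Cotangent :=
    Module.Finite.of_surjective _ (RingHom.ker (algebraMap B C)).toCotangent_surjective
  refine Iff.trans ?_ (((S2463.result (A := A) hsurj p).out 0 1 rfl rfl))
  let q := p.comap (algebraMap A C)
  haveI : Algebra.FormallySmooth A (Localization.AtPrime q) := Algebra.FormallySmooth.of_isLocalization q.primeCompl
  haveI : Algebra.FormallyUnramified A (Localization.AtPrime q) := Algebra.FormallyUnramified.of_isLocalization q.primeCompl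
  constructor
  · intro h
    have hA := AdicSmooth.trans_discrete (Λ := A) (A := Localization.AtPrime q) _ h
    rw [LeftInv.formallySmooth_localization_iff_jacobian hsurj p]
    exact LeftInv.exists_jacobian_of_detect p
      (LeftInv.detect_of_isAdicFormallySmooth hsurj p (LeftInv.derDetect_of_projective _) hA)
  · intro h
    haveI := Algebra.FormallySmooth.of_restrictScalars A (Localization.AtPrime q) (Localization.AtPrime p)
    intro E _ _ N hN ψ _
    exact Algebra.FormallySmooth.comp_surjective _ _ N hN ψ

end Groth.Agent.S4606
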