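import Groth.Statements.S4607
import Mathlib.RingTheory.Flat.FaithfullyFlat.Basic

set_option autoImplicit false
universe u
open TensorProduct
open EGA41

namespace Groth.Agent.S4607

/-- First assertion, case of two factors: for A-algebras A' and A'' the image of Spec(A' ⊗_A A'') in
Spec A is the intersection of the images of Spec A' and Spec A''. -/
theorem result {A A' A'' : Type u} [CommRing A] [CommRing A'] [CommRing A'']
    [Algebra A A'] [Algebra A A''] :
    Set.range (PrimeSpectrum.comap (algebraMap A (A' ⊗[A] A''))) =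
      Set.range (PrimeSpectrum.comap (algebraMap A A')) ∩ Set.range (PrimeSpectrum.comap (algebraMap A A'')) := by
  ext p
  simp only [Set.mem_inter_iff, ← PrimeSpectrum.nontrivial_iff_mem_rangeComap]
  let κ := p.asIdeal.ResidueField
  let e : κ ⊗[A] (A' ⊗[A] A'') ≃ₗ[A] (κ ⊗[A] A') ⊗[κ] (κ ⊗[A] A'') :=
    ((TensorProduct.assoc A κ A' A'').symm ≪≫ₗ
      ((TensorProduct.AlgebraTensorModule.cancelBaseChange A κ κ (κ ⊗[A] A') A'').symm.restrictScalars A))
  rw [e.toEquiv.nontrivial_congr]
  constructor
  · intro h
    rw [← not_subsingleton_iff_nontrivial, ← not_subsingleton_iff_nontrivial]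
    constructor <;> intro h' <;> exact absurd h (not_nontrivial_iff_subsingleton.2 inferInstance)
  · rintro ⟨h', h''⟩
    exact (Module.FaithfullyFlat.nontrivial_tensorProduct_iff_right (R := κ) (M := κ ⊗[A] A') (N := κ ⊗[A] A'')).2 h''

end Groth.Agent.S4607
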