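import Groth.Statements.S4609
import Groth.Agent.Lib.SchBasic.Basic

set_option autoImplicit false
universe u
open AlgebraicGeometry CategoryTheory CategoryTheory.Limits
open EGA41

namespace Groth.Agent.S4609

set_option backward.isDefEq.respectTransparency false

/-- A morphism from a disjoint union X' ⨿ X'' → Y is quasi-separated if and only if its two components
are. -/
theorem result {X' X'' Y : Scheme.{u}} (f' : X' ⟶ Y) (f'' : X'' ⟶ Y) :
    QuasiSeparated (coprod.desc f' f'') ↔ QuasiSeparated f' ∧ QuasiSeparated f'' := by
  constructor
  · intro h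
    constructor
    · rw [← coprod.inl_desc f' f'']; infer_instance
    · rw [← coprod.inr_desc f' f'']; infer_instance
  · rintro ⟨h', h''⟩
    have h1 : coprod.desc f' f'' = coprod.map f' f'' ≫ coprod.desc (𝟙 Y) (𝟙 Y) := by simp
    haveI : QuasiSeparated (coprod.map f' f'') := IsZariskiLocalAtTarget.coprodMap (P := @QuasiSeparated.{u}) _ _ h' h''
    rw [h1]; infer_instance

end Groth.Agent.S4609
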