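import Groth.Statements.S4610
import Mathlib
-- import your own Groth.Agent.* helpers here

set_option autoImplicit false
universe u
open EGA41

namespace Groth.Agent.S4610

theorem exists_universal {A : Type u} [CommRing A] [Nontrivial A] {r : ℕ} (F : Fin r → Polynomial A)
    (hF : ∀ i, (F i).Monic) :
    ∃ (C : Type u) (_ : CommRing C) (_ : Algebra A C) (z : Fin r → C), Module.Free A C ∧ Module.Finite A C ∧
      Module.finrank A C = Finset.univ.prod (fun i => (F i).natDegree) ∧ (∀ i, Polynomial.aeval (z i) (F i) = 0) ∧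
      Algebra.adjoin A (Set.range z) = ⊤ ∧
      ∀ (T : Type u) [CommRing T] [Algebra A T] (w : Fin r → T), (∀ i, Polynomial.aeval (w i) (F i) = 0) →
        ∃ φ : C →ₐ[A] T, ∀ i, φ (z i) = w i := by
  induction r with
  | zero =>
    refine ⟨A, inferInstance, inferInstance, fun i => i.elim0, inferInstance, inferInstance, by simp [Module.finrank_self], fun i => i.elim0, ?_,
      fun T _ _ w _ => ⟨Algebra.ofId A T, fun i => i.elim0⟩⟩
    rw [eq_top_iff]
    exact fun x _ => Subalgebra.algebraMap_mem _ x
  | succ r ih =>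
    obtain ⟨C, _, _, z, hfree, hfin, hrank, hz, hgen, huniv⟩ := ih (fun i => F i.succ) (fun i => hF _)
    let Q := (F 0).map (algebraMap A C)
    have hQ : Q.Monic := (hF 0).map _
    haveI := hfree
    haveI := hfin
    haveI : Module.Free C (AdjoinRoot Q) := Module.Free.of_basis (AdjoinRoot.powerBasis' hQ).basis
    haveI : Module.Finite C (AdjoinRoot Q) := Module.Finite.of_basis (AdjoinRoot.powerBasis' hQ).basis
    refine ⟨AdjoinRoot Q, inferInstance, inferInstance,
      Fin.cases (AdjoinRoot.root Q) (fun i => algebraMap C (AdjoinRoot Q) (z i)), Module.Free.trans (R := A) (S := C) (M := AdjoinRoot Q),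
      Module.Finite.trans C _, ?_, fun i => ?_, ?_, fun T _ _ w hw => ?_⟩
    · rcases subsingleton_or_nontrivial C with hC | hC
      · haveI : Subsingleton (AdjoinRoot Q) := Module.subsingleton C _
        rw [Fin.prod_univ_succ, ← hrank, Module.finrank_zero_of_subsingleton, Module.finrank_zero_of_subsingleton, mul_zero]
      · rw [Fin.prod_univ_succ, ← hrank, ← Module.finrank_mul_finrank A C (AdjoinRoot Q), mul_comm]
        congr 1
        rw [(AdjoinRoot.powerBasis' hQ).finrank, AdjoinRoot.powerBasis'_dim, (hF 0).natDegree_map]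
    · refine Fin.cases ?_ (fun i => ?_) i
      · simp only [Fin.cases_zero]
        rw [Polynomial.aeval_def, IsScalarTower.algebraMap_eq A C (AdjoinRoot Q), ← Polynomial.eval₂_map]
        exact AdjoinRoot.eval₂_root Q
      · simp only [Fin.cases_succ]
        rw [Polynomial.aeval_algebraMap_apply, hz, map_zero]
    · rw [eq_top_iff]
      intro x hx; clear hx
      induction x using AdjoinRoot.induction_on with
      | ih p =>
        induction p using Polynomial.induction_on' with
        | add p q hp hq => rw [map_add]; exact add_mem hp hq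
        | monomial n c =>
          rw [← Polynomial.C_mul_X_pow_eq_monomial, map_mul, map_pow, AdjoinRoot.mk_C, AdjoinRoot.mk_X]
          refine mul_mem ?_ (pow_mem (Algebra.subset_adjoin (Set.mem_range.2 ⟨0, rfl⟩)) n)
          have hle : Algebra.adjoin A (Set.range z) ≤ (Algebra.adjoin A (Set.range
              (Fin.cases (AdjoinRoot.root Q) (fun i => algebraMap C (AdjoinRoot Q) (z i)) : Fin (r + 1) → AdjoinRoot Q))).comap
              (IsScalarTower.toAlgHom A C (AdjoinRoot Q)) := by
            refine Algebra.adjoin_le ?_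
            rintro _ ⟨i, rfl⟩
            exact Algebra.subset_adjoin ⟨i.succ, by simp⟩
          exact hle (hgen ▸ Algebra.mem_top)
    · obtain ⟨φ, hφ⟩ := huniv T (fun i => w i.succ) fun i => hw _
      have hr : Polynomial.eval₂ φ.toRingHom (w 0) Q = 0 := by
        rw [Polynomial.eval₂_map, show φ.toRingHom.comp (algebraMap A C) = algebraMap A T from φ.comp_algebraMap]
        exact hw 0
      let ψ : AdjoinRoot Q →ₐ[A] T :=
        { AdjoinRoot.lift φ.toRingHom (w 0) hr with
          commutes' := fun a => (AdjoinRoot.lift_of hr).trans (φ.commutes a) }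
      refine ⟨ψ, Fin.cases ?_ fun i => ?_⟩
      · exact AdjoinRoot.lift_root hr
      · exact (AdjoinRoot.lift_of hr).trans (hφ i)

/-- Let A be a nonzero ring and F_1, …, F_r monic one-variable polynomials of degrees d_1, …, d_r; then
A[T_1, …, T_r]/(F_1(T_1), …, F_r(T_r)) is a free A-module of rank ∏ d_i. (The published statement
assumes A local with maximal ideal of square zero and A' local, which this assertion does not use;
its bound [K' : K] ≤ d and part (ii) are not stated.) -/
theorem result {A : Type u} [CommRing A] [Nontrivial A]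
    {r : ℕ} (F : Fin r → Polynomial A) (hF : ∀ i, (F i).Monic) :
    Module.Free A (MvPolynomial (Fin r) A ⧸ Ideal.span (Set.range fun i => Polynomial.aeval (MvPolynomial.X i : MvPolynomial (Fin r) A) (F i))) ∧
      Module.finrank A (MvPolynomial (Fin r) A ⧸ Ideal.span (Set.range fun i => Polynomial.aeval (MvPolynomial.X i : MvPolynomial (Fin r) A) (F i))) =
        Finset.univ.prod fun i => (F i).natDegree := by
  obtain ⟨C, _, _, z, hfree, hfin, hrank, hz, hgen, huniv⟩ := exists_universal F hF
  let I := Ideal.span (Set.range fun i => Polynomial.aeval (MvPolynomial.X i : MvPolynomial (Fin r) A) (F i))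
  have hI : I ≤ RingHom.ker (MvPolynomial.aeval z : MvPolynomial (Fin r) A →ₐ[A] C) := by
    rw [Ideal.span_le]
    rintro _ ⟨i, rfl⟩
    show MvPolynomial.aeval z (Polynomial.aeval (MvPolynomial.X i : MvPolynomial (Fin r) A) (F i)) = 0
    rw [← Polynomial.aeval_algHom_apply, MvPolynomial.aeval_X, hz]
  let a : (MvPolynomial (Fin r) A ⧸ I) →ₐ[A] C := Ideal.Quotient.liftₐ I (MvPolynomial.aeval z) fun x hx => hI hx
  obtain ⟨b, hb⟩ := huniv (MvPolynomial (Fin r) A ⧸ I) (fun i => Ideal.Quotient.mk I (MvPolynomial.X i)) fun i => by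
    rw [show Ideal.Quotient.mk I (MvPolynomial.X i) = Ideal.Quotient.mkₐ A I (MvPolynomial.X i) from rfl,
      Polynomial.aeval_algHom_apply]
    exact Ideal.Quotient.eq_zero_iff_mem.2 (Ideal.subset_span ⟨i, rfl⟩)
  have haX : ∀ i, a (Ideal.Quotient.mk I (MvPolynomial.X i)) = z i := fun i => MvPolynomial.aeval_X z i
  let e : (MvPolynomial (Fin r) A ⧸ I) ≃ₐ[A] C := AlgEquiv.ofAlgHom a b
    (AlgHom.ext_of_adjoin_eq_top hgen (by
      rintro _ ⟨i, rfl⟩
      show a (b (z i)) = z i
      rw [hb, haX]))
    (Ideal.Quotient.algHom_ext A (MvPolynomial.algHom_ext fun i => by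
      show b (a (Ideal.Quotient.mk I (MvPolynomial.X i))) = Ideal.Quotient.mk I (MvPolynomial.X i)
      rw [haX, hb]))
  haveI := hfree
  exact ⟨Module.Free.of_equiv e.symm.toLinearEquiv, e.toLinearEquiv.finrank_eq.trans hrank⟩

end Groth.Agent.S4610
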