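import Groth.Statements.S4611
-- import your own Groth.Agent.* helpers here

set_option autoImplicit false
universe u
open EGA41

namespace Groth.Agent.S4611

/-- A local algebra essentially of finite type over a ring A is A-isomorphic to a quotient of a
localization A[T_1, …, T_n]_q of a polynomial algebra at a prime ideal q; stated as the existence of
a surjective A-algebra map from such a localization. -/
theorem result {A B : Type u} [CommRing A]
    [CommRing B] [IsLocalRing B] [Algebra A B] [Algebra.EssFiniteType A B] :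
    ∃ (n : ℕ) (q : Ideal (MvPolynomial (Fin n) A)) (_ : q.IsPrime)
      (φ : Localization.AtPrime q →ₐ[A] B), Function.Surjective φ := by
  classical
  obtain ⟨σ, hσ⟩ := (Algebra.essFiniteType_iff A B).1 inferInstance
  let e := σ.equivFin
  let f : MvPolynomial (Fin σ.card) A →ₐ[A] B := MvPolynomial.aeval fun i => (e.symm i : B)
  have hf : f.range = Algebra.adjoin A (σ : Set B) := by
    rw [← Algebra.adjoin_range_eq_range_aeval]
    congr 1
    ext b
    refine ⟨?_, fun hb => ⟨e ⟨b, hb⟩, by simp⟩⟩
    rintro ⟨i, rfl⟩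
    exact (e.symm i).2
  let q := Ideal.comap f (IsLocalRing.maximalIdeal B)
  have hq : ∀ y : q.primeCompl, IsUnit (f y) := fun y => IsLocalRing.notMem_maximalIdeal.1 y.2
  refine ⟨σ.card, q, inferInstance,
    IsLocalization.liftAlgHom (M := q.primeCompl) (S := Localization.AtPrime q) hq, fun b => ?_⟩
  obtain ⟨t, ht, htu, hbt⟩ := hσ b
  rw [← hf] at ht hbt
  obtain ⟨t', rfl⟩ := ht
  obtain ⟨c, hc⟩ := hbt
  have htq : t' ∈ q.primeCompl := IsLocalRing.notMem_maximalIdeal.2 htu
  refine ⟨IsLocalization.mk' _ c ⟨t', htq⟩, ?_⟩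
  rw [IsLocalization.liftAlgHom_apply, IsLocalization.lift_mk'_spec]
  exact hc.trans (mul_comm _ _)

end Groth.Agent.S4611
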