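import Groth.Statements.S4612
import Groth.Agent.Lib.JacPS3.PowerSeries
import Groth.Agent.Lib.JacPS3.Sufficient
import Groth.Agent.Lib.JacPS3.LocQuot
import Groth.Agent.Lib.CKaehlerFree3.GeomReg
import Groth.Agent.Lib.FSFlat3.Forward

set_option autoImplicit false
universe u
open IsLocalRing
open EGA41

namespace Groth.Agent.S4612

open IsLocalRing

/-- Nagata's Jacobian criterion for quotients of power series rings: let k be a field, A = k[[T_1, …,
T_r]], q ⊆ p ideals of A with p prime, B = A/q. Suppose A/p contains a sub-k-algebra isomorphic to a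
power series algebra k[[X_1, …, X_s]] over which A/p is finite and such that the fraction field L of
A/p is a separable extension of the fraction field L' of k[[X_1, …, X_s]]; here this is given as an
injective k-algebra map k[[X_1, …, X_s]] → A/p making A/p a finite module, with fraction fields L',
L and a compatible L'-algebra structure on L. Then the following are equivalent: B_p is formally
smooth over k for the adic topology of its maximal ideal; there are k-derivations D_1, …, D_m of A
into itself and f_1, …, f_m ∈ q generating qA_p with det(D_i f_j) ∉ p; B_p is a regular local ring.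
(The published statement remarks that the hypothesis on A/p always holds when k has characteristic
zero.) -/
theorem result {k : Type u} [Field k] (r : ℕ)
    (q p : Ideal (MvPowerSeries (Fin r) k)) [p.IsPrime] (hqp : q ≤ p) [(p.map (Ideal.Quotient.mk q)).IsPrime]
    (s : ℕ) [Algebra (MvPowerSeries (Fin s) k) (MvPowerSeries (Fin r) k ⧸ p)]
    [IsScalarTower k (MvPowerSeries (Fin s) k) (MvPowerSeries (Fin r) k ⧸ p)]
    [Module.Finite (MvPowerSeries (Fin s) k) (MvPowerSeries (Fin r) k ⧸ p)]
    (hinj : Function.Injective (algebraMap (MvPowerSeries (Fin s) k) (MvPowerSeries (Fin r) k ⧸ p)))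
    {L' L : Type u} [Field L'] [Field L]
    [Algebra (MvPowerSeries (Fin s) k) L'] [IsFractionRing (MvPowerSeries (Fin s) k) L']
    [Algebra (MvPowerSeries (Fin r) k ⧸ p) L] [IsFractionRing (MvPowerSeries (Fin r) k ⧸ p) L]
    [Algebra L' L] [Algebra (MvPowerSeries (Fin s) k) L]
    [IsScalarTower (MvPowerSeries (Fin s) k) (MvPowerSeries (Fin r) k ⧸ p) L]
    [IsScalarTower (MvPowerSeries (Fin s) k) L' L] [Algebra.IsSeparable L' L] :
    [CAlgX.IsAdicFormallySmooth k (Localization.AtPrime (p.map (Ideal.Quotient.mk q)))
        (maximalIdeal (Localization.AtPrime (p.map (Ideal.Quotient.mk q)))),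
     ∃ (m : ℕ) (D : Fin m → Derivation k (MvPowerSeries (Fin r) k) (MvPowerSeries (Fin r) k))
        (f : Fin m → MvPowerSeries (Fin r) k), (∀ i, f i ∈ q) ∧
        q.map (algebraMap (MvPowerSeries (Fin r) k) (Localization.AtPrime p)) =
          Ideal.span (Set.range fun i => algebraMap (MvPowerSeries (Fin r) k) (Localization.AtPrime p) (f i)) ∧
        Matrix.det (Matrix.of fun i j => D i (f j)) ∉ p,
     IsRegularLocalRing (Localization.AtPrime (p.map (Ideal.Quotient.mk q)))].TFAE := by
  obtain ⟨π, hπ, hkerπ⟩ := Groth.Agent.JacPS3.exists_localization_quotient_map (k := k) q p hqp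
  haveI := Groth.Agent.H2Alg.PSHom.isRegularLocalRing k r
  have hfsR : CAlgX.IsAdicFormallySmooth k (Localization.AtPrime p) (maximalIdeal (Localization.AtPrime p)) :=
    Groth.Agent.FSFlat3.adicFS_iff_geometricallyRegular.2
      (Groth.Agent.CKaehlerFree3.geometricallyRegular_localization_of_etale (R := MvPowerSeries (Fin r) k)
        (Groth.Agent.CKaehlerFree3.geometricallyRegular_powerSeries k r) (Localization.AtPrime p) p.primeCompl)
  haveI : IsRegularLocalRing (Localization.AtPrime p) := Groth.Agent.AdicSmooth.isRegularLocalRing_of_adicFS hfsR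
  tfae_have 1 → 3 := fun h => Groth.Agent.AdicSmooth.isRegularLocalRing_of_adicFS h
  tfae_have 3 → 2 := by
    intro h
    haveI := h
    haveI : IsRegularLocalRing (Localization.AtPrime p ⧸ q.map (algebraMap _ (Localization.AtPrime p))) :=
      IsRegularLocalRing.of_ringEquiv (R := Localization.AtPrime (p.map (Ideal.Quotient.mk q)))
        (((Ideal.quotEquivOfEq hkerπ.symm).trans (RingHom.quotientKerEquivOfSurjective (f := π.toRingHom) hπ)).symm)
    obtain ⟨m, f, c, hf, hgen, hdet⟩ := Groth.Agent.JacPS3.exists_jacobian_of_regular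
      ((algebraMap (MvPowerSeries (Fin r) k ⧸ p) L).comp (Ideal.Quotient.mk p)) (fun j => MvPowerSeries.pderiv k j)
      (by rw [← RingHom.comap_ker, (RingHom.injective_iff_ker_eq_bot _).1 (IsFractionRing.injective _ L), ← RingHom.ker_eq_comap_bot, Ideal.mk_ker])
      (Groth.Agent.JacPS3.spanFinrank_le_finrank_grad p s hinj (L' := L') (L := L)) q hqp
    exact ⟨m, fun i => MvPowerSeries.pderiv k (c i), f, hf, hgen, hdet⟩
  tfae_have 2 → 1 := by
    rintro ⟨m, D, f, hf, hgen, hdet⟩
    choose D' hD' using fun i => Groth.Agent.JacPS3.exists_derivation_localization p.primeCompl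
      (R := Localization.AtPrime p) (D i)
    refine Groth.Agent.JacPS3.isAdicFormallySmooth_quotient_of_jacobian hfsR π hπ
      (fun i => algebraMap _ (Localization.AtPrime p) (f i)) (hkerπ.trans hgen) D' ?_
    have h1 : (Matrix.of fun i j => D' i (algebraMap _ (Localization.AtPrime p) (f j))) =
        (algebraMap (MvPowerSeries (Fin r) k) (Localization.AtPrime p)).mapMatrix (Matrix.of fun i j => D i (f j)) := by
      ext i j
      exact hD' i (f j)
    rw [h1, ← RingHom.map_det]
    exact (IsLocalization.AtPrime.isUnit_to_map_iff _ p _).2 hdet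
  tfae_finish

end Groth.Agent.S4612
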