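import Groth.Statements.S4613
import Mathlib.AlgebraicGeometry.Morphisms.FinitePresentation
import Mathlib.AlgebraicGeometry.Morphisms.ClosedImmersion

set_option autoImplicit false
universe u
open AlgebraicGeometry CategoryTheory
open EGA41

namespace Groth.Agent.S4613

/-- For a closed immersion j : X → Y: j is locally of finite presentation if and only if its ideal sheaf
is of finite type, i.e. for every affine open U of Y the kernel of Γ(U, O_Y) → Γ(j⁻¹U, O_X) is
finitely generated. (An immersion with image closed in an open U reduces to this case.) -/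
theorem result {X Y : Scheme.{u}} (j : X ⟶ Y)
    [IsClosedImmersion j] :
    LocallyOfFinitePresentation j ↔ ∀ U : Y.affineOpens, (RingHom.ker (j.app U).hom).FG := by
  constructor
  · intro _ U
    have h := HasRingHomProperty.appLE @LocallyOfFinitePresentation j ‹_› U ⟨j ⁻¹ᵁ U.1, U.2.preimage j⟩ le_rfl
    rw [← Scheme.Hom.app_eq_appLE] at h
    letI := (j.app U.1).hom.toAlgebra
    exact @Algebra.FinitePresentation.ker_fG_of_surjective Γ(Y, U.1) Γ(Y, U.1) Γ(X, j ⁻¹ᵁ U.1) _ _ _ _ _ (Algebra.ofId _ _) (j.app_surjective U.1 U.2) _ h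
  · intro h
    refine (IsZariskiLocalAtTarget.iff_of_iSup_eq_top (P := @LocallyOfFinitePresentation)
      (fun U : Y.affineOpens => U.1) (iSup_affineOpens_eq_top Y)).2 fun U => ?_
    haveI : IsAffine (U.1 : Scheme.{u}) := U.2
    haveI : IsAffine (j ⁻¹ᵁ U.1).toScheme := U.2.preimage j
    rw [HasRingHomProperty.iff_of_isAffine (P := @LocallyOfFinitePresentation)]
    have h1 : (j.app U.1).hom.FinitePresentation :=
      RingHom.FinitePresentation.of_surjective _ (j.app_surjective U.1 U.2) (h U)
    rw [morphismRestrict_appTop]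
    change ((X.presheaf.map (eqToHom _).op).hom.comp (j.app (U.1.ι ''ᵁ ⊤)).hom).FinitePresentation
    refine RingHom.FinitePresentation.comp (RingHom.FinitePresentation.of_bijective
      (ConcreteCategory.bijective_of_isIso _)) ?_
    have he : U.1.ι ''ᵁ ⊤ = U.1 := by simp
    exact he.symm ▸ h1

end Groth.Agent.S4613
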