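import Groth.Statements.S4615
import Groth.Agent.Lib.CAlgLow.JapaneseRed
import Groth.Agent.Lib.CplLocH7.Basic
import Groth.Agent.Lib.CplDomain.Nagata

set_option autoImplicit false
universe u
open TensorProduct AlgebraicGeometry
open CAlg

namespace Groth.Agent.S4615

open Groth.Agent in
theorem japanese_cpl (A : Type u) [CommRing A] [IsLocalRing A] [IsNoetherianRing A]
    (q : Ideal (CplLocH7.Cpl A)) [q.IsPrime] : CAlg.IsN2 (CplLocH7.Cpl A ⧸ q) := by
  haveI : IsAdicComplete (IsLocalRing.maximalIdeal (CplLocH7.Cpl A)) (CplLocH7.Cpl A) := by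
    rw [CplLocH7.maximalIdeal_cpl]
    exact (IsAdicComplete.map_algebraMap_iff _ _).2 (AdicCompletion.isAdicComplete (IsNoetherian.noetherian _))
  exact (CplDomain.isNagata_of_complete (CplLocH7.Cpl A)).2 q


/-- Let A be a Noetherian local domain with fraction field K, Â its completion and K' a finite extension
of K; among the sub-A-algebras C of K' finite over A with fraction field K' (whose completions are C
⊗_A Â) there is C_α such that for every such C ⊇ C_α the map (C_α ⊗_A Â)_red → (C ⊗_A Â)_red is
bijective, and Spec A' → Spec C_α is radicial, A' the integral closure of A in K'. -/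
theorem result {A K' : Type u} [CommRing A] [IsDomain A]
    [IsLocalRing A] [IsNoetherianRing A] [Field K'] [Algebra A K'] [Algebra (FractionRing A) K']
    [IsScalarTower A (FractionRing A) K'] [FiniteDimensional (FractionRing A) K'] :
    let Ah := AdicCompletion (IsLocalRing.maximalIdeal A) A
    let P : Subalgebra A K' → Prop := fun C : Subalgebra A K' => Module.Finite A C ∧ ∀ x : K', ∃ a b : C, (b : K') ≠ 0 ∧ x * b = a
    ∃ Cα : Subalgebra A K', P Cα ∧
      (∀ C : Subalgebra A K', P C → ∀ hle : Cα ≤ C,
        (∀ x : ↥Cα ⊗[A] Ah, IsNilpotent (Algebra.TensorProduct.map (Subalgebra.inclusion hle) (AlgHom.id A Ah) x) →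
          IsNilpotent x) ∧
        (∀ y : ↥C ⊗[A] Ah, ∃ x : ↥Cα ⊗[A] Ah,
          IsNilpotent (Algebra.TensorProduct.map (Subalgebra.inclusion hle) (AlgHom.id A Ah) x - y))) ∧
      (∀ hint : Cα ≤ integralClosure A K',
        UniversallyInjective (Spec.map (CommRingCat.ofHom (Subalgebra.inclusion hint).toRingHom))) := by
  intro Ah P
  haveI := Groth.Agent.CplLocH7.faithfullyFlat_cpl A
  haveI : IsNoetherianRing Ah := Groth.Agent.CplLocH7.isNoetherianRing_cpl A
  obtain ⟨Cα, hα, hst⟩ := Groth.Agent.JapaneseRed.exists_stable (A := A) (B := Ah) (K' := K')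
    (fun q _ _ => japanese_cpl A q)
  exact ⟨Cα, hα, hst, fun hint => Groth.Agent.JapaneseRed.universallyInjective (B := Ah) hα
    (fun C hC hle => (hst C hC hle).2) hint⟩

end Groth.Agent.S4615
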