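import Groth.Statements.S4616
import Groth.Agent.Lib.AdicSmooth.PrimeField
import Groth.Agent.Lib.AdicSmooth.KaehlerSubfield

set_option autoImplicit false
universe u
open TensorProduct KaehlerDifferential IsLocalRing
open EGA41

namespace Groth.Agent.S4616

theorem square {k A : Type u} [Field k] [CommRing A] [Algebra k A] (L : Subfield k) :
    (KaehlerDifferential.map ℤ L A A) ∘ₗ mapBaseChange ℤ k A =
      mapBaseChange L k A ∘ₗ (KaehlerDifferential.map ℤ L k k).baseChange A := by
  ext w
  simp [mapBaseChange_tmul, KaehlerDifferential.map_D]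

/-- Let k be a field of characteristic p > 0, A a local k-algebra with maximal ideal m and residue field
K, (k_α) a decreasing directed family of subfields of k with ⋂ k_α(k^p) = k^p. Then A is formally
smooth over k for the m-adic topology if and only if the maps Sym^n_K(m/m²) → m^n/m^(n+1) are
bijective (n ≥ 1) and, for all large α, Ω_{k/k_α} ⊗_k K → Ω_{A/k_α} ⊗_A K is injective. -/
theorem result {k A : Type u}
    [Field k] (p : ℕ) [Fact p.Prime] [CharP k p] [CommRing A] [IsLocalRing A] [Algebra k A]
    {ι : Type u} [Preorder ι] [IsDirected ι (fun a b => a ≤ b)] [Nonempty ι] (kα : ι → Subfield k)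
    (hanti : Antitone kα) (hint : ⨅ α, (kα α ⊔ (frobenius k p).fieldRange) = (frobenius k p).fieldRange) :
    CAlgX.IsAdicFormallySmooth k A (maximalIdeal A) ↔
      (PP16.SymGrBijective A (maximalIdeal A) ∧ ∃ α₀ : ι, ∀ α : ι, α₀ ≤ α →
        Function.Injective ((mapBaseChange (kα α) k A).lTensor (ResidueField A))) := by
  refine ⟨fun h => ⟨PrimeField.symGr_of_isAdicFormallySmooth h, Classical.arbitrary ι, fun α _ =>
    AdicSmooth.injective_lTensor_mapBaseChange (R := kα α) (maximalIdeal A) h⟩, ?_⟩
  rintro ⟨hS, α₀, hα₀⟩
  refine PrimeField.isAdicFormallySmooth_of_symGr hS ((injective_iff_map_eq_zero _).mpr fun x hx => ?_)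
  let cb := AlgebraTensorModule.cancelBaseChange k A A (ResidueField A) Ω[k⁄ℤ]
  refine cb.injective ?_
  rw [map_zero]
  refine KaehlerSubfield.tensor_eq_zero_of_stages p kα hanti hint _ α₀ fun α hα => ?_
  have h1 : (((KaehlerDifferential.map ℤ (kα α) k k).baseChange A).lTensor (ResidueField A)) x = 0 :=
    hα₀ α hα (by
      rw [map_zero, ← LinearMap.comp_apply, ← LinearMap.lTensor_comp, ← square (kα α), LinearMap.lTensor_comp,
        LinearMap.comp_apply, hx, map_zero])
  rw [show (KaehlerDifferential.map ℤ (kα α) k k).lTensor (ResidueField A) (cb x) =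
    AlgebraTensorModule.cancelBaseChange k A A (ResidueField A) Ω[k⁄kα α]
      ((((KaehlerDifferential.map ℤ (kα α) k k).baseChange A).lTensor (ResidueField A)) x) from ?_, h1, map_zero]
  clear h1 hx
  induction x using TensorProduct.induction_on with
  | zero => simp
  | add a b ha hb => simp only [map_add, ha, hb]
  | tmul m n =>
    induction n using TensorProduct.induction_on with
    | zero => simp
    | add a b ha hb => simp only [TensorProduct.tmul_add, map_add, ha, hb]
    | tmul a w => simp [cb, AlgebraTensorModule.cancelBaseChange_tmul]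

end Groth.Agent.S4616
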