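import Groth.Statements.S4617
import Groth.Agent.Lib.GeomIrr18.Roof

set_option autoImplicit false
open CategoryTheory AlgebraicGeometry
universe u
open FBase

namespace Groth.Agent.S4617

/-- Let X be a scheme over a field k, K any extension field of k and Ω an algebraically closed extension
field of k. Then the set of irreducible components of X ⊗_k K has cardinality at most that of the
set of irreducible components of X ⊗_k Ω. In particular the cardinality of the set of irreducible
components of X ⊗_k Ω does not depend on the algebraically closed extension Ω. -/
theorem result {k K Ω : Type u} [Field k] [Field K] [Algebra k K]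
    [Field Ω] [Algebra k Ω] [IsAlgClosed Ω] {X : Scheme.{u}} (f : X ⟶ Spec (CommRingCat.of k)) :
    Cardinal.mk ↥(irreducibleComponents ↥(FBase.bc f K)) ≤ Cardinal.mk ↥(irreducibleComponents ↥(FBase.bc f Ω)) := by
  exact GeomIrr.mk_irreducibleComponents_bc_le f K Ω

end Groth.Agent.S4617
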