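import Groth.Statements.S4622
import Groth.Agent.Lib.UnivHomeo.Morph


set_option autoImplicit false
open CategoryTheory AlgebraicGeometry
universe u
open FBase

namespace Groth.Agent.S4622

/-- Let k be a separably closed field, k' an algebraic closure of k and X a scheme over k. Then the
projection X ⊗_k k' → X is a universal homeomorphism. -/
theorem result {k k' : Type u} [Field k] [IsSepClosed k] [Field k'] [Algebra k k']
    [IsAlgClosure k k'] {X : Scheme.{u}} (f : X ⟶ Spec (CommRingCat.of k)) :
    FlatMor.IsUnivHomeo (FBase.bcπ f k') := by
  exact UH.isUnivHomeo_fst f _ (UH.isUnivHomeo_Spec_of_isPurelyInseparable k k')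

end Groth.Agent.S4622
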