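import Groth.Statements.S4629
import Groth.Agent.Lib.GeomRed18.Apps
import Groth.Agent.S4628

set_option autoImplicit false
open CategoryTheory AlgebraicGeometry
universe u
open FBase

namespace Groth.Agent.S4629

open CategoryTheory.Limits in
/-- If X and Y are schemes over a field k which are both geometrically reduced over k, then X ×_k Y is
geometrically reduced over k. -/
theorem result {k : Type u} [Field k] {X Y : Scheme.{u}}
    (f : X ⟶ Spec (CommRingCat.of k)) (g : Y ⟶ Spec (CommRingCat.of k)) [GeometricallyReduced f]
    [GeometricallyReduced g] : GeometricallyReduced (pullback.fst f g ≫ f) := by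
  refine ⟨geometrically_iff_of_commRing_of_isClosedUnderIsomorphisms.mpr fun K _ _ => ?_⟩
  let s := Spec.map (CommRingCat.ofHom (algebraMap k K))
  haveI : AlgebraicGeometry.IsReduced (Limits.pullback g s) :=
    GeometricallyReduced.geometrically_isReduced (f := g) _ _ _ (IsPullback.of_hasPullback _ _)
  haveI := S4628.result f (Limits.pullback.fst g s ≫ g)
  let e := Limits.pullback.congrHom (f₁ := pullback.fst f g ≫ f) (g₁ := s) pullback.condition rfl ≪≫
    (Limits.pullbackRightPullbackFstIso g s (pullback.snd f g)).symm ≪≫
      Limits.pullbackLeftPullbackSndIso f g (Limits.pullback.fst g s)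
  exact isReduced_of_isOpenImmersion e.hom

end Groth.Agent.S4629
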