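import Groth.Statements.S4633
import Groth.Agent.Lib.GoDown12.Basic
-- import your own Groth.Agent.* helpers here

set_option autoImplicit false
set_option backward.isDefEq.respectTransparency false
open CategoryTheory AlgebraicGeometry
universe u
open FDesc

namespace Groth.Agent.S4633

open CategoryTheory.Limits in
/-- Let f : X → Y be a morphism such that every irreducible component of X dominates an irreducible
component of Y (the closure of its image under f is an irreducible component of Y), and let g : Y' →
Y be quasi-flat (for instance flat). Then every irreducible component of X ×_Y Y' dominates an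
irreducible component of Y'. -/
theorem result {X Y Y' : Scheme.{u}} (f : X ⟶ Y) (g : Y' ⟶ Y)
    (hf : ∀ Z ∈ irreducibleComponents ↥X, closure (⇑f '' Z) ∈ irreducibleComponents ↥Y)
    (hg : FDesc.IsQuasiFlat g) (Z' : Set ↥(pullback f g)) (hZ' : Z' ∈ irreducibleComponents ↥(pullback f g)) :
    closure (⇑(pullback.snd f g) '' Z') ∈ irreducibleComponents ↥Y' := by
  obtain ⟨M, hM, hMfl, hMs⟩ := hg
  let M' := (Scheme.Modules.pullback (pullback.snd f g)).obj M
  haveI : Coh.IsQCoh M := hM.1
  have hM' : Coh.IsCoh M' := M1.isCoh_pullback _ hM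
  have hM'fl : FlatMod.IsFlatOver (pullback.fst f g) M' := fun z =>
    FlatH4.isFlatOverAt_baseChange (f := g) (f' := pullback.fst f g)
      (IsPullback.of_hasPullback f g).flip M z (hMfl _)
  have hM's : ∀ z, z ∈ CohB1.support M' := fun z => by
    rw [M2.support_pullback _ hM.1 hM.2, Set.mem_preimage]
    exact not_subsingleton_iff_nontrivial.mpr (hMs _)
  obtain ⟨x', hx'⟩ := QuasiSober.sober hZ'.1 (isClosed_of_mem_irreducibleComponents Z' hZ')
  rw [← hx'.def] at hZ' ⊢
  rw [closure_image_closure (pullback.snd f g).continuous, Set.image_singleton]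
  refine GoDown12.closure_mem_of_forall_specializes fun y'' hy'' => ?_
  have hxmax : ∀ w, w ⤳ pullback.fst f g x' → w = pullback.fst f g x' := fun w hw => by
    obtain ⟨z, hz, rfl, -⟩ := GoDown12.exists_generization _ M' hM' hM'fl (hM's x') hw
    rw [GoDown12.eq_of_specializes_of_closure_mem hZ' hz]
  have hcomp := hf _ (GoDown12.closure_mem_of_forall_specializes hxmax)
  rw [closure_image_closure f.continuous, Set.image_singleton] at hcomp
  set y := f (pullback.fst f g x') with hy
  have hgy' : g (pullback.snd f g x') = y := by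
    rw [hy, ← Scheme.Hom.comp_apply, ← Scheme.Hom.comp_apply, pullback.condition]
  have hgy'' : g y'' = y := GoDown12.eq_of_specializes_of_closure_mem hcomp
    (by have := hy''.map g.continuous; rwa [hgy'] at this)
  let P := pullback (f.fiberToSpecResidueField y) (g.fiberToSpecResidueField y)
  let m : P ⟶ pullback f g := pullback.map _ _ _ _ (f.fiberι y) (g.fiberι y) (Y.fromSpecResidueField y)
    (f.fiber_fac y).symm (g.fiber_fac y).symm
  let r := (pullback f g).fromSpecResidueField x'
  let ρ := Spec.map ((pullback.fst f g ≫ f).residueFieldMap x')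
  have hρ : ρ ≫ Y.fromSpecResidueField y = r ≫ pullback.fst f g ≫ f :=
    Scheme.Hom.SpecMap_residueFieldMap_fromSpecResidueField (pullback.fst f g ≫ f) x'
  let a : Spec ((pullback f g).residueField x') ⟶ P :=
    pullback.lift (pullback.lift (r ≫ pullback.fst f g) ρ (by simp [hρ]))
      (pullback.lift (r ≫ pullback.snd f g) ρ (by simp [hρ, pullback.condition]))
      (by simp [Scheme.Hom.fiberToSpecResidueField])
  have ham : a ≫ m = r := by
    apply pullback.hom_ext <;> simp [a, m, Scheme.Hom.fiberι]
  obtain ⟨π, hπ⟩ : ∃ π, m π = x' := by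
    refine ⟨a (IsLocalRing.closedPoint _), ?_⟩
    show (a ≫ m) _ = x'
    rw [ham]
    exact Scheme.fromSpecResidueField_apply x' _
  obtain ⟨w, hw⟩ := (g.range_fiberι y).ge hgy''
  have hsnd : ∀ s : P, pullback.snd f g (m s) = g.fiberι y ((pullback.snd (f.fiberToSpecResidueField y) (g.fiberToSpecResidueField y)) s) := fun s => by
    show (m ≫ pullback.snd f g) s = (pullback.snd (f.fiberToSpecResidueField y) (g.fiberToSpecResidueField y) ≫ g.fiberι y) s
    simp [m]; rfl
  have hwπ : w ⤳ (pullback.snd (f.fiberToSpecResidueField y) (g.fiberToSpecResidueField y)) π := by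
    refine (g.fiberι y).isEmbedding.isInducing.specializes_iff.mp ?_
    rw [← hsnd, hπ, hw]
    exact hy''
  haveI : Flat (f.fiberToSpecResidueField y) := inferInstance
  obtain ⟨σ, hσ, hσw⟩ := (Flat.generalizingMap (pullback.snd (f.fiberToSpecResidueField y)
    (g.fiberToSpecResidueField y))) hwπ
  have hzx : m σ ⤳ x' := hπ ▸ hσ.map m.continuous
  rw [← GoDown12.eq_of_specializes_of_closure_mem hZ' hzx, hsnd, hσw, hw]

end Groth.Agent.S4633
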