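import Groth.Statements.S4638
import Groth.Agent.Lib.AssPts11.Basic

set_option autoImplicit false
open CategoryTheory AlgebraicGeometry
universe u
open AssSch

namespace Groth.Agent.S4638

/-- Let X be a locally Noetherian scheme, F a quasi-coherent O_X-module and f a global section of O_X.
Then f is F-regular, i.e. multiplication by the germ of f is injective on every stalk of F, if and
only if every associated point of F lies in the open subset X_f where f does not vanish. -/
theorem result {X : Scheme.{u}} [IsLocallyNoetherian X] (F : X.Modules)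
    (hF : Coh.IsQCoh F) (f : Γ(X, ⊤)) :
    (∀ x : X, IsSMulRegular ↑(F.presheaf.stalk x) (X.presheaf.germ ⊤ x trivial f)) ↔
      AssSch.Ass F ⊆ (X.basicOpen f : Set ↥X) := by
  haveI := hF
  refine ⟨fun h y hy => ?_, fun h x => ?_⟩
  · by_contra hyf
    obtain ⟨m, hm⟩ := AssPts11.mem_ass_iff.1 hy
    have hmem : X.presheaf.germ ⊤ y trivial f ∈ (WA.annStalk m).radical := by
      rw [hm]
      exact (IsLocalRing.mem_maximalIdeal _).2 fun hu => hyf ((X.mem_basicOpen f y trivial).2 hu)
    obtain ⟨k, hk⟩ := hmem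
    rw [WA.mem_annStalk] at hk
    exact WA.ne_zero_of_radical_ann hm ((h y).pow k (hk.trans (smul_zero _).symm))
  · refine isSMulRegular_iff_right_eq_zero_of_smul.2 fun a ha => ?_
    obtain ⟨U, hU, hxU, -⟩ := exists_isAffineOpen_mem_and_subset (X := X) (x := x) (U := ⊤) trivial
    obtain ⟨r, m, hr, hrm⟩ := M1.exists_germ_smul_eq F hU hxU a
    by_contra hne
    have hgm : F.presheaf.germ U x hxU m ≠ 0 := fun h0 => hne (by
      obtain ⟨w, hw⟩ := hr
      rwa [h0, ← hw, ← Units.smul_def, smul_eq_zero_iff_eq] at hrm)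
    obtain ⟨y, hyU, hyx, hwa, hy0⟩ := WA.exists_weakAss hU hxU m hgm
    have h0 : F.presheaf.germ U x hxU (M1.ores (le_top : U ≤ ⊤) f • m) = 0 := by
      rw [M1.germ_smul, TopCat.Presheaf.germ_res_apply, ← hrm, smul_comm, ha, smul_zero]
    have h1 := WA.germ_zero_of_specializes hxU hyU hyx _ h0
    rw [M1.germ_smul, TopCat.Presheaf.germ_res_apply] at h1
    obtain ⟨w, hw⟩ := (X.mem_basicOpen f y trivial).1 (h (AssPts11.mem_ass_iff.2 hwa))
    rw [← hw, ← Units.smul_def, smul_eq_zero_iff_eq] at h1
    exact hy0 h1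

end Groth.Agent.S4638
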