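import Groth.Statements.S4640
import Mathlib.RingTheory.Flat.TorsionFree
import Mathlib.RingTheory.Localization.BaseChange
-- import your own Groth.Agent.* helpers here

set_option autoImplicit false
set_option backward.isDefEq.respectTransparency.types false
universe u
open FDesc

namespace Groth.Agent.S4640

open TensorProduct in
/-- Let A be a Dedekind domain with fraction field K, M an A-module and P' a K-submodule of K ⊗_A M. Let
φ : M → (K ⊗_A M)/P' be m ↦ class of 1 ⊗ m. Then a submodule Q of M equals ker φ if and only if M/Q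
is a flat A-module and the kernel of the induced surjection K ⊗_A M → K ⊗_A (M/Q) is P'. Thus M/ker
φ is the unique flat quotient of M with generic fibre (K ⊗_A M)/P'. (The published statement takes A
Noetherian, regular and of dimension 1; a field is allowed here, where the statement is immediate.) -/
theorem result {A K : Type u} [CommRing A] [IsDedekindDomain A] [Field K]
    [Algebra A K] [IsFractionRing A K] {M : Type u} [AddCommGroup M] [Module A M]
    (P' : Submodule K (K ⊗[A] M)) (Q : Submodule A M) :
    Q = LinearMap.ker ((P'.restrictScalars A).mkQ ∘ₗ TensorProduct.mk A K M 1) ↔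
      (Module.Flat A (M ⧸ Q) ∧ LinearMap.ker (Q.mkQ.baseChange K) = P') := by
  let j : M →ₗ[A] K ⊗[A] M := TensorProduct.mk A K M 1
  haveI : IsLocalizedModule (nonZeroDivisors A) j := inferInstance
  haveI : IsLocalizedModule (nonZeroDivisors A) (TensorProduct.mk A K (M ⧸ Q) 1) := inferInstance
  have hmem : ∀ m, m ∈ LinearMap.ker ((P'.restrictScalars A).mkQ ∘ₗ j) ↔ j m ∈ P' := fun m => by
    rw [LinearMap.mem_ker, LinearMap.comp_apply, Submodule.mkQ_apply, Submodule.Quotient.mk_eq_zero,
      Submodule.restrictScalars_mem]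
  have hj : ∀ m, Q.mkQ.baseChange K (j m) = TensorProduct.mk A K (M ⧸ Q) 1 (Q.mkQ m) := fun m => rfl
  have hscal : ∀ (s : nonZeroDivisors A) (z : K ⊗[A] M) (m : M), s.1 • z = j m → (z ∈ P' ↔ j m ∈ P') := by
    intro s z m h
    rw [← h, ← algebraMap_smul K s.1 z, P'.smul_mem_iff (IsFractionRing.to_map_ne_zero_of_mem_nonZeroDivisors s.2)]
  constructor
  · intro hQ
    have hQmem : ∀ m, m ∈ Q ↔ j m ∈ P' := fun m => by rw [hQ]; exact hmem m
    constructor
    · rw [IsDedekindDomain.flat_iff_torsion_eq_bot, eq_bot_iff]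
      intro x hx
      obtain ⟨s, hs⟩ := (Submodule.mem_torsion_iff _).1 hx
      obtain ⟨m, rfl⟩ := Q.mkQ_surjective x
      rw [Submodule.mem_bot, Submodule.mkQ_apply, Submodule.Quotient.mk_eq_zero, hQmem]
      rw [Submonoid.smul_def, Submodule.mkQ_apply, ← Submodule.Quotient.mk_smul,
        Submodule.Quotient.mk_eq_zero, hQmem, map_smul] at hs
      exact (hscal s (j m) (s.1 • m) (by rw [map_smul])).2 (by rwa [map_smul])
    · ext z
      obtain ⟨⟨m, s⟩, hz⟩ := IsLocalizedModule.surj (nonZeroDivisors A) j z
      rw [hscal s z m hz, ← hQmem, LinearMap.mem_ker]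
      constructor
      · intro h0
        have h1 : TensorProduct.mk A K (M ⧸ Q) 1 (Q.mkQ m) = 0 := by
          rw [← hj, ← hz, Submonoid.smul_def, LinearMap.map_smul_of_tower, h0, smul_zero]
        obtain ⟨t, ht⟩ := (IsLocalizedModule.eq_zero_iff (nonZeroDivisors A) _).1 h1
        rw [Submonoid.smul_def, Submodule.mkQ_apply, ← Submodule.Quotient.mk_smul,
          Submodule.Quotient.mk_eq_zero, hQmem, map_smul] at ht
        rw [hQmem]
        exact (hscal t (j m) (t.1 • m) (by rw [map_smul])).2 (by rwa [map_smul])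
      · intro hm
        have h1 : s.1 • Q.mkQ.baseChange K z = 0 := by
          rw [← LinearMap.map_smul_of_tower, ← Submonoid.smul_def, hz, hj, Submodule.mkQ_apply,
            (Submodule.Quotient.mk_eq_zero Q).2 hm, map_zero]
        rw [← algebraMap_smul K s.1] at h1
        exact (smul_eq_zero.1 h1).resolve_left (IsFractionRing.to_map_ne_zero_of_mem_nonZeroDivisors s.2)
  · rintro ⟨hflat, hP⟩
    ext m
    rw [hmem, ← hP, LinearMap.mem_ker, hj]
    constructor
    · intro hm
      rw [Submodule.mkQ_apply, (Submodule.Quotient.mk_eq_zero Q).2 hm, map_zero]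
    · intro hm
      obtain ⟨t, ht⟩ := (IsLocalizedModule.eq_zero_iff (nonZeroDivisors A) _).1 hm
      rw [IsDedekindDomain.flat_iff_torsion_eq_bot, eq_bot_iff] at hflat
      exact (Submodule.Quotient.mk_eq_zero Q).1
        ((Submodule.mem_bot A).1 (hflat ((Submodule.mem_torsion_iff _).2 ⟨t, ht⟩)))

end Groth.Agent.S4640
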