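import Groth.Statements.S4641
import Groth.Agent.Lib.AssPts11.Basic

set_option autoImplicit false
open CategoryTheory AlgebraicGeometry
universe u
open AssSch

namespace Groth.Agent.S4641

/-- Let f : X → Y be a morphism of locally Noetherian schemes such that Y has no embedded associated
points, and let F be a quasi-coherent O_X-module which is flat over Y. Then for every associated
point x of F, f(x) is a maximal point of Y (every point of Y specialising to f(x) equals f(x)). (The
published statement assumes only Y locally Noetherian; X is taken locally Noetherian here so that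
associated points are those whose maximal ideal is an annihilator.) -/
theorem result {X Y : Scheme.{u}} (f : X ⟶ Y) [IsLocallyNoetherian X]
    [IsLocallyNoetherian Y] (hY : AssSch.NoEmbedded (Coh.structureModule Y)) (F : X.Modules) (hF : Coh.IsQCoh F)
    (hfl : FlatMod.IsFlatOver f F) (x : X) (hx : x ∈ AssSch.Ass F) (y : Y) (hy : y ⤳ f x) : y = f x := by
  haveI := hF
  haveI : Coh.IsQCoh (Coh.structureModule Y) := M1.isQCoh_structureModule Y
  have hfx : f x ∈ AssSch.Ass (Coh.structureModule Y) := by
    by_contra hn
    obtain ⟨a, hau, ha⟩ := AssPts11.exists_nonZeroDivisor_of_not_ass hn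
    letI := FlatMod.moduleStalkOver f F x
    haveI : Module.Flat (Y.presheaf.stalk (f x)) (F.presheaf.stalk x) := hfl x
    have hreg : IsSMulRegular (F.presheaf.stalk x) a :=
      Module.Flat.isSMulRegular_of_isRegular (isRegular_iff_mem_nonZeroDivisors.2 ha)
    obtain ⟨m, hm⟩ := AssPts11.mem_ass_iff.1 hx
    have hmem : f.stalkMap x a ∈ (WA.annStalk m).radical := by
      rw [hm]
      exact (IsLocalRing.mem_maximalIdeal _).2 fun hu => hau (IsUnit.of_map (f.stalkMap x).hom a hu)
    obtain ⟨k, hk⟩ := hmem
    rw [WA.mem_annStalk, ← map_pow] at hk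
    exact WA.ne_zero_of_radical_ann hm (hreg.pow k ((show (a ^ k) • m = 0 from hk).trans (smul_zero _).symm))
  have hy1 : Nontrivial ((Coh.structureModule Y).presheaf.stalk y) := by
    obtain ⟨V, -, hyV, -⟩ := exists_isAffineOpen_mem_and_subset (X := Y) (x := y) (U := ⊤) trivial
    refine nontrivial_of_ne ((Coh.structureModule Y).presheaf.germ V y hyV (show Γ(Coh.structureModule Y, V) from (1 : Γ(Y, V)))) 0 ?_
    rw [Ne, WA.germ_O_eq_zero_iff, map_one]
    exact one_ne_zero
  obtain ⟨z, hz, hzy⟩ := AssPts11.exists_ass_specializes hy1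
  obtain e := hY _ hfx z hz (hzy.trans hy)
  exact (hy.antisymm (e ▸ hzy)).eq

end Groth.Agent.S4641
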