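import Groth.Statements.S4644
import Groth.Agent.Lib.DimF18.Prod

set_option autoImplicit false
open CategoryTheory AlgebraicGeometry
universe u
open FBase

namespace Groth.Agent.S4644

/-- Let Y be a nonempty scheme locally of finite type over a field k whose irreducible components all
have the same dimension, and let Z be a locally closed subset of Y (the underlying set of a
subscheme). Then Z is nowhere dense in Y if and only if dim Z < dim Y. (For Y empty the left side
holds and the right side fails, so Y is taken nonempty; dimensions are Krull dimensions of the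
underlying spaces.) -/
theorem result {k : Type u} [Field k] {Y : Scheme.{u}} [Nonempty ↥Y]
    (g : Y ⟶ Spec (CommRingCat.of k)) [LocallyOfFiniteType g]
    (heq : ∀ T ∈ irreducibleComponents ↥Y, topologicalKrullDim ↥T = topologicalKrullDim ↥Y)
    (Z : Set ↥Y) (hZ : IsLocallyClosed Z) :
    IsNowhereDense Z ↔ topologicalKrullDim ↥Z < topologicalKrullDim ↥Y := by
  haveI : IsLocallyNoetherian Y := LocallyOfFiniteType.isLocallyNoetherian g
  set U : Set Y := coborder Z
  obtain ⟨η₀, -, hη₀⟩ := VarDim.exists_maximal_specializes g (Classical.arbitrary Y)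
  have hd : ∀ η : Y, (∀ y, y ⤳ η → y = η) → topologicalKrullDim Y = (VarDim.sdim g η : WithBot ℕ∞) := fun η hη => by
    rw [← heq _ ((VarDim.maximal_iff_mem_irreducibleComponents η).1 hη), VarDim.dim_closure_singleton g]
  -- a maximal point with an open neighbourhood inside its component
  have hnhd : ∀ η : Y, (∀ y, y ⤳ η → y = η) → ∃ V : Set Y, IsOpen V ∧ η ∈ V ∧ V ⊆ closure {η} := by
    intro η hη
    obtain ⟨A, hA, hηA, -⟩ := exists_isAffineOpen_mem_and_subset (U := (⊤ : Y.Opens)) (x := η) trivial
    haveI : CompactSpace (A : Scheme.{u}) := isCompact_iff_compactSpace.1 hA.isCompact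
    haveI := VarDim.noetherianSpace_of_finiteType (A.ι ≫ g)
    let bad : Set (Set (A : Scheme.{u})) := {Z | Z ∈ irreducibleComponents (A : Scheme.{u}) ∧ (⟨η, hηA⟩ : A) ∉ Z}
    have hcl : IsClosed (⋃₀ bad) := by
      rw [Set.sUnion_eq_biUnion]
      exact (TopologicalSpace.NoetherianSpace.finite_irreducibleComponents.subset fun Z hZ => hZ.1).isClosed_biUnion
        fun Z hZ => isClosed_of_mem_irreducibleComponents Z hZ.1
    refine ⟨A.ι '' (⋃₀ bad)ᶜ, A.ι.isOpenEmbedding.isOpenMap _ hcl.isOpen_compl,
      ⟨⟨η, hηA⟩, fun ⟨Z, hZ, h⟩ => hZ.2 h, rfl⟩, ?_⟩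
    rintro y ⟨y', hy', rfl⟩
    obtain ⟨z, hzy, hzmax⟩ := VarDim.exists_maximal_specializes (A.ι ≫ g) y'
    refine specializes_iff_mem_closure.1 ?_
    have hz : z ⤳ (⟨η, hηA⟩ : A) := by
      by_contra hc
      exact hy' ⟨closure {z}, ⟨(VarDim.maximal_iff_mem_irreducibleComponents (X := (A : Scheme.{u})) z).1 hzmax,
        fun h => hc (specializes_iff_mem_closure.2 h)⟩, specializes_iff_mem_closure.1 hzy⟩
    have := hη _ (hz.map A.ι.continuous)
    exact this ▸ hzy.map A.ι.continuous
  have hdim : ∀ η : Y, (∀ y, y ⤳ η → y = η) → η ∈ closure Z → topologicalKrullDim Y ≤ topologicalKrullDim Z := by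
    intro η hη hmem
    obtain ⟨O, C, hO, hC, hZ'⟩ := hZ
    obtain ⟨V, hV, hηV, hVη⟩ := hnhd η hη
    obtain ⟨z, hzV, hzZ⟩ := mem_closure_iff.1 hmem V hV hηV
    have hηO : η ∈ O := (specializes_iff_mem_closure.2 (hVη hzV)).mem_open hO (hZ' ▸ hzZ : z ∈ O ∩ C).1
    have hηC : η ∈ C := closure_minimal (hZ' ▸ Set.inter_subset_right : Z ⊆ C) hC hmem
    let O' : Y.Opens := ⟨O, hO⟩
    let i := O'.ι
    let η' : (O' : Scheme.{u}) := ⟨η, hηO⟩
    have hsub : ∀ w ∈ closure ({η'} : Set (O' : Scheme.{u})), i w ∈ Z := fun w hw =>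
      hZ' ▸ ⟨w.2, ((specializes_iff_mem_closure.2 hw).map i.continuous).mem_closed hC hηC⟩
    have hind : Topology.IsInducing (fun w : closure ({η'} : Set (O' : Scheme.{u})) => (⟨i w.1, hsub _ w.2⟩ : Z)) :=
      Topology.IsInducing.of_comp (continuous_induced_rng.2 (i.continuous.comp continuous_subtype_val))
        continuous_subtype_val (i.isOpenEmbedding.isInducing.comp Topology.IsInducing.subtypeVal)
    have h1 := hind.topologicalKrullDim_le
    rw [VarDim.dim_closure_singleton (i ≫ g), VarDim.sdim_comp_of_surjective g i] at h1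
    rw [hd η hη]
    exact h1
  constructor
  · intro hnd
    have hle : topologicalKrullDim Z ≤ topologicalKrullDim (closure Z) :=
      (Topology.IsInducing.subtypeVal.codRestrict (s := closure Z) (fun z : Z => subset_closure z.2)).topologicalKrullDim_le
    refine lt_of_le_of_lt hle ?_
    rw [VarDim.topologicalKrullDim_isClosed_eq_iSup_height isClosed_closure, hd η₀ hη₀]
    rcases Z.eq_empty_or_nonempty with hZe | hZne
    · haveI : IsEmpty (closure Z : Set Y) := by simp [hZe]
      rw [iSup_of_empty]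
      exact WithBot.bot_lt_coe (α := ℕ∞) _
    have hlt : ∀ z : (closure Z : Set Y), VarDim.sdim g (z : Y) + 1 ≤ VarDim.sdim g η₀ := by
      intro z
      obtain ⟨η, hηz, hη⟩ := VarDim.exists_maximal_specializes g (z : Y)
      have heqη : VarDim.sdim g η = VarDim.sdim g η₀ := by
        have := (hd η hη).symm.trans (hd η₀ hη₀)
        exact_mod_cast this
      rw [← heqη]
      refine VarDim.sdim_lt_of_specializes g hηz fun e => ?_
      obtain ⟨V, hV, hηV, hVη⟩ := hnhd η hη
      have : V ⊆ closure Z := hVη.trans (closure_minimal (Set.singleton_subset_iff.2 (e ▸ z.2)) isClosed_closure)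
      have := interior_maximal this hV hηV
      rw [hnd] at this
      exact this
    haveI : Nonempty (closure Z : Set Y) := hZne.closure.to_subtype
    obtain ⟨z₀⟩ := (inferInstance : Nonempty (closure Z : Set Y))
    obtain ⟨d, hd'⟩ : ∃ d, VarDim.sdim g η₀ = d + 1 := ⟨VarDim.sdim g η₀ - 1, by have := hlt z₀; omega⟩
    refine lt_of_le_of_lt (iSup_le fun z => (?_ : _ ≤ ((d : ℕ) : WithBot ℕ∞))) (by rw [hd']; exact_mod_cast Nat.lt_succ_self d)
    rw [VarDim.height_eq_sdim g]
    have := hlt z
    exact_mod_cast (show VarDim.sdim g (z : Y) ≤ d by omega)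
  · intro hlt
    show interior (closure Z) = ∅
    by_contra hne
    obtain ⟨y, hy⟩ := Set.nonempty_iff_ne_empty.2 hne
    obtain ⟨η, hηy, hη⟩ := VarDim.exists_maximal_specializes g y
    exact absurd (hdim η hη (interior_subset (hηy.mem_open isOpen_interior hy))) (not_le.2 hlt)

end Groth.Agent.S4644
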