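import Groth.Statements.S4646
import Groth.Agent.Lib.GeomIrr18.Level

set_option autoImplicit false
open CategoryTheory AlgebraicGeometry
universe u
open FBase

namespace Groth.Agent.S4646

/-- Let X be a scheme over a field k having finitely many irreducible components, such that for the
generic point x of each irreducible component the separable algebraic closure of k in κ(x) has
finite degree over k. Then there is a finite separable extension L of k such that all irreducible
components of X ⊗_k L are geometrically irreducible over L: for every extension field K of L and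
every irreducible component Z' of X ⊗_k L, the inverse image of Z' in (X ⊗_k L) ⊗_L K is
irreducible. (No finite-type hypothesis on X.) -/
theorem result {k : Type u} [Field k] {X : Scheme.{u}}
    (f : X ⟶ Spec (CommRingCat.of k)) [Finite ↥(irreducibleComponents ↥X)]
    (hx : ∀ (Z : Set ↥X) (hZ : Z ∈ irreducibleComponents ↥X),
      FBase.ResidueFieldProp f hZ.1.genericPoint (fun K _ _ => FiniteDimensional k (separableClosure k K))) :
    ∃ (L : Type u) (_ : Field L) (_ : Algebra k L), FiniteDimensional k L ∧ Algebra.IsSeparable k L ∧
      ∀ (K : Type u) [Field K] [Algebra L K] (Z' : Set ↥(FBase.bc f L)), Z' ∈ irreducibleComponents ↥(FBase.bc f L) →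
        IsIrreducible (⇑(FBase.bcπ (FBase.bcStr f L) K) ⁻¹' Z') := by
  letI : X.Over (Spec (CommRingCat.of k)) := ⟨f⟩
  let π := Curv2.bcFst k X (SeparableClosure k)
  have hfin : {z : ↥(Curv2.bc k X (SeparableClosure k)) | GeomIrr.IsMaximalPt z}.Finite := by
    choose g hg hgT using fun Z : irreducibleComponents ↥X => GeomIrr.exists_generic_component Z.2
    refine (Set.finite_iUnion (f := fun Z : irreducibleComponents ↥X => π ⁻¹' {g Z}) fun Z => ?_).subset fun z hz => ?_
    · obtain ⟨φ, hφ, hfd⟩ := hx Z.1 Z.2
      have hgz : Z.2.1.genericPoint = g Z := (inseparable_iff_closure_eq.mpr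
        ((Z.2.1.closure_genericPoint (isClosed_of_mem_irreducibleComponents _ Z.2)).trans (hgT Z).symm)).eq
      letI := φ.toAlgebra
      haveI : FiniteDimensional k (separableClosure k (X.residueField Z.2.1.genericPoint)) := hfd
      rw [← hgz]
      exact (GeomIrr.card_fibre f _ hφ).1
    · have hm := GeomIrr.isMaximalPt_bcFst k X (SeparableClosure k) hz
      refine Set.mem_iUnion.mpr ⟨⟨_, GeomIrr.closure_mem_of_isMaximalPt hm⟩, ?_⟩
      exact ((inseparable_iff_closure_eq.mpr (hgT ⟨_, GeomIrr.closure_mem_of_isMaximalPt hm⟩)).eq).symm
  obtain ⟨F, hF, hirr⟩ := GeomIrr.exists_level_irreducible k X hfin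
  haveI := hF
  exact ⟨F, inferInstance, inferInstance, inferInstance, Algebra.isSeparable_tower_bot_of_isSeparable k F (SeparableClosure k),
    fun K _ _ Z' hZ' => hirr K Z' hZ'⟩

end Groth.Agent.S4646
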