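import Groth.Statements.S4647
import Groth.Agent.Lib.LocInteg12.Basic
-- import your own Groth.Agent.* helpers here

set_option autoImplicit false
set_option backward.isDefEq.respectTransparency false
open CategoryTheory AlgebraicGeometry
universe u
open FDesc

namespace Groth.Agent.S4647

/-- Let f : X → Y be a faithfully flat (flat and surjective) morphism. If all local rings of X are
domains (in particular if X is locally integral) and the underlying space of Y is locally
Noetherian, then Y is locally integral: every point of Y has an open neighbourhood which is an
integral scheme. -/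
theorem result {X Y : Scheme.{u}} (f : X ⟶ Y) [Flat f] [Surjective f]
    (hX : ∀ x : X, IsDomain ↑(X.presheaf.stalk x))
    (hY : ∀ y : Y, ∃ U : Y.Opens, y ∈ U ∧ TopologicalSpace.NoetherianSpace ↥U) (y : Y) :
    ∃ U : Y.Opens, y ∈ U ∧ IsIntegral (U : Scheme.{u}) := Groth.Agent.LocInteg12.exists_isIntegral_nhd hY (Groth.Agent.LocInteg12.isDomain_stalk_of_flat f hX) y

end Groth.Agent.S4647
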