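import Groth.Statements.S4648
import Groth.Agent.Lib.ProConsDesc12.Basic
-- import your own Groth.Agent.* helpers here

set_option autoImplicit false
set_option backward.isDefEq.respectTransparency.types false
open CategoryTheory AlgebraicGeometry
universe u
open FDesc

namespace Groth.Agent.S4648

/-- Let f : X → Y be a quasi-flat, surjective and quasi-compact morphism and Z a subset of Y. Then Z is
a locally closed pro-constructible subset of Y if and only if f⁻¹(Z) is a locally closed
pro-constructible subset of X. -/
theorem result {X Y : Scheme.{u}} (f : X ⟶ Y)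
    (hf : FDesc.IsQuasiFlat f) [Surjective f] [QuasiCompact f] (Z : Set ↥Y) :
    (IsLocallyClosed Z ∧ ProCons.IsProConstructible Z) ↔
      (IsLocallyClosed (⇑f ⁻¹' Z) ∧ ProCons.IsProConstructible (⇑f ⁻¹' Z)) := by
  have hgen := Groth.Agent.QF.generalizingMap f hf
  constructor
  · rintro ⟨h1, h2⟩
    exact ⟨h1.preimage f.continuous, Groth.Agent.ConsH13.isProConstructible_preimage f h2⟩
  · rintro ⟨h1, h2⟩
    have hp : ProCons.IsProConstructible Z := by
      rw [← Set.image_preimage_eq Z f.surjective]
      exact Groth.Agent.ConsTop3.isProConstructible_image f h2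
    refine ⟨?_, hp⟩
    rw [isLocallyClosed_iff_isOpen_coborder] at h1 ⊢
    rw [coborder, isOpen_compl_iff] at h1 ⊢
    refine Groth.Agent.ProConsDesc12.isClosed_of_preimage f hgen ?_
    rwa [Set.preimage_sdiff, Groth.Agent.ProConsDesc12.preimage_closure_eq f hgen hp]

end Groth.Agent.S4648
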