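import Groth.Statements.S4650
import Mathlib.AlgebraicGeometry.Properties


set_option autoImplicit false
open CategoryTheory AlgebraicGeometry
universe u
open FDesc

namespace Groth.Agent.S4650

/-- Let f : X → Y be a morphism of schemes along which generizations lift (this holds for flat,
quasi-flat or open morphisms). Then every irreducible component of X dominates an irreducible
component of Y: the closure of its image is an irreducible component of Y. -/
theorem result {X Y : Scheme.{u}} (f : X ⟶ Y)
    (hf : GeneralizingMap ⇑f) (T : Set ↥X) (hT : T ∈ irreducibleComponents ↥X) :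
    closure (⇑f '' T) ∈ irreducibleComponents ↥Y := by
  obtain ⟨ξ, hξ⟩ := QuasiSober.sober hT.1 (isClosed_of_mem_irreducibleComponents T hT)
  have himg : closure (⇑f '' T) = closure {f ξ} := (hξ.image f.continuous).symm
  rw [himg]
  refine ⟨isIrreducible_singleton.closure, fun Z hZ hle => ?_⟩
  obtain ⟨η, hη⟩ := QuasiSober.sober hZ.closure isClosed_closure
  have hsp : η ⤳ f ξ := hη.specializes (subset_closure (hle (subset_closure rfl)))
  obtain ⟨x', hx', hfx'⟩ := hf hsp
  have h1 : T ⊆ closure {x'} := by
    rw [← hξ.def]
    exact closure_minimal (Set.singleton_subset_iff.mpr hx'.mem_closure) isClosed_closure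
  have h2 : IsGenericPoint x' T :=
    Set.Subset.antisymm (hT.2 isIrreducible_singleton.closure h1) h1
  have h3 : η = f ξ := by rw [← hfx', h2.eq hξ]
  intro z hz
  rw [← h3, hη.def]
  exact subset_closure hz

end Groth.Agent.S4650
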