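import Groth.Statements.S4652
import Groth.Agent.Lib.ModM1.LocFree
import Groth.Agent.Lib.TensorMod.Invertible

set_option autoImplicit false
open CategoryTheory AlgebraicGeometry
universe u
open FDesc

namespace Groth.Agent.S4652

/-- Let X be a scheme, F a finitely presented O_X-module and x a point of X. Then F_x is a flat module
over the local ring O_{X,x} if and only if x has an open neighbourhood U such that the restriction
of F to U is finite locally free. -/
theorem result {X : Scheme.{u}} (F : X.Modules) (hF : CohB1.IsFP F) (x : X) :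
    FlatMod.IsFlatAt F x ↔ ∃ U : X.Opens, x ∈ U ∧ FlatMod.IsFinLocFree ((Scheme.Modules.pullback U.ι).obj F) := by
  constructor
  · intro h
    haveI := Groth.Agent.M1.free_stalk_of_flat hF x h
    obtain ⟨U, n, hx, ⟨e⟩⟩ := Groth.Agent.M1.exists_freeMod_of_free_stalk hF x
    exact ⟨U, hx, Groth.Agent.M2.isFinLocFree_of_iso
      (((Scheme.Modules.restrictFunctorIsoPullback U.ι).app F).symm ≪≫ e).symm
      (Groth.Agent.M2.isFinLocFree_of_ofRank (Groth.Agent.M2.isFinLocFreeOfRank_freeMod _ n))⟩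
  · rintro ⟨U, hx, h⟩
    obtain ⟨W, n, hW, ⟨e⟩⟩ := h ⟨x, hx⟩
    obtain ⟨V, m, hV, ⟨e'⟩⟩ := Groth.Agent.M1.exists_freeMod_of_openImmersion (W.ι ≫ U.ι)
      ((Groth.Agent.M1.restrictRestrictIso F U.ι W.ι (W.ι ≫ U.ι) rfl).symm ≪≫
        (Scheme.Modules.restrictFunctor W.ι).mapIso ((Scheme.Modules.restrictFunctorIsoPullback U.ι).app F) ≪≫
        e ≪≫ Groth.Agent.M1.freeModFrIso _ _) ⟨⟨x, hx⟩, hW⟩
    have := Groth.Agent.M1.free_stalk_of_freeMod (x := x) (Groth.Agent.M1.isFP_isQCoh hF) e' hV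
    exact Module.Flat.of_free

end Groth.Agent.S4652
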