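import Groth.Statements.S4653
import Groth.Agent.Lib.Cyc26.StalkLoc
import Groth.Agent.Lib.TensorMod.PullSupport
import Groth.Agent.Lib.ModM1.Pull

set_option autoImplicit false
open CategoryTheory AlgebraicGeometry
universe u
open FDesc

namespace Groth.Agent.S4653

open TensorProduct IsLocalRing

/-- Going down in the support of a module flat over a local base. -/
private theorem exists_prime_over {R S N : Type u} [CommRing R] [CommRing S] [IsLocalRing R] [IsLocalRing S]
    [Algebra R S] [IsLocalHom (algebraMap R S)] [AddCommGroup N] [Module R N] [Module S N]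
    [IsScalarTower R S N] [Module.Finite S N] [Module.Flat R N] [Nontrivial N]
    (p : Ideal R) [p.IsPrime] :
    ∃ Q : PrimeSpectrum S, Q ∈ Module.support S N ∧ Q.asIdeal.comap (algebraMap R S) = p := by
  have hne : maximalIdeal R • (⊤ : Submodule R N) ≠ ⊤ := by
    intro h
    have hle : (⊤ : Submodule S N) ≤ maximalIdeal S • ⊤ := by
      intro n _
      have hn : n ∈ maximalIdeal R • (⊤ : Submodule R N) := by rw [h]; exact Submodule.mem_top
      refine Submodule.smul_induction_on hn (fun r hr m _ => ?_) (fun _ _ => add_mem)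
      rw [← algebraMap_smul S r m]
      exact Submodule.smul_mem_smul ((show Ideal.map (algebraMap R S) (maximalIdeal R) ≤ maximalIdeal S from
        ((local_hom_TFAE (algebraMap R S)).out 0 2).mp ‹IsLocalHom (algebraMap R S)›)
        (Ideal.mem_map_of_mem _ hr)) Submodule.mem_top
    have := Submodule.eq_bot_of_le_smul_of_le_jacobson_bot (maximalIdeal S) ⊤ Module.Finite.fg_top hle
      (maximalIdeal_le_jacobson _)
    exact top_ne_bot this
  have : Module.FaithfullyFlat R N := ⟨fun m hm => by
    rw [eq_maximalIdeal hm]; exact hne⟩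
  obtain ⟨z, hz⟩ := exists_ne (0 : N ⊗[R] p.ResidueField)
  let I : Ideal S := LinearMap.ker (LinearMap.toSpanSingleton S (N ⊗[R] p.ResidueField) z)
  have hI : ∀ s, s ∈ I ↔ s • z = 0 := fun _ => Iff.rfl
  have hscal' : ∀ (r : R) (y : N ⊗[R] p.ResidueField), algebraMap R S r • y = (LinearMap.lTensor N
      (LinearMap.lsmul R p.ResidueField r)) y := by
    intro r y
    rw [algebraMap_smul]
    induction y with
    | zero => simp
    | tmul n c => simp [TensorProduct.tmul_smul]
    | add a b ha hb => simp [ha, hb]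
  have hscal := fun r => hscal' r z
  let M := Submonoid.map (algebraMap R S) p.primeCompl
  have hdisj : Disjoint (I : Set S) (M : Set S) := by
    rw [Set.disjoint_left]
    rintro _ hr ⟨r, hrp, rfl⟩
    have h0 := (hI _).mp hr
    rw [algebraMap_smul] at h0
    have hne0 : algebraMap R p.ResidueField r ≠ 0 := by
      rw [Ne, Ideal.algebraMap_residueField_eq_zero]; exact hrp
    refine hz ?_
    let u : p.ResidueField →ₗ[R] p.ResidueField :=
      LinearMap.mulLeft R (algebraMap R p.ResidueField r)⁻¹
    have hu : u.comp (LinearMap.lsmul R p.ResidueField r) = LinearMap.id := by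
      ext c
      simp [u, Algebra.smul_def]
      exact inv_mul_cancel_left₀ hne0 c
    have h1 := congrArg (LinearMap.lTensor N u) (hscal r)
    rw [algebraMap_smul, h0, map_zero, ← LinearMap.comp_apply, ← LinearMap.lTensor_comp, hu,
      LinearMap.lTensor_id, LinearMap.id_apply] at h1
    exact h1.symm
  obtain ⟨Q, hQ, hIQ, hQM⟩ := Ideal.exists_le_prime_disjoint I M hdisj
  refine ⟨⟨Q, hQ⟩, ?_, ?_⟩
  · by_contra hsupp
    rw [Module.notMem_support_iff'] at hsupp
    have hall : ∀ y : N ⊗[R] p.ResidueField, ∃ s ∉ Q, s • y = 0 := by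
      intro y
      induction y with
      | zero => exact ⟨1, fun h => hQ.ne_top ((Q.eq_top_iff_one).mpr h), smul_zero _⟩
      | tmul n c =>
        obtain ⟨s, hs, hsn⟩ := hsupp n
        exact ⟨s, hs, by rw [TensorProduct.smul_tmul', hsn, TensorProduct.zero_tmul]⟩
      | add a b ha hb =>
        obtain ⟨s, hs, hsa⟩ := ha
        obtain ⟨t, ht, htb⟩ := hb
        refine ⟨s * t, hQ.mul_notMem hs ht, ?_⟩
        rw [smul_add, mul_comm s t, mul_smul, hsa, smul_zero, zero_add, mul_comm t s, mul_smul,
          htb, smul_zero]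
    obtain ⟨s, hs, hsz⟩ := hall z
    exact hs (hIQ ((hI s).mpr hsz))
  · ext r
    refine ⟨fun hr => ?_, fun hr => hIQ ((hI _).mpr ?_)⟩
    · by_contra hrp
      exact Set.disjoint_left.mp hQM hr ⟨r, hrp, rfl⟩
    · rw [hscal r]
      have : LinearMap.lsmul R p.ResidueField r = 0 := by
        ext c
        simp [Algebra.smul_def, (Ideal.algebraMap_residueField_eq_zero).mpr hr]
      rw [this, LinearMap.lTensor_zero, LinearMap.zero_apply]

private theorem nontrivial_tensor {A M N : Type u} [CommRing A] [IsLocalRing A] [AddCommGroup M]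
    [Module A M] [Module.Finite A M] [AddCommGroup N] [Module A N] [Module.Finite A N]
    [Nontrivial M] [Nontrivial N] : Nontrivial (M ⊗[A] N) := by
  have h : ∀ (L : Type u) [AddCommGroup L] [Module A L] [Module.Finite A L] [Nontrivial L],
      closedPoint A ∈ Module.support A L := fun L _ _ _ _ => by
    obtain ⟨P, hP⟩ := Module.nonempty_support_of_nontrivial (R := A) (M := L)
    exact Module.mem_support_mono (IsLocalRing.le_maximalIdeal P.isPrime.ne_top) hP
  have hM := h M
  have hN := h N
  rw [Module.mem_support_iff_nontrivial_residueField_tensorProduct] at hM hN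
  haveI := (TensorProduct.AlgebraTensorModule.distribBaseChange A
    (closedPoint A).asIdeal.ResidueField M N).toEquiv.nontrivial
  by_contra hs
  rw [not_nontrivial_iff_subsingleton] at hs
  exact not_subsingleton ((closedPoint A).asIdeal.ResidueField ⊗[A] (M ⊗[A] N)) inferInstance

variable {X Y : Scheme.{u}}

set_option backward.isDefEq.respectTransparency false in
private theorem fromSpecStalk_ker {ξ x : X} (h : ξ ⤳ x) :
    X.fromSpecStalk x ⟨RingHom.ker (Cyc.specMap x ξ h), RingHom.ker_isPrime _⟩ = ξ := by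
  have h1 := congrArg (fun g => g (closedPoint (X.presheaf.stalk ξ)))
    (Scheme.SpecMap_stalkSpecializes_fromSpecStalk h)
  simp only [Scheme.Hom.comp_apply, Scheme.fromSpecStalk_closedPoint] at h1
  refine Eq.trans (congrArg (X.fromSpecStalk x) (PrimeSpectrum.ext ?_)) h1
  ext a
  show X.residue ξ (X.presheaf.stalkSpecializes h a) = 0 ↔
    X.presheaf.stalkSpecializes h a ∈ maximalIdeal (X.presheaf.stalk ξ)
  exact IsLocalRing.residue_eq_zero_iff _

set_option backward.isDefEq.respectTransparency false in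
private theorem exists_generization (f : X ⟶ Y) (F : X.Modules) (hF : Coh.IsCoh F)
    (hfl : FlatMod.IsFlatOver f F) {x : X} (hx : x ∈ CohB1.support F) {w : Y} (hw : w ⤳ f x) :
    ∃ z, z ⤳ x ∧ f z = w ∧ z ∈ CohB1.support F := by
  letI := FlatMod.moduleStalkOver f F x
  letI : Algebra (Y.presheaf.stalk (f x)) (X.presheaf.stalk x) := (f.stalkMap x).hom.toAlgebra
  haveI : IsLocalHom (algebraMap (Y.presheaf.stalk (f x)) (X.presheaf.stalk x)) :=
    inferInstanceAs (IsLocalHom (f.stalkMap x).hom)
  haveI : IsScalarTower (Y.presheaf.stalk (f x)) (X.presheaf.stalk x) (F.presheaf.stalk x) :=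
    IsScalarTower.of_algebraMap_smul fun _ _ => rfl
  haveI := M1.finite_stalk hF.1 hF.2 x
  haveI : Module.Flat (Y.presheaf.stalk (f x)) (F.presheaf.stalk x) := hfl x
  haveI : Nontrivial (F.presheaf.stalk x) := not_subsingleton_iff_nontrivial.mp hx
  haveI := RingHom.ker_isPrime (Cyc.specMap (f x) w hw)
  obtain ⟨Q, hQ, hQp⟩ := exists_prime_over (S := X.presheaf.stalk x) (N := F.presheaf.stalk x)
    (RingHom.ker (Cyc.specMap (f x) w hw))
  let z := X.fromSpecStalk x Q
  have hz : z ⤳ x := by
    have : z ∈ Set.range (X.fromSpecStalk x) := ⟨Q, rfl⟩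
    rwa [Scheme.range_fromSpecStalk] at this
  refine ⟨z, hz, ?_, ?_⟩
  · show (X.fromSpecStalk x ≫ f) Q = w
    rw [← Scheme.SpecMap_stalkMap_fromSpecStalk]
    have e : Spec.map (f.stalkMap x) Q =
        (⟨RingHom.ker (Cyc.specMap (f x) w hw), RingHom.ker_isPrime _⟩ : PrimeSpectrum _) :=
      PrimeSpectrum.ext (show Q.asIdeal.comap (f.stalkMap x).hom = _ from hQp)
    exact Eq.trans (congrArg (Y.fromSpecStalk (f x)) e) (fromSpecStalk_ker hw)
  · have hQeq : Q = ⟨RingHom.ker (Cyc.specMap x z hz), RingHom.ker_isPrime _⟩ :=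
      (X.fromSpecStalk x).isEmbedding.injective (fromSpecStalk_ker hz).symm
    rw [hQeq] at hQ
    exact not_subsingleton_iff_nontrivial.mpr ((Cyc26.mem_support_stalk_iff hF.1 hz).mp hQ)

/-- Let f : X → Y be a morphism of schemes, F a quasi-coherent O_X-module of finite type which is flat
over Y, E a quasi-coherent O_Y-module of finite type, and x a point of X with image y. Then x is a
maximal point of the support of f^*E ⊗ F (a point of the support admitting no proper generization in
it) if and only if y is a maximal point of Supp E and x, viewed in the fibre f⁻¹(y), is a maximal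
point of the support of the restriction of F to that fibre. -/
theorem result {X Y : Scheme.{u}} (f : X ⟶ Y) (F : X.Modules) (hF : Coh.IsCoh F)
    (hfl : FlatMod.IsFlatOver f F) (E : Y.Modules) (hE : Coh.IsCoh E) (x : X) :
    (x ∈ CohB1.support (CohB1.tensorMod ((Scheme.Modules.pullback f).obj E) F) ∧
        ∀ z ∈ CohB1.support (CohB1.tensorMod ((Scheme.Modules.pullback f).obj E) F), z ⤳ x → z = x) ↔
      ((f x ∈ CohB1.support E ∧ ∀ w ∈ CohB1.support E, w ⤳ f x → w = f x) ∧
        (f.asFiber x ∈ CohB1.support ((Scheme.Modules.pullback (f.fiberι (f x))).obj F) ∧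
          ∀ z ∈ CohB1.support ((Scheme.Modules.pullback (f.fiberι (f x))).obj F), z ⤳ f.asFiber x → z = f.asFiber x)) := by
  have hA : ∀ z, z ∈ CohB1.support (CohB1.tensorMod ((Scheme.Modules.pullback f).obj E) F) ↔
      f z ∈ CohB1.support E ∧ z ∈ CohB1.support F := by
    intro z
    have hpb := Set.ext_iff.mp (M2.support_pullback f hE.1 hE.2) z
    have hEf : Coh.IsCoh ((Scheme.Modules.pullback f).obj E) := M1.isCoh_pullback f hE
    haveI := M1.finite_stalk hEf.1 hEf.2 z
    haveI := M1.finite_stalk hF.1 hF.2 z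
    constructor
    · intro hz
      refine ⟨hpb.mp fun h => hz ?_, fun h => hz ?_⟩
      · exact (M2.stalkEquiv _ F z).toEquiv.subsingleton
      · exact (M2.stalkEquiv _ F z).toEquiv.subsingleton
    · rintro ⟨h1, h2⟩ hs
      haveI : Nontrivial (((Scheme.Modules.pullback f).obj E).presheaf.stalk z) :=
        not_subsingleton_iff_nontrivial.mp (hpb.mpr h1)
      haveI : Nontrivial (F.presheaf.stalk z) := not_subsingleton_iff_nontrivial.mp h2
      haveI := nontrivial_tensor (A := X.presheaf.stalk z)
        (M := ((Scheme.Modules.pullback f).obj E).presheaf.stalk z) (N := F.presheaf.stalk z)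
      haveI : Subsingleton _ := hs
      exact not_subsingleton _ (M2.stalkEquiv ((Scheme.Modules.pullback f).obj E) F z).symm.toEquiv.subsingleton
  have hι := M2.support_pullback (f.fiberι (f x)) hF.1 hF.2
  constructor
  · rintro ⟨hx, hmax⟩
    obtain ⟨hfx, hxF⟩ := (hA x).mp hx
    refine ⟨⟨hfx, fun w hw hwx => ?_⟩, ?_, fun z hz hzx => ?_⟩
    · obtain ⟨z, hzx, rfl, hz⟩ := exists_generization f F hF hfl hxF hwx
      rw [hmax z ((hA z).mpr ⟨hw, hz⟩) hzx]
    · rw [hι, Set.mem_preimage, Scheme.Hom.fiberι_asFiber]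
      exact hxF
    · rw [hι, Set.mem_preimage] at hz
      have hf : f (f.fiberι (f x) z) = f x := (f.range_fiberι (f x)).le ⟨z, rfl⟩
      have hzx' : f.fiberι (f x) z ⤳ x := by
        have := hzx.map (f.fiberι (f x)).continuous
        rwa [Scheme.Hom.fiberι_asFiber] at this
      refine (f.fiberι (f x)).isEmbedding.injective ?_
      rw [Scheme.Hom.fiberι_asFiber]
      exact hmax _ ((hA _).mpr ⟨hf.symm ▸ hfx, hz⟩) hzx'
  · rintro ⟨⟨hfx, hmaxE⟩, hxF, hmaxF⟩
    rw [hι, Set.mem_preimage, Scheme.Hom.fiberι_asFiber] at hxF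
    refine ⟨(hA x).mpr ⟨hfx, hxF⟩, fun z hz hzx => ?_⟩
    obtain ⟨hfz, hzF⟩ := (hA z).mp hz
    obtain ⟨v, rfl⟩ := (f.range_fiberι (f x)).ge
      (hmaxE _ hfz (hzx.map f.continuous) : f z = f x)
    have := hmaxF v (hι ▸ hzF) ((f.fiberι (f x)).isEmbedding.isInducing.specializes_iff.mp
      (by rw [Scheme.Hom.fiberι_asFiber]; exact hzx))
    rw [this, Scheme.Hom.fiberι_asFiber]

end Groth.Agent.S4653
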