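import Groth.Statements.S4657
import Groth.Agent.Lib.AssPts11.OpenRestrict

set_option autoImplicit false
open CategoryTheory AlgebraicGeometry
universe u
open AssSch

namespace Groth.Agent.S4657

/-- Let X be a locally Noetherian scheme, U an open subset of X and F a coherent O_X-module such that U
∩ Supp F is dense in Supp F. Then F is a reduced module if and only if its restriction to U is a
reduced module and F has no embedded associated points. -/
theorem result {X : Scheme.{u}} [IsLocallyNoetherian X] (U : X.Opens) (F : X.Modules)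
    (hF : Coh.IsCoh F) (hdense : CohB1.support F ⊆ closure ((U : Set ↥X) ∩ CohB1.support F)) :
    AssSch.IsReducedMod F ↔ AssSch.IsReducedMod ((Scheme.Modules.pullback U.ι).obj F) ∧ AssSch.NoEmbedded F := by
  classical
  haveI := hF.1
  have hlen : ∀ y : ↥(U : Scheme.{u}), Module.length ((U : Scheme.{u}).presheaf.stalk y)
      (((Scheme.Modules.pullback U.ι).obj F).presheaf.stalk y) = Module.length (X.presheaf.stalk (U.ι y)) (F.presheaf.stalk (U.ι y)) :=
    fun y => AssPts11.length_pullback_stalk U.ι y F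
  constructor
  · rintro ⟨hne, hl⟩
    refine ⟨⟨fun a ha b hb hba => U.ι.isEmbedding.injective ?_, fun a ha => ?_⟩, hne⟩
    · exact hne _ ((AssPts11.mem_ass_pullback_iff U.ι a F).1 ha) _ ((AssPts11.mem_ass_pullback_iff U.ι b F).1 hb)
        (hba.map U.ι.continuous)
    · rw [hlen]
      exact hl _ ((AssPts11.mem_ass_pullback_iff U.ι a F).1 ha)
  · rintro ⟨⟨-, hl⟩, hne⟩
    refine ⟨hne, fun x hx => ?_⟩
    obtain ⟨V, hV, hxV, -⟩ := exists_isAffineOpen_mem_and_subset (U := (⊤ : X.Opens)) (x := x) trivial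
    let T := {a | (a ∈ V ∧ Curv2.IsWeakAssPoint F a) ∧ a ∈ U}
    have hT : T.Finite := (WA.finite_weakAss_affine hF.1 hF.2 hV).subset fun a ha => ha.1
    have hC : IsClosed (⋃ a ∈ T, closure ({a} : Set ↥X)) := hT.isClosed_biUnion fun _ _ => isClosed_closure
    have hsub : (V : Set ↥X) ∩ ((U : Set ↥X) ∩ CohB1.support F) ⊆ ⋃ a ∈ T, closure ({a} : Set ↥X) := by
      rintro z ⟨hzV, hzU, hzS⟩
      obtain ⟨a, ha, haz⟩ := AssPts11.exists_ass_specializes (not_subsingleton_iff_nontrivial.1 hzS)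
      exact Set.mem_iUnion₂.2 ⟨a, ⟨⟨haz.mem_open V.2 hzV, AssPts11.mem_ass_iff.1 ha⟩, haz.mem_open U.2 hzU⟩,
        specializes_iff_mem_closure.1 haz⟩
    obtain ⟨a, ⟨⟨-, hwa⟩, haU⟩, hax⟩ := Set.mem_iUnion₂.1 (closure_minimal hsub hC
      (V.2.inter_closure ⟨hxV, hdense (not_subsingleton_iff_nontrivial.2 (AssPts11.nontrivial_of_mem_ass hx))⟩))
    have hxa : x = a := hne x hx a (AssPts11.mem_ass_iff.2 hwa) (specializes_iff_mem_closure.2 hax)
    subst hxa
    rw [← hl ⟨x, haU⟩ ((AssPts11.mem_ass_pullback_iff U.ι ⟨x, haU⟩ F).2 hx), hlen]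
    rfl

end Groth.Agent.S4657
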