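import Groth.Statements.S4658
import Groth.Agent.Lib.AssPts11.OpenRestrict
import Groth.Agent.Lib.AssPts11.Primary
import Groth.Agent.Lib.PushFin12.Basic
import Groth.Agent.Lib.ModM1.Pull

set_option autoImplicit false
open CategoryTheory AlgebraicGeometry
universe u
open AssSch

namespace Groth.Agent.S4658

/-- Let X be a locally Noetherian scheme, F a quasi-coherent O_X-module and x a point of X; let Z be the
reduced closed subscheme of X whose underlying space is the closure of x, and O_Z its structure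
sheaf viewed as an O_X-module. Then x is an associated point of F if and only if x has an open
neighbourhood U over which there is a monomorphism of O_U-modules O_Z|_U → F|_U. -/
theorem result {X : Scheme.{u}} [IsLocallyNoetherian X] (F : X.Modules)
    (hF : Coh.IsQCoh F) (x : X) :
    x ∈ AssSch.Ass F ↔ ∃ (U : X.Opens), x ∈ U ∧
      ∃ φ : (Scheme.Modules.pullback U.ι).obj
              ((Scheme.Modules.pushforward (Scheme.IdealSheafData.vanishingIdeal ⟨closure {x}, isClosed_closure⟩).subschemeι).obj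
                (Coh.structureModule (Scheme.IdealSheafData.vanishingIdeal ⟨closure {x}, isClosed_closure⟩).subscheme)) ⟶
            (Scheme.Modules.pullback U.ι).obj F, Mono φ := by
  classical
  haveI := hF
  set 𝓘 := Scheme.IdealSheafData.vanishingIdeal ⟨closure {x}, isClosed_closure (X := ↥X) (s := {x})⟩ with h𝓘
  let ι := 𝓘.subschemeι
  haveI : IsLocallyNoetherian 𝓘.subscheme := LocallyOfFiniteType.isLocallyNoetherian ι
  haveI hOZ : Coh.IsQCoh (Coh.structureModule 𝓘.subscheme) := M1.isQCoh_structureModule _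
  let P := (Scheme.Modules.pushforward ι).obj (Coh.structureModule 𝓘.subscheme)
  haveI hP : Coh.IsQCoh P := PushFin12.isQCoh_pushforward ι (Coh.structureModule _) hOZ
  have hrange : Set.range ι = closure ({x} : Set ↥X) := by
    show Set.range 𝓘.subschemeι = _
    rw [Scheme.IdealSheafData.range_subschemeι, h𝓘, Scheme.IdealSheafData.coe_support_vanishingIdeal]
    rfl
  have hxP : x ∈ AssSch.Ass P := by
    obtain ⟨z, hz⟩ : x ∈ Set.range ι := hrange.symm ▸ subset_closure rfl
    have hsupp : ∀ y : ↥(𝓘.subscheme), y ∈ CohB1.support (Coh.structureModule 𝓘.subscheme) := fun y h => by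
      have h0 : (Coh.structureModule 𝓘.subscheme).presheaf.germ ⊤ y trivial
          (show Γ(Coh.structureModule 𝓘.subscheme, ⊤) from (1 : Γ(𝓘.subscheme, ⊤))) = 0 := h.elim _ _
      rw [WA.germ_O_eq_zero_iff, map_one] at h0
      exact one_ne_zero h0
    have hwa : Curv2.IsWeakAssPoint (Coh.structureModule 𝓘.subscheme) z :=
      WA.isWeakAssPoint_of_maximal (hsupp z) fun y _ hyz => ι.isEmbedding.injective
        ((hyz.map ι.continuous).antisymm (specializes_iff_mem_closure.2
          (hz.symm ▸ hrange ▸ ⟨y, rfl⟩))).eq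
    obtain ⟨V, hV, hzV, -⟩ := exists_isAffineOpen_mem_and_subset (U := (⊤ : X.Opens)) (x := ι z) trivial
    exact hz ▸ AssPts11.mem_ass_iff.2 (AssPts11.weakAss_push_of_affine_preimage ι hV (hV.preimage ι) hzV hwa)
  constructor
  swap
  · rintro ⟨U, hxU, φ, hφ⟩
    refine (AssPts11.mem_ass_pullback_iff U.ι ⟨x, hxU⟩ F).1 ?_
    exact IsAssociatedPrime.map_of_injective (f := M2.stMap ((M2.pmF U.toScheme).map φ) ⟨x, hxU⟩)
      ((AssPts11.mem_ass_pullback_iff U.ι ⟨x, hxU⟩ P).2 hxP) ((M1.mono_iff_stalk φ).1 hφ ⟨x, hxU⟩)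
  intro hx
  obtain ⟨U, hU, hxU, -⟩ := exists_isAffineOpen_mem_and_subset (U := (⊤ : X.Opens)) (x := x) trivial
  refine ⟨U, hxU, ?_⟩
  haveI : IsAffine U.toScheme := hU
  let U' := U.ι ''ᵁ (⊤ : U.toScheme.Opens)
  have hU' : IsAffineOpen U' := show IsAffineOpen (U.ι ''ᵁ (⊤ : U.toScheme.Opens)) by rw [M1.image_ι_top]; exact hU
  have hxU' : x ∈ U' := (M1.image_ι_top U).ge hxU
  obtain ⟨t, ht⟩ := (AssPts11.mem_ass_iff_exists hU' hxU').1 hx
  -- the kernel of restriction to the closure
  have hker : ∀ r : Γ(X, U'), ι.app U' r = 0 ↔ r ∈ (hU'.primeIdealOf ⟨x, hxU'⟩).asIdeal := by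
    intro r
    rw [← RingHom.mem_ker]
    show r ∈ RingHom.ker (𝓘.subschemeι.app (⟨U', hU'⟩ : X.affineOpens).1).hom ↔ _
    rw [Scheme.IdealSheafData.ker_subschemeι_app, h𝓘, Scheme.IdealSheafData.vanishingIdeal_ideal]
    have hpre : hU'.fromSpec ⁻¹' closure ({x} : Set ↥X) = closure {hU'.primeIdealOf ⟨x, hxU'⟩} := by
      rw [hU'.fromSpec.isOpenEmbedding.isOpenMap.preimage_closure_eq_closure_preimage hU'.fromSpec.continuous]
      congr 1
      ext q
      exact ⟨fun hq => hU'.fromSpec.isOpenEmbedding.injective (hq.trans (hU'.fromSpec_primeIdealOf ⟨x, hxU'⟩).symm),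
        fun hq => (congrArg hU'.fromSpec hq).trans (hU'.fromSpec_primeIdealOf ⟨x, hxU'⟩)⟩
    show r ∈ PrimeSpectrum.vanishingIdeal (hU'.fromSpec ⁻¹' closure ({x} : Set ↥X)) ↔ _
    refine (congrArg (fun S => r ∈ PrimeSpectrum.vanishingIdeal S) hpre).to_iff.trans ?_
    rw [PrimeSpectrum.vanishingIdeal_closure, PrimeSpectrum.vanishingIdeal_singleton]
  let N := F.restrict U.ι
  let Q := P.restrict U.ι
  haveI hN : Coh.IsQCoh N := M1.isQCoh_restrict hF _
  haveI hQ : Coh.IsQCoh Q := M1.isQCoh_restrict hP _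
  let π : Coh.structureModule U.toScheme ⟶ Q :=
    M1.secHom (show Γ(Q, ⊤) from (show Γ(P, U') from (1 : Γ(𝓘.subscheme, ι ⁻¹ᵁ U'))))
  let ψ : Coh.structureModule U.toScheme ⟶ N := M1.secHom (show Γ(N, ⊤) from t)
  have hπ : ∀ r : Γ(U.toScheme, ⊤), π.app ⊤ (show Γ(Coh.structureModule U.toScheme, ⊤) from r) =
      (show Γ(Q, ⊤) from (show Γ(P, U') from ι.app U' (show Γ(X, U') from r))) := fun r => by
    rw [AssPts11.secHom_app_top]
    refine (M1.restrict_ι_smul P (show Γ(X, U') from r) _).trans ?_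
    exact mul_one (M := Γ(𝓘.subscheme, ι ⁻¹ᵁ U')) _
  have hψ : ∀ r : Γ(U.toScheme, ⊤), ψ.app ⊤ (show Γ(Coh.structureModule U.toScheme, ⊤) from r) =
      (show Γ(N, ⊤) from (show Γ(F, U') from (show Γ(X, U') from r) • t)) := fun r => by
    rw [AssPts11.secHom_app_top]
    exact M1.restrict_ι_smul F (show Γ(X, U') from r) _
  have hzero : ∀ (A B : U.toScheme.Modules) (g : A ⟶ B), Coh.IsQCoh A →
      (∀ a : Γ(A, ⊤), g.app ⊤ a = 0) → g = 0 := by
    intro A B g hA hg
    haveI := hA
    refine Scheme.Modules.hom_ext _ _ fun W => ?_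
    ext a
    refine M1.section_ext _ _ fun y hy => ?_
    show B.presheaf.germ W y hy (g.app W a) = B.presheaf.germ W y hy 0
    rw [map_zero, ← M1.germ_naturality]
    obtain ⟨r, m, hr, hm⟩ := M1.exists_germ_smul_eq A (isAffineOpen_top _) (show y ∈ (⊤ : U.toScheme.Opens) from trivial)
      (A.presheaf.germ W y hy a)
    have h1 : M2.stMap ((M2.pmF U.toScheme).map g) y (U.toScheme.presheaf.germ ⊤ y trivial r • A.presheaf.germ W y hy a) = 0 := by
      rw [hm]
      show (M1.stalkAb y).map g _ = 0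
      rw [M1.germ_naturality, hg, map_zero]
      rfl
    exact hr.smul_eq_zero.1 (((M2.stMap ((M2.pmF U.toScheme).map g) y).map_smul _ _).symm.trans h1)
  haveI : Epi π := by
    refine (M1.epi_iff_stalk π).2 fun y b => ?_
    obtain ⟨r, m, hr, hm⟩ := M1.exists_germ_smul_eq Q (isAffineOpen_top _) (show y ∈ (⊤ : U.toScheme.Opens) from trivial) b
    obtain ⟨c, hc⟩ := 𝓘.subschemeι_app_surjective ⟨U', hU'⟩ m
    refine ⟨hr.unit⁻¹.1 • (Coh.structureModule U.toScheme).presheaf.germ ⊤ y trivial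
      (show Γ(Coh.structureModule U.toScheme, ⊤) from c), ?_⟩
    show M2.stMap ((M2.pmF U.toScheme).map π) y _ = b
    refine ((M2.stMap ((M2.pmF U.toScheme).map π) y).map_smul _ _).trans ?_
    refine (congrArg (fun z : (Q.presheaf.stalk y : Type u) => hr.unit⁻¹.1 • z)
      ((M1.germ_naturality π _ _ _ _).trans ((congrArg (Q.presheaf.germ ⊤ y trivial) ((hπ c).trans hc)).trans hm.symm))).trans ?_
    rw [smul_smul, IsUnit.val_inv_mul, one_smul]
  have hker0 : Limits.kernel.ι π ≫ ψ = 0 := by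
    refine hzero _ _ _ (M1.isQCoh_kernel (M1.isQCoh_structureModule _) hQ π) fun a => ?_
    have h0 : π.app ⊤ ((Limits.kernel.ι π).app ⊤ a) = 0 := by
      rw [← M1.comp_app_apply, Limits.kernel.condition]; rfl
    rw [M1.comp_app_apply]
    generalize (Limits.kernel.ι π).app ⊤ a = r at h0 ⊢
    change π.app ⊤ (show Γ(Coh.structureModule U.toScheme, ⊤) from (show Γ(U.toScheme, ⊤) from r)) = 0 at h0
    rw [hπ] at h0
    exact (hψ r).trans ((ht _).2 ((hker _).1 h0))
  let d : Q ⟶ N := Abelian.epiDesc π ψ hker0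
  haveI : Mono d := by
    refine Preadditive.mono_of_kernel_zero ?_
    refine hzero _ _ _ (M1.isQCoh_kernel hQ hN d) fun b => ?_
    obtain ⟨c, hc⟩ := 𝓘.subschemeι_app_surjective ⟨U', hU'⟩ ((Limits.kernel.ι d).app ⊤ b)
    have e : π.app ⊤ (show Γ(Coh.structureModule U.toScheme, ⊤) from c) = (Limits.kernel.ι d).app ⊤ b :=
      (hπ c).trans hc
    have h0 : ψ.app ⊤ (show Γ(Coh.structureModule U.toScheme, ⊤) from c) = 0 := by
      rw [← Abelian.comp_epiDesc π ψ hker0, M1.comp_app_apply]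
      show d.app ⊤ _ = 0
      rw [e, ← M1.comp_app_apply, Limits.kernel.condition]
      rfl
    rw [hψ] at h0
    exact hc.symm.trans ((hker _).2 ((ht _).1 h0))
  exact ⟨((Scheme.Modules.restrictFunctorIsoPullback U.ι).app P).inv ≫ d ≫
    ((Scheme.Modules.restrictFunctorIsoPullback U.ι).app F).hom, inferInstance⟩

end Groth.Agent.S4658
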