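import Groth.Statements.S4659
import Groth.Agent.Lib.FBase12.ReducedBC
-- import your own Groth.Agent.* helpers here

set_option autoImplicit false
set_option backward.isDefEq.respectTransparency false
open CategoryTheory AlgebraicGeometry
universe u
open FBase

namespace Groth.Agent.S4659

/-- Let X be a locally Noetherian scheme over a field k and F a coherent O_X-module. Then F ⊗_k k' is a
reduced module on X ⊗_k k' for every finite purely inseparable extension k' of k if and only if F
⊗_k K is a reduced module on X ⊗_k K for every extension K of k for which X ⊗_k K is locally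
Noetherian. (The published statement takes K finitely generated over k, a hypothesis used only to
make X ⊗_k K locally Noetherian.) -/
theorem result {k : Type u} [Field k] {X : Scheme.{u}} [IsLocallyNoetherian X]
    (f : X ⟶ Spec (CommRingCat.of k)) (F : X.Modules) (hF : Coh.IsCoh F) :
    (∀ (k' : Type u) [Field k'] [Algebra k k'] [FiniteDimensional k k'] [IsPurelyInseparable k k'],
        AssSch.IsReducedMod ((Scheme.Modules.pullback (FBase.bcπ f k')).obj F)) ↔
      ∀ (K : Type u) [Field K] [Algebra k K] [IsLocallyNoetherian (FBase.bc f K)],
        AssSch.IsReducedMod ((Scheme.Modules.pullback (FBase.bcπ f K)).obj F) := by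
  refine ⟨fun h K _ _ _ => Groth.Agent.FBase12.isReducedMod_bc_of_forall f K F hF h, fun h k' _ _ _ _ => ?_⟩
  haveI := (Groth.Agent.FBase12.isLocallyNoetherian_bc_finite f k').1
  exact h k'

end Groth.Agent.S4659
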