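import Groth.Statements.S4660
import Groth.Agent.Lib.FBase12.ReducedBC
-- import your own Groth.Agent.* helpers here

set_option autoImplicit false
set_option backward.isDefEq.respectTransparency false
open CategoryTheory AlgebraicGeometry
universe u
open FBase

namespace Groth.Agent.S4660

/-- Let X be a locally Noetherian scheme over a field k and F a coherent O_X-module. A coherent module
is called integral when it has exactly one associated point and its stalk at that point has length
one over the local ring. Then F ⊗_k k' is integral on X ⊗_k k' for every finite extension k' of k if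
and only if F ⊗_k K is integral on X ⊗_k K for every extension K of k such that X ⊗_k K is locally
Noetherian. (The published statement takes K finitely generated over k, a hypothesis used only to
make X ⊗_k K locally Noetherian.) -/
theorem result {k : Type u} [Field k] {X : Scheme.{u}} [IsLocallyNoetherian X]
    (f : X ⟶ Spec (CommRingCat.of k)) (F : X.Modules) (hF : Coh.IsCoh F) :
    (∀ (k' : Type u) [Field k'] [Algebra k k'] [FiniteDimensional k k'],
        ∃ x' : ↥(FBase.bc f k'), AssSch.Ass ((Scheme.Modules.pullback (FBase.bcπ f k')).obj F) = {x'} ∧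
          Module.length ↑((FBase.bc f k').presheaf.stalk x') ↑(((Scheme.Modules.pullback (FBase.bcπ f k')).obj F).presheaf.stalk x') = 1) ↔
      ∀ (K : Type u) [Field K] [Algebra k K] [IsLocallyNoetherian (FBase.bc f K)],
        ∃ x' : ↥(FBase.bc f K), AssSch.Ass ((Scheme.Modules.pullback (FBase.bcπ f K)).obj F) = {x'} ∧
          Module.length ↑((FBase.bc f K).presheaf.stalk x') ↑(((Scheme.Modules.pullback (FBase.bcπ f K)).obj F).presheaf.stalk x') = 1 := by
  constructor
  · intro h K _ _ _
    have key : ∀ (k' : Type u) [Field k'] [Algebra k k'] [FiniteDimensional k k'],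
        ∃ x : X, AssSch.Ass F = {x} ∧ Module.length (X.presheaf.stalk x) (F.presheaf.stalk x) = 1 ∧
          AlgebraicGeometry.IsReduced ((FBase.bcπ f k').fiber x) ∧ IrreducibleSpace ((FBase.bcπ f k').fiber x) := by
      intro k' _ _ _
      obtain ⟨hN, hlft⟩ := Groth.Agent.FBase12.isLocallyNoetherian_bc_finite f k'
      obtain ⟨x', hA, hl⟩ := h k'
      exact ⟨_, Groth.Agent.FBase12.single_ass_bc_imp f k' F hF hA hl⟩
    obtain ⟨x, hA, hl, -, -⟩ := key k
    have key' : ∀ (k' : Type u) [Field k'] [Algebra k k'] [FiniteDimensional k k'],
        AlgebraicGeometry.IsReduced ((FBase.bcπ f k').fiber x) ∧ IrreducibleSpace ((FBase.bcπ f k').fiber x) := by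
      intro k' _ _ _
      obtain ⟨y, hy, -, h1, h2⟩ := key k'
      obtain rfl : x = y := Set.singleton_eq_singleton_iff.1 (hA.symm.trans hy)
      exact ⟨h1, h2⟩
    haveI := Groth.Agent.FBase12.isReduced_fiber_of_forall f K x fun k' _ _ _ _ => (key' k').1
    haveI := Groth.Agent.FBase12.irreducibleSpace_fiber_of_forall f K x fun k' _ _ _ _ => (key' k').2
    exact Groth.Agent.FBase12.single_ass_bc f K F hF hA hl
  · intro h k' _ _ _
    haveI := (Groth.Agent.FBase12.isLocallyNoetherian_bc_finite f k').1
    exact h k'

end Groth.Agent.S4660
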