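import Groth.Statements.S4662
import Groth.Agent.Lib.DimF18.Prod

set_option autoImplicit false
open CategoryTheory AlgebraicGeometry
universe u
open FBase

namespace Groth.Agent.S4662

open CategoryTheory.Limits in
/-- Let X and Y be integral schemes locally of finite type over a field k. Then every irreducible
component of X ×_k Y has dimension dim X + dim Y (Krull dimensions of the underlying spaces, valued
in WithBot ℕ∞). -/
theorem result {k : Type u} [Field k] {X Y : Scheme.{u}}
    (f : X ⟶ Spec (CommRingCat.of k)) (g : Y ⟶ Spec (CommRingCat.of k)) [IsIntegral X] [IsIntegral Y]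
    [LocallyOfFiniteType f] [LocallyOfFiniteType g] (Z : Set ↥(pullback f g))
    (hZ : Z ∈ irreducibleComponents ↥(pullback f g)) :
    topologicalKrullDim ↥Z = topologicalKrullDim ↥X + topologicalKrullDim ↥Y := by
  show topologicalKrullDim ↥Z = _
  let pX := pullback.fst f g
  let pY := pullback.snd f g
  obtain ⟨m, rfl, hmax⟩ := VarDim.exists_generic_of_mem_irreducibleComponents (X := (pullback f g : Scheme.{u})) hZ
  obtain ⟨ζ, hζ, h1, h2⟩ := DimF18.exists_prod_generization f g m (genericPoint_specializes (pX m))
    (genericPoint_specializes (pY m)) fun y hy => (hy.antisymm (genericPoint_specializes y)).eq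
  have hζm : ζ = m := hmax ζ hζ
  subst hζm
  obtain ⟨w, hw, -, -, hdim⟩ := (DimF18.sdim_prod f g ζ).2
  rw [hmax w hw, h1, h2] at hdim
  rw [VarDim.dim_closure_singleton (pX ≫ f), hdim, VarDim.dim_eq_sdim_genericPoint f,
    VarDim.dim_eq_sdim_genericPoint g]
  push_cast
  rfl

end Groth.Agent.S4662
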