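import Groth.Statements.S4663
import Groth.Agent.Lib.DimF18.Prod

set_option autoImplicit false
open CategoryTheory AlgebraicGeometry
universe u
open FBase

namespace Groth.Agent.S4663

/-- Let X be a scheme locally of finite type over a field k, K an extension field of k, and Z an
irreducible closed subset of X. Then every irreducible component of the inverse image of Z in X ⊗_k
K has the same dimension as Z (Krull dimensions of the underlying topological spaces, valued in
WithBot ℕ∞). (In the published statement Z is a cycle associated to a quasi-coherent O_X-module,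
with its reduced subscheme structure, and the components are those of Z ⊗_k K; such cycles are
exactly the irreducible closed subsets of X, and Z ⊗_k K has the inverse image of Z as underlying
space.) -/
theorem result {k K : Type u} [Field k] [Field K] [Algebra k K]
    {X : Scheme.{u}} (f : X ⟶ Spec (CommRingCat.of k)) [LocallyOfFiniteType f]
    (Z : Set ↥X) (hZc : IsClosed Z) (hZi : IsIrreducible Z)
    (W : Set ↥(⇑(FBase.bcπ f K) ⁻¹' Z)) (hW : W ∈ irreducibleComponents ↥(⇑(FBase.bcπ f K) ⁻¹' Z)) :
    topologicalKrullDim ↥W = topologicalKrullDim ↥Z := by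
  let B : Scheme.{u} := FBase.bc f K
  let pr : B ⟶ X := FBase.bcπ f K
  let q : B ⟶ Spec (CommRingCat.of K) := Limits.pullback.snd f _
  have sq : IsPullback pr q f (Spec.map (CommRingCat.ofHom (algebraMap k K))) := IsPullback.of_hasPullback f _
  haveI : LocallyOfFiniteType q := MorphismProperty.of_isPullback sq inferInstance
  haveI : Flat pr := MorphismProperty.of_isPullback sq.flip inferInstance
  have hP : IsClosed (⇑pr ⁻¹' Z) := hZc.preimage pr.continuous
  have hWcl : IsClosed (Subtype.val '' W : Set B) :=
    hP.isClosedEmbedding_subtypeVal.isClosedMap _ (isClosed_of_mem_irreducibleComponents W hW)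
  have hWi : IsIrreducible (Subtype.val '' W : Set B) := hW.1.image _ continuous_subtype_val.continuousOn
  set m := hWi.genericPoint with hm
  have hmW : closure {m} = (Subtype.val '' W : Set B) := hWi.closure_genericPoint hWcl
  obtain ⟨⟨m₀, hm₀Z⟩, hm₀W, hm₀⟩ : m ∈ (Subtype.val '' W : Set B) := hmW ▸ subset_closure rfl
  change m₀ = m at hm₀
  subst hm₀
  have hmax : ∀ w : B, w ⤳ m → pr w ∈ Z → w = m := by
    intro w hw hwZ
    let w' : (⇑pr ⁻¹' Z : Set B) := ⟨w, hwZ⟩
    have hsub : W ⊆ closure ({w'} : Set (⇑pr ⁻¹' Z : Set B)) := fun v hv => by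
      refine specializes_iff_mem_closure.1 (Topology.IsInducing.subtypeVal.specializes_iff.1 ?_)
      exact hw.trans (specializes_iff_mem_closure.2 (hmW ▸ ⟨v, hv, rfl⟩))
    have h2 := hW.2 isIrreducible_singleton.closure hsub (subset_closure rfl)
    have h3 : w ∈ closure ({m} : Set B) := hmW ▸ ⟨w', h2, rfl⟩
    exact (hw.antisymm (specializes_iff_mem_closure.2 h3)).eq
  have hz : pr m = hZi.genericPoint := by
    have h1 : hZi.genericPoint ⤳ pr m := by
      rw [specializes_iff_mem_closure, hZi.closure_genericPoint hZc]
      exact hm₀Z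
    obtain ⟨w, hw, hwz⟩ := DimF18.exists_lift_specializes pr h1
    have := hmax w hw (hwz ▸ by simpa [hZi.closure_genericPoint hZc] using subset_closure (Set.mem_singleton hZi.genericPoint))
    rw [← this, hwz]
  have e : topologicalKrullDim ↥W = topologicalKrullDim ↥(Subtype.val '' W : Set B) :=
    DimF18.topologicalKrullDim_eq_of_homeo Topology.IsEmbedding.subtypeVal W
  rw [e, ← hmW, VarDim.dim_closure_singleton q, VarDim.dim_irreducible_isClosed f hZc hZi, ← hz,
    (DimF18.sdim_bc sq m).2 fun w hw hw' => hmax w hw (hw' ▸ hm₀Z)]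

end Groth.Agent.S4663
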