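import Groth.Statements.S4666
import Groth.Agent.Lib.QuasiFlat.IdealInj


set_option autoImplicit false
open CategoryTheory AlgebraicGeometry
universe u
open FDesc

namespace Groth.Agent.S4666

/-- Let f : X → Y be a flat and surjective morphism of schemes. Then the map sending a quasi-coherent
sheaf of ideals of O_Y (a closed subscheme of Y) to its inverse image in X is injective. -/
theorem result {X Y : Scheme.{u}} (f : X ⟶ Y) [Flat f] [Surjective f] :
    Function.Injective fun J : Y.IdealSheafData => J.comap f := by
  intro J J' h
  exact le_antisymm (QF.le_of_comap_le f J J' h.le) (QF.le_of_comap_le f J' J h.ge)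

end Groth.Agent.S4666
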