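import Groth.Statements.S4672
import Groth.Agent.Lib.ProdComp12.Basic

set_option autoImplicit false
open CategoryTheory AlgebraicGeometry
universe u
open FBase

namespace Groth.Agent.S4672

open CategoryTheory.Limits in
/-- Let X and Y be locally Noetherian schemes over a field k such that X ×_k Y is locally Noetherian,
with projections p and q. Then a subset W of X ×_k Y is an irreducible component of X ×_k Y if and
only if there exist an irreducible component X' of X and an irreducible component Y' of Y such that
W is a maximal irreducible subset of p⁻¹(X') ∩ q⁻¹(Y') (that is, an irreducible component of the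
space underlying X' ×_k Y' for the reduced structures on X' and Y'). -/
theorem result {k : Type u} [Field k] {X Y : Scheme.{u}}
    (f : X ⟶ Spec (CommRingCat.of k)) (g : Y ⟶ Spec (CommRingCat.of k)) [IsLocallyNoetherian X]
    [IsLocallyNoetherian Y] [IsLocallyNoetherian (pullback f g)] (W : Set ↥(pullback f g)) :
    W ∈ irreducibleComponents ↥(pullback f g) ↔
      ∃ X' ∈ irreducibleComponents ↥X, ∃ Y' ∈ irreducibleComponents ↥Y,
        Maximal (fun V : Set ↥(pullback f g) => IsIrreducible V ∧ V ⊆ ⇑(pullback.fst f g) ⁻¹' X' ∩ ⇑(pullback.snd f g) ⁻¹' Y') W := by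
  let p := pullback.fst f g
  let q := pullback.snd f g
  have hP : IsPullback p q f g := IsPullback.of_hasPullback f g
  have hXc : ∀ X' ∈ irreducibleComponents ↥X, IsClosed X' := isClosed_of_mem_irreducibleComponents
  have hYc : ∀ Y' ∈ irreducibleComponents ↥Y, IsClosed Y' := isClosed_of_mem_irreducibleComponents
  constructor
  · intro hW
    obtain ⟨w, hw⟩ : ∃ w, IsGenericPoint w W :=
      QuasiSober.sober hW.1 (isClosed_of_mem_irreducibleComponents W hW)
    refine ⟨closure {p w}, ProdComp12.closure_image_mem hP hW hw, closure {q w},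
      ProdComp12.closure_image_mem hP.flip hW hw, ⟨hW.1, fun z hz => ?_⟩, fun V hV hWV => hW.2 hV.1 hWV⟩
    exact ⟨specializes_iff_mem_closure.1 ((hw.specializes hz).map p.continuous),
      specializes_iff_mem_closure.1 ((hw.specializes hz).map q.continuous)⟩
  · rintro ⟨X', hX', Y', hY', ⟨hWirr, hWsub⟩, hmax⟩
    have hA : IsClosed (p ⁻¹' X' ∩ q ⁻¹' Y') :=
      ((hXc X' hX').preimage p.continuous).inter ((hYc Y' hY').preimage q.continuous)
    obtain ⟨v, hv⟩ : ∃ v, IsGenericPoint v (closure W) :=
      QuasiSober.sober hWirr.closure isClosed_closure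
    have hvA : v ∈ p ⁻¹' X' ∩ q ⁻¹' Y' := hA.closure_subset_iff.2 hWsub hv.mem
    have hWv : W = closure {v} := by
      rw [hv.def]
      exact le_antisymm subset_closure
        (hmax ⟨hWirr.closure, hA.closure_subset_iff.2 hWsub⟩ subset_closure)
    have hmem : ∀ w, w ⤳ v → w ∈ p ⁻¹' X' ∩ q ⁻¹' Y' → w = v := by
      intro w hw hwA
      have h1 : W ⊆ closure {w} := by
        rw [hWv]; exact specializes_iff_closure_subset.1 hw
      have h2 : closure {w} ⊆ W :=
        hmax ⟨isIrreducible_singleton.closure, hA.closure_subset_iff.2 (Set.singleton_subset_iff.2 hwA)⟩ h1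
      exact IsGenericPoint.eq (S := W) (le_antisymm h2 h1) hWv.symm
    obtain ⟨x, hx⟩ : ∃ x, IsGenericPoint x X' := QuasiSober.sober hX'.1 (hXc X' hX')
    obtain ⟨y, hy⟩ : ∃ y, IsGenericPoint y Y' := QuasiSober.sober hY'.1 (hYc Y' hY')
    have hpv : p v = x := by
      obtain ⟨w, hw, hwp, hwq⟩ := ProdComp12.exists_generalization hP (hYc Y' hY') hvA.2
        (hx.specializes hvA.1)
      rw [← hmem w hw ⟨show p w ∈ X' by rw [hwp]; exact hx.mem, hwq⟩, hwp]
    have hqv : q v = y := by
      obtain ⟨w, hw, hwq, hwp⟩ := ProdComp12.exists_generalization hP.flip (hXc X' hX') hvA.1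
        (hy.specializes hvA.2)
      rw [← hmem w hw ⟨hwp, show q w ∈ Y' by rw [hwq]; exact hy.mem⟩, hwq]
    obtain ⟨w, hw⟩ : ∃ w, IsGenericPoint w (irreducibleComponent v) :=
      QuasiSober.sober isIrreducible_irreducibleComponent isClosed_irreducibleComponent
    have hwv : w ⤳ v := hw.specializes mem_irreducibleComponent
    have hwx : p w ∈ X' := ProdComp12.mem_of_specializes hX' hx (hpv ▸ hwv.map p.continuous)
    have hwy : q w ∈ Y' := ProdComp12.mem_of_specializes hY' hy (hqv ▸ hwv.map q.continuous)
    obtain rfl := hmem w hwv ⟨hwx, hwy⟩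
    rw [hWv, hw.def]
    exact irreducibleComponent_mem_irreducibleComponents _


end Groth.Agent.S4672
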