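import Groth.Statements.S4673
import Groth.Agent.Lib.DimF18.Bc

set_option autoImplicit false
open CategoryTheory AlgebraicGeometry
universe u
open FBase

namespace Groth.Agent.S4673

/-- Let X be a scheme locally of finite type over a field k and K an extension field of k. Then the set
of dimensions of the irreducible components of X ⊗_k K is equal to the set of dimensions of the
irreducible components of X (Krull dimensions of the underlying spaces, valued in WithBot ℕ∞). -/
theorem result {k K : Type u} [Field k] [Field K] [Algebra k K]
    {X : Scheme.{u}} (f : X ⟶ Spec (CommRingCat.of k)) [LocallyOfFiniteType f] :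
    (fun Z : Set ↥(FBase.bc f K) => topologicalKrullDim ↥Z) '' irreducibleComponents ↥(FBase.bc f K) =
      (fun Z : Set ↥X => topologicalKrullDim ↥Z) '' irreducibleComponents ↥X := by
  let B : Scheme.{u} := FBase.bc f K
  let pr : B ⟶ X := Limits.pullback.fst f _
  let q : B ⟶ Spec (CommRingCat.of K) := Limits.pullback.snd f _
  have sq : IsPullback pr q f (Spec.map (CommRingCat.ofHom (algebraMap k K))) := IsPullback.of_hasPullback f _
  haveI : LocallyOfFiniteType q := MorphismProperty.of_isPullback sq inferInstance
  haveI : Flat pr := MorphismProperty.of_isPullback sq.flip inferInstance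
  have himg : ∀ m : B, (∀ x, x ⤳ m → x = m) → (∀ x, x ⤳ pr m → x = pr m) := fun m hm x hx => by
    obtain ⟨w, hw, hwx⟩ := DimF18.exists_lift_specializes pr hx
    rw [← hwx, hm w hw]
  have heq : ∀ m : B, (∀ x, x ⤳ m → x = m) → VarDim.sdim q m = VarDim.sdim f (pr m) := fun m hm =>
    (DimF18.sdim_bc sq m).2 fun w hw _ => hm w hw
  ext d
  constructor
  · rintro ⟨Z, hZ, rfl⟩
    obtain ⟨m, rfl, hm⟩ := VarDim.exists_generic_of_mem_irreducibleComponents (X := B) hZ
    refine ⟨closure {pr m}, (VarDim.maximal_iff_mem_irreducibleComponents (pr m)).1 (himg m hm), ?_⟩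
    show topologicalKrullDim (closure {pr m} : Set X) = topologicalKrullDim (closure {m} : Set B)
    rw [VarDim.dim_closure_singleton f, VarDim.dim_closure_singleton q, heq m hm]
  · rintro ⟨Z, hZ, rfl⟩
    obtain ⟨x, rfl, hx⟩ := VarDim.exists_generic_of_mem_irreducibleComponents hZ
    obtain ⟨m, hmx, hm⟩ := DimF18.exists_over sq x
    have hmax : ∀ w, w ⤳ m → w = m := fun w hw => by
      by_contra hne
      have h1 := VarDim.sdim_lt_of_specializes q hw hne
      have h2 : pr w = x := hx _ (hmx ▸ hw.map pr.continuous)
      have h3 := (DimF18.sdim_bc sq w).1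
      rw [h2] at h3
      omega
    refine ⟨closure {m}, (VarDim.maximal_iff_mem_irreducibleComponents (X := B) m).1 hmax, ?_⟩
    show topologicalKrullDim (closure {m} : Set B) = topologicalKrullDim (closure {x} : Set X)
    rw [VarDim.dim_closure_singleton f, VarDim.dim_closure_singleton q, hm]

end Groth.Agent.S4673
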