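import Groth.Statements.S4674
import Mathlib.RingTheory.Flat.Basic
import Mathlib.RingTheory.TensorProduct.Pi
import Mathlib.RingTheory.Finiteness.Cardinality
import Mathlib.Algebra.Module.Torsion.Free

set_option autoImplicit false
open scoped TensorProduct
universe u v w
open FDesc

namespace Groth.Agent.S4674

/-- Let B be a flat A-algebra and M a finitely presented A-module. Then the annihilator of the B-module
B ⊗_A M is the ideal of B generated by the image of the annihilator of M. -/
theorem result {A : Type u} {B : Type v} [CommRing A] [CommRing B] [Algebra A B]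
    [Module.Flat A B] (M : Type w) [AddCommGroup M] [Module A M] [Module.FinitePresentation A M] :
    Module.annihilator B (B ⊗[A] M) = (Module.annihilator A M).map (algebraMap A B) := by
  obtain ⟨n, s, hs⟩ := Module.Finite.exists_fin (R := A) (M := M)
  let f : A →ₗ[A] (Fin n → M) := LinearMap.pi fun i => LinearMap.toSpanSingleton A M (s i)
  let I := Module.annihilator A M
  have hker : LinearMap.ker f = I := by
    ext a
    simp only [LinearMap.mem_ker, f, funext_iff, LinearMap.pi_apply,
      LinearMap.toSpanSingleton_apply, Pi.zero_apply, I, Module.mem_annihilator]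
    refine ⟨fun h m => ?_, fun h i => h (s i)⟩
    have hm : m ∈ Submodule.span A (Set.range s) := hs ▸ Submodule.mem_top
    induction hm using Submodule.span_induction with
    | mem x hx => obtain ⟨i, rfl⟩ := hx; exact h i
    | zero => exact smul_zero _
    | add x y _ _ hx hy => rw [smul_add, hx, hy, add_zero]
    | smul r x _ hx => rw [smul_comm, hx, smul_zero]
  refine le_antisymm (fun b hb => ?_) ?_
  · rw [Module.mem_annihilator] at hb
    have h0 : f.lTensor B (b ⊗ₜ[A] (1 : A)) = 0 := by
      apply (TensorProduct.piRight A A B (fun _ : Fin n => M)).injective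
      ext i
      simp only [LinearMap.lTensor_tmul, TensorProduct.piRight_apply, TensorProduct.piRightHom_tmul,
        map_zero, Pi.zero_apply, f, LinearMap.pi_apply, LinearMap.toSpanSingleton_apply, one_smul]
      simpa [TensorProduct.smul_tmul'] using hb (1 ⊗ₜ[A] s i)
    have hex : Function.Exact (LinearMap.ker f).subtype f :=
      LinearMap.exact_subtype_ker_map f
    obtain ⟨z, hz⟩ := (Module.Flat.lTensor_exact B hex _).1 h0
    have key : ∀ w : B ⊗[A] (LinearMap.ker f),
        TensorProduct.rid A B ((LinearMap.ker f).subtype.lTensor B w) ∈
          I.map (algebraMap A B) := by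
      intro w
      induction w with
      | zero => simp
      | add x y hx hy => rw [map_add, map_add]; exact add_mem hx hy
      | tmul c a =>
        rw [LinearMap.lTensor_tmul, TensorProduct.rid_tmul, Algebra.smul_def, Submodule.subtype_apply]
        exact Ideal.mul_mem_right _ _ (Ideal.mem_map_of_mem _ (hker ▸ a.2))
    simpa [hz] using key z
  · rw [Ideal.map_le_iff_le_comap]
    intro a ha
    rw [Ideal.mem_comap, Module.mem_annihilator]
    intro z
    induction z with
    | zero => simp
    | add x y hx hy => rw [smul_add, hx, hy, add_zero]
    | tmul c m =>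
      rw [algebraMap_smul, TensorProduct.smul_tmul', TensorProduct.smul_tmul,
        Module.mem_annihilator.1 ha m, TensorProduct.tmul_zero]

end Groth.Agent.S4674
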