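import Groth.Statements.S4675
import Mathlib.LinearAlgebra.Isomorphisms


set_option autoImplicit false
universe u v
open FDesc

namespace Groth.Agent.S4675

/-- Let B be a ring, not necessarily commutative, and V, W two left B-modules which are isomorphic. For
a B-linear map u : V → W the following are equivalent: every B-linear map V → W can be written
uniquely as u ∘ c with c a B-linear endomorphism of V (that is, u is a basis of Hom_B(V, W) for its
right module structure over End_B(V)); u is bijective. -/
theorem result {B : Type u} [Ring B] {V W : Type v} [AddCommGroup V] [AddCommGroup W]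
    [Module B V] [Module B W] (e : V ≃ₗ[B] W) (u : V →ₗ[B] W) :
    (∀ v : V →ₗ[B] W, ∃! c : V →ₗ[B] V, v = u ∘ₗ c) ↔ Function.Bijective u := by
  constructor
  · intro h
    obtain ⟨c, hc, -⟩ := h e.toLinearMap
    have hsurj : Function.Surjective u := fun w =>
      ⟨c (e.symm w), by simpa using (LinearMap.congr_fun hc (e.symm w)).symm⟩
    refine ⟨fun x y hxy => ?_, hsurj⟩
    have hp : u ∘ₗ (LinearMap.id - c ∘ₗ e.symm.toLinearMap ∘ₗ u) = u ∘ₗ 0 := by
      ext z
      have := LinearMap.congr_fun hc (e.symm (u z))
      simp only [LinearMap.comp_apply, LinearMap.sub_apply, map_sub, LinearMap.id_apply,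
        LinearMap.zero_apply, map_zero, LinearEquiv.coe_coe, LinearEquiv.apply_symm_apply] at this ⊢
      rw [← this, sub_self]
    obtain ⟨d, -, hd⟩ := h (u ∘ₗ 0)
    have h0 := (hd _ hp.symm).trans (hd 0 rfl).symm
    have hx := LinearMap.congr_fun (sub_eq_zero.mp h0) x
    have hy := LinearMap.congr_fun (sub_eq_zero.mp h0) y
    simp only [LinearMap.id_apply, LinearMap.comp_apply] at hx hy
    rw [hx, hy, hxy]
  · intro hu v
    let i := LinearEquiv.ofBijective u hu
    refine ⟨i.symm.toLinearMap ∘ₗ v, ?_, ?_⟩
    · ext x
      exact (i.apply_symm_apply (v x)).symm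
    · rintro c rfl
      ext x
      exact (i.symm_apply_apply (c x)).symm

end Groth.Agent.S4675
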