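import Groth.Statements.S5061
import Groth.Agent.Lib.GeomRed18.Perfect
import Mathlib

set_option autoImplicit false
open scoped TensorProduct
universe u
open EGA418

namespace Groth.Agent.S5061

section Aux
open TensorProduct

variable (p : ℕ) [Fact p.Prime] {k : Type u} [Field k] [CharP k p] (K P : Type u) [Field K] [Algebra k K]
  [Field P] [Algebra k P] [IsPurelyInseparable k P]

theorem exists_pow_mem (x : P ⊗[k] K) : ∃ (m : ℕ) (a : K), x ^ p ^ m = (1 : P) ⊗ₜ[k] a := by
  haveI : ExpChar k p := ExpChar.prime Fact.out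
  haveI : CharP (P ⊗[k] K) p := charP_of_injective_algebraMap (algebraMap k (P ⊗[k] K)).injective p
  induction x using TensorProduct.induction_on with
  | zero => exact ⟨0, 0, by simp⟩
  | tmul c x =>
    obtain ⟨n, a, ha⟩ := IsPurelyInseparable.pow_mem k p c
    refine ⟨n, a • x ^ p ^ n, ?_⟩
    rw [Algebra.TensorProduct.tmul_pow, ← ha, Algebra.algebraMap_eq_smul_one, TensorProduct.smul_tmul]
  | add x y hx hy =>
    obtain ⟨m, a, ha⟩ := hx
    obtain ⟨n, b, hb⟩ := hy
    refine ⟨m + n, a ^ p ^ n + b ^ p ^ m, ?_⟩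
    rw [add_pow_char_pow, TensorProduct.tmul_add, pow_add]
    congr 1
    · rw [pow_mul, ha, Algebra.TensorProduct.tmul_pow, one_pow]
    · rw [mul_comm, pow_mul, hb, Algebra.TensorProduct.tmul_pow, one_pow]

include p in
/-- the nilradical is the only prime -/
theorem eq_nilradical (Q : Ideal (P ⊗[k] K)) (hQ : Q.IsPrime) : Q = nilradical (P ⊗[k] K) := by
  refine le_antisymm (fun x hx => ?_) (nilradical_le_prime Q)
  obtain ⟨m, a, ha⟩ := exists_pow_mem p K P x
  rcases eq_or_ne a 0 with rfl | h
  · exact ⟨p ^ m, by rw [ha, TensorProduct.tmul_zero]; rfl⟩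
  · exfalso
    refine hQ.ne_top (Ideal.eq_top_of_isUnit_mem _ (Q.pow_mem_of_mem hx _ (pow_pos (Fact.out : p.Prime).pos m)) ?_)
    rw [ha]
    exact (IsUnit.mk0 a h).map (Algebra.TensorProduct.includeRight : K →ₐ[k] P ⊗[k] K)

include p in
theorem isArtinianRing_iff_fg : IsArtinianRing (P ⊗[k] K) ↔ (nilradical (P ⊗[k] K)).FG := by
  refine ⟨fun h => IsNoetherian.noetherian _, fun h => ?_⟩
  haveI : IsNoetherianRing (P ⊗[k] K) := IsNoetherianRing.of_prime fun Q hQ => by
    rw [eq_nilradical p K P Q hQ]; exact h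
  refine isArtinianRing_iff_isNoetherianRing_krullDimLE_zero.2 ⟨inferInstance, Ring.krullDimLE_zero_iff.2 fun Q hQ => ?_⟩
  obtain ⟨M, hM, hle⟩ := Ideal.exists_le_maximal Q hQ.ne_top
  rwa [eq_nilradical p K P Q hQ, ← eq_nilradical p K P M hM.isPrime]

/-- enlarging the level -/
noncomputable def incMap {E F : IntermediateField k P} (h : E ≤ F) : E ⊗[k] K →ₐ[k] F ⊗[k] K :=
  Algebra.TensorProduct.map (IntermediateField.inclusion h) (AlgHom.id k K)

omit [IsPurelyInseparable k P] in
theorem map_incMap {E F : IntermediateField k P} (h : E ≤ F) (z : E ⊗[k] K) :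
    Algebra.TensorProduct.map F.val (AlgHom.id k K) (incMap K P h z) =
      Algebra.TensorProduct.map E.val (AlgHom.id k K) z := by
  rw [incMap, ← AlgHom.comp_apply, ← Algebra.TensorProduct.map_comp]
  rfl

theorem exists_finite_level (x : P ⊗[k] K) :
    ∃ E : IntermediateField k P, FiniteDimensional k E ∧
      ∃ z, Algebra.TensorProduct.map E.val (AlgHom.id k K) z = x := by
  induction x using TensorProduct.induction_on with
  | zero => exact ⟨⊥, inferInstance, 0, map_zero _⟩
  | tmul c x =>
    exact ⟨IntermediateField.adjoin k {c}, IntermediateField.adjoin.finiteDimensional (Algebra.IsIntegral.isIntegral c),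
      ⟨c, IntermediateField.mem_adjoin_simple_self k c⟩ ⊗ₜ x, rfl⟩
  | add x y hx hy =>
    obtain ⟨E, hE, a, rfl⟩ := hx
    obtain ⟨F, hF, b, rfl⟩ := hy
    refine ⟨E ⊔ F, inferInstance, incMap K P (le_sup_left : E ≤ E ⊔ F) a + incMap K P (le_sup_right : F ≤ E ⊔ F) b, ?_⟩
    rw [map_add]
    congr 1 <;> exact map_incMap K P _ _

theorem exists_finite_level_finset (s : Finset (P ⊗[k] K)) :
    ∃ E : IntermediateField k P, FiniteDimensional k E ∧
      ∀ x ∈ s, ∃ z, Algebra.TensorProduct.map E.val (AlgHom.id k K) z = x := by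
  classical
  induction s using Finset.induction_on with
  | empty => exact ⟨⊥, inferInstance, by simp⟩
  | insert x s hx ih =>
    obtain ⟨E, hE, hs⟩ := ih
    obtain ⟨F, hF, hxF⟩ := exists_finite_level K P x
    refine ⟨E ⊔ F, inferInstance, fun y hy => ?_⟩
    rcases Finset.mem_insert.1 hy with rfl | hy
    · obtain ⟨z, rfl⟩ := hxF
      exact ⟨incMap K P (le_sup_right : F ≤ E ⊔ F) z, map_incMap K P _ _⟩
    · obtain ⟨z, rfl⟩ := hs y hy
      exact ⟨incMap K P (le_sup_left : E ≤ E ⊔ F) z, map_incMap K P _ _⟩

variable {p}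

theorem fg_of_geomReduced {k' A R : Type u} [Field k'] [CommRing A] [IsNoetherianRing A] [CommRing R] [Algebra k' A]
    [Algebra k' P] (c : P ⊗[k'] A ≃+* R) [Algebra.IsGeometricallyReduced k' (A ⧸ nilradical A)] :
    (nilradical R).FG := by
  let g := Ideal.Quotient.mkₐ k' (nilradical A)
  have hle : nilradical (P ⊗[k'] A) ≤
      (nilradical A).map (Algebra.TensorProduct.includeRight : A →ₐ[k'] P ⊗[k'] A) := by
    intro x hx
    haveI : IsReduced ((A ⧸ nilradical A) ⊗[k'] P) := GeomRed.isReduced_tensor_field k' P (A ⧸ nilradical A)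
    haveI : IsReduced (P ⊗[k'] (A ⧸ nilradical A)) :=
      isReduced_of_injective (Algebra.TensorProduct.comm k' P _).toAlgHom (Algebra.TensorProduct.comm k' P _).injective
    have h := Algebra.TensorProduct.lTensor_ker (A := P) g Ideal.Quotient.mk_surjective
    have hk : RingHom.ker g = nilradical A := Ideal.mk_ker
    rw [hk] at h
    rw [← h, RingHom.mem_ker]
    exact IsReduced.eq_zero _ ((mem_nilradical.1 hx).map _)
  have e : nilradical (P ⊗[k'] A) = (nilradical A).map (Algebra.TensorProduct.includeRight : A →ₐ[k'] P ⊗[k'] A) :=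
    le_antisymm hle (Ideal.map_le_iff_le_comap.2 fun x hx => (mem_nilradical.1 hx).map _)
  have h3 : nilradical R = (nilradical (P ⊗[k'] A)).map c := by
    rw [← Ideal.comap_symm]
    ext x
    rw [Ideal.mem_comap, mem_nilradical, mem_nilradical, IsNilpotent.map_iff c.symm.injective]
  rw [h3, e]
  exact Ideal.FG.map (Ideal.FG.map (IsNoetherian.noetherian (nilradical A) : (nilradical A).FG)
    (Algebra.TensorProduct.includeRight : A →ₐ[k'] P ⊗[k'] A).toRingHom) c.toRingHom

theorem geomReduced_of_gens {k' A R : Type u} [Field k'] [CommRing A] [CommRing R] [Algebra k' A]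
    [Algebra k' P] [PerfectField P] (c : P ⊗[k'] A ≃+* R) (s : Set R) (hs : Ideal.span s = nilradical R)
    (hsA : ∀ x ∈ s, ∃ z : A, c (1 ⊗ₜ z) = x) :
    Algebra.IsGeometricallyReduced k' (A ⧸ nilradical A) := by
  let g := Ideal.Quotient.mkₐ k' (nilradical A)
  have hker := Algebra.TensorProduct.lTensor_ker (A := P) g Ideal.Quotient.mk_surjective
  have hk : RingHom.ker g = nilradical A := Ideal.mk_ker
  rw [hk] at hker
  let ι : A →ₐ[k'] P ⊗[k'] A := Algebra.TensorProduct.includeRight
  haveI : IsReduced (P ⊗[k'] (A ⧸ nilradical A)) := by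
    refine ⟨fun w hw => ?_⟩
    obtain ⟨v, rfl⟩ := TensorProduct.map_surjective (g := (LinearMap.id : P →ₗ[k'] P))
      (g' := g.toLinearMap) Function.surjective_id Ideal.Quotient.mk_surjective w
    show Algebra.TensorProduct.map (AlgHom.id k' P) g v = 0
    rw [← RingHom.mem_ker, hker]
    obtain ⟨m, hm⟩ := hw
    replace hm : (Algebra.TensorProduct.map (AlgHom.id k' P) g v) ^ m = 0 := hm
    rw [← map_pow, ← RingHom.mem_ker, hker] at hm
    have hle : (nilradical A).map ι ≤ nilradical _ :=
      Ideal.map_le_iff_le_comap.2 fun x hx => (mem_nilradical.1 hx).map _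
    have hcv : c v ∈ nilradical R := by
      obtain ⟨l, hl⟩ := mem_nilradical.1 (hle hm)
      exact ⟨m * l, by rw [← map_pow, pow_mul, hl, map_zero]; rfl⟩
    have hι : Function.Injective ι :=
      Algebra.TensorProduct.includeRight_injective (algebraMap k' P).injective
    have hmap : nilradical R ≤ ((nilradical A).map ι).comap c.symm := by
      rw [← hs, Ideal.span_le]
      intro x hx
      obtain ⟨z, rfl⟩ := hsA x hx
      have h1 : c (ι z) ∈ nilradical R := hs ▸ Ideal.subset_span hx
      have hz : z ∈ nilradical A := (IsNilpotent.map_iff hι).1 ((IsNilpotent.map_iff c.injective).1 h1)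
      rw [SetLike.mem_coe, Ideal.mem_comap, c.symm_apply_apply]
      exact Ideal.mem_map_of_mem ι hz
    have h2 := hmap hcv
    rwa [Ideal.mem_comap, c.symm_apply_apply] at h2
  haveI : IsReduced ((A ⧸ nilradical A) ⊗[k'] P) :=
    isReduced_of_injective (Algebra.TensorProduct.comm k' _ P).toAlgHom (Algebra.TensorProduct.comm k' _ P).injective
  exact GeomRed.isGeometricallyReduced_of_perfect P _

end Aux


/-- a) iff c): let k be a field of characteristic p > 0, P a perfect closure of k (a perfect field
purely inseparable over k) and K an extension field of k. Then the ring K ⊗_k P is Artinian if and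
only if there exists a finite purely inseparable extension k' of k such that (k' ⊗_k K) modulo its
nilradical is geometrically reduced over k'. -/
theorem result (p : ℕ) [Fact p.Prime]
    (k K : Type u) [Field k] [CharP k p] [Field K] [Algebra k K]
    (P : Type u) [Field P] [Algebra k P] [PerfectRing P p] [IsPRadical (algebraMap k P) p] :
    IsArtinianRing (K ⊗[k] P) ↔
      ∃ (k' : Type u) (_ : Field k') (_ : Algebra k k'), Module.Finite k k' ∧ IsPurelyInseparable k k' ∧
        Algebra.IsGeometricallyReduced k' ((k' ⊗[k] K) ⧸ nilradical (k' ⊗[k] K)) := by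
  classical
  haveI : ExpChar k p := ExpChar.prime Fact.out
  haveI : CharP P p := charP_of_injective_algebraMap (algebraMap k P).injective p
  haveI : IsPurelyInseparable k P := (isPurelyInseparable_iff_pow_mem k p).2 (IsPRadical.pow_mem (algebraMap k P) p)
  haveI : ExpChar P p := ExpChar.prime Fact.out
  haveI : PerfectField P := PerfectRing.toPerfectField P p
  have e : IsArtinianRing (K ⊗[k] P) ↔ IsArtinianRing (P ⊗[k] K) :=
    ⟨fun _ => (Algebra.TensorProduct.comm k K P).toRingEquiv.isArtinianRing,
      fun _ => (Algebra.TensorProduct.comm k P K).toRingEquiv.isArtinianRing⟩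
  rw [e, isArtinianRing_iff_fg p K P]
  constructor
  · intro h
    obtain ⟨s, hs⟩ := h
    obtain ⟨E, hE, hsE⟩ := exists_finite_level_finset K P s
    refine ⟨E, inferInstance, inferInstance, hE, inferInstance, ?_⟩
    refine geomReduced_of_gens P (Algebra.TensorProduct.cancelBaseChange k E P P K).toRingEquiv s hs fun x hx => ?_
    obtain ⟨z, rfl⟩ := hsE x hx
    refine ⟨z, ?_⟩
    show Algebra.TensorProduct.cancelBaseChange k E P P K (1 ⊗ₜ z) = _
    clear hx
    induction z using TensorProduct.induction_on with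
    | zero => simp
    | tmul a x =>
      rw [Algebra.TensorProduct.cancelBaseChange_tmul, Algebra.TensorProduct.map_tmul, Algebra.smul_def, mul_one]
      rfl
    | add x y hx hy => rw [TensorProduct.tmul_add, map_add, map_add, hx, hy]
  rintro ⟨k', _, _, hfin, hpi, hgr⟩
  haveI := hfin
  haveI := hpi
  haveI := hgr
  haveI : CharP k' p := charP_of_injective_algebraMap (algebraMap k k').injective p
  haveI : ExpChar k' p := ExpChar.prime Fact.out
  letI : Algebra k' P := (PerfectRing.lift (algebraMap k k') (algebraMap k P) p).toAlgebra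
  haveI : IsScalarTower k k' P := IsScalarTower.of_algebraMap_eq fun x =>
    (PerfectRing.lift_comp_apply (algebraMap k k') (algebraMap k P) p x).symm
  haveI : IsNoetherianRing (k' ⊗[k] K) := by
    haveI : IsNoetherianRing (K ⊗[k] k') := IsNoetherianRing.of_finite K _
    exact isNoetherianRing_of_ringEquiv _ (Algebra.TensorProduct.comm k K k').toRingEquiv
  exact fg_of_geomReduced P (Algebra.TensorProduct.cancelBaseChange k k' P P K).toRingEquiv

end Groth.Agent.S5061
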