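import Groth.Statements.S4677
import Groth.Agent.S5061
import Mathlib

set_option autoImplicit false
open scoped TensorProduct
universe u
open FBase

namespace Groth.Agent.S4677

open TensorProduct


/-- Let K be a finitely generated extension field of a field k. Then there exists a finite purely
inseparable extension k' of k such that, for every maximal ideal m of the ring k' ⊗_k K, the residue
field (k' ⊗_k K)/m is geometrically reduced over k' (a separable, not necessarily algebraic,
extension of k'). -/
theorem result {k K : Type u} [Field k] [Field K] [Algebra k K]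
    [Algebra.EssFiniteType k K] :
    ∃ (k' : Type u) (_ : Field k') (_ : Algebra k k'), FiniteDimensional k k' ∧ IsPurelyInseparable k k' ∧
      ∀ (m : Ideal (k' ⊗[k] K)), m.IsMaximal → Algebra.IsGeometricallyReduced k' ((k' ⊗[k] K) ⧸ m) := by
  classical
  obtain ⟨p, _⟩ := CharP.exists k
  rcases CharP.char_is_prime_or_zero k p with hp | hp
  · haveI := Fact.mk hp
    letI : Algebra k (PerfectClosure k p) := (PerfectClosure.of k p).toAlgebra
    haveI : IsPRadical (algebraMap k (PerfectClosure k p)) p := PerfectClosure.isPRadical k p
    haveI : ExpChar k p := ExpChar.prime hp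
    haveI : IsPurelyInseparable k (PerfectClosure k p) :=
      (isPurelyInseparable_iff_pow_mem k p).2 (IsPRadical.pow_mem (algebraMap k (PerfectClosure k p)) p)
    haveI : IsNoetherianRing (PerfectClosure k p ⊗[k] K) :=
      Algebra.EssFiniteType.isNoetherianRing (PerfectClosure k p) _
    haveI : IsArtinianRing (PerfectClosure k p ⊗[k] K) :=
      (S5061.isArtinianRing_iff_fg p K (PerfectClosure k p)).2 (IsNoetherian.noetherian _)
    haveI : IsArtinianRing (K ⊗[k] PerfectClosure k p) :=
      (Algebra.TensorProduct.comm k (PerfectClosure k p) K).toRingEquiv.isArtinianRing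
    obtain ⟨k', _, _, hfin, hpi, hgr⟩ := (S5061.result p k K (PerfectClosure k p)).1 inferInstance
    haveI := hpi
    refine ⟨k', inferInstance, inferInstance, hfin, hpi, fun m hm => ?_⟩
    rw [S5061.eq_nilradical p K k' m hm.isPrime]
    exact hgr
  · subst hp
    haveI : CharZero k := CharP.charP_to_charZero k
    refine ⟨k, inferInstance, inferInstance, inferInstance, inferInstance, fun m hm => ?_⟩
    haveI := hm
    letI := Ideal.Quotient.field m
    haveI : IsReduced (((k ⊗[k] K) ⧸ m) ⊗[k] k) :=
      isReduced_of_injective (Algebra.TensorProduct.rid k k ((k ⊗[k] K) ⧸ m)).toAlgHom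
        (Algebra.TensorProduct.rid k k ((k ⊗[k] K) ⧸ m)).injective
    exact GeomRed.isGeometricallyReduced_of_perfect k _

end Groth.Agent.S4677
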