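import Groth.Statements.S4681
import Mathlib.RingTheory.Flat.FaithfullyFlat.Basic
import Mathlib.RingTheory.Flat.Stability
import Mathlib.AlgebraicGeometry.Morphisms.Flat

set_option backward.isDefEq.respectTransparency.types false

set_option autoImplicit false
open CategoryTheory AlgebraicGeometry
universe u
open FDesc

namespace Groth.Agent.S4681

open TensorProduct in
theorem flat_of_faithfullyFlat_module (A B P : Type u) [CommRing A] [CommRing B] [AddCommGroup P]
    [Algebra A B] [Module B P] [Module A P] [IsScalarTower A B P]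
    [Module.FaithfullyFlat B P] [Module.Flat A P] : Module.Flat A B := by
  rw [Module.Flat.iff_lTensor_preserves_injective_linearMap]
  intro N M _ _ _ _ f hf
  let g := AlgebraTensorModule.lTensor B B f
  change Function.Injective g
  rw [← Module.FaithfullyFlat.lTensor_injective_iff_injective B P g]
  have h : LinearMap.lTensor P g =
      ((AlgebraTensorModule.cancelBaseChange A B B P M).symm.toLinearMap ∘ₗ
        AlgebraTensorModule.lTensor B P f) ∘ₗ
        (AlgebraTensorModule.cancelBaseChange A B B P N).toLinearMap := by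
    ext c n
    simp [g]
  rw [h]
  have : Function.Injective (AlgebraTensorModule.lTensor B P f) :=
    Module.Flat.lTensor_preserves_injective_linearMap (M := P) f hf
  simpa using this

theorem smul_top_ne_mono (A B P : Type u) [CommRing A] [CommRing B] [AddCommGroup P]
    [Algebra A B] [Module B P] [Module A P] [IsScalarTower A B P] [IsLocalRing A] [IsLocalRing B]
    [IsLocalHom (algebraMap A B)]
    (h : IsLocalRing.maximalIdeal B • (⊤ : Submodule B P) ≠ ⊤) :
    IsLocalRing.maximalIdeal A • (⊤ : Submodule A P) ≠ ⊤ := fun hA => h <| eq_top_iff.2 fun x _ => by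
  have hx : x ∈ IsLocalRing.maximalIdeal A • (⊤ : Submodule A P) := by rw [hA]; exact Submodule.mem_top
  refine Submodule.smul_induction_on hx (fun a ha m _ => ?_) (fun a b ha hb => add_mem ha hb)
  rw [← algebraMap_smul B a m]
  refine Submodule.smul_mem_smul ?_ Submodule.mem_top
  rw [IsLocalRing.mem_maximalIdeal, mem_nonunits_iff] at ha ⊢
  exact fun hu => ha ((isUnit_map_iff (algebraMap A B) a).1 hu)

theorem faithfullyFlat_of_local (B P : Type u) [CommRing B] [AddCommGroup P] [Module B P] [IsLocalRing B]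
    [Module.Flat B P] (h : IsLocalRing.maximalIdeal B • (⊤ : Submodule B P) ≠ ⊤) : Module.FaithfullyFlat B P :=
  ⟨fun m hm => by rw [IsLocalRing.eq_maximalIdeal hm]; exact h⟩

theorem stalk_facts {X Y Z : Scheme.{u}} (f : X ⟶ Y) (g : Y ⟶ Z) (F : X.Modules) (x : X)
    (hF : FlatMod.IsFlatOverAt f F x) :
    ((g.stalkMap (f x)).hom.Flat → FlatMod.IsFlatOverAt (f ≫ g) F x) ∧
    (letI := FlatMod.moduleStalkOver f F x
     IsLocalRing.maximalIdeal (Y.presheaf.stalk (f x)) • (⊤ : Submodule (Y.presheaf.stalk (f x)) (F.presheaf.stalk x)) ≠ ⊤ →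
      (FlatMod.IsFlatOverAt (f ≫ g) F x → (g.stalkMap (f x)).hom.Flat) ∧
      (letI := FlatMod.moduleStalkOver (f ≫ g) F x
       IsLocalRing.maximalIdeal (Z.presheaf.stalk ((f ≫ g) x)) •
        (⊤ : Submodule (Z.presheaf.stalk ((f ≫ g) x)) (F.presheaf.stalk x)) ≠ ⊤)) := by
  letI mB := FlatMod.moduleStalkOver f F x
  letI mA : Module (Z.presheaf.stalk (g (f x))) (F.presheaf.stalk x) := FlatMod.moduleStalkOver (f ≫ g) F x
  letI : Algebra (Z.presheaf.stalk (g (f x))) (Y.presheaf.stalk (f x)) := (g.stalkMap (f x)).hom.toAlgebra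
  haveI : IsScalarTower (Z.presheaf.stalk (g (f x))) (Y.presheaf.stalk (f x)) (F.presheaf.stalk x) :=
    IsScalarTower.of_algebraMap_smul fun a m => by
      show (f.stalkMap x).hom ((g.stalkMap (f x)).hom a) • m = ((f ≫ g).stalkMap x).hom a • m
      rw [Scheme.Hom.stalkMap_comp]
      rfl
  haveI : IsLocalHom (algebraMap (Z.presheaf.stalk (g (f x))) (Y.presheaf.stalk (f x))) :=
    inferInstanceAs <| IsLocalHom (g.stalkMap (f x)).hom
  haveI hBP : Module.Flat (Y.presheaf.stalk (f x)) (F.presheaf.stalk x) := hF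
  refine ⟨fun hg => ?_, fun hne => ⟨fun hflat => ?_, smul_top_ne_mono (Z.presheaf.stalk (g (f x))) (Y.presheaf.stalk (f x)) _ hne⟩⟩
  · haveI : Module.Flat (Z.presheaf.stalk (g (f x))) (Y.presheaf.stalk (f x)) := hg
    exact Module.Flat.trans (Z.presheaf.stalk (g (f x))) (Y.presheaf.stalk (f x)) (F.presheaf.stalk x)
  · haveI := faithfullyFlat_of_local _ _ hne
    haveI : Module.Flat (Z.presheaf.stalk (g (f x))) (F.presheaf.stalk x) := hflat
    exact flat_of_faithfullyFlat_module (Z.presheaf.stalk (g (f x))) (Y.presheaf.stalk (f x)) (F.presheaf.stalk x)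

/-- Let f : X → Y and g : Y → Z be morphisms of schemes and F a quasi-coherent O_X-module which is
faithfully flat relative to Y: flat over Y, and for every point y of Y there is a point x over y
with F_x ⊗ κ(y) ≠ 0. Then g is flat and surjective (faithfully flat) if and only if F is faithfully
flat relative to Z for the morphism f followed by g: flat over Z, and for every point z of Z there
is a point x of X over z with F_x ⊗ κ(z) ≠ 0. -/
theorem result {X Y Z : Scheme.{u}} (f : X ⟶ Y) (g : Y ⟶ Z)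
    (F : X.Modules) (hF : Coh.IsQCoh F) (hFfl : FlatMod.IsFlatOver f F)
    (hFff : (∀ y : ↥Y, ∃ x : ↥X, f x = y ∧
      letI := FlatMod.moduleStalkOver f F x
      IsLocalRing.maximalIdeal (Y.presheaf.stalk (f x)) • (⊤ : Submodule (Y.presheaf.stalk (f x)) (F.presheaf.stalk x)) ≠ ⊤)) :
    (Flat g ∧ Surjective g) ↔
      (FlatMod.IsFlatOver (f ≫ g) F ∧
        (∀ z : ↥Z, ∃ x : ↥X, (f ≫ g) x = z ∧
      letI := FlatMod.moduleStalkOver (f ≫ g) F x
      IsLocalRing.maximalIdeal (Z.presheaf.stalk ((f ≫ g) x)) • (⊤ : Submodule (Z.presheaf.stalk ((f ≫ g) x)) (F.presheaf.stalk x)) ≠ ⊤)) := by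
  constructor
  · rintro ⟨hg, hs⟩
    refine ⟨fun x => (stalk_facts f g F x (hFfl x)).1 (Flat.stalkMap g (f x)), fun z => ?_⟩
    obtain ⟨y, rfl⟩ := g.surjective z
    obtain ⟨x, rfl, hx⟩ := hFff y
    exact ⟨x, rfl, ((stalk_facts f g F x (hFfl x)).2 hx).2⟩
  · rintro ⟨hfl, hne⟩
    refine ⟨Flat.of_stalkMap _ fun y => ?_, ⟨fun z => ?_⟩⟩
    · obtain ⟨x, rfl, hx⟩ := hFff y
      exact ((stalk_facts f g F x (hFfl x)).2 hx).1 (hfl x)
    · obtain ⟨x, hx, -⟩ := hne z
      exact ⟨f x, hx⟩

end Groth.Agent.S4681
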