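import Groth.Statements.S4682
import Groth.Agent.S4628
import Groth.Agent.Lib.SchImage.ReducedKer
import Groth.Agent.Lib.RedSep.Basic
-- import your own Groth.Agent.* helpers here

set_option autoImplicit false
set_option backward.isDefEq.respectTransparency false
open CategoryTheory AlgebraicGeometry
universe u
open FBase

open Groth.Agent
namespace Groth.Agent.S4682

/-- Let Y be a scheme over a field K', let K be an extension field of K' which is separable over K'
(Spec K → Spec K' is geometrically reduced), let g : Y ⊗_{K'} K → Y be the projection and T a closed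
subset of Y ⊗_{K'} K. Then T is defined over K' as a closed subset, that is T = g⁻¹(T') for some
closed subset T' of Y, if and only if the reduced closed subscheme of Y ⊗_{K'} K with support T is
defined over K', that is, there is a quasi-coherent ideal sheaf of O_Y whose inverse image in Y
⊗_{K'} K is the vanishing ideal sheaf of T. -/
theorem result {K' K : Type u} [Field K'] [Field K] [Algebra K' K]
    {Y : Scheme.{u}} (fY : Y ⟶ Spec (CommRingCat.of K'))
    [GeometricallyReduced (Spec.map (CommRingCat.ofHom (algebraMap K' K)))]
    (T : TopologicalSpace.Closeds ↥(FBase.bc fY K)) :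
    (∃ T' : TopologicalSpace.Closeds ↥Y, (T : Set ↥(FBase.bc fY K)) = ⇑(FBase.bcπ fY K) ⁻¹' (T' : Set ↥Y)) ↔
      ∃ J : Y.IdealSheafData, J.comap (FBase.bcπ fY K) = Scheme.IdealSheafData.vanishingIdeal T := by
  constructor
  · rintro ⟨T', hT'⟩
    refine ⟨Scheme.IdealSheafData.vanishingIdeal T', ?_⟩
    let J := Scheme.IdealSheafData.vanishingIdeal T'
    haveI : AlgebraicGeometry.IsReduced J.subscheme := RedSepLib.isReduced_vanishingIdeal_subscheme T'
    haveI : AlgebraicGeometry.IsReduced (CategoryTheory.Limits.pullback
        (Spec.map (CommRingCat.ofHom (algebraMap K' K))) (J.subschemeι ≫ fY)) := Groth.Agent.S4628.result _ _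
    haveI : AlgebraicGeometry.IsReduced (CategoryTheory.Limits.pullback (FBase.bcπ fY K) J.subschemeι) :=
      isReduced_of_isOpenImmersion (CategoryTheory.Limits.pullbackSymmetry _ _ ≪≫
        CategoryTheory.Limits.pullbackRightPullbackFstIso fY (Spec.map (CommRingCat.ofHom (algebraMap K' K))) J.subschemeι ≪≫
        CategoryTheory.Limits.pullbackSymmetry _ _ :
        CategoryTheory.Limits.pullback (FBase.bcπ fY K) J.subschemeι ≅ _).hom
    show (CategoryTheory.Limits.pullback.fst (FBase.bcπ fY K) J.subschemeι).ker = _
    rw [Groth.Agent.SchImage.ker_eq_vanishingIdeal]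
    congr 1
    ext1
    show closure (Set.range _) = (T : Set ↥(FBase.bc fY K))
    rw [Scheme.Pullback.range_fst, Scheme.IdealSheafData.range_subschemeι]
    show closure (⇑(FBase.bcπ fY K) ⁻¹' (T' : Set ↥Y)) = _
    rw [(T'.isClosed.preimage (FBase.bcπ fY K).continuous).closure_eq, hT']
  · rintro ⟨J, hJ⟩
    refine ⟨J.support, ?_⟩
    have h := congrArg Scheme.IdealSheafData.support hJ
    rw [Scheme.IdealSheafData.support_comap] at h
    exact (congrArg SetLike.coe h).symm

end Groth.Agent.S4682
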