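import Groth.Statements.S4683
import Groth.Agent.Lib.AssPts11.Quot

set_option autoImplicit false
open CategoryTheory AlgebraicGeometry
universe u
open AssSch

namespace Groth.Agent.S4683

/-- Let X be a locally Noetherian scheme and M a coherent O_X-module without embedded associated points.
Then M has only one reduced irredundant decomposition: if (q_x : M → G_x) and (q'_x : M → G'_x) are
two families of coherent quotients of M indexed by the associated points x of M, with Ass(G_x) =
Ass(G'_x) = {x} for every x and each family jointly monomorphic (M embeds in the product), then for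
every x there is an isomorphism G_x ≅ G'_x under M (it is unique, q_x being an epimorphism). -/
theorem result {X : Scheme.{u}} [IsLocallyNoetherian X] (M : X.Modules)
    (hM : Coh.IsCoh M) (hne : AssSch.NoEmbedded M)
    (G G' : ↥(AssSch.Ass M) → X.Modules) (q : ∀ x, M ⟶ G x) (q' : ∀ x, M ⟶ G' x)
    (hq : ∀ x, Epi (q x)) (hq' : ∀ x, Epi (q' x)) (hG : ∀ x, Coh.IsCoh (G x)) (hG' : ∀ x, Coh.IsCoh (G' x))
    (hA : ∀ x, AssSch.Ass (G x) = {x.1}) (hA' : ∀ x, AssSch.Ass (G' x) = {x.1})
    (hm : ∀ (T : X.Modules) (a b : T ⟶ M), (∀ x, a ≫ q x = b ≫ q x) → a = b)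
    (hm' : ∀ (T : X.Modules) (a b : T ⟶ M), (∀ x, a ≫ q' x = b ≫ q' x) → a = b) (x : ↥(AssSch.Ass M)) :
    ∃ e : G x ≅ G' x, q x ≫ e.hom = q' x := by
  have key : ∀ T (s : Γ(M, T)), (q x).app T s = 0 ↔ (q' x).app T s = 0 := fun T s =>
    (AssPts11.app_eq_zero_iff hM hne G q hG hA hm x T s).trans
      (AssPts11.app_eq_zero_iff hM hne G' q' hG' hA' hm' x T s).symm
  haveI := hq x
  haveI := hq' x
  have h1 : Limits.kernel.ι (q x) ≫ q' x = 0 := by
    ext T a
    refine (M1.comp_app_apply _ _ T a).trans ((key T _).1 ?_)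
    rw [← M1.comp_app_apply, Limits.kernel.condition]
    rfl
  have h2 : Limits.kernel.ι (q' x) ≫ q x = 0 := by
    ext T a
    refine (M1.comp_app_apply _ _ T a).trans ((key T _).2 ?_)
    rw [← M1.comp_app_apply, Limits.kernel.condition]
    rfl
  refine ⟨⟨Abelian.epiDesc (q x) (q' x) h1, Abelian.epiDesc (q' x) (q x) h2, ?_, ?_⟩, Abelian.comp_epiDesc _ _ _⟩
  · rw [← cancel_epi (q x), ← Category.assoc, Abelian.comp_epiDesc, Abelian.comp_epiDesc, Category.comp_id]
  · rw [← cancel_epi (q' x), ← Category.assoc, Abelian.comp_epiDesc, Abelian.comp_epiDesc, Category.comp_id]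

end Groth.Agent.S4683
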