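import Groth.Statements.S4684
import Groth.Agent.S2516
import Groth.Agent.Lib.TensorMod.PullStalk
import Groth.Agent.Lib.ModM1.ClosedImm
import Groth.Agent.Lib.ModM1.Stalk
import Groth.Agent.Lib.PushFin12.Basic
import Groth.Agent.Lib.CurveCoh17.TensorExact
-- import your own Groth.Agent.* helpers here

set_option autoImplicit false
set_option backward.isDefEq.respectTransparency.types false
open CategoryTheory AlgebraicGeometry
universe u
open FDesc

namespace Groth.Agent.S4684

open CategoryTheory.Limits TopologicalSpace Opposite Groth.Agent.M1 Groth.Agent.M2 Groth.Agent.CurveCoh17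

section Embedding

variable {W X : Scheme.{u}} (ι : W ⟶ X)

theorem stalkUnit_bijective (hι : ∀ w : W, Function.Bijective (ι.stalkMap w)) (w : W) (M : X.Modules) :
    Function.Bijective (stalkUnit ι w M) := by
  let e : (X.presheaf.stalk (ι w)) ≃ₗ[X.presheaf.stalk (ι w)] W.presheaf.stalk w :=
    (AlgEquiv.ofBijective (Algebra.ofId (X.presheaf.stalk (ι w)) (W.presheaf.stalk w)) (hι w)).toLinearEquiv
  have h : ∀ a, stalkUnit ι w M a =
      pullStalkEquiv ι w M ((LinearEquiv.rTensor (M.presheaf.stalk (ι w)) e)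
        ((TensorProduct.lid (X.presheaf.stalk (ι w)) (M.presheaf.stalk (ι w))).symm a)) := fun a => by
    rw [TensorProduct.lid_symm_apply, LinearEquiv.rTensor_tmul]
    refine Eq.trans ?_ (LinearMap.liftBaseChange_tmul _ _ _ _).symm
    rw [show e 1 = 1 from map_one (Algebra.ofId (X.presheaf.stalk (ι w)) (W.presheaf.stalk w)), one_smul]
  rw [show (⇑(stalkUnit ι w M)) = _ from funext h]
  exact (pullStalkEquiv ι w M).bijective.comp
    ((LinearEquiv.rTensor (M.presheaf.stalk (ι w)) e).bijective.comp (LinearEquiv.bijective _))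

/-- The stalk of a direct image at a point of the source. -/
noncomputable abbrev push (w : W) (N : W.Modules) :
    ((Scheme.Modules.pushforward ι).obj N).presheaf.stalk (ι w) → N.presheaf.stalk w :=
  fun a => TopCat.Presheaf.stalkPushforward AddCommGrpCat.{u} ι.base N.presheaf w a

theorem push_bijective [IsPreimmersion ι] (w : W) (N : W.Modules) : Function.Bijective (push ι w N) := by
  have := TopCat.Presheaf.stalkPushforward.stalkPushforward_iso_of_isInducing (C := AddCommGrpCat.{u})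
    (f := ι.base) ι.isEmbedding.isInducing N.presheaf w
  exact (ConcreteCategory.isIso_iff_bijective _).1 this

theorem stalkUnit_natural (w : W) {M N : X.Modules} (φ : M ⟶ N) (a : M.presheaf.stalk (ι w)) :
    stalkLin ((Scheme.Modules.pullback ι).map φ) w (stalkUnit ι w M a) =
      stalkUnit ι w N (stalkLin φ (ι w) a) := by
  obtain ⟨U, hU, s, rfl⟩ := M.presheaf.exists_germ_eq a
  rw [stalkLin_apply, stalkLin_apply]
  change (stalkAb w).map _ (stalkUnitHom ι w M _) = stalkUnitHom ι w N _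
  rw [germ_naturality, stalkUnitHom_germ, stalkUnitHom_germ, germ_naturality]
  refine congrArg _ ?_
  exact (congrArg (fun ψ => ψ.app U s)
    ((Scheme.Modules.pullbackPushforwardAdjunction ι).unit.naturality φ)).symm

theorem isIso_counit [IsPreimmersion ι] (hι : ∀ w : W, Function.Bijective (ι.stalkMap w)) (N : W.Modules) :
    IsIso ((Scheme.Modules.pullbackPushforwardAdjunction ι).counit.app N) := by
  rw [M1.isIso_iff_stalk]
  intro w
  have key : ∀ a, (stalkAb w).map ((Scheme.Modules.pullbackPushforwardAdjunction ι).counit.app N)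
      (stalkUnit ι w _ a) = push ι w N a := fun a => by
    obtain ⟨U, hU, s, rfl⟩ := ((Scheme.Modules.pushforward ι).obj N).presheaf.exists_germ_eq a
    change (stalkAb w).map _ (stalkUnitHom ι w _ _) = _
    rw [stalkUnitHom_germ, germ_naturality]
    refine Eq.trans ?_ (TopCat.Presheaf.stalkPushforward_germ_apply AddCommGrpCat.{u} ι.base N.presheaf U w hU s).symm
    refine congrArg _ ?_
    exact congrArg (fun ψ => ψ.app U s)
      ((Scheme.Modules.pullbackPushforwardAdjunction ι).right_triangle_components N)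
  refine (Function.Bijective.of_comp_iff _ (stalkUnit_bijective ι hι w _)).1 ?_
  rw [show (_ ∘ ⇑(stalkUnit ι w ((Scheme.Modules.pushforward ι).obj N))) = _ from funext key]
  exact push_bijective ι w N

theorem mono_pullback (hι : ∀ w : W, Function.Bijective (ι.stalkMap w)) {M N : X.Modules} (φ : M ⟶ N)
    [Mono φ] : Mono ((Scheme.Modules.pullback ι).map φ) := by
  refine (mono_iff_stalk _).2 fun w a b hab => ?_
  obtain ⟨a, rfl⟩ := (stalkUnit_bijective ι hι w M).2 a
  obtain ⟨b, rfl⟩ := (stalkUnit_bijective ι hι w M).2 b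
  have hab' := (stalkUnit_natural ι w φ a).symm.trans (hab.trans (stalkUnit_natural ι w φ b))
  exact congrArg _ ((mono_iff_stalk φ).1 inferInstance (ι w) ((stalkUnit_bijective ι hι w N).1 hab'))

end Embedding

section Generic

variable {X Y : Scheme.{u}} [IsIntegral Y] (f : X ⟶ Y)

theorem bijective_stalkMap (w : f.fiber (genericPoint Y)) :
    Function.Bijective ((f.fiberι (genericPoint Y)).stalkMap w) := by
  haveI := S2516.flat_fromSpecResidueField_genericPoint Y
  haveI : Flat (f.fiberι (genericPoint Y)) := MorphismProperty.pullback_fst (P := @Flat) f _ inferInstance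
  refine ⟨?_, (f.fiberι (genericPoint Y)).stalkMap_surjective w⟩
  set ι := f.fiberι (genericPoint Y)
  haveI : Module.Flat (X.presheaf.stalk (ι w)) ((f.fiber (genericPoint Y)).presheaf.stalk w) :=
    (Flat.iff_flat_stalkMap ι).1 inferInstance w
  haveI : IsLocalHom (algebraMap (X.presheaf.stalk (ι w)) ((f.fiber (genericPoint Y)).presheaf.stalk w)) :=
    inferInstanceAs (IsLocalHom (ι.stalkMap w).hom)
  haveI := Module.FaithfullyFlat.of_flat_of_isLocalHom (A := X.presheaf.stalk (ι w))
    (B := (f.fiber (genericPoint Y)).presheaf.stalk w)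
  exact FaithfulSMul.algebraMap_injective (X.presheaf.stalk (ι w)) ((f.fiber (genericPoint Y)).presheaf.stalk w)

theorem isAffineHom_fiberι : IsAffineHom (f.fiberι (genericPoint Y)) := by
  have : IsAffineHom (Y.fromSpecResidueField (genericPoint Y)) := by
    refine ⟨fun U hU => ?_⟩
    by_cases h : genericPoint Y ∈ U
    · rw [show Y.fromSpecResidueField (genericPoint Y) ⁻¹ᵁ U = ⊤ from top_le_iff.1 fun t _ => by
        show Y.fromSpecResidueField (genericPoint Y) t ∈ U
        rwa [S2516.range_fromSpecResidueField']]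
      exact isAffineOpen_top _
    · rw [show Y.fromSpecResidueField (genericPoint Y) ⁻¹ᵁ U = ⊥ from le_bot_iff.1 fun t ht => by
        have ht' : Y.fromSpecResidueField (genericPoint Y) t ∈ U := ht
        rw [S2516.range_fromSpecResidueField'] at ht'
        exact absurd ht' h]
      exact isAffineOpen_bot _
  exact MorphismProperty.pullback_fst (P := @IsAffineHom) f _ inferInstance

theorem apply_fiberι (w : f.fiber (genericPoint Y)) : f (f.fiberι (genericPoint Y) w) = genericPoint Y := by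
  have : f.fiberι (genericPoint Y) w ∈ Set.range (f.fiberι (genericPoint Y)) := ⟨w, rfl⟩
  rwa [f.range_fiberι] at this

theorem eq_zero_of_smul {N : (f.fiber (genericPoint Y)).Modules} (x : X)
    (r : Y.presheaf.stalk (f x)) (hr : r ≠ 0)
    (t : ((Scheme.Modules.pushforward (f.fiberι (genericPoint Y))).obj N).presheaf.stalk x)
    (h : f.stalkMap x r • t = 0) : t = 0 := by
  let ι := f.fiberι (genericPoint Y)
  let P := (Scheme.Modules.pushforward ι).obj N
  obtain ⟨V, hxV, r₀, rfl⟩ := TopCat.Presheaf.exists_germ_eq Y.presheaf r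
  obtain ⟨U, hxU, t₀, rfl⟩ := P.presheaf.exists_germ_eq t
  have hxI : x ∈ U ⊓ f ⁻¹ᵁ V := ⟨hxU, hxV⟩
  have hg : P.presheaf.germ (U ⊓ f ⁻¹ᵁ V) x hxI
      (ores (inf_le_right : U ⊓ f ⁻¹ᵁ V ≤ f ⁻¹ᵁ V) (f.app V r₀) •
        mres P (inf_le_left : U ⊓ f ⁻¹ᵁ V ≤ U) t₀) = 0 := by
    rw [M1.germ_smul, germ_mres]
    refine Eq.trans ?_ h
    refine congrArg (fun z : X.presheaf.stalk x => z • P.presheaf.germ U x hxU t₀) ?_
    rw [Scheme.Hom.germ_stalkMap_apply]
    exact X.presheaf.germ_res_apply (homOfLE inf_le_right) x hxI (f.app V r₀)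
  obtain ⟨S, hxS, i₁, i₂, hS⟩ := P.presheaf.germ_eq x hxI hxI _ 0 (hg.trans (map_zero _).symm)
  have hSV : S ≤ f ⁻¹ᵁ V := i₁.le.trans inf_le_right
  have hSU : S ≤ U := i₁.le.trans inf_le_left
  have hprod : ores hSV (f.app V r₀) • mres P hSU t₀ = 0 := by
    have h1 : mres P i₁.le (ores (inf_le_right : U ⊓ f ⁻¹ᵁ V ≤ f ⁻¹ᵁ V) (f.app V r₀) •
        mres P (inf_le_left : U ⊓ f ⁻¹ᵁ V ≤ U) t₀) = 0 :=
      hS.trans (map_zero _)
    rwa [mres_smul, ores_ores, mres_mres] at h1
  have hunit : IsUnit (ι.app S (ores hSV (f.app V r₀))) := by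
    refine RingedSpace.isUnit_of_isUnit_germ (f.fiber (genericPoint Y)).toRingedSpace _ _ fun w hw => ?_
    rw [← Scheme.mem_basicOpen _ _ w hw, ← Scheme.preimage_basicOpen]
    show ι w ∈ X.basicOpen (ores hSV (f.app V r₀))
    rw [Scheme.basicOpen_res, ← Scheme.preimage_basicOpen]
    refine ⟨hw, ?_⟩
    show f (ι w) ∈ Y.basicOpen r₀
    rw [apply_fiberι]
    have hne : Y.basicOpen r₀ ≠ ⊥ := fun hb => hr (by
      rw [basicOpen_eq_bot_iff] at hb
      rw [hb, map_zero])
    obtain ⟨y, hy⟩ : ((Y.basicOpen r₀ : Y.Opens) : Set Y).Nonempty := by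
      rw [Set.nonempty_iff_ne_empty]
      exact fun h0 => hne (Opens.ext h0)
    exact (genericPoint_specializes y).mem_open (Y.basicOpen r₀).2 hy
  have ht₀ : mres P hSU t₀ = 0 := by
    obtain ⟨t', ht'⟩ : ∃ t' : Γ(N, ι ⁻¹ᵁ S), t' = mres P hSU t₀ := ⟨_, rfl⟩
    have h2 : ι.app S (ores hSV (f.app V r₀)) • t' = 0 := by rw [ht']; exact hprod
    obtain ⟨v, hv⟩ := hunit
    refine ht'.symm.trans ?_
    rw [← hv] at h2
    calc t' = (1 : Γ(f.fiber (genericPoint Y), ι ⁻¹ᵁ S)) • t' := (one_smul _ t').symm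
      _ = (↑v⁻¹ * ↑v : Γ(f.fiber (genericPoint Y), ι ⁻¹ᵁ S)) • t' := by rw [Units.inv_mul]
      _ = (↑v⁻¹ : Γ(f.fiber (genericPoint Y), ι ⁻¹ᵁ S)) • ((↑v : Γ(f.fiber (genericPoint Y), ι ⁻¹ᵁ S)) • t') := mul_smul _ _ _
      _ = 0 := by rw [h2, smul_zero]
  rw [← germ_mres P hSU hxS, ht₀, map_zero]

theorem mono_unit_of_flat (G : X.Modules) (hG : Coh.IsQCoh G) (hfl : FlatMod.IsFlatOver f G) :
    Mono ((Scheme.Modules.pullbackPushforwardAdjunction (f.fiberι (genericPoint Y))).unit.app G) := by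
  set ι := f.fiberι (genericPoint Y)
  refine (mono_iff_stalk _).2 fun x => (injective_iff_map_eq_zero _).2 fun g hg => ?_
  obtain ⟨U, hxU, s₀, rfl⟩ := G.presheaf.exists_germ_eq g
  replace hg := (germ_naturality ((Scheme.Modules.pullbackPushforwardAdjunction ι).unit.app G) U x hxU s₀).symm.trans hg
  obtain ⟨S, hxS, i₁, i₂, hS⟩ :=
    ((Scheme.Modules.pushforward ι).obj ((Scheme.Modules.pullback ι).obj G)).presheaf.germ_eq x hxU hxU _ 0
      (hg.trans (map_zero _).symm)
  obtain ⟨V, hV, hxV, -⟩ := exists_isAffineOpen_mem_and_subset (X := Y) (x := f x) (U := ⊤) trivial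
  obtain ⟨A, hA, hxA, hAle⟩ :=
    exists_isAffineOpen_mem_and_subset (X := X) (x := x) (U := S ⊓ f ⁻¹ᵁ V) ⟨hxS, hxV⟩
  have hAU : A ≤ U := fun z hz => i₁.le (hAle hz).1
  have hAV : A ≤ f ⁻¹ᵁ V := fun z hz => (hAle hz).2
  set s : Γ(G, A) := mres G hAU s₀
  rw [← germ_mres G hAU hxA]
  have hs0 : pullSec ι G s = 0 := by
    show ((Scheme.Modules.pullbackPushforwardAdjunction ι).unit.app G).app A (mres G hAU s₀) = 0
    refine (app_mres ((Scheme.Modules.pullbackPushforwardAdjunction ι).unit.app G) hAU s₀).trans ?_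
    refine (mres_mres _ i₁.le (fun z hz => (hAle hz).1 : A ≤ S) _).symm.trans ?_
    refine (congrArg _ (hS.trans (map_zero _))).trans ?_
    exact map_zero _
  let φ : Γ(Y, V) →+* Γ(X, A) := (f.appLE V A hAV).hom
  have hmeet : ∃ r : Γ(Y, V), r ≠ 0 ∧ φ r • s = 0 := by
    by_contra hno
    push Not at hno
    let I : Ideal Γ(X, A) := LinearMap.ker (LinearMap.toSpanSingleton Γ(X, A) Γ(G, A) s)
    haveI : Nonempty (V : Scheme.{u}) := ⟨⟨f x, hxV⟩⟩
    haveI : IsDomain Γ(Y, V) := IsIntegral.component_integral V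
    let T : Submonoid Γ(X, A) := (nonZeroDivisors Γ(Y, V)).map φ
    have hdis : Disjoint (I : Set Γ(X, A)) (T : Set Γ(X, A)) := by
      rw [Set.disjoint_left]
      rintro a ha ⟨r, hr, rfl⟩
      exact hno r (nonZeroDivisors.ne_zero hr) ha
    obtain ⟨P, hP, hIP, hPT⟩ := Ideal.exists_le_prime_disjoint I T hdis
    set x' : X := hA.fromSpec ⟨P, hP⟩
    have hx'A : x' ∈ A := by
      have : x' ∈ Set.range hA.fromSpec := ⟨_, rfl⟩
      rwa [hA.range_fromSpec] at this
    have hP' : (hA.primeIdealOf ⟨x', hx'A⟩).asIdeal = P := by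
      have : hA.primeIdealOf ⟨x', hx'A⟩ = ⟨P, hP⟩ :=
        hA.fromSpec.isOpenEmbedding.injective (hA.fromSpec_primeIdealOf ⟨x', hx'A⟩)
      rw [this]
    have hmem : ∀ r : Γ(Y, V), r ≠ 0 → f x' ∈ Y.basicOpen r := fun r hr => by
      have h1 : IsUnit (X.presheaf.germ A x' hx'A (φ r)) := by
        rw [isUnit_germ_iff hA hx'A, Ideal.mem_primeCompl_iff, hP']
        exact fun h => Set.disjoint_left.1 hPT h ⟨r, mem_nonZeroDivisors_of_ne_zero hr, rfl⟩
      rw [← Scheme.mem_basicOpen] at h1
      have h2 : x' ∈ X.basicOpen (f.app V r) := by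
        have h3 : X.basicOpen ((f.appLE V A hAV).hom r) ≤ X.basicOpen (f.app V r) := by
          show X.basicOpen (X.presheaf.map (homOfLE hAV).op (f.app V r)) ≤ _
          rw [Scheme.basicOpen_res]
          exact inf_le_right
        exact h3 h1
      rw [← Scheme.preimage_basicOpen] at h2
      exact h2
    have hη : f x' = genericPoint Y := by
      refine (specializes_iff_forall_open.2 fun O hO hηO => ?_).antisymm (genericPoint_specializes _) |>.eq
      obtain ⟨D, hD, hηD⟩ := hV.exists_basicOpen_le (V := ⟨O, hO⟩) ⟨genericPoint Y, hηO⟩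
        ((genericPoint_specializes (f x)).mem_open V.2 hxV)
      refine hD (hmem D ?_)
      rintro rfl
      simp [Scheme.basicOpen_zero] at hηD
    obtain ⟨w, hw⟩ : x' ∈ Set.range ι := by
      rw [f.range_fiberι]; exact hη
    have hw' : ι w ∈ A := hw ▸ hx'A
    have hgz : G.presheaf.germ A (ι w) hw' s = 0 := by
      apply (stalkUnit_bijective ι (bijective_stalkMap f) w G).1
      rw [map_zero]
      change stalkUnitHom ι w G _ = 0
      rw [stalkUnitHom_germ, hs0, map_zero]
    obtain ⟨c, hc, hcs⟩ := exists_smul_eq_zero_of_germ_eq_zero G hA hw' s hgz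
    rw [isUnit_germ_iff hA hw', Ideal.mem_primeCompl_iff] at hc
    refine hc ?_
    have : (hA.primeIdealOf ⟨ι w, hw'⟩).asIdeal = P := by
      rw [← hP']
      congr 2
      exact Subtype.ext hw
    rw [this]
    exact hIP hcs
  obtain ⟨r, hr, hrs⟩ := hmeet
  haveI : Nonempty (V : Scheme.{u}) := ⟨⟨f x, hxV⟩⟩
  have hr' : Y.presheaf.germ V (f x) hxV r ≠ 0 := fun h0 =>
    hr (germ_injective_of_isIntegral Y (f x) hxV (h0.trans (map_zero _).symm))
  letI := FlatMod.moduleStalkOver f G x
  haveI : Module.Flat (Y.presheaf.stalk (f x)) (G.presheaf.stalk x) := hfl x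
  have hreg : IsSMulRegular (G.presheaf.stalk x) (Y.presheaf.germ V (f x) hxV r) :=
    Module.Flat.isSMulRegular_of_nonZeroDivisors (mem_nonZeroDivisors_of_ne_zero hr')
  refine hreg.right_eq_zero_of_smul ?_
  show f.stalkMap x (Y.presheaf.germ V (f x) hxV r) • G.presheaf.germ A x hxA s = 0
  rw [Scheme.Hom.germ_stalkMap_apply, ← X.presheaf.germ_res_apply (homOfLE hAV) x hxA, ← M1.germ_smul]
  exact (congrArg _ hrs).trans (map_zero _)

end Generic

/-- Let Y be an integral locally Noetherian scheme all of whose local rings are regular of dimension at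
most one, with generic point η; let f : X → Y be a morphism, i : X_η → X the inclusion of the
generic fibre, F a quasi-coherent O_X-module and π : i^*F → G' a quotient of its restriction to the
generic fibre, with G' quasi-coherent. Then there exist a quasi-coherent quotient ρ : F → G of F
which is flat over Y and an isomorphism i^*G ≅ G' carrying i^*ρ to π; and any two such quotients are
isomorphic under F. (The published statement takes Y of dimension exactly one and constructs G as
the image of F in i_*G'.) -/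
theorem result {X Y : Scheme.{u}} [IsIntegral Y] [IsLocallyNoetherian Y]
    (hY : ∀ y : Y, IsRegularLocalRing (Y.presheaf.stalk y) ∧ ringKrullDim (Y.presheaf.stalk y) ≤ 1)
    (f : X ⟶ Y) (F : X.Modules) (hF : Coh.IsQCoh F) (G' : (f.fiber (genericPoint Y)).Modules) (hG' : Coh.IsQCoh G')
    (π : (Scheme.Modules.pullback (f.fiberι (genericPoint Y))).obj F ⟶ G') [Epi π] :
    (∃ (G : X.Modules) (ρ : F ⟶ G) (e : (Scheme.Modules.pullback (f.fiberι (genericPoint Y))).obj G ≅ G'),
        Epi ρ ∧ Coh.IsQCoh G ∧ FlatMod.IsFlatOver f G ∧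
          (Scheme.Modules.pullback (f.fiberι (genericPoint Y))).map ρ ≫ e.hom = π) ∧
      ∀ (G₁ G₂ : X.Modules) (ρ₁ : F ⟶ G₁) (ρ₂ : F ⟶ G₂)
        (e₁ : (Scheme.Modules.pullback (f.fiberι (genericPoint Y))).obj G₁ ≅ G')
        (e₂ : (Scheme.Modules.pullback (f.fiberι (genericPoint Y))).obj G₂ ≅ G'),
        Epi ρ₁ → Epi ρ₂ → Coh.IsQCoh G₁ → Coh.IsQCoh G₂ → FlatMod.IsFlatOver f G₁ → FlatMod.IsFlatOver f G₂ →
        (Scheme.Modules.pullback (f.fiberι (genericPoint Y))).map ρ₁ ≫ e₁.hom = π →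
        (Scheme.Modules.pullback (f.fiberι (genericPoint Y))).map ρ₂ ≫ e₂.hom = π →
        ∃ e : G₁ ≅ G₂, ρ₁ ≫ e.hom = ρ₂ := by
  haveI := isAffineHom_fiberι f
  haveI := hF
  have hb := bijective_stalkMap f
  let adj := Scheme.Modules.pullbackPushforwardAdjunction (f.fiberι (genericPoint Y))
  haveI := isIso_counit (f.fiberι (genericPoint Y)) hb G'
  obtain ⟨u, hu⟩ : ∃ u : F ⟶ (Scheme.Modules.pushforward (f.fiberι (genericPoint Y))).obj G', u = adj.homEquiv _ _ π := ⟨_, rfl⟩
  refine ⟨?_, ?_⟩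
  · haveI := mono_pullback (f.fiberι (genericPoint Y)) hb (Limits.image.ι u)
    let a : (Scheme.Modules.pullback (f.fiberι (genericPoint Y))).obj (Limits.image u) ⟶ G' :=
      (Scheme.Modules.pullback (f.fiberι (genericPoint Y))).map (Limits.image.ι u) ≫ adj.counit.app G'
    have ha : (Scheme.Modules.pullback (f.fiberι (genericPoint Y))).map (factorThruImage u) ≫ a = π := by
      show _ ≫ _ ≫ _ = _
      rw [← Functor.map_comp_assoc, Limits.image.fac, hu]
      exact (adj.homEquiv_counit _ _ _).symm.trans (Equiv.symm_apply_apply _ _)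
    haveI : Mono a := mono_comp _ _
    haveI : Epi ((Scheme.Modules.pullback (f.fiberι (genericPoint Y))).map (factorThruImage u) ≫ a) := ha ▸ ‹Epi π›
    haveI : Epi a := epi_of_epi ((Scheme.Modules.pullback (f.fiberι (genericPoint Y))).map (factorThruImage u)) a
    haveI : IsIso a := isIso_of_mono_of_epi a
    have hqP : Coh.IsQCoh ((Scheme.Modules.pushforward (f.fiberι (genericPoint Y))).obj G') :=
      M1.isQCoh_push (f.fiberι (genericPoint Y)) hG'
    have hqI : Coh.IsQCoh (Limits.image u) :=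
      M1.isQCoh_of_isIso (Abelian.imageIsoImage u)
        (M1.isQCoh_kernel hqP (M1.isQCoh_cokernel hF hqP u) (cokernel.π u))
    refine ⟨Limits.image u, factorThruImage u, asIso a, inferInstance, hqI, fun x => ?_, ha⟩
    haveI := (hY (f x)).1
    haveI := S2516.isPrincipalIdealRing_of_regular_dim_le_one (Y.presheaf.stalk (f x)) (hY (f x)).2
    letI := FlatMod.moduleStalkOver f (Limits.image u) x
    show Module.Flat (Y.presheaf.stalk (f x)) _
    rw [Module.Flat.flat_iff_torsion_eq_bot_of_isBezout, eq_bot_iff]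
    rintro t ⟨⟨r, hr⟩, hrt⟩
    refine (mono_iff_stalk (Limits.image.ι u)).1 inferInstance x ?_
    refine Eq.trans ?_ (map_zero _).symm
    refine eq_zero_of_smul f x r (nonZeroDivisors.ne_zero hr) _ ?_
    refine ((stalkLin (Limits.image.ι u) x).map_smul (f.stalkMap x r) t).symm.trans ?_
    exact (congrArg _ hrt).trans (map_zero _)
  · intro G₁ G₂ ρ₁ ρ₂ e₁ e₂ hρ₁ hρ₂ hq₁ hq₂ hf₁ hf₂ h₁ h₂
    haveI := mono_unit_of_flat f G₁ hq₁ hf₁
    haveI := mono_unit_of_flat f G₂ hq₂ hf₂
    have fac : ∀ (G : X.Modules) (ρ : F ⟶ G) (e : (Scheme.Modules.pullback (f.fiberι (genericPoint Y))).obj G ≅ G'),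
        (Scheme.Modules.pullback (f.fiberι (genericPoint Y))).map ρ ≫ e.hom = π → ρ ≫ adj.homEquiv _ _ e.hom = u := fun G ρ e h => by
      rw [hu, ← h, adj.homEquiv_naturality_left]
    have hm : ∀ (G : X.Modules) (e : (Scheme.Modules.pullback (f.fiberι (genericPoint Y))).obj G ≅ G'),
        Mono (adj.unit.app G) → Mono (adj.homEquiv _ _ e.hom) := fun G e hG => by
      rw [Adjunction.homEquiv_unit]
      haveI := hG
      exact mono_comp _ _
    let F₁ : StrongEpiMonoFactorisation u :=
      { I := G₁, m := adj.homEquiv _ _ e₁.hom, m_mono := hm G₁ e₁ inferInstance, e := ρ₁,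
        fac := fac G₁ ρ₁ e₁ h₁, e_strong_epi := strongEpi_of_epi ρ₁ }
    let F₂ : StrongEpiMonoFactorisation u :=
      { I := G₂, m := adj.homEquiv _ _ e₂.hom, m_mono := hm G₂ e₂ inferInstance, e := ρ₂,
        fac := fac G₂ ρ₂ e₂ h₂, e_strong_epi := strongEpi_of_epi ρ₂ }
    refine ⟨IsImage.isoExt F₁.toMonoIsImage F₂.toMonoIsImage, ?_⟩
    exact F₁.toMonoIsImage.fac_lift F₂.toMonoFactorisation

end Groth.Agent.S4684
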