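import Groth.Statements.S4687
import Groth.Agent.Lib.FBase12.LengthBC
import Groth.Agent.S4628
-- import your own Groth.Agent.* helpers here

set_option autoImplicit false
set_option backward.isDefEq.respectTransparency false
open CategoryTheory AlgebraicGeometry
universe u
open FBase

open Groth.Agent
namespace Groth.Agent.S4687

/-- Let X be an integral locally Noetherian scheme over a field k, k′ an extension field of k such that
X′ = X ⊗_k k′ is locally Noetherian, and k″ an extension field of k′ which is separable over k′
(Spec k″ → Spec k′ geometrically reduced) and such that (X′)_red ⊗_{k′} k″ is locally Noetherian.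
Then for every maximal point x″ of X″ = X′ ⊗_{k′} k″ (generic point of an irreducible component),
with image x′ in X′, the local rings O_{X″,x″} and O_{X′,x′} have the same length, each as a module
over itself, with values in ℕ∞. -/
theorem result {k k' k'' : Type u} [Field k] [Field k'] [Field k''] [Algebra k k']
    [Algebra k' k''] {X : Scheme.{u}} (f : X ⟶ Spec (CommRingCat.of k)) [IsIntegral X] [IsLocallyNoetherian X]
    [IsLocallyNoetherian (FBase.bc f k')] [GeometricallyReduced (Spec.map (CommRingCat.ofHom (algebraMap k' k'')))]
    [IsLocallyNoetherian (FBase.bc ((FBase.bc f k').nilradical.subschemeι ≫ FBase.bcStr f k') k'')]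
    (x'' : ↥(FBase.bc (FBase.bcStr f k') k'')) (hx'' : ∀ z : ↥(FBase.bc (FBase.bcStr f k') k''), z ⤳ x'' → z = x'') :
    Module.length ((FBase.bc (FBase.bcStr f k') k'').presheaf.stalk x'') ((FBase.bc (FBase.bcStr f k') k'').presheaf.stalk x'') =
      Module.length ((FBase.bc f k').presheaf.stalk (FBase.bcπ (FBase.bcStr f k') k'' x''))
        ((FBase.bc f k').presheaf.stalk (FBase.bcπ (FBase.bcStr f k') k'' x'')) := by
  have sq := Groth.Agent.FBase12.isPullback_red (k' := k') (k'' := k'') f
  haveI hsurjι : Surjective (FBase.bc f k').nilradical.subschemeι := ⟨fun x => by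
    have h : x ∈ Set.range (FBase.bc f k').nilradical.subschemeι := by
      rw [Scheme.IdealSheafData.range_subschemeι, Scheme.support_nilradical]; trivial
    exact h⟩
  set i := CategoryTheory.Limits.pullback.map ((FBase.bc f k').nilradical.subschemeι ≫ FBase.bcStr f k')
        (Spec.map (CommRingCat.ofHom (algebraMap k' k''))) (FBase.bcStr f k')
        (Spec.map (CommRingCat.ofHom (algebraMap k' k''))) (FBase.bc f k').nilradical.subschemeι (𝟙 _) (𝟙 _)
        (Category.comp_id _) ((Category.comp_id _).trans (Category.id_comp _).symm) with hi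
  haveI : Surjective i := MorphismProperty.of_isPullback (P := @Surjective) sq.flip hsurjι
  haveI : IsClosedImmersion i := MorphismProperty.of_isPullback (P := @IsClosedImmersion) sq.flip inferInstance
  obtain ⟨z, hz⟩ := i.surjective x''
  rw [(Groth.Agent.FBase12.length_bc_eq_mul f x'' hx'' z hz).2]
  haveI := RedSepLib.isReduced_nilradical_subscheme (FBase.bc f k')
  haveI : AlgebraicGeometry.IsReduced (CategoryTheory.Limits.pullback (Spec.map (CommRingCat.ofHom (algebraMap k' k'')))
      ((FBase.bc f k').nilradical.subschemeι ≫ FBase.bcStr f k')) := Groth.Agent.S4628.result _ _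
  haveI : AlgebraicGeometry.IsReduced (FBase.bc ((FBase.bc f k').nilradical.subschemeι ≫ FBase.bcStr f k') k'') :=
    isReduced_of_isOpenImmersion (CategoryTheory.Limits.pullbackSymmetry _ _).hom
  haveI : IsLocallyNoetherian (CategoryTheory.Limits.pullback ((FBase.bc f k').nilradical.subschemeι ≫ FBase.bcStr f k') (Spec.map (CommRingCat.ofHom (algebraMap k' k'')))) := ‹IsLocallyNoetherian (FBase.bc ((FBase.bc f k').nilradical.subschemeι ≫ FBase.bcStr f k') k'')›
  haveI : IsArtinianRing ((FBase.bc ((FBase.bc f k').nilradical.subschemeι ≫ FBase.bcStr f k') k'').presheaf.stalk z) := by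
    refine Groth.Agent.FBase12.isArtinianRing_stalk_of_max z fun w hw => ?_
    apply i.isClosedEmbedding.injective
    rw [hz]
    exact hx'' _ (hz ▸ hw.map i.continuous)
  letI := (Groth.Agent.FBase12.isField_of_reduced_artinian_local
    ((FBase.bc ((FBase.bc f k').nilradical.subschemeι ≫ FBase.bcStr f k') k'').presheaf.stalk z)).toField
  rw [show Module.length ((FBase.bc ((FBase.bc f k').nilradical.subschemeι ≫ FBase.bcStr f k') k'').presheaf.stalk z)
    ((FBase.bc ((FBase.bc f k').nilradical.subschemeι ≫ FBase.bcStr f k') k'').presheaf.stalk z) = 1 from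
      Module.length_eq_one_iff.2 inferInstance, mul_one]

end Groth.Agent.S4687
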