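import Groth.Prelude.Def_EGA4b
import Groth.Prelude.Def_CAlg
import Groth.Prelude.Def_Found
import Mathlib.RingTheory.LocalRing.RingHom.Basic
import Mathlib.RingTheory.Flat.Basic
import Mathlib.RingTheory.Ideal.Quotient.Operations
import Mathlib.RingTheory.KrullDimension.Module
import Mathlib.RingTheory.Ideal.MinimalPrime.Basic
import Mathlib.RingTheory.Localization.AtPrime.Basic
import Groth.Agent.Lib.UCat26.DimEq

set_option autoImplicit false
universe u
open EGA4

namespace Groth.Agent.S4689

/-- Let A be a universally catenary Noetherian local domain and B a domain containing A which is a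
finite A-algebra. Then for every maximal ideal n of B the local ring B_n has the same Krull
dimension as A. -/
theorem result (A B : Type u) [CommRing A] [IsDomain A]
    [IsNoetherianRing A] [IsLocalRing A] (hA : CAlg.IsUniversallyCatenary A) [CommRing B] [IsDomain B]
    [Algebra A B] [FaithfulSMul A B] [Module.Finite A B] (n : Ideal B) [n.IsMaximal] :
    ringKrullDim (Localization.AtPrime n) = ringKrullDim A := by
  haveI hmax : (n.comap (algebraMap A B)).IsMaximal := Ideal.isMaximal_comap_of_isIntegral_of_isMaximal n
  haveI : n.LiesOver (IsLocalRing.maximalIdeal A) := ⟨(IsLocalRing.eq_maximalIdeal hmax).symm⟩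
  have h := UCat26.height_add_tr_eq A hA B (IsLocalRing.maximalIdeal A) n
  haveI : Algebra.IsIntegral A B := Algebra.IsIntegral.of_finite A B
  haveI : Module.Finite (A ⧸ IsLocalRing.maximalIdeal A) (B ⧸ n) :=
    Module.Finite.of_restrictScalars_finite A _ _
  have h1 : DimFormula14.tr A B = 0 := by simp [DimFormula14.tr, trdeg_eq_zero]
  have h2 : DimFormula14.tr (A ⧸ IsLocalRing.maximalIdeal A) (B ⧸ n) = 0 := by
    simp [DimFormula14.tr, trdeg_eq_zero]
  rw [h1, h2, add_zero, add_zero] at h
  rw [IsLocalization.AtPrime.ringKrullDim_eq_height n, h, IsLocalRing.maximalIdeal_height_eq_ringKrullDim]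

end Groth.Agent.S4689
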