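import Groth.Statements.S4690
import Groth.Agent.Lib.DimIrrH1.Core

set_option autoImplicit false
universe u
open EGA4

namespace Groth.Agent.S4690

open AlgebraicGeometry CategoryTheory in
/-- Let Y be an irreducible locally Noetherian scheme, X an irreducible scheme and f : X → Y a dominant
morphism locally of finite type; let e be the dimension of the generic fibre of f. Then dim X ≤ dim
Y + e. If moreover every local ring of Y is universally catenary, the two sides are equal if and
only if dim Y equals the supremum of the dimensions of the local rings of Y at the points of f(X). -/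
theorem result {X Y : Scheme.{u}} (f : X ⟶ Y) [IsLocallyNoetherian Y]
    [LocallyOfFiniteType f] [IrreducibleSpace X] [IrreducibleSpace Y] (hf : DenseRange f.base) :
    topologicalKrullDim X ≤ topologicalKrullDim Y + topologicalKrullDim (f.fiber (genericPoint Y)) ∧
      ((∀ y : Y, CAlg.IsUniversallyCatenary (Y.presheaf.stalk y)) →
        (topologicalKrullDim X = topologicalKrullDim Y + topologicalKrullDim (f.fiber (genericPoint Y)) ↔
          topologicalKrullDim Y = ⨆ y ∈ Set.range f.base, ringKrullDim (Y.presheaf.stalk y))) := by
  have hdom : ∀ b : Y, f (genericPoint X) ⤳ b := fun b => specializes_iff_mem_closure.2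
    (closure_minimal (by rintro _ ⟨x, rfl⟩; exact specializes_iff_mem_closure.1 ((genericPoint_specializes x).map f.continuous))
      isClosed_closure (hf b))
  have hη : f (genericPoint X) = genericPoint Y := ((hdom _).antisymm (genericPoint_specializes _)).eq
  rw [← hη, Groth.Agent.DimIrrH1.dim_generic_fibre f]
  refine ⟨Groth.Agent.DimIrrH1.dim_le f, fun hcat => ?_⟩
  rw [Groth.Agent.DimIrrH1.dim_eq f hdom hcat, iSup_range]
  refine ⟨fun h => ?_, fun h => by rw [h]⟩
  have hc : ∀ (a b : WithBot ℕ∞) (m : ℕ), a + (m : WithBot ℕ∞) = b + (m : WithBot ℕ∞) → a = b := by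
    intro a b m h
    induction a with
    | bot => induction b with
      | bot => rfl
      | coe b => rw [WithBot.bot_add, ← WithBot.coe_natCast, ← WithBot.coe_add] at h; exact absurd h WithBot.bot_ne_coe
    | coe a => induction b with
      | bot => rw [WithBot.bot_add, ← WithBot.coe_natCast, ← WithBot.coe_add] at h; exact absurd h WithBot.coe_ne_bot
      | coe b =>
        rw [← WithBot.coe_natCast, ← WithBot.coe_add, ← WithBot.coe_add, WithBot.coe_inj] at h
        rw [WithBot.coe_inj]
        exact le_antisymm ((ENat.add_le_add_iff_right (ENat.coe_ne_top m)).1 h.le) ((ENat.add_le_add_iff_right (ENat.coe_ne_top m)).1 h.ge)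
  exact (hc _ _ _ h).symm

end Groth.Agent.S4690
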