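import Groth.Statements.S4691
import Groth.Agent.Lib.AlgSpRel14.FlatDim

set_option autoImplicit false
universe u
open EGA4

namespace Groth.Agent.S4691

open AlgebraicGeometry CategoryTheory in
/-- Let Y be a locally Noetherian scheme, f : X → Y a morphism locally of finite type and n a natural
number such that every fibre of f has dimension at most n. Then dim X ≤ dim Y + n. -/
theorem result {X Y : Scheme.{u}} (f : X ⟶ Y) [IsLocallyNoetherian Y]
    [LocallyOfFiniteType f] (n : ℕ) (h : ∀ y : Y, topologicalKrullDim (f.fiber y) ≤ n) :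
    topologicalKrullDim X ≤ topologicalKrullDim Y + n := by
  haveI : IsLocallyNoetherian X := LocallyOfFiniteType.isLocallyNoetherian f
  rw [Groth.Agent.AlgSpRel14.dim_eq_iSup_stalk X]
  refine iSup_le fun x => (Groth.Agent.EGA43Top.ringKrullDim_stalk_le_add f x).trans ?_
  exact add_le_add (Groth.Agent.AlgSpRel14.stalkDim_le_dim _ _)
    ((Groth.Agent.AlgSpRel14.stalkDim_le_dim _ _).trans (h (f x)))

end Groth.Agent.S4691
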