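import Groth.Statements.S4692
import Groth.Agent.Lib.DimIrrH1.Core

set_option autoImplicit false
universe u
open EGA4

namespace Groth.Agent.S4692

open AlgebraicGeometry CategoryTheory in
/-- Let Y be a locally Noetherian scheme all of whose local rings are universally catenary, X an
irreducible scheme, f : X → Y a morphism locally of finite type and n a natural number. If every
fibre of f has dimension at least n then dim X ≥ dim Y + n; if every fibre has dimension exactly n
then dim X = dim Y + n. (The empty scheme has dimension ⊥, so either hypothesis forces f to be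
surjective.) -/
theorem result {X Y : Scheme.{u}} (f : X ⟶ Y) [IsLocallyNoetherian Y]
    [LocallyOfFiniteType f] [IrreducibleSpace X] (hY : ∀ y : Y, CAlg.IsUniversallyCatenary (Y.presheaf.stalk y))
    (n : ℕ) :
    ((∀ y : Y, (n : WithBot ℕ∞) ≤ topologicalKrullDim (f.fiber y)) →
        topologicalKrullDim Y + n ≤ topologicalKrullDim X) ∧
      ((∀ y : Y, topologicalKrullDim (f.fiber y) = n) →
        topologicalKrullDim X = topologicalKrullDim Y + n) := by
  have main : (∀ y : Y, (n : WithBot ℕ∞) ≤ topologicalKrullDim (f.fiber y)) →
      topologicalKrullDim X = topologicalKrullDim Y + (Groth.Agent.FibDim14.rd f (genericPoint X) : WithBot ℕ∞) := by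
    intro h
    have hsurj : ∀ y : Y, ∃ x : X, f x = y := by
      intro y
      rcases isEmpty_or_nonempty (f.fiber y) with he | ⟨⟨z⟩⟩
      · have := h y
        rw [Groth.Agent.AlgSpRel14.dim_eq_iSup_stalk (f.fiber y), iSup_of_empty] at this
        exact absurd (le_bot_iff.1 this) (by simp)
      · exact ⟨f.fiberι y z, (Scheme.Hom.range_fiberι f y).le ⟨z, rfl⟩⟩
    have hdom : ∀ b : Y, f (genericPoint X) ⤳ b := fun b => by
      obtain ⟨x, rfl⟩ := hsurj b
      exact (genericPoint_specializes x).map f.continuous
    rw [Groth.Agent.DimIrrH1.dim_eq f hdom hY, Groth.Agent.AlgSpRel14.dim_eq_iSup_stalk Y]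
    congr 1
    exact Function.Surjective.iSup_comp (f := fun x => f x) hsurj (fun y => ringKrullDim (Y.presheaf.stalk y))
  have hfib := Groth.Agent.DimIrrH1.dim_generic_fibre f
  refine ⟨fun h => ?_, fun h => ?_⟩
  · rw [main h, ← hfib]
    exact add_le_add le_rfl (h _)
  · rw [main fun y => (h y).ge, ← hfib, h]

end Groth.Agent.S4692
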