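import Groth.Statements.S4693
import Mathlib
import Groth.Agent.Lib.FlatDepth.Fibre
-- import your own Groth.Agent.* helpers here

set_option autoImplicit false
universe u
open EGA4

open TensorProduct

namespace Groth.Agent.S4693

/-- Let A → B be a local homomorphism of Noetherian local rings such that the closed fibre ring B/m_A B
has Krull dimension 0 (that is, m_A B is an ideal of definition of B). Then dim B ≤ dim A. If
moreover some finite B-module which is flat over A has support equal to all of Spec B (for instance
if B is flat over A), then dim B = dim A. -/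
theorem result (A B : Type u) [CommRing A] [CommRing B] [IsNoetherianRing A]
    [IsNoetherianRing B] [IsLocalRing A] [IsLocalRing B] [Algebra A B] [IsLocalHom (algebraMap A B)]
    (h0 : ringKrullDim (EGA4.FibRing A B) = 0) :
    ringKrullDim B ≤ ringKrullDim A ∧
      (∀ (N : Type u) [AddCommGroup N] [Module B N] [Module A N] [IsScalarTower A B N] [Module.Finite B N]
          [Module.Flat A N], Module.support B N = Set.univ → ringKrullDim B = ringKrullDim A) := by
  have hle : ∀ (N : Type u) [AddCommGroup N] [Module B N] [Module A N] [IsScalarTower A B N]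
      [Module.Finite B N], Module.supportDim B (N ⊗[A] (A ⧸ IsLocalRing.maximalIdeal A)) ≤ 0 := by
    intro N _ _ _ _ _
    rw [Module.supportDim_eq_of_equiv (FlatDepth.fibModEquiv (R := A) (S := B) N), FlatDepth.supportDim_fibMod]
    exact (Module.supportDim_le_ringKrullDim _ _).trans h0.le
  obtain ⟨d, hd⟩ := DepthLib.exists_supportDim_eq_natCast (R := A) (M := A)
  have key : Module.supportDim B (B ⊗[A] A) = ringKrullDim B := by
    rw [Module.supportDim_eq_of_equiv (AlgebraTensorModule.rid A B B), Module.supportDim_self_eq_ringKrullDim]
  have h1 : ringKrullDim B ≤ ringKrullDim A := by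
    rw [← key, ← Module.supportDim_self_eq_ringKrullDim (R := A), hd]
    simpa using FlatDepth.supportDim_tensor_le (S := B) (N := B) A (r := 0) hd.le (by simpa using hle B)
  refine ⟨h1, fun N _ _ _ _ _ _ hsupp => le_antisymm h1 ?_⟩
  have hN : Nontrivial N := by
    by_contra h
    rw [not_nontrivial_iff_subsingleton] at h
    exact Set.univ_nonempty.ne_empty (hsupp ▸ Module.support_eq_empty)
  haveI := FlatDepth.nontrivial_fibre B (R := A) (N := N)
  obtain ⟨r, hr⟩ := DepthLib.exists_supportDim_eq_natCast (R := B) (M := N ⊗[A] (A ⧸ IsLocalRing.maximalIdeal A))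
  have h0' : Module.supportDim B (N ⊗[A] (A ⧸ IsLocalRing.maximalIdeal A)) = 0 :=
    le_antisymm (hle N) (by rw [hr]; exact_mod_cast Nat.zero_le r)
  have h2 := FlatDepth.supportDim_tensor (R := A) (S := B) (N := N) A
  rw [h0', add_zero, Module.supportDim_eq_of_equiv (AlgebraTensorModule.rid A B N),
    Module.supportDim_self_eq_ringKrullDim] at h2
  rw [← h2]
  exact Module.supportDim_le_ringKrullDim _ _

end Groth.Agent.S4693
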