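import Groth.Statements.S4694
import Mathlib
import Groth.Agent.Lib.FlatDepth.Fibre
-- import your own Groth.Agent.* helpers here

set_option autoImplicit false
universe u
open EGA4

namespace Groth.Agent.S4694

open TensorProduct in
/-- Let A → B be a local homomorphism of Noetherian local rings, M a finite A-module and N a nonzero
finite B-module, flat over A, whose closed-fibre module N/m_A N has finite length. Then the depth of
the B-module N ⊗_A M equals the depth of the A-module M. (The companion equality of codepths in the
published item is not restated.) -/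
theorem result {A B M N : Type u} [CommRing A] [CommRing B]
    [IsNoetherianRing A] [IsNoetherianRing B] [IsLocalRing A] [IsLocalRing B] [Algebra A B]
    [IsLocalHom (algebraMap A B)] [AddCommGroup M] [Module A M] [Module.Finite A M]
    [AddCommGroup N] [Module B N] [Module A N] [IsScalarTower A B N] [Module.Finite B N] [Nontrivial N]
    [Module.Flat A N] (hN : IsFiniteLength B (EGA4.FibMod A B N)) :
    LocCoh.depth B (N ⊗[A] M) = LocCoh.depth A M := by
  have : Nontrivial (EGA4.FibMod A B N) :=
    haveI := FlatDepth.nontrivial_fibre B (R := A) (N := N)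
    (FlatDepth.fibModEquiv N).symm.toEquiv.nontrivial
  have hF : LocCoh.depth B (N ⊗[A] (A ⧸ IsLocalRing.maximalIdeal A)) = LocCoh.depth B (EGA4.FibMod A B N) :=
    DepthLib.idealDepth_congr (FlatDepth.fibModEquiv N)
  rw [FlatDepth.depth_tensor M, hF]
  suffices h : LocCoh.depth B (EGA4.FibMod A B N) = 0 by rw [h, add_zero]
  refine nonpos_iff_eq_zero.1 (WithBot.coe_le_coe.1 (DepthLib.depth_le_supportDim.trans ?_))
  exact HilbSam.supportDim_le_of_list [] (by simp)
    ((Submodule.quotEquivOfEqBot _ (by simp)).symm.isFiniteLength hN)

end Groth.Agent.S4694
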