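import Groth.Prelude.Def_EGA4b
import Groth.Prelude.Def_Found
import Mathlib.RingTheory.Flat.FaithfullyFlat.Basic
import Mathlib.RingTheory.TensorProduct.Basic
import Mathlib.RingTheory.FiniteType
import Mathlib.RingTheory.LocalRing.ResidueField.Fiber
import Groth.Agent.Lib.FlatDepth.HomBC

set_option autoImplicit false
universe u
open EGA4

namespace Groth.Agent.S4695

open TensorProduct in
/-- Case of regular morphisms, affine form: let A → B be a homomorphism of Noetherian rings and A' a
Noetherian A-algebra, and assume that B or A' is of finite type over A. If A → B is regular then the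
base change A' → A' ⊗_A B is regular; the converse holds when A' is faithfully flat over A. -/
theorem result (A B A' : Type u) [CommRing A] [CommRing B] [CommRing A']
    [IsNoetherianRing A] [IsNoetherianRing B] [IsNoetherianRing A'] [Algebra A B] [Algebra A A']
    (hft : Algebra.FiniteType A B ∨ Algebra.FiniteType A A') :
    (CAlg.IsRegularHom A B → CAlg.IsRegularHom A' (A' ⊗[A] B)) ∧
      (Module.FaithfullyFlat A A' → CAlg.IsRegularHom A' (A' ⊗[A] B) → CAlg.IsRegularHom A B) := by
  haveI := FlatDepth.isNoetherianRing_baseChange A B A' hft
  exact ⟨FlatDepth.isRegularHom_baseChange A B A', fun hff h => @FlatDepth.isRegularHom_of_baseChange A B A' _ _ _ _ _ _ _ hff h⟩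

end Groth.Agent.S4695
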