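import Groth.Prelude.Def_EGA4b
import Groth.Prelude.Def_CAlg
import Groth.Prelude.Def_Found
import Mathlib.RingTheory.LocalRing.RingHom.Basic
import Mathlib.RingTheory.Flat.Basic
import Mathlib.RingTheory.Ideal.Quotient.Operations
import Mathlib.RingTheory.KrullDimension.Module
import Mathlib.RingTheory.Ideal.MinimalPrime.Basic
import Mathlib.RingTheory.Support
import Mathlib.RingTheory.Localization.AtPrime.Basic
import Groth.Agent.Lib.FlatDepth.GenericEq

set_option autoImplicit false
universe u
open EGA4

namespace Groth.Agent.S4699

/-- Let A be a Noetherian ring, M a finite A-module and I an ideal of A whose radical p is a prime ideal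
lying in the support of M (so V(I) is an irreducible closed subset whose generic point is in Supp
M). Then there is an element f outside p such that, for every prime q containing I with f outside q,
the dimension of M_q is the dimension of M_p plus the dimension of (A/I)_q, and the depth of M_q is
the depth of M_p plus the depth of (A/I)_q (the module (A/I)_q = A_q / I A_q being regarded over
A_q). -/
theorem result (A : Type u) [CommRing A] [IsNoetherianRing A]
    (M : Type u) [AddCommGroup M] [Module A M] [Module.Finite A M] (I : Ideal A) [I.radical.IsPrime]
    (hp : (⟨I.radical, inferInstance⟩ : PrimeSpectrum A) ∈ Module.support A M) :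
    ∃ f : A, f ∉ I.radical ∧ ∀ (q : Ideal A) [q.IsPrime], I ≤ q → f ∉ q →
      Module.supportDim (Localization.AtPrime q) (LocalizedModule q.primeCompl M) =
          Module.supportDim (Localization.AtPrime I.radical) (LocalizedModule I.radical.primeCompl M) +
            Module.supportDim (Localization.AtPrime q)
              (Localization.AtPrime q ⧸ I.map (algebraMap A (Localization.AtPrime q))) ∧
        LocCoh.depth (Localization.AtPrime q) (LocalizedModule q.primeCompl M) =
          LocCoh.depth (Localization.AtPrime I.radical) (LocalizedModule I.radical.primeCompl M) +
            LocCoh.depth (Localization.AtPrime q)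
              (Localization.AtPrime q ⧸ I.map (algebraMap A (Localization.AtPrime q))) := by
  haveI : Nontrivial (LocalizedModule I.radical.primeCompl M) := Module.mem_support_iff.1 hp
  obtain ⟨f, hf, h⟩ := FlatDepth.exists_invariants_add I.radical M I rfl
  refine ⟨f, hf, fun q _ hIq hq => ?_⟩
  obtain ⟨h1, h2⟩ := h q hIq hq
  simp only [FlatDepth.dimAt, FlatDepth.depthAt, LocCoh.depth,
    Module.supportDim_eq_of_equiv (FlatDepth.quotientAtEquiv I q),
    DepthLib.idealDepth_congr (FlatDepth.quotientAtEquiv I q)] at h1 h2
  exact ⟨h1, h2⟩

end Groth.Agent.S4699
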