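import Groth.Prelude.Def_EGA4b
import Groth.Prelude.Def_CAlg
import Groth.Prelude.Def_Found
import Mathlib.RingTheory.LocalRing.RingHom.Basic
import Mathlib.RingTheory.Flat.Basic
import Mathlib.RingTheory.Ideal.Quotient.Operations
import Mathlib.RingTheory.KrullDimension.Module
import Mathlib.RingTheory.Ideal.MinimalPrime.Basic
import Mathlib.RingTheory.RegularLocalRing.Defs
import Mathlib.RingTheory.Spectrum.Prime.Topology
import Groth.Agent.S4700

set_option autoImplicit false
universe u
open EGA4

namespace Groth.Agent.S4701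

/-- Let A be a Noetherian ring. The regular locus of every quotient ring A/I is open in its spectrum if
and only if, for every prime ideal p, the regular locus of the domain A/p contains a nonempty open
subset of Spec(A/p). (The published statement quantifies over all subschemes of Spec A; open
subschemes of the closed ones add nothing, so closed subschemes are used here.) -/
theorem result (A : Type u) [CommRing A] [IsNoetherianRing A] :
    (∀ I : Ideal A, IsOpen (EGA4.regLocus (A ⧸ I))) ↔
      ∀ (p : Ideal A) [p.IsPrime],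
        ∃ U : Set (PrimeSpectrum (A ⧸ p)), IsOpen U ∧ U.Nonempty ∧ U ⊆ EGA4.regLocus (A ⧸ p) := by
  refine ⟨fun h p hp => ⟨_, h p, ⟨⟨⊥, Ideal.isPrime_bot⟩, ?_⟩, subset_rfl⟩, fun h I => ?_⟩
  · haveI : Ring.KrullDimLE 0 (Localization.AtPrime (⊥ : Ideal (A ⧸ p))) := Ring.krullDimLE_iff.2 (by
      rw [IsLocalization.AtPrime.ringKrullDim_eq_height (⊥ : Ideal (A ⧸ p)), Ideal.height_bot]; rfl)
    letI : Field (Localization.AtPrime (⊥ : Ideal (A ⧸ p))) := (Ring.KrullDimLE.isField_of_isReduced).toField
    show IsRegularLocalRing (Localization.AtPrime (⊥ : Ideal (A ⧸ p)))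
    infer_instance
  · refine S4700.result (A ⧸ I) fun P _ => ?_
    let p : Ideal A := P.asIdeal.comap (Ideal.Quotient.mk I)
    haveI : p.IsPrime := Ideal.IsPrime.comap _
    obtain ⟨U, hU, ⟨u, hu⟩, hsub⟩ := h p
    let e : A ⧸ p ≃+* (A ⧸ I) ⧸ P.asIdeal := RingHom.quotientKerEquivOfSurjective
      (f := (Ideal.Quotient.mk P.asIdeal).comp (Ideal.Quotient.mk I))
      (Ideal.Quotient.mk_surjective.comp Ideal.Quotient.mk_surjective) |> (fun e => (Ideal.quotEquivOfEq (by
        rw [← RingHom.comap_ker, Ideal.mk_ker])).trans e)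
    refine ⟨PrimeSpectrum.comap (e : A ⧸ p →+* (A ⧸ I) ⧸ P.asIdeal) ⁻¹' U, hU.preimage (by fun_prop),
      ⟨PrimeSpectrum.comap (e.symm : (A ⧸ I) ⧸ P.asIdeal →+* A ⧸ p) u, ?_⟩, fun Q hQ => ?_⟩
    · show _ ∈ U
      convert hu using 1
      ext x
      simp
    · haveI : IsRegularLocalRing (Localization.AtPrime (Q.asIdeal.comap (e : A ⧸ p →+* (A ⧸ I) ⧸ P.asIdeal))) := hsub hQ
      exact IsRegularLocalRing.of_ringEquiv (FlatDepth.atPrimeRingEquiv e Q.asIdeal)

end Groth.Agent.S4701
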