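import Groth.Statements.S4702
import Groth.Agent.Lib.DimIrrH1.Core
import Groth.Agent.Lib.UCat.Universal
import Groth.Agent.Lib.Cohen.CMLocus
import Groth.Agent.Lib.VarDim.Irred

set_option autoImplicit false
universe u
open EGA4

namespace Groth.Agent.S4702

section Aux
open CategoryTheory AlgebraicGeometry IsLocalRing
open Groth.Agent

set_option backward.isDefEq.respectTransparency.types false

lemma cm_domain_dim_le_one (R : Type u) [CommRing R] [IsDomain R] [IsNoetherianRing R] [IsLocalRing R]
    (h : ringKrullDim R ≤ 1) : LocCoh.IsCohenMacaulayLocalRing R := by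
  rw [Cohen.cm_iff_supportDim_le]
  by_cases hm : maximalIdeal R = ⊥
  · have hf : IsField R := IsLocalRing.isField_iff_maximalIdeal_eq.2 hm
    rw [ringKrullDim_eq_zero_of_isField hf]
    exact WithBot.coe_le_coe.2 bot_le
  · obtain ⟨a, ham, ha⟩ := Submodule.exists_mem_ne_zero_of_ne_bot hm
    refine h.trans (WithBot.coe_le_coe.2 (DepthLib.one_le_idealDepth_of_regular ham ?_))
    exact IsSMulRegular.of_right_eq_zero_of_smul fun z hz => (mul_eq_zero.1 hz).resolve_left ha

lemma ucat_of_dim_le_one (A : Type u) [CommRing A] [IsNoetherianRing A] [IsLocalRing A]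
    (hirr : (nilradical A).IsPrime) (h : ringKrullDim A ≤ 1) : CAlg.IsUniversallyCatenary A := by
  let R := A ⧸ nilradical A
  haveI : IsDomain R := (Ideal.Quotient.isDomain_iff_prime _).2 hirr
  haveI : IsLocalRing R := IsLocalRing.of_surjective' (Ideal.Quotient.mk (nilradical A)) Ideal.Quotient.mk_surjective
  have hR : ringKrullDim R ≤ 1 :=
    (ringKrullDim_le_of_surjective (Ideal.Quotient.mk (nilradical A)) Ideal.Quotient.mk_surjective).trans h
  haveI : LocCoh.IsCohenMacaulayRing R := ⟨fun p _ => by
    haveI : IsDomain (Localization.AtPrime p) :=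
      IsLocalization.isDomain_of_le_nonZeroDivisors _ p.primeCompl_le_nonZeroDivisors
    refine cm_domain_dim_le_one _ (le_trans ?_ hR)
    rw [IsLocalization.AtPrime.ringKrullDim_eq_height p (Localization.AtPrime p)]
    exact Ideal.height_le_ringKrullDim_of_ne_top (Ideal.IsPrime.ne_top inferInstance)⟩
  refine ⟨inferInstance, fun S _ _ hft => ?_⟩
  haveI := hft
  let J := (nilradical A).map (algebraMap A S)
  letI : Algebra R (S ⧸ J) := Ideal.Quotient.algebraQuotientOfLEComap Ideal.le_comap_map
  haveI : IsScalarTower A R (S ⧸ J) := IsScalarTower.of_algebraMap_eq (R := A) (S := R) (A := S ⧸ J) fun _ => rfl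
  haveI : Algebra.FiniteType R (S ⧸ J) := .of_restrictScalars_finiteType A R (S ⧸ J)
  have hcat := (UCat.isUniversallyCatenary_of_cm R).2 (S ⧸ J) inferInstance
  have hJ : J ≤ nilradical S := Ideal.map_le_iff_le_comap.2 fun a ha =>
    mem_nilradical.2 ((mem_nilradical.1 ha).map _)
  let o : PrimeSpectrum (S ⧸ J) ↪o PrimeSpectrum S :=
    OrderEmbedding.ofMapLEIff (PrimeSpectrum.comap (Ideal.Quotient.mk J)) fun a b =>
      Ideal.comap_le_comap_iff_of_surjective _ Ideal.Quotient.mk_surjective _ _
  have hsurj : Function.Surjective o := fun q => by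
    haveI : (q.asIdeal.map (Ideal.Quotient.mk J)).IsPrime := Ideal.map_isPrime_of_surjective
      Ideal.Quotient.mk_surjective (by rw [Ideal.mk_ker]; exact hJ.trans (nilradical_le_prime q.asIdeal))
    refine ⟨⟨_, this⟩, PrimeSpectrum.ext ?_⟩
    change (q.asIdeal.map _).comap _ = q.asIdeal
    rw [Ideal.comap_map_of_surjective _ Ideal.Quotient.mk_surjective, ← RingHom.ker_eq_comap_bot,
      Ideal.mk_ker, sup_eq_left.mpr (hJ.trans (nilradical_le_prime q.asIdeal))]
  exact CAlgLow.isCatenary_of_orderEmbedding (OrderIso.ofSurjective o hsurj).symm.toOrderEmbedding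
    (by rw [OrderIso.coe_toOrderEmbedding, (OrderIso.ofSurjective o hsurj).symm.range_eq]; exact Set.ordConnected_univ)
    hcat

lemma nilradical_stalk_isPrime {Y : Scheme.{u}} [IrreducibleSpace Y] (y : Y) :
    (nilradical (Y.presheaf.stalk y)).IsPrime := by
  obtain ⟨q, hq⟩ : genericPoint Y ∈ Set.range (Y.fromSpecStalk y) := by
    rw [Scheme.range_fromSpecStalk]; exact genericPoint_specializes y
  let q' : PrimeSpectrum (Y.presheaf.stalk y) := q
  have hmin : ∀ p : PrimeSpectrum (Y.presheaf.stalk y), q'.asIdeal ≤ p.asIdeal := fun p => by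
    refine (PrimeSpectrum.le_iff_specializes q' p).2 ?_
    refine (Y.fromSpecStalk y).isEmbedding.isInducing.specializes_iff.1 ?_
    rw [hq]
    exact genericPoint_specializes _
  have : nilradical (Y.presheaf.stalk y) = q.asIdeal := by
    refine le_antisymm (nilradical_le_prime q.asIdeal) ?_
    rw [nilradical_eq_sInf]
    exact le_sInf fun p hp => hmin ⟨p, hp⟩
  rw [this]
  exact q.2

lemma main {X Y : Scheme.{u}} (f : X ⟶ Y) [IsLocallyNoetherian Y] [IrreducibleSpace Y] [IrreducibleSpace X]
    (hY : topologicalKrullDim Y ≤ 1) [LocallyOfFiniteType f] (hdom : ∀ b : Y, f (genericPoint X) ⤳ b)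
    (y : Y) (z : f.fiber y) (hz : ∀ w, w ⤳ z → w = z) :
    FibDim14.rd f (f.fiberι y z) = FibDim14.rd f (genericPoint X) := by
  have hfz : f (f.fiberι y z) = y := (Scheme.Hom.range_fiberι f y).le ⟨z, rfl⟩
  have hmax : ∀ x', x' ⤳ f.fiberι y z → f x' = y → x' = f.fiberι y z := fun x' hx' hfx' => by
    obtain ⟨w, rfl⟩ : x' ∈ Set.range (f.fiberι y) := (Scheme.Hom.range_fiberι f y).ge hfx'
    rw [hz w ((f.fiberι y).isEmbedding.isInducing.specializes_iff.1 hx')]
  set x := f.fiberι y z
  by_cases hg : x = genericPoint X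
  · rw [hg]
  haveI : IsLocallyNoetherian X := LocallyOfFiniteType.isLocallyNoetherian f
  have hne : f x ≠ f (genericPoint X) := fun he =>
    hg (hmax (genericPoint X) (genericPoint_specializes x) (he.symm.trans hfz)).symm
  have hdy : ringKrullDim (Y.presheaf.stalk (f x)) ≤ 1 := (AlgSpRel14.stalkDim_le_dim Y _).trans hY
  have hcat := ucat_of_dim_le_one _ (nilradical_stalk_isPrime (f x)) hdy
  have key := DimIrrH1.stalkDim_add_rd_eq f x hdom hcat
  have hfib : ringKrullDim ((f.fiber (f x)).presheaf.stalk (f.asFiber x)) = 0 := by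
    rw [ringKrullDim_stalk_eq_coheight, Order.coheight_eq_zero.2 fun w hw => ?_]
    · rfl
    · have h1 := Specializes.map (show w ⤳ f.asFiber x from hw) (f.fiberι _).continuous
      rw [f.fiberι_asFiber] at h1
      refine le_of_eq ((f.fiberι _).isEmbedding.injective ?_)
      rw [f.fiberι_asFiber]
      exact hmax _ h1 (((Scheme.Hom.range_fiberι f _).le ⟨w, rfl⟩).trans hfz)
  have h2 : ringKrullDim (X.presheaf.stalk x) ≤ ringKrullDim (Y.presheaf.stalk (f x)) := by
    have := EGA43Top.ringKrullDim_stalk_le_add f x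
    rwa [hfib, add_zero] at this
  have hpos : ∀ {T : Scheme.{u}} (a b : T), b ⤳ a → a ≠ b → 1 ≤ ringKrullDim (T.presheaf.stalk a) := by
    intro T a b hba hne
    rw [ringKrullDim_stalk_eq_coheight]
    refine WithBot.coe_le_coe.2 (Order.one_le_iff_ne_zero.2 fun h0 => ?_)
    exact hne (Specializes.antisymm (Order.coheight_eq_zero.1 h0 (show a ≤ b from hba)) hba).eq.symm.symm
  have eY := le_antisymm hdy (hpos (f x) _ (hdom (f x)) hne)
  have eX := le_antisymm (h2.trans hdy) (hpos x _ (genericPoint_specializes x) hg)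
  rw [eY, eX] at key
  have : 1 + FibDim14.rd f x = 1 + FibDim14.rd f (genericPoint X) := by exact_mod_cast key
  omega

end Aux


open AlgebraicGeometry CategoryTheory in
/-- Let Y be an irreducible locally Noetherian scheme of dimension 1, X an irreducible scheme and f : X
→ Y a dominant morphism of finite type. Then for every point y in the image of f, every irreducible
component of the fibre of f at y has dimension equal to the dimension of the generic fibre. -/
theorem result {X Y : Scheme.{u}} (f : X ⟶ Y) [IsLocallyNoetherian Y]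
    [IrreducibleSpace Y] [IrreducibleSpace X] (hY : topologicalKrullDim Y = 1) [LocallyOfFiniteType f]
    [QuasiCompact f] (hf : DenseRange f.base) (y : Y) (hy : y ∈ Set.range f.base)
    (Z : Set ↥(f.fiber y)) (hZ : Z ∈ irreducibleComponents ↥(f.fiber y)) :
    topologicalKrullDim Z = topologicalKrullDim ↥(f.fiber (genericPoint Y)) := by
  have hdom : ∀ b : Y, f (genericPoint X) ⤳ b := fun b => specializes_iff_mem_closure.2
    (closure_minimal (by rintro _ ⟨x, rfl⟩; exact specializes_iff_mem_closure.1 ((genericPoint_specializes x).map f.continuous))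
      isClosed_closure (hf b))
  have hη : f (genericPoint X) = genericPoint Y := ((hdom _).antisymm (genericPoint_specializes _)).eq
  rw [← hη, Groth.Agent.DimIrrH1.dim_generic_fibre f]
  obtain ⟨z, rfl, hz⟩ := Groth.Agent.VarDim.exists_generic_of_mem_irreducibleComponents hZ
  rw [← main f hY.le hdom y z hz, Groth.Agent.FibDim14.rd_fiberι]
  exact Groth.Agent.VarDim.dim_closure_singleton (Groth.Agent.FibDim14.toPt f y) z

end Groth.Agent.S4702
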