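import Groth.Prelude.Def_EGA4b
import Groth.Prelude.Def_CAlg
import Groth.Prelude.Def_Found
import Mathlib.RingTheory.LocalRing.RingHom.Basic
import Mathlib.RingTheory.Flat.Basic
import Mathlib.RingTheory.Ideal.Quotient.Operations
import Mathlib.RingTheory.KrullDimension.Module
import Mathlib.RingTheory.Ideal.MinimalPrime.Basic
import Mathlib.RingTheory.AdicCompletion.Algebra
import Mathlib.RingTheory.LocalRing.ResidueField.Fiber
import Mathlib.RingTheory.TensorProduct.Basic
import Mathlib.RingTheory.RegularLocalRing.Defs
import Mathlib.RingTheory.Localization.AtPrime.Basic
import Groth.Agent.Lib.GRing6.FormalFibreDomains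

set_option autoImplicit false
universe u
open EGA4

namespace Groth.Agent.S4703

open TensorProduct in
/-- For the property 'geometrically regular', case of a local ring: let A be a Noetherian local ring
with completion Â. Then the formal fibres of A are geometrically regular (the completion map A → Â
is a regular homomorphism) if and only if, for every finite A-algebra B which is a domain and every
prime ideal q of B ⊗_A Â whose contraction to B is zero, the local ring of B ⊗_A Â at q is regular.
(The published statement is for semi-local rings; this row takes A local.) -/
theorem result (A : Type u) [CommRing A] [IsNoetherianRing A] [IsLocalRing A] :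
    CAlg.IsRegularHom A (EGA4.Cpl A) ↔
      ∀ (B : Type u) [CommRing B] [IsDomain B] [Algebra A B] [Module.Finite A B]
        (q : Ideal (B ⊗[A] EGA4.Cpl A)) [q.IsPrime],
        q.comap (algebraMap B (B ⊗[A] EGA4.Cpl A)) = ⊥ → IsRegularLocalRing (Localization.AtPrime q) := by
  exact GRing6.regularHom_cpl_iff_finite_domains A

end Groth.Agent.S4703
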