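import Groth.Prelude.Def_EGA4b
import Groth.Prelude.Def_CAlg
import Groth.Prelude.Def_Found
import Mathlib.RingTheory.LocalRing.RingHom.Basic
import Mathlib.RingTheory.Flat.Basic
import Mathlib.RingTheory.Ideal.Quotient.Operations
import Mathlib.RingTheory.KrullDimension.Module
import Mathlib.RingTheory.Ideal.MinimalPrime.Basic
import Mathlib.RingTheory.AdicCompletion.Algebra
import Mathlib.RingTheory.LocalRing.ResidueField.Fiber
import Mathlib.RingTheory.TensorProduct.Basic
import Mathlib.RingTheory.RegularLocalRing.Defs
import Mathlib.RingTheory.Localization.AtPrime.Basic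
import Mathlib.RingTheory.Nilpotent.GeometricallyReduced
import Groth.Agent.Lib.FlatDepth.GeomFib
import Groth.Agent.Lib.FlatDepth.CplMap
import Groth.Agent.Lib.FlatDepth.RegNormal

set_option autoImplicit false
universe u
open EGA4

namespace Groth.Agent.S4705

/-- Let A → A' be a flat local homomorphism of Noetherian local rings all of whose fibre rings k(p) ⊗_A
A' are geometrically reduced over k(p). If the completion map of A' is regular (the formal fibres of
A' are geometrically regular), then the formal fibres of A are geometrically reduced. -/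
theorem result (A A' : Type u) [CommRing A] [CommRing A']
    [IsNoetherianRing A] [IsNoetherianRing A'] [IsLocalRing A] [IsLocalRing A'] [Algebra A A']
    [IsLocalHom (algebraMap A A')] [Module.Flat A A']
    (hf : ∀ (p : Ideal A) [p.IsPrime], Algebra.IsGeometricallyReduced p.ResidueField (p.Fiber A'))
    (hA' : CAlg.IsRegularHom A' (EGA4.Cpl A')) : EGA4.HasGeomReducedFormalFibres A := by
  obtain ⟨_, hT, hff⟩ := FlatDepth.exists_cpl_tower A A'
  haveI := hff inferInstance
  haveI := hA'.1
  have hBC : ∀ (q : Ideal A') [q.IsPrime], Algebra.IsGeometricallyReduced q.ResidueField (q.Fiber (EGA4.Cpl A')) :=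
    fun q _ => FlatDepth.geomReduced_of_geomRegular (hA'.2 q).2
  exact fun p _ => FlatDepth.geomReducedFibres_of_comp A (EGA4.Cpl A) (EGA4.Cpl A')
    (FlatDepth.geomReducedFibres_comp A A' (EGA4.Cpl A') hf hBC) p

end Groth.Agent.S4705
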