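import Groth.Prelude.Def_EGA4b
import Groth.Prelude.Def_Found
import Mathlib.RingTheory.Flat.FaithfullyFlat.Basic
import Mathlib.RingTheory.TensorProduct.Basic
import Mathlib.RingTheory.FiniteType
import Mathlib.RingTheory.LocalRing.ResidueField.Fiber
import Mathlib.RingTheory.IntegralClosure.IsIntegralClosure.Basic
import Groth.Agent.Lib.NormalBC6.Apply

set_option autoImplicit false
universe u
open EGA4

namespace Groth.Agent.S4707

open TensorProduct in
/-- Let A be a Noetherian ring and A' a Noetherian A-algebra such that A → A' is a normal homomorphism
(flat, with geometrically normal fibres). Let B → C be a homomorphism of A-algebras and D the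
integral closure of B in C. Then the integral closure in A' ⊗_A C of the image of A' ⊗_A B is the
image of A' ⊗_A D. (No finiteness is assumed on B or C.) -/
theorem result (A A' : Type u) [CommRing A] [CommRing A']
    [IsNoetherianRing A] [IsNoetherianRing A'] [Algebra A A'] (h : EGA4.IsNormalHom A A')
    (B C : Type u) [CommRing B] [CommRing C] [Algebra A B] [Algebra A C] [Algebra B C] [IsScalarTower A B C] :
    (integralClosure
          ↥(Algebra.TensorProduct.map (AlgHom.id A' A') (IsScalarTower.toAlgHom A B C)).range (A' ⊗[A] C) :
        Set (A' ⊗[A] C)) =
      Set.range (Algebra.TensorProduct.map (AlgHom.id A' A')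
        ((integralClosure B C).val.restrictScalars A)) := by
  haveI := h.1
  exact Groth.Agent.NormalBC6.integralClosure_map (Groth.Agent.NormalBC6.reducedFibres_of_isNormalHom h)

end Groth.Agent.S4707
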