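import Groth.Prelude.Def_EGA4b
import Groth.Prelude.Def_CAlg
import Groth.Prelude.Def_Found
import Mathlib.RingTheory.LocalRing.RingHom.Basic
import Mathlib.RingTheory.Flat.Basic
import Mathlib.RingTheory.Ideal.Quotient.Operations
import Mathlib.RingTheory.KrullDimension.Module
import Mathlib.RingTheory.Ideal.MinimalPrime.Basic
import Mathlib.RingTheory.AdicCompletion.Algebra
import Mathlib.RingTheory.LocalRing.ResidueField.Fiber
import Mathlib.RingTheory.TensorProduct.Basic
import Mathlib.RingTheory.RegularLocalRing.Defs
import Mathlib.RingTheory.Localization.AtPrime.Basic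
import Mathlib.RingTheory.Nilpotent.GeometricallyReduced
import Groth.Agent.Lib.GRing6.Nagata

set_option autoImplicit false
universe u
open EGA4

namespace Groth.Agent.S4709

/-- Let A be a Noetherian ring such that (i) for every maximal ideal m the formal fibres of A_m are
geometrically reduced, and (ii) the regular locus of every A-algebra of finite type is open (A is
J-2). Then A is universally Japanese. -/
theorem result (A : Type u) [CommRing A] [IsNoetherianRing A]
    (h1 : ∀ (m : Ideal A) [m.IsMaximal], EGA4.HasGeomReducedFormalFibres (Localization.AtPrime m))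
    (h2 : EGA4.IsJ2 A) : CAlg.IsUniversallyJapanese A := by
  exact GRing6.isUniversallyJapanese_of_gAll A (GRing6.reducedProp.gAll_of_maximal A fun m _ => (GRing6.reducedProp_cpl_iff _).2 (h1 m)) h2

end Groth.Agent.S4709
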