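import Groth.Agent.Lib.EGA43Top.Goldman
import Mathlib

set_option autoImplicit false
universe u
namespace EGA4
end EGA4
open EGA4

namespace Groth.Agent.S4711

open AlgebraicGeometry Topology in
/-- In any scheme X, every nonempty locally constructible subset E contains a point x such that the
one-point set {x} is locally closed in X (equivalently x is isolated in its closure). -/
theorem result (X : Scheme.{u}) (E : Set X)
    (hE : Topology.IsLocallyConstructible E) (hne : E.Nonempty) :
    ∃ x ∈ E, IsLocallyClosed ({x} : Set X) := by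
  obtain ⟨x, hx⟩ := hne
  obtain ⟨U, hU, hUo, hUE⟩ := hE x
  have hlc : ∀ {s : Set ↥U}, Topology.IsConstructible s → s.Nonempty →
      ∃ Z ⊆ s, Z.Nonempty ∧ IsLocallyClosed Z := by
    intro s hs hne
    induction s, hs using BooleanSubalgebra.closure_sdiff_sup_induction with
    | isSublattice =>
      exact ⟨fun s hs t ht => ⟨hs.1.union ht.1, hs.2.union ht.2⟩,
        fun s hs t ht => ⟨hs.1.inter ht.1, hs.2.inter_isOpen ht.2 ht.1⟩⟩
    | bot_mem => exact ⟨isOpen_empty, IsRetrocompact.empty⟩
    | top_mem => exact ⟨isOpen_univ, IsRetrocompact.univ⟩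
    | sdiff A hA B hB =>
      exact ⟨_, subset_rfl, hne, hA.1.isLocallyClosed.inter hB.1.isClosed_compl.isLocallyClosed⟩
    | sup s _ t _ hs' ht' =>
      rcases Set.union_nonempty.1 hne with h | h
      · obtain ⟨Z, hZ, h'⟩ := hs' h
        exact ⟨Z, hZ.trans Set.subset_union_left, h'⟩
      · obtain ⟨Z, hZ, h'⟩ := ht' h
        exact ⟨Z, hZ.trans Set.subset_union_right, h'⟩
  obtain ⟨Z, hZE, hZne, hZlc⟩ := hlc hUE ⟨⟨x, mem_of_mem_nhds hU⟩, hx⟩
  obtain ⟨z, hz, hzlc⟩ := EGA43Top.exists_mem_isLocallyClosed_singleton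
    (hZlc.image IsInducing.subtypeVal (by rw [Subtype.range_coe]; exact hUo.isLocallyClosed)) (hZne.image _)
  obtain ⟨w, hw, rfl⟩ := hz
  exact ⟨w, hZE hw, hzlc⟩

end Groth.Agent.S4711
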