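import Groth.Agent.Lib.EGA43Top.Goldman

set_option autoImplicit false
universe u
namespace EGA4
end EGA4
open EGA4

namespace Groth.Agent.S4712

open AlgebraicGeometry in
/-- Let X be a locally Noetherian scheme and x a point such that {x} is locally closed in X. Then the
closure of {x} has dimension at most 1, and every point of that closure other than x is a closed
point of X. -/
theorem result (X : Scheme.{u}) [IsLocallyNoetherian X] (x : X)
    (hx : IsLocallyClosed ({x} : Set X)) :
    topologicalKrullDim (closure ({x} : Set X)) ≤ 1 ∧
      ∀ y ∈ closure ({x} : Set X), y ≠ x → IsClosed ({y} : Set X) := by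
  have h1 : ∀ y ∈ closure ({x} : Set X), ∀ z, y ⤳ z → y = x ∨ z = y := fun y hy z hyz =>
    EGA43Top.scheme_specializes_eq_or_eq hx (specializes_iff_mem_closure.2 hy) hyz
  haveI : QuasiSober (closure ({x} : Set X)) :=
    (isClosed_closure.isClosedEmbedding_subtypeVal).quasiSober
  refine ⟨EGA43Top.topologicalKrullDim_le_one_iff.2 fun a b c hab hbc => ?_, fun y hy hne =>
    EGA43Top.isClosed_singleton_of_no_proper fun w hw => (h1 y hy w hw).resolve_left hne⟩
  rw [subtype_specializes_iff] at hab hbc
  rcases h1 b.1 b.2 c.1 hbc with h | h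
  · have hax : a.1 = x := ((h ▸ hab).antisymm (specializes_iff_mem_closure.2 a.2)).eq
    exact Or.inl (Subtype.ext (h.trans hax.symm))
  · exact Or.inr (Subtype.ext h)

end Groth.Agent.S4712
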