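import Groth.Statements.S4714
import Groth.Agent.Lib.DimF18.Basic
import Mathlib.RingTheory.Ideal.KrullsHeightTheorem

set_option autoImplicit false
universe u
open EGA4

namespace Groth.Agent.S4714

section Aux
open AlgebraicGeometry CategoryTheory Order
open Groth.Agent.VarDim

variable {k : Type u} [Field k] {X : Scheme.{u}} (p : X ⟶ Spec (CommRingCat.of k)) [LocallyOfFiniteType p]

include p in
lemma notMem_of_maximal {Z : Set X} (hZ : IsClosed Z) (hY : interior Z = ∅) {g : X}
    (hg : ∀ x, x ⤳ g → x = g) : g ∉ Z := by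
  intro hgZ
  obtain ⟨U, hU, hgU, -⟩ := exists_isAffineOpen_mem_and_subset (U := (⊤ : X.Opens)) (x := g) trivial
  haveI : CompactSpace (U : Scheme.{u}) := isCompact_iff_compactSpace.1 hU.isCompact
  haveI := noetherianSpace_of_finiteType (U.ι ≫ p)
  let bad : Set (Set (U : Scheme.{u})) := {C | C ∈ irreducibleComponents (U : Scheme.{u}) ∧ (⟨g, hgU⟩ : U) ∉ C}
  have hfin : bad.Finite := TopologicalSpace.NoetherianSpace.finite_irreducibleComponents.subset fun C hC => hC.1
  have hcl : IsClosed (⋃₀ bad) := by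
    rw [Set.sUnion_eq_biUnion]
    exact hfin.isClosed_biUnion fun C hC => isClosed_of_mem_irreducibleComponents C hC.1
  let V : X.Opens := U.ι ''ᵁ ⟨(⋃₀ bad)ᶜ, hcl.isOpen_compl⟩
  have hgV : g ∈ V := ⟨⟨g, hgU⟩, fun ⟨C, hC, h⟩ => hC.2 h, rfl⟩
  have hVZ : (V : Set X) ⊆ Z := by
    rintro y ⟨y', hy', rfl⟩
    obtain ⟨η, hηy, hηmax⟩ := exists_maximal_specializes (U.ι ≫ p) y'
    have hη : η ⤳ (⟨g, hgU⟩ : U) := by
      by_contra hc
      exact hy' ⟨closure {η}, ⟨(maximal_iff_mem_irreducibleComponents (X := (U : Scheme.{u})) η).1 hηmax,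
        fun h => hc (specializes_iff_mem_closure.2 h)⟩, specializes_iff_mem_closure.1 hηy⟩
    have hg' : U.ι η = g := hg _ (hη.map U.ι.continuous)
    exact Specializes.mem_closed (hηy.map U.ι.continuous) hZ (hg' ▸ hgZ)
  have := interior_maximal hVZ V.isOpen hgV
  rw [hY] at this
  exact this

lemma exists_sdim_add_one_ge (f : Γ(X, ⊤)) {g z : X} (hgz : g ⤳ z)
    (hz : z ∈ X.zeroLocus (U := ⊤) {f}) :
    ∃ x, x ∈ X.zeroLocus (U := ⊤) {f} ∧ sdim p g ≤ sdim p x + 1 := by
  obtain ⟨U, hU, hzU, -⟩ := exists_isAffineOpen_mem_and_subset (U := (⊤ : X.Opens)) (x := z) trivial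
  have hgU : g ∈ U := hgz.mem_open U.2 hzU
  letI : Algebra k Γ(X, U) := (baseToSections p U).toAlgebra
  haveI : Algebra.FiniteType k Γ(X, U) := finiteType_baseToSections p hU
  haveI : IsNoetherianRing Γ(X, U) := Algebra.FiniteType.isNoetherianRing k _
  set P := hU.primeIdealOf ⟨z, hzU⟩ with hP
  set q := hU.primeIdealOf ⟨g, hgU⟩ with hq
  let fU : Γ(X, U) := X.presheaf.map (homOfLE (le_top (a := U))).op f
  have hmem : ∀ (x : X) (hx : x ∈ U), (x ∈ X.zeroLocus (U := ⊤) {f} ↔ fU ∈ (hU.primeIdealOf ⟨x, hx⟩).asIdeal) := by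
    intro x hx
    rw [Scheme.mem_zeroLocus_iff]
    simp only [Set.mem_singleton_iff, forall_eq]
    have e1 : x ∈ X.basicOpen fU ↔ x ∈ X.basicOpen f := by
      rw [Scheme.basicOpen_res]
      exact ⟨fun h => h.2, fun h => ⟨hx, h⟩⟩
    rw [← e1, ← not_iff_not, not_not]
    have e3 : hU.primeIdealOf ⟨x, hx⟩ ∈ hU.fromSpec ⁻¹ᵁ X.basicOpen fU ↔ x ∈ X.basicOpen fU := by
      show hU.fromSpec (hU.primeIdealOf ⟨x, hx⟩) ∈ X.basicOpen fU ↔ _
      rw [hU.fromSpec_primeIdealOf]
    have e2 := e3.symm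
    rw [hU.fromSpec_preimage_basicOpen fU] at e2
    exact e2
  have hle : q.asIdeal ≤ P.asIdeal := by
    have h1 := (fromSpec_le_iff (X := X) hU q P).1
    rw [hU.fromSpec_primeIdealOf, hU.fromSpec_primeIdealOf] at h1
    exact h1 hgz
  obtain ⟨Q, hQ, hQP⟩ := Ideal.exists_minimalPrimes_le
    (show q.asIdeal ⊔ Ideal.span {fU} ≤ P.asIdeal from
      sup_le hle ((Ideal.span_singleton_le_iff_mem _).2 ((hmem z hzU).1 hz)))
  haveI := hQ.1.1
  let x := hU.fromSpec ⟨Q, hQ.1.1⟩
  have hxU : x ∈ U := hU.range_fromSpec.le ⟨_, rfl⟩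
  have hxQ : hU.primeIdealOf ⟨x, hxU⟩ = ⟨Q, hQ.1.1⟩ :=
    hU.fromSpec.isOpenEmbedding.injective ((hU.fromSpec_primeIdealOf _).trans rfl)
  refine ⟨x, (hmem x hxU).2 (by rw [hxQ]; exact hQ.1.2 (Ideal.mem_sup_right (Ideal.mem_span_singleton_self _))), ?_⟩
  have hQ' : (Q.map (Ideal.Quotient.mk q.asIdeal)).IsPrime :=
    Ideal.map_isPrime_of_surjective Ideal.Quotient.mk_surjective (by rw [Ideal.mk_ker]; exact le_sup_left.trans hQ.1.2)
  let Q' : PrimeSpectrum (Γ(X, U) ⧸ q.asIdeal) := ⟨Q.map (Ideal.Quotient.mk q.asIdeal), hQ'⟩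
  have hcomap : PrimeSpectrum.comap (Ideal.Quotient.mk q.asIdeal) Q' = ⟨Q, hQ.1.1⟩ := PrimeSpectrum.ext (by
    change (Q.map _).comap _ = Q
    rw [Ideal.comap_map_of_surjective _ Ideal.Quotient.mk_surjective, ← RingHom.ker_eq_comap_bot,
      Ideal.mk_ker, sup_eq_left.mpr (le_sup_left.trans hQ.1.2)])
  have h1 : Order.height Q' ≤ 1 := by
    rw [← PrimeSpectrum.height_eq_orderHeight]
    refine Ideal.height_le_one_of_isPrincipal_of_mem_minimalPrimes
      (Ideal.span {Ideal.Quotient.mk q.asIdeal fU}) _ ?_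
    refine ⟨⟨hQ', ?_⟩, fun J hJ hJQ => ?_⟩
    · rw [Ideal.span_singleton_le_iff_mem]
      exact Ideal.mem_map_of_mem _ (hQ.1.2 (Ideal.mem_sup_right (Ideal.mem_span_singleton_self _)))
    · haveI := hJ.1
      have hJ' : Q ≤ J.comap (Ideal.Quotient.mk q.asIdeal) := by
        refine hQ.2 ⟨inferInstance, sup_le ?_ ?_⟩ ?_
        · intro a ha
          rw [Ideal.mem_comap, Ideal.Quotient.eq_zero_iff_mem.2 ha]
          exact J.zero_mem
        · rw [Ideal.span_singleton_le_iff_mem, Ideal.mem_comap]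
          exact hJ.2 (Ideal.mem_span_singleton_self _)
        · exact (Ideal.comap_mono hJQ).trans (congrArg PrimeSpectrum.asIdeal hcomap).le
      exact Ideal.map_le_iff_le_comap.2 hJ'
  have hsm := RingHom.strictMono_comap_of_surjective (f := Ideal.Quotient.mk q.asIdeal) Ideal.Quotient.mk_surjective
  have h2 : coheight Q' ≤ (sdim p x : ℕ∞) := by
    rw [← sdim_eq_coheight p hU x hxU, hxQ]
    exact (coheight_le_coheight_apply_of_strictMono _ hsm Q').trans (hcomap ▸ le_rfl)
  have h3 : (sdim p g : ℕ∞) ≤ 1 + (sdim p x : ℕ∞) := by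
    calc (sdim p g : ℕ∞) = coheight q := (sdim_eq_coheight p hU g hgU).symm
      _ = (tdeg k (Γ(X, U) ⧸ q.asIdeal) : ℕ∞) := coheight_eq_tdeg k _ q
      _ = Order.height Q' + coheight Q' := (height_add_coheight_nat k _ Q').symm
      _ ≤ 1 + (sdim p x : ℕ∞) := add_le_add h1 h2
  have h4 : sdim p g ≤ 1 + sdim p x := by exact_mod_cast h3
  omega

end Aux


open AlgebraicGeometry CategoryTheory in
/-- For a section of the structure sheaf: let X be a scheme locally of finite type over a field k and f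
a global section of O_X whose zero locus Y is nowhere dense in X. Then dim Y + 1 ≤ dim X. If
moreover some irreducible component of X has dimension equal to dim X and Y meets every such
component, then dim Y + 1 = dim X. (The published statement is for a section of an invertible sheaf;
the existence of a component of maximal dimension, implicit in the published wording, is made a
hypothesis of the equality clause.) -/
theorem result (k : Type u) [Field k] (X : Scheme.{u}) (p : X ⟶ Spec (CommRingCat.of k))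
    [LocallyOfFiniteType p] (f : Γ(X, ⊤)) (hY : interior (X.zeroLocus (U := ⊤) {f}) = ∅) :
    topologicalKrullDim (X.zeroLocus (U := ⊤) {f}) + 1 ≤ topologicalKrullDim X ∧
      ((∃ Z ∈ irreducibleComponents (X : Type u), topologicalKrullDim Z = topologicalKrullDim X) →
        (∀ Z ∈ irreducibleComponents (X : Type u), topologicalKrullDim Z = topologicalKrullDim X →
          (Z ∩ X.zeroLocus (U := ⊤) {f}).Nonempty) →
        topologicalKrullDim (X.zeroLocus (U := ⊤) {f}) + 1 = topologicalKrullDim X) := by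
  set Z := X.zeroLocus (U := ⊤) {f}
  have hZc : IsClosed Z := Scheme.zeroLocus_isClosed X _
  have hle : topologicalKrullDim Z + 1 ≤ topologicalKrullDim X := by
    rw [Groth.Agent.VarDim.topologicalKrullDim_isClosed_eq_iSup_height hZc, Groth.Agent.VarDim.dim_eq_iSup_sdim p]
    rcases isEmpty_or_nonempty Z with h | h
    · rw [iSup_of_empty, WithBot.bot_add]
      exact bot_le
    rw [← WithBot.coe_iSup (OrderTop.bddAbove _), ← WithBot.coe_one, ← WithBot.coe_add, ENat.iSup_add,
      WithBot.coe_iSup (OrderTop.bddAbove _)]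
    refine iSup_le fun z => ?_
    obtain ⟨g, hg, hmax⟩ := Groth.Agent.VarDim.exists_maximal_specializes p (z : X)
    have hne : g ≠ z := fun e => notMem_of_maximal p hZc hY hmax (e ▸ z.2)
    refine le_trans ?_ (le_iSup _ g)
    rw [Groth.Agent.VarDim.height_eq_sdim p]
    exact_mod_cast Groth.Agent.VarDim.sdim_lt_of_specializes p hg hne
  refine ⟨hle, fun ⟨C, hC, hCd⟩ hmeet => le_antisymm hle ?_⟩
  obtain ⟨z, hzC, hzZ⟩ := hmeet C hC hCd
  obtain ⟨g, rfl, hgmax⟩ := Groth.Agent.VarDim.exists_generic_of_mem_irreducibleComponents hC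
  obtain ⟨x, hx, hxd⟩ := exists_sdim_add_one_ge p f (specializes_iff_mem_closure.2 hzC) hzZ
  rw [← hCd, Groth.Agent.VarDim.dim_closure_singleton p]
  rw [Groth.Agent.VarDim.topologicalKrullDim_isClosed_eq_iSup_height hZc]
  refine le_trans ?_ (add_le_add (le_iSup _ (⟨x, hx⟩ : Z)) le_rfl)
  rw [Groth.Agent.VarDim.height_eq_sdim p]
  exact_mod_cast hxd

end Groth.Agent.S4714
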