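import Groth.Statements.S4716
import Groth.Agent.Lib.EGA43Top.OpenCriterion
import Groth.Agent.Lib.VarDim.Top
-- import your own Groth.Agent.* helpers here

set_option autoImplicit false
universe u
open EGA4

namespace Groth.Agent.S4716

open AlgebraicGeometry CategoryTheory in
/-- Consider locally Noetherian schemes X and Y and a morphism f : X → Y that is surjective and whose
underlying map is either open or closed. Then dim X ≥ dim Y. -/
theorem result {X Y : Scheme.{u}} (f : X ⟶ Y) [IsLocallyNoetherian X]
    [IsLocallyNoetherian Y] (hs : Function.Surjective f.base) (h : IsOpenMap f.base ∨ IsClosedMap f.base) :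
    topologicalKrullDim Y ≤ topologicalKrullDim X := by
  rw [Groth.Agent.VarDim.scheme_dim_eq_iSup_height, Groth.Agent.VarDim.scheme_dim_eq_iSup_height,
    ← Order.krullDim_eq_iSup_height, ← Order.krullDim_eq_iSup_height]
  refine iSup_le fun p => ?_
  suffices H : ∃ q : LTSeries X, q.length = p.length by
    obtain ⟨q, hq⟩ := H
    rw [← hq]
    exact Order.LTSeries.length_le_krullDim q
  rcases h with ho | hc
  · have hup : ∀ (n : ℕ) (p : LTSeries Y), p.length = n → ∃ q : LTSeries X, q.length = n ∧ f.base q.last = p.last := by
      intro n
      induction n with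
      | zero =>
        intro p _
        obtain ⟨x, hx⟩ := hs p.last
        exact ⟨RelSeries.singleton _ x, rfl, by simpa using hx⟩
      | succ n ih =>
        intro p hp
        obtain ⟨q, hq, hql⟩ := ih p.eraseLast (by simp [hp])
        have hlt := RelSeries.eraseLast_last_rel_last p (by omega)
        obtain ⟨x', hx', hfx'⟩ := Groth.Agent.EGA43Top.liftsAt_of_isOpenAt
          (x := q.last) (fun U hU => ho.image_mem_nhds hU) p.last
          (hql.symm ▸ ((show p.eraseLast.last < p.last from hlt).le : p.eraseLast.last ≤ p.last))
        have hlt' : q.last < x' := Groth.Agent.VarDim.lt_of_specializes_ne hx' (fun e => (show p.eraseLast.last < p.last from hlt).ne (by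
          rw [← hql, ← hfx', e]))
        exact ⟨q.snoc x' hlt', by simp [hq], by simpa using hfx'⟩
    obtain ⟨q, hq, -⟩ := hup _ p rfl
    exact ⟨q, hq⟩
  · suffices H : ∃ q : LTSeries X, q.length = p.length ∧ f.base q.head = p.head from ⟨H.choose, H.choose_spec.1⟩
    induction p using RelSeries.inductionOn with
    | singleton y =>
      obtain ⟨x, hx⟩ := hs y
      exact ⟨RelSeries.singleton _ x, rfl, by simpa using hx⟩
    | cons p y hy ih =>
      obtain ⟨q, hq, hqh⟩ := ih
      obtain ⟨x', hx', hfx'⟩ := hc.specializingMap (show f.base q.head ⤳ y from hqh.symm ▸ ((show y < p.head from hy).le : y ≤ p.head))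
      have hlt' : x' < q.head := Groth.Agent.VarDim.lt_of_specializes_ne hx' (fun e => (show y < p.head from hy).ne (by
        rw [← hfx', e, hqh]))
      exact ⟨q.cons x' hlt', by simp [hq], by simpa using hfx'⟩

end Groth.Agent.S4716
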