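import Groth.Statements.S4717
import Groth.Agent.Lib.AlgSpDecent.DimMor
import Groth.Agent.Lib.H12.DimZero

set_option autoImplicit false
universe u
open EGA4

namespace Groth.Agent.S4717

open AlgebraicGeometry CategoryTheory in
/-- Let f : X → Y be a finite morphism of locally Noetherian schemes. Then dim X equals the dimension of
the image f(X); in particular if f is surjective then dim X = dim Y. -/
theorem result {X Y : Scheme.{u}} (f : X ⟶ Y) [IsLocallyNoetherian X] [IsLocallyNoetherian Y]
    [IsFinite f] :
    topologicalKrullDim X = topologicalKrullDim (Set.range f.base) ∧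
      (Function.Surjective f.base → topologicalKrullDim X = topologicalKrullDim Y) := by
  have hc : IsClosed (Set.range f.base) := f.isClosedMap.isClosed_range
  haveI : QuasiSober ↥(Set.range f.base) := hc.isClosedEmbedding_subtypeVal.quasiSober
  let g : X → Set.range f.base := fun x => ⟨f.base x, x, rfl⟩
  have h1 : topologicalKrullDim X = topologicalKrullDim (Set.range f.base) := by
    refine le_antisymm (Groth.Agent.H12.topologicalKrullDim_le_of_eq_of_specializes g
      (f.continuous.subtype_mk _) fun x x' h e =>
        Groth.Agent.H12.eq_of_specializes_of_isIntegralHom f h (congrArg Subtype.val e)) ?_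
    refine Groth.Agent.H12.topologicalKrullDim_le_of_surjective_of_lift g
      (fun ⟨y, x, hx⟩ => ⟨x, Subtype.ext hx⟩) (Or.inl fun a b hb => ?_)
    obtain ⟨b', hb', hb''⟩ := f.isClosedMap.specializingMap ((subtype_specializes_iff _ _).1 hb :
      f.base a ⤳ (b : Y))
    exact ⟨b', hb', Subtype.ext hb''⟩
  refine ⟨h1, fun hs => h1.trans ?_⟩
  rw [hs.range_eq]
  exact IsHomeomorph.topologicalKrullDim_eq _ (Homeomorph.Set.univ Y).isHomeomorph

end Groth.Agent.S4717
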