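import Groth.Prelude.Def_EGA4b
import Groth.Prelude.Def_CAlg
import Groth.Prelude.Def_Found
import Mathlib.RingTheory.LocalRing.RingHom.Basic
import Mathlib.RingTheory.Flat.Basic
import Mathlib.RingTheory.Ideal.Quotient.Operations
import Mathlib.RingTheory.KrullDimension.Module
import Mathlib.RingTheory.Ideal.MinimalPrime.Basic
import Mathlib.RingTheory.Support
import Mathlib.RingTheory.Localization.AtPrime.Basic
import Groth.Agent.Lib.FlatDepth.FinitePush
import Groth.Agent.Lib.FlatDepth.LocalSelf

set_option autoImplicit false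
universe u
open EGA4

namespace Groth.Agent.S4718

/-- Let A be a Noetherian local ring, B a Noetherian ring, A → B a ring homomorphism and M a nonzero
B-module which is finite as an A-module. Then M is a Cohen–Macaulay A-module if and only if, for all
primes q of B lying over the maximal ideal of A and belonging to the support of M, the B_q-module
M_q is Cohen–Macaulay and all these modules M_q have the same dimension. -/
theorem result (A B : Type u) [CommRing A] [CommRing B]
    [IsNoetherianRing A] [IsLocalRing A] [IsNoetherianRing B] [Algebra A B]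
    (M : Type u) [AddCommGroup M] [Module B M] [Module A M] [IsScalarTower A B M] [Module.Finite A M]
    [Nontrivial M] :
    LocCoh.IsCohenMacaulayModule A M ↔
      (∀ q ∈ {q : PrimeSpectrum B | q.asIdeal.comap (algebraMap A B) = IsLocalRing.maximalIdeal A ∧
          q ∈ Module.support B M},
        LocCoh.IsCohenMacaulayModule (Localization.AtPrime q.asIdeal) (LocalizedModule q.asIdeal.primeCompl M)) ∧
      (∀ q ∈ {q : PrimeSpectrum B | q.asIdeal.comap (algebraMap A B) = IsLocalRing.maximalIdeal A ∧
          q ∈ Module.support B M},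
        ∀ q' ∈ {q : PrimeSpectrum B | q.asIdeal.comap (algebraMap A B) = IsLocalRing.maximalIdeal A ∧
          q ∈ Module.support B M},
          Module.supportDim (Localization.AtPrime q.asIdeal) (LocalizedModule q.asIdeal.primeCompl M) =
            Module.supportDim (Localization.AtPrime q'.asIdeal) (LocalizedModule q'.asIdeal.primeCompl M)) := by
  haveI : Module.Finite B M := Module.Finite.of_restrictScalars_finite A B M
  set S : Set (PrimeSpectrum B) := {q : PrimeSpectrum B |
    q.asIdeal.comap (algebraMap A B) = IsLocalRing.maximalIdeal A ∧ q ∈ Module.support B M}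
  obtain ⟨hdim, hdep⟩ := FlatDepth.invariants_restrict (B := B) M (IsLocalRing.maximalIdeal A)
  obtain ⟨e1, e2⟩ := FlatDepth.invariants_self (R := A) M
  obtain ⟨d, hd⟩ := DepthLib.exists_supportDim_eq_natCast (R := A) (M := M)
  have hS : ∀ q ∈ S, ∀ (_ : Nontrivial (LocalizedModule q.asIdeal.primeCompl M)),
      (FlatDepth.depthAt q.asIdeal M : WithBot ℕ∞) ≤ FlatDepth.dimAt q.asIdeal M := fun q _ _ =>
    DepthLib.depth_le_supportDim
  have hnt : ∀ q ∈ S, Nontrivial (LocalizedModule q.asIdeal.primeCompl M) := fun q hq =>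
    Module.mem_support_iff.1 hq.2
  change (Module.supportDim A M = (LocCoh.depth A M : WithBot ℕ∞)) ↔
    (∀ q ∈ S, FlatDepth.dimAt q.asIdeal M = (FlatDepth.depthAt q.asIdeal M : WithBot ℕ∞)) ∧
      ∀ q ∈ S, ∀ q' ∈ S, FlatDepth.dimAt q.asIdeal M = FlatDepth.dimAt q'.asIdeal M
  have hsup : Module.supportDim A M = ⨆ q ∈ S, FlatDepth.dimAt q.asIdeal M := e2.trans hdim
  have hinf : LocCoh.depth A M = ⨅ q ∈ S, FlatDepth.depthAt q.asIdeal M := e1.trans hdep
  constructor
  · intro h
    have hall : ∀ q ∈ S, FlatDepth.dimAt q.asIdeal M = Module.supportDim A M ∧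
        (FlatDepth.depthAt q.asIdeal M : WithBot ℕ∞) = Module.supportDim A M := by
      intro q hq
      have h1 : FlatDepth.dimAt q.asIdeal M ≤ Module.supportDim A M := by rw [hsup]; exact le_iSup₂_of_le q hq le_rfl
      have h2 : Module.supportDim A M ≤ (FlatDepth.depthAt q.asIdeal M : WithBot ℕ∞) := by
        rw [h]; refine WithBot.coe_le_coe.2 ?_; rw [hinf]; exact iInf₂_le_of_le q hq le_rfl
      have h3 := hS q hq (hnt q hq)
      exact ⟨le_antisymm h1 (h2.trans h3), le_antisymm (h3.trans h1) h2⟩
    exact ⟨fun q hq => (hall q hq).1.trans (hall q hq).2.symm,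
      fun q hq q' hq' => (hall q hq).1.trans (hall q' hq').1.symm⟩
  · rintro ⟨hcm, heq⟩
    refine le_antisymm ?_ DepthLib.depth_le_supportDim
    rw [hsup]
    refine iSup₂_le fun q hq => ?_
    obtain ⟨n, hn⟩ := DepthLib.exists_depth_eq_natCast (R := A) (M := M)
    have : ∀ q' ∈ S, FlatDepth.depthAt q'.asIdeal M = FlatDepth.depthAt q.asIdeal M := fun q' hq' => by
      have := (hcm q' hq').symm.trans ((heq q' hq' q hq).trans (hcm q hq))
      exact WithBot.coe_injective this
    rw [hcm q hq, hinf]
    exact WithBot.coe_le_coe.2 (le_iInf₂ fun q' hq' => (this q' hq').ge)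

end Groth.Agent.S4718
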