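import Groth.Prelude.Def_EGA4b
import Groth.Prelude.Def_CAlg
import Groth.Prelude.Def_Found
import Mathlib.RingTheory.LocalRing.RingHom.Basic
import Mathlib.RingTheory.Flat.Basic
import Mathlib.RingTheory.Ideal.Quotient.Operations
import Mathlib.RingTheory.KrullDimension.Module
import Mathlib.RingTheory.Ideal.MinimalPrime.Basic
import Mathlib.RingTheory.Support
import Mathlib.RingTheory.Localization.AtPrime.Basic
import Groth.Agent.Lib.FlatDepth.FinitePush

set_option autoImplicit false
universe u
open EGA4

namespace Groth.Agent.S4719

/-- Let A → B be a homomorphism of Noetherian rings and M a B-module which is finite as an A-module. (i)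
If M satisfies (S_k) as an A-module, it satisfies (S_k) as a B-module. (ii) If for every two primes
q, q' of B in the support of M having the same contraction to A the modules M_q and M_{q'} have the
same dimension, then (S_k) for M as a B-module implies (S_k) for M as an A-module. (The published
statement asks the equal-dimension condition for all pairs of primes of B with the same contraction;
this row asks it only for primes in the support of M, which is all its proof uses.) -/
theorem result (k : ℕ) (A B : Type u) [CommRing A] [CommRing B] [IsNoetherianRing A]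
    [IsNoetherianRing B] [Algebra A B] (M : Type u) [AddCommGroup M] [Module B M] [Module A M]
    [IsScalarTower A B M] [Module.Finite A M] :
    (LocCoh.HasSk k A M → LocCoh.HasSk k B M) ∧
      ((∀ q ∈ Module.support B M, ∀ q' ∈ Module.support B M,
          q.asIdeal.comap (algebraMap A B) = q'.asIdeal.comap (algebraMap A B) →
            Module.supportDim (Localization.AtPrime q.asIdeal) (LocalizedModule q.asIdeal.primeCompl M) =
              Module.supportDim (Localization.AtPrime q'.asIdeal) (LocalizedModule q'.asIdeal.primeCompl M)) →
        LocCoh.HasSk k B M → LocCoh.HasSk k A M) := by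
  haveI : Module.Finite B M := Module.Finite.of_restrictScalars_finite A B M
  constructor
  · intro h q _
    by_cases hq : (⟨q, ‹_›⟩ : PrimeSpectrum B) ∈ Module.support B M
    swap
    · haveI := Module.notMem_support_iff.1 hq
      rw [Module.supportDim_eq_bot_of_subsingleton]
      simp
    obtain ⟨hdim, hdep⟩ := FlatDepth.invariants_restrict (B := B) M (q.comap (algebraMap A B))
    have hp := h (q.comap (algebraMap A B))
    refine le_trans (min_le_min_left _ ?_) (hp.trans (WithBot.coe_le_coe.2 ?_))
    · change FlatDepth.dimAt q M ≤ FlatDepth.dimAt (q.comap (algebraMap A B)) M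
      rw [hdim]
      exact le_iSup₂_of_le (⟨q, ‹_›⟩ : PrimeSpectrum B) ⟨rfl, hq⟩ le_rfl
    · change FlatDepth.depthAt (q.comap (algebraMap A B)) M ≤ FlatDepth.depthAt q M
      rw [hdep]
      exact iInf₂_le_of_le (⟨q, ‹_›⟩ : PrimeSpectrum B) ⟨rfl, hq⟩ le_rfl
  · intro heq h p _
    obtain ⟨hdim, hdep⟩ := FlatDepth.invariants_restrict (B := B) M p
    change min (k : WithBot ℕ∞) (FlatDepth.dimAt p M) ≤ (FlatDepth.depthAt p M : WithBot ℕ∞)
    by_cases hne : (FlatDepth.overSet (B := B) M p).Nonempty
    · obtain ⟨q₀, hq₀⟩ := hne
      have hle : FlatDepth.dimAt p M ≤ FlatDepth.dimAt q₀.asIdeal M := by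
        rw [hdim]
        exact iSup₂_le fun q hq => (heq q hq.2 q₀ hq₀.2 (hq.1.trans hq₀.1.symm)).le
      induction hx : FlatDepth.depthAt p M using ENat.recTopCoe with
      | top => exact (min_le_left _ _).trans (WithBot.coe_le_coe.2 le_top)
      | coe n =>
        have : ¬ ∀ q ∈ FlatDepth.overSet (B := B) M p, ((n + 1 : ℕ) : ℕ∞) ≤ FlatDepth.depthAt q.asIdeal M := by
          intro hall
          have h1 : ((n + 1 : ℕ) : ℕ∞) ≤ FlatDepth.depthAt p M := hdep ▸ le_iInf₂ hall
          rw [hx] at h1
          exact absurd (Nat.cast_le.1 h1) (by omega)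
        push Not at this
        obtain ⟨q, hq, hlt⟩ := this
        refine le_trans (min_le_min_left _ (hle.trans (heq q₀ hq₀.2 q hq.2 (hq₀.1.trans hq.1.symm)).le))
          ((h q.asIdeal).trans (WithBot.coe_le_coe.2 ?_))
        rw [Nat.cast_succ] at hlt
        exact ENat.lt_coe_add_one_iff.1 hlt
    · rw [Set.not_nonempty_iff_eq_empty] at hne
      rw [hdim, hne]
      simp

end Groth.Agent.S4719
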