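import Groth.Prelude.Def_EGA4c
import Mathlib.RingTheory.Noetherian.Defs
import Mathlib.RingTheory.Spectrum.Prime.Topology
import Mathlib.LinearAlgebra.Quotient.Basic
import Groth.Agent.Lib.ClosedAlong.Sections
import Mathlib

set_option autoImplicit false
universe u
open EGA4

namespace Groth.Agent.S4720

/-- Let A be a Noetherian ring, Z a subset of Spec A stable under specialization, M an A-module and N a
submodule of M. If M is Z-pure, so is N; conversely, if N and M/N are Z-pure, so is M. -/
theorem result (A : Type u) [CommRing A] [IsNoetherianRing A]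
    (Z : Set (PrimeSpectrum A)) (hZ : StableUnderSpecialization Z) (M : Type u) [AddCommGroup M] [Module A M]
    (N : Submodule A M) :
    (EGA4.IsPureAlong Z M → EGA4.IsPureAlong Z ↥N) ∧
      (EGA4.IsPureAlong Z ↥N → EGA4.IsPureAlong Z (M ⧸ N) → EGA4.IsPureAlong Z M) := by
  refine ⟨fun h J hJ => ?_, fun hN hQ J hJ => ?_⟩
  · rw [ClosedAlong.injective_restrCompl_iff]
    intro m hm
    refine Subtype.ext ((ClosedAlong.injective_restrCompl_iff J M).1 (h J hJ) m fun g hg => ?_)
    obtain ⟨n, hn⟩ := hm g hg
    exact ⟨n, by simpa using congrArg Subtype.val hn⟩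
  · rw [ClosedAlong.injective_restrCompl_iff]
    intro m hm
    have h1 : m ∈ N := (Submodule.Quotient.mk_eq_zero N).1 <|
      (ClosedAlong.injective_restrCompl_iff J (M ⧸ N)).1 (hQ J hJ) _ fun g hg => by
        obtain ⟨n, hn⟩ := hm g hg
        exact ⟨n, by rw [← Submodule.Quotient.mk_smul, hn, Submodule.Quotient.mk_zero]⟩
    exact congrArg Subtype.val ((ClosedAlong.injective_restrCompl_iff J ↥N).1 (hN J hJ) ⟨m, h1⟩ fun g hg => by
      obtain ⟨n, hn⟩ := hm g hg
      exact ⟨n, Subtype.ext hn⟩)

end Groth.Agent.S4720
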