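import Groth.Prelude.Def_EGA4b
import Groth.Prelude.Def_CAlg
import Groth.Prelude.Def_Found
import Mathlib.RingTheory.LocalRing.RingHom.Basic
import Mathlib.RingTheory.Flat.Basic
import Mathlib.RingTheory.Ideal.Quotient.Operations
import Mathlib.RingTheory.KrullDimension.Module
import Mathlib.RingTheory.Ideal.MinimalPrime.Basic
import Mathlib.RingTheory.Ideal.Height
import Mathlib.RingTheory.Spectrum.Prime.Topology
import Mathlib.RingTheory.Localization.AtPrime.Basic
import Groth.Agent.Lib.HartConn6.Basic

set_option autoImplicit false
universe u
open EGA4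

namespace Groth.Agent.S4721

/-- Let A be a Noetherian ring whose spectrum is connected and d a natural number such that for every
prime p of height at least d the local ring A_p has depth at least 2. Then for any two distinct
minimal primes p', p'' of A there is a finite chain of minimal primes starting at p' and ending at
p'' such that any two consecutive members are both contained in a prime ideal of height at most d −
1 (the spectrum is connected in codimension at most d − 1). -/
theorem result (A : Type u) [CommRing A] [IsNoetherianRing A]
    [ConnectedSpace (PrimeSpectrum A)] (d : ℕ)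
    (h : ∀ (p : Ideal A) [p.IsPrime], (d : ℕ∞) ≤ p.height →
      (2 : ℕ∞) ≤ LocCoh.depth (Localization.AtPrime p) (Localization.AtPrime p))
    (p' p'' : Ideal A) (hp' : p' ∈ minimalPrimes A) (hp'' : p'' ∈ minimalPrimes A) (hne : p' ≠ p'') :
    ∃ (n : ℕ) (c : Fin (n + 1) → Ideal A), c 0 = p' ∧ c (Fin.last n) = p'' ∧ (∀ i, c i ∈ minimalPrimes A) ∧
      ∀ i : Fin n, ∃ (q : Ideal A) (_ : q.IsPrime),
        c i.castSucc ≤ q ∧ c i.succ ≤ q ∧ q.height + 1 ≤ (d : ℕ∞) := by
  exact Groth.Agent.HartConn6.exists_minimalPrimes_chain d h p' p'' hp' hp''


end Groth.Agent.S4721
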