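import Groth.Prelude.Def_EGA4b
import Groth.Prelude.Def_CAlg
import Groth.Prelude.Def_Found
import Mathlib.RingTheory.LocalRing.RingHom.Basic
import Mathlib.RingTheory.Flat.Basic
import Mathlib.RingTheory.Ideal.Quotient.Operations
import Mathlib.RingTheory.KrullDimension.Module
import Mathlib.RingTheory.Ideal.MinimalPrime.Basic
import Mathlib.RingTheory.Ideal.AssociatedPrime.Basic
import Mathlib.LinearAlgebra.Quotient.Basic
import Groth.Agent.Lib.ClosedAlong.Filtration

set_option autoImplicit false
universe u
namespace EGA4
end EGA4
open EGA4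

namespace Groth.Agent.S4722

/-- Let A be a Noetherian ring and M a finite A-module whose set of associated primes is a single prime
p. Then M has a finite decreasing filtration by submodules M = M_0 ⊇ M_1 ⊇ ⋯ ⊇ M_m = 0 such that
each quotient M_h/M_{h+1} is isomorphic to a submodule of A/p (i.e. embeds A-linearly into A/p). -/
theorem result (A : Type u) [CommRing A] [IsNoetherianRing A]
    (M : Type u) [AddCommGroup M] [Module A M] [Module.Finite A M] (p : Ideal A)
    (hp : associatedPrimes A M = {p}) :
    ∃ (m : ℕ) (F : Fin (m + 1) → Submodule A M), Antitone F ∧ F 0 = ⊤ ∧ F (Fin.last m) = ⊥ ∧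
      ∀ i : Fin m, ∃ g : (↥(F i.castSucc) ⧸ Submodule.comap (F i.castSucc).subtype (F i.succ)) →ₗ[A] (A ⧸ p),
        Function.Injective g := by
  exact Groth.Agent.ClosedAlong.exists_filtration_of_associatedPrimes_eq_singleton hp

end Groth.Agent.S4722
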