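import Groth.Prelude.Def_EGA4b
import Groth.Prelude.Def_CAlg
import Groth.Prelude.Def_Found
import Mathlib.RingTheory.LocalRing.RingHom.Basic
import Mathlib.RingTheory.Flat.Basic
import Mathlib.RingTheory.Ideal.Quotient.Operations
import Mathlib.RingTheory.KrullDimension.Module
import Mathlib.RingTheory.Ideal.MinimalPrime.Basic
import Mathlib.RingTheory.Ideal.Height
import Mathlib.RingTheory.Localization.FractionRing
import Mathlib.RingTheory.RegularLocalRing.Defs
import Groth.Agent.Lib.Sect6.RegularQuot
import Groth.Agent.Lib.Sect6.Japanese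
import Groth.Agent.Lib.UCat.Universal

set_option autoImplicit false
universe u
open EGA4

namespace Groth.Agent.S4723

/-- Let A be a Noetherian ring which is either a quotient of a regular Noetherian ring or universally
catenary and universally Japanese. Then for every prime q of A, writing B = A/q with fraction field
K, and every ideal J of B of height at least 2, the subring of K consisting of the elements lying in
B_p for every prime p of B not containing J (the ring of sections of the structure sheaf of Spec B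
over the open complement of V(J)) is a finite B-algebra (some B-subalgebra of K with exactly this
underlying set is a finitely generated B-module). -/
theorem result (A : Type u) [CommRing A] [IsNoetherianRing A]
    (hA : (∃ (R : Type u) (_ : CommRing R), IsNoetherianRing R ∧ IsRegularRing R ∧
        ∃ f : R →+* A, Function.Surjective f) ∨
      (CAlg.IsUniversallyCatenary A ∧ CAlg.IsUniversallyJapanese A))
    (q : Ideal A) [q.IsPrime] (J : Ideal (A ⧸ q)) (hJ2 : (2 : ℕ∞) ≤ J.height) :
    ∃ B' : Subalgebra (A ⧸ q) (FractionRing (A ⧸ q)),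
      (B' : Set (FractionRing (A ⧸ q))) =
          {x | ∀ (p : Ideal (A ⧸ q)) [p.IsPrime], ¬ J ≤ p →
            ∃ s : A ⧸ q, s ∉ p ∧ ∃ a : A ⧸ q,
              algebraMap (A ⧸ q) (FractionRing (A ⧸ q)) a = algebraMap (A ⧸ q) (FractionRing (A ⧸ q)) s * x} ∧
        Module.Finite (A ⧸ q) B' := by
  classical
  refine ⟨Groth.Agent.Sect6.sectionsOutside (A ⧸ q) (FractionRing (A ⧸ q)) J, rfl, ?_⟩
  rcases hA with ⟨R, hR1, hR2, hR3, f, hf⟩ | ⟨hUC, hUJ⟩
  swap
  · haveI : Algebra.FiniteType A (A ⧸ q) :=
      Algebra.FiniteType.of_surjective (Algebra.ofId A (A ⧸ q)) Ideal.Quotient.mk_surjective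
    haveI : Module.Finite (A ⧸ q) (integralClosure (A ⧸ q) (FractionRing (A ⧸ q))) :=
      hUJ (A ⧸ q) inferInstance (FractionRing (A ⧸ q)) inferInstance
    exact Groth.Agent.Sect6.finite_sectionsOutside_of_japanese
      (Groth.Agent.UCat.isUniversallyCatenary_of_surjective (Ideal.Quotient.mk q)
        Ideal.Quotient.mk_surjective hUC) hJ2
  set K := FractionRing (A ⧸ q)
  set T := Groth.Agent.Sect6.sectionsOutside (A ⧸ q) K J
  haveI := hR2
  haveI := hR3
  have hden : ∀ x ∈ T, J ≤ Ideal.radical (Submodule.comap (LinearMap.toSpanSingleton (A ⧸ q) K x)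
      (LinearMap.range (Algebra.linearMap (A ⧸ q) K))) := by
    intro x hx
    rw [Ideal.radical_eq_sInf]
    refine le_sInf fun p ⟨hle, hp⟩ => ?_
    by_contra hJp
    haveI := hp
    obtain ⟨s, hs, a, ha⟩ := hx p hJp
    exact hs (hle ⟨a, by simpa [Algebra.smul_def] using ha⟩)
  have key : ∃ G : Finset K, (G : Set K) ⊆ T ∧ (T : Set K) ⊆ Submodule.span (A ⧸ q) (G : Set K) := by
    by_cases hJt : J = ⊤
    · refine ⟨{1}, by simp, fun x hx => ?_⟩
      obtain ⟨n, hn⟩ := hden x hx (hJt ▸ Submodule.mem_top (x := (1 : A ⧸ q)))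
      rw [one_pow] at hn
      obtain ⟨a, ha⟩ := hn
      simp only [LinearMap.toSpanSingleton_apply, one_smul, Algebra.linearMap_apply] at ha
      rw [Finset.coe_singleton]
      exact Submodule.mem_span_singleton.2 ⟨a, by rw [Algebra.smul_def, mul_one, ha]⟩
    let π : R →+* A ⧸ q := (Ideal.Quotient.mk q).comp f
    have hπ : Function.Surjective π := Ideal.Quotient.mk_surjective.comp hf
    haveI : (RingHom.ker π).IsPrime := RingHom.ker_isPrime π
    let e := RingHom.quotientKerEquivOfSurjective hπ
    have hJh : ∀ P : Ideal R, P.IsPrime → J.comap π ≤ P → (RingHom.ker π).height + 2 ≤ P.height := by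
      intro P hP hle
      have hk : RingHom.ker π ≤ P := le_trans (fun r hr => by
        rw [Ideal.mem_comap, RingHom.mem_ker.1 hr]; exact zero_mem J) hle
      rw [← Groth.Agent.LocCohLib.height_add_quotient_eq ⟨RingHom.ker π, inferInstance⟩ ⟨P, hP⟩ hk]
      gcongr
      refine hJ2.trans ((RingEquiv.height_comap e J).symm.le.trans (Ideal.height_mono ?_))
      intro z hz
      obtain ⟨r, rfl⟩ := Ideal.Quotient.mk_surjective z
      exact Ideal.mem_map_of_mem _ (hle (by
        have hz' : e (Ideal.Quotient.mk (RingHom.ker π) r) ∈ J := hz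
        rw [RingHom.quotientKerEquivOfSurjective_apply_mk] at hz'
        exact hz'))
    obtain ⟨I, w, hI, hw, a, haJ, b, hbJ, ha, hb⟩ := Groth.Agent.Sect6.exists_cut (RingHom.ker π) (J.comap π)
      (fun r hr => by rw [Ideal.mem_comap, RingHom.mem_ker.1 hr]; exact zero_mem J)
      (fun h => hJt (by rw [← Ideal.map_comap_of_surjective π hπ J, h, Ideal.map_top])) hJh
    let φ : R ⧸ I →+* A ⧸ q := Ideal.Quotient.lift I π fun r hr => RingHom.mem_ker.1 (hI hr)
    have hφ : Function.Surjective φ := fun z => by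
      obtain ⟨r, hr⟩ := hπ z
      exact ⟨Ideal.Quotient.mk I r, hr⟩
    have hwφ : ∀ c : R ⧸ I, c * w = 0 ↔ φ c = 0 := fun c => by
      obtain ⟨r, rfl⟩ := Ideal.Quotient.mk_surjective c
      rw [hw, RingHom.mem_ker]
      rfl
    refine Groth.Agent.Sect6.exists_span_finset_ge φ (Ideal.Quotient.mk I a) w hwφ ?_ (T : Set K) fun x hx => ?_
    · intro h0
      have h1 := ha w ((hwφ _).2 h0)
      have h2 := (hw 1).1 (by rw [map_one, one_mul, h1])
      exact (RingHom.ker_isPrime π).ne_top ((Ideal.eq_top_iff_one _).2 h2)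
    obtain ⟨n, hn⟩ := hden x hx haJ
    obtain ⟨m, hm⟩ := hden x hx hbJ
    refine Groth.Agent.Sect6.exists_rel φ hφ (Ideal.Quotient.mk I a) (Ideal.Quotient.mk I b) w hwφ ha hb x (n + m) ?_ ?_
    · obtain ⟨c, hc⟩ := hn
      refine ⟨π a ^ m * c, ?_⟩
      simp only [Algebra.linearMap_apply, LinearMap.toSpanSingleton_apply, Algebra.smul_def] at hc
      show algebraMap (A ⧸ q) K _ = algebraMap (A ⧸ q) K (π a) ^ (n + m) * x
      rw [map_mul, map_pow, hc, map_pow, pow_add]; ring
    · obtain ⟨c, hc⟩ := hm
      refine ⟨π b ^ n * c, ?_⟩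
      simp only [Algebra.linearMap_apply, LinearMap.toSpanSingleton_apply, Algebra.smul_def] at hc
      show algebraMap (A ⧸ q) K _ = algebraMap (A ⧸ q) K (π b) ^ (n + m) * x
      rw [map_mul, map_pow, hc, map_pow, pow_add]; ring
  obtain ⟨G, hGT, hTG⟩ := key
  have heq : Subalgebra.toSubmodule T = Submodule.span (A ⧸ q) (G : Set K) :=
    le_antisymm hTG (Submodule.span_le.2 hGT)
  exact (Module.Finite.iff_fg (N := Subalgebra.toSubmodule T)).2 ⟨G, heq.symm⟩


end Groth.Agent.S4723
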