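import Groth.Prelude.Def_EGA4b
import Groth.Prelude.Def_CAlg
import Groth.Prelude.Def_Found
import Mathlib.RingTheory.LocalRing.RingHom.Basic
import Mathlib.RingTheory.Flat.Basic
import Mathlib.RingTheory.Ideal.Quotient.Operations
import Mathlib.RingTheory.KrullDimension.Module
import Mathlib.RingTheory.Ideal.MinimalPrime.Basic
import Mathlib.Algebra.Colimit.Ring
import Mathlib.RingTheory.Nilpotent.Defs
import Mathlib.RingTheory.Finiteness.Defs
import Mathlib.Algebra.Module.FinitePresentation
import Mathlib.RingTheory.TensorProduct.Basic
import Groth.Agent.Lib.Gems6.FPDescent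

set_option autoImplicit false
universe u
namespace EGA4
end EGA4
open EGA4

namespace Groth.Agent.S4726

open TensorProduct in
/-- Let (A_i) be a directed system of commutative rings with direct limit A and M a finitely presented
A-module. Then there exist an index i and a finitely presented A_i-module M_i such that M is
isomorphic, as an A-module, to A ⊗_{A_i} M_i (A being an A_i-algebra through the canonical map). -/
theorem result (ι : Type u) [Preorder ι] [Nonempty ι] [IsDirectedOrder ι]
    (G : ι → Type u) [∀ i, CommRing (G i)] (f : ∀ i j, i ≤ j → G i →+* G j)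
    [DirectedSystem G (fun i j h ↦ f i j h)] (M : Type u) [AddCommGroup M]
    [Module (Ring.DirectLimit G (fun i j h ↦ f i j h)) M]
    [Module.FinitePresentation (Ring.DirectLimit G (fun i j h ↦ f i j h)) M] :
    ∃ (i : ι) (Mi : Type u) (_ : AddCommGroup Mi) (_ : Module (G i) Mi), Module.FinitePresentation (G i) Mi ∧
      letI : Algebra (G i) (Ring.DirectLimit G (fun i j h ↦ f i j h)) :=
        (Ring.DirectLimit.of G (fun i j h ↦ f i j h) i).toAlgebra
      Nonempty (M ≃ₗ[Ring.DirectLimit G (fun i j h ↦ f i j h)] (Ring.DirectLimit G (fun i j h ↦ f i j h)) ⊗[G i] Mi) := by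
  exact Groth.Agent.Gems6.FPDescent.main ι G f M

end Groth.Agent.S4726
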