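import Groth.Statements.S4728
import Groth.Agent.Lib.GRing6.NorOpen
import Groth.Agent.Lib.NormalSmooth12.Basic

set_option autoImplicit false
universe u
open EGA4

namespace Groth.Agent.S4728

/-- Let A be a Noetherian local domain of dimension 1 with maximal ideal m, A' a Noetherian local ring
and A → A' a local homomorphism which is normal (flat, with geometrically normal fibres). Then the
ideal m A' of A' is prime and the local ring of A' at m A' has dimension 1. (The remaining clauses
of the published item, describing A' inside its total ring of fractions, are not restated.) -/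
theorem result (A A' : Type u) [CommRing A] [CommRing A']
    [IsNoetherianRing A] [IsNoetherianRing A'] [IsLocalRing A] [IsLocalRing A'] [IsDomain A]
    (hA : ringKrullDim A = 1) [Algebra A A'] [IsLocalHom (algebraMap A A')] (h : EGA4.IsNormalHom A A') :
    ((IsLocalRing.maximalIdeal A).map (algebraMap A A')).IsPrime ∧
      ((IsLocalRing.maximalIdeal A).map (algebraMap A A')).height = 1 := by
  haveI := h.1
  let m := IsLocalRing.maximalIdeal A
  let I := m.map (algebraMap A A')
  have hI : I ≤ IsLocalRing.maximalIdeal A' := Ideal.map_le_iff_le_comap.mpr fun a ha hu =>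
    ha (isUnit_of_map_unit _ _ hu)
  haveI : Nontrivial (A' ⧸ I) := Ideal.Quotient.nontrivial_iff.mpr fun ht =>
    (IsLocalRing.maximalIdeal.isMaximal A').ne_top (top_le_iff.mp (ht ▸ hI))
  haveI : IsLocalRing (A' ⧸ I) := IsLocalRing.of_surjective' _ Ideal.Quotient.mk_surjective
  let e1 : (A ⧸ m) ≃ₐ[A] m.ResidueField :=
    AlgEquiv.ofBijective (IsScalarTower.toAlgHom A (A ⧸ m) m.ResidueField)
      (Ideal.bijective_algebraMap_quotient_residueField m)
  let e2 : m.Fiber A' ≃+* (A' ⧸ I) :=
    ((Algebra.TensorProduct.congr e1.symm (AlgEquiv.refl : A' ≃ₐ[A] A')).trans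
      ((Algebra.TensorProduct.comm A (A ⧸ m) A').trans
        ((Algebra.TensorProduct.quotIdealMapEquivTensorQuot A' m).symm.restrictScalars A))).toRingEquiv
  have hn : EGA4.IsNormalRing (A' ⧸ I) :=
    Groth.Agent.FlatDepth.isNormalRing_of_ringEquiv e2 (Groth.Agent.GRing6.normal_fibre_of_isNormalHom A A' h m)
  haveI : IsDomain (A' ⧸ I) := Groth.Agent.NormalSmooth12.isDomain_of_isNormalRing hn fun e he => by
    rcases IsLocalRing.isUnit_or_isUnit_one_sub_self e with hu | hu
    · exact Or.inr (hu.mul_left_cancel (by rw [he.eq, mul_one]))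
    · exact Or.inl (hu.mul_left_eq_zero.mp (by rw [mul_sub, mul_one, he.eq, sub_self]))
  haveI hIp : I.IsPrime := (Ideal.Quotient.isDomain_iff_prime I).mp inferInstance
  refine ⟨hIp, ?_⟩
  haveI : I.LiesOver m := ⟨le_antisymm Ideal.le_comap_map (IsLocalRing.le_maximalIdeal (Ideal.comap_ne_top _ hIp.ne_top))⟩
  rw [Ideal.height_eq_height_add_of_liesOver_of_hasGoingDown m I]
  have h0 : (I.map (Ideal.Quotient.mk I)).height = 0 := by
    rw [Ideal.map_quotient_self]
    exact Ideal.height_bot
  rw [h0, add_zero]
  have := IsLocalRing.maximalIdeal_height_eq_ringKrullDim (R := A)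
  rw [hA] at this
  exact_mod_cast this

end Groth.Agent.S4728
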