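import Groth.Prelude.Def_EGA4b
import Groth.Prelude.Def_CAlg
import Groth.Prelude.Def_Found
import Mathlib.RingTheory.LocalRing.RingHom.Basic
import Mathlib.RingTheory.Flat.Basic
import Mathlib.RingTheory.Ideal.Quotient.Operations
import Mathlib.RingTheory.KrullDimension.Module
import Mathlib.RingTheory.Ideal.MinimalPrime.Basic
import Mathlib.RingTheory.Localization.AtPrime.Basic
import Mathlib

set_option autoImplicit false
universe u
namespace EGA4
end EGA4
open EGA4

namespace Groth.Agent.S4729

/-- Let A be a commutative ring, M a finite A-module and p ⊆ q prime ideals of A (so that p is a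
generization of q). Then the dimension of the A_p-module M_p is at most the dimension of the
A_q-module M_q. -/
theorem result (A : Type u) [CommRing A] (M : Type u) [AddCommGroup M] [Module A M]
    [Module.Finite A M] (p q : Ideal A) [p.IsPrime] [q.IsPrime] (hpq : p ≤ q) :
    Module.supportDim (Localization.AtPrime p) (LocalizedModule p.primeCompl M) ≤
      Module.supportDim (Localization.AtPrime q) (LocalizedModule q.primeCompl M) := by
  refine le_trans ?_ le_rfl
  have key : ∀ (r : Ideal A) [r.IsPrime] (z : PrimeSpectrum (Localization.AtPrime r)),
      z ∈ Module.support (Localization.AtPrime r) (LocalizedModule r.primeCompl M) ↔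
        PrimeSpectrum.comap (algebraMap A (Localization.AtPrime r)) z ∈ Module.support A M := by
    intro r _ z
    rw [Module.mem_support_iff_of_finite, Module.mem_support_iff_of_finite]
    constructor
    · intro h x hx
      refine h (Module.mem_annihilator.mpr fun m => ?_)
      induction m using LocalizedModule.induction_on with
      | h m s =>
        rw [algebraMap_smul, LocalizedModule.smul'_mk, Module.mem_annihilator.mp hx m, LocalizedModule.zero_mk]
    · intro h y hy
      obtain ⟨x, s, rfl⟩ := IsLocalization.exists_mk'_eq r.primeCompl y
      obtain ⟨gens, hgens⟩ := Module.Finite.fg_top (R := A) (M := M)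
      have hx : ∀ m : M, algebraMap A (Localization.AtPrime r) x • LocalizedModule.mkLinearMap r.primeCompl M m = 0 := fun m => by
        rw [← IsLocalization.mk'_spec (Localization.AtPrime r) x s, mul_comm, mul_smul,
          Module.mem_annihilator.mp hy, smul_zero]
      have hx' : ∀ m : M, ∃ t : r.primeCompl, (t : A) • x • m = 0 := fun m => by
        have := hx m
        rw [algebraMap_smul, ← map_smul, IsLocalizedModule.eq_zero_iff r.primeCompl] at this
        exact this
      choose t ht using hx'
      classical
      let T : r.primeCompl := ∏ m ∈ gens, t m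
      have hT : (T : A) * x ∈ Module.annihilator A M := by
        rw [Module.mem_annihilator]
        intro m
        have hm : m ∈ Submodule.span A (gens : Set M) := hgens ▸ Submodule.mem_top
        induction hm using Submodule.span_induction with
        | mem g hg =>
          simp only [T, Submonoid.coe_finsetProd]
          rw [← Finset.prod_erase_mul _ _ hg, mul_assoc, mul_smul, mul_smul, ht, smul_zero]
        | zero => rw [smul_zero]
        | add a b _ _ ha hb => rw [smul_add, ha, hb, add_zero]
        | smul c a _ ha => rw [smul_comm, ha, smul_zero]
      have h3 : algebraMap A (Localization.AtPrime r) x ∈ z.asIdeal :=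
        ((PrimeSpectrum.comap (algebraMap A (Localization.AtPrime r)) z).2.mem_or_mem (h hT)).resolve_left
          fun h => z.2.ne_top (Ideal.eq_top_of_isUnit_mem _ h (IsLocalization.map_units (Localization.AtPrime r) T))
      rw [IsLocalization.mk'_eq_mul_mk'_one]
      exact Ideal.mul_mem_right _ _ h3
  let f := PrimeSpectrum.comap (algebraMap A (Localization.AtPrime p))
  have hlift : ∀ z : PrimeSpectrum (Localization.AtPrime p), ∃ w : PrimeSpectrum (Localization.AtPrime q),
      PrimeSpectrum.comap (algebraMap A (Localization.AtPrime q)) w = f z := by
    intro z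
    have hd : Disjoint (q.primeCompl : Set A) ((f z).asIdeal : Set A) := by
      rw [Set.disjoint_left]
      intro x hx hxz
      refine hx (hpq ?_)
      by_contra hxp
      exact z.2.ne_top (Ideal.eq_top_of_isUnit_mem _ hxz
        (IsLocalization.map_units (Localization.AtPrime p) (⟨x, hxp⟩ : p.primeCompl)))
    exact ⟨⟨_, IsLocalization.isPrime_of_isPrime_disjoint q.primeCompl _ _ (f z).2 hd⟩,
      PrimeSpectrum.ext (IsLocalization.under_map_of_isPrime_disjoint q.primeCompl _ (f z).2 hd)⟩
  choose w hw using hlift
  refine Order.krullDim_le_of_strictMono (fun z => (⟨w z.1, (key q _).mpr (by rw [hw]; exact (key p _).mp z.2)⟩ :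
    Module.support (Localization.AtPrime q) (LocalizedModule q.primeCompl M))) ?_
  intro a b hab
  have hmono : ∀ {r : Ideal A} [r.IsPrime] {u v : PrimeSpectrum (Localization.AtPrime r)},
      (PrimeSpectrum.comap (algebraMap A (Localization.AtPrime r)) u).asIdeal ≤
        (PrimeSpectrum.comap (algebraMap A (Localization.AtPrime r)) v).asIdeal ↔ u ≤ v :=
    fun {r} _ {u v} => (IsLocalization.orderEmbedding r.primeCompl (Localization.AtPrime r)).map_rel_iff
  show w a.1 < w b.1
  rw [lt_iff_le_not_ge, ← hmono, ← hmono, hw, hw, hmono, hmono, ← lt_iff_le_not_ge]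
  exact hab

end Groth.Agent.S4729
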