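import Groth.Prelude.Def_EGA4b
import Groth.Prelude.Def_CAlg
import Groth.Prelude.Def_Found
import Mathlib.RingTheory.LocalRing.RingHom.Basic
import Mathlib.RingTheory.Flat.Basic
import Mathlib.RingTheory.Ideal.Quotient.Operations
import Mathlib.RingTheory.KrullDimension.Module
import Mathlib.RingTheory.Ideal.MinimalPrime.Basic
import Mathlib.Order.Hom.Basic
import Mathlib

set_option autoImplicit false
universe u
namespace EGA4
end EGA4
open EGA4

namespace Groth.Agent.S4731

/-- Let S → R be an injective homomorphism of commutative rings making R a finite S-module, with R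
Noetherian; let c be the conductor of S in R, the ideal of those s in S with s R contained in (the
image of) S. If S/c is Noetherian, then every increasing sequence of ideals of S contained in c is
eventually constant. -/
theorem result (S R : Type u) [CommRing S] [CommRing R] [Algebra S R]
    [FaithfulSMul S R] [IsNoetherianRing R] [Module.Finite S R] (c : Ideal S)
    (hc : ∀ s : S, s ∈ c ↔ ∀ r : R, ∃ s' : S, algebraMap S R s' = algebraMap S R s * r)
    [IsNoetherianRing (S ⧸ c)] (a : ℕ →o Ideal S) (ha : ∀ n, a n ≤ c) :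
    ∃ N : ℕ, ∀ n, N ≤ n → a n = a N := by
  let ι := algebraMap S R
  have hinj : Function.Injective ι := FaithfulSMul.algebraMap_injective S R
  let I : ℕ →o Ideal R := ⟨fun n => (a n).map ι, fun m n h => Ideal.map_mono (a.mono h)⟩
  obtain ⟨N₀, hN₀⟩ := monotone_stabilizes_iff_noetherian.mpr (inferInstanceAs (IsNoetherian R R)) I
  let J : Submodule S R := (I N₀).restrictScalars S
  have hcI : ∀ n, N₀ ≤ n → c • J ≤ Submodule.map (Algebra.linearMap S R) (a n) := by
    intro n hn
    refine Submodule.smul_le.2 fun t ht x hx => ?_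
    have key : ∀ y ∈ Submodule.span R (ι '' (a n : Set S)), ∀ r : R, ι t * r * y ∈ Submodule.map (Algebra.linearMap S R) (a n) := by
      intro y hy
      induction hy using Submodule.span_induction with
      | mem w hw =>
        intro r
        obtain ⟨z, hz, rfl⟩ := hw
        obtain ⟨t', ht'⟩ := (hc t).mp ht r
        exact ⟨t' * z, (a n).mul_mem_left t' hz, by rw [← ht']; exact map_mul ι t' z⟩
      | zero => intro r; rw [mul_zero]; exact zero_mem _
      | add u v _ _ hu hv => intro r; rw [mul_add]; exact add_mem (hu r) (hv r)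
      | smul r' w _ hw => intro r; rw [smul_eq_mul, ← mul_assoc, mul_assoc (ι t)]; exact hw (r * r')
    have hx' : x ∈ Submodule.span R (ι '' (a n : Set S)) := by
      have h' : x ∈ I N₀ := hx
      rwa [hN₀ n hn] at h'
    have := key x hx' 1
    rwa [mul_one, ← Algebra.smul_def] at this
  -- the subquotients live in a Noetherian `S ⧸ c`-module
  haveI : Module.Finite R (I N₀) := Module.Finite.iff_fg.mpr (IsNoetherian.noetherian _)
  haveI : Module.Finite S J := by
    haveI : Module.Finite S (I N₀) := Module.Finite.trans R (I N₀)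
    exact Module.Finite.equiv (⟨⟨⟨fun x => ⟨x.1, x.2⟩, fun _ _ => rfl⟩, fun s x => rfl⟩,
      fun x => ⟨x.1, x.2⟩, fun _ => rfl, fun _ => rfl⟩ : (I N₀) ≃ₗ[S] J)
  let P : Submodule S J := c • ⊤
  haveI hfin : Module.Finite (S ⧸ c) (J ⧸ P) := Module.Finite.of_restrictScalars_finite S (S ⧸ c) _
  haveI : IsNoetherian (S ⧸ c) (J ⧸ P) := isNoetherian_of_isNoetherianRing_of_finite (S ⧸ c) _
  haveI : IsNoetherian S (J ⧸ P) := ⟨fun M => by
    let M' : Submodule (S ⧸ c) (J ⧸ P) :=
      { toAddSubmonoid := M.toAddSubmonoid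
        smul_mem' := fun q x hx => by
          obtain ⟨q', rfl⟩ := Ideal.Quotient.mk_surjective q
          exact M.smul_mem q' hx }
    have h := (IsNoetherian.noetherian M').restrictScalars_of_surjective (R := S)
      (Ideal.Quotient.mk_surjective : Function.Surjective (algebraMap S (S ⧸ c)))
    exact h⟩
  let F : ℕ →o Submodule S (J ⧸ P) :=
    ⟨fun n => ((Submodule.map (Algebra.linearMap S R) (a n)).comap J.subtype).map P.mkQ,
      fun m n h => Submodule.map_mono (Submodule.comap_mono (Submodule.map_mono (a.mono h)))⟩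
  obtain ⟨N₁, hN₁⟩ := monotone_stabilizes_iff_noetherian.mpr inferInstance F
  refine ⟨max N₀ N₁, fun n hn => ?_⟩
  let N := max N₀ N₁
  have hmono : a N ≤ a n := a.mono hn
  refine le_antisymm (fun y hy => ?_) hmono
  have hJ : ∀ m, N₀ ≤ m → ∀ z ∈ a m, ι z ∈ J := fun m hm z hz => by
    show ι z ∈ I N₀
    rw [hN₀ m hm]; exact Ideal.mem_map_of_mem ι hz
  have hn₀ : N₀ ≤ n := (le_max_left _ _).trans hn
  have hF : F n = F N := by
    rw [← hN₁ n ((le_max_right _ _).trans hn), ← hN₁ N (le_max_right _ _)]
  have hy' : P.mkQ ⟨ι y, hJ n hn₀ y hy⟩ ∈ F n := ⟨_, ⟨y, hy, rfl⟩, rfl⟩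
  rw [hF] at hy'
  obtain ⟨⟨w, hwJ⟩, ⟨z, hz, hzw⟩, hw⟩ := hy'
  obtain rfl : ι z = w := hzw
  rw [Submodule.mkQ_apply, Submodule.mkQ_apply, Submodule.Quotient.eq] at hw
  have h3 : ι z - ι y ∈ c • J := by
    have := Submodule.mem_map_of_mem (f := J.subtype) hw
    rwa [Submodule.map_smul'', Submodule.map_top, Submodule.range_subtype] at this
  obtain ⟨u, hu, huy⟩ := hcI N (le_max_left _ _) h3
  have : z - y = u := hinj (by rw [map_sub]; exact huy.symm)
  rw [show y = z - u by rw [← this]; ring]
  exact sub_mem hz hu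

end Groth.Agent.S4731
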