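import Groth.Statements.S4732
import Groth.Agent.Lib.GenSmooth18.Scheme
import Groth.Agent.Lib.WeilExt.Regular

set_option autoImplicit false
universe u
open EGA4

namespace Groth.Agent.S4732

open AlgebraicGeometry CategoryTheory in
/-- Let k be a field, X a scheme locally of finite type over k and x a point of X. Then there are an
open neighbourhood U of x, a k-scheme Y all of whose local rings are regular, and an immersion U → Y
compatible with the structure morphisms to Spec k. -/
theorem result (k : Type u) [Field k] {X : Scheme.{u}}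
    (f : X ⟶ Spec (CommRingCat.of k)) [LocallyOfFiniteType f] (x : X) :
    ∃ (U : X.Opens) (_ : x ∈ U) (Y : Scheme.{u}) (g : Y ⟶ Spec (CommRingCat.of k)) (i : (U : Scheme.{u}) ⟶ Y),
      IsImmersion i ∧ i ≫ g = U.ι ≫ f ∧ ∀ y : Y, IsRegularLocalRing (Y.presheaf.stalk y) := by
  obtain ⟨U, hU, hxU, -⟩ := exists_isAffineOpen_mem_and_subset (show x ∈ (⊤ : X.Opens) from trivial)
  let φ : CommRingCat.of k ⟶ Γ(X, U) := (Scheme.ΓSpecIso (CommRingCat.of k)).inv ≫ f.appLE ⊤ U le_top
  letI : Algebra k Γ(X, U) := φ.hom.toAlgebra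
  haveI : Algebra.FiniteType k Γ(X, U) :=
    RingHom.FiniteType.comp (f.finiteType_appLE (isAffineOpen_top _) hU _)
      (RingHom.FiniteType.of_surjective _ (Scheme.ΓSpecIso (CommRingCat.of k)).symm.commRingCatIsoToRingEquiv.surjective)
  obtain ⟨n, ψ, hψ⟩ := Algebra.FiniteType.iff_quotient_mvPolynomial''.1 ‹Algebra.FiniteType k Γ(X, U)›
  haveI : IsClosedImmersion (Spec.map (CommRingCat.ofHom ψ.toRingHom)) :=
    IsClosedImmersion.spec_of_surjective _ hψ
  refine ⟨U, hxU, Spec (CommRingCat.of (MvPolynomial (Fin n) k)),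
    Spec.map (CommRingCat.ofHom (algebraMap k (MvPolynomial (Fin n) k))),
    hU.isoSpec.hom ≫ Spec.map (CommRingCat.ofHom ψ.toRingHom), inferInstance, ?_, fun y => ?_⟩
  · have e : CommRingCat.ofHom (algebraMap k (MvPolynomial (Fin n) k)) ≫ CommRingCat.ofHom ψ.toRingHom = φ :=
      CommRingCat.hom_ext (RingHom.ext fun c => ψ.commutes c)
    rw [Category.assoc, ← Spec.map_comp, e]
    simp only [φ, Spec.map_comp, IsAffineOpen.isoSpec_hom]
    rw [← Category.assoc]
    have h1 : hU.isoSpec.hom ≫ hU.fromSpec = U.ι := hU.isoSpec_hom_fromSpec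
    have h2 := IsAffineOpen.SpecMap_appLE_fromSpec f (isAffineOpen_top (Spec (CommRingCat.of k))) hU (le_top : U ≤ f ⁻¹ᵁ ⊤)
    have h3 : (isAffineOpen_top (Spec (CommRingCat.of k))).fromSpec = Spec.map (Scheme.ΓSpecIso (CommRingCat.of k)).inv := by
      rw [IsAffineOpen.fromSpec_top, Scheme.isoSpec_Spec_inv]
    rw [h3] at h2
    rw [Category.assoc, h2, ← Category.assoc, ← IsAffineOpen.isoSpec_hom hU, h1]
  · exact Groth.Agent.WeilExt.isRegularLocalRing_stalk_Spec _ y

end Groth.Agent.S4732
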