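import Groth.Prelude.Def_EGA4b
import Groth.Prelude.Def_CAlg
import Groth.Prelude.Def_Found
import Mathlib.RingTheory.LocalRing.RingHom.Basic
import Mathlib.RingTheory.Flat.Basic
import Mathlib.RingTheory.Ideal.Quotient.Operations
import Mathlib.RingTheory.KrullDimension.Module
import Mathlib.RingTheory.Ideal.MinimalPrime.Basic
import Mathlib.RingTheory.RegularLocalRing.Defs
import Mathlib.RingTheory.TensorProduct.Basic
import Mathlib.RingTheory.EssentialFiniteness
import Mathlib.RingTheory.Nilpotent.GeometricallyReduced
import Mathlib.RingTheory.Localization.AtPrime.Basic
import Groth.Agent.Lib.FlatDepth.GeomTensor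

set_option autoImplicit false
universe u
open EGA4

namespace Groth.Agent.S4733

open TensorProduct in
/-- For the property 'regular' (affine form): let k be a field, S a Noetherian k-algebra and k' an
extension field of k such that S is of finite type over k or k' is essentially of finite type over
k; let q' be a prime of S ⊗_k k' and q its contraction to S. If (S ⊗_k k')_{q'} is a regular local
ring then so is S_q; conversely, if k' is separable over k (geometrically reduced) and S_q is
regular, then (S ⊗_k k')_{q'} is regular. -/
theorem result (k S k' : Type u) [Field k] [CommRing S] [Algebra k S]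
    [IsNoetherianRing S] [Field k'] [Algebra k k'] (hft : Algebra.FiniteType k S ∨ Algebra.EssFiniteType k k')
    [IsNoetherianRing (S ⊗[k] k')] (q' : Ideal (S ⊗[k] k')) [q'.IsPrime] :
    (IsRegularLocalRing (Localization.AtPrime q') →
        IsRegularLocalRing (Localization.AtPrime (q'.comap (algebraMap S (S ⊗[k] k'))))) ∧
      (Algebra.IsGeometricallyReduced k k' →
        IsRegularLocalRing (Localization.AtPrime (q'.comap (algebraMap S (S ⊗[k] k')))) →
          IsRegularLocalRing (Localization.AtPrime q')) := by
  refine ⟨fun h => FlatDepth.regular_at_base q', fun hsep h => ?_⟩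
  haveI := FlatDepth.regular_fibLoc_field (k := k) (S := S) k' q'
  exact FlatDepth.regular_of_fibre (A := S) q'

end Groth.Agent.S4733
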