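import Groth.Statements.S4734
import Mathlib
import Groth.Agent.Lib.FlatDepth.NormFlat
import Groth.Agent.Lib.FlatDepth.SkLocal
-- import your own Groth.Agent.* helpers here

set_option autoImplicit false
universe u
open EGA4

namespace Groth.Agent.S4734

/-- Let A be a Noetherian ring, I a nilpotent ideal of A and M a finite A-module whose support is all of
Spec A and which is normally flat along I. Then for every prime p of A: M satisfies Serre's
condition (S_n) at p if and only if the A-module A/I does; and the codepth of M_p is at most n if
and only if the codepth of the A_p-module (A/I)_p is at most n (codepth written additively as dim ≤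
depth + n). -/
theorem result (n : ℕ) (A : Type u) [CommRing A] [IsNoetherianRing A]
    (I : Ideal A) (hI : IsNilpotent I) (M : Type u) [AddCommGroup M] [Module A M] [Module.Finite A M]
    (hsupp : Module.support A M = Set.univ) (hM : EGA4.IsNormallyFlat I M) (p : Ideal A) [p.IsPrime] :
    (EGA4.HasSkAt n A M p ↔ EGA4.HasSkAt n A (A ⧸ I) p) ∧
      (Module.supportDim (Localization.AtPrime p) (LocalizedModule p.primeCompl M) ≤
          ((LocCoh.depth (Localization.AtPrime p) (LocalizedModule p.primeCompl M) : ℕ∞) : WithBot ℕ∞) + n ↔
        Module.supportDim (Localization.AtPrime p) (LocalizedModule p.primeCompl (A ⧸ I)) ≤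
          ((LocCoh.depth (Localization.AtPrime p) (LocalizedModule p.primeCompl (A ⧸ I)) : ℕ∞) : WithBot ℕ∞) + n) := by
  constructor
  · rw [FlatDepth.hasSkAt_iff, FlatDepth.hasSkAt_iff]
    refine forall_congr' fun p' => forall_congr' fun _ => forall_congr' fun _ => ?_
    obtain ⟨h1, h2⟩ := FlatDepth.normallyFlat_invariants I hI M hsupp hM p'
    rw [h1, h2]
  · obtain ⟨h1, h2⟩ := FlatDepth.normallyFlat_invariants I hI M hsupp hM p
    rw [h1, h2]

end Groth.Agent.S4734
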