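import Groth.Prelude.Def_EGA4b
import Groth.Prelude.Def_CAlg
import Groth.Prelude.Def_Found
import Mathlib.RingTheory.LocalRing.RingHom.Basic
import Mathlib.RingTheory.Flat.Basic
import Mathlib.RingTheory.Ideal.Quotient.Operations
import Mathlib.RingTheory.KrullDimension.Module
import Mathlib.RingTheory.Ideal.MinimalPrime.Basic
import Mathlib.RingTheory.AdicCompletion.Algebra
import Mathlib.RingTheory.LocalRing.ResidueField.Fiber
import Mathlib.RingTheory.TensorProduct.Basic
import Mathlib.RingTheory.RegularLocalRing.Defs
import Mathlib.RingTheory.Localization.AtPrime.Basic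
import Groth.Agent.Lib.FlatDepth.FibBC
import Groth.Agent.Lib.FlatDepth.CM

set_option autoImplicit false
universe u
open EGA4

namespace Groth.Agent.S4737

/-- The property 'geometrically regular', case of a local ring: let A be a Noetherian local ring whose
completion map A → Â is regular (the formal fibres of A are geometrically regular). Then for every
proper ideal I of A, the completion map of the local ring A/I is regular. -/
theorem result (A : Type u) [CommRing A] [IsNoetherianRing A] [IsLocalRing A]
    (hA : CAlg.IsRegularHom A (EGA4.Cpl A)) (I : Ideal A) [Nontrivial (A ⧸ I)] :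
    CAlg.IsRegularHom (A ⧸ I) (EGA4.Cpl (A ⧸ I)) := by
  haveI := CplLocH7.faithfullyFlat_cpl (A ⧸ I)
  haveI : IsNoetherianRing (EGA4.Cpl (A ⧸ I)) := CplLocH7.isNoetherianRing_cpl (A ⧸ I)
  exact ⟨inferInstance, fun P _ => ⟨FlatDepth.isNoetherianRing_fiber P,
    FlatDepth.isGeomRegular_fibre (RingHom.surjectiveOnStalks_of_surjective Ideal.Quotient.mk_surjective) (FlatDepth.cplQuotEquiv A I) (fun p _ => (hA.2 p).2) P⟩⟩

end Groth.Agent.S4737
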