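import Groth.Prelude.Def_EGA4b
import Groth.Prelude.Def_CAlg
import Groth.Prelude.Def_Found
import Mathlib.RingTheory.LocalRing.RingHom.Basic
import Mathlib.RingTheory.Flat.Basic
import Mathlib.RingTheory.Ideal.Quotient.Operations
import Mathlib.RingTheory.KrullDimension.Module
import Mathlib.RingTheory.Ideal.MinimalPrime.Basic
import Mathlib.RingTheory.AdicCompletion.Algebra
import Mathlib.RingTheory.LocalRing.ResidueField.Fiber
import Mathlib.RingTheory.TensorProduct.Basic
import Mathlib.RingTheory.RegularLocalRing.Defs
import Mathlib.RingTheory.Localization.AtPrime.Basic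
import Mathlib.RingTheory.Nilpotent.GeometricallyReduced
import Groth.Agent.Lib.FlatDepth.FibBC

set_option autoImplicit false
universe u
open EGA4

namespace Groth.Agent.S4738

/-- For the property 'geometrically reduced', case of a local ring: if the formal fibres of a Noetherian
local ring A are geometrically reduced, then so are the formal fibres of A/I for every proper ideal
I of A. -/
theorem result (A : Type u) [CommRing A] [IsNoetherianRing A] [IsLocalRing A]
    (hA : EGA4.HasGeomReducedFormalFibres A) (I : Ideal A) [Nontrivial (A ⧸ I)] :
    EGA4.HasGeomReducedFormalFibres (A ⧸ I) := by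
  exact fun P _ => FlatDepth.isGeometricallyReduced_fibre (RingHom.surjectiveOnStalks_of_surjective Ideal.Quotient.mk_surjective) (FlatDepth.cplQuotEquiv A I) hA P

end Groth.Agent.S4738
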