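import Mathlib.AlgebraicGeometry.Noetherian
import Mathlib.AlgebraicGeometry.Morphisms.Flat
import Mathlib.RingTheory.KrullDimension.Basic
import Mathlib
import Groth.Agent.Lib.EGA43Top.DimLift

set_option autoImplicit false
universe u
namespace EGA4
end EGA4
open EGA4

namespace Groth.Agent.S4741

open AlgebraicGeometry CategoryTheory in
/-- Suppose X and Y are locally Noetherian schemes, f : X → Y is a morphism that is surjective, and Z is
a closed subset of Y. Then codim(f⁻¹(Z), X) ≤ codim(Z, Y), where the codimension of a closed subset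
means the infimum over its points of the dimensions of the local rings there; when f is in addition
flat, these two codimensions coincide. (In the published version the equality part assumes f
quasi-flat; here f is taken to be flat.) -/
theorem result {X Y : Scheme.{u}} (f : X ⟶ Y) [IsLocallyNoetherian X]
    [IsLocallyNoetherian Y] (hf : Function.Surjective f.base) (Z : Set Y) (hZ : IsClosed Z) :
    (⨅ x ∈ f.base ⁻¹' Z, ringKrullDim (X.presheaf.stalk x)) ≤ ⨅ y ∈ Z, ringKrullDim (Y.presheaf.stalk y) ∧
      (Flat f → (⨅ x ∈ f.base ⁻¹' Z, ringKrullDim (X.presheaf.stalk x)) = ⨅ y ∈ Z, ringKrullDim (Y.presheaf.stalk y)) := by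
  classical
  have hle : (⨅ x ∈ f.base ⁻¹' Z, ringKrullDim (X.presheaf.stalk x)) ≤ ⨅ y ∈ Z, ringKrullDim (Y.presheaf.stalk y) := by
    refine le_iInf₂ fun y hy => ?_
    obtain ⟨x₀, hx₀⟩ := hf y
    obtain ⟨a₀, -⟩ := (f.range_fiberι y).ge hx₀
    obtain ⟨a, ha⟩ : ∃ a, IsGenericPoint a (irreducibleComponent a₀) :=
      QuasiSober.sober isIrreducible_irreducibleComponent isClosed_irreducibleComponent
    have hmax : ∀ w, w ⤳ a → w = a := by
      intro w hw
      have hsub : irreducibleComponent a₀ ⊆ closure {w} := by
        rw [← ha.def]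
        exact closure_minimal (Set.singleton_subset_iff.2 (specializes_iff_mem_closure.1 hw)) isClosed_closure
      have heq := (irreducibleComponent_mem_irreducibleComponents a₀).eq_of_ge isIrreducible_singleton.closure hsub
      exact (IsGenericPoint.eq (show IsGenericPoint w (irreducibleComponent a₀) from isGenericPoint_def.mpr heq) ha)
    have hfx : f (f.fiberι y a) = y := (f.range_fiberι y).le ⟨a, rfl⟩
    refine le_trans (biInf_le _ (show f.fiberι y a ∈ f.base ⁻¹' Z from by
      show f (f.fiberι y a) ∈ Z
      rw [hfx]; exact hy)) ?_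
    generalize hx : f.fiberι y a = x at hfx
    subst hfx
    obtain rfl : a = f.asFiber x := (f.fiberι _).isEmbedding.injective (hx.trans (f.fiberι_asFiber x).symm)
    have h0 : ringKrullDim ((f.fiber (f x)).presheaf.stalk (f.asFiber x)) ≤ 0 := by
      haveI : Subsingleton (PrimeSpectrum ((f.fiber (f x)).presheaf.stalk (f.asFiber x))) := ⟨fun p q =>
        ((f.fiber (f x)).fromSpecStalk (f.asFiber x)).isEmbedding.injective
          ((hmax _ ((Scheme.range_fromSpecStalk (X := f.fiber (f x)) (x := f.asFiber x)).le ⟨p, rfl⟩)).trans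
            (hmax _ ((Scheme.range_fromSpecStalk (X := f.fiber (f x)) (x := f.asFiber x)).le ⟨q, rfl⟩)).symm)⟩
      exact Order.krullDim_nonpos_of_subsingleton
    exact (EGA43Top.ringKrullDim_stalk_le_add f x).trans
      ((add_le_add le_rfl h0).trans (add_zero _).le)
  refine ⟨hle, fun hflat => le_antisymm hle (le_iInf₂ fun x hx => ?_)⟩
  refine le_trans (biInf_le _ (show f x ∈ Z from hx)) ?_
  refine EGA43Top.ringKrullDim_le_of_comap_surjective (f.stalkMap x).hom ?_
  letI := (f.stalkMap x).hom.toAlgebra
  haveI : Module.Flat (Y.presheaf.stalk (f x)) (X.presheaf.stalk x) := Flat.stalkMap f x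
  haveI : IsLocalHom (algebraMap (Y.presheaf.stalk (f x)) (X.presheaf.stalk x)) :=
    inferInstanceAs (IsLocalHom (f.stalkMap x).hom)
  haveI : Module.FaithfullyFlat (Y.presheaf.stalk (f x)) (X.presheaf.stalk x) :=
    Module.FaithfullyFlat.of_flat_of_isLocalHom
  exact PrimeSpectrum.comap_surjective_of_faithfullyFlat

end Groth.Agent.S4741
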