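import Groth.Prelude.Def_EGA4b
import Groth.Prelude.Def_CAlg
import Groth.Prelude.Def_Found
import Mathlib.RingTheory.LocalRing.RingHom.Basic
import Mathlib.RingTheory.Flat.Basic
import Mathlib.RingTheory.Ideal.Quotient.Operations
import Mathlib.RingTheory.KrullDimension.Module
import Mathlib.RingTheory.Ideal.MinimalPrime.Basic
import Mathlib.RingTheory.AdicCompletion.Algebra
import Mathlib.RingTheory.LocalRing.ResidueField.Fiber
import Mathlib.RingTheory.TensorProduct.Basic
import Mathlib.RingTheory.RegularLocalRing.Defs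
import Mathlib.RingTheory.Localization.AtPrime.Basic
import Groth.Agent.Lib.FlatDepth.CplMap
import Groth.Agent.Lib.FlatDepth.CM

set_option autoImplicit false
universe u
open EGA4

namespace Groth.Agent.S4744

/-- Let A → A' be a flat local homomorphism of Noetherian local rings all of whose fibre rings k(p) ⊗_A
A' are Cohen–Macaulay. If the completion map of A' is regular (the formal fibres of A' are
geometrically regular), then the formal fibres of A are Cohen–Macaulay. -/
theorem result (A A' : Type u) [CommRing A] [CommRing A'] [IsNoetherianRing A]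
    [IsNoetherianRing A'] [IsLocalRing A] [IsLocalRing A'] [Algebra A A'] [IsLocalHom (algebraMap A A')]
    [Module.Flat A A'] (hf : ∀ (p : Ideal A) [p.IsPrime], LocCoh.IsCohenMacaulayRing (p.Fiber A'))
    (hA' : CAlg.IsRegularHom A' (EGA4.Cpl A')) : EGA4.HasCMFormalFibres A := by
  obtain ⟨_, _, hff⟩ := FlatDepth.exists_cpl_tower A A'
  haveI := hff inferInstance
  haveI := CplLocH7.isNoetherianRing_cpl A
  haveI := CplLocH7.isNoetherianRing_cpl A'
  haveI := hA'.1
  intro p _
  haveI := FlatDepth.isNoetherianRing_fiber (A := A) (B := EGA4.Cpl A) p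
  rw [FlatDepth.cohenMacaulayRing_iff]
  intro k
  have hfA : ∀ (p : Ideal A) [p.IsPrime], LocCoh.HasSk k (p.Fiber A') (p.Fiber A') := fun p _ => by
    haveI := FlatDepth.isNoetherianRing_fiber (A := A) (B := A') p
    exact (FlatDepth.cohenMacaulayRing_iff _).1 (hf p) k
  have hfA' : ∀ (q : Ideal A') [q.IsPrime], LocCoh.HasSk k (q.Fiber (EGA4.Cpl A')) (q.Fiber (EGA4.Cpl A')) := fun q _ => by
    haveI := (hA'.2 q).1
    haveI : IsRegularRing (q.Fiber (EGA4.Cpl A')) :=
      @IsRegularRing.of_ringEquiv _ _ _ _ (Algebra.TensorProduct.lid q.ResidueField _).toRingEquiv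
        ((hA'.2 q).2 q.ResidueField inferInstance)
    refine (FlatDepth.cohenMacaulayRing_iff _).1 ⟨fun Q _ => ?_⟩ k
    exact DepthLib.isCohenMacaulayLocalRing_of_isRegularLocalRing
  exact FlatDepth.hasSk_fiber_of_skIneq p fun q _ _ => FlatDepth.skIneq_fibre_of_comp (C := EGA4.Cpl A') k q
    fun Q _ => FlatDepth.skIneq_fibre_comp (B := A') k Q
      (FlatDepth.skIneq_fibLocRing hfA _) (FlatDepth.skIneq_fibLocRing hfA' Q)

end Groth.Agent.S4744
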