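import Groth.Prelude.Def_EGA4b
import Groth.Prelude.Def_CAlg
import Groth.Prelude.Def_Found
import Mathlib.RingTheory.LocalRing.RingHom.Basic
import Mathlib.RingTheory.Flat.Basic
import Mathlib.RingTheory.Ideal.Quotient.Operations
import Mathlib.RingTheory.KrullDimension.Module
import Mathlib.RingTheory.Ideal.MinimalPrime.Basic
import Mathlib.RingTheory.AdicCompletion.Algebra
import Mathlib.RingTheory.LocalRing.ResidueField.Fiber
import Mathlib.RingTheory.TensorProduct.Basic
import Mathlib.RingTheory.RegularLocalRing.Defs
import Mathlib.RingTheory.Localization.AtPrime.Basic
import Mathlib.RingTheory.Nilpotent.GeometricallyReduced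
import Groth.Agent.Lib.GRing6.ClosedFibreProps

set_option autoImplicit false
universe u
open EGA4

namespace Groth.Agent.S4746

/-- For the property 'reduced': let A → B be a local homomorphism of Noetherian local rings making B a
flat A-module, such that the residue field of B is a finite extension of the residue field k of A,
and such that the formal fibres of A are geometrically reduced. If the k-algebra k ⊗_A B̂, where B̂
is the completion of B, is geometrically reduced over k, then every fibre k(p) ⊗_A B of A → B is
geometrically reduced over k(p). -/
theorem result (A B : Type u) [CommRing A] [CommRing B]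
    [IsNoetherianRing A] [IsNoetherianRing B] [IsLocalRing A] [IsLocalRing B] [Algebra A B]
    [IsLocalHom (algebraMap A B)] [Module.Flat A B]
    [Module.Finite (IsLocalRing.ResidueField A) (IsLocalRing.ResidueField B)]
    (hA : EGA4.HasGeomReducedFormalFibres A)
    (h : Algebra.IsGeometricallyReduced (IsLocalRing.maximalIdeal A).ResidueField
      ((IsLocalRing.maximalIdeal A).Fiber (EGA4.Cpl B))) :
    ∀ (p : Ideal A) [p.IsPrime], Algebra.IsGeometricallyReduced p.ResidueField (p.Fiber B) := by
  exact Groth.Agent.GRing6.reduced_of_cpl_closed A B hA h

end Groth.Agent.S4746
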