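import Groth.Prelude.Def_EGA4b
import Groth.Prelude.Def_CAlg
import Groth.Prelude.Def_Found
import Mathlib.RingTheory.LocalRing.RingHom.Basic
import Mathlib.RingTheory.Flat.Basic
import Mathlib.RingTheory.Ideal.Quotient.Operations
import Mathlib.RingTheory.KrullDimension.Module
import Mathlib.RingTheory.Ideal.MinimalPrime.Basic
import Mathlib.RingTheory.IntegralClosure.IntegrallyClosed
import Mathlib.RingTheory.TensorProduct.Basic
import Mathlib.RingTheory.EssentialFiniteness
import Mathlib.RingTheory.Nilpotent.GeometricallyReduced
import Mathlib.RingTheory.Localization.AtPrime.Basic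
import Groth.Agent.Lib.FlatDepth.GeomTensor

set_option autoImplicit false
universe u
open EGA4

namespace Groth.Agent.S4748

open TensorProduct in
/-- For the property 'normal' (affine form): let k be a field, S a Noetherian k-algebra and k' an
extension field of k such that S is of finite type over k or k' is essentially of finite type over
k; let q' be a prime of S ⊗_k k' and q its contraction to S. If (S ⊗_k k')_{q'} is an integrally
closed domain then so is S_q; conversely, if k' is separable over k (geometrically reduced) and S_q
is an integrally closed domain, then so is (S ⊗_k k')_{q'}. -/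
theorem result (k S k' : Type u) [Field k] [CommRing S] [Algebra k S]
    [IsNoetherianRing S] [Field k'] [Algebra k k'] (hft : Algebra.FiniteType k S ∨ Algebra.EssFiniteType k k')
    [IsNoetherianRing (S ⊗[k] k')] (q' : Ideal (S ⊗[k] k')) [q'.IsPrime] :
    ((IsDomain (Localization.AtPrime q') ∧ IsIntegrallyClosed (Localization.AtPrime q')) →
        (IsDomain (Localization.AtPrime (q'.comap (algebraMap S (S ⊗[k] k')))) ∧
          IsIntegrallyClosed (Localization.AtPrime (q'.comap (algebraMap S (S ⊗[k] k')))))) ∧
      (Algebra.IsGeometricallyReduced k k' →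
        (IsDomain (Localization.AtPrime (q'.comap (algebraMap S (S ⊗[k] k')))) ∧
          IsIntegrallyClosed (Localization.AtPrime (q'.comap (algebraMap S (S ⊗[k] k'))))) →
          (IsDomain (Localization.AtPrime q') ∧ IsIntegrallyClosed (Localization.AtPrime q'))) := by
  refine ⟨fun h => ?_, fun hsep h => ?_⟩
  · obtain ⟨h1, h2⟩ := (FlatDepth.normalAt_iff q').1 h
    exact (FlatDepth.normalAt_iff _).2 ⟨FlatDepth.rkAt_base q' h1, FlatDepth.skAt_base q' h2⟩
  · obtain ⟨h1, h2⟩ := (FlatDepth.normalAt_iff _).1 h
    exact (FlatDepth.normalAt_iff q').2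
      ⟨FlatDepth.rkAt_of_fibres q' h1 fun q _ _ _ => FlatDepth.regular_fibLoc_field (k := k) (S := S) k' q,
       FlatDepth.skAt_of_fibres q' h2 fun q _ _ => by
        haveI := FlatDepth.regular_fibLoc_field (k := k) (S := S) k' q
        haveI : IsRegularRing (EGA4.FibLocRing S (S ⊗[k] k') q) :=
          isRegularRing_iff.2 (RegLoc.isRegularLocalRing_localization _)
        exact FlatDepth.skIneq_self (SerreCrit.normal_iff.1
          (FlatDepth.isNormalRing_of_isRegularRing (EGA4.FibLocRing S (S ⊗[k] k') q))).2⟩

end Groth.Agent.S4748
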