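import Groth.Statements.S4751
import Mathlib
import Groth.Agent.Lib.FlatDepth.Rings
import Groth.Agent.Lib.WEtaleH7.Misc
-- import your own Groth.Agent.* helpers here

set_option autoImplicit false
universe u
open EGA4

namespace Groth.Agent.S4751

/-- Let A → B → C be homomorphisms of Noetherian rings such that B → C is faithfully flat with (S_n)
fibres and the composite A → C is flat with (S_n) fibres. Then A → B is flat with (S_n) fibres. -/
theorem result (n : ℕ) (A B C : Type u) [CommRing A] [CommRing B] [CommRing C]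
    [IsNoetherianRing A] [IsNoetherianRing B] [IsNoetherianRing C] [Algebra A B] [Algebra B C] [Algebra A C]
    [IsScalarTower A B C] [Module.FaithfullyFlat B C] [Module.Flat A C]
    (hBC : ∀ (q : Ideal B) [q.IsPrime], LocCoh.HasSk n (q.Fiber C) (q.Fiber C))
    (hAC : ∀ (p : Ideal A) [p.IsPrime], LocCoh.HasSk n (p.Fiber C) (p.Fiber C)) :
    Module.Flat A B ∧ ∀ (p : Ideal A) [p.IsPrime], LocCoh.HasSk n (p.Fiber B) (p.Fiber B) := by
  refine ⟨?_, fun p _ => FlatDepth.hasSk_fiber_of_skIneq p fun q _ _ =>
    FlatDepth.skIneq_fibre_of_comp (C := C) n q fun Q _ => FlatDepth.skIneq_fibLocRing hAC Q⟩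
  rw [← RingHom.flat_algebraMap_iff]
  refine Groth.Agent.WEtaleH7.flat_of_comp_faithfullyFlat _ (algebraMap B C)
    ((RingHom.faithfullyFlat_algebraMap_iff).2 ‹_›) ?_
  rw [← IsScalarTower.algebraMap_eq, RingHom.flat_algebraMap_iff]
  infer_instance

end Groth.Agent.S4751
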