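import Groth.Prelude.Def_EGA4b
import Groth.Prelude.Def_Found
import Mathlib.RingTheory.Flat.FaithfullyFlat.Basic
import Mathlib.RingTheory.TensorProduct.Basic
import Mathlib.RingTheory.FiniteType
import Mathlib.RingTheory.LocalRing.ResidueField.Fiber
import Groth.Prelude.Def_CAlg
import Mathlib.RingTheory.Nilpotent.GeometricallyReduced
import Mathlib.RingTheory.Localization.Basic
import Groth.Agent.Lib.FlatDepth.GeomFib

set_option autoImplicit false
universe u
open EGA4

namespace Groth.Agent.S4753

/-- Case of reduced morphisms, affine form: let A → B → C be homomorphisms of Noetherian rings such that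
B → C is faithfully flat with geometrically reduced fibres and the composite A → C is flat with
geometrically reduced fibres. Then A → B is flat with geometrically reduced fibres. -/
theorem result (A B C : Type u) [CommRing A] [CommRing B] [CommRing C]
    [IsNoetherianRing A] [IsNoetherianRing B] [IsNoetherianRing C] [Algebra A B] [Algebra B C] [Algebra A C]
    [IsScalarTower A B C] [Module.FaithfullyFlat B C] [Module.Flat A C]
    (hBC : ∀ (q : Ideal B) [q.IsPrime], Algebra.IsGeometricallyReduced q.ResidueField (q.Fiber C))
    (hAC : ∀ (p : Ideal A) [p.IsPrime], Algebra.IsGeometricallyReduced p.ResidueField (p.Fiber C)) :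
    Module.Flat A B ∧ ∀ (p : Ideal A) [p.IsPrime], Algebra.IsGeometricallyReduced p.ResidueField (p.Fiber B) := by
  exact ⟨FlatDepth.flat_of_comp A B C, FlatDepth.geomReducedFibres_of_comp A B C hAC⟩

end Groth.Agent.S4753
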