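import Groth.Prelude.Def_EGA4b
import Groth.Prelude.Def_CAlg
import Groth.Prelude.Def_Found
import Mathlib.RingTheory.LocalRing.RingHom.Basic
import Mathlib.RingTheory.Flat.Basic
import Mathlib.RingTheory.Ideal.Quotient.Operations
import Mathlib.RingTheory.KrullDimension.Module
import Mathlib.RingTheory.Ideal.MinimalPrime.Basic
import Mathlib.RingTheory.AdicCompletion.Algebra
import Mathlib.RingTheory.LocalRing.ResidueField.Fiber
import Mathlib.RingTheory.TensorProduct.Basic
import Mathlib.RingTheory.RegularLocalRing.Defs
import Mathlib.RingTheory.Localization.AtPrime.Basic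
import Groth.Agent.Lib.FlatDepth.FibBC

set_option autoImplicit false
universe u
open EGA4

namespace Groth.Agent.S4755

/-- For the property 'Cohen–Macaulay', case of a local ring: if the formal fibres of a Noetherian local
ring A are Cohen–Macaulay, then so are the formal fibres of A/I for every proper ideal I of A. -/
theorem result (A : Type u) [CommRing A] [IsNoetherianRing A] [IsLocalRing A]
    (hA : EGA4.HasCMFormalFibres A) (I : Ideal A) [Nontrivial (A ⧸ I)] :
    EGA4.HasCMFormalFibres (A ⧸ I) := by
  intro P _
  obtain ⟨φ⟩ := FlatDepth.nonempty_fibreEquiv (RingHom.surjectiveOnStalks_of_surjective Ideal.Quotient.mk_surjective) (FlatDepth.cplQuotEquiv A I) P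
  exact FlatDepth.cmRing_of_ringEquiv φ.symm (hA _)

end Groth.Agent.S4755
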