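import Groth.Prelude.Def_EGA4b
import Groth.Prelude.Def_Found
import Mathlib.RingTheory.Flat.FaithfullyFlat.Basic
import Mathlib.RingTheory.TensorProduct.Basic
import Mathlib.RingTheory.FiniteType
import Mathlib.RingTheory.LocalRing.ResidueField.Fiber
import Groth.Prelude.Def_CAlg
import Mathlib.RingTheory.Nilpotent.GeometricallyReduced
import Mathlib.RingTheory.Localization.Basic
import Groth.Agent.Lib.FlatDepth.FibBC

set_option autoImplicit false
universe u
open EGA4

namespace Groth.Agent.S4757

/-- Let A → B be a flat homomorphism of Noetherian rings with geometrically reduced fibres and S a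
multiplicative subset of A. Then the induced homomorphism S⁻¹A → S⁻¹B (arbitrary localizations at S
and at its image) is flat with geometrically reduced fibres. -/
theorem result (A B : Type u) [CommRing A] [CommRing B] [IsNoetherianRing A]
    [IsNoetherianRing B] [Algebra A B] [Module.Flat A B]
    (h : ∀ (p : Ideal A) [p.IsPrime], Algebra.IsGeometricallyReduced p.ResidueField (p.Fiber B)) (S : Submonoid A)
    (A' B' : Type u) [CommRing A'] [CommRing B'] [Algebra A A'] [Algebra B B'] [Algebra A' B'] [Algebra A B']
    [IsScalarTower A A' B'] [IsScalarTower A B B'] [IsLocalization S A']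
    [IsLocalization (Algebra.algebraMapSubmonoid B S) B'] :
    Module.Flat A' B' ∧ ∀ (p' : Ideal A') [p'.IsPrime], Algebra.IsGeometricallyReduced p'.ResidueField (p'.Fiber B') := by
  haveI : Algebra.IsPushout A B A' B' := Algebra.isPushout_of_isLocalization S A' B B'
  haveI : Algebra.IsPushout A A' B B' := Algebra.IsPushout.symm inferInstance
  let e : TensorProduct A A' B ≃ₐ[A'] B' := Algebra.IsPushout.equiv A A' B B'
  have hs : (algebraMap A A').SurjectiveOnStalks := RingHom.surjectiveOnStalks_of_isLocalization S _
  exact ⟨Module.Flat.of_linearEquiv e.symm.toLinearEquiv, fun P _ => FlatDepth.isGeometricallyReduced_fibre hs e h P⟩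

end Groth.Agent.S4757
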