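import Groth.Statements.S4761
import Groth.Agent.Lib.LimH13.Constr

set_option autoImplicit false
universe u
open CategoryTheory AlgebraicGeometry
open Lim8

namespace Groth.Agent.S4761

/-- Let S = lim S_i be a cofiltered limit of schemes with affine transition maps, let S_{i₁} be a
quasi-compact stage and Z₁ a constructible subset of S_{i₁}. Then the preimage of Z₁ in S is open if
and only if, for some index j over i₁, the preimage of Z₁ in S_j is open. -/
theorem result {I : Type u} [SmallCategory I] [IsCofiltered I]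
    (D : I ⥤ Scheme.{u}) (c : Limits.Cone D) (hc : Limits.IsLimit c)
    [∀ (i j : I) (f : i ⟶ j), IsAffineHom (D.map f)] (i₁ : I)
    [CompactSpace (D.obj i₁)] (Z₁ : Set (D.obj i₁)) (hZ : Topology.IsConstructible Z₁) :
    IsOpen (⇑(c.π.app i₁) ⁻¹' Z₁ : Set c.pt) ↔ ∃ (j : I) (φ : j ⟶ i₁), IsOpen (⇑(D.map φ) ⁻¹' Z₁) := by
  haveI : ∀ {i j : I} (f : i ⟶ j), IsAffineHom (D.map f) := fun f => inferInstance
  refine ⟨LimH13.exists_isOpen_preimage hc i₁ Z₁ hZ, fun ⟨j, φ, h⟩ => ?_⟩
  rw [← LimH13.preimage_map_eq φ]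
  exact h.preimage (c.π.app j).continuous

end Groth.Agent.S4761
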