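import Groth.Statements.S4768
import Groth.Agent.Lib.LimH13.Constr

set_option autoImplicit false
universe u
open CategoryTheory AlgebraicGeometry
open Lim8

namespace Groth.Agent.S4768

/-- Let S = lim S_i be a cofiltered limit of schemes with affine transition maps, some stage S_{i₀}
being quasi-compact and quasi-separated. If S is not preconnected (that is, S is the disjoint union
of two nonempty open subsets), then there is an index i over i₀ such that S_j is not preconnected
for every index j over i. (The published statement assumes the stage only quasi-compact, which is
not enough: over the affine space in infinitely many variables with a doubled origin, the closed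
subschemes cut out by the first n coordinates form a system with affine transition maps in which
every stage is connected while the limit consists of two disjoint points. The published proof
descends the two pieces of S to quasi-compact open subsets of a stage and needs their intersection
to become empty at a later stage, which uses that quasi-compact open subsets of the stage are
constructible; so the stage is taken quasi-separated here, as in part (i).) -/
theorem result {I : Type u} [SmallCategory I] [IsCofiltered I]
    (D : I ⥤ Scheme.{u}) (c : Limits.Cone D) (hc : Limits.IsLimit c)
    [∀ (i j : I) (f : i ⟶ j), IsAffineHom (D.map f)] (i₀ : I)
    [CompactSpace (D.obj i₀)] [QuasiSeparatedSpace (D.obj i₀)] (h : ¬ PreconnectedSpace c.pt) :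
    ∃ (i : I) (_ : i ⟶ i₀), ∀ (j : I) (_ : j ⟶ i), ¬ PreconnectedSpace (D.obj j) := by
  haveI : ∀ {i j : I} (f : i ⟶ j), IsAffineHom (D.map f) := fun f => inferInstance
  exact LimH13.exists_forall_not_preconnectedSpace hc i₀ h

end Groth.Agent.S4768
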