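import Groth.Statements.S4776
import Groth.Agent.Lib.LimH13.Constr
import Groth.Agent.Lib.LimH13.Reduced

set_option autoImplicit false
universe u
open CategoryTheory AlgebraicGeometry
open Lim8

namespace Groth.Agent.S4776

/-- Let S = lim S_i be a cofiltered limit of schemes whose transition maps are affine, flat and
surjective, some stage S_{i₀} being quasi-compact, and assume that the underlying topological space
of S is Noetherian. Then S is integral if and only if there is an index i over i₀ such that S_j is
integral for every j over i. (The published statement carries neither the quasi-compactness nor the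
Noetherian hypothesis; its proof combines the reducedness criterion with the irreducibility
criterion for limits, and the latter is proved only under these two hypotheses, so they are assumed
here.) -/
theorem result {I : Type u} [SmallCategory I] [IsCofiltered I]
    (D : I ⥤ Scheme.{u}) (c : Limits.Cone D) (hc : Limits.IsLimit c)
    [∀ (i j : I) (f : i ⟶ j), IsAffineHom (D.map f)] (i₀ : I)
    [CompactSpace (D.obj i₀)] [TopologicalSpace.NoetherianSpace c.pt]
    (hf : ∀ (i j : I) (φ : i ⟶ j), Flat (D.map φ) ∧ Surjective (D.map φ)) :
    IsIntegral c.pt ↔ ∃ (i : I) (_ : i ⟶ i₀), ∀ (j : I) (_ : j ⟶ i), IsIntegral (D.obj j) := by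
  haveI : ∀ {i j : I} (f : i ⟶ j), IsAffineHom (D.map f) := fun f => inferInstance
  have hd : ∀ (i j : I) (φ : i ⟶ j), IsDominant (D.map φ) := fun i j φ =>
    haveI := (hf i j φ).2
    inferInstance
  constructor
  · intro h
    refine ⟨i₀, 𝟙 _, fun j _ => ?_⟩
    haveI : IrreducibleSpace (D.obj j) := LimH13.irreducibleSpace_stage hc hd j
    haveI := LimH13.flat_π hc j fun k φ => (hf k j φ).1
    haveI : Surjective (c.π.app j) := (LimH13.surjective_π_iff hc j).2 fun k φ => (hf k j φ).2
    haveI : IsReduced (((Functor.const I).obj c.pt).obj j) :=
      inferInstanceAs (IsReduced c.pt)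
    haveI := LimH13.isReduced_of_flat_of_surjective (c.π.app j)
    exact isIntegral_of_irreducibleSpace_of_isReduced _
  · rintro ⟨i, a, h⟩
    haveI : IrreducibleSpace c.pt := LimH13.irreducibleSpace_of_eventually hc hd i
      fun j φ => haveI := h j φ; inferInstance
    haveI : IsReduced c.pt := by
      by_contra hn
      obtain ⟨k, hk⟩ := LimH13.exists_forall_not_isReduced hc hn
      haveI := h (IsCofiltered.min i k) (IsCofiltered.minToLeft i k)
      exact hk _ (IsCofiltered.minToRight i k) inferInstance
    exact isIntegral_of_irreducibleSpace_of_isReduced _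

end Groth.Agent.S4776
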