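import Groth.Statements.S4777
import Groth.Agent.Lib.AlgColimH13.Basic

set_option autoImplicit false
universe u
open CategoryTheory
open Lim8

namespace Groth.Agent.S4777

/-- Let B be an algebra over a commutative ring A. If, for every inductive system (C_λ) of A-algebras
indexed by a nonempty directed preordered set, the canonical map colim Hom_A(B, C_λ) → Hom_A(B,
colim C_λ) is bijective (that is, Hom_A(B, -) preserves the colimit of the system), then B is an
A-algebra of finite presentation. (This is the necessity half of the characterization of algebras of
finite presentation by this property; the converse is standard.) -/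
theorem result {A B : CommRingCat.{u}} (f : A ⟶ B)
    (h : ∀ (J : Type u) [Preorder J] [IsDirected J (· ≤ ·)] [Nonempty J] (F : J ⥤ Under A),
      Limits.PreservesColimit F (coyoneda.obj (Opposite.op (Under.mk f)))) :
    f.hom.FinitePresentation := by
  letI : Algebra A B := f.hom.toAlgebra
  haveI := h (AlgColimH13.Idx A B) (AlgColimH13.diag A B)
  obtain ⟨i, g, hg⟩ := Limits.Types.jointly_surjective _
    (Limits.isColimitOfPreserves (coyoneda.obj (Opposite.op (Under.mk f))) (AlgColimH13.isColimit A B))
    (𝟙 (Under.mk f))
  have hw : f ≫ g.right = CommRingCat.ofHom (algebraMap A i.Ring) := Under.w g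
  let s : B →ₐ[A] i.Ring :=
    { g.right.hom with
      commutes' := fun a => ConcreteCategory.congr_hom hw a }
  exact AlgColimH13.finitePresentation_of_retract i.toB s
    (fun b => ConcreteCategory.congr_hom (congrArg (fun t => t.right) hg) b)

end Groth.Agent.S4777
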