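import Groth.Statements.S4781
import Groth.Agent.Lib.Cons12.Dims
-- import your own Groth.Agent.* helpers here

set_option autoImplicit false
set_option backward.isDefEq.respectTransparency false
universe u
open CategoryTheory AlgebraicGeometry
open Cons9

namespace Groth.Agent.S4781

/-- Let S be a Noetherian irreducible scheme with generic point η, let X be an irreducible scheme and f
: X ⟶ S a dominant morphism of finite type. Then there is an open neighbourhood U of η in S such
that, for every s ∈ U, all irreducible components of the fibre f⁻¹(s) have dimension equal to dim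
f⁻¹(η). Fibres are taken as subspaces of X and dimensions are topological Krull dimensions. -/
theorem result {X S : Scheme.{u}} (f : X ⟶ S)
    [IsNoetherian S] [IrreducibleSpace S] [IrreducibleSpace X] [IsDominant f]
    [LocallyOfFiniteType f] [QuasiCompact f] :
    ∃ U : S.Opens, genericPoint S ∈ U ∧ ∀ s ∈ U, ∀ T ∈ irreducibleComponents ↥(⇑f ⁻¹' {s}),
      topologicalKrullDim ↥T = topologicalKrullDim ↥(⇑f ⁻¹' {genericPoint S}) := by
  set η := genericPoint S
  have hξ : f (genericPoint X) = η := by
    refine IsGenericPoint.eq ((genericPoint_spec X).image f.continuous) ?_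
    rw [Set.image_univ, f.denseRange.closure_range]
    exact genericPoint_spec S
  haveI : IrreducibleSpace ↥(⇑f ⁻¹' {η}) := by
    refine (irreducibleSpace_def _).2 ?_
    have h : (Set.univ : Set ↥(⇑f ⁻¹' {η})) = closure {⟨genericPoint X, hξ⟩} := by
      refine (Set.eq_univ_of_forall fun w => ?_).symm
      rw [← specializes_iff_mem_closure]
      exact Topology.IsInducing.subtypeVal.specializes_iff.1 ((genericPoint_spec X).specializes trivial)
    show IsIrreducible (Set.univ : Set ↥(⇑f ⁻¹' {η}))
    rw [h]
    exact isIrreducible_singleton.closure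
  haveI : IsLocallyNoetherian X := LocallyOfFiniteType.isLocallyNoetherian f
  have huniv : IsLocallyClosed (Subtype.val ⁻¹' (Set.univ : Set X) : Set ↥(⇑f ⁻¹' {η})) := by
    rw [Set.preimage_univ]; exact isOpen_univ.isLocallyClosed
  let Φ : Set (WithBot ℕ∞) := (fun n : ℕ => (n : WithBot ℕ∞)) '' Groth.Agent.Cons12.maxDims f Set.univ η
  obtain ⟨U, hηU, hU⟩ := Groth.Agent.Cons12.exists_nhd_generic
    (Groth.Agent.Cons12.isLocallyConstructible_maxDims_eq f (Topology.IsLocallyConstructible.univ) Φ) (show _ = Φ from rfl)
  have key : ∀ s, (fun T : Set ↥(⇑f ⁻¹' {s}) => topologicalKrullDim T) '' irreducibleComponents ↥(⇑f ⁻¹' {s}) =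
      (fun n : ℕ => (n : WithBot ℕ∞)) '' Groth.Agent.Cons12.maxDims f Set.univ s := by
    intro s
    have h1 : IsLocallyClosed (Subtype.val ⁻¹' (Set.univ : Set X) : Set ↥(⇑f ⁻¹' {s})) := by
      rw [Set.preimage_univ]; exact isOpen_univ.isLocallyClosed
    rw [← Groth.Agent.Cons12.image_dim_components_preimage f Set.univ s h1, Set.univ_inter]
  refine ⟨U, hηU, fun s hs T hT => ?_⟩
  have hmem : topologicalKrullDim ↥T ∈ Φ := (hU hs).le ((key s).le ⟨T, hT, rfl⟩)
  obtain ⟨T₀, hT₀, he⟩ := (key η).ge hmem
  rw [← he, show T₀ = Set.univ from Set.univ_subset_iff.1 (hT₀.2 (IrreducibleSpace.isIrreducible_univ _) (Set.subset_univ _))]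
  exact IsHomeomorph.topologicalKrullDim_eq _ (Homeomorph.Set.univ _).isHomeomorph

end Groth.Agent.S4781
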