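import Groth.Statements.S4783
import Groth.Agent.Lib.LimH13.Maximal

set_option autoImplicit false
universe u
open CategoryTheory AlgebraicGeometry
open Lim8

namespace Groth.Agent.S4783

/-- Let S = lim S_i be a cofiltered limit of schemes whose transition maps are open immersions (in
particular affine), and let S_{i₀} be a Noetherian stage. Then S is integral if and only if there is
an index i over i₀ such that S_j is integral for every j over i. -/
theorem result {I : Type u} [SmallCategory I] [IsCofiltered I]
    (D : I ⥤ Scheme.{u}) (c : Limits.Cone D) (hc : Limits.IsLimit c)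
    [∀ (i j : I) (f : i ⟶ j), IsAffineHom (D.map f)] (i₀ : I)
    [IsNoetherian (D.obj i₀)] (hoi : ∀ (i j : I) (φ : i ⟶ j), IsOpenImmersion (D.map φ)) :
    IsIntegral c.pt ↔ ∃ (i : I) (_ : i ⟶ i₀), ∀ (j : I) (_ : j ⟶ i), IsIntegral (D.obj j) := by
  haveI : ∀ {i j : I} (f : i ⟶ j), IsAffineHom (D.map f) := fun f => inferInstance
  constructor
  · intro h
    obtain ⟨i, a, hi⟩ := LimH13.exists_forall_isReduced hc i₀ hoi (fun U => by
      haveI : IsNoetherianRing Γ(D.obj i₀, U) := IsLocallyNoetherian.component_noetherian U
      exact IsNoetherian.noetherian _)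
    obtain ⟨k, b, hk⟩ := LimH13.exists_forall_irreducibleSpace hc i₀ hoi
    refine ⟨IsCofiltered.min i k, IsCofiltered.minToLeft i k ≫ a, fun j φ => ?_⟩
    haveI := hi j (φ ≫ IsCofiltered.minToLeft i k)
    haveI := hk j (φ ≫ IsCofiltered.minToRight i k)
    exact isIntegral_of_irreducibleSpace_of_isReduced _
  · rintro ⟨i, a, h⟩
    let F := Over.forget i
    have hc' : Limits.IsLimit (c.whisker F) :=
      (Functor.Initial.isLimitWhiskerEquiv F c).symm hc
    haveI : ∀ {k l : Over i} (x : k ⟶ l), IsAffineHom ((F ⋙ D).map x) := fun x =>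
      (inferInstance : IsAffineHom (D.map x.left))
    have hd : ∀ (k l : Over i) (x : k ⟶ l), IsDominant ((F ⋙ D).map x) := fun k l x => by
      haveI := h k.left k.hom
      haveI := h l.left l.hom
      haveI := hoi _ _ x.left
      exact ⟨(D.map x.left).isOpenEmbedding.isOpen_range.dense (Set.range_nonempty _)⟩
    haveI : IrreducibleSpace c.pt :=
      LimH13.irreducibleSpace_of_eventually (D := F ⋙ D) (c := c.whisker F) hc' hd (Over.mk (𝟙 i)) fun k _ => by
        haveI := h k.left k.hom
        exact (inferInstance : IrreducibleSpace (D.obj k.left))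
    haveI : IsReduced c.pt := by
      by_contra hn
      obtain ⟨k, hk⟩ := LimH13.exists_forall_not_isReduced hc hn
      haveI := h (IsCofiltered.min i k) (IsCofiltered.minToLeft i k)
      exact hk _ (IsCofiltered.minToRight i k) inferInstance
    exact isIntegral_of_irreducibleSpace_of_isReduced _

end Groth.Agent.S4783
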