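import Groth.Statements.S4784
import Groth.Agent.Lib.LimH13.Top

set_option autoImplicit false
universe u
open CategoryTheory AlgebraicGeometry
open Lim8

namespace Groth.Agent.S4784

/-- Let S = lim S_i be a cofiltered limit of schemes with affine transition maps and let i be an index.
Then the image of the projection S ⟶ S_i equals the intersection, over all indices j over i, of the
images of the transition maps S_j ⟶ S_i. -/
theorem result {I : Type u} [SmallCategory I] [IsCofiltered I]
    (D : I ⥤ Scheme.{u}) (c : Limits.Cone D) (hc : Limits.IsLimit c)
    [∀ (i j : I) (f : i ⟶ j), IsAffineHom (D.map f)] (i : I) :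
    Set.range ⇑(c.π.app i) = ⋂ (j : I) (φ : j ⟶ i), Set.range ⇑(D.map φ) := by
  haveI : ∀ {i j : I} (f : i ⟶ j), IsAffineHom (D.map f) := fun f => inferInstance
  exact LimH13.range_π_eq hc i

end Groth.Agent.S4784
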