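import Groth.Statements.S4787
import Groth.Agent.Lib.ConsH13.IndCons
import Groth.Agent.Lib.ConsH13.Limit
import Groth.Agent.Lib.LimH13.Constr

set_option autoImplicit false
universe u
open CategoryTheory AlgebraicGeometry
open Lim8

namespace Groth.Agent.S4787

/-- Let S = lim S_i be a cofiltered limit of schemes with affine transition maps, some stage S_{i₀}
being quasi-compact. For every index let E_i be a pro-constructible and F_i an ind-constructible
subset of S_i such that, for every transition map S_i ⟶ S_j, E_i lies in the preimage of E_j and F_i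
contains the preimage of F_j. Put E = ⋂ (preimage of E_i in S) and F = ⋃ (preimage of F_i in S).
Then E ⊆ F if and only if there is an index i over i₀ such that E_j ⊆ F_j for every j over i. -/
theorem result {I : Type u} [SmallCategory I] [IsCofiltered I]
    (D : I ⥤ Scheme.{u}) (c : Limits.Cone D) (hc : Limits.IsLimit c)
    [∀ (i j : I) (f : i ⟶ j), IsAffineHom (D.map f)] (i₀ : I)
    [CompactSpace (D.obj i₀)] (E F : ∀ i : I, Set (D.obj i))
    (hE : ∀ i, ProCons.IsProConstructible (E i)) (hF : ∀ i, ProCons.IsIndConstructible (F i))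
    (hEm : ∀ (i j : I) (φ : i ⟶ j), E i ⊆ ⇑(D.map φ) ⁻¹' E j)
    (hFm : ∀ (i j : I) (φ : i ⟶ j), ⇑(D.map φ) ⁻¹' F j ⊆ F i) :
    (⋂ i, ⇑(c.π.app i) ⁻¹' E i : Set c.pt) ⊆ (⋃ i, ⇑(c.π.app i) ⁻¹' F i : Set c.pt) ↔
      ∃ (i : I) (_ : i ⟶ i₀), ∀ (j : I) (_ : j ⟶ i), E j ⊆ F j := by
  classical
  haveI : ∀ {i j : I} (a : i ⟶ j), IsAffineHom (D.map a) := fun a =>
    ‹∀ (i j : I) (f : i ⟶ j), IsAffineHom (D.map f)› _ _ a
  constructor
  · intro h
    have hcov : ∀ z : c.pt, ∃ j, c.π.app j z ∈ (E j)ᶜ ∪ F j := fun z => by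
      by_contra hz
      simp only [not_exists, Set.mem_union, Set.mem_compl_iff, not_or, not_not] at hz
      obtain ⟨j, hj⟩ := Set.mem_iUnion.1 (h (Set.mem_iInter.2 fun i => (hz i).1))
      exact (hz j).2 hj
    have hW : ∀ (j : I) {S : CommRingCat.{u}} (τ : Spec S ⟶ D.obj j) (p : Spec S),
        τ p ∈ (E j)ᶜ ∪ F j →
          ∃ C : Set (Spec S), Topology.IsConstructible C ∧ p ∈ C ∧ C ⊆ τ ⁻¹' ((E j)ᶜ ∪ F j) := by
      intro j S τ p hp
      rcases hp with hp | hp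
      · obtain ⟨C, hC, hpC, hCE⟩ := Groth.Agent.ConsH13.exists_constructible_of_isIndConstructible
          (Groth.Agent.ConsH13.isIndConstructible_preimage τ
            (Groth.Agent.ConsH13.isIndConstructible_compl (hE j))) hp
        exact ⟨C, hC, hpC, fun q hq => Or.inl (hCE hq)⟩
      · obtain ⟨C, hC, hpC, hCE⟩ := Groth.Agent.ConsH13.exists_constructible_of_isIndConstructible
          (Groth.Agent.ConsH13.isIndConstructible_preimage τ (hF j)) hp
        exact ⟨C, hC, hpC, fun q hq => Or.inr (hCE hq)⟩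
    haveI : CompactSpace c.pt := Groth.Agent.LimH13.compactSpace_pt hc i₀
    let 𝒰 := c.pt.affineCover.finiteSubcover
    haveI : ∀ l : 𝒰.I₀, IsAffine (𝒰.X l) := fun l =>
      inferInstanceAs (IsAffine (c.pt.affineCover.X _))
    have key : ∀ l : 𝒰.I₀, ∃ O : Finset I, ∀ q : Spec Γ(𝒰.X l, ⊤), ∃ j ∈ O,
        c.π.app j (((𝒰.X l).isoSpec.inv ≫ 𝒰.f l) q) ∈ (E j)ᶜ ∪ F j := by
      intro l
      let σ : Spec Γ(𝒰.X l, ⊤) ⟶ c.pt := (𝒰.X l).isoSpec.inv ≫ 𝒰.f l
      have h1 : ∀ p : PrimeSpectrum Γ(𝒰.X l, ⊤), ∃ (j : I)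
          (d : PrimeSpectrum.BasicConstructibleSetData Γ(𝒰.X l, ⊤)), p ∈ d.toSet ∧
            d.toSet ⊆ (σ ≫ c.π.app j) ⁻¹' ((E j)ᶜ ∪ F j) := by
        intro p
        obtain ⟨j, hj⟩ := hcov (σ p)
        obtain ⟨C, hC, hpC, hCW⟩ := hW j (σ ≫ c.π.app j) p hj
        obtain ⟨d, hd, hdC⟩ := Groth.Agent.ConsH13.exists_basic_subset hC hpC
        exact ⟨j, d, hd, hdC.trans hCW⟩
      choose j d hd hdW using h1
      obtain ⟨t, ht⟩ := Groth.Agent.FibreTop.exists_finite_cover_of_toSet d hd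
      refine ⟨t.image j, fun q => ?_⟩
      obtain ⟨p, hpt, hqp⟩ := ht q
      exact ⟨j p, Finset.mem_image_of_mem _ hpt, hdW p hqp⟩
    choose O hO using key
    obtain ⟨k, hk⟩ := IsCofiltered.inf_objs_exists (insert i₀ (Finset.univ.biUnion O))
    obtain ⟨a⟩ := hk (Finset.mem_insert_self i₀ _)
    haveI : CompactSpace (D.obj k) := QuasiCompact.compactSpace_of_compactSpace (D.map a)
    have mono : ∀ {i j : I} (φ : i ⟶ j), D.map φ ⁻¹' ((E j)ᶜ ∪ F j) ⊆ (E i)ᶜ ∪ F i := by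
      intro i j φ z hz
      rcases hz with hz | hz
      · exact Or.inl fun hzE => hz (hEm i j φ hzE)
      · exact Or.inr (hFm i j φ hz)
    have hrange : Set.range (c.π.app k) ⊆ (E k)ᶜ ∪ F k := by
      rintro _ ⟨z, rfl⟩
      obtain ⟨l, x, hx⟩ := 𝒰.exists_eq z
      obtain ⟨j, hjO, hj⟩ := hO l ((𝒰.X l).isoSpec.hom x)
      obtain ⟨b⟩ := hk (Finset.mem_insert_of_mem (Finset.mem_biUnion.2 ⟨l, Finset.mem_univ _, hjO⟩))
      refine mono b ?_
      rw [Set.mem_preimage, ← Scheme.Hom.comp_apply, c.w b]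
      simp only [Scheme.Hom.comp_apply] at hj
      rwa [Scheme.hom_inv_apply, hx] at hj
    obtain ⟨i', φ, hφ⟩ := Groth.Agent.ConsH13.exists_stage_range_subset hc k _
      (fun A σ _ p hp => hW k σ p hp) hrange
    refine ⟨i', φ ≫ a, fun j ψ z hz => ?_⟩
    have hz' : D.map (ψ ≫ φ) z ∈ (E k)ᶜ ∪ F k := hφ ⟨D.map ψ z, by
      rw [← Scheme.Hom.comp_apply, ← D.map_comp]⟩
    exact (mono (ψ ≫ φ) hz').resolve_left (fun h' => h' hz)
  · rintro ⟨i, -, hi⟩ z hz
    exact Set.mem_iUnion.2 ⟨i, hi i (𝟙 i) (Set.mem_iInter.1 hz i)⟩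

end Groth.Agent.S4787
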