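import Groth.Statements.S4790
import Groth.Agent.Lib.ModLimH13.Hom2

set_option autoImplicit false
universe u
open CategoryTheory AlgebraicGeometry
open Lim8

namespace Groth.Agent.S4790

/-- Let S = lim S_i be a cofiltered limit of schemes with affine transition maps and S_{i₀} a
quasi-compact quasi-separated stage; let F₀ and G₀ be quasi-coherent O-modules of finite
presentation on S_{i₀}. Then the pullbacks of F₀ and G₀ along S ⟶ S_{i₀} are isomorphic if and only
if, for some index j over i₀, their pullbacks along S_j ⟶ S_{i₀} are isomorphic. -/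
theorem result {I : Type u} [SmallCategory I] [IsCofiltered I]
    (D : I ⥤ Scheme.{u}) (c : Limits.Cone D) (hc : Limits.IsLimit c)
    [∀ (i j : I) (f : i ⟶ j), IsAffineHom (D.map f)] (i₀ : I) [CompactSpace (D.obj i₀)]
    [QuasiSeparatedSpace (D.obj i₀)] (F₀ G₀ : (D.obj i₀).Modules)
    [Coh.IsQCoh F₀] (hF₀fp : CohB1.IsFP F₀)
    [Coh.IsQCoh G₀] (hG₀fp : CohB1.IsFP G₀) :
    Nonempty ((Scheme.Modules.pullback (c.π.app i₀)).obj F₀ ≅ (Scheme.Modules.pullback (c.π.app i₀)).obj G₀) ↔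
      ∃ (j : I) (φ : j ⟶ i₀),
        Nonempty ((Scheme.Modules.pullback (D.map φ)).obj F₀ ≅ (Scheme.Modules.pullback (D.map φ)).obj G₀) := by
  constructor
  · rintro ⟨e⟩
    obtain ⟨j, φ, hj, he⟩ := ModLimH13.exists_hom_descend hc e.hom hF₀fp
    haveI : CompactSpace (D.obj j) := QuasiCompact.compactSpace_of_compactSpace (D.map φ)
    haveI : Coh.IsQCoh ((Scheme.Modules.pullback (D.map φ)).obj F₀) := M1.isQCoh_pullback _ ‹Coh.IsQCoh F₀›
    haveI : Coh.IsQCoh ((Scheme.Modules.pullback (D.map φ)).obj G₀) := M1.isQCoh_pullback _ ‹Coh.IsQCoh G₀›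
    haveI hi : IsIso ((Scheme.Modules.pullback (c.π.app j)).map hj) := by
      have h1 : (Scheme.Modules.pullback (c.π.app j)).map hj =
          ((ModLimH13.cmp (c.π.app j) (D.map φ) (c.w φ)).app F₀).hom ≫ e.hom ≫
            ((ModLimH13.cmp (c.π.app j) (D.map φ) (c.w φ)).app G₀).inv := by
        rw [← he]; simp
      rw [h1]
      infer_instance
    obtain ⟨k, α, hk⟩ := (ModLimH13.isIso_map_iff hc
      (M1.isFT_pullback (D.map φ) (M1.isFP_isFT hF₀fp)) (M1.isFP_pullback (D.map φ) hG₀fp) hj).1 hi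
    exact ⟨k, α ≫ φ, ⟨((ModLimH13.cmp (D.map α) (D.map φ) (D.map_comp α φ).symm).app F₀).symm ≪≫
      asIso ((Scheme.Modules.pullback (D.map α)).map hj) ≪≫
      (ModLimH13.cmp (D.map α) (D.map φ) (D.map_comp α φ).symm).app G₀⟩⟩
  · rintro ⟨j, φ, ⟨e⟩⟩
    exact ⟨((ModLimH13.cmp (c.π.app j) (D.map φ) (c.w φ)).app F₀).symm ≪≫
      (Scheme.Modules.pullback (c.π.app j)).mapIso e ≪≫
      (ModLimH13.cmp (c.π.app j) (D.map φ) (c.w φ)).app G₀⟩

end Groth.Agent.S4790
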