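import Groth.Statements.S4791
import Groth.Agent.Lib.ModLimH13.LocFree

set_option autoImplicit false
universe u
open CategoryTheory AlgebraicGeometry
open Lim8

namespace Groth.Agent.S4791

/-- Let S = lim S_i be a cofiltered limit of schemes with affine transition maps, S_{i₀} a quasi-compact
stage and F₀ a quasi-coherent O-module of finite presentation on S_{i₀}. Then the pullback of F₀
along S ⟶ S_{i₀} is (finite) locally free if and only if, for some index j over i₀, the pullback of
F₀ along S_j ⟶ S_{i₀} is locally free. This is the case of locally free modules. -/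
theorem result {I : Type u} [SmallCategory I] [IsCofiltered I]
    (D : I ⥤ Scheme.{u}) (c : Limits.Cone D) (hc : Limits.IsLimit c)
    [∀ (i j : I) (f : i ⟶ j), IsAffineHom (D.map f)] (i₀ : I) [CompactSpace (D.obj i₀)]
    (F₀ : (D.obj i₀).Modules) [Coh.IsQCoh F₀] (hF₀fp : CohB1.IsFP F₀) :
    FlatMod.IsFinLocFree ((Scheme.Modules.pullback (c.π.app i₀)).obj F₀) ↔
      ∃ (j : I) (φ : j ⟶ i₀), FlatMod.IsFinLocFree ((Scheme.Modules.pullback (D.map φ)).obj F₀) := by
  exact ModLimH13.isFinLocFree_iff_eventually hc hF₀fp

end Groth.Agent.S4791
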