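import Groth.Statements.S4795
import Groth.Agent.Lib.LimH13.Iso

set_option autoImplicit false
universe u
open CategoryTheory AlgebraicGeometry
open Lim8

namespace Groth.Agent.S4795

/-- Let S = lim S_i be a cofiltered limit of schemes with affine transition maps and S_{i₀} a
quasi-compact quasi-separated stage; let X₀ and Y₀ be schemes of finite presentation over S_{i₀},
and let X, Y be their base changes along S ⟶ S_{i₀} (base changes are expressed by pullback
squares). Then X and Y are isomorphic over S if and only if, for some index j over i₀, the base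
changes X_j and Y_j of X₀ and Y₀ along S_j ⟶ S_{i₀} are isomorphic over S_j. -/
theorem result {I : Type u} [SmallCategory I] [IsCofiltered I]
    (D : I ⥤ Scheme.{u}) (c : Limits.Cone D) (hc : Limits.IsLimit c)
    [∀ (i j : I) (f : i ⟶ j), IsAffineHom (D.map f)] (i₀ : I)
    [CompactSpace (D.obj i₀)] [QuasiSeparatedSpace (D.obj i₀)]
    {X₀ Y₀ : Scheme.{u}} (a₀ : X₀ ⟶ D.obj i₀) (b₀ : Y₀ ⟶ D.obj i₀)
    [LocallyOfFinitePresentation a₀] [QuasiCompact a₀] [QuasiSeparated a₀]
    [LocallyOfFinitePresentation b₀] [QuasiCompact b₀] [QuasiSeparated b₀]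
    {X Y : Scheme.{u}} (a : X ⟶ c.pt) (b : Y ⟶ c.pt) (qX : X ⟶ X₀) (qY : Y ⟶ Y₀)
    (hX : IsPullback qX a a₀ (c.π.app i₀)) (hY : IsPullback qY b b₀ (c.π.app i₀)) :
    (∃ e : X ≅ Y, e.hom ≫ b = a) ↔
      ∃ (j : I) (φ : j ⟶ i₀) (Xj Yj : Scheme.{u}) (aj : Xj ⟶ D.obj j) (bj : Yj ⟶ D.obj j)
        (pX : Xj ⟶ X₀) (pY : Yj ⟶ Y₀), IsPullback pX aj a₀ (D.map φ) ∧ IsPullback pY bj b₀ (D.map φ) ∧
        ∃ e : Xj ≅ Yj, e.hom ≫ bj = aj := by
  haveI : ∀ {i j : I} (f : i ⟶ j), IsAffineHom (D.map f) := fun f => inferInstance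
  haveI : CompactSpace X₀ := Descend.compactSpace_stage a₀
  haveI : QuasiSeparatedSpace X₀ := Descend.quasiSeparatedSpace_stage a₀
  constructor
  · rintro ⟨e, he⟩
    obtain ⟨j, φ, fj, sX, sY, hfj, hX1, hX2, hY1, hY2, hsq⟩ :=
      LimH13.exists_hom_descend hc i₀ a₀ b₀ qX a hX qY b hY e.hom he
    haveI : CompactSpace (D.obj j) := QuasiCompact.compactSpace_of_compactSpace (D.map φ)
    haveI : QuasiSeparatedSpace (D.obj j) := quasiSeparatedSpace_of_quasiSeparated (D.map φ)
    have hYj : IsPullback sY b (Limits.pullback.snd b₀ (D.map φ)) (c.π.app j) := by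
      refine IsPullback.of_right ?_ hY2 (IsPullback.of_hasPullback b₀ (D.map φ))
      rw [hY1, c.w]
      exact hY
    have hXj : IsPullback sX a (Limits.pullback.snd a₀ (D.map φ)) (c.π.app j) := by
      refine IsPullback.of_right ?_ hX2 (IsPullback.of_hasPullback a₀ (D.map φ))
      rw [hX1, c.w]
      exact hX
    have hfsq : IsPullback sX e.hom fj sY := by
      refine IsPullback.of_bot ?_ hsq hYj
      rw [hfj, he]
      exact hXj
    haveI : LocallyOfFinitePresentation (fj ≫ Limits.pullback.snd b₀ (D.map φ)) := by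
      rw [hfj]; infer_instance
    haveI : QuasiCompact (fj ≫ Limits.pullback.snd b₀ (D.map φ)) := by
      rw [hfj]; infer_instance
    haveI : QuasiSeparated (fj ≫ Limits.pullback.snd b₀ (D.map φ)) := by
      rw [hfj]; infer_instance
    haveI : CompactSpace ↥(Limits.pullback b₀ (D.map φ)) :=
      Descend.compactSpace_stage (Limits.pullback.snd b₀ (D.map φ))
    haveI : QuasiCompact fj := QuasiCompact.of_comp fj (Limits.pullback.snd b₀ (D.map φ))
    haveI : QuasiSeparated fj := QuasiSeparated.of_comp fj (Limits.pullback.snd b₀ (D.map φ))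
    haveI : LocallyOfFinitePresentation fj :=
      SchBasic.locallyOfFinitePresentation_of_comp fj (Limits.pullback.snd b₀ (D.map φ))
    obtain ⟨k, ψ, Xk, Yk, fk, gk, pY, pX, hYk, hXk, hfk⟩ :=
      Descend.exists_stage (MorphismProperty.isomorphisms Scheme.{u})
        (MorphismProperty.isomorphisms Scheme.{u}) hc fj (Limits.pullback.snd b₀ (D.map φ))
        e.hom b sY sX hYj hfsq (inferInstanceAs (IsIso e.hom)) fun E t e' _ q P p r he' hq hP hr => by
          have : IsIso r := hr
          exact LimH13.exists_isIso (f := fj) he' hq hP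
    haveI : IsIso fk := hfk
    refine ⟨k, ψ ≫ φ, Xk, Yk, fk ≫ gk, gk, pX ≫ Limits.pullback.fst a₀ (D.map φ),
      pY ≫ Limits.pullback.fst b₀ (D.map φ), ?_, ?_, asIso fk, rfl⟩
    · rw [D.map_comp]
      refine IsPullback.paste_horiz ?_ (IsPullback.of_hasPullback a₀ (D.map φ))
      rw [← hfj]
      exact hXk.paste_vert hYk
    · rw [D.map_comp]
      exact hYk.paste_horiz (IsPullback.of_hasPullback b₀ (D.map φ))
  · rintro ⟨j, φ, Xj, Yj, aj, bj, pX, pY, hXj, hYj, e, he⟩
    have h1 : qX ≫ a₀ = (a ≫ c.π.app j) ≫ D.map φ := by rw [Category.assoc, c.w, hX.w]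
    have h2 : qY ≫ b₀ = (b ≫ c.π.app j) ≫ D.map φ := by rw [Category.assoc, c.w, hY.w]
    have hX' : IsPullback (hXj.lift qX _ h1) a aj (c.π.app j) := by
      refine IsPullback.of_right ?_ (hXj.lift_snd _ _ h1) hXj
      rw [hXj.lift_fst, c.w]
      exact hX
    have hY' : IsPullback (hYj.lift qY _ h2) b bj (c.π.app j) := by
      refine IsPullback.of_right ?_ (hYj.lift_snd _ _ h2) hYj
      rw [hYj.lift_fst, c.w]
      exact hY
    have h3 : (hXj.lift qX _ h1 ≫ e.hom) ≫ bj = a ≫ c.π.app j := by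
      rw [Category.assoc, he]; exact hX'.w
    have h4 : (hYj.lift qY _ h2 ≫ e.inv) ≫ aj = b ≫ c.π.app j := by
      rw [Category.assoc, ← he, e.inv_hom_id_assoc]; exact hY'.w
    refine ⟨⟨hY'.lift _ _ h3, hX'.lift _ _ h4, ?_, ?_⟩, hY'.lift_snd _ _ h3⟩
    · apply hX'.hom_ext
      · simp
      · simp
    · apply hY'.hom_ext
      · simp
      · simp

end Groth.Agent.S4795
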