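import Groth.Statements.S4796
import Groth.Agent.Lib.Cons12.ExactModel
-- import your own Groth.Agent.* helpers here

set_option autoImplicit false
set_option backward.isDefEq.respectTransparency false
universe u
open TensorProduct
open Cons9

set_option maxHeartbeats 800000
open TensorProduct
namespace Groth.Agent.S4796

/-- Exactness passes through surjections covering a sequence. -/
theorem exact_iff_of_ladder {k : Type*} [CommRing k] {A Y Z F G H : Type*} [AddCommGroup A] [Module k A]
    [AddCommGroup Y] [Module k Y] [AddCommGroup Z] [Module k Z] [AddCommGroup F] [Module k F]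
    [AddCommGroup G] [Module k G] [AddCommGroup H] [Module k H]
    (φ : A →ₗ[k] Y) (ψ : Y →ₗ[k] Z) (u : F →ₗ[k] G) (v : G →ₗ[k] H) (π : Y →ₗ[k] G) (ρ : A →ₗ[k] F)
    (e : Z →ₗ[k] H) (h1 : ∀ x, π (φ x) = u (ρ x)) (h2 : ∀ y, e (ψ y) = v (π y)) (hπ : Function.Surjective π)
    (hρ : Function.Surjective ρ) (he : Function.Injective e) (hker : ∀ y, π y = 0 → ∃ x, φ x = y) :
    Function.Exact φ ψ ↔ Function.Exact u v := by
  have key : ∀ y, ψ y = 0 ↔ v (π y) = 0 := fun y => by
    rw [← h2]; exact (map_eq_zero_iff e he).symm
  constructor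
  · intro h z
    obtain ⟨y, rfl⟩ := hπ z
    rw [← key, h y]
    constructor
    · rintro ⟨x, rfl⟩; exact ⟨ρ x, (h1 x).symm⟩
    · rintro ⟨z, hz⟩
      obtain ⟨x, rfl⟩ := hρ z
      obtain ⟨x', hx'⟩ := hker (y - φ x) (by rw [map_sub, h1, hz, sub_self])
      exact ⟨x + x', by rw [map_add, hx', add_sub_cancel]⟩
  · intro h y
    rw [key, h (π y)]
    constructor
    · rintro ⟨z, hz⟩
      obtain ⟨x, rfl⟩ := hρ z
      obtain ⟨x', hx'⟩ := hker (y - φ x) (by rw [map_sub, h1, hz, sub_self])
      exact ⟨x + x', by rw [map_add, hx', add_sub_cancel]⟩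
    · rintro ⟨x, rfl⟩; exact ⟨ρ x, (h1 x).symm⟩


/-- The ladder after base change, for maps over a bigger ring. -/
theorem exact_baseChange_iff {R P : Type u} [CommRing R] [CommRing P] {A Y Z F G H Q : Type u}
    [AddCommGroup A] [Module R A] [Module P A] [AddCommGroup Y] [Module R Y] [Module P Y] [AddCommGroup Z] [Module R Z] [Module P Z]
    [AddCommGroup F] [Module R F] [Module P F] [AddCommGroup G] [Module R G] [Module P G] [AddCommGroup H] [Module R H] [Module P H]
    [AddCommGroup Q] [Module R Q] [Module P Q]
    [Algebra R P] [IsScalarTower R P A] [IsScalarTower R P Y] [IsScalarTower R P Z] [IsScalarTower R P F]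
    [IsScalarTower R P G] [IsScalarTower R P H] [IsScalarTower R P Q]
    (φ : A →ₗ[P] Y) (ψ : Y →ₗ[P] Z) (u : F →ₗ[R] G) (v : G →ₗ[R] H) (π : Y →ₗ[P] G) (ρ : A →ₗ[P] F)
    (e : Z ≃ₗ[P] H) (γ : Q →ₗ[P] Y) (j : Q →ₗ[P] A)
    (h1 : ∀ x, π (φ x) = u (ρ x)) (h2 : ∀ y, e (ψ y) = v (π y)) (hπ : Function.Surjective π)
    (hρ : Function.Surjective ρ) (hex : Function.Exact γ π) (hj : ∀ w, φ (j w) = γ w)
    (κ : Type u) [CommRing κ] [Algebra R κ] :
    Function.Exact ((φ.restrictScalars R).baseChange κ) ((ψ.restrictScalars R).baseChange κ) ↔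
      Function.Exact (u.baseChange κ) (v.baseChange κ) := by
  refine exact_iff_of_ladder (k := κ) _ _ _ _ ((π.restrictScalars R).baseChange κ) ((ρ.restrictScalars R).baseChange κ)
    ((e.restrictScalars R).baseChange R κ _ _).toLinearMap ?_ ?_ ?_ ?_ ?_ ?_
  · intro x
    induction x using TensorProduct.induction_on with
    | zero => simp
    | add x y hx hy => simp only [map_add, hx, hy]
    | tmul s a => simp [h1]
  · intro x
    induction x using TensorProduct.induction_on with
    | zero => simp
    | add x y hx hy => simp only [map_add, hx, hy]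
    | tmul s a => simp [h2]
  · exact LinearMap.lTensor_surjective κ (g := π.restrictScalars R) hπ
  · exact LinearMap.lTensor_surjective κ (g := ρ.restrictScalars R) hρ
  · exact LinearEquiv.injective _
  · intro y hy
    obtain ⟨w, rfl⟩ := (lTensor_exact κ (f := γ.restrictScalars R) (g := π.restrictScalars R) hex hπ y).1 hy
    refine ⟨(j.restrictScalars R).baseChange κ w, ?_⟩
    clear hy
    induction w using TensorProduct.induction_on with
    | zero => simp
    | tmul s a => simp [hj]
    | add w₁ w₂ e₁ e₂ => rw [map_add, map_add, map_add, e₁, e₂]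

/-- Let R be a commutative ring, B an R-algebra of finite presentation, F, G, H three B-modules of
finite presentation and u : F → G, v : G → H homomorphisms of B-modules. Then the set of prime
ideals p of R for which the sequence of fibres κ(p) ⊗_R F → κ(p) ⊗_R G → κ(p) ⊗_R H is exact is a
constructible subset of Spec R. Affine form: S = Spec R, X = Spec B with B a finitely presented
R-algebra, the modules finitely presented B-modules, and the fibre of a module M at a prime p taken
as κ(p) ⊗_R M; the published statement, for a morphism of finite presentation and quasi-coherent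
modules of finite presentation, is local on S and on X and reduces to this one. -/
theorem result {R B : Type u} [CommRing R] [CommRing B] [Algebra R B] [Algebra.FinitePresentation R B]
    {F G H : Type u} [AddCommGroup F] [Module B F] [Module R F] [IsScalarTower R B F] [Module.FinitePresentation B F]
    [AddCommGroup G] [Module B G] [Module R G] [IsScalarTower R B G] [Module.FinitePresentation B G]
    [AddCommGroup H] [Module B H] [Module R H] [IsScalarTower R B H] [Module.FinitePresentation B H]
    (u : F →ₗ[B] G) (v : G →ₗ[B] H) :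
    Topology.IsConstructible {p : PrimeSpectrum R |
      Function.Exact ((u.restrictScalars R).baseChange p.asIdeal.ResidueField) ((v.restrictScalars R).baseChange p.asIdeal.ResidueField)} := by
  classical
  obtain ⟨n, φ, hφ, hker⟩ := Algebra.FinitePresentation.out (R := R) (A := B)
  let P := MvPolynomial (Fin n) R
  letI : Algebra P B := φ.toRingHom.toAlgebra
  haveI : IsScalarTower R P B := IsScalarTower.of_algebraMap_eq fun r => (φ.commutes r).symm
  letI : Module P F := Module.compHom F φ.toRingHom
  letI : Module P G := Module.compHom G φ.toRingHom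
  letI : Module P H := Module.compHom H φ.toRingHom
  haveI : IsScalarTower P B F := IsScalarTower.of_algebraMap_smul fun _ _ => rfl
  haveI : IsScalarTower P B G := IsScalarTower.of_algebraMap_smul fun _ _ => rfl
  haveI : IsScalarTower P B H := IsScalarTower.of_algebraMap_smul fun _ _ => rfl
  haveI : IsScalarTower R P F := IsScalarTower.of_algebraMap_smul fun r x => by
    show φ (algebraMap R P r) • x = r • x
    rw [φ.commutes, algebraMap_smul]
  haveI : IsScalarTower R P G := IsScalarTower.of_algebraMap_smul fun r x => by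
    show φ (algebraMap R P r) • x = r • x
    rw [φ.commutes, algebraMap_smul]
  haveI : IsScalarTower R P H := IsScalarTower.of_algebraMap_smul fun r x => by
    show φ (algebraMap R P r) • x = r • x
    rw [φ.commutes, algebraMap_smul]
  haveI : Module.FinitePresentation P B :=
    Module.finitePresentation_of_surjective (Algebra.linearMap P B) hφ hker
  haveI : Module.FinitePresentation P F := Module.FinitePresentation.trans P F B
  haveI : Module.FinitePresentation P G := Module.FinitePresentation.trans P G B
  haveI : Module.FinitePresentation P H := Module.FinitePresentation.trans P H B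
  obtain ⟨a₀, -, πF, -, hπF, -⟩ := Module.FinitePresentation.exists_fin' P F
  obtain ⟨b, g, πG, γ, hπG, hγ⟩ := Module.FinitePresentation.exists_fin' P G
  obtain ⟨c, d, πH, α, hπH, hα⟩ := Module.FinitePresentation.exists_fin' P H
  obtain ⟨U, hU⟩ := Module.projective_lifting_property πG ((u.restrictScalars P) ∘ₗ πF) hπG
  obtain ⟨V, hV⟩ := Module.projective_lifting_property πH ((v.restrictScalars P) ∘ₗ πG) hπH
  let fst : (Fin (a₀ + g) → P) →ₗ[P] (Fin a₀ → P) := LinearMap.funLeft P P (Fin.castAdd g)
  let snd : (Fin (a₀ + g) → P) →ₗ[P] (Fin g → P) := LinearMap.funLeft P P (Fin.natAdd a₀)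
  let φ₀ : (Fin (a₀ + g) → P) →ₗ[P] (Fin b → P) := U ∘ₗ fst + γ ∘ₗ snd
  let ρ := πF ∘ₗ fst
  let j : (Fin g → P) →ₗ[P] (Fin (a₀ + g) → P) :=
    { toFun := fun x => Fin.append 0 x
      map_add' := fun x y => by funext i; refine Fin.addCases (fun k => ?_) (fun k => ?_) i <;> simp
      map_smul' := fun r x => by funext i; refine Fin.addCases (fun k => ?_) (fun k => ?_) i <;> simp }
  have hρ : Function.Surjective ρ := fun y => by
    obtain ⟨x, rfl⟩ := hπF y
    exact ⟨Fin.append x 0, congrArg πF (funext fun k => by simp [fst, LinearMap.funLeft_apply])⟩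
  have hπφ : πG ∘ₗ φ₀ = (u.restrictScalars P) ∘ₗ ρ := by
    refine LinearMap.ext fun x => ?_
    have h2 : πG (γ (snd x)) = 0 := hγ.apply_apply_eq_zero _
    have h3 : πG (U (fst x)) = u (πF (fst x)) := LinearMap.congr_fun hU (fst x)
    simp [φ₀, ρ, h2, h3]
  have hj : φ₀ ∘ₗ j = γ := by
    refine LinearMap.ext fun x => ?_
    have h1 : fst (j x) = 0 := funext fun k => by simp [fst, j, LinearMap.funLeft_apply]
    have h2 : snd (j x) = x := funext fun k => by simp [snd, j, LinearMap.funLeft_apply]
    simp [φ₀, h1, h2]
  let Φm := LinearMap.toMatrix' φ₀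
  let Vm := LinearMap.toMatrix' V
  let Am := LinearMap.toMatrix' α
  have eΦ : Φm.mulVecLin = φ₀ := by rw [← Matrix.toLin'_apply']; exact Matrix.toLin'_toMatrix' φ₀
  have eV : Vm.mulVecLin = V := by rw [← Matrix.toLin'_apply']; exact Matrix.toLin'_toMatrix' V
  have eA : Am.mulVecLin = α := by rw [← Matrix.toLin'_apply']; exact Matrix.toLin'_toMatrix' α
  have hkerH : LinearMap.range Am.mulVecLin = LinearMap.ker πH := by rw [eA]; exact (LinearMap.exact_iff.1 hα).symm
  let e : Groth.Agent.Cons12.Hmod Am ≃ₗ[P] H :=
    (Submodule.quotEquivOfEq _ _ hkerH).trans (πH.quotKerEquivOfSurjective hπH)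
  have hψ : e.toLinearMap ∘ₗ Groth.Agent.Cons12.psi Vm Am = (v.restrictScalars P) ∘ₗ πG := by
    refine LinearMap.ext fun x => ?_
    show e (Submodule.Quotient.mk (Vm.mulVecLin x)) = _
    rw [eV]
    exact LinearMap.congr_fun hV x
  refine (congrArg Topology.IsConstructible (Set.ext fun p => ?_)).mp
    (Groth.Agent.Cons12.isConstructible_exactLocus Φm Vm Am)
  refine (Groth.Agent.Cons12.fibExact_iff p.asIdeal.ResidueField Φm Vm Am).symm.trans ?_
  rw [eΦ]
  exact exact_baseChange_iff φ₀ (Groth.Agent.Cons12.psi Vm Am) (u.restrictScalars R) (v.restrictScalars R) πG ρ e γ j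
    (fun x => LinearMap.congr_fun hπφ x) (fun x => LinearMap.congr_fun hψ x) hπG hρ hγ (fun w => LinearMap.congr_fun hj w)
    p.asIdeal.ResidueField

end Groth.Agent.S4796
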