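import Groth.Statements.S4797
import Groth.Agent.Lib.ModLimH13.Hom1

set_option autoImplicit false
universe u
open CategoryTheory AlgebraicGeometry
open Lim8

namespace Groth.Agent.S4797

/-- Let S = lim S_i be a cofiltered limit of schemes with affine transition maps and S_{i₀} a
quasi-compact stage; let F₀ be a quasi-coherent O-module of finite type and G₀ a quasi-coherent
O-module on S_{i₀}, and φ₀, ψ₀ : F₀ ⟶ G₀ two homomorphisms. Then the pullbacks of φ₀ and ψ₀ along S
⟶ S_{i₀} are equal if and only if, for some index j over i₀, their pullbacks along S_j ⟶ S_{i₀} are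
equal. This is the injectivity of the canonical map colim Hom(F_λ, G_λ) → Hom(F, G). -/
theorem result {I : Type u} [SmallCategory I] [IsCofiltered I]
    (D : I ⥤ Scheme.{u}) (c : Limits.Cone D) (hc : Limits.IsLimit c)
    [∀ (i j : I) (f : i ⟶ j), IsAffineHom (D.map f)] (i₀ : I) [CompactSpace (D.obj i₀)]
    {F₀ G₀ : (D.obj i₀).Modules} [Coh.IsQCoh F₀] (hF₀ft : CohB1.IsFT F₀) [Coh.IsQCoh G₀]
    (φ₀ ψ₀ : F₀ ⟶ G₀) :
    (Scheme.Modules.pullback (c.π.app i₀)).map φ₀ = (Scheme.Modules.pullback (c.π.app i₀)).map ψ₀ ↔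
      ∃ (j : I) (φ : j ⟶ i₀),
        (Scheme.Modules.pullback (D.map φ)).map φ₀ = (Scheme.Modules.pullback (D.map φ)).map ψ₀ := by
  refine ⟨fun h => ModLimH13.exists_map_eq hc hF₀ft φ₀ ψ₀ h, ?_⟩
  rintro ⟨j, φ, h⟩
  exact ModLimH13.map_pullback_eq_of_comp (c.π.app j) (D.map φ) (c.w φ) φ₀ ψ₀ h

end Groth.Agent.S4797
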